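import Mathlib
import Groth.Agent.Lib.Helper12JHA
import Groth.Agent.Lib.Helper12SubQuotB
import Groth.Agent.S0045
set_option backward.isDefEq.respectTransparency.types false

/-!
# The maximal destabilising submodule: existence (helper12)
-/

set_option autoImplicit false
set_option linter.style.haveILetI false
set_option linter.unusedSectionVars false
set_option linter.unusedVariables false
universe u
open CategoryTheory CategoryTheory.Limits AlgebraicGeometry TopologicalSpace Opposite Polynomial

namespace Groth.Agent.Lib.Helper12.MDA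

open Groth.Agent.Lib.Helper4.Dev Groth.Agent.Lib.Helper4.CurveChi
  Groth.Agent.Lib.Helper12.Snap Groth.Agent.Lib.Helper12.Pos Groth.Agent.Lib.Helper12.HP
  Groth.Agent.Lib.Helper12.HPB Groth.Agent.Lib.Helper12.HPC Groth.Agent.Lib.Helper12.HPD
  Groth.Agent.Lib.Helper12.HPE Groth.Agent.Lib.Helper12.HPF Groth.Agent.Lib.Helper12.SubQ
  Groth.Agent.Lib.Helper12.SubQB Groth.Agent.Lib.Helper12.JHA StabCat

/-- the key inequality for sums and intersections -/
theorem claimA {d : ℕ} {A H I S : ℚ[X]} (hadd : A + H = I + S) (ha : 0 < alpha d A) (hh : 0 < alpha d H)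
    (hile : alpha d I ≤ alpha d H) (hSA : RedLT d S A) (hAH : RedLE d A H) : RedLT d H I := by
  unfold RedLT RedLE at *
  refine polyLT_of_forall₂_le_lt hAH hSA fun x h1 h2 => ?_
  simp only [eval_smul, smul_eq_mul] at h1 h2 ⊢
  have hS : alpha d S = alpha d A + alpha d H - alpha d I := by
    have := congrArg (alpha d) hadd
    rw [alpha_add, alpha_add] at this
    linarith
  have hI : I.eval x = A.eval x + H.eval x - S.eval x := by
    have := congrArg (fun P => P.eval x) hadd
    simp only [eval_add] at this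
    linarith
  rw [hS] at h2
  rw [hI]
  have key : alpha d A * (alpha d H * (A.eval x + H.eval x - S.eval x) - alpha d I * H.eval x)
      = alpha d H * ((alpha d A + alpha d H - alpha d I) * A.eval x - alpha d A * S.eval x)
        + (alpha d H - alpha d I) * (alpha d A * H.eval x - alpha d H * A.eval x) := by ring
  have h3 : 0 < alpha d H * ((alpha d A + alpha d H - alpha d I) * A.eval x - alpha d A * S.eval x) :=
    mul_pos hh (by linarith)
  have h4 : 0 ≤ (alpha d H - alpha d I) * (alpha d A * H.eval x - alpha d H * A.eval x) :=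
    mul_nonneg (by linarith) (by linarith)
  have h5 : 0 < alpha d A * (alpha d H * (A.eval x + H.eval x - S.eval x) - alpha d I * H.eval x) := by
    rw [key]; linarith
  have h6 := pos_of_mul_pos_right h5 ha.le
  linarith

variable (k : Type u) [Field k] (X : Scheme.{u}) [X.Over (Spec (CommRingCat.of k))]
  [IsProper (X ↘ (Spec (CommRingCat.of k)))] (L : X.Modules) (hL : CohB1.IsAmple L) (d : ℕ)

include hL in
/-- Hilbert polynomials of the sum and the intersection of two coherent submodules -/
theorem sum_inter_hilbPoly {E A H : X.Modules} (hE : Coh.IsCoh E) (hA : Coh.IsCoh A) (hH : Coh.IsCoh H)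
    (a : A ⟶ E) (h : H ⟶ E) {pA pH : ℚ[X]} (hpA : ShStab.IsHilbPoly k X L A pA)
    (hpH : ShStab.IsHilbPoly k X L H pH) :
    Coh.IsCoh (sumObj a h) ∧ Coh.IsCoh (interObj a h) ∧ ∃ pI pS : ℚ[X],
      ShStab.IsHilbPoly k X L (interObj a h) pI ∧ ShStab.IsHilbPoly k X L (sumObj a h) pS ∧
      pA + pH = pI + pS := by
  haveI : IsNoetherian X := Groth.Agent.Lib.Helper4.CurveRR.isNoetherian_of_proper k X
  haveI : IsLocallyNoetherian X := inferInstance
  have hAH : Coh.IsCoh (A ⊞ H) :=
    Groth.Agent.Lib.Helper4.CohThick.isCoh_of_shortExact (biprodSES A H) (biprodSES_shortExact A H) hA hH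
  have hS : Coh.IsCoh (sumObj a h) := isCoh_image (biprod.desc a (-h)) hAH hE
  have hI : Coh.IsCoh (interObj a h) := isCoh_kernel (sumπ a h) hAH hS
  have hpAH : ShStab.IsHilbPoly k X L (A ⊞ H) (pA + pH) :=
    hilbPoly_add k X L hL.1 (biprodSES A H) (biprodSES_shortExact A H) hA hAH hH hpA hpH
  obtain ⟨pI, hpI⟩ := exists_hilbPoly k X L hL.1 _ hI
  obtain ⟨pS, hpS⟩ := exists_hilbPoly k X L hL.1 _ hS
  exact ⟨hS, hI, pI, pS, hpI, hpS, hilbPoly_eq_add_of_epi k X L hL hAH (sumπ a h) hS hpI hpAH hpS⟩

theorem wellFoundedGT_qcoh [IsNoetherian X] (E : X.Modules) (hE : Coh.IsCoh E) :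
    WellFoundedGT {A : Subobject E // Coh.IsQCoh ((A : Subobject E) : X.Modules)} := by
  rw [wellFoundedGT_iff_monotone_chain_condition]
  intro a
  obtain ⟨n, hn⟩ := Groth.Agent.S0045.result X E hE ⟨fun i => (a i).1, fun i j hij => a.monotone hij⟩
    (fun i => (a i).2)
  exact ⟨n, fun m hm => Subtype.ext (hn m hm).symm⟩

/-- maximal elements among quasi-coherent subobjects of a coherent module -/
theorem exists_maximal_sub [IsNoetherian X] (E : X.Modules) (hE : Coh.IsCoh E) (P : Subobject E → Prop)
    (hP : ∀ A, P A → Coh.IsQCoh ((A : Subobject E) : X.Modules)) (A₀ : Subobject E) (h₀ : P A₀) :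
    ∃ A, P A ∧ A₀ ≤ A ∧ ∀ B, P B → A ≤ B → B = A := by
  haveI := wellFoundedGT_qcoh X E hE
  let s : Set {A : Subobject E // Coh.IsQCoh ((A : Subobject E) : X.Modules)} := {A | P A.1 ∧ A₀ ≤ A.1}
  obtain ⟨A, hA, hmin⟩ := WellFounded.has_min (wellFounded_gt) s ⟨⟨A₀, hP A₀ h₀⟩, h₀, le_rfl⟩
  refine ⟨A.1, hA.1, hA.2, fun B hB hAB => ?_⟩
  have h1 := hmin ⟨B, hP B hB⟩ ⟨hB, hA.2.trans hAB⟩
  have h2 : A ≤ (⟨B, hP B hB⟩ : {A : Subobject E // Coh.IsQCoh ((A : Subobject E) : X.Modules)}) := hAB
  have h3 := eq_of_le_of_not_lt h2 h1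
  exact (congrArg Subtype.val h3).symm

include hL in
/-- a semistable sheaf is its own maximal destabilising submodule -/
theorem maxDestab_of_isSemistable {E : X.Modules} (hE : ShStab.IsSemistable k X L E d) :
    ShStab.IsMaxDestab k X L E d E (𝟙 E) := by
  refine ⟨inferInstance, hE.1, hE.2.1, ?_⟩
  intro G κ hκ hG hG0 pF pG hpF hpG
  haveI := hκ
  exact ⟨sub_le k X L hL d hE κ hG hpG hpF, fun _ => ⟨κ, Category.comp_id κ⟩⟩

include hL in
theorem exists_maxDestab_aux : ∀ (N : ℕ) (E : X.Modules), Coh.IsCoh E → ¬ IsZero E → ShStab.IsPure X E d →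
    (∀ pE : ℚ[X], ShStab.IsHilbPoly k X L E pE → alpha d pE ≤ (N : ℚ)) →
    ∃ (F : X.Modules) (ι : F ⟶ E), ShStab.IsMaxDestab k X L E d F ι := by
  haveI : IsNoetherian X := Groth.Agent.Lib.Helper4.CurveRR.isNoetherian_of_proper k X
  haveI : IsLocallyNoetherian X := inferInstance
  intro N
  induction N with
  | zero =>
    intro E hE hE0 hp hN
    exfalso
    obtain ⟨pE, hpE⟩ := exists_hilbPoly k X L hL.1 E hE
    have := alpha_pos k X L hL E hE d (dim_eq_of_isPure hp hE hE0) hpE
    have := hN pE hpE
    simp only [Nat.cast_zero] at this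
    linarith
  | succ N ih =>
    intro E hE hE0 hp hN
    obtain ⟨pE, hpE⟩ := exists_hilbPoly k X L hL.1 E hE
    have hdimE := dim_eq_of_isPure hp hE hE0
    have haE := alpha_pos k X L hL E hE d hdimE hpE
    -- positivity of multiplicities of nonzero coherent submodules
    have hpos : ∀ (G : X.Modules) (κ : G ⟶ E), Mono κ → Coh.IsCoh G → ¬ IsZero G → ∀ pG : ℚ[X],
        ShStab.IsHilbPoly k X L G pG → 0 < alpha d pG := fun G κ hκ hG hG0 pG hpG =>
      alpha_pos k X L hL G hG d (hp G κ hκ hG hG0) hpG
    have hnn : ∀ (G : X.Modules) (κ : G ⟶ E), Mono κ → Coh.IsCoh G → ∀ pG : ℚ[X],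
        ShStab.IsHilbPoly k X L G pG → 0 ≤ alpha d pG := fun G κ hκ hG pG hpG =>
      haveI := hκ
      alpha_nonneg k X L hL G hG d ((dim_le_of_mono κ).trans hdimE.le) hpG
    by_cases hss : IsSS Coh.IsCoh (ShStab.IsHilbPoly k X L) d E
    · exact ⟨E, 𝟙 E, maxDestab_of_isSemistable k X L hL d ⟨hE, hE0, hp, hss⟩⟩
    · unfold IsSS at hss
      push_neg at hss
      obtain ⟨G, κ, hκ, hG, hG0, hκi, pG, pE', hpG, hpE', hnle⟩ := hss
      haveI := hκ
      have := hilbPoly_unique k X hpE' hpE
      subst this
      have hlt : RedLT d pE' pG := redLT_of_not_redLE hnle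
      have haG := hpos G κ hκ hG hG0 pG hpG
      -- a maximal coherent submodule containing `G` with reduced Hilbert polynomial at least that of `G`
      let P : Subobject E → Prop := fun A => Coh.IsCoh ((A : Subobject E) : X.Modules) ∧
        ∀ pA : ℚ[X], ShStab.IsHilbPoly k X L ((A : Subobject E) : X.Modules) pA → RedLE d pG pA
      have hP0 : P (Subobject.mk κ) := by
        refine ⟨isCoh_of_iso (Subobject.underlyingIso κ).symm hG, fun pA hpA => ?_⟩
        have := hilbPoly_unique k X (hilbPoly_of_iso k X L hL.1 (Subobject.underlyingIso κ) hpA) hpG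
        rw [this]
        exact redLE_refl d pG
      obtain ⟨A, hPA, hGA, hAmax⟩ := exists_maximal_sub X E hE P (fun A hA => hA.1.1) _ hP0
      have hA : Coh.IsCoh ((A : Subobject E) : X.Modules) := hPA.1
      obtain ⟨pA, hpA⟩ := exists_hilbPoly k X L hL.1 _ hA
      have hGAle : RedLE d pG pA := hPA.2 pA hpA
      have hA0 : ¬ IsZero ((A : Subobject E) : X.Modules) := by
        intro h0
        haveI : Mono (Subobject.ofMkLE κ A hGA) := mono_of_mono_fac (Subobject.ofMkLE_arrow hGA)
        exact hG0 (IsZero.of_mono (Subobject.ofMkLE κ A hGA) h0)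
      have haA := hpos _ A.arrow inferInstance hA hA0 pA hpA
      have hEA : RedLT d pE' pA := redLT_of_redLT_of_redLE haG haE.le haA hlt hGAle
      have hAi : ¬ IsIso A.arrow := by
        intro hi
        haveI := hi
        have := hilbPoly_unique k X (hilbPoly_of_iso k X L hL.1 (asIso A.arrow) hpA) hpE
        rw [this] at hEA
        exact not_redLT_self d pE' hEA
      -- the multiplicity of `A` is smaller
      have hQ : Coh.IsCoh (cokernel A.arrow) := isCoh_cokernel A.arrow hA hE
      have hQ0 : ¬ IsZero (cokernel A.arrow) := fun h => hAi (by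
        haveI : Epi A.arrow := Preadditive.epi_of_isZero_cokernel A.arrow h
        exact isIso_of_mono_of_epi A.arrow)
      obtain ⟨pQ, hpQ⟩ := exists_hilbPoly k X L hL.1 _ hQ
      have hadd := hilbPoly_eq_add_of_mono k X L hL hA A.arrow hE hpA hpE hpQ
      have hdQ : topologicalKrullDim ↥(CohB1.support (cokernel A.arrow)) ≤ (d : WithBot ℕ∞) :=
        (dim_le_of_epi (cokernel.π A.arrow)).trans hdimE.le
      have haQ : 0 ≤ alpha d pQ := alpha_nonneg k X L hL _ hQ d hdQ hpQ
      have haadd : alpha d pE' = alpha d pA + alpha d pQ := by rw [hadd, alpha_add]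
      have haQpos : 0 < alpha d pQ := by
        rcases haQ.lt_or_eq with h | h
        · exact h
        · exfalso
          have h1 : alpha d pE' = alpha d pA := by rw [haadd, ← h, add_zero]
          obtain ⟨N₀, hN₀⟩ := eventually_pos pQ (leadingCoeff_pos k X L hL _ hQ hQ0 hpQ)
          obtain ⟨N₁, hN₁⟩ := hEA
          have h2 := hN₁ (max N₀ N₁) (le_max_right _ _)
          have h3 := hN₀ (max N₀ N₁) (le_max_left _ _)
          rw [h1] at h2
          simp only [eval_smul, smul_eq_mul] at h2
          rw [hadd, eval_add, mul_add] at h2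
          have := mul_pos haA h3
          linarith
      obtain ⟨nQ, hnQ⟩ := exists_nat_alpha k X L hL d _ hQ hdQ hpQ
      have hnQ1 : (1 : ℚ) ≤ alpha d pQ := by
        rw [hnQ] at haQpos ⊢
        have : 0 < nQ := by exact_mod_cast haQpos
        exact_mod_cast this
      have hAN : ∀ p : ℚ[X], ShStab.IsHilbPoly k X L ((A : Subobject E) : X.Modules) p →
          alpha d p ≤ (N : ℚ) := by
        intro p hp'
        rw [hilbPoly_unique k X hp' hpA]
        have h1 := hN pE' hpE
        rw [haadd] at h1
        push_cast at h1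
        linarith
      obtain ⟨F, ιF, hFmd⟩ := ih _ hA hA0 (isPure_of_mono hp A.arrow) hAN
      obtain ⟨hιF, hF, hF0, hFmax⟩ := hFmd
      haveI := hιF
      obtain ⟨pF, hpF⟩ := exists_hilbPoly k X L hL.1 _ hF
      have haF := hpos F (ιF ≫ A.arrow) inferInstance hF hF0 pF hpF
      -- maximality of `A`
      have hM2 : ∀ (S : X.Modules) (σ : ((A : Subobject E) : X.Modules) ⟶ S) (τ : S ⟶ E), Mono τ →
          σ ≫ τ = A.arrow → Coh.IsCoh S → ¬ IsIso σ → ∀ pS : ℚ[X], ShStab.IsHilbPoly k X L S pS →
          RedLT d pS pA := by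
        intro S σ τ hτ hστ hS hσ pS hpS
        haveI := hτ
        by_contra hn
        have hle : RedLE d pA pS := redLE_of_not_redLT hn
        have haS := hnn S τ hτ hS pS hpS
        have hPB : P (Subobject.mk τ) := by
          refine ⟨isCoh_of_iso (Subobject.underlyingIso τ).symm hS, fun pB hpB => ?_⟩
          have := hilbPoly_unique k X (hilbPoly_of_iso k X L hL.1 (Subobject.underlyingIso τ) hpB) hpS
          rw [this]
          exact redLE_trans haA haG.le haS hGAle hle
        have hAB : A ≤ Subobject.mk τ := Subobject.le_mk_of_comm σ hστ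
        have hBA := hAmax _ hPB hAB
        apply hσ
        have h1 : (Subobject.isoOfEqMk A τ hBA.symm).hom = σ := by
          rw [← cancel_mono τ, hστ, Subobject.isoOfEqMk_hom, Subobject.ofLEMk_comp]
        rw [← h1]
        infer_instance
      -- `F` is the maximal destabilising submodule of `E`
      refine ⟨F, ιF ≫ A.arrow, inferInstance, hF, hF0, ?_⟩
      intro H κH hκH hH hH0 pF' pH hpF' hpH
      haveI := hκH
      have := hilbPoly_unique k X hpF' hpF
      subst this
      have haH := hpos H κH hκH hH hH0 pH hpH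
      by_cases hfac : ∃ ψ : H ⟶ ((A : Subobject E) : X.Modules), ψ ≫ A.arrow = κH
      · obtain ⟨ψ, hψ⟩ := hfac
        haveI : Mono ψ := mono_of_mono_fac hψ
        obtain ⟨h1, h2⟩ := hFmax H ψ inferInstance hH hH0 pF' pH hpF hpH
        refine ⟨h1, fun heq => ?_⟩
        obtain ⟨φ, hφ⟩ := h2 heq
        exact ⟨φ, by rw [← Category.assoc, hφ, hψ]⟩
      · have hstrict : RedLT d pH pF' := by
          by_contra hn
          have hFH : RedLE d pF' pH := redLE_of_not_redLT hn
          have hAF : RedLE d pA pF' := (hFmax _ (𝟙 _) inferInstance hA hA0 pF' pA hpF hpA).1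
          have hAH : RedLE d pA pH := redLE_trans haF haA.le haH.le hAF hFH
          obtain ⟨hS, hI, pI, pS, hpI, hpS, hadd'⟩ :=
            sum_inter_hilbPoly k X L hL hE hA hH A.arrow κH hpA hpH
          have hσ : ¬ IsIso (sumInl A.arrow κH) := fun hi => hfac (by
            haveI := hi
            exact exists_factor_of_isIso_sumInl A.arrow κH)
          have hSA := hM2 (sumObj A.arrow κH) (sumInl A.arrow κH) (sumι A.arrow κH) inferInstance
            (sumInl_ι A.arrow κH) hS hσ pS hpS
          -- the multiplicity of the intersection is at most that of `H`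
          have hile : alpha d pI ≤ alpha d pH := by
            have hC : Coh.IsCoh (cokernel (interSnd A.arrow κH)) := isCoh_cokernel _ hI hH
            obtain ⟨pC, hpC⟩ := exists_hilbPoly k X L hL.1 _ hC
            have h1 := hilbPoly_eq_add_of_mono k X L hL hI (interSnd A.arrow κH) hH hpI hpH hpC
            have h2 : 0 ≤ alpha d pC := alpha_nonneg k X L hL _ hC d
              (((dim_le_of_epi (cokernel.π (interSnd A.arrow κH))).trans (dim_le_of_mono κH)).trans
                hdimE.le) hpC
            rw [h1, alpha_add]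
            linarith
          have hHI : RedLT d pH pI := claimA hadd' haA haH hile hSA hAH
          have hI0 : ¬ IsZero (interObj A.arrow κH) := by
            intro h0
            have := hilbPoly_unique k X hpI (hilbPoly_zero k X L hL.1 h0)
            rw [this] at hHI
            unfold RedLT at hHI
            rw [alpha_zero, zero_smul, smul_zero] at hHI
            exact not_polyLT_self _ hHI
          have haI := hpos _ (interFst A.arrow κH ≫ A.arrow) inferInstance hI hI0 pI hpI
          have hIF : RedLE d pI pF' :=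
            (hFmax _ (interFst A.arrow κH) inferInstance hI hI0 pF' pI hpF hpI).1
          exact hn (redLT_of_redLT_of_redLE haI haH.le haF hHI hIF)
        refine ⟨redLE_of_redLT hstrict, fun heq => ?_⟩
        exfalso
        unfold RedLT at hstrict
        unfold RedEq at heq
        rw [heq] at hstrict
        exact not_polyLT_self _ hstrict

include hL in
/-- existence of the maximal destabilising submodule -/
theorem exists_maxDestab {E : X.Modules} (hE : Coh.IsCoh E) (h0 : ¬ IsZero E) (hp : ShStab.IsPure X E d) :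
    ∃ (F : X.Modules) (ι : F ⟶ E), ShStab.IsMaxDestab k X L E d F ι := by
  obtain ⟨pE, hpE⟩ := exists_hilbPoly k X L hL.1 E hE
  have hdimE := dim_eq_of_isPure hp hE h0
  obtain ⟨N, hN⟩ := exists_nat_alpha k X L hL d E hE hdimE.le hpE
  refine exists_maxDestab_aux k X L hL d N E hE h0 hp (fun p hp' => ?_)
  rw [hilbPoly_unique k X hp' hpE, hN]

end Groth.Agent.Lib.Helper12.MDA
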