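import Mathlib
import Groth.Agent.Lib.Helper12SubQuotA
set_option backward.isDefEq.respectTransparency.types false

/-!
# Quotients by subobjects, preimages of subobjects along an epimorphism (helper12)
-/

set_option autoImplicit false
set_option linter.unusedSectionVars false
universe v u
open CategoryTheory CategoryTheory.Limits

namespace Groth.Agent.Lib.Helper12.SubQC

open Groth.Agent.Lib.Helper12.SubQ

variable {C : Type u} [Category.{v} C] [Abelian C]

section Comp

variable {X Y Z : C} (f : X ⟶ Y) (g : Y ⟶ Z) (c : X ⟶ Z) (hc : f ≫ g = c)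

/-- `coker f ⟶ coker (f ≫ g)` -/
noncomputable def cokU : cokernel f ⟶ cokernel c := cokernel.map f c (𝟙 _) g (by simp [hc])

/-- `coker (f ≫ g) ⟶ coker g` -/
noncomputable def cokV : cokernel c ⟶ cokernel g := cokernel.map c g f (𝟙 _) (by simp [hc])

@[reassoc]
theorem π_cokU : cokernel.π f ≫ cokU f g c hc = g ≫ cokernel.π c := by
  unfold cokU; simp

@[reassoc]
theorem π_cokV : cokernel.π c ≫ cokV f g c hc = cokernel.π g := by
  unfold cokV; simp

@[reassoc]
theorem cokU_cokV : cokU f g c hc ≫ cokV f g c hc = 0 := by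
  rw [← cancel_epi (cokernel.π f), π_cokU_assoc, π_cokV, cokernel.condition, Limits.comp_zero]

instance : Epi (cokV f g c hc) := epi_of_epi_fac (π_cokV f g c hc)

instance [Mono g] : Mono (cokU f g c hc) := by
  subst hc
  have h := (kernelCokernelCompSequence_exact f g).exact 2
  have hz : IsZero (kernel g) := isZero_kernel_of_mono g
  exact (ShortComplex.exact_iff_mono _ (hz.eq_of_src _ _)).1 h

theorem cok_exact : (ShortComplex.mk (cokU f g c hc) (cokV f g c hc) (cokU_cokV f g c hc)).Exact := by
  subst hc
  exact (kernelCokernelCompSequence_exact f g).exact 3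

theorem cok_shortExact [Mono g] :
    (ShortComplex.mk (cokU f g c hc) (cokV f g c hc) (cokU_cokV f g c hc)).ShortExact :=
  { exact := cok_exact f g c hc }

end Comp

section Sub

variable {E : C}

/-- `B/A ⟶ E/A` -/
noncomputable def subU {A B : Subobject E} (h : A ≤ B) :
    cokernel (Subobject.ofLE A B h) ⟶ cokernel A.arrow :=
  cokU (Subobject.ofLE A B h) B.arrow A.arrow (Subobject.ofLE_arrow h)

/-- `E/A ⟶ E/B` -/
noncomputable def subV {A B : Subobject E} (h : A ≤ B) : cokernel A.arrow ⟶ cokernel B.arrow :=
  cokV (Subobject.ofLE A B h) B.arrow A.arrow (Subobject.ofLE_arrow h)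

instance {A B : Subobject E} (h : A ≤ B) : Mono (subU h) := by unfold subU; infer_instance

instance {A B : Subobject E} (h : A ≤ B) : Epi (subV h) := by unfold subV; infer_instance

@[reassoc]
theorem π_subU {A B : Subobject E} (h : A ≤ B) :
    cokernel.π (Subobject.ofLE A B h) ≫ subU h = B.arrow ≫ cokernel.π A.arrow := π_cokU _ _ _ _

@[reassoc]
theorem π_subV {A B : Subobject E} (h : A ≤ B) :
    cokernel.π A.arrow ≫ subV h = cokernel.π B.arrow := π_cokV _ _ _ _

@[reassoc]
theorem subU_subV {A B : Subobject E} (h : A ≤ B) : subU h ≫ subV h = 0 := cokU_cokV _ _ _ _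

theorem sub_shortExact {A B : Subobject E} (h : A ≤ B) :
    (ShortComplex.mk (subU h) (subV h) (subU_subV h)).ShortExact := cok_shortExact _ _ _ _

@[reassoc]
theorem subV_comp {A B D : Subobject E} (h : A ≤ B) (h' : B ≤ D) :
    subV h ≫ subV h' = subV (h.trans h') := by
  rw [← cancel_epi (cokernel.π A.arrow), π_subV_assoc, π_subV, π_subV]

theorem exists_lift_subU {A B : Subobject E} (h : A ≤ B) {M : C} (m : M ⟶ cokernel A.arrow)
    (hm : m ≫ subV h = 0) : ∃ m' : M ⟶ cokernel (Subobject.ofLE A B h), m' ≫ subU h = m :=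
  ⟨(sub_shortExact h).exact.lift m hm, (sub_shortExact h).exact.lift_f m hm⟩

/-- if `B'/A ⊂ E/A` is contained in `B/A` then `B' ≤ B` -/
theorem le_of_subU_subV {A B B' : Subobject E} (hAB : A ≤ B) (hAB' : A ≤ B')
    (hz : subU hAB' ≫ subV hAB = 0) : B' ≤ B := by
  have h1 : B'.arrow ≫ cokernel.π B.arrow = 0 := by
    rw [← π_subV hAB, ← π_subU_assoc hAB', hz, Limits.comp_zero]
  exact Subobject.le_of_comm (Abelian.monoLift B.arrow B'.arrow h1) (Abelian.monoLift_comp _ _ _)

theorem isZero_cokernel_top : IsZero (cokernel (⊤ : Subobject E).arrow) :=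
  isZero_cokernel_of_epi _

theorem subV_top_eq_zero {A : Subobject E} {M : C} (m : M ⟶ cokernel A.arrow) :
    m ≫ subV (le_top : A ≤ ⊤) = 0 := isZero_cokernel_top.eq_of_tgt _ _

end Sub

section Pre

variable {E Q : C} (π : E ⟶ Q)

/-- the square relating the preimages of `A ≤ B` -/
theorem pre_isPullback {A B : Subobject Q} (h : A ≤ B)
    (h' : (Subobject.pullback π).obj A ≤ (Subobject.pullback π).obj B) :
    IsPullback (Subobject.ofLE _ _ h') (Subobject.pullbackπ π A) (Subobject.pullbackπ π B)
      (Subobject.ofLE A B h) := by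
  have hA := (Subobject.isPullback π A).flip
  have hB := (Subobject.isPullback π B).flip
  have e1 : Subobject.ofLE _ _ h' ≫ ((Subobject.pullback π).obj B).arrow
      = ((Subobject.pullback π).obj A).arrow := Subobject.ofLE_arrow h'
  have e2 : Subobject.ofLE A B h ≫ B.arrow = A.arrow := Subobject.ofLE_arrow h
  rw [← e1, ← e2] at hA
  refine IsPullback.of_right hA ?_ hB
  rw [← cancel_mono B.arrow, Category.assoc, Category.assoc, e2, ← hB.w, ← Category.assoc, e1,
    (Subobject.isPullback π A).w]

instance [Epi π] (B : Subobject Q) : Epi (Subobject.pullbackπ π B) := by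
  have h := (Subobject.isPullback π B).flip
  exact Abelian.epi_snd_of_isLimit (f := π) (g := B.arrow) h.isLimit

/-- the factors of the preimage of a chain along an epimorphism -/
theorem nonempty_coker_pre_iso [Epi π] {A B : Subobject Q} (h : A ≤ B)
    (h' : (Subobject.pullback π).obj A ≤ (Subobject.pullback π).obj B) :
    Nonempty (cokernel (Subobject.ofLE _ _ h') ≅ cokernel (Subobject.ofLE A B h)) := by
  have sq := pre_isPullback π h h'
  haveI : Mono (cokernel.map _ _ _ _ sq.w) := Abelian.mono_cokernel_map_of_isPullback sq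
  haveI : Epi (cokernel.map _ _ _ _ sq.w) := by
    have : cokernel.π (Subobject.ofLE _ _ h') ≫ cokernel.map _ _ _ _ sq.w
        = Subobject.pullbackπ π B ≫ cokernel.π (Subobject.ofLE A B h) := by simp
    haveI : Epi (cokernel.π (Subobject.ofLE _ _ h') ≫ cokernel.map _ _ _ _ sq.w) := by
      rw [this]; infer_instance
    exact epi_of_epi (cokernel.π (Subobject.ofLE _ _ h')) _
  haveI : IsIso (cokernel.map _ _ _ _ sq.w) := isIso_of_mono_of_epi _
  exact ⟨asIso (cokernel.map _ _ _ _ sq.w)⟩

theorem le_of_pre_le [Epi π] {A B : Subobject Q}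
    (h' : (Subobject.pullback π).obj A ≤ (Subobject.pullback π).obj B) : A ≤ B := by
  have h1 : A.arrow ≫ cokernel.π B.arrow = 0 := by
    rw [← cancel_epi (Subobject.pullbackπ π A), Limits.comp_zero, ← Category.assoc,
      (Subobject.isPullback π A).w, ← Subobject.ofLE_arrow h', Category.assoc, Category.assoc,
      ← (Subobject.isPullback π B).w_assoc, cokernel.condition, Limits.comp_zero, Limits.comp_zero]
  exact Subobject.le_of_comm (Abelian.monoLift B.arrow A.arrow h1) (Abelian.monoLift_comp _ _ _)

theorem strictMono_pre [Epi π] : StrictMono (Subobject.pullback π).obj := by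
  apply (Subobject.pullback π).monotone.strictMono_of_injective
  intro A B hAB
  exact le_antisymm (le_of_pre_le π hAB.le) (le_of_pre_le π hAB.ge)

/-- the preimage of `⊥` along `cokernel.π ι` is `ι` -/
theorem pre_bot {F : C} (ι : F ⟶ E) [Mono ι] :
    (Subobject.pullback (cokernel.π ι)).obj ⊥ = Subobject.mk ι := by
  apply le_antisymm
  · have h1 : ((Subobject.pullback (cokernel.π ι)).obj ⊥).arrow ≫ cokernel.π ι = 0 := by
      rw [← (Subobject.isPullback (cokernel.π ι) ⊥).w, Subobject.bot_arrow, Limits.comp_zero]
    exact Subobject.le_mk_of_comm (Abelian.monoLift ι _ h1) (Abelian.monoLift_comp _ _ _)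
  · have hsq := Subobject.isPullback (cokernel.π ι) ⊥
    refine Subobject.mk_le_of_comm (hsq.lift 0 ι (by simp)) ?_
    exact hsq.lift_snd _ _ _

end Pre

section Cons

variable {α : Type*} [Preorder α]

/-- prepend an element to a strictly increasing chain -/
def consSeries (a : α) (t : LTSeries α) (h : a < t.head) : LTSeries α where
  length := t.length + 1
  toFun := Fin.cons a t.toFun
  step := by
    intro i
    refine Fin.cases ?_ (fun i' => ?_) i
    · exact h
    · exact t.step i'

@[simp] theorem consSeries_length (a : α) (t : LTSeries α) (h : a < t.head) :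
    (consSeries a t h).length = t.length + 1 := rfl

theorem consSeries_zero (a : α) (t : LTSeries α) (h : a < t.head) :
    (consSeries a t h) (0 : Fin (t.length + 1 + 1)) = a := rfl

theorem consSeries_succ (a : α) (t : LTSeries α) (h : a < t.head) (i : Fin (t.length + 1)) :
    (consSeries a t h) (Fin.succ i) = t i := rfl

theorem consSeries_head (a : α) (t : LTSeries α) (h : a < t.head) : (consSeries a t h).head = a := rfl

theorem consSeries_last (a : α) (t : LTSeries α) (h : a < t.head) :
    (consSeries a t h).last = t.last := rfl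

end Cons

section Clamp

variable {α : Type*} [Preorder α]

/-- a chain as a function on `ℕ`, constant after its length -/
def clamp (s : LTSeries α) (j : ℕ) : α := s ⟨min j s.length, by omega⟩

theorem clamp_mono (s : LTSeries α) : Monotone (clamp s) := by
  intro i j hij
  apply s.strictMono.monotone
  show (⟨min i s.length, _⟩ : Fin (s.length + 1)) ≤ ⟨min j s.length, _⟩
  rw [Fin.mk_le_mk]
  exact min_le_min_right _ hij

theorem clamp_of_le (s : LTSeries α) {j : ℕ} (hj : j ≤ s.length) :
    clamp s j = s ⟨j, by omega⟩ := by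
  unfold clamp
  congr 1
  exact Fin.ext (min_eq_left hj)

theorem clamp_zero (s : LTSeries α) : clamp s 0 = s.head := by
  rw [clamp_of_le s (Nat.zero_le _)]
  rfl

theorem clamp_length (s : LTSeries α) : clamp s s.length = s.last := by
  rw [clamp_of_le s le_rfl]
  rfl

theorem clamp_lt (s : LTSeries α) {i j : ℕ} (hij : i < j) (hj : j ≤ s.length) :
    clamp s i < clamp s j := by
  rw [clamp_of_le s hj, clamp_of_le s (hij.le.trans hj)]
  exact s.strictMono (by rw [Fin.mk_lt_mk]; exact hij)

end Clamp

open StabCat in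
/-- the factors of a chain in terms of the clamped function -/
theorem nonempty_factor_clamp_iso {E : C} (s : LTSeries (Subobject E)) (j : ℕ) (hj : j < s.length) :
    Nonempty (factor s ⟨j, hj⟩ ≅
      cokernel (Subobject.ofLE (clamp s j) (clamp s (j + 1)) (clamp_mono s (Nat.le_succ j)))) := by
  have e1 : s (Fin.castSucc ⟨j, hj⟩) = clamp s j := (clamp_of_le s hj.le).symm
  have e2 : s (Fin.succ ⟨j, hj⟩) = clamp s (j + 1) := (clamp_of_le s hj).symm
  exact ⟨cokerCongr e1 e2 _ _⟩

end Groth.Agent.Lib.Helper12.SubQC
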