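import Mathlib
import Groth.Agent.Lib.Helper12HNA
set_option backward.isDefEq.respectTransparency.types false

/-!
# Harder–Narasimhan filtrations: existence (helper12)
-/

set_option autoImplicit false
set_option linter.style.haveILetI false
set_option linter.unusedSectionVars false
set_option linter.unusedVariables false
universe u
open CategoryTheory CategoryTheory.Limits AlgebraicGeometry TopologicalSpace Opposite Polynomial

namespace Groth.Agent.Lib.Helper12.HNB

open Groth.Agent.Lib.Helper4.Dev Groth.Agent.Lib.Helper4.CurveChi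
  Groth.Agent.Lib.Helper12.Snap Groth.Agent.Lib.Helper12.Pos Groth.Agent.Lib.Helper12.HP
  Groth.Agent.Lib.Helper12.HPB Groth.Agent.Lib.Helper12.HPC Groth.Agent.Lib.Helper12.HPD
  Groth.Agent.Lib.Helper12.HPE Groth.Agent.Lib.Helper12.HPF Groth.Agent.Lib.Helper12.SubQ
  Groth.Agent.Lib.Helper12.SubQB Groth.Agent.Lib.Helper12.SubQC Groth.Agent.Lib.Helper12.JHA
  Groth.Agent.Lib.Helper12.MDA Groth.Agent.Lib.Helper12.HNA StabCat

variable (k : Type u) [Field k] (X : Scheme.{u}) [X.Over (Spec (CommRingCat.of k))]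
  [IsProper (X ↘ (Spec (CommRingCat.of k)))] (L : X.Modules) (hL : CohB1.IsAmple L) (d : ℕ)

/-- the maximal destabilising submodule of a pure sheaf is semistable -/
theorem isSemistable_of_isMaxDestab {E F : X.Modules} (ι : F ⟶ E) (h : ShStab.IsMaxDestab k X L E d F ι)
    (hp : ShStab.IsPure X E d) : ShStab.IsSemistable k X L F d := by
  obtain ⟨hι, hF, hF0, hmax⟩ := h
  haveI := hι
  refine ⟨hF, hF0, isPure_of_mono hp ι, ?_⟩
  intro G κ hκ hG hG0 hκi pG pF hpG hpF
  haveI := hκ
  exact (hmax G (κ ≫ ι) inferInstance hG hG0 pF pG hpF hpG).1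

include hL in
/-- the quotient by the maximal destabilising submodule is pure -/
theorem isPure_cokernel_of_isMaxDestab {E F : X.Modules} (hE : Coh.IsCoh E) (h0 : ¬ IsZero E)
    (hp : ShStab.IsPure X E d) (ι : F ⟶ E) (h : ShStab.IsMaxDestab k X L E d F ι) :
    ShStab.IsPure X (cokernel ι) d := by
  haveI : IsNoetherian X := Groth.Agent.Lib.Helper4.CurveRR.isNoetherian_of_proper k X
  haveI : IsLocallyNoetherian X := inferInstance
  obtain ⟨hι, hF, hF0, hmax⟩ := h
  haveI := hι
  have hdimE := dim_eq_of_isPure hp hE h0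
  intro T κ hκ hT hT0
  haveI := hκ
  have hle : topologicalKrullDim ↥(CohB1.support T) ≤ (d : WithBot ℕ∞) :=
    ((dim_le_of_mono κ).trans (dim_le_of_epi (cokernel.π ι))).trans hdimE.le
  by_contra hne
  have hlt : topologicalKrullDim ↥(CohB1.support T) < (d : WithBot ℕ∞) := lt_of_le_of_ne hle hne
  obtain ⟨pF, hpF⟩ := exists_hilbPoly k X L hL.1 F hF
  obtain ⟨pT, hpT⟩ := exists_hilbPoly k X L hL.1 T hT
  have haT := alpha_eq_zero k X L hL.1 T hT d hlt hpT
  have haF := alpha_pos k X L hL F hF d (hp F ι hι hF hF0) hpF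
  obtain ⟨hK, hpK⟩ := preimage_hilbPoly k X L hL hE hF ι hT κ hpF hpT
  have haK : alpha d (pF + pT) = alpha d pF := by rw [alpha_add, haT, add_zero]
  have hK0 : ¬ IsZero (kernel (cokernel.π ι ≫ cokernel.π κ)) := by
    intro hz
    have := hilbPoly_unique k X hpK (hilbPoly_zero k X L hL.1 hz)
    rw [this, alpha_zero] at haK
    linarith
  obtain ⟨h1, -⟩ := hmax _ (kernel.ι (cokernel.π ι ≫ cokernel.π κ)) inferInstance hK hK0 pF (pF + pT)
    hpF hpK
  obtain ⟨N₀, hN₀⟩ := eventually_pos pT (leadingCoeff_pos k X L hL T hT hT0 hpT)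
  obtain ⟨N₁, hN₁⟩ := h1
  have h2 := hN₁ (max N₀ N₁) (le_max_right _ _)
  have h3 := hN₀ (max N₀ N₁) (le_max_left _ _)
  rw [haK] at h2
  simp only [eval_smul, smul_eq_mul, eval_add, mul_add] at h2
  have := mul_pos haF h3
  linarith

include hL in
/-- the junction inequality: a nonzero coherent submodule of the quotient by the maximal destabilising
submodule has smaller reduced Hilbert polynomial -/
theorem junction_lt {E F : X.Modules} (hE : Coh.IsCoh E) (h0 : ¬ IsZero E)
    (hp : ShStab.IsPure X E d) (ι : F ⟶ E) (h : ShStab.IsMaxDestab k X L E d F ι)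
    {G : X.Modules} (κ : G ⟶ cokernel ι) [Mono κ] (hG : Coh.IsCoh G) (hG0 : ¬ IsZero G)
    {pF pG : ℚ[X]} (hpF : ShStab.IsHilbPoly k X L F pF) (hpG : ShStab.IsHilbPoly k X L G pG) :
    RedLT d pG pF := by
  haveI : IsNoetherian X := Groth.Agent.Lib.Helper4.CurveRR.isNoetherian_of_proper k X
  haveI : IsLocallyNoetherian X := inferInstance
  have hQp := isPure_cokernel_of_isMaxDestab k X L hL d hE h0 hp ι h
  obtain ⟨hι, hF, hF0, hmax⟩ := h
  haveI := hι
  have hdimE := dim_eq_of_isPure hp hE h0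
  have haF := alpha_pos k X L hL F hF d (hp F ι hι hF hF0) hpF
  have haG := alpha_pos k X L hL G hG d (hQp G κ inferInstance hG hG0) hpG
  obtain ⟨hK, hpK⟩ := preimage_hilbPoly k X L hL hE hF ι hG κ hpF hpG
  have haK : alpha d (pF + pG) = alpha d pF + alpha d pG := alpha_add d pF pG
  have hK0 : ¬ IsZero (kernel (cokernel.π ι ≫ cokernel.π κ)) := by
    intro hz
    have := hilbPoly_unique k X hpK (hilbPoly_zero k X L hL.1 hz)
    rw [this, alpha_zero] at haK
    linarith
  obtain ⟨h1, h2⟩ := hmax _ (kernel.ι (cokernel.π ι ≫ cokernel.π κ)) inferInstance hK hK0 pF (pF + pG)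
    hpF hpK
  rcases redLT_or_redEq_of_redLE h1 with hlt | heq
  · exact (redLT_add_iff_right' d pF pG).1 hlt
  · exfalso
    obtain ⟨φ, hφ⟩ := h2 heq
    haveI : Mono φ := mono_of_mono_fac hφ
    have hC : Coh.IsCoh (cokernel φ) := isCoh_cokernel φ hK hF
    obtain ⟨pC, hpC⟩ := exists_hilbPoly k X L hL.1 _ hC
    have hadd := hilbPoly_eq_add_of_mono k X L hL hK φ hF hpK hpF hpC
    have haC : 0 ≤ alpha d pC := alpha_nonneg k X L hL _ hC d
      (((dim_le_of_epi (cokernel.π φ)).trans (dim_le_of_mono ι)).trans hdimE.le) hpC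
    have := congrArg (alpha d) hadd
    rw [alpha_add, alpha_add] at this
    linarith

open ZeroObject in
include hL in
/-- a semistable sheaf has the trivial Harder–Narasimhan filtration -/
theorem exists_hn_of_isSemistable {E : X.Modules} (hE : ShStab.IsSemistable k X L E d) :
    ∃ s : LTSeries (Subobject E), ShStab.IsHNFiltration k X L E d s := by
  have hι : ¬ IsIso (0 : (0 : X.Modules) ⟶ E) := fun h => hE.2.1 (by
    haveI := h
    exact IsZero.of_iso (isZero_zero _) (asIso (0 : (0 : X.Modules) ⟶ E)).symm)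
  obtain ⟨s', hs0, hs1, hl, hf1, hf2⟩ := exists_extend_top (0 : (0 : X.Modules) ⟶ E) hι
    (RelSeries.singleton _ ⊥) rfl (bot_eq_top_of_isZero (isZero_zero _))
  have hl' : s'.length = 1 := hl
  refine ⟨s', hs0, hs1, ?_, ?_⟩
  · intro i
    have hi : i = ⟨0, by omega⟩ := Fin.ext (by have := i.isLt; omega)
    obtain ⟨e⟩ := hf2
    rw [hi]
    exact isSemistable_of_iso k X L hL d (e.trans cokernelZeroIsoTarget).symm hE
  · intro i j hij
    exfalso
    have := i.isLt
    have := j.isLt
    omega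

include hL in
/-- extend a Harder–Narasimhan filtration of the quotient by a semistable submodule of larger reduced Hilbert
polynomial -/
theorem hn_extend {E F : X.Modules} (ι : F ⟶ E) [Mono ι] (hF0 : ¬ IsZero F)
    (hFss : ShStab.IsSemistable k X L F d) (t : LTSeries (Subobject (cokernel ι)))
    (ht : ShStab.IsHNFiltration k X L (cokernel ι) d t)
    (hj : ∀ (hlen : 0 < t.length) (p q : ℚ[X]), ShStab.IsHilbPoly k X L F p →
      ShStab.IsHilbPoly k X L (factor t ⟨0, hlen⟩) q → RedLT d q p) :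
    ∃ s : LTSeries (Subobject E), ShStab.IsHNFiltration k X L E d s := by
  obtain ⟨ht0, ht1, htss, htlt⟩ := ht
  have hhead : (t.map (Subobject.pullback (cokernel.π ι)).obj (strictMono_pre (cokernel.π ι))).head
      = Subobject.mk ι := by
    rw [LTSeries.head_map, ht0, pre_bot]
  have hlt : ⊥ < (t.map (Subobject.pullback (cokernel.π ι)).obj (strictMono_pre (cokernel.π ι))).head := by
    rw [hhead, bot_lt_iff_ne_bot]
    intro h
    rw [Subobject.mk_eq_bot_iff_zero] at h
    exact hF0 (IsZero.of_mono_eq_zero ι h)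
  -- the factors
  have f0 : Nonempty (factor (consSeries ⊥ _ hlt) ⟨0, by simp⟩ ≅ F) := by
    have e1 : (consSeries ⊥ _ hlt) (Fin.castSucc (⟨0, by simp⟩ : Fin (t.length + 1))) = ⊥ := rfl
    have e2 : (consSeries ⊥ _ hlt) (Fin.succ (⟨0, by simp⟩ : Fin (t.length + 1))) = Subobject.mk ι := hhead
    obtain ⟨e3⟩ := nonempty_coker_bot_iso (Subobject.mk ι) bot_le
    exact ⟨((cokerCongr e1 e2 _ _).trans e3).trans (Subobject.underlyingIso ι)⟩
  have fS : ∀ i : Fin t.length, Nonempty (factor (consSeries ⊥ _ hlt) (Fin.succ i) ≅ factor t i) := by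
    intro i
    have e1 : (consSeries ⊥ _ hlt) (Fin.castSucc (Fin.succ i))
        = (Subobject.pullback (cokernel.π ι)).obj (t (Fin.castSucc i)) := rfl
    have e2 : (consSeries ⊥ _ hlt) (Fin.succ (Fin.succ i))
        = (Subobject.pullback (cokernel.π ι)).obj (t (Fin.succ i)) := rfl
    obtain ⟨e3⟩ := nonempty_coker_pre_iso (cokernel.π ι) (le_of_lt (t.step i))
      ((Subobject.pullback (cokernel.π ι)).monotone (le_of_lt (t.step i)))
    exact ⟨(cokerCongr e1 e2 _ _).trans e3⟩
  refine ⟨consSeries ⊥ _ hlt, rfl, ?_, ?_, ?_⟩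
  · rw [consSeries_last, LTSeries.last_map, ht1, Subobject.pullback_top]
  · intro i
    refine Fin.cases ?_ (fun i' => ?_) i
    · obtain ⟨e⟩ := f0
      exact isSemistable_of_iso k X L hL d e.symm hFss
    · obtain ⟨e⟩ := fS i'
      exact isSemistable_of_iso k X L hL d e.symm (htss i')
  · intro i j
    refine Fin.cases ?_ (fun i' => ?_) i
    · refine Fin.cases ?_ (fun j' => ?_) j
      · intro hij; exfalso; simp at hij
      · intro hij p q hp hq
        have hj' : j'.val = 0 := by
          have : (0 : ℕ) + 1 = j'.val + 1 := hij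
          omega
        have hlen : 0 < t.length := by
          have h2 : j'.val < t.length := j'.isLt
          omega
        have hjj : j' = ⟨0, hlen⟩ := Fin.ext hj'
        obtain ⟨e⟩ := f0
        obtain ⟨e'⟩ := fS j'
        rw [hjj] at e'
        exact hj hlen p q (hilbPoly_of_iso k X L hL.1 e hp) (hilbPoly_of_iso k X L hL.1 e' (hjj ▸ hq))
    · refine Fin.cases ?_ (fun j' => ?_) j
      · intro hij; exfalso; simp at hij
      · intro hij p q hp hq
        have hij' : i'.val + 1 = j'.val := by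
          have : i'.val + 1 + 1 = j'.val + 1 := hij
          omega
        obtain ⟨e⟩ := fS i'
        obtain ⟨e'⟩ := fS j'
        exact htlt i' j' hij' p q (hilbPoly_of_iso k X L hL.1 e hp) (hilbPoly_of_iso k X L hL.1 e' hq)

include hL in
theorem exists_hn_aux : ∀ (N : ℕ) (E : X.Modules), Coh.IsCoh E → ¬ IsZero E → ShStab.IsPure X E d →
    (∀ pE : ℚ[X], ShStab.IsHilbPoly k X L E pE → alpha d pE ≤ (N : ℚ)) →
    ∃ s : LTSeries (Subobject E), ShStab.IsHNFiltration k X L E d s := by
  haveI : IsNoetherian X := Groth.Agent.Lib.Helper4.CurveRR.isNoetherian_of_proper k X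
  haveI : IsLocallyNoetherian X := inferInstance
  intro N
  induction N with
  | zero =>
    intro E hE hE0 hp hN
    exfalso
    obtain ⟨pE, hpE⟩ := exists_hilbPoly k X L hL.1 E hE
    have := alpha_pos k X L hL E hE d (dim_eq_of_isPure hp hE hE0) hpE
    have := hN pE hpE
    simp only [Nat.cast_zero] at this
    linarith
  | succ N ih =>
    intro E hE hE0 hp hN
    obtain ⟨pE, hpE⟩ := exists_hilbPoly k X L hL.1 E hE
    have hdimE := dim_eq_of_isPure hp hE hE0
    obtain ⟨F, ι, hmd⟩ := exists_maxDestab k X L hL d hE hE0 hp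
    have hFss := isSemistable_of_isMaxDestab k X L d ι hmd hp
    have hQp := isPure_cokernel_of_isMaxDestab k X L hL d hE hE0 hp ι hmd
    haveI : Mono ι := hmd.1
    by_cases hi : IsIso ι
    · haveI := hi
      exact exists_hn_of_isSemistable k X L hL d (isSemistable_of_iso k X L hL d (asIso ι) hFss)
    · have hQ : Coh.IsCoh (cokernel ι) := isCoh_cokernel ι hFss.1 hE
      have hQ0 : ¬ IsZero (cokernel ι) := fun h => hi (by
        haveI : Epi ι := Preadditive.epi_of_isZero_cokernel ι h
        exact isIso_of_mono_of_epi ι)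
      obtain ⟨pF, hpF⟩ := exists_hilbPoly k X L hL.1 F hFss.1
      obtain ⟨pQ, hpQ⟩ := exists_hilbPoly k X L hL.1 _ hQ
      have hadd := hilbPoly_eq_add_of_mono k X L hL hFss.1 ι hE hpF hpE hpQ
      have haF := alpha_pos_of_isSemistable k X L hL d hFss hpF
      obtain ⟨nF, hnF⟩ := exists_nat_alpha k X L hL d F hFss.1
        ((dim_le_of_mono ι).trans hdimE.le) hpF
      have hnF1 : (1 : ℚ) ≤ alpha d pF := by
        rw [hnF] at haF ⊢
        have : 0 < nF := by exact_mod_cast haF
        exact_mod_cast this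
      have hQN : ∀ p : ℚ[X], ShStab.IsHilbPoly k X L (cokernel ι) p → alpha d p ≤ (N : ℚ) := by
        intro p hp'
        rw [hilbPoly_unique k X hp' hpQ]
        have h1 := hN pE hpE
        rw [hadd, alpha_add] at h1
        push_cast at h1
        linarith
      obtain ⟨t, ht⟩ := ih _ hQ hQ0 hQp hQN
      refine hn_extend k X L hL d ι hFss.2.1 hFss t ht ?_
      intro hlen p q hp' hq
      -- the first factor of `t` is a submodule of the quotient
      have e1 : t (Fin.castSucc (⟨0, hlen⟩ : Fin t.length)) = ⊥ := ht.1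
      obtain ⟨e3⟩ := nonempty_coker_bot_iso (t (Fin.succ (⟨0, hlen⟩ : Fin t.length))) bot_le
      have e : factor t ⟨0, hlen⟩ ≅ ((t (Fin.succ (⟨0, hlen⟩ : Fin t.length)) : Subobject (cokernel ι)) :
          X.Modules) := (cokerCongr e1 rfl _ _).trans e3
      have hss0 := ht.2.2.1 ⟨0, hlen⟩
      exact junction_lt k X L hL d hE hE0 hp ι hmd
        (t (Fin.succ (⟨0, hlen⟩ : Fin t.length))).arrow (isCoh_of_iso e hss0.1)
        (fun h0 => hss0.2.1 (IsZero.of_iso h0 e)) hp' (hilbPoly_of_iso k X L hL.1 e hq)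

include hL in
/-- existence of Harder–Narasimhan filtrations -/
theorem exists_hn {E : X.Modules} (hE : Coh.IsCoh E) (h0 : ¬ IsZero E) (hp : ShStab.IsPure X E d) :
    ∃ s : LTSeries (Subobject E), ShStab.IsHNFiltration k X L E d s := by
  obtain ⟨pE, hpE⟩ := exists_hilbPoly k X L hL.1 E hE
  have hdimE := dim_eq_of_isPure hp hE h0
  obtain ⟨N, hN⟩ := exists_nat_alpha k X L hL d E hE hdimE.le hpE
  refine exists_hn_aux k X L hL d N E hE h0 hp (fun p hp' => ?_)
  rw [hilbPoly_unique k X hp' hpE, hN]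

include hL in
/-- existence and uniqueness of Harder–Narasimhan filtrations -/
theorem existsUnique_hn {E : X.Modules} (hE : Coh.IsCoh E) (h0 : ¬ IsZero E) (hp : ShStab.IsPure X E d) :
    ∃! s : LTSeries (Subobject E), ShStab.IsHNFiltration k X L E d s := by
  obtain ⟨s, hs⟩ := exists_hn k X L hL d hE h0 hp
  exact ⟨s, hs, fun s' hs' => hn_unique k X L hL d s' s hs' hs⟩

end Groth.Agent.Lib.Helper12.HNB
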