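import Mathlib
import Groth.Agent.Lib.Helper12HNB
set_option backward.isDefEq.respectTransparency.types false

/-!
# Harder–Narasimhan filtrations: quotients, morphisms (helper12)
-/

set_option autoImplicit false
set_option linter.style.haveILetI false
set_option linter.unusedSectionVars false
set_option linter.unusedVariables false
universe u
open CategoryTheory CategoryTheory.Limits AlgebraicGeometry TopologicalSpace Opposite Polynomial

namespace Groth.Agent.Lib.Helper12.HNC

open Groth.Agent.Lib.Helper4.Dev Groth.Agent.Lib.Helper4.CurveChi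
  Groth.Agent.Lib.Helper12.Snap Groth.Agent.Lib.Helper12.Pos Groth.Agent.Lib.Helper12.HP
  Groth.Agent.Lib.Helper12.HPB Groth.Agent.Lib.Helper12.HPC Groth.Agent.Lib.Helper12.HPD
  Groth.Agent.Lib.Helper12.HPE Groth.Agent.Lib.Helper12.HPF Groth.Agent.Lib.Helper12.SubQ
  Groth.Agent.Lib.Helper12.SubQB Groth.Agent.Lib.Helper12.SubQC Groth.Agent.Lib.Helper12.JHA
  Groth.Agent.Lib.Helper12.MDA Groth.Agent.Lib.Helper12.HNA Groth.Agent.Lib.Helper12.HNB StabCat

variable (k : Type u) [Field k] (X : Scheme.{u}) [X.Over (Spec (CommRingCat.of k))]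
  [IsProper (X ↘ (Spec (CommRingCat.of k)))] (L : X.Modules) (hL : CohB1.IsAmple L) (d : ℕ)

include hL in
/-- the terms of a Harder–Narasimhan chain starting at `⊥` are coherent -/
theorem _root_.Groth.Agent.Lib.Helper12.HNA.IsHNChain.isCoh {E : X.Modules} {S : ℕ → Subobject E} {hS : Monotone S} {n : ℕ}
    (h : IsHNChain k X L d S hS n) (h0 : S 0 = ⊥) : ∀ j, j ≤ n → Coh.IsCoh ((S j : Subobject E) : X.Modules) := by
  haveI : IsNoetherian X := Groth.Agent.Lib.Helper4.CurveRR.isNoetherian_of_proper k X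
  haveI : IsLocallyNoetherian X := inferInstance
  intro j
  induction j with
  | zero =>
    intro _
    rw [h0]
    have hz : IsZero (((⊥ : Subobject E) : Subobject E) : X.Modules) :=
      IsZero.of_iso (isZero_zero _) Subobject.botCoeIsoZero
    exact isCoh_of_isZero hz (isCoh_structureModule X)
  | succ j ih =>
    intro hj
    exact Groth.Agent.Lib.Helper4.CohThick.isCoh_of_shortExact
      (sesOfMono (Subobject.ofLE (S j) (S (j + 1)) (hS (Nat.le_succ j))))
      (sesOfMono_shortExact _) (ih (by omega)) (h.ss j (by omega)).1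

theorem redLE_add_right {d : ℕ} {P Q₁ Q₂ : ℚ[X]} (h₁ : RedLE d P Q₁) (h₂ : RedLE d P Q₂) :
    RedLE d P (Q₁ + Q₂) := by
  unfold RedLE at *
  rw [alpha_add]
  refine polyLE_of_forall₂ h₁ h₂ fun x hx hy => ?_
  simp only [eval_smul, smul_eq_mul, eval_add] at hx hy ⊢
  nlinarith

/-- `p' < p` and `p ≤ q` give `p' ≤ q` (cross-multiplied form, `q` of nonnegative multiplicity) -/
theorem redLE_of_redLT_of_redLE' {d : ℕ} {P' P Q : ℚ[X]} (hP : 0 < alpha d P) (hP' : 0 ≤ alpha d P')
    (hQ : 0 ≤ alpha d Q) (h₁ : RedLT d P' P) (h₂ : RedLE d P Q) : RedLE d P' Q := by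
  unfold RedLE RedLT at *
  refine polyLE_of_forall₂ (polyLE_of_polyLT h₁) h₂ fun x hx hy => ?_
  simp only [eval_smul, smul_eq_mul] at hx hy ⊢
  have e1 := mul_le_mul_of_nonneg_left hx hQ
  have e2 := mul_le_mul_of_nonneg_left hy hP'
  have h3 : alpha d P * (alpha d Q * P'.eval x) ≤ alpha d P * (alpha d P' * Q.eval x) := by
    nlinarith
  exact le_of_mul_le_mul_left h3 hP

theorem isIso_cokernel_π_of_eq_zero {C : Type*} [Category C] [Abelian C] {A B : C} (f : A ⟶ B) (hf : f = 0) :
    IsIso (cokernel.π f) := by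
  subst hf
  infer_instance

include hL in
/-- one step of the comparison of quotients with the factors of a Harder–Narasimhan chain -/
theorem _root_.Groth.Agent.Lib.Helper12.HNA.IsHNChain.quot_step {E : X.Modules} {S : ℕ → Subobject E} {hS : Monotone S} {n : ℕ}
    (h : IsHNChain k X L d S hS n) (h0 : S 0 = ⊥) (j : ℕ) (hj : j < n) (pj : ℚ[X])
    (hpj : ShStab.IsHilbPoly k X L (cokernel (Subobject.ofLE (S j) (S (j + 1)) (hS (Nat.le_succ j)))) pj)
    (hIH : ∀ (T' : X.Modules) (q' : ((S j : Subobject E) : X.Modules) ⟶ T'), Epi q' → Coh.IsCoh T' →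
      ∀ pT' : ℚ[X], ShStab.IsHilbPoly k X L T' pT' → RedLE d pj pT')
    (T : X.Modules) (q : ((S (j + 1) : Subobject E) : X.Modules) ⟶ T) (hq : Epi q) (hT : Coh.IsCoh T)
    (pT : ℚ[X]) (hpT : ShStab.IsHilbPoly k X L T pT) : RedLE d pj pT := by
  haveI : IsNoetherian X := Groth.Agent.Lib.Helper4.CurveRR.isNoetherian_of_proper k X
  haveI : IsLocallyNoetherian X := inferInstance
  haveI := hq
  have hSj := h.isCoh k X L hL d h0 j hj.le
  have hss := h.ss j hj
  have hT'' : Coh.IsCoh (cokernel (Subobject.ofLE (S j) (S (j + 1)) (hS (Nat.le_succ j)) ≫ q)) :=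
    isCoh_cokernel _ hSj hT
  have hT' : Coh.IsCoh (Abelian.image (Subobject.ofLE (S j) (S (j + 1)) (hS (Nat.le_succ j)) ≫ q)) :=
    isCoh_kernel _ hT hT''
  obtain ⟨pT', hpT'⟩ := exists_hilbPoly k X L hL.1 _ hT'
  obtain ⟨pT'', hpT''⟩ := exists_hilbPoly k X L hL.1 _ hT''
  have hadd := hilbPoly_eq_add_of_epi k X L hL hT
    (cokernel.π (Subobject.ofLE (S j) (S (j + 1)) (hS (Nat.le_succ j)) ≫ q)) hT'' hpT' hpT hpT''
  have h1 : RedLE d pj pT' := hIH _ (Abelian.factorThruImage _) inferInstance hT' pT' hpT'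
  have hw : Subobject.ofLE (S j) (S (j + 1)) (hS (Nat.le_succ j)) ≫
      q ≫ cokernel.π (Subobject.ofLE (S j) (S (j + 1)) (hS (Nat.le_succ j)) ≫ q) = 0 := by
    rw [← Category.assoc, cokernel.condition]
  haveI : Epi (cokernel.desc (Subobject.ofLE (S j) (S (j + 1)) (hS (Nat.le_succ j)))
      (q ≫ cokernel.π (Subobject.ofLE (S j) (S (j + 1)) (hS (Nat.le_succ j)) ≫ q)) hw) := by
    have : cokernel.π (Subobject.ofLE (S j) (S (j + 1)) (hS (Nat.le_succ j))) ≫
        cokernel.desc (Subobject.ofLE (S j) (S (j + 1)) (hS (Nat.le_succ j)))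
          (q ≫ cokernel.π (Subobject.ofLE (S j) (S (j + 1)) (hS (Nat.le_succ j)) ≫ q)) hw
        = q ≫ cokernel.π (Subobject.ofLE (S j) (S (j + 1)) (hS (Nat.le_succ j)) ≫ q) :=
      cokernel.π_desc _ _ _
    exact epi_of_epi_fac this
  have h2 : RedLE d pj pT'' := quot_ge k X L hL d hss
    (cokernel.desc (Subobject.ofLE (S j) (S (j + 1)) (hS (Nat.le_succ j)))
      (q ≫ cokernel.π (Subobject.ofLE (S j) (S (j + 1)) (hS (Nat.le_succ j)) ≫ q)) hw) hT'' hpj hpT''
  rw [hadd]
  exact redLE_add_right h1 h2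

include hL in
/-- quotients of the terms of a Harder–Narasimhan chain have reduced Hilbert polynomial at least that of
the last factor involved -/
theorem _root_.Groth.Agent.Lib.Helper12.HNA.IsHNChain.quot_ge {E : X.Modules} {S : ℕ → Subobject E} {hS : Monotone S} {n : ℕ}
    (h : IsHNChain k X L d S hS n) (h0 : S 0 = ⊥) (hdimE : topologicalKrullDim ↥(CohB1.support E) ≤ (d : WithBot ℕ∞)) :
    ∀ j, j < n → ∀ (T : X.Modules) (q : ((S (j + 1) : Subobject E) : X.Modules) ⟶ T), Epi q → Coh.IsCoh T →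
      ∀ pT pj : ℚ[X], ShStab.IsHilbPoly k X L T pT →
      ShStab.IsHilbPoly k X L (cokernel (Subobject.ofLE (S j) (S (j + 1)) (hS (Nat.le_succ j)))) pj →
      RedLE d pj pT := by
  intro j
  induction j with
  | zero =>
    intro hj T q hq hT pT pj hpT hpj
    refine h.quot_step k X L hL d h0 0 hj pj hpj ?_ T q hq hT pT hpT
    intro T' q' hq' hT' pT' hpT'
    haveI := hq'
    have hz : IsZero ((S 0 : Subobject E) : X.Modules) := by
      rw [h0]
      exact IsZero.of_iso (isZero_zero _) Subobject.botCoeIsoZero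
    have hz' : IsZero T' := by
      rw [IsZero.iff_id_eq_zero, ← cancel_epi q', hz.eq_of_src (q' ≫ 𝟙 T') (q' ≫ 0)]
    rw [hilbPoly_unique k X hpT' (hilbPoly_zero k X L hL.1 hz')]
    exact redLE_zero_right d pj
  | succ j ih =>
    intro hj T q hq hT pT pj hpT hpj
    refine h.quot_step k X L hL d h0 (j + 1) hj pj hpj ?_ T q hq hT pT hpT
    intro T' q' hq' hT' pT' hpT'
    haveI := hq'
    have hssj := h.ss j (by omega)
    obtain ⟨pj', hpj'⟩ := exists_hilbPoly k X L hL.1 _ hssj.1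
    have h1 := ih (by omega) T' q' hq' hT' pT' pj' hpT' hpj'
    have h2 := h.lt j hj pj' pj hpj' hpj
    have ha := alpha_pos_of_isSemistable k X L hL d hssj hpj'
    have hdT' : topologicalKrullDim ↥(CohB1.support T') ≤ (d : WithBot ℕ∞) :=
      ((dim_le_of_epi q').trans (dim_le_of_mono (S (j + 1)).arrow)).trans hdimE
    exact redLE_of_redLT_of_redLE' ha (alpha_pos_of_isSemistable k X L hL d (h.ss (j + 1) hj) hpj).le
      (alpha_nonneg k X L hL T' hT' d hdT' hpT') h2 h1

include hL in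
/-- `Hom(F, G) = 0` when `p_min(F) > p_max(G)` -/
theorem hom_eq_zero_of_hn {F G : X.Modules} (hF : Coh.IsCoh F) (hF0 : ¬ IsZero F)
    (hFp : ShStab.IsPure X F d) (hG : Coh.IsCoh G) (hG0 : ¬ IsZero G) (hGp : ShStab.IsPure X G d)
    (s : LTSeries (Subobject F)) (hs : ShStab.IsHNFiltration k X L F d s)
    (t : LTSeries (Subobject G)) (ht : ShStab.IsHNFiltration k X L G d t)
    (i : Fin s.length) (hi : i.val + 1 = s.length) (j : Fin t.length) (hj : j.val = 0)
    (pmin pmax : ℚ[X]) (hpmin : ShStab.IsHilbPoly k X L (StabCat.factor s i) pmin)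
    (hpmax : ShStab.IsHilbPoly k X L (StabCat.factor t j) pmax)
    (hlt : StabCat.RedLT d pmax pmin) (φ : F ⟶ G) : φ = 0 := by
  haveI : IsNoetherian X := Groth.Agent.Lib.Helper4.CurveRR.isNoetherian_of_proper k X
  haveI : IsLocallyNoetherian X := inferInstance
  by_contra hφ
  have hcs := isHNChain_of_isHNFiltration k X L hL d s hs
  have hct := isHNChain_of_isHNFiltration k X L hL d t ht
  have hs0 : clamp s 0 = ⊥ := by rw [clamp_zero, hs.1]
  have ht0 : clamp t 0 = ⊥ := by rw [clamp_zero, ht.1]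
  have hsn : clamp s (i.val + 1) = ⊤ := by rw [hi, clamp_length, hs.2.1]
  have htn : clamp t t.length = ⊤ := by rw [clamp_length, ht.2.1]
  -- the image of `φ`
  have hI : Coh.IsCoh (Abelian.image φ) := isCoh_image φ hF hG
  have hI0 : ¬ IsZero (Abelian.image φ) := by
    intro h0
    apply hφ
    rw [← Abelian.image.fac φ, h0.eq_of_tgt (Abelian.factorThruImage φ) 0, Limits.zero_comp]
  obtain ⟨pI, hpI⟩ := exists_hilbPoly k X L hL.1 _ hI
  -- comparison with `p_min(F)`
  have h1 : RedLE d pmin pI := by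
    haveI : IsIso (clamp s (i.val + 1)).arrow := (Subobject.isIso_arrow_iff_eq_top _).2 hsn
    obtain ⟨e⟩ := nonempty_factor_clamp_iso s i.val i.isLt
    exact hcs.quot_ge k X L hL d hs0 (dim_eq_of_isPure hFp hF hF0).le i.val i.isLt _
      ((clamp s (i.val + 1)).arrow ≫ Abelian.factorThruImage φ) inferInstance hI pI pmin hpI
      (hilbPoly_of_iso k X L hL.1 e hpmin)
  -- comparison with `p_max(G)`
  have h2 : 0 < alpha d pI ∧ RedLE d pI pmax := by
    have hlen : 0 < t.length := by have := j.isLt; omega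
    have hjj : j = ⟨0, hlen⟩ := Fin.ext hj
    obtain ⟨e⟩ := nonempty_factor_clamp_iso t 0 hlen
    have hz : (clamp t 0).arrow = 0 := by
      rw [ht0]
      exact Subobject.bot_arrow
    haveI : IsIso (cokernel.π (clamp t 0).arrow) := isIso_cokernel_π_of_eq_zero _ hz
    have hz0 : IsZero (cokernel (clamp t t.length).arrow) := by
      rw [htn]
      exact isZero_cokernel_top
    obtain ⟨a1, a2, -⟩ := hct.claim k X L hL d 0 hlen t.length (by omega) le_rfl _
      (Abelian.image.ι φ ≫ cokernel.π (clamp t 0).arrow) inferInstance hI hI0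
      (fun _ => hz0.eq_of_tgt _ _) pI pmax hpI (hilbPoly_of_iso k X L hL.1 e (hjj ▸ hpmax))
    exact ⟨a1, a2⟩
  have hamin : 0 ≤ alpha d pmin :=
    (alpha_pos_of_isSemistable k X L hL d (hs.2.2.1 i) hpmin).le
  have hamax : 0 ≤ alpha d pmax :=
    (alpha_pos_of_isSemistable k X L hL d (ht.2.2.1 j) hpmax).le
  exact not_redLT_of_redLE (redLE_trans h2.1 hamin hamax h1 h2.2) hlt

end Groth.Agent.Lib.Helper12.HNC
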