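import Mathlib
import Groth.Agent.Lib.Helper12HNB
import Groth.Agent.Lib.Helper12HilbPolyF
set_option backward.isDefEq.respectTransparency.types false

/-!
# The maximal slope-destabilising submodule (helper12)
-/

set_option autoImplicit false
set_option linter.style.haveILetI false
set_option linter.unusedSectionVars false
set_option linter.unusedVariables false
universe u
open CategoryTheory CategoryTheory.Limits AlgebraicGeometry TopologicalSpace Opposite Polynomial

namespace Groth.Agent.Lib.Helper12.MuA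

open Groth.Agent.Lib.Helper4.Dev Groth.Agent.Lib.Helper4.CurveChi
  Groth.Agent.Lib.Helper12.Snap Groth.Agent.Lib.Helper12.Pos Groth.Agent.Lib.Helper12.HP
  Groth.Agent.Lib.Helper12.HPB Groth.Agent.Lib.Helper12.HPC Groth.Agent.Lib.Helper12.HPD
  Groth.Agent.Lib.Helper12.HPE Groth.Agent.Lib.Helper12.HPF Groth.Agent.Lib.Helper12.SubQ
  Groth.Agent.Lib.Helper12.SubQB Groth.Agent.Lib.Helper12.SubQC Groth.Agent.Lib.Helper12.JHA
  Groth.Agent.Lib.Helper12.MDA Groth.Agent.Lib.Helper12.HNA Groth.Agent.Lib.Helper12.HNB StabCat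

/-- seesaw: strict version -/
theorem hatSlope_add_lt {n : ℕ} {P Q : ℚ[X]} {c : ℚ} (hP : 0 < alpha n P) (hQ : 0 < alpha n Q)
    (h1 : hatSlope n P ≤ c) (h2 : hatSlope n Q < c) : hatSlope n (P + Q) < c := by
  rw [hatSlope_add]
  unfold hatSlope at h1 h2
  rw [div_le_iff₀ hP] at h1
  rw [div_lt_iff₀ hQ] at h2
  rw [div_lt_iff₀ (by linarith)]
  nlinarith

theorem hatSlope_add_le {n : ℕ} {P Q : ℚ[X]} {c : ℚ} (hP : 0 < alpha n P) (hQ : 0 < alpha n Q)
    (h1 : hatSlope n P ≤ c) (h2 : hatSlope n Q ≤ c) : hatSlope n (P + Q) ≤ c := by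
  rw [hatSlope_add]
  unfold hatSlope at h1 h2
  rw [div_le_iff₀ hP] at h1
  rw [div_le_iff₀ hQ] at h2
  rw [div_le_iff₀ (by linarith)]
  nlinarith

/-- if `μ(P + Q) < μ(P)` then `μ(Q) < μ(P)` -/
theorem hatSlope_lt_of_add_lt {n : ℕ} {P Q : ℚ[X]} (hP : 0 < alpha n P) (hQ : 0 < alpha n Q)
    (h : hatSlope n (P + Q) < hatSlope n P) : hatSlope n Q < hatSlope n P := by
  rw [hatSlope_add] at h
  unfold hatSlope at h ⊢
  rw [div_lt_div_iff₀ (by linarith) hP] at h
  rw [div_lt_div_iff₀ hQ hP]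
  nlinarith

variable (k : Type u) [Field k] (X : Scheme.{u}) [X.Over (Spec (CommRingCat.of k))]
  [IsProper (X ↘ (Spec (CommRingCat.of k)))] (L : X.Modules) (hL : CohB1.IsAmple L) (n : ℕ)

/-- the maximal slope-destabilising submodule -/
def IsMuMaxDestab (E F : X.Modules) (ι : F ⟶ E) : Prop :=
  Mono ι ∧ Coh.IsCoh F ∧ ¬ IsZero F ∧
    ∀ (G : X.Modules) (κ : G ⟶ E), Mono κ → Coh.IsCoh G → ¬ IsZero G →
      ∀ (pF pG : ℚ[X]), ShStab.IsHilbPoly k X L F pF → ShStab.IsHilbPoly k X L G pG →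
        hatSlope n pG ≤ hatSlope n pF ∧ (hatSlope n pG = hatSlope n pF → ∃ φ : G ⟶ F, φ ≫ ι = κ)

include hL in
theorem natDegree_le_of_dim_le (E : X.Modules) (hE : Coh.IsCoh E)
    (hd : topologicalKrullDim ↥(CohB1.support E) ≤ (n : WithBot ℕ∞)) {P : ℚ[X]}
    (hP : ShStab.IsHilbPoly k X L E P) : P.natDegree ≤ n :=
  (alpha_eq k X L hL.1 E hE n hd hP).1

include hL in
/-- a pure sheaf all of whose nonzero coherent submodules have at most its slope is slope-semistable -/
theorem isMuSemistable_of_forall_le {E : X.Modules} (hE : Coh.IsCoh E) (h0 : ¬ IsZero E)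
    (hp : ShStab.IsPure X E n)
    (h : ∀ (G : X.Modules) (κ : G ⟶ E), Mono κ → Coh.IsCoh G → ¬ IsZero G → ∀ pG pE : ℚ[X],
      ShStab.IsHilbPoly k X L G pG → ShStab.IsHilbPoly k X L E pE → hatSlope n pG ≤ hatSlope n pE) :
    ShStab.IsMuSemistable k X L E n := by
  have hdimE := dim_eq_of_isPure hp hE h0
  refine ⟨hE, h0, hdimE, ?_, ?_⟩
  · intro F ι hι hF
    by_cases hF0 : IsZero F
    · rw [support_eq_empty_of_isZero hF0]
      have : topologicalKrullDim ↥(∅ : Set X) = ⊥ := by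
        unfold topologicalKrullDim
        rw [Order.krullDim_eq_bot_iff]
        exact ⟨fun T => T.isIrreducible.nonempty.elim fun x _ => x.2.elim⟩
      rw [this]
      simp
    · rw [hp F ι hι hF hF0]
      intro h
      have h' : ((n + 1 : ℕ) : WithBot ℕ∞) = ((n : ℕ) : WithBot ℕ∞) := by
        rw [← h]; push_cast; rfl
      have : (n + 1 : ℕ) = n := by exact_mod_cast h'
      omega
  · intro F ι hι hF pF pE hpF hpE h1 h2
    have hF0 : ¬ IsZero F := fun hz => by
      have := hilbPoly_unique k X hpF (hilbPoly_zero k X L hL.1 hz)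
      rw [this, alpha_zero] at h1
      exact lt_irrefl _ h1
    exact h F ι hι hF hF0 pF pE hpF hpE

include hL in
/-- existence of the maximal slope-destabilising submodule -/
theorem exists_muMaxDestab (hn : 1 ≤ n) {E : X.Modules} (hE : Coh.IsCoh E) (h0 : ¬ IsZero E)
    (hp : ShStab.IsPure X E n) : ∃ (F : X.Modules) (ι : F ⟶ E), IsMuMaxDestab k X L n E F ι := by
  haveI : IsNoetherian X := Groth.Agent.Lib.Helper4.CurveRR.isNoetherian_of_proper k X
  haveI : IsLocallyNoetherian X := inferInstance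
  have hdimE := dim_eq_of_isPure hp hE h0
  have hpos : ∀ (G : X.Modules) (κ : G ⟶ E), Mono κ → Coh.IsCoh G → ¬ IsZero G → ∀ pG : ℚ[X],
      ShStab.IsHilbPoly k X L G pG → 0 < alpha n pG := fun G κ hκ hG hG0 pG hpG =>
    alpha_pos k X L hL G hG n (hp G κ hκ hG hG0) hpG
  have hdeg : ∀ (G : X.Modules) (κ : G ⟶ E), Mono κ → Coh.IsCoh G → ∀ pG : ℚ[X],
      ShStab.IsHilbPoly k X L G pG → pG.natDegree ≤ n := fun G κ hκ hG pG hpG =>
    haveI := hκ
    natDegree_le_of_dim_le k X L hL n G hG ((dim_le_of_mono κ).trans hdimE.le) hpG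
  obtain ⟨F₀, ι₀, hι₀, hF₀, hF₀0, hmax₀⟩ := exists_maxDestab k X L hL n hE h0 hp
  haveI := hι₀
  obtain ⟨pF₀, hpF₀⟩ := exists_hilbPoly k X L hL.1 F₀ hF₀
  have haF₀ := hpos F₀ ι₀ hι₀ hF₀ hF₀0 pF₀ hpF₀
  -- the bound
  have hbound : ∀ (G : X.Modules) (κ : G ⟶ E), Mono κ → Coh.IsCoh G → ¬ IsZero G → ∀ pG : ℚ[X],
      ShStab.IsHilbPoly k X L G pG → hatSlope n pG ≤ hatSlope n pF₀ := by
    intro G κ hκ hG hG0 pG hpG
    exact hatSlope_le_of_redLE hn (hdeg G κ hκ hG pG hpG) (hdeg F₀ ι₀ hι₀ hF₀ pF₀ hpF₀)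
      (hpos G κ hκ hG hG0 pG hpG) haF₀ (hmax₀ G κ hκ hG hG0 pF₀ pG hpF₀ hpG).1
  let P : Subobject E → Prop := fun A => Coh.IsCoh ((A : Subobject E) : X.Modules) ∧
    ¬ IsZero ((A : Subobject E) : X.Modules) ∧
    ∀ pA : ℚ[X], ShStab.IsHilbPoly k X L ((A : Subobject E) : X.Modules) pA →
      hatSlope n pF₀ ≤ hatSlope n pA
  have hP0 : P (Subobject.mk ι₀) := by
    refine ⟨isCoh_of_iso (Subobject.underlyingIso ι₀).symm hF₀,
      fun hz => hF₀0 (IsZero.of_iso hz (Subobject.underlyingIso ι₀).symm), fun pA hpA => ?_⟩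
    have := hilbPoly_unique k X (hilbPoly_of_iso k X L hL.1 (Subobject.underlyingIso ι₀) hpA) hpF₀
    rw [this]
  obtain ⟨A, hPA, hGA, hAmax⟩ := exists_maximal_sub X E hE P (fun A hA => hA.1.1) _ hP0
  have hA : Coh.IsCoh ((A : Subobject E) : X.Modules) := hPA.1
  have hA0 := hPA.2.1
  obtain ⟨pA, hpA⟩ := exists_hilbPoly k X L hL.1 _ hA
  have haA := hpos _ A.arrow inferInstance hA hA0 pA hpA
  have hμA : hatSlope n pA = hatSlope n pF₀ :=
    le_antisymm (hbound _ A.arrow inferInstance hA hA0 pA hpA) (hPA.2.2 pA hpA)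
  refine ⟨_, A.arrow, inferInstance, hA, hA0, ?_⟩
  intro G κ hκ hG hG0 pF' pG hpF' hpG
  haveI := hκ
  have := hilbPoly_unique k X hpF' hpA
  subst this
  have hle := hbound G κ hκ hG hG0 pG hpG
  rw [← hμA] at hle
  refine ⟨hle, fun heq => ?_⟩
  have haG := hpos G κ hκ hG hG0 pG hpG
  obtain ⟨hS, hI, pI, pS, hpI, hpS, hadd⟩ :=
    sum_inter_hilbPoly k X L hL hE hA hG A.arrow κ hpA hpG
  -- the slope of the sum
  have hS0 : ¬ IsZero (sumObj A.arrow κ) := fun hz => hA0 (IsZero.of_mono (sumInl A.arrow κ) hz)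
  have haS := hpos _ (sumι A.arrow κ) inferInstance hS hS0 pS hpS
  have hI1 : alpha (n - 1) pI ≤ hatSlope n pF₀ * alpha n pI := by
    by_cases hI0 : IsZero (interObj A.arrow κ)
    · have := hilbPoly_unique k X hpI (hilbPoly_zero k X L hL.1 hI0)
      rw [this, alpha_zero, alpha_zero, mul_zero]
    · have haI := hpos _ (interFst A.arrow κ ≫ A.arrow) inferInstance hI hI0 pI hpI
      have h1 := hbound _ (interFst A.arrow κ ≫ A.arrow) inferInstance hI hI0 pI hpI
      unfold hatSlope at h1 ⊢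
      rwa [div_le_iff₀ haI] at h1
  have hμS : hatSlope n pF₀ ≤ hatSlope n pS := by
    have e1 := congrArg (alpha n) hadd
    have e2 := congrArg (alpha (n - 1)) hadd
    rw [alpha_add, alpha_add] at e1 e2
    have hA1 : alpha (n - 1) pF' = hatSlope n pF₀ * alpha n pF' := by
      rw [← hμA]; unfold hatSlope; field_simp
    have hG1 : alpha (n - 1) pG = hatSlope n pF₀ * alpha n pG := by
      rw [← hμA, ← heq]; unfold hatSlope; field_simp
    have : hatSlope n pS = alpha (n - 1) pS / alpha n pS := rfl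
    rw [this, le_div_iff₀ haS]
    have e1' : alpha n pS = alpha n pF' + alpha n pG - alpha n pI := by linarith
    have e2' : alpha (n - 1) pS = alpha (n - 1) pF' + alpha (n - 1) pG - alpha (n - 1) pI := by linarith
    rw [e1', e2', hA1, hG1, mul_sub, mul_add]
    linarith
  have hPB : P (Subobject.mk (sumι A.arrow κ)) := by
    refine ⟨isCoh_of_iso (Subobject.underlyingIso _).symm hS,
      fun hz => hS0 (IsZero.of_iso hz (Subobject.underlyingIso _).symm), fun pB hpB => ?_⟩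
    have := hilbPoly_unique k X (hilbPoly_of_iso k X L hL.1 (Subobject.underlyingIso _) hpB) hpS
    rw [this]
    exact hμS
  have hAB : A ≤ Subobject.mk (sumι A.arrow κ) :=
    Subobject.le_mk_of_comm (sumInl A.arrow κ) (sumInl_ι A.arrow κ)
  have hBA := hAmax _ hPB hAB
  have h1 : (Subobject.isoOfEqMk A (sumι A.arrow κ) hBA.symm).hom = sumInl A.arrow κ := by
    rw [← cancel_mono (sumι A.arrow κ), sumInl_ι, Subobject.isoOfEqMk_hom, Subobject.ofLEMk_comp]
  haveI : IsIso (sumInl A.arrow κ) := by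
    rw [← h1]
    infer_instance
  exact exists_factor_of_isIso_sumInl A.arrow κ

include hL in
/-- the maximal slope-destabilising submodule of a pure sheaf is pure and slope-semistable -/
theorem isMuSemistable_of_isMuMaxDestab {E F : X.Modules} (ι : F ⟶ E) (h : IsMuMaxDestab k X L n E F ι)
    (hp : ShStab.IsPure X E n) : ShStab.IsPure X F n ∧ ShStab.IsMuSemistable k X L F n := by
  obtain ⟨hι, hF, hF0, hmax⟩ := h
  haveI := hι
  have hpF := isPure_of_mono hp ι
  refine ⟨hpF, isMuSemistable_of_forall_le k X L hL n hF hF0 hpF ?_⟩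
  intro G κ hκ hG hG0 pG pF hpG hpF'
  haveI := hκ
  exact (hmax G (κ ≫ ι) inferInstance hG hG0 pF pG hpF' hpG).1

include hL in
/-- a coherent submodule of `E` containing `F` whose Hilbert polynomial is that of `F` plus `pT`: if it factors
through `F` then `pT + pC = 0` for the Hilbert polynomial `pC` of a coherent module -/
theorem factor_facts {E F K : X.Modules} (hE : Coh.IsCoh E) (hF : Coh.IsCoh F) (hK : Coh.IsCoh K)
    (ι : F ⟶ E) [Mono ι] (κ : K ⟶ E) [Mono κ] (φ : K ⟶ F) (hφ : φ ≫ ι = κ) {pF pT : ℚ[X]}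
    (hpF : ShStab.IsHilbPoly k X L F pF) (hpK : ShStab.IsHilbPoly k X L K (pF + pT))
    (hdim : topologicalKrullDim ↥(CohB1.support E) ≤ (n : WithBot ℕ∞)) :
    ∃ pC : ℚ[X], pT + pC = 0 ∧ 0 ≤ alpha n pC ∧ (pC = 0 ∨ 0 < pC.leadingCoeff) := by
  haveI : IsNoetherian X := Groth.Agent.Lib.Helper4.CurveRR.isNoetherian_of_proper k X
  haveI : IsLocallyNoetherian X := inferInstance
  haveI : Mono φ := mono_of_mono_fac hφ
  have hC : Coh.IsCoh (cokernel φ) := isCoh_cokernel φ hK hF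
  obtain ⟨pC, hpC⟩ := exists_hilbPoly k X L hL.1 _ hC
  have hadd := hilbPoly_eq_add_of_mono k X L hL hK φ hF hpK hpF hpC
  have haC : 0 ≤ alpha n pC := alpha_nonneg k X L hL _ hC n
    (((dim_le_of_epi (cokernel.π φ)).trans (dim_le_of_mono ι)).trans hdim) hpC
  refine ⟨pC, ?_, haC, ?_⟩
  · have : pF + (pT + pC) = pF + 0 := by rw [add_zero, ← add_assoc]; exact hadd.symm
    exact add_left_cancel this
  · by_cases hC0 : IsZero (cokernel φ)
    · exact Or.inl (hilbPoly_unique k X hpC (hilbPoly_zero k X L hL.1 hC0))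
    · exact Or.inr (leadingCoeff_pos k X L hL _ hC hC0 hpC)

include hL in
/-- the quotient by the maximal slope-destabilising submodule is pure -/
theorem isPure_cokernel_of_isMuMaxDestab (hn : 1 ≤ n) {E F : X.Modules} (hE : Coh.IsCoh E) (h0 : ¬ IsZero E)
    (hp : ShStab.IsPure X E n) (ι : F ⟶ E) (h : IsMuMaxDestab k X L n E F ι) :
    ShStab.IsPure X (cokernel ι) n := by
  haveI : IsNoetherian X := Groth.Agent.Lib.Helper4.CurveRR.isNoetherian_of_proper k X
  haveI : IsLocallyNoetherian X := inferInstance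
  obtain ⟨hι, hF, hF0, hmax⟩ := h
  haveI := hι
  have hdimE := dim_eq_of_isPure hp hE h0
  intro T κ hκ hT hT0
  haveI := hκ
  have hle : topologicalKrullDim ↥(CohB1.support T) ≤ (n : WithBot ℕ∞) :=
    ((dim_le_of_mono κ).trans (dim_le_of_epi (cokernel.π ι))).trans hdimE.le
  by_contra hne
  have hlt : topologicalKrullDim ↥(CohB1.support T) < (n : WithBot ℕ∞) := lt_of_le_of_ne hle hne
  obtain ⟨pF, hpF⟩ := exists_hilbPoly k X L hL.1 F hF
  obtain ⟨pT, hpT⟩ := exists_hilbPoly k X L hL.1 T hT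
  have haT := alpha_eq_zero k X L hL.1 T hT n hlt hpT
  have haT1 := alpha_pred_nonneg k X L hL n hn T hT hlt hpT
  have haF := alpha_pos k X L hL F hF n (hp F ι hι hF hF0) hpF
  obtain ⟨hK, hpK⟩ := preimage_hilbPoly k X L hL hE hF ι hT κ hpF hpT
  have haK : alpha n (pF + pT) = alpha n pF := by rw [alpha_add, haT, add_zero]
  have hK0 : ¬ IsZero (kernel (cokernel.π ι ≫ cokernel.π κ)) := by
    intro hz
    have := hilbPoly_unique k X hpK (hilbPoly_zero k X L hL.1 hz)
    rw [this, alpha_zero] at haK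
    linarith
  obtain ⟨h1, h2⟩ := hmax _ (kernel.ι (cokernel.π ι ≫ cokernel.π κ)) inferInstance hK hK0 pF (pF + pT)
    hpF hpK
  have h3 : hatSlope n pF ≤ hatSlope n (pF + pT) := by
    rw [hatSlope_add, haT, add_zero]
    unfold hatSlope
    exact div_le_div_of_nonneg_right (by linarith) haF.le
  obtain ⟨φ, hφ⟩ := h2 (le_antisymm h1 h3)
  obtain ⟨pC, hsum, -, hC⟩ := factor_facts k X L hL n hE hF hK ι _ φ hφ hpF hpK hdimE.le
  have hlT := leadingCoeff_pos k X L hL T hT hT0 hpT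
  have hpC : pC = -pT := by
    rw [eq_neg_iff_add_eq_zero, add_comm]; exact hsum
  rcases hC with hC | hC
  · rw [hC, add_zero] at hsum
    rw [hsum, leadingCoeff_zero] at hlT
    exact lt_irrefl _ hlT
  · rw [hpC, leadingCoeff_neg] at hC
    linarith

include hL in
/-- the junction inequality for slopes -/
theorem mu_junction_lt (hn : 1 ≤ n) {E F : X.Modules} (hE : Coh.IsCoh E) (h0 : ¬ IsZero E)
    (hp : ShStab.IsPure X E n) (ι : F ⟶ E) (h : IsMuMaxDestab k X L n E F ι)
    {G : X.Modules} (κ : G ⟶ cokernel ι) [Mono κ] (hG : Coh.IsCoh G) (hG0 : ¬ IsZero G)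
    {pF pG : ℚ[X]} (hpF : ShStab.IsHilbPoly k X L F pF) (hpG : ShStab.IsHilbPoly k X L G pG) :
    hatSlope n pG < hatSlope n pF := by
  haveI : IsNoetherian X := Groth.Agent.Lib.Helper4.CurveRR.isNoetherian_of_proper k X
  haveI : IsLocallyNoetherian X := inferInstance
  have hQp := isPure_cokernel_of_isMuMaxDestab k X L hL n hn hE h0 hp ι h
  obtain ⟨hι, hF, hF0, hmax⟩ := h
  haveI := hι
  have hdimE := dim_eq_of_isPure hp hE h0
  have haF := alpha_pos k X L hL F hF n (hp F ι hι hF hF0) hpF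
  have haG := alpha_pos k X L hL G hG n (hQp G κ inferInstance hG hG0) hpG
  obtain ⟨hK, hpK⟩ := preimage_hilbPoly k X L hL hE hF ι hG κ hpF hpG
  have haK : alpha n (pF + pG) = alpha n pF + alpha n pG := alpha_add n pF pG
  have hK0 : ¬ IsZero (kernel (cokernel.π ι ≫ cokernel.π κ)) := by
    intro hz
    have := hilbPoly_unique k X hpK (hilbPoly_zero k X L hL.1 hz)
    rw [this, alpha_zero] at haK
    linarith
  obtain ⟨h1, h2⟩ := hmax _ (kernel.ι (cokernel.π ι ≫ cokernel.π κ)) inferInstance hK hK0 pF (pF + pG)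
    hpF hpK
  rcases h1.lt_or_eq with hlt | heq
  · exact hatSlope_lt_of_add_lt haF haG hlt
  · exfalso
    obtain ⟨φ, hφ⟩ := h2 heq
    obtain ⟨pC, hsum, haC, -⟩ := factor_facts k X L hL n hE hF hK ι _ φ hφ hpF hpK hdimE.le
    have := congrArg (alpha n) hsum
    rw [alpha_add, alpha_zero] at this
    linarith

end Groth.Agent.Lib.Helper12.MuA
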