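import Mathlib
import Groth.Agent.Lib.Helper12HNC
import Groth.Agent.Lib.Helper12MuHNA
set_option backward.isDefEq.respectTransparency.types false

/-!
# `ℓ`-Harder–Narasimhan chains and the minimal destabilising quotient (helper12)
-/

set_option autoImplicit false
set_option linter.style.haveILetI false
set_option linter.unusedSectionVars false
set_option linter.unusedVariables false
universe u
open CategoryTheory CategoryTheory.Limits AlgebraicGeometry TopologicalSpace Opposite Polynomial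

namespace Groth.Agent.Lib.Helper12.EllA

open Groth.Agent.Lib.Helper4.Dev Groth.Agent.Lib.Helper4.CurveChi
  Groth.Agent.Lib.Helper12.Snap Groth.Agent.Lib.Helper12.Pos Groth.Agent.Lib.Helper12.HP
  Groth.Agent.Lib.Helper12.HPB Groth.Agent.Lib.Helper12.HPC Groth.Agent.Lib.Helper12.HPD
  Groth.Agent.Lib.Helper12.HPE Groth.Agent.Lib.Helper12.HPF Groth.Agent.Lib.Helper12.SubQ
  Groth.Agent.Lib.Helper12.SubQB Groth.Agent.Lib.Helper12.SubQC Groth.Agent.Lib.Helper12.JHA
  Groth.Agent.Lib.Helper12.MDA Groth.Agent.Lib.Helper12.HNA Groth.Agent.Lib.Helper12.HNB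
  Groth.Agent.Lib.Helper12.HNC Groth.Agent.Lib.Helper12.MuA StabCat

theorem topPart_zero (ℓ d : ℕ) : topPart ℓ d (0 : ℚ[X]) = 0 := by
  have := topPart_smul ℓ d 0 (0 : ℚ[X])
  rw [zero_smul, zero_smul] at this
  exact this

theorem redLT_add_of_lt_of_le {d : ℕ} {P Q₁ Q₂ : ℚ[X]} (h₁ : RedLT d P Q₁) (h₂ : RedLE d P Q₂) :
    RedLT d P (Q₁ + Q₂) := by
  unfold RedLE RedLT at *
  rw [alpha_add]
  refine polyLT_of_forall₂_le_lt h₂ h₁ fun x hy hx => ?_
  simp only [eval_smul, smul_eq_mul, eval_add] at hx hy ⊢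
  nlinarith

theorem redLT_add_of_le_of_lt {d : ℕ} {P Q₁ Q₂ : ℚ[X]} (h₁ : RedLE d P Q₁) (h₂ : RedLT d P Q₂) :
    RedLT d P (Q₁ + Q₂) := by
  rw [add_comm]
  exact redLT_add_of_lt_of_le h₂ h₁

variable (k : Type u) [Field k] (X : Scheme.{u}) [X.Over (Spec (CommRingCat.of k))]
  [IsProper (X ↘ (Spec (CommRingCat.of k)))] (L : X.Modules) (hL : CohB1.IsAmple L) (d ℓ : ℕ)

include hL in
/-- the truncation of the Hilbert polynomial of a coherent module of dimension `≤ d` is eventually nonnegative -/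
theorem polyLE_zero_topPart (Q : X.Modules) (hQ : Coh.IsCoh Q)
    (hdim : topologicalKrullDim ↥(CohB1.support Q) ≤ (d : WithBot ℕ∞)) {pQ : ℚ[X]}
    (hpQ : ShStab.IsHilbPoly k X L Q pQ) : PolyLE 0 (topPart ℓ d pQ) := by
  by_cases h0 : topPart ℓ d pQ = 0
  · rw [h0]; exact polyLE_refl 0
  · have hQ0 : ¬ IsZero Q := fun hz => h0 (by
      rw [hilbPoly_unique k X hpQ (hilbPoly_zero k X L hL.1 hz), topPart_zero])
    apply polyLE_zero_of_leadingCoeff_pos
    right
    rw [leadingCoeff_topPart (natDegree_le_of_dim_le k X L hL d Q hQ hdim hpQ) h0]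
    exact leadingCoeff_pos k X L hL Q hQ hQ0 hpQ

include hL in
theorem isEllSemistable_of_iso {E E' : X.Modules} (e : E ≅ E') (h : ShStab.IsEllSemistable k X L E d ℓ) :
    ShStab.IsEllSemistable k X L E' d ℓ := by
  refine ⟨isCoh_of_iso e h.1, fun h0 => h.2.1 (IsZero.of_iso h0 e), isPure_of_iso X d e h.2.2.1, ?_⟩
  intro F ι hι hF pF pE hpF hpE
  haveI := hι
  exact h.2.2.2 F (ι ≫ e.inv) (mono_comp _ _) hF pF pE hpF (hilbPoly_of_iso k X L hL.1 e.symm hpE)

include hL in
/-- quotients of an `ℓ`-semistable sheaf have larger reduced truncated Hilbert polynomial -/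
theorem ell_quot_ge {N Q : X.Modules} (hN : ShStab.IsEllSemistable k X L N d ℓ) (e : N ⟶ Q) [Epi e]
    (hQ : Coh.IsCoh Q) {pN pQ : ℚ[X]} (hpN : ShStab.IsHilbPoly k X L N pN)
    (hpQ : ShStab.IsHilbPoly k X L Q pQ) : RedLE d (topPart ℓ d pN) (topPart ℓ d pQ) := by
  haveI : IsNoetherian X := Groth.Agent.Lib.Helper4.CurveRR.isNoetherian_of_proper k X
  haveI : IsLocallyNoetherian X := inferInstance
  have hdimN := dim_eq_of_isPure hN.2.2.1 hN.1 hN.2.1
  have hK : Coh.IsCoh (kernel e) := isCoh_kernel e hN.1 hQ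
  obtain ⟨pK, hpK⟩ := exists_hilbPoly k X L hL.1 _ hK
  have hadd := hilbPoly_eq_add_of_epi k X L hL hN.1 e hQ hpK hpN hpQ
  have hdQ : topologicalKrullDim ↥(CohB1.support Q) ≤ (d : WithBot ℕ∞) :=
    (dim_le_of_epi e).trans hdimN.le
  have haQ := alpha_nonneg k X L hL Q hQ d hdQ hpQ
  have haN := alpha_pos k X L hL N hN.1 d hdimN hpN
  rcases haQ.lt_or_eq with hpos | hzero
  · by_cases hK0 : IsZero (kernel e)
    · have := hilbPoly_unique k X hpK (hilbPoly_zero k X L hL.1 hK0)
      rw [hadd, this, zero_add]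
      exact redLE_refl d _
    · have haK := alpha_pos k X L hL _ hK d (hN.2.2.1 _ (kernel.ι e) inferInstance hK hK0) hpK
      have h1 := hN.2.2.2 _ (kernel.ι e) inferInstance hK pK pN hpK hpN haK
        (by rw [hadd, alpha_add]; linarith)
      rw [hadd, topPart_add] at h1 ⊢
      exact (redLE_add_iff_right d _ _).2 ((redLE_add_iff_left d _ _).1 h1)
  · unfold RedLE
    rw [alpha_topPart, alpha_topPart, ← hzero, zero_smul]
    refine polyLE_of_forall (polyLE_zero_topPart k X L hL d ℓ Q hQ hdQ hpQ) fun x hx => ?_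
    simp only [eval_zero, eval_smul, smul_eq_mul] at hx ⊢
    exact mul_nonneg haN.le hx

/-- the data of an `ℓ`-Harder–Narasimhan chain, as a function on `ℕ` -/
structure IsEllHNChain {E : X.Modules} (S : ℕ → Subobject E) (hS : Monotone S) (N : ℕ) : Prop where
  ss : ∀ j, j < N → ShStab.IsEllSemistable k X L
    (cokernel (Subobject.ofLE (S j) (S (j + 1)) (hS (Nat.le_succ j)))) d ℓ
  lt : ∀ j, j + 1 < N → ∀ p q : ℚ[X],
    ShStab.IsHilbPoly k X L (cokernel (Subobject.ofLE (S j) (S (j + 1)) (hS (Nat.le_succ j)))) p →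
    ShStab.IsHilbPoly k X L
      (cokernel (Subobject.ofLE (S (j + 1)) (S (j + 1 + 1)) (hS (Nat.le_succ (j + 1))))) q →
    RedLT d (topPart ℓ d q) (topPart ℓ d p)

include hL in
theorem alpha_pos_of_isEllSemistable {G : X.Modules} (h : ShStab.IsEllSemistable k X L G d ℓ) {p : ℚ[X]}
    (hp : ShStab.IsHilbPoly k X L G p) : 0 < alpha d p :=
  alpha_pos k X L hL G h.1 d (dim_eq_of_isPure h.2.2.1 h.1 h.2.1) hp

include hL in
/-- the reduced truncated Hilbert polynomials of the factors decrease -/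
theorem IsEllHNChain.lt_of_lt {E : X.Modules} {S : ℕ → Subobject E} {hS : Monotone S} {N : ℕ}
    (h : IsEllHNChain k X L d ℓ S hS N) (i : ℕ) : ∀ j, i + 1 ≤ j → j < N → ∀ p q : ℚ[X],
    ShStab.IsHilbPoly k X L (cokernel (Subobject.ofLE (S i) (S (i + 1)) (hS (Nat.le_succ i)))) p →
    ShStab.IsHilbPoly k X L (cokernel (Subobject.ofLE (S j) (S (j + 1)) (hS (Nat.le_succ j)))) q →
    RedLT d (topPart ℓ d q) (topPart ℓ d p) := by
  intro j hij
  induction j, hij using Nat.le_induction with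
  | base => intro hj p q hp hq; exact h.lt i hj p q hp hq
  | succ j hij ih =>
    intro hj p q hp hq
    have hssj := h.ss j (by omega)
    obtain ⟨r, hr⟩ := exists_hilbPoly k X L hL.1 _ hssj.1
    have h1 := ih (by omega) p r hp hr
    have h2 := h.lt j hj r q hr hq
    have har := alpha_pos_of_isEllSemistable k X L hL d ℓ hssj hr
    have haq := alpha_pos_of_isEllSemistable k X L hL d ℓ (h.ss (j + 1) hj) hq
    have hap := alpha_pos_of_isEllSemistable k X L hL d ℓ (h.ss i (by omega)) hp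
    refine redLT_of_redLT_of_redLE (Q := topPart ℓ d r) ?_ ?_ ?_ h2 (redLE_of_redLT h1)
    · rw [alpha_topPart]; exact har
    · rw [alpha_topPart]; exact haq.le
    · rw [alpha_topPart]; exact hap

include hL in
/-- the terms of a chain starting at `⊥` are coherent -/
theorem IsEllHNChain.isCoh {E : X.Modules} {S : ℕ → Subobject E} {hS : Monotone S} {N : ℕ}
    (h : IsEllHNChain k X L d ℓ S hS N) (h0 : S 0 = ⊥) :
    ∀ j, j ≤ N → Coh.IsCoh ((S j : Subobject E) : X.Modules) := by
  haveI : IsNoetherian X := Groth.Agent.Lib.Helper4.CurveRR.isNoetherian_of_proper k X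
  haveI : IsLocallyNoetherian X := inferInstance
  intro j
  induction j with
  | zero =>
    intro _
    rw [h0]
    have hz : IsZero (((⊥ : Subobject E) : Subobject E) : X.Modules) :=
      IsZero.of_iso (isZero_zero _) Subobject.botCoeIsoZero
    exact isCoh_of_isZero hz (isCoh_structureModule X)
  | succ j ih =>
    intro hj
    exact Groth.Agent.Lib.Helper4.CohThick.isCoh_of_shortExact
      (sesOfMono (Subobject.ofLE (S j) (S (j + 1)) (hS (Nat.le_succ j))))
      (sesOfMono_shortExact _) (ih (by omega)) (h.ss j (by omega)).1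

include hL in
/-- quotients of the terms before the last one have strictly larger reduced truncated Hilbert polynomial than
the last factor -/
theorem IsEllHNChain.quot_gt {E : X.Modules} {S : ℕ → Subobject E} {hS : Monotone S} {M : ℕ}
    (h : IsEllHNChain k X L d ℓ S hS (M + 1)) (h0 : S 0 = ⊥)
    (hdimE : topologicalKrullDim ↥(CohB1.support E) ≤ (d : WithBot ℕ∞)) (pF : ℚ[X])
    (hpF : ShStab.IsHilbPoly k X L (cokernel (Subobject.ofLE (S M) (S (M + 1)) (hS (Nat.le_succ M)))) pF) :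
    ∀ j, j ≤ M → ∀ (T : X.Modules) (q : ((S j : Subobject E) : X.Modules) ⟶ T), Epi q → Coh.IsCoh T →
      ∀ pT : ℚ[X], ShStab.IsHilbPoly k X L T pT →
      RedLE d (topPart ℓ d pF) (topPart ℓ d pT) ∧
        (0 < alpha d pT → RedLT d (topPart ℓ d pF) (topPart ℓ d pT)) := by
  haveI : IsNoetherian X := Groth.Agent.Lib.Helper4.CurveRR.isNoetherian_of_proper k X
  haveI : IsLocallyNoetherian X := inferInstance
  have haF := alpha_pos_of_isEllSemistable k X L hL d ℓ (h.ss M (by omega)) hpF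
  intro j
  induction j with
  | zero =>
    intro _ T q hq hT pT hpT
    haveI := hq
    have hz : IsZero ((S 0 : Subobject E) : X.Modules) := by
      rw [h0]
      exact IsZero.of_iso (isZero_zero _) Subobject.botCoeIsoZero
    have hz' : IsZero T := by
      rw [IsZero.iff_id_eq_zero, ← cancel_epi q, hz.eq_of_src (q ≫ 𝟙 T) (q ≫ 0)]
    rw [hilbPoly_unique k X hpT (hilbPoly_zero k X L hL.1 hz'), topPart_zero, alpha_zero]
    exact ⟨redLE_zero_right d _, fun h' => absurd h' (lt_irrefl _)⟩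
  | succ j ih =>
    intro hj T q hq hT pT hpT
    haveI := hq
    have hSj := h.isCoh k X L hL d ℓ h0 j (by omega)
    have hss := h.ss j (by omega)
    have hT'' : Coh.IsCoh (cokernel (Subobject.ofLE (S j) (S (j + 1)) (hS (Nat.le_succ j)) ≫ q)) :=
      isCoh_cokernel _ hSj hT
    have hT' : Coh.IsCoh (Abelian.image (Subobject.ofLE (S j) (S (j + 1)) (hS (Nat.le_succ j)) ≫ q)) :=
      isCoh_kernel _ hT hT''
    obtain ⟨pT', hpT'⟩ := exists_hilbPoly k X L hL.1 _ hT'
    obtain ⟨pT'', hpT''⟩ := exists_hilbPoly k X L hL.1 _ hT''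
    obtain ⟨pj, hpj⟩ := exists_hilbPoly k X L hL.1 _ hss.1
    have hapj := alpha_pos_of_isEllSemistable k X L hL d ℓ hss hpj
    have hadd := hilbPoly_eq_add_of_epi k X L hL hT
      (cokernel.π (Subobject.ofLE (S j) (S (j + 1)) (hS (Nat.le_succ j)) ≫ q)) hT'' hpT' hpT hpT''
    obtain ⟨a1, a2⟩ := ih (by omega) _ (Abelian.factorThruImage _) inferInstance hT' pT' hpT'
    have hw : Subobject.ofLE (S j) (S (j + 1)) (hS (Nat.le_succ j)) ≫
        q ≫ cokernel.π (Subobject.ofLE (S j) (S (j + 1)) (hS (Nat.le_succ j)) ≫ q) = 0 := by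
      rw [← Category.assoc, cokernel.condition]
    haveI : Epi (cokernel.desc (Subobject.ofLE (S j) (S (j + 1)) (hS (Nat.le_succ j)))
        (q ≫ cokernel.π (Subobject.ofLE (S j) (S (j + 1)) (hS (Nat.le_succ j)) ≫ q)) hw) := by
      have : cokernel.π (Subobject.ofLE (S j) (S (j + 1)) (hS (Nat.le_succ j))) ≫
          cokernel.desc (Subobject.ofLE (S j) (S (j + 1)) (hS (Nat.le_succ j)))
            (q ≫ cokernel.π (Subobject.ofLE (S j) (S (j + 1)) (hS (Nat.le_succ j)) ≫ q)) hw
          = q ≫ cokernel.π (Subobject.ofLE (S j) (S (j + 1)) (hS (Nat.le_succ j)) ≫ q) :=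
        cokernel.π_desc _ _ _
      exact epi_of_epi_fac this
    have h2 : RedLE d (topPart ℓ d pj) (topPart ℓ d pT'') := ell_quot_ge k X L hL d ℓ hss
      (cokernel.desc (Subobject.ofLE (S j) (S (j + 1)) (hS (Nat.le_succ j)))
        (q ≫ cokernel.π (Subobject.ofLE (S j) (S (j + 1)) (hS (Nat.le_succ j)) ≫ q)) hw) hT'' hpj hpT''
    have hFj : RedLT d (topPart ℓ d pF) (topPart ℓ d pj) :=
      h.lt_of_lt k X L hL d ℓ j M (by omega) (by omega) pj pF hpj hpF
    have hdT : topologicalKrullDim ↥(CohB1.support T) ≤ (d : WithBot ℕ∞) :=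
      ((dim_le_of_epi q).trans (dim_le_of_mono (S (j + 1)).arrow)).trans hdimE
    have hdT'' : topologicalKrullDim ↥(CohB1.support
        (cokernel (Subobject.ofLE (S j) (S (j + 1)) (hS (Nat.le_succ j)) ≫ q))) ≤ (d : WithBot ℕ∞) :=
      (dim_le_of_epi (cokernel.π _)).trans hdT
    have hdT' : topologicalKrullDim ↥(CohB1.support
        (Abelian.image (Subobject.ofLE (S j) (S (j + 1)) (hS (Nat.le_succ j)) ≫ q))) ≤ (d : WithBot ℕ∞) :=
      (dim_le_of_mono (Abelian.image.ι _)).trans hdT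
    have haT'' := alpha_nonneg k X L hL _ hT'' d hdT'' hpT''
    have haT' := alpha_nonneg k X L hL _ hT' d hdT' hpT'
    have b1 : RedLE d (topPart ℓ d pF) (topPart ℓ d pT'') :=
      redLE_of_redLT_of_redLE' (P := topPart ℓ d pj) (by rw [alpha_topPart]; exact hapj)
        (by rw [alpha_topPart]; exact haF.le) (by rw [alpha_topPart]; exact haT'') hFj h2
    rw [hadd, topPart_add]
    refine ⟨redLE_add_right a1 b1, fun hpos => ?_⟩
    rw [alpha_add] at hpos
    by_cases hT'pos : 0 < alpha d pT'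
    · exact redLT_add_of_lt_of_le (a2 hT'pos) b1
    · have hT''pos : 0 < alpha d pT'' := by
        have : alpha d pT' = 0 := le_antisymm (not_lt.1 hT'pos) haT'
        linarith
      have b2 : RedLT d (topPart ℓ d pF) (topPart ℓ d pT'') :=
        redLT_of_redLT_of_redLE (Q := topPart ℓ d pj) (by rw [alpha_topPart]; exact hapj)
          (by rw [alpha_topPart]; exact haF.le) (by rw [alpha_topPart]; exact hT''pos) hFj h2
      exact redLT_add_of_le_of_lt a1 b2

end Groth.Agent.Lib.Helper12.EllA
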