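import Mathlib
import Groth.Agent.Lib.Helper12EllHNA
set_option backward.isDefEq.respectTransparency.types false

/-!
# The minimal `ℓ`-destabilising quotient (helper12)
-/

set_option autoImplicit false
set_option linter.style.haveILetI false
set_option linter.unusedSectionVars false
set_option linter.unusedVariables false
universe u
open CategoryTheory CategoryTheory.Limits AlgebraicGeometry TopologicalSpace Opposite Polynomial

namespace Groth.Agent.Lib.Helper12.EllB

open Groth.Agent.Lib.Helper4.Dev Groth.Agent.Lib.Helper4.CurveChi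
  Groth.Agent.Lib.Helper12.Snap Groth.Agent.Lib.Helper12.Pos Groth.Agent.Lib.Helper12.HP
  Groth.Agent.Lib.Helper12.HPB Groth.Agent.Lib.Helper12.HPC Groth.Agent.Lib.Helper12.HPD
  Groth.Agent.Lib.Helper12.HPE Groth.Agent.Lib.Helper12.HPF Groth.Agent.Lib.Helper12.SubQ
  Groth.Agent.Lib.Helper12.SubQB Groth.Agent.Lib.Helper12.SubQC Groth.Agent.Lib.Helper12.JHA
  Groth.Agent.Lib.Helper12.MDA Groth.Agent.Lib.Helper12.HNA Groth.Agent.Lib.Helper12.HNB
  Groth.Agent.Lib.Helper12.HNC Groth.Agent.Lib.Helper12.MuA Groth.Agent.Lib.Helper12.EllA StabCat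

variable (k : Type u) [Field k] (X : Scheme.{u}) [X.Over (Spec (CommRingCat.of k))]
  [IsProper (X ↘ (Spec (CommRingCat.of k)))] (L : X.Modules) (hL : CohB1.IsAmple L) (d ℓ : ℕ)

include hL in
/-- a filtration gives a chain -/
theorem isEllHNChain_of_isHNWith {E : X.Modules} (s : LTSeries (Subobject E))
    (hs : StabCat.IsHNWith (fun G => ShStab.IsEllSemistable k X L G d ℓ)
      (fun G P => ∃ Q : Polynomial ℚ, ShStab.IsHilbPoly k X L G Q ∧ P = StabCat.topPart ℓ d Q) d E s) :
    IsEllHNChain k X L d ℓ (clamp s) (clamp_mono s) s.length := by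
  obtain ⟨-, -, hss, hlt⟩ := hs
  constructor
  · intro j hj
    obtain ⟨e⟩ := nonempty_factor_clamp_iso s j hj
    exact isEllSemistable_of_iso k X L hL d ℓ e (hss ⟨j, hj⟩)
  · intro j hj p q hp hq
    obtain ⟨e⟩ := nonempty_factor_clamp_iso s j (by omega)
    obtain ⟨e'⟩ := nonempty_factor_clamp_iso s (j + 1) hj
    exact hlt ⟨j, by omega⟩ ⟨j + 1, hj⟩ rfl _ _ ⟨p, hilbPoly_of_iso k X L hL.1 e.symm hp, rfl⟩
      ⟨q, hilbPoly_of_iso k X L hL.1 e'.symm hq, rfl⟩

include hL in
/-- the key step: the quotient by the last term of a chain is the minimal destabilising quotient -/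
theorem min_quot_aux {E : X.Modules} (hE : Coh.IsCoh E) (h0 : ¬ IsZero E) (hp : ShStab.IsPure X E d)
    {S : ℕ → Subobject E} {hS : Monotone S} {M : ℕ}
    (h : IsEllHNChain k X L d ℓ S hS (M + 1)) (hS0 : S 0 = ⊥) (hST : S (M + 1) = ⊤)
    (G : X.Modules) (q : E ⟶ G) [Epi q] (hG : Coh.IsCoh G) (hG0 : ¬ IsZero G) (hGp : ShStab.IsPure X G d)
    (pF pG : ℚ[X]) (hpF : ShStab.IsHilbPoly k X L (cokernel (S M).arrow) pF)
    (hpG : ShStab.IsHilbPoly k X L G pG)
    (hα : StabCat.alpha d pF = StabCat.alpha d pG)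
    (hred : StabCat.RedEq d (StabCat.topPart ℓ d pF) (StabCat.topPart ℓ d pG)) :
    ∃ φ : (cokernel (S M).arrow) ≅ G, cokernel.π (S M).arrow ≫ φ.hom = q := by
  haveI : IsNoetherian X := Groth.Agent.Lib.Helper4.CurveRR.isNoetherian_of_proper k X
  haveI : IsLocallyNoetherian X := inferInstance
  have hdimE := dim_eq_of_isPure hp hE h0
  have hA : Coh.IsCoh ((S M : Subobject E) : X.Modules) := h.isCoh k X L hL d ℓ hS0 M (by omega)
  -- the last factor
  have hle : S M ≤ ⊤ := le_top
  obtain ⟨e1⟩ := nonempty_coker_top_iso (S M) hle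
  have e2 : cokernel (Subobject.ofLE (S M) (S (M + 1)) (hS (Nat.le_succ M))) ≅
      cokernel (Subobject.ofLE (S M) ⊤ hle) := cokerCongr rfl hST _ _
  have eF : cokernel (Subobject.ofLE (S M) (S (M + 1)) (hS (Nat.le_succ M))) ≅ cokernel (S M).arrow :=
    e2.trans e1
  have hFss : ShStab.IsEllSemistable k X L (cokernel (S M).arrow) d ℓ :=
    isEllSemistable_of_iso k X L hL d ℓ eF (h.ss M (by omega))
  have hpF' := hilbPoly_of_iso k X L hL.1 eF.symm hpF
  have haF := alpha_pos_of_isEllSemistable k X L hL d ℓ hFss hpF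
  -- the composite `S M ⟶ E ⟶ G` vanishes
  have hzero : (S M).arrow ≫ q = 0 := by
    by_contra hne
    have hI : Coh.IsCoh (Abelian.image ((S M).arrow ≫ q)) := isCoh_image _ hA hG
    have hI0 : ¬ IsZero (Abelian.image ((S M).arrow ≫ q)) := fun hz => hne (by
      rw [← Abelian.image.fac ((S M).arrow ≫ q), hz.eq_of_tgt (Abelian.factorThruImage _) 0,
        Limits.zero_comp])
    obtain ⟨pI, hpI⟩ := exists_hilbPoly k X L hL.1 _ hI
    have haI : 0 < alpha d pI := alpha_pos k X L hL _ hI d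
      (hGp _ (Abelian.image.ι _) inferInstance hI hI0) hpI
    have hlt : RedLT d (topPart ℓ d pF) (topPart ℓ d pI) :=
      (h.quot_gt k X L hL d ℓ hS0 hdimE.le pF hpF' M le_rfl _ (Abelian.factorThruImage _) inferInstance hI
        pI hpI).2 haI
    have hC : Coh.IsCoh (cokernel (Abelian.image.ι ((S M).arrow ≫ q))) := isCoh_cokernel _ hI hG
    obtain ⟨pC, hpC⟩ := exists_hilbPoly k X L hL.1 _ hC
    have hadd := hilbPoly_eq_add_of_mono k X L hL hI (Abelian.image.ι ((S M).arrow ≫ q)) hG hpI hpG hpC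
    have hw : (S M).arrow ≫ q ≫ cokernel.π (Abelian.image.ι ((S M).arrow ≫ q)) = 0 := by
      have h1 : (Abelian.factorThruImage ((S M).arrow ≫ q) ≫ Abelian.image.ι ((S M).arrow ≫ q)) ≫
          cokernel.π (Abelian.image.ι ((S M).arrow ≫ q)) = 0 := by
        rw [Category.assoc, cokernel.condition, Limits.comp_zero]
      rw [Abelian.image.fac] at h1
      rw [← Category.assoc]
      exact h1
    haveI : Epi (cokernel.desc (S M).arrow (q ≫ cokernel.π (Abelian.image.ι ((S M).arrow ≫ q))) hw) := by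
      have : cokernel.π (S M).arrow ≫
          cokernel.desc (S M).arrow (q ≫ cokernel.π (Abelian.image.ι ((S M).arrow ≫ q))) hw
          = q ≫ cokernel.π (Abelian.image.ι ((S M).arrow ≫ q)) := cokernel.π_desc _ _ _
      exact epi_of_epi_fac this
    have hle' : RedLE d (topPart ℓ d pF) (topPart ℓ d pC) := ell_quot_ge k X L hL d ℓ hFss
      (cokernel.desc (S M).arrow (q ≫ cokernel.π (Abelian.image.ι ((S M).arrow ≫ q))) hw) hC hpF hpC
    have hlt' : RedLT d (topPart ℓ d pF) (topPart ℓ d pG) := by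
      rw [hadd, topPart_add]
      exact redLT_add_of_lt_of_le hlt hle'
    exact not_redEq_of_redLT hlt' hred
  -- the induced morphism
  have hψ : cokernel.π (S M).arrow ≫ cokernel.desc (S M).arrow q hzero = q := cokernel.π_desc _ _ _
  haveI : Epi (cokernel.desc (S M).arrow q hzero) := epi_of_epi_fac hψ
  have hK : Coh.IsCoh (kernel (cokernel.desc (S M).arrow q hzero)) := isCoh_kernel _ hFss.1 hG
  obtain ⟨pK, hpK⟩ := exists_hilbPoly k X L hL.1 _ hK
  have hadd := hilbPoly_eq_add_of_epi k X L hL hFss.1 (cokernel.desc (S M).arrow q hzero) hG hpK hpF hpG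
  have hK0 : IsZero (kernel (cokernel.desc (S M).arrow q hzero)) := by
    by_contra hK0
    have haK := alpha_pos k X L hL _ hK d (hFss.2.2.1 _ (kernel.ι _) inferInstance hK hK0) hpK
    have := congrArg (alpha d) hadd
    rw [alpha_add] at this
    linarith
  haveI : Mono (cokernel.desc (S M).arrow q hzero) := Preadditive.mono_of_isZero_kernel _ hK0
  haveI : IsIso (cokernel.desc (S M).arrow q hzero) := isIso_of_mono_of_epi _
  exact ⟨asIso (cokernel.desc (S M).arrow q hzero), hψ⟩

include hL in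
theorem main_S18973 (E : X.Modules) (hE : Coh.IsCoh E) (h0 : ¬ IsZero E) (hp : ShStab.IsPure X E d)
    (s : LTSeries (Subobject E))
    (hs : StabCat.IsHNWith (fun G => ShStab.IsEllSemistable k X L G d ℓ)
      (fun G P => ∃ Q : Polynomial ℚ, ShStab.IsHilbPoly k X L G Q ∧ P = StabCat.topPart ℓ d Q) d E s)
    (G : X.Modules) (q : E ⟶ G) [Epi q] (hG : Coh.IsCoh G) (hG0 : ¬ IsZero G) (hGp : ShStab.IsPure X G d)
    (pF pG : ℚ[X]) (hpF : ShStab.IsHilbPoly k X L (cokernel s.eraseLast.last.arrow) pF)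
    (hpG : ShStab.IsHilbPoly k X L G pG)
    (hα : StabCat.alpha d pF = StabCat.alpha d pG)
    (hred : StabCat.RedEq d (StabCat.topPart ℓ d pF) (StabCat.topPart ℓ d pG)) :
    ∃ φ : (cokernel s.eraseLast.last.arrow) ≅ G, cokernel.π s.eraseLast.last.arrow ≫ φ.hom = q := by
  have hc := isEllHNChain_of_isHNWith k X L hL d ℓ s hs
  have hlen : s.length ≠ 0 := by
    intro hl
    have h1 : clamp s 0 = clamp s s.length := by rw [hl]
    rw [clamp_zero, clamp_length, hs.1, hs.2.1] at h1
    apply h0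
    have h2 : (⊤ : Subobject E).arrow = 0 := by
      rw [← h1]; exact Subobject.bot_arrow
    rw [IsZero.iff_id_eq_zero, ← cancel_epi (⊤ : Subobject E).arrow, h2, Limits.zero_comp,
      Limits.zero_comp]
  obtain ⟨M, hM⟩ := Nat.exists_eq_succ_of_ne_zero hlen
  have hM' : s.length = M + 1 := hM
  have hc' : IsEllHNChain k X L d ℓ (clamp s) (clamp_mono s) (M + 1) := by
    rw [← hM']; exact hc
  have hS0 : clamp s 0 = ⊥ := by rw [clamp_zero, hs.1]
  have hST : clamp s (M + 1) = ⊤ := by
    have : M + 1 = s.length := hM.symm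
    rw [this, clamp_length, hs.2.1]
  have hA : s.eraseLast.last = clamp s M := by
    rw [clamp_of_le s (by omega : M ≤ s.length), RelSeries.last_eraseLast]
    congr 1
    apply Fin.ext
    show s.length.pred = M
    rw [hM]; rfl
  have key : ∀ A : Subobject E, A = clamp s M → ∀ pF : ℚ[X],
      ShStab.IsHilbPoly k X L (cokernel A.arrow) pF → StabCat.alpha d pF = StabCat.alpha d pG →
      StabCat.RedEq d (StabCat.topPart ℓ d pF) (StabCat.topPart ℓ d pG) →
      ∃ φ : (cokernel A.arrow) ≅ G, cokernel.π A.arrow ≫ φ.hom = q := by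
    rintro A rfl pF hpF hα hred
    exact min_quot_aux k X L hL d ℓ hE h0 hp hc' hS0 hST G q hG hG0 hGp pF pG hpF hpG hα hred
  exact key _ hA pF hpF hα hred

end Groth.Agent.Lib.Helper12.EllB
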