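import Mathlib
import Groth.Agent.S10530
import Groth.Agent.S10526
import Groth.Agent.S10527
import Groth.Agent.S10541
import Groth.Agent.S10542
import Groth.Agent.S10543
import Groth.Agent.S10544

/-!
# The seven classes of morphisms étale local on source and target (helper12)

Bundles the permanence properties needed for `LocP P` for the seven classes of
`S9947`/`S9984`/`S9985`.
-/

set_option autoImplicit false
universe u
open CategoryTheory CategoryTheory.Limits AlgebraicGeometry
open AlgSp

namespace Groth.Agent.Lib.Helper12.LocPCases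

open MorphismProperty

/-- the permanence properties of a class of morphisms of schemes used for `LocP`. -/
structure Good (P : MorphismProperty Scheme.{u}) : Prop where
  bc : P.IsStableUnderBaseChange
  comp : P.IsStableUnderComposition
  hEt : ∀ {A B : Scheme.{u}} (g : A ⟶ B), Etale g → P g
  hsrc : ∀ {A B C : Scheme.{u}} (e : A ⟶ B) (k : B ⟶ C) [Etale e] [Surjective e],
      P (e ≫ k) → P k
  hcancel : ∀ {A B C : Scheme.{u}} (u : A ⟶ B) (k : B ⟶ C), Etale k → P (u ≫ k) → P u
  desc : P.DescendsAlong (@Surjective ⊓ @Flat ⊓ @LocallyOfFinitePresentation)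

lemma good_lft : Good (@LocallyOfFiniteType : MorphismProperty Scheme.{u}) where
  bc := inferInstance
  comp := inferInstance
  hEt := fun g hg => by haveI := hg; infer_instance
  hsrc := fun e k _ _ h => Groth.Agent.Lib.Helper12.Proper.lft_hsrc e k h
  hcancel := fun u k hk h => Groth.Agent.Lib.Helper12.Proper.lft_hcancel u k hk h
  desc := inferInstance

lemma good_lfp : Good (@LocallyOfFinitePresentation : MorphismProperty Scheme.{u}) where
  bc := inferInstance
  comp := inferInstance
  hEt := fun g hg => by haveI := hg; infer_instance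
  hsrc := fun e k _ _ h => by
    haveI : LocallyOfFinitePresentation (e ≫ k) := h
    exact Groth.Agent.Lib.Helper12.FPDescent.locallyOfFinitePresentation_of_etale_cover_source e k
  hcancel := fun u k hk h => by
    haveI : MorphismProperty.ContainsIdentities
        (@LocallyOfFinitePresentation : MorphismProperty Scheme.{u}) := ⟨fun X => inferInstance⟩
    haveI : MorphismProperty.IsMultiplicative
        (@LocallyOfFinitePresentation : MorphismProperty Scheme.{u}) := {}
    exact Groth.Agent.Lib.Helper12.SrcLocal.cancel_etale (@LocallyOfFinitePresentation)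
      (fun j hj => by haveI := hj; infer_instance) u k hk h
  desc := inferInstance

lemma good_flat : Good (@Flat : MorphismProperty Scheme.{u}) where
  bc := inferInstance
  comp := inferInstance
  hEt := fun g hg => by haveI := hg; infer_instance
  hsrc := fun e k _ _ h => by
    haveI : Flat (e ≫ k) := h
    exact Groth.Agent.Lib.Helper12.flat_of_comp_of_flat_of_surjective e k
  hcancel := fun u k hk h => Groth.Agent.Lib.Helper12.SrcLocal.cancel_etale @Flat
    (fun j hj => by haveI := hj; infer_instance) u k hk h
  desc := by
    haveI : MorphismProperty.DescendsAlong (@Flat : MorphismProperty Scheme.{u})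
      (@Surjective ⊓ @Flat ⊓ @QuasiCompact) := Groth.Agent.Lib.Helper12.descendsAlong_flat
    infer_instance

lemma good_smooth : Good (@Smooth : MorphismProperty Scheme.{u}) where
  bc := inferInstance
  comp := inferInstance
  hEt := fun g hg => by haveI := hg; infer_instance
  hsrc := fun e k _ _ h => by
    haveI : Smooth (e ≫ k) := h
    exact Groth.Agent.Lib.Helper12.SmoothSrc.smooth_of_etale_cover_source e k
  hcancel := fun u k hk h => by
    haveI : MorphismProperty.ContainsIdentities (@Smooth : MorphismProperty Scheme.{u}) :=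
      ⟨fun X => (inferInstance : Smooth (𝟙 X))⟩
    haveI : MorphismProperty.IsMultiplicative (@Smooth : MorphismProperty Scheme.{u}) := {}
    exact Groth.Agent.Lib.Helper12.SrcLocal.cancel_etale (@Smooth)
      (fun j hj => by haveI := hj; infer_instance) u k hk h
  desc := inferInstance

lemma good_etale : Good (@Etale : MorphismProperty Scheme.{u}) where
  bc := inferInstance
  comp := inferInstance
  hEt := fun g hg => hg
  hsrc := fun e k _ _ h => by
    haveI : Etale (e ≫ k) := h
    exact Groth.Agent.Lib.Helper12.EtSrc.etale_of_etale_cover_source e k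
  hcancel := fun u k hk h => Groth.Agent.Lib.Helper12.SrcLocal.cancel_etale (@Etale)
    (fun j hj => by haveI := hj; infer_instance) u k hk h
  desc := inferInstance

lemma good_lqf : Good (@LocallyQuasiFinite ⊓ @LocallyOfFiniteType : MorphismProperty Scheme.{u}) where
  bc := inferInstance
  comp := inferInstance
  hEt := fun g hg => by
    haveI := hg
    exact ⟨Groth.Agent.S10555.lqf_of_etale g, inferInstance⟩
  hsrc := fun e k _ _ h => by
    haveI := h.1
    haveI := h.2
    exact Groth.Agent.S1179.result e k
  hcancel := fun u k hk h => by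
    haveI : MorphismProperty.ContainsIdentities
        (@LocallyQuasiFinite ⊓ @LocallyOfFiniteType : MorphismProperty Scheme.{u}) :=
      ⟨fun X => ⟨inferInstance, inferInstance⟩⟩
    haveI : MorphismProperty.IsMultiplicative
        (@LocallyQuasiFinite ⊓ @LocallyOfFiniteType : MorphismProperty Scheme.{u}) := {}
    exact Groth.Agent.Lib.Helper12.SrcLocal.cancel_etale (@LocallyQuasiFinite ⊓ @LocallyOfFiniteType)
      (fun j hj => by
        haveI := hj
        exact ⟨Groth.Agent.S10555.lqf_of_etale j, inferInstance⟩) u k hk h
  desc := by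
    haveI := Groth.Agent.Lib.Helper12.descendsAlong_locallyQuasiFinite_inf_locallyOfFiniteType.{u}
    infer_instance

lemma good_unram : Good (@LocallyOfFiniteType ⊓ @FormallyUnramified : MorphismProperty Scheme.{u}) where
  bc := inferInstance
  comp := inferInstance
  hEt := fun g hg => by haveI := hg; exact ⟨inferInstance, inferInstance⟩
  hsrc := fun e k _ _ h => by
    haveI := h.1
    haveI := h.2
    exact ⟨(Groth.Agent.S1180.result e k).2, (Groth.Agent.S1180.result e k).1⟩
  hcancel := fun u k hk h => by
    haveI : MorphismProperty.ContainsIdentities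
        (@LocallyOfFiniteType ⊓ @FormallyUnramified : MorphismProperty Scheme.{u}) :=
      ⟨fun X => ⟨inferInstance, inferInstance⟩⟩
    haveI : MorphismProperty.IsMultiplicative
        (@LocallyOfFiniteType ⊓ @FormallyUnramified : MorphismProperty Scheme.{u}) := {}
    exact Groth.Agent.Lib.Helper12.SrcLocal.cancel_etale (@LocallyOfFiniteType ⊓ @FormallyUnramified)
      (fun j hj => by haveI := hj; exact ⟨inferInstance, inferInstance⟩) u k hk h
  desc := inferInstance

/-- the seven classes. -/
theorem good_of_cases (P : MorphismProperty Scheme.{u})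
    (hP : P = @LocallyOfFiniteType ∨ P = @LocallyOfFinitePresentation ∨ P = @Flat ∨ P = @Smooth ∨
      P = @Etale ∨
      (∀ ⦃A B : Scheme.{u}⦄ (g : A ⟶ B), P g ↔ (LocallyQuasiFinite g ∧ LocallyOfFiniteType g)) ∨
      (∀ ⦃A B : Scheme.{u}⦄ (g : A ⟶ B), P g ↔ (LocallyOfFiniteType g ∧ FormallyUnramified g))) :
    Good P := by
  rcases hP with rfl | rfl | rfl | rfl | rfl | h6 | h7
  · exact good_lft
  · exact good_lfp
  · exact good_flat
  · exact good_smooth
  · exact good_etale
  · have hPeq : P = (@LocallyQuasiFinite ⊓ @LocallyOfFiniteType : MorphismProperty Scheme.{u}) := by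
      ext A B g
      exact h6 g
    subst hPeq
    exact good_lqf
  · have hPeq : P = (@LocallyOfFiniteType ⊓ @FormallyUnramified : MorphismProperty Scheme.{u}) := by
      ext A B g
      exact h7 g
    subst hPeq
    exact good_unram

variable {S : Scheme.{u}}

lemma Good.locP_comp {P : MorphismProperty Scheme.{u}} (hP : Good P)
    {X Y Z : AlgSp.Sp S} (hY : AlgSp.IsAlgSpace Y) (hZ : AlgSp.IsAlgSpace Z) (f : X ⟶ Y)
    (g : Y ⟶ Z) (hf : AlgSp.LocP P f) (hg : AlgSp.LocP P g) : AlgSp.LocP P (f ≫ g) := by
  haveI := hP.comp
  exact Groth.Agent.Lib.Helper12.LocPGen.locP_comp P hP.hsrc hY hZ f g hf hg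

lemma Good.locP_baseChange {P : MorphismProperty Scheme.{u}} (hP : Good P)
    {X Y X' Y' : AlgSp.Sp S} (hX : AlgSp.IsAlgSpace X) (hY : AlgSp.IsAlgSpace Y)
    (hY' : AlgSp.IsAlgSpace Y') {f : X ⟶ Y} {g : Y' ⟶ Y} {fst : X' ⟶ X} {f' : X' ⟶ Y'}
    (sq : IsPullback fst f' f g) (hf : AlgSp.LocP P f) : AlgSp.LocP P f' := by
  haveI := hP.comp
  haveI := hP.bc
  haveI := hP.desc
  exact Groth.Agent.Lib.Helper12.LocPGen.locP_baseChange P hP.hEt hP.hsrc hP.hcancel hX hY hY' sq hf

end Groth.Agent.Lib.Helper12.LocPCases
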