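import Mathlib
import Groth.Agent.Lib.Helper12BaseLocal
import Groth.Agent.Lib.Helper12LocPCases
import Groth.Agent.S9884

/-!
# descent of `AlgSp.LocP` along epimorphic base change (helper12)
-/

set_option autoImplicit false
universe u
open CategoryTheory CategoryTheory.Limits AlgebraicGeometry
open AlgSp

namespace Groth.Agent.Lib.Helper12.EpiCover

open Opposite MorphismProperty Groth.Agent.Lib.Helper12.BaseLocal

variable {S : Scheme.{u}}

/-- `LocP P` descends along a family `g i : Yi i ⟶ Y` through which every affine scheme over `Y`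
lifts after a standard fpqc covering (no flatness of the `g i` is needed). -/
lemma locP_of_lifting_cover_base (P : MorphismProperty Scheme.{u}) [P.IsStableUnderBaseChange]
    [P.IsStableUnderComposition]
    (hEt : ∀ {A B : Scheme.{u}} (g : A ⟶ B), Etale g → P g)
    (hsrc : ∀ {A B C : Scheme.{u}} (e : A ⟶ B) (k : B ⟶ C) [Etale e] [Surjective e],
      P (e ≫ k) → P k)
    (hcancel : ∀ {A B C : Scheme.{u}} (u : A ⟶ B) (k : B ⟶ C), Etale k → P (u ≫ k) → P u)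
    [P.DescendsAlong (@Surjective ⊓ @Flat ⊓ @LocallyOfFinitePresentation)]
    [P.DescendsAlong (@Surjective ⊓ @Flat ⊓ @QuasiCompact)] [IsZariskiLocalAtTarget P]
    {ι : Type u} {Y : AlgSp.Sp S} (Yi : ι → AlgSp.Sp S) (g : ∀ i, Yi i ⟶ Y)
    (hY : AlgSp.IsAlgSpace Y) (hYi : ∀ i, AlgSp.IsAlgSpace (Yi i))
    (hcov : ∀ (Z : Over S), IsAffine Z.left → ∀ (h : (AlgSp.yon S).obj Z ⟶ Y),
      ∃ (m : ℕ) (W : Fin m → Over S) (c : ∀ j, W j ⟶ Z),
        (∀ j, IsAffine (W j).left) ∧ (∀ j, Flat (c j).left) ∧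
        (∀ z : ↥Z.left, ∃ j, z ∈ Set.range (c j).left) ∧
        ∀ j, ∃ (i : _) (l : (AlgSp.yon S).obj (W j) ⟶ Yi i),
          l ≫ g i = (AlgSp.yon S).map (c j) ≫ h) {X : AlgSp.Sp S} (f : X ⟶ Y) (hX : AlgSp.IsAlgSpace X)
    (Xi : ι → AlgSp.Sp S) (p : ∀ i, Xi i ⟶ Yi i) (q : ∀ i, Xi i ⟶ X)
    (hXi : ∀ i, AlgSp.IsAlgSpace (Xi i)) (sq : ∀ i, IsPullback (q i) (p i) f (g i))
    (H : ∀ i, AlgSp.LocP P (p i)) : AlgSp.LocP P f := by
  intro U V a b hh ha hb hcomm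
  have hφ := repWith_etale_lift hX hY f a b hh ha hb hcomm
  obtain ⟨φ, hφdef⟩ : ∃ φ : (AlgSp.yon S).obj U ⟶ pullback f b,
      φ = pullback.lift a ((AlgSp.yon S).map hh) hcomm := ⟨_, rfl⟩
  rw [← hφdef] at hφ
  have hφ2 : φ ≫ pullback.snd f b = (AlgSp.yon S).map hh := by rw [hφdef, pullback.lift_snd]
  rw [IsZariskiLocalAtTarget.iff_of_openCover (P := P) V.left.affineCover]
  intro k
  obtain ⟨ζ, hζ⟩ : ∃ ζ : V.left.affineCover.X k ⟶ V.left, ζ = V.left.affineCover.f k := ⟨_, rfl⟩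
  show P (pullback.snd hh.left (V.left.affineCover.f k))
  rw [← hζ]
  let Zo : Over S := Over.mk (ζ ≫ V.hom)
  let ζ' : Zo ⟶ V := Over.homMk ζ rfl
  have hZa : IsAffine Zo.left := by
    show IsAffine (V.left.affineCover.X k)
    infer_instance
  obtain ⟨m, W', c, hW'a, hcfl, hcs, hl⟩ := hcov Zo hZa ((AlgSp.yon S).map ζ' ≫ b)
  haveI : IsAffine (V.left.affineCover.X k) := hZa
  refine of_standard_fpqc P (pullback.snd hh.left ζ) (fun j => (W' j).left)
    (fun j => (c j).left) hW'a hcfl hcs (fun j => ?_)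
  obtain ⟨i, l, hl⟩ := hl j
  -- the scheme `N = U ×_V W' j`
  have hsqN : IsPullback (pullback.fst hh (c j ≫ ζ')).left (pullback.snd hh (c j ≫ ζ')).left
      hh.left ((c j).left ≫ ζ) :=
    (IsPullback.of_hasPullback hh (c j ≫ ζ')).map (Over.forget S)
  have hwN : (pullback.fst hh (c j ≫ ζ')).left ≫ hh.left =
      ((pullback.snd hh (c j ≫ ζ')).left ≫ (c j).left) ≫ ζ := by
    rw [Category.assoc]; exact hsqN.w
  refine ⟨(pullback hh (c j ≫ ζ')).left,
    pullback.lift (pullback.fst hh (c j ≫ ζ')).left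
      ((pullback.snd hh (c j ≫ ζ')).left ≫ (c j).left) hwN,
    (pullback.snd hh (c j ≫ ζ')).left, ?_, ?_⟩
  · refine IsPullback.of_right ?_ (pullback.lift_snd _ _ _) (IsPullback.of_hasPullback hh.left ζ)
    rw [pullback.lift_fst]
    exact hsqN
  -- `P` of the projection
  have hLoc : AlgSp.LocP P (pullback.snd (p i) l) :=
    Groth.Agent.Lib.Helper12.LocPGen.locP_baseChange P hEt hsrc hcancel (hXi i) (hYi i)
      (AlgSp.IsAlgSpace.yon_obj (W' j)) (IsPullback.of_hasPullback (p i) l) (H i)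
  have big1 : IsPullback (pullback.fst (p i) l ≫ q i) (pullback.snd (p i) l) f (l ≫ g i) :=
    (IsPullback.of_hasPullback (p i) l).paste_horiz (sq i)
  have hlg : l ≫ g i = (AlgSp.yon S).map (c j ≫ ζ') ≫ b := by
    rw [hl, Functor.map_comp, Category.assoc]
  rw [hlg] at big1
  have hwμ : (pullback.fst (p i) l ≫ q i) ≫ f =
      (pullback.snd (p i) l ≫ (AlgSp.yon S).map (c j ≫ ζ')) ≫ b := by
    rw [Category.assoc _ _ b]; exact big1.w
  obtain ⟨μ, hμ⟩ : ∃ μ : pullback (p i) l ⟶ pullback f b,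
      μ = pullback.lift _ _ hwμ := ⟨_, rfl⟩
  have hμ1 : μ ≫ pullback.fst f b = pullback.fst (p i) l ≫ q i := by rw [hμ, pullback.lift_fst]
  have hμ2 : μ ≫ pullback.snd f b = pullback.snd (p i) l ≫ (AlgSp.yon S).map (c j ≫ ζ') := by
    rw [hμ, pullback.lift_snd]
  have sqM : IsPullback μ (pullback.snd (p i) l) (pullback.snd f b)
      ((AlgSp.yon S).map (c j ≫ ζ')) := by
    refine IsPullback.of_right ?_ hμ2 (IsPullback.of_hasPullback f b)
    rw [hμ1]
    exact big1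
  have hwα : ((AlgSp.yon S).map (pullback.fst hh (c j ≫ ζ')) ≫ φ) ≫ pullback.snd f b =
      (AlgSp.yon S).map (pullback.snd hh (c j ≫ ζ')) ≫ (AlgSp.yon S).map (c j ≫ ζ') := by
    rw [Category.assoc, hφ2, ← Functor.map_comp, ← Functor.map_comp, pullback.condition]
  obtain ⟨α, hα⟩ : ∃ α : (AlgSp.yon S).obj (pullback hh (c j ≫ ζ')) ⟶ pullback (p i) l,
      α = sqM.lift _ _ hwα := ⟨_, rfl⟩
  have hα1 : α ≫ μ = (AlgSp.yon S).map (pullback.fst hh (c j ≫ ζ')) ≫ φ := by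
    rw [hα, sqM.lift_fst]
  have hα2 : α ≫ pullback.snd (p i) l = (AlgSp.yon S).map (pullback.snd hh (c j ≫ ζ')) := by
    rw [hα, sqM.lift_snd]
  have sqα : IsPullback α ((AlgSp.yon S).map (pullback.fst hh (c j ≫ ζ'))) μ φ := by
    refine IsPullback.of_right ?_ hα1 sqM.flip
    rw [hα2, hφ2]
    exact ((IsPullback.of_hasPullback hh (c j ≫ ζ')).map (AlgSp.yon S)).flip
  have hαe : AlgSp.RepWith @Etale α :=
    MorphismProperty.of_isPullback (P := AlgSp.RepWith @Etale) sqα.flip hφ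
  exact hLoc α (𝟙 _) (pullback.snd hh (c j ≫ ζ')) hαe (AlgSp.repWith_id _ _)
    (by rw [hα2, Category.comp_id])



/-- an epimorphism of fppf sheaves admits liftings over a standard fpqc covering of every affine
scheme. -/
lemma exists_lifting_cover_of_epi {U F : AlgSp.Sp S} (π : U ⟶ F) [Epi π] (Z : Over S)
    (hZ : IsAffine Z.left) (h : (AlgSp.yon S).obj Z ⟶ F) :
    ∃ (m : ℕ) (W : Fin m → Over S) (c : ∀ j, W j ⟶ Z),
      (∀ j, IsAffine (W j).left) ∧ (∀ j, Flat (c j).left) ∧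
      (∀ z : ↥Z.left, ∃ j, z ∈ Set.range (c j).left) ∧
      ∀ j, ∃ (_ : PUnit.{u + 1}) (l : (AlgSp.yon S).obj (W j) ⟶ U),
        l ≫ π = (AlgSp.yon S).map (c j) ≫ h := by
  haveI : Sheaf.IsLocallySurjective π := (Sheaf.isLocallySurjective_iff_epi π).2 inferInstance
  obtain ⟨R, hR, hlift⟩ := Groth.Agent.S9884.exists_fppf_lift π h
  have hsurj := (Presieve.mem_comap_jointlySurjectivePrecoverage_iff Scheme.forget).1 hR.1
  choose Y g hg hx using hsurj
  haveI : ∀ z, Flat (g z) := fun z => (hR.2 (hg z)).1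
  haveI : ∀ z, LocallyOfFinitePresentation (g z) := fun z => (hR.2 (hg z)).2
  let κ := Σ z : ↥Z.left, (Y z).affineOpens
  let O : κ → Set ↥Z.left := fun k => (g k.1) '' (k.2.1 : Set ↥(Y k.1))
  have hO : ∀ k, IsOpen (O k) := fun k => (g k.1).isOpenMap _ k.2.1.2
  have hcover : (Set.univ : Set ↥Z.left) ⊆ ⋃ k, O k := by
    intro z _
    obtain ⟨w, hw⟩ := hx z
    obtain ⟨V, ⟨V', hV', rfl⟩, hxV, -⟩ := ((Y z).isBasis_affineOpens).exists_subset_of_mem_open
      (Set.mem_univ w) isOpen_univ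
    exact Set.mem_iUnion.2 ⟨⟨z, ⟨V', hV'⟩⟩, w, hxV, hw⟩
  haveI : CompactSpace ↥Z.left := inferInstance
  obtain ⟨t, ht⟩ := isCompact_univ.elim_finite_subcover O hO hcover
  let e : Fin t.card ≃ t := t.equivFin.symm
  let Tk : ↥Z.left → Over S := fun z => Over.mk (g z ≫ Z.hom)
  let ck : ∀ z, Tk z ⟶ Z := fun z => Over.homMk (g z) rfl
  let Wo : κ → Over S := fun k => Over.mk (k.2.1.ι ≫ (Tk k.1).hom)
  let ιo : ∀ k : κ, Wo k ⟶ Tk k.1 := fun k => Over.homMk k.2.1.ι rfl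
  refine ⟨t.card, fun j => Wo (e j).1, fun j => ιo (e j).1 ≫ ck (e j).1.1, fun j => ?_, fun j => ?_,
    fun z => ?_, fun j => ?_⟩
  · exact (e j).1.2.2
  · rw [Over.comp_left]
    show Flat ((e j).1.2.1.ι ≫ g (e j).1.1)
    infer_instance
  · obtain ⟨k, hk, x, hx', rfl⟩ : ∃ k ∈ t, z ∈ O k := by simpa using ht (Set.mem_univ z)
    refine ⟨e.symm ⟨k, hk⟩, ?_⟩
    show (g k.1) x ∈ Set.range ⇑(ιo (e (e.symm ⟨k, hk⟩)).1 ≫ ck (e (e.symm ⟨k, hk⟩)).1.1).left
    rw [Equiv.apply_symm_apply]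
    refine ⟨⟨x, hx'⟩, ?_⟩
    rw [Over.comp_left, Scheme.Hom.comp_apply]
    rfl
  · obtain ⟨d, hd⟩ := hlift (g (e j).1.1) (hg (e j).1.1)
    refine ⟨PUnit.unit, (AlgSp.yon S).map (ιo (e j).1) ≫ d, ?_⟩
    rw [Category.assoc, hd, ← Functor.map_comp_assoc]

/-- `LocP P` descends along an epimorphic base change. -/
lemma locP_of_epi_base {P : MorphismProperty Scheme.{u}} (hP : LocPCases.Good P)
    [P.DescendsAlong (@Surjective ⊓ @Flat ⊓ @QuasiCompact)] [IsZariskiLocalAtTarget P]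
    {X Y X' Y' : AlgSp.Sp S} (hX : AlgSp.IsAlgSpace X) (hY : AlgSp.IsAlgSpace Y)
    (hX' : AlgSp.IsAlgSpace X') (hY' : AlgSp.IsAlgSpace Y') (f : X ⟶ Y) (g : Y' ⟶ Y) [Epi g]
    (q : X' ⟶ X) (p : X' ⟶ Y') (sq : IsPullback q p f g) (H : AlgSp.LocP P p) :
    AlgSp.LocP P f := by
  haveI := hP.bc
  haveI := hP.comp
  haveI := hP.desc
  exact locP_of_lifting_cover_base P hP.hEt hP.hsrc hP.hcancel (fun _ : PUnit.{u + 1} => Y')
    (fun _ => g) hY (fun _ => hY') (fun Z hZ h => exists_lifting_cover_of_epi g Z hZ h) f hX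
    (fun _ => X') (fun _ => p) (fun _ => q) (fun _ => hX') (fun _ => sq) (fun _ => H)

end Groth.Agent.Lib.Helper12.EpiCover
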