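import Mathlib
import Groth.Agent.Lib.Helper12LocPGen
import Groth.Agent.Lib.Helper12SrcLocal
import Groth.Agent.Lib.Helper12SrcLocalCov
import Groth.Agent.Lib.Helper12SmoothSrc
import Groth.Agent.S10175
import Groth.Prelude.Def_AlgSpCov

set_option autoImplicit false
universe u
open CategoryTheory CategoryTheory.Limits AlgebraicGeometry
open AlgSp

namespace Groth.Agent.Lib.Helper12.SmoothST

variable {S : Scheme.{u}}

/-- identities have `P` on all chart diagrams when étale morphisms of schemes have `P`. -/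
lemma locP_id (P : MorphismProperty Scheme.{u})
    (hEt : ∀ {A B : Scheme.{u}} (g : A ⟶ B), Etale g → P g) (X : AlgSp.Sp S) :
    AlgSp.LocP P (𝟙 X) := by
  intro U V a b h ha hb hcomm
  rw [Category.comp_id] at hcomm
  exact hEt _ (Groth.Agent.Lib.Helper12.SrcLocal.etale_of_chart_comp b a h hb ha hcomm.symm)

lemma locP_smooth_id (X : AlgSp.Sp S) : AlgSp.LocP @Smooth (𝟙 X) :=
  locP_id @Smooth (fun g hg => by haveI := hg; infer_instance) X

lemma smooth_hsrc {A B C : Scheme.{u}} (e : A ⟶ B) (k : B ⟶ C) [Etale e] [Surjective e]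
    (h : Smooth (e ≫ k)) : Smooth k := by
  haveI := h
  exact Groth.Agent.Lib.Helper12.SmoothSrc.smooth_of_etale_cover_source e k

lemma smooth_hcancel {A B C : Scheme.{u}} (u : A ⟶ B) (k : B ⟶ C) (hk : Etale k)
    (h : Smooth (u ≫ k)) : Smooth u := by
  haveI : MorphismProperty.ContainsIdentities (@Smooth : MorphismProperty Scheme.{u}) :=
    ⟨fun X => (inferInstance : Smooth (𝟙 X))⟩
  haveI : MorphismProperty.IsMultiplicative (@Smooth : MorphismProperty Scheme.{u}) := {}
  exact Groth.Agent.Lib.Helper12.SrcLocal.cancel_etale (@Smooth)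
    (fun j hj => by haveI := hj; infer_instance) u k hk h

/-- smooth morphisms of algebraic spaces are stable under composition. -/
lemma locP_smooth_comp {X Y Z : AlgSp.Sp S} (hY : AlgSp.IsAlgSpace Y) (hZ : AlgSp.IsAlgSpace Z)
    (f : X ⟶ Y) (g : Y ⟶ Z) (hf : AlgSp.LocP @Smooth f) (hg : AlgSp.LocP @Smooth g) :
    AlgSp.LocP @Smooth (f ≫ g) :=
  Groth.Agent.Lib.Helper12.LocPGen.locP_comp @Smooth (fun e k _ _ h => smooth_hsrc e k h)
    hY hZ f g hf hg

/-- smooth morphisms of algebraic spaces are stable under base change. -/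
lemma locP_smooth_baseChange {X Y X' Y' : AlgSp.Sp S} (hX : AlgSp.IsAlgSpace X)
    (hY : AlgSp.IsAlgSpace Y) (hY' : AlgSp.IsAlgSpace Y') {f : X ⟶ Y} {g : Y' ⟶ Y} {fst : X' ⟶ X}
    {f' : X' ⟶ Y'} (sq : IsPullback fst f' f g) (hf : AlgSp.LocP @Smooth f) :
    AlgSp.LocP @Smooth f' :=
  Groth.Agent.Lib.Helper12.LocPGen.locP_baseChange @Smooth
    (fun g hg => by haveI := hg; infer_instance) (fun e k _ _ h => smooth_hsrc e k h)
    (fun u k hk h => smooth_hcancel u k hk h) hX hY hY' sq hf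

/-- a property smooth local on source-and-target is smooth local on the source. -/
theorem isLocalOnSource_of_isSmoothLocalST {P : MorphismProperty (AlgSp.Sp S)}
    (hP : AlgSp.IsSmoothLocalST P) : AlgSp.IsLocalOnSource (AlgSp.IsSmCover (S := S)) P := by
  intro ι X Xi g hX hXi hcov Y f hY
  constructor
  · intro hf i
    exact hP.precomp (hXi i) hX hY (g i) f (hcov.1 i) hf
  · intro h
    refine (hP.locality hX hY f).2 (fun x => ?_)
    obtain ⟨i, v, hv⟩ := hcov.2 x
    exact ⟨Xi i, Y, g i, 𝟙 Y, g i ≫ f, v, hXi i, hY, hcov.1 i, locP_smooth_id Y,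
      (Category.comp_id _).symm, hv, h i⟩

/-- a property smooth local on source-and-target is smooth local on the base. -/
theorem isLocalOnBase_of_isSmoothLocalST {P : MorphismProperty (AlgSp.Sp S)}
    (hP : AlgSp.IsSmoothLocalST P) : AlgSp.IsLocalOnBase (AlgSp.IsSmCover (S := S)) P := by
  intro ι Y Yi g hY hYi hcov X f hX Xi p q hXi sq
  constructor
  · intro hf i
    exact hP.baseChange hX hY (hXi i) (hYi i) f (g i) (p i) (q i) (sq i) (hcov.1 i) hf
  · intro h
    refine (hP.locality hX hY f).2 (fun x => ?_)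
    obtain ⟨i, yi, hyi⟩ := hcov.2 (AlgSp.Points.map f x)
    obtain ⟨v, hv1, hv2⟩ := Groth.Agent.S10175.exists_point_of_isPullback (sq i).flip yi x hyi
    exact ⟨Xi i, Yi i, q i, g i, p i, v, hXi i, hYi i,
      locP_smooth_baseChange (hYi i) hY hX (sq i).flip (hcov.1 i), hcov.1 i, (sq i).w, hv2, h i⟩

/-- a property smooth local on source-and-target is stable under postcomposition with smooth
morphisms. -/
theorem postcomp_of_isSmoothLocalST {P : MorphismProperty (AlgSp.Sp S)}
    (hP : AlgSp.IsSmoothLocalST P) {X Y Z : AlgSp.Sp S} (hX : AlgSp.IsAlgSpace X)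
    (hY : AlgSp.IsAlgSpace Y) (hZ : AlgSp.IsAlgSpace Z) (f : X ⟶ Y) (g : Y ⟶ Z) (hf : P f)
    (hg : AlgSp.LocP @Smooth g) : P (f ≫ g) := by
  refine (hP.locality hX hZ (f ≫ g)).2 (fun x => ?_)
  exact ⟨X, Y, 𝟙 X, g, f, x, hX, hY, locP_smooth_id X, hg, Category.id_comp _,
    by rw [AlgSp.Points.map_id], hf⟩

end Groth.Agent.Lib.Helper12.SmoothST
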