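import Mathlib
import Groth.Agent.Lib.Helper12SmoothST
import Groth.Agent.S10554
import Groth.Agent.S10177

set_option autoImplicit false
universe u
open CategoryTheory CategoryTheory.Limits AlgebraicGeometry
open AlgSp

namespace Groth.Agent.Lib.Helper12.EtSmST

open Groth.Agent.Lib.Helper12.SmoothST

variable {S : Scheme.{u}}

lemma isEtaleMor_id (X : AlgSp.Sp S) : AlgSp.IsEtaleMor (𝟙 X) := by
  intro U φ hφ
  rwa [Category.comp_id]

/-- an étale morphism of sheaves is smooth on all chart diagrams. -/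
lemma locP_smooth_of_isEtaleMor {X Y : AlgSp.Sp S} (g : X ⟶ Y) (hg : AlgSp.IsEtaleMor g) :
    AlgSp.LocP @Smooth g := by
  intro U V a b h ha hb hc
  haveI : Etale h.left :=
    Groth.Agent.Lib.Helper12.SrcLocal.locP_etale_of_isEtaleMor g hg a b h ha hb hc
  infer_instance

/-- étale morphisms of algebraic spaces are stable under base change. -/
lemma isEtaleMor_baseChange {X Y X' Y' : AlgSp.Sp S} (hX : AlgSp.IsAlgSpace X)
    (hY : AlgSp.IsAlgSpace Y) (hY' : AlgSp.IsAlgSpace Y') {f : X ⟶ Y} {g : Y' ⟶ Y} {fst : X' ⟶ X}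
    {f' : X' ⟶ Y'} (sq : IsPullback fst f' f g) (hf : AlgSp.IsEtaleMor f) :
    AlgSp.IsEtaleMor f' := by
  apply Groth.Agent.S10554.isEtaleMor_of_locP hY'
  haveI : MorphismProperty.ContainsIdentities (@Etale : MorphismProperty Scheme.{u}) :=
    ⟨fun X => (inferInstance : Etale (𝟙 X))⟩
  haveI : MorphismProperty.IsMultiplicative (@Etale : MorphismProperty Scheme.{u}) := {}
  exact Groth.Agent.Lib.Helper12.LocPGen.locP_baseChange @Etale (fun g hg => hg)
    (fun e k _ _ h => by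
      haveI : Etale (e ≫ k) := h
      exact Groth.Agent.Lib.Helper12.EtSrc.etale_of_etale_cover_source e k)
    (fun u k hk h => Groth.Agent.Lib.Helper12.SrcLocal.cancel_etale (@Etale)
      (fun j hj => by haveI := hj; infer_instance) u k hk h)
    hX hY hY' sq (Groth.Agent.Lib.Helper12.SrcLocal.locP_etale_of_isEtaleMor f hf)

/-- a section of an étale morphism to an algebraic space... is étale. -/
lemma isEtaleMor_of_section {X W : AlgSp.Sp S} (hW : AlgSp.IsAlgSpace W) (e : X ⟶ W) (p : W ⟶ X)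
    (hp : AlgSp.IsEtaleMor p) (hep : e ≫ p = 𝟙 X) : AlgSp.IsEtaleMor e := by
  apply Groth.Agent.S10554.isEtaleMor_of_locP hW
  intro U V a b h ha hb hc
  exact Groth.Agent.Lib.Helper12.SrcLocal.etale_of_chart_comp (b ≫ p) a h (hp b hb) ha
    (by rw [← Category.assoc, ← hc, Category.assoc, hep, Category.comp_id])

/-- the graph section of the base change of an étale morphism. -/
lemma exists_graph {X Y Z : AlgSp.Sp S} (hX : AlgSp.IsAlgSpace X) (hY : AlgSp.IsAlgSpace Y)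
    (hZ : AlgSp.IsAlgSpace Z) (f : X ⟶ Y) (g : Y ⟶ Z) (hg : AlgSp.IsEtaleMor g) :
    ∃ (W : AlgSp.Sp S) (p : W ⟶ X) (q : W ⟶ Y) (e : X ⟶ W), AlgSp.IsAlgSpace W ∧
      IsPullback p q (f ≫ g) g ∧ AlgSp.IsEtaleMor e ∧ e ≫ p = 𝟙 X ∧ e ≫ q = f := by
  have sq : IsPullback (pullback.fst (f ≫ g) g) (pullback.snd (f ≫ g) g) (f ≫ g) g :=
    IsPullback.of_hasPullback _ _
  have hW : AlgSp.IsAlgSpace (pullback (f ≫ g) g) :=
    Groth.Agent.S9874.isAlgSpace_of_isPullback hZ.diag hX hY sq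
  have hp : AlgSp.IsEtaleMor (pullback.fst (f ≫ g) g) :=
    isEtaleMor_baseChange hY hZ hX sq.flip hg
  refine ⟨_, _, _, pullback.lift (𝟙 X) f (by simp), hW, sq, ?_, pullback.lift_fst _ _ _,
    pullback.lift_snd _ _ _⟩
  exact isEtaleMor_of_section hW _ _ hp (pullback.lift_fst _ _ _)

/-- (1) étale local on the source. -/
theorem isLocalOnSource_of_isEtaleSmoothLocalST {P : MorphismProperty (AlgSp.Sp S)}
    (hP : AlgSp.IsEtaleSmoothLocalST P) : AlgSp.IsLocalOnSource (AlgSp.IsEtCover (S := S)) P := by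
  intro ι X Xi g hX hXi hcov Y f hY
  constructor
  · intro hf i
    exact hP.precomp (hXi i) hX hY (g i) f (hcov.1 i) hf
  · intro h
    refine (hP.locality hX hY f).2 (fun x => ?_)
    obtain ⟨i, v, hv⟩ := hcov.2 x
    refine ⟨Y, X, Xi i, 𝟙 Y, 𝟙 X, f, g i, v, hY, hX, hXi i, locP_smooth_id Y,
      IsPullback.of_horiz_isIso ⟨by simp⟩, hcov.1 i, ?_, h i⟩
    rw [Category.comp_id]
    exact hv

/-- (2) smooth local on the base. -/
theorem isLocalOnBase_of_isEtaleSmoothLocalST {P : MorphismProperty (AlgSp.Sp S)}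
    (hP : AlgSp.IsEtaleSmoothLocalST P) : AlgSp.IsLocalOnBase (AlgSp.IsSmCover (S := S)) P := by
  intro ι Y Yi g hY hYi hcov X f hX Xi p q hXi sq
  constructor
  · intro hf i
    exact hP.baseChange hX hY (hXi i) (hYi i) f (g i) (p i) (q i) (sq i) (hcov.1 i) hf
  · intro h
    refine (hP.locality hX hY f).2 (fun x => ?_)
    obtain ⟨i, yi, hyi⟩ := hcov.2 (AlgSp.Points.map f x)
    obtain ⟨v, hv1, hv2⟩ := Groth.Agent.S10175.exists_point_of_isPullback (sq i).flip yi x hyi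
    refine ⟨Yi i, Xi i, Xi i, g i, q i, p i, 𝟙 _, v, hYi i, hXi i, hXi i, hcov.1 i, sq i,
      isEtaleMor_id _, ?_, ?_⟩
    · rw [Category.id_comp]; exact hv2
    · rw [Category.id_comp]; exact h i

/-- (3) stable under postcomposition with étale morphisms. -/
theorem postcomp_of_isEtaleSmoothLocalST {P : MorphismProperty (AlgSp.Sp S)}
    (hP : AlgSp.IsEtaleSmoothLocalST P) {X Y Z : AlgSp.Sp S} (hX : AlgSp.IsAlgSpace X)
    (hY : AlgSp.IsAlgSpace Y) (hZ : AlgSp.IsAlgSpace Z) (f : X ⟶ Y) (g : Y ⟶ Z) (hf : P f)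
    (hg : AlgSp.IsEtaleMor g) : P (f ≫ g) := by
  obtain ⟨W, p, q, e, hW, sq, he, hep, heq⟩ := exists_graph hX hY hZ f g hg
  refine (hP.locality hX hZ (f ≫ g)).2 (fun x => ?_)
  refine ⟨Y, W, X, g, p, q, e, x, hY, hW, hX, locP_smooth_of_isEtaleMor g hg, sq, he, ?_, ?_⟩
  · rw [hep, AlgSp.Points.map_id]
  · rw [heq]; exact hf

/-- (4) cancellation along étale morphisms. -/
theorem cancel_of_isEtaleSmoothLocalST {P : MorphismProperty (AlgSp.Sp S)}
    (hP : AlgSp.IsEtaleSmoothLocalST P) {X Y Z : AlgSp.Sp S} (hX : AlgSp.IsAlgSpace X)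
    (hY : AlgSp.IsAlgSpace Y) (hZ : AlgSp.IsAlgSpace Z) (f : X ⟶ Y) (g : Y ⟶ Z)
    (hg : AlgSp.IsEtaleMor g) (hfg : P (f ≫ g)) : P f := by
  obtain ⟨W, p, q, e, hW, sq, he, hep, heq⟩ := exists_graph hX hY hZ f g hg
  have hq : P q := hP.baseChange hX hZ hW hY (f ≫ g) g q p sq (locP_smooth_of_isEtaleMor g hg) hfg
  have := hP.precomp hX hW hY e q he hq
  rwa [heq] at this

end Groth.Agent.Lib.Helper12.EtSmST
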