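import Mathlib
import Groth.Prelude.Def_AlgSpInf

set_option autoImplicit false
universe u
open CategoryTheory CategoryTheory.Limits AlgebraicGeometry Opposite

namespace Groth.Agent.Lib.Helper12.EtaleLift

variable {T T' W : Scheme.{u}}

/-- a closed immersion with nilpotent kernel is surjective. -/
lemma surjective_of_isNilpotent_ker (j : T ⟶ T') [IsClosedImmersion j] (hj : IsNilpotent j.ker) :
    Function.Surjective j := by
  have : IsDominant j := by
    obtain ⟨n, hn⟩ := hj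
    rw [isDominant_iff, denseRange_iff_closure_range, ← j.support_ker,
      ← j.ker.support_pow (n + 1) (by simp), pow_succ, hn]
    simp
  exact j.surjective

/-- nilpotency of the kernel passes to base changes along open immersions. -/
lemma isNilpotent_ker_of_isPullback {X Y U V : Scheme.{u}}
    (f : X ⟶ Y) (f' : U ⟶ V) (iU : U ⟶ X) (iV : V ⟶ Y) [IsOpenImmersion iV]
    [QuasiCompact f] (H : IsPullback f' iU iV f) (hf : IsNilpotent f.ker) :
    IsNilpotent f'.ker := by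
  obtain ⟨n, hn⟩ := hf
  refine ⟨n, ?_⟩
  apply Scheme.IdealSheafData.ext
  ext W : 1
  change (f'.ker.ideal W) ^ n = ⊥
  rw [Scheme.ker_ideal_of_isPullback_of_isOpenImmersion f f' iU iV H W]
  refine le_antisymm ?_ bot_le
  refine (Ideal.le_comap_pow _ _).trans ?_
  have h0 : (f.ker.ideal ⟨iV ''ᵁ W, W.2.image_of_isOpenImmersion _⟩) ^ n = ⊥ := by
    have := congrArg (fun I => I.ideal ⟨iV ''ᵁ W, W.2.image_of_isOpenImmersion _⟩) hn
    exact this
  rw [h0]
  intro x hx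
  have hx' : (iV.appIso W).inv.hom x = 0 := hx
  have : Function.Injective (iV.appIso W).inv.hom :=
    (ConcreteCategory.bijective_of_isIso (iV.appIso W).inv).1
  exact this (hx'.trans (map_zero _).symm)

/-- pullback-free formulation: `s : D ⟶ W` is a local lift over the open `D` of `T'`. -/
def IsLocalLift (j : T ⟶ T') (g : W ⟶ T') (t : T ⟶ W) (D : T'.Opens) (s : (D : Scheme) ⟶ W) :
    Prop :=
  s ≫ g = D.ι ∧ ∀ (Z : Scheme.{u}) (a : Z ⟶ T) (r : Z ⟶ D), a ≫ j = r ≫ D.ι → r ≫ s = a ≫ t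

lemma isLocalLift_of_restrict (j : T ⟶ T') (g : W ⟶ T') (t : T ⟶ W) (D : T'.Opens)
    (s : (D : Scheme) ⟶ W) (h1 : s ≫ g = D.ι) (h2 : (j ∣_ D) ≫ s = (j ⁻¹ᵁ D).ι ≫ t) :
    IsLocalLift j g t D s := by
  refine ⟨h1, fun Z a r har => ?_⟩
  have hrange : Set.range a ⊆ Set.range (j ⁻¹ᵁ D).ι := by
    rintro _ ⟨z, rfl⟩
    rw [Scheme.Opens.range_ι]
    change j (a z) ∈ D
    have : j (a z) = D.ι (r z) := by
      rw [← Scheme.Hom.comp_apply, har, Scheme.Hom.comp_apply]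
    rw [this]
    exact (r z).2
  let a' : Z ⟶ (j ⁻¹ᵁ D : T.Opens) := IsOpenImmersion.lift (j ⁻¹ᵁ D).ι a hrange
  have ha' : a' ≫ (j ⁻¹ᵁ D).ι = a := IsOpenImmersion.lift_fac _ _ _
  have hr : a' ≫ (j ∣_ D) = r := by
    rw [← cancel_mono D.ι, Category.assoc, morphismRestrict_ι, ← Category.assoc, ha', har]
  rw [← hr, Category.assoc, h2, ← Category.assoc, ha']

lemma exists_local_lift_aux (j : T ⟶ T') [IsClosedImmersion j] (hj : IsNilpotent j.ker)
    (g : W ⟶ T') [Etale g] (t : T ⟶ W) (htg : t ≫ g = j) (x : T') :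
    ∃ (D : T'.Opens) (s : (D : Scheme) ⟶ W), x ∈ D ∧ s ≫ g = D.ι ∧
      (j ∣_ D) ≫ s = (j ⁻¹ᵁ D).ι ≫ t := by
  obtain ⟨x₀, rfl⟩ := surjective_of_isNilpotent_ker j hj x
  obtain ⟨_, ⟨U, hU, rfl⟩, hxU, -⟩ :=
    T'.isBasis_affineOpens.exists_subset_of_mem_open (Set.mem_univ (j x₀)) isOpen_univ
  have hw : t x₀ ∈ g ⁻¹ᵁ U := by
    change g (t x₀) ∈ U
    rw [← Scheme.Hom.comp_apply, htg]
    exact hxU
  obtain ⟨_, ⟨V, hV, rfl⟩, hxV, hVU : V ≤ g ⁻¹ᵁ U⟩ :=
    W.isBasis_affineOpens.exists_subset_of_mem_open hw (g ⁻¹ᵁ U).isOpen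
  -- the open `O` of `T'` with `j⁻¹ O ⊆ t⁻¹ V`
  let C : Set T' := j '' ((t ⁻¹ᵁ V : T.Opens) : Set T)ᶜ
  have hC : IsClosed C := j.isClosedEmbedding.isClosedMap _ (t ⁻¹ᵁ V).isOpen.isClosed_compl
  let O : T'.Opens := ⟨Cᶜ, hC.isOpen_compl⟩
  have hxO : j x₀ ∈ O := by
    rintro ⟨y, hy, hyx⟩
    rw [j.isClosedEmbedding.injective hyx] at hy
    exact hy hxV
  have hO : j ⁻¹ᵁ O ≤ t ⁻¹ᵁ V := by
    intro y hy
    by_contra hy'
    exact hy ⟨y, hy', rfl⟩
  obtain ⟨_, ⟨D, hD, rfl⟩, hxD, hDUO : D ≤ U ⊓ O⟩ :=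
    T'.isBasis_affineOpens.exists_subset_of_mem_open (And.intro hxU hxO) (U ⊓ O).isOpen
  have hDU : D ≤ U := hDUO.trans inf_le_left
  have hDV : j ⁻¹ᵁ D ≤ t ⁻¹ᵁ V :=
    (show j ⁻¹ᵁ D ≤ j ⁻¹ᵁ O from fun y hy => (hDUO hy).2).trans hO
  have hD' : IsAffineOpen (j ⁻¹ᵁ D) := hD.preimage j
  have hE : (g.appLE U V hVU).hom.Etale := g.etale_appLE hU hV hVU
  have key : g.appLE U V hVU ≫ t.appLE V (j ⁻¹ᵁ D) hDV =
      T'.presheaf.map (homOfLE hDU).op ≫ j.app D := by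
    rw [Scheme.Hom.appLE_comp_appLE]
    have : ∀ (j' : T ⟶ T') (_ : j' = j) (h' : j ⁻¹ᵁ D ≤ j' ⁻¹ᵁ U),
        j'.appLE U (j ⁻¹ᵁ D) h' = T'.presheaf.map (homOfLE hDU).op ≫ j.app D := by
      rintro _ rfl h'
      rw [Scheme.Hom.app_eq_appLE, Scheme.Hom.map_appLE]
    exact this _ htg _
  algebraize [(g.appLE U V hVU).hom, (T'.presheaf.map (homOfLE hDU).op).hom,
    ((T'.presheaf.map (homOfLE hDU).op) ≫ j.app D).hom]
  let τ : Γ(W, V) →ₐ[Γ(T', U)] Γ(T, j ⁻¹ᵁ D) := ⟨(t.appLE V (j ⁻¹ᵁ D) hDV).hom, fun r => by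
    have := congrArg (fun φ => φ.hom r) key
    exact this⟩
  let π : Γ(T', D) →ₐ[Γ(T', U)] Γ(T, j ⁻¹ᵁ D) := ⟨(j.app D).hom, fun r => rfl⟩
  have hπ : Function.Surjective π := j.app_surjective D hD
  have hπ' : IsNilpotent (RingHom.ker (π : Γ(T', D) →+* Γ(T, j ⁻¹ᵁ D))) := by
    obtain ⟨n, hn⟩ := hj
    refine ⟨n, ?_⟩
    have h1 : RingHom.ker (j.app D).hom ^ n = ⊥ := by
      simpa using congr(($hn).ideal ⟨D, hD⟩)
    exact h1
  let ψ : Γ(W, V) →ₐ[Γ(T', U)] Γ(T', D) := Algebra.FormallySmooth.liftOfSurjective τ π hπ hπ'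
  have hψ : π.comp ψ = τ := Algebra.FormallySmooth.comp_liftOfSurjective τ π hπ hπ'
  refine ⟨D, hD.isoSpec.hom ≫ Spec.map (CommRingCat.ofHom ψ.toRingHom) ≫ hV.fromSpec, hxD, ?_, ?_⟩
  · rw [Category.assoc, Category.assoc, ← hU.SpecMap_appLE_fromSpec g hV hVU, ← Spec.map_comp_assoc]
    have h1 : g.appLE U V hVU ≫ CommRingCat.ofHom ψ.toRingHom =
        T'.presheaf.map (homOfLE hDU).op := by
      ext r
      exact ψ.commutes r
    rw [h1, hU.map_fromSpec hD, hD.isoSpec_hom_fromSpec]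
  · have h2 : Spec.map (j.app D) ≫ hD.isoSpec.inv = hD'.isoSpec.inv ≫ (j ∣_ D) := by
      rw [← cancel_mono (Scheme.Opens.ι D), Category.assoc, Category.assoc, morphismRestrict_ι,
        hD.isoSpec_inv_ι, hD'.isoSpec_inv_ι_assoc, Scheme.Hom.app_eq_appLE,
        hD.SpecMap_appLE_fromSpec j hD' le_rfl]
    have h3 : (j ∣_ D) ≫ hD.isoSpec.hom = hD'.isoSpec.hom ≫ Spec.map (j.app D) := by
      rw [← cancel_epi hD'.isoSpec.inv, ← Category.assoc, ← h2, Category.assoc,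
        Iso.inv_hom_id, Category.comp_id, Iso.inv_hom_id_assoc]
    have h4 : CommRingCat.ofHom ψ.toRingHom ≫ j.app D = t.appLE V (j ⁻¹ᵁ D) hDV := by
      ext r
      exact congrArg (fun φ => φ r) hψ
    rw [← Category.assoc, h3, Category.assoc, ← Spec.map_comp_assoc, h4,
      hV.SpecMap_appLE_fromSpec t hD' hDV, hD'.isoSpec_hom_fromSpec_assoc]


/-- **Infinitesimal lifting for etale morphisms of schemes** (existence). -/
theorem exists_lift (j : T ⟶ T') [IsClosedImmersion j] (hj : IsNilpotent j.ker)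
    (g : W ⟶ T') [Etale g] (t : T ⟶ W) (htg : t ≫ g = j) :
    ∃ s : T' ⟶ W, s ≫ g = 𝟙 T' ∧ j ≫ s = t := by
  have H : ∀ x : T', ∃ (D : T'.Opens) (s : (D : Scheme) ⟶ W), x ∈ D ∧ IsLocalLift j g t D s := by
    intro x
    obtain ⟨D, s, hx, h1, h2⟩ := exists_local_lift_aux j hj g t htg x
    exact ⟨D, s, hx, isLocalLift_of_restrict j g t D s h1 h2⟩
  choose D s hxD hs using H
  let 𝒰 : T'.OpenCover := {
    I₀ := T', X i := (D i), f i := (D i).ι,
    mem₀ := by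
      rw [Scheme.presieve₀_mem_precoverage_iff]
      refine ⟨fun x ↦ ⟨x, by simpa using hxD x⟩, inferInstance⟩ }
  have hcompat : ∀ x y, pullback.fst (𝒰.f x) (𝒰.f y) ≫ s x = pullback.snd _ _ ≫ s y := by
    intro x y
    let c := pullback.fst (𝒰.f x) (𝒰.f y) ≫ (D x).ι
    have hc' : c = pullback.snd (𝒰.f x) (𝒰.f y) ≫ (D y).ι := pullback.condition
    refine FormallyUnramified.hom_ext (pullback.fst c j) ?_ g ?_ ?_
    · exact isNilpotent_ker_of_isPullback j (pullback.fst c j) (pullback.snd c j) c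
        (IsPullback.of_hasPullback c j) hj
    · rw [← Category.assoc, ← Category.assoc,
        (hs x).2 _ (pullback.snd c j) (pullback.fst c j ≫ pullback.fst _ _)
          (by rw [Category.assoc]; exact pullback.condition.symm),
        (hs y).2 _ (pullback.snd c j) (pullback.fst c j ≫ pullback.snd _ _)
          (by rw [Category.assoc, ← hc']; exact pullback.condition.symm)]
    · rw [Category.assoc, Category.assoc, (hs x).1, (hs y).1]
      exact pullback.condition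
  let σ := 𝒰.glueMorphisms s hcompat
  have hσ : ∀ x, (D x).ι ≫ σ = s x := fun x => 𝒰.ι_glueMorphisms s hcompat x
  refine ⟨σ, ?_, ?_⟩
  · apply 𝒰.hom_ext
    intro x
    change (D x).ι ≫ σ ≫ g = (D x).ι ≫ 𝟙 _
    rw [← Category.assoc, hσ, (hs x).1, Category.comp_id]
  · apply Scheme.hom_ext_of_forall
    intro z
    refine ⟨j ⁻¹ᵁ D (j z), hxD (j z), ?_⟩
    rw [← Category.assoc, ← morphismRestrict_ι, Category.assoc, hσ]
    exact (hs _).2 _ (j ⁻¹ᵁ D (j z)).ι (j ∣_ D (j z)) (morphismRestrict_ι _ _).symm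

/-- **Infinitesimal lifting for etale morphisms of schemes** (uniqueness). -/
theorem lift_unique (j : T ⟶ T') [IsClosedImmersion j] (hj : IsNilpotent j.ker)
    (g : W ⟶ T') [Etale g] (s s' : T' ⟶ W) (h1 : j ≫ s = j ≫ s') (h2 : s ≫ g = s' ≫ g) :
    s = s' :=
  FormallyUnramified.hom_ext j hj g h1 h2

lemma ker_pow_two_SpecMap_mk {A : Type u} [CommRing A] (I : Ideal A) (hI : I ^ 2 = ⊥) :
    (Spec.map (CommRingCat.ofHom (Ideal.Quotient.mk I))).ker ^ 2 = ⊥ := by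
  apply Scheme.IdealSheafData.ext_of_isAffine
  change ((Spec.map (CommRingCat.ofHom (Ideal.Quotient.mk I))).ker.ideal ⟨⊤, isAffineOpen_top _⟩) ^ 2 = ⊥
  rw [Scheme.Hom.ker_apply]
  have hker : RingHom.ker ((Spec.map (CommRingCat.ofHom (Ideal.Quotient.mk I))).app ⊤).hom =
      I.comap (Scheme.ΓSpecIso (.of A)).hom.hom := by
    ext x
    rw [RingHom.mem_ker, Ideal.mem_comap]
    have hnat := Scheme.ΓSpecIso_naturality (CommRingCat.ofHom (Ideal.Quotient.mk I))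
    have h1 := congrArg (fun φ => φ.hom x) hnat
    replace h1 : (Scheme.ΓSpecIso (.of (A ⧸ I))).hom.hom
          (((Spec.map (CommRingCat.ofHom (Ideal.Quotient.mk I))).app ⊤).hom x) =
        (Ideal.Quotient.mk I) ((Scheme.ΓSpecIso (.of A)).hom.hom x) := h1
    have hinj : Function.Injective (Scheme.ΓSpecIso (.of (A ⧸ I))).hom.hom :=
      (ConcreteCategory.bijective_of_isIso (Scheme.ΓSpecIso (.of (A ⧸ I))).hom).1
    constructor
    · intro hx
      have : (Ideal.Quotient.mk I) ((Scheme.ΓSpecIso (.of A)).hom.hom x) = 0 := by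
        rw [← h1, hx]
        exact map_zero (Scheme.ΓSpecIso (.of (A ⧸ I))).hom.hom
      exact Ideal.Quotient.eq_zero_iff_mem.1 this
    · intro hx
      apply hinj
      have : (Ideal.Quotient.mk I) ((Scheme.ΓSpecIso (.of A)).hom.hom x) = 0 :=
        Ideal.Quotient.eq_zero_iff_mem.2 hx
      exact (h1.trans this).trans (map_zero _).symm
  rw [hker]
  refine le_antisymm ?_ bot_le
  refine (Ideal.le_comap_pow _ _).trans ?_
  rw [hI]
  intro x hx
  have hinj : Function.Injective (Scheme.ΓSpecIso (.of A)).hom.hom :=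
    (ConcreteCategory.bijective_of_isIso (Scheme.ΓSpecIso (.of A)).hom).1
  have hx' : (Scheme.ΓSpecIso (.of A)).hom.hom x = 0 := hx
  exact hinj (hx'.trans (map_zero _).symm)


lemma isNilpotent_ker_SpecMap_mk {A : Type u} [CommRing A] (I : Ideal A) (hI : I ^ 2 = ⊥) :
    IsNilpotent (Spec.map (CommRingCat.ofHom (Ideal.Quotient.mk I))).ker :=
  ⟨2, ker_pow_two_SpecMap_mk I hI⟩

section Sheaf

open AlgSp

variable {S : Scheme.{u}}

/-- **Representable etale morphisms are formally etale.** -/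
theorem isFormallyEtaleMor_of_repWith_etale {F G : AlgSp.Sp S} (a : F ⟶ G)
    (ha : AlgSp.RepWith @Etale a) : AlgSp.IsFormallyEtaleMor a := by
  intro sq
  obtain ⟨W, snd, fst', hsq⟩ := ha.1 sq.bot
  haveI hE : Etale snd.left := ha.2 sq.bot fst' snd hsq
  -- the map `T ⟶ W`
  obtain ⟨t', ht1, ht2⟩ : ∃ t' : (AlgSp.yon S).obj sq.ptT ⟶ (AlgSp.yon S).obj W,
      t' ≫ fst' = sq.top ∧ t' ≫ (AlgSp.yon S).map snd = (AlgSp.yon S).map sq.j :=
    ⟨hsq.lift sq.top ((AlgSp.yon S).map sq.j) sq.comm, hsq.lift_fst _ _ _, hsq.lift_snd _ _ _⟩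
  obtain ⟨t, rfl⟩ := (AlgSp.yon S).map_surjective t'
  have htj : t ≫ snd = sq.j := (AlgSp.yon S).map_injective (by rw [Functor.map_comp, ht2])
  have htj' : t.left ≫ snd.left = sq.j.left := by
    rw [← Over.comp_left, htj]
  haveI : IsClosedImmersion sq.j.left :=
    IsClosedImmersion.spec_of_surjective _ Ideal.Quotient.mk_surjective
  have hnil : IsNilpotent sq.j.left.ker := isNilpotent_ker_SpecMap_mk sq.I sq.sq_zero
  obtain ⟨s, hs1, hs2⟩ := exists_lift sq.j.left hnil snd.left t.left htj'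
  let s' : sq.ptT' ⟶ W := Over.homMk s (by
    have h1 := Over.w snd
    rw [← h1, ← Category.assoc, hs1, Category.id_comp])
  have hs1' : s' ≫ snd = 𝟙 _ := by
    ext
    exact hs1
  have hs2' : sq.j ≫ s' = t := by
    ext
    exact hs2
  refine ⟨(AlgSp.yon S).map s' ≫ fst', ⟨?_, ?_⟩, ?_⟩
  · rw [← Category.assoc, ← Functor.map_comp, hs2', ht1]
  · rw [Category.assoc, hsq.w, ← Category.assoc, ← Functor.map_comp, hs1', CategoryTheory.Functor.map_id,
      Category.id_comp]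
  · rintro l' ⟨hl1, hl2⟩
    obtain ⟨m', hm1, hm2⟩ : ∃ m' : (AlgSp.yon S).obj sq.ptT' ⟶ (AlgSp.yon S).obj W,
        m' ≫ fst' = l' ∧ m' ≫ (AlgSp.yon S).map snd = 𝟙 _ :=
      ⟨hsq.lift l' (𝟙 _) (by rw [hl2, Category.id_comp]), hsq.lift_fst _ _ _, hsq.lift_snd _ _ _⟩
    obtain ⟨m, rfl⟩ := (AlgSp.yon S).map_surjective m'
    have hm2' : m ≫ snd = 𝟙 _ :=
      (AlgSp.yon S).map_injective (by rw [Functor.map_comp, hm2, CategoryTheory.Functor.map_id])
    have hjm : sq.j ≫ m = t := by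
      apply (AlgSp.yon S).map_injective
      apply hsq.hom_ext
      · rw [Functor.map_comp, Category.assoc, hm1, hl1, ht1]
      · rw [Functor.map_comp, Category.assoc, hm2, Category.comp_id, ht2]
    have hms : m = s' := by
      ext
      apply lift_unique sq.j.left hnil snd.left
      · rw [← Over.comp_left, hjm]
        exact hs2.symm
      · rw [← Over.comp_left, hm2']
        exact hs1.symm
    rw [← hm1, hms]

end Sheaf

end Groth.Agent.Lib.Helper12.EtaleLift
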