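import Mathlib
import Groth.Prelude.Def_AlgSpInf
import Groth.Agent.S9885
import Groth.Agent.Lib.Helper12MonoFactor

set_option autoImplicit false
universe u
open CategoryTheory CategoryTheory.Limits AlgebraicGeometry Opposite
open AlgSp

namespace Groth.Agent.Lib.Helper12.InfGlue

variable {S : Scheme.{u}}

section Affine

variable {V W : Over S} [IsAffine V.left] (i : W ⟶ V) [IsClosedImmersion i.left]

/-- the ideal of the closed immersion in the coordinate ring of the affine target. -/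
noncomputable abbrev kerI : Ideal ↑Γ(V.left, ⊤) := RingHom.ker i.left.appTop.hom

lemma kerI_sq (hk : i.left.ker * i.left.ker = ⊥) : (kerI i) ^ 2 = ⊥ := by
  have h1 := congrArg (fun I => I.ideal ⟨⊤, isAffineOpen_top _⟩) hk
  simp only [Scheme.IdealSheafData.ideal_mul, Pi.mul_apply, Scheme.IdealSheafData.ideal_bot,
    Pi.bot_apply] at h1
  rw [Scheme.Hom.ker_apply] at h1
  rw [pow_two]
  exact h1

/-- structure morphism of `Spec Γ(V)`. -/
noncomputable abbrev strV : Spec (.of ↑Γ(V.left, ⊤)) ⟶ S := V.left.isoSpec.inv ≫ V.hom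

/-- `Spec Γ(V) ≅ V` over `S`. -/
noncomputable def eV : Over.mk (strV (V := V)) ≅ V :=
  Over.isoMk V.left.isoSpec.symm (by simp [strV])

include i in
lemma isAffine_src : IsAffine W.left := isAffine_of_isAffineHom i.left

lemma appTop_surj : Function.Surjective i.left.appTop.hom :=
  (IsClosedImmersion.isAffine_surjective_of_isAffine i.left).2

/-- `Γ(V)/I ≃ Γ(W)`. -/
noncomputable def ψ : (↑Γ(V.left, ⊤) ⧸ kerI i) ≃+* ↑Γ(W.left, ⊤) :=
  RingHom.quotientKerEquivOfSurjective (appTop_surj i)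

lemma ψ_mk : (CommRingCat.ofHom (Ideal.Quotient.mk (kerI i))) ≫ (CommRingCat.ofHom (ψ i).toRingHom)
    = i.left.appTop := by
  ext x
  rfl

/-- `Spec (Γ(V)/I) ≅ W` as schemes. -/
noncomputable def eW0 : Spec (.of (↑Γ(V.left, ⊤) ⧸ kerI i)) ≅ W.left :=
  haveI := isAffine_src i
  (Scheme.Spec.mapIso (RingEquiv.toCommRingCatIso (ψ i)).op).symm ≪≫ W.left.isoSpec.symm

lemma eW0_hom_comp : (eW0 i).hom ≫ i.left =
    Spec.map (CommRingCat.ofHom (Ideal.Quotient.mk (kerI i))) ≫ V.left.isoSpec.inv := by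
  haveI := isAffine_src i
  simp only [eW0, Iso.trans_hom, Iso.symm_hom, Functor.mapIso_inv, Iso.op_inv, Scheme.Spec_map,
    Quiver.Hom.unop_op, Category.assoc]
  rw [← Scheme.isoSpec_inv_naturality, ← Spec.map_comp_assoc, ← ψ_mk i]
  congr 2
  rw [Category.assoc]
  have : CommRingCat.ofHom (ψ i).toRingHom = (ψ i).toCommRingCatIso.hom := rfl
  rw [this, Iso.hom_inv_id, Category.comp_id]

/-- `Spec (Γ(V)/I) ≅ W` over `S`. -/
noncomputable def eW :
    Over.mk (Spec.map (CommRingCat.ofHom (Ideal.Quotient.mk (kerI i))) ≫ strV (V := V)) ≅ W :=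
  Over.isoMk (eW0 i) (by
    have h := Over.w i
    simp only [Over.mk_hom, strV]
    rw [← h, reassoc_of% (eW0_hom_comp i)])

/-- the closed immersion `Spec (Γ(V)/I) ⟶ Spec Γ(V)` over `S`. -/
noncomputable abbrev jA :
    Over.mk (Spec.map (CommRingCat.ofHom (Ideal.Quotient.mk (kerI i))) ≫ strV (V := V)) ⟶
      Over.mk (strV (V := V)) :=
  Over.homMk (Spec.map (CommRingCat.ofHom (Ideal.Quotient.mk (kerI i)))) rfl

lemma eW_comp : jA i ≫ (eV (V := V)).hom = (eW i).hom ≫ i := by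
  ext
  simp only [Over.comp_left, Over.homMk_left, eV, eW, Over.isoMk_hom_left, Iso.symm_hom]
  exact (eW0_hom_comp i).symm

variable {F G : AlgSp.Sp S} (f : F ⟶ G)

/-- the infinitesimal lifting square attached to a square-zero closed immersion into an affine
scheme. -/
noncomputable def infSq (hk : i.left.ker * i.left.ker = ⊥)
    (top : (AlgSp.yon S).obj W ⟶ F) (bot : (AlgSp.yon S).obj V ⟶ G)
    (comm : top ≫ f = (AlgSp.yon S).map i ≫ bot) : AlgSp.InfSq f where
  A := ↑Γ(V.left, ⊤)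
  I := kerI i
  sq_zero := kerI_sq i hk
  str := strV (V := V)
  top := (AlgSp.yon S).map (eW i).hom ≫ top
  bot := (AlgSp.yon S).map (eV (V := V)).hom ≫ bot
  comm := by
    rw [Category.assoc, comm, ← Functor.map_comp_assoc, ← eW_comp i, Functor.map_comp_assoc]

section
variable (top : (AlgSp.yon S).obj W ⟶ F) (bot : (AlgSp.yon S).obj V ⟶ G)

lemma lift_to_infSq (l : (AlgSp.yon S).obj V ⟶ F) (h1 : (AlgSp.yon S).map i ≫ l = top)
    (h2 : l ≫ f = bot) :
    (AlgSp.yon S).map (jA i) ≫ ((AlgSp.yon S).map (eV (V := V)).hom ≫ l) =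
        (AlgSp.yon S).map (eW i).hom ≫ top ∧
      ((AlgSp.yon S).map (eV (V := V)).hom ≫ l) ≫ f = (AlgSp.yon S).map (eV (V := V)).hom ≫ bot := by
  refine ⟨?_, ?_⟩
  · rw [← Functor.map_comp_assoc, eW_comp, Functor.map_comp_assoc, h1]
  · rw [Category.assoc, h2]

lemma lift_of_infSq (l0 : (AlgSp.yon S).obj (Over.mk (strV (V := V))) ⟶ F)
    (h1 : (AlgSp.yon S).map (jA i) ≫ l0 = (AlgSp.yon S).map (eW i).hom ≫ top)
    (h2 : l0 ≫ f = (AlgSp.yon S).map (eV (V := V)).hom ≫ bot) :
    (AlgSp.yon S).map i ≫ ((AlgSp.yon S).map (eV (V := V)).inv ≫ l0) = top ∧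
      ((AlgSp.yon S).map (eV (V := V)).inv ≫ l0) ≫ f = bot := by
  have h4 : i ≫ (eV (V := V)).inv = (eW i).inv ≫ jA i := by
    rw [Iso.eq_inv_comp]
    exact (Category.assoc _ _ _).symm.trans ((Iso.comp_inv_eq _).2 (eW_comp i).symm)
  refine ⟨?_, ?_⟩
  · rw [← Functor.map_comp_assoc, h4, Functor.map_comp_assoc, h1, Iso.map_inv_hom_id_assoc]
  · rw [Category.assoc, h2, Iso.map_inv_hom_id_assoc]

end

/-- uniqueness of lifts along a square-zero closed immersion into an affine scheme for a formally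
unramified morphism of sheaves. -/
theorem uniq_of_affine (hf : AlgSp.IsFormallyUnramifiedMor f) (hk : i.left.ker * i.left.ker = ⊥)
    (l l' : (AlgSp.yon S).obj V ⟶ F) (h1 : (AlgSp.yon S).map i ≫ l = (AlgSp.yon S).map i ≫ l')
    (h2 : l ≫ f = l' ≫ f) : l = l' := by
  have comm : ((AlgSp.yon S).map i ≫ l) ≫ f = (AlgSp.yon S).map i ≫ (l ≫ f) := Category.assoc _ _ _
  have a1 := lift_to_infSq i f _ _ l rfl rfl
  have a2 := lift_to_infSq i f _ _ l' h1.symm h2.symm
  have h : (AlgSp.yon S).map (eV (V := V)).hom ≫ l = (AlgSp.yon S).map (eV (V := V)).hom ≫ l' :=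
    hf (infSq i f hk _ _ comm) _ _ a1.1 a1.2 a2.1 a2.2
  have h3 := congrArg (fun t => (AlgSp.yon S).map (eV (V := V)).inv ≫ t) h
  simpa only [Iso.map_inv_hom_id_assoc] using h3

/-- existence of lifts along a square-zero closed immersion into an affine scheme for a formally
smooth morphism of sheaves. -/
theorem exists_lift_of_affine (hf : AlgSp.IsFormallySmoothMor f) (hk : i.left.ker * i.left.ker = ⊥)
    (top : (AlgSp.yon S).obj W ⟶ F) (bot : (AlgSp.yon S).obj V ⟶ G)
    (comm : top ≫ f = (AlgSp.yon S).map i ≫ bot) :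
    ∃ l : (AlgSp.yon S).obj V ⟶ F, (AlgSp.yon S).map i ≫ l = top ∧ l ≫ f = bot := by
  obtain ⟨l, hl1, hl2⟩ := hf (infSq i f hk top bot comm)
  exact ⟨_, lift_of_infSq i f top bot l hl1 hl2⟩

end Affine

section Charts

open Groth.Agent.S13210 Groth.Agent.Lib.Helper12.ZarGlue

/-- two maps from a representable sheaf agree as soon as they agree on an open cover. -/
lemma yon_hom_ext_of_opens {F : AlgSp.Sp S} {W : Over S} (φ φ' : (AlgSp.yon S).obj W ⟶ F)
    (h : ∀ w : W.left, ∃ O : W.left.Opens, w ∈ O ∧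
      (AlgSp.yon S).map (Over.homMk O.ι rfl : Over.mk (O.ι ≫ W.hom) ⟶ W) ≫ φ =
        (AlgSp.yon S).map (Over.homMk O.ι rfl : Over.mk (O.ι ≫ W.hom) ⟶ W) ≫ φ') : φ = φ' := by
  choose O hO hd using h
  have hmem := MonoFactor.ofArrows_opens_mem O (fun w => ⟨w, hO w⟩)
  have hshF : Presieve.IsSheaf (AlgSp.J S) F.obj := (isSheaf_iff_isSheaf_of_type _ _).1 F.property
  apply (yEquiv _ F).injective
  refine (hshF.isSheafFor _ hmem).isSeparatedFor.ext ?_
  intro Y f hf
  obtain ⟨w⟩ := hf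
  rw [map_yEquiv, map_yEquiv, hd]

/-- an etale surjective atlas is an epimorphism of sheaves. -/
lemma epi_of_atlas {F : AlgSp.Sp S} {U : Over S} (p : (AlgSp.yon S).obj U ⟶ F)
    (hp : AlgSp.RepWith @Etale p) (hps : AlgSp.RepWith @Surjective p) : Epi p := by
  haveI := Groth.Agent.S9885.isLocallySurjective_of_repWith p
    ⟨hp.1, fun _ _ g fst snd sq => by
      haveI : Etale snd.left := hp.2 g fst snd sq
      exact (inferInstance : Flat snd.left)⟩
    ⟨hp.1, fun _ _ g fst snd sq => by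
      haveI : Etale snd.left := hp.2 g fst snd sq
      exact (inferInstance : LocallyOfFinitePresentation snd.left)⟩ hps
  exact (Sheaf.isLocallySurjective_iff_epi _).1 inferInstance

/-- restriction of an etale chart to an open subscheme is an etale chart. -/
lemma repWith_etale_restrict {F : AlgSp.Sp S} {U : Over S} (p : (AlgSp.yon S).obj U ⟶ F)
    (hp : AlgSp.RepWith @Etale p) (O : U.left.Opens) :
    AlgSp.RepWith @Etale
      ((AlgSp.yon S).map (Over.homMk O.ι rfl : Over.mk (O.ι ≫ U.hom) ⟶ U) ≫ p) := by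
  refine MorphismProperty.comp_mem _ _ _ ?_ hp
  rw [AlgSp.repWith_yon_map_iff]
  exact (inferInstance : Etale O.ι)

/-- morphisms out of an algebraic space are determined on affine etale charts. -/
theorem hom_ext_of_affine_charts {T' F : AlgSp.Sp S} (hT' : AlgSp.IsAlgSpace T') (l l' : T' ⟶ F)
    (h : ∀ (V : Over S) (b : (AlgSp.yon S).obj V ⟶ T'), IsAffine V.left → AlgSp.RepWith @Etale b →
      b ≫ l = b ≫ l') : l = l' := by
  obtain ⟨U, p, hp, hps⟩ := hT'.atlas
  haveI := epi_of_atlas p hp hps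
  rw [← cancel_epi p]
  apply yon_hom_ext_of_opens
  intro w
  obtain ⟨O, hO, hw⟩ : ∃ O : U.left.Opens, IsAffineOpen O ∧ w ∈ O := by
    obtain ⟨_, ⟨O, hO, rfl⟩, hw, -⟩ := U.left.isBasis_affineOpens.exists_subset_of_mem_open
      (Set.mem_univ w) isOpen_univ
    exact ⟨O, hO, hw⟩
  refine ⟨O, hw, ?_⟩
  have := h (Over.mk (O.ι ≫ U.hom)) _ hO (repWith_etale_restrict p hp O)
  rw [Category.assoc, Category.assoc] at this
  exact this

end Charts

end Groth.Agent.Lib.Helper12.InfGlue
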