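import Mathlib
import Groth.Prelude.Def_AlgSpInf
import Groth.Agent.Lib.Helper12InfGlue
import Groth.Agent.Lib.Helper12OpenCoverSp

set_option autoImplicit false
universe u
open CategoryTheory CategoryTheory.Limits AlgebraicGeometry Opposite
open AlgSp

namespace Groth.Agent.Lib.Helper12.InfGlue2

open Groth.Agent.Lib.Helper12.InfGlue Groth.Agent.Lib.Helper12.OpenCoverSp

variable {S : Scheme.{u}} {T T' F G : AlgSp.Sp S} (j : T ⟶ T') (f : F ⟶ G) (top : T ⟶ F)
  (bot : T' ⟶ G)

/-- `l0 : h_V ⟶ F` solves the lifting problem `(j, f, top, bot)` over the chart `c : h_V ⟶ T'`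
(formulated without choosing a fibre product `V ×_{T'} T`). -/
def IsLocLift {V : Over S} (c : (AlgSp.yon S).obj V ⟶ T') (l0 : (AlgSp.yon S).obj V ⟶ F) : Prop :=
  (∀ (Z : Over S) (a : (AlgSp.yon S).obj Z ⟶ T) (r : Z ⟶ V),
      a ≫ j = (AlgSp.yon S).map r ≫ c → (AlgSp.yon S).map r ≫ l0 = a ≫ top) ∧
    l0 ≫ f = c ≫ bot

variable {j f top bot}

lemma IsLocLift.restrict {V V1 : Over S} {c : (AlgSp.yon S).obj V ⟶ T'}
    {l0 : (AlgSp.yon S).obj V ⟶ F} (h : IsLocLift j f top bot c l0) (g : V1 ⟶ V) :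
    IsLocLift j f top bot ((AlgSp.yon S).map g ≫ c) ((AlgSp.yon S).map g ≫ l0) := by
  refine ⟨fun Z a r hr => ?_, ?_⟩
  · rw [← Functor.map_comp_assoc]
    apply h.1
    rw [hr, Functor.map_comp_assoc]
  · rw [Category.assoc, h.2, Category.assoc]

lemma isLocLift_of_global (l : T' ⟶ F) (h1 : j ≫ l = top) (h2 : l ≫ f = bot) {V : Over S}
    (c : (AlgSp.yon S).obj V ⟶ T') : IsLocLift j f top bot c (c ≫ l) := by
  refine ⟨fun Z a r hr => ?_, ?_⟩
  · rw [← Category.assoc, ← hr, Category.assoc, h1]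
  · rw [Category.assoc, h2]

lemma isLocLift_iff_of_isPullback {V W : Over S} (c : (AlgSp.yon S).obj V ⟶ T')
    (fst : (AlgSp.yon S).obj W ⟶ T) (snd : W ⟶ V)
    (sq : IsPullback fst ((AlgSp.yon S).map snd) j c) (l0 : (AlgSp.yon S).obj V ⟶ F) :
    IsLocLift j f top bot c l0 ↔
      ((AlgSp.yon S).map snd ≫ l0 = fst ≫ top ∧ l0 ≫ f = c ≫ bot) := by
  constructor
  · rintro ⟨h1, h2⟩
    exact ⟨h1 W fst snd sq.w, h2⟩
  · rintro ⟨h1, h2⟩
    refine ⟨fun Z a r hr => ?_, h2⟩
    have e1 : sq.lift a ((AlgSp.yon S).map r) hr ≫ fst = a := sq.lift_fst _ _ _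
    have e2 : sq.lift a ((AlgSp.yon S).map r) hr ≫ (AlgSp.yon S).map snd = (AlgSp.yon S).map r :=
      sq.lift_snd _ _ _
    rw [← e2, Category.assoc, h1, ← Category.assoc, e1]

variable (j f top bot)

/-- uniqueness of local lifts over affine etale charts. -/
def UniqLocLifts : Prop :=
  ∀ (V : Over S) (c : (AlgSp.yon S).obj V ⟶ T'), IsAffine V.left → AlgSp.RepWith @Etale c →
    ∀ l0 l0', IsLocLift j f top bot c l0 → IsLocLift j f top bot c l0' → l0 = l0'

/-- existence of local lifts over affine etale charts. -/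
def ExistsLocLifts : Prop :=
  ∀ (V : Over S) (c : (AlgSp.yon S).obj V ⟶ T'), IsAffine V.left → AlgSp.RepWith @Etale c →
    ∃ l0, IsLocLift j f top bot c l0

variable {j f top bot}

/-- uniqueness of local lifts over all etale scheme charts. -/
theorem uniq_of_chart (H : UniqLocLifts j f top bot) {V : Over S}
    (c : (AlgSp.yon S).obj V ⟶ T') (hc : AlgSp.RepWith @Etale c)
    (l0 l0' : (AlgSp.yon S).obj V ⟶ F) (h : IsLocLift j f top bot c l0)
    (h' : IsLocLift j f top bot c l0') : l0 = l0' := by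
  apply yon_hom_ext_of_opens
  intro w
  obtain ⟨O, hO, hw⟩ : ∃ O : V.left.Opens, IsAffineOpen O ∧ w ∈ O := by
    obtain ⟨_, ⟨O, hO, rfl⟩, hw, -⟩ := V.left.isBasis_affineOpens.exists_subset_of_mem_open
      (Set.mem_univ w) isOpen_univ
    exact ⟨O, hO, hw⟩
  exact ⟨O, hw, H (Over.mk (O.ι ≫ V.hom)) _ hO (repWith_etale_restrict c hc O) _ _
    (h.restrict _) (h'.restrict _)⟩

section Atlas

open Groth.Agent.S13210 Groth.Agent.Lib.Helper12.ZarGlue

/-- two maps out of a disjoint union agree as soon as they agree on the members. -/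
lemma sigma_hom_ext {F : AlgSp.Sp S} {ι : Type u} (U : ι → Over S)
    (γ γ' : (AlgSp.yon S).obj (sigmaOver U) ⟶ F)
    (h : ∀ i, (AlgSp.yon S).map (sigmaι U i) ≫ γ = (AlgSp.yon S).map (sigmaι U i) ≫ γ') :
    γ = γ' := by
  have hsh : Presieve.IsSheaf (AlgSp.J S) F.obj := (isSheaf_iff_isSheaf_of_type _ _).1 F.property
  apply (yEquiv _ F).injective
  refine (hsh.isSheafFor _ (sigmaι_mem U)).isSeparatedFor.ext ?_
  intro Y f hf
  obtain ⟨i⟩ := hf
  rw [map_yEquiv, map_yEquiv, h]

variable (U : Over S)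

/-- the affine opens of `U`, as schemes over `S`. -/
noncomputable def affCover : U.left.affineOpens → Over S := fun O => Over.mk (O.1.ι ≫ U.hom)

/-- the disjoint union of the affine opens of `U`. -/
noncomputable abbrev affSigma : Over S := sigmaOver (affCover U)

/-- the canonical morphism from the disjoint union of the affine opens. -/
noncomputable def affQ : affSigma U ⟶ U :=
  Over.homMk (Sigma.desc (fun O : U.left.affineOpens => (O.1.ι : (affCover U O).left ⟶ U.left)))
    (Sigma.hom_ext _ _ (fun O => by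
      simp only [affSigma, sigmaOver, Over.mk_hom, colimit.ι_desc_assoc, colimit.ι_desc,
        Discrete.functor_obj_eq_as, Cofan.mk_pt, Cofan.mk_ι_app, affCover]))

lemma sigmaι_affQ (O : U.left.affineOpens) :
    sigmaι (affCover U) O ≫ affQ U = (Over.homMk O.1.ι rfl : affCover U O ⟶ U) := by
  ext
  simp only [Over.comp_left, affQ, sigmaι, Over.homMk_left]
  exact Sigma.ι_desc _ _

instance : Etale (affQ U).left := by
  change Etale (Sigma.desc _)
  exact IsZariskiLocalAtSource.sigmaDesc (P := @Etale)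
    (fun O : U.left.affineOpens => (inferInstance : Etale O.1.ι))

instance : Surjective (affQ U).left := by
  constructor
  intro u
  obtain ⟨O, hO, hu⟩ : ∃ O : U.left.Opens, IsAffineOpen O ∧ u ∈ O := by
    obtain ⟨_, ⟨O, hO, rfl⟩, hw, -⟩ := U.left.isBasis_affineOpens.exists_subset_of_mem_open
      (Set.mem_univ u) isOpen_univ
    exact ⟨O, hO, hw⟩
  refine ⟨(sigmaι (affCover U) ⟨O, hO⟩).left ⟨u, hu⟩, ?_⟩
  have := congrArg (fun m => m.left) (sigmaι_affQ U ⟨O, hO⟩)
  simp only [Over.comp_left, Over.homMk_left] at this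
  calc (affQ U).left ((sigmaι (affCover U) ⟨O, hO⟩).left ⟨u, hu⟩)
      = ((sigmaι (affCover U) ⟨O, hO⟩).left ≫ (affQ U).left) ⟨u, hu⟩ := rfl
    _ = O.ι ⟨u, hu⟩ := by rw [this]; rfl
    _ = u := rfl

end Atlas

/-- **Gluing of infinitesimal lifts**: a lifting problem `(j, f, top, bot)` over an algebraic space
`T'`, with `j` representable, has exactly one solution as soon as it has exactly one solution over
every affine etale chart of `T'`. -/
theorem exists_unique_glue (hT' : AlgSp.IsAlgSpace T') (hj : AlgSp.Representable j)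
    (HU : UniqLocLifts j f top bot) (HE : ExistsLocLifts j f top bot) :
    ∃! l : T' ⟶ F, j ≫ l = top ∧ l ≫ f = bot := by
  obtain ⟨U, p, hp, hps⟩ := hT'.atlas
  let p' : (AlgSp.yon S).obj (affSigma U) ⟶ T' := (AlgSp.yon S).map (affQ U) ≫ p
  have hp' : AlgSp.RepWith @Etale p' :=
    MorphismProperty.comp_mem _ _ _
      ((AlgSp.repWith_yon_map_iff _ _).2 (inferInstance : Etale (affQ U).left)) hp
  have hps' : AlgSp.RepWith @Surjective p' :=
    MorphismProperty.comp_mem _ _ _
      ((AlgSp.repWith_yon_map_iff _ _).2 (inferInstance : Surjective (affQ U).left)) hps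
  haveI : Epi p' := epi_of_atlas p' hp' hps'
  -- local lifts on the members
  have hloc : ∀ O : U.left.affineOpens,
      ∃ l0, IsLocLift j f top bot ((AlgSp.yon S).map (sigmaι (affCover U) O) ≫ p') l0 := fun O =>
    HE (affCover U O) _ O.2 (MorphismProperty.comp_mem _ _ _
      ((AlgSp.repWith_yon_map_iff _ _).2 (inferInstance : Etale (sigmaι (affCover U) O).left)) hp')
  choose lk hlk using hloc
  obtain ⟨m, hm⟩ := exists_sigmaDesc (affCover U) lk
  -- `m` is a local lift over the atlas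
  have hmL : IsLocLift j f top bot p' m := by
    refine ⟨fun Z a r hr => ?_, ?_⟩
    · apply yon_hom_ext_of_opens
      intro z
      obtain ⟨O, y, hy⟩ := sigmaι_jointly_surjective (affCover U) (r.left z)
      let ZO : Z.left.Opens := r.left ⁻¹ᵁ (sigmaι (affCover U) O).left.opensRange
      have hz : z ∈ ZO := ⟨y, hy⟩
      let rO' : (ZO : Scheme) ⟶ (affCover U O).left :=
        IsOpenImmersion.lift (sigmaι (affCover U) O).left (ZO.ι ≫ r.left) (by
          rintro _ ⟨x, rfl⟩
          exact x.2)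
      have hrO' : rO' ≫ (sigmaι (affCover U) O).left = ZO.ι ≫ r.left := IsOpenImmersion.lift_fac _ _ _
      let rO : Over.mk (ZO.ι ≫ Z.hom) ⟶ affCover U O := Over.homMk rO' (by
        have h1 := Over.w (sigmaι (affCover U) O)
        have h2 := Over.w r
        simp only [Over.mk_hom]
        rw [← h1, ← Category.assoc, hrO', Category.assoc, h2])
      have hrO : rO ≫ sigmaι (affCover U) O = (Over.homMk ZO.ι rfl : Over.mk (ZO.ι ≫ Z.hom) ⟶ Z) ≫ r := by
        ext
        exact hrO'
      refine ⟨ZO, hz, ?_⟩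
      rw [← Functor.map_comp_assoc, ← hrO, Functor.map_comp_assoc, hm O, ← Category.assoc]
      apply (hlk O).1
      rw [Category.assoc, hr, ← Functor.map_comp_assoc, ← hrO, Functor.map_comp_assoc]
    · apply sigma_hom_ext (affCover U)
      intro O
      rw [← Category.assoc, hm O, (hlk O).2, Category.assoc]
  -- the kernel pair of the atlas
  obtain ⟨R, pr2, pr1', sqR⟩ := hp'.1 p'
  obtain ⟨pr1, rfl⟩ := (AlgSp.yon S).map_surjective pr1'
  have hcR : AlgSp.RepWith @Etale ((AlgSp.yon S).map pr2 ≫ p') :=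
    MorphismProperty.comp_mem _ _ _
      ((AlgSp.repWith_yon_map_iff _ _).2 (hp'.2 p' _ pr2 sqR)) hp'
  have hker : (AlgSp.yon S).map pr1 ≫ m = (AlgSp.yon S).map pr2 ≫ m := by
    apply uniq_of_chart HU ((AlgSp.yon S).map pr2 ≫ p') hcR
    · have := hmL.restrict pr1
      rwa [sqR.w] at this
    · exact hmL.restrict pr2
  -- descend along the atlas
  haveI : EffectiveEpi p' := by
    have := IsRegularEpiCategory.regularEpiOfEpi p'
    infer_instance
  let l : T' ⟶ F := EffectiveEpi.desc p' m (fun {Z} g₁ g₂ hg => by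
    obtain ⟨t, e1, e2⟩ : ∃ t, t ≫ (AlgSp.yon S).map pr1 = g₁ ∧ t ≫ (AlgSp.yon S).map pr2 = g₂ :=
      ⟨sqR.lift g₁ g₂ hg, sqR.lift_fst _ _ _, sqR.lift_snd _ _ _⟩
    rw [← e1, ← e2, Category.assoc, Category.assoc, hker])
  have hl : p' ≫ l = m := EffectiveEpi.fac _ _ _
  refine ⟨l, ⟨?_, ?_⟩, ?_⟩
  · obtain ⟨W, snd, fst, sqW⟩ := hj p'
    haveI : Epi fst := epi_of_atlas fst (MorphismProperty.of_isPullback sqW.flip hp')
      (MorphismProperty.of_isPullback sqW.flip hps')
    rw [← cancel_epi fst, ← Category.assoc, sqW.w, Category.assoc, hl]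
    exact hmL.1 W fst snd sqW.w
  · rw [← cancel_epi p', ← Category.assoc, hl, hmL.2]
  · rintro l' ⟨h1, h2⟩
    rw [← cancel_epi p', hl]
    exact uniq_of_chart HU p' hp' _ _ (isLocLift_of_global l' h1 h2 p') hmL

end Groth.Agent.Lib.Helper12.InfGlue2
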