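import Mathlib

set_option autoImplicit false
universe u
open CategoryTheory CategoryTheory.Limits AlgebraicGeometry Opposite

namespace Groth.Agent.Lib.Helper12.SqZeroBC

variable {X Y Z P : Scheme.{u}}

/-- kernel of the base change of a closed immersion of affine schemes is contained in the
extended ideal. -/
lemma ker_fst_le_map [IsAffine X] [IsAffine Y] (f : X ⟶ Y) (i : Z ⟶ Y) [IsClosedImmersion i]
    (fst : P ⟶ X) (snd : P ⟶ Z) (sq : IsPullback fst snd f i) :
    RingHom.ker fst.appTop.hom ≤ (RingHom.ker i.appTop.hom).map f.appTop.hom := by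
  haveI : IsAffine Z := isAffine_of_isAffineHom i
  haveI : IsClosedImmersion fst := MorphismProperty.of_isPullback sq.flip inferInstance
  haveI : IsAffine P := isAffine_of_isAffineHom fst
  set K := RingHom.ker i.appTop.hom with hK
  set J := K.map f.appTop.hom with hJ
  have hsurj : Function.Surjective i.appTop.hom :=
    (IsClosedImmersion.isAffine_surjective_of_isAffine i).2
  -- the ring map `Γ(Z) → Γ(X)/J`
  let g0 : { g : ↑Γ(Y, ⊤) →+* ↑Γ(X, ⊤) ⧸ J // RingHom.ker i.appTop.hom ≤ RingHom.ker g } :=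
    ⟨(Ideal.Quotient.mk J).comp f.appTop.hom, by
      intro y hy
      rw [RingHom.mem_ker, RingHom.comp_apply, Ideal.Quotient.eq_zero_iff_mem]
      exact Ideal.mem_map_of_mem _ hy⟩
  let ρ : ↑Γ(Z, ⊤) →+* ↑Γ(X, ⊤) ⧸ J := RingHom.liftOfSurjective i.appTop.hom hsurj g0
  have hρ : ρ.comp i.appTop.hom = (Ideal.Quotient.mk J).comp f.appTop.hom :=
    RingHom.liftOfSurjective_comp i.appTop.hom hsurj g0
  have hρ' : i.appTop ≫ CommRingCat.ofHom ρ = f.appTop ≫ CommRingCat.ofHom (Ideal.Quotient.mk J) := by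
    ext y
    exact congrArg (fun φ => φ y) hρ
  let q : Spec (.of (↑Γ(X, ⊤) ⧸ J)) ⟶ X := Spec.map (CommRingCat.ofHom (Ideal.Quotient.mk J)) ≫ X.isoSpec.inv
  let r : Spec (.of (↑Γ(X, ⊤) ⧸ J)) ⟶ Z := Spec.map (CommRingCat.ofHom ρ) ≫ Z.isoSpec.inv
  have hqr : q ≫ f = r ≫ i := by
    simp only [q, r, Category.assoc]
    rw [← Scheme.isoSpec_inv_naturality f, ← Scheme.isoSpec_inv_naturality i,
      ← Spec.map_comp_assoc, ← Spec.map_comp_assoc, hρ']
  obtain ⟨l, hl1, -⟩ : ∃ l, l ≫ fst = q ∧ l ≫ snd = r :=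
    ⟨sq.lift q r hqr, sq.lift_fst _ _ _, sq.lift_snd _ _ _⟩
  obtain ⟨μ, hμ⟩ := Spec.map_surjective (l ≫ P.isoSpec.hom)
  have h1 : fst.appTop ≫ μ = CommRingCat.ofHom (Ideal.Quotient.mk J) := by
    apply Spec.map_injective
    rw [Spec.map_comp, hμ, Category.assoc, Scheme.isoSpec_hom_naturality fst, ← Category.assoc,
      hl1]
    simp only [q, Category.assoc, Iso.inv_hom_id, Category.comp_id]
  intro b hb
  have h2 := congrArg (fun φ => φ.hom b) h1
  simp only [CommRingCat.hom_comp, RingHom.comp_apply] at h2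
  rw [RingHom.mem_ker] at hb
  rw [hb, map_zero] at h2
  exact Ideal.Quotient.eq_zero_iff_mem.1 h2.symm

/-- **Base change of a square-zero closed immersion of affine schemes** is square-zero. -/
theorem sqZero_of_isPullback [IsAffine X] [IsAffine Y] (f : X ⟶ Y) (i : Z ⟶ Y) [IsClosedImmersion i]
    (fst : P ⟶ X) (snd : P ⟶ Z) (sq : IsPullback fst snd f i) (hi : i.ker * i.ker = ⊥) :
    fst.ker * fst.ker = ⊥ := by
  haveI : IsClosedImmersion fst := MorphismProperty.of_isPullback sq.flip inferInstance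
  apply Scheme.IdealSheafData.ext_of_isAffine
  change fst.ker.ideal ⟨⊤, isAffineOpen_top _⟩ * fst.ker.ideal ⟨⊤, isAffineOpen_top _⟩ = ⊥
  rw [Scheme.Hom.ker_apply]
  have hK : RingHom.ker i.appTop.hom * RingHom.ker i.appTop.hom = ⊥ := by
    have h1 := congrArg (fun I => I.ideal ⟨⊤, isAffineOpen_top _⟩) hi
    simp only [Scheme.IdealSheafData.ideal_mul, Pi.mul_apply, Scheme.IdealSheafData.ideal_bot,
      Pi.bot_apply] at h1
    rw [Scheme.Hom.ker_apply] at h1
    exact h1
  refine le_antisymm ?_ bot_le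
  refine (Ideal.mul_mono (ker_fst_le_map f i fst snd sq) (ker_fst_le_map f i fst snd sq)).trans ?_
  rw [← Ideal.map_mul, hK, Ideal.map_bot]

end Groth.Agent.Lib.Helper12.SqZeroBC
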