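import Groth.Prelude.Def_AlgSpInf

/-!
Formal manipulation of infinitesimal lifting squares for morphisms of fppf sheaves.
-/

set_option autoImplicit false

universe u

open CategoryTheory CategoryTheory.Limits AlgebraicGeometry

namespace Groth.Agent.Lib.Helper15

variable {S : Scheme.{u}}

/-- the same thickening with new top and bottom arrows -/
noncomputable def infSqChange {F G F' G' : AlgSp.Sp S} {f : F ⟶ G} (sq : AlgSp.InfSq f)
    (f' : F' ⟶ G') (top' : (AlgSp.yon S).obj sq.ptT ⟶ F') (bot' : (AlgSp.yon S).obj sq.ptT' ⟶ G')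
    (comm : top' ≫ f' = (AlgSp.yon S).map sq.j ≫ bot') : AlgSp.InfSq f' :=
  { A := sq.A, I := sq.I, sq_zero := sq.sq_zero, str := sq.str, top := top', bot := bot',
    comm := comm }

theorem hasLift_of_smooth {F G F' G' : AlgSp.Sp S} {f : F ⟶ G} (sq : AlgSp.InfSq f)
    {f' : F' ⟶ G'} (hf' : AlgSp.IsFormallySmoothMor f')
    (top' : (AlgSp.yon S).obj sq.ptT ⟶ F') (bot' : (AlgSp.yon S).obj sq.ptT' ⟶ G')
    (comm : top' ≫ f' = (AlgSp.yon S).map sq.j ≫ bot') :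
    ∃ l : (AlgSp.yon S).obj sq.ptT' ⟶ F', (AlgSp.yon S).map sq.j ≫ l = top' ∧ l ≫ f' = bot' :=
  hf' (infSqChange sq f' top' bot' comm)

theorem uniq_of_unramified {F G F' G' : AlgSp.Sp S} {f : F ⟶ G} (sq : AlgSp.InfSq f)
    {f' : F' ⟶ G'} (hf' : AlgSp.IsFormallyUnramifiedMor f')
    (l l' : (AlgSp.yon S).obj sq.ptT' ⟶ F')
    (h1 : (AlgSp.yon S).map sq.j ≫ l = (AlgSp.yon S).map sq.j ≫ l') (h2 : l ≫ f' = l' ≫ f') :
    l = l' :=
  hf' (infSqChange sq f' ((AlgSp.yon S).map sq.j ≫ l) (l ≫ f') (Category.assoc _ _ _))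
    l l' rfl rfl h1.symm h2.symm

theorem isFormallyEtaleMor_iff {F G : AlgSp.Sp S} (f : F ⟶ G) :
    AlgSp.IsFormallyEtaleMor f ↔ AlgSp.IsFormallySmoothMor f ∧ AlgSp.IsFormallyUnramifiedMor f := by
  constructor
  · intro h
    refine ⟨fun sq => ?_, fun sq => ?_⟩
    · obtain ⟨l, hl, -⟩ := h sq
      exact ⟨l, hl⟩
    · intro l l' h1 h2 h1' h2'
      exact (h sq).unique ⟨h1, h2⟩ ⟨h1', h2'⟩
  · rintro ⟨h1, h2⟩ sq
    obtain ⟨l, hl⟩ := h1 sq
    exact ⟨l, hl, fun l' hl' => h2 sq l' l hl'.1 hl'.2 hl.1 hl.2⟩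

theorem isFormallySmoothMor_comp {F G H : AlgSp.Sp S} (a : F ⟶ G) (b : G ⟶ H)
    (ha : AlgSp.IsFormallySmoothMor a) (hb : AlgSp.IsFormallySmoothMor b) :
    AlgSp.IsFormallySmoothMor (a ≫ b) := by
  intro sq
  obtain ⟨l₁, h11, h12⟩ := hasLift_of_smooth sq hb (sq.top ≫ a) sq.bot
    ((Category.assoc _ _ _).trans sq.comm)
  obtain ⟨l₂, h21, h22⟩ := hasLift_of_smooth sq ha sq.top l₁ h11.symm
  refine ⟨l₂, h21, ?_⟩
  calc l₂ ≫ a ≫ b = (l₂ ≫ a) ≫ b := (Category.assoc _ _ _).symm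
    _ = l₁ ≫ b := by rw [h22]
    _ = sq.bot := h12

theorem isFormallyUnramifiedMor_comp {F G H : AlgSp.Sp S} (a : F ⟶ G) (b : G ⟶ H)
    (ha : AlgSp.IsFormallyUnramifiedMor a) (hb : AlgSp.IsFormallyUnramifiedMor b) :
    AlgSp.IsFormallyUnramifiedMor (a ≫ b) := by
  intro sq l l' h1 h2 h1' h2'
  have hj : (AlgSp.yon S).map sq.j ≫ l = (AlgSp.yon S).map sq.j ≫ l' := h1.trans h1'.symm
  have hl : l ≫ a = l' ≫ a := by
    apply uniq_of_unramified sq hb
    · rw [← Category.assoc, ← Category.assoc, hj]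
    · rw [Category.assoc, Category.assoc]
      exact h2.trans h2'.symm
  exact uniq_of_unramified sq ha l l' hj hl

theorem isFormallyEtaleMor_comp {F G H : AlgSp.Sp S} (a : F ⟶ G) (b : G ⟶ H)
    (ha : AlgSp.IsFormallyEtaleMor a) (hb : AlgSp.IsFormallyEtaleMor b) :
    AlgSp.IsFormallyEtaleMor (a ≫ b) := by
  rw [isFormallyEtaleMor_iff] at ha hb ⊢
  exact ⟨isFormallySmoothMor_comp a b ha.1 hb.1, isFormallyUnramifiedMor_comp a b ha.2 hb.2⟩

theorem isFormallyUnramifiedMor_of_comp {F G H : AlgSp.Sp S} (a : F ⟶ G) (b : G ⟶ H)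
    (hab : AlgSp.IsFormallyUnramifiedMor (a ≫ b)) : AlgSp.IsFormallyUnramifiedMor a := by
  intro sq l l' h1 h2 h1' h2'
  apply uniq_of_unramified sq hab l l' (h1.trans h1'.symm)
  rw [← Category.assoc, ← Category.assoc, h2, h2']

theorem isFormallySmoothMor_of_comp {F G H : AlgSp.Sp S} (a : F ⟶ G) (b : G ⟶ H)
    (hb : AlgSp.IsFormallyUnramifiedMor b)
    (hab : AlgSp.IsFormallySmoothMor (a ≫ b)) : AlgSp.IsFormallySmoothMor a := by
  intro sq
  have hcomm : sq.top ≫ a ≫ b = (AlgSp.yon S).map sq.j ≫ sq.bot ≫ b := by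
    rw [← Category.assoc, ← Category.assoc]
    exact congrArg (· ≫ b) sq.comm
  obtain ⟨l, h1, h2⟩ := hasLift_of_smooth sq hab sq.top (sq.bot ≫ b) hcomm
  refine ⟨l, h1, ?_⟩
  apply uniq_of_unramified sq hb
  · rw [← Category.assoc, h1]
    exact sq.comm
  · rw [Category.assoc]
    exact h2

theorem isFormallySmoothMor_of_isPullback {F G H P : AlgSp.Sp S} (a : F ⟶ G) (b : H ⟶ G)
    (b' : P ⟶ F) (a' : P ⟶ H) (hP : IsPullback b' a' a b)
    (ha : AlgSp.IsFormallySmoothMor a) : AlgSp.IsFormallySmoothMor a' := by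
  intro sq
  have hcomm : (sq.top ≫ b') ≫ a = (AlgSp.yon S).map sq.j ≫ sq.bot ≫ b := by
    rw [Category.assoc, hP.w, ← Category.assoc, sq.comm, Category.assoc]
  obtain ⟨l, h1, h2⟩ := hasLift_of_smooth sq ha (sq.top ≫ b') (sq.bot ≫ b) hcomm
  refine ⟨hP.lift l sq.bot h2, ?_, hP.lift_snd _ _ _⟩
  apply hP.hom_ext
  · rw [Category.assoc, hP.lift_fst]
    exact h1
  · rw [Category.assoc, hP.lift_snd]
    exact sq.comm.symm

theorem isFormallyUnramifiedMor_of_isPullback {F G H P : AlgSp.Sp S} (a : F ⟶ G) (b : H ⟶ G)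
    (b' : P ⟶ F) (a' : P ⟶ H) (hP : IsPullback b' a' a b)
    (ha : AlgSp.IsFormallyUnramifiedMor a) : AlgSp.IsFormallyUnramifiedMor a' := by
  intro sq l l' h1 h2 h1' h2'
  have hj : (AlgSp.yon S).map sq.j ≫ l = (AlgSp.yon S).map sq.j ≫ l' := h1.trans h1'.symm
  apply hP.hom_ext
  · apply uniq_of_unramified sq ha
    · rw [← Category.assoc, ← Category.assoc, hj]
    · rw [Category.assoc, Category.assoc, hP.w, ← Category.assoc, ← Category.assoc, h2, h2']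
  · rw [h2, h2']

end Groth.Agent.Lib.Helper15
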