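import Mathlib
import Groth.Prelude.Def_AlgSpInf
import Groth.Agent.Lib.Helper12EtaleLift
import Groth.Agent.Lib.Helper12SqZeroBC
import Groth.Agent.Lib.Helper12InfGlue2
import Groth.Agent.Lib.Helper15AlgSpInf

set_option autoImplicit false
universe u
open CategoryTheory CategoryTheory.Limits AlgebraicGeometry Opposite
open AlgSp

namespace Groth.Agent.Lib.Helper12.EtaleLift2

open Groth.Agent.Lib.Helper12.EtaleLift Groth.Agent.Lib.Helper12.SqZeroBC
open Groth.Agent.Lib.Helper12.InfGlue Groth.Agent.Lib.Helper12.InfGlue2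
open Groth.Agent.Lib.Helper15

variable {S : Scheme.{u}}

/-- a square-zero closed immersion into an affine scheme is a first order thickening of sheaves. -/
theorem isFOThickMor_yon_map {U V : Over S} (g : U ⟶ V) [IsAffine V.left]
    [IsClosedImmersion g.left] (hk : g.left.ker * g.left.ker = ⊥) :
    AlgSp.IsFOThickMor ((AlgSp.yon S).map g) := by
  have hnil : IsNilpotent g.left.ker := ⟨2, by rw [pow_two]; exact hk⟩
  refine ⟨(AlgSp.isThickMor_yon_map_iff g).2 ⟨inferInstance, ⟨surjective_of_isNilpotent_ker _ hnil⟩⟩, ?_⟩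
  intro V' W' b fst snd hV' hb sqb
  obtain ⟨b', rfl⟩ := (AlgSp.yon S).map_surjective b
  obtain ⟨fst', rfl⟩ := (AlgSp.yon S).map_surjective fst
  have hw : fst' ≫ g = snd ≫ b' := (AlgSp.yon S).map_injective (by
    rw [Functor.map_comp, Functor.map_comp]; exact sqb.w)
  have h1 : IsPullback fst' snd g b' := IsPullback.of_map (AlgSp.yon S) hw sqb
  have h2 : IsPullback fst'.left snd.left g.left b'.left := h1.map (Over.forget S)
  haveI : IsAffine V'.left := hV'
  exact sqZero_of_isPullback b'.left g.left snd.left fst'.left h2.flip hk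

/-- the closed immersion of an infinitesimal lifting square is a first order thickening. -/
theorem isFOThickMor_infSq {F G : AlgSp.Sp S} {f : F ⟶ G} (sq : AlgSp.InfSq f) :
    AlgSp.IsFOThickMor ((AlgSp.yon S).map sq.j) := by
  haveI : IsClosedImmersion sq.j.left :=
    IsClosedImmersion.spec_of_surjective _ Ideal.Quotient.mk_surjective
  haveI : IsAffine sq.ptT'.left := inferInstanceAs (IsAffine (Spec _))
  have hk : sq.j.left.ker * sq.j.left.ker = ⊥ := by
    rw [← pow_two]
    exact ker_pow_two_SpecMap_mk sq.I sq.sq_zero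
  exact isFOThickMor_yon_map sq.j hk

/-- **Formal unramifiedness descends along representable surjective etale morphisms.** -/
theorem isFormallyUnramifiedMor_of_comp_etale_surj {F G H : AlgSp.Sp S} (a : F ⟶ G) (b : G ⟶ H)
    (ha : AlgSp.RepWith @Etale a) (ha' : AlgSp.RepWith @Surjective a)
    (hab : AlgSp.IsFormallyUnramifiedMor (a ≫ b)) : AlgSp.IsFormallyUnramifiedMor b := by
  have haE := isFormallyEtaleMor_of_repWith_etale a ha
  have haS : AlgSp.IsFormallySmoothMor a := fun sq => (haE sq).exists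
  intro sq l l' h1 h2 h1' h2'
  obtain ⟨W, p, x, hW⟩ := ha.1 l
  have hpE : AlgSp.RepWith @Etale ((AlgSp.yon S).map p) :=
    (AlgSp.repWith_yon_map_iff _ _).2 (ha.2 l x p hW)
  have hpS : AlgSp.RepWith @Surjective ((AlgSp.yon S).map p) :=
    (AlgSp.repWith_yon_map_iff _ _).2 (ha'.2 l x p hW)
  haveI : Epi ((AlgSp.yon S).map p) := epi_of_atlas _ hpE hpS
  rw [← cancel_epi ((AlgSp.yon S).map p)]
  apply yon_hom_ext_of_opens
  intro w
  obtain ⟨O, hO, hw⟩ : ∃ O : W.left.Opens, IsAffineOpen O ∧ w ∈ O := by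
    obtain ⟨_, ⟨O, hO, rfl⟩, hw, -⟩ := W.left.isBasis_affineOpens.exists_subset_of_mem_open
      (Set.mem_univ w) isOpen_univ
    exact ⟨O, hO, hw⟩
  refine ⟨O, hw, ?_⟩
  have hj : AlgSp.IsFOThickMor ((AlgSp.yon S).map sq.j) := isFOThickMor_infSq sq
  have hc : AlgSp.RepWith @Etale
      ((AlgSp.yon S).map (Over.homMk O.ι rfl : Over.mk (O.ι ≫ W.hom) ⟶ W) ≫ (AlgSp.yon S).map p) :=
    repWith_etale_restrict _ hpE O
  obtain ⟨P, iV, jV, sqP⟩ := hj.1.1
    ((AlgSp.yon S).map (Over.homMk O.ι rfl : Over.mk (O.ι ≫ W.hom) ⟶ W) ≫ (AlgSp.yon S).map p)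
  have hk : AlgSp.sqZero iV.left := hj.2 _ jV iV hO hc sqP
  haveI : IsClosedImmersion iV.left := (hj.1.2 _ jV iV sqP).1
  haveI : IsAffine (Over.mk (O.ι ≫ W.hom)).left := hO
  have comm : ((AlgSp.yon S).map iV ≫
      (AlgSp.yon S).map (Over.homMk O.ι rfl : Over.mk (O.ι ≫ W.hom) ⟶ W) ≫ x) ≫ a =
      (AlgSp.yon S).map iV ≫
        (((AlgSp.yon S).map (Over.homMk O.ι rfl : Over.mk (O.ι ≫ W.hom) ⟶ W) ≫ (AlgSp.yon S).map p)
          ≫ l') := by
    rw [Category.assoc, Category.assoc, hW.w, ← Category.assoc ((AlgSp.yon S).map _) _ l,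
      ← Category.assoc ((AlgSp.yon S).map iV), ← sqP.w, Category.assoc, h1,
      ← Category.assoc ((AlgSp.yon S).map iV), ← sqP.w, Category.assoc, h1']
  obtain ⟨x', hx'1, hx'2⟩ := exists_lift_of_affine iV a haS hk _ _ comm
  have hxx' : (AlgSp.yon S).map (Over.homMk O.ι rfl : Over.mk (O.ι ≫ W.hom) ⟶ W) ≫ x = x' := by
    apply uniq_of_affine iV (a ≫ b) hab hk _ _ hx'1.symm
    rw [← Category.assoc, ← Category.assoc x', hx'2, Category.assoc _ x a, hW.w, Category.assoc,
      Category.assoc, Category.assoc, Category.assoc, h2, h2']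
  calc (AlgSp.yon S).map (Over.homMk O.ι rfl : Over.mk (O.ι ≫ W.hom) ⟶ W) ≫ (AlgSp.yon S).map p ≫ l
      = ((AlgSp.yon S).map (Over.homMk O.ι rfl : Over.mk (O.ι ≫ W.hom) ⟶ W) ≫ x) ≫ a := by
        rw [Category.assoc, hW.w]
    _ = x' ≫ a := by rw [hxx']
    _ = _ := by rw [hx'2, Category.assoc]

/-- for a morphism of schemes, formal unramifiedness of the morphism of sheaves follows from the
scheme-theoretic notion. -/
theorem isFormallyUnramifiedMor_yon_map {U V : Over S} (h : U ⟶ V) [FormallyUnramified h.left] :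
    AlgSp.IsFormallyUnramifiedMor ((AlgSp.yon S).map h) := by
  intro sq l l' h1 h2 h1' h2'
  obtain ⟨g₁, rfl⟩ := (AlgSp.yon S).map_surjective l
  obtain ⟨g₂, rfl⟩ := (AlgSp.yon S).map_surjective l'
  haveI : IsClosedImmersion sq.j.left :=
    IsClosedImmersion.spec_of_surjective _ Ideal.Quotient.mk_surjective
  have hnil : IsNilpotent sq.j.left.ker := isNilpotent_ker_SpecMap_mk sq.I sq.sq_zero
  have e1 : sq.j ≫ g₁ = sq.j ≫ g₂ := (AlgSp.yon S).map_injective (by
    rw [Functor.map_comp, Functor.map_comp, h1, h1'])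
  have e2 : g₁ ≫ h = g₂ ≫ h := (AlgSp.yon S).map_injective (by
    rw [Functor.map_comp, Functor.map_comp, h2, h2'])
  congr 1
  ext
  exact FormallyUnramified.hom_ext sq.j.left hnil h.left
    (by rw [← Over.comp_left, ← Over.comp_left, e1]) (by rw [← Over.comp_left, ← Over.comp_left, e2])

/-- conversely, formal unramifiedness of `h_g` gives the scheme-theoretic notion. -/
theorem formallyUnramified_of_yon_map {U V : Over S} (h : U ⟶ V)
    (hh : AlgSp.IsFormallyUnramifiedMor ((AlgSp.yon S).map h)) : FormallyUnramified h.left := by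
  refine FormallyUnramified.of_hom_ext h.left fun R R' φ hφ hker g₁ g₂ hg hgh => ?_
  -- the quotient by the kernel
  let ψ : (↑R ⧸ RingHom.ker φ.hom) ≃+* ↑R' := RingHom.quotientKerEquivOfSurjective hφ
  have hψ : CommRingCat.ofHom (Ideal.Quotient.mk (RingHom.ker φ.hom)) ≫
      CommRingCat.ofHom ψ.toRingHom = φ := by
    ext x
    rfl
  haveI : IsIso (CommRingCat.ofHom ψ.toRingHom) := (RingEquiv.toCommRingCatIso ψ).isIso_hom
  have hg' : Spec.map (CommRingCat.ofHom (Ideal.Quotient.mk (RingHom.ker φ.hom))) ≫ g₁ =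
      Spec.map (CommRingCat.ofHom (Ideal.Quotient.mk (RingHom.ker φ.hom))) ≫ g₂ := by
    rw [← hψ, Spec.map_comp, Category.assoc, Category.assoc] at hg
    exact (cancel_epi _).1 hg
  have hstr : g₂ ≫ U.hom = g₁ ≫ U.hom := by
    rw [← Over.w h, ← Category.assoc, ← hgh, Category.assoc]
  let G₁ : Over.mk (g₁ ≫ U.hom) ⟶ U := Over.homMk g₁ rfl
  let G₂ : Over.mk (g₁ ≫ U.hom) ⟶ U := Over.homMk g₂ hstr
  let sq : AlgSp.InfSq ((AlgSp.yon S).map h) :=
    { A := ↑R
      I := RingHom.ker φ.hom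
      sq_zero := hker
      str := g₁ ≫ U.hom
      top := (AlgSp.yon S).map ((Over.homMk (Spec.map (CommRingCat.ofHom
        (Ideal.Quotient.mk (RingHom.ker φ.hom)))) rfl :
          Over.mk (Spec.map (CommRingCat.ofHom (Ideal.Quotient.mk (RingHom.ker φ.hom))) ≫
            g₁ ≫ U.hom) ⟶ Over.mk (g₁ ≫ U.hom)) ≫ G₁)
      bot := (AlgSp.yon S).map (G₁ ≫ h)
      comm := by
        rw [← Functor.map_comp, ← Functor.map_comp, Category.assoc] }
  have key : (AlgSp.yon S).map G₁ = (AlgSp.yon S).map G₂ := by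
    apply hh sq _ _ (by rw [← Functor.map_comp]) (by rw [← Functor.map_comp])
    · rw [← Functor.map_comp]
      congr 1
      ext
      exact hg'.symm
    · rw [← Functor.map_comp]
      congr 1
      ext
      exact hgh.symm
  have := congrArg (fun m => m.left) ((AlgSp.yon S).map_injective key)
  exact this

end Groth.Agent.Lib.Helper12.EtaleLift2
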