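import Mathlib

set_option autoImplicit false
universe u
open CategoryTheory CategoryTheory.Limits AlgebraicGeometry Opposite Polynomial TensorProduct

namespace Groth.Agent.Lib.Helper12.EtaleNbhdLift

/-- **Standard etale pairs lift along square-zero extensions.** -/
lemma exists_lift_pair {A : Type u} [CommRing A] (I : Ideal A) (hI : I ^ 2 = ⊥)
    (P₀ : StandardEtalePair (A ⧸ I)) :
    ∃ P : StandardEtalePair A, P.map (algebraMap A (A ⧸ I)) = P₀ := by
  obtain ⟨f₀, hf₀, g₀, hcond⟩ := P₀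
  obtain ⟨p₁₀, p₂₀, n, e₀⟩ := hcond
  have hsurj : Function.Surjective (Ideal.Quotient.mk I) := Ideal.Quotient.mk_surjective
  obtain ⟨f, hf, -, hfm⟩ := Polynomial.lifts_and_natDegree_eq_and_monic
    (Polynomial.mem_lifts_of_surjective hsurj f₀) hf₀
  obtain ⟨g, hg⟩ := Polynomial.map_surjective _ hsurj g₀
  obtain ⟨p₁, hp₁⟩ := Polynomial.map_surjective _ hsurj p₁₀
  obtain ⟨p₂, hp₂⟩ := Polynomial.map_surjective _ hsurj p₂₀
  set ε : A[X] := derivative f * p₁ + f * p₂ - g ^ n with hε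
  have hε0 : ε.map (Ideal.Quotient.mk I) = 0 := by
    simp only [hε, Polynomial.map_sub, Polynomial.map_add, Polynomial.map_mul, Polynomial.map_pow,
      hf, hg, hp₁, hp₂, ← Polynomial.derivative_map, e₀, sub_self]
  have hεmem : ε ∈ I.map (C : A →+* A[X]) := by
    have : ε ∈ RingHom.ker (Polynomial.mapRingHom (Ideal.Quotient.mk I)) := hε0
    rwa [Polynomial.ker_mapRingHom, Ideal.mk_ker] at this
  have hε2 : ε * ε = 0 := by
    have h1 : ε * ε ∈ I.map (C : A →+* A[X]) * I.map (C : A →+* A[X]) := Ideal.mul_mem_mul hεmem hεmem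
    rw [← Ideal.map_mul, ← pow_two, hI, Ideal.map_bot] at h1
    exact h1
  refine ⟨⟨f, hfm, g, p₁ * (g ^ n - ε), p₂ * (g ^ n - ε), 2 * n, ?_⟩, ?_⟩
  · have : derivative f * p₁ + f * p₂ = g ^ n + ε := by rw [hε]; ring
    calc derivative f * (p₁ * (g ^ n - ε)) + f * (p₂ * (g ^ n - ε))
        = (derivative f * p₁ + f * p₂) * (g ^ n - ε) := by ring
      _ = (g ^ n + ε) * (g ^ n - ε) := by rw [this]
      _ = g ^ (2 * n) - ε * ε := by ring
      _ = g ^ (2 * n) := by rw [hε2, sub_zero]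
  · simp only [StandardEtalePair.map, Ideal.Quotient.algebraMap_eq, hf, hg]

/-- **Etale algebras lift locally along square-zero extensions.** -/
theorem exists_lift_etale {A : Type u} [CommRing A] (I : Ideal A) (hI : I ^ 2 = ⊥)
    (B₁ : Type u) [CommRing B₁] [Algebra (A ⧸ I) B₁] [Algebra.Etale (A ⧸ I) B₁]
    (q : PrimeSpectrum B₁) :
    ∃ (B : Type u) (_ : CommRing B) (_ : Algebra A B) (_ : Algebra.Etale A B)
      (ρ : B₁ →ₐ[A ⧸ I] (A ⧸ I) ⊗[A] B) (q' : PrimeSpectrum ((A ⧸ I) ⊗[A] B)),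
      PrimeSpectrum.comap ρ.toRingHom q' = q := by
  haveI : q.asIdeal.IsPrime := q.2
  obtain ⟨f, hfq, hstd⟩ := Algebra.IsEtaleAt.exists_isStandardEtale (R := A ⧸ I) q.asIdeal
  obtain ⟨P₀, x, hx, hbij⟩ := hstd.nonempty_standardEtalePresentation.some
  obtain ⟨P, rfl⟩ := exists_lift_pair I hI P₀
  let 𝒫B : StandardEtalePresentation A P.Ring :=
    ⟨P, P.X, P.hasMap_X, by simpa [StandardEtalePair.lift_X_left] using Function.bijective_id⟩
  let 𝒫' : StandardEtalePresentation (A ⧸ I) ((A ⧸ I) ⊗[A] P.Ring) := 𝒫B.baseChange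
  let 𝒫₀ : StandardEtalePresentation (A ⧸ I) (Localization.Away f) := ⟨_, x, hx, hbij⟩
  let e : Localization.Away f ≃ₐ[A ⧸ I] (A ⧸ I) ⊗[A] P.Ring := 𝒫₀.equivRing.trans 𝒫'.equivRing.symm
  let ρ : B₁ →ₐ[A ⧸ I] (A ⧸ I) ⊗[A] P.Ring :=
    e.toAlgHom.comp (IsScalarTower.toAlgHom (A ⧸ I) B₁ (Localization.Away f))
  have hq : q ∈ Set.range (PrimeSpectrum.comap (algebraMap B₁ (Localization.Away f))) := by
    rw [PrimeSpectrum.localization_away_comap_range (Localization.Away f) f]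
    exact hfq
  obtain ⟨q₁, hq₁⟩ := hq
  refine ⟨P.Ring, inferInstance, inferInstance, inferInstance, ρ,
    PrimeSpectrum.comap e.symm.toAlgHom.toRingHom q₁, ?_⟩
  rw [← hq₁]
  ext1
  simp only [PrimeSpectrum.comap_asIdeal]
  ext b
  simp only [Ideal.mem_comap]
  change e.symm (e (algebraMap B₁ (Localization.Away f) b)) ∈ q₁.asIdeal ↔ _
  rw [AlgEquiv.symm_apply_apply]

end Groth.Agent.Lib.Helper12.EtaleNbhdLift
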