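import Mathlib
import Groth.Prelude.Def_AlgSpInf
import Groth.Agent.Lib.Helper12InfGlue2

set_option autoImplicit false
universe u
open CategoryTheory CategoryTheory.Limits AlgebraicGeometry Opposite
open AlgSp

namespace Groth.Agent.Lib.Helper12.InfGlue3

open Groth.Agent.Lib.Helper12.InfGlue Groth.Agent.Lib.Helper12.OpenCoverSp
open Groth.Agent.Lib.Helper12.InfGlue2

variable {S : Scheme.{u}} {T T' F G : AlgSp.Sp S} {j : T ⟶ T'} {f : F ⟶ G} {top : T ⟶ F}
  {bot : T' ⟶ G}

/-- **Gluing of infinitesimal lifts along a given etale cover**: local lifts over the members of a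
disjoint union covering `T'` glue, provided local lifts are unique over affine etale charts. -/
theorem exists_glue_of_sigma (hj : AlgSp.Representable j) (HU : UniqLocLifts j f top bot)
    {ι : Type u} (U : ι → Over S) (p' : (AlgSp.yon S).obj (sigmaOver U) ⟶ T')
    (hp' : AlgSp.RepWith @Etale p') (hps' : AlgSp.RepWith @Surjective p')
    (lk : ∀ i, (AlgSp.yon S).obj (U i) ⟶ F)
    (hlk : ∀ i, IsLocLift j f top bot ((AlgSp.yon S).map (sigmaι U i) ≫ p') (lk i)) :
    ∃ l : T' ⟶ F, j ≫ l = top ∧ l ≫ f = bot := by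
  haveI : Epi p' := epi_of_atlas p' hp' hps'
  obtain ⟨m, hm⟩ := exists_sigmaDesc U lk
  -- `m` is a local lift over the cover
  have hmL : IsLocLift j f top bot p' m := by
    refine ⟨fun Z a r hr => ?_, ?_⟩
    · apply yon_hom_ext_of_opens
      intro z
      obtain ⟨O, y, hy⟩ := sigmaι_jointly_surjective U (r.left z)
      let ZO : Z.left.Opens := r.left ⁻¹ᵁ (sigmaι U O).left.opensRange
      have hz : z ∈ ZO := ⟨y, hy⟩
      let rO' : (ZO : Scheme) ⟶ (U O).left :=
        IsOpenImmersion.lift (sigmaι U O).left (ZO.ι ≫ r.left) (by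
          rintro _ ⟨x, rfl⟩
          exact x.2)
      have hrO' : rO' ≫ (sigmaι U O).left = ZO.ι ≫ r.left := IsOpenImmersion.lift_fac _ _ _
      let rO : Over.mk (ZO.ι ≫ Z.hom) ⟶ U O := Over.homMk rO' (by
        have h1 := Over.w (sigmaι U O)
        have h2 := Over.w r
        simp only [Over.mk_hom]
        rw [← h1, ← Category.assoc, hrO', Category.assoc, h2])
      have hrO : rO ≫ sigmaι U O = (Over.homMk ZO.ι rfl : Over.mk (ZO.ι ≫ Z.hom) ⟶ Z) ≫ r := by
        ext
        exact hrO'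
      refine ⟨ZO, hz, ?_⟩
      rw [← Functor.map_comp_assoc, ← hrO, Functor.map_comp_assoc, hm O, ← Category.assoc]
      apply (hlk O).1
      rw [Category.assoc, hr, ← Functor.map_comp_assoc, ← hrO, Functor.map_comp_assoc]
    · apply sigma_hom_ext U
      intro O
      rw [← Category.assoc, hm O, (hlk O).2, Category.assoc]
  -- the kernel pair of the cover
  obtain ⟨R, pr2, pr1', sqR⟩ := hp'.1 p'
  obtain ⟨pr1, rfl⟩ := (AlgSp.yon S).map_surjective pr1'
  have hcR : AlgSp.RepWith @Etale ((AlgSp.yon S).map pr2 ≫ p') :=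
    MorphismProperty.comp_mem _ _ _
      ((AlgSp.repWith_yon_map_iff _ _).2 (hp'.2 p' _ pr2 sqR)) hp'
  have hker : (AlgSp.yon S).map pr1 ≫ m = (AlgSp.yon S).map pr2 ≫ m := by
    apply uniq_of_chart HU ((AlgSp.yon S).map pr2 ≫ p') hcR
    · have := hmL.restrict pr1
      rwa [sqR.w] at this
    · exact hmL.restrict pr2
  -- descend along the cover
  haveI : EffectiveEpi p' := by
    have := IsRegularEpiCategory.regularEpiOfEpi p'
    infer_instance
  let l : T' ⟶ F := EffectiveEpi.desc p' m (fun {Z} g₁ g₂ hg => by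
    obtain ⟨t, e1, e2⟩ : ∃ t, t ≫ (AlgSp.yon S).map pr1 = g₁ ∧ t ≫ (AlgSp.yon S).map pr2 = g₂ :=
      ⟨sqR.lift g₁ g₂ hg, sqR.lift_fst _ _ _, sqR.lift_snd _ _ _⟩
    rw [← e1, ← e2, Category.assoc, Category.assoc, hker])
  have hl : p' ≫ l = m := EffectiveEpi.fac _ _ _
  refine ⟨l, ?_, ?_⟩
  · obtain ⟨W, snd, fst, sqW⟩ := hj p'
    haveI : Epi fst := epi_of_atlas fst (MorphismProperty.of_isPullback sqW.flip hp')
      (MorphismProperty.of_isPullback sqW.flip hps')
    rw [← cancel_epi fst, ← Category.assoc, sqW.w, Category.assoc, hl]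
    exact hmL.1 W fst snd sqW.w
  · rw [← cancel_epi p', ← Category.assoc, hl, hmL.2]

/-- the same for a cover of a scheme by etale scheme charts. -/
theorem exists_glue_of_schemeCover {T'₀ : Over S} {j : T ⟶ (AlgSp.yon S).obj T'₀}
    {bot : (AlgSp.yon S).obj T'₀ ⟶ G} (hj : AlgSp.Representable j)
    (HU : UniqLocLifts j f top bot)
    {ι : Type u} (V : ι → Over S) (c : ∀ i, V i ⟶ T'₀) [∀ i, Etale (c i).left]
    (hc : ∀ x : T'₀.left, ∃ i, x ∈ Set.range (c i).left)
    (lk : ∀ i, (AlgSp.yon S).obj (V i) ⟶ F)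
    (hlk : ∀ i, IsLocLift j f top bot ((AlgSp.yon S).map (c i)) (lk i)) :
    ∃ l : (AlgSp.yon S).obj T'₀ ⟶ F, j ≫ l = top ∧ l ≫ f = bot := by
  let q : sigmaOver V ⟶ T'₀ :=
    Over.homMk (Sigma.desc (fun i => ((c i).left : (V i).left ⟶ T'₀.left)))
      (Sigma.hom_ext _ _ (fun i => by
        simp only [sigmaOver, Over.mk_hom, colimit.ι_desc_assoc, colimit.ι_desc,
          Discrete.functor_obj_eq_as, Cofan.mk_pt, Cofan.mk_ι_app]
        exact Over.w (c i)))
  have hq : ∀ i, sigmaι V i ≫ q = c i := by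
    intro i
    ext
    simp only [Over.comp_left, q, sigmaι, Over.homMk_left]
    exact Sigma.ι_desc _ _
  haveI : Etale q.left := by
    change Etale (Sigma.desc _)
    exact IsZariskiLocalAtSource.sigmaDesc (P := @Etale) (fun i => (inferInstance : Etale (c i).left))
  haveI : Surjective q.left := by
    constructor
    intro x
    obtain ⟨i, y, hy⟩ := hc x
    refine ⟨(sigmaι V i).left y, ?_⟩
    have := congrArg (fun m => m.left) (hq i)
    simp only [Over.comp_left] at this
    calc q.left ((sigmaι V i).left y) = ((sigmaι V i).left ≫ q.left) y := rfl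
      _ = (c i).left y := by rw [this]
      _ = x := hy
  refine exists_glue_of_sigma hj HU V ((AlgSp.yon S).map q)
    ((AlgSp.repWith_yon_map_iff _ _).2 (inferInstance : Etale q.left))
    ((AlgSp.repWith_yon_map_iff _ _).2 (inferInstance : Surjective q.left)) lk (fun i => ?_)
  rw [← Functor.map_comp, hq i]
  exact hlk i

end Groth.Agent.Lib.Helper12.InfGlue3
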