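import Mathlib
import Groth.Prelude.Def_AlgSpInf
import Groth.Agent.Lib.Helper12EtaleNbhdLift0
import Groth.Agent.Lib.Helper12EtaleLift2
import Groth.Agent.Lib.Helper12InfGlue3

set_option autoImplicit false
universe u
open CategoryTheory CategoryTheory.Limits AlgebraicGeometry Opposite TensorProduct
open AlgSp

namespace Groth.Agent.Lib.Helper12.EtaleNbhdLift

open Groth.Agent.Lib.Helper12.EtaleLift Groth.Agent.Lib.Helper12.SqZeroBC
open Groth.Agent.Lib.Helper12.InfGlue Groth.Agent.Lib.Helper12.InfGlue2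
open Groth.Agent.Lib.Helper12.InfGlue3 Groth.Agent.Lib.Helper12.EtaleLift2
open Groth.Agent.Lib.Helper15

/-- **Lifting etale neighbourhoods along a square-zero thickening of affine schemes**
(scheme form). -/
theorem exists_lift_etale_nbhd {A : Type u} [CommRing A] (I : Ideal A) (hI : I ^ 2 = ⊥)
    {W₀ : Scheme.{u}} (p₀ : W₀ ⟶ Spec (.of (A ⧸ I))) [Etale p₀] (w : W₀) :
    ∃ (V V₀ : Scheme.{u}) (c : V ⟶ Spec (.of A)) (i₀ : V₀ ⟶ V) (r : V₀ ⟶ W₀),
      IsAffine V ∧ Etale c ∧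
        IsPullback i₀ (r ≫ p₀) c (Spec.map (CommRingCat.ofHom (Ideal.Quotient.mk I))) ∧
        w ∈ Set.range r := by
  obtain ⟨_, ⟨W₁, hW₁, rfl⟩, hwW₁, -⟩ :=
    W₀.isBasis_affineOpens.exists_subset_of_mem_open (Set.mem_univ w) isOpen_univ
  obtain ⟨φ, hφ⟩ := Spec.map_surjective (hW₁.fromSpec ≫ p₀)
  have hφE : φ.hom.Etale := by
    rw [← HasRingHomProperty.Spec_iff (P := @Etale), hφ]
    infer_instance
  algebraize [φ.hom]
  obtain ⟨y, hy⟩ : w ∈ Set.range hW₁.fromSpec := by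
    rw [hW₁.range_fromSpec]
    exact hwW₁
  obtain ⟨B, _, _, _, ρ, q', hq'⟩ := exists_lift_etale I hI ↑Γ(W₀, W₁) y
  refine ⟨Spec (.of B), Spec (.of ((A ⧸ I) ⊗[A] B)), Spec.map (CommRingCat.ofHom (algebraMap A B)),
    Spec.map (CommRingCat.ofHom (Algebra.TensorProduct.includeRight (R := A) (A := A ⧸ I) (B := B)).toRingHom),
    Spec.map (CommRingCat.ofHom ρ.toRingHom) ≫ hW₁.fromSpec, inferInstance, ?_, ?_, ?_⟩
  · rw [HasRingHomProperty.Spec_iff (P := @Etale)]
    exact RingHom.etale_algebraMap.2 inferInstance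
  · have h1 : (Spec.map (CommRingCat.ofHom ρ.toRingHom) ≫ hW₁.fromSpec) ≫ p₀ =
        Spec.map (CommRingCat.ofHom (Algebra.TensorProduct.includeLeftRingHom
          (R := A) (A := A ⧸ I) (B := B))) := by
      rw [Category.assoc, ← hφ, ← Spec.map_comp]
      congr 1
      ext a
      exact ρ.commutes a
    rw [h1]
    exact (isPullback_SpecMap_of_isPushout _ _ _ _
      (CommRingCat.isPushout_tensorProduct A (A ⧸ I) B)).flip
  · refine ⟨q', ?_⟩
    rw [Scheme.Hom.comp_apply]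
    have : (Spec.map (CommRingCat.ofHom ρ.toRingHom)) q' = y := hq'
    rw [this, hy]

variable {S : Scheme.{u}}

/-- **Etale-local lifts for a formally smooth composite** (the source of S12195): if `a` is
representable, surjective and etale and `a ≫ b` is formally smooth, every infinitesimal lifting
problem for `b` can be solved etale locally on `T'`. -/
theorem exists_local_lift {F G H : AlgSp.Sp S} (a : F ⟶ G) (b : G ⟶ H)
    (ha : AlgSp.RepWith @Etale a) (ha' : AlgSp.RepWith @Surjective a)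
    (hab : AlgSp.IsFormallySmoothMor (a ≫ b)) (sq : AlgSp.InfSq b) (t : ↥sq.ptT'.left) :
    ∃ (V : Over S) (c : V ⟶ sq.ptT') (l : (AlgSp.yon S).obj V ⟶ G),
      IsAffine V.left ∧ Etale c.left ∧ (∃ v : ↥V.left, c.left v = t) ∧
        IsLocLift ((AlgSp.yon S).map sq.j) b sq.top sq.bot ((AlgSp.yon S).map c) l := by
  haveI : IsClosedImmersion sq.j.left :=
    IsClosedImmersion.spec_of_surjective _ Ideal.Quotient.mk_surjective
  have hnil : IsNilpotent sq.j.left.ker := isNilpotent_ker_SpecMap_mk sq.I sq.sq_zero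
  have hk : sq.j.left.ker * sq.j.left.ker = ⊥ := by
    rw [← pow_two]
    exact ker_pow_two_SpecMap_mk sq.I sq.sq_zero
  obtain ⟨t₀, rfl⟩ := surjective_of_isNilpotent_ker sq.j.left hnil t
  obtain ⟨W₀, p₀, x₀, hW₀⟩ := ha.1 sq.top
  haveI : Etale p₀.left := ha.2 sq.top x₀ p₀ hW₀
  haveI : Surjective p₀.left := ha'.2 sq.top x₀ p₀ hW₀
  obtain ⟨w, hw⟩ := p₀.left.surjective t₀
  obtain ⟨V, V₀, c, i₀, r, hV, hc, hpb, ⟨v₀, hv₀⟩⟩ :=
    exists_lift_etale_nbhd sq.I sq.sq_zero p₀.left w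
  -- objects over `S`
  let Vo : Over S := Over.mk (c ≫ sq.str)
  let V₀o : Over S := Over.mk (i₀ ≫ c ≫ sq.str)
  let co : Vo ⟶ sq.ptT' := Over.homMk c rfl
  let i₀o : V₀o ⟶ Vo := Over.homMk i₀ rfl
  have hr : r ≫ W₀.hom = i₀ ≫ c ≫ sq.str := by
    have h1 := Over.w p₀
    have h2 := hpb.w
    rw [← h1, ← Category.assoc]
    change (r ≫ p₀.left) ≫ Spec.map _ ≫ sq.str = _
    rw [← Category.assoc, ← h2, Category.assoc]
  let ro : V₀o ⟶ W₀ := Over.homMk r hr
  have hcomm : i₀o ≫ co = (ro ≫ p₀) ≫ sq.j := by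
    ext
    exact hpb.w
  have hpbO : IsPullback i₀o (ro ≫ p₀) co sq.j := IsPullback.of_map (Over.forget S) hcomm hpb
  haveI : IsAffine Vo.left := hV
  haveI : IsClosedImmersion i₀o.left :=
    MorphismProperty.of_isPullback (P := @IsClosedImmersion) hpb.flip
      (inferInstance : IsClosedImmersion sq.j.left)
  have hk₀ : i₀o.left.ker * i₀o.left.ker = ⊥ :=
    sqZero_of_isPullback c sq.j.left i₀ (r ≫ p₀.left) hpb hk
  -- the lifting problem for `a ≫ b`
  have comm : ((AlgSp.yon S).map ro ≫ x₀) ≫ a ≫ b =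
      (AlgSp.yon S).map i₀o ≫ ((AlgSp.yon S).map co ≫ sq.bot) := by
    rw [Category.assoc, ← Category.assoc x₀, hW₀.w, Category.assoc, sq.comm,
      ← Functor.map_comp_assoc, ← Functor.map_comp_assoc, ← Functor.map_comp_assoc, hcomm]
  obtain ⟨y, hy1, hy2⟩ := exists_lift_of_affine i₀o (a ≫ b) hab hk₀ _ _ comm
  refine ⟨Vo, co, y ≫ a, hV, hc, ⟨i₀ v₀, ?_⟩, ?_⟩
  · change (i₀ ≫ c) v₀ = _
    rw [hpb.w, Scheme.Hom.comp_apply, Scheme.Hom.comp_apply, hv₀, hw]
    rfl
  · rw [isLocLift_iff_of_isPullback ((AlgSp.yon S).map co) ((AlgSp.yon S).map (ro ≫ p₀)) i₀o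
      (hpbO.map (AlgSp.yon S)).flip]
    refine ⟨?_, ?_⟩
    · rw [← Category.assoc, hy1, Category.assoc, hW₀.w, Functor.map_comp, Category.assoc]
    · rw [Category.assoc, hy2]

/-- **Formal etaleness descends along representable surjective etale morphisms.** -/
theorem isFormallyEtaleMor_of_comp_etale_surj {F G H : AlgSp.Sp S} (a : F ⟶ G) (b : G ⟶ H)
    (ha : AlgSp.RepWith @Etale a) (ha' : AlgSp.RepWith @Surjective a)
    (hab : AlgSp.IsFormallyEtaleMor (a ≫ b)) : AlgSp.IsFormallyEtaleMor b := by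
  rw [isFormallyEtaleMor_iff] at hab ⊢
  have hbU := isFormallyUnramifiedMor_of_comp_etale_surj a b ha ha' hab.2
  refine ⟨fun sq => ?_, hbU⟩
  have hj : AlgSp.IsFOThickMor ((AlgSp.yon S).map sq.j) := isFOThickMor_infSq sq
  have HU : UniqLocLifts ((AlgSp.yon S).map sq.j) b sq.top sq.bot := by
    intro V c hV hc l0 l0' h h'
    obtain ⟨W, snd, fst, sqW⟩ := hj.1.1 c
    have hthick := hj.1.2 c fst snd sqW
    have hsq0 : AlgSp.sqZero snd.left := hj.2 c fst snd hV hc sqW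
    haveI : IsClosedImmersion snd.left := hthick.1
    haveI : IsAffine V.left := hV
    rw [isLocLift_iff_of_isPullback c fst snd sqW] at h h'
    exact uniq_of_affine snd b hbU hsq0 l0 l0' (h.1.trans h'.1.symm) (h.2.trans h'.2.symm)
  choose V c l hV hc hv hl using exists_local_lift a b ha ha' hab.1 sq
  haveI : ∀ t, Etale (c t).left := hc
  exact exists_glue_of_schemeCover hj.1.1 HU V c (fun x => ⟨x, hv x⟩) l hl

end Groth.Agent.Lib.Helper12.EtaleNbhdLift
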