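import Mathlib
import Groth.Prelude.Def_AlgSpInf
import Groth.Agent.Lib.Helper12EtaleNbhdLift

set_option autoImplicit false
universe u
open CategoryTheory CategoryTheory.Limits AlgebraicGeometry Opposite
open AlgSp

namespace Groth.Agent.Lib.Helper12.EtaleLift3

open Groth.Agent.Lib.Helper12.EtaleLift Groth.Agent.Lib.Helper12.EtaleLift2
open Groth.Agent.Lib.Helper12.EtaleNbhdLift Groth.Agent.Lib.Helper15

variable {S : Scheme.{u}}

/-- for `h_g`, formal etaleness of sheaves gives the scheme-theoretic lifting property. -/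
theorem isFormallyEtaleHom_of_yon_map {U V : Over S} (h : U ⟶ V)
    (hh : AlgSp.IsFormallyEtaleMor ((AlgSp.yon S).map h)) : MoreMor.IsFormallyEtaleHom h.left := by
  intro A _ I hI a₀ b₀ hcomm
  have hstr : a₀ ≫ U.hom = Spec.map (CommRingCat.ofHom (Ideal.Quotient.mk I)) ≫ b₀ ≫ V.hom := by
    rw [← Over.w h, ← Category.assoc, ← hcomm, Category.assoc]
  let top₀ : Over.mk (Spec.map (CommRingCat.ofHom (Ideal.Quotient.mk I)) ≫ b₀ ≫ V.hom) ⟶ U :=
    Over.homMk a₀ hstr
  let bot₀ : Over.mk (b₀ ≫ V.hom) ⟶ V := Over.homMk b₀ rfl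
  let sq : AlgSp.InfSq ((AlgSp.yon S).map h) :=
    { A := A
      I := I
      sq_zero := hI
      str := b₀ ≫ V.hom
      top := (AlgSp.yon S).map top₀
      bot := (AlgSp.yon S).map bot₀
      comm := by
        rw [← Functor.map_comp, ← Functor.map_comp]
        congr 1
        ext
        exact hcomm.symm }
  obtain ⟨l, ⟨hl1, hl2⟩, hlu⟩ := hh sq
  obtain ⟨g, rfl⟩ := (AlgSp.yon S).map_surjective l
  have e1 : sq.j ≫ g = top₀ := (AlgSp.yon S).map_injective (by rw [Functor.map_comp]; exact hl1)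
  have e2 : g ≫ h = bot₀ := (AlgSp.yon S).map_injective (by rw [Functor.map_comp]; exact hl2)
  refine ⟨g.left, ⟨congrArg (fun m => m.left) e1, congrArg (fun m => m.left) e2⟩, ?_⟩
  rintro l' ⟨h1, h2⟩
  have hw' : l' ≫ U.hom = b₀ ≫ V.hom := by
    rw [← Over.w h, ← Category.assoc, h2]
  let g' : Over.mk (b₀ ≫ V.hom) ⟶ U := Over.homMk l' hw'
  have := hlu ((AlgSp.yon S).map g') ⟨by
    rw [← Functor.map_comp]
    congr 1
    ext
    exact h1, by
    rw [← Functor.map_comp]
    congr 1
    ext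
    exact h2⟩
  exact congrArg (fun m => m.left) ((AlgSp.yon S).map_injective this)

/-- conversely, the scheme-theoretic lifting property gives formal etaleness of `h_g`. -/
theorem isFormallyEtaleMor_yon_map {U V : Over S} (h : U ⟶ V)
    (hh : MoreMor.IsFormallyEtaleHom h.left) : AlgSp.IsFormallyEtaleMor ((AlgSp.yon S).map h) := by
  intro sq
  obtain ⟨top₀, htop⟩ := (AlgSp.yon S).map_surjective sq.top
  obtain ⟨bot₀, hbot⟩ := (AlgSp.yon S).map_surjective sq.bot
  have hc : top₀ ≫ h = sq.j ≫ bot₀ := (AlgSp.yon S).map_injective (by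
    rw [Functor.map_comp, Functor.map_comp, htop, hbot]; exact sq.comm)
  obtain ⟨l₀, ⟨h1, h2⟩, hu⟩ := hh sq.A sq.I sq.sq_zero top₀.left bot₀.left
    (congrArg (fun m => m.left) hc).symm
  have hw : l₀ ≫ U.hom = sq.str := by
    rw [← Over.w h, ← Category.assoc, h2]
    exact Over.w bot₀
  let g : sq.ptT' ⟶ U := Over.homMk l₀ hw
  refine ⟨(AlgSp.yon S).map g, ⟨?_, ?_⟩, ?_⟩
  · rw [← htop, ← Functor.map_comp]
    congr 1
    ext
    exact h1
  · rw [← hbot, ← Functor.map_comp]
    congr 1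
    ext
    exact h2
  · rintro l' ⟨e1, e2⟩
    obtain ⟨g', rfl⟩ := (AlgSp.yon S).map_surjective l'
    congr 1
    ext
    apply hu
    refine ⟨?_, ?_⟩
    · have : sq.j ≫ g' = top₀ := (AlgSp.yon S).map_injective (by
        rw [Functor.map_comp, htop]; exact e1)
      exact congrArg (fun m => m.left) this
    · have : g' ≫ h = bot₀ := (AlgSp.yon S).map_injective (by
        rw [Functor.map_comp, hbot]; exact e2)
      exact congrArg (fun m => m.left) this

/-- **Etale morphisms of algebraic spaces are formally etale.** -/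
theorem isFormallyEtaleMor_of_isEtaleMor {X Y : AlgSp.Sp S} (hX : AlgSp.IsAlgSpace X) (f : X ⟶ Y)
    (hf : AlgSp.IsEtaleMor f) : AlgSp.IsFormallyEtaleMor f := by
  obtain ⟨U, a, ha, has⟩ := hX.atlas
  exact isFormallyEtaleMor_of_comp_etale_surj a f ha has
    (isFormallyEtaleMor_of_repWith_etale _ (hf a ha))

end Groth.Agent.Lib.Helper12.EtaleLift3
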