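import Mathlib
import Groth.Agent.Lib.Helper12InfGlue

set_option autoImplicit false
universe u
open CategoryTheory CategoryTheory.Limits AlgebraicGeometry Opposite Polynomial TensorProduct

namespace Groth.Agent.Lib.Helper12.EtaleNbhdLiftGen

section pair
variable {R : Type u} [CommRing R]

/-- the standard etale pair `(f, g f')`, which presents the same algebra as `(f, g)`. -/
noncomputable def pairMulDeriv (P : StandardEtalePair R) : StandardEtalePair R where
  f := P.f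
  monic_f := P.monic_f
  g := P.g * derivative P.f
  cond := ⟨P.g, 0, 1, by ring⟩

lemma hasMap_pairMulDeriv {S : Type*} [CommRing S] [Algebra R S] (P : StandardEtalePair R) {x : S}
    (h : P.HasMap x) : (pairMulDeriv P).HasMap x :=
  ⟨h.1, by
    change IsUnit (aeval x (P.g * derivative P.f))
    rw [map_mul]
    exact h.2.mul h.isUnit_derivative_f⟩

lemma hasMap_of_pairMulDeriv {S : Type*} [CommRing S] [Algebra R S] (P : StandardEtalePair R) {x : S}
    (h : (pairMulDeriv P).HasMap x) : P.HasMap x :=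
  ⟨h.1, by
    have h2 : IsUnit (aeval x (P.g * derivative P.f)) := h.2
    rw [map_mul] at h2
    exact isUnit_of_mul_isUnit_left h2⟩

/-- a presentation by `(f, g)` gives a presentation by `(f, g f')`. -/
lemma bijective_lift_pairMulDeriv {S : Type*} [CommRing S] [Algebra R S] (P : StandardEtalePair R)
    {x : S} (h : P.HasMap x) (hb : Function.Bijective (P.lift x h)) :
    Function.Bijective ((pairMulDeriv P).lift x (hasMap_pairMulDeriv P h)) := by
  let φ : (pairMulDeriv P).Ring →ₐ[R] P.Ring :=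
    (pairMulDeriv P).lift P.X (hasMap_pairMulDeriv P P.hasMap_X)
  let ψ : P.Ring →ₐ[R] (pairMulDeriv P).Ring :=
    P.lift (pairMulDeriv P).X (hasMap_of_pairMulDeriv P (pairMulDeriv P).hasMap_X)
  have h1 : φ.comp ψ = AlgHom.id R _ := StandardEtalePair.hom_ext (by simp [φ, ψ])
  have h2 : ψ.comp φ = AlgHom.id R _ := StandardEtalePair.hom_ext (by simp [φ, ψ])
  have hφ : Function.Bijective φ :=
    ⟨Function.LeftInverse.injective (g := ψ) fun y => congr($h2 y),
      Function.RightInverse.surjective (g := ψ) fun y => congr($h1 y)⟩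
  have h3 : (pairMulDeriv P).lift x (hasMap_pairMulDeriv P h) = (P.lift x h).comp φ :=
    StandardEtalePair.hom_ext (by simp [φ])
  rw [h3]
  exact hb.comp hφ

end pair

/-- **Standard etale pairs of the form `(f, g f')` lift along arbitrary surjections `A → A/I`.** -/
lemma exists_lift_pair {A : Type u} [CommRing A] (I : Ideal A) (P₀ : StandardEtalePair (A ⧸ I)) :
    ∃ P : StandardEtalePair A, P.map (algebraMap A (A ⧸ I)) = pairMulDeriv P₀ := by
  obtain ⟨f₀, hf₀, g₀, hcond⟩ := P₀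
  have hsurj : Function.Surjective (Ideal.Quotient.mk I) := Ideal.Quotient.mk_surjective
  obtain ⟨f, hf, -, hfm⟩ := Polynomial.lifts_and_natDegree_eq_and_monic
    (Polynomial.mem_lifts_of_surjective hsurj f₀) hf₀
  obtain ⟨g, hg⟩ := Polynomial.map_surjective _ hsurj g₀
  subst hf hg
  refine ⟨⟨f, hfm, g * derivative f, g, 0, 1, by ring⟩, ?_⟩
  simp only [StandardEtalePair.map, pairMulDeriv, Ideal.Quotient.algebraMap_eq,
    Polynomial.map_mul, Polynomial.derivative_map]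

/-- **Etale algebras lift locally along arbitrary surjections.** -/
theorem exists_lift_etale {A : Type u} [CommRing A] (I : Ideal A)
    (B₁ : Type u) [CommRing B₁] [Algebra (A ⧸ I) B₁] [Algebra.Etale (A ⧸ I) B₁]
    (q : PrimeSpectrum B₁) :
    ∃ (B : Type u) (_ : CommRing B) (_ : Algebra A B) (_ : Algebra.Etale A B)
      (ρ : B₁ →ₐ[A ⧸ I] (A ⧸ I) ⊗[A] B) (q' : PrimeSpectrum ((A ⧸ I) ⊗[A] B)),
      PrimeSpectrum.comap ρ.toRingHom q' = q := by
  haveI : q.asIdeal.IsPrime := q.2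
  obtain ⟨f, hfq, hstd⟩ := Algebra.IsEtaleAt.exists_isStandardEtale (R := A ⧸ I) q.asIdeal
  obtain ⟨P₀, x, hx, hbij⟩ := hstd.nonempty_standardEtalePresentation.some
  obtain ⟨Q, hx', hb', P, rfl⟩ : ∃ (Q : StandardEtalePair (A ⧸ I)) (hx' : Q.HasMap x),
      Function.Bijective (Q.lift x hx') ∧
        ∃ P : StandardEtalePair A, P.map (algebraMap A (A ⧸ I)) = Q :=
    ⟨pairMulDeriv P₀, hasMap_pairMulDeriv P₀ hx, bijective_lift_pairMulDeriv P₀ hx hbij,
      exists_lift_pair I P₀⟩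
  let 𝒫B : StandardEtalePresentation A P.Ring :=
    ⟨P, P.X, P.hasMap_X, by simpa [StandardEtalePair.lift_X_left] using Function.bijective_id⟩
  let 𝒫' : StandardEtalePresentation (A ⧸ I) ((A ⧸ I) ⊗[A] P.Ring) := 𝒫B.baseChange
  let 𝒫₀ : StandardEtalePresentation (A ⧸ I) (Localization.Away f) := ⟨_, x, hx', hb'⟩
  let e : Localization.Away f ≃ₐ[A ⧸ I] (A ⧸ I) ⊗[A] P.Ring :=
    𝒫₀.equivRing.trans 𝒫'.equivRing.symm
  let ρ : B₁ →ₐ[A ⧸ I] (A ⧸ I) ⊗[A] P.Ring :=
    e.toAlgHom.comp (IsScalarTower.toAlgHom (A ⧸ I) B₁ (Localization.Away f))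
  have hq : q ∈ Set.range (PrimeSpectrum.comap (algebraMap B₁ (Localization.Away f))) := by
    rw [PrimeSpectrum.localization_away_comap_range (Localization.Away f) f]
    exact hfq
  obtain ⟨q₁, hq₁⟩ := hq
  refine ⟨P.Ring, inferInstance, inferInstance, inferInstance, ρ,
    PrimeSpectrum.comap e.symm.toAlgHom.toRingHom q₁, ?_⟩
  rw [← hq₁]
  ext1
  simp only [PrimeSpectrum.comap_asIdeal]
  ext b
  simp only [Ideal.mem_comap]
  change e.symm (e (algebraMap B₁ (Localization.Away f) b)) ∈ q₁.asIdeal ↔ _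
  rw [AlgEquiv.symm_apply_apply]

/-- **Lifting etale neighbourhoods along an arbitrary closed immersion of affine schemes**
`Spec (A ⧸ I) ⟶ Spec A`. -/
theorem exists_lift_etale_nbhd_spec {A : Type u} [CommRing A] (I : Ideal A)
    {W₀ : Scheme.{u}} (p₀ : W₀ ⟶ Spec (.of (A ⧸ I))) [Etale p₀] (w : W₀) :
    ∃ (V V₀ : Scheme.{u}) (c : V ⟶ Spec (.of A)) (i₀ : V₀ ⟶ V) (r : V₀ ⟶ W₀),
      IsAffine V ∧ Etale c ∧
        IsPullback i₀ (r ≫ p₀) c (Spec.map (CommRingCat.ofHom (Ideal.Quotient.mk I))) ∧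
        w ∈ Set.range r := by
  obtain ⟨_, ⟨W₁, hW₁, rfl⟩, hwW₁, -⟩ :=
    W₀.isBasis_affineOpens.exists_subset_of_mem_open (Set.mem_univ w) isOpen_univ
  obtain ⟨φ, hφ⟩ := Spec.map_surjective (hW₁.fromSpec ≫ p₀)
  have hφE : φ.hom.Etale := by
    rw [← HasRingHomProperty.Spec_iff (P := @Etale), hφ]
    infer_instance
  algebraize [φ.hom]
  obtain ⟨y, hy⟩ : w ∈ Set.range hW₁.fromSpec := by
    rw [hW₁.range_fromSpec]
    exact hwW₁
  obtain ⟨B, _, _, _, ρ, q', hq'⟩ := exists_lift_etale I ↑Γ(W₀, W₁) y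
  refine ⟨Spec (.of B), Spec (.of ((A ⧸ I) ⊗[A] B)), Spec.map (CommRingCat.ofHom (algebraMap A B)),
    Spec.map (CommRingCat.ofHom (Algebra.TensorProduct.includeRight (R := A) (A := A ⧸ I) (B := B)).toRingHom),
    Spec.map (CommRingCat.ofHom ρ.toRingHom) ≫ hW₁.fromSpec, inferInstance, ?_, ?_, ?_⟩
  · rw [HasRingHomProperty.Spec_iff (P := @Etale)]
    exact RingHom.etale_algebraMap.2 inferInstance
  · have h1 : (Spec.map (CommRingCat.ofHom ρ.toRingHom) ≫ hW₁.fromSpec) ≫ p₀ =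
        Spec.map (CommRingCat.ofHom (Algebra.TensorProduct.includeLeftRingHom
          (R := A) (A := A ⧸ I) (B := B))) := by
      rw [Category.assoc, ← hφ, ← Spec.map_comp]
      congr 1
      ext a
      exact ρ.commutes a
    rw [h1]
    exact (isPullback_SpecMap_of_isPushout _ _ _ _
      (CommRingCat.isPushout_tensorProduct A (A ⧸ I) B)).flip
  · refine ⟨q', ?_⟩
    rw [Scheme.Hom.comp_apply]
    have : (Spec.map (CommRingCat.ofHom ρ.toRingHom)) q' = y := hq'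
    rw [this, hy]

open Groth.Agent.Lib.Helper12.InfGlue in
/-- **Lifting etale neighbourhoods along an arbitrary closed immersion of schemes**: for a closed
immersion `j : W ⟶ W'`, an etale `p₀ : W₀ ⟶ W` and a point `w` of `W₀` there is an affine scheme `V` etale
over `W'` whose base change to `W` maps to `W₀` over `W`, hitting `w`. -/
theorem exists_lift_etale_nbhd {W W' W₀ : Scheme.{u}} (j : W ⟶ W') [IsClosedImmersion j]
    (p₀ : W₀ ⟶ W) [Etale p₀] (w : W₀) :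
    ∃ (V V₀ : Scheme.{u}) (c : V ⟶ W') (i₀ : V₀ ⟶ V) (r : V₀ ⟶ W₀),
      IsAffine V ∧ Etale c ∧ IsPullback i₀ (r ≫ p₀) c j ∧ w ∈ Set.range r := by
  obtain ⟨_, ⟨D', hD', rfl⟩, hxD', -⟩ :=
    W'.isBasis_affineOpens.exists_subset_of_mem_open (Set.mem_univ (j (p₀ w))) isOpen_univ
  haveI : IsAffine (D' : Scheme.{u}) := hD'
  let k : ((j ⁻¹ᵁ D' : W.Opens) : Scheme.{u}) ⟶ (D' : Scheme.{u}) := j ∣_ D'
  haveI : IsClosedImmersion k := inferInstanceAs (IsClosedImmersion (j ∣_ D'))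
  let Vo : Over (D' : Scheme.{u}) := Over.mk (𝟙 _)
  let Wo : Over (D' : Scheme.{u}) := Over.mk k
  let ko : Wo ⟶ Vo := Over.homMk k (by simp [Vo, Wo])
  haveI : IsAffine Vo.left := hD'
  haveI : IsClosedImmersion ko.left := inferInstanceAs (IsClosedImmersion k)
  let e := eW0 ko
  have he : e.hom ≫ k = Spec.map (CommRingCat.ofHom (Ideal.Quotient.mk (kerI ko))) ≫
      (D' : Scheme.{u}).isoSpec.inv := eW0_hom_comp ko
  let p₁ := p₀ ∣_ (j ⁻¹ᵁ D')
  haveI : Etale p₁ := inferInstanceAs (Etale (p₀ ∣_ (j ⁻¹ᵁ D')))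
  have hw : w ∈ p₀ ⁻¹ᵁ (j ⁻¹ᵁ D') := hxD'
  obtain ⟨V, V₀, c₀, i₀, r₀, hV, hc₀, hpb, ⟨v₀, hv₀⟩⟩ :=
    exists_lift_etale_nbhd_spec (kerI ko) (p₁ ≫ e.inv) ⟨w, hw⟩
  haveI := hc₀
  refine ⟨V, V₀, c₀ ≫ (D' : Scheme.{u}).isoSpec.inv ≫ Scheme.Opens.ι D', i₀,
    r₀ ≫ (p₀ ⁻¹ᵁ (j ⁻¹ᵁ D')).ι, hV, inferInstance, ?_, ⟨v₀, ?_⟩⟩
  · have sq2 : IsPullback (Spec.map (CommRingCat.ofHom (Ideal.Quotient.mk (kerI ko))))
        (e.hom ≫ (j ⁻¹ᵁ D').ι) ((D' : Scheme.{u}).isoSpec.inv ≫ Scheme.Opens.ι D') j := by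
      refine (isPullback_morphismRestrict j D').of_iso e.symm (D' : Scheme.{u}).isoSpec
        (Iso.refl _) (Iso.refl _) ?_ ?_ ?_ ?_
      · rw [Iso.symm_hom, Iso.eq_inv_comp, ← Category.assoc, he, Category.assoc, Iso.inv_hom_id,
          Category.comp_id]
      · simp
      · simp
      · simp
    have := hpb.paste_vert sq2
    have h2 : (r₀ ≫ p₁ ≫ e.inv) ≫ e.hom ≫ (j ⁻¹ᵁ D').ι =
        (r₀ ≫ (p₀ ⁻¹ᵁ (j ⁻¹ᵁ D')).ι) ≫ p₀ := by
      simp only [Category.assoc, Iso.inv_hom_id_assoc]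
      rw [morphismRestrict_ι]
    rw [h2] at this
    exact this
  · rw [Scheme.Hom.comp_apply, hv₀]
    rfl

end Groth.Agent.Lib.Helper12.EtaleNbhdLiftGen
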