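import Mathlib
import Groth.Agent.Lib.Helper12EtaleNbhdLiftGen

set_option autoImplicit false
universe u
open CategoryTheory CategoryTheory.Limits AlgebraicGeometry Opposite Polynomial TensorProduct

namespace Groth.Agent.Lib.Helper12.EtaleNbhdLiftOI

open Groth.Agent.Lib.Helper12.EtaleNbhdLiftGen

/-- **Etale algebras lift locally along arbitrary surjections**, open immersion form: the comparison
map `Spec ((A/I) ⊗ B) ⟶ Spec B₁` is an open immersion. -/
theorem exists_lift_etale_oi {A : Type u} [CommRing A] (I : Ideal A)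
    (B₁ : Type u) [CommRing B₁] [Algebra (A ⧸ I) B₁] [Algebra.Etale (A ⧸ I) B₁]
    (q : PrimeSpectrum B₁) :
    ∃ (B : Type u) (_ : CommRing B) (_ : Algebra A B) (_ : Algebra.Etale A B)
      (ρ : B₁ →ₐ[A ⧸ I] (A ⧸ I) ⊗[A] B) (q' : PrimeSpectrum ((A ⧸ I) ⊗[A] B)),
      PrimeSpectrum.comap ρ.toRingHom q' = q ∧
        IsOpenImmersion (Spec.map (CommRingCat.ofHom ρ.toRingHom)) := by
  haveI : q.asIdeal.IsPrime := q.2
  obtain ⟨f, hfq, hstd⟩ := Algebra.IsEtaleAt.exists_isStandardEtale (R := A ⧸ I) q.asIdeal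
  obtain ⟨P₀, x, hx, hbij⟩ := hstd.nonempty_standardEtalePresentation.some
  obtain ⟨Q, hx', hb', P, rfl⟩ : ∃ (Q : StandardEtalePair (A ⧸ I)) (hx' : Q.HasMap x),
      Function.Bijective (Q.lift x hx') ∧
        ∃ P : StandardEtalePair A, P.map (algebraMap A (A ⧸ I)) = Q :=
    ⟨pairMulDeriv P₀, hasMap_pairMulDeriv P₀ hx, bijective_lift_pairMulDeriv P₀ hx hbij,
      exists_lift_pair I P₀⟩
  let 𝒫B : StandardEtalePresentation A P.Ring :=
    ⟨P, P.X, P.hasMap_X, by simpa [StandardEtalePair.lift_X_left] using Function.bijective_id⟩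
  let 𝒫' : StandardEtalePresentation (A ⧸ I) ((A ⧸ I) ⊗[A] P.Ring) := 𝒫B.baseChange
  let 𝒫₀ : StandardEtalePresentation (A ⧸ I) (Localization.Away f) := ⟨_, x, hx', hb'⟩
  let e : Localization.Away f ≃ₐ[A ⧸ I] (A ⧸ I) ⊗[A] P.Ring :=
    𝒫₀.equivRing.trans 𝒫'.equivRing.symm
  let ρ : B₁ →ₐ[A ⧸ I] (A ⧸ I) ⊗[A] P.Ring :=
    e.toAlgHom.comp (IsScalarTower.toAlgHom (A ⧸ I) B₁ (Localization.Away f))
  have hq : q ∈ Set.range (PrimeSpectrum.comap (algebraMap B₁ (Localization.Away f))) := by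
    rw [PrimeSpectrum.localization_away_comap_range (Localization.Away f) f]
    exact hfq
  obtain ⟨q₁, hq₁⟩ := hq
  refine ⟨P.Ring, inferInstance, inferInstance, inferInstance, ρ,
    PrimeSpectrum.comap e.symm.toAlgHom.toRingHom q₁, ?_, ?_⟩
  · rw [← hq₁]
    ext1
    simp only [PrimeSpectrum.comap_asIdeal]
    ext b
    simp only [Ideal.mem_comap]
    change e.symm (e (algebraMap B₁ (Localization.Away f) b)) ∈ q₁.asIdeal ↔ _
    rw [AlgEquiv.symm_apply_apply]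
  · have h1 : ρ.toRingHom = (e.toRingEquiv.toRingHom).comp (algebraMap B₁ (Localization.Away f)) :=
      rfl
    rw [h1, CommRingCat.ofHom_comp, Spec.map_comp]
    haveI : IsIso (CommRingCat.ofHom e.toRingEquiv.toRingHom) :=
      inferInstanceAs (IsIso e.toRingEquiv.toCommRingCatIso.hom)
    infer_instance

/-- **Lifting etale neighbourhoods along an arbitrary closed immersion of affine schemes**, open
immersion form. -/
theorem exists_lift_etale_nbhd_spec_oi {A : Type u} [CommRing A] (I : Ideal A)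
    {W₀ : Scheme.{u}} (p₀ : W₀ ⟶ Spec (.of (A ⧸ I))) [Etale p₀] (w : W₀) :
    ∃ (V V₀ : Scheme.{u}) (c : V ⟶ Spec (.of A)) (i₀ : V₀ ⟶ V) (r : V₀ ⟶ W₀),
      IsAffine V ∧ Etale c ∧
        IsPullback i₀ (r ≫ p₀) c (Spec.map (CommRingCat.ofHom (Ideal.Quotient.mk I))) ∧
        w ∈ Set.range r ∧ IsOpenImmersion r := by
  obtain ⟨_, ⟨W₁, hW₁, rfl⟩, hwW₁, -⟩ :=
    W₀.isBasis_affineOpens.exists_subset_of_mem_open (Set.mem_univ w) isOpen_univ
  obtain ⟨φ, hφ⟩ := Spec.map_surjective (hW₁.fromSpec ≫ p₀)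
  have hφE : φ.hom.Etale := by
    rw [← HasRingHomProperty.Spec_iff (P := @Etale), hφ]
    infer_instance
  algebraize [φ.hom]
  obtain ⟨y, hy⟩ : w ∈ Set.range hW₁.fromSpec := by
    rw [hW₁.range_fromSpec]
    exact hwW₁
  obtain ⟨B, _, _, _, ρ, q', hq', hoi⟩ := exists_lift_etale_oi I ↑Γ(W₀, W₁) y
  refine ⟨Spec (.of B), Spec (.of ((A ⧸ I) ⊗[A] B)), Spec.map (CommRingCat.ofHom (algebraMap A B)),
    Spec.map (CommRingCat.ofHom (Algebra.TensorProduct.includeRight (R := A) (A := A ⧸ I) (B := B)).toRingHom),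
    Spec.map (CommRingCat.ofHom ρ.toRingHom) ≫ hW₁.fromSpec, inferInstance, ?_, ?_, ?_, ?_⟩
  · rw [HasRingHomProperty.Spec_iff (P := @Etale)]
    exact RingHom.etale_algebraMap.2 inferInstance
  · have h1 : (Spec.map (CommRingCat.ofHom ρ.toRingHom) ≫ hW₁.fromSpec) ≫ p₀ =
        Spec.map (CommRingCat.ofHom (Algebra.TensorProduct.includeLeftRingHom
          (R := A) (A := A ⧸ I) (B := B))) := by
      rw [Category.assoc, ← hφ, ← Spec.map_comp]
      congr 1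
      ext a
      exact ρ.commutes a
    rw [h1]
    exact (isPullback_SpecMap_of_isPushout _ _ _ _
      (CommRingCat.isPushout_tensorProduct A (A ⧸ I) B)).flip
  · refine ⟨q', ?_⟩
    rw [Scheme.Hom.comp_apply]
    have : (Spec.map (CommRingCat.ofHom ρ.toRingHom)) q' = y := hq'
    rw [this, hy]
  · haveI := hoi
    infer_instance

open Groth.Agent.Lib.Helper12.InfGlue in
/-- **Lifting etale neighbourhoods along an arbitrary closed immersion of schemes**, open immersion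
form: for a closed immersion `j : W ⟶ W'`, an etale `p₀ : W₀ ⟶ W` and a point `w` of `W₀` there is an
affine scheme `V` etale over `W'` whose base change to `W` is an open subscheme of `W₀` containing
`w`. -/
theorem exists_lift_etale_nbhd_oi {W W' W₀ : Scheme.{u}} (j : W ⟶ W') [IsClosedImmersion j]
    (p₀ : W₀ ⟶ W) [Etale p₀] (w : W₀) :
    ∃ (V V₀ : Scheme.{u}) (c : V ⟶ W') (i₀ : V₀ ⟶ V) (r : V₀ ⟶ W₀),
      IsAffine V ∧ Etale c ∧ IsPullback i₀ (r ≫ p₀) c j ∧ w ∈ Set.range r ∧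
        IsOpenImmersion r := by
  obtain ⟨_, ⟨D', hD', rfl⟩, hxD', -⟩ :=
    W'.isBasis_affineOpens.exists_subset_of_mem_open (Set.mem_univ (j (p₀ w))) isOpen_univ
  haveI : IsAffine (D' : Scheme.{u}) := hD'
  let k : ((j ⁻¹ᵁ D' : W.Opens) : Scheme.{u}) ⟶ (D' : Scheme.{u}) := j ∣_ D'
  haveI : IsClosedImmersion k := inferInstanceAs (IsClosedImmersion (j ∣_ D'))
  let Vo : Over (D' : Scheme.{u}) := Over.mk (𝟙 _)
  let Wo : Over (D' : Scheme.{u}) := Over.mk k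
  let ko : Wo ⟶ Vo := Over.homMk k (by simp [Vo, Wo])
  haveI : IsAffine Vo.left := hD'
  haveI : IsClosedImmersion ko.left := inferInstanceAs (IsClosedImmersion k)
  let e := eW0 ko
  have he : e.hom ≫ k = Spec.map (CommRingCat.ofHom (Ideal.Quotient.mk (kerI ko))) ≫
      (D' : Scheme.{u}).isoSpec.inv := eW0_hom_comp ko
  let p₁ := p₀ ∣_ (j ⁻¹ᵁ D')
  haveI : Etale p₁ := inferInstanceAs (Etale (p₀ ∣_ (j ⁻¹ᵁ D')))
  have hw : w ∈ p₀ ⁻¹ᵁ (j ⁻¹ᵁ D') := hxD'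
  obtain ⟨V, V₀, c₀, i₀, r₀, hV, hc₀, hpb, ⟨v₀, hv₀⟩, hoi⟩ :=
    exists_lift_etale_nbhd_spec_oi (kerI ko) (p₁ ≫ e.inv) ⟨w, hw⟩
  haveI := hc₀
  haveI := hoi
  refine ⟨V, V₀, c₀ ≫ (D' : Scheme.{u}).isoSpec.inv ≫ Scheme.Opens.ι D', i₀,
    r₀ ≫ (p₀ ⁻¹ᵁ (j ⁻¹ᵁ D')).ι, hV, inferInstance, ?_, ⟨v₀, ?_⟩, inferInstance⟩
  · have sq2 : IsPullback (Spec.map (CommRingCat.ofHom (Ideal.Quotient.mk (kerI ko))))
        (e.hom ≫ (j ⁻¹ᵁ D').ι) ((D' : Scheme.{u}).isoSpec.inv ≫ Scheme.Opens.ι D') j := by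
      refine (isPullback_morphismRestrict j D').of_iso e.symm (D' : Scheme.{u}).isoSpec
        (Iso.refl _) (Iso.refl _) ?_ ?_ ?_ ?_
      · rw [Iso.symm_hom, Iso.eq_inv_comp, ← Category.assoc, he, Category.assoc, Iso.inv_hom_id,
          Category.comp_id]
      · simp
      · simp
      · simp
    have := hpb.paste_vert sq2
    have h2 : (r₀ ≫ p₁ ≫ e.inv) ≫ e.hom ≫ (j ⁻¹ᵁ D').ι =
        (r₀ ≫ (p₀ ⁻¹ᵁ (j ⁻¹ᵁ D')).ι) ≫ p₀ := by
      simp only [Category.assoc, Iso.inv_hom_id_assoc]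
      rw [morphismRestrict_ι]
    rw [h2] at this
    exact this
  · rw [Scheme.Hom.comp_apply, hv₀]
    rfl

end Groth.Agent.Lib.Helper12.EtaleNbhdLiftOI
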