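import Mathlib

/-!
# Helper22: σ-semilinear endomorphisms of finite-dimensional vector spaces

Fitting-type decomposition, fixed vectors, surjectivity of `id - T`.
-/

set_option autoImplicit false

namespace Groth.Agent.Lib.Helper22.SigmaLin

universe u v

section Basic

variable {k : Type u} [Field k] {σ : k →+* k}
  {V : Type v} [AddCommGroup V] [Module k V]

/-- the span of the image of the `n`-th iterate -/
def W (T : V →ₛₗ[σ] V) (n : ℕ) : Submodule k V := Submodule.span k (Set.range ((⇑T)^[n]))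

theorem W_zero (T : V →ₛₗ[σ] V) : W T 0 = ⊤ := by
  unfold W
  rw [Function.iterate_zero, Set.range_id, Submodule.span_univ]

theorem W_succ_le (T : V →ₛₗ[σ] V) (n : ℕ) : W T (n + 1) ≤ W T n := by
  unfold W
  apply Submodule.span_mono
  rintro _ ⟨v, rfl⟩
  exact ⟨T v, (Function.iterate_succ_apply _ _ _).symm⟩

theorem W_antitone (T : V →ₛₗ[σ] V) : Antitone (W T) := antitone_nat_of_succ_le (W_succ_le T)

theorem map_mem_W_succ (T : V →ₛₗ[σ] V) (n : ℕ) {v : V} (hv : v ∈ W T n) : T v ∈ W T (n + 1) := by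
  unfold W at hv ⊢
  induction hv using Submodule.span_induction with
  | mem x hx =>
    obtain ⟨u, rfl⟩ := hx
    apply Submodule.subset_span
    exact ⟨u, Function.iterate_succ_apply' _ _ _⟩
  | zero => rw [map_zero]; exact Submodule.zero_mem _
  | add x y _ _ hx hy => rw [map_add]; exact Submodule.add_mem _ hx hy
  | smul c x _ hx => rw [map_smulₛₗ]; exact Submodule.smul_mem _ _ hx

theorem W_succ_le_span_image (T : V →ₛₗ[σ] V) (n : ℕ) :
    W T (n + 1) ≤ Submodule.span k (⇑T '' (W T n : Set V)) := by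
  unfold W
  apply Submodule.span_mono
  rintro _ ⟨v, rfl⟩
  refine ⟨(⇑T)^[n] v, Submodule.subset_span ⟨v, rfl⟩, ?_⟩
  exact (Function.iterate_succ_apply' _ _ _).symm

theorem iterate_mem_W (T : V →ₛₗ[σ] V) (n : ℕ) (v : V) : (⇑T)^[n] v ∈ W T n :=
  Submodule.subset_span ⟨v, rfl⟩

/-- the chain `W T n` stabilizes -/
theorem exists_W_stable [FiniteDimensional k V] (T : V →ₛₗ[σ] V) :
    ∃ N : ℕ, ∀ m : ℕ, N ≤ m → W T m = W T N := by
  obtain ⟨N, hN⟩ := IsArtinian.monotone_stabilizes
    (⟨fun n => OrderDual.toDual (W T n), fun i j hij =>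
      OrderDual.toDual_le_toDual.mpr (W_antitone T hij)⟩ : ℕ →o (Submodule k V)ᵒᵈ)
  exact ⟨N, fun m hm => (congrArg OrderDual.ofDual (hN m hm)).symm⟩

theorem iInf_W_eq [FiniteDimensional k V] (T : V →ₛₗ[σ] V) {N : ℕ}
    (hN : ∀ m : ℕ, N ≤ m → W T m = W T N) : (⨅ n, W T n) = W T N := by
  apply le_antisymm (iInf_le _ N)
  apply le_iInf
  intro n
  by_cases h : N ≤ n
  · rw [hN n h]
  · exact W_antitone T (by omega)

end Basic

section Inj
variable {k : Type u} [Field k] {σ : k →+* k}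

theorem injective_of_span_range_eq_top {U : Type v} [AddCommGroup U] [Module k U]
    [FiniteDimensional k U] (S : U →ₛₗ[σ] U) (h : Submodule.span k (Set.range S) = ⊤) :
    Function.Injective S := by
  let b := Module.finBasis k U
  let g : Fin (Module.finrank k U) → U := fun i => S (b i)
  have hspan : ⊤ ≤ Submodule.span k (Set.range g) := by
    rw [← h]
    apply Submodule.span_le.mpr
    rintro _ ⟨u, rfl⟩
    have : u = ∑ i, b.repr u i • b i := (b.sum_repr u).symm
    rw [this, map_sum]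
    apply Submodule.sum_mem
    intro i _
    rw [map_smulₛₗ]
    exact Submodule.smul_mem _ _ (Submodule.subset_span ⟨i, rfl⟩)
  have hli : LinearIndependent k g :=
    linearIndependent_of_top_le_span_of_card_eq_finrank hspan (by simp)
  rw [injective_iff_map_eq_zero]
  intro u hu
  have hu' : ∑ i, σ (b.repr u i) • g i = 0 := by
    rw [← hu]
    conv_rhs => rw [← b.sum_repr u]
    rw [map_sum]
    apply Finset.sum_congr rfl
    intro i _
    rw [map_smulₛₗ]
  have hc := Fintype.linearIndependent_iff.mp hli _ hu'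
  have h0 : b.repr u = 0 := by
    ext i
    exact (map_eq_zero σ).mp (hc i)
  exact (LinearEquiv.map_eq_zero_iff b.repr).mp h0

variable {V : Type v} [AddCommGroup V] [Module k V]

/-- restriction of a semilinear endomorphism to a stable subspace -/
def restr (T : V →ₛₗ[σ] V) (U : Submodule k V) (hU : ∀ u ∈ U, T u ∈ U) : U →ₛₗ[σ] U :=
  (T.domRestrict U).codRestrict U (fun u => hU u u.2)

@[simp] theorem restr_apply (T : V →ₛₗ[σ] V) (U : Submodule k V) (hU : ∀ u ∈ U, T u ∈ U) (u : U) :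
    ((restr T U hU u : U) : V) = T (u : V) := rfl

theorem restr_iterate (T : V →ₛₗ[σ] V) (U : Submodule k V) (hU : ∀ u ∈ U, T u ∈ U) (n : ℕ) (u : U) :
    (((⇑(restr T U hU))^[n] u : U) : V) = (⇑T)^[n] (u : V) := by
  induction n generalizing u with
  | zero => rfl
  | succ n ih =>
    rw [Function.iterate_succ_apply, Function.iterate_succ_apply, ih]
    rfl

theorem span_range_restr (T : V →ₛₗ[σ] V) (U : Submodule k V) (hU : ∀ u ∈ U, T u ∈ U)
    (h : U ≤ Submodule.span k (⇑T '' (U : Set V))) :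
    Submodule.span k (Set.range (restr T U hU)) = ⊤ := by
  rw [eq_top_iff]
  rintro ⟨u, hu⟩ _
  have h1 := h hu
  -- transport along the subtype
  have key : ∀ x ∈ Submodule.span k (⇑T '' (U : Set V)), ∀ hx : x ∈ U,
      (⟨x, hx⟩ : U) ∈ Submodule.span k (Set.range (restr T U hU)) := by
    intro x hx
    induction hx using Submodule.span_induction with
    | mem x hx =>
      obtain ⟨w, hw, rfl⟩ := hx
      intro hx'
      exact Submodule.subset_span ⟨⟨w, hw⟩, rfl⟩
    | zero => intro _; exact Submodule.zero_mem _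
    | add x y hx hy ihx ihy =>
      intro hxy
      have hx' : x ∈ U := Submodule.span_le.mpr (by rintro _ ⟨w, hw, rfl⟩; exact hU w hw) hx
      have hy' : y ∈ U := Submodule.span_le.mpr (by rintro _ ⟨w, hw, rfl⟩; exact hU w hw) hy
      have : (⟨x + y, hxy⟩ : U) = ⟨x, hx'⟩ + ⟨y, hy'⟩ := rfl
      rw [this]
      exact Submodule.add_mem _ (ihx hx') (ihy hy')
    | smul c x hx ihx =>
      intro hcx
      have hx' : x ∈ U := Submodule.span_le.mpr (by rintro _ ⟨w, hw, rfl⟩; exact hU w hw) hx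
      have : (⟨c • x, hcx⟩ : U) = c • ⟨x, hx'⟩ := rfl
      rw [this]
      exact Submodule.smul_mem _ _ (ihx hx')
  exact key u h1 hu


theorem stable_map_mem [FiniteDimensional k V] (T : V →ₛₗ[σ] V) {N : ℕ}
    (hN : ∀ m : ℕ, N ≤ m → W T m = W T N) : ∀ u ∈ W T N, T u ∈ W T N := by
  intro u hu
  rw [← hN (N + 1) (Nat.le_succ N)]
  exact map_mem_W_succ T N hu

theorem stable_le_span_image [FiniteDimensional k V] (T : V →ₛₗ[σ] V) {N : ℕ}
    (hN : ∀ m : ℕ, N ≤ m → W T m = W T N) :
    W T N ≤ Submodule.span k (⇑T '' (W T N : Set V)) := by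
  conv_lhs => rw [← hN (N + 1) (Nat.le_succ N)]
  exact W_succ_le_span_image T N

theorem restr_stable_injective [FiniteDimensional k V] (T : V →ₛₗ[σ] V) {N : ℕ}
    (hN : ∀ m : ℕ, N ≤ m → W T m = W T N) :
    Function.Injective (restr T (W T N) (stable_map_mem T hN)) :=
  injective_of_span_range_eq_top _ (span_range_restr T _ _ (stable_le_span_image T hN))

/-- S19229: a vector killed by an iterate and lying in all `W T n` is zero. -/
theorem eq_zero_of_iterate_eq_zero_of_mem_W [FiniteDimensional k V] (T : V →ₛₗ[σ] V) (v : V)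
    (hnil : ∃ n : ℕ, (⇑T)^[n] v = 0) (hss : ∀ n : ℕ, v ∈ W T n) : v = 0 := by
  obtain ⟨N, hN⟩ := exists_W_stable T
  obtain ⟨n, hn⟩ := hnil
  have hinj := (restr_stable_injective T hN).iterate n
  have h1 : (⇑(restr T (W T N) (stable_map_mem T hN)))^[n] ⟨v, hss N⟩ =
      (⇑(restr T (W T N) (stable_map_mem T hN)))^[n] 0 := by
    rw [iterate_map_zero]
    apply Subtype.ext
    rw [restr_iterate]
    exact hn
  have := hinj h1
  exact congrArg Subtype.val this

end Inj

section Fitting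
variable {k : Type u} [Field k] {σ : k →+* k}
  {V : Type v} [AddCommGroup V] [Module k V]

theorem iterate_add (T : V →ₛₗ[σ] V) (n : ℕ) (x y : V) :
    (⇑T)^[n] (x + y) = (⇑T)^[n] x + (⇑T)^[n] y := by
  induction n generalizing x y with
  | zero => rfl
  | succ n ih => rw [Function.iterate_succ_apply, Function.iterate_succ_apply,
      Function.iterate_succ_apply, map_add, ih]

theorem iterate_sub (T : V →ₛₗ[σ] V) (n : ℕ) (x y : V) :
    (⇑T)^[n] (x - y) = (⇑T)^[n] x - (⇑T)^[n] y := by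
  induction n generalizing x y with
  | zero => rfl
  | succ n ih => rw [Function.iterate_succ_apply, Function.iterate_succ_apply,
      Function.iterate_succ_apply, map_sub, ih]

theorem iterate_smul (T : V →ₛₗ[σ] V) (n : ℕ) (c : k) (x : V) :
    (⇑T)^[n] (c • x) = ((⇑σ)^[n] c) • (⇑T)^[n] x := by
  induction n generalizing c x with
  | zero => rfl
  | succ n ih => rw [Function.iterate_succ_apply, Function.iterate_succ_apply,
      Function.iterate_succ_apply, map_smulₛₗ, ih]

theorem iterate_zero_eq (T : V →ₛₗ[σ] V) (n : ℕ) : (⇑T)^[n] (0 : V) = 0 :=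
  iterate_map_zero T n

/-- kernel of the `n`-th iterate -/
def K (T : V →ₛₗ[σ] V) (n : ℕ) : Submodule k V where
  carrier := {v | (⇑T)^[n] v = 0}
  add_mem' := by
    intro a b ha hb
    show (⇑T)^[n] (a + b) = 0
    rw [iterate_add, ha, hb, add_zero]
  zero_mem' := iterate_zero_eq T n
  smul_mem' := by
    intro c x hx
    show (⇑T)^[n] (c • x) = 0
    rw [iterate_smul, hx, smul_zero]

theorem mem_K (T : V →ₛₗ[σ] V) (n : ℕ) (v : V) : v ∈ K T n ↔ (⇑T)^[n] v = 0 := Iff.rfl

theorem K_mono (T : V →ₛₗ[σ] V) : Monotone (K T) := by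
  apply monotone_nat_of_le_succ
  intro n v hv
  rw [mem_K] at hv ⊢
  rw [Function.iterate_succ_apply', hv, map_zero]

theorem exists_K_stable [FiniteDimensional k V] (T : V →ₛₗ[σ] V) :
    ∃ N : ℕ, ∀ m : ℕ, N ≤ m → K T m = K T N := by
  obtain ⟨N, hN⟩ := monotone_stabilizes_iff_noetherian.mpr (inferInstance : IsNoetherian k V)
    (⟨K T, K_mono T⟩ : ℕ →o Submodule k V)
  exact ⟨N, fun m hm => (hN m hm).symm⟩

theorem mem_W_iff_of_surjective (hσ : Function.Surjective σ) (T : V →ₛₗ[σ] V) (n : ℕ) (v : V) :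
    v ∈ W T n ↔ ∃ u, (⇑T)^[n] u = v := by
  constructor
  · intro hv
    unfold W at hv
    induction hv using Submodule.span_induction with
    | mem x hx => exact hx
    | zero => exact ⟨0, iterate_zero_eq T n⟩
    | add x y _ _ hx hy =>
      obtain ⟨a, rfl⟩ := hx
      obtain ⟨b, rfl⟩ := hy
      exact ⟨a + b, iterate_add T n a b⟩
    | smul c x _ hx =>
      obtain ⟨a, rfl⟩ := hx
      obtain ⟨c', rfl⟩ := (hσ.iterate n) c
      exact ⟨c' • a, iterate_smul T n c' a⟩
  · rintro ⟨u, rfl⟩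
    exact iterate_mem_W T n u

theorem fitting (hσ : Function.Surjective σ) [FiniteDimensional k V] (T : V →ₛₗ[σ] V) :
    ∃ N : ℕ, (∀ m, N ≤ m → W T m = W T N) ∧ (∀ m, N ≤ m → K T m = K T N) ∧
      IsCompl (K T N) (W T N) := by
  obtain ⟨N1, hN1⟩ := exists_W_stable T
  obtain ⟨N2, hN2⟩ := exists_K_stable T
  have hW : ∀ m, max N1 N2 ≤ m → W T m = W T (max N1 N2) := fun m hm => by
    rw [hN1 m (le_trans (le_max_left _ _) hm), hN1 _ (le_max_left _ _)]
  have hK : ∀ m, max N1 N2 ≤ m → K T m = K T (max N1 N2) := fun m hm => by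
    rw [hN2 m (le_trans (le_max_right _ _) hm), hN2 _ (le_max_right _ _)]
  refine ⟨max N1 N2, hW, hK, ?_, ?_⟩
  · rw [Submodule.disjoint_def]
    intro v hvK hvW
    apply eq_zero_of_iterate_eq_zero_of_mem_W T v ⟨_, hvK⟩
    intro n
    by_cases h : max N1 N2 ≤ n
    · rw [hW n h]; exact hvW
    · exact W_antitone T (by omega) hvW
  · rw [Submodule.codisjoint_iff_exists_add_eq]
    intro z
    have h1 : (⇑T)^[max N1 N2] z ∈ W T (max N1 N2 + max N1 N2) := by
      rw [hW _ (Nat.le_add_right _ _)]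
      exact iterate_mem_W T _ z
    obtain ⟨u, hu⟩ := (mem_W_iff_of_surjective hσ T _ _).mp h1
    rw [Function.iterate_add_apply] at hu
    refine ⟨z - (⇑T)^[max N1 N2] u, (⇑T)^[max N1 N2] u, ?_, iterate_mem_W T _ u, by abel⟩
    rw [mem_K, iterate_sub, hu, sub_self]

theorem bijOn_W_stable (hσ : Function.Surjective σ) [FiniteDimensional k V] (T : V →ₛₗ[σ] V)
    {N : ℕ} (hN : ∀ m : ℕ, N ≤ m → W T m = W T N) :
    Set.BijOn (⇑T) (W T N : Set V) (W T N : Set V) := by
  refine ⟨fun u hu => stable_map_mem T hN u hu, ?_, ?_⟩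
  · intro x hx y hy hxy
    have := restr_stable_injective T hN (a₁ := ⟨x, hx⟩) (a₂ := ⟨y, hy⟩) (Subtype.ext hxy)
    exact congrArg Subtype.val this
  · intro w hw
    have hw' : w ∈ W T (N + 1) := by rw [hN _ (Nat.le_succ N)]; exact hw
    obtain ⟨u, hu⟩ := (mem_W_iff_of_surjective hσ T _ _).mp hw'
    refine ⟨(⇑T)^[N] u, iterate_mem_W T N u, ?_⟩
    rw [← hu, Function.iterate_succ_apply']

end Fitting

section Orbit
variable {k : Type u} [Field k] {σ : k →+* k}
  {V : Type v} [AddCommGroup V] [Module k V]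

/-- the recursion `y 0 = σ x * a 0`, `y (i+1) = σ (y i) + σ x * a (i+1)` -/
def yrec (σ : k →+* k) (x : k) (a : ℕ → k) : ℕ → k
  | 0 => σ x * a 0
  | (i + 1) => σ (yrec σ x a i) + σ x * a (i + 1)

theorem yrec_closed (x : k) (a : ℕ → k) (i : ℕ) :
    yrec σ x a i = ∑ j ∈ Finset.range (i + 1), (⇑σ)^[j + 1] x * (⇑σ)^[j] (a (i - j)) := by
  induction i with
  | zero => simp [yrec]
  | succ i ih =>
    rw [yrec, ih, map_sum, Finset.sum_range_succ' _ (i + 1)]
    congr 1
    apply Finset.sum_congr rfl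
    intro j _
    rw [map_mul, ← Function.iterate_succ_apply' (⇑σ) (j + 1) x,
      ← Function.iterate_succ_apply' (⇑σ) j, Nat.succ_sub_succ]

/-- the fixed vector built from the recursion -/
theorem fixed_of_rel (T : V →ₛₗ[σ] V) (e : V) (n : ℕ) (a : ℕ → k) (x : k)
    (hrel : (⇑T)^[n + 1] e = ∑ i ∈ Finset.range (n + 1), a i • (⇑T)^[i] e)
    (hx : yrec σ x a n = x) :
    T (∑ i ∈ Finset.range (n + 1), yrec σ x a i • (⇑T)^[i] e) =
      ∑ i ∈ Finset.range (n + 1), yrec σ x a i • (⇑T)^[i] e := by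
  have hT : ∀ i : ℕ, T ((⇑T)^[i] e) = (⇑T)^[i + 1] e := fun i =>
    (Function.iterate_succ_apply' _ _ _).symm
  rw [map_sum]
  have h1 : ∑ i ∈ Finset.range (n + 1), T (yrec σ x a i • (⇑T)^[i] e) =
      ∑ i ∈ Finset.range (n + 1), σ (yrec σ x a i) • (⇑T)^[i + 1] e := by
    apply Finset.sum_congr rfl
    intro i _
    rw [map_smulₛₗ, hT]
  rw [h1, Finset.sum_range_succ, hx, hrel, Finset.smul_sum]
  rw [Finset.sum_range_succ' (fun i => yrec σ x a i • (⇑T)^[i] e) n]
  rw [Finset.sum_range_succ' (fun i => σ x • a i • (⇑T)^[i] e) n]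
  have h2 : ∑ i ∈ Finset.range n, yrec σ x a (i + 1) • (⇑T)^[i + 1] e =
      ∑ i ∈ Finset.range n, σ (yrec σ x a i) • (⇑T)^[i + 1] e +
        ∑ i ∈ Finset.range n, σ x • a (i + 1) • (⇑T)^[i + 1] e := by
    rw [← Finset.sum_add_distrib]
    apply Finset.sum_congr rfl
    intro i _
    rw [yrec, add_smul, mul_smul]
  rw [h2]
  have h3 : yrec σ x a 0 • (⇑T)^[0] e = σ x • a 0 • (⇑T)^[0] e := by
    rw [yrec, mul_smul]
  rw [h3]
  abel

theorem exists_rel [FiniteDimensional k V] (f : V → V) (e : V) (he0 : e ≠ 0) :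
    ∃ (n : ℕ) (a : Fin (n + 1) → k),
      LinearIndependent k (fun i : Fin (n + 1) => f^[i] e) ∧
      f^[n + 1] e = ∑ i : Fin (n + 1), a i • f^[i] e := by
  classical
  have hex : ∃ m : ℕ, ¬ LinearIndependent k (fun i : Fin (m + 1) => f^[i] e) := by
    refine ⟨Module.finrank k V, fun hli => ?_⟩
    have := hli.fintype_card_le_finrank
    simp at this
  have h0 : ¬ ¬ LinearIndependent k (fun i : Fin (0 + 1) => f^[i] e) := by
    rw [not_not]
    have : Unique (Fin (0 + 1)) := inferInstanceAs (Unique (Fin 1))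
    rw [linearIndependent_unique_iff]
    have hd : ∀ j : Fin (0 + 1), (j : ℕ) = 0 := fun j => by
      have := j.2
      omega
    rw [hd]
    exact he0
  have hm0 : Nat.find hex ≠ 0 := by
    intro h
    have := Nat.find_spec hex
    rw [h] at this
    exact h0 this
  obtain ⟨n, hn⟩ := Nat.exists_eq_succ_of_ne_zero hm0
  have hli : LinearIndependent k (fun i : Fin (n + 1) => f^[i] e) := by
    have := Nat.find_min hex (m := n) (by omega)
    rwa [not_not] at this
  have hdep : ¬ LinearIndependent k (fun i : Fin (n + 1 + 1) => f^[i] e) := by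
    have := Nat.find_spec hex
    rwa [hn] at this
  have hsnoc : (fun i : Fin (n + 1 + 1) => f^[i] e) =
      Fin.snoc (fun i : Fin (n + 1) => f^[i] e) (f^[n + 1] e) := by
    funext i
    refine Fin.lastCases ?_ (fun j => ?_) i
    · simp
    · simp
  rw [hsnoc, linearIndependent_finSnoc] at hdep
  push Not at hdep
  have hmem := hdep hli
  obtain ⟨a, ha⟩ := (Submodule.mem_span_range_iff_exists_fun k).mp hmem
  exact ⟨n, a, hli, ha.symm⟩


theorem exists_fixed_in_orbit [FiniteDimensional k V] (T : V →ₛₗ[σ] V)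
    (h2 : ∀ (n : ℕ) (b : Fin (n + 1) → k), b ≠ 0 →
      ∃ x : k, x ≠ 0 ∧ x = ∑ i : Fin (n + 1), (⇑σ)^[i.val + 1] x * (⇑σ)^[i.val] (b (Fin.rev i)))
    (e : V) (he : ∀ m : ℕ, (⇑T)^[m] e ≠ 0) :
    ∃ v ∈ Submodule.span k (Set.range (fun m : ℕ => (⇑T)^[m] e)), v ≠ 0 ∧ T v = v := by
  obtain ⟨n, a, hli, hrel⟩ := exists_rel (k := k) (⇑T) e (he 0)
  have ha : a ≠ 0 := by
    intro h
    rw [h] at hrel
    simp only [Pi.zero_apply, zero_smul, Finset.sum_const_zero] at hrel
    exact he (n + 1) hrel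
  obtain ⟨x, hx0, hx⟩ := h2 n a ha
  let a' : ℕ → k := fun j => if h : j < n + 1 then a ⟨j, h⟩ else 0
  have ha' : ∀ i : Fin (n + 1), a' i = a i := fun i => by
    simp only [a', i.2, dif_pos, Fin.eta]
  have hrel' : (⇑T)^[n + 1] e = ∑ i ∈ Finset.range (n + 1), a' i • (⇑T)^[i] e := by
    rw [hrel, ← Fin.sum_univ_eq_sum_range (fun i => a' i • (⇑T)^[i] e) (n + 1)]
    apply Finset.sum_congr rfl
    intro i _
    rw [ha']
  have hyn : yrec σ x a' n = x := by
    rw [yrec_closed,
      ← Fin.sum_univ_eq_sum_range (fun j => (⇑σ)^[j + 1] x * (⇑σ)^[j] (a' (n - j))) (n + 1)]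
    conv_rhs => rw [hx]
    apply Finset.sum_congr rfl
    intro i _
    have : a' (n - (i : ℕ)) = a (Fin.rev i) := by
      rw [← ha' (Fin.rev i)]
      congr 1
      rw [Fin.val_rev]
      omega
    rw [this]
  refine ⟨∑ i ∈ Finset.range (n + 1), yrec σ x a' i • (⇑T)^[i] e, ?_, ?_,
    fixed_of_rel T e n a' x hrel' hyn⟩
  · apply Submodule.sum_mem
    intro i _
    exact Submodule.smul_mem _ _ (Submodule.subset_span ⟨i, rfl⟩)
  · intro hv
    have hv' : ∑ i : Fin (n + 1), yrec σ x a' i • (⇑T)^[(i : ℕ)] e = 0 := by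
      rw [Fin.sum_univ_eq_sum_range (fun i => yrec σ x a' i • (⇑T)^[i] e) (n + 1)]
      exact hv
    have := Fintype.linearIndependent_iff.mp hli (fun i => yrec σ x a' i) hv' (Fin.last n)
    rw [Fin.val_last, hyn] at this
    exact hx0 this

end Orbit

section Fixed
variable {k : Type u} [Field k] {σ : k →+* k}
  {V : Type v} [AddCommGroup V] [Module k V]

/-- the span of the fixed vectors -/
def fixedSpan (T : V →ₛₗ[σ] V) : Submodule k V := Submodule.span k {v : V | T v = v}

theorem map_mem_fixedSpan (T : V →ₛₗ[σ] V) {u : V} (hu : u ∈ fixedSpan T) : T u ∈ fixedSpan T := by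
  unfold fixedSpan at hu ⊢
  induction hu using Submodule.span_induction with
  | mem x hx =>
    have hx' : T x = x := hx
    rw [hx']; exact Submodule.subset_span hx
  | zero => rw [map_zero]; exact Submodule.zero_mem _
  | add x y _ _ hx hy => rw [map_add]; exact Submodule.add_mem _ hx hy
  | smul c x _ hx => rw [map_smulₛₗ]; exact Submodule.smul_mem _ _ hx

/-- `id - T` is onto the span of the fixed vectors (from within it) -/
theorem exists_sub_eq_of_mem_fixedSpan (T : V →ₛₗ[σ] V)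
    (h3 : ∀ c : k, ∃ y : k, σ y - y + c = 0) {u : V} (hu : u ∈ fixedSpan T) :
    ∃ u' ∈ fixedSpan T, u' - T u' = u := by
  unfold fixedSpan at hu
  induction hu using Submodule.closure_induction with
  | zero => exact ⟨0, Submodule.zero_mem _, by rw [map_zero, sub_zero]⟩
  | add x y _ _ hx hy =>
    obtain ⟨x', hx', hxe⟩ := hx
    obtain ⟨y', hy', hye⟩ := hy
    exact ⟨x' + y', Submodule.add_mem _ hx' hy', by rw [map_add, ← hxe, ← hye]; abel⟩
  | smul_mem c x hx =>
    obtain ⟨y, hy⟩ := h3 c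
    have hx' : T x = x := hx
    refine ⟨y • x, Submodule.smul_mem _ _ (Submodule.subset_span hx), ?_⟩
    rw [map_smulₛₗ, hx', ← sub_smul]
    congr 1
    linear_combination -hy

theorem fixedSpan_eq_top [FiniteDimensional k V] (T : V →ₛₗ[σ] V)
    (h1 : Submodule.span k (Set.range ⇑T) = ⊤)
    (h2 : ∀ (n : ℕ) (b : Fin (n + 1) → k), b ≠ 0 →
      ∃ x : k, x ≠ 0 ∧ x = ∑ i : Fin (n + 1), (⇑σ)^[i.val + 1] x * (⇑σ)^[i.val] (b (Fin.rev i)))
    (h3 : ∀ c : k, ∃ y : k, σ y - y + c = 0) : fixedSpan T = ⊤ := by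
  by_contra hne
  let Tq : (V ⧸ fixedSpan T) →ₛₗ[σ] (V ⧸ fixedSpan T) :=
    Submodule.mapQ (fixedSpan T) (fixedSpan T) T (fun u hu => map_mem_fixedSpan T hu)
  have hTq : ∀ v, Tq (Submodule.Quotient.mk v) = Submodule.Quotient.mk (T v) := fun v => rfl
  have hspan : Submodule.span k (Set.range Tq) = ⊤ := by
    rw [eq_top_iff]
    rintro x -
    obtain ⟨v, rfl⟩ := Submodule.Quotient.mk_surjective _ x
    have hv : v ∈ Submodule.span k (Set.range ⇑T) := by rw [h1]; trivial
    induction hv using Submodule.span_induction with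
    | mem y hy =>
      obtain ⟨w, rfl⟩ := hy
      exact Submodule.subset_span ⟨Submodule.Quotient.mk w, hTq w⟩
    | zero => exact Submodule.zero_mem _
    | add x y _ _ hx hy =>
      rw [Submodule.Quotient.mk_add]; exact Submodule.add_mem _ hx hy
    | smul c x _ hx =>
      rw [Submodule.Quotient.mk_smul]; exact Submodule.smul_mem _ _ hx
  have hinj := injective_of_span_range_eq_top Tq hspan
  obtain ⟨e, he⟩ : ∃ e : V ⧸ fixedSpan T, e ≠ 0 := by
    by_contra hall
    push Not at hall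
    apply hne
    rw [eq_top_iff]
    intro v _
    exact (Submodule.Quotient.mk_eq_zero (fixedSpan T)).mp (hall (Submodule.Quotient.mk v))
  have hiter : ∀ m, (⇑Tq)^[m] e ≠ 0 := fun m h =>
    he ((hinj.iterate m) (h.trans (iterate_map_zero Tq m).symm))
  obtain ⟨wbar, -, hw0, hwfix⟩ := exists_fixed_in_orbit Tq h2 e hiter
  obtain ⟨w, rfl⟩ := Submodule.Quotient.mk_surjective _ wbar
  have hwU : w ∉ fixedSpan T := fun h => hw0 ((Submodule.Quotient.mk_eq_zero (fixedSpan T)).mpr h)
  have hdiff : T w - w ∈ fixedSpan T := by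
    rw [hTq] at hwfix
    exact (Submodule.Quotient.eq (fixedSpan T)).mp hwfix
  obtain ⟨u', hu', hue⟩ := exists_sub_eq_of_mem_fixedSpan T h3 hdiff
  have hfix : T (w + u') = w + u' := by
    rw [map_add]
    rw [sub_eq_sub_iff_add_eq_add] at hue
    rw [← hue, add_comm]
  have h4 : w + u' ∈ fixedSpan T := Submodule.subset_span hfix
  apply hwU
  have : w = (w + u') - u' := by abel
  rw [this]
  exact Submodule.sub_mem _ h4 hu'

theorem exists_finBasis_subset [FiniteDimensional k V] (s : Set V)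
    (hs : ⊤ ≤ Submodule.span k s) :
    ∃ b : Module.Basis (Fin (Module.finrank k V)) k V, ∀ i, b i ∈ s := by
  classical
  let b0 := Module.Basis.ofSpan hs
  let _ : Fintype _ := FiniteDimensional.fintypeBasisIndex b0
  let e := Fintype.equivFinOfCardEq (Module.finrank_eq_card_basis b0).symm
  refine ⟨b0.reindex e, fun i => ?_⟩
  rw [Module.Basis.reindex_apply]
  exact Module.Basis.ofSpan_subset hs ⟨_, rfl⟩


/-- S19233 -/
theorem exists_fixed_basis_and_surjective [FiniteDimensional k V] (T : V →ₛₗ[σ] V)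
    (h1 : Submodule.span k (Set.range ⇑T) = ⊤)
    (h2 : ∀ (n : ℕ) (b : Fin (n + 1) → k), b ≠ 0 →
      ∃ x : k, x ≠ 0 ∧ x = ∑ i : Fin (n + 1), (⇑σ)^[i.val + 1] x * (⇑σ)^[i.val] (b (Fin.rev i)))
    (h3 : ∀ c : k, ∃ y : k, σ y - y + c = 0) :
    (∃ b : Module.Basis (Fin (Module.finrank k V)) k V, ∀ i, T (b i) = b i) ∧
    Function.Surjective (fun v : V => v - T v) := by
  have htop := fixedSpan_eq_top T h1 h2 h3
  constructor
  · exact exists_finBasis_subset {v : V | T v = v} (by rw [← htop]; exact le_rfl)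
  · intro u
    have hu : u ∈ fixedSpan T := by rw [htop]; trivial
    obtain ⟨u', -, hu'⟩ := exists_sub_eq_of_mem_fixedSpan T h3 hu
    exact ⟨u', hu'⟩

end Fixed

section General
variable {k : Type u} [Field k] {σ : k →+* k}
  {V : Type v} [AddCommGroup V] [Module k V]

theorem exists_sub_eq_of_mem_K (T : V →ₛₗ[σ] V) (N : ℕ) {x : V} (hx : x ∈ K T N) :
    ∃ x' : V, x' - T x' = x := by
  refine ⟨∑ i ∈ Finset.range N, (⇑T)^[i] x, ?_⟩
  rw [map_sum, ← Finset.sum_sub_distrib]
  have : ∀ i ∈ Finset.range N, (⇑T)^[i] x - T ((⇑T)^[i] x) = (⇑T)^[i] x - (⇑T)^[i + 1] x := by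
    intro i _
    rw [Function.iterate_succ_apply']
  rw [Finset.sum_congr rfl this, Finset.sum_range_sub']
  have hx' : (⇑T)^[N] x = 0 := hx
  rw [hx', sub_zero]
  rfl

/-- S19234 -/
theorem surjective_and_fixed_basis (hσ : Function.Surjective σ) [FiniteDimensional k V]
    (T : V →ₛₗ[σ] V)
    (h2 : ∀ (n : ℕ) (b : Fin (n + 1) → k), b ≠ 0 →
      ∃ x : k, x ≠ 0 ∧ x = ∑ i : Fin (n + 1), (⇑σ)^[i.val + 1] x * (⇑σ)^[i.val] (b (Fin.rev i)))
    (h3 : ∀ c : k, ∃ y : k, σ y - y + c = 0) :
    Function.Surjective (fun v : V => v - T v) ∧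
    ∃ b : Module.Basis (Fin (Module.finrank k
        ↥(⨅ n : ℕ, Submodule.span k (Set.range ((⇑T)^[n]))))) k
        ↥(⨅ n : ℕ, Submodule.span k (Set.range ((⇑T)^[n]))),
      ∀ i, T (b i : V) = (b i : V) := by
  obtain ⟨N, hW, hK, hcompl⟩ := fitting hσ T
  have hiInf : (⨅ n : ℕ, Submodule.span k (Set.range ((⇑T)^[n]))) = W T N := iInf_W_eq T hW
  rw [hiInf]
  have hS := exists_fixed_basis_and_surjective (restr T (W T N) (stable_map_mem T hW))
    (span_range_restr T _ _ (stable_le_span_image T hW)) h2 h3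
  obtain ⟨⟨b, hb⟩, hsurj⟩ := hS
  constructor
  · intro z
    obtain ⟨x, y, hx, hy, rfl⟩ := (Submodule.codisjoint_iff_exists_add_eq.mp hcompl.codisjoint) z
    obtain ⟨x', hx'⟩ := exists_sub_eq_of_mem_K T N hx
    obtain ⟨y', hy'⟩ := hsurj ⟨y, hy⟩
    have hy'' : (y' : V) - T (y' : V) = y := congrArg Subtype.val hy'
    refine ⟨x' + (y' : V), ?_⟩
    show x' + (y' : V) - T (x' + (y' : V)) = x + y
    rw [map_add, ← hx', ← hy'']
    abel
  · exact ⟨b, fun i => congrArg Subtype.val (hb i)⟩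

end General

section Frob
open Polynomial

/-- over an algebraically closed field a polynomial with two nonzero coefficients has a nonzero
root -/
theorem exists_ne_zero_root {k : Type u} [Field k] [IsAlgClosed k] (P : k[X]) (a b : ℕ)
    (hab : a ≠ b) (ha : P.coeff a ≠ 0) (hb : P.coeff b ≠ 0) : ∃ x : k, x ≠ 0 ∧ P.eval x = 0 := by
  have hP : P ≠ 0 := by
    intro h; rw [h, coeff_zero] at ha; exact ha rfl
  obtain ⟨q, hq, hnd⟩ := exists_eq_pow_rootMultiplicity_mul_and_not_dvd P hP 0
  rw [C_0, sub_zero] at hq hnd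
  have hq0 : q.coeff 0 ≠ 0 := fun h => hnd (X_dvd_iff.mpr h)
  have hdeg : q.degree ≠ 0 := by
    intro hd
    obtain ⟨c, hc⟩ : ∃ c, q = C c := ⟨q.coeff 0, eq_C_of_degree_eq_zero hd⟩
    rw [hc] at hq
    generalize P.rootMultiplicity 0 = r at hq
    have hca : ∀ m, P.coeff m = if m = r then c else 0 := by
      intro m
      rw [hq, mul_comm, coeff_C_mul, coeff_X_pow]
      split_ifs <;> simp
    have h1 := hca a
    have h2 := hca b
    by_cases ha' : a = r
    · by_cases hb' : b = r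
      · exact hab (ha'.trans hb'.symm)
      · rw [if_neg hb'] at h2; exact hb h2
    · rw [if_neg ha'] at h1; exact ha h1
  obtain ⟨z, hz⟩ := IsAlgClosed.exists_root q hdeg
  refine ⟨z, ?_, ?_⟩
  · intro h0
    rw [h0, IsRoot.def, ← coeff_zero_eq_eval_zero] at hz
    exact hq0 hz
  · rw [hq, eval_mul, hz, mul_zero]

variable {k : Type u} [Field k] (p : ℕ) [Fact p.Prime] [CharP k p] [IsAlgClosed k]

theorem frobInv_iterate_pow (m : ℕ) (y : k) :
    ((⇑(frobeniusEquiv k p).symm.toRingHom)^[m] y) ^ (p ^ m) = y := by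
  induction m generalizing y with
  | zero => simp
  | succ m ih =>
    rw [Function.iterate_succ_apply', pow_succ', pow_mul]
    have : ((frobeniusEquiv k p).symm.toRingHom ((⇑(frobeniusEquiv k p).symm.toRingHom)^[m] y)) ^ p
        = (⇑(frobeniusEquiv k p).symm.toRingHom)^[m] y := frobeniusEquiv_symm_pow_p k p _
    rw [this, ih]

theorem frobInv_h3 (c : k) : ∃ y : k, (frobeniusEquiv k p).symm.toRingHom y - y + c = 0 := by
  have hp2 : 2 ≤ p := (Fact.out : p.Prime).two_le
  have hdeg : (X ^ p - (X + C c) : k[X]).degree ≠ 0 := by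
    rw [degree_sub_eq_left_of_degree_lt]
    · rw [degree_X_pow]; exact_mod_cast (by omega : p ≠ 0)
    · rw [degree_X_pow]
      calc (X + C c : k[X]).degree ≤ 1 := by
            refine le_trans (degree_add_le _ _) (max_le degree_X_le ?_)
            exact le_trans degree_C_le (by norm_num)
        _ < (p : WithBot ℕ) := by exact_mod_cast (by omega : 1 < p)
  obtain ⟨z, hz⟩ := IsAlgClosed.exists_root _ hdeg
  rw [IsRoot.def, eval_sub, eval_pow, eval_X, eval_add, eval_X, eval_C] at hz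
  refine ⟨z ^ p, ?_⟩
  have h1 : (frobeniusEquiv k p).symm.toRingHom (z ^ p) = z := by
    have := frobeniusEquiv_symm_apply_frobenius k p z
    rw [frobenius_def] at this
    exact this
  rw [h1]
  linear_combination -hz

theorem frobInv_h2 (n : ℕ) (b : Fin (n + 1) → k) (hb : b ≠ 0) :
    ∃ x : k, x ≠ 0 ∧ x = ∑ i : Fin (n + 1),
      (⇑(frobeniusEquiv k p).symm.toRingHom)^[i.val + 1] x *
        (⇑(frobeniusEquiv k p).symm.toRingHom)^[i.val] (b (Fin.rev i)) := by
  have hp2 : 2 ≤ p := (Fact.out : p.Prime).two_le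
  have hpow_inj : ∀ a b : ℕ, p ^ a = p ^ b → a = b := fun a b h => Nat.pow_right_injective hp2 h
  obtain ⟨j0, hj0⟩ : ∃ j, b j ≠ 0 := by
    by_contra h
    push Not at h
    exact hb (funext h)
  let P : k[X] := X ^ (p ^ (n + 1)) -
    ∑ j : Fin (n + 1), C ((b j) ^ (p ^ (j.val + 1))) * X ^ (p ^ j.val)
  have hcoeff_top : P.coeff (p ^ (n + 1)) = 1 := by
    simp only [P, coeff_sub, coeff_X_pow, if_true, finsetSum_coeff, coeff_C_mul]
    rw [Finset.sum_eq_zero, sub_zero]
    intro j _
    rw [if_neg, mul_zero]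
    intro h
    have := hpow_inj _ _ h
    have := j.2
    omega
  have hcoeff_j0 : P.coeff (p ^ j0.val) = -(b j0) ^ (p ^ (j0.val + 1)) := by
    simp only [P, coeff_sub, coeff_X_pow, finsetSum_coeff, coeff_C_mul]
    rw [if_neg (fun h => by have := hpow_inj _ _ h; have := j0.2; omega), zero_sub,
      Finset.sum_eq_single j0]
    · rw [if_pos rfl, mul_one]
    · intro j _ hj
      rw [if_neg, mul_zero]
      intro h
      exact hj (Fin.ext (hpow_inj _ _ h).symm)
    · intro h; exact absurd (Finset.mem_univ j0) h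
  obtain ⟨x, hx0, hx⟩ := exists_ne_zero_root P (p ^ j0.val) (p ^ (n + 1))
    (fun h => by have := hpow_inj _ _ h; have := j0.2; omega)
    (by rw [hcoeff_j0]; exact neg_ne_zero.mpr (pow_ne_zero _ hj0))
    (by rw [hcoeff_top]; exact one_ne_zero)
  refine ⟨x, hx0, ?_⟩
  have hroot : x ^ (p ^ (n + 1)) = ∑ j : Fin (n + 1), (b j) ^ (p ^ (j.val + 1)) * x ^ (p ^ j.val) := by
    have := hx
    simp only [P, eval_sub, eval_pow, eval_X, eval_finsetSum, eval_mul, eval_C] at this
    exact sub_eq_zero.mp this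
  apply (iterateFrobenius k p (n + 1)).injective
  rw [map_sum]
  simp only [map_mul, iterateFrobenius_def]
  rw [hroot, ← Equiv.sum_comp Fin.revPerm]
  apply Finset.sum_congr rfl
  intro i _
  have hi := i.2
  have e1 : ((⇑(frobeniusEquiv k p).symm.toRingHom)^[i.val + 1] x) ^ (p ^ (n + 1)) =
      x ^ (p ^ (n - i.val)) := by
    have : p ^ (n + 1) = p ^ (i.val + 1) * p ^ (n - i.val) := by
      rw [← pow_add]; congr 1; omega
    rw [this, pow_mul, frobInv_iterate_pow]
  have e2 : ((⇑(frobeniusEquiv k p).symm.toRingHom)^[i.val] (b (Fin.rev i))) ^ (p ^ (n + 1)) =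
      (b (Fin.rev i)) ^ (p ^ (n + 1 - i.val)) := by
    have : p ^ (n + 1) = p ^ i.val * p ^ (n + 1 - i.val) := by
      rw [← pow_add]; congr 1; omega
    rw [this, pow_mul, frobInv_iterate_pow]
  rw [e1, e2, Fin.revPerm_apply, Fin.val_rev]
  have h1 : n + 1 - (i.val + 1) + 1 = n + 1 - i.val := by omega
  have h2 : n + 1 - (i.val + 1) = n - i.val := by omega
  rw [h1, h2, mul_comm]


/-- S19239 -/
theorem frobInv_surjective_and_fixed_basis {V : Type v} [AddCommGroup V] [Module k V]
    [FiniteDimensional k V] (T : V →ₛₗ[(frobeniusEquiv k p).symm.toRingHom] V) :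
    Function.Surjective (fun v : V => v - T v) ∧
    ∃ b : Module.Basis (Fin (Module.finrank k
        ↥(⨅ n : ℕ, Submodule.span k (Set.range ((⇑T)^[n]))))) k
        ↥(⨅ n : ℕ, Submodule.span k (Set.range ((⇑T)^[n]))),
      ∀ i, T (b i : V) = (b i : V) :=
  surjective_and_fixed_basis (frobeniusEquiv k p).symm.surjective T
    (fun n b hb => frobInv_h2 p n b hb) (fun c => frobInv_h3 p c)

end Frob

section FixedCoord
variable {k : Type u} [Field k] {σ : k →+* k}
  {V : Type v} [AddCommGroup V] [Module k V]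

theorem fixed_mem_iInf_W (T : V →ₛₗ[σ] V) {v : V} (hv : T v = v) :
    v ∈ ⨅ n : ℕ, Submodule.span k (Set.range ((⇑T)^[n])) := by
  rw [Submodule.mem_iInf]
  intro n
  have : (⇑T)^[n] v = v := Function.iterate_fixed hv n
  rw [← this]
  exact Submodule.subset_span ⟨v, rfl⟩

theorem fixed_coord (T : V →ₛₗ[σ] V) {U : Submodule k V} {ι : Type*} [Fintype ι]
    (b : Module.Basis ι k U) (hb : ∀ i, T (b i : V) = (b i : V))
    (u : U) (hu : T (u : V) = (u : V)) (i : ι) :
    σ (b.repr u i) = b.repr u i := by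
  have h2 : (u : V) = ∑ j, b.repr u j • (b j : V) := by
    have := congrArg U.subtype (b.sum_repr u).symm
    rw [map_sum] at this
    simpa using this
  have h3 : (u : V) = ∑ j, σ (b.repr u j) • (b j : V) := by
    rw [← hu]
    conv_lhs => rw [h2]
    rw [map_sum]
    apply Finset.sum_congr rfl
    intro j _
    rw [map_smulₛₗ, hb]
  have h1 : u = ∑ j, σ (b.repr u j) • b j := by
    apply Subtype.ext
    rw [h3]
    simp
  have h4 : b.repr u i = (b.repr (∑ j, σ (b.repr u j) • b j)) i := by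
    conv_lhs => rw [h1]
  rw [Module.Basis.repr_sum_self] at h4
  exact h4.symm

end FixedCoord
section Frob2
open Polynomial
variable {k : Type u} [Field k] (p : ℕ) [Fact p.Prime] [CharP k p] [IsAlgClosed k]

theorem frob_h3 (c : k) : ∃ y : k, frobenius k p y - y + c = 0 := by
  have hp2 : 2 ≤ p := (Fact.out : p.Prime).two_le
  have hdeg : (X ^ p - (X - C c) : k[X]).degree ≠ 0 := by
    rw [degree_sub_eq_left_of_degree_lt]
    · rw [degree_X_pow]; exact_mod_cast (by omega : p ≠ 0)
    · rw [degree_X_pow]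
      calc (X - C c : k[X]).degree ≤ 1 := by
            refine le_trans (degree_sub_le _ _) (max_le degree_X_le ?_)
            exact le_trans degree_C_le (by norm_num)
        _ < (p : WithBot ℕ) := by exact_mod_cast (by omega : 1 < p)
  obtain ⟨z, hz⟩ := IsAlgClosed.exists_root _ hdeg
  rw [IsRoot.def, eval_sub, eval_pow, eval_X, eval_sub, eval_X, eval_C] at hz
  refine ⟨z, ?_⟩
  rw [frobenius_def]
  linear_combination hz

theorem frob_h2 (n : ℕ) (b : Fin (n + 1) → k) (hb : b ≠ 0) :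
    ∃ x : k, x ≠ 0 ∧ x = ∑ i : Fin (n + 1),
      (⇑(frobenius k p))^[i.val + 1] x * (⇑(frobenius k p))^[i.val] (b (Fin.rev i)) := by
  have hp2 : 2 ≤ p := (Fact.out : p.Prime).two_le
  have hpow_inj : ∀ a b : ℕ, p ^ a = p ^ b → a = b := fun a b h => Nat.pow_right_injective hp2 h
  obtain ⟨j0, hj0⟩ : ∃ j, b j ≠ 0 := by
    by_contra h
    push Not at h
    exact hb (funext h)
  let P : k[X] := ∑ i : Fin (n + 1), C ((b (Fin.rev i)) ^ (p ^ i.val)) * X ^ (p ^ (i.val + 1)) - X
  have hcoeff_one : P.coeff (p ^ 0) = -1 := by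
    simp only [P, coeff_sub, finsetSum_coeff, coeff_C_mul, coeff_X_pow, pow_zero, coeff_X_one]
    rw [Finset.sum_eq_zero, zero_sub]
    intro j _
    rw [if_neg, mul_zero]
    intro h
    have := hpow_inj 0 (j.val + 1) (by rw [pow_zero]; exact h)
    omega
  have hcoeff_j0 : P.coeff (p ^ ((Fin.rev j0).val + 1)) = (b j0) ^ (p ^ (Fin.rev j0).val) := by
    simp only [P, coeff_sub, finsetSum_coeff, coeff_C_mul, coeff_X_pow]
    rw [coeff_X, if_neg (fun h => by
      have := hpow_inj 0 ((Fin.rev j0).val + 1) (by rw [pow_zero]; exact h)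
      omega), sub_zero, Finset.sum_eq_single (Fin.rev j0)]
    · rw [if_pos rfl, mul_one, Fin.rev_rev]
    · intro j _ hj
      rw [if_neg, mul_zero]
      intro h
      have := hpow_inj _ _ h
      exact hj (Fin.ext (by omega))
    · intro h; exact absurd (Finset.mem_univ _) h
  obtain ⟨x, hx0, hx⟩ := exists_ne_zero_root P (p ^ 0) (p ^ ((Fin.rev j0).val + 1))
    (fun h => by have := hpow_inj _ _ h; omega)
    (by rw [hcoeff_one]; exact neg_ne_zero.mpr one_ne_zero)
    (by rw [hcoeff_j0]; exact pow_ne_zero _ hj0)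
  refine ⟨x, hx0, ?_⟩
  have := hx
  simp only [P, eval_sub, eval_pow, eval_X, eval_finsetSum, eval_mul, eval_C] at this
  rw [sub_eq_zero] at this
  refine this.symm.trans ?_
  apply Finset.sum_congr rfl
  intro i _
  rw [iterate_frobenius, iterate_frobenius, mul_comm]

variable {V : Type v} [AddCommGroup V] [Module k V]

/-- a `p`-linear additive map as a Frobenius-semilinear map -/
def ofAdd (F : V →+ V) (hF : ∀ (c : k) (v : V), F (c • v) = c ^ p • F v) :
    V →ₛₗ[frobenius k p] V :=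
  { toFun := F
    map_add' := F.map_add
    map_smul' := fun c v => by
      show F (c • v) = frobenius k p c • F v
      rw [hF, frobenius_def] }

omit [IsAlgClosed k] in
@[simp] theorem ofAdd_apply (F : V →+ V) (hF : ∀ (c : k) (v : V), F (c • v) = c ^ p • F v) (v : V) :
    ofAdd p F hF v = F v := rfl

/-- S0077 -/
theorem frob_sub_id_surjective [FiniteDimensional k V] (F : V →+ V)
    (hF : ∀ (c : k) (v : V), F (c • v) = c ^ p • F v) :
    Function.Surjective fun v => F v - v := by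
  have h := (surjective_and_fixed_basis (σ := frobenius k p) (surjective_frobenius k p)
    (ofAdd p F hF) (fun n b hb => frob_h2 p n b hb) (fun c => frob_h3 p c)).1
  intro w
  obtain ⟨v, hv⟩ := h (-w)
  refine ⟨v, ?_⟩
  have hv' : v - F v = -w := hv
  show F v - v = w
  rw [← neg_sub, hv', neg_neg]

omit [CharP k p] [IsAlgClosed k] in
/-- the set of roots of `X^p - X` -/
theorem finite_pow_eq_self : {c : k | c ^ p = c}.Finite ∧ Nat.card {c : k | c ^ p = c} ≤ p := by
  classical
  have hp2 : 2 ≤ p := (Fact.out : p.Prime).two_le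
  have hnd : (X ^ p - X : k[X]).natDegree = p := by
    rw [natDegree_sub_eq_left_of_natDegree_lt, natDegree_X_pow]
    rw [natDegree_X_pow, natDegree_X]
    omega
  have hne : (X ^ p - X : k[X]) ≠ 0 := by
    intro h
    rw [h, natDegree_zero] at hnd
    omega
  have hsub : {c : k | c ^ p = c} ⊆ ((X ^ p - X : k[X]).roots.toFinset : Set k) := by
    intro c hc
    rw [Finset.mem_coe, Multiset.mem_toFinset, mem_roots hne, IsRoot.def, eval_sub, eval_pow, eval_X]
    exact sub_eq_zero.mpr hc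
  refine ⟨(Finset.finite_toSet _).subset hsub, ?_⟩
  calc Nat.card {c : k | c ^ p = c}
      ≤ Nat.card ((X ^ p - X : k[X]).roots.toFinset : Set k) :=
        Nat.card_mono (Finset.finite_toSet _) hsub
    _ = (X ^ p - X : k[X]).roots.toFinset.card := by
        rw [Nat.card_eq_fintype_card]
        simp
    _ ≤ Multiset.card (X ^ p - X : k[X]).roots := Multiset.toFinset_card_le _
    _ ≤ (X ^ p - X : k[X]).natDegree := card_roots' _
    _ = p := hnd


/-- S0078 -/
theorem frob_fixed_finite [FiniteDimensional k V] (F : V →+ V)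
    (hF : ∀ (c : k) (v : V), F (c • v) = c ^ p • F v) :
    Set.Finite {v : V | F v = v} ∧ Nat.card {v : V | F v = v} ≤ p ^ Module.finrank k V := by
  obtain ⟨b, hb⟩ := (surjective_and_fixed_basis (σ := frobenius k p) (surjective_frobenius k p)
    (ofAdd p F hF) (fun n b hb => frob_h2 p n b hb) (fun c => frob_h3 p c)).2
  have hRfin := (finite_pow_eq_self (k := k) p).1
  have hRcard := (finite_pow_eq_self (k := k) p).2
  have : Finite {c : k | c ^ p = c} := hRfin.to_subtype
  let g : (Fin (Module.finrank k ↥(⨅ n : ℕ, Submodule.span k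
      (Set.range ((⇑(ofAdd p F hF))^[n])))) → {c : k | c ^ p = c}) → V :=
    fun c => ∑ i, (c i : k) • (b i : V)
  have hsub : {v : V | F v = v} ⊆ Set.range g := by
    intro v hv
    have hvT : ofAdd p F hF v = v := hv
    have hvU := fixed_mem_iInf_W (ofAdd p F hF) hvT
    refine ⟨fun i => ⟨b.repr ⟨v, hvU⟩ i, ?_⟩, ?_⟩
    · have := fixed_coord (ofAdd p F hF) b hb ⟨v, hvU⟩ hvT i
      rw [frobenius_def] at this
      exact this
    · show ∑ i, (b.repr ⟨v, hvU⟩ i) • (b i : V) = v
      have := congrArg (Submodule.subtype _) (b.sum_repr ⟨v, hvU⟩)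
      rw [map_sum] at this
      simpa using this
  refine ⟨(Set.finite_range g).subset hsub, ?_⟩
  have hp0 : 0 < p := (Fact.out : p.Prime).pos
  calc Nat.card {v : V | F v = v} ≤ Nat.card (Set.range g) :=
        Nat.card_mono (Set.finite_range g) hsub
    _ ≤ Nat.card (Fin (Module.finrank k ↥(⨅ n : ℕ, Submodule.span k
          (Set.range ((⇑(ofAdd p F hF))^[n])))) → {c : k | c ^ p = c}) := Finite.card_range_le g
    _ = Nat.card {c : k | c ^ p = c} ^ (Module.finrank k ↥(⨅ n : ℕ, Submodule.span k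
          (Set.range ((⇑(ofAdd p F hF))^[n])))) := by
        rw [Nat.card_fun, Nat.card_fin]
    _ ≤ p ^ (Module.finrank k ↥(⨅ n : ℕ, Submodule.span k
          (Set.range ((⇑(ofAdd p F hF))^[n])))) := Nat.pow_le_pow_left hRcard _
    _ ≤ p ^ Module.finrank k V := Nat.pow_le_pow_right hp0 (Submodule.finrank_le _)

end Frob2

end Groth.Agent.Lib.Helper22.SigmaLin
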