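import Mathlib
import Groth.Agent.Lib.Helper22SigmaLin

set_option autoImplicit false
universe u v
open IsLocalRing

namespace Groth.Agent.Lib.Helper22.SigmaRing

section
variable {R : Type u} [CommRing R] [IsLocalRing R] {σ : R →+* R}
  {σbar : ResidueField R →+* ResidueField R}
  {M : Type v} [AddCommGroup M] [Module R M]

theorem map_mem_maximalIdeal (hσbar : ∀ r : R, σbar (residue R r) = residue R (σ r))
    {r : R} (hr : r ∈ maximalIdeal R) : σ r ∈ maximalIdeal R := by
  rw [← residue_eq_zero_iff] at hr ⊢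
  rw [← hσbar, hr, map_zero]

variable (R M) in
/-- `𝔪 M` -/
abbrev mM : Submodule R M := maximalIdeal R • (⊤ : Submodule R M)

theorem map_mem_mM (hσbar : ∀ r : R, σbar (residue R r) = residue R (σ r))
    (T : M →ₛₗ[σ] M) {x : M} (hx : x ∈ mM R M) : T x ∈ mM R M := by
  induction hx using Submodule.smul_induction_on' with
  | smul r hr m _ =>
    rw [T.map_smulₛₗ]
    exact Submodule.smul_mem_smul (map_mem_maximalIdeal hσbar hr) trivial
  | add x _ y _ hx hy => rw [map_add]; exact add_mem hx hy

/-- restriction of `T` to `𝔪 M` -/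
def restrM (hσbar : ∀ r : R, σbar (residue R r) = residue R (σ r)) (T : M →ₛₗ[σ] M) :
    mM R M →ₛₗ[σ] mM R M :=
  (T.domRestrict (mM R M)).codRestrict (mM R M) (fun x => map_mem_mM hσbar T x.2)

@[simp] theorem restrM_coe (hσbar : ∀ r : R, σbar (residue R r) = residue R (σ r)) (T : M →ₛₗ[σ] M)
    (x : mM R M) : (restrM hσbar T x : M) = T x := rfl

variable (R M) in
/-- `M / 𝔪 M` -/
abbrev Q : Type v := M ⧸ mM R M

noncomputable instance instModQ : Module (ResidueField R) (Q R M) :=
  inferInstanceAs (Module (R ⧸ maximalIdeal R) (M ⧸ maximalIdeal R • (⊤ : Submodule R M)))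

theorem residue_smul_mk (r : R) (m : M) :
    (residue R r) • (Submodule.Quotient.mk m : Q R M) = Submodule.Quotient.mk (r • m) := rfl

instance : IsScalarTower R (ResidueField R) (Q R M) :=
  inferInstanceAs (IsScalarTower R (R ⧸ maximalIdeal R) (M ⧸ maximalIdeal R • (⊤ : Submodule R M)))

instance [Module.Finite R M] : Module.Finite (ResidueField R) (Q R M) :=
  Module.Finite.of_restrictScalars_finite R (ResidueField R) (Q R M)

/-- induced map on `M / 𝔪 M` -/
noncomputable def quotM (hσbar : ∀ r : R, σbar (residue R r) = residue R (σ r)) (T : M →ₛₗ[σ] M) :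
    Q R M →ₛₗ[σbar] Q R M where
  toFun := Submodule.mapQ (mM R M) (mM R M) T (fun x hx => map_mem_mM hσbar T hx)
  map_add' := map_add _
  map_smul' := by
    intro c x
    obtain ⟨r, rfl⟩ := residue_surjective c
    obtain ⟨m, rfl⟩ := Submodule.Quotient.mk_surjective _ x
    rw [residue_smul_mk, Submodule.mapQ_apply, Submodule.mapQ_apply, T.map_smulₛₗ, hσbar,
      residue_smul_mk]

@[simp] theorem quotM_mk (hσbar : ∀ r : R, σbar (residue R r) = residue R (σ r)) (T : M →ₛₗ[σ] M)
    (m : M) : quotM hσbar T (Submodule.Quotient.mk m) = Submodule.Quotient.mk (T m) := rfl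

end

section Main
variable {R : Type u} [CommRing R] [IsLocalRing R] {σ : R →+* R}
  {σbar : ResidueField R →+* ResidueField R}

theorem exists_eq_smul_of_mem_mM (p : ℕ) (hmax : maximalIdeal R = Ideal.span {(p : R)})
    {M : Type v} [AddCommGroup M] [Module R M] {x : M} (hx : x ∈ mM R M) :
    ∃ y : M, x = (p : R) • y := by
  unfold mM at hx
  rw [hmax, Submodule.ideal_span_singleton_smul, Submodule.mem_smul_pointwise_iff_exists] at hx
  obtain ⟨y, -, hy⟩ := hx
  exact ⟨y, hy.symm⟩

theorem smul_mem_mM (p : ℕ) (hmax : maximalIdeal R = Ideal.span {(p : R)})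
    {M : Type v} [AddCommGroup M] [Module R M] (y : M) : (p : R) • y ∈ mM R M := by
  refine Submodule.smul_mem_smul ?_ trivial
  rw [hmax]
  exact Ideal.subset_span rfl

theorem pow_smul_mM_eq_zero (p : ℕ) (hmax : maximalIdeal R = Ideal.span {(p : R)})
    {M : Type v} [AddCommGroup M] [Module R M] (n : ℕ) (h : ∀ m : M, (p : R) ^ (n + 1) • m = 0)
    (x : mM R M) : (p : R) ^ n • x = 0 := by
  obtain ⟨y, hy⟩ := exists_eq_smul_of_mem_mM p hmax x.2
  apply Subtype.ext
  rw [Submodule.coe_smul, hy, smul_smul, ← pow_succ, h, Submodule.coe_zero]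

theorem finite_mM (p : ℕ) (hmax : maximalIdeal R = Ideal.span {(p : R)})
    {M : Type v} [AddCommGroup M] [Module R M] [Module.Finite R M] : Module.Finite R (mM R M) := by
  rw [Module.Finite.iff_fg]
  refine Submodule.FG.smul ?_ Module.Finite.fg_top
  rw [hmax]
  exact ⟨{(p : R)}, by simp⟩

theorem sub_surjective (p : ℕ) (hmax : maximalIdeal R = Ideal.span {(p : R)})
    (hσbar : ∀ r : R, σbar (residue R r) = residue R (σ r))
    (hsurj : Function.Surjective σbar)
    (h2 : ∀ (n : ℕ) (b : Fin (n + 1) → ResidueField R), b ≠ 0 →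
      ∃ x : ResidueField R, x ≠ 0 ∧ x = ∑ i : Fin (n + 1), (⇑σbar)^[i.val + 1] x * (⇑σbar)^[i.val] (b (Fin.rev i)))
    (h3 : ∀ c : ResidueField R, ∃ y : ResidueField R, σbar y - y + c = 0) :
    ∀ (n : ℕ) (M : Type v) [AddCommGroup M] [Module R M] [Module.Finite R M] (T : M →ₛₗ[σ] M),
      (∀ m : M, (p : R) ^ n • m = 0) → Function.Surjective (fun m : M => m - T m) := by
  intro n
  induction n with
  | zero =>
    intro M _ _ _ T h w
    refine ⟨0, ?_⟩
    have hw := h w
    rw [pow_zero, one_smul] at hw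
    simp [hw]
  | succ n ih =>
    intro M _ _ _ T h w
    have : Module.Finite R (mM R M) := finite_mM p hmax
    have hN := ih (mM R M) (restrM hσbar T) (pow_smul_mM_eq_zero p hmax n h)
    have hQ := (SigmaLin.surjective_and_fixed_basis hsurj (quotM hσbar T) h2 h3).1
    obtain ⟨xbar, hxbar⟩ := hQ (Submodule.Quotient.mk w)
    obtain ⟨x, rfl⟩ := Submodule.Quotient.mk_surjective _ xbar
    have hmem : w - (x - T x) ∈ mM R M := by
      rw [← Submodule.Quotient.eq]
      simp only [quotM_mk, ← Submodule.Quotient.mk_sub] at hxbar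
      exact hxbar.symm
    obtain ⟨y, hy⟩ := hN ⟨_, hmem⟩
    refine ⟨x + y, ?_⟩
    have hy' : (y : M) - T y = w - (x - T x) := by
      have := congrArg Subtype.val hy
      simpa using this
    show x + y - T (x + y) = w
    rw [map_add]
    have e : x + y - (T x + T y) = (x - T x) + ((y : M) - T y) := by abel
    rw [e, hy']
    abel

end Main


section Finite
open SigmaLin

theorem fixed_finite_field {k : Type u} [Field k] {σ : k →+* k} (hσ : Function.Surjective σ)
    {V : Type v} [AddCommGroup V] [Module k V] [FiniteDimensional k V] (T : V →ₛₗ[σ] V)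
    (h2 : ∀ (n : ℕ) (b : Fin (n + 1) → k), b ≠ 0 →
      ∃ x : k, x ≠ 0 ∧ x = ∑ i : Fin (n + 1), (⇑σ)^[i.val + 1] x * (⇑σ)^[i.val] (b (Fin.rev i)))
    (h3 : ∀ c : k, ∃ y : k, σ y - y + c = 0)
    (hfin : {c : k | σ c = c}.Finite) : {v : V | T v = v}.Finite := by
  obtain ⟨b, hb⟩ := (surjective_and_fixed_basis hσ T h2 h3).2
  have : Finite {c : k | σ c = c} := hfin.to_subtype
  let g : (Fin (Module.finrank k ↥(⨅ n : ℕ, Submodule.span k
      (Set.range ((⇑T)^[n])))) → {c : k | σ c = c}) → V :=
    fun c => ∑ i, (c i : k) • (b i : V)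
  have hsub : {v : V | T v = v} ⊆ Set.range g := by
    intro v hv
    have hvT : T v = v := hv
    have hvU := fixed_mem_iInf_W T hvT
    refine ⟨fun i => ⟨b.repr ⟨v, hvU⟩ i, ?_⟩, ?_⟩
    · exact fixed_coord T b hb ⟨v, hvU⟩ hvT i
    · show ∑ i, (b.repr ⟨v, hvU⟩ i) • (b i : V) = v
      have := congrArg (Submodule.subtype _) (b.sum_repr ⟨v, hvU⟩)
      rw [map_sum] at this
      simpa using this
  exact (Set.finite_range g).subset hsub

variable {R : Type u} [CommRing R] [IsLocalRing R] {σ : R →+* R}
  {σbar : ResidueField R →+* ResidueField R}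

theorem fixed_finite (p : ℕ) (hmax : maximalIdeal R = Ideal.span {(p : R)})
    (hσbar : ∀ r : R, σbar (residue R r) = residue R (σ r))
    (hsurj : Function.Surjective σbar)
    (h2 : ∀ (n : ℕ) (b : Fin (n + 1) → ResidueField R), b ≠ 0 →
      ∃ x : ResidueField R, x ≠ 0 ∧ x = ∑ i : Fin (n + 1), (⇑σbar)^[i.val + 1] x * (⇑σbar)^[i.val] (b (Fin.rev i)))
    (h3 : ∀ c : ResidueField R, ∃ y : ResidueField R, σbar y - y + c = 0)
    (hfin : {c : ResidueField R | σbar c = c}.Finite) :
    ∀ (n : ℕ) (M : Type v) [AddCommGroup M] [Module R M] [Module.Finite R M] (T : M →ₛₗ[σ] M),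
      (∀ m : M, (p : R) ^ n • m = 0) → {m : M | T m = m}.Finite := by
  intro n
  induction n with
  | zero =>
    intro M _ _ _ T h
    have : Subsingleton M := ⟨fun a b => by
      have ha := h a
      have hb := h b
      rw [pow_zero, one_smul] at ha hb
      rw [ha, hb]⟩
    exact Set.toFinite _
  | succ n ih =>
    intro M _ _ _ T h
    have : Module.Finite R (mM R M) := finite_mM p hmax
    have hN := ih (mM R M) (restrM hσbar T) (pow_smul_mM_eq_zero p hmax n h)
    have hQ := fixed_finite_field hsurj (quotM hσbar T) h2 h3 hfin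
    have hcover : {m : M | T m = m} ⊆
        ⋃ q ∈ {q : Q R M | quotM hσbar T q = q},
          ({m : M | T m = m} ∩ (Submodule.Quotient.mk (p := mM R M)) ⁻¹' {q}) := by
      intro m hm
      simp only [Set.mem_iUnion, Set.mem_inter_iff, Set.mem_preimage, Set.mem_singleton_iff,
        exists_prop]
      refine ⟨Submodule.Quotient.mk m, ?_, hm, rfl⟩
      show quotM hσbar T (Submodule.Quotient.mk m) = Submodule.Quotient.mk m
      rw [quotM_mk]
      exact congrArg _ hm
    refine (Set.Finite.biUnion hQ (fun q _ => ?_)).subset hcover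
    by_cases hne : ({m : M | T m = m} ∩ (Submodule.Quotient.mk (p := mM R M)) ⁻¹' {q}).Nonempty
    · obtain ⟨m0, hm0, hm0q⟩ := hne
      have hsub : ({m : M | T m = m} ∩ (Submodule.Quotient.mk (p := mM R M)) ⁻¹' {q}) ⊆
          (fun y : mM R M => m0 + (y : M)) '' {y : mM R M | restrM hσbar T y = y} := by
        rintro m ⟨hm, hmq⟩
        have hmem : m - m0 ∈ mM R M := by
          rw [← Submodule.Quotient.eq]
          rw [Set.mem_preimage, Set.mem_singleton_iff] at hmq hm0q
          rw [hmq, hm0q]
        refine ⟨⟨_, hmem⟩, ?_, ?_⟩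
        · apply Subtype.ext
          show T (m - m0) = m - m0
          have h1 : T m = m := hm
          have h2 : T m0 = m0 := hm0
          rw [map_sub, h1, h2]
        · show m0 + (m - m0) = m
          abel
      exact (hN.image _).subset hsub
    · rw [Set.not_nonempty_iff_eq_empty] at hne
      rw [hne]
      exact Set.finite_empty

end Finite


section FG
open SigmaLin

variable {R : Type u} [CommRing R] [IsLocalRing R] {σ : R →+* R}
  {σbar : ResidueField R →+* ResidueField R}

/-- the subring of `σ`-fixed elements -/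
def R0 (σ : R →+* R) : Subring R := RingHom.eqLocus σ (RingHom.id R)

theorem mem_R0 (r : R) : r ∈ R0 σ ↔ σ r = r := Iff.rfl

theorem fixed_fg (p : ℕ) (hmax : maximalIdeal R = Ideal.span {(p : R)})
    (hσbar : ∀ r : R, σbar (residue R r) = residue R (σ r))
    (hsurj : Function.Surjective σbar)
    (h2 : ∀ (n : ℕ) (b : Fin (n + 1) → ResidueField R), b ≠ 0 →
      ∃ x : ResidueField R, x ≠ 0 ∧ x = ∑ i : Fin (n + 1), (⇑σbar)^[i.val + 1] x * (⇑σbar)^[i.val] (b (Fin.rev i)))
    (h3 : ∀ c : ResidueField R, ∃ y : ResidueField R, σbar y - y + c = 0)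
    (hlift : ∀ x : ResidueField R, σbar x = x → ∃ r : R, σ r = r ∧ residue R r = x) :
    ∀ (n : ℕ) (M : Type v) [AddCommGroup M] [Module R M] [Module.Finite R M] (T : M →ₛₗ[σ] M),
      (∀ m : M, (p : R) ^ n • m = 0) →
      ∃ s : Finset M, (∀ m ∈ s, T m = m) ∧
        ∀ m : M, T m = m → m ∈ Submodule.span (R0 σ) (s : Set M) := by
  classical
  intro n
  induction n with
  | zero =>
    intro M _ _ _ T h
    refine ⟨∅, by simp, ?_⟩
    intro m _
    have hm := h m
    rw [pow_zero, one_smul] at hm
    rw [hm]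
    exact Submodule.zero_mem _
  | succ n ih =>
    intro M _ _ _ T h
    have : Module.Finite R (mM R M) := finite_mM p hmax
    obtain ⟨sN, hsN1, hsN2⟩ := ih (mM R M) (restrM hσbar T) (pow_smul_mM_eq_zero p hmax n h)
    obtain ⟨b, hb⟩ := (surjective_and_fixed_basis hsurj (quotM hσbar T) h2 h3).2
    have hsurjN := sub_surjective p hmax hσbar hsurj h2 h3 n (mM R M) (restrM hσbar T)
      (pow_smul_mM_eq_zero p hmax n h)
    have hlifts : ∀ i, ∃ e : M, T e = e ∧ (Submodule.Quotient.mk e : Q R M) = (b i : Q R M) := by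
      intro i
      obtain ⟨x, hx⟩ := Submodule.Quotient.mk_surjective _ (b i : Q R M)
      have hfix := hb i
      rw [← hx, quotM_mk] at hfix
      have hmem : x - T x ∈ mM R M := by
        rw [← Submodule.Quotient.eq]
        exact hfix.symm
      obtain ⟨y, hy⟩ := hsurjN ⟨_, hmem⟩
      have hy' : (y : M) - T y = x - T x := by
        have := congrArg Subtype.val hy
        simpa using this
      refine ⟨x - y, ?_, ?_⟩
      · rw [map_sub]
        have e1 : T x - T y = (x - y) - ((x - T x) - ((y : M) - T y)) := by abel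
        rw [e1, hy', sub_self, sub_zero]
      · rw [Submodule.Quotient.mk_sub, hx, (Submodule.Quotient.mk_eq_zero _).mpr y.2, sub_zero]
    choose e he1 he2 using hlifts
    refine ⟨sN.image Subtype.val ∪ Finset.univ.image e, ?_, ?_⟩
    · intro m hm
      rw [Finset.mem_union, Finset.mem_image, Finset.mem_image] at hm
      rcases hm with ⟨y, hy, rfl⟩ | ⟨i, -, rfl⟩
      · exact congrArg Subtype.val (hsN1 y hy)
      · exact he1 i
    · intro m hm
      have hmq : quotM hσbar T (Submodule.Quotient.mk m) = Submodule.Quotient.mk m := by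
        rw [quotM_mk, hm]
      have hU := fixed_mem_iInf_W (quotM hσbar T) hmq
      have hcoord := fun i => fixed_coord (quotM hσbar T) b hb ⟨_, hU⟩ hmq i
      choose c hc1 hc2 using fun i => hlift _ (hcoord i)
      have hsum : (Submodule.Quotient.mk m : Q R M) =
          ∑ i, b.repr ⟨_, hU⟩ i • (b i : Q R M) := by
        have := congrArg (Submodule.subtype _) (b.sum_repr ⟨_, hU⟩)
        rw [map_sum] at this
        simpa using this.symm
      have hm'N : m - ∑ i, c i • e i ∈ mM R M := by
        rw [← Submodule.Quotient.mk_eq_zero, Submodule.Quotient.mk_sub, hsum, sub_eq_zero]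
        have : (Submodule.Quotient.mk (∑ i, c i • e i) : Q R M) =
            ∑ i, (Submodule.Quotient.mk (c i • e i) : Q R M) := map_sum (Submodule.mkQ _) _ _
        rw [this]
        refine Finset.sum_congr rfl (fun i _ => ?_)
        rw [← hc2 i, ← he2 i, residue_smul_mk]
      have hm'fix : T (m - ∑ i, c i • e i) = m - ∑ i, c i • e i := by
        rw [map_sub, map_sum, hm]
        congr 1
        refine Finset.sum_congr rfl (fun i _ => ?_)
        rw [T.map_smulₛₗ, hc1, he1]
      have h1 := hsN2 ⟨_, hm'N⟩ (Subtype.ext hm'fix)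
      have h2' : m - ∑ i, c i • e i ∈
          Submodule.span (R0 σ) (Subtype.val '' (sN : Set (mM R M))) := by
        have := Submodule.apply_mem_span_image_of_mem_span
          ((mM R M).subtype.restrictScalars (R0 σ)) h1
        simpa using this
      have hdecomp : m = (m - ∑ i, c i • e i) + ∑ i, c i • e i := by abel
      rw [hdecomp]
      refine add_mem (Submodule.span_mono ?_ h2') (Submodule.sum_mem _ fun i _ => ?_)
      · intro x hx
        obtain ⟨y, hy, rfl⟩ := hx
        rw [Finset.mem_coe, Finset.mem_union]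
        left
        exact Finset.mem_image_of_mem _ hy
      · have : c i • e i = (⟨c i, hc1 i⟩ : R0 σ) • e i := rfl
        rw [this]
        refine Submodule.smul_mem _ _ (Submodule.subset_span ?_)
        rw [Finset.mem_coe, Finset.mem_union]
        right
        exact Finset.mem_image_of_mem _ (Finset.mem_univ i)

end FG

end Groth.Agent.Lib.Helper22.SigmaRing
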