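import Mathlib
import Groth.Prelude.Def_WittGrp
import Groth.Agent.Lib.Helper22SigmaLin
import Groth.Agent.Lib.Helper22SigmaRing

set_option autoImplicit false
universe u v
open IsLocalRing

namespace Groth.Agent.Lib.Helper22.SigmaWitt

open Groth.Agent.Lib.Helper22

variable (p : ℕ) [Fact p.Prime] (k : Type u) [Field k] [CharP k p] [PerfectRing k p] (n : ℕ)

local notation "W" => TruncatedWittVector p (n + 1) k

/-- zeroth coefficient as a ring hom `W_{n+1}(k) → k` -/
noncomputable def psi : W →+* k :=
  (WittVector.truncate (p := p) (R := k) (n + 1)).liftOfSurjective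
    (WittVector.truncate_surjective p (n + 1) k)
    ⟨WittVector.constantCoeff, by
      intro x hx
      rw [WittVector.mem_ker_truncate] at hx
      rw [RingHom.mem_ker]
      exact hx 0 (Nat.succ_pos n)⟩

theorem psi_truncate (y : WittVector p k) :
    psi p k n (WittVector.truncate (n + 1) y) = y.coeff 0 := by
  unfold psi
  rw [RingHom.liftOfRightInverse_comp_apply]
  rfl

theorem psi_eq_coeff (x : W) : psi p k n x = x.coeff 0 := by
  obtain ⟨y, rfl⟩ := WittVector.truncate_surjective p (n + 1) k x
  rw [psi_truncate, WittVector.coeff_truncate]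
  rfl

theorem psi_surjective : Function.Surjective (psi p k n) := by
  intro a
  refine ⟨WittVector.truncate (n + 1) (WittVector.mk p fun _ => a), ?_⟩
  rw [psi_truncate, WittVector.coeff_mk]

theorem ker_psi : RingHom.ker (psi p k n) = Ideal.span {((p : ℕ) : W)} := by
  apply le_antisymm
  · intro x hx
    rw [RingHom.mem_ker] at hx
    obtain ⟨y, rfl⟩ := WittVector.truncate_surjective p (n + 1) k x
    rw [psi_truncate] at hx
    have h1 : y = WittVector.verschiebung (y.shift 1) := by
      have := WittVector.eq_iterate_verschiebung (x := y) (n := 1) (fun i hi => by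
        have : i = 0 := by omega
        rw [this]; exact hx)
      simpa using this
    obtain ⟨z, hz⟩ := (WittVector.frobenius_bijective p k).2 (y.shift 1)
    rw [← hz, WittVector.verschiebung_frobenius] at h1
    rw [h1, map_mul, map_natCast]
    exact Ideal.mul_mem_left _ _ (Ideal.subset_span rfl)
  · rw [Ideal.span_le, Set.singleton_subset_iff, SetLike.mem_coe, RingHom.mem_ker, map_natCast]
    exact CharP.cast_eq_zero k p

theorem p_pow_eq_zero : ((p : ℕ) : W) ^ (n + 1) = 0 := by
  have : ((p : ℕ) : W) ^ (n + 1) = WittVector.truncate (n + 1) (((p : ℕ) : WittVector p k) ^ (n + 1)) := by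
    rw [map_pow, map_natCast]
  rw [this]
  apply TruncatedWittVector.ext
  intro i
  rw [WittVector.coeff_truncate, TruncatedWittVector.coeff_zero]
  have hi : (i : ℕ) ≠ n + 1 := by have := i.2; omega
  exact WittVector.coeff_p_pow_eq_zero p k hi

theorem isNilpotent_of_mem_ker {x : W} (hx : x ∈ RingHom.ker (psi p k n)) : IsNilpotent x := by
  rw [ker_psi, Ideal.mem_span_singleton] at hx
  obtain ⟨z, rfl⟩ := hx
  refine ⟨n + 1, ?_⟩
  rw [mul_pow, p_pow_eq_zero, zero_mul]

theorem isUnit_iff (x : W) : IsUnit x ↔ psi p k n x ≠ 0 := by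
  constructor
  · intro hx
    exact (hx.map (psi p k n)).ne_zero
  · intro hx
    obtain ⟨b, hb⟩ := psi_surjective p k n (psi p k n x)⁻¹
    have h1 : x * b - 1 ∈ RingHom.ker (psi p k n) := by
      rw [RingHom.mem_ker, map_sub, map_mul, hb, map_one, mul_inv_cancel₀ hx, sub_self]
    have h2 : IsUnit (x * b) := by
      have := (isNilpotent_of_mem_ker p k n h1).isUnit_add_one
      simpa using this
    exact isUnit_of_mul_isUnit_left h2

instance : Nontrivial W := by
  refine ⟨⟨0, 1, fun h => ?_⟩⟩
  have := congrArg (psi p k n) h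
  rw [map_zero, map_one] at this
  exact zero_ne_one this

instance : IsLocalRing W := by
  refine IsLocalRing.of_nonunits_add ?_
  intro a b ha hb
  rw [mem_nonunits_iff, isUnit_iff, not_not] at ha hb ⊢
  rw [map_add, ha, hb, add_zero]

theorem maximalIdeal_eq : maximalIdeal W = Ideal.span {((p : ℕ) : W)} := by
  rw [← ker_psi]
  ext x
  rw [mem_maximalIdeal, mem_nonunits_iff, isUnit_iff, not_not, RingHom.mem_ker]

instance : IsLocalHom (psi p k n) := ⟨fun a ha => by
  rw [isUnit_iff]
  exact ha.ne_zero⟩

/-- residue field of `W_{n+1}(k)` to `k` -/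
noncomputable def phi : ResidueField W →+* k := ResidueField.lift (psi p k n)

theorem phi_residue (x : W) : phi p k n (residue W x) = psi p k n x :=
  ResidueField.lift_residue_apply _ _

theorem phi_injective : Function.Injective (phi p k n) := (phi p k n).injective

theorem phi_surjective : Function.Surjective (phi p k n) := by
  intro a
  obtain ⟨x, hx⟩ := psi_surjective p k n a
  exact ⟨residue W x, by rw [phi_residue, hx]⟩

variable (f : k →+* k)

theorem psi_truncMap (x : W) : psi p k n (WittGrp.truncMap p (n + 1) f x) = f (psi p k n x) := by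
  rw [psi_eq_coeff, psi_eq_coeff, WittGrp.coeff_truncMap]

instance : IsLocalHom (WittGrp.truncMap p (n + 1) f) := ⟨fun a ha => by
  rw [isUnit_iff] at ha ⊢
  rw [psi_truncMap] at ha
  intro h
  rw [h, map_zero] at ha
  exact ha rfl⟩

/-- induced map on the residue field -/
noncomputable def sbar : ResidueField W →+* ResidueField W :=
  ResidueField.map (WittGrp.truncMap p (n + 1) f)

theorem sbar_residue (x : W) :
    sbar p k n f (residue W x) = residue W (WittGrp.truncMap p (n + 1) f x) :=
  ResidueField.map_residue _ _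

theorem phi_sbar (c : ResidueField W) : phi p k n (sbar p k n f c) = f (phi p k n c) := by
  obtain ⟨x, rfl⟩ := residue_surjective c
  rw [sbar_residue, phi_residue, phi_residue, psi_truncMap]

theorem phi_sbar_iterate (j : ℕ) (c : ResidueField W) :
    phi p k n ((⇑(sbar p k n f))^[j] c) = (⇑f)^[j] (phi p k n c) := by
  induction j generalizing c with
  | zero => rfl
  | succ j ih => rw [Function.iterate_succ_apply, ih, phi_sbar, Function.iterate_succ_apply]

theorem sbar_surjective (hf : Function.Surjective f) : Function.Surjective (sbar p k n f) := by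
  intro c
  obtain ⟨a, ha⟩ := hf (phi p k n c)
  obtain ⟨c', hc'⟩ := phi_surjective p k n a
  refine ⟨c', phi_injective p k n ?_⟩
  rw [phi_sbar, hc', ha]

theorem sbar_h2
    (h2 : ∀ (m : ℕ) (b : Fin (m + 1) → k), b ≠ 0 →
      ∃ x : k, x ≠ 0 ∧ x = ∑ i : Fin (m + 1), (⇑f)^[i.val + 1] x * (⇑f)^[i.val] (b (Fin.rev i)))
    (m : ℕ) (b : Fin (m + 1) → ResidueField W) (hb : b ≠ 0) :
    ∃ x : ResidueField W, x ≠ 0 ∧ x = ∑ i : Fin (m + 1),
      (⇑(sbar p k n f))^[i.val + 1] x * (⇑(sbar p k n f))^[i.val] (b (Fin.rev i)) := by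
  have hb' : (fun i => phi p k n (b i)) ≠ 0 := by
    intro h
    apply hb
    funext i
    have := congrFun h i
    have h0 : (0 : Fin (m + 1) → ResidueField W) i = 0 := rfl
    rw [h0]
    apply phi_injective p k n
    rw [map_zero]
    exact this
  obtain ⟨x', hx'0, hx'⟩ := h2 m (fun i => phi p k n (b i)) hb'
  obtain ⟨x, rfl⟩ := phi_surjective p k n x'
  refine ⟨x, fun h => hx'0 (by rw [h, map_zero]), phi_injective p k n ?_⟩
  rw [map_sum]
  conv_lhs => rw [hx']
  refine Finset.sum_congr rfl (fun i _ => ?_)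
  rw [map_mul, phi_sbar_iterate, phi_sbar_iterate]

theorem sbar_h3 (h3 : ∀ c : k, ∃ y : k, f y - y + c = 0) (c : ResidueField W) :
    ∃ y : ResidueField W, sbar p k n f y - y + c = 0 := by
  obtain ⟨y', hy'⟩ := h3 (phi p k n c)
  obtain ⟨y, rfl⟩ := phi_surjective p k n y'
  refine ⟨y, phi_injective p k n ?_⟩
  rw [map_add, map_sub, phi_sbar, map_zero]
  exact hy'

theorem sbar_fixed_finite (hfin : {a : k | f a = a}.Finite) :
    {c : ResidueField W | sbar p k n f c = c}.Finite := by
  refine Set.Finite.of_finite_image (f := phi p k n) (hfin.subset ?_) (phi_injective p k n).injOn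
  rintro _ ⟨c, hc, rfl⟩
  show f (phi p k n c) = phi p k n c
  rw [← phi_sbar, hc]


section Main
variable (p : ℕ) [Fact p.Prime] (k : Type u) [Field k] [CharP k p] [PerfectRing k p]

theorem witt_sub_surjective (f : k →+* k) (hf : Function.Surjective f)
    (h2 : ∀ (m : ℕ) (b : Fin (m + 1) → k), b ≠ 0 →
      ∃ x : k, x ≠ 0 ∧ x = ∑ i : Fin (m + 1), (⇑f)^[i.val + 1] x * (⇑f)^[i.val] (b (Fin.rev i)))
    (h3 : ∀ c : k, ∃ y : k, f y - y + c = 0) (n : ℕ)
    (M : Type v) [AddCommGroup M] [Module (TruncatedWittVector p n k) M]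
    [Module.Finite (TruncatedWittVector p n k) M]
    (T : M →ₛₗ[WittGrp.truncMap p n f] M) : Function.Surjective (fun m : M => T m - m) := by
  cases n with
  | zero =>
    have : Subsingleton (TruncatedWittVector p 0 k) :=
      ⟨fun a b => TruncatedWittVector.ext (fun i => i.elim0)⟩
    have : Subsingleton M := Module.subsingleton (TruncatedWittVector p 0 k) M
    intro w
    exact ⟨0, Subsingleton.elim _ _⟩
  | succ n =>
    have h := SigmaRing.sub_surjective p (maximalIdeal_eq p k n) (sbar_residue p k n f)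
      (sbar_surjective p k n f hf) (sbar_h2 p k n f h2) (sbar_h3 p k n f h3) (n + 1) M T
      (fun m => by rw [p_pow_eq_zero, zero_smul])
    intro w
    obtain ⟨m, hm⟩ := h (-w)
    refine ⟨m, ?_⟩
    have hm' : m - T m = -w := hm
    show T m - m = w
    rw [← neg_sub, hm', neg_neg]

theorem witt_fixed_finite (f : k →+* k) (hf : Function.Surjective f)
    (h2 : ∀ (m : ℕ) (b : Fin (m + 1) → k), b ≠ 0 →
      ∃ x : k, x ≠ 0 ∧ x = ∑ i : Fin (m + 1), (⇑f)^[i.val + 1] x * (⇑f)^[i.val] (b (Fin.rev i)))
    (h3 : ∀ c : k, ∃ y : k, f y - y + c = 0) (hfin : {a : k | f a = a}.Finite) (n : ℕ)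
    (M : Type v) [AddCommGroup M] [Module (TruncatedWittVector p n k) M]
    [Module.Finite (TruncatedWittVector p n k) M]
    (T : M →ₛₗ[WittGrp.truncMap p n f] M) : {m : M | T m = m}.Finite := by
  cases n with
  | zero =>
    have : Subsingleton (TruncatedWittVector p 0 k) :=
      ⟨fun a b => TruncatedWittVector.ext (fun i => i.elim0)⟩
    have : Subsingleton M := Module.subsingleton (TruncatedWittVector p 0 k) M
    exact Set.toFinite _
  | succ n =>
    exact SigmaRing.fixed_finite p (maximalIdeal_eq p k n) (sbar_residue p k n f)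
      (sbar_surjective p k n f hf) (sbar_h2 p k n f h2) (sbar_h3 p k n f h3)
      (sbar_fixed_finite p k n f hfin) (n + 1) M T
      (fun m => by rw [p_pow_eq_zero, zero_smul])

end Main

end Groth.Agent.Lib.Helper22.SigmaWitt
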