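import Groth.Agent.Lib.Helper28Reflexive2
import Groth.Agent.Lib.Helper28DepthBC
import Mathlib.RingTheory.Flat.Basic
import Mathlib.LinearAlgebra.TensorProduct.RightExactness
import Mathlib.LinearAlgebra.TensorProduct.Quotient
import Mathlib.RingTheory.FiniteLength
import Mathlib.RingTheory.Filtration
import Mathlib.RingTheory.TensorProduct.Pi

/-!
# Depth library, part 12 (helper28): depth of `N ⊗_R M` for a flat local homomorphism `R → S`
(`depth_S (N ⊗ M) = depth_R M + depth_S (N / m_R N)`), with the supporting lemmas: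
regularity of `y` on `N ⊗ X` from regularity on the closed fibre, flatness of `N / y N`,
`S`-linear quotient/tensor isomorphisms.
-/

set_option autoImplicit false
universe u u' v w
open RingTheory.Sequence TensorProduct
open scoped Pointwise

namespace Groth.Agent.Lib.Helper28

section TensorTools

variable {R : Type u} [CommRing R] {N : Type v} [AddCommGroup N] [Module R N]
  (θ : N →ₗ[R] N)

/-- Two-out-of-three for injectivity of `θ ⊗ id` along a short exact sequence, `N` flat. -/
theorem rTensor_injective_of_exact [Module.Flat R N] {L' L L'' : Type*}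
    [AddCommGroup L'] [Module R L'] [AddCommGroup L] [Module R L] [AddCommGroup L'']
    [Module R L''] (f : L' →ₗ[R] L) (g : L →ₗ[R] L'') (hf : Function.Injective f)
    (hfg : Function.Exact f g)
    (h1 : Function.Injective (θ.rTensor L')) (h3 : Function.Injective (θ.rTensor L'')) :
    Function.Injective (θ.rTensor L) := by
  rw [injective_iff_map_eq_zero]
  intro z hz
  have hcomm3 : θ.rTensor L'' (g.lTensor N z) = g.lTensor N (θ.rTensor L z) := by
    rw [← LinearMap.comp_apply, ← LinearMap.comp_apply, LinearMap.rTensor_comp_lTensor,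
      LinearMap.lTensor_comp_rTensor]
  have hz3 : g.lTensor N z = 0 := by
    apply h3
    rw [hcomm3, hz, map_zero, map_zero]
  obtain ⟨z', rfl⟩ := (Module.Flat.lTensor_exact N hfg z).mp hz3
  have hcomm1 : f.lTensor N (θ.rTensor L' z') = θ.rTensor L (f.lTensor N z') := by
    rw [← LinearMap.comp_apply, ← LinearMap.comp_apply, LinearMap.rTensor_comp_lTensor,
      LinearMap.lTensor_comp_rTensor]
  have hz1 : θ.rTensor L' z' = 0 := by
    apply Module.Flat.lTensor_preserves_injective_linearMap f hf
    rw [hcomm1, hz, map_zero]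
  have : z' = 0 := h1 (by rw [hz1, map_zero])
  rw [this, map_zero]

theorem rTensor_injective_of_linearEquiv {L L' : Type*} [AddCommGroup L] [Module R L]
    [AddCommGroup L'] [Module R L'] (e : L ≃ₗ[R] L')
    (h : Function.Injective (θ.rTensor L)) : Function.Injective (θ.rTensor L') := by
  rw [injective_iff_map_eq_zero]
  intro z hz
  have hcomm : θ.rTensor L (e.symm.toLinearMap.lTensor N z) =
      e.symm.toLinearMap.lTensor N (θ.rTensor L' z) := by
    rw [← LinearMap.comp_apply, ← LinearMap.comp_apply, LinearMap.rTensor_comp_lTensor,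
      LinearMap.lTensor_comp_rTensor]
  have h0 : e.symm.toLinearMap.lTensor N z = 0 := h (by rw [hcomm, hz, map_zero, map_zero])
  have hinj : Function.Injective (e.symm.toLinearMap.lTensor N) :=
    (LinearEquiv.lTensor N e.symm).injective
  exact hinj (by rw [h0, map_zero])

theorem rTensor_injective_of_subsingleton {L : Type*} [AddCommGroup L] [Module R L]
    [Subsingleton L] : Function.Injective (θ.rTensor L) :=
  fun a b _ => Subsingleton.elim a b

end TensorTools

section FiniteLengthTools

variable {R : Type u} [CommRing R] [IsLocalRing R]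

/-- A finite module over a Noetherian local ring killed by a power of the maximal ideal is
Artinian. -/
theorem isArtinian_of_maximalIdeal_pow_smul_top_eq_bot [IsNoetherianRing R] (n : ℕ) :
    ∀ (X : Type v) [AddCommGroup X] [Module R X] [Module.Finite R X],
      (IsLocalRing.maximalIdeal R ^ n • (⊤ : Submodule R X) = ⊥) → IsArtinian R X := by
  induction n with
  | zero =>
    intro X _ _ _ h
    rw [pow_zero, Ideal.one_eq_top, Submodule.top_smul] at h
    have : Subsingleton X := by
      refine ⟨fun a b => ?_⟩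
      have ha : a ∈ (⊤ : Submodule R X) := Submodule.mem_top
      have hb : b ∈ (⊤ : Submodule R X) := Submodule.mem_top
      rw [h, Submodule.mem_bot] at ha hb
      rw [ha, hb]
    infer_instance
  | succ n ih =>
    intro X _ _ _ h
    let X₁ : Submodule R X := IsLocalRing.maximalIdeal R • ⊤
    have h1 : IsLocalRing.maximalIdeal R ^ n • (⊤ : Submodule R X₁) = ⊥ := by
      apply Submodule.map_injective_of_injective X₁.injective_subtype
      rw [Submodule.map_smul'', Submodule.map_top, Submodule.range_subtype, Submodule.map_bot]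
      change IsLocalRing.maximalIdeal R ^ n • (IsLocalRing.maximalIdeal R • ⊤) = ⊥
      rw [← mul_smul, ← pow_succ]
      exact h
    have : IsArtinian R X₁ := ih X₁ h1
    have : IsArtinian R (X ⧸ X₁) := isArtinian_quotient_maximalIdeal_smul_top X
    exact isArtinian_of_range_eq_ker X₁.subtype X₁.mkQ (by simp)

theorem isFiniteLength_quotient_maximalIdeal_pow_smul_top [IsNoetherianRing R] (n : ℕ)
    (X : Type v) [AddCommGroup X] [Module R X] [Module.Finite R X] :
    IsFiniteLength R (X ⧸ (IsLocalRing.maximalIdeal R ^ n • ⊤ : Submodule R X)) := by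
  rw [isFiniteLength_iff_isNoetherian_isArtinian]
  refine ⟨inferInstance, isArtinian_of_maximalIdeal_pow_smul_top_eq_bot n _ ?_⟩
  have : (IsLocalRing.maximalIdeal R ^ n • (⊤ : Submodule R X)).mkQ.range = ⊤ :=
    Submodule.range_mkQ _
  rw [← this, ← Submodule.map_top, ← Submodule.map_smul'', Submodule.mkQ_map_self]

/-- If `θ ⊗ (R/m)` is injective then `θ ⊗ L` is injective for every `L` of finite length. -/
theorem rTensor_injective_of_isFiniteLength {N : Type v} [AddCommGroup N] [Module R N]
    [Module.Flat R N] (θ : N →ₗ[R] N)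
    (h0 : Function.Injective (θ.rTensor (R ⧸ IsLocalRing.maximalIdeal R)))
    {L : Type w} [AddCommGroup L] [Module R L] (hL : IsFiniteLength R L) :
    Function.Injective (θ.rTensor L) := by
  induction hL with
  | of_subsingleton => exact rTensor_injective_of_subsingleton θ
  | @of_simple_quotient L _ _ L₀ hsimple _ ih =>
    obtain ⟨I, hI, ⟨e⟩⟩ := isSimpleModule_iff_quot_maximal.mp hsimple
    have hIm : I = IsLocalRing.maximalIdeal R := IsLocalRing.eq_maximalIdeal hI
    subst hIm
    exact rTensor_injective_of_exact θ L₀.subtype L₀.mkQ L₀.injective_subtype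
      (LinearMap.exact_subtype_mkQ L₀) ih (rTensor_injective_of_linearEquiv θ e.symm h0)

end FiniteLengthTools

section FiniteTensor

variable {R : Type u} {S : Type u'} [CommRing R] [CommRing S] [Algebra R S]
  {N : Type v} [AddCommGroup N] [Module S N] [Module R N] [IsScalarTower R S N]

theorem finite_tensorProduct_of_finite [Module.Finite S N] (X : Type w) [AddCommGroup X]
    [Module R X] [Module.Finite R X] : Module.Finite S (N ⊗[R] X) := by
  obtain ⟨k, π, hπ⟩ := Module.Finite.exists_fin' R X
  let F : (Fin k → N) →ₗ[S] N ⊗[R] X :=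
    (TensorProduct.AlgebraTensorModule.lTensor S N π) ∘ₗ
      (TensorProduct.piScalarRight R S N (Fin k)).symm.toLinearMap
  refine Module.Finite.of_surjective F ?_
  have h1 : Function.Surjective (TensorProduct.AlgebraTensorModule.lTensor S N π) := by
    rw [TensorProduct.AlgebraTensorModule.coe_lTensor]
    exact LinearMap.lTensor_surjective N hπ
  exact h1.comp (TensorProduct.piScalarRight R S N (Fin k)).symm.surjective

variable (R N) in
/-- Multiplication by `y : S` as an `R`-linear endomorphism of `N`. -/
def ymap (y : S) : N →ₗ[R] N := (LinearMap.lsmul S N y).restrictScalars R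

@[simp] theorem ymap_apply (y : S) (n : N) : ymap R N y n = y • n := rfl

theorem smul_eq_rTensor_ymap (y : S) {X : Type w} [AddCommGroup X] [Module R X]
    (z : N ⊗[R] X) : y • z = (ymap R N y).rTensor X z := by
  induction z using TensorProduct.induction_on with
  | zero => simp
  | tmul n x => rw [TensorProduct.smul_tmul', LinearMap.rTensor_tmul, ymap_apply]
  | add a b ha hb => rw [smul_add, map_add, ha, hb]

theorem isSMulRegular_tensor_iff (y : S) {X : Type w} [AddCommGroup X] [Module R X] :
    IsSMulRegular (N ⊗[R] X) y ↔ Function.Injective ((ymap R N y).rTensor X) := by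
  have : (fun z : N ⊗[R] X => y • z) = ⇑((ymap R N y).rTensor X) :=
    funext fun z => smul_eq_rTensor_ymap y z
  unfold IsSMulRegular
  rw [this]

/-- The image of `N ⊗ (I X)` in `N ⊗ X` lies in `(I S) (N ⊗ X)`. -/
theorem lTensor_subtype_mem_smul_top (I : Ideal R) {X : Type w} [AddCommGroup X] [Module R X]
    (J : Ideal S) (hIJ : I.map (algebraMap R S) ≤ J)
    (z : N ⊗[R] (I • ⊤ : Submodule R X)) :
    (I • ⊤ : Submodule R X).subtype.lTensor N z ∈ (J • ⊤ : Submodule S (N ⊗[R] X)) := by
  induction z using TensorProduct.induction_on with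
  | zero => rw [map_zero]; exact Submodule.zero_mem _
  | add a b ha hb => rw [map_add]; exact Submodule.add_mem _ ha hb
  | tmul n x =>
    rw [LinearMap.lTensor_tmul, Submodule.subtype_apply]
    obtain ⟨x, hx⟩ := x
    simp only
    refine Submodule.smul_induction_on hx ?_ ?_
    · intro a ha x' _
      rw [TensorProduct.tmul_smul, ← algebraMap_smul S a (n ⊗ₜ[R] x')]
      exact Submodule.smul_mem_smul (hIJ (Ideal.mem_map_of_mem _ ha)) Submodule.mem_top
    · intro x1 x2 h1 h2
      rw [TensorProduct.tmul_add]
      exact Submodule.add_mem _ h1 h2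

end FiniteTensor

section LemmaA

variable {R : Type u} {S : Type u'} [CommRing R] [CommRing S] [IsLocalRing R] [IsLocalRing S]
  [IsNoetherianRing R] [IsNoetherianRing S] [Algebra R S] [IsLocalHom (algebraMap R S)]
  {N : Type v} [AddCommGroup N] [Module S N] [Module R N] [IsScalarTower R S N]
  [Module.Finite S N] [Module.Flat R N]

/-- Key lemma: if `y` is injective on `N ⊗ (R/m)` (with `N` flat over `R`, finite over `S`), then
`y` is injective on `N ⊗ X` for every finite `R`-module `X`. -/
theorem rTensor_ymap_injective_of_finite (y : S)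
    (h0 : Function.Injective ((ymap R N y).rTensor (R ⧸ IsLocalRing.maximalIdeal R)))
    (X : Type w) [AddCommGroup X] [Module R X] [Module.Finite R X] :
    Function.Injective ((ymap R N y).rTensor X) := by
  have : Module.Finite S (N ⊗[R] X) := finite_tensorProduct_of_finite (R := R) (S := S) (N := N) X
  rw [injective_iff_map_eq_zero]
  intro z hz
  have hmem : ∀ n : ℕ,
      z ∈ (IsLocalRing.maximalIdeal S ^ n • ⊤ : Submodule S (N ⊗[R] X)) := by
    intro n
    have hq : (IsLocalRing.maximalIdeal R ^ n • ⊤ : Submodule R X).mkQ.lTensor N z = 0 := by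
      apply rTensor_injective_of_isFiniteLength (ymap R N y) h0
        (isFiniteLength_quotient_maximalIdeal_pow_smul_top n X)
      rw [← LinearMap.comp_apply, LinearMap.rTensor_comp_lTensor,
        ← LinearMap.lTensor_comp_rTensor, LinearMap.comp_apply, hz, map_zero, map_zero]
    obtain ⟨z₀, rfl⟩ := (lTensor_exact N (LinearMap.exact_subtype_mkQ _)
      (Submodule.mkQ_surjective _) z).mp hq
    refine lTensor_subtype_mem_smul_top (IsLocalRing.maximalIdeal R ^ n)
      (IsLocalRing.maximalIdeal S ^ n) ?_ z₀
    rw [Ideal.map_pow]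
    exact Ideal.pow_right_mono (IsLocalRing.map_maximalIdeal_le (algebraMap R S)) n
  have hK := Ideal.iInf_pow_smul_eq_bot_of_isLocalRing (IsLocalRing.maximalIdeal S)
    (M := N ⊗[R] X) Ideal.IsPrime.ne_top'
  have hz' : z ∈ (⨅ i : ℕ, IsLocalRing.maximalIdeal S ^ i • ⊤ : Submodule S (N ⊗[R] X)) :=
    (Submodule.mem_iInf _).mpr hmem
  rw [hK] at hz'
  exact hz'

omit [IsLocalRing R] [IsLocalRing S] [IsNoetherianRing R] [IsNoetherianRing S]
  [IsLocalHom (algebraMap R S)] [Module.Finite S N] [Module.Flat R N] in
theorem mem_map_smul_top_iff (I : Ideal R) (n : N) :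
    n ∈ (I.map (algebraMap R S) • ⊤ : Submodule S N) ↔ n ∈ (I • ⊤ : Submodule R N) := by
  have h := Ideal.smul_restrictScalars (S := S) I (⊤ : Submodule S N)
  rw [Submodule.restrictScalars_top] at h
  rw [← h, Submodule.restrictScalars_mem]

omit [IsLocalRing R] [IsLocalRing S] [IsNoetherianRing R] [IsNoetherianRing S]
  [IsLocalHom (algebraMap R S)] [Module.Finite S N] [Module.Flat R N] in
/-- Regularity of `y` on `N / I N` gives injectivity of `y` on `N ⊗ (R/I)`. -/
theorem rTensor_ymap_injective_quotient (I : Ideal R) (y : S)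
    (hy : IsSMulRegular (N ⧸ (I.map (algebraMap R S) • ⊤ : Submodule S N)) y) :
    Function.Injective ((ymap R N y).rTensor (R ⧸ I)) := by
  rw [injective_iff_map_eq_zero]
  intro z hz
  obtain ⟨n, hn⟩ := Submodule.Quotient.mk_surjective _ (tensorQuotEquivQuotSMul N I z)
  have hzn : z = n ⊗ₜ[R] (1 : R ⧸ I) := by
    rw [← tensorQuotEquivQuotSMul_symm_mk, hn, LinearEquiv.symm_apply_apply]
  rw [hzn, LinearMap.rTensor_tmul, ymap_apply, ← tensorQuotEquivQuotSMul_symm_mk,
    LinearEquiv.map_eq_zero_iff, Submodule.Quotient.mk_eq_zero,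
    ← mem_map_smul_top_iff (S := S)] at hz
  have h1 : y • (Submodule.Quotient.mk n :
      N ⧸ (I.map (algebraMap R S) • ⊤ : Submodule S N)) = 0 := by
    rw [← Submodule.Quotient.mk_smul, Submodule.Quotient.mk_eq_zero]
    exact hz
  have h2 : (Submodule.Quotient.mk n :
      N ⧸ (I.map (algebraMap R S) • ⊤ : Submodule S N)) = 0 := hy (by simpa using h1)
  rw [Submodule.Quotient.mk_eq_zero, mem_map_smul_top_iff] at h2
  rw [hzn, ← tensorQuotEquivQuotSMul_symm_mk, LinearEquiv.map_eq_zero_iff,
    Submodule.Quotient.mk_eq_zero]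
  exact h2

/-- Lemma A: if `y` is regular on `N / m N`, then `y` is regular on `N ⊗ X` for all finite `X`. -/
theorem isSMulRegular_tensor_of_isSMulRegular_quotient (y : S)
    (hy : IsSMulRegular (N ⧸ ((IsLocalRing.maximalIdeal R).map (algebraMap R S) • ⊤ :
      Submodule S N)) y)
    (X : Type w) [AddCommGroup X] [Module R X] [Module.Finite R X] :
    IsSMulRegular (N ⊗[R] X) y :=
  (isSMulRegular_tensor_iff y).mpr (rTensor_ymap_injective_of_finite y
    (rTensor_ymap_injective_quotient _ y hy) X)

end LemmaA

section FlatCokernel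

variable {R : Type u} [CommRing R] {N : Type v} {N' : Type w} [AddCommGroup N] [Module R N]
  [AddCommGroup N'] [Module R N']

/-- If `N` is flat, `N →θ N →π N' → 0` is exact and `θ ⊗ X` is injective for all finite `X`,
then `N'` is flat. -/
theorem flat_of_exact_of_rTensor_injective [Module.Flat R N]
    (θ : N →ₗ[R] N) (π : N →ₗ[R] N') (hπ : Function.Surjective π)
    (hθπ : Function.Exact θ π)
    (h : ∀ (X : Type u) [AddCommGroup X] [Module R X] [Module.Finite R X],
      Function.Injective (θ.rTensor X)) :
    Module.Flat R N' := by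
  rw [Module.flat_iff]
  intro P _ _ _ L _
  let _ := Module.addCommMonoidToAddCommGroup R (M := P)
  rw [← LinearMap.lTensor_inj_iff_rTensor_inj]
  rw [injective_iff_map_eq_zero]
  intro w hw
  obtain ⟨w1, rfl⟩ := LinearMap.rTensor_surjective L hπ w
  -- v := image of w1 in N ⊗ P
  have hv : π.rTensor P (L.subtype.lTensor N w1) = 0 := by
    rw [← hw, ← LinearMap.comp_apply, ← LinearMap.comp_apply, LinearMap.rTensor_comp_lTensor,
      LinearMap.lTensor_comp_rTensor]
  obtain ⟨v', hv'⟩ := (rTensor_exact P hθπ hπ _).mp hv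
  have hq : L.mkQ.lTensor N v' = 0 := by
    apply h (P ⧸ L)
    rw [map_zero, ← LinearMap.comp_apply, LinearMap.rTensor_comp_lTensor,
      ← LinearMap.lTensor_comp_rTensor, LinearMap.comp_apply, hv', ← LinearMap.comp_apply,
      ← LinearMap.lTensor_comp]
    have : L.mkQ ∘ₗ L.subtype = 0 := by
      ext x; simp
    rw [this, LinearMap.lTensor_zero, LinearMap.zero_apply]
  obtain ⟨w2, hw2⟩ := (lTensor_exact N (LinearMap.exact_subtype_mkQ L)
    (Submodule.mkQ_surjective L) v').mp hq
  have hw12 : w1 = θ.rTensor L w2 := by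
    apply Module.Flat.lTensor_preserves_injective_linearMap (M := N) L.subtype
      L.injective_subtype
    rw [← LinearMap.comp_apply (L.subtype.lTensor N) (θ.rTensor L),
      LinearMap.lTensor_comp_rTensor, ← LinearMap.rTensor_comp_lTensor, LinearMap.comp_apply,
      hw2, hv']
  rw [hw12, ← LinearMap.comp_apply, ← LinearMap.rTensor_comp]
  have : π ∘ₗ θ = 0 := hθπ.linearMap_comp_eq_zero
  rw [this, LinearMap.rTensor_zero, LinearMap.zero_apply]

end FlatCokernel

section QuotIsos

variable {R : Type u} {S : Type u'} [CommRing R] [CommRing S] [Algebra R S]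
  {N : Type v} [AddCommGroup N] [Module S N] [Module R N] [IsScalarTower R S N]

/-- The quotient map `N → N / y N` as an `R`-linear map. -/
def quotSMulTopMkR (y : S) : N →ₗ[R] QuotSMulTop y N :=
  (Submodule.mkQ (y • (⊤ : Submodule S N))).restrictScalars R

theorem quotSMulTopMkR_surjective (y : S) :
    Function.Surjective (quotSMulTopMkR (R := R) (N := N) y) := by
  intro q
  obtain ⟨n, rfl⟩ := Submodule.Quotient.mk_surjective (y • (⊤ : Submodule S N)) q
  exact ⟨n, rfl⟩

theorem exact_ymap_quotSMulTopMkR (y : S) :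
    Function.Exact (ymap R N y) (quotSMulTopMkR (R := R) (N := N) y) := by
  intro n
  change (Submodule.Quotient.mk n : QuotSMulTop y N) = 0 ↔ _
  rw [Submodule.Quotient.mk_eq_zero, Submodule.mem_smul_pointwise_iff_exists]
  constructor
  · rintro ⟨n₀, -, h⟩
    exact ⟨n₀, h⟩
  · rintro ⟨n₀, h⟩
    exact ⟨n₀, Submodule.mem_top, h⟩

/-- `(N ⊗ X) / y (N ⊗ X) ≃ (N / y N) ⊗ X`, `S`-linearly. -/
noncomputable def quotSMulTopTensorEquiv (y : S) (X : Type w) [AddCommGroup X] [Module R X] :
    QuotSMulTop y (N ⊗[R] X) ≃ₗ[S] (QuotSMulTop y N) ⊗[R] X :=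
  let G : N ⊗[R] X →ₗ[S] (QuotSMulTop y N) ⊗[R] X :=
    TensorProduct.AlgebraTensorModule.rTensor R X (Submodule.mkQ (y • (⊤ : Submodule S N)))
  have hsurj : Function.Surjective G := by
    change Function.Surjective ((quotSMulTopMkR (R := R) (N := N) y).rTensor X)
    exact LinearMap.rTensor_surjective X (quotSMulTopMkR_surjective y)
  have hker : y • (⊤ : Submodule S (N ⊗[R] X)) = LinearMap.ker G := by
    ext z
    rw [LinearMap.mem_ker, Submodule.mem_smul_pointwise_iff_exists]
    have hex := rTensor_exact X (exact_ymap_quotSMulTopMkR (R := R) (N := N) y)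
      (quotSMulTopMkR_surjective y) z
    change G z = 0 ↔ _ at hex
    rw [hex]
    constructor
    · rintro ⟨z₀, -, h⟩
      exact ⟨z₀, by rw [← smul_eq_rTensor_ymap, h]⟩
    · rintro ⟨z₀, h⟩
      exact ⟨z₀, Submodule.mem_top, by rw [smul_eq_rTensor_ymap, h]⟩
  (Submodule.quotEquivOfEq _ _ hker).trans (G.quotKerEquivOfSurjective hsurj)

/-- `(N ⊗ M) / x (N ⊗ M) ≃ N ⊗ (M / x M)`, `S`-linearly, for `x : R`. -/
noncomputable def quotSMulTopTensorEquiv' (x : R) (M : Type w) [AddCommGroup M] [Module R M] :
    QuotSMulTop (algebraMap R S x) (N ⊗[R] M) ≃ₗ[S] N ⊗[R] (QuotSMulTop x M) :=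
  let F : N ⊗[R] M →ₗ[S] N ⊗[R] (QuotSMulTop x M) :=
    TensorProduct.AlgebraTensorModule.lTensor S N (Submodule.mkQ (x • (⊤ : Submodule R M)))
  have hsurj : Function.Surjective F := by
    change Function.Surjective ((Submodule.mkQ (x • (⊤ : Submodule R M))).lTensor N)
    exact LinearMap.lTensor_surjective N (Submodule.mkQ_surjective _)
  have hex0 : Function.Exact (LinearMap.lsmul R M x) (Submodule.mkQ (x • (⊤ : Submodule R M))) := by
    intro m
    rw [Submodule.mkQ_apply, Submodule.Quotient.mk_eq_zero,
      Submodule.mem_smul_pointwise_iff_exists]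
    constructor
    · rintro ⟨m₀, -, h⟩
      exact ⟨m₀, h⟩
    · rintro ⟨m₀, h⟩
      exact ⟨m₀, Submodule.mem_top, h⟩
  have hsm : ∀ z : N ⊗[R] M, (LinearMap.lsmul R M x).lTensor N z = algebraMap R S x • z := by
    intro z
    rw [algebraMap_smul]
    induction z using TensorProduct.induction_on with
    | zero => simp
    | tmul n m => rw [LinearMap.lTensor_tmul, LinearMap.lsmul_apply, TensorProduct.tmul_smul]
    | add a b ha hb => rw [map_add, smul_add, ha, hb]
  have hker : algebraMap R S x • (⊤ : Submodule S (N ⊗[R] M)) = LinearMap.ker F := by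
    ext z
    rw [LinearMap.mem_ker, Submodule.mem_smul_pointwise_iff_exists]
    have hex := lTensor_exact N hex0 (Submodule.mkQ_surjective _) z
    change F z = 0 ↔ _ at hex
    rw [hex]
    constructor
    · rintro ⟨z₀, -, h⟩
      exact ⟨z₀, by rw [hsm, h]⟩
    · rintro ⟨z₀, h⟩
      exact ⟨z₀, Submodule.mem_top, by rw [← hsm, h]⟩
  (Submodule.quotEquivOfEq _ _ hker).trans (F.quotKerEquivOfSurjective hsurj)

end QuotIsos

section FlatQuot

variable {R : Type u} {S : Type u'} [CommRing R] [CommRing S] [IsLocalRing R] [IsLocalRing S]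
  [IsNoetherianRing R] [IsNoetherianRing S] [Algebra R S] [IsLocalHom (algebraMap R S)]
  {N : Type v} [AddCommGroup N] [Module S N] [Module R N] [IsScalarTower R S N]
  [Module.Finite S N] [Module.Flat R N]

/-- If `y` is regular on `N / m N` then `N / y N` is flat over `R`. -/
theorem flat_quotSMulTop_of_isSMulRegular_quotient (y : S)
    (hy : IsSMulRegular (N ⧸ ((IsLocalRing.maximalIdeal R).map (algebraMap R S) • ⊤ :
      Submodule S N)) y) : Module.Flat R (QuotSMulTop y N) :=
  flat_of_exact_of_rTensor_injective (ymap R N y) (quotSMulTopMkR y)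
    (quotSMulTopMkR_surjective y) (exact_ymap_quotSMulTopMkR y)
    (fun X _ _ _ => rTensor_ymap_injective_of_finite y
      (rTensor_ymap_injective_quotient _ y hy) X)

end FlatQuot

section QuotQuot

variable {S : Type u'} [CommRing S] {N : Type v} [AddCommGroup N] [Module S N]

/-- `(N / y N) / J (N / y N) ≃ (N / J N) / y (N / J N)`. -/
noncomputable def quotSMulTopQuotEquiv (y : S) (J : Ideal S) :
    (QuotSMulTop y N ⧸ (J • ⊤ : Submodule S (QuotSMulTop y N))) ≃ₗ[S]
      QuotSMulTop y (N ⧸ (J • ⊤ : Submodule S N)) :=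
  have h1 : (J • ⊤ : Submodule S (QuotSMulTop y N)) =
      (J • ⊤ : Submodule S N).map (y • (⊤ : Submodule S N)).mkQ := by
    rw [Submodule.map_smul'', Submodule.map_top, Submodule.range_mkQ]
  have h2 : (y • ⊤ : Submodule S (N ⧸ (J • ⊤ : Submodule S N))) =
      (y • (⊤ : Submodule S N)).map (J • ⊤ : Submodule S N).mkQ := by
    rw [Submodule.map_pointwise_smul, Submodule.map_top, Submodule.range_mkQ]
  (Submodule.quotEquivOfEq _ _ h1).trans <|
    (Submodule.quotientQuotientEquivQuotientSup (y • (⊤ : Submodule S N)) (J • ⊤)).trans <|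
    (Submodule.quotEquivOfEq _ _ (sup_comm _ _)).trans <|
    (Submodule.quotientQuotientEquivQuotientSup (J • ⊤ : Submodule S N)
      (y • (⊤ : Submodule S N))).symm.trans <|
    (Submodule.quotEquivOfEq _ _ h2.symm)

end QuotQuot

section DepthTensorBase

variable {R : Type u} {S : Type u'} [CommRing R] [CommRing S] [IsLocalRing R] [IsLocalRing S]
  [IsNoetherianRing R] [IsNoetherianRing S] [Algebra R S] [IsLocalHom (algebraMap R S)]
  {M : Type w} [AddCommGroup M] [Module R M] [Module.Finite R M]
  {N : Type v} [AddCommGroup N] [Module S N] [Module R N] [IsScalarTower R S N]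
  [Module.Finite S N] [Module.Flat R N]

omit [IsLocalHom (algebraMap R S)] [Module.Finite R M] [Module.Finite S N] in
/-- Base case: if `m_R ∈ Ass M` and `m_S ∈ Ass (N / m_R N)` then `m_S ∈ Ass (N ⊗ M)`. -/
theorem maximalIdeal_mem_associatedPrimes_tensor
    (hM : IsLocalRing.maximalIdeal R ∈ associatedPrimes R M)
    (hN : IsLocalRing.maximalIdeal S ∈ associatedPrimes S
      (N ⧸ ((IsLocalRing.maximalIdeal R).map (algebraMap R S) • ⊤ : Submodule S N))) :
    IsLocalRing.maximalIdeal S ∈ associatedPrimes S (N ⊗[R] M) := by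
  obtain ⟨-, x, hx⟩ := isAssociatedPrime_iff.mp hM
  obtain ⟨hprime, nbar, hn⟩ := isAssociatedPrime_iff.mp hN
  obtain ⟨n, rfl⟩ := Submodule.Quotient.mk_surjective _ nbar
  have hxm : ∀ a ∈ IsLocalRing.maximalIdeal R, a • x = 0 := by
    intro a ha
    rw [hx, Submodule.mem_colon_singleton, Submodule.mem_bot] at ha
    exact ha
  -- `n' ↦ n' ⊗ x` kills `m N`
  have hkill : ∀ n' ∈ (IsLocalRing.maximalIdeal R • ⊤ : Submodule R N),
      n' ⊗ₜ[R] x = (0 : N ⊗[R] M) := by
    intro n' hn'
    refine Submodule.smul_induction_on hn' ?_ ?_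
    · intro a ha n'' _
      rw [TensorProduct.smul_tmul, hxm a ha, TensorProduct.tmul_zero]
    · intro a b ha hb
      rw [TensorProduct.add_tmul, ha, hb, add_zero]
  -- `n ∉ m N`
  have hnot : n ∉ (IsLocalRing.maximalIdeal R • ⊤ : Submodule R N) := by
    intro hmem
    rw [← mem_map_smul_top_iff (S := S), ← Submodule.Quotient.mk_eq_zero] at hmem
    have : (1 : S) ∈ IsLocalRing.maximalIdeal S := by
      rw [hn, Submodule.mem_colon_singleton, hmem, smul_zero]
      exact Submodule.zero_mem _
    exact (Ideal.ne_top_iff_one _).mp hprime.ne_top this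
  -- the embedding `R/m → M`
  have hker : IsLocalRing.maximalIdeal R ≤ LinearMap.ker (LinearMap.toSpanSingleton R M x) := by
    intro a ha
    rw [LinearMap.mem_ker, LinearMap.toSpanSingleton_apply]
    exact hxm a ha
  let ι : (R ⧸ IsLocalRing.maximalIdeal R) →ₗ[R] M :=
    Submodule.liftQ _ (LinearMap.toSpanSingleton R M x) hker
  have hι : Function.Injective ι := by
    rw [← LinearMap.ker_eq_bot, Submodule.ker_liftQ, eq_bot_iff]
    rintro _ ⟨a, ha, rfl⟩
    rw [Submodule.mem_bot, Submodule.mkQ_apply, Submodule.Quotient.mk_eq_zero, hx,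
      Submodule.mem_colon_singleton, Submodule.mem_bot]
    rw [SetLike.mem_coe, LinearMap.mem_ker, LinearMap.toSpanSingleton_apply] at ha
    exact ha
  have hne : n ⊗ₜ[R] x ≠ (0 : N ⊗[R] M) := by
    intro h0
    have h1 : ι.lTensor N (n ⊗ₜ[R] (1 : R ⧸ IsLocalRing.maximalIdeal R)) = 0 := by
      rw [LinearMap.lTensor_tmul]
      have : ι 1 = x := by
        change ι (Submodule.Quotient.mk 1) = x
        rw [Submodule.liftQ_apply, LinearMap.toSpanSingleton_apply, one_smul]
      rw [this, h0]
    have h2 := Module.Flat.lTensor_preserves_injective_linearMap (M := N) ι hι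
      (h1.trans (map_zero _).symm)
    rw [← tensorQuotEquivQuotSMul_symm_mk, LinearEquiv.map_eq_zero_iff,
      Submodule.Quotient.mk_eq_zero] at h2
    exact hnot h2
  rw [AssociatedPrimes.mem_iff, isAssociatedPrime_iff]
  refine ⟨hprime, n ⊗ₜ[R] x, le_antisymm ?_ ?_⟩
  · intro b hb
    rw [Submodule.mem_colon_singleton, Submodule.mem_bot, TensorProduct.smul_tmul']
    apply hkill
    rw [← mem_map_smul_top_iff (S := S), ← Submodule.Quotient.mk_eq_zero,
      Submodule.Quotient.mk_smul]
    rw [hn, Submodule.mem_colon_singleton, Submodule.mem_bot] at hb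
    exact hb
  · apply IsLocalRing.le_maximalIdeal
    intro htop
    have : (1 : S) ∈ (⊥ : Submodule S (N ⊗[R] M)).colon {n ⊗ₜ[R] x} := by
      rw [htop]; exact Submodule.mem_top
    rw [Submodule.mem_colon_singleton, Submodule.mem_bot, one_smul] at this
    exact hne this

end DepthTensorBase

section DepthTensor

theorem nontrivial_of_depth_eq_natCast {R : Type u} [CommRing R] [IsLocalRing R] {M : Type v}
    [AddCommGroup M] [Module R M] {n : ℕ} (h : LocCoh.depth R M = n) : Nontrivial M := by
  by_contra hns
  rw [not_nontrivial_iff_subsingleton] at hns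
  rw [depth_eq_top_of_subsingleton] at h
  exact ENat.top_ne_natCast n h

variable {R S : Type u} [CommRing R] [CommRing S] [IsLocalRing R] [IsLocalRing S]
  [IsNoetherianRing R] [IsNoetherianRing S] [Algebra R S] [IsLocalHom (algebraMap R S)]

theorem depth_tensor_of_flat_aux (r s : ℕ) :
    ∀ (M N : Type u) [AddCommGroup M] [Module R M] [Module.Finite R M] [AddCommGroup N]
      [Module S N] [Module R N] [IsScalarTower R S N] [Module.Finite S N] [Module.Flat R N],
      LocCoh.depth R M = r →
      LocCoh.depth S (N ⧸ ((IsLocalRing.maximalIdeal R).map (algebraMap R S) • ⊤ :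
        Submodule S N)) = s →
      LocCoh.depth S (N ⊗[R] M) = ((r + s : ℕ) : ℕ∞) := by
  induction r with
  | zero =>
    induction s with
    | zero =>
      intro M N _ _ _ _ _ _ _ _ _ hM hN
      have : Module.Finite S (N ⊗[R] M) := finite_tensorProduct_of_finite M
      rw [Nat.cast_zero] at hM hN
      rw [depth_eq_zero_iff] at hM hN
      rw [Nat.add_zero, Nat.cast_zero, depth_eq_zero_iff]
      exact maximalIdeal_mem_associatedPrimes_tensor hM hN
    | succ s ihs =>
      intro M N _ _ _ _ _ _ _ _ _ hM hN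
      have : Module.Finite S (N ⊗[R] M) := finite_tensorProduct_of_finite M
      have hF0 := nontrivial_of_depth_eq_natCast hN
      have hF0top := maximalIdeal_smul_top_ne_top (R := S)
        (M := N ⧸ ((IsLocalRing.maximalIdeal R).map (algebraMap R S) • ⊤ : Submodule S N))
      have h1 : 1 ≤ LocCoh.depth S (N ⧸ ((IsLocalRing.maximalIdeal R).map (algebraMap R S) • ⊤ :
          Submodule S N)) := by
        rw [hN]; exact_mod_cast Nat.succ_le_succ (Nat.zero_le s)
      obtain ⟨y, hy, hyreg⟩ := (one_le_idealDepth_iff hF0top).mp h1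
      have hflat := flat_quotSMulTop_of_isSMulRegular_quotient (R := R) y hyreg
      -- depth of the fibre of `N / y N`
      have hd1 := idealDepth_quotSMulTop_add_one (IsLocalRing.maximalIdeal S) _ hF0top y hy hyreg
      have hd2 : LocCoh.depth S (QuotSMulTop y N ⧸
          ((IsLocalRing.maximalIdeal R).map (algebraMap R S) • ⊤ :
            Submodule S (QuotSMulTop y N))) = s := by
        unfold LocCoh.depth at hN ⊢
        rw [idealDepth_congr (quotSMulTopQuotEquiv y _)]
        rw [hN, Nat.cast_succ] at hd1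
        exact ENat.add_left_injective_of_ne_top ENat.one_ne_top hd1
      have hd3 := ihs M (QuotSMulTop y N) hM hd2
      rw [Nat.zero_add] at hd3
      have hd4 : LocCoh.depth S (QuotSMulTop y (N ⊗[R] M)) = s := by
        unfold LocCoh.depth at hd3 ⊢
        rw [idealDepth_congr (quotSMulTopTensorEquiv y M)]
        exact hd3
      have hnt : Nontrivial (QuotSMulTop y (N ⊗[R] M)) := nontrivial_of_depth_eq_natCast hd4
      have hnt' : Nontrivial (N ⊗[R] M) :=
        (Submodule.mkQ_surjective (y • (⊤ : Submodule S (N ⊗[R] M)))).nontrivial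
      have hyreg' : IsSMulRegular (N ⊗[R] M) y :=
        isSMulRegular_tensor_of_isSMulRegular_quotient y hyreg M
      have hd5 := idealDepth_quotSMulTop_add_one (IsLocalRing.maximalIdeal S) (N ⊗[R] M)
        maximalIdeal_smul_top_ne_top y hy hyreg'
      unfold LocCoh.depth at hd4 ⊢
      rw [← hd5, hd4, Nat.zero_add, Nat.cast_succ]
  | succ r ihr =>
    intro M N _ _ _ _ _ _ _ _ _ hM hN
    have : Module.Finite S (N ⊗[R] M) := finite_tensorProduct_of_finite M
    have hMnt := nontrivial_of_depth_eq_natCast hM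
    have hMtop := maximalIdeal_smul_top_ne_top (R := R) (M := M)
    have h1 : 1 ≤ LocCoh.depth R M := by
      rw [hM]; exact_mod_cast Nat.succ_le_succ (Nat.zero_le r)
    obtain ⟨x, hx, hxreg⟩ := (one_le_idealDepth_iff hMtop).mp h1
    have hd1 := idealDepth_quotSMulTop_add_one (IsLocalRing.maximalIdeal R) M hMtop x hx hxreg
    have hd2 : LocCoh.depth R (QuotSMulTop x M) = r := by
      unfold LocCoh.depth at hM ⊢
      rw [hM, Nat.cast_succ] at hd1
      exact ENat.add_left_injective_of_ne_top ENat.one_ne_top hd1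
    have hd3 := ihr (QuotSMulTop x M) N hd2 hN
    have hd4 : LocCoh.depth S (QuotSMulTop (algebraMap R S x) (N ⊗[R] M)) = ((r + s : ℕ) : ℕ∞) := by
      unfold LocCoh.depth at hd3 ⊢
      rw [idealDepth_congr (quotSMulTopTensorEquiv' x M)]
      exact hd3
    have hnt : Nontrivial (QuotSMulTop (algebraMap R S x) (N ⊗[R] M)) :=
      nontrivial_of_depth_eq_natCast hd4
    have hnt' : Nontrivial (N ⊗[R] M) :=
      (Submodule.mkQ_surjective (algebraMap R S x • (⊤ : Submodule S (N ⊗[R] M)))).nontrivial
    have hx' : algebraMap R S x ∈ IsLocalRing.maximalIdeal S :=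
      IsLocalRing.map_maximalIdeal_le (algebraMap R S) (Ideal.mem_map_of_mem _ hx)
    have hxreg' : IsSMulRegular (N ⊗[R] M) (algebraMap R S x) := by
      have hinj := Module.Flat.lTensor_preserves_injective_linearMap (M := N)
        (LinearMap.lsmul R M x) hxreg
      intro a b hab
      apply hinj
      have hsm : ∀ z : N ⊗[R] M, (LinearMap.lsmul R M x).lTensor N z = algebraMap R S x • z := by
        intro z
        rw [algebraMap_smul]
        induction z using TensorProduct.induction_on with
        | zero => simp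
        | tmul n m => rw [LinearMap.lTensor_tmul, LinearMap.lsmul_apply, TensorProduct.tmul_smul]
        | add a b ha hb => rw [map_add, smul_add, ha, hb]
      rw [hsm, hsm]
      exact hab
    have hd5 := idealDepth_quotSMulTop_add_one (IsLocalRing.maximalIdeal S) (N ⊗[R] M)
      maximalIdeal_smul_top_ne_top _ hx' hxreg'
    unfold LocCoh.depth at hd4 ⊢
    rw [← hd5, hd4]
    push_cast
    ring

/-- Depth of `N ⊗ M` for a flat local homomorphism (Matsumura 23.3, Bruns–Herzog 1.2.16). -/
theorem depth_tensor_of_flat (M N : Type u) [AddCommGroup M] [Module R M] [Module.Finite R M]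
    [AddCommGroup N] [Module S N] [Module R N] [IsScalarTower R S N] [Module.Finite S N]
    [Module.Flat R N] :
    LocCoh.depth S (N ⊗[R] M) =
      LocCoh.depth R M + LocCoh.depth S
        (N ⧸ ((IsLocalRing.maximalIdeal R).map (algebraMap R S) • ⊤ : Submodule S N)) := by
  by_cases hN : Subsingleton N
  · have h1 : Subsingleton (N ⊗[R] M) := inferInstance
    have h2 : Subsingleton (N ⧸ ((IsLocalRing.maximalIdeal R).map (algebraMap R S) • ⊤ :
        Submodule S N)) := inferInstance
    rw [depth_eq_top_of_subsingleton, depth_eq_top_of_subsingleton (M := N ⧸ _), add_top]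
  by_cases hM : Subsingleton M
  · have h1 : Subsingleton (N ⊗[R] M) := inferInstance
    rw [depth_eq_top_of_subsingleton, depth_eq_top_of_subsingleton (M := M), top_add]
  rw [not_subsingleton_iff_nontrivial] at hN hM
  have hMtop := maximalIdeal_smul_top_ne_top (R := R) (M := M)
  -- the fibre is nontrivial
  have hF : Nontrivial (N ⧸ ((IsLocalRing.maximalIdeal R).map (algebraMap R S) • ⊤ :
      Submodule S N)) := by
    rw [Submodule.Quotient.nontrivial_iff]
    exact smul_top_ne_top_of_le_maximalIdeal
      (IsLocalRing.map_maximalIdeal_le (algebraMap R S))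
  have hFtop := maximalIdeal_smul_top_ne_top (R := S)
    (M := N ⧸ ((IsLocalRing.maximalIdeal R).map (algebraMap R S) • ⊤ : Submodule S N))
  obtain ⟨r, hr⟩ := ENat.ne_top_iff_exists.mp (idealDepth_ne_top hMtop)
  obtain ⟨s, hs⟩ := ENat.ne_top_iff_exists.mp (idealDepth_ne_top hFtop)
  have := depth_tensor_of_flat_aux r s M N hr.symm hs.symm
  rw [this]
  unfold LocCoh.depth
  rw [← hr, ← hs, Nat.cast_add]

end DepthTensor

end Groth.Agent.Lib.Helper28
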