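import Mathlib
import Groth.Agent.Lib.Helper28DepthFlat

/-!
# Local criterion of flatness, part 2 (helper5): injectivity and flat cokernel

For a local homomorphism `R → S` with `S` Noetherian, a finite `S`-module `N`, a flat `R`-module
`M` and an `R`-linear map `u : N → M` which is injective modulo the maximal ideal of `R`,
the map `u` is injective with `R`-flat cokernel.
-/

set_option autoImplicit false
universe u u' v w x
open TensorProduct
open scoped Pointwise

namespace Groth.Agent.Lib.Helper5

section General

variable {R : Type u} [CommRing R] {N : Type v} {M : Type w} [AddCommGroup N] [Module R N]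
  [AddCommGroup M] [Module R M] (u : N →ₗ[R] M)

/-- Four lemma for `u ⊗ -` along a short exact sequence, the target `M` being flat. -/
theorem lTensor_injective_of_exact [Module.Flat R M] {L' L L'' : Type*}
    [AddCommGroup L'] [Module R L'] [AddCommGroup L] [Module R L] [AddCommGroup L'']
    [Module R L''] (f : L' →ₗ[R] L) (g : L →ₗ[R] L'') (hf : Function.Injective f)
    (hg : Function.Surjective g) (hfg : Function.Exact f g)
    (h1 : Function.Injective (u.lTensor L')) (h3 : Function.Injective (u.lTensor L'')) :
    Function.Injective (u.lTensor L) := by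
  rw [injective_iff_map_eq_zero]
  intro z hz
  have hcomm3 : u.lTensor L'' (g.rTensor N z) = g.rTensor M (u.lTensor L z) := by
    rw [← LinearMap.comp_apply, ← LinearMap.comp_apply, LinearMap.lTensor_comp_rTensor,
      LinearMap.rTensor_comp_lTensor]
  have hz3 : g.rTensor N z = 0 := by
    apply h3
    rw [hcomm3, hz, map_zero, map_zero]
  obtain ⟨z', rfl⟩ := (rTensor_exact N hfg hg z).mp hz3
  have hcomm1 : f.rTensor M (u.lTensor L' z') = u.lTensor L (f.rTensor N z') := by
    rw [← LinearMap.comp_apply, ← LinearMap.comp_apply, LinearMap.lTensor_comp_rTensor,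
      LinearMap.rTensor_comp_lTensor]
  have hz1 : u.lTensor L' z' = 0 := by
    apply Module.Flat.rTensor_preserves_injective_linearMap (M := M) f hf
    rw [hcomm1, hz, map_zero]
  have : z' = 0 := h1 (by rw [hz1, map_zero])
  rw [this, map_zero]

/-- If `u ⊗_R A` is injective and `V` is a flat `A`-module then `u ⊗_R V` is injective. -/
theorem lTensor_injective_of_flat_baseChange (A : Type u') [CommRing A] [Algebra R A]
    (V : Type x) [AddCommGroup V] [Module A V] [Module R V] [IsScalarTower R A V]
    [Module.Flat A V] (h : Function.Injective (u.lTensor A)) :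
    Function.Injective (u.lTensor V) := by
  have h1 : Function.Injective (AlgebraTensorModule.lTensor A A u) := by
    rw [AlgebraTensorModule.coe_lTensor]
    exact h
  have h2 : Function.Injective
      (AlgebraTensorModule.lTensor A V (AlgebraTensorModule.lTensor A A u)) := by
    rw [AlgebraTensorModule.coe_lTensor]
    exact Module.Flat.lTensor_preserves_injective_linearMap (M := V) _ h1
  have hc := AlgebraTensorModule.lTensor_comp_cancelBaseChange (R := R) (A := A) (B := A)
    (M := V) u
  have h3 : Function.Injective (AlgebraTensorModule.lTensor A V u ∘ₗ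
      (AlgebraTensorModule.cancelBaseChange R A A V N).toLinearMap) := by
    rw [hc]
    exact (AlgebraTensorModule.cancelBaseChange R A A V M).injective.comp h2
  intro a b hab
  obtain ⟨a', rfl⟩ := (AlgebraTensorModule.cancelBaseChange R A A V N).surjective a
  obtain ⟨b', rfl⟩ := (AlgebraTensorModule.cancelBaseChange R A A V N).surjective b
  have : a' = b' := h3 hab
  rw [this]

/-- `u ⊗ R/J` is injective iff `u` reflects membership in `J • ⊤`. -/
theorem lTensor_quotient_injective_iff (J : Ideal R) :
    Function.Injective (u.lTensor (R ⧸ J)) ↔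
      ∀ n : N, u n ∈ (J • ⊤ : Submodule R M) → n ∈ (J • ⊤ : Submodule R N) := by
  constructor
  · intro h n hn
    rw [← LinearMap.ker_tensorProductMk, LinearMap.mem_ker] at hn ⊢
    apply h
    rw [map_zero]
    exact hn
  · intro h
    rw [injective_iff_map_eq_zero]
    intro z hz
    obtain ⟨n, rfl⟩ := TensorProduct.mk_surjective R N (R ⧸ J) Ideal.Quotient.mk_surjective z
    have h1 : u n ∈ (J • ⊤ : Submodule R M) := by
      rw [← LinearMap.ker_tensorProductMk, LinearMap.mem_ker]
      exact hz
    have h2 := h n h1
    rw [← LinearMap.ker_tensorProductMk, LinearMap.mem_ker] at h2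
    exact h2

/-- If `M` is flat, `N →u M →π C → 0` is exact and `u ⊗ R/I` is injective for every ideal `I`,
then `C` is flat. -/
theorem flat_of_exact_of_lTensor_quotient_injective [Module.Flat R M] {C : Type x}
    [AddCommGroup C] [Module R C] (π : M →ₗ[R] C) (hπ : Function.Surjective π)
    (hex : Function.Exact u π)
    (h : ∀ I : Ideal R, Function.Injective (u.lTensor (R ⧸ I))) : Module.Flat R C := by
  rw [Module.Flat.iff_rTensor_injective']
  intro I
  rw [injective_iff_map_eq_zero]
  intro w hw
  obtain ⟨w1, rfl⟩ := LinearMap.lTensor_surjective I hπ w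
  have hv : π.lTensor R (I.subtype.rTensor M w1) = 0 := by
    rw [← hw, ← LinearMap.comp_apply, ← LinearMap.comp_apply, LinearMap.lTensor_comp_rTensor,
      LinearMap.rTensor_comp_lTensor]
  obtain ⟨v', hv'⟩ := (lTensor_exact R hex hπ _).mp hv
  have hq : (Submodule.mkQ I).rTensor N v' = 0 := by
    apply h I
    rw [map_zero, ← LinearMap.comp_apply, LinearMap.lTensor_comp_rTensor,
      ← LinearMap.rTensor_comp_lTensor, LinearMap.comp_apply, hv', ← LinearMap.comp_apply,
      ← LinearMap.rTensor_comp]
    have : Submodule.mkQ I ∘ₗ I.subtype = 0 := by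
      ext x
      exact Ideal.Quotient.eq_zero_iff_mem.mpr x.2
    rw [this, LinearMap.rTensor_zero, LinearMap.zero_apply]
  obtain ⟨w2, hw2⟩ := (rTensor_exact N (LinearMap.exact_subtype_mkQ I)
    (Submodule.mkQ_surjective I) v').mp hq
  have hw12 : w1 = u.lTensor I w2 := by
    apply Module.Flat.rTensor_preserves_injective_linearMap (M := M) I.subtype
      I.injective_subtype
    rw [← LinearMap.comp_apply (I.subtype.rTensor M) (u.lTensor I),
      LinearMap.rTensor_comp_lTensor, ← LinearMap.lTensor_comp_rTensor, LinearMap.comp_apply,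
      hw2, hv']
  rw [hw12, ← LinearMap.comp_apply, ← LinearMap.lTensor_comp]
  have : π ∘ₗ u = 0 := hex.linearMap_comp_eq_zero
  rw [this, LinearMap.lTensor_zero, LinearMap.zero_apply]

end General

section Local

variable {R : Type u} [CommRing R] [IsLocalRing R] {N : Type v} {M : Type w} [AddCommGroup N]
  [Module R N] [AddCommGroup M] [Module R M] (u : N →ₗ[R] M)

/-- Dévissage: `u ⊗ Q` is injective for every `Q` killed by a power of the maximal ideal. -/
theorem lTensor_injective_of_pow_smul_top_eq_bot [Module.Flat R M]
    (h : Function.Injective (u.lTensor (R ⧸ IsLocalRing.maximalIdeal R))) (n : ℕ) :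
    ∀ (Q : Type x) [AddCommGroup Q] [Module R Q],
      IsLocalRing.maximalIdeal R ^ n • (⊤ : Submodule R Q) = ⊥ →
        Function.Injective (u.lTensor Q) := by
  induction n with
  | zero =>
    intro Q _ _ hI
    have : Subsingleton Q := by
      rw [← Submodule.subsingleton_iff R, ← subsingleton_iff_bot_eq_top, ← hI, pow_zero,
        Ideal.one_eq_top, Submodule.top_smul]
    intro a b _
    exact Subsingleton.elim a b
  | succ n ih =>
    intro Q _ _ hI
    let _ : Field (R ⧸ IsLocalRing.maximalIdeal R) := Ideal.Quotient.field _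
    apply lTensor_injective_of_exact u
      (IsLocalRing.maximalIdeal R • (⊤ : Submodule R Q)).subtype
      (IsLocalRing.maximalIdeal R • (⊤ : Submodule R Q)).mkQ
      (Submodule.injective_subtype _) (Submodule.mkQ_surjective _)
      (LinearMap.exact_subtype_mkQ _)
    · apply ih
      apply Submodule.map_injective_of_injective
        (IsLocalRing.maximalIdeal R • (⊤ : Submodule R Q)).injective_subtype
      rw [Submodule.map_smul'', Submodule.map_top, Submodule.range_subtype, Submodule.map_bot,
        ← mul_smul, ← pow_succ, hI]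
    · exact lTensor_injective_of_flat_baseChange u (R ⧸ IsLocalRing.maximalIdeal R)
        (Q ⧸ (IsLocalRing.maximalIdeal R • (⊤ : Submodule R Q))) h

end Local

section Main

variable {R : Type u} (S : Type u') [CommRing R] [CommRing S] [IsLocalRing R] [IsLocalRing S]
  [IsNoetherianRing S] [Algebra R S] [IsLocalHom (algebraMap R S)]
  {N : Type v} {M : Type w} [AddCommGroup M] [Module R M] [Module.Flat R M]
  [AddCommGroup N] [Module R N] [Module S N] [IsScalarTower R S N] [Module.Finite S N]

include S

/-- Key step: `u ⊗ R/I` is injective for every ideal `I` of `R`. -/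
theorem lTensor_quotient_injective_of_residue (u : N →ₗ[R] M)
    (h : Function.Injective (u.lTensor (R ⧸ IsLocalRing.maximalIdeal R))) (I : Ideal R) :
    Function.Injective (u.lTensor (R ⧸ I)) := by
  rw [lTensor_quotient_injective_iff]
  intro n hn
  -- `n ∈ (I ⊔ m^k) N` for all `k`
  have hk : ∀ k : ℕ, n ∈ ((I ⊔ IsLocalRing.maximalIdeal R ^ k) • ⊤ : Submodule R N) := by
    intro k
    have hinj : Function.Injective
        (u.lTensor (R ⧸ (I ⊔ IsLocalRing.maximalIdeal R ^ k))) := by
      apply lTensor_injective_of_pow_smul_top_eq_bot u h k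
      rw [eq_bot_iff]
      refine Submodule.smul_le.mpr ?_
      intro a ha y _
      obtain ⟨y, rfl⟩ := Submodule.Quotient.mk_surjective _ y
      rw [← Submodule.Quotient.mk_smul, Submodule.mem_bot, Submodule.Quotient.mk_eq_zero,
        smul_eq_mul]
      exact Submodule.mem_sup_right (Ideal.mul_mem_right _ _ ha)
    rw [lTensor_quotient_injective_iff] at hinj
    apply hinj
    exact Submodule.smul_mono_left le_sup_left hn
  -- pass to `S`-submodules
  set IS : Ideal S := I.map (algebraMap R S) with hIS
  set mS : Ideal S := (IsLocalRing.maximalIdeal R).map (algebraMap R S) with hmS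
  have hmS_ne : mS ≠ ⊤ := by
    intro htop
    have := IsLocalRing.map_maximalIdeal_le (algebraMap R S)
    rw [← hmS, htop, top_le_iff] at this
    exact Ideal.IsPrime.ne_top' this
  have hK := Ideal.iInf_pow_smul_eq_bot_of_isLocalRing mS
    (M := N ⧸ (IS • ⊤ : Submodule S N)) hmS_ne
  have hmem : (IS • ⊤ : Submodule S N).mkQ n ∈
      (⨅ i : ℕ, mS ^ i • ⊤ : Submodule S (N ⧸ (IS • ⊤ : Submodule S N))) := by
    rw [Submodule.mem_iInf]
    intro k
    have h1 := (Groth.Agent.Lib.Helper28.mem_map_smul_top_iff (S := S)
      (I ⊔ IsLocalRing.maximalIdeal R ^ k) n).mpr (hk k)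
    rw [Ideal.map_sup, Ideal.map_pow, Submodule.sup_smul, Submodule.mem_sup] at h1
    obtain ⟨a, ha, b, hb, hab⟩ := h1
    rw [← hab, map_add]
    have ha0 : (IS • ⊤ : Submodule S N).mkQ a = 0 := by
      rw [Submodule.mkQ_apply, Submodule.Quotient.mk_eq_zero]
      exact ha
    rw [ha0, zero_add]
    have h2 : (mS ^ k • ⊤ : Submodule S (N ⧸ (IS • ⊤ : Submodule S N))) =
        (mS ^ k • ⊤ : Submodule S N).map (IS • ⊤ : Submodule S N).mkQ := by
      rw [Submodule.map_smul'', Submodule.map_top, Submodule.range_mkQ]
    rw [h2]
    exact Submodule.mem_map_of_mem hb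
  rw [hK, Submodule.mem_bot, Submodule.mkQ_apply, Submodule.Quotient.mk_eq_zero] at hmem
  exact (Groth.Agent.Lib.Helper28.mem_map_smul_top_iff (S := S) I n).mp hmem

/-- Stacks 00ME: `u` is injective with flat cokernel. -/
theorem injective_and_flat_of_lTensor_residue_injective (u : N →ₗ[R] M)
    (h : Function.Injective (u.lTensor (R ⧸ IsLocalRing.maximalIdeal R))) :
    Function.Injective u ∧ Module.Flat R (M ⧸ LinearMap.range u) := by
  have hall := lTensor_quotient_injective_of_residue S u h
  constructor
  · have h0 := (lTensor_quotient_injective_iff u ⊥).mp (hall ⊥)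
    rw [injective_iff_map_eq_zero]
    intro n hn
    have h1 : n ∈ ((⊥ : Ideal R) • ⊤ : Submodule R N) := by
      apply h0
      rw [hn]
      exact Submodule.zero_mem _
    rw [Submodule.bot_smul, Submodule.mem_bot] at h1
    exact h1
  · exact flat_of_exact_of_lTensor_quotient_injective u (LinearMap.range u).mkQ
      (Submodule.mkQ_surjective _) (LinearMap.exact_map_mkQ_range u) hall

end Main

end Groth.Agent.Lib.Helper5
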