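import Mathlib
import Groth.Agent.Lib.Helper5LocalFlat2

/-!
# Injectivity of endomorphisms of flat modules over an Artinian local ring (helper5)

For a flat module `M` over a local ring `A` with nilpotent maximal ideal and a proper ideal `I`,
an endomorphism of `M` is injective iff it is injective modulo `I`; its cokernel is then flat.
-/

set_option autoImplicit false
universe u v w
open scoped TensorProduct Pointwise

namespace Groth.Agent.Lib.Helper5

section Colon

variable {A : Type u} [CommRing A] {M : Type v} [AddCommGroup M] [Module A M]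

/-- For a flat module `M`: if `s • x ∈ I M` then `x ∈ (I : s) M`. -/
theorem mem_smul_top_of_smul_mem_smul_top [Module.Flat A M] (I J : Ideal A) (s : A)
    (hJ : ∀ a, s * a ∈ I → a ∈ J) (x : M) (h : s • x ∈ (I • ⊤ : Submodule A M)) :
    x ∈ (J • ⊤ : Submodule A M) := by
  obtain ⟨J₀, hJ₀⟩ : ∃ J₀ : Ideal A, ∀ a, a ∈ J₀ ↔ s * a ∈ I :=
    ⟨Submodule.comap (LinearMap.mulLeft A s) I, fun a => Iff.rfl⟩
  have hle : J₀ ≤ Submodule.comap (LinearMap.mulLeft A s) I := fun a ha => (hJ₀ a).mp ha
  obtain ⟨φ, hφ⟩ : ∃ φ : (A ⧸ J₀) →ₗ[A] (A ⧸ I), ∀ a : A,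
      φ (Submodule.Quotient.mk a) = Submodule.Quotient.mk (s * a) :=
    ⟨Submodule.mapQ J₀ I (LinearMap.mulLeft A s) hle, fun a => rfl⟩
  have hφinj : Function.Injective φ := by
    rw [injective_iff_map_eq_zero]
    intro y hy
    obtain ⟨a, rfl⟩ := Submodule.Quotient.mk_surjective _ y
    rw [hφ, Submodule.Quotient.mk_eq_zero] at hy
    rw [Submodule.Quotient.mk_eq_zero, hJ₀]
    exact hy
  have hinj : Function.Injective (φ.rTensor M) :=
    Module.Flat.rTensor_preserves_injective_linearMap φ hφinj
  have h0 : (1 : A ⧸ J₀) ⊗ₜ[A] x = 0 := by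
    apply hinj
    rw [map_zero, LinearMap.rTensor_tmul]
    have h1 : φ (1 : A ⧸ J₀) = s • (1 : A ⧸ I) := by
      have := hφ 1
      rw [mul_one] at this
      rw [show (1 : A ⧸ J₀) = Submodule.Quotient.mk 1 from rfl, this]
      rw [show (1 : A ⧸ I) = Submodule.Quotient.mk 1 from rfl, ← Submodule.Quotient.mk_smul,
        smul_eq_mul, mul_one]
    rw [h1, TensorProduct.smul_tmul]
    have h2 : s • x ∈ LinearMap.ker (TensorProduct.mk A (A ⧸ I) M 1) := by
      rw [LinearMap.ker_tensorProductMk]
      exact h
    exact h2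
  have h3 : x ∈ LinearMap.ker (TensorProduct.mk A (A ⧸ J₀) M 1) := h0
  rw [LinearMap.ker_tensorProductMk] at h3
  have hJle : J₀ ≤ J := fun a ha => hJ a ((hJ₀ a).mp ha)
  exact Submodule.smul_mono_left hJle h3

end Colon

section Local

variable {A : Type u} [CommRing A] [IsLocalRing A] {M : Type v} [AddCommGroup M] [Module A M]

/-- A proper ideal in a local ring with nilpotent maximal ideal has a "socle element": some
`s ∉ I` with `𝔪 s ⊆ I`. -/
theorem exists_notMem_maximalIdeal_mul_mem (n : ℕ) (hn : IsLocalRing.maximalIdeal A ^ n = ⊥)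
    (I : Ideal A) (hI : I ≠ ⊤) :
    ∃ s : A, s ∉ I ∧ ∀ a ∈ IsLocalRing.maximalIdeal A, s * a ∈ I := by
  classical
  have hex : ∃ j, IsLocalRing.maximalIdeal A ^ j ≤ I := ⟨n, by rw [hn]; exact bot_le⟩
  have hmin : ∀ {j : ℕ}, j < Nat.find hex → ¬ IsLocalRing.maximalIdeal A ^ j ≤ I :=
    fun hj => Nat.find_min hex hj
  have hspec := Nat.find_spec hex
  cases hj : Nat.find hex with
  | zero =>
    rw [hj, pow_zero, Ideal.one_eq_top, top_le_iff] at hspec
    exact absurd hspec hI
  | succ j =>
    have hnot : ¬ IsLocalRing.maximalIdeal A ^ j ≤ I := hmin (by omega)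
    obtain ⟨s, hs, hsI⟩ := SetLike.not_le_iff_exists.mp hnot
    refine ⟨s, hsI, fun a ha => ?_⟩
    apply hspec
    rw [hj, pow_succ]
    exact Ideal.mul_mem_mul hs ha

/-- Socle argument: an endomorphism of a flat module which reflects membership in `I M` for a
proper ideal `I` reflects membership in `𝔪 M`. -/
theorem mem_maximalIdeal_smul_top_of_forall_mem_smul_top [Module.Flat A M] (n : ℕ)
    (hn : IsLocalRing.maximalIdeal A ^ n = ⊥) (I : Ideal A) (hI : I ≠ ⊤) (u : M →ₗ[A] M)
    (h : ∀ x, u x ∈ (I • ⊤ : Submodule A M) → x ∈ (I • ⊤ : Submodule A M)) (x : M)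
    (hx : u x ∈ (IsLocalRing.maximalIdeal A • ⊤ : Submodule A M)) :
    x ∈ (IsLocalRing.maximalIdeal A • ⊤ : Submodule A M) := by
  obtain ⟨s, hsI, hs⟩ := exists_notMem_maximalIdeal_mul_mem n hn I hI
  have h1 : ∀ y ∈ (IsLocalRing.maximalIdeal A • ⊤ : Submodule A M),
      s • y ∈ (I • ⊤ : Submodule A M) := by
    intro y hy
    refine Submodule.smul_induction_on hy ?_ ?_
    · intro a ha z _
      rw [← mul_smul]
      exact Submodule.smul_mem_smul (hs a ha) Submodule.mem_top
    · intro y z hy hz
      rw [smul_add]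
      exact Submodule.add_mem _ hy hz
  have h2 : s • x ∈ (I • ⊤ : Submodule A M) := by
    apply h
    rw [map_smul]
    exact h1 _ hx
  apply mem_smul_top_of_smul_mem_smul_top I _ s _ x h2
  intro a ha
  by_contra hmem
  have hunit : IsUnit a := by
    by_contra hnu
    exact hmem ((IsLocalRing.mem_maximalIdeal a).mpr hnu)
  apply hsI
  have := I.mul_mem_right (↑hunit.unit⁻¹ : A) ha
  rwa [mul_assoc, IsUnit.mul_val_inv, mul_one] at this

/-- An endomorphism of a flat module over a local ring with nilpotent maximal ideal is injective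
modulo a proper ideal iff it is injective modulo the maximal ideal. -/
theorem lTensor_residue_injective_iff_lTensor_quotient_injective [Module.Flat A M] (n : ℕ)
    (hn : IsLocalRing.maximalIdeal A ^ n = ⊥) (I : Ideal A) (hI : I ≠ ⊤) (u : M →ₗ[A] M) :
    Function.Injective (u.lTensor (A ⧸ IsLocalRing.maximalIdeal A)) ↔
      Function.Injective (u.lTensor (A ⧸ I)) := by
  constructor
  · intro h
    apply lTensor_injective_of_pow_smul_top_eq_bot u h n
    rw [hn, Submodule.bot_smul]
  · intro h
    rw [lTensor_quotient_injective_iff] at h ⊢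
    exact mem_maximalIdeal_smul_top_of_forall_mem_smul_top n hn I hI u h

omit [IsLocalRing A] in
/-- `u ⊗ A/⊥` is injective iff `u` is. -/
theorem lTensor_quotient_bot_injective_iff (u : M →ₗ[A] M) :
    Function.Injective (u.lTensor (A ⧸ (⊥ : Ideal A))) ↔ Function.Injective u := by
  rw [lTensor_quotient_injective_iff]
  constructor
  · intro h0
    rw [injective_iff_map_eq_zero]
    intro x hx
    have h1 : x ∈ ((⊥ : Ideal A) • ⊤ : Submodule A M) := by
      apply h0
      rw [hx]
      exact Submodule.zero_mem _
    rw [Submodule.bot_smul, Submodule.mem_bot] at h1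
    exact h1
  · intro hu x hx
    rw [Submodule.bot_smul, Submodule.mem_bot] at hx ⊢
    exact hu (hx.trans (map_zero u).symm)

/-- An endomorphism of a flat module over a local ring with nilpotent maximal ideal is injective
iff it is injective modulo a given proper ideal. -/
theorem injective_iff_lTensor_quotient_injective [Module.Flat A M] (n : ℕ)
    (hn : IsLocalRing.maximalIdeal A ^ n = ⊥) (I : Ideal A) (hI : I ≠ ⊤) (u : M →ₗ[A] M) :
    Function.Injective u ↔ Function.Injective (u.lTensor (A ⧸ I)) := by
  have hbot : (⊥ : Ideal A) ≠ ⊤ := bot_ne_top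
  rw [← lTensor_quotient_bot_injective_iff,
    ← lTensor_residue_injective_iff_lTensor_quotient_injective n hn ⊥ hbot u,
    lTensor_residue_injective_iff_lTensor_quotient_injective n hn I hI u]

/-- An injective endomorphism of a flat module over a local ring with nilpotent maximal ideal
stays injective modulo every ideal. -/
theorem lTensor_quotient_injective_of_injective [Module.Flat A M] (n : ℕ)
    (hn : IsLocalRing.maximalIdeal A ^ n = ⊥) (u : M →ₗ[A] M) (hu : Function.Injective u)
    (J : Ideal A) : Function.Injective (u.lTensor (A ⧸ J)) := by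
  have hbot : (⊥ : Ideal A) ≠ ⊤ := bot_ne_top
  have h1 : Function.Injective (u.lTensor (A ⧸ IsLocalRing.maximalIdeal A)) := by
    rw [lTensor_residue_injective_iff_lTensor_quotient_injective n hn ⊥ hbot u,
      lTensor_quotient_bot_injective_iff]
    exact hu
  apply lTensor_injective_of_pow_smul_top_eq_bot u h1 n
  rw [hn, Submodule.bot_smul]

/-- The cokernel of an injective endomorphism of a flat module over a local ring with nilpotent
maximal ideal is flat. -/
theorem flat_of_exact_of_injective_endomorphism [Module.Flat A M] (n : ℕ)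
    (hn : IsLocalRing.maximalIdeal A ^ n = ⊥) (u : M →ₗ[A] M) (hu : Function.Injective u)
    {C : Type w} [AddCommGroup C] [Module A C] (π : M →ₗ[A] C) (hπ : Function.Surjective π)
    (hex : Function.Exact u π) : Module.Flat A C :=
  flat_of_exact_of_lTensor_quotient_injective u π hπ hex
    (lTensor_quotient_injective_of_injective n hn u hu)

/-- The cokernel of an injective endomorphism of a flat module over a local ring with nilpotent
maximal ideal is flat. -/
theorem flat_quotient_range_of_injective [Module.Flat A M] (n : ℕ)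
    (hn : IsLocalRing.maximalIdeal A ^ n = ⊥) (u : M →ₗ[A] M) (hu : Function.Injective u) :
    Module.Flat A (M ⧸ LinearMap.range u) :=
  flat_of_exact_of_injective_endomorphism n hn u hu (LinearMap.range u).mkQ
    (Submodule.mkQ_surjective (LinearMap.range u)) (LinearMap.exact_map_mkQ_range u)

end Local

end Groth.Agent.Lib.Helper5
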