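import Mathlib
import Groth.Agent.Lib.Helper22SigmaWitt
import Groth.Agent.Lib.Helper5NilFlat
import Groth.Agent.Lib.Helper5ArtNZD

/-!
# Flatness over the Witt vectors of length two of a perfect field (helper5)

`W₂(k)` is a local ring with maximal ideal `(p)`, `p² = 0` and `Ann(p) = (p)`; a module `M` over
it is flat iff every element killed by `p` is a multiple of `p`.
-/

set_option autoImplicit false
universe u v
open scoped TensorProduct Pointwise

namespace Groth.Agent.Lib.Helper5.W2

open Groth.Agent.Lib.Helper22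

variable (p : ℕ) [Fact p.Prime] (k : Type u) [Field k] [CharP k p] [PerfectRing k p]

local notation "W" => TruncatedWittVector p 2 k

theorem p_sq_eq_zero : ((p : ℕ) : W) * ((p : ℕ) : W) = 0 := by
  have h := SigmaWitt.p_pow_eq_zero p k 1
  rw [pow_two] at h
  exact h

/-- The annihilator of `p` in `W₂(k)` is `(p)`. -/
theorem mem_span_p_of_p_mul_eq_zero (x : W) (hx : ((p : ℕ) : W) * x = 0) :
    x ∈ Ideal.span {((p : ℕ) : W)} := by
  have hker := SigmaWitt.ker_psi p k 1
  have hx0 : SigmaWitt.psi p k 1 x = 0 := by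
    obtain ⟨y, rfl⟩ := WittVector.truncate_surjective p 2 k x
    have h1 : WittVector.truncate (p := p) (R := k) 2 (y * (p : ℕ)) = 0 := by
      rw [map_mul, map_natCast, mul_comm]
      exact hx
    have h2 := (WittVector.mem_ker_truncate 2 _).mp (RingHom.mem_ker.mpr h1) 1 (by omega)
    rw [WittVector.mul_charP_coeff_succ] at h2
    have h3 : y.coeff 0 = 0 := pow_eq_zero_iff (Fact.out : p.Prime).ne_zero |>.mp h2
    have h4 := SigmaWitt.psi_truncate p k 1 y
    rw [h3] at h4
    exact h4
  have : x ∈ RingHom.ker (SigmaWitt.psi p k 1) := RingHom.mem_ker.mpr hx0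
  rw [hker] at this
  exact this

theorem isLocalRing : IsLocalRing W :=
  inferInstanceAs (IsLocalRing (TruncatedWittVector p (1 + 1) k))

theorem maximalIdeal_eq :
    @IsLocalRing.maximalIdeal W _ (isLocalRing p k) = Ideal.span {((p : ℕ) : W)} :=
  SigmaWitt.maximalIdeal_eq p k 1

theorem isMaximal_span_p : (Ideal.span {((p : ℕ) : W)}).IsMaximal := by
  have := isLocalRing p k
  rw [← maximalIdeal_eq]
  exact IsLocalRing.maximalIdeal.isMaximal W

theorem isNilpotent_span_p : IsNilpotent (Ideal.span {((p : ℕ) : W)}) := by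
  refine ⟨2, ?_⟩
  rw [Ideal.span_singleton_pow, pow_two, p_sq_eq_zero, Ideal.zero_eq_bot,
    Ideal.span_singleton_eq_bot]

variable {p k}

/-- A module over `W₂(k)` is flat iff every element killed by `p` is a multiple of `p`. -/
theorem flat_iff (M : Type v) [AddCommGroup M] [Module W M] :
    Module.Flat W M ↔ ∀ m : M, ((p : ℕ) : W) • m = 0 → ∃ m' : M, m = ((p : ℕ) : W) • m' := by
  constructor
  · intro hflat m hm
    have h1 : ((p : ℕ) : W) • m ∈ ((⊥ : Ideal W) • ⊤ : Submodule W M) := by
      rw [hm]
      exact Submodule.zero_mem _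
    have h2 := mem_smul_top_of_smul_mem_smul_top (⊥ : Ideal W)
      (Ideal.span {((p : ℕ) : W)}) ((p : ℕ) : W)
      (fun a ha => mem_span_p_of_p_mul_eq_zero p k a ((Ideal.mem_bot).mp ha)) m h1
    rw [Submodule.ideal_span_singleton_smul, Submodule.mem_smul_pointwise_iff_exists] at h2
    obtain ⟨m', _, hm'⟩ := h2
    exact ⟨m', hm'.symm⟩
  · intro h
    have hmax := isMaximal_span_p p k
    refine flat_of_isNilpotent (Ideal.span {((p : ℕ) : W)}) (isNilpotent_span_p p k) ?_ ?_
    · -- `M ⊗ (p) → M ⊗ W` is injective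
      have hpmem : ((p : ℕ) : W) ∈ Ideal.span {((p : ℕ) : W)} := Ideal.subset_span rfl
      have hform : ∀ z : M ⊗[W] (Ideal.span {((p : ℕ) : W)} : Ideal W),
          ∃ m : M, z = m ⊗ₜ[W] (⟨((p : ℕ) : W), hpmem⟩ : (Ideal.span {((p : ℕ) : W)} : Ideal W)) := by
        intro z
        induction z with
        | zero => exact ⟨0, (TensorProduct.zero_tmul _ _).symm⟩
        | add a b ha hb =>
          obtain ⟨m, rfl⟩ := ha
          obtain ⟨m', rfl⟩ := hb
          exact ⟨m + m', (TensorProduct.add_tmul _ _ _).symm⟩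
        | tmul m i =>
          obtain ⟨a, ha⟩ := Ideal.mem_span_singleton'.mp i.2
          refine ⟨a • m, ?_⟩
          rw [TensorProduct.smul_tmul]
          congr 1
          apply Subtype.ext
          rw [Submodule.coe_smul, smul_eq_mul]
          exact ha.symm
      rw [injective_iff_map_eq_zero]
      intro z hz
      obtain ⟨m, rfl⟩ := hform z
      rw [LinearMap.lTensor_tmul, Submodule.subtype_apply] at hz
      have h3 : ((p : ℕ) : W) • m = 0 := by
        have := congrArg (TensorProduct.rid W M) hz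
        rw [TensorProduct.rid_tmul, map_zero] at this
        exact this
      obtain ⟨m', rfl⟩ := h m h3
      rw [TensorProduct.smul_tmul]
      have h4 : ((p : ℕ) : W) • (⟨((p : ℕ) : W), hpmem⟩ :
          (Ideal.span {((p : ℕ) : W)} : Ideal W)) = 0 := by
        apply Subtype.ext
        rw [Submodule.coe_smul, smul_eq_mul, p_sq_eq_zero]
        rfl
      rw [h4, TensorProduct.tmul_zero]
    · let _ : Field (W ⧸ Ideal.span {((p : ℕ) : W)}) := Ideal.Quotient.field _
      infer_instance

end Groth.Agent.Lib.Helper5.W2
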