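import Mathlib
import Groth.Prelude.Def_W4c1liftfrobW2
import Groth.Agent.Lib.Helper5W2

/-!
# Flat liftings over `W₂(k)` (helper5)

For a flat lifting `(B, ι, π)` of a `k`-algebra `A` over `W₂(k)` (`k` a perfect field of
characteristic `p`) the kernel of `π` is `pB`, `p² = 0`, and `a ↦ p·ã` is an injective additive map
`mu : A → B` with image `ker π`.
-/

set_option autoImplicit false
universe u v

namespace Groth.Agent.Lib.Helper5.W2Lift

open Groth.Agent.Lib.Helper22

variable {p : ℕ} [Fact p.Prime] {k : Type u} [Field k] [CharP k p] [PerfectRing k p]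

theorem ker_res : RingHom.ker (FrobAlg.res p k) = Ideal.span {((p : ℕ) : FrobAlg.W2 p k)} := by
  have h : FrobAlg.res p k = SigmaWitt.psi p k 1 := by
    ext x
    rw [FrobAlg.res_apply, SigmaWitt.psi_eq_coeff]
  rw [h]
  exact SigmaWitt.ker_psi p k 1

/-- The polynomial `((x+y)^p - x^p - y^p)/p`. -/
def Q (p : ℕ) {R : Type*} [CommRing R] (x y : R) : R :=
  x * y * ∑ j ∈ Finset.Ioo 0 p, x ^ (j - 1) * y ^ (p - j - 1) * ((p.choose j / p : ℕ) : R)

theorem add_pow_eq {R : Type*} [CommRing R] (x y : R) :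
    (x + y) ^ p = x ^ p + y ^ p + (p : R) * Q p x y := by
  rw [add_pow_prime_eq (Fact.out : p.Prime) x y, Q]
  ring

omit [Fact p.Prime] in
theorem map_Q {R S : Type*} [CommRing R] [CommRing S] (f : R →+* S) (x y : R) :
    f (Q p x y) = Q p (f x) (f y) := by
  simp only [Q, map_mul, map_sum, map_pow, map_natCast]

variable {A : Type v} [CommRing A] [Algebra k A] {B : Type v} [CommRing B]
  {ι : FrobAlg.W2 p k →+* B} {π : B →+* A}

theorem ker_eq (h : FrobAlg.IsLift p k A B ι π) : RingHom.ker π = Ideal.span {((p : ℕ) : B)} := by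
  rw [h.ker_eq, ker_res, Ideal.map_span, Set.image_singleton, map_natCast]

theorem pi_p (h : FrobAlg.IsLift p k A B ι π) : π ((p : ℕ) : B) = 0 := by
  have : ((p : ℕ) : B) ∈ RingHom.ker π := by
    rw [ker_eq h]
    exact Ideal.subset_span rfl
  exact this

theorem p_mul_p (h : FrobAlg.IsLift p k A B ι π) : ((p : ℕ) : B) * ((p : ℕ) : B) = 0 := by
  have := congrArg ι (W2.p_sq_eq_zero p k)
  rwa [map_mul, map_natCast, map_zero] at this

theorem exists_eq_p_mul (h : FrobAlg.IsLift p k A B ι π) {x : B} (hx : π x = 0) :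
    ∃ y : B, x = ((p : ℕ) : B) * y := by
  have : x ∈ RingHom.ker π := hx
  rw [ker_eq h, Ideal.mem_span_singleton'] at this
  obtain ⟨y, hy⟩ := this
  exact ⟨y, by rw [← hy, mul_comm]⟩

theorem pi_eq_zero_of_p_mul (h : FrobAlg.IsLift p k A B ι π) {x : B}
    (hx : ((p : ℕ) : B) * x = 0) : π x = 0 := by
  let _ : Algebra (FrobAlg.W2 p k) B := ι.toAlgebra
  have hflat : Module.Flat (FrobAlg.W2 p k) B := h.flat
  have h1 : (((p : ℕ) : FrobAlg.W2 p k)) • x = 0 := by
    rw [Algebra.smul_def]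
    change ι _ * x = 0
    rw [map_natCast]
    exact hx
  obtain ⟨y, hy⟩ := (W2.flat_iff B).mp hflat x h1
  rw [hy, Algebra.smul_def]
  change π (ι _ * y) = 0
  rw [map_natCast, map_mul, pi_p h, zero_mul]

/-- `mu a = p · ã` for a lift `ã` of `a`. -/
noncomputable def mu (h : FrobAlg.IsLift p k A B ι π) (a : A) : B :=
  ((p : ℕ) : B) * (h.surj a).choose

theorem mu_pi (h : FrobAlg.IsLift p k A B ι π) (x : B) : mu h (π x) = ((p : ℕ) : B) * x := by
  have h1 : π ((h.surj (π x)).choose - x) = 0 := by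
    rw [map_sub, (h.surj (π x)).choose_spec, sub_self]
  obtain ⟨y, hy⟩ := exists_eq_p_mul h h1
  have h2 : ((p : ℕ) : B) * ((h.surj (π x)).choose - x) = 0 := by
    rw [hy, ← mul_assoc, p_mul_p h, zero_mul]
  rw [mul_sub, sub_eq_zero] at h2
  exact h2

theorem mu_zero (h : FrobAlg.IsLift p k A B ι π) : mu h 0 = 0 := by
  have := mu_pi h 0
  rwa [map_zero, mul_zero] at this

theorem mu_add (h : FrobAlg.IsLift p k A B ι π) (a b : A) : mu h (a + b) = mu h a + mu h b := by
  obtain ⟨x, rfl⟩ := h.surj a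
  obtain ⟨y, rfl⟩ := h.surj b
  rw [← map_add, mu_pi, mu_pi, mu_pi, mul_add]

theorem mu_neg (h : FrobAlg.IsLift p k A B ι π) (a : A) : mu h (-a) = -mu h a := by
  obtain ⟨x, rfl⟩ := h.surj a
  rw [← map_neg, mu_pi, mu_pi, mul_neg]

theorem mu_sub (h : FrobAlg.IsLift p k A B ι π) (a b : A) : mu h (a - b) = mu h a - mu h b := by
  rw [sub_eq_add_neg, mu_add, mu_neg, ← sub_eq_add_neg]

theorem mu_eq_zero (h : FrobAlg.IsLift p k A B ι π) {a : A} (ha : mu h a = 0) : a = 0 := by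
  obtain ⟨x, rfl⟩ := h.surj a
  rw [mu_pi] at ha
  exact pi_eq_zero_of_p_mul h ha

theorem mu_injective (h : FrobAlg.IsLift p k A B ι π) : Function.Injective (mu h) := by
  intro a b hab
  have : mu h (a - b) = 0 := by rw [mu_sub, hab, sub_self]
  exact sub_eq_zero.mp (mu_eq_zero h this)

theorem pi_mu (h : FrobAlg.IsLift p k A B ι π) (a : A) : π (mu h a) = 0 := by
  obtain ⟨x, rfl⟩ := h.surj a
  rw [mu_pi, map_mul, pi_p h, zero_mul]

theorem exists_mu_eq (h : FrobAlg.IsLift p k A B ι π) {x : B} (hx : π x = 0) :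
    ∃ a : A, mu h a = x := by
  obtain ⟨y, hy⟩ := exists_eq_p_mul h hx
  exact ⟨π y, by rw [mu_pi, hy]⟩

theorem mul_mu (h : FrobAlg.IsLift p k A B ι π) (x : B) (a : A) :
    x * mu h a = mu h (π x * a) := by
  obtain ⟨y, rfl⟩ := h.surj a
  rw [← map_mul, mu_pi, mu_pi]
  ring

theorem mu_mul_mu (h : FrobAlg.IsLift p k A B ι π) (a b : A) : mu h a * mu h b = 0 := by
  rw [mul_mu, pi_mu, zero_mul, mu_zero]

theorem p_mul_mu (h : FrobAlg.IsLift p k A B ι π) (a : A) : ((p : ℕ) : B) * mu h a = 0 := by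
  rw [mul_mu, pi_p h, zero_mul, mu_zero]

/-- Compatibility of `mu` with a map of liftings. -/
theorem map_mu {A₂ : Type v} [CommRing A₂] [Algebra k A₂] {B₂ : Type v} [CommRing B₂]
    {ι₂ : FrobAlg.W2 p k →+* B₂} {π₂ : B₂ →+* A₂}
    (h : FrobAlg.IsLift p k A B ι π) (h₂ : FrobAlg.IsLift p k A₂ B₂ ι₂ π₂)
    (φ : A →+* A₂) (φ' : B →+* B₂) (hφ : π₂.comp φ' = φ.comp π) (a : A) :
    φ' (mu h a) = mu h₂ (φ a) := by
  obtain ⟨x, rfl⟩ := h.surj a
  have : φ (π x) = π₂ (φ' x) := (RingHom.congr_fun hφ x).symm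
  rw [mu_pi, this, mu_pi, map_mul, map_natCast]

/-- Criterion for a lifting: `π` surjective, `ker π = pB` and `p`-torsion inside `ker π`. -/
theorem isLift_of (hsurj : Function.Surjective π)
    (hcomm : π.comp ι = (algebraMap k A).comp (FrobAlg.res p k))
    (hker : ∀ x : B, π x = 0 → ∃ y, x = ((p : ℕ) : B) * y)
    (htor : ∀ x : B, ((p : ℕ) : B) * x = 0 → π x = 0) :
    FrobAlg.IsLift p k A B ι π := by
  have hπp : π ((p : ℕ) : B) = 0 := by
    have h1 : π (ι ((p : ℕ) : FrobAlg.W2 p k)) =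
        algebraMap k A (FrobAlg.res p k ((p : ℕ) : FrobAlg.W2 p k)) :=
      RingHom.congr_fun hcomm ((p : ℕ) : FrobAlg.W2 p k)
    have h2 : ι ((p : ℕ) : FrobAlg.W2 p k) = ((p : ℕ) : B) := map_natCast ι p
    have h3 : FrobAlg.res p k ((p : ℕ) : FrobAlg.W2 p k) = ((p : ℕ) : k) := map_natCast _ p
    rw [h2, h3, CharP.cast_eq_zero k p, map_zero] at h1
    exact h1
  refine ⟨?_, hsurj, ?_, hcomm⟩
  · let _ : Algebra (FrobAlg.W2 p k) B := ι.toAlgebra
    change Module.Flat (FrobAlg.W2 p k) B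
    rw [W2.flat_iff]
    intro m hm
    rw [Algebra.smul_def] at hm
    change ι _ * m = 0 at hm
    rw [map_natCast] at hm
    obtain ⟨y, hy⟩ := hker m (htor m hm)
    refine ⟨y, ?_⟩
    rw [Algebra.smul_def]
    change m = ι _ * y
    rw [map_natCast]
    exact hy
  · rw [ker_res, Ideal.map_span, Set.image_singleton, map_natCast]
    apply le_antisymm
    · intro x hx
      obtain ⟨y, hy⟩ := hker x hx
      rw [hy]
      exact Ideal.mul_mem_right _ _ (Ideal.subset_span rfl)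
    · rw [Ideal.span_le, Set.singleton_subset_iff]
      exact hπp

end Groth.Agent.Lib.Helper5.W2Lift
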