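import Mathlib
import Groth.Prelude.Def_W4c1liftfrobW2
import Groth.Agent.Lib.Helper5W2Lift

set_option autoImplicit false
universe u

namespace Groth.Agent.Lib.Helper12.FLiftSmooth
open FrobAlg

/-- Type synonym: `B` with the `W₂(k)`-algebra structure twisted by `σ`. -/
def Tw (p : ℕ) [Fact p.Prime] (k : Type u) [CommRing k] [CharP k p] (B : Type u) : Type u := B

section
variable (p : ℕ) [Fact p.Prime] (k : Type u) [CommRing k] [CharP k p] (B : Type u) [CommRing B]

instance : CommRing (Tw p k B) := ‹CommRing B›

noncomputable instance [Algebra (W2 p k) B] : Algebra (W2 p k) (Tw p k B) :=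
  ((algebraMap (W2 p k) B).comp (sigma p k)).toAlgebra

end

theorem res_surjective (p : ℕ) [Fact p.Prime] (k : Type u) [CommRing k] :
    Function.Surjective (res p k) := by
  intro a
  refine ⟨TruncatedWittVector.mk p ![a, 0], ?_⟩
  rw [res_apply, TruncatedWittVector.coeff_mk]
  rfl

theorem exists_frobLift (p : ℕ) [Fact p.Prime] (k : Type u) [Field k] [CharP k p]
    [PerfectRing k p] (A : Type u) [CommRing A] [Algebra k A] (B : Type u) [CommRing B]
    [Algebra (W2 p k) B] [Algebra.FormallySmooth (W2 p k) B]
    (π : B →+* A) (h : IsLift p k A B (algebraMap (W2 p k) B) π) :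
    ∃ Φ : B →+* B, IsFrobLift p k A B (algebraMap (W2 p k) B) π Φ := by
  have hker2 : RingHom.ker π ^ 2 = ⊥ := by
    rw [Groth.Agent.Lib.Helper5.W2Lift.ker_eq h, Ideal.span_singleton_pow, pow_two,
      Groth.Agent.Lib.Helper5.W2Lift.p_mul_p h]
    simp
  rcases subsingleton_or_nontrivial A with hA | hA
  · -- then `B` is trivial
    have htop : RingHom.ker π = ⊤ := by
      rw [Ideal.eq_top_iff_one]
      exact Subsingleton.elim _ _
    have hB : Subsingleton B := by
      rw [htop] at hker2
      have : (1 : B) ∈ (⊥ : Ideal B) := by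
        rw [← hker2, Ideal.top_pow]; exact (Submodule.mem_top : (1 : B) ∈ (⊤ : Ideal B))
      exact subsingleton_of_zero_eq_one ((Ideal.mem_bot.1 this).symm)
    exact ⟨RingHom.id B, h, RingHom.ext fun w => Subsingleton.elim _ _,
      fun b => Subsingleton.elim _ _⟩
  haveI : CharP A p := charP_of_injective_algebraMap (algebraMap k A).injective p
  letI : Algebra (W2 p k) A :=
    ((algebraMap k A).comp ((res p k).comp (sigma p k))).toAlgebra
  let g : Tw p k B →ₐ[W2 p k] A :=
    { (π : Tw p k B →+* A) with
      commutes' := fun w => by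
        change π (algebraMap (W2 p k) B (sigma p k w)) = algebraMap k A (res p k (sigma p k w))
        exact RingHom.congr_fun h.comm _ }
  let f : B →ₐ[W2 p k] A :=
    { (frobenius A p).comp π with
      commutes' := fun w => by
        change (π (algebraMap (W2 p k) B w)) ^ p = algebraMap k A (res p k (sigma p k w))
        rw [show π (algebraMap (W2 p k) B w) = algebraMap k A (res p k w) from
          RingHom.congr_fun h.comm w, res_apply, res_apply, WittGrp.coeff_frob, map_pow] }
  have hg : Function.Surjective g := h.surj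
  have hker : IsNilpotent (RingHom.ker (g : Tw p k B →+* A)) := ⟨2, hker2⟩
  let Φ := Algebra.FormallySmooth.liftOfSurjective f g hg hker
  refine ⟨(Φ : B →+* Tw p k B), h, ?_, ?_⟩
  · ext w
    exact Φ.commutes w
  · intro b
    exact Algebra.FormallySmooth.liftOfSurjective_apply f g hg hker b

end Groth.Agent.Lib.Helper12.FLiftSmooth
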