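import Mathlib
import Groth.Prelude.Def_W4c1liftfrobW2
import Groth.Agent.S6827
import Groth.Agent.Lib.Helper12FLiftA

set_option autoImplicit false
universe u

namespace Groth.Agent.Lib.Helper12.FLiftSmooth
open FrobAlg

theorem main (p : ℕ) [Fact p.Prime] (k : Type u) [Field k] [CharP k p] [PerfectRing k p]
    (A : Type u) [CommRing A] [Algebra k A] [Algebra.Smooth k A] :
    IsFLiftable p k A := by
  have hsurj : Function.Surjective (res p k) := res_surjective p k
  let e₀ : W2 p k ⧸ RingHom.ker (res p k) ≃+* k := RingHom.quotientKerEquivOfSurjective hsurj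
  letI alg1 : Algebra (W2 p k ⧸ RingHom.ker (res p k)) k := e₀.toRingHom.toAlgebra
  letI alg2 : Algebra (W2 p k ⧸ RingHom.ker (res p k)) A :=
    ((algebraMap k A).comp e₀.toRingHom).toAlgebra
  haveI : IsScalarTower (W2 p k ⧸ RingHom.ker (res p k)) k A :=
    IsScalarTower.of_algebraMap_eq fun _ => rfl
  haveI : Algebra.Smooth (W2 p k ⧸ RingHom.ker (res p k)) k :=
    Algebra.Smooth.of_equiv
      (AlgEquiv.ofRingEquiv (f := e₀) fun _ => rfl :
        (W2 p k ⧸ RingHom.ker (res p k)) ≃ₐ[W2 p k ⧸ RingHom.ker (res p k)] k)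
  haveI : Algebra.Smooth (W2 p k ⧸ RingHom.ker (res p k)) A :=
    Algebra.Smooth.comp (W2 p k ⧸ RingHom.ker (res p k)) k A
  obtain ⟨B, _, _, hsm, ⟨e⟩⟩ :=
    Groth.Agent.S6827.result (R := W2 p k) (A₀ := A) (RingHom.ker (res p k))
  let π : B →+* A := (e : _ →+* A).comp
    (Ideal.Quotient.mk ((RingHom.ker (res p k)).map (algebraMap (W2 p k) B)))
  have hlift : IsLift p k A B (algebraMap (W2 p k) B) π := by
    refine ⟨?_, ?_, ?_, ?_⟩
    · rw [RingHom.flat_algebraMap_iff]
      infer_instance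
    · exact e.surjective.comp Ideal.Quotient.mk_surjective
    · ext b
      simp only [π, RingHom.mem_ker, RingHom.comp_apply]
      rw [RingHom.coe_coe, map_eq_zero_iff e e.injective, Ideal.Quotient.eq_zero_iff_mem]
    · ext w
      change e (Ideal.Quotient.mk _ (algebraMap (W2 p k) B w)) = algebraMap k A (res p k w)
      have h1 : Ideal.Quotient.mk ((RingHom.ker (res p k)).map (algebraMap (W2 p k) B))
          (algebraMap (W2 p k) B w) =
          algebraMap (W2 p k ⧸ RingHom.ker (res p k)) _ (Ideal.Quotient.mk _ w) := rfl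
      rw [h1, e.commutes]
      rfl
  obtain ⟨Φ, hΦ⟩ := exists_frobLift p k A B π hlift
  exact ⟨B, _, _, π, Φ, hΦ⟩

end Groth.Agent.Lib.Helper12.FLiftSmooth
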