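import Mathlib

set_option autoImplicit false
universe u
open CategoryTheory CategoryTheory.Limits AlgebraicGeometry Opposite

namespace Groth.Agent.Lib.Helper12.FOBaseChange

/-- global sections are detected on a jointly surjective family of flat morphisms. -/
lemma eq_zero_of_forall_appTop_eq_zero {V : Scheme.{u}} {κ : Type*} (Vk : κ → Scheme.{u})
    (c : ∀ k, Vk k ⟶ V) [∀ k, Flat (c k)] (hc : ∀ v : V, ∃ k, v ∈ Set.range (c k))
    (a : Γ(V, ⊤)) (ha : ∀ k, (c k).appTop a = 0) : a = 0 := by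
  refine TopCat.Presheaf.section_ext V.sheaf ⊤ a 0 fun v hv => ?_
  obtain ⟨k, y, rfl⟩ := hc v
  have hinj : Function.Injective ((c k).stalkMap y) := by
    algebraize [((c k).stalkMap y).hom]
    have : Module.FaithfullyFlat (V.presheaf.stalk ((c k) y)) ((Vk k).presheaf.stalk y) :=
      @Module.FaithfullyFlat.of_flat_of_isLocalHom _ _ _ _ _ _ _
        (Flat.stalkMap (c k) y) ((c k).toLRSHom.prop y)
    exact ‹RingHom.FaithfullyFlat _›.injective
  apply hinj
  change (c k).stalkMap y (V.presheaf.germ ⊤ ((c k) y) hv a) =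
    (c k).stalkMap y (V.presheaf.germ ⊤ ((c k) y) hv 0)
  rw [Scheme.Hom.germ_stalkMap_apply, Scheme.Hom.germ_stalkMap_apply]
  have h1 : (c k).app ⊤ a = 0 := ha k
  rw [h1, map_zero, map_zero, map_zero]

/-- the square of the kernel on global sections of an affine target. -/
lemma ker_appTop_mul_self {V W : Scheme.{u}} [IsAffine V] (s : W ⟶ V) [QuasiCompact s]
    (hs : s.ker * s.ker = ⊥) : RingHom.ker s.appTop.hom * RingHom.ker s.appTop.hom = ⊥ := by
  have h1 := congrArg (fun I => I.ideal ⟨⊤, isAffineOpen_top _⟩) hs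
  simp only [Scheme.IdealSheafData.ideal_mul, Pi.mul_apply, Scheme.IdealSheafData.ideal_bot,
    Pi.bot_apply] at h1
  rw [Scheme.Hom.ker_apply] at h1
  exact h1

/-- **Descent of square-zero-ness** of a closed immersion into an affine scheme along a jointly
surjective family of flat morphisms. -/
lemma sqZero_of_flat_cover {V W : Scheme.{u}} [IsAffine V] (i₀ : W ⟶ V) [QuasiCompact i₀]
    {κ : Type*} (Vk Wk : κ → Scheme.{u}) (c : ∀ k, Vk k ⟶ V) [∀ k, Flat (c k)]
    (hc : ∀ v : V, ∃ k, v ∈ Set.range (c k)) [∀ k, IsAffine (Vk k)]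
    (s : ∀ k, Wk k ⟶ Vk k) [∀ k, QuasiCompact (s k)]
    (hs : ∀ k, (s k).ker * (s k).ker = ⊥) (t : ∀ k, Wk k ⟶ W)
    (ht : ∀ k, t k ≫ i₀ = s k ≫ c k) : i₀.ker * i₀.ker = ⊥ := by
  apply Scheme.IdealSheafData.ext_of_isAffine
  change i₀.ker.ideal ⟨⊤, isAffineOpen_top _⟩ * i₀.ker.ideal ⟨⊤, isAffineOpen_top _⟩ = ⊥
  rw [Scheme.Hom.ker_apply]
  refine le_antisymm ?_ bot_le
  rw [Ideal.mul_le]
  intro x hx y hy
  rw [Ideal.mem_bot]
  apply eq_zero_of_forall_appTop_eq_zero Vk c hc
  intro k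
  have key : ∀ z, z ∈ RingHom.ker (i₀.app ⊤).hom →
      (c k).appTop z ∈ RingHom.ker (s k).appTop.hom := by
    intro z hz
    rw [RingHom.mem_ker]
    have h1 : (c k).appTop ≫ (s k).appTop = i₀.appTop ≫ (t k).appTop := by
      rw [← Scheme.Hom.comp_appTop, ← Scheme.Hom.comp_appTop, ht k]
    have h2 := congrArg (fun φ => φ.hom z) h1
    simp only [CommRingCat.hom_comp, RingHom.comp_apply] at h2
    rw [h2]
    have hz' : i₀.appTop.hom z = 0 := hz
    rw [hz', map_zero]
  have hmem := Ideal.mul_mem_mul (key x hx) (key y hy)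
  rw [ker_appTop_mul_self (s k) (hs k)] at hmem
  rw [map_mul]
  exact hmem

end Groth.Agent.Lib.Helper12.FOBaseChange
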