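import Mathlib
import Groth.Prelude.Def_AlgSpInf
import Groth.Agent.Lib.Helper12FOBaseChange0
import Groth.Agent.Lib.Helper12SqZeroBC
import Groth.Agent.Lib.Helper12InfGlue

set_option autoImplicit false
universe u
open CategoryTheory CategoryTheory.Limits AlgebraicGeometry Opposite
open AlgSp

namespace Groth.Agent.Lib.Helper12.FOBaseChange

open Groth.Agent.Lib.Helper12.SqZeroBC Groth.Agent.Lib.Helper12.InfGlue

variable {S : Scheme.{u}}

/-- **First order thickenings of algebraic spaces pull back to square-zero closed immersions along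
arbitrary morphisms from affine schemes** (not only etale charts). -/
theorem sqZero_of_isFOThickMor {Z Z' : AlgSp.Sp S} (i : Z ⟶ Z') (hi : AlgSp.IsFOThickMor i)
    (hZ' : AlgSp.IsAlgSpace Z') {V W : Over S} (g : (AlgSp.yon S).obj V ⟶ Z')
    (fst : (AlgSp.yon S).obj W ⟶ Z) (snd : W ⟶ V) (hV : IsAffine V.left)
    (sq : IsPullback fst ((AlgSp.yon S).map snd) i g) : AlgSp.sqZero snd.left := by
  obtain ⟨U, p, hp, hps⟩ := hZ'.atlas
  obtain ⟨V₁, q, g₁', sq₁⟩ := hp.1 g
  obtain ⟨g₁, rfl⟩ := (AlgSp.yon S).map_surjective g₁'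
  haveI : Etale q.left := hp.2 g _ q sq₁
  haveI : Surjective q.left := hps.2 g _ q sq₁
  haveI : IsClosedImmersion snd.left := (hi.1.2 g fst snd sq).1
  haveI : IsAffine V.left := hV
  have hloc : ∀ v₁ : V₁.left, ∃ (Vk Wk : Scheme.{u}) (c : Vk ⟶ V.left) (s : Wk ⟶ Vk)
      (t : Wk ⟶ W.left), IsAffine Vk ∧ Flat c ∧ q.left v₁ ∈ Set.range c ∧ QuasiCompact s ∧
        s.ker * s.ker = ⊥ ∧ t ≫ snd.left = s ≫ c := by
    intro v₁
    obtain ⟨_, ⟨Uk, hUk, rfl⟩, hmem, -⟩ := U.left.isBasis_affineOpens.exists_subset_of_mem_open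
      (Set.mem_univ (g₁.left v₁)) isOpen_univ
    obtain ⟨_, ⟨Vk, hVk, rfl⟩, hv₁, hVkU : Vk ≤ g₁.left ⁻¹ᵁ Uk⟩ :=
      V₁.left.isBasis_affineOpens.exists_subset_of_mem_open
        (show v₁ ∈ (g₁.left ⁻¹ᵁ Uk : V₁.left.Opens) from hmem) (g₁.left ⁻¹ᵁ Uk).isOpen
    let Uko : Over S := Over.mk (Scheme.Opens.ι Uk ≫ U.hom)
    let ιU : Uko ⟶ U := Over.homMk (Scheme.Opens.ι Uk) rfl
    let Vko : Over S := Over.mk (Scheme.Opens.ι Vk ≫ V₁.hom)
    let ιV : Vko ⟶ V₁ := Over.homMk (Scheme.Opens.ι Vk) rfl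
    have hrange : Set.range (Scheme.Opens.ι Vk ≫ g₁.left) ⊆ Set.range (Scheme.Opens.ι Uk) := by
      rintro _ ⟨x, rfl⟩
      rw [Scheme.Opens.range_ι]
      exact hVkU x.2
    let m' : (Vk : Scheme) ⟶ (Uk : Scheme) :=
      IsOpenImmersion.lift (Scheme.Opens.ι Uk) (Scheme.Opens.ι Vk ≫ g₁.left) hrange
    have hm' : m' ≫ Scheme.Opens.ι Uk = Scheme.Opens.ι Vk ≫ g₁.left := IsOpenImmersion.lift_fac _ _ _
    let m : Vko ⟶ Uko := Over.homMk m' (by
      have h2 := Over.w g₁
      simp only [Uko, Vko, Over.mk_hom]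
      rw [← Category.assoc, hm', Category.assoc, h2])
    have hm : m ≫ ιU = ιV ≫ g₁ := by
      ext
      exact hm'
    have hb : AlgSp.RepWith @Etale ((AlgSp.yon S).map ιU ≫ p) := repWith_etale_restrict p hp Uk
    obtain ⟨WU, sU, fU, sqU⟩ := hi.1.1 ((AlgSp.yon S).map ιU ≫ p)
    have hsU : AlgSp.sqZero sU.left := hi.2 _ fU sU hUk hb sqU
    haveI : IsClosedImmersion sU.left := (hi.1.2 _ fU sU sqU).1
    have hP : IsPullback (pullback.fst m sU).left (pullback.snd m sU).left m.left sU.left :=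
      (IsPullback.of_hasPullback m sU).map (Over.forget S)
    haveI : IsAffine Vko.left := hVk
    haveI : IsAffine Uko.left := hUk
    have hk : (pullback.fst m sU).left.ker * (pullback.fst m sU).left.ker = ⊥ :=
      sqZero_of_isPullback m.left sU.left _ _ hP hsU
    have comm : ((AlgSp.yon S).map (pullback.snd m sU) ≫ fU) ≫ i =
        (AlgSp.yon S).map (pullback.fst m sU ≫ ιV ≫ q) ≫ g := by
      rw [Category.assoc, sqU.w, ← Functor.map_comp_assoc, ← Functor.map_comp_assoc,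
        ← pullback.condition, Category.assoc, hm, Functor.map_comp, Functor.map_comp,
        Functor.map_comp, Functor.map_comp, Category.assoc, Category.assoc, Category.assoc,
        Category.assoc, sq₁.w]
    obtain ⟨t', -, ht2⟩ : ∃ t', t' ≫ fst = (AlgSp.yon S).map (pullback.snd m sU) ≫ fU ∧
        t' ≫ (AlgSp.yon S).map snd = (AlgSp.yon S).map (pullback.fst m sU ≫ ιV ≫ q) :=
      ⟨sq.lift _ _ comm, sq.lift_fst _ _ _, sq.lift_snd _ _ _⟩
    obtain ⟨t, rfl⟩ := (AlgSp.yon S).map_surjective t'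
    have ht : t ≫ snd = pullback.fst m sU ≫ ιV ≫ q :=
      (AlgSp.yon S).map_injective (by rw [Functor.map_comp]; exact ht2)
    haveI : IsClosedImmersion (pullback.fst m sU).left :=
      MorphismProperty.of_isPullback (P := @IsClosedImmersion) hP.flip inferInstance
    refine ⟨Vko.left, (pullback m sU).left, (ιV ≫ q).left, (pullback.fst m sU).left, t.left, hVk,
      ?_, ⟨⟨v₁, hv₁⟩, rfl⟩, inferInstance, hk, ?_⟩
    · haveI : Etale (ιV ≫ q).left := by
        rw [Over.comp_left]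
        exact inferInstanceAs (Etale (Scheme.Opens.ι Vk ≫ q.left))
      infer_instance
    · have := congrArg (fun m => m.left) ht
      simpa only [Over.comp_left, Category.assoc] using this
  choose Vk Wk c s t hVk hc hmem hs hk ht using hloc
  haveI : ∀ k, IsAffine (Vk k) := hVk
  haveI : ∀ k, Flat (c k) := hc
  haveI : ∀ k, QuasiCompact (s k) := hs
  refine sqZero_of_flat_cover snd.left Vk Wk c (fun v => ?_) s hk t ht
  obtain ⟨v₁, rfl⟩ := q.left.surjective v
  exact ⟨v₁, hmem v₁⟩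

end Groth.Agent.Lib.Helper12.FOBaseChange
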