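import Mathlib

set_option autoImplicit false
universe u

namespace Groth.Agent.Lib.Helper12.FTPoint

open Polynomial

/-- If a field `K'` is a finitely generated algebra over a subdomain `D`, then some localization
`D[1/f]` is a field: every prime of `D` not containing `f` is zero. -/
theorem exists_ne_zero_forall_prime {D K' : Type u} [CommRing D] [IsDomain D] [Field K']
    [Algebra D K'] (hinj : Function.Injective (algebraMap D K')) [hft : Algebra.FiniteType D K'] :
    ∃ f : D, f ≠ 0 ∧ ∀ q : Ideal D, q.IsPrime → f ∉ q → q = ⊥ := by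
  classical
  haveI : FaithfulSMul D K' := (faithfulSMul_iff_algebraMap_injective D K').mpr hinj
  -- `K'` is algebraic over `D`
  let K := FractionRing D
  letI : Algebra K K' := (IsFractionRing.lift hinj).toAlgebra
  haveI : IsScalarTower D K K' := IsScalarTower.of_algebraMap_eq (fun x => by
    simp [RingHom.algebraMap_toAlgebra])
  haveI : Algebra.FiniteType K K' := Algebra.FiniteType.of_restrictScalars_finiteType D K K'
  haveI : Module.Finite K K' := finite_of_finite_type_of_isJacobsonRing K K'
  haveI : Algebra.IsAlgebraic K K' := Algebra.IsAlgebraic.of_finite K K'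
  haveI : Algebra.IsAlgebraic D K' := (IsFractionRing.comap_isAlgebraic_iff (A := D) (K := K)).2
    inferInstance
  obtain ⟨s, hs⟩ := hft.out
  choose y hy0 hyint using fun a : K' =>
    (Algebra.IsAlgebraic.isAlgebraic (R := D) a).exists_integral_multiple
  refine ⟨∏ a ∈ s, y a, Finset.prod_ne_zero_iff.2 (fun a _ => hy0 a), ?_⟩
  intro q hq hfq
  set f := ∏ a ∈ s, y a with hf
  have hf0 : f ≠ 0 := Finset.prod_ne_zero_iff.2 (fun a _ => hy0 a)
  have hunit : IsUnit (algebraMap D K' f) := by
    rw [isUnit_iff_ne_zero]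
    exact fun h => hf0 (hinj (by rw [h, map_zero]))
  letI : Algebra (Localization.Away f) K' := (IsLocalization.Away.lift f hunit).toAlgebra
  haveI : IsScalarTower D (Localization.Away f) K' := IsScalarTower.of_algebraMap_eq (fun x => by
    simp [RingHom.algebraMap_toAlgebra])
  -- every generator is integral over `D[1/f]`
  have hgen : ∀ a ∈ s, IsIntegral (Localization.Away f) a := by
    intro a ha
    have h1 : IsIntegral (Localization.Away f) (y a • a) := (hyint a).tower_top
    have hdvd : y a ∣ f := Finset.dvd_prod_of_mem y ha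
    have hu : IsUnit (algebraMap D (Localization.Away f) (y a)) :=
      isUnit_of_dvd_unit (map_dvd _ hdvd) (IsLocalization.Away.algebraMap_isUnit f)
    obtain ⟨v, hv⟩ := hu
    have h2 : a = ((v⁻¹ : (Localization.Away f)ˣ) : Localization.Away f) • (y a • a) := by
      rw [← algebraMap_smul (Localization.Away f) (y a) a, ← hv, smul_smul, Units.inv_mul, one_smul]
    rw [h2]
    exact IsIntegral.smul _ h1
  haveI : Algebra.IsIntegral (Localization.Away f) K' := by
    refine ⟨fun x => ?_⟩
    have hx : x ∈ Algebra.adjoin D (s : Set K') := by rw [hs]; trivial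
    have hle : Algebra.adjoin D (s : Set K') ≤
        (integralClosure (Localization.Away f) K').restrictScalars D :=
      Algebra.adjoin_le (fun a ha => hgen a ha)
    exact hle hx
  have hinj' : Function.Injective (algebraMap (Localization.Away f) K') := by
    rw [injective_iff_map_eq_zero]
    intro z hz
    obtain ⟨⟨d, m⟩, rfl⟩ := IsLocalization.mk'_surjective (Submonoid.powers f) z
    rw [IsLocalization.mk'_eq_zero_iff]
    have h3 : algebraMap D K' d = 0 := by
      have h4 := IsLocalization.mk'_spec (Localization.Away f) d m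
      have h5 := congrArg (algebraMap (Localization.Away f) K') h4
      rw [map_mul, hz, zero_mul, ← IsScalarTower.algebraMap_apply] at h5
      exact h5.symm
    exact ⟨1, by rw [hinj (h3.trans (map_zero _).symm), mul_zero]⟩
  have hfield : IsField (Localization.Away f) :=
    isField_of_isIntegral_of_isField hinj' (Field.toIsField K')
  -- a prime not containing `f` extends to a prime of the field `D[1/f]`
  have hdisj : Disjoint (Submonoid.powers f : Set D) (q : Set D) := by
    rw [Set.disjoint_left]
    rintro _ ⟨n, rfl⟩ hn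
    exact hfq (hq.mem_of_pow_mem n hn)
  have hprime : (q.map (algebraMap D (Localization.Away f))).IsPrime :=
    IsLocalization.isPrime_of_isPrime_disjoint (Submonoid.powers f) _ q hq hdisj
  letI := hfield.toField
  have hbot : q.map (algebraMap D (Localization.Away f)) = ⊥ := by
    rcases Ideal.eq_bot_or_top (q.map (algebraMap D (Localization.Away f))) with h | h
    · exact h
    · exact absurd h hprime.ne_top
  have hcomap := IsLocalization.comap_map_of_isPrime_disjoint (Submonoid.powers f)
    (Localization.Away f) hq hdisj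
  rw [hbot] at hcomap
  rw [← hcomap]
  ext x
  simp only [Ideal.mem_comap, Ideal.mem_bot]
  exact (map_eq_zero_iff _ (IsLocalization.injective (Localization.Away f)
    (powers_le_nonZeroDivisors_of_noZeroDivisors hf0)))

/-- ring-hom form: for a finite type ring map `φ : A → K'` to a field, the prime `ker φ` is closed
in a basic open neighbourhood. -/
theorem exists_basicOpen_forall_prime {A K' : Type u} [CommRing A] [Field K'] (φ : A →+* K')
    (hφ : φ.FiniteType) :
    ∃ f : A, φ f ≠ 0 ∧ ∀ q : Ideal A, q.IsPrime → RingHom.ker φ ≤ q → f ∉ q → q = RingHom.ker φ := by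
  haveI hp : (RingHom.ker φ).IsPrime := RingHom.ker_isPrime φ
  letI : Algebra (A ⧸ RingHom.ker φ) K' := (RingHom.kerLift φ).toAlgebra
  have hinj : Function.Injective (algebraMap (A ⧸ RingHom.ker φ) K') := RingHom.kerLift_injective φ
  have hcomp : (RingHom.kerLift φ).comp (Ideal.Quotient.mk (RingHom.ker φ)) = φ := by
    ext a; rfl
  haveI : Algebra.FiniteType (A ⧸ RingHom.ker φ) K' := by
    have : (RingHom.kerLift φ).FiniteType :=
      RingHom.FiniteType.of_comp_finiteType (f := Ideal.Quotient.mk (RingHom.ker φ)) (by rwa [hcomp])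
    exact this
  obtain ⟨fb, hfb0, hfb⟩ := exists_ne_zero_forall_prime (D := A ⧸ RingHom.ker φ) (K' := K') hinj
  obtain ⟨f, rfl⟩ := Ideal.Quotient.mk_surjective fb
  refine ⟨f, ?_, ?_⟩
  · intro h0
    apply hfb0
    apply hinj
    rw [map_zero]
    exact h0
  · intro q hq hle hfq
    have hprime : (q.map (Ideal.Quotient.mk (RingHom.ker φ))).IsPrime :=
      Ideal.map_isPrime_of_surjective Ideal.Quotient.mk_surjective
        (by rw [Ideal.mk_ker]; exact hle)
    have hnot : Ideal.Quotient.mk (RingHom.ker φ) f ∉ q.map (Ideal.Quotient.mk (RingHom.ker φ)) := by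
      intro hmem
      rw [Ideal.mem_map_iff_of_surjective _ Ideal.Quotient.mk_surjective] at hmem
      obtain ⟨x, hx, hxf⟩ := hmem
      have : x - f ∈ RingHom.ker φ := by
        rw [← Ideal.Quotient.eq_zero_iff_mem, map_sub, hxf, sub_self]
      have h2 : f = x - (x - f) := by ring
      rw [h2] at hfq
      exact hfq (q.sub_mem hx (hle this))
    have hbot := hfb _ hprime hnot
    apply le_antisymm _ hle
    intro x hx
    have : Ideal.Quotient.mk (RingHom.ker φ) x ∈ q.map (Ideal.Quotient.mk (RingHom.ker φ)) :=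
      Ideal.mem_map_of_mem _ hx
    rw [hbot, Ideal.mem_bot, Ideal.Quotient.eq_zero_iff_mem] at this
    exact this

open AlgebraicGeometry CategoryTheory in
/-- the image point of a locally finite type morphism from the spectrum of a field is closed in
an open neighbourhood. -/
theorem exists_opens_isClosed_singleton {U : Scheme.{u}} {K' : Type u} [Field K']
    (g : Spec (CommRingCat.of K') ⟶ U) [LocallyOfFiniteType g] :
    ∃ (V : U.Opens) (hu : g (IsLocalRing.closedPoint K') ∈ V),
      IsClosed ({⟨g (IsLocalRing.closedPoint K'), hu⟩} : Set V) := by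
  set pt : Spec (CommRingCat.of K') := IsLocalRing.closedPoint K' with hpt
  obtain ⟨W, hW, huW, -⟩ := TopologicalSpace.Opens.isBasis_iff_nbhd.mp U.isBasis_affineOpens
    (TopologicalSpace.Opens.mem_top (g pt))
  have hsub : ∀ x : Spec (CommRingCat.of K'), x = pt := fun x =>
    (PrimeSpectrum.instUnique (R := K')).uniq x |>.trans
      ((PrimeSpectrum.instUnique (R := K')).uniq pt).symm
  have hVW : (⊤ : (Spec (CommRingCat.of K')).Opens) ≤ g ⁻¹ᵁ W := by
    intro x _
    rw [hsub x]
    exact huW
  have htop := isAffineOpen_top (Spec (CommRingCat.of K'))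
  have hφ0 : (g.appLE W ⊤ hVW).hom.FiniteType :=
    HasRingHomProperty.appLE (P := @LocallyOfFiniteType) g inferInstance ⟨W, hW⟩ ⟨⊤, htop⟩ hVW
  let e : Γ(Spec (CommRingCat.of K'), ⊤) ≃+* K' :=
    (Scheme.ΓSpecIso (CommRingCat.of K')).commRingCatIsoToRingEquiv
  let φ : Γ(U, W) →+* K' := e.toRingHom.comp (g.appLE W ⊤ hVW).hom
  have hφ : φ.FiniteType :=
    RingHom.FiniteType.comp (RingHom.FiniteType.of_surjective _ e.surjective) hφ0
  -- the prime of `u`
  have hbot : (htop.primeIdealOf ⟨pt, trivial⟩).asIdeal = ⊥ := by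
    rw [eq_bot_iff]
    intro x hx
    by_contra hx0
    have hx0' : e x ≠ 0 := fun h => hx0 (by simpa using h)
    have hux : IsUnit x := by
      have := (isUnit_iff_ne_zero.2 hx0').map e.symm.toRingHom
      simpa using this
    exact (htop.primeIdealOf ⟨pt, trivial⟩).isPrime.ne_top (Ideal.eq_top_of_isUnit_mem _ hx hux)
  have hker : (hW.primeIdealOf ⟨g pt, huW⟩).asIdeal = RingHom.ker φ := by
    have h1 := IsAffineOpen.comap_primeIdealOf_appLE (f := g) W hW ⊤ htop hVW
      (show pt ∈ (⊤ : (Spec (CommRingCat.of K')).Opens) from trivial)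
    have h2 := congrArg PrimeSpectrum.asIdeal h1
    rw [← h2, PrimeSpectrum.comap_asIdeal, hbot]
    ext a
    simp only [Ideal.mem_comap, Ideal.mem_bot, RingHom.mem_ker, φ, RingHom.comp_apply]
    constructor
    · intro h; rw [h]; simp
    · intro h; simpa using h
  obtain ⟨f, hf0, hf⟩ := exists_basicOpen_forall_prime φ hφ
  have hmem : ∀ (y : U) (hy : y ∈ W), y ∈ U.basicOpen f ↔ f ∉ (hW.primeIdealOf ⟨y, hy⟩).asIdeal := by
    intro y hy
    have h1 : hW.fromSpec (hW.primeIdealOf ⟨y, hy⟩) = y := hW.fromSpec_primeIdealOf ⟨y, hy⟩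
    have h2 := hW.fromSpec_preimage_basicOpen f
    have h3 : hW.primeIdealOf ⟨y, hy⟩ ∈ hW.fromSpec ⁻¹ᵁ U.basicOpen f ↔
        hW.primeIdealOf ⟨y, hy⟩ ∈ PrimeSpectrum.basicOpen f := by rw [h2]; rfl
    have h4 : y ∈ U.basicOpen f ↔
        hW.fromSpec (hW.primeIdealOf ⟨y, hy⟩) ∈ U.basicOpen f := by rw [h1]
    exact h4.trans h3
  have huV : g pt ∈ U.basicOpen f := by
    rw [hmem _ huW, hker, RingHom.mem_ker]
    exact hf0
  refine ⟨U.basicOpen f, huV, ?_⟩
  rw [← closure_subset_iff_isClosed]
  intro y hy
  rw [← specializes_iff_mem_closure,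
    ← (U.basicOpen f).ι.isOpenEmbedding.isInducing.specializes_iff] at hy
  set yU : U := (U.basicOpen f).ι y with hyU
  have hyV : yU ∈ U.basicOpen f := by
    have h := (U.basicOpen f).range_ι
    have : yU ∈ Set.range (U.basicOpen f).ι := ⟨y, rfl⟩
    rw [h] at this
    exact this
  have hgpt : (U.basicOpen f).ι ⟨g pt, huV⟩ = g pt := rfl
  rw [hgpt] at hy
  have hyW : yU ∈ W := U.basicOpen_le f hyV
  have hsp : hW.primeIdealOf ⟨g pt, huW⟩ ⤳ hW.primeIdealOf ⟨yU, hyW⟩ := by
    have h5 := (hW.fromSpec.isOpenEmbedding.isInducing.specializes_iff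
      (x := hW.primeIdealOf ⟨g pt, huW⟩) (y := hW.primeIdealOf ⟨yU, hyW⟩))
    rw [hW.fromSpec_primeIdealOf, hW.fromSpec_primeIdealOf] at h5
    exact h5.1 hy
  rw [← PrimeSpectrum.le_iff_specializes] at hsp
  have hq := hf _ (hW.primeIdealOf ⟨yU, hyW⟩).isPrime (by rw [← hker]; exact hsp)
    ((hmem _ hyW).1 hyV)
  have heq : hW.primeIdealOf ⟨yU, hyW⟩ = hW.primeIdealOf ⟨g pt, huW⟩ := by
    apply PrimeSpectrum.ext
    rw [hq, hker]
  have := congrArg hW.fromSpec heq
  rw [hW.fromSpec_primeIdealOf, hW.fromSpec_primeIdealOf] at this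
  apply (U.basicOpen f).ι.isOpenEmbedding.injective
  rw [hgpt]
  exact this

end Groth.Agent.Lib.Helper12.FTPoint
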