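import Mathlib
import Groth.Agent.Lib.Helper12FTPoint
import Groth.Agent.S9947
import Groth.Agent.S10509
import Groth.Agent.S10177
import Groth.Agent.S10176

set_option autoImplicit false
universe u
open CategoryTheory CategoryTheory.Limits AlgebraicGeometry
open AlgSp

namespace Groth.Agent.Lib.Helper12.FTPoint

variable {S : Scheme.{u}}

/-- `x` is a finite type point of the sheaf `X`. -/
def IsFT (X : AlgSp.Sp S) (x : AlgSp.Points X) : Prop :=
  ∃ (k : Type u) (_ : Field k) (str : Spec (CommRingCat.of k) ⟶ S)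
    (ξ : (AlgSp.yon S).obj (Over.mk str) ⟶ X),
    AlgSp.LocP @LocallyOfFiniteType ξ ∧ AlgSp.Points.ofPt ξ (IsLocalRing.closedPoint k) = x

lemma lft_hEt {A B : Scheme.{u}} (g : A ⟶ B) (hg : Etale g) : LocallyOfFiniteType g := by
  haveI := hg; infer_instance

lemma lft_hsrc {A B C : Scheme.{u}} (e : A ⟶ B) (k : B ⟶ C) [Etale e] [Surjective e]
    (h : LocallyOfFiniteType (e ≫ k)) : LocallyOfFiniteType k := by
  haveI := h
  exact Groth.Agent.Lib.Helper20.EtSrc.locallyOfFiniteType_of_etale_cover_source e k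

lemma lft_hcancel {A B C : Scheme.{u}} (u : A ⟶ B) (k : B ⟶ C) (hk : Etale k)
    (h : LocallyOfFiniteType (u ≫ k)) : LocallyOfFiniteType u :=
  Groth.Agent.S9947.cancel_of_open (P := @LocallyOfFiniteType)
    (fun X => (inferInstance : LocallyOfFiniteType (𝟙 X)))
    (fun j hj => by haveI := hj; infer_instance) u k hk h

/-- the image of a closed point of an étale chart is a finite type point. -/
theorem isFT_of_isClosed {X : AlgSp.Sp S} (hX : AlgSp.IsAlgSpace X) {U : Over S}
    (φ : (AlgSp.yon S).obj U ⟶ X) (hφ : AlgSp.RepWith @Etale φ) (u : ↥U.left)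
    (hu : IsClosed ({u} : Set ↥U.left)) : IsFT X (AlgSp.Points.ofPt φ u) := by
  haveI : IsClosedImmersion (U.left.fromSpecResidueField u) :=
    isClosed_singleton_iff_isClosedImmersion.mp hu
  let str : Spec (CommRingCat.of ↑(U.left.residueField u)) ⟶ S :=
    U.left.fromSpecResidueField u ≫ U.hom
  let m : Over.mk str ⟶ U := Over.homMk (U.left.fromSpecResidueField u) rfl
  have hm : LocallyOfFiniteType m.left := by
    show LocallyOfFiniteType (U.left.fromSpecResidueField u)
    infer_instance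
  refine ⟨↑(U.left.residueField u), inferInstance, str, (AlgSp.yon S).map m ≫ φ, ?_, ?_⟩
  · exact Groth.Agent.S9947.locP_of_chart @LocallyOfFiniteType lft_hEt
      (fun e k _ _ h => lft_hsrc e k h) (fun u k hk h => lft_hcancel u k hk h) hX _
      (𝟙 _) φ m (AlgSp.repWith_id _ _) (AlgSp.repWith_id _ _) hφ (Category.id_comp _) hm
  · rw [Groth.Agent.S10509.ofPt_yon_map_comp]
    congr 1
    exact Scheme.fromSpecResidueField_apply _ _

/-- a finite type point is the image of a closed point of some étale chart. -/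
theorem exists_isClosed_of_isFT {X : AlgSp.Sp S} (hX : AlgSp.IsAlgSpace X) (x : AlgSp.Points X)
    (hx : IsFT X x) :
    ∃ (U : Over S) (φ : (AlgSp.yon S).obj U ⟶ X) (u : ↥U.left), AlgSp.RepWith @Etale φ ∧
      IsClosed ({u} : Set ↥U.left) ∧ AlgSp.Points.ofPt φ u = x := by
  obtain ⟨k, _, str, ξ, hξ, rfl⟩ := hx
  obtain ⟨U, p, hpe, hps⟩ := hX.atlas
  obtain ⟨E, e₁, e₂', sq⟩ := hpe.1 ξ
  obtain ⟨e₂, rfl⟩ := (AlgSp.yon S).map_surjective e₂'
  haveI : Etale e₁.left := hpe.2 _ _ e₁ sq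
  haveI : Surjective e₁.left := hps.2 _ _ e₁ sq
  have hlft : LocallyOfFiniteType e₂.left :=
    hξ ((AlgSp.yon S).map e₁) p e₂ ((AlgSp.repWith_yon_map_iff _ _).2 inferInstance) hpe sq.w.symm
  -- a closed point of `E`
  haveI : JacobsonSpace ↥(Spec (CommRingCat.of k)) := inferInstance
  haveI : JacobsonSpace ↥(Over.mk str).left := (inferInstance : JacobsonSpace ↥(Spec (CommRingCat.of k)))
  haveI : JacobsonSpace ↥E.left := LocallyOfFiniteType.jacobsonSpace e₁.left
  obtain ⟨z₀, -⟩ := e₁.left.surjective (IsLocalRing.closedPoint k)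
  have hne : (closedPoints ↥E.left).Nonempty := by
    by_contra h
    rw [Set.not_nonempty_iff_eq_empty] at h
    have := closure_closedPoints (X := ↥E.left)
    rw [h, closure_empty] at this
    have h2 : z₀ ∈ (∅ : Set ↥E.left) := by rw [this]; trivial
    exact h2
  obtain ⟨z, hz⟩ := hne
  haveI : IsClosedImmersion (E.left.fromSpecResidueField z) :=
    isClosed_singleton_iff_isClosedImmersion.mp hz
  haveI := hlft
  let g : Spec (CommRingCat.of ↑(E.left.residueField z)) ⟶ U.left :=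
    E.left.fromSpecResidueField z ≫ e₂.left
  haveI : LocallyOfFiniteType g := by
    show LocallyOfFiniteType (E.left.fromSpecResidueField z ≫ e₂.left)
    infer_instance
  obtain ⟨V, hu, hcl⟩ := exists_opens_isClosed_singleton g
  have hgz : g (IsLocalRing.closedPoint ↑(E.left.residueField z)) = e₂.left z := by
    show (E.left.fromSpecResidueField z ≫ e₂.left) _ = _
    rw [Scheme.Hom.comp_apply, Scheme.fromSpecResidueField_apply]
  let U₁ : Over S := Over.mk (V.ι ≫ U.hom)
  let j : U₁ ⟶ U := Over.homMk V.ι rfl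
  have hje : AlgSp.RepWith @Etale ((AlgSp.yon S).map j) :=
    (AlgSp.repWith_yon_map_iff _ _).2 (by show Etale V.ι; infer_instance)
  refine ⟨U₁, (AlgSp.yon S).map j ≫ p, ⟨g (IsLocalRing.closedPoint _), hu⟩,
    (AlgSp.RepWith @Etale).comp_mem _ _ hje hpe, hcl, ?_⟩
  rw [Groth.Agent.S10509.ofPt_yon_map_comp]
  show AlgSp.Points.ofPt p (g (IsLocalRing.closedPoint _)) = _
  rw [hgz, ← Groth.Agent.S10509.ofPt_yon_map_comp, sq.w, Groth.Agent.S10509.ofPt_yon_map_comp]
  congr 1
  exact (PrimeSpectrum.instUnique (R := k)).uniq _ |>.trans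
    ((PrimeSpectrum.instUnique (R := k)).uniq _).symm

/-- a nonempty locally closed subset of a scheme contains a point which is closed in an affine open
neighbourhood. -/
lemma exists_closed_in_affineOpen {U : Scheme.{u}} (T : Set ↥U) (hT : IsLocallyClosed T)
    (hne : T.Nonempty) :
    ∃ (W : U.Opens) (w : ↥W.toScheme), W.ι w ∈ T ∧ IsClosed ({w} : Set ↥W.toScheme) := by
  obtain ⟨O, Z, hO, hZ, rfl⟩ := hT
  obtain ⟨t, htO, htZ⟩ := hne
  obtain ⟨W', hW, htW, hWO⟩ := TopologicalSpace.Opens.isBasis_iff_nbhd.mp U.isBasis_affineOpens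
    (show t ∈ (⟨O, hO⟩ : U.Opens) from htO)
  let W : U.Opens := W'
  haveI : IsAffine W.toScheme := hW
  have hcl : IsClosed (W.ι ⁻¹' Z) := hZ.preimage W.ι.continuous
  have hne' : (W.ι ⁻¹' Z).Nonempty := ⟨⟨t, htW⟩, htZ⟩
  obtain ⟨w, hwZ, hw⟩ := hcl.exists_closed_singleton hne'
  refine ⟨W, w, ⟨hWO ?_, hwZ⟩, hw⟩
  have h := W.range_ι
  have : W.ι w ∈ Set.range W.ι := ⟨w, rfl⟩
  rw [h] at this
  exact this

/-- the image of a point closed in an open subscheme of an étale chart is a finite type point. -/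
theorem isFT_of_isClosed_opens {X : AlgSp.Sp S} (hX : AlgSp.IsAlgSpace X) {U : Over S}
    (φ : (AlgSp.yon S).obj U ⟶ X) (hφ : AlgSp.RepWith @Etale φ) (W : U.left.Opens)
    (w : ↥W.toScheme) (hw : IsClosed ({w} : Set ↥W.toScheme)) :
    IsFT X (AlgSp.Points.ofPt φ (W.ι w)) := by
  let U₁ : Over S := Over.mk (W.ι ≫ U.hom)
  let j : U₁ ⟶ U := Over.homMk W.ι rfl
  have hje : AlgSp.RepWith @Etale ((AlgSp.yon S).map j) :=
    (AlgSp.repWith_yon_map_iff _ _).2 (by show Etale W.ι; infer_instance)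
  have := isFT_of_isClosed hX ((AlgSp.yon S).map j ≫ φ)
    ((AlgSp.RepWith @Etale).comp_mem _ _ hje hφ) w hw
  rwa [Groth.Agent.S10509.ofPt_yon_map_comp] at this

/-- every nonempty locally closed subset of the points of an algebraic space contains a finite
type point. -/
theorem exists_isFT_mem {X : AlgSp.Sp S} (hX : AlgSp.IsAlgSpace X) (T : Set (AlgSp.Points X))
    (hT : IsLocallyClosed T) (hne : T.Nonempty) : ∃ x ∈ T, IsFT X x := by
  obtain ⟨U, p, hpe, hps⟩ := hX.atlas
  have hT' : IsLocallyClosed (AlgSp.Points.ofPt p ⁻¹' T) :=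
    hT.preimage (AlgSp.Points.continuous_ofPt p)
  have hne' : (AlgSp.Points.ofPt p ⁻¹' T).Nonempty := by
    obtain ⟨x, hx⟩ := hne
    obtain ⟨u, rfl⟩ := Groth.Agent.S10177.surjective_ofPt p hps x
    exact ⟨u, hx⟩
  obtain ⟨W, w, hwT, hw⟩ := exists_closed_in_affineOpen _ hT' hne'
  exact ⟨_, hwT, isFT_of_isClosed_opens hX p hpe W w hw⟩

end Groth.Agent.Lib.Helper12.FTPoint
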