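import Mathlib

set_option autoImplicit false
universe u

open TensorProduct

namespace Groth.Agent.Lib.Helper12.FibIsoA

/-- Nakayama at a prime: a finite algebra whose fibre at `q` is generated by the residue field is
generated by the base after inverting some `r ∉ q`. -/
theorem exists_notMem_mul_mem_range {R A : Type u} [CommRing R] [CommRing A] [Algebra R A]
    [Module.Finite R A] (q : PrimeSpectrum R)
    (h : Function.Surjective (algebraMap q.asIdeal.ResidueField (q.asIdeal.Fiber A))) :
    ∃ r : R, r ∉ q.asIdeal ∧ ∀ a : A, ∃ b : R, algebraMap R A r * a = algebraMap R A b := by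
  let N : Submodule R A := LinearMap.range (Algebra.linearMap R A)
  have hsub : Subsingleton (q.asIdeal.ResidueField ⊗[R] (A ⧸ N)) := by
    rw [subsingleton_iff_forall_eq 0]
    intro z
    induction z using TensorProduct.induction_on with
    | zero => rfl
    | tmul c m =>
      obtain ⟨a, rfl⟩ := N.mkQ_surjective m
      obtain ⟨c', hc'⟩ := h (c ⊗ₜ[R] a)
      have h1 : (LinearMap.lTensor q.asIdeal.ResidueField N.mkQ) (c ⊗ₜ[R] a) = c ⊗ₜ[R] N.mkQ a :=
        LinearMap.lTensor_tmul _ _ _ _
      rw [← h1, ← hc', Algebra.TensorProduct.algebraMap_apply, Algebra.algebraMap_self,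
        RingHom.id_apply, LinearMap.lTensor_tmul]
      have h2 : N.mkQ (1 : A) = 0 := by
        rw [Submodule.mkQ_apply, Submodule.Quotient.mk_eq_zero]
        exact ⟨1, by simp⟩
      rw [h2, tmul_zero]
    | add x y hx hy => rw [hx, hy, add_zero]
  have hq : q ∉ Module.support R (A ⧸ N) := by
    rw [Module.mem_support_iff_nontrivial_residueField_tensorProduct]
    exact not_nontrivial _
  rw [Module.support_eq_zeroLocus, PrimeSpectrum.mem_zeroLocus, Set.not_subset] at hq
  obtain ⟨r, hr1, hr2⟩ := hq
  refine ⟨r, hr2, fun a => ?_⟩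
  have h3 := Module.mem_annihilator.1 hr1 (N.mkQ a)
  rw [← map_smul, Submodule.mkQ_apply, Submodule.Quotient.mk_eq_zero] at h3
  obtain ⟨b, hb⟩ := h3
  refine ⟨b, ?_⟩
  rw [← Algebra.smul_def]
  exact hb.symm

/-- If `0 → N → B → A → 0` is exact with `A` flat, then `K ⊗ N → K ⊗ B` is injective for every `K`. -/
theorem lTensor_injective_of_flat_quotient {R : Type u} [CommRing R] {N B A K : Type u}
    [AddCommGroup N] [Module R N] [AddCommGroup B] [Module R B] [AddCommGroup A] [Module R A]
    [AddCommGroup K] [Module R K] [Module.Flat R A]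
    (i : N →ₗ[R] B) (π : B →ₗ[R] A) (hi : Function.Injective i) (hex : Function.Exact i π)
    (hπ : Function.Surjective π) : Function.Injective (i.lTensor K) := by
  let ε : (K →₀ R) →ₗ[R] K := Finsupp.linearCombination R id
  have hε : Function.Surjective ε := Finsupp.linearCombination_id_surjective R K
  have hfex : Function.Exact (LinearMap.ker ε).subtype ε := LinearMap.exact_subtype_ker_map ε
  refine @lTensor_injective_of_exact_of_exact_of_rTensor_injective R _ (LinearMap.ker ε) (K →₀ R)
    K N B A _ _ _ _ _ _ _ _ _ _ _ _ (LinearMap.ker ε).subtype ε i π hfex hε hex hπ ?_ ?_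
  · exact Module.Flat.rTensor_preserves_injective_linearMap (LinearMap.ker ε).subtype
      (LinearMap.ker ε).subtype_injective
  · exact Module.Flat.lTensor_preserves_injective_linearMap i hi

/-- If `L ⊗_B N = 0` for a finite module `N` and a field `L` over `B`, then some `r` with nonzero
image in `L` annihilates `N`. -/
theorem exists_mem_annihilator_of_subsingleton_tensor {B L N : Type u} [CommRing B] [Field L]
    [Algebra B L] [AddCommGroup N] [Module B N] [Module.Finite B N]
    (h : Subsingleton (L ⊗[B] N)) :
    ∃ r : B, algebraMap B L r ≠ 0 ∧ ∀ n : N, r • n = 0 := by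
  by_contra hcon
  push Not at hcon
  let 𝔮 : Ideal B := RingHom.ker (algebraMap B L)
  haveI h𝔮 : 𝔮.IsPrime := RingHom.ker_isPrime _
  have hann : Module.annihilator B N ≤ 𝔮 := by
    intro r hr
    by_contra hr'
    obtain ⟨n, hn⟩ := hcon r (by simpa [𝔮, RingHom.mem_ker] using hr')
    exact hn (Module.mem_annihilator.1 hr n)
  have hsupp : (⟨𝔮, h𝔮⟩ : PrimeSpectrum B) ∈ Module.support B N :=
    Module.mem_support_iff_of_finite.2 hann
  rw [Module.mem_support_iff_nontrivial_residueField_tensorProduct] at hsupp
  let f : 𝔮.ResidueField →+* L := Ideal.ResidueField.lift 𝔮 (algebraMap B L) le_rfl (by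
    intro x hx
    simp only [Submonoid.mem_comap, IsUnit.mem_submonoid_iff]
    refine isUnit_iff_ne_zero.2 ?_
    simpa [𝔮, RingHom.mem_ker] using hx)
  letI : Algebra 𝔮.ResidueField L := f.toAlgebra
  haveI : IsScalarTower B 𝔮.ResidueField L := IsScalarTower.of_algebraMap_eq (fun x => by
    change algebraMap B L x = f (algebraMap B 𝔮.ResidueField x)
    rw [Ideal.ResidueField.lift_algebraMap])
  let e := TensorProduct.AlgebraTensorModule.cancelBaseChange B 𝔮.ResidueField 𝔮.ResidueField L N
  haveI : Nontrivial (L ⊗[𝔮.ResidueField] (𝔮.ResidueField ⊗[B] N)) :=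
    Module.FaithfullyFlat.lTensor_nontrivial _ _ _
  exact not_subsingleton _ (e.symm.toEquiv.subsingleton_congr.1 h)

/-- **flatness + trivial kernel on the fibre**: `B/N` flat over `R`, `N` finitely generated and
dying in `κ ⊗_R B`; then `N` is killed by an element of `B` not vanishing in a given field `L` over
`B` and `κ`. -/
theorem exists_mul_eq_zero_of_flat {R B A κ L : Type u} [CommRing R] [CommRing B] [CommRing A]
    [CommRing κ] [Field L] [Algebra R B] [Algebra R κ] [Algebra B L] [Algebra κ L] [Algebra R L]
    [IsScalarTower R B L] [IsScalarTower R κ L]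
    (φ : B →+* A) (hφ : Function.Surjective φ) (hflat : (φ.comp (algebraMap R B)).Flat)
    (hfg : (RingHom.ker φ).FG)
    (hker : ∀ n ∈ RingHom.ker φ, ((1 : κ) ⊗ₜ[R] n : κ ⊗[R] B) = 0) :
    ∃ r : B, algebraMap B L r ≠ 0 ∧ ∀ n ∈ RingHom.ker φ, r * n = 0 := by
  letI : Algebra R A := (φ.comp (algebraMap R B)).toAlgebra
  haveI : Module.Flat R A := hflat
  let N : Ideal B := RingHom.ker φ
  let i : N →ₗ[R] B := N.subtype.restrictScalars R
  let π : B →ₗ[R] A :=
    { toFun := φ
      map_add' := map_add φ
      map_smul' := fun r b => by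
        change φ (r • b) = (φ.comp (algebraMap R B)) r * φ b
        rw [Algebra.smul_def, map_mul]
        rfl }
  have hi : Function.Injective i := N.subtype_injective
  have hex : Function.Exact i π := by
    intro b
    constructor
    · intro hb
      exact ⟨⟨b, hb⟩, rfl⟩
    · rintro ⟨n, rfl⟩
      exact n.2
  have hinj : Function.Injective (i.lTensor κ) :=
    lTensor_injective_of_flat_quotient i π hi hex hφ
  have hsub1 : Subsingleton (κ ⊗[R] N) := by
    rw [subsingleton_iff_forall_eq 0]
    intro z
    apply hinj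
    rw [map_zero]
    induction z using TensorProduct.induction_on with
    | zero => rw [map_zero]
    | tmul c n =>
      rw [LinearMap.lTensor_tmul]
      change c ⊗ₜ[R] (n : B) = 0
      have h1 : c ⊗ₜ[R] (n : B) = c • ((1 : κ) ⊗ₜ[R] (n : B)) := by
        rw [TensorProduct.smul_tmul', smul_eq_mul, mul_one]
      rw [h1, hker n n.2, smul_zero]
    | add x y hx hy => rw [map_add, hx, hy, add_zero]
  have hsub2 : Subsingleton (L ⊗[R] N) :=
    (TensorProduct.AlgebraTensorModule.cancelBaseChange R κ κ L N).symm.toEquiv.subsingleton_congr.2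
      inferInstance
  have hsub3 : Subsingleton (L ⊗[B] N) :=
    (TensorProduct.mapOfCompatibleSMul_surjective B R R L N).subsingleton
  haveI : Module.Finite B N := Module.Finite.iff_fg.2 hfg
  obtain ⟨r, hr1, hr2⟩ := exists_mem_annihilator_of_subsingleton_tensor (B := B) (L := L) (N := N)
    hsub3
  refine ⟨r, hr1, fun n hn => ?_⟩
  have := congrArg Subtype.val (hr2 ⟨n, hn⟩)
  simpa using this

end Groth.Agent.Lib.Helper12.FibIsoA
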