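import Mathlib
import Groth.Agent.Lib.Helper12ComplMorB
import Groth.Agent.Lib.Helper12FibIsoA

set_option autoImplicit false
universe u

open AlgebraicGeometry CategoryTheory CategoryTheory.Limits TopologicalSpace

namespace Groth.Agent.Lib.Helper12.FibIsoB

open Groth.Agent.Lib.Helper12.ComplMorA Groth.Agent.Lib.Helper12.ComplMorB
  Groth.Agent.Lib.Helper12.FibIsoA

/-- a base change of `p` along a morphism factoring through `j` is a base change of the base change
`m` of `p` along `j`. -/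
theorem of_isPullback_of_factor (P : MorphismProperty Scheme.{u}) [P.IsStableUnderBaseChange]
    {X Y X₀ Y₀ T : Scheme.{u}} {p : X ⟶ Y} {a : X₀ ⟶ X} {m : X₀ ⟶ Y₀} {j : Y₀ ⟶ Y}
    (sq : IsPullback a m p j) (i : T ⟶ Y) (l : T ⟶ Y₀) (hl : l ≫ j = i) (hm : P m) :
    P (pullback.snd p i) := by
  let l' : pullback p i ⟶ X₀ := sq.lift (pullback.fst p i) (pullback.snd p i ≫ l)
    (by rw [pullback.condition, Category.assoc, hl])
  have h1 : l' ≫ a = pullback.fst p i := sq.lift_fst _ _ _
  have h2 : l' ≫ m = pullback.snd p i ≫ l := sq.lift_snd _ _ _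
  have sq3 : IsPullback l' (pullback.snd p i) m l := by
    refine IsPullback.of_right ?_ h2 sq
    rw [h1, hl]
    exact IsPullback.of_hasPullback p i
  exact P.of_isPullback sq3 hm

/-- `X ×_S T ⟶ Y ×_S T` is the base change of `p : X ⟶ Y` along the projection `Y ×_S T ⟶ Y`. -/
theorem isPullback_map_fst {X Y S T : Scheme.{u}} (g : X ⟶ S) (h : Y ⟶ S) (p : X ⟶ Y)
    (w : p ≫ h = g) (τ : T ⟶ S) (e1 : g ≫ 𝟙 S = p ≫ h) (e2 : τ ≫ 𝟙 S = 𝟙 T ≫ τ) :
    IsPullback (pullback.fst g τ) (pullback.map g τ h τ p (𝟙 _) (𝟙 _) e1 e2) p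
      (pullback.fst h τ) := by
  refine IsPullback.of_bot ?_ ?_ (IsPullback.of_hasPullback h τ)
  · have h1 : pullback.map g τ h τ p (𝟙 _) (𝟙 _) e1 e2 ≫ pullback.snd h τ = pullback.snd g τ :=
      (pullback.lift_snd _ _ _).trans (Category.comp_id _)
    rw [h1, w]
    exact IsPullback.of_hasPullback g τ
  · exact (pullback.lift_fst _ _ _).symm

/-- closed immersions `Spec S ⟶ Spec R` are surjective on rings. -/
theorem surjective_of_isClosedImmersion_SpecMap {R S : CommRingCat.{u}} (f : R ⟶ S)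
    [IsClosedImmersion (Spec.map f)] : Function.Surjective f.hom := by
  have h1 := (IsClosedImmersion.isAffine_surjective_of_isAffine (Spec.map f)).2
  have h2 := Scheme.ΓSpecIso_inv_naturality f
  intro z
  obtain ⟨c, hc⟩ := h1 ((Scheme.ΓSpecIso S).inv.hom z)
  refine ⟨(Scheme.ΓSpecIso R).hom.hom c, ?_⟩
  apply (ConcreteCategory.bijective_of_isIso (Scheme.ΓSpecIso S).inv).injective
  have h3 := congrArg (fun φ => φ.hom ((Scheme.ΓSpecIso R).hom.hom c)) h2
  simp only [CommRingCat.hom_comp, RingHom.comp_apply] at h3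
  refine h3.trans ?_
  have h4 : (Scheme.ΓSpecIso R).inv.hom ((Scheme.ΓSpecIso R).hom.hom c) = c := by
    rw [← RingHom.comp_apply, ← CommRingCat.hom_comp, Iso.hom_inv_id]
    rfl
  rw [h4]
  exact hc

/-- **affine case**: a finite morphism to an affine scheme whose fibre at `y` is a closed subscheme
of `Spec κ(y)` is a closed immersion over a basic open neighbourhood of `y`. -/
theorem exists_isClosedImmersion_basicOpen_of_fiber {X Y : Scheme.{u}} [IsAffine Y] (f : X ⟶ Y)
    [IsFinite f] (y : Y) (hy : IsClosedImmersion (f.fiberToSpecResidueField y)) :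
    ∃ r : Γ(Y, ⊤), y ∈ Y.basicOpen r ∧ IsClosedImmersion (f ∣_ Y.basicOpen r) := by
  haveI : IsAffine X := isAffine_of_isAffineHom f
  have sq : IsPullback X.isoSpec.inv (Spec.map f.appTop) f Y.isoSpec.inv :=
    IsPullback.of_horiz_isIso ⟨(Scheme.isoSpec_inv_naturality f).symm⟩
  let q : Spec Γ(Y, ⊤) := Y.isoSpec.hom y
  have hq : Y.isoSpec.inv q = y := by
    change (Y.isoSpec.hom ≫ Y.isoSpec.inv) y = y
    rw [Iso.hom_inv_id]
    rfl
  have h1 := isPullback_fiberToSpecResidueField_of_isPullback sq q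
  have h2 : IsClosedImmersion ((Spec.map f.appTop).fiberToSpecResidueField q) := by
    refine MorphismProperty.of_isPullback h1 ?_
    rw [hq]
    exact hy
  letI : Algebra Γ(Y, ⊤) Γ(X, ⊤) := f.appTop.hom.toAlgebra
  haveI : Module.Finite Γ(Y, ⊤) Γ(X, ⊤) := f.finite_appTop
  have h3 : IsClosedImmersion (Spec.map (CommRingCat.ofHom
      (algebraMap q.asIdeal.ResidueField (q.asIdeal.Fiber Γ(X, ⊤))))) :=
    (MorphismProperty.arrow_mk_iso_iff @IsClosedImmersion
      (Spec.fiberToSpecResidueFieldIso Γ(Y, ⊤) Γ(X, ⊤) q)).1 h2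
  have h4 : Function.Surjective (algebraMap q.asIdeal.ResidueField (q.asIdeal.Fiber Γ(X, ⊤))) :=
    haveI := h3
    surjective_of_isClosedImmersion_SpecMap (CommRingCat.ofHom
      (algebraMap q.asIdeal.ResidueField (q.asIdeal.Fiber Γ(X, ⊤))))
  obtain ⟨r, hr1, hr2⟩ := exists_notMem_mul_mem_range q h4
  refine ⟨r, ?_, ?_⟩
  · rw [← Scheme.toSpecΓ_preimage_basicOpen]
    exact hr1
  · exact isClosedImmersion_restrict_basicOpen f ⊤ (isAffineOpen_top Y) (isAffineOpen_top X) r hr2

/-- **closed immersion near a point from the fibre**: a proper morphism whose fibre at `y` is a closed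
subscheme of `Spec κ(y)` is a closed immersion over a neighbourhood of `y`. -/
theorem exists_isClosedImmersion_near_of_fiber {X Y : Scheme.{u}} (f : X ⟶ Y) [IsProper f] (y : Y)
    (hy : IsClosedImmersion (f.fiberToSpecResidueField y)) :
    ∃ V : Y.Opens, y ∈ V ∧ IsClosedImmersion (f ∣_ V) := by
  have hsub : (f ⁻¹' {y}).Subsingleton := by
    haveI : Subsingleton (f.fiber y) :=
      (f.fiberToSpecResidueField y).isClosedEmbedding.injective.subsingleton
    intro x hx x' hx'
    have := Subsingleton.elim ((f.fiberHomeo y).symm ⟨x, hx⟩) ((f.fiberHomeo y).symm ⟨x', hx'⟩)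
    exact congrArg Subtype.val ((f.fiberHomeo y).symm.injective this)
  obtain ⟨V₁, hyV₁, hV₁⟩ :=
    exists_isFinite_morphismRestrict_of_finite_preimage_singleton f y hsub.finite
  obtain ⟨W, hW, hyW, hWV₁⟩ := exists_isAffineOpen_mem_and_subset (x := y) (U := V₁) hyV₁
  haveI hfW : IsFinite (f ∣_ W) := restrict_of_le @IsFinite f hWV₁ hV₁
  haveI : IsAffine W.toScheme := hW
  let y' : W.toScheme := ⟨y, hyW⟩
  have h1 := isPullback_fiberToSpecResidueField_of_isPullback
    (isPullback_morphismRestrict f W).flip y'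
  have h2 : IsClosedImmersion ((f ∣_ W).fiberToSpecResidueField y') :=
    MorphismProperty.of_isPullback h1 hy
  obtain ⟨r, hr1, hr2⟩ := exists_isClosedImmersion_basicOpen_of_fiber (f ∣_ W) y' h2
  refine ⟨W.ι ''ᵁ (W.toScheme.basicOpen r), ⟨y', hr1, rfl⟩, ?_⟩
  exact (MorphismProperty.arrow_mk_iso_iff @IsClosedImmersion
    (morphismRestrictRestrict f W _)).1 hr2

end Groth.Agent.Lib.Helper12.FibIsoB
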