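import Mathlib
import Groth.Agent.Lib.Helper12ComplMorD
import Groth.Agent.Lib.Helper12FibIsoB

set_option autoImplicit false
universe u

open AlgebraicGeometry CategoryTheory CategoryTheory.Limits TopologicalSpace

namespace Groth.Agent.Lib.Helper12.FibIsoC

open Groth.Agent.Lib.Helper12.ComplMorA Groth.Agent.Lib.Helper12.ComplMorB
  Groth.Agent.Lib.Helper12.FibIsoA Groth.Agent.Lib.Helper12.FibIsoB

/-- if `p` is a closed immersion over `V₀ ⊇ W` and `r` kills the kernel of `p` on the affine `W`, then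
`p` is an isomorphism over `D(r)`. -/
theorem isIso_restrict_basicOpen_of_mul_eq_zero {X Y : Scheme.{u}} (f : X ⟶ Y) [QuasiCompact f]
    (V₀ W : Y.Opens) (hW : IsAffineOpen W) (hWV₀ : W ≤ V₀) (hV₀ : IsClosedImmersion (f ∣_ V₀))
    (r : Γ(Y, W)) (hr : ∀ x ∈ RingHom.ker (f.app W).hom, r * x = 0) :
    IsIso (f ∣_ Y.basicOpen r) := by
  haveI hci : IsClosedImmersion (f ∣_ Y.basicOpen r) :=
    restrict_of_le @IsClosedImmersion f (le_trans (Y.basicOpen_le r) hWV₀) hV₀
  haveI : IsAffine (Y.basicOpen r).toScheme := hW.basicOpen r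
  refine IsClosedImmersion.isIso_of_injective_of_isAffine ?_
  have key : Function.Injective (f.app (Y.basicOpen r)).hom := by
    rw [RingHom.injective_iff_ker_eq_bot]
    have h1 := f.ker_apply (Y.affineBasicOpen (U := ⟨W, hW⟩) r)
    rw [← f.ker.map_ideal_basicOpen ⟨W, hW⟩ r] at h1
    change _ = RingHom.ker (f.app (Y.basicOpen r)).hom at h1
    rw [← h1, Ideal.map_eq_bot_iff_le_ker]
    intro x hx
    rw [f.ker_apply ⟨W, hW⟩] at hx
    rw [RingHom.mem_ker]
    have hu : IsUnit ((Y.presheaf.map (homOfLE (Y.basicOpen_le r)).op).hom r) :=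
      RingedSpace.isUnit_res_basicOpen _ r
    have h2 := congrArg (Y.presheaf.map (homOfLE (Y.basicOpen_le r)).op).hom (hr x hx)
    rw [map_mul, map_zero] at h2
    exact (hu.mul_right_eq_zero).1 h2
  have key' : Function.Injective (Scheme.Hom.app f ((Y.basicOpen r).ι ''ᵁ ⊤)).hom := by
    rw [Scheme.Opens.ι_image_top]
    exact key
  have hiso : Function.Bijective (X.presheaf.map
      (eqToHom (image_morphismRestrict_preimage f (Y.basicOpen r) ⊤)).op).hom :=
    ConcreteCategory.bijective_of_isIso _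
  rw [morphismRestrict_appTop]
  exact hiso.injective.comp key'

/-- a section over the affine open `W` that dies on `Spec C` along `Spec θ ≫ fromSpec` dies under
`θ`. -/
theorem eq_zero_of_app_eq_zero {Y : Scheme.{u}} {W : Y.Opens} (hW : IsAffineOpen W)
    {C : CommRingCat.{u}} (θ : Γ(Y, W) ⟶ C) (b : Γ(Y, W))
    (hb : ((Spec.map θ ≫ hW.fromSpec).app W).hom b = 0) : θ.hom b = 0 := by
  have E : (Scheme.ΓSpecIso Γ(Y, W)).inv ≫ (Spec Γ(Y, W)).presheaf.map
        (eqToHom hW.fromSpec_preimage_self).op ≫ (Spec.map θ).app (hW.fromSpec ⁻¹ᵁ W) =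
      θ ≫ (Scheme.ΓSpecIso C).inv ≫ (Spec C).presheaf.map
        (eqToHom (show (Spec.map θ) ⁻¹ᵁ (hW.fromSpec ⁻¹ᵁ W) = (Spec.map θ) ⁻¹ᵁ ⊤ by
          rw [hW.fromSpec_preimage_self])).op := by
    rw [Scheme.Hom.naturality, ← Category.assoc, ← Category.assoc,
      Scheme.ΓSpecIso_inv_naturality θ]
    rfl
  rw [Scheme.Hom.comp_app, hW.fromSpec_app_self, Category.assoc] at hb
  have hb' : ((Scheme.ΓSpecIso Γ(Y, W)).inv ≫ (Spec Γ(Y, W)).presheaf.map
        (eqToHom hW.fromSpec_preimage_self).op ≫ (Spec.map θ).app (hW.fromSpec ⁻¹ᵁ W)).hom b = 0 :=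
    hb
  rw [E] at hb'
  rw [CommRingCat.hom_comp, CommRingCat.hom_comp, RingHom.comp_apply, RingHom.comp_apply] at hb'
  have h1 : Function.Injective ((Spec C).presheaf.map
      (eqToHom (show (Spec.map θ) ⁻¹ᵁ (hW.fromSpec ⁻¹ᵁ W) = (Spec.map θ) ⁻¹ᵁ ⊤ by
        rw [hW.fromSpec_preimage_self])).op).hom :=
    (ConcreteCategory.bijective_of_isIso _).injective
  have h2 : Function.Injective (Scheme.ΓSpecIso C).inv.hom :=
    (ConcreteCategory.bijective_of_isIso _).injective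
  have h3 : (Scheme.ΓSpecIso C).inv.hom (θ.hom b) = 0 := h1 (hb'.trans (map_zero _).symm)
  exact h2 (h3.trans (map_zero _).symm)

/-- sections killed by `p` are killed by `j` when the base change `m` of `p` along `j` is an
isomorphism. -/
theorem app_eq_zero_of_isIso {X Y X₀ Y₀ : Scheme.{u}} {p : X ⟶ Y} {a : X₀ ⟶ X} {m : X₀ ⟶ Y₀}
    {j : Y₀ ⟶ Y} (sq : a ≫ p = m ≫ j) [IsIso m] (W : Y.Opens) (b : Γ(Y, W))
    (hb : (p.app W).hom b = 0) : (j.app W).hom b = 0 := by
  have e := Scheme.Hom.congr_app sq W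
  rw [Scheme.Hom.comp_app, Scheme.Hom.comp_app] at e
  have e2 : (a.app (p ⁻¹ᵁ W)).hom ((p.app W).hom b) =
      (X₀.presheaf.map (eqToHom (show (a ≫ p) ⁻¹ᵁ W = (m ≫ j) ⁻¹ᵁ W by rw [sq])).op).hom
        ((m.app (j ⁻¹ᵁ W)).hom ((j.app W).hom b)) := congrArg (fun φ => φ.hom b) e
  rw [hb, map_zero] at e2
  have h1 : Function.Injective (X₀.presheaf.map
      (eqToHom (show (a ≫ p) ⁻¹ᵁ W = (m ≫ j) ⁻¹ᵁ W by rw [sq])).op).hom :=
    (ConcreteCategory.bijective_of_isIso _).injective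
  have h2 : Function.Injective (m.app (j ⁻¹ᵁ W)).hom :=
    (ConcreteCategory.bijective_of_isIso _).injective
  have h3 : (m.app (j ⁻¹ᵁ W)).hom ((j.app W).hom b) = 0 := h1 (e2.symm.trans (map_zero _).symm)
  exact h2 (h3.trans (map_zero _).symm)

open TensorProduct in
/-- **the kernel of `p` dies on the fibre**: if `X_s ⟶ Y_s` is an isomorphism (`s = h y`), every
section over an affine `W ⊆ h⁻¹T` killed by `p` dies in `κ(s) ⊗_{Γ(S,T)} Γ(Y,W)`. -/
theorem tmul_eq_zero_of_fibre_iso {X Y S : Scheme.{u}} (g : X ⟶ S) (h : Y ⟶ S) (p : X ⟶ Y)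
    (w : p ≫ h = g) (s : S)
    (e1 : g ≫ 𝟙 S = p ≫ h)
    (e2 : S.fromSpecResidueField s ≫ 𝟙 S = 𝟙 _ ≫ S.fromSpecResidueField s)
    [IsIso (pullback.map g (S.fromSpecResidueField s) h (S.fromSpecResidueField s) p (𝟙 _) (𝟙 _)
      e1 e2)]
    (T : S.Opens) (hT : IsAffineOpen T) (hsT : s ∈ T) (W : Y.Opens) (hW : IsAffineOpen W)
    (hWT : W ≤ h ⁻¹ᵁ T) [Algebra Γ(S, T) Γ(Y, W)]
    (hρ : algebraMap Γ(S, T) Γ(Y, W) = (h.appLE T W hWT).hom)
    [Algebra Γ(S, T) (S.residueField s)]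
    (hψ : algebraMap Γ(S, T) (S.residueField s) = (S.presheaf.germ T s hsT ≫ S.residue s).hom)
    (b : Γ(Y, W)) (hb : (p.app W).hom b = 0) :
    ((1 : S.residueField s) ⊗ₜ[Γ(S, T)] b : S.residueField s ⊗[Γ(S, T)] Γ(Y, W)) = 0 := by
  let C : CommRingCat.{u} := CommRingCat.of (S.residueField s ⊗[Γ(S, T)] Γ(Y, W))
  let θ : Γ(Y, W) ⟶ C := CommRingCat.ofHom
    (Algebra.TensorProduct.includeRight : Γ(Y, W) →ₐ[Γ(S, T)] _).toRingHom
  let ικ : S.residueField s ⟶ C := CommRingCat.ofHom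
    (Algebra.TensorProduct.includeLeft : S.residueField s →ₐ[Γ(S, T)] _).toRingHom
  have hring : h.appLE T W hWT ≫ θ = (S.presheaf.germ T s hsT ≫ S.residue s) ≫ ικ := by
    ext r
    change (Algebra.TensorProduct.includeRight : Γ(Y, W) →ₐ[Γ(S, T)] _) ((h.appLE T W hWT).hom r) =
      (Algebra.TensorProduct.includeLeft : S.residueField s →ₐ[Γ(S, T)] _)
        ((S.presheaf.germ T s hsT ≫ S.residue s).hom r)
    rw [← hρ, ← hψ, AlgHom.commutes, AlgHom.commutes]
  have comm : (Spec.map θ ≫ hW.fromSpec) ≫ h = Spec.map ικ ≫ S.fromSpecResidueField s := by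
    rw [Category.assoc, ← IsAffineOpen.SpecMap_appLE_fromSpec h hT hW hWT, ← Category.assoc,
      ← Spec.map_comp, hring, Scheme.fromSpecResidueField,
      ← hT.fromSpecStalk_eq_fromSpecStalk hsT, IsAffineOpen.fromSpecStalk, Spec.map_comp,
      Spec.map_comp, Category.assoc, Category.assoc]
  let k : Spec C ⟶ pullback h (S.fromSpecResidueField s) :=
    pullback.lift (Spec.map θ ≫ hW.fromSpec) (Spec.map ικ) comm
  have hk : k ≫ pullback.fst h (S.fromSpecResidueField s) = Spec.map θ ≫ hW.fromSpec :=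
    pullback.lift_fst _ _ _
  have hj : ((pullback.fst h (S.fromSpecResidueField s)).app W).hom b = 0 :=
    app_eq_zero_of_isIso (isPullback_map_fst g h p w (S.fromSpecResidueField s) e1 e2).w W b hb
  have e := Scheme.Hom.congr_app hk.symm W
  rw [Scheme.Hom.comp_app k] at e
  have h3 : ((Spec.map θ ≫ hW.fromSpec).app W).hom b = 0 := by
    rw [e]
    change ((Spec C).presheaf.map (eqToHom _).op).hom ((k.app _).hom
      (((pullback.fst h (S.fromSpecResidueField s)).app W).hom b)) = 0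
    rw [hj, map_zero, map_zero]
  exact eq_zero_of_app_eq_zero hW θ b h3

/-- compatibility of evaluation at `y` and at `h y`. -/
theorem appLE_germ_residue {Y S : Scheme.{u}} (h : Y ⟶ S) (y : Y) (T : S.Opens) (hsT : h y ∈ T)
    (W : Y.Opens) (hyW : y ∈ W) (hWT : W ≤ h ⁻¹ᵁ T) :
    h.appLE T W hWT ≫ Y.presheaf.germ W y hyW ≫ Y.residue y =
      (S.presheaf.germ T (h y) hsT ≫ S.residue (h y)) ≫ h.residueFieldMap y := by
  rw [Category.assoc, Scheme.residue_residueFieldMap, Scheme.Hom.germ_stalkMap_assoc,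
    Scheme.Hom.appLE, Category.assoc, ← Category.assoc (Y.presheaf.map _), Y.presheaf.germ_res]

/-- **isomorphism near a point from the fibre, flat case**. -/
theorem exists_isIso_near_of_flat {X Y S : Scheme.{u}} [IsLocallyNoetherian Y] (g : X ⟶ S)
    (h : Y ⟶ S) (p : X ⟶ Y) (w : p ≫ h = g) [Flat g] [QuasiCompact p] (y : Y)
    (e1 : g ≫ 𝟙 S = p ≫ h)
    (e2 : S.fromSpecResidueField (h y) ≫ 𝟙 S = 𝟙 _ ≫ S.fromSpecResidueField (h y))
    [IsIso (pullback.map g (S.fromSpecResidueField (h y)) h (S.fromSpecResidueField (h y)) p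
      (𝟙 _) (𝟙 _) e1 e2)]
    (V₀ : Y.Opens) (hyV₀ : y ∈ V₀) (hV₀ : IsClosedImmersion (p ∣_ V₀)) :
    ∃ V : Y.Opens, y ∈ V ∧ IsIso (p ∣_ V) := by
  obtain ⟨T, hT, hsT, -⟩ := exists_isAffineOpen_mem_and_subset (x := h y) (U := ⊤) trivial
  obtain ⟨W, hW, hyW, hWsub⟩ := exists_isAffineOpen_mem_and_subset (x := y)
    (U := V₀ ⊓ h ⁻¹ᵁ T) ⟨hyV₀, hsT⟩
  have hWV₀ : W ≤ V₀ := fun z hz => (hWsub hz).1
  have hWT : W ≤ h ⁻¹ᵁ T := fun z hz => (hWsub hz).2
  haveI hciW : IsClosedImmersion (p ∣_ W) := restrict_of_le @IsClosedImmersion p hWV₀ hV₀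
  haveI : IsAffine W.toScheme := hW
  have hU : IsAffineOpen (p ⁻¹ᵁ W) := isAffine_of_isAffineHom (p ∣_ W)
  have hsurj : Function.Surjective (p.app W).hom := by
    have h0 := (IsClosedImmersion.isAffine_surjective_of_isAffine (p ∣_ W)).2
    rw [morphismRestrict_appTop] at h0
    have h1 : Function.Surjective (p.app (W.ι ''ᵁ ⊤) ≫ X.presheaf.map
        (eqToHom (image_morphismRestrict_preimage p W ⊤)).op).hom := h0
    rw [CommRingCat.hom_comp, RingHom.coe_comp] at h1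
    have h2 : Function.Surjective (Scheme.Hom.app p (W.ι ''ᵁ ⊤)).hom :=
      Function.Surjective.of_comp_left h1
        (ConcreteCategory.bijective_of_isIso (X.presheaf.map
          (eqToHom (image_morphismRestrict_preimage p W ⊤)).op)).injective
    rw [Scheme.Opens.ι_image_top] at h2
    exact h2
  letI : Algebra Γ(S, T) Γ(Y, W) := (h.appLE T W hWT).hom.toAlgebra
  letI : Algebra Γ(S, T) (S.residueField (h y)) :=
    (S.presheaf.germ T (h y) hsT ≫ S.residue (h y)).hom.toAlgebra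
  letI : Algebra Γ(Y, W) (Y.residueField y) :=
    (Y.presheaf.germ W y hyW ≫ Y.residue y).hom.toAlgebra
  letI : Algebra (S.residueField (h y)) (Y.residueField y) := (h.residueFieldMap y).hom.toAlgebra
  letI : Algebra Γ(S, T) (Y.residueField y) :=
    ((Y.presheaf.germ W y hyW ≫ Y.residue y).hom.comp (h.appLE T W hWT).hom).toAlgebra
  haveI : IsScalarTower Γ(S, T) Γ(Y, W) (Y.residueField y) :=
    IsScalarTower.of_algebraMap_eq (fun r => rfl)
  haveI : IsScalarTower Γ(S, T) (S.residueField (h y)) (Y.residueField y) :=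
    IsScalarTower.of_algebraMap_eq (fun r => by
      have := congrArg (fun φ => φ.hom r) (appLE_germ_residue h y T hsT W hyW hWT)
      exact this)
  have hflat : ((p.app W).hom.comp (algebraMap Γ(S, T) Γ(Y, W))).Flat := by
    have h1 : (g.appLE T (p ⁻¹ᵁ W) (by
        rw [← w, Scheme.Hom.comp_preimage]; exact p.preimage_mono hWT)).hom.Flat :=
      HasRingHomProperty.appLE (P := @Flat) g inferInstance ⟨T, hT⟩ ⟨p ⁻¹ᵁ W, hU⟩ _
    have h2 : g.appLE T (p ⁻¹ᵁ W) (by
        rw [← w, Scheme.Hom.comp_preimage]; exact p.preimage_mono hWT) =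
        h.appLE T W hWT ≫ p.app W := by
      subst w
      rw [Scheme.Hom.app_eq_appLE, Scheme.Hom.appLE_comp_appLE]
    rw [h2] at h1
    exact h1
  haveI : IsNoetherianRing Γ(Y, W) := IsLocallyNoetherian.component_noetherian ⟨W, hW⟩
  have hfg : (RingHom.ker (p.app W).hom).FG := IsNoetherian.noetherian _
  have hker : ∀ n ∈ RingHom.ker (p.app W).hom,
      ((1 : S.residueField (h y)) ⊗ₜ[Γ(S, T)] n :
        TensorProduct Γ(S, T) (S.residueField (h y)) Γ(Y, W)) = 0 := fun n hn =>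
    tmul_eq_zero_of_fibre_iso g h p w (h y) e1 e2 T hT hsT W hW hWT rfl rfl n hn
  obtain ⟨r, hr1, hr2⟩ := exists_mul_eq_zero_of_flat (R := Γ(S, T)) (B := Γ(Y, W))
    (A := Γ(X, p ⁻¹ᵁ W)) (κ := S.residueField (h y)) (L := Y.residueField y)
    (p.app W).hom hsurj hflat hfg hker
  refine ⟨Y.basicOpen r, ?_, isIso_restrict_basicOpen_of_mul_eq_zero p V₀ W hW hWV₀ hV₀ r hr2⟩
  rw [Scheme.mem_basicOpen _ _ _ hyW]
  by_contra hnu
  apply hr1
  change (Y.residue y).hom ((Y.presheaf.germ W y hyW).hom r) = 0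
  exact (IsLocalRing.residue_eq_zero_iff _).2 hnu

end Groth.Agent.Lib.Helper12.FibIsoC
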