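import Mathlib
import Groth.Agent.Lib.Helper12FibIsoC

set_option autoImplicit false
universe u

open AlgebraicGeometry CategoryTheory CategoryTheory.Limits TopologicalSpace

namespace Groth.Agent.Lib.Helper12.FibIsoD

open Groth.Agent.Lib.Helper12.ComplMorA Groth.Agent.Lib.Helper12.ComplMorB
  Groth.Agent.Lib.Helper12.FibIsoA Groth.Agent.Lib.Helper12.FibIsoB Groth.Agent.Lib.Helper12.FibIsoC

/-- if `X_s ⟶ Y_s` has a property stable under base change, so has the fibre of `p` at every point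
`y` over `s`. -/
theorem fiberToSpecResidueField_of_fibre (P : MorphismProperty Scheme.{u}) [P.IsStableUnderBaseChange]
    {X Y S : Scheme.{u}} (g : X ⟶ S) (h : Y ⟶ S) (p : X ⟶ Y) (w : p ≫ h = g) (y : Y)
    (e1 : g ≫ 𝟙 S = p ≫ h)
    (e2 : S.fromSpecResidueField (h y) ≫ 𝟙 S = 𝟙 _ ≫ S.fromSpecResidueField (h y))
    (hs : P (pullback.map g (S.fromSpecResidueField (h y)) h (S.fromSpecResidueField (h y)) p
      (𝟙 _) (𝟙 _) e1 e2)) :
    P (p.fiberToSpecResidueField y) := by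
  let l : Spec (Y.residueField y) ⟶ pullback h (S.fromSpecResidueField (h y)) :=
    pullback.lift (Y.fromSpecResidueField y) (Spec.map (h.residueFieldMap y))
      (Scheme.Hom.SpecMap_residueFieldMap_fromSpecResidueField h y).symm
  have hl : l ≫ pullback.fst h (S.fromSpecResidueField (h y)) = Y.fromSpecResidueField y :=
    pullback.lift_fst _ _ _
  exact of_isPullback_of_factor P
    (isPullback_map_fst g h p w (S.fromSpecResidueField (h y)) e1 e2)
    (Y.fromSpecResidueField y) l hl hs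

/-- **fibre isomorphism spreads out**: `X ⟶ S` proper flat, `Y ⟶ S` proper, `S` locally Noetherian,
`p : X ⟶ Y` an `S`-morphism whose fibre over `s` is an isomorphism; then `p` is an isomorphism over
an open neighbourhood of `s`. -/
theorem exists_isIso_over_nhds {S X Y : Scheme.{u}} [IsLocallyNoetherian S] (s : S) (g : X ⟶ S)
    (h : Y ⟶ S) (p : X ⟶ Y) (w : p ≫ h = g) [IsProper g] [IsProper h] [Flat g]
    (e1 : g ≫ 𝟙 S = p ≫ h)
    (e2 : S.fromSpecResidueField s ≫ 𝟙 S = 𝟙 _ ≫ S.fromSpecResidueField s)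
    (hs : IsIso (pullback.map g (S.fromSpecResidueField s) h (S.fromSpecResidueField s) p (𝟙 _)
      (𝟙 _) e1 e2)) :
    ∃ U : S.Opens, s ∈ U ∧ IsIso (p ∣_ h ⁻¹ᵁ U) := by
  haveI : IsProper (p ≫ h) := w ▸ inferInstance
  haveI : IsProper p := IsProper.of_comp p h
  haveI : IsLocallyNoetherian Y := LocallyOfFiniteType.isLocallyNoetherian h
  have H : ∀ y : Y, h y = s → ∃ V : Y.Opens, y ∈ V ∧ IsIso (p ∣_ V) := by
    rintro y rfl
    haveI := hs
    have hfib : IsIso (p.fiberToSpecResidueField y) :=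
      fiberToSpecResidueField_of_fibre (MorphismProperty.isomorphisms Scheme.{u}) g h p w y e1 e2 hs
    obtain ⟨V₀, hyV₀, hV₀⟩ := exists_isClosedImmersion_near_of_fiber p y inferInstance
    exact exists_isIso_near_of_flat g h p w y e1 e2 V₀ hyV₀ hV₀
  obtain ⟨𝒱, h𝒱max, h𝒱⟩ := exists_opens_locus (MorphismProperty.isomorphisms Scheme.{u}) p
  have hS : h ⁻¹' {s} ⊆ 𝒱 := fun y hy => by
    obtain ⟨V, hyV, hV⟩ := H y hy
    exact h𝒱max V hV hyV
  obtain ⟨U, hSU, hU𝒱⟩ := exists_opens_of_isClosedMap h h.isClosedMap {s} 𝒱 hS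
  exact ⟨U, hSU rfl, restrict_of_le (MorphismProperty.isomorphisms Scheme.{u}) p hU𝒱 h𝒱⟩

/-- the form with fibre products over the open neighbourhood. -/
theorem exists_isIso_pullback_map {S X Y : Scheme.{u}} [IsLocallyNoetherian S] (s : S) (g : X ⟶ S)
    (h : Y ⟶ S) (p : X ⟶ Y) (w : p ≫ h = g) [IsProper g] [IsProper h] [Flat g]
    (e1 : g ≫ 𝟙 S = p ≫ h)
    (e2 : S.fromSpecResidueField s ≫ 𝟙 S = 𝟙 _ ≫ S.fromSpecResidueField s)
    (hs : IsIso (pullback.map g (S.fromSpecResidueField s) h (S.fromSpecResidueField s) p (𝟙 _)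
      (𝟙 _) e1 e2)) :
    ∃ U : S.Opens, s ∈ U ∧ ∀ (e3 : U.ι ≫ 𝟙 S = 𝟙 _ ≫ U.ι),
      IsIso (pullback.map g U.ι h U.ι p (𝟙 _) (𝟙 _) e1 e3) := by
  obtain ⟨U, hsU, hU⟩ := exists_isIso_over_nhds s g h p w e1 e2 hs
  refine ⟨U, hsU, fun e3 => ?_⟩
  refine of_isPullback_of_range_subset (MorphismProperty.isomorphisms Scheme.{u})
    (isPullback_map_fst g h p w U.ι e1 e3) (h ⁻¹ᵁ U) ?_ hU
  rw [Scheme.Pullback.range_fst]
  simp

end Groth.Agent.Lib.Helper12.FibIsoD
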