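import Mathlib
import Groth.Agent.S10176
import Groth.Agent.S10265
import Groth.Agent.Lib.Helper12NoethDescent

set_option autoImplicit false
universe u
open CategoryTheory CategoryTheory.Limits AlgebraicGeometry

namespace Groth.Agent.Lib.Helper12.FibreSpec

variable {S : Scheme.{u}}

/-- no nontrivial specializations inside a discrete subset. -/
lemma eq_of_specializes_of_isDiscrete {T : Type*} [TopologicalSpace T] {F : Set T}
    (hF : IsDiscrete F) {x y : T} (hx : x ∈ F) (hy : y ∈ F) (h : x ⤳ y) : x = y := by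
  haveI := hF.to_subtype
  have h' : (⟨x, hx⟩ : F) ⤳ ⟨y, hy⟩ := by
    exact Topology.IsInducing.subtypeVal.specializes_iff.1 h
  exact congrArg Subtype.val h'.eq

/-- the chain step: a strict specialization inside a fibre of an etale chart produces a further
strict generization inside the fibre. -/
lemma chain_step {X : AlgSp.Sp S} {U : Over S} (a : (AlgSp.yon S).obj U ⟶ X)
    (ha : AlgSp.RepWith @Etale a) (u u' : ↥U.left)
    (he : AlgSp.Points.ofPt a u = AlgSp.Points.ofPt a u') (hs : u' ⤳ u) (hne : u ≠ u') :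
    ∃ u'' : ↥U.left, u'' ⤳ u' ∧ u'' ≠ u' ∧ AlgSp.Points.ofPt a u'' = AlgSp.Points.ofPt a u := by
  have sq := ha.rep.isPullback' a
  haveI h1 : Etale (ha.rep.snd a).left := ha.property_snd a
  haveI h2 : Etale (ha.rep.fst' a).left := ha.2 a _ _ sq.flip
  obtain ⟨r, hr1, hr2⟩ := Groth.Agent.S10176.exists_point_of_isPullback_yon sq u u' he
  -- generalize along `s = fst'`
  have hgen : GeneralizingMap (ha.rep.fst' a).left := Flat.generalizingMap _
  obtain ⟨r₁, hr₁, hr₁s⟩ := hgen (a := r) (b := u') (by rw [hr1]; exact hs)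
  refine ⟨(ha.rep.snd a).left r₁, ?_, ?_, ?_⟩
  · rw [← hr2]
    exact hr₁.map (ha.rep.snd a).left.continuous
  · intro heq
    haveI : LocallyQuasiFinite (ha.rep.snd a).left :=
      Groth.Agent.S10265.locallyQuasiFinite_of_unramified _
    have hd := (ha.rep.snd a).left.isDiscrete_preimage_singleton u'
    have : r₁ = r := eq_of_specializes_of_isDiscrete hd heq hr2 hr₁
    apply hne
    rw [← hr1, ← this, hr₁s]
  · have h3 := Groth.Agent.S10176.ofPt_map_comp (ha.rep.fst' a) a r₁
    have h4 := Groth.Agent.S10176.ofPt_map_comp (ha.rep.snd a) a r₁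
    rw [← h4, ← sq.w, h3, hr₁s, he]


/-- if every nonempty set of generizations of `u` inside the fibre has a minimal element, then there
are no strict specializations inside the fibre ending at `u`. -/
lemma eq_of_specializes_of_min {X : AlgSp.Sp S} {U : Over S} (a : (AlgSp.yon S).obj U ⟶ X)
    (ha : AlgSp.RepWith @Etale a) (u u' : ↥U.left)
    (he : AlgSp.Points.ofPt a u = AlgSp.Points.ofPt a u') (hs : u' ⤳ u)
    (hmin : ∀ G : Set ↥U.left, G.Nonempty →
      G ⊆ {v | v ⤳ u ∧ AlgSp.Points.ofPt a v = AlgSp.Points.ofPt a u} →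
        ∃ m ∈ G, ∀ v ∈ G, v ⤳ m → v = m) : u = u' := by
  by_contra hne
  obtain ⟨m, ⟨hm1, hm2⟩, hm⟩ := hmin {v | v ⤳ u' ∧ AlgSp.Points.ofPt a v = AlgSp.Points.ofPt a u}
    ⟨u', specializes_rfl, he.symm⟩ (fun v hv => ⟨hv.1.trans hs, hv.2⟩)
  have hmu : u ≠ m := by
    rintro rfl
    exact hne (hm1.antisymm hs).eq
  obtain ⟨u'', h1, h2, h3⟩ := chain_step a ha u m hm2.symm (hm1.trans hs) hmu
  exact h2 (hm u'' ⟨h1.trans hm1, h3⟩ h1)

/-- minimal elements among generizations of a point of a locally Noetherian scheme. -/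
lemma exists_min_of_isLocallyNoetherian {U : Scheme.{u}} [IsLocallyNoetherian U] (u : U)
    (G : Set U) (hG : G.Nonempty) (hGu : ∀ v ∈ G, v ⤳ u) : ∃ m ∈ G, ∀ v ∈ G, v ⤳ m → v = m := by
  let φ := U.fromSpecStalk u
  have hrange : ∀ v, v ⤳ u → ∃ p : PrimeSpectrum (U.presheaf.stalk u), φ p = v := by
    intro v hv
    have : v ∈ Set.range φ := by
      rw [Scheme.range_fromSpecStalk]
      exact hv
    exact this
  let hgt : PrimeSpectrum (U.presheaf.stalk u) → ℕ∞ := fun p => p.asIdeal.height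
  have hwf : WellFounded (InvImage (· < ·) hgt) := InvImage.wf hgt wellFounded_lt
  obtain ⟨v₀, hv₀⟩ := hG
  obtain ⟨p₀, hp₀⟩ := hrange v₀ (hGu v₀ hv₀)
  obtain ⟨pm, hpm, hmin⟩ := hwf.has_min {p | φ p ∈ G} ⟨p₀, by rw [Set.mem_setOf_eq, hp₀]; exact hv₀⟩
  refine ⟨φ pm, hpm, fun v hv hvm => ?_⟩
  obtain ⟨p, rfl⟩ := hrange v (hGu v hv)
  have hsp : p ⤳ pm := (Scheme.Hom.isEmbedding φ).toIsInducing.specializes_iff.1 hvm
  have hle : p ≤ pm := (PrimeSpectrum.le_iff_specializes p pm).2 hsp
  by_contra hne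
  have hlt : p.asIdeal < pm.asIdeal := by
    refine lt_of_le_of_ne hle (fun h => hne ?_)
    rw [PrimeSpectrum.ext h]
  exact hmin p hv (Ideal.height_strict_mono_of_isPrime_of_isPrime hlt)


/-- minimal elements (for generization) of a finite nonempty subset of a T0 space. -/
lemma exists_min_of_finite {T : Type*} [TopologicalSpace T] [T0Space T] (G : Set T)
    (hG : G.Nonempty) (hfin : G.Finite) : ∃ m ∈ G, ∀ v ∈ G, v ⤳ m → v = m := by
  letI := specializationPreorder T
  obtain ⟨m, hm⟩ := hfin.exists_maximal hG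
  refine ⟨m, hm.1, fun v hv hvm => ?_⟩
  have h1 : m ≤ v := hvm
  have h2 : v ≤ m := hm.2 hv h1
  exact (Specializes.antisymm hvm h2).eq


/-- every etale chart of a locally Noetherian space is locally Noetherian. -/
lemma isLocallyNoetherian_of_chart {F : AlgSp.Sp S} (hF : AlgSp.IsLocNoethSp F) {U : Over S}
    (a : (AlgSp.yon S).obj U ⟶ F) (ha : AlgSp.RepWith @Etale a) : IsLocallyNoetherian U.left := by
  obtain ⟨V, q, hqe, hqs, hV⟩ := hF
  obtain ⟨W, snd, fst', sq⟩ := hqe.1 a
  obtain ⟨fst, rfl⟩ := (AlgSp.yon S).map_surjective fst'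
  haveI : Etale snd.left := hqe.2 _ _ snd sq
  haveI : Surjective snd.left := hqs.2 _ _ snd sq
  haveI : Etale fst.left := ha.2 _ _ fst sq.flip
  haveI : IsLocallyNoetherian V.left := hV
  haveI : IsLocallyNoetherian W.left := LocallyOfFiniteType.isLocallyNoetherian fst.left
  exact Groth.Agent.Lib.Helper12.NoethDescent.isLocallyNoetherian_of_flat_lfp_surjective snd.left

/-- **no specializations in the fibres of an etale chart of a locally Noetherian space.** -/
theorem eq_of_specializes_of_isLocNoethSp {X : AlgSp.Sp S} (hX : AlgSp.IsLocNoethSp X)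
    {U : Over S} (a : (AlgSp.yon S).obj U ⟶ X) (ha : AlgSp.RepWith @Etale a) (u u' : ↥U.left)
    (he : AlgSp.Points.ofPt a u = AlgSp.Points.ofPt a u') (hs : u' ⤳ u) : u = u' := by
  haveI := isLocallyNoetherian_of_chart hX a ha
  exact eq_of_specializes_of_min a ha u u' he hs
    (fun G hG hGu => exists_min_of_isLocallyNoetherian u G hG (fun v hv => (hGu hv).1))

end Groth.Agent.Lib.Helper12.FibreSpec
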