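import Groth.Agent.Lib.Helper28Reflexive

/-!
# Depth library, part 11 (helper28): bijectivity from local bijectivity or depth `≥ 2`
(Stacks 0AV9 style), localization of reflexive modules, reflexivity criterion over a domain
-/

set_option autoImplicit false
universe u v w
open RingTheory.Sequence
open scoped Pointwise

namespace Groth.Agent.Lib.Helper28

section BijDepthTwo

/-- Key elementwise lemma: if `ψ : P → Q` is injective, `[x, y]` is `P`-regular in `J`,
and `n₀ ∉ range ψ` but `J n₀ ⊆ range ψ`, then `Q` has a nonzero element killed by `J`. -/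
theorem exists_ne_zero_forall_smul_eq_zero_of_isWeaklyRegular {B : Type u} [CommRing B]
    {P : Type v} {Q : Type w} [AddCommGroup P] [Module B P] [AddCommGroup Q] [Module B Q]
    (J : Ideal B) (ψ : P →ₗ[B] Q) (hψ : Function.Injective ψ) {x y : B} (hx : x ∈ J)
    (hy : y ∈ J) (hreg : IsWeaklyRegular P [x, y]) (n₀ : Q) (hn₀ : n₀ ∉ LinearMap.range ψ)
    (hJ : ∀ z ∈ J, z • n₀ ∈ LinearMap.range ψ) :
    ∃ n' : Q, n' ≠ 0 ∧ ∀ z ∈ J, z • n' = 0 := by
  rw [isWeaklyRegular_cons_iff] at hreg
  obtain ⟨hxreg, hreg2⟩ := hreg
  rw [isWeaklyRegular_cons_iff] at hreg2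
  have hyreg := hreg2.1
  obtain ⟨a, ha⟩ := hJ x hx
  obtain ⟨b, hb⟩ := hJ y hy
  have hab : y • a = x • b := by
    apply hψ
    rw [map_smul, map_smul, ha, hb, smul_comm]
  have hmk : (Submodule.Quotient.mk a : QuotSMulTop x P) = 0 := by
    apply hyreg
    simp only [smul_zero]
    rw [← Submodule.Quotient.mk_smul, hab, Submodule.Quotient.mk_eq_zero]
    exact Submodule.smul_mem_pointwise_smul b x ⊤ Submodule.mem_top
  rw [Submodule.Quotient.mk_eq_zero, Submodule.mem_smul_pointwise_iff_exists] at hmk
  obtain ⟨a', -, ha'⟩ := hmk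
  refine ⟨n₀ - ψ a', ?_, ?_⟩
  · intro h0
    exact hn₀ ⟨a', (sub_eq_zero.mp h0).symm⟩
  · have hxn : x • (n₀ - ψ a') = 0 := by
      rw [smul_sub, ← map_smul, ha', ha, sub_self]
    intro z hz
    obtain ⟨c, hc⟩ := hJ z hz
    have hc' : ψ (c - z • a') = z • (n₀ - ψ a') := by
      rw [map_sub, map_smul, hc, smul_sub]
    have h0 : c - z • a' = 0 := by
      apply hxreg
      simp only [smul_zero]
      apply hψ
      rw [map_smul, hc', smul_comm, hxn, smul_zero, map_zero]
    rw [← hc', h0, map_zero]

theorem exists_isWeaklyRegular_of_natCast_le_idealDepth {R : Type u} [CommRing R] {M : Type v}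
    [AddCommGroup M] [Module R M] [Module.Finite R M] (I : Ideal R) (n : ℕ)
    (h : (n : ℕ∞) ≤ LocCoh.idealDepth I M) :
    ∃ rs : List R, rs.length = n ∧ (∀ r ∈ rs, r ∈ I) ∧ IsWeaklyRegular M rs := by
  by_cases hIM : I • (⊤ : Submodule R M) = ⊤
  · obtain ⟨c, hc1, hc2⟩ := Submodule.exists_sub_one_mem_and_smul_eq_zero_of_fg_of_le_smul I
      (⊤ : Submodule R M) Module.Finite.fg_top (le_of_eq hIM.symm)
    have ha : (1 - c) ∈ I := by
      have := I.neg_mem hc1
      rwa [neg_sub] at this
    have hact : ∀ m : M, (1 - c) • m = m := by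
      intro m
      rw [sub_smul, one_smul, hc2 m Submodule.mem_top, sub_zero]
    refine ⟨List.replicate n (1 - c), List.length_replicate, ?_,
      isWeaklyRegular_replicate_of_smul_eq hact n⟩
    intro r hr
    rw [List.eq_of_mem_replicate hr]
    exact ha
  · obtain ⟨rs, hlen, hmem, hreg⟩ := (natCast_le_idealDepth_iff hIM n).mp h
    exact ⟨rs, hlen, hmem, hreg.toIsWeaklyRegular⟩

variable {R : Type u} [CommRing R] [IsNoetherianRing R]

/-- Stacks 0AV9 style: a map that is locally bijective, or has source of depth `≥ 2` at a prime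
which is not associated to the target, is bijective. -/
theorem bijective_of_localization_depth_two {M : Type v} {N : Type w} [AddCommGroup M]
    [Module R M] [Module.Finite R M] [AddCommGroup N] [Module R N] (φ : M →ₗ[R] N)
    (h : ∀ (p : Ideal R) [p.IsPrime],
      Function.Bijective (LocalizedModule.map p.primeCompl φ) ∨
        (2 ≤ LocCoh.depth (Localization.AtPrime p) (LocalizedModule p.primeCompl M) ∧
          p ∉ associatedPrimes R N)) :
    Function.Bijective φ := by
  have hinj : Function.Injective φ := by
    rw [injective_iff_map_eq_zero]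
    intro k hk
    by_contra hk0
    obtain ⟨p, hpass, hle⟩ := exists_le_isAssociatedPrime_of_isNoetherianRing R k hk0
    have := hpass.isPrime
    rcases h p with hb | ⟨hd, -⟩
    · have h1 : LocalizedModule.map p.primeCompl φ (LocalizedModule.mk k 1) = 0 := by
        rw [LocalizedModule.map_mk, hk, LocalizedModule.zero_mk]
      have h2 : (LocalizedModule.mk k 1 : LocalizedModule p.primeCompl M) = 0 :=
        hb.1 (by rw [h1, map_zero])
      rw [← LocalizedModule.zero_mk (1 : p.primeCompl), LocalizedModule.mk_eq] at h2
      obtain ⟨s, hs⟩ := h2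
      simp only [Submonoid.smul_def, one_smul, smul_zero] at hs
      have : (s : R) ∈ p := hle (by
        rw [Submodule.mem_colon_singleton, Submodule.mem_bot]; exact hs)
      exact s.2 this
    · have h0 := (depth_localization_eq_zero_iff (M := M) p).mpr hpass
      rw [h0] at hd
      exact absurd hd (by norm_num)
  refine ⟨hinj, ?_⟩
  by_contra hsurj
  have hne : ∃ n : N, n ∉ LinearMap.range φ := by
    by_contra hall
    push Not at hall
    exact hsurj fun n => hall n
  obtain ⟨n, hn⟩ := hne
  have hq : (LinearMap.range φ).mkQ n ≠ 0 := fun h0 =>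
    hn ((Submodule.Quotient.mk_eq_zero _).mp h0)
  obtain ⟨p, hpass, -⟩ := exists_le_isAssociatedPrime_of_isNoetherianRing R _ hq
  have := hpass.isPrime
  obtain ⟨-, q', hq'⟩ := isAssociatedPrime_iff.mp hpass
  obtain ⟨n', rfl⟩ := Submodule.mkQ_surjective _ q'
  have hmem : ∀ a : R, a ∈ p ↔ a • n' ∈ LinearMap.range φ := by
    intro a
    rw [hq', Submodule.mem_colon_singleton, Submodule.mem_bot, ← map_smul,
      Submodule.mkQ_apply, Submodule.Quotient.mk_eq_zero]
  -- `n'/1` is not in the range of the localized map
  have hn0 : (LocalizedModule.mk n' 1 : LocalizedModule p.primeCompl N) ∉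
      LinearMap.range (LocalizedModule.map p.primeCompl φ) := by
    rintro ⟨z, hz⟩
    induction z using LocalizedModule.induction_on with
    | h m s =>
      rw [LocalizedModule.map_mk, LocalizedModule.mk_eq] at hz
      obtain ⟨u, hu⟩ := hz
      have : ((u * s : p.primeCompl) : R) ∈ p := by
        rw [hmem]
        refine ⟨(u : R) • m, ?_⟩
        simp only [Submonoid.smul_def, one_smul] at hu
        rw [map_smul, Submonoid.coe_mul, mul_smul]
        exact hu
      exact (u * s).2 this
  rcases h p with hb | ⟨hd, hnot⟩
  · exact hn0 (LinearMap.range_eq_top.mpr hb.2 ▸ Submodule.mem_top)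
  · apply hnot
    rw [← maximalIdeal_mem_associatedPrimes_localization_iff (M := N) p]
    have h2 : ((2 : ℕ) : ℕ∞) ≤ LocCoh.depth (Localization.AtPrime p)
        (LocalizedModule p.primeCompl M) := by simpa using hd
    obtain ⟨rs, hlen, hrs, hreg⟩ := exists_isWeaklyRegular_of_natCast_le_idealDepth _ 2 h2
    obtain ⟨x, y, rfl⟩ : ∃ x y, rs = [x, y] := by
      match rs, hlen with
      | [x, y], _ => exact ⟨x, y, rfl⟩
    have hJ : ∀ z ∈ IsLocalRing.maximalIdeal (Localization.AtPrime p),
        z • (LocalizedModule.mk n' 1 : LocalizedModule p.primeCompl N) ∈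
          LinearMap.range (LocalizedModule.map p.primeCompl φ) := by
      intro z hz
      induction z using Localization.induction_on with
      | H y =>
        obtain ⟨a, s⟩ := y
        rw [Localization.mk_eq_mk',
          IsLocalization.AtPrime.mk'_mem_maximal_iff (Localization.AtPrime p) p] at hz
        obtain ⟨m, hm⟩ := (hmem a).mp hz
        refine ⟨LocalizedModule.mk m s, ?_⟩
        rw [LocalizedModule.map_mk, hm, LocalizedModule.mk_smul_mk, mul_one]
    obtain ⟨n'', hn''0, hn''⟩ := exists_ne_zero_forall_smul_eq_zero_of_isWeaklyRegular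
      (IsLocalRing.maximalIdeal (Localization.AtPrime p)) (LocalizedModule.map p.primeCompl φ)
      (LocalizedModule.map_injective _ _ hinj) (hrs x (by simp)) (hrs y (by simp)) hreg _ hn0 hJ
    rw [AssociatedPrimes.mem_iff, isAssociatedPrime_iff]
    refine ⟨inferInstance, n'', le_antisymm ?_ ?_⟩
    · intro z hz
      rw [Submodule.mem_colon_singleton, Submodule.mem_bot]
      exact hn'' z hz
    · apply IsLocalRing.le_maximalIdeal
      intro htop
      have : (1 : Localization.AtPrime p) ∈ (⊥ : Submodule _ _).colon {n''} := by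
        rw [htop]; exact Submodule.mem_top
      rw [Submodule.mem_colon_singleton, Submodule.mem_bot, one_smul] at this
      exact hn''0 this

end BijDepthTwo

section ReflexiveLocal

variable {A : Type u} [CommRing A] [IsNoetherianRing A] (p : Ideal A) [p.IsPrime]
  (G : Type v) [AddCommGroup G] [Module A G] [Module.Finite A G]

/-- Localization of a reflexive module is reflexive. -/
theorem isReflexive_localization [Module.IsReflexive A G] :
    Module.IsReflexive (Localization.AtPrime p) (LocalizedModule p.primeCompl G) := by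
  have h := map_eval_eq p G
  have hbij := Module.bijective_dual_eval A G
  have hcoe : ⇑(Module.Dual.eval (Localization.AtPrime p) (LocalizedModule p.primeCompl G)) =
      ⇑(IsLocalizedModule.map p.primeCompl (LocalizedModule.mkLinearMap p.primeCompl G)
        (dualDualLoc p G) (Module.Dual.eval A G)) := by
    rw [h]; rfl
  refine ⟨?_⟩
  rw [hcoe]
  exact ⟨IsLocalizedModule.map_injective _ _ _ _ hbij.1,
    IsLocalizedModule.map_surjective _ _ _ _ hbij.2⟩

/-- If `G_p` is reflexive then the localization of `eval` at `p` is bijective. -/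
theorem bijective_localizedModule_map_eval
    [Module.IsReflexive (Localization.AtPrime p) (LocalizedModule p.primeCompl G)] :
    Function.Bijective (LocalizedModule.map p.primeCompl (Module.Dual.eval A G)) := by
  constructor
  · rw [injective_iff_map_eq_zero]
    intro z hz
    induction z using LocalizedModule.induction_on with
    | h m s =>
      rw [LocalizedModule.map_mk, ← LocalizedModule.zero_mk s, LocalizedModule.mk_eq] at hz
      obtain ⟨t, ht⟩ := hz
      simp only [Submonoid.smul_def, smul_zero, ← mul_smul] at ht
      rw [← map_smul] at ht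
      obtain ⟨s', hs', hs'm⟩ := exists_smul_eq_zero_of_eval_eq_zero p G _ ht
      rw [← LocalizedModule.zero_mk s, LocalizedModule.mk_eq]
      refine ⟨⟨s', hs'⟩ * (t * s), ?_⟩
      simp only [Submonoid.smul_def, smul_zero, Submonoid.coe_mul, ← mul_smul] at hs'm ⊢
      rw [mul_comm, mul_smul, hs'm, smul_zero]
  · intro z
    induction z using LocalizedModule.induction_on with
    | h y s =>
      obtain ⟨t, ht, x, hx⟩ := exists_smul_mem_range_eval p G y
      refine ⟨LocalizedModule.mk x (⟨t, ht⟩ * s), ?_⟩
      rw [LocalizedModule.map_mk, hx, LocalizedModule.mk_eq]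
      refine ⟨1, ?_⟩
      simp only [Submonoid.smul_def, one_smul, mul_smul]
      exact smul_comm _ _ _

end ReflexiveLocal

section ReflexiveDomain

variable {R : Type u} [CommRing R] [IsDomain R] [IsNoetherianRing R]

/-- Over a domain, the only possible associated prime of a dual module is `⊥`. -/
theorem eq_bot_of_mem_associatedPrimes_dual {X : Type v} [AddCommGroup X] [Module R X]
    {p : Ideal R} (hp : p ∈ associatedPrimes R (Module.Dual R X)) : p = ⊥ := by
  obtain ⟨hprime, ψ, hψ⟩ := isAssociatedPrime_iff.mp hp
  rw [hψ, eq_bot_iff]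
  intro a ha
  rw [Submodule.mem_colon_singleton, Submodule.mem_bot] at ha
  rw [Submodule.mem_bot]
  by_contra ha0
  have hψ0 : ψ = 0 := by
    ext x
    have := LinearMap.congr_fun ha x
    simp only [LinearMap.smul_apply, smul_eq_mul, LinearMap.zero_apply, mul_eq_zero] at this
    rcases this with h | h
    · exact absurd h ha0
    · simpa using h
  apply hprime.ne_top
  rw [hψ, hψ0, eq_top_iff]
  intro b _
  rw [Submodule.mem_colon_singleton, smul_zero]
  exact Submodule.zero_mem _

theorem isReflexive_of_subsingleton (B : Type u) [CommRing B] (X : Type v) [AddCommGroup X]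
    [Module B X] [Subsingleton X] : Module.IsReflexive B X := by
  refine ⟨⟨fun a b _ => Subsingleton.elim a b, fun y => ⟨0, ?_⟩⟩⟩
  have : Subsingleton (Module.Dual B X) := ⟨fun a b => LinearMap.ext fun x => by
    rw [Subsingleton.elim x 0, map_zero, map_zero]⟩
  exact LinearMap.ext fun x => by rw [Subsingleton.elim x 0, map_zero, map_zero]

/-- At the zero ideal of a domain, depth `≥ 2` forces the localized module to vanish. -/
theorem subsingleton_localization_bot_of_two_le_depth (M : Type v) [AddCommGroup M]
    [Module R M] [Module.Finite R M]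
    (hd : 2 ≤ LocCoh.depth (Localization.AtPrime (⊥ : Ideal R))
      (LocalizedModule (⊥ : Ideal R).primeCompl M)) :
    Subsingleton (LocalizedModule (⊥ : Ideal R).primeCompl M) := by
  by_contra hns
  rw [not_subsingleton_iff_nontrivial] at hns
  have h1 := depth_le_supportDim (R := Localization.AtPrime (⊥ : Ideal R))
    (M := LocalizedModule (⊥ : Ideal R).primeCompl M)
  have h2 := Module.supportDim_le_ringKrullDim (Localization.AtPrime (⊥ : Ideal R))
    (LocalizedModule (⊥ : Ideal R).primeCompl M)
  rw [IsLocalization.AtPrime.ringKrullDim_eq_height (⊥ : Ideal R)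
    (Localization.AtPrime (⊥ : Ideal R))] at h2
  have h3 : (⊥ : Ideal R).height = 0 := Ideal.height_bot
  rw [h3] at h2
  have h4 := h1.trans h2
  have h5 : LocCoh.depth (Localization.AtPrime (⊥ : Ideal R))
      (LocalizedModule (⊥ : Ideal R).primeCompl M) ≤ 0 := by exact_mod_cast h4
  exact absurd (hd.trans h5) (by norm_num)

theorem isReflexive_iff_forall_localization_or_depth_ge_two (M : Type u) [AddCommGroup M]
    [Module R M] [Module.Finite R M] :
    Module.IsReflexive R M ↔ ∀ (p : Ideal R) [p.IsPrime],
      Module.IsReflexive (Localization.AtPrime p) (LocalizedModule p.primeCompl M) ∨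
        2 ≤ LocCoh.depth (Localization.AtPrime p) (LocalizedModule p.primeCompl M) := by
  constructor
  · intro hR p _
    exact Or.inl (isReflexive_localization p M)
  · intro h
    refine ⟨bijective_of_localization_depth_two (Module.Dual.eval R M) ?_⟩
    intro p _
    rcases h p with hr | hd
    · exact Or.inl (bijective_localizedModule_map_eval p M)
    · by_cases hp : p = ⊥
      · subst hp
        have := subsingleton_localization_bot_of_two_le_depth M hd
        have := isReflexive_of_subsingleton (Localization.AtPrime (⊥ : Ideal R))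
          (LocalizedModule (⊥ : Ideal R).primeCompl M)
        exact Or.inl (bijective_localizedModule_map_eval ⊥ M)
      · exact Or.inr ⟨hd, fun hmem => hp (eq_bot_of_mem_associatedPrimes_dual hmem)⟩

end ReflexiveDomain

end Groth.Agent.Lib.Helper28
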