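import Mathlib

/-! Bridge: vanishing of `Abelian.Ext` implies vanishing of the left-derived `Ext` functor
(helper29). -/

set_option autoImplicit false
open CategoryTheory CategoryTheory.Limits Opposite

namespace Groth.Agent.Lib.Helper29ExtBridge

universe u
variable {R : Type u} [CommRing R]

/-- If the derived-category `Ext^{n+1}(X, Y)` vanishes then so does Mathlib's `Ext` functor (left
derived functor of `Hom(-, Y)`) at `(X, Y)`. -/
theorem isZero_Ext_of_subsingleton (X Y : ModuleCat.{u} R) (n : ℕ)
    [Subsingleton (Abelian.Ext.{u} X Y (n + 1))] :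
    IsZero (((Ext R (ModuleCat.{u} R) (n + 1)).obj (op X)).obj Y) := by
  let P : ProjectiveResolution X := projectiveResolution X
  refine IsZero.of_iso ?_ (P.isoExt (n + 1) Y)
  rw [← HomologicalComplex.exactAt_iff_isZero_homology,
    HomologicalComplex.exactAt_iff' _ n (n + 1) (n + 2) (by simp) (by simp),
    ShortComplex.moduleCat_exact_iff]
  intro f hf
  change (P.complex.X (n + 1) ⟶ Y) at f
  have hf' : P.complex.d (n + 2) (n + 1) ≫ f = 0 := hf
  have h0 : P.extMk f (n + 2) rfl hf' = 0 := Subsingleton.elim _ _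
  obtain ⟨g, hg⟩ := (P.extMk_eq_zero_iff f (n + 2) rfl hf' n rfl).mp h0
  exact ⟨g, hg⟩

end Groth.Agent.Lib.Helper29ExtBridge
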