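import Mathlib

/-! `Abelian.Ext` in `ModuleCat` along short exact sequences given by linear maps (helper29):
vanishing by dimension shifting in the first variable, and the connecting isomorphism in the second
variable. -/

set_option autoImplicit false
open CategoryTheory CategoryTheory.Abelian

namespace Groth.Agent.Lib.Helper29ExtSes

universe u

variable {A : Type u} [CommRing A]
variable {K M Q Y : Type u} [AddCommGroup K] [Module A K] [AddCommGroup M] [Module A M]
  [AddCommGroup Q] [Module A Q] [AddCommGroup Y] [Module A Y]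
variable (f : K →ₗ[A] M) (g : M →ₗ[A] Q)

/-- The short complex `K → M → Q`. -/
noncomputable abbrev ses (hex : Function.Exact f g) : ShortComplex (ModuleCat.{u} A) :=
  ShortComplex.mk (ModuleCat.ofHom f) (ModuleCat.ofHom g) (by
    ext x
    exact hex.apply_apply_eq_zero x)

theorem ses_shortExact (hf : Function.Injective f) (hg : Function.Surjective g)
    (hex : Function.Exact f g) : (ses f g hex).ShortExact :=
  ShortComplex.ShortExact.mk' ((ShortComplex.moduleCat_exact_iff _).mpr fun x hx => (hex x).mp hx)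
    ((ModuleCat.mono_iff_injective _).mpr hf) ((ModuleCat.epi_iff_surjective _).mpr hg)

variable (hf : Function.Injective f) (hg : Function.Surjective g) (hex : Function.Exact f g)

include hf hg hex in
/-- If `Ext^i(K, Y)` and `Ext^i(Q, Y)` vanish, so does `Ext^i(M, Y)`. -/
theorem subsingleton_of_ses (i : ℕ)
    (h1 : Subsingleton (Ext.{u} (ModuleCat.of A K) (ModuleCat.of A Y) i))
    (h3 : Subsingleton (Ext.{u} (ModuleCat.of A Q) (ModuleCat.of A Y) i)) :
    Subsingleton (Ext.{u} (ModuleCat.of A M) (ModuleCat.of A Y) i) := by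
  have hS := ses_shortExact f g hf hg hex
  suffices ∀ x : Ext.{u} (ModuleCat.of A M) (ModuleCat.of A Y) i, x = 0 from
    ⟨fun x y => by rw [this x, this y]⟩
  intro x
  obtain ⟨x₁, hx₁⟩ := Ext.contravariant_sequence_exact₂ hS (ModuleCat.of A Y) x
    (Subsingleton.elim (α := Ext.{u} (ModuleCat.of A K) (ModuleCat.of A Y) i) _ _)
  have hx0 : x₁ = 0 :=
    Subsingleton.elim (α := Ext.{u} (ModuleCat.of A Q) (ModuleCat.of A Y) i) _ _
  rw [← hx₁, hx0, Ext.comp_zero]

include hf hg hex in
/-- `Ext^1(Q, Y) = 0` if `M` is projective and every map `K → Y` extends to `M`. -/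
theorem subsingleton_one_of_extends [Module.Projective A M]
    (hext : ∀ φ : K →ₗ[A] Y, ∃ ψ : M →ₗ[A] Y, ψ ∘ₗ f = φ) :
    Subsingleton (Ext.{u} (ModuleCat.of A Q) (ModuleCat.of A Y) 1) := by
  have hS := ses_shortExact f g hf hg hex
  have : Projective (ModuleCat.of A M) := (IsProjective.iff_projective.{u, u} M).mp inferInstance
  suffices ∀ x : Ext.{u} (ModuleCat.of A Q) (ModuleCat.of A Y) 1, x = 0 from
    ⟨fun x y => by rw [this x, this y]⟩
  intro x
  obtain ⟨x₁, hx₁⟩ := Ext.contravariant_sequence_exact₃ hS (ModuleCat.of A Y) x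
    (Ext.eq_zero_of_projective _) (n₀ := 0) rfl
  obtain ⟨φ, rfl⟩ := (Ext.mk₀_bijective _ _).2 x₁
  obtain ⟨ψ, hψ⟩ := hext φ.hom
  have hφ : φ = (ses f g hex).f ≫ ModuleCat.ofHom ψ := by
    ext : 1
    exact hψ.symm
  rw [← hx₁, hφ, ← Ext.mk₀_comp_mk₀]
  exact hS.extClass_comp_assoc _

include hf hg hex in
/-- Dimension shifting: `Ext^{i+1}(Q, Y) = 0` if `M` is projective and `Ext^i(K, Y) = 0`. -/
theorem subsingleton_succ_of_ker [Module.Projective A M] (i : ℕ)
    (h1 : Subsingleton (Ext.{u} (ModuleCat.of A K) (ModuleCat.of A Y) i)) :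
    Subsingleton (Ext.{u} (ModuleCat.of A Q) (ModuleCat.of A Y) (i + 1)) := by
  have hS := ses_shortExact f g hf hg hex
  have : Projective (ModuleCat.of A M) := (IsProjective.iff_projective.{u, u} M).mp inferInstance
  suffices ∀ x : Ext.{u} (ModuleCat.of A Q) (ModuleCat.of A Y) (i + 1), x = 0 from
    ⟨fun x y => by rw [this x, this y]⟩
  intro x
  obtain ⟨x₁, hx₁⟩ := Ext.contravariant_sequence_exact₃ hS (ModuleCat.of A Y) x
    (Ext.eq_zero_of_projective _) (n₀ := i) (add_comm 1 i)
  have hx0 : x₁ = 0 :=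
    Subsingleton.elim (α := Ext.{u} (ModuleCat.of A K) (ModuleCat.of A Y) i) _ _
  rw [← hx₁, hx0, Ext.comp_zero]

include hf hg hex in
/-- The connecting map `Ext^i(T, Q) → Ext^{i+1}(T, K)` is bijective when the higher `Ext(T, M)`
vanish and every map `T → M` dies in `Q`. -/
theorem postcomp_extClass_bijective (T : ModuleCat.{u} A)
    (h1 : ∀ (i : ℕ) (x : Ext.{u} T (ModuleCat.of A M) (i + 1)), x = 0)
    (h2 : ∀ φ : T ⟶ ModuleCat.of A M, φ ≫ ModuleCat.ofHom g = 0) (i : ℕ) :
    Function.Bijective (Ext.postcompOfLinear (ses_shortExact f g hf hg hex).extClass A T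
      (rfl : i + 1 = i + 1)) := by
  have hS := ses_shortExact f g hf hg hex
  constructor
  · rw [injective_iff_map_eq_zero]
    intro x hx
    have hx' : x.comp hS.extClass rfl = 0 := hx
    obtain ⟨y, hy⟩ := Ext.covariant_sequence_exact₃ T hS x rfl hx'
    cases i with
    | zero =>
      obtain ⟨φ, rfl⟩ := (Ext.mk₀_bijective _ _).2 y
      rw [← hy, Ext.mk₀_comp_mk₀]
      have : φ ≫ (ses f g hex).g = 0 := h2 φ
      rw [this, Ext.mk₀_zero]
    | succ i =>
      rw [← hy, h1 i y, Ext.zero_comp]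
  · intro z
    obtain ⟨x, hx⟩ := Ext.covariant_sequence_exact₁ T hS z (h1 i _) rfl
    exact ⟨x, hx⟩

include hf hg hex in
theorem length_ext_shift (T : ModuleCat.{u} A)
    (h1 : ∀ (i : ℕ) (x : Ext.{u} T (ModuleCat.of A M) (i + 1)), x = 0)
    (h2 : ∀ φ : T ⟶ ModuleCat.of A M, φ ≫ ModuleCat.ofHom g = 0) (i : ℕ) :
    Module.length A (Ext.{u} T (ModuleCat.of A Q) i) =
      Module.length A (Ext.{u} T (ModuleCat.of A K) (i + 1)) :=
  (LinearEquiv.ofBijective _ (postcomp_extClass_bijective f g hf hg hex T h1 h2 i)).length_eq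

/-- Vanishing of `Ext` transfers along an isomorphism in the first variable. -/
theorem ext_eq_zero_of_iso {X X' Y : ModuleCat.{u} A} (e : X ≅ X') (i : ℕ)
    (h : Subsingleton (Ext.{u} X Y i)) (x : Ext.{u} X' Y i) : x = 0 := by
  have h1 : (Ext.mk₀ e.inv).comp ((Ext.mk₀ e.hom).comp x (zero_add i)) (zero_add i) = x := by
    rw [Ext.mk₀_comp_mk₀_assoc, e.inv_hom_id, Ext.mk₀_id_comp]
  rw [← h1, Subsingleton.elim ((Ext.mk₀ e.hom).comp x (zero_add i)) 0, Ext.comp_zero]

end Groth.Agent.Lib.Helper29ExtSes
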