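import Groth.Agent.Lib.Helper8FG

set_option autoImplicit false
universe u
open CategoryTheory CategoryTheory.Limits Opposite

/-! Cohomological dimension: bounds and reduction to the ring. -/

namespace Groth.Agent.Lib.Helper8.Cd

open Groth.Agent.Lib.Helper8.ExtLES Groth.Agent.Lib.Helper8.LC Groth.Agent.Lib.Helper8.MV
  Groth.Agent.Lib.Helper8.LocLES Groth.Agent.Lib.Helper8.GV Groth.Agent.Lib.Helper8.Acyc
  Groth.Agent.Lib.Helper8.CdDim Groth.Agent.Lib.Helper8.FG

variable {R : Type u} [CommRing R]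

/-- `H^j_a` vanishes on all modules for `j > t`. -/
def Bound (a : Ideal R) (t : ℕ) : Prop :=
  ∀ (M : Type u) [AddCommGroup M] [Module R M] (j : ℕ), t < j → ∀ x : LocCoh.H a j M, x = 0

theorem bound_iff_cdLE (a : Ideal R) (t : ℕ) : Bound a t ↔ LocCoh.CdLE R a t := by
  constructor
  · intro h M _ _ j hj
    exact ⟨fun x y => (h M j hj x).trans (h M j hj y).symm⟩
  · intro h M _ _ j hj x
    have := h M j hj
    exact Subsingleton.elim _ _

variable [IsNoetherianRing R]

theorem bound_sup_singleton (a : Ideal R) (b : R) (t : ℕ) (h : Bound a t) :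
    Bound (a ⊔ Ideal.span {b}) (t + 1) := by
  intro M _ _ j hj x
  obtain ⟨j', rfl⟩ : ∃ j', j = j' + 1 := ⟨j - 1, by omega⟩
  obtain ⟨δ, hδ1, hδ2⟩ := les_δ b a j' (ModuleCat.of R M)
  obtain ⟨y, rfl⟩ := (hδ2 x).mp (h M (j' + 1) (by omega) _)
  rw [h (LocalizedModule (Submonoid.powers b) M) j' (by omega) y, map_zero]

theorem bound_bot : Bound (⊥ : Ideal R) 0 := by
  intro M _ _ j hj x
  obtain ⟨j', rfl⟩ : ∃ j', j = j' + 1 := ⟨j - 1, by omega⟩
  have := H_bot_succ (R := R) M j'
  exact Subsingleton.elim _ _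

theorem exists_bound_sup (J : Ideal R) (hJ : J.FG) :
    ∀ (a : Ideal R) (t : ℕ), Bound a t → ∀ a' : Ideal R, a' = a ⊔ J → ∃ t', Bound a' t' := by
  refine Submodule.fg_induction (motive := fun (J : Ideal R) _ => ∀ (a : Ideal R) (t : ℕ),
    Bound a t → ∀ a' : Ideal R, a' = a ⊔ J → ∃ t', Bound a' t') ?_ ?_ J hJ
  · intro b a t h a' heq
    subst heq
    exact ⟨t + 1, bound_sup_singleton a b t h⟩
  · intro J₁ J₂ _ _ ih₁ ih₂ a t h a' heq
    obtain ⟨t₁, h₁⟩ := ih₁ a t h (a ⊔ J₁) rfl
    exact ih₂ (a ⊔ J₁) t₁ h₁ a' (by rw [heq, sup_assoc])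

theorem exists_bound (I : Ideal R) : ∃ t, Bound I t :=
  exists_bound_sup I (IsNoetherian.noetherian I) ⊥ 0 bound_bot I (by rw [bot_sup_eq])

omit [IsNoetherianRing R] in
/-- If `H^i_I(N) = 0` for all `i > d` for `N = R`, and `H^{i+1}_I` vanishes on all modules, then
`H^i_I` vanishes on finitely generated modules. -/
theorem eq_zero_of_fg_of_ring (I : Ideal R) (i : ℕ)
    (hR : ∀ x : LocCoh.H I i R, x = 0)
    (hsucc : ∀ (K : Type u) [AddCommGroup K] [Module R K] (y : LocCoh.H I (i + 1) K), y = 0)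
    (M : Type u) [AddCommGroup M] [Module R M] [Module.Finite R M] (x : LocCoh.H I i M) :
    x = 0 := by
  obtain ⟨r, π, hπ⟩ := Module.Finite.exists_fin' R M
  have hex : Function.Exact (LinearMap.ker π).subtype π := LinearMap.exact_subtype_ker_map π
  have hS := Sfg_shortExact (LinearMap.ker π).subtype π (Submodule.injective_subtype _) hπ hex
  obtain ⟨y, rfl⟩ := H_exact₃ I i _ hS x (hsucc _ _)
  have hy : y = 0 := H_pi_eq_zero I i r hR y
  rw [hy, map_zero]

theorem bound_of_ring (I : Ideal R) (d : ℕ) (h : ∀ i : ℕ, d < i → ∀ x : LocCoh.H I i R, x = 0) :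
    Bound I d := by
  obtain ⟨t, ht⟩ := exists_bound I
  have key : ∀ k i : ℕ, d < i → t < i + k →
      ∀ (M : Type u) [AddCommGroup M] [Module R M] (x : LocCoh.H I i M), x = 0 := by
    intro k
    induction k with
    | zero =>
      intro i _ hti M _ _ x
      exact ht M i (by omega) x
    | succ k ih =>
      intro i hdi hti M _ _ x
      refine eq_zero_of_fg I i ?_ M x
      intro N _ _ _ y
      exact eq_zero_of_fg_of_ring I i (h i hdi)
        (fun K _ _ z => ih (i + 1) (by omega) (by omega) K z) N y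
  intro M _ _ j hj x
  exact key (t + 1) j hj (by omega) M x

end Groth.Agent.Lib.Helper8.Cd
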