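import Groth.Agent.Lib.Helper8LC3
import Groth.Agent.Lib.Helper28Depth
import Groth.Agent.S11610

set_option autoImplicit false
universe u
open CategoryTheory CategoryTheory.Limits Opposite Pointwise

namespace Groth.Agent.Lib.Helper8.LC

open Groth.Agent.Lib.Helper8.ExtLES Groth.Agent.Lib.Helper28

variable {R : Type u} [CommRing R] (I : Ideal R)

theorem ofHom_lsmul (M : Type u) [AddCommGroup M] [Module R M] (x : R) :
    ModuleCat.ofHom (LinearMap.lsmul R M x) = x • 𝟙 (ModuleCat.of R M) := by
  apply ModuleCat.hom_ext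
  apply LinearMap.ext
  intro m
  rfl

theorem H_map_lsmul (i : ℕ) (M : Type u) [AddCommGroup M] [Module R M] (x : R)
    (y : (localCohomology I i).obj (ModuleCat.of R M)) :
    (localCohomology I i).map (ModuleCat.ofHom (LinearMap.lsmul R M x)) y = x • y := by
  rw [ofHom_lsmul, Groth.Agent.Lib.Helper16.LocCohLinear.localCohomology_map_smul]
  rfl

/-- If `x ∈ I` acts injectively on `H^i_I(M)` then `H^i_I(M) = 0`. -/
theorem H_eq_zero_of_smul_injective (i : ℕ) (M : ModuleCat.{u} R) (x : R) (hx : x ∈ I)
    (hinj : ∀ y : (localCohomology I i).obj M, x • y = 0 → y = 0)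
    (y : (localCohomology I i).obj M) : y = 0 := by
  obtain ⟨k, hk⟩ := isPowerTorsion_H I i M y
  have h1 : x ^ k • y = 0 := hk _ (Ideal.pow_mem_pow hx k)
  clear hk
  induction k with
  | zero => simpa using h1
  | succ k ih =>
    apply ih
    apply hinj
    rw [← mul_smul, ← pow_succ']
    exact h1

section Depth

variable [IsNoetherianRing R]

/-- Vanishing of local cohomology below the depth. -/
theorem H_eq_zero_of_lt_depth (n : ℕ) :
    ∀ (M : Type u) [AddCommGroup M] [Module R M] [Module.Finite R M],
      I • (⊤ : Submodule R M) ≠ ⊤ → (n : ℕ∞) ≤ LocCoh.idealDepth I M →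
      ∀ i < n, ∀ y : (localCohomology I i).obj (ModuleCat.of R M), y = 0 := by
  induction n with
  | zero => intro M _ _ _ _ _ i hi; omega
  | succ n ih =>
    intro M _ _ _ hIM hdepth i hi y
    have h1 : (1 : ℕ∞) ≤ LocCoh.idealDepth I M := by
      refine le_trans ?_ hdepth
      exact_mod_cast Nat.succ_le_succ (Nat.zero_le n)
    obtain ⟨x, hx, hreg⟩ := (one_le_idealDepth_iff hIM).mp h1
    have hIM' := smul_top_quotSMulTop_ne_top hx hIM
    have hd := idealDepth_quotSMulTop_add_one I M hIM x hx hreg
    have hn' : (n : ℕ∞) ≤ LocCoh.idealDepth I (QuotSMulTop x M) := by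
      rw [← hd, Nat.cast_add, Nat.cast_one] at hdepth
      exact (ENat.add_le_add_iff_right ENat.one_ne_top).mp hdepth
    have hf : Function.Injective (LinearMap.lsmul R M x) := hreg
    have hg : Function.Surjective (x • (⊤ : Submodule R M)).mkQ := Submodule.mkQ_surjective _
    have hex := LinearMap.exact_lsmul_mkQ_smul_top M x
    have hS := Sfg_shortExact _ _ hf hg hex
    apply H_eq_zero_of_smul_injective I i (ModuleCat.of R M) x hx
    intro w hw
    rw [← H_map_lsmul] at hw
    cases i with
    | zero =>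
      apply Φ_injective I (ModuleCat.of R M)
      rw [map_zero]
      have h2 := Φ_naturality I (ModuleCat.ofHom (LinearMap.lsmul R M x)) w
      rw [hw, map_zero] at h2
      exact hreg (by simpa using h2.symm)
    | succ j =>
      obtain ⟨z, hz⟩ := H_exact₁ I j (Sfg (LinearMap.lsmul R M x) _ hex) hS w hw
      have hz0 : z = 0 := ih (QuotSMulTop x M) hIM' hn' j (by omega) z
      rw [← hz, hz0, map_zero]

/-- Nonvanishing of local cohomology at the depth. -/
theorem H_ne_zero_of_depth_eq (n : ℕ) :
    ∀ (M : Type u) [AddCommGroup M] [Module R M] [Module.Finite R M],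
      I • (⊤ : Submodule R M) ≠ ⊤ → LocCoh.idealDepth I M = n →
      ∃ y : (localCohomology I n).obj (ModuleCat.of R M), y ≠ 0 := by
  induction n with
  | zero =>
    intro M _ _ _ hIM hdepth
    have hno : ¬ ∃ r ∈ I, IsSMulRegular M r := by
      intro h
      have := (one_le_idealDepth_iff hIM).mpr h
      rw [hdepth] at this
      exact absurd this (by simp)
    have hne : DRing.torsionSub I M ≠ ⊥ := by
      intro hbot
      apply hno
      have h := Groth.Agent.S11610.result R R I M (by
        rw [Algebra.algebraMap_self, Ideal.map_id]; exact hbot)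
      simpa using h
    obtain ⟨m, hm, hm0⟩ := (Submodule.ne_bot_iff _).mp hne
    obtain ⟨y, hy⟩ := exists_Φ_eq I (ModuleCat.of R M) m hm
    refine ⟨y, ?_⟩
    rintro rfl
    rw [map_zero] at hy
    exact hm0 hy.symm
  | succ n ih =>
    intro M _ _ _ hIM hdepth
    have h1 : (1 : ℕ∞) ≤ LocCoh.idealDepth I M := by
      rw [hdepth]
      exact_mod_cast Nat.succ_le_succ (Nat.zero_le n)
    obtain ⟨x, hx, hreg⟩ := (one_le_idealDepth_iff hIM).mp h1
    have hIM' := smul_top_quotSMulTop_ne_top hx hIM
    have hd := idealDepth_quotSMulTop_add_one I M hIM x hx hreg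
    have hn' : LocCoh.idealDepth I (QuotSMulTop x M) = n := by
      rw [hdepth, Nat.cast_add, Nat.cast_one] at hd
      exact (ENat.add_left_injective_of_ne_top ENat.one_ne_top) hd
    have hf : Function.Injective (LinearMap.lsmul R M x) := hreg
    have hg : Function.Surjective (x • (⊤ : Submodule R M)).mkQ := Submodule.mkQ_surjective _
    have hex := LinearMap.exact_lsmul_mkQ_smul_top M x
    have hS := Sfg_shortExact _ _ hf hg hex
    obtain ⟨z, hz⟩ := ih (QuotSMulTop x M) hIM' hn'
    refine ⟨Hδ I n (Sfg (LinearMap.lsmul R M x) _ hex) hS z, ?_⟩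
    intro h0
    obtain ⟨y, hy⟩ := H_exact₃ I n (Sfg (LinearMap.lsmul R M x) _ hex) hS z h0
    have hy0 : y = 0 := H_eq_zero_of_lt_depth I (n + 1) M hIM (le_of_eq hdepth.symm) n
      (Nat.lt_succ_self n) y
    rw [hy0, map_zero] at hy
    exact hz hy.symm

end Depth

end Groth.Agent.Lib.Helper8.LC
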