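import Mathlib

/-!
# Injective hulls inside injective modules (helper3)

Pure Mathlib.  `EssIn E E'` : the submodule `E` is essential in `E'` (element form).
Main results: `injective_of_maximal_essential` (a submodule of an injective module with no proper
essential extension inside it is injective), `exists_injective_essential` (every submodule of an
injective module has an injective essential extension inside it), `exists_embedding_injective`.
-/

set_option autoImplicit false
universe u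

namespace Groth.Agent.Lib.Helper3.InjHull

variable {R : Type u} [CommRing R] {I : Type u} [AddCommGroup I] [Module R I]

/-- `E` is essential in `E'` : every nonzero element of `E'` has a nonzero multiple in `E`. -/
def EssIn (E E' : Submodule R I) : Prop :=
  ∀ x ∈ E', x ≠ 0 → ∃ r : R, r • x ≠ 0 ∧ r • x ∈ E

lemma EssIn.refl (E : Submodule R I) : EssIn E E :=
  fun x hx hx0 => ⟨1, by rwa [one_smul], by rwa [one_smul]⟩

lemma EssIn.trans {M₀ E E' : Submodule R I} (h₁ : EssIn M₀ E) (h₂ : EssIn E E') : EssIn M₀ E' := by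
  intro x hx hx0
  obtain ⟨r, hr0, hrE⟩ := h₂ x hx hx0
  obtain ⟨s, hs0, hsM⟩ := h₁ (r • x) hrE hr0
  exact ⟨s * r, by rwa [mul_smul], by rwa [mul_smul]⟩

lemma EssIn.inf_ne_bot {E E' : Submodule R I} (h : EssIn E E') {N : Submodule R I} (hN : N ≤ E')
    (hN0 : N ≠ ⊥) : N ⊓ E ≠ ⊥ := by
  obtain ⟨x, hxN, hx0⟩ := Submodule.exists_mem_ne_zero_of_ne_bot hN0
  obtain ⟨r, hr0, hrE⟩ := h x (hN hxN) hx0
  intro hbot
  have : r • x ∈ N ⊓ E := ⟨N.smul_mem r hxN, hrE⟩
  rw [hbot, Submodule.mem_bot] at this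
  exact hr0 this

lemma essIn_of_inf_ne_bot {E E' : Submodule R I}
    (h : ∀ N : Submodule R I, N ≤ E' → N ≠ ⊥ → N ⊓ E ≠ ⊥) : EssIn E E' := by
  intro x hx hx0
  have h1 : Submodule.span R {x} ≤ E' := (Submodule.span_singleton_le_iff_mem x E').2 hx
  have h2 : Submodule.span R {x} ≠ ⊥ := fun hb => hx0 ((Submodule.span_singleton_eq_bot).1 hb)
  obtain ⟨y, hy, hy0⟩ := Submodule.exists_mem_ne_zero_of_ne_bot (h _ h1 h2)
  obtain ⟨r, rfl⟩ := Submodule.mem_span_singleton.1 hy.1
  exact ⟨r, hy0, hy.2⟩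

/-- maximal essential extensions exist -/
lemma exists_maximal_essential (M₀ : Submodule R I) :
    ∃ E : Submodule R I, M₀ ≤ E ∧ EssIn M₀ E ∧
      ∀ E' : Submodule R I, E ≤ E' → EssIn M₀ E' → E' = E := by
  obtain ⟨E, hME, hmax⟩ := zorn_le_nonempty₀ {E' : Submodule R I | M₀ ≤ E' ∧ EssIn M₀ E'} (by
    intro c hc hchain y hy
    refine ⟨sSup c, ⟨le_trans (hc hy).1 (le_sSup hy), ?_⟩, fun z hz => le_sSup hz⟩
    intro x hx hx0
    obtain ⟨E', hE'c, hxE'⟩ :=
      (Submodule.mem_sSup_of_directed ⟨y, hy⟩ hchain.directedOn).1 hx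
    exact (hc hE'c).2 x hxE' hx0) M₀ ⟨le_rfl, EssIn.refl M₀⟩
  refine ⟨E, hmax.prop.1, hmax.prop.2, fun E' hEE' hess => ?_⟩
  exact le_antisymm (hmax.le_of_ge ⟨le_trans hmax.prop.1 hEE', hess⟩ hEE') hEE'

/-- maximal submodules meeting `E` trivially exist -/
lemma exists_maximal_disjoint (E : Submodule R I) :
    ∃ C : Submodule R I, C ⊓ E = ⊥ ∧ ∀ C' : Submodule R I, C ≤ C' → C' ⊓ E = ⊥ → C' = C := by
  obtain ⟨C, -, hmax⟩ := zorn_le_nonempty₀ {C : Submodule R I | C ⊓ E = ⊥} (by
    intro c hc hchain y hy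
    refine ⟨sSup c, ?_, fun z hz => le_sSup hz⟩
    show sSup c ⊓ E = ⊥
    rw [Submodule.eq_bot_iff]
    rintro x ⟨hx, hxE⟩
    obtain ⟨C', hC'c, hxC'⟩ :=
      (Submodule.mem_sSup_of_directed ⟨y, hy⟩ hchain.directedOn).1 hx
    have : x ∈ C' ⊓ E := ⟨hxC', hxE⟩
    rw [hc hC'c, Submodule.mem_bot] at this
    exact this) ⊥ (by simp)
  exact ⟨C, hmax.prop, fun C' hCC' h => le_antisymm (hmax.le_of_ge h hCC') hCC'⟩

/-- A submodule of an injective module without proper essential extensions inside it is injective. -/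
theorem injective_of_maximal_essential [Module.Injective R I] (E : Submodule R I)
    (hE : ∀ E' : Submodule R I, E ≤ E' → EssIn E E' → E' = E) : Module.Injective R E := by
  obtain ⟨C, hCE, hCmax⟩ := exists_maximal_disjoint E
  have mkQ0 : ∀ x : I, C.mkQ x = 0 ↔ x ∈ C := fun x => Submodule.Quotient.mk_eq_zero C
  let α : E →ₗ[R] I ⧸ C := C.mkQ ∘ₗ E.subtype
  have hα : Function.Injective α := by
    rw [injective_iff_map_eq_zero]
    intro x hx
    have h1 : (x : I) ∈ C := (mkQ0 _).1 hx
    have h2 : (x : I) ∈ C ⊓ E := ⟨h1, x.2⟩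
    rw [hCE, Submodule.mem_bot] at h2
    exact Subtype.ext h2
  obtain ⟨ψ, hψ⟩ := Module.Injective.extension_property R I E (I ⧸ C) α hα E.subtype
  have hψα : ∀ x : E, ψ (C.mkQ (x : I)) = (x : I) := fun x => LinearMap.congr_fun hψ x
  -- key: a class `q z ≠ 0` has a multiple `r • q z = q w` with `0 ≠ w ∈ E`
  have key : ∀ z : I, z ∉ C → ∃ (r : R) (w : I), w ∈ E ∧ w ≠ 0 ∧ C.mkQ w = r • C.mkQ z := by
    intro z hz
    have hne : (C ⊔ Submodule.span R {z}) ⊓ E ≠ ⊥ := by
      intro hbot
      have := hCmax _ le_sup_left hbot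
      apply hz
      rw [← this]
      exact Submodule.mem_sup_right (Submodule.mem_span_singleton_self z)
    obtain ⟨w, ⟨hw1, hwE⟩, hw0⟩ := Submodule.exists_mem_ne_zero_of_ne_bot hne
    obtain ⟨c, hc, y, hy, rfl⟩ := Submodule.mem_sup.1 hw1
    obtain ⟨r, rfl⟩ := Submodule.mem_span_singleton.1 hy
    refine ⟨r, c + r • z, hwE, hw0, ?_⟩
    rw [map_add, map_smul, (mkQ0 c).2 hc, zero_add]
  have hψinj : Function.Injective ψ := by
    rw [injective_iff_map_eq_zero]
    intro y hy
    by_contra hy0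
    obtain ⟨z, rfl⟩ := C.mkQ_surjective y
    have hz : z ∉ C := fun h => hy0 ((mkQ0 z).2 h)
    obtain ⟨r, w, hwE, hw0, hw⟩ := key z hz
    have := hψα ⟨w, hwE⟩
    simp only at this
    rw [hw, map_smul, hy, smul_zero] at this
    exact hw0 this.symm
  have hrange : LinearMap.range ψ = E := by
    apply hE
    · intro x hx
      exact ⟨C.mkQ x, hψα ⟨x, hx⟩⟩
    · rintro v ⟨y, rfl⟩ hv0
      obtain ⟨z, rfl⟩ := C.mkQ_surjective y
      have hz : z ∉ C := by
        intro h
        apply hv0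
        rw [(mkQ0 z).2 h, map_zero]
      obtain ⟨r, w, hwE, hw0, hw⟩ := key z hz
      have h1 := hψα ⟨w, hwE⟩
      simp only at h1
      rw [hw, map_smul] at h1
      exact ⟨r, by rw [h1]; exact hw0, by rw [h1]; exact hwE⟩
  -- the retraction
  let ρ : I →ₗ[R] E := LinearMap.codRestrict E (ψ ∘ₗ C.mkQ) (fun x => by
    rw [← hrange]; exact ⟨C.mkQ x, rfl⟩)
  have hρ : ∀ x : E, ρ (x : I) = x := fun x => Subtype.ext (hψα x)
  refine ⟨fun X Y _ _ _ _ f hf g => ?_⟩
  obtain ⟨h, hh⟩ := Module.Injective.extension_property R I X Y f hf (E.subtype ∘ₗ g)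
  refine ⟨ρ ∘ₗ h, fun x => ?_⟩
  have := LinearMap.congr_fun hh x
  simp only [LinearMap.coe_comp, Function.comp_apply, Submodule.subtype_apply] at this
  rw [LinearMap.comp_apply, this, hρ]

/-- Every submodule of an injective module has an injective essential extension inside it. -/
theorem exists_injective_essential [Module.Injective R I] (M₀ : Submodule R I) :
    ∃ E : Submodule R I, M₀ ≤ E ∧ EssIn M₀ E ∧ Module.Injective R E := by
  obtain ⟨E, hME, hess, hmax⟩ := exists_maximal_essential M₀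
  exact ⟨E, hME, hess, injective_of_maximal_essential E
    (fun E' hEE' h => hmax E' hEE' (hess.trans h))⟩

/-- every module embeds in an injective module of the same universe -/
theorem exists_embedding_injective (R : Type u) [CommRing R] (M : Type u) [AddCommGroup M]
    [Module R M] : ∃ (I : Type u) (_ : AddCommGroup I) (_ : Module R I) (_ : Module.Injective R I)
      (i : M →ₗ[R] I), Function.Injective i := by
  obtain ⟨⟨J, hJ, ι, hι⟩⟩ :=
    (inferInstance : CategoryTheory.EnoughInjectives (ModuleCat.{u} R)).presentation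
      (ModuleCat.of R M)
  exact ⟨J, inferInstance, inferInstance, Module.injective_module_of_injective_object R J, ι.hom,
    (ModuleCat.mono_iff_injective ι).1 hι⟩

end Groth.Agent.Lib.Helper3.InjHull
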