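import Groth.Agent.Lib.Helper8LCAdd
import Groth.Agent.S0817
import Groth.Agent.S11589
import Groth.Agent.S11610

set_option autoImplicit false
universe u
open CategoryTheory CategoryTheory.Limits Opposite Pointwise

namespace Groth.Agent.Lib.Helper8.GV

open Groth.Agent.Lib.Helper8.ExtLES Groth.Agent.Lib.Helper8.LC

variable {R : Type u} [CommRing R]

theorem H_eq_zero_of_subsingleton (I : Ideal R) (i : ℕ) (M : Type u) [AddCommGroup M] [Module R M]
    [Subsingleton M] (x : LocCoh.H I i M) : x = 0 := by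
  have := smul_H_eq_zero_of_smul_eq_zero I i 1 M (fun m => Subsingleton.elim _ _) x
  rwa [one_smul] at this

theorem lt_of_add_one_le_of_lt {a b : WithBot ℕ∞} {i : ℕ} (h1 : a + 1 ≤ b)
    (h2 : b < ((i + 1 : ℕ) : WithBot ℕ∞)) : a < ((i : ℕ) : WithBot ℕ∞) := by
  have h3 : a + 1 < ((i + 1 : ℕ) : WithBot ℕ∞) := lt_of_le_of_lt h1 h2
  induction a using WithBot.recBotCoe with
  | bot => exact WithBot.bot_lt_coe _
  | coe a =>
    induction a using ENat.recTopCoe with
    | top =>
      exfalso
      have : ((⊤ : ℕ∞) : WithBot ℕ∞) + 1 = ((⊤ : ℕ∞) : WithBot ℕ∞) := rfl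
      rw [this] at h3
      have h4 : ((⊤ : ℕ∞) : WithBot ℕ∞) < (((i + 1 : ℕ) : ℕ∞) : WithBot ℕ∞) := h3
      rw [WithBot.coe_lt_coe] at h4
      exact absurd h4 (not_lt_of_ge le_top)
    | coe n =>
      have h4 : (((n + 1 : ℕ) : ℕ∞) : WithBot ℕ∞) < (((i + 1 : ℕ) : ℕ∞) : WithBot ℕ∞) := by
        exact_mod_cast h3
      rw [WithBot.coe_lt_coe, Nat.cast_lt] at h4
      have h5 : n < i := Nat.lt_of_succ_lt_succ h4
      exact_mod_cast h5

/-- Grothendieck vanishing for finitely generated modules. -/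
theorem H_eq_zero_of_supportDim_lt [IsNoetherianRing R] (I : Ideal R) (i : ℕ) :
    ∀ (M : Type u) [AddCommGroup M] [Module R M] [Module.Finite R M],
      Module.supportDim R M < ((i : ℕ) : WithBot ℕ∞) → ∀ x : LocCoh.H I i M, x = 0 := by
  induction i with
  | zero =>
    intro M _ _ _ h x
    have hbot : Module.supportDim R M = ⊥ := by
      by_contra hne
      obtain ⟨n, hn⟩ := WithBot.ne_bot_iff_exists.mp hne
      rw [← hn] at h
      have h' : (n : WithBot ℕ∞) < (((0 : ℕ) : ℕ∞) : WithBot ℕ∞) := h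
      rw [WithBot.coe_lt_coe] at h'
      exact absurd h' (by simp)
    have := (Module.supportDim_eq_bot_iff_subsingleton R M).mp hbot
    exact H_eq_zero_of_subsingleton I 0 M x
  | succ i ih =>
    intro M _ _ _ h x
    have hbij := Groth.Agent.S11589.result R I M (i + 1) (Nat.succ_pos i)
    apply hbij.1
    rw [map_zero]
    generalize ((localCohomology I (i + 1)).map
      (ModuleCat.ofHom (DRing.torsionSub I M).mkQ)).hom x = x'
    have hdim : Module.supportDim R (M ⧸ DRing.torsionSub I M) < ((i + 1 : ℕ) : WithBot ℕ∞) :=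
      lt_of_le_of_lt (Module.supportDim_le_of_surjective _ (Submodule.mkQ_surjective _)) h
    have htf := Groth.Agent.S0817.torsionSub_quotient_eq_bot I M
    obtain ⟨r, hr, hreg⟩ := Groth.Agent.S11610.result R R I (M ⧸ DRing.torsionSub I M) (by
      rw [Algebra.algebraMap_self, Ideal.map_id]
      exact htf)
    rw [Algebra.algebraMap_self, RingHom.id_apply] at hreg
    have hd1 := Module.supportDim_quotSMulTop_succ_le_of_notMem_minimalPrimes
      (R := R) (M := M ⧸ DRing.torsionSub I M) (x := r)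
      (fun _ hp => hreg.notMem_of_mem_minimalPrimes hp)
    have hd2 := lt_of_add_one_le_of_lt hd1 hdim
    have hex := LinearMap.exact_lsmul_mkQ_smul_top (R := R) (M ⧸ DRing.torsionSub I M) r
    have hS := Sfg_shortExact (LinearMap.lsmul R (M ⧸ DRing.torsionSub I M) r)
      (r • (⊤ : Submodule R (M ⧸ DRing.torsionSub I M))).mkQ hreg (Submodule.mkQ_surjective _) hex
    refine H_eq_zero_of_smul_injective I (i + 1) (ModuleCat.of R (M ⧸ DRing.torsionSub I M)) r hr
      ?_ x'
    intro y hy
    have h1 : (localCohomology I (i + 1)).map (Sfg (LinearMap.lsmul R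
        (M ⧸ DRing.torsionSub I M) r) _ hex).f y = 0 := by
      change (localCohomology I (i + 1)).map
        (ModuleCat.ofHom (LinearMap.lsmul R (M ⧸ DRing.torsionSub I M) r)) y = 0
      rw [H_map_lsmul]
      exact hy
    obtain ⟨z, hz⟩ := H_exact₁ I i _ hS y h1
    have hz0 : z = 0 := ih (QuotSMulTop r (M ⧸ DRing.torsionSub I M)) hd2 z
    rw [← hz, hz0, map_zero]

end Groth.Agent.Lib.Helper8.GV
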