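import Groth.Agent.Lib.Helper8Att
import Groth.Agent.Lib.Helper8Cd
import Groth.Agent.S0333
import Groth.Agent.S0334

set_option autoImplicit false
universe u
open CategoryTheory CategoryTheory.Limits Opposite Pointwise

/-! Grothendieck's non-vanishing theorem (Macdonald–Sharp style proof). -/

namespace Groth.Agent.Lib.Helper8.NV

open Groth.Agent.Lib.Helper8.ExtLES Groth.Agent.Lib.Helper8.LC Groth.Agent.Lib.Helper8.MV
  Groth.Agent.Lib.Helper8.GV Groth.Agent.Lib.Helper8.Acyc Groth.Agent.Lib.Helper8.Att IsLocalRing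

section General

variable {R : Type u} [CommRing R]

/-- A module of support dimension `n` has a prime in its support of coheight `n`. -/
theorem exists_mem_support_dim_eq (M : Type u) [AddCommGroup M] [Module R M] (n : ℕ)
    (hn : Module.supportDim R M = n) :
    ∃ q : PrimeSpectrum R, q ∈ Module.support R M ∧ ringKrullDim (R ⧸ q.asIdeal) = n := by
  have h1 : ((n : ℕ) : WithBot ℕ∞) ≤ Order.krullDim (Module.support R M) := hn.ge
  obtain ⟨l, hl⟩ := Order.le_krullDim_iff.mp h1
  refine ⟨l.head.1, l.head.2, le_antisymm ?_ ?_⟩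
  · rw [ringKrullDim_quotient, ← hn]
    exact Order.krullDim_le_of_strictMono
      (fun x : PrimeSpectrum.zeroLocus (l.head.1.asIdeal : Set R) =>
        (⟨x.1, Module.mem_support_mono (show l.head.1 ≤ x.1 from x.2) l.head.2⟩ :
          Module.support R M))
      (fun _ _ h => h)
  · rw [ringKrullDim_quotient]
    apply Order.le_krullDim_iff.mpr
    refine ⟨{ length := l.length
              toFun := fun i => ⟨(l i).1, ?_⟩
              step := fun i => l.step i }, hl⟩
    rw [PrimeSpectrum.mem_zeroLocus, SetLike.coe_subset_coe]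
    exact l.head_le i

theorem isLocalRing_quotient [IsLocalRing R] (p : Ideal R) [hp : p.IsPrime] :
    IsLocalRing (R ⧸ p) :=
  have : Nontrivial (R ⧸ p) := Ideal.Quotient.nontrivial_iff.mpr hp.ne_top
  .of_surjective' _ Ideal.Quotient.mk_surjective

theorem map_maximalIdeal_quotient [IsLocalRing R] (p : Ideal R) [hp : p.IsPrime] :
    let _ := isLocalRing_quotient p
    (maximalIdeal R).map (algebraMap R (R ⧸ p)) = maximalIdeal (R ⧸ p) := by
  intro _
  have hsurj : Function.Surjective (algebraMap R (R ⧸ p)) := Ideal.Quotient.mk_surjective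
  rcases Ideal.map_eq_top_or_isMaximal_of_surjective (algebraMap R (R ⧸ p)) hsurj
    (maximalIdeal.isMaximal R) with h | h
  · exfalso
    have h1 : (1 : R ⧸ p) ∈ (maximalIdeal R).map (algebraMap R (R ⧸ p)) := by rw [h]; trivial
    rw [Ideal.mem_map_iff_of_surjective _ hsurj] at h1
    obtain ⟨x, hx, hx1⟩ := h1
    have h2 : x - 1 ∈ p := by
      rw [← Ideal.Quotient.eq]
      exact hx1
    have h3 : x - 1 ∈ maximalIdeal R := IsLocalRing.le_maximalIdeal hp.ne_top h2
    have h4 : (1 : R) ∈ maximalIdeal R := by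
      have h5 := (maximalIdeal R).sub_mem hx h3
      rw [sub_sub_cancel] at h5
      exact h5
    exact (maximalIdeal.isMaximal R).ne_top ((Ideal.eq_top_iff_one _).mpr h4)
  · exact IsLocalRing.eq_maximalIdeal h

end General

/-- Non-vanishing for local domains of dimension `n`. -/
def Dn (n : ℕ) : Prop :=
  ∀ (D : Type u) [CommRing D] [IsDomain D] [IsNoetherianRing D] [IsLocalRing D],
    ringKrullDim D = n → ∃ x : LocCoh.H (maximalIdeal D) n D, x ≠ 0

/-- Top-dimensional primes of the support are attached to the top local cohomology. -/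
def Nn (n : ℕ) : Prop :=
  ∀ (R : Type u) [CommRing R] [IsNoetherianRing R] [IsLocalRing R] (M : Type u) [AddCommGroup M]
    [Module R M] [Module.Finite R M], Module.supportDim R M = n →
    ∀ q : PrimeSpectrum R, q ∈ Module.support R M → ringKrullDim (R ⧸ q.asIdeal) = n →
      IsAtt q.asIdeal (LocCoh.H (maximalIdeal R) n M)

section StepA

variable {R : Type u} [CommRing R] [IsNoetherianRing R] [IsLocalRing R]

/-- The prime `p` is attached to `H^n_m(R/p)` when `dim R/p = n`. -/
theorem isAtt_quotient (n : ℕ) (hD : Dn.{u} n) (p : Ideal R) [hp : p.IsPrime]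
    (hdim : ringKrullDim (R ⧸ p) = n) : IsAtt p (LocCoh.H (maximalIdeal R) n (R ⧸ p)) := by
  let _ := isLocalRing_quotient p
  obtain ⟨x₀, hx₀⟩ := hD (R ⧸ p) hdim
  have h11614 := Groth.Agent.S11614.result R (R ⧸ p) (maximalIdeal R) (R ⧸ p) n
  rw [map_maximalIdeal_quotient p] at h11614
  obtain ⟨φ, hφ⟩ := h11614
  -- `ann_D (H^n_{m_D}(D)) = 0`
  have hann : ∀ d : R ⧸ p, (∀ y : LocCoh.H (maximalIdeal (R ⧸ p)) n (R ⧸ p), d • y = 0) →
      d = 0 := by
    intro d hd
    by_contra hne
    have hsurj := Groth.Agent.S0334.result (R ⧸ p) (maximalIdeal (R ⧸ p)) n hdim d (by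
      intro q hq _ hdq
      have hq0 : q = ⊥ := by
        have h1 := hq.2 ⟨Ideal.isPrime_bot, le_rfl⟩ bot_le
        exact le_bot_iff.mp h1
      rw [hq0, Ideal.mem_bot] at hdq
      exact hne hdq) (R ⧸ p)
    obtain ⟨z, hz⟩ := hsurj x₀
    apply hx₀
    rw [← hz]
    exact hd z
  refine ⟨⊥, ?_⟩
  ext r
  rw [mem_annihilator_quotient_iff]
  constructor
  · intro h
    have h1 : algebraMap R (R ⧸ p) r = 0 := by
      apply hann
      intro y
      apply φ.injective
      rw [hφ, map_zero]
      exact (Submodule.mem_bot R).mp (h (φ y))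
    exact Ideal.Quotient.eq_zero_iff_mem.mp h1
  · intro hr a
    obtain ⟨y, rfl⟩ := φ.surjective a
    rw [Submodule.mem_bot, ← hφ, Ideal.Quotient.algebraMap_eq,
      Ideal.Quotient.eq_zero_iff_mem.mpr hr, zero_smul, map_zero]

end StepA

section StepA2

variable {R : Type u} [CommRing R] [IsNoetherianRing R]

omit [IsNoetherianRing R] in
theorem supportDim_quot_lt (n : ℕ) (p : Ideal R) [hp : p.IsPrime]
    (hdim : ringKrullDim (R ⧸ p) = n) (𝔞 : Submodule R (R ⧸ p)) (h𝔞 : 𝔞 ≠ ⊥) :
    Module.supportDim R ((R ⧸ p) ⧸ 𝔞) < ((n : ℕ) : WithBot ℕ∞) := by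
  by_contra hcon
  rw [not_lt] at hcon
  obtain ⟨l, hl⟩ := Order.le_krullDim_iff.mp hcon
  obtain ⟨a, ha, ha0⟩ := (Submodule.ne_bot_iff 𝔞).mp h𝔞
  obtain ⟨f, rfl⟩ := Ideal.Quotient.mk_surjective a
  have hfp : f ∉ p := fun h => ha0 (Ideal.Quotient.eq_zero_iff_mem.mpr h)
  have hpann : p ≤ Module.annihilator R ((R ⧸ p) ⧸ 𝔞) := by
    intro r hr
    rw [Module.mem_annihilator]
    intro y
    obtain ⟨y', rfl⟩ := Submodule.mkQ_surjective _ y
    obtain ⟨y'', rfl⟩ := Ideal.Quotient.mk_surjective y'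
    rw [← map_smul]
    have : r • (Ideal.Quotient.mk p y'') = 0 := by
      rw [Algebra.smul_def, Ideal.Quotient.algebraMap_eq,
        Ideal.Quotient.eq_zero_iff_mem.mpr hr, zero_mul]
    rw [this, map_zero]
  have hfann : f ∈ Module.annihilator R ((R ⧸ p) ⧸ 𝔞) := by
    rw [Module.mem_annihilator]
    intro y
    obtain ⟨y', rfl⟩ := Submodule.mkQ_surjective _ y
    obtain ⟨y'', rfl⟩ := Ideal.Quotient.mk_surjective y'
    rw [← map_smul, Submodule.mkQ_apply, Submodule.Quotient.mk_eq_zero]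
    have : f • (Ideal.Quotient.mk p y'') = y'' • (Ideal.Quotient.mk p f) := by
      rw [Algebra.smul_def, Algebra.smul_def, Ideal.Quotient.algebraMap_eq, mul_comm]
    rw [this]
    exact 𝔞.smul_mem _ ha
  have hle : ∀ i, p ≤ (l i).1.asIdeal := fun i =>
    hpann.trans (Module.annihilator_le_of_mem_support (l i).2)
  let l₁ : LTSeries (PrimeSpectrum.zeroLocus (p : Set R)) :=
    { length := l.length
      toFun := fun i => ⟨(l i).1, by
        rw [PrimeSpectrum.mem_zeroLocus, SetLike.coe_subset_coe]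
        exact hle i⟩
      step := fun i => l.step i }
  have hlt : (⟨⟨p, hp⟩, by
      rw [PrimeSpectrum.mem_zeroLocus]⟩ : PrimeSpectrum.zeroLocus (p : Set R)) < l₁.head := by
    refine lt_of_le_of_ne (hle 0) ?_
    intro heq
    have h1 : p = (l 0).1.asIdeal := congrArg (fun z : PrimeSpectrum.zeroLocus (p : Set R) =>
      z.1.asIdeal) heq
    apply hfp
    rw [h1]
    exact Module.annihilator_le_of_mem_support (l 0).2 hfann
  have h3 : (((n + 1 : ℕ) : ℕ) : WithBot ℕ∞) ≤ ringKrullDim (R ⧸ p) := by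
    rw [ringKrullDim_quotient]
    exact Order.le_krullDim_iff.mpr ⟨l₁.cons _ hlt, by simp [l₁, hl]⟩
  rw [hdim] at h3
  have h4 : n + 1 ≤ n := by exact_mod_cast h3
  omega

/-- `H^n_I(M)` surjects onto `H^n_I(R/p)` for a top-dimensional prime of the support. -/
theorem exists_surjective_to_quotient (I : Ideal R) (n : ℕ) (M : Type u) [AddCommGroup M]
    [Module R M] [Module.Finite R M] (hn : Module.supportDim R M = n) (p : Ideal R)
    [hp : p.IsPrime] (hsupp : (⟨p, hp⟩ : PrimeSpectrum R) ∈ Module.support R M)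
    (hdim : ringKrullDim (R ⧸ p) = n) :
    ∃ F : LocCoh.H I n M →ₗ[R] LocCoh.H I n (R ⧸ p), Function.Surjective F := by
  obtain ⟨φ, hφ⟩ := Groth.Agent.S0333.exists_nonzero_map p M hsupp
  have hex1 : Function.Exact (LinearMap.ker φ).subtype φ.rangeRestrict := by
    intro m
    constructor
    · intro hm
      exact ⟨⟨m, by
        have := congrArg Subtype.val hm
        simpa using this⟩, rfl⟩
    · rintro ⟨k, rfl⟩
      apply Subtype.ext
      exact k.2
  have hS1 := Sfg_shortExact (LinearMap.ker φ).subtype φ.rangeRestrict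
    (Submodule.injective_subtype _) φ.surjective_rangeRestrict hex1
  have hex2 : Function.Exact (LinearMap.range φ).subtype (LinearMap.range φ).mkQ :=
    LinearMap.exact_subtype_mkQ _
  have hS2 := Sfg_shortExact (LinearMap.range φ).subtype (LinearMap.range φ).mkQ
    (Submodule.injective_subtype _) (Submodule.mkQ_surjective _) hex2
  have hrange_ne : LinearMap.range φ ≠ ⊥ := by
    intro h
    apply hφ
    exact LinearMap.range_eq_bot.mp h
  have hQ : ∀ z : LocCoh.H I n ((R ⧸ p) ⧸ LinearMap.range φ), z = 0 :=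
    H_eq_zero_of_supportDim_lt I n _ (supportDim_quot_lt n p hdim _ hrange_ne)
  have hK : ∀ z : LocCoh.H I (n + 1) (LinearMap.ker φ), z = 0 :=
    H_eq_zero_of_supportDim_lt I (n + 1) _
      (lt_of_le_of_lt (Module.supportDim_le_of_injective _ (Submodule.injective_subtype _))
        (by rw [hn]; exact_mod_cast Nat.lt_succ_self n))
  refine ⟨((localCohomology I n).map (ModuleCat.ofHom (LinearMap.range φ).subtype)).hom ∘ₗ
    ((localCohomology I n).map (ModuleCat.ofHom φ.rangeRestrict)).hom, ?_⟩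
  intro y
  obtain ⟨w, hw⟩ := H_exact₂ I n _ hS2 y (hQ _)
  obtain ⟨v, hv⟩ := H_exact₃ I n _ hS1 w (hK _)
  exact ⟨v, (congrArg _ hv).trans hw⟩

end StepA2

theorem Nn_of_Dn (n : ℕ) (hD : Dn.{u} n) : Nn.{u} n := by
  intro R _ _ _ M _ _ _ hn q hq hdim
  obtain ⟨F, hF⟩ := exists_surjective_to_quotient (maximalIdeal R) n M hn q.asIdeal hq hdim
  exact isAtt_of_surjective F hF (isAtt_quotient n hD q.asIdeal hdim)

section StepB

variable (D : Type u) [CommRing D] [IsDomain D] [IsNoetherianRing D] [IsLocalRing D]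

omit [IsNoetherianRing D] [IsDomain D] in
theorem maximalIdeal_ne_bot_of_dim (n : ℕ) (hdim : ringKrullDim D = ((n + 1 : ℕ) : WithBot ℕ∞)) :
    maximalIdeal D ≠ ⊥ := by
  intro h
  have hF : IsField D := IsLocalRing.isField_iff_maximalIdeal_eq.mpr h
  rw [ringKrullDim_eq_zero_of_isField hF] at hdim
  have : (0 : ℕ) = n + 1 := by exact_mod_cast hdim
  omega

theorem Dn_zero : Dn.{u} 0 := by
  intro D _ _ _ _ hdim
  have hm : maximalIdeal D = ⊥ := by
    by_contra hne
    have hlt : (⟨⊥, Ideal.isPrime_bot⟩ : PrimeSpectrum D) < closedPoint D :=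
      lt_of_le_of_ne bot_le (fun heq => hne (congrArg PrimeSpectrum.asIdeal heq).symm)
    have h1 : (((0 + 1 : ℕ) : ℕ) : WithBot ℕ∞) ≤ ringKrullDim D :=
      Order.le_krullDim_iff.mpr ⟨(RelSeries.singleton _ (closedPoint D)).cons _ hlt, by simp⟩
    rw [hdim] at h1
    have : 0 + 1 ≤ 0 := by exact_mod_cast h1
    omega
  have h1 : (1 : D) ∈ DRing.torsionSub (maximalIdeal D) D := by
    refine ⟨1, fun a ha => ?_⟩
    rw [pow_one, hm, Ideal.mem_bot] at ha
    rw [ha, zero_smul]
  obtain ⟨x, hx⟩ := exists_Φ_eq (maximalIdeal D) (ModuleCat.of D D) 1 h1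
  refine ⟨x, fun h0 => ?_⟩
  rw [h0, map_zero] at hx
  exact zero_ne_one hx

theorem eq_of_add_one_eq {a : WithBot ℕ∞} {n : ℕ} (h : a + 1 = ((n + 1 : ℕ) : WithBot ℕ∞)) :
    a = ((n : ℕ) : WithBot ℕ∞) := by
  induction a using WithBot.recBotCoe with
  | bot =>
    exfalso
    rw [WithBot.bot_add] at h
    exact WithBot.bot_ne_coe h
  | coe a =>
    induction a using ENat.recTopCoe with
    | top =>
      exfalso
      have h1 : ((⊤ : ℕ∞) : WithBot ℕ∞) + 1 = ((⊤ : ℕ∞) : WithBot ℕ∞) := rfl
      rw [h1] at h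
      have h2 : ((⊤ : ℕ∞) : WithBot ℕ∞) = (((n + 1 : ℕ) : ℕ∞) : WithBot ℕ∞) := h
      rw [WithBot.coe_eq_coe] at h2
      exact absurd h2 (ENat.top_ne_natCast _)
    | coe k =>
      have h4 : (((k + 1 : ℕ) : ℕ∞) : WithBot ℕ∞) = (((n + 1 : ℕ) : ℕ∞) : WithBot ℕ∞) := by
        exact_mod_cast h
      rw [WithBot.coe_eq_coe, Nat.cast_inj] at h4
      have h5 : k = n := Nat.succ_injective h4
      rw [h5]
      rfl

theorem Dn_succ (n : ℕ) (hN : Nn.{u} n) : Dn.{u} (n + 1) := by
  intro D _ _ _ _ hdim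
  by_contra hcon
  push Not at hcon
  classical
  have hArt : IsArtinian D (LocCoh.H (maximalIdeal D) n D) := Groth.Agent.S0817.result D D n
  obtain ⟨F, hF⟩ := exists_finset_isAtt (R := D) (LocCoh.H (maximalIdeal D) n D)
  let s : Finset (Ideal D) := insert ⊥ (F.filter (fun q => q.IsPrime ∧ q ≠ maximalIdeal D))
  have hsprime : ∀ i ∈ s, i.IsPrime := by
    intro i hi
    rcases Finset.mem_insert.mp hi with rfl | hi
    · exact Ideal.isPrime_bot
    · exact (Finset.mem_filter.mp hi).2.1
  have hav : ¬ ((maximalIdeal D : Set D) ⊆ ⋃ i ∈ (↑s : Set (Ideal D)), (i : Set D)) := by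
    rw [Ideal.subset_union_prime (f := fun i : Ideal D => i) ⊥ ⊥ (fun i hi _ _ => hsprime i hi)]
    rintro ⟨i, hi, hle⟩
    rcases Finset.mem_insert.mp hi with rfl | hi
    · exact maximalIdeal_ne_bot_of_dim D n hdim (le_bot_iff.mp hle)
    · obtain ⟨-, hip, hne⟩ := Finset.mem_filter.mp hi
      exact hne ((maximalIdeal.isMaximal D).eq_of_le hip.ne_top hle).symm
  obtain ⟨x, hxm, hxs⟩ := Set.not_subset.mp hav
  have hx0 : x ≠ 0 := by
    intro h0
    apply hxs
    rw [h0]
    exact Set.mem_biUnion (Finset.mem_coe.mpr (Finset.mem_insert_self _ _)) (Ideal.zero_mem _)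
  have hxF : ∀ q ∈ F, q.IsPrime → q ≠ maximalIdeal D → x ∉ q := by
    intro q hq hqp hqm hxq
    apply hxs
    exact Set.mem_biUnion (Finset.mem_coe.mpr (Finset.mem_insert_of_mem
      (Finset.mem_filter.mpr ⟨hq, hqp, hqm⟩))) hxq
  have hreg : IsSMulRegular D x := fun a b h => mul_left_cancel₀ hx0 h
  have hann : Module.annihilator D D ≠ ⊤ := by
    intro h
    have h1 : (1 : D) ∈ Module.annihilator D D := by rw [h]; trivial
    have h2 := Module.mem_annihilator.mp h1 (1 : D)
    rw [smul_eq_mul, mul_one] at h2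
    exact one_ne_zero h2
  have hxjac : x ∈ (Module.annihilator D D).jacobson := by
    rw [IsLocalRing.jacobson_eq_maximalIdeal _ hann]
    exact hxm
  have hdimM : Module.supportDim D (QuotSMulTop x D) = ((n : ℕ) : WithBot ℕ∞) := by
    apply eq_of_add_one_eq
    rw [Module.supportDim_quotSMulTop_succ_eq_supportDim_mem_jacobson hreg hxjac,
      Module.supportDim_self_eq_ringKrullDim, hdim]
  obtain ⟨q, hq, hqdim⟩ := exists_mem_support_dim_eq (QuotSMulTop x D) n hdimM
  have hAtt := hN D (QuotSMulTop x D) hdimM q hq hqdim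
  -- surjection `H^n(D) → H^n(D/xD)`
  have hex := LinearMap.exact_lsmul_mkQ_smul_top (R := D) D x
  have hS := Sfg_shortExact (LinearMap.lsmul D D x)
    (x • (⊤ : Submodule D D)).mkQ hreg (Submodule.mkQ_surjective _) hex
  have hsurj : Function.Surjective ((localCohomology (maximalIdeal D) n).map
      (ModuleCat.ofHom (x • (⊤ : Submodule D D)).mkQ)).hom := by
    intro z
    exact H_exact₃ (maximalIdeal D) n _ hS z (hcon _)
  have hAttD := isAtt_of_surjective _ hsurj hAtt
  have hqF := hF q.asIdeal q.2 hAttD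
  have hxq : x ∈ q.asIdeal := by
    apply Module.annihilator_le_of_mem_support hq
    rw [Module.mem_annihilator]
    intro y
    obtain ⟨y', rfl⟩ := Submodule.mkQ_surjective _ y
    rw [← map_smul, Submodule.mkQ_apply, Submodule.Quotient.mk_eq_zero]
    exact Submodule.smul_mem_pointwise_smul _ _ _ trivial
  by_cases hqm : q.asIdeal = maximalIdeal D
  · -- then `n = 0` and `H^0_m(D) = 0`
    have hn0 : n = 0 := by
      rw [hqm, ringKrullDim_eq_zero_of_isField
        ((Ideal.Quotient.maximal_ideal_iff_isField_quotient _).mp (maximalIdeal.isMaximal D))]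
        at hqdim
      exact_mod_cast hqdim.symm
    subst hn0
    have hsub : Subsingleton (LocCoh.H (maximalIdeal D) 0 D) := by
      refine ⟨fun y y' => ?_⟩
      apply Φ_injective (maximalIdeal D) (ModuleCat.of D D)
      have key : ∀ w : LocCoh.H (maximalIdeal D) 0 D,
          Φ (maximalIdeal D) (ModuleCat.of D D) w = 0 := by
        intro w
        obtain ⟨k, hk⟩ := Φ_mem_torsionSub (maximalIdeal D) (ModuleCat.of D D) w
        have h1 := hk (x ^ k) (Ideal.pow_mem_pow hxm k)
        rw [smul_eq_mul] at h1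
        rcases mul_eq_zero.mp h1 with h2 | h2
        · exact absurd (pow_eq_zero_iff (n := k) (by
            intro hk0
            rw [hk0, pow_zero] at h2
            exact one_ne_zero h2) |>.mp h2) hx0
        · exact h2
      rw [key y, key y']
    have := q.2
    exact not_isAtt_of_subsingleton q.asIdeal hAttD
  · exact hxF q.asIdeal hqF q.2 hqm hxq

end StepB

theorem Dn_Nn_all (n : ℕ) : Dn.{u} n ∧ Nn.{u} n := by
  induction n with
  | zero => exact ⟨Dn_zero, Nn_of_Dn 0 Dn_zero⟩
  | succ n ih =>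
    have hD := Dn_succ n ih.2
    exact ⟨hD, Nn_of_Dn (n + 1) hD⟩

/-- Grothendieck's non-vanishing theorem. -/
theorem nonvanishing (R : Type u) [CommRing R] [IsNoetherianRing R] [IsLocalRing R] (M : Type u)
    [AddCommGroup M] [Module R M] [Module.Finite R M] (n : ℕ)
    (hn : Module.supportDim R M = n) : Nontrivial (LocCoh.H (maximalIdeal R) n M) := by
  obtain ⟨q, hq, hqdim⟩ := exists_mem_support_dim_eq M n hn
  have hAtt := (Dn_Nn_all n).2 R M hn q hq hqdim
  by_contra hcon
  rw [not_nontrivial_iff_subsingleton] at hcon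
  have := q.2
  exact not_isAtt_of_subsingleton q.asIdeal hAtt

end Groth.Agent.Lib.Helper8.NV
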