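import Groth.Agent.Lib.Helper28DepthLoc
import Groth.Agent.Lib.Helper29ExtBridge
import Groth.Agent.Lib.Helper29ExtSes
import Groth.Agent.Lib.Helper8LC
import Groth.Agent.S0339
import Groth.Agent.S11626

/-! Gorenstein local rings: injective dimension = depth = dimension (helper29). -/

set_option autoImplicit false
universe u
open CategoryTheory CategoryTheory.Abelian CategoryTheory.Limits RingTheory.Sequence Opposite
open scoped Pointwise

namespace Groth.Agent.Lib.Helper29Gorenstein

open Groth.Agent.Lib.Helper28 Groth.Agent.Lib.Helper29ExtSes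

variable {A : Type u} [CommRing A]

section ExtLemmas

variable (Y : ModuleCat.{u} A)

/-- Contravariant sequence: `Ext^{i+1}(X₃, Y) = 0` if `Ext^i(X₁, Y) = 0 = Ext^{i+1}(X₂, Y)`. -/
theorem ext_X₃_subsingleton {S : ShortComplex (ModuleCat.{u} A)} (hS : S.ShortExact) (i : ℕ)
    (h1 : Subsingleton (Ext.{u} S.X₁ Y i)) (h2 : Subsingleton (Ext.{u} S.X₂ Y (i + 1))) :
    Subsingleton (Ext.{u} S.X₃ Y (i + 1)) := by
  have key : ∀ z : Ext.{u} S.X₃ Y (i + 1), z = 0 := by
    intro z
    obtain ⟨x₁, hx₁⟩ := Ext.contravariant_sequence_exact₃ hS Y z (Subsingleton.elim _ _)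
      (add_comm 1 i)
    rw [← hx₁, Subsingleton.elim x₁ 0, Ext.comp_zero]
  exact ⟨fun a b => by rw [key a, key b]⟩

/-- Contravariant sequence: `Ext^i(X₁, Y) = 0` if `Ext^i(X₂, Y) = 0 = Ext^{i+1}(X₃, Y)`. -/
theorem ext_X₁_subsingleton {S : ShortComplex (ModuleCat.{u} A)} (hS : S.ShortExact) (i : ℕ)
    (h2 : Subsingleton (Ext.{u} S.X₂ Y i)) (h3 : Subsingleton (Ext.{u} S.X₃ Y (i + 1))) :
    Subsingleton (Ext.{u} S.X₁ Y i) := by
  have key : ∀ z : Ext.{u} S.X₁ Y i, z = 0 := by
    intro z
    obtain ⟨x₂, hx₂⟩ := Ext.contravariant_sequence_exact₁ hS Y z (add_comm 1 i)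
      (Subsingleton.elim _ _)
    rw [← hx₂, Subsingleton.elim x₂ 0, Ext.comp_zero]
  exact ⟨fun a b => by rw [key a, key b]⟩

theorem ext_quotSMulTop_subsingleton (x : A) (M : Type u) [AddCommGroup M] [Module A M]
    (hreg : IsSMulRegular M x) (n : ℕ)
    (h : ∀ i > n, Subsingleton (Ext.{u} (ModuleCat.of A M) Y i)) :
    ∀ i > n + 1, Subsingleton (Ext.{u} (ModuleCat.of A (QuotSMulTop x M)) Y i) := by
  intro i hi
  obtain ⟨j, rfl⟩ : ∃ j, i = j + 1 := ⟨i - 1, by omega⟩
  have hf : Function.Injective (LinearMap.lsmul A M x) := hreg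
  have hg := Submodule.mkQ_surjective (x • (⊤ : Submodule A M))
  have hex := LinearMap.exact_lsmul_mkQ_smul_top M x
  have hS := ses_shortExact _ _ hf hg hex
  exact ext_X₃_subsingleton Y hS j (h j (by omega)) (h (j + 1) (by omega))

theorem ext_quot_ofList_subsingleton (rs : List A) :
    ∀ (M : Type u) [AddCommGroup M] [Module A M] (n : ℕ),
      (∀ i > n, Subsingleton (Ext.{u} (ModuleCat.of A M) Y i)) → IsWeaklyRegular M rs →
      ∀ i > n + rs.length, Subsingleton
        (Ext.{u} (ModuleCat.of A (M ⧸ (Ideal.ofList rs • ⊤ : Submodule A M))) Y i) := by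
  induction rs with
  | nil =>
    intro M _ _ n h _ i hi
    have e : M ≃ₗ[A] (M ⧸ (Ideal.ofList ([] : List A) • ⊤ : Submodule A M)) :=
      (Submodule.quotEquivOfEqBot _ (by rw [Ideal.ofList_nil, Submodule.bot_smul])).symm
    exact Groth.Agent.S5805.ext_subsingleton_of_equiv₁ e Y i (h i (by simpa using hi))
  | cons r rs ih =>
    intro M _ _ n h hreg i hi
    rw [isWeaklyRegular_cons_iff] at hreg
    have h1 := ext_quotSMulTop_subsingleton Y r M hreg.1 n h
    have h2 := ih (QuotSMulTop r M) (n + 1) h1 hreg.2 i (by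
      rw [List.length_cons] at hi
      omega)
    have e := Submodule.quotOfListConsSMulTopEquivQuotSMulTopInner M r rs
    exact Groth.Agent.S5805.ext_subsingleton_of_equiv₁ e.symm Y i h2

end ExtLemmas

section Local

variable [IsNoetherianRing A] [IsLocalRing A]

/-- A finite module of depth zero contains a copy of the residue field. -/
theorem exists_injective_of_depth_eq_zero (B : Type u) [AddCommGroup B] [Module A B]
    [Module.Finite A B] (h : LocCoh.depth A B = 0) :
    ∃ j : (A ⧸ IsLocalRing.maximalIdeal A) →ₗ[A] B, Function.Injective j := by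
  have hass := depth_eq_zero_iff.mp h
  obtain ⟨-, x, hx⟩ := isAssociatedPrime_iff.mp hass
  have hxP : ∀ r : A, r ∈ IsLocalRing.maximalIdeal A ↔ r • x = 0 := by
    intro r
    rw [hx, Submodule.mem_colon_singleton, Submodule.mem_bot]
  refine ⟨Submodule.liftQ _ (LinearMap.toSpanSingleton A B x) ?_, ?_⟩
  · intro r hr
    rw [LinearMap.mem_ker, LinearMap.toSpanSingleton_apply]
    exact (hxP r).mp hr
  · rw [injective_iff_map_eq_zero]
    intro z hz
    obtain ⟨r, rfl⟩ := Ideal.Quotient.mk_surjective z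
    have : r • x = 0 := hz
    exact Ideal.Quotient.eq_zero_iff_mem.mpr ((hxP r).mpr this)

/-- Bass: if `Ext^r(k, Y) ≠ 0` and `Y` has injective dimension `≤ r`, then `r ≤ depth A`. -/
theorem le_depth_of_ext_residue_nontrivial (Y : ModuleCat.{u} A) (r : ℕ)
    (hinj : HasInjectiveDimensionLT Y (r + 1))
    (hne : Nontrivial (Ext.{u} (ModuleCat.of A (A ⧸ IsLocalRing.maximalIdeal A)) Y r)) :
    (r : ℕ∞) ≤ LocCoh.depth A A := by
  classical
  by_contra hlt
  push_neg at hlt
  obtain ⟨t, ht⟩ := ENat.ne_top_iff_exists.mp (ne_top_of_lt hlt)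
  have htr : t < r := by
    rw [← ht] at hlt
    exact_mod_cast hlt
  have hIM : IsLocalRing.maximalIdeal A • (⊤ : Submodule A A) ≠ ⊤ := maximalIdeal_smul_top_ne_top
  have ht' : (t : ℕ∞) ≤ LocCoh.idealDepth (IsLocalRing.maximalIdeal A) A := le_of_eq ht
  obtain ⟨rs, hlen, hmem, hreg⟩ := (natCast_le_idealDepth_iff hIM t).mp ht'
  have hdB := idealDepth_quot_ofList_add_length (IsLocalRing.maximalIdeal A) A hIM rs hmem
    hreg.toIsWeaklyRegular
  have hB0 : LocCoh.depth A (A ⧸ (Ideal.ofList rs • ⊤ : Submodule A A)) = 0 := by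
    have h1 : LocCoh.idealDepth (IsLocalRing.maximalIdeal A)
        (A ⧸ (Ideal.ofList rs • ⊤ : Submodule A A)) + (t : ℕ∞) = (0 : ℕ∞) + (t : ℕ∞) := by
      rw [zero_add, ← hlen, hdB, hlen]
      exact ht.symm
    exact WithTop.add_right_cancel (ENat.coe_ne_top t) h1
  obtain ⟨j, hj⟩ := exists_injective_of_depth_eq_zero _ hB0
  have hExtA : ∀ i > 0, Subsingleton (Ext.{u} (ModuleCat.of A A) Y i) := by
    intro i hi
    obtain ⟨k, rfl⟩ : ∃ k, i = k + 1 := ⟨i - 1, by omega⟩
    haveI : Projective (ModuleCat.of A A) :=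
      (IsProjective.iff_projective.{u, u} A).mp inferInstance
    exact ⟨fun a b => by rw [Ext.eq_zero_of_projective a, Ext.eq_zero_of_projective b]⟩
  have hExtB : Subsingleton (Ext.{u}
      (ModuleCat.of A (A ⧸ (Ideal.ofList rs • ⊤ : Submodule A A))) Y r) :=
    ext_quot_ofList_subsingleton Y rs A 0 hExtA hreg.toIsWeaklyRegular r (by omega)
  have hex : Function.Exact j (LinearMap.range j).mkQ := by
    intro y
    rw [Submodule.mkQ_apply, Submodule.Quotient.mk_eq_zero]
    rfl
  have hS := ses_shortExact j (LinearMap.range j).mkQ hj (Submodule.mkQ_surjective _) hex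
  have h3 : Subsingleton (Ext.{u} (ses j (LinearMap.range j).mkQ hex).X₃ Y (r + 1)) :=
    HasInjectiveDimensionLT.subsingleton Y (r + 1) (r + 1) le_rfl _
  have hk := ext_X₁_subsingleton Y hS r hExtB h3
  exact not_subsingleton _ hk

end Local

section Gorenstein

variable (A)
variable [hA : LocCoh.IsGorensteinLocalRing A]

/-- The linear identification of the residue field with `A ⧸ m`. -/
def residueEquiv : IsLocalRing.ResidueField A ≃ₗ[A] (A ⧸ IsLocalRing.maximalIdeal A) where
  toFun := id
  invFun := id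
  map_add' := fun _ _ => rfl
  map_smul' := fun a y => by
    obtain ⟨y, rfl⟩ := Ideal.Quotient.mk_surjective y
    rfl
  left_inv := fun _ => rfl
  right_inv := fun _ => rfl

/-- A Gorenstein local ring of dimension `n` has depth `n` and injective dimension at most `n`. -/
theorem depth_eq_and_hasInjectiveDimensionLT (n : ℕ) (hn : ringKrullDim A = n) :
    LocCoh.depth A A = n ∧ HasInjectiveDimensionLT (ModuleCat.of A A) (n + 1) := by
  classical
  obtain ⟨N, hN⟩ := hA.exists_hasInjectiveDimensionLT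
  have hex : ∃ r : ℕ, HasInjectiveDimensionLT (ModuleCat.of A A) (r + 1) :=
    ⟨N, hasInjectiveDimensionLT_of_ge _ N (N + 1) (Nat.le_succ N)⟩
  set r := Nat.find hex with hr
  have hPr : HasInjectiveDimensionLT (ModuleCat.of A A) (r + 1) := Nat.find_spec hex
  -- `n ≤ r` by the non-vanishing of `H^n_m(A)`
  have hnr : n ≤ r := by
    by_contra hlt
    push_neg at hlt
    have hht : (IsLocalRing.maximalIdeal A).height = n := by
      have := IsLocalRing.maximalIdeal_height_eq_ringKrullDim (R := A)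
      rw [hn] at this
      exact_mod_cast this
    have hnt := Groth.Agent.S11626.result A (IsLocalRing.maximalIdeal A)
      (Ideal.IsPrime.ne_top inferInstance) n hht
    obtain ⟨j, rfl⟩ : ∃ j, n = j + 1 := ⟨n - 1, by omega⟩
    have hzero : ∀ x : LocCoh.H (IsLocalRing.maximalIdeal A) (j + 1) A, x = 0 := by
      intro x
      obtain ⟨k, y, rfl⟩ := Groth.Agent.Lib.Helper8.LC.exists_rep (IsLocalRing.maximalIdeal A)
        (j + 1) (ModuleCat.of A A) x
      haveI : Subsingleton (Ext.{u} (Groth.Agent.Lib.Helper8.LC.Xk (IsLocalRing.maximalIdeal A) k)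
          (ModuleCat.of A A) (j + 1)) :=
        HasInjectiveDimensionLT.subsingleton (ModuleCat.of A A) (r + 1) (j + 1) (by omega) _
      have hz := Groth.Agent.Lib.Helper29ExtBridge.isZero_Ext_of_subsingleton
        (Groth.Agent.Lib.Helper8.LC.Xk (IsLocalRing.maximalIdeal A) k) (ModuleCat.of A A) j
      have : y = 0 := (ModuleCat.isZero_iff_subsingleton.mp hz).elim _ _
      rw [this, map_zero]
    obtain ⟨x, y, hxy⟩ := hnt.exists_pair_ne
    exact hxy (by rw [hzero x, hzero y])
  -- `r ≤ depth A`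
  have hrd : (r : ℕ∞) ≤ LocCoh.depth A A := by
    rcases Nat.eq_zero_or_pos r with h0 | hpos
    · rw [h0]
      simp
    · obtain ⟨r', hr'⟩ : ∃ r', r = r' + 1 := ⟨r - 1, by omega⟩
      have hmin : ¬ HasInjectiveDimensionLT (ModuleCat.of A A) (r' + 1) :=
        Nat.find_min hex (by omega)
      have hne : ¬ ∀ i > r', Subsingleton (Ext.{u}
          (ModuleCat.of A (IsLocalRing.ResidueField A)) (ModuleCat.of A A) i) :=
        fun h => hmin (Groth.Agent.S0339.injdim_of_ext_residue r' (ModuleCat.of A A) h)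
      push_neg at hne
      obtain ⟨i, hi, hi'⟩ := hne
      have hir : i = r := by
        by_contra hne'
        exact (not_subsingleton_iff_nontrivial.mpr hi')
          (HasInjectiveDimensionLT.subsingleton (ModuleCat.of A A) (r + 1) i (by omega) _)
      subst hir
      have hnt : Nontrivial (Ext.{u} (ModuleCat.of A (A ⧸ IsLocalRing.maximalIdeal A))
          (ModuleCat.of A A) r) := by
        rw [← not_subsingleton_iff_nontrivial]
        intro hs
        exact (not_subsingleton_iff_nontrivial.mpr hi')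
          (Groth.Agent.S5805.ext_subsingleton_of_equiv₁ (residueEquiv A).symm _ _ hs)
      exact le_depth_of_ext_residue_nontrivial (ModuleCat.of A A) r hPr hnt
  -- `depth A ≤ n`
  have hdn : LocCoh.depth A A ≤ n := by
    have h1 := depth_le_supportDim (R := A) (M := A)
    rw [Module.supportDim_self_eq_ringKrullDim, hn] at h1
    exact_mod_cast h1
  have h1 : (n : ℕ∞) ≤ r := by exact_mod_cast hnr
  have hdepth : LocCoh.depth A A = n := le_antisymm hdn (h1.trans hrd)
  refine ⟨hdepth, ?_⟩
  have hrn : r = n := by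
    apply le_antisymm _ hnr
    have : (r : ℕ∞) ≤ n := hrd.trans hdn
    exact_mod_cast this
  rw [← hrn]
  exact hPr

/-- `Ext^n(k, A) ≠ 0` for a Gorenstein local ring of dimension `n`. -/
theorem ext_residue_nontrivial (n : ℕ) (hn : ringKrullDim A = n) :
    Nontrivial (Ext.{u} (ModuleCat.of A (A ⧸ IsLocalRing.maximalIdeal A)) (ModuleCat.of A A) n) :=
  ((idealDepth_eq_natCast_iff_ext' (IsLocalRing.maximalIdeal A) A n).mp
    (depth_eq_and_hasInjectiveDimensionLT A n hn).1).2

end Gorenstein

end Groth.Agent.Lib.Helper29Gorenstein
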