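import Mathlib
import Groth.Agent.Lib.Helper8BridgeT4
import Groth.Agent.Lib.Helper8LC

/-! Representability of `Ext^n(-, G)` on finite `J`-power-torsion modules by `H^n_J(G)` (helper8). -/

set_option autoImplicit false
universe u
open CategoryTheory CategoryTheory.Limits Opposite CategoryTheory.Abelian

namespace Groth.Agent.Lib.Helper8.ExtRep
open Groth.Agent.Lib.Helper8.ExtLES Groth.Agent.Lib.Helper8.Bridge Groth.Agent.Lib.Helper8.LC

variable {R : Type u} [CommRing R]

section Functoriality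

variable (n : ℕ) (Y : ModuleCat.{u} R)

theorem Epre_comp {X X' X'' : ModuleCat.{u} R} (f : X'' ⟶ X') (g : X' ⟶ X) (e : E n X Y) :
    (Epre n (f ≫ g) Y).hom e = (Epre n f Y).hom ((Epre n g Y).hom e) := by
  have : Epre n (f ≫ g) Y = Epre n g Y ≫ Epre n f Y := by
    simp [Epre]
  rw [this]
  rfl

theorem Epre_id {X : ModuleCat.{u} R} (e : E n X Y) : (Epre n (𝟙 X) Y).hom e = e := by
  have : Epre n (𝟙 X) Y = 𝟙 _ := by
    simp [Epre]
  rw [this]
  rfl

theorem Epre_add {X X' : ModuleCat.{u} R} (f g : X' ⟶ X) (e : E n X Y) :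
    (Epre n (f + g) Y).hom e = (Epre n f Y).hom e + (Epre n g Y).hom e := by
  apply (Ψ n X' Y).injective
  rw [map_add, Ψ_Epre, Ψ_Epre, Ψ_Epre, Ext.mk₀_add, Ext.add_comp]

theorem Epre_zero {X X' : ModuleCat.{u} R} (e : E n X Y) :
    (Epre n (0 : X' ⟶ X) Y).hom e = 0 := by
  apply (Ψ n X' Y).injective
  rw [map_zero, Ψ_Epre, Ext.mk₀_zero, Ext.zero_comp]

theorem Epre_smul {X X' : ModuleCat.{u} R} (a : R) (f : X' ⟶ X) (e : E n X Y) :
    (Epre n (a • f) Y).hom e = a • (Epre n f Y).hom e := by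
  apply (Ψ n X' Y).injective
  rw [map_smul, Ψ_Epre, Ψ_Epre, Ext.mk₀_smul, Ext.smul_comp]

theorem Epre_sum {X X' : ModuleCat.{u} R} {ι : Type*} (s : Finset ι) (f : ι → (X' ⟶ X))
    (e : E n X Y) :
    (Epre n (∑ i ∈ s, f i) Y).hom e = ∑ i ∈ s, (Epre n (f i) Y).hom e := by
  classical
  induction s using Finset.induction_on with
  | empty => simp [Epre_zero]
  | insert a s ha ih => rw [Finset.sum_insert ha, Finset.sum_insert ha, Epre_add, ih]

theorem Epre_injective_of_epi_zero {X X' : ModuleCat.{u} R} (f : X' ⟶ X) [Epi f] :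
    Function.Injective (Epre 0 f Y).hom := by
  rw [injective_iff_map_eq_zero]
  intro e he
  apply (Ψ 0 X Y).injective
  rw [map_zero]
  have h := congrArg (Ψ 0 X' Y) he
  rw [Ψ_Epre, map_zero] at h
  exact (injective_iff_map_eq_zero _).mp (Ext.precomp_mk₀_injective_of_epi Y f) _ h

end Functoriality

section Theta

variable (J : Ideal R)

/-- The map `R ⧸ J^k → F`, `1 ↦ x`, for `x` killed by `J^k`. -/
noncomputable def xhat {F : ModuleCat.{u} R} (x : F) (k : ℕ) (hk : ∀ a ∈ J ^ k, a • x = 0) :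
    Xk J k ⟶ F :=
  ModuleCat.ofHom (Submodule.liftQ (J ^ k) (LinearMap.toSpanSingleton R F x) (by
    intro a ha
    rw [LinearMap.mem_ker, LinearMap.toSpanSingleton_apply]
    exact hk a ha))

theorem xhat_mk {F : ModuleCat.{u} R} (x : F) (k : ℕ) (hk : ∀ a ∈ J ^ k, a • x = 0) (a : R) :
    (xhat J x k hk).hom (Submodule.Quotient.mk a) = a • x := rfl

theorem hom_ext_Xk {F : ModuleCat.{u} R} {k : ℕ} {f g : Xk J k ⟶ F}
    (h : f.hom (Submodule.Quotient.mk 1) = g.hom (Submodule.Quotient.mk 1)) : f = g := by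
  apply ModuleCat.hom_ext
  apply LinearMap.ext
  intro y
  obtain ⟨a, rfl⟩ := Submodule.Quotient.mk_surjective _ y
  have h1 : (Submodule.Quotient.mk a : R ⧸ J ^ k) = a • Submodule.Quotient.mk 1 := by
    rw [← Submodule.Quotient.mk_smul, smul_eq_mul, mul_one]
  rw [h1, map_smul, map_smul, h]

theorem tr_xhat {F : ModuleCat.{u} R} (x : F) {k l : ℕ} (h : k ≤ l)
    (hk : ∀ a ∈ J ^ k, a • x = 0) :
    tr J h ≫ xhat J x k hk = xhat J x l (fun a ha => hk a (Ideal.pow_le_pow_right h ha)) := by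
  apply hom_ext_Xk
  rfl

theorem xhat_comp {F F' : ModuleCat.{u} R} (φ : F ⟶ F') (x : F) (k : ℕ)
    (hk : ∀ a ∈ J ^ k, a • x = 0) :
    xhat J x k hk ≫ φ = xhat J (φ.hom x) k (fun a ha => by rw [← map_smul, hk a ha, map_zero]) := by
  apply hom_ext_Xk
  change φ.hom ((1 : R) • x) = (1 : R) • φ.hom x
  rw [map_smul]

theorem xhat_add {F : ModuleCat.{u} R} (x y : F) (k : ℕ) (hx : ∀ a ∈ J ^ k, a • x = 0)
    (hy : ∀ a ∈ J ^ k, a • y = 0) :
    xhat J (x + y) k (fun a ha => by rw [smul_add, hx a ha, hy a ha, add_zero]) =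
      xhat J x k hx + xhat J y k hy := by
  apply hom_ext_Xk
  change (1 : R) • (x + y) = (1 : R) • x + (1 : R) • y
  rw [smul_add]

theorem xhat_smul {F : ModuleCat.{u} R} (c : R) (x : F) (k : ℕ) (hx : ∀ a ∈ J ^ k, a • x = 0) :
    xhat J (c • x) k (fun a ha => by rw [smul_comm, hx a ha, smul_zero]) = c • xhat J x k hx := by
  apply hom_ext_Xk
  change (1 : R) • (c • x) = c • ((1 : R) • x)
  rw [smul_comm]

variable (n : ℕ) (G : ModuleCat.{u} R)

/-- The value of `θ(e)` at `x`, computed at level `k`. -/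
noncomputable def θval {F : ModuleCat.{u} R} (e : E n F G) (x : F) (k : ℕ)
    (hk : ∀ a ∈ J ^ k, a • x = 0) : (localCohomology J n).obj G :=
  (cls J n G k).hom ((Epre n (xhat J x k hk) G).hom e)

theorem θval_mono {F : ModuleCat.{u} R} (e : E n F G) (x : F) {k l : ℕ} (h : k ≤ l)
    (hk : ∀ a ∈ J ^ k, a • x = 0) (hl : ∀ a ∈ J ^ l, a • x = 0) :
    θval J n G e x k hk = θval J n G e x l hl := by
  unfold θval
  have h1 : xhat J x l hl = tr J h ≫ xhat J x k hk := (tr_xhat J x h hk).symm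
  rw [h1, Epre_comp, cls_restrict]

theorem θval_indep {F : ModuleCat.{u} R} (e : E n F G) (x : F) (k l : ℕ)
    (hk : ∀ a ∈ J ^ k, a • x = 0) (hl : ∀ a ∈ J ^ l, a • x = 0) :
    θval J n G e x k hk = θval J n G e x l hl := by
  have hm : ∀ a ∈ J ^ (max k l), a • x = 0 :=
    fun a ha => hk a (Ideal.pow_le_pow_right (le_max_left k l) ha)
  rw [θval_mono J n G e x (le_max_left k l) hk hm, θval_mono J n G e x (le_max_right k l) hl hm]

theorem θval_add_left {F : ModuleCat.{u} R} (e e' : E n F G) (x : F) (k : ℕ)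
    (hk : ∀ a ∈ J ^ k, a • x = 0) :
    θval J n G (e + e') x k hk = θval J n G e x k hk + θval J n G e' x k hk := by
  unfold θval
  rw [map_add, map_add]

theorem θval_smul_left {F : ModuleCat.{u} R} (c : R) (e : E n F G) (x : F) (k : ℕ)
    (hk : ∀ a ∈ J ^ k, a • x = 0) :
    θval J n G (c • e) x k hk = c • θval J n G e x k hk := by
  unfold θval
  rw [map_smul, map_smul]

theorem θval_add {F : ModuleCat.{u} R} (e : E n F G) (x y : F) (k : ℕ)
    (hx : ∀ a ∈ J ^ k, a • x = 0) (hy : ∀ a ∈ J ^ k, a • y = 0)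
    (hxy : ∀ a ∈ J ^ k, a • (x + y) = 0) :
    θval J n G e (x + y) k hxy = θval J n G e x k hx + θval J n G e y k hy := by
  unfold θval
  rw [xhat_add J x y k hx hy, Epre_add, map_add]

theorem θval_smul {F : ModuleCat.{u} R} (e : E n F G) (c : R) (x : F) (k : ℕ)
    (hx : ∀ a ∈ J ^ k, a • x = 0) (hcx : ∀ a ∈ J ^ k, a • (c • x) = 0) :
    θval J n G e (c • x) k hcx = c • θval J n G e x k hx := by
  unfold θval
  rw [xhat_smul J c x k hx, Epre_smul, map_smul]

theorem θval_Epre {F F' : ModuleCat.{u} R} (φ : F' ⟶ F) (e : E n F G) (x : F') (k : ℕ)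
    (hk : ∀ a ∈ J ^ k, a • x = 0) (hk' : ∀ a ∈ J ^ k, a • φ.hom x = 0) :
    θval J n G ((Epre n φ G).hom e) x k hk = θval J n G e (φ.hom x) k hk' := by
  unfold θval
  rw [← Epre_comp, xhat_comp]

end Theta

section ThetaLin

variable (J : Ideal R) (n : ℕ) (G : ModuleCat.{u} R) {F : ModuleCat.{u} R}
  (hF : LocCoh.IsPowerTorsion J F)

/-- The comparison map `Ext^n(F, G) → Hom(F, H^n_J(G))` for `J`-power-torsion `F`. -/
noncomputable def θ : E n F G →ₗ[R] (F →ₗ[R] (localCohomology J n).obj G) where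
  toFun e :=
    { toFun := fun x => θval J n G e x (hF x).choose (hF x).choose_spec
      map_add' := by
        intro x y
        have hx := (hF x).choose_spec
        have hy := (hF y).choose_spec
        set kx := (hF x).choose
        set ky := (hF y).choose
        have hx' : ∀ a ∈ J ^ (max kx ky), a • x = 0 :=
          fun a ha => hx a (Ideal.pow_le_pow_right (le_max_left _ _) ha)
        have hy' : ∀ a ∈ J ^ (max kx ky), a • y = 0 :=
          fun a ha => hy a (Ideal.pow_le_pow_right (le_max_right _ _) ha)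
        have hxy' : ∀ a ∈ J ^ (max kx ky), a • (x + y) = 0 :=
          fun a ha => by rw [smul_add, hx' a ha, hy' a ha, add_zero]
        rw [θval_indep J n G e (x + y) _ (max kx ky) _ hxy', θval_indep J n G e x _ (max kx ky) _ hx',
          θval_indep J n G e y _ (max kx ky) _ hy', θval_add J n G e x y _ hx' hy' hxy']
      map_smul' := by
        intro c x
        have hx := (hF x).choose_spec
        have hcx : ∀ a ∈ J ^ (hF x).choose, a • (c • x) = 0 :=
          fun a ha => by rw [smul_comm, hx a ha, smul_zero]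
        rw [θval_indep J n G e (c • x) _ _ _ hcx, θval_smul J n G e c x _ hx hcx]
        rfl }
  map_add' := by
    intro e e'
    apply LinearMap.ext
    intro x
    exact θval_add_left J n G e e' x _ _
  map_smul' := by
    intro c e
    apply LinearMap.ext
    intro x
    exact θval_smul_left J n G c e x _ _

theorem θ_apply (e : E n F G) (x : F) (k : ℕ) (hk : ∀ a ∈ J ^ k, a • x = 0) :
    θ J n G hF e x = θval J n G e x k hk :=
  θval_indep J n G e x _ _ _ _

theorem θ_Epre {F' : ModuleCat.{u} R} (hF' : LocCoh.IsPowerTorsion J F') (φ : F' ⟶ F)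
    (e : E n F G) (x : F') :
    θ J n G hF' ((Epre n φ G).hom e) x = θ J n G hF e (φ.hom x) := by
  obtain ⟨k, hk⟩ := hF' x
  have hk' : ∀ a ∈ J ^ k, a • φ.hom x = 0 := fun a ha => by rw [← map_smul, hk a ha, map_zero]
  rw [θ_apply J n G hF' _ x k hk, θ_apply J n G hF e _ k hk', θval_Epre J n G φ e x k hk hk']

theorem θ_Xk_one (k : ℕ) (hk : LocCoh.IsPowerTorsion J (Xk J k)) (e : E n (Xk J k) G) :
    θ J n G hk e (Submodule.Quotient.mk 1) = (cls J n G k).hom e := by
  have h1 : ∀ a ∈ J ^ k, a • (Submodule.Quotient.mk 1 : R ⧸ J ^ k) = 0 := by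
    intro a ha
    rw [← Submodule.Quotient.mk_smul, smul_eq_mul, mul_one]
    exact (Submodule.Quotient.mk_eq_zero _).mpr ha
  rw [θ_apply J n G hk e _ k h1]
  unfold θval
  have : xhat J (Submodule.Quotient.mk 1 : Xk J k) k h1 = 𝟙 _ := by
    apply hom_ext_Xk
    change (1 : R) • (Submodule.Quotient.mk 1 : R ⧸ J ^ k) = Submodule.Quotient.mk 1
    rw [one_smul]
  rw [this, Epre_id]

end ThetaLin

section Main

variable (J : Ideal R) (n : ℕ) (G : ModuleCat.{u} R)

/-- Finite modules killed by a power of `J`. -/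
def InC (F : ModuleCat.{u} R) : Prop :=
  Module.Finite R F ∧ ∃ k : ℕ, ∀ a ∈ J ^ k, ∀ x : F, a • x = 0

variable {J} in
theorem InC.isPowerTorsion {F : ModuleCat.{u} R} (h : InC J F) : LocCoh.IsPowerTorsion J F := by
  obtain ⟨_, k, hk⟩ := h
  exact fun x => ⟨k, fun a ha => hk a ha x⟩

/-- The vanishing hypothesis in degree `n - 1`. -/
def Hvan : Prop := ∀ F : ModuleCat.{u} R, InC J F → ∀ i : ℕ, i + 1 = n → Subsingleton (E i F G)

variable {J n G}

theorem InC.ker [IsNoetherianRing R] {F F' : ModuleCat.{u} R} (φ : F' ⟶ F) (h' : InC J F') :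
    InC J (ModuleCat.of R (LinearMap.ker φ.hom)) := by
  obtain ⟨hfin, k, hk⟩ := h'
  refine ⟨?_, k, fun a ha x => ?_⟩
  · change Module.Finite R (LinearMap.ker φ.hom)
    have : IsNoetherian R F' := isNoetherian_of_isNoetherianRing_of_finite R F'
    infer_instance
  · apply Subtype.ext
    exact hk a ha x.1

theorem Epre_injective_of_surjective [IsNoetherianRing R] (hv : Hvan J n G)
    {F F' : ModuleCat.{u} R} (φ : F' ⟶ F) (hφ : Function.Surjective φ.hom) (h' : InC J F') :
    Function.Injective (Epre n φ G).hom := by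
  cases n with
  | zero =>
    have : Epi φ := (ModuleCat.epi_iff_surjective _).mpr hφ
    exact Epre_injective_of_epi_zero G φ
  | succ i =>
    rw [injective_iff_map_eq_zero]
    intro e he
    have hS := LinearMap.shortExact_shortComplexKer hφ
    obtain ⟨x₁, hx₁⟩ := pre_exact₃ _ hS G i e he
    have := hv _ (InC.ker φ h') i rfl
    rw [← hx₁, Subsingleton.elim x₁ 0, map_zero]

theorem Epre_exact_mid {F F' : ModuleCat.{u} R} (φ : F' ⟶ F) (hφ : Function.Surjective φ.hom)
    (e : E n F' G)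
    (he : (Epre n (ModuleCat.ofHom (LinearMap.ker φ.hom).subtype) G).hom e = 0) :
    ∃ e' : E n F G, (Epre n φ G).hom e' = e :=
  pre_exact₂ _ (LinearMap.shortExact_shortComplexKer hφ) G n e he

section Pi

variable {Q : Type u} [AddCommGroup Q] [Module R Q] (b : ℕ)

/-- The finite power `Q^b`. -/
abbrev PiQ : ModuleCat.{u} R := ModuleCat.of R (Fin b → Q)

noncomputable abbrev ιj (j : Fin b) : ModuleCat.of R Q ⟶ PiQ (R := R) (Q := Q) b :=
  ModuleCat.ofHom (LinearMap.single R (fun _ : Fin b => Q) j)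

noncomputable abbrev πj (j : Fin b) : PiQ (R := R) (Q := Q) b ⟶ ModuleCat.of R Q :=
  ModuleCat.ofHom (LinearMap.proj (R := R) (φ := fun _ : Fin b => Q) j)

theorem sum_πj_ιj : (∑ j : Fin b, πj (R := R) (Q := Q) b j ≫ ιj b j) = 𝟙 (PiQ (R := R) (Q := Q) b) := by
  apply ModuleCat.hom_ext
  rw [ModuleCat.hom_sum]
  exact LinearMap.lsum_single R (fun _ : Fin b => Q) R

theorem E_pi_eq_zero (e : E n (PiQ (R := R) (Q := Q) b) G)
    (h : ∀ j : Fin b, (Epre n (ιj b j) G).hom e = 0) : e = 0 := by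
  rw [← Epre_id n G e, ← sum_πj_ιj b, Epre_sum]
  apply Finset.sum_eq_zero
  intro j _
  rw [Epre_comp, h j, map_zero]

theorem E_pi_sum (e : E n (PiQ (R := R) (Q := Q) b) G) :
    e = ∑ j : Fin b, (Epre n (πj b j) G).hom ((Epre n (ιj b j) G).hom e) := by
  conv_lhs => rw [← Epre_id n G e, ← sum_πj_ιj b, Epre_sum]
  apply Finset.sum_congr rfl
  intro j _
  rw [Epre_comp]

end Pi

theorem inC_pi (b m : ℕ) : InC J (PiQ (R := R) (Q := R ⧸ J ^ m) b) := by
  refine ⟨?_, m, fun a ha p => ?_⟩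
  · change Module.Finite R (Fin b → R ⧸ J ^ m)
    infer_instance
  · funext j
    obtain ⟨c, hc⟩ := Submodule.Quotient.mk_surjective _ (p j)
    change a • p j = 0
    rw [← hc, ← Submodule.Quotient.mk_smul]
    exact (Submodule.Quotient.mk_eq_zero _).mpr (Ideal.mul_mem_right _ _ ha)

/-- The sum map `(R/J^m)^b → F` attached to a family killed by `J^m`. -/
noncomputable def sumMap {F : ModuleCat.{u} R} {b : ℕ} (v : Fin b → F) (m : ℕ)
    (hm : ∀ j, ∀ a ∈ J ^ m, a • v j = 0) : PiQ (R := R) (Q := R ⧸ J ^ m) b ⟶ F :=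
  ModuleCat.ofHom (LinearMap.lsum R (fun _ : Fin b => R ⧸ J ^ m) R
    (fun j => (xhat J (v j) m (hm j)).hom))

theorem ιj_sumMap {F : ModuleCat.{u} R} {b : ℕ} (v : Fin b → F) (m : ℕ)
    (hm : ∀ j, ∀ a ∈ J ^ m, a • v j = 0) (j : Fin b) :
    ιj (R := R) (Q := R ⧸ J ^ m) b j ≫ sumMap v m hm = xhat J (v j) m (hm j) := by
  apply ModuleCat.hom_ext
  apply LinearMap.ext
  intro y
  change (LinearMap.lsum R (fun _ : Fin b => R ⧸ J ^ m) R
    (fun j => (xhat J (v j) m (hm j)).hom)) (LinearMap.single R (fun _ : Fin b => R ⧸ J ^ m) j y) = _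
  rw [LinearMap.coe_single, LinearMap.lsum_piSingle]

theorem sumMap_surjective {F : ModuleCat.{u} R} {b : ℕ} (v : Fin b → F) (m : ℕ)
    (hm : ∀ j, ∀ a ∈ J ^ m, a • v j = 0) (hv : Submodule.span R (Set.range v) = ⊤) :
    Function.Surjective (sumMap v m hm).hom := by
  intro x
  have hx : x ∈ Submodule.span R (Set.range v) := by rw [hv]; trivial
  obtain ⟨c, hc⟩ := (Submodule.mem_span_range_iff_exists_fun R).mp hx
  refine ⟨fun j => Submodule.Quotient.mk (c j), ?_⟩
  change (LinearMap.lsum R (fun _ : Fin b => R ⧸ J ^ m) R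
    (fun j => (xhat J (v j) m (hm j)).hom)) _ = x
  rw [LinearMap.lsum_apply, LinearMap.sum_apply, ← hc]
  apply Finset.sum_congr rfl
  intro j _
  rfl

theorem θ_injective [IsNoetherianRing R] (hv : Hvan J n G) {F : ModuleCat.{u} R} (hF : InC J F) :
    Function.Injective (θ J n G hF.isPowerTorsion) := by
  rw [injective_iff_map_eq_zero]
  intro e he
  obtain ⟨hfin, k, hk⟩ := id hF
  obtain ⟨b, v, hspan⟩ := Module.Finite.exists_fin (R := R) (M := F)
  have h1 : ∀ j, ∃ m, ∃ hm : ∀ a ∈ J ^ m, a • v j = 0,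
      (Epre n (xhat J (v j) m hm) G).hom e = 0 := by
    intro j
    have h0 : θ J n G hF.isPowerTorsion e (v j) = 0 := by rw [he]; rfl
    rw [θ_apply J n G _ e (v j) k (fun a ha => hk a ha (v j))] at h0
    unfold θval at h0
    rw [cls_eq_zero_iff] at h0
    obtain ⟨m, hkm, hm⟩ := h0
    refine ⟨m, fun a ha => hk a (Ideal.pow_le_pow_right hkm ha) (v j), ?_⟩
    rw [← tr_xhat J (v j) hkm (fun a ha => hk a ha (v j)), Epre_comp]
    exact hm
  choose m hm hme using h1
  let M := Finset.univ.sup m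
  have hM : ∀ j, m j ≤ M := fun j => Finset.le_sup (Finset.mem_univ j)
  have hmM : ∀ j, ∀ a ∈ J ^ M, a • v j = 0 :=
    fun j a ha => hm j a (Ideal.pow_le_pow_right (hM j) ha)
  have h2 : ∀ j, (Epre n (xhat J (v j) M (hmM j)) G).hom e = 0 := by
    intro j
    rw [← tr_xhat J (v j) (hM j) (hm j), Epre_comp, hme j, map_zero]
  have h3 : (Epre n (sumMap v M hmM) G).hom e = 0 := by
    apply E_pi_eq_zero
    intro j
    rw [← Epre_comp, ιj_sumMap]
    exact h2 j
  exact (injective_iff_map_eq_zero _).mp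
    (Epre_injective_of_surjective hv (sumMap v M hmM) (sumMap_surjective v M hmM hspan)
      (inC_pi b M)) e h3

theorem InC.of_surjective {F F' : ModuleCat.{u} R} (φ : F' ⟶ F)
    (hφ : Function.Surjective φ.hom) (h' : InC J F') : InC J F := by
  obtain ⟨hfin, k, hk⟩ := h'
  refine ⟨Module.Finite.of_surjective φ.hom hφ, k, fun a ha x => ?_⟩
  obtain ⟨y, rfl⟩ := hφ x
  rw [← map_smul, hk a ha y, map_zero]

theorem inC_Xk (k : ℕ) : InC J (Xk J k) := by
  refine ⟨?_, k, fun a ha x => ?_⟩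
  · change Module.Finite R (R ⧸ J ^ k)
    infer_instance
  · obtain ⟨c, rfl⟩ := Submodule.Quotient.mk_surjective _ x
    rw [← Submodule.Quotient.mk_smul]
    exact (Submodule.Quotient.mk_eq_zero _).mpr (Ideal.mul_mem_right _ _ ha)

/-- Descent of a preimage under `θ` along a surjection. -/
theorem descend [IsNoetherianRing R] (hv : Hvan J n G) {F F' : ModuleCat.{u} R} (φ : F' ⟶ F)
    (hφ : Function.Surjective φ.hom) (h' : InC J F')
    (h : F →ₗ[R] (localCohomology J n).obj G) (e₀ : E n F' G)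
    (he₀ : θ J n G h'.isPowerTorsion e₀ = h.comp φ.hom) :
    ∃ e : E n F G, θ J n G (InC.of_surjective φ hφ h').isPowerTorsion e = h := by
  have hK : InC J (ModuleCat.of R (LinearMap.ker φ.hom)) := InC.ker φ h'
  have h0 : (Epre n (ModuleCat.ofHom (LinearMap.ker φ.hom).subtype) G).hom e₀ = 0 := by
    apply θ_injective hv hK
    rw [map_zero]
    apply LinearMap.ext
    intro y
    rw [θ_Epre J n G h'.isPowerTorsion hK.isPowerTorsion, he₀]
    change h (φ.hom y.1) = 0
    rw [LinearMap.mem_ker.mp y.2, map_zero]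
  obtain ⟨e, he⟩ := Epre_exact_mid φ hφ e₀ h0
  refine ⟨e, ?_⟩
  apply LinearMap.ext
  intro x
  obtain ⟨y, rfl⟩ := hφ x
  rw [← θ_Epre J n G (InC.of_surjective φ hφ h').isPowerTorsion h'.isPowerTorsion φ e y, he, he₀]
  rfl

theorem linearMap_ext_Xk {k : ℕ} {N : Type*} [AddCommGroup N] [Module R N]
    {f g : (R ⧸ J ^ k) →ₗ[R] N}
    (h : f (Submodule.Quotient.mk 1) = g (Submodule.Quotient.mk 1)) : f = g := by
  apply LinearMap.ext
  intro y
  obtain ⟨a, rfl⟩ := Submodule.Quotient.mk_surjective _ y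
  have h1 : (Submodule.Quotient.mk a : R ⧸ J ^ k) = a • Submodule.Quotient.mk 1 := by
    rw [← Submodule.Quotient.mk_smul, smul_eq_mul, mul_one]
  rw [h1, map_smul, map_smul, h]

theorem tr_surjective {k m : ℕ} (hkm : k ≤ m) : Function.Surjective (tr J hkm).hom := by
  intro y
  obtain ⟨a, rfl⟩ := Submodule.Quotient.mk_surjective _ y
  exact ⟨Submodule.Quotient.mk a, rfl⟩

theorem surj_Xk [IsNoetherianRing R] (hv : Hvan J n G) (k : ℕ)
    (h : (R ⧸ J ^ k) →ₗ[R] (localCohomology J n).obj G) :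
    ∃ e : E n (Xk J k) G, θ J n G (inC_Xk k).isPowerTorsion e = h := by
  obtain ⟨m0, e0, hc⟩ := exists_rep J n G (h (Submodule.Quotient.mk 1))
  have hm0 : m0 ≤ max k m0 := le_max_right _ _
  have hkm : k ≤ max k m0 := le_max_left _ _
  obtain ⟨e, he⟩ := descend hv (tr J hkm) (tr_surjective hkm) (inC_Xk (max k m0)) h
    ((Epre n (tr J hm0) G).hom e0) (by
      apply linearMap_ext_Xk
      rw [θ_Xk_one, cls_restrict, hc]
      rfl)
  exact ⟨e, he⟩

theorem ιj_πj_same {Q : Type u} [AddCommGroup Q] [Module R Q] (b : ℕ) (j : Fin b) :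
    ιj (R := R) (Q := Q) b j ≫ πj b j = 𝟙 _ := by
  apply ModuleCat.hom_ext
  exact LinearMap.proj_comp_single_same R (fun _ : Fin b => Q) j

theorem ιj_πj_ne {Q : Type u} [AddCommGroup Q] [Module R Q] (b : ℕ) (i j : Fin b) (h : i ≠ j) :
    ιj (R := R) (Q := Q) b j ≫ πj b i = 0 := by
  apply ModuleCat.hom_ext
  exact LinearMap.proj_comp_single_ne R (fun _ : Fin b => Q) i j h

theorem surj_pi [IsNoetherianRing R] (hv : Hvan J n G) (b k : ℕ)
    (h : (Fin b → R ⧸ J ^ k) →ₗ[R] (localCohomology J n).obj G) :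
    ∃ e : E n (PiQ (R := R) (Q := R ⧸ J ^ k) b) G, θ J n G (inC_pi b k).isPowerTorsion e = h := by
  have h1 : ∀ j : Fin b, ∃ e : E n (Xk J k) G, θ J n G (inC_Xk k).isPowerTorsion e =
      h.comp (LinearMap.single R (fun _ : Fin b => R ⧸ J ^ k) j) := fun j => surj_Xk hv k _
  choose ej hej using h1
  refine ⟨∑ i : Fin b, (Epre n (πj b i) G).hom (ej i), ?_⟩
  apply LinearMap.pi_ext'
  intro j
  apply LinearMap.ext
  intro y
  rw [← hej j]
  change θ J n G (inC_pi b k).isPowerTorsion _ ((ιj (R := R) (Q := R ⧸ J ^ k) b j).hom y) = _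
  rw [← θ_Epre J n G (inC_pi b k).isPowerTorsion (inC_Xk k).isPowerTorsion, map_sum]
  congr 2
  rw [Finset.sum_eq_single j]
  · rw [← Epre_comp, ιj_πj_same, Epre_id]
  · intro i _ hij
    rw [← Epre_comp, ιj_πj_ne b i j hij, Epre_zero]
  · intro hj
    exact absurd (Finset.mem_univ j) hj

theorem θ_surjective [IsNoetherianRing R] (hv : Hvan J n G) {F : ModuleCat.{u} R} (hF : InC J F) :
    Function.Surjective (θ J n G hF.isPowerTorsion) := by
  intro h
  obtain ⟨hfin, k, hk⟩ := id hF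
  obtain ⟨b, v, hspan⟩ := Module.Finite.exists_fin (R := R) (M := F)
  have hm : ∀ j, ∀ a ∈ J ^ k, a • v j = 0 := fun j a ha => hk a ha (v j)
  obtain ⟨e₀, he₀⟩ := surj_pi hv b k (h.comp (sumMap v k hm).hom)
  obtain ⟨e, he⟩ := descend hv (sumMap v k hm) (sumMap_surjective v k hm hspan) (inC_pi b k) h e₀ he₀
  exact ⟨e, he⟩

/-- The representability isomorphism. -/
noncomputable def θEquiv [IsNoetherianRing R] (hv : Hvan J n G) {F : ModuleCat.{u} R}
    (hF : InC J F) : E n F G ≃ₗ[R] (F →ₗ[R] (localCohomology J n).obj G) :=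
  LinearEquiv.ofBijective (θ J n G hF.isPowerTorsion) ⟨θ_injective hv hF, θ_surjective hv hF⟩

theorem inC_iff_support [IsNoetherianRing R] (F : ModuleCat.{u} R) :
    InC J F ↔ Module.Finite R F ∧ Module.support R F ⊆ PrimeSpectrum.zeroLocus (J : Set R) := by
  constructor
  · rintro ⟨hfin, k, hk⟩
    refine ⟨hfin, ?_⟩
    rw [Module.support_eq_zeroLocus]
    have hle : J ^ k ≤ Module.annihilator R F :=
      fun a ha => Module.mem_annihilator.mpr (hk a ha)
    intro p hp
    have h1 : J ^ k ≤ p.asIdeal := hle.trans hp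
    exact (PrimeSpectrum.mem_zeroLocus _ _).mpr (p.isPrime.le_of_pow_le h1)
  · rintro ⟨hfin, hsupp⟩
    refine ⟨hfin, ?_⟩
    rw [Module.support_eq_zeroLocus, PrimeSpectrum.zeroLocus_subset_zeroLocus_iff] at hsupp
    have h2 : J ≤ (Module.annihilator R F).radical := hsupp
    obtain ⟨k, hk⟩ := Ideal.exists_pow_le_of_le_radical_of_fg h2 (IsNoetherian.noetherian J)
    exact ⟨k, fun a ha x => Module.mem_annihilator.mp (hk ha) x⟩

end Main

end Groth.Agent.Lib.Helper8.ExtRep
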