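import Mathlib

/-! Rees' lemma in top degree (helper8): for an `M`-regular sequence `rs` killing `N`,
`Ext^i(N, M) = 0` for `i < rs.length` and `Ext^{rs.length}(N, M) ≃ Hom(N, M/(rs)M)`. -/

set_option autoImplicit false
universe u
open CategoryTheory CategoryTheory.Abelian RingTheory.Sequence

namespace Groth.Agent.Lib.Helper8.Rees

variable {R : Type u} [CommRing R]

theorem ext_smul_eq_zero_of_mem_annihilator_left {N M : ModuleCat.{u} R} {r : R}
    (hr : r ∈ Module.annihilator R N) {n : ℕ} (x : Ext.{u} N M n) : r • x = 0 := by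
  have h0 : r • 𝟙 N = 0 := by
    ext m
    exact Module.mem_annihilator.mp hr m
  have h1 : r • x = (Ext.mk₀ (r • 𝟙 N)).comp x (zero_add n) := by simp [Ext.mk₀_smul]
  rw [h1, h0, Ext.mk₀_zero, Ext.zero_comp]

section Step

variable (M N : ModuleCat.{u} R) (x : R) (hx : IsSMulRegular M x)
  (hN : x ∈ Module.annihilator R N)

include hx hN in
theorem hom_subsingleton : Subsingleton (Ext.{u} N M 0) := by
  have : Subsingleton (N ⟶ M) := by
    refine ⟨fun f g => ?_⟩
    ext n
    apply hx
    change x • f.hom n = x • g.hom n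
    rw [← map_smul, ← map_smul, Module.mem_annihilator.mp hN n, map_zero, map_zero]
  exact Ext.addEquiv₀.subsingleton

include hx hN in
theorem succ_subsingleton (j : ℕ)
    (h : Subsingleton (Ext.{u} N (ModuleCat.of R (QuotSMulTop x M)) j)) :
    Subsingleton (Ext.{u} N M (j + 1)) := by
  have hS := hx.smulShortComplex_shortExact
  refine ⟨fun a b => ?_⟩
  suffices ∀ z : Ext.{u} N M (j + 1), z = 0 by rw [this a, this b]
  intro z
  have hz : z.comp (Ext.mk₀ (M.smulShortComplex x).f) (add_zero _) = 0 := by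
    have h := ext_smul_eq_zero_of_mem_annihilator_left hN z
    rw [Ext.smul_eq_comp_mk₀] at h
    exact h
  obtain ⟨w, hw⟩ := Ext.covariant_sequence_exact₁ N hS z hz rfl
  have hw0 : w = 0 := Subsingleton.elim (α := Ext.{u} N (ModuleCat.of R (QuotSMulTop x M)) j) _ _
  rw [← hw, hw0, Ext.zero_comp]
  rfl

include hx hN in
theorem step_equiv (j : ℕ) (h : Subsingleton (Ext.{u} N M j)) :
    Nonempty (Ext.{u} N (ModuleCat.of R (QuotSMulTop x M)) j ≃ₗ[R] Ext.{u} N M (j + 1)) := by
  have hS := hx.smulShortComplex_shortExact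
  refine ⟨LinearEquiv.ofBijective (Ext.postcompOfLinear hS.extClass R N (rfl : j + 1 = j + 1))
    ⟨?_, ?_⟩⟩
  · rw [injective_iff_map_eq_zero]
    intro w hw
    have hw' : w.comp hS.extClass rfl = 0 := hw
    obtain ⟨y, hy⟩ := Ext.covariant_sequence_exact₃ N hS w rfl hw'
    have hy0 : y = 0 := Subsingleton.elim (α := Ext.{u} N M j) _ _
    rw [← hy, hy0, Ext.zero_comp]
  · intro (z : Ext.{u} N M (j + 1))
    have hz : z.comp (Ext.mk₀ (M.smulShortComplex x).f) (add_zero _) = 0 := by
      have h := ext_smul_eq_zero_of_mem_annihilator_left (M := M) hN z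
      rw [Ext.smul_eq_comp_mk₀] at h
      exact h
    obtain ⟨w, hw⟩ := Ext.covariant_sequence_exact₁ N hS z hz rfl
    exact ⟨w, hw⟩

end Step

/-- Rees' lemma. -/
theorem rees (N : ModuleCat.{u} R) : ∀ (rs : List R) (M : ModuleCat.{u} R),
    (∀ r ∈ rs, r ∈ Module.annihilator R N) → IsWeaklyRegular M rs →
    (∀ i < rs.length, Subsingleton (Ext.{u} N M i)) ∧
      Nonempty (Ext.{u} N M rs.length ≃ₗ[R]
        (N →ₗ[R] M ⧸ (Ideal.ofList rs • ⊤ : Submodule R M))) := by
  intro rs
  induction rs with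
  | nil =>
    intro M _ _
    refine ⟨fun i hi => absurd hi (by simp), ⟨?_⟩⟩
    have hbot : (Ideal.ofList ([] : List R) • ⊤ : Submodule R M) = ⊥ := by
      rw [Ideal.ofList_nil, Submodule.bot_smul]
    exact (Ext.linearEquiv₀ (R := R)).trans <| (ModuleCat.homLinearEquiv (S := R)).trans <|
      LinearEquiv.congrRight (Submodule.quotEquivOfEqBot _ hbot).symm
  | cons x rs ih =>
    intro M hann hreg
    rw [isWeaklyRegular_cons_iff] at hreg
    obtain ⟨hx, hreg'⟩ := hreg
    have hxN : x ∈ Module.annihilator R N := hann x List.mem_cons_self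
    obtain ⟨ihv, ⟨ihe⟩⟩ := ih (ModuleCat.of R (QuotSMulTop x M))
      (fun r hr => hann r (List.mem_cons_of_mem _ hr)) hreg'
    have hv : ∀ i < (x :: rs).length, Subsingleton (Ext.{u} N M i) := by
      intro i hi
      cases i with
      | zero => exact hom_subsingleton M N x hx hxN
      | succ j =>
        exact succ_subsingleton M N x hx hxN j (ihv j (by simpa using hi))
    refine ⟨hv, ?_⟩
    obtain ⟨e1⟩ := step_equiv M N x hx hxN rs.length (hv rs.length (by simp))
    exact ⟨e1.symm.trans <| ihe.trans <|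
      LinearEquiv.congrRight (Submodule.quotOfListConsSMulTopEquivQuotSMulTopInner M x rs).symm⟩

end Groth.Agent.Lib.Helper8.Rees
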