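import Mathlib
import Groth.Agent.S0563
import Groth.Agent.Lib.Helper5RLR2
import Groth.Agent.Lib.Helper8Rees

/-! Ext duality for finite length modules over a regular local ring (helper8), `Abelian.Ext` form. -/

set_option autoImplicit false
universe u
open CategoryTheory CategoryTheory.Abelian RingTheory.Sequence IsLocalRing

namespace Groth.Agent.Lib.Helper8.RegDual

variable (A : Type u) [CommRing A] [IsRegularLocalRing A] (n : ℕ) (hn : ringKrullDim A = n)

include hn in
/-- A regular system of parameters as a list. -/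
theorem exists_rsop : ∃ rs : List A, rs.length = n ∧ IsRegular A rs ∧
    Ideal.ofList rs = maximalIdeal A := by
  have hreg : ((maximalIdeal A).spanFinrank : WithBot ℕ∞) = ringKrullDim A :=
    IsRegularLocalRing.spanFinrank_maximalIdeal
  rw [hn] at hreg
  have hreg' : (maximalIdeal A).spanFinrank = n := by exact_mod_cast hreg
  obtain ⟨s, hs1, hs2⟩ := Submodule.FG.exists_span_finset_card_eq_spanFinrank
    (IsNoetherian.noetherian (maximalIdeal A))
  rw [hreg'] at hs1
  let e := s.equivFinOfCardEq hs1
  let x : Fin n → A := fun i => (e.symm i : A)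
  have hrange : Set.range x = (s : Set A) := by
    ext a
    constructor
    · rintro ⟨i, rfl⟩
      exact (e.symm i).2
    · intro ha
      exact ⟨e ⟨a, ha⟩, by simp [x]⟩
  have hx : Ideal.span (Set.range x) = maximalIdeal A := by
    rw [hrange]; exact hs2
  refine ⟨List.ofFn x, List.length_ofFn, ?_, ?_⟩
  · exact Groth.Agent.Lib.Helper5.isRegular_ofFn_of_span_eq_maximalIdeal hn x hx
  · rw [Groth.Agent.Lib.Helper5.ofList_ofFn_eq_span_range, hx]

/-- The residue module `A ⧸ m`. -/
abbrev kk : Type u := A ⧸ maximalIdeal A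

theorem length_kk : Module.length A (kk A) = 1 := by
  rw [Module.length_eq_one_iff]
  exact isSimpleModule_iff_isCoatom.mpr (Ideal.isMaximal_def.mp inferInstance)

theorem length_end_kk : Module.length A (kk A →ₗ[A] kk A) = 1 := by
  apply le_antisymm
  · rw [← length_kk A]
    let ev : (kk A →ₗ[A] kk A) →ₗ[A] kk A :=
      { toFun := fun f => f 1
        map_add' := fun _ _ => rfl
        map_smul' := fun _ _ => rfl }
    apply Module.length_le_of_injective ev
    intro f g hfg
    apply LinearMap.ext
    intro y
    obtain ⟨a, rfl⟩ := Ideal.Quotient.mk_surjective y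
    have h1 : (Ideal.Quotient.mk (maximalIdeal A) a : kk A) = a • (1 : kk A) := by
      rw [Algebra.smul_def, mul_one]; rfl
    rw [h1, map_smul, map_smul]
    exact congrArg (a • ·) hfg
  · rw [Order.one_le_iff_ne_zero, ne_eq, Module.length_eq_zero_iff, not_subsingleton_iff_nontrivial]
    refine ⟨LinearMap.id, 0, fun h => ?_⟩
    have := congrArg (fun f : kk A →ₗ[A] kk A => f 1) h
    exact one_ne_zero this

section Simple

variable (T : Type u) [AddCommGroup T] [Module A T] [IsSimpleModule A T]

theorem exists_equiv_kk : Nonempty (T ≃ₗ[A] kk A) := by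
  obtain ⟨I, hI, ⟨e⟩⟩ := isSimpleModule_iff_quot_maximal.mp ‹IsSimpleModule A T›
  obtain rfl := eq_maximalIdeal hI
  exact ⟨e⟩

include hn in
theorem ext_simple :
    (∀ i, i ≠ n → Subsingleton (Ext.{u} (ModuleCat.of A T) (ModuleCat.of A A) i)) ∧
      Module.length A (Ext.{u} (ModuleCat.of A T) (ModuleCat.of A A) n) = 1 := by
  obtain ⟨rs, hlen, hreg, hof⟩ := exists_rsop A n hn
  obtain ⟨e⟩ := exists_equiv_kk A T
  have hannT : Module.annihilator A T = maximalIdeal A := by
    rw [e.annihilator_eq, Ideal.annihilator_quotient]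
  have hann : ∀ r ∈ rs, r ∈ Module.annihilator A (ModuleCat.of A T) := by
    intro r hr
    change r ∈ Module.annihilator A T
    rw [hannT, ← hof]
    exact Ideal.subset_span hr
  obtain ⟨hv, ⟨iso⟩⟩ := Groth.Agent.Lib.Helper8.Rees.rees (ModuleCat.of A T) rs (ModuleCat.of A A)
    hann hreg.toIsWeaklyRegular
  constructor
  · intro i hi
    rcases lt_or_gt_of_ne hi with h | h
    · exact hv i (by omega)
    · have := Groth.Agent.S0563.result A n hn T
      exact HasProjectiveDimensionLT.subsingleton (ModuleCat.of A T) (n + 1) i (by omega) _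
  · rw [hlen] at iso
    have hsm : (Ideal.ofList rs • ⊤ : Submodule A A) = maximalIdeal A := by
      rw [hof, smul_eq_mul, Ideal.mul_top]
    have e2 : (A ⧸ (Ideal.ofList rs • ⊤ : Submodule A A)) ≃ₗ[A] kk A :=
      Submodule.quotEquivOfEq _ _ hsm
    rw [iso.length_eq, (LinearEquiv.arrowCongr e e2).length_eq]
    exact length_end_kk A

end Simple

/-- The short exact sequence `N → M → M ⧸ N`. -/
noncomputable abbrev subSC {M : Type u} [AddCommGroup M] [Module A M] (N : Submodule A M) :
    ShortComplex (ModuleCat.{u} A) :=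
  ShortComplex.mk (ModuleCat.ofHom N.subtype) (ModuleCat.ofHom N.mkQ) (by
    ext x
    simp)

omit [IsRegularLocalRing A] in
theorem subSC_shortExact {M : Type u} [AddCommGroup M] [Module A M] (N : Submodule A M) :
    (subSC A N).ShortExact :=
  ShortComplex.ShortExact.mk' ((ShortComplex.moduleCat_exact_iff _).mpr fun x hx => by
      have hx' : N.mkQ x = 0 := hx
      rw [Submodule.mkQ_apply, Submodule.Quotient.mk_eq_zero] at hx'
      exact ⟨⟨x, hx'⟩, rfl⟩)
    ((ModuleCat.mono_iff_injective _).mpr N.subtype_injective)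
    ((ModuleCat.epi_iff_surjective _).mpr N.mkQ_surjective)

include hn in
theorem ext_finiteLength (M : Type u) [AddCommGroup M] [Module A M] (hM : IsFiniteLength A M) :
    (∀ i, i ≠ n → Subsingleton (Ext.{u} (ModuleCat.of A M) (ModuleCat.of A A) i)) ∧
      Module.length A (Ext.{u} (ModuleCat.of A M) (ModuleCat.of A A) n) = Module.length A M := by
  induction hM with
  | @of_subsingleton M _ _ _ =>
    have hz : ∀ (i : ℕ) (x : Ext.{u} (ModuleCat.of A M) (ModuleCat.of A A) i), x = 0 := by
      intro i x
      have h0 : 𝟙 (ModuleCat.of A M) = 0 := by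
        ext m
        exact Subsingleton.elim _ _
      rw [← Ext.mk₀_id_comp x, h0, Ext.mk₀_zero, Ext.zero_comp]
    have hs : ∀ i, Subsingleton (Ext.{u} (ModuleCat.of A M) (ModuleCat.of A A) i) :=
      fun i => ⟨fun a b => by rw [hz i a, hz i b]⟩
    refine ⟨fun i _ => hs i, ?_⟩
    have := hs n
    rw [Module.length_eq_zero_iff.mpr inferInstance, Module.length_eq_zero_iff.mpr inferInstance]
  | @of_simple_quotient M _ _ N _ h ih =>
    obtain ⟨hvN, hlN⟩ := ih
    obtain ⟨hvT, hlT⟩ := ext_simple A n hn (M ⧸ N)
    have hS := subSC_shortExact A N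
    let Y := ModuleCat.of A A
    constructor
    · intro i hi
      refine ⟨fun a b => ?_⟩
      suffices ∀ x : Ext.{u} (ModuleCat.of A M) Y i, x = 0 by rw [this a, this b]
      intro x
      have := hvN i hi
      have := hvT i hi
      obtain ⟨x₃, hx₃⟩ := Ext.contravariant_sequence_exact₂ hS Y x (Subsingleton.elim _ _)
      rw [← hx₃, Subsingleton.elim x₃ 0, Ext.comp_zero]
    · let F := Ext.precompOfLinear (Ext.mk₀ (subSC A N).g) A Y (zero_add n)
      let G := Ext.precompOfLinear (Ext.mk₀ (subSC A N).f) A Y (zero_add n)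
      have hF : Function.Injective F := by
        rw [injective_iff_map_eq_zero]
        intro x₃ hx₃
        have hx₃' : (Ext.mk₀ (subSC A N).g).comp x₃ (zero_add n) = 0 := hx₃
        cases n with
        | zero =>
          have : Epi (subSC A N).g := hS.epi_g
          exact (injective_iff_map_eq_zero _).mp
            (Ext.precomp_mk₀_injective_of_epi Y (subSC A N).g) x₃ hx₃'
        | succ k =>
          obtain ⟨x₁, hx₁⟩ := Ext.contravariant_sequence_exact₃ hS Y x₃ hx₃' (Nat.add_comm 1 k)
          have := hvN k (by omega)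
          rw [← hx₁, Subsingleton.elim x₁ 0, Ext.comp_zero]
      have hG : Function.Surjective G := by
        intro x₁
        have := hvT (1 + n) (by omega)
        obtain ⟨x₂, hx₂⟩ := Ext.contravariant_sequence_exact₁ hS Y x₁ rfl (Subsingleton.elim _ _)
        exact ⟨x₂, hx₂⟩
      have hFG : Function.Exact F G := by
        intro y
        constructor
        · intro hy
          obtain ⟨x₃, hx₃⟩ := Ext.contravariant_sequence_exact₂ hS Y y hy
          exact ⟨x₃, hx₃⟩
        · rintro ⟨x₃, rfl⟩
          change (Ext.mk₀ (subSC A N).f).comp ((Ext.mk₀ (subSC A N).g).comp x₃ (zero_add n))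
            (zero_add n) = 0
          rw [← Ext.comp_assoc_of_second_deg_zero, Ext.mk₀_comp_mk₀, (subSC A N).zero,
            Ext.mk₀_zero, Ext.zero_comp]
      have hq : Module.length A (M ⧸ N) = 1 := Module.length_eq_one_iff.mpr inferInstance
      rw [Module.length_eq_add_of_exact F G hF hG hFG, hlT, hlN,
        Module.length_eq_add_of_exact N.subtype N.mkQ N.subtype_injective N.mkQ_surjective
          (LinearMap.exact_subtype_mkQ N), hq, add_comm]

end Groth.Agent.Lib.Helper8.RegDual
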