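import Mathlib
import Groth.Agent.Lib.Helper8ExtRep
import Groth.Agent.Lib.Helper8RegDual
import Groth.Agent.Lib.Helper8LC3
import Groth.Agent.S5155
import Groth.Agent.S5168

/-! `H^n_m(A)` is an injective hull of the residue field for a regular local ring (helper8). -/

set_option autoImplicit false
universe u
open CategoryTheory CategoryTheory.Abelian IsLocalRing

namespace Groth.Agent.Lib.Helper8.RegHull
open Groth.Agent.Lib.Helper8.ExtLES Groth.Agent.Lib.Helper8.Bridge Groth.Agent.Lib.Helper8.LC
  Groth.Agent.Lib.Helper8.ExtRep Groth.Agent.Lib.Helper8.RegDual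

section FL

variable {A : Type u} [CommRing A] [IsLocalRing A] [IsNoetherianRing A]

theorem isFiniteLength_of_finite_of_pow_smul (F : Type u) [AddCommGroup F] [Module A F]
    [Module.Finite A F] (k : ℕ) (hk : ∀ a ∈ maximalIdeal A ^ k, ∀ x : F, a • x = 0) :
    IsFiniteLength A F := by
  by_cases hF : Subsingleton F
  · exact IsFiniteLength.of_subsingleton
  have hk0 : k ≠ 0 := by
    rintro rfl
    apply hF
    refine ⟨fun x y => ?_⟩
    have h1 := hk 1 (by simp) x
    have h2 := hk 1 (by simp) y
    rw [one_smul] at h1 h2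
    rw [h1, h2]
  have hp : maximalIdeal A ∈ (maximalIdeal A ^ k).minimalPrimes := by
    refine ⟨⟨inferInstance, Ideal.pow_le_self hk0⟩, fun q hq _ => ?_⟩
    exact hq.1.le_of_pow_le hq.2
  have hart : IsArtinianRing (A ⧸ maximalIdeal A ^ k) :=
    IsLocalRing.quotient_artinian_of_mem_minimalPrimes_of_isLocalRing _ hp
  have hM : Module.IsTorsionBySet A F (maximalIdeal A ^ k : Ideal A) := fun x a => hk a.1 a.2 x
  let _ : Module (A ⧸ maximalIdeal A ^ k) F := hM.module
  have : IsScalarTower A (A ⧸ maximalIdeal A ^ k) F := hM.isScalarTower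
  have : Module.Finite (A ⧸ maximalIdeal A ^ k) F := Module.Finite.of_restrictScalars_finite A _ F
  have : IsArtinian (A ⧸ maximalIdeal A ^ k) F := inferInstance
  have hA : IsArtinian A F :=
    isArtinian_of_surjective_algebraMap (R := A ⧸ maximalIdeal A ^ k) Ideal.Quotient.mk_surjective
  have hN : IsNoetherian A F := isNoetherian_of_isNoetherianRing_of_finite A F
  exact isFiniteLength_iff_isNoetherian_isArtinian.mpr ⟨hN, hA⟩

theorem isFiniteLength_of_inC {F : ModuleCat.{u} A} (hF : InC (maximalIdeal A) F) :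
    IsFiniteLength A F := by
  obtain ⟨hfin, k, hk⟩ := hF
  exact isFiniteLength_of_finite_of_pow_smul F k hk

end FL

section Reg

variable (A : Type u) [CommRing A] [IsRegularLocalRing A] (n : ℕ) (hn : ringKrullDim A = n)

include hn in
theorem E_subsingleton_of_inC {F : ModuleCat.{u} A} (hF : InC (maximalIdeal A) F) (i : ℕ)
    (hi : i ≠ n) : Subsingleton (E i F (ModuleCat.of A A)) := by
  have hfl := isFiniteLength_of_inC hF
  have := (ext_finiteLength A n hn F hfl).1 i hi
  exact (subsingleton_E_iff i F (ModuleCat.of A A)).mpr this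

include hn in
theorem hvan : Hvan (maximalIdeal A) n (ModuleCat.of A A) :=
  fun F hF i hi => E_subsingleton_of_inC A n hn hF i (by omega)

/-- The top local cohomology. -/
abbrev Hn : Type u := (localCohomology (maximalIdeal A) n).obj (ModuleCat.of A A)

theorem isPowerTorsion_Hn : LocCoh.IsPowerTorsion (maximalIdeal A) (Hn A n) :=
  fun x => isPowerTorsion_H (maximalIdeal A) n (ModuleCat.of A A) x

include hn in
theorem injective_Hn : Module.Injective A (Hn A n) := by
  rw [Groth.Agent.S5168.result A (maximalIdeal A) (Hn A n) (isPowerTorsion_Hn A n)]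
  intro M _ _ hfin hk N g
  obtain ⟨k, hk⟩ := hk
  have hkM : ∀ a ∈ maximalIdeal A ^ k, ∀ x : M, a • x = 0 := by
    intro a ha x
    have : a • x ∈ (maximalIdeal A ^ k) • (⊤ : Submodule A M) :=
      Submodule.smul_mem_smul ha trivial
    rw [hk] at this
    exact (Submodule.mem_bot A).mp this
  have hCM : InC (maximalIdeal A) (ModuleCat.of A M) := ⟨hfin, k, hkM⟩
  have hCN : InC (maximalIdeal A) (ModuleCat.of A N) := by
    refine ⟨?_, k, fun a ha x => Subtype.ext (hkM a ha x.1)⟩
    change Module.Finite A N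
    have : IsNoetherian A M := isNoetherian_of_isNoetherianRing_of_finite A M
    infer_instance
  have hCQ : InC (maximalIdeal A) (ModuleCat.of A (M ⧸ N)) :=
    InC.of_surjective (ModuleCat.ofHom N.mkQ) N.mkQ_surjective hCM
  have hv := hvan A n hn
  let eN : E n (ModuleCat.of A N) (ModuleCat.of A A) := (θEquiv hv hCN).symm g
  have heN : θ (maximalIdeal A) n (ModuleCat.of A A) hCN.isPowerTorsion eN = g :=
    (θEquiv hv hCN).apply_symm_apply g
  have hS := subSC_shortExact A N
  have h0 : preδ (subSC A N) hS (ModuleCat.of A A) n eN = 0 := by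
    have := E_subsingleton_of_inC A n hn hCQ (n + 1) (by omega)
    exact Subsingleton.elim _ _
  obtain ⟨eM, heM⟩ := pre_exact₁ (subSC A N) hS (ModuleCat.of A A) n eN h0
  refine ⟨θ (maximalIdeal A) n (ModuleCat.of A A) hCM.isPowerTorsion eM, ?_⟩
  apply LinearMap.ext
  intro x
  rw [← heN, ← heM]
  exact (θ_Epre (maximalIdeal A) n (ModuleCat.of A A) hCM.isPowerTorsion hCN.isPowerTorsion
    (ModuleCat.ofHom N.subtype) eM x).symm

include hn in
theorem isSimpleModule_hom_Hn : IsSimpleModule A (ResidueField A →ₗ[A] Hn A n) := by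
  have hCk : InC (maximalIdeal A) (ModuleCat.of A (ResidueField A)) := by
    refine ⟨?_, 1, fun a ha x => ?_⟩
    · change Module.Finite A (A ⧸ maximalIdeal A)
      infer_instance
    · obtain ⟨c, rfl⟩ := Ideal.Quotient.mk_surjective x
      rw [pow_one] at ha
      change Ideal.Quotient.mk _ (a * c) = 0
      exact Ideal.Quotient.eq_zero_iff_mem.mpr (Ideal.mul_mem_right _ _ ha)
  have hv := hvan A n hn
  have e1 := θEquiv hv hCk
  have e2 := Ψ n (ModuleCat.of A (ResidueField A)) (ModuleCat.of A A)
  have hs : IsSimpleModule A (ResidueField A) := by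
    change IsSimpleModule A (A ⧸ maximalIdeal A)
    exact isSimpleModule_iff_isCoatom.mpr (Ideal.isMaximal_def.mp inferInstance)
  have hl := (ext_simple A n hn (ResidueField A)).2
  rw [← Module.length_eq_one_iff, ← e1.length_eq, e2.length_eq]
  exact hl

include hn in
theorem exists_isInjectiveHull :
    ∃ f : ResidueField A →ₗ[A] Hn A n, InjHull.IsInjectiveHull f :=
  (Groth.Agent.S5155.result A (Hn A n)).mpr
    ⟨injective_Hn A n hn, isPowerTorsion_Hn A n, isSimpleModule_hom_Hn A n hn⟩

end Reg

end Groth.Agent.Lib.Helper8.RegHull
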