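import Groth.Agent.Lib.Helper8LocLES2
import Groth.Agent.Lib.Helper8GV
import Groth.Agent.S11614
import Groth.Agent.S11617

set_option autoImplicit false
universe u
open CategoryTheory CategoryTheory.Limits Opposite

/-! `H^i_I(M) = 0` for `i > dim R`, arbitrary modules. -/

namespace Groth.Agent.Lib.Helper8.CdDim

open Groth.Agent.Lib.Helper8.ExtLES Groth.Agent.Lib.Helper8.LC Groth.Agent.Lib.Helper8.MV
  Groth.Agent.Lib.Helper8.LocLES Groth.Agent.Lib.Helper8.GV Groth.Agent.Lib.Helper8.Acyc IsLocalRing

theorem H_top_eq_zero {R : Type u} [CommRing R] (i : ℕ) (M : ModuleCat.{u} R)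
    (x : (localCohomology (⊤ : Ideal R) i).obj M) : x = 0 := by
  obtain ⟨n, hn⟩ := isPowerTorsion_H (⊤ : Ideal R) i M x
  have := hn 1 (by rw [Ideal.top_pow]; trivial)
  rwa [one_smul] at this

/-- Inverting an element of the maximal ideal of a local ring drops the dimension. -/
theorem ringKrullDim_away_lt {R : Type u} [CommRing R] [IsLocalRing R] (b : R)
    (hb : b ∈ maximalIdeal R) (i : ℕ) (h : ringKrullDim R < ((i + 1 : ℕ) : WithBot ℕ∞)) :
    ringKrullDim (Localization (Submonoid.powers b)) < ((i : ℕ) : WithBot ℕ∞) := by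
  by_contra hcon
  rw [not_lt] at hcon
  obtain ⟨l, hl⟩ := Order.le_krullDim_iff.mp hcon
  let F : PrimeSpectrum (Localization (Submonoid.powers b)) → PrimeSpectrum R := fun q =>
    ⟨Ideal.comap (algebraMap R (Localization (Submonoid.powers b))) q.asIdeal, inferInstance⟩
  have hF : StrictMono F := by
    intro q q' h
    refine lt_of_le_of_ne ?_ ?_
    · change Ideal.comap _ q.asIdeal ≤ Ideal.comap _ q'.asIdeal
      exact Ideal.comap_mono h.le
    · intro heq
      apply h.ne
      apply PrimeSpectrum.ext
      have h1 : Ideal.comap (algebraMap R (Localization (Submonoid.powers b))) q.asIdeal =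
          Ideal.comap (algebraMap R (Localization (Submonoid.powers b))) q'.asIdeal :=
        congrArg (fun z : PrimeSpectrum R => z.asIdeal) heq
      exact (IsLocalization.orderEmbedding (Submonoid.powers b)
        (Localization (Submonoid.powers b))).injective h1
  have hlast : (l.map F hF).last < closedPoint R := by
    rw [LTSeries.last_map]
    refine lt_of_le_of_ne ?_ ?_
    · change Ideal.comap _ l.last.asIdeal ≤ maximalIdeal R
      exact IsLocalRing.le_maximalIdeal (Ideal.IsPrime.ne_top inferInstance)
    · intro heq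
      have h1 : Ideal.comap (algebraMap R (Localization (Submonoid.powers b))) l.last.asIdeal =
          maximalIdeal R := congrArg (fun z : PrimeSpectrum R => z.asIdeal) heq
      have h2 : b ∈ Ideal.comap (algebraMap R (Localization (Submonoid.powers b)))
          l.last.asIdeal := h1 ▸ hb
      rw [Ideal.mem_comap] at h2
      exact l.last.2.ne_top (Ideal.eq_top_of_isUnit_mem _ h2
        (IsLocalization.map_units (Localization (Submonoid.powers b))
          (⟨b, Submonoid.mem_powers b⟩ : Submonoid.powers b)))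
  have h3 : (((i + 1 : ℕ) : ℕ) : WithBot ℕ∞) ≤ ringKrullDim R :=
    Order.le_krullDim_iff.mpr ⟨(l.map F hF).snoc (closedPoint R) hlast, by simp [hl]⟩
  exact absurd (lt_of_le_of_lt h3 h) (lt_irrefl _)

/-- The statement proved by induction on `i`. -/
def Q (i : ℕ) : Prop :=
  ∀ (R : Type u) [CommRing R] [IsNoetherianRing R], ringKrullDim R < ((i : ℕ) : WithBot ℕ∞) →
    ∀ (I : Ideal R) (M : Type u) [AddCommGroup M] [Module R M] (x : LocCoh.H I i M), x = 0

theorem Q_zero : Q.{u} 0 := by
  intro R _ _ h I M _ _ x
  have hR : Subsingleton R := by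
    rcases subsingleton_or_nontrivial R with hs | hnt
    · exact hs
    · exact absurd (lt_of_le_of_lt ringKrullDim_nonneg_of_nontrivial h) (lt_irrefl _)
  have hM : Subsingleton M := Module.subsingleton R M
  exact H_eq_zero_of_subsingleton I 0 M x

section Local

variable {R : Type u} [CommRing R] [IsNoetherianRing R] [IsLocalRing R] (i : ℕ)

theorem local_step (ih : Q.{u} i) (h : ringKrullDim R < ((i + 1 : ℕ) : WithBot ℕ∞))
    (J : Ideal R) (hJ : J.FG) :
    ∀ a : Ideal R, (∀ (M : Type u) [AddCommGroup M] [Module R M] (x : LocCoh.H a (i + 1) M), x = 0) →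
      ∀ a' : Ideal R, a' = a ⊔ J →
        ∀ (M : Type u) [AddCommGroup M] [Module R M] (x : LocCoh.H a' (i + 1) M), x = 0 := by
  refine Submodule.fg_induction (motive := fun (J : Ideal R) _ => ∀ a : Ideal R,
    (∀ (M : Type u) [AddCommGroup M] [Module R M] (x : LocCoh.H a (i + 1) M), x = 0) →
      ∀ a' : Ideal R, a' = a ⊔ J →
        ∀ (M : Type u) [AddCommGroup M] [Module R M] (x : LocCoh.H a' (i + 1) M), x = 0)
    ?_ ?_ J hJ
  · intro b a ha a' heq M _ _ x
    subst heq
    by_cases hb : b ∈ maximalIdeal R
    · obtain ⟨δ, hδ1, hδ2⟩ := les_δ b a i (ModuleCat.of R M)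
      obtain ⟨y, rfl⟩ := (hδ2 x).mp (ha M _)
      obtain ⟨φ, -⟩ := Groth.Agent.S11614.result R (Localization (Submonoid.powers b)) a
        (LocalizedModule (Submonoid.powers b) M) i
      obtain ⟨z, rfl⟩ := φ.surjective y
      have hz : z = 0 := ih (Localization (Submonoid.powers b)) (ringKrullDim_away_lt b hb i h)
        _ _ z
      rw [hz, map_zero, map_zero]
    · have hu : IsUnit b := by
        by_contra hnu
        exact hb ((IsLocalRing.mem_maximalIdeal b).mpr hnu)
      have htop : a ⊔ Submodule.span R {b} = ⊤ := by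
        rw [eq_top_iff]
        refine le_trans ?_ le_sup_right
        exact le_of_eq (Ideal.span_singleton_eq_top.mpr hu).symm
      revert x
      rw [htop]
      exact H_top_eq_zero (i + 1) (ModuleCat.of R M)
  · intro J₁ J₂ _ _ ih₁ ih₂ a ha a' heq M _ _ x
    exact ih₂ (a ⊔ J₁) (ih₁ a ha (a ⊔ J₁) rfl) a' (by rw [heq, sup_assoc]) M x

theorem local_case (ih : Q.{u} i) (h : ringKrullDim R < ((i + 1 : ℕ) : WithBot ℕ∞))
    (I : Ideal R) (M : Type u) [AddCommGroup M] [Module R M] (x : LocCoh.H I (i + 1) M) :
    x = 0 := by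
  refine local_step i ih h I (IsNoetherian.noetherian I) ⊥ ?_ I (by rw [bot_sup_eq]) M x
  intro M _ _ y
  have := H_bot_succ (R := R) M i
  exact Subsingleton.elim _ _

end Local

theorem Q_succ (i : ℕ) (ih : Q.{u} i) : Q.{u} (i + 1) := by
  intro R _ _ h I M _ _ x
  have hsub : Subsingleton (LocCoh.H I (i + 1) M) := by
    refine Module.subsingleton_of_localization_maximal (R := R) (M := LocCoh.H I (i + 1) M)
      (fun P _ => LocalizedModule P.primeCompl (LocCoh.H I (i + 1) M))
      (fun P _ => LocalizedModule.mkLinearMap P.primeCompl (LocCoh.H I (i + 1) M)) ?_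
    intro P hP
    have e1 := (LocalizedModule.equivTensorProduct P.primeCompl (LocCoh.H I (i + 1) M))
    obtain ⟨e2⟩ := Groth.Agent.S11617.result R (Localization.AtPrime P) I M (i + 1)
    have hdim : ringKrullDim (Localization.AtPrime P) < ((i + 1 : ℕ) : WithBot ℕ∞) := by
      rw [IsLocalization.AtPrime.ringKrullDim_eq_height P (Localization.AtPrime P)]
      exact lt_of_le_of_lt Ideal.height_le_ringKrullDim_of_isPrime h
    have h3 : Subsingleton (LocCoh.H (Ideal.map (algebraMap R (Localization.AtPrime P)) I) (i + 1)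
        (TensorProduct R (Localization.AtPrime P) M)) :=
      ⟨fun y y' => (local_case i ih hdim _ _ y).trans (local_case i ih hdim _ _ y').symm⟩
    exact (e1.trans e2).toEquiv.subsingleton
  exact Subsingleton.elim _ _

theorem Q_all (i : ℕ) : Q.{u} i := by
  induction i with
  | zero => exact Q_zero
  | succ i ih => exact Q_succ i ih

end Groth.Agent.Lib.Helper8.CdDim
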