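import Mathlib
import Groth.Agent.Lib.Helper8RegHull
import Groth.Agent.Lib.Helper8LCAdd
import Groth.Agent.Lib.Helper8LCDepth
import Groth.Agent.S0325

/-! Local duality for a ring with `H^i_I(R) = 0` for `i < r`, `cd ≤ r`, `H^r_I(R)` injective
(helper8). -/

set_option autoImplicit false
universe u
open CategoryTheory CategoryTheory.Limits Opposite CategoryTheory.Abelian

namespace Groth.Agent.Lib.Helper8.LocDual
open Groth.Agent.Lib.Helper8.ExtLES Groth.Agent.Lib.Helper8.Bridge Groth.Agent.Lib.Helper8.LC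
  Groth.Agent.Lib.Helper8.ExtRep

section Gen

variable {R : Type u} [CommRing R] (I : Ideal R) (r : ℕ)

theorem H_map_smul (i : ℕ) {M N : ModuleCat.{u} R} (a : R) (g : M ⟶ N)
    (x : (localCohomology I i).obj M) :
    (localCohomology I i).map (a • g) x = a • (localCohomology I i).map g x := by
  have h : a • g = g ≫ (a • 𝟙 N) := by rw [Linear.comp_smul, Category.comp_id]
  rw [h, Functor.map_comp, Groth.Agent.Lib.Helper16.LocCohLinear.localCohomology_map_smul]
  rfl

theorem H_map_comp (i : ℕ) {M N P : ModuleCat.{u} R} (g : M ⟶ N) (g' : N ⟶ P)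
    (x : (localCohomology I i).obj M) :
    (localCohomology I i).map (g ≫ g') x =
      (localCohomology I i).map g' ((localCohomology I i).map g x) := by
  rw [Functor.map_comp]
  rfl

theorem H_map_id (i : ℕ) {M : ModuleCat.{u} R} (x : (localCohomology I i).obj M) :
    (localCohomology I i).map (𝟙 M) x = x := by
  rw [CategoryTheory.Functor.map_id]
  rfl

theorem θ_θinv (M X : ModuleCat.{u} R) (e : E 0 X M) : θ X M (θinv M X e) = e := by
  change (inv (θ X M) ≫ θ X M) e = e
  rw [IsIso.inv_hom_id]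
  rfl

theorem θinv_Epre {X X' : ModuleCat.{u} R} (ψ : X' ⟶ X) (Y : ModuleCat.{u} R) (e : E 0 X Y) :
    θinv Y X' ((Epre 0 ψ Y).hom e) = ψ ≫ θinv Y X e := by
  have h := Epre_θ ψ Y (θinv Y X e)
  rw [θ_θinv] at h
  have h2 : (Epre 0 ψ Y).hom e = θ X' Y (ψ ≫ θinv Y X e) := h
  rw [h2, θinv_θ]

/-- The dualizing-type module `H^r_I(R)`. -/
noncomputable abbrev Er : ModuleCat.{u} R := (localCohomology I r).obj (ModuleCat.of R R)

/-- The pairing map `H^r_I(X) → Hom(Hom(X, R), H^r_I(R))`. -/
noncomputable def η (X : ModuleCat.{u} R) :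
    (localCohomology I r).obj X →ₗ[R] (E 0 X (ModuleCat.of R R) →ₗ[R] Er I r) where
  toFun c :=
    { toFun := fun ε => (localCohomology I r).map (θinv (ModuleCat.of R R) X ε) c
      map_add' := fun ε ε' => by
        rw [map_add]
        exact H_map_add I r _ _ c
      map_smul' := fun a ε => by
        rw [map_smul]
        exact H_map_smul I r a _ c }
  map_add' c c' := by
    apply LinearMap.ext
    intro ε
    exact map_add ((localCohomology I r).map (θinv (ModuleCat.of R R) X ε)).hom c c'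
  map_smul' a c := by
    apply LinearMap.ext
    intro ε
    exact map_smul ((localCohomology I r).map (θinv (ModuleCat.of R R) X ε)).hom a c

theorem η_apply (X : ModuleCat.{u} R) (c : (localCohomology I r).obj X)
    (ε : E 0 X (ModuleCat.of R R)) :
    η I r X c ε = (localCohomology I r).map (θinv (ModuleCat.of R R) X ε) c := rfl

theorem η_natural {X X' : ModuleCat.{u} R} (ψ : X ⟶ X') (c : (localCohomology I r).obj X)
    (ε : E 0 X' (ModuleCat.of R R)) :
    η I r X' ((localCohomology I r).map ψ c) ε = η I r X c ((Epre 0 ψ (ModuleCat.of R R)).hom ε) := by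
  rw [η_apply, η_apply, θinv_Epre, H_map_comp]

theorem η_θ (X : ModuleCat.{u} R) (c : (localCohomology I r).obj X) (g : X ⟶ ModuleCat.of R R) :
    η I r X c (θ X (ModuleCat.of R R) g) = (localCohomology I r).map g c := by
  rw [η_apply, θinv_θ]

end Gen

section Free

variable {R : Type u} [CommRing R] (I : Ideal R) (r : ℕ)

theorem hom_self_eq_smul (g : ModuleCat.of R R ⟶ ModuleCat.of R R) :
    g = (g.hom (1 : R)) • 𝟙 (ModuleCat.of R R) := by
  apply ModuleCat.hom_ext
  apply LinearMap.ext_ring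
  change g.hom 1 = g.hom 1 • (1 : R)
  rw [smul_eq_mul, mul_one]

theorem η_self_injective : Function.Injective (η I r (ModuleCat.of R R)) := by
  rw [injective_iff_map_eq_zero]
  intro c hc
  have h := η_θ I r _ c (𝟙 _)
  rw [hc, H_map_id] at h
  exact h.symm

theorem η_self_surjective : Function.Surjective (η I r (ModuleCat.of R R)) := by
  intro lam
  refine ⟨lam (θ _ _ (𝟙 _)), ?_⟩
  apply LinearMap.ext
  intro ε
  obtain ⟨g, rfl⟩ := (θ_bijective _ _).2 ε
  rw [η_θ]
  have hg := hom_self_eq_smul g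
  generalize g.hom (1 : R) = a at hg
  rw [hg, H_map_smul, H_map_id, map_smul, map_smul]

theorem η_pi_injective (b : ℕ) : Function.Injective (η I r (PiQ (R := R) (Q := R) b)) := by
  rw [injective_iff_map_eq_zero]
  intro c hc
  have h1 : ∀ j, (localCohomology I r).map (πj (R := R) (Q := R) b j) c = 0 := by
    intro j
    apply η_self_injective I r
    rw [map_zero]
    apply LinearMap.ext
    intro ε
    rw [η_natural, hc]
    rfl
  rw [← H_map_id I r c, ← sum_πj_ιj b, H_map_sum]
  apply Finset.sum_eq_zero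
  intro j _
  rw [H_map_comp, h1 j, map_zero]

theorem η_pi_surjective (b : ℕ) : Function.Surjective (η I r (PiQ (R := R) (Q := R) b)) := by
  intro lam
  have h1 : ∀ j : Fin b, ∃ cj, η I r (ModuleCat.of R R) cj =
      lam ∘ₗ (Epre 0 (πj (R := R) (Q := R) b j) (ModuleCat.of R R)).hom :=
    fun j => η_self_surjective I r _
  choose cj hcj using h1
  refine ⟨∑ j, (localCohomology I r).map (ιj (R := R) (Q := R) b j) (cj j), ?_⟩
  apply LinearMap.ext
  intro ε
  rw [map_sum, LinearMap.sum_apply]
  conv_rhs => rw [E_pi_sum b ε, map_sum]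
  apply Finset.sum_congr rfl
  intro j _
  rw [η_natural, hcj j]
  rfl

end Free

section Fin

variable {R : Type u} [CommRing R]

/-- Factor through an injective module. -/
theorem exists_factor {V W Q : Type u} [AddCommGroup V] [Module R V] [AddCommGroup W] [Module R W]
    [AddCommGroup Q] [Module R Q] [Module.Injective R Q] (g : V →ₗ[R] W) (lam : V →ₗ[R] Q)
    (h : LinearMap.ker g ≤ LinearMap.ker lam) : ∃ μ : W →ₗ[R] Q, μ ∘ₗ g = lam := by
  let g' : (V ⧸ LinearMap.ker g) →ₗ[R] W := (LinearMap.ker g).liftQ g le_rfl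
  have hg' : Function.Injective g' := by
    rw [← LinearMap.ker_eq_bot]
    exact Submodule.ker_liftQ_eq_bot _ _ _ le_rfl
  obtain ⟨μ, hμ⟩ := Module.Injective.extension_property R Q _ _ g' hg'
    ((LinearMap.ker g).liftQ lam h)
  refine ⟨μ, ?_⟩
  apply LinearMap.ext
  intro v
  have h2 := LinearMap.congr_fun hμ (Submodule.Quotient.mk v)
  exact h2

theorem nonempty_equiv_of_ker {X₁ X₂ X₃ Y₁ Y₂ Y₃ : Type u} [AddCommGroup X₁] [Module R X₁]
    [AddCommGroup X₂] [Module R X₂] [AddCommGroup X₃] [Module R X₃]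
    [AddCommGroup Y₁] [Module R Y₁] [AddCommGroup Y₂] [Module R Y₂] [AddCommGroup Y₃] [Module R Y₃]
    (a : X₁ →ₗ[R] X₂) (b : X₂ →ₗ[R] X₃) (a' : Y₁ →ₗ[R] Y₂) (b' : Y₂ →ₗ[R] Y₃)
    (ha : Function.Injective a) (ha' : Function.Injective a')
    (hab : LinearMap.range a = LinearMap.ker b) (hab' : LinearMap.range a' = LinearMap.ker b')
    (e₂ : X₂ ≃ₗ[R] Y₂) (e₃ : X₃ →ₗ[R] Y₃) (he₃ : Function.Injective e₃)
    (hcomm : ∀ x, e₃ (b x) = b' (e₂ x)) : Nonempty (X₁ ≃ₗ[R] Y₁) := by
  have h : Submodule.comap e₂.toLinearMap (LinearMap.ker b') = LinearMap.ker b := by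
    ext x
    simp only [Submodule.mem_comap, LinearMap.mem_ker, LinearEquiv.coe_coe]
    rw [← hcomm]
    exact ⟨fun h => he₃ (by rw [h, map_zero]), fun h => by rw [h, map_zero]⟩
  exact ⟨(LinearEquiv.ofInjective a ha).trans ((LinearEquiv.ofEq _ _ (hab.trans h.symm)).trans
    ((e₂.ofSubmodule' (LinearMap.ker b')).trans
      ((LinearEquiv.ofEq _ _ hab'.symm).trans (LinearEquiv.ofInjective a' ha').symm)))⟩

variable [IsNoetherianRing R] (I : Ideal R) (r : ℕ)

omit [IsNoetherianRing R] in
theorem η_surjective [Module.Injective R (Er I r)] (X : Type u) [AddCommGroup X] [Module R X]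
    [Module.Finite R X] : Function.Surjective (η I r (ModuleCat.of R X)) := by
  intro μ
  obtain ⟨b, q, hq⟩ := Module.Finite.exists_fin' R X
  let q' : PiQ (R := R) (Q := R) b ⟶ ModuleCat.of R X := ModuleCat.ofHom q
  have : Epi q' := (ModuleCat.epi_iff_surjective _).mpr hq
  have hinjq := Epre_injective_of_epi_zero (ModuleCat.of R R) q'
  obtain ⟨lam, hlam⟩ := exists_factor (Epre 0 q' (ModuleCat.of R R)).hom μ
    (by rw [LinearMap.ker_eq_bot.mpr hinjq]; exact bot_le)
  obtain ⟨c, hc⟩ := η_pi_surjective I r b lam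
  refine ⟨(localCohomology I r).map q' c, ?_⟩
  apply LinearMap.ext
  intro ε
  rw [η_natural, hc, ← hlam]
  rfl

theorem η_injective [Module.Injective R (Er I r)] (hcd : LocCoh.CdLE R I r)
    (X : Type u) [AddCommGroup X] [Module R X]
    [Module.Finite R X] : Function.Injective (η I r (ModuleCat.of R X)) := by
  rw [injective_iff_map_eq_zero]
  intro c hc
  obtain ⟨b, p, hp⟩ := Module.Finite.exists_fin' R X
  let S := p.shortComplexKer
  have hS : S.ShortExact := LinearMap.shortExact_shortComplexKer hp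
  have hsub : Subsingleton ((localCohomology I (r + 1)).obj S.X₁) :=
    hcd (LinearMap.ker p) (r + 1) (lt_add_one r)
  obtain ⟨c₀, hc₀⟩ := H_exact₃ I r S hS c (hsub.elim _ _)
  let lam := η I r S.X₂ c₀
  have hlam : ∀ ε : E 0 S.X₃ (ModuleCat.of R R), lam ((Epre 0 S.g (ModuleCat.of R R)).hom ε) = 0 := by
    intro ε
    change η I r S.X₂ c₀ _ = 0
    rw [← η_natural, hc₀, hc]
    rfl
  have hker : LinearMap.ker (Epre 0 S.f (ModuleCat.of R R)).hom ≤ LinearMap.ker lam := by
    intro x₂ hx₂
    obtain ⟨x₃, rfl⟩ := pre_exact₂ S hS (ModuleCat.of R R) 0 x₂ hx₂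
    exact hlam x₃
  obtain ⟨μ, hμ⟩ := exists_factor (Epre 0 S.f (ModuleCat.of R R)).hom lam hker
  obtain ⟨k, hk⟩ := η_surjective I r (LinearMap.ker p) μ
  have h1 : (localCohomology I r).map S.f k = c₀ := by
    apply η_pi_injective I r b
    apply LinearMap.ext
    intro ε
    rw [η_natural, hk]
    exact LinearMap.congr_fun hμ ε
  rw [← hc₀, ← h1]
  exact H_map_g_map_f I r S hS k

/-- The degree-zero duality isomorphism. -/
noncomputable def ηEquiv [Module.Injective R (Er I r)] (hcd : LocCoh.CdLE R I r)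
    (X : Type u) [AddCommGroup X] [Module R X] [Module.Finite R X] :
    (localCohomology I r).obj (ModuleCat.of R X) ≃ₗ[R]
      (E 0 (ModuleCat.of R X) (ModuleCat.of R R) →ₗ[R] Er I r) :=
  LinearEquiv.ofBijective (η I r (ModuleCat.of R X))
    ⟨η_injective I r hcd X, η_surjective I r X⟩

end Fin

section Shift

variable {R : Type u} [CommRing R] [IsNoetherianRing R] (I : Ideal R) (r : ℕ)

omit [IsNoetherianRing R] in
theorem E_succ_pi_subsingleton (b n : ℕ) (Y : ModuleCat.{u} R) :
    Subsingleton (E (n + 1) (PiQ (R := R) (Q := R) b) Y) := by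
  rw [subsingleton_E_iff]
  exact Ext.subsingleton_of_projective _ _ n

/-- The hypotheses: depth, cohomological dimension, injectivity. -/
structure Hyp : Prop where
  vanish : ∀ i < r, ∀ x : (localCohomology I i).obj (ModuleCat.of R R), x = 0
  cd : LocCoh.CdLE R I r
  inj : Module.Injective R (Er I r)

variable {I r}

omit [IsNoetherianRing R] in
theorem Hyp.pi_vanish (h : Hyp I r) (b i : ℕ) (hi : i < r)
    (x : (localCohomology I i).obj (ModuleCat.of R (Fin b → R))) : x = 0 :=
  H_pi_eq_zero I i b (h.vanish i hi) x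

theorem step_one (h : Hyp I (r + 1)) (X : Type u) [AddCommGroup X] [Module R X] [Module.Finite R X] :
    Nonempty ((localCohomology I r).obj (ModuleCat.of R X) ≃ₗ[R]
      (E 1 (ModuleCat.of R X) (ModuleCat.of R R) →ₗ[R] Er I (r + 1))) := by
  have := h.inj
  obtain ⟨b, p, hp⟩ := Module.Finite.exists_fin' R X
  let S := p.shortComplexKer
  have hS : S.ShortExact := LinearMap.shortExact_shortComplexKer hp
  let Y := ModuleCat.of R R
  have hE1 : Subsingleton (E (0 + 1) S.X₂ Y) := E_succ_pi_subsingleton b 0 Y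
  have hδsurj : Function.Surjective (preδ S hS Y 0) := by
    intro x₃
    exact pre_exact₃ S hS Y 0 x₃ (hE1.elim _ _)
  refine nonempty_equiv_of_ker (Hδ I r S hS).hom ((localCohomology I (r + 1)).map S.f).hom
    (LinearMap.lcomp R (Er I (r + 1)) (preδ S hS Y 0))
    (LinearMap.lcomp R (Er I (r + 1)) (Epre 0 S.f Y).hom) ?_ ?_ ?_ ?_
    (ηEquiv I (r + 1) h.cd (LinearMap.ker p)) (η I (r + 1) S.X₂) (η_pi_injective I (r + 1) b) ?_
  · rw [injective_iff_map_eq_zero]
    intro z hz
    obtain ⟨y, rfl⟩ := H_exact₃ I r S hS z hz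
    rw [h.pi_vanish b r (lt_add_one r) y, map_zero]
  · rw [injective_iff_map_eq_zero]
    intro lam hlam
    apply LinearMap.ext
    intro x₃
    obtain ⟨x₁, rfl⟩ := hδsurj x₃
    exact LinearMap.congr_fun hlam x₁
  · ext x
    constructor
    · rintro ⟨z, rfl⟩
      exact H_map_f_Hδ I r S hS z
    · intro hx
      exact H_exact₁ I r S hS x hx
  · ext μ
    constructor
    · rintro ⟨lam, rfl⟩
      apply LinearMap.ext
      intro x₂
      change lam (preδ S hS Y 0 ((Epre 0 S.f Y).hom x₂)) = 0
      rw [preδ_Epre_f, map_zero]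
    · intro hμ
      have hker : LinearMap.ker (preδ S hS Y 0) ≤ LinearMap.ker μ := by
        intro x₁ hx₁
        obtain ⟨x₂, rfl⟩ := pre_exact₁ S hS Y 0 x₁ hx₁
        exact LinearMap.congr_fun hμ x₂
      obtain ⟨lam, hlam⟩ := exists_factor (preδ S hS Y 0) μ hker
      exact ⟨lam, hlam⟩
  · intro x
    apply LinearMap.ext
    intro ε
    exact η_natural I (r + 1) S.f x ε

theorem step_succ (h : Hyp I r) (s j : ℕ) (hs : s + 1 < r)
    (ih : ∀ (K : Type u) [AddCommGroup K] [Module R K] [Module.Finite R K],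
      Nonempty ((localCohomology I (s + 1)).obj (ModuleCat.of R K) ≃ₗ[R]
        (E (j + 1) (ModuleCat.of R K) (ModuleCat.of R R) →ₗ[R] Er I r)))
    (X : Type u) [AddCommGroup X] [Module R X] [Module.Finite R X] :
    Nonempty ((localCohomology I s).obj (ModuleCat.of R X) ≃ₗ[R]
      (E (j + 1 + 1) (ModuleCat.of R X) (ModuleCat.of R R) →ₗ[R] Er I r)) := by
  obtain ⟨b, p, hp⟩ := Module.Finite.exists_fin' R X
  let S := p.shortComplexKer
  have hS : S.ShortExact := LinearMap.shortExact_shortComplexKer hp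
  let Y := ModuleCat.of R R
  obtain ⟨e⟩ := ih (LinearMap.ker p)
  have hE1 : Subsingleton (E (j + 1) S.X₂ Y) := E_succ_pi_subsingleton b j Y
  have hE2 : Subsingleton (E (j + 1 + 1) S.X₂ Y) := E_succ_pi_subsingleton b (j + 1) Y
  have hδ : Function.Bijective (preδ S hS Y (j + 1)) := by
    constructor
    · rw [injective_iff_map_eq_zero]
      intro x₁ hx₁
      obtain ⟨x₂, rfl⟩ := pre_exact₁ S hS Y (j + 1) x₁ hx₁
      rw [hE1.elim x₂ 0, map_zero]
    · intro x₃
      exact pre_exact₃ S hS Y (j + 1) x₃ (hE2.elim _ _)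
  have hH : Function.Bijective (Hδ I s S hS).hom := by
    constructor
    · rw [injective_iff_map_eq_zero]
      intro z hz
      obtain ⟨y, rfl⟩ := H_exact₃ I s S hS z hz
      rw [h.pi_vanish b s (by omega) y, map_zero]
    · intro x
      exact H_exact₁ I s S hS x (h.pi_vanish b (s + 1) hs _)
  exact ⟨(LinearEquiv.ofBijective _ hH).trans (e.trans
    (LinearEquiv.congrLeft (Er I r) R (LinearEquiv.ofBijective _ hδ)))⟩

theorem duality (h : Hyp I r) : ∀ (j s : ℕ), s + j = r →
    ∀ (X : Type u) [AddCommGroup X] [Module R X] [Module.Finite R X],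
    Nonempty ((localCohomology I s).obj (ModuleCat.of R X) ≃ₗ[R]
      (E j (ModuleCat.of R X) (ModuleCat.of R R) →ₗ[R] Er I r)) := by
  intro j
  induction j with
  | zero =>
    intro s hs X _ _ _
    have := h.inj
    obtain rfl : s = r := by omega
    exact ⟨ηEquiv I s h.cd X⟩
  | succ j ih =>
    cases j with
    | zero =>
      intro s hs X _ _ _
      obtain rfl : r = s + 1 := by omega
      exact step_one h X
    | succ j =>
      intro s hs X _ _ _
      exact step_succ h s j (by omega) (fun K _ _ _ => ih (s + 1) (by omega) K) X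

end Shift

section Reg

open IsLocalRing Groth.Agent.Lib.Helper8.RegHull

variable (A : Type u) [CommRing A] [IsRegularLocalRing A] (r : ℕ) (hr : ringKrullDim A = r)

include hr in
theorem hyp_regular : Hyp (maximalIdeal A) r where
  vanish := by
    intro i hi x
    obtain ⟨k, e, rfl⟩ := exists_rep (maximalIdeal A) i (ModuleCat.of A A) x
    have := E_subsingleton_of_inC A r hr (inC_Xk (J := maximalIdeal A) k) i (by omega)
    rw [Subsingleton.elim e 0, map_zero]
  cd := Groth.Agent.S0325.result A (maximalIdeal A) r hr.le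
  inj := injective_Hn A r hr

include hr in
/-- Local duality for a regular local ring, with `H^r_m(A)` as dualizing module. -/
theorem duality_regular (M : Type u) [AddCommGroup M] [Module A M] [Module.Finite A M]
    (i : ℕ) (hi : i ≤ r) :
    Nonempty ((localCohomology (maximalIdeal A) i).obj (ModuleCat.of A M) ≃ₗ[A]
      (E (r - i) (ModuleCat.of A M) (ModuleCat.of A A) →ₗ[A] Hn A r)) :=
  duality (hyp_regular A r hr) (r - i) i (by omega) M

end Reg

end Groth.Agent.Lib.Helper8.LocDual
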