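import Mathlib
import Groth.Agent.Lib.Helper8RegHull
import Groth.Agent.Lib.Helper8LocDual
import Groth.Agent.Lib.Helper29Gorenstein
import Groth.Agent.Lib.Helper28Reflexive2
import Groth.Agent.S0325

/-! `H^n_m(A)` is an injective hull of the residue field for a Gorenstein local ring (helper29),
generalising helper8's `Helper8RegHull` / `Helper8RegDual` from regular to Gorenstein local rings.
The only input needed is `Ext^i(k, A) = 0` for `i ≠ n` and `length Ext^n(k, A) = 1`. -/

set_option autoImplicit false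
universe u
open CategoryTheory CategoryTheory.Abelian IsLocalRing RingTheory.Sequence

namespace Groth.Agent.Lib.Helper29.GorHull
open Groth.Agent.Lib.Helper8.ExtLES Groth.Agent.Lib.Helper8.Bridge Groth.Agent.Lib.Helper8.LC
  Groth.Agent.Lib.Helper8.ExtRep

section Generic

variable (A : Type u) [CommRing A] [IsLocalRing A] [IsNoetherianRing A] (n : ℕ)

/-- The residue module `A ⧸ m`. -/
abbrev kq : Type u := A ⧸ maximalIdeal A

omit [IsLocalRing A] [IsNoetherianRing A] in
/-- Ext is invariant under isomorphism in the first variable. -/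
noncomputable def extCongrLeft {X X' : ModuleCat.{u} A} (e : X ≅ X') (Y : ModuleCat.{u} A) (i : ℕ) :
    Ext.{u} X' Y i ≃ₗ[A] Ext.{u} X Y i :=
  LinearEquiv.ofLinearMap (Ext.precompOfLinear (Ext.mk₀ e.hom) A Y (zero_add i))
    (Ext.precompOfLinear (Ext.mk₀ e.inv) A Y (zero_add i))
    (by
      apply LinearMap.ext; intro x
      change (Ext.mk₀ e.hom).comp ((Ext.mk₀ e.inv).comp x (zero_add i)) (zero_add i) = x
      rw [← Ext.comp_assoc_of_second_deg_zero, Ext.mk₀_comp_mk₀, e.hom_inv_id, Ext.mk₀_id_comp])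
    (by
      apply LinearMap.ext; intro x
      change (Ext.mk₀ e.inv).comp ((Ext.mk₀ e.hom).comp x (zero_add i)) (zero_add i) = x
      rw [← Ext.comp_assoc_of_second_deg_zero, Ext.mk₀_comp_mk₀, e.inv_hom_id, Ext.mk₀_id_comp])

/-- `Ext^i(k, A) = 0` for `i ≠ n`. -/
def ExtVan : Prop :=
  ∀ i, i ≠ n → Subsingleton (Ext.{u} (ModuleCat.of A (kq A)) (ModuleCat.of A A) i)

/-- The type: the length of `Ext^n(k, A)`. -/
noncomputable def typ : ℕ∞ :=
  Module.length A (Ext.{u} (ModuleCat.of A (kq A)) (ModuleCat.of A A) n)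

omit [IsNoetherianRing A] in
theorem length_kq : Module.length A (kq A) = 1 := by
  rw [Module.length_eq_one_iff]
  exact isSimpleModule_iff_isCoatom.mpr (Ideal.isMaximal_def.mp inferInstance)

omit [IsLocalRing A] [IsNoetherianRing A] in
/-- `Hom_A(A/I, A/I) ≃ A/I`. -/
theorem length_end_quot (I : Ideal A) :
    Module.length A ((A ⧸ I) →ₗ[A] (A ⧸ I)) = Module.length A (A ⧸ I) := by
  let ev : ((A ⧸ I) →ₗ[A] (A ⧸ I)) →ₗ[A] (A ⧸ I) :=
    { toFun := fun f => f 1
      map_add' := fun _ _ => rfl
      map_smul' := fun _ _ => rfl }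
  have hinj : Function.Injective ev := by
    intro f g hfg
    apply LinearMap.ext
    intro y
    obtain ⟨a, rfl⟩ := Ideal.Quotient.mk_surjective y
    have h1 : (Ideal.Quotient.mk I a : A ⧸ I) = a • (1 : A ⧸ I) := by
      rw [Algebra.smul_def, mul_one]; rfl
    rw [h1, map_smul, map_smul]
    exact congrArg (a • ·) hfg
  have hsurj : Function.Surjective ev := by
    intro b
    refine ⟨LinearMap.mulRight A b, ?_⟩
    change (1 : A ⧸ I) * b = b
    rw [one_mul]
  exact (LinearEquiv.ofBijective ev ⟨hinj, hsurj⟩).length_eq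

section Simple

variable (T : Type u) [AddCommGroup T] [Module A T] [IsSimpleModule A T]

omit [IsNoetherianRing A] in
theorem exists_equiv_kq : Nonempty (T ≃ₗ[A] kq A) := by
  obtain ⟨I, hI, ⟨e⟩⟩ := isSimpleModule_iff_quot_maximal.mp ‹IsSimpleModule A T›
  obtain rfl := eq_maximalIdeal hI
  exact ⟨e⟩

omit [IsNoetherianRing A] in
theorem ext_simple (hv : ExtVan A n) :
    (∀ i, i ≠ n → Subsingleton (Ext.{u} (ModuleCat.of A T) (ModuleCat.of A A) i)) ∧
      Module.length A (Ext.{u} (ModuleCat.of A T) (ModuleCat.of A A) n) = typ A n := by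
  obtain ⟨e⟩ := exists_equiv_kq A T
  constructor
  · intro i hi
    have := hv i hi
    exact (extCongrLeft A e.toModuleIso (ModuleCat.of A A) i).symm.subsingleton
  · exact ((extCongrLeft A e.toModuleIso (ModuleCat.of A A) n).length_eq).symm

end Simple

omit [IsNoetherianRing A] in
theorem ext_finiteLength (hv : ExtVan A n) (M : Type u) [AddCommGroup M] [Module A M]
    (hM : IsFiniteLength A M) :
    (∀ i, i ≠ n → Subsingleton (Ext.{u} (ModuleCat.of A M) (ModuleCat.of A A) i)) ∧
      Module.length A (Ext.{u} (ModuleCat.of A M) (ModuleCat.of A A) n) =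
        typ A n * Module.length A M := by
  induction hM with
  | @of_subsingleton M _ _ _ =>
    have hz : ∀ (i : ℕ) (x : Ext.{u} (ModuleCat.of A M) (ModuleCat.of A A) i), x = 0 := by
      intro i x
      have h0 : 𝟙 (ModuleCat.of A M) = 0 := by
        ext m
        exact Subsingleton.elim _ _
      rw [← Ext.mk₀_id_comp x, h0, Ext.mk₀_zero, Ext.zero_comp]
    have hs : ∀ i, Subsingleton (Ext.{u} (ModuleCat.of A M) (ModuleCat.of A A) i) :=
      fun i => ⟨fun a b => by rw [hz i a, hz i b]⟩
    refine ⟨fun i _ => hs i, ?_⟩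
    have := hs n
    rw [Module.length_eq_zero_iff.mpr inferInstance, Module.length_eq_zero_iff.mpr inferInstance,
      mul_zero]
  | @of_simple_quotient M _ _ N _ h ih =>
    obtain ⟨hvN, hlN⟩ := ih
    obtain ⟨hvT, hlT⟩ := ext_simple A n (M ⧸ N) hv
    have hS := Groth.Agent.Lib.Helper8.RegDual.subSC_shortExact A N
    let Y := ModuleCat.of A A
    constructor
    · intro i hi
      refine ⟨fun a b => ?_⟩
      suffices ∀ x : Ext.{u} (ModuleCat.of A M) Y i, x = 0 by rw [this a, this b]
      intro x
      have := hvN i hi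
      have := hvT i hi
      obtain ⟨x₃, hx₃⟩ := Ext.contravariant_sequence_exact₂ hS Y x (Subsingleton.elim _ _)
      rw [← hx₃, Subsingleton.elim x₃ 0, Ext.comp_zero]
    · let F := Ext.precompOfLinear (Ext.mk₀ (Groth.Agent.Lib.Helper8.RegDual.subSC A N).g) A Y (zero_add n)
      let G := Ext.precompOfLinear (Ext.mk₀ (Groth.Agent.Lib.Helper8.RegDual.subSC A N).f) A Y (zero_add n)
      have hF : Function.Injective F := by
        rw [injective_iff_map_eq_zero]
        intro x₃ hx₃
        have hx₃' : (Ext.mk₀ (Groth.Agent.Lib.Helper8.RegDual.subSC A N).g).comp x₃ (zero_add n) = 0 := hx₃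
        cases n with
        | zero =>
          have : Epi (Groth.Agent.Lib.Helper8.RegDual.subSC A N).g := hS.epi_g
          exact (injective_iff_map_eq_zero _).mp
            (Ext.precomp_mk₀_injective_of_epi Y (Groth.Agent.Lib.Helper8.RegDual.subSC A N).g) x₃ hx₃'
        | succ k =>
          obtain ⟨x₁, hx₁⟩ := Ext.contravariant_sequence_exact₃ hS Y x₃ hx₃' (Nat.add_comm 1 k)
          have := hvN k (by omega)
          rw [← hx₁, Subsingleton.elim x₁ 0, Ext.comp_zero]
      have hG : Function.Surjective G := by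
        intro x₁
        have := hvT (1 + n) (by omega)
        obtain ⟨x₂, hx₂⟩ := Ext.contravariant_sequence_exact₁ hS Y x₁ rfl (Subsingleton.elim _ _)
        exact ⟨x₂, hx₂⟩
      have hFG : Function.Exact F G := by
        intro y
        constructor
        · intro hy
          obtain ⟨x₃, hx₃⟩ := Ext.contravariant_sequence_exact₂ hS Y y hy
          exact ⟨x₃, hx₃⟩
        · rintro ⟨x₃, rfl⟩
          change (Ext.mk₀ (Groth.Agent.Lib.Helper8.RegDual.subSC A N).f).comp ((Ext.mk₀ (Groth.Agent.Lib.Helper8.RegDual.subSC A N).g).comp x₃ (zero_add n))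
            (zero_add n) = 0
          rw [← Ext.comp_assoc_of_second_deg_zero, Ext.mk₀_comp_mk₀, (Groth.Agent.Lib.Helper8.RegDual.subSC A N).zero,
            Ext.mk₀_zero, Ext.zero_comp]
      have hq : Module.length A (M ⧸ N) = 1 := Module.length_eq_one_iff.mpr inferInstance
      rw [Module.length_eq_add_of_exact F G hF hG hFG, hlT, hlN,
        Module.length_eq_add_of_exact N.subtype N.mkQ N.subtype_injective N.mkQ_surjective
          (LinearMap.exact_subtype_mkQ N), hq, mul_add, mul_one, add_comm]

omit [IsNoetherianRing A] in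
/-- The type is one as soon as there is a regular sequence of length `n` in `m` with quotient of finite
length. -/
theorem typ_eq_one (hv : ExtVan A n) (rs : List A) (hlen : rs.length = n)
    (hmem : ∀ r ∈ rs, r ∈ maximalIdeal A) (hreg : IsWeaklyRegular A rs)
    (hfl : IsFiniteLength A (A ⧸ Ideal.ofList rs)) : typ A n = 1 := by
  have hann : ∀ r ∈ rs, r ∈ Module.annihilator A (ModuleCat.of A (A ⧸ Ideal.ofList rs)) := by
    intro r hr
    change r ∈ Module.annihilator A (A ⧸ Ideal.ofList rs)
    rw [Ideal.annihilator_quotient]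
    exact Ideal.subset_span hr
  obtain ⟨-, ⟨iso⟩⟩ := Groth.Agent.Lib.Helper8.Rees.rees (ModuleCat.of A (A ⧸ Ideal.ofList rs)) rs
    (ModuleCat.of A A) hann hreg
  rw [hlen] at iso
  have hsm : (Ideal.ofList rs • ⊤ : Submodule A A) = Ideal.ofList rs := by
    rw [smul_eq_mul, Ideal.mul_top]
  have e2 : (A ⧸ (Ideal.ofList rs • ⊤ : Submodule A A)) ≃ₗ[A] (A ⧸ Ideal.ofList rs) :=
    Submodule.quotEquivOfEq _ _ hsm
  have h1 := (ext_finiteLength A n hv (A ⧸ Ideal.ofList rs) hfl).2
  rw [iso.length_eq, (LinearEquiv.arrowCongr (LinearEquiv.refl A _) e2).length_eq,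
    length_end_quot] at h1
  have hle : Ideal.ofList rs ≤ maximalIdeal A := Ideal.span_le.mpr (fun r hr => hmem r hr)
  have hne0 : Module.length A (A ⧸ Ideal.ofList rs) ≠ 0 := by
    rw [ne_eq, Module.length_eq_zero_iff, not_subsingleton_iff_nontrivial]
    exact Ideal.Quotient.nontrivial_iff.mpr (fun h => (maximalIdeal.isMaximal A).ne_top
      (top_le_iff.mp (h ▸ hle)))
  have hnetop : Module.length A (A ⧸ Ideal.ofList rs) ≠ ⊤ := Module.length_ne_top_iff.mpr hfl
  generalize Module.length A (A ⧸ Ideal.ofList rs) = b at h1 hne0 hnetop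
  generalize typ A n = t at h1
  lift b to ℕ using hnetop
  rcases eq_or_ne t ⊤ with rfl | ht
  · rw [ENat.top_mul (by exact_mod_cast hne0)] at h1
    exact absurd h1 (ENat.natCast_ne_top b)
  · lift t to ℕ using ht
    have hb : b ≠ 0 := by exact_mod_cast hne0
    have h2 : b = t * b := by exact_mod_cast h1
    have : t = 1 := by
      rcases Nat.eq_zero_or_pos t with rfl | htpos
      · simp at h2; exact absurd h2 hb
      · nlinarith [Nat.pos_of_ne_zero hb]
    rw [this]; rfl

end Generic

section GenericHull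

variable (A : Type u) [CommRing A] [IsLocalRing A] [IsNoetherianRing A] (n : ℕ)
  (hv : ExtVan A n) (ht : typ A n = 1)

include hv in
theorem E_subsingleton_of_inC {F : ModuleCat.{u} A} (hF : InC (maximalIdeal A) F) (i : ℕ)
    (hi : i ≠ n) : Subsingleton (E i F (ModuleCat.of A A)) := by
  have hfl := Groth.Agent.Lib.Helper8.RegHull.isFiniteLength_of_inC hF
  have := (ext_finiteLength A n hv F hfl).1 i hi
  exact (subsingleton_E_iff i F (ModuleCat.of A A)).mpr this

include hv in
theorem hvan : Hvan (maximalIdeal A) n (ModuleCat.of A A) :=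
  fun F hF i hi => E_subsingleton_of_inC A n hv hF i (by omega)

/-- The top local cohomology. -/
abbrev Hn : Type u := (localCohomology (maximalIdeal A) n).obj (ModuleCat.of A A)

omit [IsLocalRing A] in
theorem isPowerTorsion_Hn (I : Ideal A) :
    LocCoh.IsPowerTorsion I ((localCohomology I n).obj (ModuleCat.of A A)) :=
  fun x => isPowerTorsion_H I n (ModuleCat.of A A) x

include hv in
theorem injective_Hn : Module.Injective A (Hn A n) := by
  rw [Groth.Agent.S5168.result A (maximalIdeal A) (Hn A n) (isPowerTorsion_Hn A n _)]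
  intro M _ _ hfin hk N g
  obtain ⟨k, hk⟩ := hk
  have hkM : ∀ a ∈ maximalIdeal A ^ k, ∀ x : M, a • x = 0 := by
    intro a ha x
    have : a • x ∈ (maximalIdeal A ^ k) • (⊤ : Submodule A M) :=
      Submodule.smul_mem_smul ha trivial
    rw [hk] at this
    exact (Submodule.mem_bot A).mp this
  have hCM : InC (maximalIdeal A) (ModuleCat.of A M) := ⟨hfin, k, hkM⟩
  have hCN : InC (maximalIdeal A) (ModuleCat.of A N) := by
    refine ⟨?_, k, fun a ha x => Subtype.ext (hkM a ha x.1)⟩
    change Module.Finite A N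
    have : IsNoetherian A M := isNoetherian_of_isNoetherianRing_of_finite A M
    infer_instance
  have hCQ : InC (maximalIdeal A) (ModuleCat.of A (M ⧸ N)) :=
    InC.of_surjective (ModuleCat.ofHom N.mkQ) N.mkQ_surjective hCM
  have hv' := hvan A n hv
  let eN : E n (ModuleCat.of A N) (ModuleCat.of A A) := (θEquiv hv' hCN).symm g
  have heN : θ (maximalIdeal A) n (ModuleCat.of A A) hCN.isPowerTorsion eN = g :=
    (θEquiv hv' hCN).apply_symm_apply g
  have hS := Groth.Agent.Lib.Helper8.RegDual.subSC_shortExact A N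
  have h0 : preδ (Groth.Agent.Lib.Helper8.RegDual.subSC A N) hS (ModuleCat.of A A) n eN = 0 := by
    have := E_subsingleton_of_inC A n hv hCQ (n + 1) (by omega)
    exact Subsingleton.elim _ _
  obtain ⟨eM, heM⟩ := pre_exact₁ (Groth.Agent.Lib.Helper8.RegDual.subSC A N) hS (ModuleCat.of A A) n eN h0
  refine ⟨θ (maximalIdeal A) n (ModuleCat.of A A) hCM.isPowerTorsion eM, ?_⟩
  apply LinearMap.ext
  intro x
  rw [← heN, ← heM]
  exact (θ_Epre (maximalIdeal A) n (ModuleCat.of A A) hCM.isPowerTorsion hCN.isPowerTorsion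
    (ModuleCat.ofHom N.subtype) eM x).symm

include hv ht in
theorem isSimpleModule_hom_Hn : IsSimpleModule A (ResidueField A →ₗ[A] Hn A n) := by
  have hCk : InC (maximalIdeal A) (ModuleCat.of A (ResidueField A)) := by
    refine ⟨?_, 1, fun a ha x => ?_⟩
    · change Module.Finite A (A ⧸ maximalIdeal A)
      infer_instance
    · obtain ⟨c, rfl⟩ := Ideal.Quotient.mk_surjective x
      rw [pow_one] at ha
      change Ideal.Quotient.mk _ (a * c) = 0
      exact Ideal.Quotient.eq_zero_iff_mem.mpr (Ideal.mul_mem_right _ _ ha)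
  have hv' := hvan A n hv
  have e1 := θEquiv hv' hCk
  have e2 := Ψ n (ModuleCat.of A (ResidueField A)) (ModuleCat.of A A)
  have hs : IsSimpleModule A (ResidueField A) := by
    change IsSimpleModule A (A ⧸ maximalIdeal A)
    exact isSimpleModule_iff_isCoatom.mpr (Ideal.isMaximal_def.mp inferInstance)
  have hl := (ext_simple A n (ResidueField A) hv).2
  rw [← Module.length_eq_one_iff, ← e1.length_eq, e2.length_eq, ← ht]
  exact hl

include hv ht in
theorem exists_isInjectiveHull :
    ∃ f : ResidueField A →ₗ[A] Hn A n, InjHull.IsInjectiveHull f :=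
  (Groth.Agent.S5155.result A (Hn A n)).mpr
    ⟨injective_Hn A n hv, isPowerTorsion_Hn A n _, isSimpleModule_hom_Hn A n hv ht⟩

include hv in
/-- The hypotheses of helper8's general local duality. -/
theorem hyp (hdim : ringKrullDim A ≤ n) :
    Groth.Agent.Lib.Helper8.LocDual.Hyp (maximalIdeal A) n where
  vanish := by
    intro i hi x
    obtain ⟨k, e, rfl⟩ := exists_rep (maximalIdeal A) i (ModuleCat.of A A) x
    have := E_subsingleton_of_inC A n hv (inC_Xk (J := maximalIdeal A) k) i (by omega)
    rw [Subsingleton.elim e 0, map_zero]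
  cd := Groth.Agent.S0325.result A (maximalIdeal A) n hdim
  inj := injective_Hn A n hv

end GenericHull

section Gorenstein

variable (A : Type u) [CommRing A] [hA : LocCoh.IsGorensteinLocalRing A] (n : ℕ)
  (hn : ringKrullDim A = n)

open Groth.Agent.Lib.Helper28 in
include hn in
theorem extVan : ExtVan A n := by
  obtain ⟨hd, hinj⟩ := Groth.Agent.Lib.Helper29Gorenstein.depth_eq_and_hasInjectiveDimensionLT A n hn
  have h := (idealDepth_eq_natCast_iff_ext' (maximalIdeal A) A n).mp hd
  intro i hi
  rcases lt_or_gt_of_ne hi with h' | h'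
  · exact h.1 i h'
  · exact HasInjectiveDimensionLT.subsingleton (ModuleCat.of A A) (n + 1) i (by omega) _

open Groth.Agent.Lib.Helper28 in
include hn in
theorem typ_eq_one_of_gorenstein : typ A n = 1 := by
  obtain ⟨hd, -⟩ := Groth.Agent.Lib.Helper29Gorenstein.depth_eq_and_hasInjectiveDimensionLT A n hn
  obtain ⟨rs, hlen, hmem, hreg⟩ :=
    exists_isWeaklyRegular_of_natCast_le_idealDepth (M := A) (maximalIdeal A) n (le_of_eq hd.symm)
  have hne : maximalIdeal A • (⊤ : Submodule A A) ≠ ⊤ := by
    rw [smul_eq_mul, Ideal.mul_top]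
    exact (maximalIdeal.isMaximal A).ne_top
  have hR : IsRegular A rs := isRegular_of_isWeaklyRegular_of_mem hreg hmem hne
  have hdim := ringKrullDim_add_length_eq_ringKrullDim_of_isRegular rs hR
  rw [hn, hlen] at hdim
  have hle : Ideal.ofList rs ≤ maximalIdeal A := Ideal.span_le.mpr (fun r hr => hmem r hr)
  have : Nontrivial (A ⧸ Ideal.ofList rs) :=
    Ideal.Quotient.nontrivial_iff.mpr (fun h => (maximalIdeal.isMaximal A).ne_top
      (top_le_iff.mp (h ▸ hle)))
  have hdim0 : ringKrullDim (A ⧸ Ideal.ofList rs) ≤ 0 := by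
    have h1 : ringKrullDim (A ⧸ Ideal.ofList rs) ≠ ⊥ :=
      fun h => absurd (h ▸ ringKrullDim_nonneg_of_nontrivial (R := A ⧸ Ideal.ofList rs)) (by simp)
    generalize ringKrullDim (A ⧸ Ideal.ofList rs) = d at hdim h1
    induction d using WithBot.recBotCoe with
    | bot => exact absurd rfl h1
    | coe d =>
      have h2 : d + (n : ℕ∞) = (n : ℕ∞) := by exact_mod_cast hdim
      have h3 : d = 0 := by
        induction d using ENat.recTopCoe with
        | top => simp at h2
        | coe m =>
          have : m + n = n := by exact_mod_cast h2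
          have : m = 0 := by omega
          rw [this]; rfl
      rw [h3]; rfl
  have hK : Ring.KrullDimLE 0 (A ⧸ Ideal.ofList rs) := Ring.krullDimLE_iff.mpr hdim0
  have hart : IsArtinianRing (A ⧸ Ideal.ofList rs) := isArtinianRing_iff_krullDimLE_zero.mpr hK
  have hA1 : IsArtinian A (A ⧸ Ideal.ofList rs) :=
    isArtinian_of_surjective_algebraMap (R := A ⧸ Ideal.ofList rs) Ideal.Quotient.mk_surjective
  have hN1 : IsNoetherian A (A ⧸ Ideal.ofList rs) := isNoetherian_of_isNoetherianRing_of_finite A _
  exact typ_eq_one A n (extVan A n hn) rs hlen hmem hreg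
    (isFiniteLength_iff_isNoetherian_isArtinian.mpr ⟨hN1, hA1⟩)

include hn in
/-- For a Gorenstein local ring of dimension `n`, `H^n_m(A)` is an injective hull of the residue
field. -/
theorem exists_isInjectiveHull_of_gorenstein :
    ∃ f : ResidueField A →ₗ[A] Hn A n, InjHull.IsInjectiveHull f :=
  exists_isInjectiveHull A n (extVan A n hn) (typ_eq_one_of_gorenstein A n hn)

include hn in
theorem hyp_gorenstein : Groth.Agent.Lib.Helper8.LocDual.Hyp (maximalIdeal A) n :=
  hyp A n (extVan A n hn) hn.le

include hn in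
/-- Local duality for a Gorenstein local ring, with `H^n_m(A)` as dualizing module. -/
theorem duality_gorenstein (M : Type u) [AddCommGroup M] [Module A M] [Module.Finite A M]
    (i : ℕ) (hi : i ≤ n) :
    Nonempty ((localCohomology (maximalIdeal A) i).obj (ModuleCat.of A M) ≃ₗ[A]
      (E (n - i) (ModuleCat.of A M) (ModuleCat.of A A) →ₗ[A] Hn A n)) :=
  Groth.Agent.Lib.Helper8.LocDual.duality (hyp_gorenstein A n hn) (n - i) i (by omega) M

end Gorenstein

end Groth.Agent.Lib.Helper29.GorHull
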