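import Mathlib
import Groth.Agent.Lib.Helper29GorHull
import Groth.Agent.S0341

/-!
# Artinian Gorenstein local rings via the socle (helper5)

* `soc R`: the socle `0 : m` of a local ring; `T1 R`: the socle is principal and nonzero.
* `exists_mem_soc`: every nonzero ideal of an Artinian local ring contains a nonzero socle element.
* `injective_of_T1`: an Artinian local ring with `T1` is self-injective (Baer + length count).
* `gor_of_T1`, `T1_of_gor`: for Artinian local rings, Gorenstein ⟺ `T1`.
-/

set_option autoImplicit false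
universe u

namespace Groth.Agent.Lib.Helper5.GorArt
open IsLocalRing CategoryTheory

section Soc

variable (R : Type u) [CommRing R] [IsLocalRing R]

/-- The socle of a local ring: the annihilator of the maximal ideal. -/
def soc : Ideal R where
  carrier := {r | ∀ x ∈ maximalIdeal R, x * r = 0}
  add_mem' := fun {a b} ha hb x hx => by rw [mul_add, ha x hx, hb x hx, add_zero]
  zero_mem' := fun x _ => mul_zero x
  smul_mem' := fun c r hr x hx => by rw [smul_eq_mul, mul_left_comm, hr x hx, mul_zero]

/-- Type one: the socle is principal and nonzero. -/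
def T1 : Prop := ∃ s : R, s ≠ 0 ∧ soc R = Ideal.span {s}

variable {R}

theorem mem_soc {r : R} : r ∈ soc R ↔ ∀ x ∈ maximalIdeal R, x * r = 0 := Iff.rfl

/-- Every nonzero ideal of an Artinian local ring contains a nonzero socle element. -/
theorem exists_mem_soc [IsArtinianRing R] (I : Ideal R) (hI : I ≠ ⊥) :
    ∃ z ∈ I, z ≠ 0 ∧ z ∈ soc R := by
  classical
  obtain ⟨n, hn⟩ := IsArtinianRing.isNilpotent_jacobson_bot (R := R)
  rw [IsLocalRing.jacobson_eq_maximalIdeal ⊥ bot_ne_top] at hn
  have hex : ∃ k, maximalIdeal R ^ k * I = ⊥ := ⟨n, by rw [hn, zero_mul]; rfl⟩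
  have hk1 : maximalIdeal R ^ (Nat.find hex) * I = ⊥ := Nat.find_spec hex
  have hk0 : Nat.find hex ≠ 0 := by
    intro h0
    rw [h0, pow_zero, Ideal.one_eq_top, Ideal.top_mul] at hk1
    exact hI hk1
  obtain ⟨j, hj⟩ : ∃ j, Nat.find hex = j + 1 := ⟨Nat.find hex - 1, by omega⟩
  have hj' : maximalIdeal R ^ j * I ≠ ⊥ := Nat.find_min hex (by omega)
  obtain ⟨z, hz, hz0⟩ := Submodule.exists_mem_ne_zero_of_ne_bot hj'
  refine ⟨z, Ideal.mul_le_right hz, hz0, fun x hx => ?_⟩
  have h1 : x * z ∈ maximalIdeal R * (maximalIdeal R ^ j * I) := Ideal.mul_mem_mul hx hz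
  rw [← mul_assoc, ← pow_succ', ← hj, hk1] at h1
  exact (Submodule.mem_bot R).mp h1

end Soc

section Length

variable {R : Type u} [CommRing R]

theorem length_eq_ker_add_range {Y Z : Type*} [AddCommGroup Y] [AddCommGroup Z]
    [Module R Y] [Module R Z] (g : Y →ₗ[R] Z) :
    Module.length R Y = Module.length R (LinearMap.ker g) + Module.length R (LinearMap.range g) := by
  have hex : Function.Exact (LinearMap.ker g).subtype g.rangeRestrict := by
    intro y
    constructor
    · intro hy
      have hy' : g y = 0 := congrArg Subtype.val hy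
      exact ⟨⟨y, hy'⟩, rfl⟩
    · rintro ⟨⟨y, hy⟩, rfl⟩
      exact Subtype.ext hy
  exact Module.length_eq_add_of_exact (LinearMap.ker g).subtype g.rangeRestrict
    (Submodule.subtype_injective _) g.surjective_rangeRestrict hex

theorem length_le_add_of_exact {X Y Z : Type*} [AddCommGroup X] [AddCommGroup Y] [AddCommGroup Z]
    [Module R X] [Module R Y] [Module R Z] (f : X →ₗ[R] Y) (g : Y →ₗ[R] Z)
    (h : Function.Exact f g) :
    Module.length R Y ≤ Module.length R X + Module.length R Z := by
  rw [length_eq_ker_add_range g]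
  refine add_le_add ?_ ?_
  · have hfg : ∀ x, f x ∈ LinearMap.ker g := fun x => h.apply_apply_eq_zero x
    refine Module.length_le_of_surjective (f.codRestrict (LinearMap.ker g) hfg) ?_
    rintro ⟨y, hy⟩
    obtain ⟨x, rfl⟩ := (h y).mp hy
    exact ⟨x, rfl⟩
  · exact Module.length_le_of_injective (LinearMap.range g).subtype (Submodule.subtype_injective _)

/-- Left exactness of `Hom(-, R)` on `0 → S → M → M/S → 0`. -/
theorem exact_lcomp {M : Type*} [AddCommGroup M] [Module R M] (S : Submodule R M) :
    Function.Exact (LinearMap.lcomp R R S.mkQ) (LinearMap.lcomp R R S.subtype) := by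
  intro φ
  constructor
  · intro hφ
    have hle : S ≤ LinearMap.ker φ := by
      intro y hy
      exact LinearMap.congr_fun hφ ⟨y, hy⟩
    refine ⟨S.liftQ φ hle, ?_⟩
    ext y
    rfl
  · rintro ⟨ψ, rfl⟩
    ext y
    change ψ (S.mkQ (y : M)) = 0
    rw [Submodule.mkQ_apply, (Submodule.Quotient.mk_eq_zero S).mpr y.2, map_zero]

end Length

section Inj

variable {R : Type u} [CommRing R] [IsLocalRing R]

theorem length_hom_le_one_of_simple (h : T1 R) (S : Type u) [AddCommGroup S] [Module R S]
    [IsSimpleModule R S] : Module.length R (S →ₗ[R] R) ≤ 1 := by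
  obtain ⟨s, hs0, hs⟩ := h
  have hs_soc : s ∈ soc R := hs ▸ Ideal.subset_span rfl
  have := IsSimpleModule.nontrivial R S
  obtain ⟨x, hx⟩ := exists_ne (0 : S)
  have hsurj := IsSimpleModule.toSpanSingleton_surjective R hx
  have hmax := IsSimpleModule.ker_toSpanSingleton_isMaximal R hx
  have hker : LinearMap.ker (LinearMap.toSpanSingleton R S x) = maximalIdeal R :=
    eq_maximalIdeal hmax
  have hkill : ∀ a ∈ maximalIdeal R, a • x = 0 := by
    intro a ha
    rw [← hker] at ha
    exact ha
  have hev_inj : ∀ f g : S →ₗ[R] R, f x = g x → f = g := by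
    intro f g hfg
    ext y
    obtain ⟨r, rfl⟩ := hsurj y
    rw [LinearMap.toSpanSingleton_apply, map_smul, map_smul, hfg]
  have hev_mem : ∀ f : S →ₗ[R] R, f x ∈ soc R := by
    intro f a ha
    rw [← smul_eq_mul, ← map_smul, hkill a ha, map_zero]
  by_cases h0 : ∀ f : S →ₗ[R] R, f = 0
  · have : Subsingleton (S →ₗ[R] R) := ⟨fun f g => by rw [h0 f, h0 g]⟩
    rw [Module.length_eq_zero]
    exact zero_le
  · push Not at h0
    obtain ⟨f₁, hf₁⟩ := h0
    have h1 := hev_mem f₁
    rw [hs, Ideal.mem_span_singleton'] at h1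
    obtain ⟨u, hu⟩ := h1
    have hunit : IsUnit u := by
      by_contra hnu
      apply hf₁
      apply hev_inj
      rw [← hu, LinearMap.zero_apply]
      exact hs_soc u ((mem_maximalIdeal u).mpr hnu)
    -- every element is a multiple of f₁
    have hgen : ∀ f : S →ₗ[R] R, ∃ r : R, r • f₁ = f := by
      intro f
      have h2 := hev_mem f
      rw [hs, Ideal.mem_span_singleton'] at h2
      obtain ⟨v, hv⟩ := h2
      refine ⟨v * ↑(hunit.unit⁻¹), ?_⟩
      apply hev_inj
      rw [LinearMap.smul_apply, smul_eq_mul, ← hu, ← hv, mul_assoc, ← mul_assoc _ u s,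
        IsUnit.val_inv_mul, one_mul]
    have hkill' : maximalIdeal R ≤ LinearMap.ker (LinearMap.toSpanSingleton R (S →ₗ[R] R) f₁) := by
      intro a ha
      rw [LinearMap.mem_ker, LinearMap.toSpanSingleton_apply]
      apply hev_inj
      rw [LinearMap.smul_apply, LinearMap.zero_apply, ← map_smul, hkill a ha, map_zero]
    have hsurj' : Function.Surjective
        ((maximalIdeal R).liftQ (LinearMap.toSpanSingleton R (S →ₗ[R] R) f₁) hkill') := by
      intro f
      obtain ⟨r, hr⟩ := hgen f
      exact ⟨Submodule.Quotient.mk r, by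
        rw [Submodule.liftQ_apply, LinearMap.toSpanSingleton_apply, hr]⟩
    have hle := Module.length_le_of_surjective _ hsurj'
    have hsimple : IsSimpleModule R (R ⧸ maximalIdeal R) :=
      isSimpleModule_iff_isCoatom.mpr (Ideal.isMaximal_def.mp inferInstance)
    rwa [Module.length_eq_one (R := R) (M := R ⧸ maximalIdeal R)] at hle

theorem length_hom_le [IsArtinianRing R] (h : T1 R) :
    ∀ (n : ℕ) (M : Type u) [AddCommGroup M] [Module R M] [Module.Finite R M],
      Module.length R M = n → Module.length R (M →ₗ[R] R) ≤ n := by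
  intro n
  induction n with
  | zero =>
    intro M _ _ _ hM
    have hsub : Subsingleton M := (Module.length_eq_zero_iff (R := R) (M := M)).mp (by simpa using hM)
    have : Subsingleton (M →ₗ[R] R) :=
      ⟨fun f g => LinearMap.ext fun x => by rw [Subsingleton.elim x 0, map_zero, map_zero]⟩
    rw [Module.length_eq_zero]
    exact zero_le
  | succ n ih =>
    intro M _ _ _ hM
    have hnt : Nontrivial M := by
      rw [← Module.length_pos_iff (R := R) (M := M), hM]
      exact_mod_cast Nat.succ_pos n
    obtain ⟨S, hS⟩ : ∃ S : Submodule R M, IsAtom S := IsAtomic.exists_atom (Submodule R M)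
    have hsimple : IsSimpleModule R S := isSimpleModule_iff_isAtom.mpr hS
    have hlen := length_le_add_of_exact _ _ (exact_lcomp (R := R) S)
    have hadd := Module.length_eq_add_of_exact S.subtype S.mkQ (Submodule.subtype_injective S)
      (Submodule.mkQ_surjective S) (LinearMap.exact_subtype_mkQ S)
    rw [hM, Module.length_eq_one, Nat.cast_succ, add_comm] at hadd
    have hq : Module.length R (M ⧸ S) = n :=
      ((ENat.add_right_injective_of_ne_top ENat.one_ne_top) hadd).symm
    have h1 := ih (M ⧸ S) hq
    have h2 := length_hom_le_one_of_simple h S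
    calc Module.length R (M →ₗ[R] R)
        ≤ Module.length R ((M ⧸ S) →ₗ[R] R) + Module.length R (S →ₗ[R] R) := hlen
      _ ≤ (n : ℕ∞) + 1 := add_le_add h1 h2
      _ = ((n + 1 : ℕ) : ℕ∞) := by push_cast; rfl

theorem length_hom_le' [IsArtinianRing R] (h : T1 R) (M : Type u) [AddCommGroup M] [Module R M]
    [Module.Finite R M] : Module.length R (M →ₗ[R] R) ≤ Module.length R M := by
  have hne : Module.length R M ≠ ⊤ := Module.length_ne_top
  obtain ⟨n, hn⟩ := ENat.ne_top_iff_exists.mp hne
  rw [← hn]
  exact length_hom_le h n M hn.symm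

/-- An Artinian local ring whose socle is principal is self-injective. -/
theorem injective_of_T1 [IsArtinianRing R] (h : T1 R) : Module.Injective R R := by
  apply Module.Baer.injective
  rw [Module.Baer.iff_surjective]
  intro I
  have hex := exact_lcomp (R := R) (M := R) I
  -- lengths
  have hR : Module.length R R ≠ ⊤ := Module.length_ne_top
  have haddR := Module.length_eq_add_of_exact I.subtype I.mkQ (Submodule.subtype_injective I)
    (Submodule.mkQ_surjective I) (LinearMap.exact_subtype_mkQ I)
  have hHomR : Module.length R (R →ₗ[R] R) = Module.length R R :=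
    (LinearMap.ringLmapEquivSelf R R R).length_eq
  have h1 : Module.length R ((R ⧸ I) →ₗ[R] R) ≤ Module.length R (R ⧸ I) := length_hom_le' h _
  have h2 : Module.length R (I →ₗ[R] R) ≤ Module.length R I := length_hom_le' h _
  set ρ := LinearMap.lcomp R R (Submodule.subtype I) with hρ
  -- length of Hom(R,R) = length ker ρ + length range ρ
  have hadd2 := length_eq_ker_add_range ρ
  have h3 : Module.length R (LinearMap.ker ρ) ≤ Module.length R ((R ⧸ I) →ₗ[R] R) := by
    have hfg : ∀ x, LinearMap.lcomp R R I.mkQ x ∈ LinearMap.ker ρ :=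
      fun x => hex.apply_apply_eq_zero x
    refine Module.length_le_of_surjective ((LinearMap.lcomp R R I.mkQ).codRestrict _ hfg) ?_
    rintro ⟨y, hy⟩
    obtain ⟨x, rfl⟩ := (hex y).mp hy
    exact ⟨x, rfl⟩
  have h4 : Module.length R (LinearMap.range ρ) ≤ Module.length R (I →ₗ[R] R) :=
    Module.length_le_of_injective (LinearMap.range ρ).subtype (Submodule.subtype_injective _)
  rw [← LinearMap.range_eq_top]
  by_contra hne
  have hfin : Module.length R (I →ₗ[R] R) ≠ ⊤ := Module.length_ne_top
  have hlt := Submodule.length_lt (R := R) hne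
  -- numeric contradiction
  rw [hHomR, haddR] at hadd2
  have hI : Module.length R I ≠ ⊤ := fun ht => hR (by rw [haddR, ht, top_add])
  have hQ : Module.length R (R ⧸ I) ≠ ⊤ := fun ht => hR (by rw [haddR, ht, add_top])
  generalize Module.length R I = a at *
  generalize Module.length R (R ⧸ I) = b at *
  generalize Module.length R (LinearMap.ker ρ) = c at *
  generalize Module.length R (LinearMap.range ρ) = d at *
  generalize Module.length R (I →ₗ[R] R) = e at *
  generalize Module.length R ((R ⧸ I) →ₗ[R] R) = e' at *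
  lift a to ℕ using hI
  lift b to ℕ using hQ
  lift e to ℕ using hfin
  have hd : d ≠ ⊤ := ne_top_of_lt hlt
  lift d to ℕ using hd
  have he' : e' ≠ ⊤ := ne_top_of_le_ne_top (ENat.natCast_ne_top b) h1
  lift e' to ℕ using he'
  have hc : c ≠ ⊤ := ne_top_of_le_ne_top (ENat.natCast_ne_top e') h3
  lift c to ℕ using hc
  norm_cast at *
  omega

/-- An Artinian local ring whose socle is principal is Gorenstein. -/
theorem gor_of_T1 (R : Type u) [CommRing R] [IsLocalRing R] [IsArtinianRing R] (h : T1 R) :
    LocCoh.IsGorensteinLocalRing R := by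
  have hinj := injective_of_T1 h
  have hobj : CategoryTheory.Injective (ModuleCat.of R R) :=
    Module.injective_object_of_injective_module R R
  exact @LocCoh.IsGorensteinLocalRing.mk R _ inferInstance inferInstance
    ⟨1, injective_iff_hasInjectiveDimensionLT_one.mp hobj⟩

/-- An Artinian Gorenstein local ring has principal socle. -/
theorem T1_of_gor (R : Type u) [CommRing R] [IsLocalRing R] [IsArtinianRing R]
    [hG : LocCoh.IsGorensteinLocalRing R] : T1 R := by
  have hK : Ring.KrullDimLE 0 R := inferInstance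
  have hdim : ringKrullDim R = ((0 : ℕ) : WithBot ℕ∞) := by
    rw [Nat.cast_zero]
    exact ringKrullDimZero_iff_ringKrullDim_eq_zero.mp hK
  have htyp := Groth.Agent.Lib.Helper29.GorHull.typ_eq_one_of_gorenstein R 0 hdim
  unfold Groth.Agent.Lib.Helper29.GorHull.typ at htyp
  have hlen : Module.length R ((R ⧸ maximalIdeal R) →ₗ[R] R) = 1 := by
    rw [← htyp]
    exact ((Abelian.Ext.linearEquiv₀ (R := R)
      (X := ModuleCat.of R (R ⧸ maximalIdeal R)) (Y := ModuleCat.of R R)).trans
      (ModuleCat.homLinearEquiv (S := R))).length_eq.symm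
  have hsimple : IsSimpleModule R ((R ⧸ maximalIdeal R) →ₗ[R] R) :=
    Module.length_eq_one_iff.mp hlen
  obtain ⟨s, -, hs0, hs⟩ := exists_mem_soc (⊤ : Ideal R) top_ne_bot
  have key : ∀ t ∈ soc R, maximalIdeal R ≤ LinearMap.ker (LinearMap.toSpanSingleton R R t) := by
    intro t ht a ha
    rw [LinearMap.mem_ker, LinearMap.toSpanSingleton_apply, smul_eq_mul]
    exact ht a ha
  have hφ1 : ∀ t (ht : t ∈ soc R),
      (maximalIdeal R).liftQ (LinearMap.toSpanSingleton R R t) (key t ht)
        (Submodule.Quotient.mk 1) = t := by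
    intro t ht
    rw [Submodule.liftQ_apply, LinearMap.toSpanSingleton_apply, one_smul]
  refine ⟨s, hs0, le_antisymm ?_ ?_⟩
  · intro s' hs'
    have hne : (maximalIdeal R).liftQ (LinearMap.toSpanSingleton R R s) (key s hs) ≠ 0 := by
      intro h0
      apply hs0
      rw [← hφ1 s hs, h0, LinearMap.zero_apply]
    obtain ⟨r, hr⟩ := IsSimpleModule.toSpanSingleton_surjective R hne
      ((maximalIdeal R).liftQ (LinearMap.toSpanSingleton R R s') (key s' hs'))
    rw [Ideal.mem_span_singleton']
    refine ⟨r, ?_⟩
    have := LinearMap.congr_fun hr (Submodule.Quotient.mk 1)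
    rw [LinearMap.toSpanSingleton_apply, LinearMap.smul_apply, hφ1 s hs, hφ1 s' hs', smul_eq_mul] at this
    exact this
  · rw [Ideal.span_le, Set.singleton_subset_iff]
    exact hs

end Inj

end Groth.Agent.Lib.Helper5.GorArt
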