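import Groth.Agent.Lib.Helper29ExtSes
import Mathlib

/-! Injective dimension and quotients by a regular element (helper29):
`(-)[f]` sends injective `A`-modules to injective `A/(f)`-modules, and the two change of rings
bounds needed for "`A` Gorenstein iff `A/(f)` Gorenstein". -/

set_option autoImplicit false
universe u
open CategoryTheory CategoryTheory.Abelian

namespace Groth.Agent.Lib.Helper29GorQuot

open Groth.Agent.Lib.Helper29ExtSes

variable {A : Type u} [CommRing A] (f : A)

/-- The quotient map `A → A/(f)` is surjective (as an `algebraMap`). -/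
theorem algebraMap_surjective :
    Function.Surjective (algebraMap A (A ⧸ Ideal.span {f})) :=
  Ideal.Quotient.mk_surjective

instance (C : Type u) [AddCommGroup C] [Module A C] :
    IsScalarTower A (A ⧸ Ideal.span {f}) (Submodule.torsionBy A C f) :=
  IsScalarTower.of_algebraMap_smul fun _ _ => rfl

/-- `I[f]` is an injective `A/(f)`-module when `I` is an injective `A`-module. -/
theorem torsionBy_injective (I : Type u) [AddCommGroup I] [Module A I] [Module.Injective A I] :
    Module.Injective (A ⧸ Ideal.span {f}) (Submodule.torsionBy A I f) := by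
  apply Module.Baer.injective
  intro J g
  -- pull back to `A`
  let J₀ : Ideal A := J.comap (Ideal.Quotient.mk (Ideal.span {f}))
  let g₀ : J₀ →ₗ[A] I :=
    { toFun := fun x => (g ⟨Ideal.Quotient.mk _ x.1, x.2⟩ : Submodule.torsionBy A I f).1
      map_add' := fun x y => by
        have : (⟨Ideal.Quotient.mk (Ideal.span {f}) (x + y : J₀).1, (x + y).2⟩ : J) =
            ⟨Ideal.Quotient.mk _ x.1, x.2⟩ + ⟨Ideal.Quotient.mk _ y.1, y.2⟩ := by
          ext
          simp
        rw [this, map_add]
        rfl
      map_smul' := fun a x => by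
        have : (⟨Ideal.Quotient.mk (Ideal.span {f}) (a • x : J₀).1, (a • x).2⟩ : J) =
            (Ideal.Quotient.mk (Ideal.span {f}) a) • ⟨Ideal.Quotient.mk _ x.1, x.2⟩ := by
          ext
          simp
        rw [this, map_smul]
        rfl }
  obtain ⟨h, hh⟩ := Module.Baer.of_injective (inferInstance : Module.Injective A I) J₀ g₀
  have hfJ : f ∈ J₀ := by
    show Ideal.Quotient.mk (Ideal.span {f}) f ∈ J
    rw [Ideal.Quotient.eq_zero_iff_mem.mpr (Ideal.mem_span_singleton_self f)]
    exact J.zero_mem
  have hy : f • h 1 = 0 := by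
    rw [← map_smul, smul_eq_mul, mul_one, hh f hfJ]
    show ((g ⟨Ideal.Quotient.mk _ f, _⟩ : Submodule.torsionBy A I f) : I) = 0
    have : (⟨Ideal.Quotient.mk (Ideal.span {f}) f, hfJ⟩ : J) = 0 := by
      ext
      exact Ideal.Quotient.eq_zero_iff_mem.mpr (Ideal.mem_span_singleton_self f)
    rw [this, map_zero]
    rfl
  let y : Submodule.torsionBy A I f := ⟨h 1, (Submodule.mem_torsionBy_iff _ _).mpr hy⟩
  refine ⟨LinearMap.toSpanSingleton (A ⧸ Ideal.span {f}) _ y, ?_⟩
  intro x hx
  obtain ⟨x, rfl⟩ := Ideal.Quotient.mk_surjective x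
  rw [LinearMap.toSpanSingleton_apply]
  apply Subtype.ext
  show x • h 1 = _
  rw [← map_smul, smul_eq_mul, mul_one, hh x hx]
  rfl

section torsionMap

variable {M N P : Type u} [AddCommGroup M] [Module A M] [AddCommGroup N] [Module A N]
  [AddCommGroup P] [Module A P]

/-- The map induced on `f`-torsion, as an `A/(f)`-linear map. -/
noncomputable def torsionMap (φ : M →ₗ[A] N) :
    Submodule.torsionBy A M f →ₗ[A ⧸ Ideal.span {f}] Submodule.torsionBy A N f :=
  LinearMap.extendScalarsOfSurjective (algebraMap_surjective f)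
    (φ.restrict (fun x hx => by
      rw [Submodule.mem_torsionBy_iff] at hx ⊢
      rw [← map_smul, hx, map_zero]))

@[simp] theorem torsionMap_apply_coe (φ : M →ₗ[A] N) (x : Submodule.torsionBy A M f) :
    (torsionMap f φ x : N) = φ x := rfl

theorem torsionMap_injective (φ : M →ₗ[A] N) (hφ : Function.Injective φ) :
    Function.Injective (torsionMap f φ) := by
  intro x y hxy
  apply Subtype.ext
  apply hφ
  have := congrArg Subtype.val hxy
  simpa using this

/-- `f`-divisibility. -/
def Divisible (C : Type u) [AddCommGroup C] [Module A C] : Prop :=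
  ∀ c : C, ∃ c' : C, f • c' = c

theorem divisible_of_injective (hreg : IsSMulRegular A f) (I : Type u) [AddCommGroup I]
    [Module A I] [Module.Injective A I] : Divisible f I := by
  intro x
  obtain ⟨h, hh⟩ := Module.Injective.out (R := A) (Q := I) (LinearMap.lsmul A A f) hreg
    (LinearMap.toSpanSingleton A I x)
  refine ⟨h 1, ?_⟩
  have := hh 1
  rw [LinearMap.lsmul_apply, LinearMap.toSpanSingleton_apply, one_smul] at this
  rw [← map_smul, smul_eq_mul, mul_one]
  simpa using this

theorem divisible_of_surjective (φ : M →ₗ[A] N) (hφ : Function.Surjective φ)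
    (hM : Divisible f M) : Divisible f N := by
  intro y
  obtain ⟨x, rfl⟩ := hφ y
  obtain ⟨x', rfl⟩ := hM x
  exact ⟨φ x', (map_smul φ f x').symm⟩

theorem torsionMap_exact (φ : M →ₗ[A] N) (ψ : N →ₗ[A] P) (hφ : Function.Injective φ)
    (hex : Function.Exact φ ψ) : Function.Exact (torsionMap f φ) (torsionMap f ψ) := by
  intro y
  constructor
  · intro hy
    have h0 : ψ y.1 = 0 := by
      have := congrArg Subtype.val hy
      simpa using this
    obtain ⟨x, hx⟩ := (hex y.1).mp h0
    have hfx : f • x = 0 := by
      apply hφ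
      rw [map_smul, hx, map_zero]
      exact (Submodule.mem_torsionBy_iff _ _).mp y.2
    refine ⟨⟨x, (Submodule.mem_torsionBy_iff _ _).mpr hfx⟩, ?_⟩
    apply Subtype.ext
    exact hx
  · rintro ⟨x, rfl⟩
    apply Subtype.ext
    show ψ (φ x.1) = 0
    exact hex.apply_apply_eq_zero x.1

theorem torsionMap_surjective (φ : M →ₗ[A] N) (ψ : N →ₗ[A] P) (hψ : Function.Surjective ψ)
    (hex : Function.Exact φ ψ) (hM : Divisible f M) :
    Function.Surjective (torsionMap f ψ) := by
  intro z
  obtain ⟨y, hy⟩ := hψ z.1
  have hz : f • z.1 = 0 := (Submodule.mem_torsionBy_iff _ _).mp z.2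
  have h0 : ψ (f • y) = 0 := by rw [map_smul, hy, hz]
  obtain ⟨x, hx⟩ := (hex (f • y)).mp h0
  obtain ⟨x', rfl⟩ := hM x
  have hmem : f • (y - φ x') = 0 := by
    rw [smul_sub, ← map_smul, hx, sub_self]
  refine ⟨⟨y - φ x', (Submodule.mem_torsionBy_iff _ _).mpr hmem⟩, ?_⟩
  apply Subtype.ext
  show ψ (y - φ x') = z.1
  rw [map_sub, hex.apply_apply_eq_zero, sub_zero, hy]

end torsionMap

/-- For an `f`-divisible module `C`, the injective dimension of `C[f]` over `A/(f)` is at most
that of `C` over `A`. -/
theorem hasInjectiveDimensionLT_torsionBy (hreg : IsSMulRegular A f) (m : ℕ) :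
    ∀ (C : Type u) [AddCommGroup C] [Module A C], Divisible f C →
      HasInjectiveDimensionLT (ModuleCat.of A C) (m + 1) →
      HasInjectiveDimensionLT
        (ModuleCat.of (A ⧸ Ideal.span {f}) (Submodule.torsionBy A C f)) (m + 1) := by
  induction m with
  | zero =>
    intro C _ _ _ h
    have hinj : Injective (ModuleCat.of A C) := injective_iff_hasInjectiveDimensionLT_one.mpr h
    have h1 : Module.Injective A C := Module.injective_module_of_injective_object A C
    have h2 := torsionBy_injective f C
    have h3 : Injective (ModuleCat.of (A ⧸ Ideal.span {f}) (Submodule.torsionBy A C f)) :=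
      Module.injective_object_of_injective_module _ _
    infer_instance
  | succ m ih =>
    intro C _ _ hdiv h
    let I := Injective.under (ModuleCat.of A C)
    let ι : ModuleCat.of A C ⟶ I := Injective.ι _
    have hι : Function.Injective ι.hom := (ModuleCat.mono_iff_injective ι).mp inferInstance
    let π : I →ₗ[A] (I ⧸ LinearMap.range ι.hom) := (LinearMap.range ι.hom).mkQ
    have hπ : Function.Surjective π := Submodule.mkQ_surjective _
    have hex : Function.Exact ι.hom π := LinearMap.exact_map_mkQ_range ι.hom
    have hS := ses_shortExact ι.hom π hι hπ hex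
    have hI : Injective (ses ι.hom π hex).X₂ := (inferInstance : Injective I)
    have hImod : Module.Injective A I := Module.injective_module_of_injective_object A I
    have hIdiv : Divisible f I := divisible_of_injective f hreg I
    have hC'div : Divisible f (I ⧸ LinearMap.range ι.hom) :=
      divisible_of_surjective f π hπ hIdiv
    have hC' : HasInjectiveDimensionLT (ModuleCat.of A (I ⧸ LinearMap.range ι.hom)) (m + 1) :=
      (hS.hasInjectiveDimensionLT_X₃_iff m hI).mpr h
    have ih' := ih (I ⧸ LinearMap.range ι.hom) hC'div hC'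
    -- the sequence of torsion modules
    have hS' := ses_shortExact (torsionMap f ι.hom) (torsionMap f π)
      (torsionMap_injective f _ hι) (torsionMap_surjective f ι.hom π hπ hex hdiv)
      (torsionMap_exact f ι.hom π hι hex)
    have h2 := torsionBy_injective f I
    have hI' : Injective (ses (torsionMap f ι.hom) (torsionMap f π)
        (torsionMap_exact f ι.hom π hι hex)).X₂ :=
      Module.injective_object_of_injective_module _ _
    exact (hS'.hasInjectiveDimensionLT_X₃_iff m hI').mp ih'

section connecting

variable {I C : Type u} [AddCommGroup I] [Module A I] [AddCommGroup C] [Module A C]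
  (ι : A →ₗ[A] I) (π : I →ₗ[A] C)

/-- The connecting map `C[f] → A/(f)` of the snake lemma for `0 → A → I → C → 0` and
multiplication by `f`. -/
theorem exists_connecting (hι : Function.Injective ι) (hπ : Function.Surjective π)
    (hex : Function.Exact ι π) :
    ∃ δ : Submodule.torsionBy A C f →ₗ[A ⧸ Ideal.span {f}] (A ⧸ Ideal.span {f}),
      ∀ (x : I) (a : A) (_ : ι a = f • x) (hx : π x ∈ Submodule.torsionBy A C f),
        δ ⟨π x, hx⟩ = Ideal.Quotient.mk _ a := by
  classical
  let P : Submodule A I := (LinearMap.range ι).comap (f • LinearMap.id)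
  let e : A ≃ₗ[A] LinearMap.range ι := LinearEquiv.ofInjective ι hι
  let α₀ : P →ₗ[A] LinearMap.range ι :=
    LinearMap.codRestrict (LinearMap.range ι) ((f • LinearMap.id) ∘ₗ P.subtype)
      (fun x => by
        have h := x.2
        exact h)
  let α : P →ₗ[A] (A ⧸ Ideal.span {f}) :=
    (Submodule.mkQ (Ideal.span {f})) ∘ₗ e.symm.toLinearMap ∘ₗ α₀
  have hPmem : ∀ x : P, π x.1 ∈ Submodule.torsionBy A C f := by
    intro x
    rw [Submodule.mem_torsionBy_iff, ← map_smul]
    obtain ⟨a, ha⟩ := x.2
    have : f • x.1 = ι a := ha.symm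
    rw [this]
    exact hex.apply_apply_eq_zero a
  let β : P →ₗ[A] Submodule.torsionBy A C f :=
    LinearMap.codRestrict (Submodule.torsionBy A C f) (π ∘ₗ P.subtype) hPmem
  have hβ : Function.Surjective β := by
    intro c
    obtain ⟨x, hx⟩ := hπ c.1
    have hc : f • c.1 = 0 := (Submodule.mem_torsionBy_iff _ _).mp c.2
    have h0 : π (f • x) = 0 := by rw [map_smul, hx, hc]
    have hxP : x ∈ P := by
      show f • x ∈ LinearMap.range ι
      exact (hex (f • x)).mp h0
    exact ⟨⟨x, hxP⟩, Subtype.ext hx⟩
  have hαspec : ∀ (x : P) (a : A), ι a = f • x.1 → α x = Ideal.Quotient.mk _ a := by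
    intro x a ha
    show Submodule.mkQ (Ideal.span {f}) (e.symm (α₀ x)) = _
    have : α₀ x = e a := by
      apply Subtype.ext
      show f • x.1 = ι a
      exact ha.symm
    rw [this, LinearEquiv.symm_apply_apply]
    rfl
  have hker : LinearMap.ker β ≤ LinearMap.ker α := by
    intro x hx
    rw [LinearMap.mem_ker] at hx ⊢
    have h0 : π x.1 = 0 := congrArg Subtype.val hx
    obtain ⟨b, hb⟩ := (hex x.1).mp h0
    rw [hαspec x (f * b) (by rw [← smul_eq_mul, map_smul, hb])]
    exact Ideal.Quotient.eq_zero_iff_mem.mpr (Ideal.mem_span_singleton.mpr (dvd_mul_right f b))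
  let δ₀ : Submodule.torsionBy A C f →ₗ[A] (A ⧸ Ideal.span {f}) :=
    ((LinearMap.ker β).liftQ α hker) ∘ₗ (LinearMap.quotKerEquivOfSurjective β hβ).symm.toLinearMap
  have hδ₀ : ∀ x : P, δ₀ (β x) = α x := by
    intro x
    show (LinearMap.ker β).liftQ α hker ((LinearMap.quotKerEquivOfSurjective β hβ).symm (β x)) = _
    have : (LinearMap.quotKerEquivOfSurjective β hβ).symm (β x) =
        Submodule.Quotient.mk x := by
      rw [LinearEquiv.symm_apply_eq]
      rfl
    rw [this, Submodule.liftQ_apply]
  refine ⟨LinearMap.extendScalarsOfSurjective (algebraMap_surjective f) δ₀, ?_⟩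
  intro x a ha hx
  have hxP : x ∈ P := by
    show f • x ∈ LinearMap.range ι
    exact ⟨a, ha⟩
  have : (⟨π x, hx⟩ : Submodule.torsionBy A C f) = β ⟨x, hxP⟩ := rfl
  rw [this]
  show δ₀ (β ⟨x, hxP⟩) = _
  rw [hδ₀, hαspec ⟨x, hxP⟩ a ha]

end connecting

section quotient

variable {I C : Type u} [AddCommGroup I] [Module A I] [AddCommGroup C] [Module A C]
  (ι : A →ₗ[A] I) (π : I →ₗ[A] C)

theorem torsionMap_injective_of_regular (hreg : IsSMulRegular A f) (hι : Function.Injective ι)
    (hex : Function.Exact ι π) : Function.Injective (torsionMap f π) := by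
  rw [injective_iff_map_eq_zero]
  intro x hx
  have h0 : π x.1 = 0 := congrArg Subtype.val hx
  obtain ⟨a, ha⟩ := (hex x.1).mp h0
  have hfx : f • x.1 = 0 := (Submodule.mem_torsionBy_iff _ _).mp x.2
  have hfa : f • a = 0 := by
    apply hι
    rw [map_smul, ha, hfx, map_zero]
  have ha0 : a = 0 := hreg (by
    show f • a = f • 0
    rw [hfa, smul_zero])
  apply Subtype.ext
  show x.1 = 0
  rw [← ha, ha0, map_zero]

theorem exists_connecting_exact (hreg : IsSMulRegular A f) (hι : Function.Injective ι)
    (hπ : Function.Surjective π) (hex : Function.Exact ι π) (hI : Divisible f I) :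
    ∃ δ : Submodule.torsionBy A C f →ₗ[A ⧸ Ideal.span {f}] (A ⧸ Ideal.span {f}),
      Function.Surjective δ ∧ Function.Exact (torsionMap f π) δ := by
  obtain ⟨δ, hδ⟩ := exists_connecting f ι π hι hπ hex
  have hmem : ∀ (x : I) (a : A), ι a = f • x → π x ∈ Submodule.torsionBy A C f := by
    intro x a ha
    rw [Submodule.mem_torsionBy_iff, ← map_smul, ← ha]
    exact hex.apply_apply_eq_zero a
  refine ⟨δ, ?_, ?_⟩
  · intro y
    obtain ⟨a, rfl⟩ := Ideal.Quotient.mk_surjective y
    obtain ⟨x, hx⟩ := hI (ι a)
    exact ⟨⟨π x, hmem x a hx.symm⟩, hδ x a hx.symm _⟩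
  · intro c
    constructor
    · intro hc
      obtain ⟨x, hx⟩ := hπ c.1
      have hfc : f • c.1 = 0 := (Submodule.mem_torsionBy_iff _ _).mp c.2
      have h0 : π (f • x) = 0 := by rw [map_smul, hx, hfc]
      obtain ⟨a, ha⟩ := (hex (f • x)).mp h0
      have hcx : c = ⟨π x, hmem x a ha⟩ := Subtype.ext hx.symm
      rw [hcx, hδ x a ha] at hc
      obtain ⟨b, rfl⟩ := Ideal.mem_span_singleton.mp (Ideal.Quotient.eq_zero_iff_mem.mp hc)
      have hmem' : f • (x - ι b) = 0 := by
        rw [smul_sub, ← ha, ← map_smul, smul_eq_mul, sub_self]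
      refine ⟨⟨x - ι b, (Submodule.mem_torsionBy_iff _ _).mpr hmem'⟩, ?_⟩
      apply Subtype.ext
      show π (x - ι b) = c.1
      rw [map_sub, hex.apply_apply_eq_zero, sub_zero, hx]
    · rintro ⟨x, rfl⟩
      have hfx : f • x.1 = 0 := (Submodule.mem_torsionBy_iff _ _).mp x.2
      have h1 : ι 0 = f • x.1 := by rw [map_zero, hfx]
      have : torsionMap f π x = ⟨π x.1, hmem x.1 0 h1⟩ := rfl
      rw [this, hδ x.1 0 h1, map_zero]

/-- If `f` is `A`-regular then the injective dimension of `A/(f)` over itself is at most that of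
`A` over itself. -/
theorem hasInjectiveDimensionLT_quotient (hreg : IsSMulRegular A f) (n : ℕ)
    (h : HasInjectiveDimensionLT (ModuleCat.of A A) (n + 1)) :
    HasInjectiveDimensionLT
      (ModuleCat.of (A ⧸ Ideal.span {f}) (A ⧸ Ideal.span {f})) (n + 1) := by
  let I := Injective.under (ModuleCat.of A A)
  let ι : ModuleCat.of A A ⟶ I := Injective.ι _
  have hι : Function.Injective ι.hom := (ModuleCat.mono_iff_injective ι).mp inferInstance
  let π : I →ₗ[A] (I ⧸ LinearMap.range ι.hom) := (LinearMap.range ι.hom).mkQ
  have hπ : Function.Surjective π := Submodule.mkQ_surjective _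
  have hex : Function.Exact ι.hom π := LinearMap.exact_map_mkQ_range ι.hom
  have hS := ses_shortExact ι.hom π hι hπ hex
  have hI : Injective (ses ι.hom π hex).X₂ := (inferInstance : Injective I)
  have hImod : Module.Injective A I := Module.injective_module_of_injective_object A I
  have hIdiv : Divisible f I := divisible_of_injective f hreg I
  have hCdiv : Divisible f (I ⧸ LinearMap.range ι.hom) := divisible_of_surjective f π hπ hIdiv
  have hC : HasInjectiveDimensionLT (ModuleCat.of A (I ⧸ LinearMap.range ι.hom)) (n + 1) := by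
    refine hS.hasInjectiveDimensionLT_X₃ (n + 1) ?_ ?_
    · exact hasInjectiveDimensionLT_of_ge _ 1 (n + 1) (by omega)
    · exact hasInjectiveDimensionLT_of_ge _ (n + 1) (n + 1 + 1) (by omega)
  have hCt := hasInjectiveDimensionLT_torsionBy f hreg n _ hCdiv hC
  obtain ⟨δ, hδsurj, hδex⟩ := exists_connecting_exact f ι.hom π hreg hι hπ hex hIdiv
  have hS' := ses_shortExact (torsionMap f π) δ
    (torsionMap_injective_of_regular f ι.hom π hreg hι hex) hδsurj hδex
  have h2 := torsionBy_injective f I
  have hI' : Injective (ses (torsionMap f π) δ hδex).X₁ :=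
    Module.injective_object_of_injective_module _ _
  refine hS'.hasInjectiveDimensionLT_X₃ (n + 1) hCt ?_
  exact hasInjectiveDimensionLT_of_ge _ 1 (n + 1 + 1) (by omega)

end quotient

section restrict

/-- An injective `A/(f)`-module has injective dimension at most one over `A`. -/
theorem hasInjectiveDimensionLT_two_of_injective (hreg : IsSMulRegular A f)
    (N : Type u) [AddCommGroup N] [Module A N] [Module (A ⧸ Ideal.span {f}) N]
    [IsScalarTower A (A ⧸ Ideal.span {f}) N] [Module.Injective (A ⧸ Ideal.span {f}) N] :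
    HasInjectiveDimensionLT (ModuleCat.of A N) 2 := by
  let I := Injective.under (ModuleCat.of A N)
  let j : ModuleCat.of A N ⟶ I := Injective.ι _
  have hj : Function.Injective j.hom := (ModuleCat.mono_iff_injective j).mp inferInstance
  have hIobj : Injective (ModuleCat.of A I) := (inferInstance : Injective I)
  have hImod : Module.Injective A I := Module.injective_module_of_injective_object A I
  have hIdiv : Divisible f I := divisible_of_injective f hreg I
  have hfN : ∀ n : N, f • n = 0 := by
    intro n
    rw [← algebraMap_smul (A ⧸ Ideal.span {f}) f n]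
    have : algebraMap A (A ⧸ Ideal.span {f}) f = 0 :=
      Ideal.Quotient.eq_zero_iff_mem.mpr (Ideal.mem_span_singleton_self f)
    rw [this, zero_smul]
  let j' : N →ₗ[A] Submodule.torsionBy A I f :=
    LinearMap.codRestrict (Submodule.torsionBy A I f) j.hom (fun n => by
      rw [Submodule.mem_torsionBy_iff, ← map_smul, hfN, map_zero])
  have hj' : Function.Injective j' := fun x y hxy => hj (congrArg Subtype.val hxy)
  let j'' : N →ₗ[A ⧸ Ideal.span {f}] Submodule.torsionBy A I f :=
    LinearMap.extendScalarsOfSurjective (algebraMap_surjective f) j'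
  obtain ⟨r, hr⟩ := Module.Injective.out (R := A ⧸ Ideal.span {f}) (Q := N) j'' hj'
    LinearMap.id
  -- `I[f]` has injective dimension at most one
  have hex : Function.Exact (Submodule.torsionBy A I f).subtype (LinearMap.lsmul A I f) := by
    intro x
    constructor
    · intro hx
      exact ⟨⟨x, (Submodule.mem_torsionBy_iff _ _).mpr hx⟩, rfl⟩
    · rintro ⟨y, rfl⟩
      exact (Submodule.mem_torsionBy_iff _ _).mp y.2
  have hS := ses_shortExact (Submodule.torsionBy A I f).subtype (LinearMap.lsmul A I f)
    Subtype.val_injective (fun x => by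
      obtain ⟨x', hx'⟩ := hIdiv x
      exact ⟨x', hx'⟩) hex
  have hI1 : HasInjectiveDimensionLT (ModuleCat.of A I) 1 :=
    (inferInstance : HasInjectiveDimensionLT I 1)
  have hT : HasInjectiveDimensionLT (ModuleCat.of A (Submodule.torsionBy A I f)) 2 :=
    hS.hasInjectiveDimensionLT_X₁ 1 hI1 (hasInjectiveDimensionLT_of_ge _ 1 2 (by omega))
  have hret : Retract (ModuleCat.of A N) (ModuleCat.of A (Submodule.torsionBy A I f)) :=
    { i := ModuleCat.ofHom j'
      r := ModuleCat.ofHom (r.restrictScalars A)
      retract := by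
        ext n
        exact hr n }
  exact hret.hasInjectiveDimensionLT 2

/-- Restriction of scalars along `A → A/(f)` raises the injective dimension by at most one. -/
theorem hasInjectiveDimensionLT_restrict (hreg : IsSMulRegular A f) (m : ℕ) :
    ∀ (N : Type u) [AddCommGroup N] [Module A N] [Module (A ⧸ Ideal.span {f}) N]
      [IsScalarTower A (A ⧸ Ideal.span {f}) N],
      HasInjectiveDimensionLT (ModuleCat.of (A ⧸ Ideal.span {f}) N) (m + 1) →
      HasInjectiveDimensionLT (ModuleCat.of A N) (m + 2) := by
  induction m with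
  | zero =>
    intro N _ _ _ _ h
    have hinj : Injective (ModuleCat.of (A ⧸ Ideal.span {f}) N) :=
      injective_iff_hasInjectiveDimensionLT_one.mpr h
    have h1 : Module.Injective (A ⧸ Ideal.span {f}) N :=
      Module.injective_module_of_injective_object _ N
    exact hasInjectiveDimensionLT_two_of_injective f hreg N
  | succ m ih =>
    intro N _ _ _ _ h
    let J := Injective.under (ModuleCat.of (A ⧸ Ideal.span {f}) N)
    let ι : ModuleCat.of (A ⧸ Ideal.span {f}) N ⟶ J := Injective.ι _
    have hι : Function.Injective ι.hom := (ModuleCat.mono_iff_injective ι).mp inferInstance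
    letI : Module A J := Module.compHom J (algebraMap A (A ⧸ Ideal.span {f}))
    haveI : IsScalarTower A (A ⧸ Ideal.span {f}) J :=
      IsScalarTower.of_algebraMap_smul fun _ _ => rfl
    let π : J →ₗ[A ⧸ Ideal.span {f}] (J ⧸ LinearMap.range ι.hom) := (LinearMap.range ι.hom).mkQ
    have hπ : Function.Surjective π := Submodule.mkQ_surjective _
    have hex : Function.Exact ι.hom π := LinearMap.exact_map_mkQ_range ι.hom
    have hS := ses_shortExact ι.hom π hι hπ hex
    have hJ : Injective (ses ι.hom π hex).X₂ := (inferInstance : Injective J)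
    have hJmod : Module.Injective (A ⧸ Ideal.span {f}) J :=
      Module.injective_module_of_injective_object _ J
    have hN' : HasInjectiveDimensionLT
        (ModuleCat.of (A ⧸ Ideal.span {f}) (J ⧸ LinearMap.range ι.hom)) (m + 1) :=
      (hS.hasInjectiveDimensionLT_X₃_iff m hJ).mpr h
    have ih' := ih (J ⧸ LinearMap.range ι.hom) hN'
    have hJ2 : HasInjectiveDimensionLT (ModuleCat.of A J) 2 :=
      hasInjectiveDimensionLT_two_of_injective f hreg J
    have hSA := ses_shortExact (ι.hom.restrictScalars A) (π.restrictScalars A) hι hπ hex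
    exact hSA.hasInjectiveDimensionLT_X₁ (m + 2) ih'
      (hasInjectiveDimensionLT_of_ge _ 2 (m + 2 + 1) (by omega))

end restrict

end Groth.Agent.Lib.Helper29GorQuot
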