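import Mathlib
import Groth.Agent.Lib.Helper5GorArt
import Groth.Agent.Lib.Helper28FlatEquidim
import Groth.Agent.Lib.Helper28FlatNormal
import Groth.Agent.Lib.Helper28DepthFlat
import Groth.Agent.Lib.Helper28Normal
import Groth.Agent.Lib.Helper5RLR
import Groth.Agent.S0343

/-!
# Gorenstein property along flat local homomorphisms (helper5)

* `flat_key`, `flat_colon`, `flat_ann`: flat base change of annihilators / colon ideals, element form.
* `T1_of_T1_of_T1`, `T1_of_T1_flat`: the socle of `B` for a flat local `A → B` with closed fibre `F`.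
* `main`: for `π : B → F` surjective with kernel `m_A B`: `B` Gorenstein iff `A` and `F` Gorenstein.
-/

set_option autoImplicit false
universe u

namespace Groth.Agent.Lib.Helper5.GorFlat
open IsLocalRing TensorProduct Groth.Agent.Lib.Helper5.GorArt Groth.Agent.Lib.Helper5
  Groth.Agent.Lib.Helper28

section FlatKey

variable {A B : Type*} [CommRing A] [CommRing B] [Algebra A B]

theorem flat_key [Module.Flat A B] {Y : Type*} [AddCommGroup Y] [Module A Y] {ι : Type*}
    [Fintype ι] [DecidableEq ι] (y : ι → Y) (b : B) (hb : ∀ i, b ⊗ₜ[A] y i = 0) :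
    b ∈ Ideal.map (algebraMap A B) (LinearMap.ker (LinearMap.pi
      (fun i => LinearMap.toSpanSingleton A Y (y i)) : A →ₗ[A] (ι → Y)) : Ideal A) := by
  let g : A →ₗ[A] (ι → Y) := LinearMap.pi (fun i => LinearMap.toSpanSingleton A Y (y i))
  have hg : ∀ (a : A) (i : ι), g a i = a • y i := fun a i => rfl
  let gbar : (A ⧸ LinearMap.ker g) →ₗ[A] (ι → Y) := Submodule.liftQ (LinearMap.ker g) g le_rfl
  have hinj : Function.Injective gbar := by
    rw [← LinearMap.ker_eq_bot]
    exact Submodule.ker_liftQ_eq_bot _ _ _ le_rfl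
  have hinj2 := Module.Flat.lTensor_preserves_injective_linearMap (M := B) gbar hinj
  have hz : (gbar.lTensor B) (b ⊗ₜ[A] (1 : A ⧸ LinearMap.ker g)) = 0 := by
    apply (TensorProduct.piRight A A B (fun _ : ι => Y)).injective
    rw [map_zero, LinearMap.lTensor_tmul]
    funext i
    rw [TensorProduct.piRight_apply, TensorProduct.piRightHom_tmul]
    change b ⊗ₜ[A] gbar 1 i = 0
    have h1 : gbar 1 i = y i := by
      change g 1 i = _
      rw [hg, one_smul]
    rw [h1]
    exact hb i
  have hz0 : b ⊗ₜ[A] (1 : A ⧸ LinearMap.ker g) = 0 := hinj2 (by rw [hz, map_zero])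
  have h2 : Algebra.TensorProduct.quotIdealMapEquivTensorQuot B (LinearMap.ker g)
      (Ideal.Quotient.mk _ b) = 0 := by
    rw [Algebra.TensorProduct.quotIdealMapEquivTensorQuot_mk]
    exact hz0
  have h3 := (Algebra.TensorProduct.quotIdealMapEquivTensorQuot B
    (LinearMap.ker g)).injective (h2.trans (map_zero _).symm)
  exact Ideal.Quotient.eq_zero_iff_mem.mp h3

/-- Flat base change of a colon ideal `(I : a)`, element form. -/
theorem flat_colon [Module.Flat A B] (I : Ideal A) (a : A) (K : Ideal A)
    (hK : ∀ c, c * a ∈ I → c ∈ K) (b : B)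
    (hb : algebraMap A B a * b ∈ I.map (algebraMap A B)) : b ∈ K.map (algebraMap A B) := by
  classical
  have h1 : b ⊗ₜ[A] (Ideal.Quotient.mk I a) = 0 := by
    have e : b ⊗ₜ[A] (Ideal.Quotient.mk I a) = (a • b) ⊗ₜ[A] (1 : A ⧸ I) := by
      rw [TensorProduct.smul_tmul]
      congr 1
      rw [← Ideal.Quotient.algebraMap_eq, Algebra.algebraMap_eq_smul_one]
    rw [e, Algebra.smul_def, ← Algebra.TensorProduct.quotIdealMapEquivTensorQuot_mk,
      Ideal.Quotient.eq_zero_iff_mem.mpr hb, map_zero]
  have h2 := flat_key (A := A) (B := B) (Y := A ⧸ I) (ι := Unit)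
    (fun _ => Ideal.Quotient.mk I a) b (fun _ => h1)
  refine Ideal.map_mono ?_ h2
  intro c hc
  rw [LinearMap.mem_ker] at hc
  have h3 : c • (Ideal.Quotient.mk I a) = 0 := congrFun hc ()
  apply hK
  rw [← Ideal.Quotient.eq_zero_iff_mem, map_mul, ← h3, Algebra.smul_def]
  rfl

/-- Flat base change of the annihilator of a finitely generated ideal, element form. -/
theorem flat_ann [Module.Flat A B] (m : Ideal A) (hm : m.FG) (K : Ideal A)
    (hK : ∀ c, (∀ x ∈ m, c * x = 0) → c ∈ K) (z : B)
    (hz : ∀ x ∈ m, algebraMap A B x * z = 0) : z ∈ K.map (algebraMap A B) := by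
  classical
  obtain ⟨s, hs⟩ := hm
  have h2 := flat_key (A := A) (B := B) (Y := A) (ι := s) (fun i => (i : A)) z (fun i => by
    have e : z ⊗ₜ[A] ((i : A)) = ((i : A) • z) ⊗ₜ[A] (1 : A) := by
      rw [TensorProduct.smul_tmul, smul_eq_mul, mul_one]
    rw [e, Algebra.smul_def, hz _ (hs ▸ Ideal.subset_span i.2), TensorProduct.zero_tmul])
  refine Ideal.map_mono ?_ h2
  intro c hc
  rw [LinearMap.mem_ker] at hc
  apply hK
  intro x hx
  rw [← hs] at hx
  refine Submodule.span_induction ?_ ?_ ?_ ?_ hx
  · intro x hxs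
    have h3 : c • x = 0 := congrFun hc ⟨x, hxs⟩
    exact h3
  · exact mul_zero c
  · intro x y _ _ hx hy
    rw [mul_add, hx, hy, add_zero]
  · intro a x _ hx
    rw [smul_eq_mul, mul_left_comm, hx, mul_zero]

end FlatKey

section Socle

variable {A B : Type u} [CommRing A] [CommRing B] [IsLocalRing A] [IsLocalRing B] [Algebra A B]
  [IsLocalHom (algebraMap A B)] [Module.Flat A B]
  {F : Type u} [CommRing F] [IsLocalRing F] (π : B →+* F) (hπ : Function.Surjective π)
  (hker : RingHom.ker π = (maximalIdeal A).map (algebraMap A B))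

omit [IsLocalRing B] [IsLocalHom (algebraMap A B)] [Module.Flat A B] in
theorem ann_le_maximalIdeal {s : A} (hs0 : s ≠ 0) (c : A) (hc : c * s = 0) :
    c ∈ maximalIdeal A := by
  by_contra hcm
  have hu : IsUnit c := by
    by_contra h
    exact hcm ((mem_maximalIdeal c).mpr h)
  exact hs0 ((hu.mul_right_eq_zero).mp hc)

omit [IsLocalRing B] [IsLocalHom (algebraMap A B)] in
theorem ann_map_le {s : A} (hs0 : s ≠ 0) (c : B) (hc : algebraMap A B s * c = 0) :
    c ∈ (maximalIdeal A).map (algebraMap A B) :=
  flat_colon (⊥ : Ideal A) s (maximalIdeal A)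
    (fun c' hc' => ann_le_maximalIdeal hs0 c' ((Submodule.mem_bot A).mp hc')) c
    (by rw [hc]; exact Ideal.zero_mem _)

omit [IsLocalRing B] [IsLocalHom (algebraMap A B)] [Module.Flat A B] in
theorem soc_mul_map {s : A} (hs : s ∈ soc A) (j : B)
    (hj : j ∈ (maximalIdeal A).map (algebraMap A B)) : algebraMap A B s * j = 0 := by
  refine Submodule.span_induction ?_ ?_ ?_ ?_ hj
  · rintro _ ⟨x, hx, rfl⟩
    rw [← map_mul, mul_comm, hs x hx, map_zero]
  · exact mul_zero _
  · intro x y _ _ hx hy
    rw [mul_add, hx, hy, add_zero]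
  · intro a x _ hx
    rw [smul_eq_mul, mul_left_comm, hx, mul_zero]

include hπ in
omit [IsLocalRing A] [Algebra A B] [IsLocalHom (algebraMap A B)] [Module.Flat A B] in
theorem mem_maximalIdeal_of_map (y : B) (hy : π y ∈ maximalIdeal F) : y ∈ maximalIdeal B := by
  have hloc : IsLocalHom π := IsLocalHom.of_surjective π hπ
  rw [← IsLocalRing.maximalIdeal_comap π]
  exact hy

include hπ hker in
/-- Socle of `B` from those of `A` and the closed fibre `F`. -/
theorem T1_of_T1_of_T1 [IsNoetherianRing A] (hA : T1 A) (hF : T1 F) : T1 B := by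
  obtain ⟨s, hs0, hs⟩ := hA
  obtain ⟨t, ht0, ht⟩ := hF
  obtain ⟨b, rfl⟩ := hπ t
  have hloc : IsLocalHom π := IsLocalHom.of_surjective π hπ
  have hs_soc : s ∈ soc A := hs ▸ Ideal.subset_span rfl
  have hb_soc : π b ∈ soc F := ht ▸ Ideal.subset_span rfl
  refine ⟨algebraMap A B s * b, ?_, le_antisymm ?_ ?_⟩
  · intro h0
    have h1 := ann_map_le hs0 b h0
    rw [← hker, RingHom.mem_ker] at h1
    exact ht0 h1
  · intro z hz
    have hz1 : ∀ x ∈ maximalIdeal A, algebraMap A B x * z = 0 :=
      fun x hx => hz _ (map_nonunit (algebraMap A B) x hx)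
    have hz2 : z ∈ (soc A).map (algebraMap A B) :=
      flat_ann (maximalIdeal A) (IsNoetherian.noetherian _) (soc A)
        (fun c hc x hx => by rw [mul_comm]; exact hc x hx) z hz1
    rw [hs, Ideal.map_span, Set.image_singleton, Ideal.mem_span_singleton'] at hz2
    obtain ⟨c, rfl⟩ := hz2
    have hc : π c ∈ soc F := by
      intro y' hy'
      obtain ⟨y, rfl⟩ := hπ y'
      have hy : y ∈ maximalIdeal B := mem_maximalIdeal_of_map π hπ y hy'
      have h1 := hz y hy
      have h2 : y * c ∈ (maximalIdeal A).map (algebraMap A B) :=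
        ann_map_le hs0 (y * c) (by rw [← h1]; ring)
      rw [← hker, RingHom.mem_ker, map_mul] at h2
      exact h2
    rw [ht, Ideal.mem_span_singleton'] at hc
    obtain ⟨β', hβ'⟩ := hc
    obtain ⟨β, rfl⟩ := hπ β'
    have hj : c - β * b ∈ (maximalIdeal A).map (algebraMap A B) := by
      rw [← hker, RingHom.mem_ker, map_sub, map_mul, hβ', sub_self]
    rw [Ideal.mem_span_singleton']
    refine ⟨β, ?_⟩
    have h3 := soc_mul_map hs_soc _ hj
    linear_combination (-1 : B) * h3
  · rw [Ideal.span_le, Set.singleton_subset_iff]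
    intro y hy
    have h2 : y * b ∈ (maximalIdeal A).map (algebraMap A B) := by
      rw [← hker, RingHom.mem_ker, map_mul]
      exact hb_soc _ (map_nonunit π y hy)
    have h3 := soc_mul_map hs_soc _ h2
    rw [mul_left_comm]
    exact h3

include hπ hker in
/-- Socles of `A` and of the closed fibre `F` from that of `B` (Artinian case). -/
theorem T1_of_T1_flat [IsArtinianRing A] [IsArtinianRing B] (hB : T1 B) : T1 A ∧ T1 F := by
  obtain ⟨σ, hσ0, hσ⟩ := hB
  have hσ_soc : σ ∈ soc B := hσ ▸ Ideal.subset_span rfl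
  have hloc : IsLocalHom π := IsLocalHom.of_surjective π hπ
  have hcontain : ∀ I : Ideal B, I ≠ ⊥ → σ ∈ I := by
    intro I hI
    obtain ⟨z, hzI, hz0, hzs⟩ := exists_mem_soc I hI
    rw [hσ, Ideal.mem_span_singleton'] at hzs
    obtain ⟨v, rfl⟩ := hzs
    have hv : IsUnit v := by
      by_contra hnv
      exact hz0 (hσ_soc v ((mem_maximalIdeal v).mpr hnv))
    have e : σ = ↑(hv.unit⁻¹) * (v * σ) := by
      rw [← mul_assoc, IsUnit.val_inv_mul, one_mul]
    rw [e]
    exact I.mul_mem_left _ hzI
  obtain ⟨s, -, hs0, hs_soc⟩ := exists_mem_soc (⊤ : Ideal A) top_ne_bot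
  have hJle : (maximalIdeal A).map (algebraMap A B) ≤ maximalIdeal B :=
    IsLocalRing.map_maximalIdeal_le (algebraMap A B)
  have hne : ∀ s' : A, s' ≠ 0 → Ideal.span {algebraMap A B s'} ≠ ⊥ := by
    intro s' h0 h
    rw [Ideal.span_singleton_eq_bot] at h
    have h1 : (1 : B) ∈ (maximalIdeal A).map (algebraMap A B) :=
      ann_map_le h0 1 (by rw [mul_one, h])
    exact (mem_maximalIdeal (1 : B)).mp (hJle h1) isUnit_one
  have h1 := hcontain _ (hne s hs0)
  rw [Ideal.mem_span_singleton'] at h1
  obtain ⟨c, hc⟩ := h1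
  constructor
  · refine ⟨s, hs0, le_antisymm ?_ ?_⟩
    · intro s' hs'
      by_contra hnot
      have hs'0 : s' ≠ 0 := fun h => hnot (h ▸ Ideal.zero_mem _)
      have h2 := hcontain _ (hne s' hs'0)
      rw [Ideal.mem_span_singleton'] at h2
      obtain ⟨c', hc'⟩ := h2
      have h3 : algebraMap A B s' * c' ∈ (Ideal.span {s}).map (algebraMap A B) := by
        rw [Ideal.map_span, Set.image_singleton, Ideal.mem_span_singleton']
        exact ⟨c, by rw [hc, ← hc', mul_comm]⟩
      have h4 : c' ∈ (maximalIdeal A).map (algebraMap A B) := by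
        refine flat_colon (Ideal.span {s}) s' (maximalIdeal A) (fun a ha => ?_) c' h3
        by_contra ham
        have hu : IsUnit a := by
          by_contra h
          exact ham ((mem_maximalIdeal a).mpr h)
        apply hnot
        have e : s' = ↑(hu.unit⁻¹) * (a * s') := by
          rw [← mul_assoc, IsUnit.val_inv_mul, one_mul]
        rw [e]
        exact Ideal.mul_mem_left _ _ ha
      exact hσ0 (by rw [← hc', mul_comm]; exact soc_mul_map hs' c' h4)
    · rw [Ideal.span_le, Set.singleton_subset_iff]
      exact hs_soc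
  · have hcJ : c ∉ (maximalIdeal A).map (algebraMap A B) :=
      fun h => hσ0 (by rw [← hc, mul_comm]; exact soc_mul_map hs_soc c h)
    refine ⟨π c, ?_, le_antisymm ?_ ?_⟩
    · intro h
      exact hcJ (by rw [← hker]; exact h)
    · intro d' hd'
      obtain ⟨d, rfl⟩ := hπ d'
      have hsd : algebraMap A B s * d ∈ soc B := by
        intro y hy
        have h2 : y * d ∈ (maximalIdeal A).map (algebraMap A B) := by
          rw [← hker, RingHom.mem_ker, map_mul]
          exact hd' _ (map_nonunit π y hy)
        rw [mul_left_comm]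
        exact soc_mul_map hs_soc _ h2
      rw [hσ, Ideal.mem_span_singleton'] at hsd
      obtain ⟨β, hβ⟩ := hsd
      have h3 : d - β * c ∈ (maximalIdeal A).map (algebraMap A B) :=
        ann_map_le hs0 _ (by rw [mul_sub, ← hβ, ← hc]; ring)
      rw [← hker, RingHom.mem_ker, map_sub, map_mul, sub_eq_zero] at h3
      rw [Ideal.mem_span_singleton']
      exact ⟨π β, h3.symm⟩
    · rw [Ideal.span_le, Set.singleton_subset_iff]
      intro y' hy'
      obtain ⟨y, rfl⟩ := hπ y'
      have hy : y ∈ maximalIdeal B := mem_maximalIdeal_of_map π hπ y hy'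
      have h2 : y * c ∈ (maximalIdeal A).map (algebraMap A B) :=
        ann_map_le hs0 _ (by
          rw [mul_left_comm, mul_comm (algebraMap A B s) c, hc]
          exact hσ_soc y hy)
      rw [← hker, RingHom.mem_ker, map_mul] at h2
      exact h2

end Socle

section Main

open LocCoh RingTheory.Sequence
open scoped Pointwise

/-- A Noetherian local ring of dimension zero is Artinian. -/
theorem isArtinianRing_of_dim_zero (R : Type u) [CommRing R] [IsLocalRing R] [IsNoetherianRing R]
    (h : ringKrullDim R = 0) : IsArtinianRing R :=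
  isArtinianRing_iff_krullDimLE_zero.mpr (ringKrullDimZero_iff_ringKrullDim_eq_zero.mpr h)

/-- If no element of the maximal ideal is regular, the depth is zero. -/
theorem depth_eq_zero_of_no_regular (R : Type u) [CommRing R] [IsLocalRing R] [IsNoetherianRing R]
    (h : ¬ ∃ x ∈ maximalIdeal R, IsSMulRegular R x) : LocCoh.depth R R = 0 := by
  by_contra hne
  have h1 : ((1 : ℕ) : ℕ∞) ≤ LocCoh.idealDepth (maximalIdeal R) R := by
    rw [Nat.cast_one]
    exact Order.one_le_iff_ne_zero.mpr hne
  obtain ⟨rs, hlen, hmem, hreg⟩ :=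
    exists_isWeaklyRegular_of_natCast_le_idealDepth (M := R) (maximalIdeal R) 1 h1
  match rs, hlen, hmem, hreg with
  | [x], _, hmem, hreg =>
    exact h ⟨x, hmem x (List.mem_singleton.mpr rfl),
      ((isWeaklyRegular_cons_iff R x []).mp hreg).1⟩

theorem dim_zero_of_cm_depth_zero (R : Type u) [CommRing R]
    [hcm : LocCoh.IsCohenMacaulayLocalRing R] (hd : LocCoh.depth R R = 0) :
    ringKrullDim R = 0 := by
  have h := hcm.supportDim_eq_depth
  rw [Module.supportDim_self_eq_ringKrullDim, hd] at h
  exact h

section Base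

variable {A B F : Type u} [CommRing A] [CommRing B] [CommRing F] [IsLocalRing A]
  [IsNoetherianRing A] [IsLocalRing B] [IsNoetherianRing B] [IsLocalRing F] [Algebra A B]
  [IsLocalHom (algebraMap A B)] [Module.Flat A B] (π : B →+* F) (hπ : Function.Surjective π)
  (hker : RingHom.ker π = (maximalIdeal A).map (algebraMap A B))

include hπ hker in
theorem base_artinian [IsArtinianRing A] [IsArtinianRing B] [IsArtinianRing F] :
    IsGorensteinLocalRing B ↔ IsGorensteinLocalRing A ∧ IsGorensteinLocalRing F := by
  constructor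
  · intro hB
    obtain ⟨h1, h2⟩ := T1_of_T1_flat π hπ hker (T1_of_gor B)
    exact ⟨gor_of_T1 A h1, gor_of_T1 F h2⟩
  · rintro ⟨hA, hF⟩
    exact gor_of_T1 B (T1_of_T1_of_T1 π hπ hker (T1_of_gor A) (T1_of_gor F))

include hπ hker in
theorem dim_formula : ringKrullDim B = ringKrullDim F + ringKrullDim A := by
  rw [ringKrullDim_eq_add_of_flat (R := A) (S := B) (RingHom.ker π) hker,
    ringKrullDim_eq_of_ringEquiv (RingHom.quotientKerEquivOfSurjective hπ)]

include hπ hker in
theorem depth_formula : LocCoh.depth B B = LocCoh.depth A A + LocCoh.depth F F := by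
  have hne : RingHom.ker π ≠ ⊤ := RingHom.ker_ne_top π
  haveI : IsLocalRing (B ⧸ RingHom.ker π) := isLocalRing_quotient hne
  haveI : IsNoetherianRing F := isNoetherianRing_of_surjective B F π hπ
  rw [depth_eq_depth_add_depth_quotient_of_flat (R := A) (S := B) (RingHom.ker π) hker,
    depth_self_eq_of_ringEquiv (RingHom.quotientKerEquivOfSurjective hπ)]

include hπ hker in
theorem base (hA : ¬ ∃ x ∈ maximalIdeal A, IsSMulRegular A x)
    (hF : ¬ ∃ y ∈ maximalIdeal F, IsSMulRegular F y) :
    IsGorensteinLocalRing B ↔ IsGorensteinLocalRing A ∧ IsGorensteinLocalRing F := by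
  haveI : IsNoetherianRing F := isNoetherianRing_of_surjective B F π hπ
  have hdA := depth_eq_zero_of_no_regular A hA
  have hdF := depth_eq_zero_of_no_regular F hF
  have hdim := dim_formula π hπ hker
  have hdep := depth_formula π hπ hker
  have hnnA : (0 : WithBot ℕ∞) ≤ ringKrullDim A := ringKrullDim_nonneg_of_nontrivial
  have hnnF : (0 : WithBot ℕ∞) ≤ ringKrullDim F := ringKrullDim_nonneg_of_nontrivial
  constructor
  · intro hB
    haveI := Groth.Agent.S0341.result B
    have hdB : ringKrullDim B = 0 := dim_zero_of_cm_depth_zero B (by rw [hdep, hdA, hdF, add_zero])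
    rw [hdB] at hdim
    have hA0 : ringKrullDim A = 0 := by
      apply le_antisymm _ hnnA
      calc ringKrullDim A ≤ ringKrullDim F + ringKrullDim A := le_add_of_nonneg_left hnnF
        _ = 0 := hdim.symm
    have hF0 : ringKrullDim F = 0 := by
      apply le_antisymm _ hnnF
      calc ringKrullDim F ≤ ringKrullDim F + ringKrullDim A := le_add_of_nonneg_right hnnA
        _ = 0 := hdim.symm
    haveI := isArtinianRing_of_dim_zero A hA0
    haveI := isArtinianRing_of_dim_zero B hdB
    haveI := isArtinianRing_of_dim_zero F hF0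
    exact (base_artinian π hπ hker).mp hB
  · rintro ⟨hGA, hGF⟩
    haveI := Groth.Agent.S0341.result A
    haveI := Groth.Agent.S0341.result F
    have hA0 := dim_zero_of_cm_depth_zero A hdA
    have hF0 := dim_zero_of_cm_depth_zero F hdF
    have hB0 : ringKrullDim B = 0 := by rw [hdim, hA0, hF0, add_zero]
    haveI := isArtinianRing_of_dim_zero A hA0
    haveI := isArtinianRing_of_dim_zero B hB0
    haveI := isArtinianRing_of_dim_zero F hF0
    exact (base_artinian π hπ hker).mpr ⟨hGA, hGF⟩

end Base

theorem mem_nonZeroDivisors_of_isSMulRegular {R : Type*} [CommRing R] {x : R}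
    (h : IsSMulRegular R x) : x ∈ nonZeroDivisors R := by
  rw [mem_nonZeroDivisors_iff_right]
  intro z hz
  apply h
  change x * z = x * 0
  rw [mul_zero, mul_comm, hz]

theorem dim_quotient_lt (R : Type u) [CommRing R] [IsLocalRing R] [IsNoetherianRing R] (x : R)
    (_hx : x ∈ maximalIdeal R) (hreg : IsSMulRegular R x) (a : ℕ) (ha : ringKrullDim R = a)
    [IsLocalRing (R ⧸ Ideal.span {x})] :
    ∃ a' : ℕ, ringKrullDim (R ⧸ Ideal.span {x}) = a' ∧ a' + 1 ≤ a := by
  obtain ⟨a', ha'⟩ := exists_nat_ringKrullDim_eq (R ⧸ Ideal.span {x})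
  refine ⟨a', ha', ?_⟩
  have h := ringKrullDim_quotient_succ_le_of_nonZeroDivisor
    (mem_nonZeroDivisors_of_isSMulRegular hreg)
  rw [ha', ha] at h
  exact_mod_cast h

theorem span_singleton_ne_top {R : Type*} [CommRing R] [IsLocalRing R] {x : R}
    (hx : x ∈ maximalIdeal R) : Ideal.span {x} ≠ ⊤ := fun h =>
  (maximalIdeal.isMaximal R).ne_top
    (top_le_iff.mp (h ▸ (Ideal.span_singleton_le_iff_mem _).mpr hx))

theorem main_aux : ∀ (N : ℕ) (A B F : Type u) [CommRing A] [CommRing B] [CommRing F]
    [IsLocalRing A] [IsNoetherianRing A] [IsLocalRing B] [IsNoetherianRing B] [IsLocalRing F]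
    [Algebra A B] [IsLocalHom (algebraMap A B)] [Module.Flat A B] (π : B →+* F),
    Function.Surjective π → RingHom.ker π = (maximalIdeal A).map (algebraMap A B) →
    ∀ (a f : ℕ), ringKrullDim A = a → ringKrullDim F = f → a + f ≤ N →
    (IsGorensteinLocalRing B ↔ IsGorensteinLocalRing A ∧ IsGorensteinLocalRing F) := by
  intro N
  induction N using Nat.strong_induction_on with
  | _ N ih =>
  intro A B F _ _ _ _ _ _ _ _ _ _ _ π hπ hker a f ha hf hN
  haveI hNF : IsNoetherianRing F := isNoetherianRing_of_surjective B F π hπ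
  by_cases hxA : ∃ x ∈ maximalIdeal A, IsSMulRegular A x
  · -- Step A: divide by a regular element of `A`
    obtain ⟨x, hx, hreg⟩ := hxA
    have hne : Ideal.span {x} ≠ ⊤ := span_singleton_ne_top hx
    have hne' : (Ideal.span {x}).map (algebraMap A B) ≠ ⊤ :=
      map_ne_top_of_isLocalHom (A' := B) _ hne
    haveI : IsLocalRing (A ⧸ Ideal.span {x}) := isLocalRing_quotient hne
    haveI : IsLocalRing (B ⧸ (Ideal.span {x}).map (algebraMap A B)) := isLocalRing_quotient hne'
    haveI := isLocalHom_quotient_map (A' := B) (Ideal.span {x})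
    haveI := flat_quotient_map' (A' := B) (Ideal.span {x})
    have hle : (Ideal.span {x}).map (algebraMap A B) ≤ RingHom.ker π := by
      rw [hker]
      exact Ideal.map_mono ((Ideal.span_singleton_le_iff_mem _).mpr hx)
    have hπ' : Function.Surjective
        (Ideal.Quotient.lift ((Ideal.span {x}).map (algebraMap A B)) π (fun b hb => hle hb)) :=
      Ideal.Quotient.lift_surjective_of_surjective _ _ hπ
    have hker' : RingHom.ker
        (Ideal.Quotient.lift ((Ideal.span {x}).map (algebraMap A B)) π (fun b hb => hle hb)) =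
        (maximalIdeal (A ⧸ Ideal.span {x})).map
          (algebraMap (A ⧸ Ideal.span {x}) (B ⧸ (Ideal.span {x}).map (algebraMap A B))) := by
      rw [Ideal.ker_quotient_lift, hker, maximalIdeal_quotient_eq_map, Ideal.map_map, Ideal.map_map]
      rfl
    obtain ⟨a', ha', hlt⟩ := dim_quotient_lt A x hx hreg a ha
    have key := ih (a' + f) (by omega) (A ⧸ Ideal.span {x})
      (B ⧸ (Ideal.span {x}).map (algebraMap A B)) F _ hπ' hker' a' f ha' hf le_rfl
    have hGA := Groth.Agent.S0343.result A x hx hreg
    have hxB : algebraMap A B x ∈ maximalIdeal B := map_nonunit _ x hx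
    have hregB : IsSMulRegular B (algebraMap A B x) := hreg.of_flat
    have hGB := Groth.Agent.S0343.result B (algebraMap A B x) hxB hregB
    have hspan : (Ideal.span {x}).map (algebraMap A B) = Ideal.span {algebraMap A B x} := by
      rw [Ideal.map_span, Set.image_singleton]
    rw [hGB, hGA, ← hspan]
    exact key
  · by_cases hyF : ∃ y ∈ maximalIdeal F, IsSMulRegular F y
    · -- Step B: divide by an element of `B` regular on the fibre
      obtain ⟨y', hy', hregF⟩ := hyF
      obtain ⟨y, rfl⟩ := hπ y'
      have hy : y ∈ maximalIdeal B := mem_maximalIdeal_of_map π hπ y hy'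
      have hmemJ : ∀ b : B, b ∈ ((maximalIdeal A).map (algebraMap A B) • ⊤ : Submodule B B) ↔
          π b = 0 := by
        intro b
        rw [smul_eq_mul, Ideal.mul_top, ← hker, RingHom.mem_ker]
      have hregQ : IsSMulRegular
          (B ⧸ ((maximalIdeal A).map (algebraMap A B) • ⊤ : Submodule B B)) y := by
        intro b₁ b₂ h
        obtain ⟨b₁, rfl⟩ := Submodule.Quotient.mk_surjective _ b₁
        obtain ⟨b₂, rfl⟩ := Submodule.Quotient.mk_surjective _ b₂
        change y • Submodule.Quotient.mk b₁ = y • Submodule.Quotient.mk b₂ at h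
        rw [← Submodule.Quotient.mk_smul, ← Submodule.Quotient.mk_smul,
          Submodule.Quotient.eq, hmemJ, ← smul_sub, smul_eq_mul, map_mul] at h
        rw [Submodule.Quotient.eq, hmemJ]
        apply hregF
        change π y * π (b₁ - b₂) = π y * 0
        rw [h, mul_zero]
      have hregB : IsSMulRegular B y := by
        have h1 := isSMulRegular_tensor_of_isSMulRegular_quotient (R := A) (S := B) (N := B) y
          hregQ A
        exact (LinearEquiv.isSMulRegular_congr
          (TensorProduct.AlgebraTensorModule.rid A B B) y).mp h1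
      have hflatQ := flat_quotSMulTop_of_isSMulRegular_quotient (R := A) (S := B) (N := B) y hregQ
      have hsp : (y • ⊤ : Submodule B B) = Ideal.span {y} := by
        rw [← Submodule.ideal_span_singleton_smul, smul_eq_mul, Ideal.mul_top]
      haveI hflat : Module.Flat A (B ⧸ Ideal.span {y}) :=
        Module.Flat.of_linearEquiv
          ((Submodule.quotEquivOfEq _ _ hsp).restrictScalars A).symm
      have hne : Ideal.span {y} ≠ ⊤ := span_singleton_ne_top hy
      have hneF : Ideal.span {π y} ≠ ⊤ := span_singleton_ne_top hy'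
      haveI : IsLocalRing (B ⧸ Ideal.span {y}) := isLocalRing_quotient hne
      haveI : IsLocalRing (F ⧸ Ideal.span {π y}) := isLocalRing_quotient hneF
      haveI hlocmk : IsLocalHom (Ideal.Quotient.mk (Ideal.span {y})) :=
        IsLocalHom.of_surjective _ Ideal.Quotient.mk_surjective
      haveI : IsLocalHom (algebraMap A (B ⧸ Ideal.span {y})) := by
        have e : algebraMap A (B ⧸ Ideal.span {y}) =
            (Ideal.Quotient.mk (Ideal.span {y})).comp (algebraMap A B) := rfl
        rw [e]
        exact RingHom.isLocalHom_comp _ _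
      have hcomap : Ideal.span {y} ≤ (Ideal.span {π y}).comap π := by
        rw [Ideal.span_le, Set.singleton_subset_iff]
        exact Ideal.subset_span rfl
      have hπ'' : Function.Surjective (Ideal.quotientMap (Ideal.span {π y}) π hcomap) :=
        Ideal.quotientMap_surjective hπ
      have hker'' : RingHom.ker (Ideal.quotientMap (Ideal.span {π y}) π hcomap) =
          (maximalIdeal A).map (algebraMap A (B ⧸ Ideal.span {y})) := by
        have h1 : (RingHom.ker (Ideal.quotientMap (Ideal.span {π y}) π hcomap)).comap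
            (Ideal.Quotient.mk (Ideal.span {y})) = Ideal.span {y} ⊔ RingHom.ker π := by
          rw [RingHom.comap_ker]
          have e : (Ideal.quotientMap (Ideal.span {π y}) π hcomap).comp
              (Ideal.Quotient.mk (Ideal.span {y})) =
              (Ideal.Quotient.mk (Ideal.span {π y})).comp π := by
            ext b
            rfl
          rw [e, ← RingHom.comap_ker, Ideal.mk_ker, ← Set.image_singleton, ← Ideal.map_span,
            Ideal.comap_map_of_surjective' π hπ]
        rw [← Ideal.map_comap_of_surjective (Ideal.Quotient.mk (Ideal.span {y}))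
          Ideal.Quotient.mk_surjective (RingHom.ker _), h1, Ideal.map_sup,
          Ideal.map_quotient_self, bot_sup_eq, hker, Ideal.map_map]
        rfl
      obtain ⟨f', hf', hlt⟩ := dim_quotient_lt F (π y) hy' hregF f hf
      have key := ih (a + f') (by omega) A (B ⧸ Ideal.span {y}) (F ⧸ Ideal.span {π y}) _
        hπ'' hker'' a f' ha hf' le_rfl
      have hGB := Groth.Agent.S0343.result B y hy hregB
      have hGF := Groth.Agent.S0343.result F (π y) hy' hregF
      rw [hGB, hGF]
      exact key
    · exact base π hπ hker hxA hyF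

/-- For a flat local homomorphism `A → B` of Noetherian local rings and a surjection `π : B → F`
with kernel `m_A B`: `B` is Gorenstein iff `A` and `F` are. -/
theorem main (A B F : Type u) [CommRing A] [CommRing B] [CommRing F]
    [IsLocalRing A] [IsNoetherianRing A] [IsLocalRing B] [IsNoetherianRing B] [IsLocalRing F]
    [Algebra A B] [IsLocalHom (algebraMap A B)] [Module.Flat A B] (π : B →+* F)
    (hπ : Function.Surjective π) (hker : RingHom.ker π = (maximalIdeal A).map (algebraMap A B)) :
    IsGorensteinLocalRing B ↔ IsGorensteinLocalRing A ∧ IsGorensteinLocalRing F := by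
  haveI hNF : IsNoetherianRing F := isNoetherianRing_of_surjective B F π hπ
  obtain ⟨a, ha⟩ := exists_nat_ringKrullDim_eq A
  obtain ⟨f, hf⟩ := exists_nat_ringKrullDim_eq F
  exact main_aux (a + f) A B F π hπ hker a f ha hf le_rfl

end Main

end Groth.Agent.Lib.Helper5.GorFlat
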