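import Mathlib
import Groth.Agent.Lib.Helper5GorFlat
import Groth.Agent.Lib.Helper28FibreTrans
import Groth.Agent.Lib.Helper28LocLoc
import Groth.Agent.Lib.Helper28PolyCM
import Groth.Agent.S0342

/-!
# Gorenstein rings: permanence properties (helper5)

* `gorLocal_of_field`, `gorLocal_of_ringEquiv`, `gorRing_of_ringEquiv`, `gorRing_of_isLocalization`.
* `gor_localization_iff`: for flat `A → B`, `B_Q` Gorenstein iff `A_p` and `B_Q/pB_Q` are.
* `gorRing_of_flat_of_fibLocRing`, `gorRing_of_flat_of_fiber`: ascent along flat maps.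
* `gorRing_of_isRegularRing`, `gorRing_polynomial`, `gorRing_quotient_of_regular`.
* `gorRing_tensor_of_fg`: `K ⊗[k] R` is Gorenstein for `R` Gorenstein and `K/k` finitely generated.
-/

set_option autoImplicit false
universe u

namespace Groth.Agent.Lib.Helper5.GorRing
open IsLocalRing TensorProduct Polynomial Groth.Agent.Lib.Helper5.GorArt
  Groth.Agent.Lib.Helper5.GorFlat Groth.Agent.Lib.Helper5 Groth.Agent.Lib.Helper28 LocCoh

theorem gorLocal_of_field (K : Type u) [Field K] : IsGorensteinLocalRing K := by
  apply gor_of_T1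
  refine ⟨1, one_ne_zero, ?_⟩
  rw [Ideal.span_singleton_one]
  apply top_le_iff.mp
  intro r _ x hx
  rw [IsLocalRing.maximalIdeal_eq_bot] at hx
  rw [(Submodule.mem_bot K).mp hx, zero_mul]

theorem gorLocal_of_ringEquiv {R S : Type u} [CommRing R] [CommRing S] (e : R ≃+* S)
    [hR : IsGorensteinLocalRing R] : IsGorensteinLocalRing S := by
  letI : Algebra R S := e.toRingHom.toAlgebra
  haveI : IsLocalRing S := e.isLocalRing
  haveI : IsNoetherianRing S := isNoetherianRing_of_ringEquiv R e
  have hloc : IsLocalHom (algebraMap R S) := by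
    change IsLocalHom (e : R →+* S)
    exact isLocalHom_toRingHom e
  let eL : R ≃ₗ[R] S := LinearEquiv.ofBijective (Algebra.linearMap R S) e.bijective
  haveI : Module.Flat R S := Module.Flat.of_linearEquiv eL.symm
  have hker : RingHom.ker (IsLocalRing.residue S) =
      (maximalIdeal R).map (algebraMap R S) := by
    rw [IsLocalRing.ker_residue]
    exact (IsLocalRing.map_maximalIdeal_of_surjective (e : R →+* S) e.surjective).symm
  exact (main R S (ResidueField S) (IsLocalRing.residue S) IsLocalRing.residue_surjective hker).mpr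
    ⟨hR, gorLocal_of_field _⟩

theorem gorRing_of_ringEquiv {R S : Type u} [CommRing R] [CommRing S] (e : R ≃+* S)
    [hR : IsGorensteinRing R] : IsGorensteinRing S := by
  have hN : IsNoetherianRing S := isNoetherianRing_of_ringEquiv R e
  refine { isGorensteinLocalRing_localization := ?_ }
  intro q hq
  have hp : (q.comap (e : R →+* S)).IsPrime := Ideal.comap_isPrime _ _
  have := hR.isGorensteinLocalRing_localization (q.comap (e : R →+* S))
  exact gorLocal_of_ringEquiv (Localization.localRingEquiv (q.comap (e : R →+* S)) q e rfl)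

/-- The Gorenstein property passes to localizations. -/
theorem gorRing_of_isLocalization {S : Type u} [CommRing S] [hS : IsGorensteinRing S]
    (M : Submonoid S) (T : Type u) [CommRing T] [Algebra S T] [IsLocalization M T] :
    IsGorensteinRing T := by
  haveI : IsNoetherianRing T := IsLocalization.isNoetherianRing M T inferInstance
  refine { isGorensteinLocalRing_localization := ?_ }
  intro P hP
  have hp : (P.comap (algebraMap S T)).IsPrime := Ideal.comap_isPrime _ _
  haveI := hS.isGorensteinLocalRing_localization (P.comap (algebraMap S T))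
  haveI : IsLocalization.AtPrime (Localization.AtPrime P) (P.comap (algebraMap S T)) :=
    IsLocalization.isLocalization_isLocalization_atPrime_isLocalization M
      (Localization.AtPrime P) P
  exact gorLocal_of_ringEquiv
    (IsLocalization.algEquiv (P.comap (algebraMap S T)).primeCompl
      (Localization.AtPrime (P.comap (algebraMap S T))) (Localization.AtPrime P)).toRingEquiv

theorem gorRing_of_field (K : Type u) [Field K] : IsGorensteinRing K := by
  refine { isGorensteinLocalRing_localization := ?_ }
  intro p hp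
  haveI : IsLocalization.AtPrime K p := by
    have : p = ⊥ := by
      rcases Ideal.eq_bot_or_top p with h | h
      · exact h
      · exact absurd h hp.ne_top
    subst this
    have h0 : (⊥ : Ideal K).primeCompl ≤ IsUnit.submonoid K := by
      intro x hx
      have : x ≠ 0 := fun h => hx (by rw [h]; exact Ideal.zero_mem _)
      exact this.isUnit
    exact IsLocalization.of_le_isUnit h0
  haveI := gorLocal_of_field K
  exact gorLocal_of_ringEquiv
    (IsLocalization.algEquiv p.primeCompl K (Localization.AtPrime p)).toRingEquiv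

section Flat

variable {A B : Type u} [CommRing A] [CommRing B] [IsNoetherianRing A] [IsNoetherianRing B]
  [Algebra A B] [Module.Flat A B]

/-- For a flat map `A → B` of Noetherian rings and a prime `Q` of `B` over `p`: `B_Q` is Gorenstein
iff `A_p` and the fibre local ring `B_Q / p B_Q` are. -/
theorem gor_localization_iff (Q : Ideal B) [Q.IsPrime] :
    IsGorensteinLocalRing (Localization.AtPrime Q) ↔
      IsGorensteinLocalRing (Localization.AtPrime (Q.comap (algebraMap A B))) ∧
        IsGorensteinLocalRing (EGA4.FibLocRing A B Q) := by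
  obtain ⟨alg, hloc, hflat, hmap⟩ := exists_algebra_localization_flat (A := A) (B := B) Q
  letI := alg
  haveI := hloc
  haveI := hflat
  haveI : IsLocalRing (EGA4.FibLocRing A B Q) := isLocalRing_fibLocRing (A := A) Q
  exact main (Localization.AtPrime (Q.comap (algebraMap A B))) (Localization.AtPrime Q)
    (EGA4.FibLocRing A B Q) (Ideal.Quotient.mk _) Ideal.Quotient.mk_surjective
    (by rw [Ideal.mk_ker]; exact hmap)

theorem gorRing_of_flat_of_fibLocRing [hA : IsGorensteinRing A]
    (h : ∀ (Q : Ideal B) [Q.IsPrime], IsGorensteinLocalRing (EGA4.FibLocRing A B Q)) :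
    IsGorensteinRing B :=
  { isGorensteinLocalRing_localization := fun Q _ =>
      (gor_localization_iff (A := A) Q).mpr ⟨hA.isGorensteinLocalRing_localization _, h Q⟩ }

omit [IsNoetherianRing A] [Module.Flat A B] in
theorem forall_gor_fiber_iff :
    (∀ (p : Ideal A) [p.IsPrime], IsGorensteinRing (p.Fiber B)) ↔
      ∀ (Q : Ideal B) [Q.IsPrime], IsGorensteinLocalRing (EGA4.FibLocRing A B Q) := by
  rw [← forall_localization_fiber_iff (A := A) (B := B)
    (fun R _ => IsGorensteinLocalRing R) (fun R S _ _ e h => @gorLocal_of_ringEquiv R S _ _ e h)]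
  constructor
  · intro h p hp Q hQ
    exact (h p).isGorensteinLocalRing_localization Q
  · intro h p hp
    haveI := isNoetherianRing_fiber (A := A) (B := B) p
    exact { isGorensteinLocalRing_localization := fun Q _ => h p Q }

theorem gorRing_of_flat_of_fiber [hA : IsGorensteinRing A]
    (h : ∀ (p : Ideal A) [p.IsPrime], IsGorensteinRing (p.Fiber B)) : IsGorensteinRing B :=
  gorRing_of_flat_of_fibLocRing (A := A) (forall_gor_fiber_iff.mp h)

end Flat

theorem gorRing_of_isRegularRing (R : Type u) [CommRing R] [hR : IsRegularRing R] :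
    IsGorensteinRing R :=
  { isGorensteinLocalRing_localization := fun p _ =>
      Groth.Agent.S0342.result (Localization.AtPrime p) }

/-- The polynomial ring over a Gorenstein ring is Gorenstein. -/
theorem gorRing_polynomial (A : Type u) [CommRing A] [hA : IsGorensteinRing A] :
    IsGorensteinRing A[X] := by
  apply gorRing_of_flat_of_fiber (A := A)
  intro p hp
  haveI : IsGorensteinRing (p.ResidueField)[X] := gorRing_of_isRegularRing _
  exact gorRing_of_ringEquiv (polyEquivTensor A p.ResidueField).toRingEquiv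

section Quot

variable {B : Type u} [CommRing B]

theorem gorLocal_localization_quotient [hB : IsGorensteinRing B] (b : B)
    (hb : IsSMulRegular B b) (P : Ideal B) [P.IsPrime] (hbP : b ∈ P)
    (P' : Ideal (B ⧸ Ideal.span {b})) [P'.IsPrime]
    (hP' : P' = P.map (Ideal.Quotient.mk (Ideal.span {b}))) :
    IsGorensteinLocalRing (Localization.AtPrime P') := by
  subst hP'
  have hIP : Ideal.span {b} ≤ P := (Ideal.span_singleton_le_iff_mem _).mpr hbP
  have inst : IsLocalization (Algebra.algebraMapSubmonoid (B ⧸ Ideal.span {b}) P.primeCompl)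
      (Localization.AtPrime P ⧸ (Ideal.span {b}).map (algebraMap B (Localization.AtPrime P))) :=
    inferInstance
  rw [algebraMapSubmonoid_quotient_primeCompl (Ideal.span {b}) P hIP] at inst
  haveI inst' : IsLocalization.AtPrime
      (Localization.AtPrime P ⧸ (Ideal.span {b}).map (algebraMap B (Localization.AtPrime P)))
      (P.map (Ideal.Quotient.mk (Ideal.span {b}))) := inst
  have hG := hB.isGorensteinLocalRing_localization P
  have hmem : algebraMap B (Localization.AtPrime P) b ∈ maximalIdeal (Localization.AtPrime P) :=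
    (IsLocalization.AtPrime.to_map_mem_maximal_iff (Localization.AtPrime P) P b).mpr hbP
  have hreg : IsSMulRegular (Localization.AtPrime P) (algebraMap B (Localization.AtPrime P) b) :=
    hb.of_flat
  have h1 := (Groth.Agent.S0343.result (Localization.AtPrime P) _ hmem hreg).mp hG
  have hspan : (Ideal.span {b}).map (algebraMap B (Localization.AtPrime P)) =
      Ideal.span {algebraMap B (Localization.AtPrime P) b} := by
    rw [Ideal.map_span, Set.image_singleton]
  rw [← hspan] at h1
  exact gorLocal_of_ringEquiv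
    (IsLocalization.algEquiv (P.map (Ideal.Quotient.mk (Ideal.span {b}))).primeCompl
      (Localization.AtPrime P ⧸ (Ideal.span {b}).map (algebraMap B (Localization.AtPrime P)))
      (Localization.AtPrime (P.map (Ideal.Quotient.mk (Ideal.span {b}))))).toRingEquiv

/-- The quotient of a Gorenstein ring by a non-zero-divisor is Gorenstein. -/
theorem gorRing_quotient_of_regular [hB : IsGorensteinRing B] (b : B) (hb : IsSMulRegular B b) :
    IsGorensteinRing (B ⧸ Ideal.span {b}) := by
  refine { isGorensteinLocalRing_localization := ?_ }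
  intro P' hP'
  have hP : (P'.comap (Ideal.Quotient.mk (Ideal.span {b}))).IsPrime := Ideal.comap_isPrime _ _
  refine gorLocal_localization_quotient b hb (P'.comap (Ideal.Quotient.mk (Ideal.span {b}))) ?_ P'
    (Ideal.map_comap_of_surjective _ Ideal.Quotient.mk_surjective P').symm
  rw [Ideal.mem_comap]
  have : Ideal.Quotient.mk (Ideal.span {b}) b = 0 :=
    Ideal.Quotient.eq_zero_iff_mem.mpr (Ideal.subset_span rfl)
  rw [this]
  exact Ideal.zero_mem _

end Quot

section Steps

variable (L T : Type u) [Field L] [CommRing T] [Algebra L T]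

theorem gorRing_poly_tensor [hT : IsGorensteinRing T] : IsGorensteinRing (L[X] ⊗[L] T) := by
  haveI := gorRing_polynomial T
  exact gorRing_of_ringEquiv
    ((polyEquivTensor L T).toRingEquiv.trans (Algebra.TensorProduct.comm L T L[X]).toRingEquiv)

/-- `E ⊗[L] T` is Gorenstein for `E` a fraction field of `L[X]`. -/
theorem gorRing_tensor_ratFunc [hT : IsGorensteinRing T] (E : Type u) [Field E] [Algebra L[X] E]
    [IsFractionRing L[X] E] [Algebra L E] [IsScalarTower L L[X] E] :
    IsGorensteinRing (E ⊗[L] T) := by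
  haveI hB := gorRing_poly_tensor L T
  letI : Algebra (L[X] ⊗[L] T) (E ⊗[L[X]] (L[X] ⊗[L] T)) := Algebra.TensorProduct.rightAlgebra
  haveI hloc : IsLocalization
      (Algebra.algebraMapSubmonoid (L[X] ⊗[L] T) (nonZeroDivisors L[X]))
      (E ⊗[L[X]] (L[X] ⊗[L] T)) :=
    IsLocalization.tensorRight E (nonZeroDivisors L[X])
  haveI hW : IsGorensteinRing (E ⊗[L[X]] (L[X] ⊗[L] T)) :=
    gorRing_of_isLocalization
      (Algebra.algebraMapSubmonoid (L[X] ⊗[L] T) (nonZeroDivisors L[X])) _
  exact gorRing_of_ringEquiv
    (Algebra.TensorProduct.cancelBaseChange L L[X] E E T).toRingEquiv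

/-- `AdjoinRoot f ⊗[L] T` is Gorenstein for `f ≠ 0`. -/
theorem gorRing_tensor_adjoinRoot [hT : IsGorensteinRing T] (f : L[X]) (hf : f ≠ 0) :
    IsGorensteinRing ((L[X] ⧸ Ideal.span {f}) ⊗[L] T) := by
  haveI hB := gorRing_poly_tensor L T
  have hregf : IsSMulRegular L[X] f := fun a b h => mul_left_cancel₀ hf h
  have hreg : IsSMulRegular (L[X] ⊗[L] T) (algebraMap L[X] (L[X] ⊗[L] T) f) := hregf.of_flat
  haveI h1 := gorRing_quotient_of_regular (algebraMap L[X] (L[X] ⊗[L] T) f) hreg
  have hspan : (Ideal.span {f}).map (algebraMap L[X] (L[X] ⊗[L] T)) =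
      Ideal.span {algebraMap L[X] (L[X] ⊗[L] T) f} := by
    rw [Ideal.map_span, Set.image_singleton]
  rw [← hspan] at h1
  haveI := h1
  haveI h2 : IsGorensteinRing ((L[X] ⊗[L] T) ⊗[L[X]] (L[X] ⧸ Ideal.span {f})) :=
    gorRing_of_ringEquiv
      (Algebra.TensorProduct.quotIdealMapEquivTensorQuot (L[X] ⊗[L] T)
        (Ideal.span {f})).toRingEquiv
  haveI h3 : IsGorensteinRing ((L[X] ⧸ Ideal.span {f}) ⊗[L[X]] (L[X] ⊗[L] T)) :=
    gorRing_of_ringEquiv (R := (L[X] ⊗[L] T) ⊗[L[X]] (L[X] ⧸ Ideal.span {f}))
      (Algebra.TensorProduct.comm L[X] (L[X] ⊗[L] T) (L[X] ⧸ Ideal.span {f})).toRingEquiv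
  exact gorRing_of_ringEquiv (R := (L[X] ⧸ Ideal.span {f}) ⊗[L[X]] (L[X] ⊗[L] T))
    (Algebra.TensorProduct.cancelBaseChange L L[X] (L[X] ⧸ Ideal.span {f})
      (L[X] ⧸ Ideal.span {f}) T).toRingEquiv

end Steps

section Steps2

variable (k L M R : Type u) [Field k] [Field L] [Field M] [CommRing R] [Algebra k L]
  [Algebra L M] [Algebra k M] [IsScalarTower k L M] [Algebra k R]

/-- One step: from a field `L` to a simple extension `M` of `L`. -/
theorem gorRing_tensor_step
    (hM : (∃ f : L[X], f ≠ 0 ∧ Nonempty ((L[X] ⧸ Ideal.span {f}) ≃ₐ[L] M)) ∨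
      Nonempty (RatFunc L ≃ₐ[L] M))
    [hL : IsGorensteinRing (L ⊗[k] R)] : IsGorensteinRing (M ⊗[k] R) := by
  have hM' : IsGorensteinRing (M ⊗[L] (L ⊗[k] R)) := by
    rcases hM with ⟨f, hf, ⟨e⟩⟩ | he
    · haveI := gorRing_tensor_adjoinRoot L (L ⊗[k] R) f hf
      exact gorRing_of_ringEquiv (R := (L[X] ⧸ Ideal.span {f}) ⊗[L] (L ⊗[k] R))
        (Algebra.TensorProduct.congr e
          (AlgEquiv.refl : (L ⊗[k] R) ≃ₐ[L] (L ⊗[k] R))).toRingEquiv
    · obtain ⟨e⟩ := he
      haveI := gorRing_tensor_ratFunc L (L ⊗[k] R) (RatFunc L)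
      exact gorRing_of_ringEquiv (R := RatFunc L ⊗[L] (L ⊗[k] R))
        (Algebra.TensorProduct.congr e
          (AlgEquiv.refl : (L ⊗[k] R) ≃ₐ[L] (L ⊗[k] R))).toRingEquiv
  haveI := hM'
  exact gorRing_of_ringEquiv (R := M ⊗[L] (L ⊗[k] R))
    (Algebra.TensorProduct.cancelBaseChange k L M M R).toRingEquiv

end Steps2

section Induction

variable (k K R : Type u) [Field k] [Field K] [Algebra k K] [CommRing R] [Algebra k R]

/-- One step: from an intermediate field `L` to `L⟮x⟯`. -/
theorem gorRing_tensor_adjoin_simple (L : IntermediateField k K) (x : K)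
    (hL : IsGorensteinRing (L ⊗[k] R)) :
    IsGorensteinRing ((IntermediateField.adjoin L {x}) ⊗[k] R) := by
  haveI := hL
  apply gorRing_tensor_step k L (IntermediateField.adjoin L {x}) R
  by_cases hx : IsIntegral L x
  · exact Or.inl ⟨minpoly L x, minpoly.ne_zero hx,
      ⟨(IntermediateField.adjoinRootEquivAdjoin L hx :
        AdjoinRoot (minpoly L x) ≃ₐ[L] (IntermediateField.adjoin L {x}))⟩⟩
  · have htr : Transcendental L x := fun h => hx (isAlgebraic_iff_isIntegral.mp h)
    exact Or.inr ⟨RatFunc.algEquivOfTranscendental x htr⟩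

/-- `K ⊗[k] R` is Gorenstein when `R` is Gorenstein and `K/k` is a finitely generated field
extension. -/
theorem gorRing_tensor_of_fg (hK : ∃ s : Finset K, IntermediateField.adjoin k (s : Set K) = ⊤)
    [hR : IsGorensteinRing R] : IsGorensteinRing (K ⊗[k] R) := by
  obtain ⟨s, hs⟩ := hK
  have key := IntermediateField.induction_on_adjoin_finset s
    (fun L : IntermediateField k K => IsGorensteinRing (L ⊗[k] R)) ?_ ?_
  · rw [hs] at key
    haveI := key
    exact gorRing_of_ringEquiv
      (Algebra.TensorProduct.congr (IntermediateField.topEquiv (F := k) (E := K))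
        (AlgEquiv.refl : R ≃ₐ[k] R)).toRingEquiv
  · exact gorRing_of_ringEquiv
      ((Algebra.TensorProduct.lid k R).symm.toRingEquiv.trans
        (Algebra.TensorProduct.congr (IntermediateField.botEquiv k K).symm
          (AlgEquiv.refl : R ≃ₐ[k] R)).toRingEquiv)
  · intro L x _ hL
    have h1 := gorRing_tensor_adjoin_simple k K R L x hL
    haveI := h1
    let e : (IntermediateField.adjoin L {x}) ≃ₐ[k]
        ((IntermediateField.adjoin L {x}).restrictScalars k) :=
      { toFun := fun y => ⟨y.1, y.2⟩
        invFun := fun y => ⟨y.1, y.2⟩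
        left_inv := fun _ => rfl
        right_inv := fun _ => rfl
        map_mul' := fun _ _ => rfl
        map_add' := fun _ _ => rfl
        commutes' := fun _ => rfl }
    exact gorRing_of_ringEquiv
      (Algebra.TensorProduct.congr e (AlgEquiv.refl : R ≃ₐ[k] R)).toRingEquiv

end Induction

end Groth.Agent.Lib.Helper5.GorRing
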