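import Mathlib
import Groth.Agent.Lib.Helper5GorRing
import Groth.Agent.Lib.Helper28FlatEquidim
import Groth.Agent.Lib.Helper28FlatNormal
import Groth.Agent.Lib.Helper28DepthLoc

/-!
# Flat local homomorphisms and fibres: Cohen–Macaulay and Gorenstein (helper5)

* `cm_main`: for a flat local homomorphism `A → B` of Noetherian local rings and a surjection
  `π : B → F` with kernel `m_A B`: `B` is Cohen–Macaulay iff `A` and `F` are.
* `FlatLocalIff P`: the abstract form of such a statement; `flatLocalIff_cm`, `flatLocalIff_gor`.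
* `quot_iff`: for a flat local homomorphism `A₀ → B₀` of local rings (not necessarily Noetherian)
  and a proper ideal `a` of `A₀` with `A₀/a` and `B₀/aB₀` Noetherian:
  `P (B₀/aB₀) ↔ P (A₀/a) ∧ P (B₀/m_{A₀}B₀)`.
* `comp_iff`: the version for local homomorphisms `C₀ → A₀ → B₀` and `a = m_{C₀} A₀`.
-/

set_option autoImplicit false
universe u

namespace Groth.Agent.Lib.Helper5.FiberRing
open IsLocalRing Groth.Agent.Lib.Helper5.GorFlat Groth.Agent.Lib.Helper5.GorRing
  Groth.Agent.Lib.Helper5 Groth.Agent.Lib.Helper28 LocCoh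

theorem enat_add_eq_add_iff {a b c d : ℕ∞} (hca : c ≤ a) (hdb : d ≤ b) (ha : a ≠ ⊤)
    (hb : b ≠ ⊤) : b + a = c + d ↔ a = c ∧ b = d := by
  lift a to ℕ using ha
  lift b to ℕ using hb
  lift c to ℕ using ne_top_of_le_ne_top (ENat.natCast_ne_top a) hca
  lift d to ℕ using ne_top_of_le_ne_top (ENat.natCast_ne_top b) hdb
  norm_cast at hca hdb ⊢
  omega

theorem depth_le_height (R : Type u) [CommRing R] [IsLocalRing R] [IsNoetherianRing R] :
    LocCoh.depth R R ≤ (maximalIdeal R).height := by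
  have h := Groth.Agent.Lib.Helper28.depth_le_supportDim (R := R) (M := R)
  rw [Module.supportDim_self_eq_ringKrullDim,
    ← IsLocalRing.maximalIdeal_height_eq_ringKrullDim] at h
  exact WithBot.coe_le_coe.mp h

section CMMain

variable (A B F : Type u) [CommRing A] [CommRing B] [CommRing F]
  [IsLocalRing A] [IsNoetherianRing A] [IsLocalRing B] [IsNoetherianRing B] [IsLocalRing F]
  [Algebra A B] [IsLocalHom (algebraMap A B)] [Module.Flat A B] (π : B →+* F)
  (hπ : Function.Surjective π) (hker : RingHom.ker π = (maximalIdeal A).map (algebraMap A B))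

include hπ hker in
/-- For a flat local homomorphism `A → B` of Noetherian local rings and a surjection `π : B → F`
with kernel `m_A B`: `B` is Cohen–Macaulay iff `A` and `F` are. -/
theorem cm_main : IsCohenMacaulayLocalRing B ↔
    IsCohenMacaulayLocalRing A ∧ IsCohenMacaulayLocalRing F := by
  haveI hNF : IsNoetherianRing F := isNoetherianRing_of_surjective B F π hπ
  have hdim := dim_formula π hπ hker
  have hdep := depth_formula π hπ hker
  rw [isCohenMacaulayLocalRing_iff, isCohenMacaulayLocalRing_iff, isCohenMacaulayLocalRing_iff]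
  have hB : (maximalIdeal B).height = (maximalIdeal F).height + (maximalIdeal A).height := by
    rw [← IsLocalRing.maximalIdeal_height_eq_ringKrullDim,
      ← IsLocalRing.maximalIdeal_height_eq_ringKrullDim,
      ← IsLocalRing.maximalIdeal_height_eq_ringKrullDim, ← WithBot.coe_add] at hdim
    exact WithBot.coe_injective hdim
  rw [hB, hdep]
  exact enat_add_eq_add_iff (depth_le_height A) (depth_le_height F)
    Ideal.height_ne_top_of_isPrime Ideal.height_ne_top_of_isPrime

end CMMain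

/-- The abstract form of "`B` has `P` iff `A` and the closed fibre have `P`" for flat local
homomorphisms of Noetherian local rings. -/
def FlatLocalIff (P : ∀ (R : Type u) [CommRing R], Prop) : Prop :=
  ∀ (A B F : Type u) [CommRing A] [CommRing B] [CommRing F] [IsLocalRing A] [IsNoetherianRing A]
    [IsLocalRing B] [IsNoetherianRing B] [IsLocalRing F] [Algebra A B]
    [IsLocalHom (algebraMap A B)] [Module.Flat A B] (π : B →+* F), Function.Surjective π →
    RingHom.ker π = (maximalIdeal A).map (algebraMap A B) → (P B ↔ P A ∧ P F)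

theorem flatLocalIff_cm : FlatLocalIff (fun R _ => IsCohenMacaulayLocalRing R) :=
  fun A B F _ _ _ _ _ _ _ _ _ _ _ π hπ hker => cm_main A B F π hπ hker

theorem flatLocalIff_gor : FlatLocalIff (fun R _ => IsGorensteinLocalRing R) :=
  fun A B F _ _ _ _ _ _ _ _ _ _ _ π hπ hker => main A B F π hπ hker

section Quot

variable {A₀ B₀ : Type u} [CommRing A₀] [CommRing B₀] [IsLocalRing A₀] [IsLocalRing B₀]
  [Algebra A₀ B₀] [IsLocalHom (algebraMap A₀ B₀)] [Module.Flat A₀ B₀]

/-- For a flat local homomorphism `A₀ → B₀` of local rings and a proper ideal `a` of `A₀` with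
`A₀/a` and `B₀/aB₀` Noetherian: `P (B₀/aB₀) ↔ P (A₀/a) ∧ P (B₀/m_{A₀}B₀)`. -/
theorem quot_iff {P : ∀ (R : Type u) [CommRing R], Prop} (hP : FlatLocalIff P) (a : Ideal A₀)
    (ha : a ≠ ⊤) [IsNoetherianRing (A₀ ⧸ a)] [IsNoetherianRing (B₀ ⧸ a.map (algebraMap A₀ B₀))] :
    P (B₀ ⧸ a.map (algebraMap A₀ B₀)) ↔
      P (A₀ ⧸ a) ∧ P (B₀ ⧸ (maximalIdeal A₀).map (algebraMap A₀ B₀)) := by
  haveI hS : IsLocalRing (A₀ ⧸ a) := isLocalRing_quotient ha
  have hJne : a.map (algebraMap A₀ B₀) ≠ ⊤ := map_ne_top_of_isLocalHom a ha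
  haveI hT : IsLocalRing (B₀ ⧸ a.map (algebraMap A₀ B₀)) := isLocalRing_quotient hJne
  haveI hlocST := isLocalHom_quotient_map (A := A₀) (A' := B₀) a
  haveI hflatST := flat_quotient_map' (A := A₀) (A' := B₀) a
  have hmne : (maximalIdeal A₀).map (algebraMap A₀ B₀) ≠ ⊤ :=
    map_ne_top_of_isLocalHom _ (maximalIdeal.isMaximal A₀).ne_top
  haveI hF : IsLocalRing (B₀ ⧸ (maximalIdeal A₀).map (algebraMap A₀ B₀)) :=
    isLocalRing_quotient hmne
  have hle : a.map (algebraMap A₀ B₀) ≤ (maximalIdeal A₀).map (algebraMap A₀ B₀) :=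
    Ideal.map_mono (IsLocalRing.le_maximalIdeal ha)
  have hker : RingHom.ker (Ideal.Quotient.factor hle) =
      (maximalIdeal (A₀ ⧸ a)).map
        (algebraMap (A₀ ⧸ a) (B₀ ⧸ a.map (algebraMap A₀ B₀))) := by
    rw [Ideal.Quotient.factor_ker, maximalIdeal_quotient_eq_map]
    have e1 := Ideal.map_map (I := maximalIdeal A₀) (algebraMap A₀ B₀)
      (Ideal.Quotient.mk (a.map (algebraMap A₀ B₀)))
    have e2 := Ideal.map_map (I := maximalIdeal A₀) (Ideal.Quotient.mk a)
      (algebraMap (A₀ ⧸ a) (B₀ ⧸ a.map (algebraMap A₀ B₀)))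
    have hcomp : (Ideal.Quotient.mk (a.map (algebraMap A₀ B₀))).comp (algebraMap A₀ B₀) =
        (algebraMap (A₀ ⧸ a) (B₀ ⧸ a.map (algebraMap A₀ B₀))).comp (Ideal.Quotient.mk a) :=
      RingHom.ext fun x => rfl
    exact e1.trans ((congrArg (fun g => Ideal.map g (maximalIdeal A₀)) hcomp).trans e2.symm)
  exact hP (A₀ ⧸ a) (B₀ ⧸ a.map (algebraMap A₀ B₀)) _ (Ideal.Quotient.factor hle)
    (Ideal.Quotient.factor_surjective hle) hker

end Quot

section Comp

variable {C₀ A₀ B₀ : Type u} [CommRing C₀] [CommRing A₀] [CommRing B₀] [IsLocalRing C₀]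
  [IsLocalRing A₀] [IsLocalRing B₀] (α : C₀ →+* A₀) (β : A₀ →+* B₀) [IsLocalHom α] [IsLocalHom β]

/-- For local homomorphisms `C₀ → A₀ → B₀` of local rings with `A₀ → B₀` flat, and
`A₀/m_{C₀}A₀`, `B₀/m_{C₀}B₀` Noetherian:
`P (B₀/m_{C₀}B₀) ↔ P (A₀/m_{C₀}A₀) ∧ P (B₀/m_{A₀}B₀)`. -/
theorem comp_iff {P : ∀ (R : Type u) [CommRing R], Prop} (hP : FlatLocalIff P) (hβ : β.Flat)
    [IsNoetherianRing (A₀ ⧸ (maximalIdeal C₀).map α)]
    [IsNoetherianRing (B₀ ⧸ ((maximalIdeal C₀).map α).map β)] :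
    P (B₀ ⧸ ((maximalIdeal C₀).map α).map β) ↔
      P (A₀ ⧸ (maximalIdeal C₀).map α) ∧ P (B₀ ⧸ (maximalIdeal A₀).map β) := by
  letI := β.toAlgebra
  haveI : IsLocalHom (algebraMap A₀ B₀) := ‹IsLocalHom β›
  haveI : Module.Flat A₀ B₀ := hβ
  exact quot_iff (A₀ := A₀) (B₀ := B₀) hP ((maximalIdeal C₀).map α)
    (IsLocalRing.map_maximalIdeal_lt_top α).ne

end Comp

end Groth.Agent.Lib.Helper5.FiberRing
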