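import Mathlib
import Groth.Agent.Lib.Helper5RLR

/-!
# The local ring of a fibre (helper5)

For a morphism of schemes `f : X ⟶ Y` and a point `x` of `X`, the local ring at `x` of the
scheme-theoretic fibre through `x` is `O_{X,x} / m_{f x} O_{X,x}`:

* `fibIdeal f x`: the ideal `m_{f x} O_{X,x}` of `O_{X,x}`;
* `nonempty_stalk_fiber_equiv`, `nonempty_stalk_asFiber_equiv`: the ring isomorphism
  `(f.fiber (f x)).presheaf.stalk (f.asFiber x) ≃+* O_{X,x} ⧸ m_{f x} O_{X,x}`.

The proof uses that `f.fiberι` is a preimmersion (surjective on stalks), that the residue field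
kills the maximal ideal, and the universal property of the fibre product applied to
`Spec (O_{X,x} ⧸ m_{f x} O_{X,x})`.
-/

set_option autoImplicit false
universe u

namespace Groth.Agent.Lib.Helper5.FiberStalk

open AlgebraicGeometry CategoryTheory Limits IsLocalRing

section Field

/-- A non-unit in a stalk of `Spec R`, for `R` a field, is zero. -/
theorem eq_zero_of_not_isUnit_stalk (R : CommRingCat.{u}) [IsLocalRing R] (hR : IsField R)
    (p : Spec R) (b : (Spec R).presheaf.stalk p) (hb : ¬ IsUnit b) : b = 0 := by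
  have hm : maximalIdeal R = ⊥ := IsLocalRing.isField_iff_maximalIdeal_eq.mp hR
  have hp : p = closedPoint R := by
    apply PrimeSpectrum.ext
    have h1 : p.asIdeal ≤ maximalIdeal R := IsLocalRing.le_maximalIdeal p.2.ne_top
    rw [hm, le_bot_iff] at h1
    rw [h1]
    exact hm.symm
  subst hp
  let e := (stalkClosedPointIso R).commRingCatIsoToRingEquiv
  have hnu : ¬ IsUnit (e b) := fun h => hb ((isUnit_map_iff e b).mp h)
  have hmem : e b ∈ maximalIdeal R := (mem_maximalIdeal _).mpr (mem_nonunits_iff.mpr hnu)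
  rw [hm, Ideal.mem_bot] at hmem
  exact e.injective (hmem.trans (map_zero e).symm)

end Field

variable {X Y : Scheme.{u}} (f : X ⟶ Y)

/-- The maximal ideal of the base point dies in the local rings of the fibre. -/
theorem map_maximalIdeal_le_ker (y : Y) (z : f.fiber y) :
    (maximalIdeal (Y.presheaf.stalk (f (f.fiberι y z)))).map (f.stalkMap (f.fiberι y z)).hom ≤
      RingHom.ker ((f.fiberι y).stalkMap z).hom := by
  rw [Ideal.map_le_iff_le_comap]
  intro a ha
  rw [Ideal.mem_comap, RingHom.mem_ker]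
  have hfac : f.fiberι y ≫ f = f.fiberToSpecResidueField y ≫ Y.fromSpecResidueField y :=
    f.fiber_fac y
  have hna : ¬ IsUnit a := mem_nonunits_iff.mp ((mem_maximalIdeal a).mp ha)
  have key : ∀ (a' : Y.presheaf.stalk
      ((Y.fromSpecResidueField y) ((f.fiberToSpecResidueField y) z))), ¬ IsUnit a' →
      ((f.fiberToSpecResidueField y ≫ Y.fromSpecResidueField y).stalkMap z).hom a' = 0 := by
    intro a' ha'
    rw [Scheme.Hom.stalkMap_comp]
    haveI hloc : IsLocalHom ((Y.fromSpecResidueField y).stalkMap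
        (f.fiberToSpecResidueField y z)).hom := inferInstance
    have hb : ¬ IsUnit (((Y.fromSpecResidueField y).stalkMap
        (f.fiberToSpecResidueField y z)).hom a') := fun h =>
      ha' ((isUnit_map_iff ((Y.fromSpecResidueField y).stalkMap
        (f.fiberToSpecResidueField y z)).hom a').mp h)
    have h0 := eq_zero_of_not_isUnit_stalk (Y.residueField y) (Field.toIsField _) _ _ hb
    change ((f.fiberToSpecResidueField y).stalkMap z).hom
      (((Y.fromSpecResidueField y).stalkMap (f.fiberToSpecResidueField y z)).hom a') = 0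
    rw [h0, map_zero]
  have h1 : ((f.fiberι y).stalkMap z).hom ((f.stalkMap (f.fiberι y z)).hom a) =
      ((f.fiberι y ≫ f).stalkMap z).hom a := by
    rw [Scheme.Hom.stalkMap_comp]
    rfl
  rw [h1, Scheme.Hom.stalkMap_congr_hom _ _ hfac z]
  generalize_proofs hp
  change ((f.fiberToSpecResidueField y ≫ Y.fromSpecResidueField y).stalkMap z).hom
    ((Y.presheaf.stalkCongr hp).hom.hom a) = 0
  apply key
  intro hu
  have hloc := isLocalHom_of_iso (Y.presheaf.stalkCongr hp)
  exact hna (hloc.map_nonunit a hu)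

section Main

variable (x : X)

/-- The ideal `m_{f x} O_{X,x}` of the local ring `O_{X,x}`. -/
noncomputable def fibIdeal : Ideal (X.presheaf.stalk x) :=
  (maximalIdeal (Y.presheaf.stalk (f x))).map (f.stalkMap x).hom

theorem fibIdeal_le : fibIdeal f x ≤ maximalIdeal (X.presheaf.stalk x) :=
  Ideal.map_le_iff_le_comap.mpr (IsLocalRing.maximalIdeal_comap (f.stalkMap x).hom).ge

theorem fibIdeal_ne_top : fibIdeal f x ≠ ⊤ := fun h =>
  (maximalIdeal.isMaximal _).ne_top (top_le_iff.mp (h ▸ fibIdeal_le f x))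

instance isLocalRing_quotient_fibIdeal : IsLocalRing (X.presheaf.stalk x ⧸ fibIdeal f x) :=
  Groth.Agent.Lib.Helper5.isLocalRing_quotient (fibIdeal_ne_top f x)

/-- The quotient `O_{X,x} ⧸ m_{f x} O_{X,x}` as a commutative ring object. -/
noncomputable abbrev Q : CommRingCat.{u} := CommRingCat.of (X.presheaf.stalk x ⧸ fibIdeal f x)

/-- The quotient map as a morphism of commutative rings. -/
noncomputable abbrev mkQ : X.presheaf.stalk x ⟶ Q f x :=
  CommRingCat.ofHom (Ideal.Quotient.mk (fibIdeal f x))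

instance isLocalHom_mkQ : IsLocalHom (mkQ f x).hom :=
  IsLocalHom.of_surjective _ Ideal.Quotient.mk_surjective

/-- The residue field of `f x` maps to the quotient. -/
noncomputable def toQ : Y.residueField (f x) ⟶ Q f x :=
  CommRingCat.ofHom (Ideal.Quotient.lift (maximalIdeal (Y.presheaf.stalk (f x)))
    ((Ideal.Quotient.mk (fibIdeal f x)).comp (f.stalkMap x).hom) (by
      intro a ha
      rw [RingHom.comp_apply, Ideal.Quotient.eq_zero_iff_mem]
      exact Ideal.mem_map_of_mem _ ha))

theorem residue_toQ : Y.residue (f x) ≫ toQ f x = f.stalkMap x ≫ mkQ f x := by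
  ext a
  rfl

/-- The canonical morphism from `Spec` of the quotient to the fibre. -/
noncomputable def toFiber : Spec (Q f x) ⟶ f.fiber (f x) :=
  pullback.lift (Spec.map (mkQ f x) ≫ X.fromSpecStalk x) (Spec.map (toQ f x)) (by
    rw [Category.assoc, ← Scheme.SpecMap_stalkMap_fromSpecStalk, ← Spec.map_comp_assoc,
      Scheme.fromSpecResidueField, ← Spec.map_comp_assoc, residue_toQ])

theorem toFiber_fiberι :
    toFiber f x ≫ f.fiberι (f x) = Spec.map (mkQ f x) ≫ X.fromSpecStalk x :=
  pullback.lift_fst _ _ _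

theorem fiberι_toFiber_closedPoint :
    f.fiberι (f x) (toFiber f x (closedPoint (Q f x))) = x := by
  rw [← Scheme.Hom.comp_apply, toFiber_fiberι, Scheme.Hom.comp_apply, Spec_closedPoint,
    Scheme.fromSpecStalk_closedPoint]

omit f x in
theorem aux_congr {R : CommRingCat.{u}} [IsLocalRing R] {g g' : Spec R ⟶ X} (h : g = g')
    (U : X.Opens) (hU : g (closedPoint R) ∈ U) (t : Γ(X, U)) :
    (Scheme.stalkClosedPointTo g).hom (X.presheaf.germ U _ hU t) =
      (Scheme.stalkClosedPointTo g').hom (X.presheaf.germ U _ (h ▸ hU) t) := by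
  subst h
  rfl

theorem germ_mem_fibIdeal_congr {x₁ x₂ : X} (h : x₁ = x₂) (U : X.Opens) (h1 : x₁ ∈ U)
    (t : Γ(X, U)) :
    X.presheaf.germ U x₁ h1 t ∈ fibIdeal f x₁ ↔
      X.presheaf.germ U x₂ (h ▸ h1) t ∈ fibIdeal f x₂ := by
  subst h
  rfl

/-- Key identity: the local homomorphism `O_{X_y, z} → O_{X,x} ⧸ m_y O_{X,x}` on germs. -/
theorem stalkClosedPointTo_toFiber_germ (U : X.Opens) (hxU : x ∈ U) (t : Γ(X, U))
    (hU : toFiber f x (closedPoint (Q f x)) ∈ (f.fiberι (f x)) ⁻¹ᵁ U) :
    (Scheme.stalkClosedPointTo (toFiber f x)).hom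
      ((f.fiber (f x)).presheaf.germ ((f.fiberι (f x)) ⁻¹ᵁ U) _ hU
        ((f.fiberι (f x)).app U t)) =
    Ideal.Quotient.mk (fibIdeal f x) (X.presheaf.germ U x hxU t) := by
  have e1 : (f.fiber (f x)).presheaf.germ ((f.fiberι (f x)) ⁻¹ᵁ U) _ hU
      ((f.fiberι (f x)).app U t) =
      ((f.fiberι (f x)).stalkMap (toFiber f x (closedPoint (Q f x)))).hom
        (X.presheaf.germ U _ hU t) :=
    (Scheme.Hom.germ_stalkMap_apply (f.fiberι (f x)) U _ hU t).symm
  rw [e1]
  have e2 : (Scheme.stalkClosedPointTo (toFiber f x)).hom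
      (((f.fiberι (f x)).stalkMap (toFiber f x (closedPoint (Q f x)))).hom
        (X.presheaf.germ U _ hU t)) =
      (Scheme.stalkClosedPointTo (toFiber f x ≫ f.fiberι (f x))).hom
        (X.presheaf.germ U _ hU t) := by
    rw [Scheme.stalkClosedPointTo_comp]
    rfl
  rw [e2]
  refine (aux_congr (toFiber_fiberι f x) U hU t).trans ?_
  exact ConcreteCategory.congr_hom
    (Scheme.germ_stalkClosedPointTo_Spec_fromSpecStalk (mkQ f x) U _) t

theorem stalkClosedPointTo_toFiber_surjective :
    Function.Surjective (Scheme.stalkClosedPointTo (toFiber f x)).hom := by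
  intro r
  obtain ⟨s, rfl⟩ := Ideal.Quotient.mk_surjective r
  obtain ⟨U, hxU, t, rfl⟩ := X.presheaf.exists_germ_eq s
  have hU : toFiber f x (closedPoint (Q f x)) ∈ (f.fiberι (f x)) ⁻¹ᵁ U := by
    change f.fiberι (f x) (toFiber f x (closedPoint (Q f x))) ∈ U
    rw [fiberι_toFiber_closedPoint]
    exact hxU
  exact ⟨_, stalkClosedPointTo_toFiber_germ f x U hxU t hU⟩

theorem stalkClosedPointTo_toFiber_injective :
    Function.Injective (Scheme.stalkClosedPointTo (toFiber f x)).hom := by
  rw [injective_iff_map_eq_zero]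
  intro w hw
  obtain ⟨s', rfl⟩ := (f.fiberι (f x)).stalkMap_surjective (toFiber f x (closedPoint (Q f x))) w
  obtain ⟨U, hU, t, rfl⟩ := X.presheaf.exists_germ_eq s'
  have hxU : x ∈ U := by
    rw [← fiberι_toFiber_closedPoint f x]
    exact hU
  have e1 : ((f.fiberι (f x)).stalkMap (toFiber f x (closedPoint (Q f x))))
      (X.presheaf.germ U _ hU t) =
      (f.fiber (f x)).presheaf.germ ((f.fiberι (f x)) ⁻¹ᵁ U) _ hU ((f.fiberι (f x)).app U t) :=
    Scheme.Hom.germ_stalkMap_apply (f.fiberι (f x)) U _ hU t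
  rw [e1] at hw
  have h2 := stalkClosedPointTo_toFiber_germ f x U hxU t hU
  rw [hw] at h2
  have h3 : X.presheaf.germ U x hxU t ∈ fibIdeal f x := Ideal.Quotient.eq_zero_iff_mem.mp h2.symm
  have h4 := (germ_mem_fibIdeal_congr f (fiberι_toFiber_closedPoint f x) U hU t).mpr h3
  exact map_maximalIdeal_le_ker f (f x) _ h4

/-- The local ring of the fibre through `x` at a point `z` over `x` is
`O_{X,x} ⧸ m_{f x} O_{X,x}`. -/
theorem nonempty_stalk_fiber_equiv (z : f.fiber (f x)) (hz : f.fiberι (f x) z = x) :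
    Nonempty ((f.fiber (f x)).presheaf.stalk z ≃+* (X.presheaf.stalk x ⧸ fibIdeal f x)) := by
  obtain rfl : z = toFiber f x (closedPoint (Q f x)) :=
    (f.fiberι (f x)).isEmbedding.injective (hz.trans (fiberι_toFiber_closedPoint f x).symm)
  exact ⟨RingEquiv.ofBijective (Scheme.stalkClosedPointTo (toFiber f x)).hom
    ⟨stalkClosedPointTo_toFiber_injective f x, stalkClosedPointTo_toFiber_surjective f x⟩⟩

/-- The local ring at `x` of the fibre through `x` is `O_{X,x} ⧸ m_{f x} O_{X,x}`. -/
theorem nonempty_stalk_asFiber_equiv :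
    Nonempty ((f.fiber (f x)).presheaf.stalk (f.asFiber x) ≃+*
      (X.presheaf.stalk x ⧸
        (maximalIdeal (Y.presheaf.stalk (f x))).map (f.stalkMap x).hom)) :=
  nonempty_stalk_fiber_equiv f x (f.asFiber x) (f.fiberι_asFiber x)

end Main

end Groth.Agent.Lib.Helper5.FiberStalk
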