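import Mathlib
import Groth.Agent.Lib.Helper5FiberStalk
import Groth.Agent.Lib.Helper5FiberRing

/-!
# Local properties of fibres of morphisms: flat descent and composition (helper5)

For a property `P` of rings that is invariant under isomorphism (`IsoInv P`) and satisfies the
flat-local criterion (`FlatLocalIff P`, e.g. Cohen–Macaulay or Gorenstein local rings):

* `fiber_stalk_iff`: `P` of the local ring of the fibre at `x` iff `P (O_{X,x} ⧸ m_{f x} O_{X,x})`;
* `flat_iff`: for `f` flat at `x` with Noetherian local rings: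
  `P O_{X,x} ↔ P O_{Y,f x} ∧ P (fibre local ring)`;
* `comp_iff'`: for `f : X ⟶ Y` flat at `x` and `g : Y ⟶ Z`:
  `P (fibre of g ∘ f at x) ↔ P (fibre of g at f x) ∧ P (fibre of f at x)`;
* `flat_comp`, `flat_of_comp`: flatness of stalk maps under composition / faithfully flat descent.
-/

set_option autoImplicit false
universe u

namespace Groth.Agent.Lib.Helper5.FiberMor
open AlgebraicGeometry CategoryTheory Limits IsLocalRing Groth.Agent.Lib.Helper5.FiberStalk
  Groth.Agent.Lib.Helper5.FiberRing Groth.Agent.Lib.Helper5 Groth.Agent.Lib.Helper28 LocCoh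

/-- Invariance of a property of rings under ring isomorphisms. -/
def IsoInv (P : ∀ (R : Type u) [CommRing R], Prop) : Prop :=
  ∀ (R S : Type u) [CommRing R] [CommRing S] (_ : R ≃+* S), P R → P S

theorem isoInv_cm : IsoInv.{u} (fun R _ => IsCohenMacaulayLocalRing R) :=
  fun R S _ _ e h => @isCohenMacaulayLocalRing_of_ringEquiv R S _ _ e h

theorem isoInv_gor : IsoInv.{u} (fun R _ => IsGorensteinLocalRing R) :=
  fun R S _ _ e h => @Groth.Agent.Lib.Helper5.GorRing.gorLocal_of_ringEquiv R S _ _ e h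

variable {P : ∀ (R : Type u) [CommRing R], Prop}

section Flat

variable {X Y : Scheme.{u}} (f : X ⟶ Y) (x : X)

theorem fiber_stalk_iff (hPe : IsoInv P) :
    P ((f.fiber (f x)).presheaf.stalk (f.asFiber x)) ↔
      P (X.presheaf.stalk x ⧸
        (maximalIdeal (Y.presheaf.stalk (f x))).map (f.stalkMap x).hom) := by
  obtain ⟨e⟩ := nonempty_stalk_asFiber_equiv f x
  exact ⟨hPe _ _ e, hPe _ _ e.symm⟩

/-- For `f` flat at `x`, with Noetherian local rings at `x` and `f x`: `O_{X,x}` has `P` iff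
`O_{Y,f x}` and the local ring of the fibre at `x` have `P`. -/
theorem flat_iff (hP : FlatLocalIff P) (hPe : IsoInv P) [IsNoetherianRing (X.presheaf.stalk x)]
    [IsNoetherianRing (Y.presheaf.stalk (f x))] (hfl : (f.stalkMap x).hom.Flat) :
    P (X.presheaf.stalk x) ↔
      P (Y.presheaf.stalk (f x)) ∧ P ((f.fiber (f x)).presheaf.stalk (f.asFiber x)) := by
  rw [fiber_stalk_iff f x hPe]
  letI := (f.stalkMap x).hom.toAlgebra
  haveI : IsLocalHom (algebraMap (Y.presheaf.stalk (f x)) (X.presheaf.stalk x)) :=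
    inferInstanceAs (IsLocalHom (f.stalkMap x).hom)
  haveI : Module.Flat (Y.presheaf.stalk (f x)) (X.presheaf.stalk x) := hfl
  have hne : (maximalIdeal (Y.presheaf.stalk (f x))).map (f.stalkMap x).hom ≠ ⊤ :=
    (IsLocalRing.map_maximalIdeal_lt_top _).ne
  haveI : IsLocalRing (X.presheaf.stalk x ⧸
      (maximalIdeal (Y.presheaf.stalk (f x))).map (f.stalkMap x).hom) :=
    isLocalRing_quotient hne
  exact hP (Y.presheaf.stalk (f x)) (X.presheaf.stalk x) _ (Ideal.Quotient.mk _)
    Ideal.Quotient.mk_surjective (by rw [Ideal.mk_ker]; rfl)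

end Flat

section Comp

variable {X Y Z : Scheme.{u}} (f : X ⟶ Y) (g : Y ⟶ Z) (x : X)

/-- For `f` flat at `x`: the local ring at `x` of the fibre of `f ≫ g` has `P` iff the local ring
at `f x` of the fibre of `g` and the local ring at `x` of the fibre of `f` have `P`. -/
theorem comp_iff' (hP : FlatLocalIff P) (hPe : IsoInv P) (hfl : (f.stalkMap x).hom.Flat)
    [IsNoetherianRing ((g.fiber (g (f x))).presheaf.stalk (g.asFiber (f x)))]
    [IsNoetherianRing (((f ≫ g).fiber ((f ≫ g) x)).presheaf.stalk ((f ≫ g).asFiber x))] :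
    P (((f ≫ g).fiber ((f ≫ g) x)).presheaf.stalk ((f ≫ g).asFiber x)) ↔
      P ((g.fiber (g (f x))).presheaf.stalk (g.asFiber (f x))) ∧
        P ((f.fiber (f x)).presheaf.stalk (f.asFiber x)) := by
  obtain ⟨ef⟩ := nonempty_stalk_asFiber_equiv f x
  obtain ⟨eg⟩ := nonempty_stalk_asFiber_equiv g (f x)
  obtain ⟨egf⟩ := nonempty_stalk_asFiber_equiv (f ≫ g) x
  have hI : (maximalIdeal (Z.presheaf.stalk ((f ≫ g) x))).map ((f ≫ g).stalkMap x).hom =
      ((maximalIdeal (Z.presheaf.stalk (g (f x)))).map (g.stalkMap (f x)).hom).map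
        (f.stalkMap x).hom := by
    rw [Scheme.Hom.stalkMap_comp]
    exact (Ideal.map_map _ _).symm
  let egf' := egf.trans (Ideal.quotEquivOfEq hI)
  haveI : IsNoetherianRing (Y.presheaf.stalk (f x) ⧸
      (maximalIdeal (Z.presheaf.stalk (g (f x)))).map (g.stalkMap (f x)).hom) :=
    isNoetherianRing_of_ringEquiv _ eg
  haveI : IsNoetherianRing (X.presheaf.stalk x ⧸
      ((maximalIdeal (Z.presheaf.stalk (g (f x)))).map (g.stalkMap (f x)).hom).map
        (f.stalkMap x).hom) :=
    isNoetherianRing_of_ringEquiv _ egf'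
  have key := comp_iff (g.stalkMap (f x)).hom (f.stalkMap x).hom hP hfl
  constructor
  · intro h
    obtain ⟨h1, h2⟩ := key.mp (hPe _ _ egf' h)
    exact ⟨hPe _ _ eg.symm h1, hPe _ _ ef.symm h2⟩
  · rintro ⟨h1, h2⟩
    exact hPe _ _ egf'.symm (key.mpr ⟨hPe _ _ eg h1, hPe _ _ ef h2⟩)

theorem flat_comp (hf : (f.stalkMap x).hom.Flat) (hg : (g.stalkMap (f x)).hom.Flat) :
    ((f ≫ g).stalkMap x).hom.Flat := by
  rw [Scheme.Hom.stalkMap_comp]
  exact RingHom.Flat.comp hg hf

theorem flat_of_comp (hgf : ((f ≫ g).stalkMap x).hom.Flat) (hf : (f.stalkMap x).hom.Flat) :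
    (g.stalkMap (f x)).hom.Flat := by
  rw [Scheme.Hom.stalkMap_comp] at hgf
  letI i1 := (g.stalkMap (f x)).hom.toAlgebra
  letI i2 := (f.stalkMap x).hom.toAlgebra
  letI i3 : Algebra (Z.presheaf.stalk (g (f x))) (X.presheaf.stalk x) :=
    ((f.stalkMap x).hom.comp (g.stalkMap (f x)).hom).toAlgebra
  haveI : IsScalarTower (Z.presheaf.stalk (g (f x))) (Y.presheaf.stalk (f x))
      (X.presheaf.stalk x) := IsScalarTower.of_algebraMap_eq (fun _ => rfl)
  haveI : Module.Flat (Y.presheaf.stalk (f x)) (X.presheaf.stalk x) := hf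
  haveI : IsLocalHom (algebraMap (Y.presheaf.stalk (f x)) (X.presheaf.stalk x)) :=
    inferInstanceAs (IsLocalHom (f.stalkMap x).hom)
  haveI : Module.FaithfullyFlat (Y.presheaf.stalk (f x)) (X.presheaf.stalk x) :=
    Module.FaithfullyFlat.of_flat_of_isLocalHom
  haveI : Module.Flat (Z.presheaf.stalk (g (f x))) (X.presheaf.stalk x) := hgf
  exact flat_of_faithfullyFlat_of_flat_comp (Z.presheaf.stalk (g (f x)))
    (Y.presheaf.stalk (f x)) (X.presheaf.stalk x)

end Comp

end Groth.Agent.Lib.Helper5.FiberMor
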