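import Groth.Agent.Lib.Helper28DepthCM
import Mathlib.RingTheory.KrullDimension.Field

/-!
# Depth library, part 6 (helper28): more Cohen–Macaulay module theory
(codepth under localization, systems of parameters, unmixedness criterion, primes in the support)
-/

set_option autoImplicit false
universe u v w u' v'

namespace Groth.Agent.Lib.Helper28
open RingTheory.Sequence CategoryTheory Abelian
open scoped Pointwise

section Codepth

variable {R : Type u} [CommRing R] [IsNoetherianRing R] [IsLocalRing R] [Small.{v} R]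
  {M : Type v} [AddCommGroup M] [Module R M] [Module.Finite R M]

/-- The codepth does not increase under localization (additive form). -/
theorem supportDim_localization_add_depth_le (p : Ideal R) [hp : p.IsPrime]
    [hnt : Nontrivial (LocalizedModule p.primeCompl M)] :
    Module.supportDim (Localization.AtPrime p) (LocalizedModule p.primeCompl M) +
        ((LocCoh.depth R M : ℕ∞) : WithBot ℕ∞) ≤
      Module.supportDim R M +
        ((LocCoh.depth (Localization.AtPrime p) (LocalizedModule p.primeCompl M) : ℕ∞) :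
          WithBot ℕ∞) := by
  let P : PrimeSpectrum R := ⟨p, hp⟩
  have hpM : P ∈ Module.support R M := Module.mem_support_iff.mpr hnt
  have hM : Nontrivial M := by
    by_contra h
    rw [not_nontrivial_iff_subsingleton] at h
    have : Module.support R M = ∅ := Module.support_eq_empty
    rw [this] at hpM
    exact hpM
  have hpm : p ≤ IsLocalRing.maximalIdeal R := IsLocalRing.le_maximalIdeal hp.ne_top
  have hIM : p • (⊤ : Submodule R M) ≠ ⊤ := smul_top_ne_top_of_le_maximalIdeal hpm
  obtain ⟨n, hn⟩ := ENat.ne_top_iff_exists.mp (idealDepth_ne_top hIM)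
  have g1 := depth_le_idealDepth_add_supportDim_quotient p hpm n M hn.symm
  rw [supportDim_quotient_prime_smul_top P hpM] at g1
  have H2 := supportDim_localization_add_ringKrullDim_quotient_le p M hpM
  have L : ((LocCoh.idealDepth p M : ℕ∞) : WithBot ℕ∞) ≤
      ((LocCoh.depth (Localization.AtPrime p) (LocalizedModule p.primeCompl M) : ℕ∞) :
        WithBot ℕ∞) :=
    WithBot.coe_le_coe.mpr (idealDepth_le_depth_localization p M (I := p) le_rfl)
  calc Module.supportDim (Localization.AtPrime p) (LocalizedModule p.primeCompl M) +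
        ((LocCoh.depth R M : ℕ∞) : WithBot ℕ∞)
      ≤ Module.supportDim (Localization.AtPrime p) (LocalizedModule p.primeCompl M) +
        (((LocCoh.idealDepth p M : ℕ∞) : WithBot ℕ∞) + ringKrullDim (R ⧸ p)) :=
          add_le_add_right g1 _
    _ ≤ Module.supportDim (Localization.AtPrime p) (LocalizedModule p.primeCompl M) +
        (((LocCoh.depth (Localization.AtPrime p) (LocalizedModule p.primeCompl M) : ℕ∞) :
          WithBot ℕ∞) + ringKrullDim (R ⧸ p)) := add_le_add_right (add_le_add_left L _) _
    _ = (Module.supportDim (Localization.AtPrime p) (LocalizedModule p.primeCompl M) +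
        ringKrullDim (R ⧸ p)) + ((LocCoh.depth (Localization.AtPrime p)
          (LocalizedModule p.primeCompl M) : ℕ∞) : WithBot ℕ∞) := by
      rw [add_assoc, add_comm (ringKrullDim (R ⧸ p))]
    _ ≤ _ := add_le_add_left H2 _

end Codepth

section CMQuot

variable {R : Type u} [CommRing R] [IsNoetherianRing R] [IsLocalRing R] [Small.{v} R]

theorem withBot_enat_add_natCast_cancel {a b : WithBot ℕ∞} {n : ℕ}
    (h : a + (n : WithBot ℕ∞) = b + (n : WithBot ℕ∞)) : a = b := by
  have hn : (n : WithBot ℕ∞) = ((n : ℕ∞) : WithBot ℕ∞) := rfl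
  rw [hn] at h
  induction a using WithBot.recBotCoe with
  | bot =>
    induction b using WithBot.recBotCoe with
    | bot => rfl
    | coe b =>
      rw [WithBot.bot_add, ← WithBot.coe_add] at h
      exact absurd h.symm WithBot.coe_ne_bot
  | coe a =>
    induction b using WithBot.recBotCoe with
    | bot =>
      rw [WithBot.bot_add, ← WithBot.coe_add] at h
      exact absurd h WithBot.coe_ne_bot
    | coe b =>
      rw [← WithBot.coe_add, ← WithBot.coe_add] at h
      have := WithBot.coe_injective h
      rw [(ENat.add_left_injective_of_ne_top (ENat.natCast_ne_top n)) this]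

theorem isCohenMacaulayModule_quot_ofList {M : Type v} [AddCommGroup M] [Module R M]
    [Module.Finite R M] (hM : LocCoh.IsCohenMacaulayModule R M) (xs : List R)
    (hxs : ∀ x ∈ xs, x ∈ IsLocalRing.maximalIdeal R) (hreg : IsWeaklyRegular M xs) :
    LocCoh.IsCohenMacaulayModule R (M ⧸ (Ideal.ofList xs • ⊤ : Submodule R M)) := by
  have hnt : Nontrivial M := nontrivial_of_isCohenMacaulayModule hM
  have hmM : IsLocalRing.maximalIdeal R • (⊤ : Submodule R M) ≠ ⊤ := maximalIdeal_smul_top_ne_top
  have h1 := Module.supportDim_add_length_eq_supportDim_of_isRegular xs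
    (isRegular_of_isWeaklyRegular_of_mem hreg hxs hmM)
  have h2 := idealDepth_quot_ofList_add_length (IsLocalRing.maximalIdeal R) M hmM xs hxs hreg
  unfold LocCoh.IsCohenMacaulayModule at hM ⊢
  unfold LocCoh.depth at hM ⊢
  rw [hM, ← h2] at h1
  push_cast at h1
  exact withBot_enat_add_natCast_cancel h1

end CMQuot


section CMsop

variable {R : Type u} [CommRing R] [IsNoetherianRing R] [IsLocalRing R]

theorem supportDim_le_supportDim_quot_ofList_add_length_local (xs : List R) :
    ∀ (M : Type v) [AddCommGroup M] [Module R M] [Module.Finite R M],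
      (∀ x ∈ xs, x ∈ IsLocalRing.maximalIdeal R) →
      Module.supportDim R M ≤
        Module.supportDim R (M ⧸ (Ideal.ofList xs • ⊤ : Submodule R M)) + xs.length := by
  induction xs with
  | nil =>
    intro M _ _ _ _
    rw [Ideal.ofList_nil, Submodule.bot_smul]
    simpa using le_of_eq (Module.supportDim_eq_of_equiv (Submodule.quotEquivOfEqBot ⊥ rfl)).symm
  | cons x xs ih =>
    intro M _ _ _ hxs
    have h1 := Module.supportDim_le_supportDim_quotSMulTop_succ (M := M)
      (hxs x List.mem_cons_self)
    have h2 := ih (QuotSMulTop x M) (fun r hr => hxs r (List.mem_cons_of_mem x hr))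
    rw [Module.supportDim_eq_of_equiv
      (Submodule.quotOfListConsSMulTopEquivQuotSMulTopInner M x xs)]
    calc Module.supportDim R M ≤ Module.supportDim R (QuotSMulTop x M) + 1 := h1
      _ ≤ (Module.supportDim R (QuotSMulTop x M ⧸
            (Ideal.ofList xs • ⊤ : Submodule R (QuotSMulTop x M))) + xs.length) + 1 :=
          add_le_add_left h2 1
      _ = _ := by simp [add_assoc]

variable [Small.{v} R]

theorem isSMulRegular_of_supportDim_quotSMulTop_succ_le {M : Type v} [AddCommGroup M]
    [Module R M] [Module.Finite R M] (hM : LocCoh.IsCohenMacaulayModule R M) {x : R}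
    (h : Module.supportDim R (QuotSMulTop x M) + 1 ≤ Module.supportDim R M) :
    IsSMulRegular M x := by
  have hnt : Nontrivial M := nontrivial_of_isCohenMacaulayModule hM
  by_contra hreg
  have hx : x ∈ ⋃ p ∈ associatedPrimes R M, (p : Set R) := by
    rw [biUnion_associatedPrimes_eq_compl_regular R M]
    exact hreg
  simp only [Set.mem_iUnion, SetLike.mem_coe, exists_prop] at hx
  obtain ⟨p, hp, hxp⟩ := hx
  have hdim := ringKrullDim_quotient_eq_supportDim_of_isCohenMacaulayModule hM hp
  have hpS : (⟨p, hp.isPrime⟩ : PrimeSpectrum R) ∈ Module.support R (QuotSMulTop x M) := by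
    rw [Module.support_quotSMulTop]
    refine ⟨mem_support_of_mem_associatedPrimes hp, ?_⟩
    rw [PrimeSpectrum.mem_zeroLocus]
    exact Set.singleton_subset_iff.mpr hxp
  have h2 := ringKrullDim_quotient_le_supportDim hpS
  change ringKrullDim (R ⧸ p) ≤ _ at h2
  rw [hdim] at h2
  -- now `dim M ≤ dim M/xM` and `dim M/xM + 1 ≤ dim M`
  have hfin : LocCoh.depth R M ≠ ⊤ := idealDepth_ne_top maximalIdeal_smul_top_ne_top
  obtain ⟨t, ht⟩ := ENat.ne_top_iff_exists.mp hfin
  unfold LocCoh.IsCohenMacaulayModule at hM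
  rw [← ht] at hM
  rw [hM] at h h2
  have hne : Module.supportDim R (QuotSMulTop x M) ≠ ⊥ := by
    intro hbot
    rw [hbot] at h2
    exact absurd h2 (by simp)
  obtain ⟨e, he⟩ := WithBot.ne_bot_iff_exists.mp hne
  rw [← he] at h h2
  have h2' : (t : ℕ∞) ≤ e := by exact_mod_cast h2
  have h' : e + 1 ≤ (t : ℕ∞) := by exact_mod_cast h
  have he' : e ≠ ⊤ := ne_top_of_le_ne_top (ENat.natCast_ne_top t) ((le_self_add).trans h')
  obtain ⟨e', rfl⟩ := ENat.ne_top_iff_exists.mp he'
  have h3 : e' + 1 ≤ t := by exact_mod_cast h'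
  have h4 : t ≤ e' := by exact_mod_cast h2'
  omega

theorem isWeaklyRegular_of_supportDim_add_length_eq (xs : List R) :
    ∀ (M : Type v) [AddCommGroup M] [Module R M] [Module.Finite R M],
      LocCoh.IsCohenMacaulayModule R M → (∀ x ∈ xs, x ∈ IsLocalRing.maximalIdeal R) →
      Module.supportDim R (M ⧸ (Ideal.ofList xs • ⊤ : Submodule R M)) + xs.length =
        Module.supportDim R M → IsWeaklyRegular M xs := by
  induction xs with
  | nil => intro M _ _ _ _ _ _; exact IsWeaklyRegular.nil R M
  | cons x xs ih =>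
    intro M _ _ _ hM hxs hdim
    have hnt : Nontrivial M := nontrivial_of_isCohenMacaulayModule hM
    have hxm : x ∈ IsLocalRing.maximalIdeal R := hxs x List.mem_cons_self
    have hxs' : ∀ r ∈ xs, r ∈ IsLocalRing.maximalIdeal R :=
      fun r hr => hxs r (List.mem_cons_of_mem x hr)
    have h1 := Module.supportDim_le_supportDim_quotSMulTop_succ (M := M) hxm
    have h2 := supportDim_le_supportDim_quot_ofList_add_length_local xs (QuotSMulTop x M) hxs'
    rw [Module.supportDim_eq_of_equiv
      (Submodule.quotOfListConsSMulTopEquivQuotSMulTopInner M x xs)] at hdim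
    -- abbreviations
    set d := Module.supportDim R (QuotSMulTop x M ⧸
      (Ideal.ofList xs • ⊤ : Submodule R (QuotSMulTop x M))) with hd
    have hle : Module.supportDim R (QuotSMulTop x M) + 1 ≤ Module.supportDim R M := by
      calc Module.supportDim R (QuotSMulTop x M) + 1 ≤ (d + xs.length) + 1 := add_le_add_left h2 1
        _ = Module.supportDim R M := by
          rw [← hdim, List.length_cons]; push_cast; rw [add_assoc]
    have hreg : IsSMulRegular M x := isSMulRegular_of_supportDim_quotSMulTop_succ_le hM hle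
    have hCM' : LocCoh.IsCohenMacaulayModule R (QuotSMulTop x M) := by
      have := isCohenMacaulayModule_quot_ofList hM [x] (by simpa using hxm)
        ((isWeaklyRegular_singleton_iff M x).mpr hreg)
      unfold LocCoh.IsCohenMacaulayModule LocCoh.depth at this ⊢
      have e : (M ⧸ (Ideal.ofList [x] • ⊤ : Submodule R M)) ≃ₗ[R] QuotSMulTop x M :=
        Submodule.quotEquivOfEq _ _ (by
          rw [Ideal.ofList_singleton, Submodule.ideal_span_singleton_smul])
      rwa [Module.supportDim_eq_of_equiv e, idealDepth_congr e] at this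
    have hdim' : d + xs.length = Module.supportDim R (QuotSMulTop x M) := by
      apply le_antisymm
      · have h3 := Module.supportDim_quotSMulTop_succ_eq_supportDim hreg hxm
        rw [← h3, List.length_cons] at hdim
        push_cast at hdim
        rw [← add_assoc] at hdim
        have : d + (xs.length : WithBot ℕ∞) + ((1 : ℕ) : WithBot ℕ∞) =
            Module.supportDim R (QuotSMulTop x M) + ((1 : ℕ) : WithBot ℕ∞) := by
          simpa using hdim
        exact le_of_eq (withBot_enat_add_natCast_cancel this)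
      · exact h2
    exact (isWeaklyRegular_cons_iff M x xs).mpr ⟨hreg, ih (QuotSMulTop x M) hCM' hxs' hdim'⟩

end CMsop


section CMcrit

variable {R : Type u} [CommRing R] [IsNoetherianRing R] [IsLocalRing R] [Small.{v} R]

omit [Small.{v} R] in
theorem supportDim_ne_top {M : Type v} [AddCommGroup M] [Module R M] :
    Module.supportDim R M ≠ ⊤ :=
  ne_top_of_le_ne_top ringKrullDim_ne_top (Module.supportDim_le_ringKrullDim R M)

omit [Small.{v} R] in
theorem exists_natCast_eq_supportDim {M : Type v} [AddCommGroup M] [Module R M] [Nontrivial M] :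
    ∃ d : ℕ, Module.supportDim R M = (d : WithBot ℕ∞) := by
  obtain ⟨e, he⟩ := WithBot.ne_bot_iff_exists.mp (Module.supportDim_ne_bot_of_nontrivial R M)
  have : e ≠ ⊤ := by
    rintro rfl
    exact supportDim_ne_top (R := R) (M := M) he.symm
  obtain ⟨d, rfl⟩ := ENat.ne_top_iff_exists.mp this
  exact ⟨d, he.symm⟩

omit [IsNoetherianRing R] [Small.{v} R] in
theorem ringKrullDim_quotient_maximalIdeal : ringKrullDim (R ⧸ IsLocalRing.maximalIdeal R) = 0 :=
  ringKrullDim_eq_zero_of_isField
    ((Ideal.Quotient.maximal_ideal_iff_isField_quotient _).mp inferInstance)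

/-- Criterion (EGA 0_IV 16.5.?): if all quotients by parts of systems of parameters are unmixed,
the module is Cohen–Macaulay. -/
theorem isCohenMacaulayModule_of_forall_unmixed (d : ℕ) :
    ∀ (M : Type v) [AddCommGroup M] [Module R M] [Module.Finite R M] [Nontrivial M],
      Module.supportDim R M = (d : WithBot ℕ∞) →
      (∀ xs : List R, (∀ x ∈ xs, x ∈ IsLocalRing.maximalIdeal R) →
        Module.supportDim R (M ⧸ (Ideal.ofList xs • ⊤ : Submodule R M)) + xs.length =
          Module.supportDim R M →
        ∀ p ∈ associatedPrimes R (M ⧸ (Ideal.ofList xs • ⊤ : Submodule R M)),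
          ringKrullDim (R ⧸ p) =
            Module.supportDim R (M ⧸ (Ideal.ofList xs • ⊤ : Submodule R M))) →
      LocCoh.IsCohenMacaulayModule R M := by
  induction d with
  | zero =>
    intro M _ _ _ _ hd _
    unfold LocCoh.IsCohenMacaulayModule
    have h1 : ((LocCoh.depth R M : ℕ∞) : WithBot ℕ∞) ≤ Module.supportDim R M := depth_le_supportDim
    rw [hd] at h1 ⊢
    have : LocCoh.depth R M ≤ 0 := by exact_mod_cast h1
    rw [nonpos_iff_eq_zero.mp this]
    rfl
  | succ d ih =>
    intro M _ _ _ _ hd h
    have hmM : IsLocalRing.maximalIdeal R • (⊤ : Submodule R M) ≠ ⊤ := maximalIdeal_smul_top_ne_top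
    -- the empty list
    let e0 : (M ⧸ (Ideal.ofList ([] : List R) • ⊤ : Submodule R M)) ≃ₗ[R] M :=
      Submodule.quotEquivOfEqBot _ (by rw [Ideal.ofList_nil, Submodule.bot_smul])
    have h0 := h [] (by simp) (by
      rw [List.length_nil, Nat.cast_zero, add_zero]
      exact Module.supportDim_eq_of_equiv e0)
    -- the maximal ideal is not associated
    have hnot : IsLocalRing.maximalIdeal R ∉ associatedPrimes R M := by
      intro hm
      have hm' : IsLocalRing.maximalIdeal R ∈
          associatedPrimes R (M ⧸ (Ideal.ofList ([] : List R) • ⊤ : Submodule R M)) :=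
        (LinearEquiv.isAssociatedPrime_iff e0).mpr hm
      have := h0 _ hm'
      rw [ringKrullDim_quotient_maximalIdeal, Module.supportDim_eq_of_equiv e0, hd] at this
      have h' : ((0 : ℕ) : WithBot ℕ∞) = ((d + 1 : ℕ) : WithBot ℕ∞) := by simpa using this
      have := Nat.cast_injective (R := WithBot ℕ∞) h'
      omega
    have hdepth : LocCoh.depth R M ≠ 0 := fun h0' => hnot (depth_eq_zero_iff.mp h0')
    have h1 : 1 ≤ LocCoh.idealDepth (IsLocalRing.maximalIdeal R) M :=
      Order.one_le_iff_ne_zero.mpr hdepth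
    obtain ⟨x, hxm, hreg⟩ := (one_le_idealDepth_iff hmM).mp h1
    have hadd := idealDepth_quotSMulTop_add_one (IsLocalRing.maximalIdeal R) M hmM x hxm hreg
    have hdim := Module.supportDim_quotSMulTop_succ_eq_supportDim hreg hxm
    have hnt : Nontrivial (QuotSMulTop x M) :=
      nontrivial_of_smul_top_ne_top (smul_top_quotSMulTop_ne_top hxm hmM)
    have hd' : Module.supportDim R (QuotSMulTop x M) = (d : WithBot ℕ∞) := by
      rw [hd] at hdim
      have : Module.supportDim R (QuotSMulTop x M) + ((1 : ℕ) : WithBot ℕ∞) =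
          (d : WithBot ℕ∞) + ((1 : ℕ) : WithBot ℕ∞) := by
        rw [Nat.cast_one, hdim]; push_cast; rfl
      exact withBot_enat_add_natCast_cancel this
    have hCM' : LocCoh.IsCohenMacaulayModule R (QuotSMulTop x M) := by
      apply ih (QuotSMulTop x M) hd'
      intro ys hys hdimys p hp
      let e := Submodule.quotOfListConsSMulTopEquivQuotSMulTopInner M x ys
      have hcons : ∀ r ∈ x :: ys, r ∈ IsLocalRing.maximalIdeal R := by
        intro r hr
        rcases List.mem_cons.mp hr with rfl | hr
        · exact hxm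
        · exact hys r hr
      have := h (x :: ys) hcons (by
        rw [Module.supportDim_eq_of_equiv e, List.length_cons, ← hdim, ← hdimys]
        push_cast
        rw [add_assoc]) p ((LinearEquiv.isAssociatedPrime_iff e).mpr hp)
      rwa [Module.supportDim_eq_of_equiv e] at this
    unfold LocCoh.IsCohenMacaulayModule LocCoh.depth at hCM' ⊢
    rw [← hdim, ← hadd, hCM']
    push_cast
    rfl

end CMcrit


section CMprime

variable {R : Type u} [CommRing R] [IsNoetherianRing R] [IsLocalRing R] [Small.{v} R]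
  {M : Type v} [AddCommGroup M] [Module R M] [Module.Finite R M]

omit [Small.{v} R] [Module.Finite R M] in
theorem withBot_natCast_add_cancel_left {a : ℕ} {b c : ℕ∞}
    (h : (a : WithBot ℕ∞) + ((b : ℕ∞) : WithBot ℕ∞) = (a : WithBot ℕ∞) + ((c : ℕ∞) : WithBot ℕ∞)) :
    b = c := by
  have h' : (((a : ℕ∞) + b : ℕ∞) : WithBot ℕ∞) = (((a : ℕ∞) + c : ℕ∞) : WithBot ℕ∞) := by
    exact_mod_cast h
  have := WithBot.coe_injective h'
  exact (ENat.add_right_injective_of_ne_top (ENat.natCast_ne_top a)) this

/-- For a Cohen–Macaulay module, `depth_p M = dim M - dim M/pM`. -/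
theorem idealDepth_prime_eq_of_isCohenMacaulayModule (hM : LocCoh.IsCohenMacaulayModule R M)
    (p : PrimeSpectrum R) (r : ℕ)
    (hr : Module.supportDim R (M ⧸ (p.asIdeal • ⊤ : Submodule R M)) + r =
      Module.supportDim R M) :
    LocCoh.idealDepth p.asIdeal M = r := by
  have hnt : Nontrivial M := nontrivial_of_isCohenMacaulayModule hM
  have hpm : p.asIdeal ≤ IsLocalRing.maximalIdeal R := IsLocalRing.le_maximalIdeal p.2.ne_top
  have hIM : p.asIdeal • (⊤ : Submodule R M) ≠ ⊤ := smul_top_ne_top_of_le_maximalIdeal hpm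
  have hntq : Nontrivial (M ⧸ (p.asIdeal • ⊤ : Submodule R M)) :=
    Submodule.Quotient.nontrivial_iff.mpr hIM
  obtain ⟨b, hb⟩ := exists_natCast_eq_supportDim (R := R)
    (M := M ⧸ (p.asIdeal • ⊤ : Submodule R M))
  have S := supportDim_eq_add_idealDepth_of_isCohenMacaulayModule p.asIdeal p.2.ne_top hM
  rw [← hr, hb] at S
  have : ((r : ℕ∞) : ℕ∞) = LocCoh.idealDepth p.asIdeal M :=
    withBot_natCast_add_cancel_left (a := b) (by exact_mod_cast S)
  exact this.symm

theorem exists_isWeaklyRegular_in_prime_of_isCohenMacaulayModule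
    (hM : LocCoh.IsCohenMacaulayModule R M) (p : PrimeSpectrum R) (r : ℕ)
    (hr : Module.supportDim R (M ⧸ (p.asIdeal • ⊤ : Submodule R M)) + r =
      Module.supportDim R M) :
    ∃ xs : List R, xs.length = r ∧ (∀ x ∈ xs, x ∈ p.asIdeal) ∧ IsWeaklyRegular M xs := by
  have hnt : Nontrivial M := nontrivial_of_isCohenMacaulayModule hM
  have hpm : p.asIdeal ≤ IsLocalRing.maximalIdeal R := IsLocalRing.le_maximalIdeal p.2.ne_top
  have hIM : p.asIdeal • (⊤ : Submodule R M) ≠ ⊤ := smul_top_ne_top_of_le_maximalIdeal hpm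
  have hd := idealDepth_prime_eq_of_isCohenMacaulayModule hM p r hr
  obtain ⟨xs, h1, h2, h3⟩ := (natCast_le_idealDepth_iff hIM r).mp (le_of_eq hd.symm)
  exact ⟨xs, h1, h2, h3.toIsWeaklyRegular⟩

theorem cm_prime_quot_properties (hM : LocCoh.IsCohenMacaulayModule R M) (p : PrimeSpectrum R)
    (hp : p ∈ Module.support R M) (r : ℕ)
    (hr : Module.supportDim R (M ⧸ (p.asIdeal • ⊤ : Submodule R M)) + r =
      Module.supportDim R M)
    (xs : List R) (hlen : xs.length = r) (hmem : ∀ x ∈ xs, x ∈ p.asIdeal)
    (hreg : IsWeaklyRegular M xs) :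
    Module.supportDim R (M ⧸ (Ideal.ofList xs • ⊤ : Submodule R M)) =
        Module.supportDim R (M ⧸ (p.asIdeal • ⊤ : Submodule R M)) ∧
      Module.supportDim R (M ⧸ (p.asIdeal • ⊤ : Submodule R M)) = ringKrullDim (R ⧸ p.asIdeal) ∧
      p.asIdeal ∈ associatedPrimes R (M ⧸ (Ideal.ofList xs • ⊤ : Submodule R M)) ∧
      ∀ q ∈ associatedPrimes R (M ⧸ (Ideal.ofList xs • ⊤ : Submodule R M)),
        q ≤ p.asIdeal → q = p.asIdeal := by
  have hnt : Nontrivial M := nontrivial_of_isCohenMacaulayModule hM
  have hpm : p.asIdeal ≤ IsLocalRing.maximalIdeal R := IsLocalRing.le_maximalIdeal p.2.ne_top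
  have hmM : IsLocalRing.maximalIdeal R • (⊤ : Submodule R M) ≠ ⊤ := maximalIdeal_smul_top_ne_top
  have hIM : p.asIdeal • (⊤ : Submodule R M) ≠ ⊤ := smul_top_ne_top_of_le_maximalIdeal hpm
  have hxm : ∀ x ∈ xs, x ∈ IsLocalRing.maximalIdeal R := fun x hx => hpm (hmem x hx)
  set N := M ⧸ (Ideal.ofList xs • ⊤ : Submodule R M) with hN
  have hdimN := Module.supportDim_add_length_eq_supportDim_of_isRegular xs
    (isRegular_of_isWeaklyRegular_of_mem hreg hxm hmM)
  have hH1 := supportDim_quotient_prime_smul_top p hp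
  -- (a)
  have ha : Module.supportDim R N = Module.supportDim R (M ⧸ (p.asIdeal • ⊤ : Submodule R M)) := by
    rw [← hr, hlen] at hdimN
    exact withBot_enat_add_natCast_cancel hdimN
  have hNCM : LocCoh.IsCohenMacaulayModule R N := isCohenMacaulayModule_quot_ofList hM xs hxm hreg
  have hIN : p.asIdeal • (⊤ : Submodule R N) ≠ ⊤ := smul_top_quot_ofList_ne_top p.asIdeal hmem hIM
  have hNnt : Nontrivial N := nontrivial_of_smul_top_ne_top hIN
  -- depth_p N = 0
  have hd := idealDepth_prime_eq_of_isCohenMacaulayModule hM p r hr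
  have hadd := idealDepth_quot_ofList_add_length p.asIdeal M hIM xs hmem hreg
  have hd0 : LocCoh.idealDepth p.asIdeal N = 0 := by
    rw [hd, hlen] at hadd
    have : LocCoh.idealDepth p.asIdeal N + (r : ℕ∞) = 0 + (r : ℕ∞) := by rw [hadd, zero_add]
    exact (ENat.add_left_injective_of_ne_top (ENat.natCast_ne_top r)) this
  obtain ⟨q, hq, hpq⟩ := (idealDepth_eq_zero_iff hIN).mp hd0
  have hqdim := ringKrullDim_quotient_eq_supportDim_of_isCohenMacaulayModule hNCM hq
  obtain ⟨b, hb⟩ := exists_natCast_eq_supportDim (R := R) (M := N)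
  -- strict inclusions contradict dimension equality
  have hstrict : ∀ {q₁ q₂ : Ideal R} [q₁.IsPrime], q₁ < q₂ →
      ringKrullDim (R ⧸ q₁) = (b : WithBot ℕ∞) → ringKrullDim (R ⧸ q₂) = (b : WithBot ℕ∞) →
      False := by
    intro q₁ q₂ _ hlt h1 h2
    have := ringKrullDim_quotient_succ_le_of_lt hlt
    rw [h1, h2] at this
    have h' : ((b + 1 : ℕ) : WithBot ℕ∞) ≤ ((b : ℕ) : WithBot ℕ∞) := by exact_mod_cast this
    have : b + 1 ≤ b := by exact_mod_cast h'
    omega
  have hpdim : ringKrullDim (R ⧸ p.asIdeal) = (b : WithBot ℕ∞) := by rw [← hH1, ← ha, hb]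
  have hqeq : p.asIdeal = q := by
    by_contra hne
    have hp2 : p.asIdeal.IsPrime := p.2
    exact hstrict (lt_of_le_of_ne hpq hne) hpdim (by rw [hqdim, hb])
  refine ⟨ha, hH1, hqeq ▸ hq, ?_⟩
  intro q' hq' hle
  by_contra hne
  have hq'p : q'.IsPrime := hq'.isPrime
  have hq'dim := ringKrullDim_quotient_eq_supportDim_of_isCohenMacaulayModule hNCM hq'
  exact hstrict (lt_of_le_of_ne hle hne) (by rw [hq'dim, hb]) hpdim

end CMprime

end Groth.Agent.Lib.Helper28
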