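import Groth.Agent.Lib.Helper28DepthAss
import Mathlib.RingTheory.Ideal.KrullsHeightTheorem

/-!
# Depth library, part 5 (helper28): Cohen–Macaulay modules over Noetherian local rings
-/

set_option autoImplicit false
universe u v w u' v'

namespace Groth.Agent.Lib.Helper28
open RingTheory.Sequence CategoryTheory Abelian
open scoped Pointwise

section AssSupp

variable {R : Type u} [CommRing R] {M : Type v} [AddCommGroup M] [Module R M]

theorem mem_support_of_mem_associatedPrimes {p : Ideal R} (hp : p ∈ associatedPrimes R M) :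
    (⟨p, hp.isPrime⟩ : PrimeSpectrum R) ∈ Module.support R M := by
  obtain ⟨hpp, z, hz⟩ := hp
  rw [Module.mem_support_iff_exists_annihilator]
  refine ⟨z, ?_⟩
  intro r hr
  change r ∈ p
  rw [hz]
  apply Ideal.le_radical
  rw [Submodule.mem_colon_singleton, Submodule.mem_bot]
  exact (Submodule.mem_annihilator_span_singleton z r).mp hr

/-- `dim R/p ≤ dim M` for `p ∈ Supp M`. -/
theorem ringKrullDim_quotient_le_supportDim {p : PrimeSpectrum R} (hp : p ∈ Module.support R M) :
    ringKrullDim (R ⧸ p.asIdeal) ≤ Module.supportDim R M := by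
  rw [ringKrullDim_quotient]
  refine Order.krullDim_le_of_strictMono (fun a ↦ ⟨a.1, ?_⟩) (fun {_ _} lt ↦ lt)
  have ha : p.asIdeal ≤ a.1.asIdeal := (PrimeSpectrum.mem_zeroLocus _ _).mp a.2
  exact Module.mem_support_mono (p := p) ha hp

theorem supportDim_quotient_smul_top_ge [Module.Finite R M] {I : Ideal R} {p : PrimeSpectrum R}
    (hp : p ∈ Module.support R M) (hI : I ≤ p.asIdeal) :
    ringKrullDim (R ⧸ p.asIdeal) ≤ Module.supportDim R (M ⧸ (I • ⊤ : Submodule R M)) := by
  apply ringKrullDim_quotient_le_supportDim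
  rw [Module.support_quotient]
  exact ⟨hp, (PrimeSpectrum.mem_zeroLocus _ _).mpr hI⟩

/-- Passing to `M/xM` for `x ∈ I` does not change the support of `M/IM`. -/
theorem supportDim_quotSMulTop_quotient_smul_top [Module.Finite R M] {I : Ideal R} {x : R}
    (hx : x ∈ I) :
    Module.supportDim R (QuotSMulTop x M ⧸ (I • ⊤ : Submodule R (QuotSMulTop x M))) =
      Module.supportDim R (M ⧸ (I • ⊤ : Submodule R M)) := by
  have hsupp : Module.support R (QuotSMulTop x M ⧸ (I • ⊤ : Submodule R (QuotSMulTop x M))) =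
      Module.support R (M ⧸ (I • ⊤ : Submodule R M)) := by
    rw [Module.support_quotient, Module.support_quotient, Module.support_quotSMulTop,
      Set.inter_assoc]
    have : PrimeSpectrum.zeroLocus ({x} : Set R) ∩ PrimeSpectrum.zeroLocus (I : Set R) =
        PrimeSpectrum.zeroLocus (I : Set R) := by
      apply Set.inter_eq_right.mpr
      intro q hq
      rw [PrimeSpectrum.mem_zeroLocus] at hq ⊢
      exact Set.singleton_subset_iff.mpr (hq hx)
    rw [this]
  exact le_antisymm (supportDim_le_of_support_subset hsupp.le)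
    (supportDim_le_of_support_subset hsupp.ge)

end AssSupp

section G12

variable {R : Type u} [CommRing R] [IsNoetherianRing R] [IsLocalRing R] [Small.{v} R]

/-- (G1) `depth M ≤ depth_I M + dim M/IM`. -/
theorem depth_le_idealDepth_add_supportDim_quotient (I : Ideal R)
    (hI : I ≤ IsLocalRing.maximalIdeal R) (n : ℕ) :
    ∀ (M : Type v) [AddCommGroup M] [Module R M] [Module.Finite R M] [Nontrivial M],
      LocCoh.idealDepth I M = n →
      ((LocCoh.depth R M : ℕ∞) : WithBot ℕ∞) ≤
        ((LocCoh.idealDepth I M : ℕ∞) : WithBot ℕ∞) +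
          Module.supportDim R (M ⧸ (I • ⊤ : Submodule R M)) := by
  induction n with
  | zero =>
    intro M _ _ _ _ h0
    have hIM : I • (⊤ : Submodule R M) ≠ ⊤ := smul_top_ne_top_of_le_maximalIdeal hI
    rw [h0]
    simp only [Nat.cast_zero] at h0
    obtain ⟨q, hq, hIq⟩ := (idealDepth_eq_zero_iff hIM).mp h0
    have h1 := depth_le_ringKrullDim_quotient_of_mem_associatedPrimes hq
    have h2 := supportDim_quotient_smul_top_ge (mem_support_of_mem_associatedPrimes hq) hIq
    simp only [Nat.cast_zero, WithBot.coe_zero, zero_add]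
    exact h1.trans h2
  | succ n ih =>
    intro M _ _ _ _ hn
    have hIM : I • (⊤ : Submodule R M) ≠ ⊤ := smul_top_ne_top_of_le_maximalIdeal hI
    have hmM : IsLocalRing.maximalIdeal R • (⊤ : Submodule R M) ≠ ⊤ := maximalIdeal_smul_top_ne_top
    have h1 : 1 ≤ LocCoh.idealDepth I M := by
      rw [hn]; exact_mod_cast Nat.succ_le_succ (Nat.zero_le n)
    obtain ⟨x, hxI, hreg⟩ := (one_le_idealDepth_iff hIM).mp h1
    have hadd := idealDepth_quotSMulTop_add_one I M hIM x hxI hreg
    have hadd' := idealDepth_quotSMulTop_add_one (IsLocalRing.maximalIdeal R) M hmM x (hI hxI) hreg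
    have hnt : Nontrivial (QuotSMulTop x M) :=
      nontrivial_of_smul_top_ne_top (smul_top_quotSMulTop_ne_top hxI hIM)
    have hn' : LocCoh.idealDepth I (QuotSMulTop x M) = n := by
      rw [hn] at hadd
      have : LocCoh.idealDepth I (QuotSMulTop x M) + 1 = (n : ℕ∞) + 1 := by
        rw [hadd]; push_cast; rfl
      exact (ENat.add_left_injective_of_ne_top ENat.one_ne_top) this
    have := ih (QuotSMulTop x M) hn'
    rw [supportDim_quotSMulTop_quotient_smul_top hxI] at this
    unfold LocCoh.depth at this ⊢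
    rw [← hadd', ← hadd]
    push_cast
    calc ((LocCoh.idealDepth (IsLocalRing.maximalIdeal R) (QuotSMulTop x M) : ℕ∞) : WithBot ℕ∞) + 1
        ≤ (((LocCoh.idealDepth I (QuotSMulTop x M) : ℕ∞) : WithBot ℕ∞) +
          Module.supportDim R (M ⧸ (I • ⊤ : Submodule R M))) + 1 := add_le_add_left this 1
      _ = _ := by rw [add_right_comm]

/-- (G2) `depth_I M + dim M/IM ≤ dim M`. -/
theorem idealDepth_add_supportDim_quotient_le (I : Ideal R)
    (hI : I ≤ IsLocalRing.maximalIdeal R) (n : ℕ) :
    ∀ (M : Type v) [AddCommGroup M] [Module R M] [Module.Finite R M] [Nontrivial M],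
      LocCoh.idealDepth I M = n →
        ((LocCoh.idealDepth I M : ℕ∞) : WithBot ℕ∞) +
          Module.supportDim R (M ⧸ (I • ⊤ : Submodule R M)) ≤ Module.supportDim R M := by
  induction n with
  | zero =>
    intro M _ _ _ _ h0
    rw [h0]
    simp only [Nat.cast_zero, WithBot.coe_zero, zero_add]
    exact Module.supportDim_le_of_surjective _ (Submodule.mkQ_surjective _)
  | succ n ih =>
    intro M _ _ _ _ hn
    have hIM : I • (⊤ : Submodule R M) ≠ ⊤ := smul_top_ne_top_of_le_maximalIdeal hI
    have h1 : 1 ≤ LocCoh.idealDepth I M := by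
      rw [hn]; exact_mod_cast Nat.succ_le_succ (Nat.zero_le n)
    obtain ⟨x, hxI, hreg⟩ := (one_le_idealDepth_iff hIM).mp h1
    have hadd := idealDepth_quotSMulTop_add_one I M hIM x hxI hreg
    have hnt : Nontrivial (QuotSMulTop x M) :=
      nontrivial_of_smul_top_ne_top (smul_top_quotSMulTop_ne_top hxI hIM)
    have hn' : LocCoh.idealDepth I (QuotSMulTop x M) = n := by
      rw [hn] at hadd
      have : LocCoh.idealDepth I (QuotSMulTop x M) + 1 = (n : ℕ∞) + 1 := by
        rw [hadd]; push_cast; rfl
      exact (ENat.add_left_injective_of_ne_top ENat.one_ne_top) this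
    have := ih (QuotSMulTop x M) hn'
    rw [supportDim_quotSMulTop_quotient_smul_top hxI] at this
    have hdim := Module.supportDim_quotSMulTop_succ_eq_supportDim hreg (hI hxI)
    rw [← hdim, ← hadd]
    push_cast
    calc _ = (((LocCoh.idealDepth I (QuotSMulTop x M) : ℕ∞) : WithBot ℕ∞) +
          Module.supportDim R (M ⧸ (I • ⊤ : Submodule R M))) + 1 := by rw [add_right_comm]
      _ ≤ _ := add_le_add_left this 1

end G12


section HeightLoc

variable {R : Type u} [CommRing R] (p : Ideal R) [hp : p.IsPrime] (M : Type v) [AddCommGroup M]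
  [Module R M]

theorem primeSpectrumOrderIso_apply_eq_comap (q' : PrimeSpectrum (Localization.AtPrime p)) :
    ((IsLocalization.AtPrime.primeSpectrumOrderIso (Localization.AtPrime p) p) q').1 =
      PrimeSpectrum.comap (algebraMap R (Localization.AtPrime p)) q' := by
  apply PrimeSpectrum.ext
  apply SetLike.coe_injective
  rw [IsLocalization.AtPrime.coe_primeSpectrumOrderIso_apply_coe_asIdeal]
  rfl

theorem supportDim_localization_eq_height
    (hpM : (⟨p, hp⟩ : PrimeSpectrum R) ∈ Module.support R M) :
    Module.supportDim (Localization.AtPrime p) (LocalizedModule p.primeCompl M) =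
      ((Order.height (⟨⟨p, hp⟩, hpM⟩ : Module.support R M) : ℕ∞) : WithBot ℕ∞) := by
  rw [Order.height_eq_krullDim_Iic]
  unfold Module.supportDim
  let e := IsLocalization.AtPrime.primeSpectrumOrderIso (Localization.AtPrime p) p
  have hiff := mem_support_isLocalizedModule_iff p.primeCompl (Localization.AtPrime p)
    (LocalizedModule.mkLinearMap p.primeCompl M)
  apply le_antisymm
  · refine Order.krullDim_le_of_strictMono
      (fun a => ⟨⟨(e a.1).1, ?_⟩, ?_⟩) ?_
    · rw [primeSpectrumOrderIso_apply_eq_comap]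
      exact (hiff a.1).mp a.2
    · exact (e a.1).2
    · intro a b hab
      exact e.strictMono hab
  · refine Order.krullDim_le_of_strictMono
      (fun a => ⟨e.symm ⟨a.1.1, a.2⟩, ?_⟩) ?_
    · rw [hiff, ← primeSpectrumOrderIso_apply_eq_comap]
      change (e (e.symm _)).1 ∈ _
      rw [e.apply_symm_apply]
      exact a.1.2
    · intro a b hab
      exact e.symm.strictMono hab

theorem ringKrullDim_quotient_eq_coheight
    (hpM : (⟨p, hp⟩ : PrimeSpectrum R) ∈ Module.support R M) :
    ringKrullDim (R ⧸ p) =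
      ((Order.coheight (⟨⟨p, hp⟩, hpM⟩ : Module.support R M) : ℕ∞) : WithBot ℕ∞) := by
  rw [ringKrullDim_quotient, Order.coheight_eq_krullDim_Ici]
  apply le_antisymm
  · refine Order.krullDim_le_of_strictMono
      (fun a => ⟨⟨a.1, ?_⟩, ?_⟩) ?_
    · exact Module.mem_support_mono (p := ⟨p, hp⟩) ((PrimeSpectrum.mem_zeroLocus _ _).mp a.2) hpM
    · exact (PrimeSpectrum.mem_zeroLocus _ _).mp a.2
    · intro a b hab
      exact hab
  · refine Order.krullDim_le_of_strictMono
      (fun a => ⟨a.1.1, ?_⟩) ?_
    · exact (PrimeSpectrum.mem_zeroLocus _ _).mpr a.2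
    · intro a b hab
      exact hab

theorem supportDim_localization_add_ringKrullDim_quotient_le
    (hpM : (⟨p, hp⟩ : PrimeSpectrum R) ∈ Module.support R M) :
    Module.supportDim (Localization.AtPrime p) (LocalizedModule p.primeCompl M) +
      ringKrullDim (R ⧸ p) ≤ Module.supportDim R M := by
  rw [supportDim_localization_eq_height p M hpM, ringKrullDim_quotient_eq_coheight p M hpM]
  have : Nonempty (Module.support R M) := ⟨⟨⟨p, hp⟩, hpM⟩⟩
  unfold Module.supportDim
  rw [Order.krullDim_eq_iSup_height_add_coheight_of_nonempty, ← WithBot.coe_add]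
  exact WithBot.coe_le_coe.mpr
    (le_iSup (fun a : Module.support R M => Order.height a + Order.coheight a) ⟨⟨p, hp⟩, hpM⟩)

end HeightLoc


section CM

variable {R : Type u} [CommRing R] [IsNoetherianRing R] [IsLocalRing R] [Small.{v} R]
  {M : Type v} [AddCommGroup M] [Module R M] [Module.Finite R M]

omit [IsNoetherianRing R] [Small.{v} R] [Module.Finite R M] in
theorem nontrivial_of_isCohenMacaulayModule (hM : LocCoh.IsCohenMacaulayModule R M) :
    Nontrivial M := by
  rw [← Module.supportDim_ne_bot_iff_nontrivial R, hM]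
  exact WithBot.coe_ne_bot

/-- `dim M = dim M/IM + depth_I M` for a Cohen–Macaulay module. -/
theorem supportDim_eq_add_idealDepth_of_isCohenMacaulayModule (I : Ideal R) (hI : I ≠ ⊤)
    (hM : LocCoh.IsCohenMacaulayModule R M) :
    Module.supportDim R M = Module.supportDim R (M ⧸ (I • ⊤ : Submodule R M)) +
      ((LocCoh.idealDepth I M : ℕ∞) : WithBot ℕ∞) := by
  have hnt : Nontrivial M := nontrivial_of_isCohenMacaulayModule hM
  have hIm : I ≤ IsLocalRing.maximalIdeal R := IsLocalRing.le_maximalIdeal hI
  have hIM : I • (⊤ : Submodule R M) ≠ ⊤ := smul_top_ne_top_of_le_maximalIdeal hIm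
  obtain ⟨n, hn⟩ := ENat.ne_top_iff_exists.mp (idealDepth_ne_top hIM)
  have g1 := depth_le_idealDepth_add_supportDim_quotient I hIm n M hn.symm
  have g2 := idealDepth_add_supportDim_quotient_le I hIm n M hn.symm
  rw [← hM] at g1
  rw [add_comm]
  exact le_antisymm g1 g2

/-- Unmixedness: `dim R/p = dim M` for `p ∈ Ass M`, `M` Cohen–Macaulay. -/
theorem ringKrullDim_quotient_eq_supportDim_of_isCohenMacaulayModule
    (hM : LocCoh.IsCohenMacaulayModule R M) {p : Ideal R} (hp : p ∈ associatedPrimes R M) :
    ringKrullDim (R ⧸ p) = Module.supportDim R M :=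
  le_antisymm (ringKrullDim_quotient_le_supportDim (p := ⟨p, hp.isPrime⟩)
    (mem_support_of_mem_associatedPrimes hp))
    (hM ▸ depth_le_ringKrullDim_quotient_of_mem_associatedPrimes hp)

omit [IsNoetherianRing R] [IsLocalRing R] [Small.{v} R] in
theorem supportDim_quotient_prime_smul_top (p : PrimeSpectrum R)
    (hp : p ∈ Module.support R M) :
    Module.supportDim R (M ⧸ (p.asIdeal • ⊤ : Submodule R M)) = ringKrullDim (R ⧸ p.asIdeal) := by
  apply le_antisymm
  · rw [ringKrullDim_quotient]
    refine Order.krullDim_le_of_strictMono (fun a ↦ ⟨a.1, ?_⟩) (fun {_ _} lt ↦ lt)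
    have h2 : a.1 ∈ Module.support R M ∩ PrimeSpectrum.zeroLocus (p.asIdeal : Set R) := by
      rw [← Module.support_quotient]; exact a.2
    exact h2.2
  · exact supportDim_quotient_smul_top_ge hp le_rfl

theorem cm_localization_aux (hM : LocCoh.IsCohenMacaulayModule R M) (p : PrimeSpectrum R)
    (hp : p ∈ Module.support R M) :
    Module.supportDim (Localization.AtPrime p.asIdeal) (LocalizedModule p.asIdeal.primeCompl M) =
        ((LocCoh.idealDepth p.asIdeal M : ℕ∞) : WithBot ℕ∞) ∧
      LocCoh.idealDepth p.asIdeal M =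
        LocCoh.depth (Localization.AtPrime p.asIdeal) (LocalizedModule p.asIdeal.primeCompl M) := by
  have hnt : Nontrivial M := nontrivial_of_isCohenMacaulayModule hM
  have hntp : Nontrivial (LocalizedModule p.asIdeal.primeCompl M) := Module.mem_support_iff.mp hp
  have H2 := supportDim_localization_add_ringKrullDim_quotient_le p.asIdeal M hp
  have H1 := supportDim_quotient_prime_smul_top p hp
  have S := supportDim_eq_add_idealDepth_of_isCohenMacaulayModule p.asIdeal p.2.ne_top hM
  rw [H1] at S
  have L := idealDepth_le_depth_localization p.asIdeal M (I := p.asIdeal) le_rfl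
  have D : ((LocCoh.depth (Localization.AtPrime p.asIdeal)
      (LocalizedModule p.asIdeal.primeCompl M) : ℕ∞) : WithBot ℕ∞) ≤ _ := depth_le_supportDim
  -- finiteness of `dim R/p`
  have hb : ringKrullDim (R ⧸ p.asIdeal) ≤ ringKrullDim R :=
    ringKrullDim_le_of_surjective _ Ideal.Quotient.mk_surjective
  have hb' : ringKrullDim (R ⧸ p.asIdeal) ≠ ⊤ := ne_top_of_le_ne_top ringKrullDim_ne_top hb
  have hb0 : ringKrullDim (R ⧸ p.asIdeal) ≠ ⊥ := by
    have : Nontrivial (R ⧸ p.asIdeal) := Ideal.Quotient.nontrivial_iff.mpr p.2.ne_top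
    intro h
    have h0 := ringKrullDim_nonneg_of_nontrivial (R := R ⧸ p.asIdeal)
    rw [h] at h0
    exact absurd h0 (by simp)
  obtain ⟨b, hb⟩ : ∃ b : ℕ, ringKrullDim (R ⧸ p.asIdeal) = (b : WithBot ℕ∞) := by
    rcases hd : ringKrullDim (R ⧸ p.asIdeal) with _ | d
    · exact absurd hd hb0
    · rcases d with _ | d
      · exact absurd hd hb'
      · exact ⟨d, rfl⟩
  obtain ⟨a, ha⟩ : ∃ a : ℕ∞, Module.supportDim (Localization.AtPrime p.asIdeal)
      (LocalizedModule p.asIdeal.primeCompl M) = (a : WithBot ℕ∞) := by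
    rcases hd : Module.supportDim (Localization.AtPrime p.asIdeal)
      (LocalizedModule p.asIdeal.primeCompl M) with _ | d
    · exact absurd hd (Module.supportDim_ne_bot_of_nontrivial _ _)
    · exact ⟨d, rfl⟩
  rw [ha] at H2 D ⊢
  rw [S, hb] at H2
  have H2' : a + (b : ℕ∞) ≤ (b : ℕ∞) + LocCoh.idealDepth p.asIdeal M := by
    exact_mod_cast H2
  have hat : a ≤ LocCoh.idealDepth p.asIdeal M := by
    rw [add_comm] at H2'
    exact (ENat.add_le_add_iff_left (ENat.natCast_ne_top b)).mp H2'
  have D' : LocCoh.depth (Localization.AtPrime p.asIdeal)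
      (LocalizedModule p.asIdeal.primeCompl M) ≤ a := by exact_mod_cast D
  have e1 : a = LocCoh.idealDepth p.asIdeal M := le_antisymm hat (L.trans D')
  have e2 : LocCoh.idealDepth p.asIdeal M = LocCoh.depth (Localization.AtPrime p.asIdeal)
      (LocalizedModule p.asIdeal.primeCompl M) := le_antisymm L (D'.trans hat)
  exact ⟨by rw [e1], e2⟩

theorem isCohenMacaulayModule_localization (hM : LocCoh.IsCohenMacaulayModule R M)
    (p : PrimeSpectrum R) (hp : p ∈ Module.support R M) :
    LocCoh.IsCohenMacaulayModule (Localization.AtPrime p.asIdeal)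
      (LocalizedModule p.asIdeal.primeCompl M) := by
  obtain ⟨h1, h2⟩ := cm_localization_aux hM p hp
  unfold LocCoh.IsCohenMacaulayModule
  rw [h1, h2]

theorem supportDim_eq_add_localization_of_isCohenMacaulayModule
    (hM : LocCoh.IsCohenMacaulayModule R M) (p : PrimeSpectrum R)
    (hp : p ∈ Module.support R M) :
    Module.supportDim R M = Module.supportDim R (M ⧸ (p.asIdeal • ⊤ : Submodule R M)) +
      Module.supportDim (Localization.AtPrime p.asIdeal)
        (LocalizedModule p.asIdeal.primeCompl M) := by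
  obtain ⟨h1, -⟩ := cm_localization_aux hM p hp
  rw [h1]
  exact supportDim_eq_add_idealDepth_of_isCohenMacaulayModule p.asIdeal p.2.ne_top hM

end CM

end Groth.Agent.Lib.Helper28
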