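import Groth.Agent.Lib.Helper28DepthBC
import Groth.Agent.Lib.Helper28DepthLoc
import Groth.Agent.Lib.Helper28DepthSk
import Groth.Agent.Lib.Helper28DepthCM
import Groth.Agent.Lib.Helper5IntDim

/-!
# Helper5FinDimDepth: dimension and depth of `M_p` over `A_p` for a `B`-module `M` finite over `A`
(EGA 0_IV 16.4.8-type statement): sup / inf over the primes of `B` above `p` in the support.
-/

set_option autoImplicit false
universe u

namespace Groth.Agent.Lib.Helper5.FinDimDepth
open Groth.Agent.Lib.Helper28 Groth.Agent.Lib.Helper5

section LocalCase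

variable {R : Type u} [CommRing R] [IsLocalRing R] [IsNoetherianRing R]
  {E : Type u} [CommRing E] [IsNoetherianRing E] [Algebra R E]
  {N : Type u} [AddCommGroup N] [Module E N] [Module R N] [IsScalarTower R E N]
  [Module.Finite R N]

omit [IsNoetherianRing E] in
theorem map_maximalIdeal_le_of_isMaximal_of_mem_support (Q : PrimeSpectrum E)
    (hQ : Q.asIdeal.IsMaximal) (hs : Q ∈ Module.support E N) :
    (IsLocalRing.maximalIdeal R).map (algebraMap R E) ≤ Q.asIdeal := by
  have hEfin : Module.Finite E N := Module.Finite.of_restrictScalars_finite R E N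
  have hann : Module.annihilator E N ≤ Q.asIdeal := Module.mem_support_iff_of_finite.mp hs
  have hfin : Module.Finite R (E ⧸ Module.annihilator E N) := finite_quotient_annihilator R E N
  have hint : Algebra.IsIntegral R (E ⧸ Module.annihilator E N) := Algebra.IsIntegral.of_finite R _
  obtain ⟨Qb, hQb⟩ : ∃ Qb, Qb = Q.asIdeal.map (Ideal.Quotient.mk (Module.annihilator E N)) :=
    ⟨_, rfl⟩
  have hcm : Qb.comap (Ideal.Quotient.mk (Module.annihilator E N)) = Q.asIdeal := by
    rw [hQb, Ideal.comap_map_of_surjective _ Ideal.Quotient.mk_surjective,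
      ← RingHom.ker_eq_comap_bot, Ideal.mk_ker]
    exact sup_eq_left.mpr hann
  have hQbmax : Qb.IsMaximal := by
    rcases Ideal.map_eq_top_or_isMaximal_of_surjective
      (Ideal.Quotient.mk (Module.annihilator E N)) Ideal.Quotient.mk_surjective hQ with h | h
    · exfalso
      rw [← hQb] at h
      rw [h, Ideal.comap_top] at hcm
      exact hQ.ne_top hcm.symm
    · rw [hQb]; exact h
  have hmax : (Qb.comap (algebraMap R (E ⧸ Module.annihilator E N))).IsMaximal :=
    Ideal.isMaximal_comap_of_isIntegral_of_isMaximal Qb
  have hcomp : Qb.comap (algebraMap R (E ⧸ Module.annihilator E N)) =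
      Q.asIdeal.comap (algebraMap R E) := by
    rw [← hcm, Ideal.comap_comap]
    rfl
  rw [hcomp] at hmax
  rw [Ideal.map_le_iff_le_comap, IsLocalRing.eq_maximalIdeal hmax]

theorem supportDim_eq_iSup :
    Module.supportDim R N = ⨆ (Q : PrimeSpectrum E)
      (_ : (IsLocalRing.maximalIdeal R).map (algebraMap R E) ≤ Q.asIdeal ∧
        Q ∈ Module.support E N),
      Module.supportDim (Localization.AtPrime Q.asIdeal)
        (LocalizedModule Q.asIdeal.primeCompl N) := by
  rw [supportDim_eq_supportDim_of_finite R E N]
  apply le_antisymm
  · change (⨆ (l : LTSeries (Module.support E N)), (l.length : WithBot ℕ∞)) ≤ _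
    refine iSup_le fun l => ?_
    obtain ⟨Qm, hQm, hle⟩ := Ideal.exists_le_maximal l.last.1.asIdeal l.last.1.2.ne_top
    obtain ⟨Q, hQdef⟩ : ∃ Q : PrimeSpectrum E, Q = ⟨Qm, hQm.isPrime⟩ := ⟨_, rfl⟩
    have hQmax : Q.asIdeal.IsMaximal := by rw [hQdef]; exact hQm
    have hle' : l.last.1 ≤ Q := by rw [hQdef]; exact hle
    have hQs : Q ∈ Module.support E N := Module.mem_support_mono hle' l.last.2
    have h1 : (l.length : ℕ∞) ≤ Order.height l.last := Order.length_le_height_last
    have h2 : Order.height l.last ≤ Order.height (⟨Q, hQs⟩ : Module.support E N) :=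
      Order.height_mono hle'
    have h3 := supportDim_localization_eq_height Q.asIdeal N hQs
    refine le_iSup₂_of_le Q ⟨map_maximalIdeal_le_of_isMaximal_of_mem_support Q hQmax hQs, hQs⟩ ?_
    rw [h3]
    exact WithBot.coe_le_coe.mpr (h1.trans h2)
  · refine iSup₂_le fun Q hQ => ?_
    rw [supportDim_localization_eq_height Q.asIdeal N hQ.2]
    unfold Module.supportDim
    exact Order.height_le_krullDim _

theorem depth_eq_iInf :
    LocCoh.depth R N = ⨅ (Q : PrimeSpectrum E)
      (_ : (IsLocalRing.maximalIdeal R).map (algebraMap R E) ≤ Q.asIdeal ∧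
        Q ∈ Module.support E N),
      LocCoh.depth (Localization.AtPrime Q.asIdeal)
        (LocalizedModule Q.asIdeal.primeCompl N) := by
  have hEfin : Module.Finite E N := Module.Finite.of_restrictScalars_finite R E N
  have h1 : LocCoh.depth R N =
      LocCoh.idealDepth ((IsLocalRing.maximalIdeal R).map (algebraMap R E)) N :=
    idealDepth_restrictScalars_eq_idealDepth_map (B := E) (IsLocalRing.maximalIdeal R) N
  rw [h1, idealDepth_eq_iInf_depth_localization]
  apply le_antisymm
  · exact le_iInf₂ fun Q hQ => iInf₂_le Q hQ.1
  · refine le_iInf₂ fun Q hQ => ?_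
    by_cases hs : Q ∈ Module.support E N
    · exact iInf₂_le Q ⟨hQ, hs⟩
    · rw [Module.notMem_support_iff] at hs
      rw [depth_eq_top_of_subsingleton]
      exact le_top

end LocalCase

section Transport

theorem transport_aux {B : Type u} [CommRing B] [IsNoetherianRing B] (q : Ideal B) [q.IsPrime]
    (M : Type u) [AddCommGroup M] [Module B M] [Module.Finite B M]
    (C2 : Type u) [CommRing C2] [Algebra B C2] [IsLocalization.AtPrime C2 q] [IsLocalRing C2]
    (N2 : Type u) [AddCommGroup N2] [Module B N2] [Module C2 N2] [IsScalarTower B C2 N2]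
    (f2 : M →ₗ[B] N2) [IsLocalizedModule q.primeCompl f2] :
    LocCoh.depth C2 N2 =
      LocCoh.depth (Localization.AtPrime q) (LocalizedModule q.primeCompl M) ∧
    Module.supportDim C2 N2 =
      Module.supportDim (Localization.AtPrime q) (LocalizedModule q.primeCompl M) := by
  haveI hNC2 : IsNoetherianRing C2 := IsLocalization.isNoetherianRing q.primeCompl C2 inferInstance
  haveI hNC1 : IsNoetherianRing (Localization.AtPrime q) :=
    IsLocalization.isNoetherianRing q.primeCompl _ inferInstance
  let e : Localization.AtPrime q ≃ₐ[B] C2 :=
    IsLocalization.algEquiv q.primeCompl (Localization.AtPrime q) C2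
  letI algC : Algebra (Localization.AtPrime q) C2 := e.toRingEquiv.toRingHom.toAlgebra
  haveI hloc : IsLocalHom (algebraMap (Localization.AtPrime q) C2) := by
    change IsLocalHom (e.toRingEquiv.toRingHom)
    exact isLocalHom_toRingHom e.toRingEquiv
  haveI tBC1C2 : IsScalarTower B (Localization.AtPrime q) C2 :=
    IsScalarTower.of_algebraMap_eq fun b => (e.commutes b).symm
  letI modC1 : Module (Localization.AtPrime q) N2 :=
    Module.compHom N2 (algebraMap (Localization.AtPrime q) C2)
  haveI tC1C2N2 : IsScalarTower (Localization.AtPrime q) C2 N2 :=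
    ⟨fun c1 c n => by
      change (c1 • c) • n = algebraMap (Localization.AtPrime q) C2 c1 • (c • n)
      rw [Algebra.smul_def, mul_smul]⟩
  haveI tBC1N2 : IsScalarTower B (Localization.AtPrime q) N2 :=
    IsScalarTower.of_algebraMap_smul fun b n => by
      change algebraMap (Localization.AtPrime q) C2 (algebraMap B (Localization.AtPrime q) b) • n =
        b • n
      rw [← IsScalarTower.algebraMap_apply B (Localization.AtPrime q) C2, algebraMap_smul]
  let g := IsLocalizedModule.linearEquiv q.primeCompl
    (LocalizedModule.mkLinearMap q.primeCompl M) f2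
  let gC := g.extendScalarsOfIsLocalization q.primeCompl (Localization.AtPrime q)
  haveI hfin1 : Module.Finite (Localization.AtPrime q) (LocalizedModule q.primeCompl M) :=
    inferInstance
  haveI hfin2 : Module.Finite (Localization.AtPrime q) N2 := Module.Finite.equiv gC
  constructor
  · rw [← depth_eq_depth_of_isLocalHom_of_finite (A := Localization.AtPrime q) (B := C2) (M := N2)]
    exact (idealDepth_congr gC _).symm
  · rw [← supportDim_eq_supportDim_of_finite (Localization.AtPrime q) C2 N2]
    exact (Module.supportDim_eq_of_equiv gC).symm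

variable {B : Type u} [CommRing B] [IsNoetherianRing B] (T : Submonoid B)
  (M : Type u) [AddCommGroup M] [Module B M] [Module.Finite B M]
  (Q : Ideal (Localization T)) [hQ : Q.IsPrime]

theorem transport :
    LocCoh.depth (Localization.AtPrime Q) (LocalizedModule Q.primeCompl (LocalizedModule T M)) =
      LocCoh.depth (Localization.AtPrime (Q.comap (algebraMap B (Localization T))))
        (LocalizedModule (Q.comap (algebraMap B (Localization T))).primeCompl M) ∧
    Module.supportDim (Localization.AtPrime Q)
        (LocalizedModule Q.primeCompl (LocalizedModule T M)) =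
      Module.supportDim (Localization.AtPrime (Q.comap (algebraMap B (Localization T))))
        (LocalizedModule (Q.comap (algebraMap B (Localization T))).primeCompl M) := by
  have h1 : IsBaseChange (Localization T) (LocalizedModule.mkLinearMap T M) :=
    IsLocalizedModule.isBaseChange T (Localization T) _
  have h2 : IsBaseChange (Localization.AtPrime Q)
      (LocalizedModule.mkLinearMap Q.primeCompl (LocalizedModule T M)) :=
    IsLocalizedModule.isBaseChange Q.primeCompl (Localization.AtPrime Q) _
  have h3 := IsBaseChange.comp h1 h2
  haveI h4 : IsLocalizedModule (Q.comap (algebraMap B (Localization T))).primeCompl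
      (((LocalizedModule.mkLinearMap Q.primeCompl (LocalizedModule T M)).restrictScalars B).comp
        (LocalizedModule.mkLinearMap T M)) :=
    (isLocalizedModule_iff_isBaseChange (Q.comap (algebraMap B (Localization T))).primeCompl
      (Localization.AtPrime Q) _).mpr h3
  exact transport_aux (Q.comap (algebraMap B (Localization T))) M (Localization.AtPrime Q)
    (LocalizedModule Q.primeCompl (LocalizedModule T M))
    (((LocalizedModule.mkLinearMap Q.primeCompl (LocalizedModule T M)).restrictScalars B).comp
        (LocalizedModule.mkLinearMap T M))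

end Transport


section Global

variable (A B : Type u) [CommRing A] [CommRing B] [IsNoetherianRing A] [IsNoetherianRing B]
  [Algebra A B] (M : Type u) [AddCommGroup M] [Module B M] [Module A M] [IsScalarTower A B M]
  [Module.Finite A M] (p : Ideal A) [hp : p.IsPrime]

set_option maxHeartbeats 1000000 in
theorem main :
    Module.supportDim (Localization.AtPrime p) (LocalizedModule p.primeCompl M) =
        ⨆ q ∈ {q : PrimeSpectrum B | q.asIdeal.comap (algebraMap A B) = p ∧ q ∈ Module.support B M},
          Module.supportDim (Localization.AtPrime q.asIdeal) (LocalizedModule q.asIdeal.primeCompl M) ∧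
      LocCoh.depth (Localization.AtPrime p) (LocalizedModule p.primeCompl M) =
        ⨅ q ∈ {q : PrimeSpectrum B | q.asIdeal.comap (algebraMap A B) = p ∧ q ∈ Module.support B M},
          LocCoh.depth (Localization.AtPrime q.asIdeal) (LocalizedModule q.asIdeal.primeCompl M) := by
  haveI hBfin : Module.Finite B M := Module.Finite.of_restrictScalars_finite A B M
  obtain ⟨T, hT⟩ : ∃ T : Submonoid B, T = Algebra.algebraMapSubmonoid B p.primeCompl := ⟨_, rfl⟩
  subst hT
  haveI hNR : IsNoetherianRing (Localization.AtPrime p) :=
    IsLocalization.isNoetherianRing p.primeCompl _ inferInstance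
  haveI hNB' : IsNoetherianRing (Localization (Algebra.algebraMapSubmonoid B p.primeCompl)) :=
    IsLocalization.isNoetherianRing (Algebra.algebraMapSubmonoid B p.primeCompl) _ inferInstance
  letI modR : Module (Localization.AtPrime p)
      (LocalizedModule (Algebra.algebraMapSubmonoid B p.primeCompl) M) :=
    Module.compHom _ (algebraMap (Localization.AtPrime p)
      (Localization (Algebra.algebraMapSubmonoid B p.primeCompl)))
  haveI tRB'N' : IsScalarTower (Localization.AtPrime p)
      (Localization (Algebra.algebraMapSubmonoid B p.primeCompl))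
      (LocalizedModule (Algebra.algebraMapSubmonoid B p.primeCompl) M) :=
    ⟨fun r b n => by
      change (r • b) • n = algebraMap (Localization.AtPrime p)
        (Localization (Algebra.algebraMapSubmonoid B p.primeCompl)) r • (b • n)
      rw [Algebra.smul_def, mul_smul]⟩
  haveI tARN' : IsScalarTower A (Localization.AtPrime p)
      (LocalizedModule (Algebra.algebraMapSubmonoid B p.primeCompl) M) :=
    IsScalarTower.of_algebraMap_smul fun a n => by
      change algebraMap (Localization.AtPrime p)
        (Localization (Algebra.algebraMapSubmonoid B p.primeCompl))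
          (algebraMap A (Localization.AtPrime p) a) • n = a • n
      rw [← IsScalarTower.algebraMap_apply A (Localization.AtPrime p)
        (Localization (Algebra.algebraMapSubmonoid B p.primeCompl)), algebraMap_smul]
  haveI hloc' : IsLocalizedModule p.primeCompl
      ((LocalizedModule.mkLinearMap (Algebra.algebraMapSubmonoid B p.primeCompl) M).restrictScalars
        A) :=
    IsLocalizedModule.restrictScalars p.primeCompl
      (LocalizedModule.mkLinearMap (Algebra.algebraMapSubmonoid B p.primeCompl) M)
  let gN := (IsLocalizedModule.linearEquiv p.primeCompl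
    (LocalizedModule.mkLinearMap p.primeCompl M)
    ((LocalizedModule.mkLinearMap (Algebra.algebraMapSubmonoid B p.primeCompl) M).restrictScalars
        A)).extendScalarsOfIsLocalization p.primeCompl (Localization.AtPrime p)
  haveI hfinN : Module.Finite (Localization.AtPrime p) (LocalizedModule p.primeCompl M) :=
    inferInstance
  haveI hfinN' : Module.Finite (Localization.AtPrime p)
      (LocalizedModule (Algebra.algebraMapSubmonoid B p.primeCompl) M) := Module.Finite.equiv gN
  have hdim1 := Module.supportDim_eq_of_equiv gN
  have hdep1 : LocCoh.depth (Localization.AtPrime p) (LocalizedModule p.primeCompl M) =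
      LocCoh.depth (Localization.AtPrime p)
        (LocalizedModule (Algebra.algebraMapSubmonoid B p.primeCompl) M) :=
    idealDepth_congr gN _
  have hdim2 := supportDim_eq_iSup (R := Localization.AtPrime p)
    (E := Localization (Algebra.algebraMapSubmonoid B p.primeCompl))
    (N := LocalizedModule (Algebra.algebraMapSubmonoid B p.primeCompl) M)
  have hdep2 := depth_eq_iInf (R := Localization.AtPrime p)
    (E := Localization (Algebra.algebraMapSubmonoid B p.primeCompl))
    (N := LocalizedModule (Algebra.algebraMapSubmonoid B p.primeCompl) M)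
  -- correspondence of index sets
  have K1 : ∀ Q : PrimeSpectrum (Localization (Algebra.algebraMapSubmonoid B p.primeCompl)),
      ((IsLocalRing.maximalIdeal (Localization.AtPrime p)).map (algebraMap (Localization.AtPrime p)
        (Localization (Algebra.algebraMapSubmonoid B p.primeCompl))) ≤ Q.asIdeal ∧
        Q ∈ Module.support (Localization (Algebra.algebraMapSubmonoid B p.primeCompl))
          (LocalizedModule (Algebra.algebraMapSubmonoid B p.primeCompl) M)) →
      (PrimeSpectrum.comap (algebraMap B
        (Localization (Algebra.algebraMapSubmonoid B p.primeCompl))) Q).asIdeal.comap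
          (algebraMap A B) = p ∧
        PrimeSpectrum.comap (algebraMap B
          (Localization (Algebra.algebraMapSubmonoid B p.primeCompl))) Q ∈ Module.support B M := by
    rintro Q ⟨hm, hs⟩
    have hQR : Q.asIdeal.comap (algebraMap (Localization.AtPrime p)
        (Localization (Algebra.algebraMapSubmonoid B p.primeCompl))) =
        IsLocalRing.maximalIdeal (Localization.AtPrime p) := by
      have hle := Ideal.map_le_iff_le_comap.mp hm
      exact ((IsLocalRing.maximalIdeal.isMaximal (Localization.AtPrime p)).eq_of_le
        (Ideal.comap_ne_top _ Q.2.ne_top) hle).symm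
    refine ⟨?_, (mem_support_isLocalizedModule_iff (Algebra.algebraMapSubmonoid B p.primeCompl)
      (Localization (Algebra.algebraMapSubmonoid B p.primeCompl))
      (LocalizedModule.mkLinearMap (Algebra.algebraMapSubmonoid B p.primeCompl) M) Q).mp hs⟩
    rw [PrimeSpectrum.comap_asIdeal, Ideal.comap_comap, ← IsScalarTower.algebraMap_eq A B
      (Localization (Algebra.algebraMapSubmonoid B p.primeCompl)),
      IsScalarTower.algebraMap_eq A (Localization.AtPrime p)
      (Localization (Algebra.algebraMapSubmonoid B p.primeCompl)), ← Ideal.comap_comap, hQR]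
    exact Localization.AtPrime.under_maximalIdeal
  have K2 : ∀ q : PrimeSpectrum B,
      (q.asIdeal.comap (algebraMap A B) = p ∧ q ∈ Module.support B M) →
      ∃ Q : PrimeSpectrum (Localization (Algebra.algebraMapSubmonoid B p.primeCompl)),
        ((IsLocalRing.maximalIdeal (Localization.AtPrime p)).map
          (algebraMap (Localization.AtPrime p)
            (Localization (Algebra.algebraMapSubmonoid B p.primeCompl))) ≤ Q.asIdeal ∧
          Q ∈ Module.support (Localization (Algebra.algebraMapSubmonoid B p.primeCompl))
            (LocalizedModule (Algebra.algebraMapSubmonoid B p.primeCompl) M)) ∧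
        PrimeSpectrum.comap (algebraMap B
          (Localization (Algebra.algebraMapSubmonoid B p.primeCompl))) Q = q := by
    rintro q ⟨hq1, hq2⟩
    have hdisj : Disjoint ((Algebra.algebraMapSubmonoid B p.primeCompl : Submonoid B) : Set B)
        (q.asIdeal : Set B) := by
      rw [Set.disjoint_left]
      rintro _ ⟨s, hs, rfl⟩ hmem
      apply hs
      rw [← hq1]
      exact hmem
    have hprime : (q.asIdeal.map (algebraMap B
        (Localization (Algebra.algebraMapSubmonoid B p.primeCompl)))).IsPrime :=
      IsLocalization.isPrime_of_isPrime_disjoint (Algebra.algebraMapSubmonoid B p.primeCompl) _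
        q.asIdeal q.2 hdisj
    have hcomap : (q.asIdeal.map (algebraMap B
        (Localization (Algebra.algebraMapSubmonoid B p.primeCompl)))).comap (algebraMap B
        (Localization (Algebra.algebraMapSubmonoid B p.primeCompl))) = q.asIdeal :=
      IsLocalization.under_map_of_isPrime_disjoint (Algebra.algebraMapSubmonoid B p.primeCompl) _
        q.2 hdisj
    have hQq : PrimeSpectrum.comap (algebraMap B
        (Localization (Algebra.algebraMapSubmonoid B p.primeCompl)))
        ⟨q.asIdeal.map (algebraMap B
          (Localization (Algebra.algebraMapSubmonoid B p.primeCompl))), hprime⟩ = q :=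
      PrimeSpectrum.ext hcomap
    refine ⟨⟨q.asIdeal.map (algebraMap B
      (Localization (Algebra.algebraMapSubmonoid B p.primeCompl))), hprime⟩, ⟨?_, ?_⟩, hQq⟩
    · change Ideal.map _ (IsLocalRing.maximalIdeal (Localization.AtPrime p)) ≤
        q.asIdeal.map (algebraMap B (Localization (Algebra.algebraMapSubmonoid B p.primeCompl)))
      rw [← Localization.AtPrime.map_eq_maximalIdeal, Ideal.map_map,
        ← IsScalarTower.algebraMap_eq A (Localization.AtPrime p)
          (Localization (Algebra.algebraMapSubmonoid B p.primeCompl)),
        IsScalarTower.algebraMap_eq A B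
          (Localization (Algebra.algebraMapSubmonoid B p.primeCompl)), ← Ideal.map_map]
      exact Ideal.map_mono (Ideal.map_le_iff_le_comap.mpr hq1.ge)
    · rw [mem_support_isLocalizedModule_iff (Algebra.algebraMapSubmonoid B p.primeCompl)
        (Localization (Algebra.algebraMapSubmonoid B p.primeCompl))
        (LocalizedModule.mkLinearMap (Algebra.algebraMapSubmonoid B p.primeCompl) M), hQq]
      exact hq2
  have K3 := fun Q : PrimeSpectrum (Localization (Algebra.algebraMapSubmonoid B p.primeCompl)) =>
    transport (Algebra.algebraMapSubmonoid B p.primeCompl) M Q.asIdeal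
  constructor
  · rw [hdim1, hdim2]
    apply le_antisymm
    · refine iSup₂_le fun Q hQ => ?_
      rw [(K3 Q).2]
      exact le_iSup₂_of_le (PrimeSpectrum.comap (algebraMap B
        (Localization (Algebra.algebraMapSubmonoid B p.primeCompl))) Q) (K1 Q hQ) le_rfl
    · refine iSup₂_le fun q hq => ?_
      obtain ⟨Q, hQ, rfl⟩ := K2 q hq
      refine le_iSup₂_of_le Q hQ ?_
      rw [(K3 Q).2]
      exact le_rfl
  · rw [hdep1, hdep2]
    apply le_antisymm
    · refine le_iInf₂ fun q hq => ?_
      obtain ⟨Q, hQ, rfl⟩ := K2 q hq
      refine iInf₂_le_of_le Q hQ ?_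
      rw [(K3 Q).1]
      exact le_rfl
    · refine le_iInf₂ fun Q hQ => ?_
      rw [(K3 Q).1]
      exact iInf₂_le_of_le (PrimeSpectrum.comap (algebraMap B
        (Localization (Algebra.algebraMapSubmonoid B p.primeCompl))) Q) (K1 Q hQ) le_rfl

end Global

end Groth.Agent.Lib.Helper5.FinDimDepth
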