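import Mathlib
import Groth.Agent.Lib.Helper5FinDimDepth
import Groth.Agent.Lib.Helper5CM

/-!
# Helper5GenDepth: depth and dimension of `M_q` for `q` generic in `V(p)` (EGA IV 6.10.6-type)

For a Noetherian ring `A`, a finite module `M` and a prime `p ∈ Supp M` there is `f ∉ p` such that
for all primes `q ⊇ p` with `f ∉ q`: `dim M_q = dim M_p + dim (A/p)_q` and
`depth M_q = depth M_p + depth (A/p)_q`.  Proof by Noetherian induction on quotients of `M`.
-/

set_option autoImplicit false
universe u

namespace Groth.Agent.Lib.Helper5.GenDepth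
open Groth.Agent.Lib.Helper28 Groth.Agent.Lib.Helper5 RingTheory.Sequence

variable {A : Type u} [CommRing A] [IsNoetherianRing A]

/-- depth of the localization at `q`. -/
noncomputable def dep (q : Ideal A) [q.IsPrime] (X : Type u) [AddCommGroup X] [Module A X] : ℕ∞ :=
  LocCoh.depth (Localization.AtPrime q) (LocalizedModule q.primeCompl X)

/-- dimension of the localization at `q`. -/
noncomputable def dm (q : Ideal A) [q.IsPrime] (X : Type u) [AddCommGroup X] [Module A X] :
    WithBot ℕ∞ :=
  Module.supportDim (Localization.AtPrime q) (LocalizedModule q.primeCompl X)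

theorem dep_dm_congr (q : Ideal A) [q.IsPrime] {X Y : Type u} [AddCommGroup X] [Module A X]
    [AddCommGroup Y] [Module A Y] [Module.Finite A X] (e : X ≃ₗ[A] Y) :
    dep q X = dep q Y ∧ dm q X = dm q Y := by
  obtain ⟨h1, h2⟩ := FinDimDepth.transport_aux q X (Localization.AtPrime q)
    (LocalizedModule q.primeCompl Y)
    ((LocalizedModule.mkLinearMap q.primeCompl Y) ∘ₗ e.toLinearMap)
  exact ⟨h1.symm, h2.symm⟩

theorem dep_dm_quotient (q : Ideal A) [q.IsPrime] (I : Ideal A) :
    dep q (A ⧸ I) = LocCoh.depth (Localization.AtPrime q)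
        (Localization.AtPrime q ⧸ I.map (algebraMap A (Localization.AtPrime q))) ∧
    dm q (A ⧸ I) = Module.supportDim (Localization.AtPrime q)
        (Localization.AtPrime q ⧸ I.map (algebraMap A (Localization.AtPrime q))) := by
  have hEq : Submodule.localized' (Localization.AtPrime q) q.primeCompl
      (Algebra.linearMap A (Localization.AtPrime q)) I =
      I.map (algebraMap A (Localization.AtPrime q)) :=
    Ideal.localized'_eq_map (Localization.AtPrime q) q.primeCompl I
  let e := Submodule.quotEquivOfEq _ _ hEq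
  let f2 : (A ⧸ I) →ₗ[A]
      (Localization.AtPrime q ⧸ I.map (algebraMap A (Localization.AtPrime q))) :=
    (e.restrictScalars A).toLinearMap ∘ₗ
      (Submodule.toLocalizedQuotient' (Localization.AtPrime q) q.primeCompl
        (Algebra.linearMap A (Localization.AtPrime q)) I)
  haveI : IsLocalizedModule q.primeCompl f2 :=
    IsLocalizedModule.of_linearEquiv q.primeCompl
      (Submodule.toLocalizedQuotient' (Localization.AtPrime q) q.primeCompl
        (Algebra.linearMap A (Localization.AtPrime q)) I) (e.restrictScalars A)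
  obtain ⟨h1, h2⟩ := FinDimDepth.transport_aux q (A ⧸ I) (Localization.AtPrime q)
    (Localization.AtPrime q ⧸ I.map (algebraMap A (Localization.AtPrime q))) f2
  exact ⟨h1.symm, h2.symm⟩

theorem dep_ne_top (q : Ideal A) [q.IsPrime] (Y : Type u) [AddCommGroup Y] [Module A Y]
    [Module.Finite A Y]
    (hq : (⟨q, inferInstance⟩ : PrimeSpectrum A) ∈ Module.support A Y) : dep q Y ≠ ⊤ := by
  haveI : Nontrivial (LocalizedModule q.primeCompl Y) := Module.mem_support_iff.mp hq
  haveI : IsNoetherianRing (Localization.AtPrime q) :=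
    IsLocalization.isNoetherianRing q.primeCompl _ inferInstance
  exact Groth.Agent.Lib.Helper5.depth_ne_top

section SES

theorem supportDim_le_max_of_exact {R : Type u} [CommRing R] {N₁ N₂ N₃ : Type u}
    [AddCommGroup N₁] [Module R N₁] [AddCommGroup N₂] [Module R N₂]
    [AddCommGroup N₃] [Module R N₃] (f : N₁ →ₗ[R] N₂) (g : N₂ →ₗ[R] N₃)
    (hf : Function.Injective f) (hg : Function.Surjective g) (hfg : Function.Exact f g) :
    Module.supportDim R N₂ ≤ max (Module.supportDim R N₁) (Module.supportDim R N₃) := by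
  unfold Module.supportDim
  rw [Order.krullDim]
  apply iSup_le
  intro p
  have hsupp := Module.support_of_exact hfg hf hg
  have hhead : (p.head : PrimeSpectrum R) ∈ Module.support R N₁ ∪ Module.support R N₃ := by
    rw [← hsupp]
    exact p.head.2
  rcases hhead with h | h
  · refine le_trans ?_ (le_max_left _ _)
    let q : LTSeries (Module.support R N₁) :=
      { length := p.length
        toFun := fun i => ⟨(p i).1, Module.mem_support_mono (p.head_le i) h⟩
        step := fun i => p.step i }
    exact Order.LTSeries.length_le_krullDim q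
  · refine le_trans ?_ (le_max_right _ _)
    let q : LTSeries (Module.support R N₃) :=
      { length := p.length
        toFun := fun i => ⟨(p i).1, Module.mem_support_mono (p.head_le i) h⟩
        step := fun i => p.step i }
    exact Order.LTSeries.length_le_krullDim q

variable {N' N N'' : Type u} [AddCommGroup N'] [Module A N'] [AddCommGroup N] [Module A N]
  [AddCommGroup N''] [Module A N''] [Module.Finite A N'] [Module.Finite A N]
  [Module.Finite A N'']

theorem ses_loc (f : N' →ₗ[A] N) (g : N →ₗ[A] N'') (hf : Function.Injective f)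
    (hg : Function.Surjective g) (hfg : Function.Exact f g) (q : Ideal A) [q.IsPrime] :
    min (dep q N') (dep q N'') ≤ dep q N ∧ min (dep q N) (dep q N'' + 1) ≤ dep q N' ∧
      dm q N = max (dm q N') (dm q N'') := by
  haveI : IsNoetherianRing (Localization.AtPrime q) :=
    IsLocalization.isNoetherianRing q.primeCompl _ inferInstance
  obtain ⟨fq, hfq⟩ : ∃ fq : LocalizedModule q.primeCompl N' →ₗ[Localization.AtPrime q]
      LocalizedModule q.primeCompl N, fq = (IsLocalizedModule.map q.primeCompl
        (LocalizedModule.mkLinearMap q.primeCompl N')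
        (LocalizedModule.mkLinearMap q.primeCompl N) f).extendScalarsOfIsLocalization
          q.primeCompl (Localization.AtPrime q) := ⟨_, rfl⟩
  obtain ⟨gq, hgq⟩ : ∃ gq : LocalizedModule q.primeCompl N →ₗ[Localization.AtPrime q]
      LocalizedModule q.primeCompl N'', gq = (IsLocalizedModule.map q.primeCompl
        (LocalizedModule.mkLinearMap q.primeCompl N)
        (LocalizedModule.mkLinearMap q.primeCompl N'') g).extendScalarsOfIsLocalization
          q.primeCompl (Localization.AtPrime q) := ⟨_, rfl⟩
  have hinj : Function.Injective fq := by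
    rw [hfq]
    exact IsLocalizedModule.map_injective q.primeCompl _ _ f hf
  have hsurj : Function.Surjective gq := by
    rw [hgq]
    exact IsLocalizedModule.map_surjective q.primeCompl _ _ g hg
  have hex : Function.Exact fq gq := by
    rw [hfq, hgq]
    exact IsLocalizedModule.map_exact q.primeCompl _ _ _ f g hfg
  refine ⟨min_idealDepth_le_mid _ fq gq hinj hsurj hex,
    min_idealDepth_le_left _ fq gq hinj hsurj hex, ?_⟩
  apply le_antisymm
  · exact supportDim_le_max_of_exact fq gq hinj hsurj hex
  · exact max_le (Module.supportDim_le_of_injective fq hinj)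
      (Module.supportDim_le_of_surjective gq hsurj)

end SES

section Spread

variable (p : Ideal A) [hpp : p.IsPrime] (X : Type u) [AddCommGroup X] [Module A X]
  [Module.Finite A X]

theorem mk_eq_zero_iff {S : Submonoid A} {Y : Type u} [AddCommGroup Y] [Module A Y] (m : Y)
    (s : S) : LocalizedModule.mk m s = 0 ↔ ∃ s' : S, s' • m = 0 := by
  rw [IsLocalizedModule.mk_eq_mk', IsLocalizedModule.mk'_eq_zero']

theorem exists_subsingleton_nhd
    (hX : (⟨p, inferInstance⟩ : PrimeSpectrum A) ∉ Module.support A X) :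
    ∃ f : A, f ∉ p ∧ ∀ (q : Ideal A) [q.IsPrime], f ∉ q →
      Subsingleton (LocalizedModule q.primeCompl X) := by
  rw [Module.mem_support_iff_of_finite] at hX
  obtain ⟨f, hf, hfp⟩ := SetLike.not_le_iff_exists.mp hX
  refine ⟨f, hfp, fun q _ hfq => ?_⟩
  have hq : (⟨q, inferInstance⟩ : PrimeSpectrum A) ∉ Module.support A X := by
    rw [Module.mem_support_iff_of_finite]
    exact fun hle => hfq (hle hf)
  exact Module.notMem_support_iff.mp hq

theorem exists_regular_nhd (x : A)
    (hx : IsSMulRegular (LocalizedModule p.primeCompl X)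
      (algebraMap A (Localization.AtPrime p) x)) :
    ∃ f : A, f ∉ p ∧ ∀ (q : Ideal A) [q.IsPrime], f ∉ q →
      IsSMulRegular (LocalizedModule q.primeCompl X)
        (algebraMap A (Localization.AtPrime q) x) := by
  haveI : IsNoetherian A X := isNoetherian_of_isNoetherianRing_of_finite A X
  obtain ⟨K, hK⟩ : ∃ K : Submodule A X, K = LinearMap.ker (LinearMap.lsmul A X x) := ⟨_, rfl⟩
  have hKmem : ∀ m : X, m ∈ K ↔ x • m = 0 := by
    intro m
    rw [hK, LinearMap.mem_ker, LinearMap.lsmul_apply]
  have hKp : (⟨p, inferInstance⟩ : PrimeSpectrum A) ∉ Module.support A K := by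
    rw [Module.notMem_support_iff']
    intro m
    have hxm : x • (m : X) = 0 := (hKmem _).mp m.2
    have h0 : (algebraMap A (Localization.AtPrime p) x) •
        LocalizedModule.mk (m : X) (1 : p.primeCompl) = 0 := by
      rw [algebraMap_smul, LocalizedModule.smul'_mk, hxm, LocalizedModule.zero_mk]
    have h1 : LocalizedModule.mk (m : X) (1 : p.primeCompl) = 0 :=
      hx.right_eq_zero_of_smul h0
    obtain ⟨u, hu⟩ := (mk_eq_zero_iff _ _).mp h1
    refine ⟨u.1, u.2, ?_⟩
    apply Subtype.ext
    rw [Submodule.coe_smul, Submodule.coe_zero]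
    exact hu
  rw [Module.mem_support_iff_of_finite] at hKp
  obtain ⟨f, hf, hfp⟩ := SetLike.not_le_iff_exists.mp hKp
  refine ⟨f, hfp, fun q _ hfq => ?_⟩
  rw [isSMulRegular_iff_right_eq_zero_of_smul]
  intro y hy
  induction y using LocalizedModule.induction_on with
  | h m s =>
    rw [algebraMap_smul, LocalizedModule.smul'_mk, mk_eq_zero_iff] at hy
    obtain ⟨t, ht⟩ := hy
    have hmem : (t : A) • m ∈ K := by
      rw [hKmem, smul_comm]
      exact ht
    have hkill : f • ((t : A) • m) = 0 := by
      have h2 := (Module.mem_annihilator.mp hf) (⟨_, hmem⟩ : K)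
      exact congrArg Subtype.val h2
    rw [mk_eq_zero_iff]
    refine ⟨⟨f, hfq⟩ * t, ?_⟩
    rw [Submonoid.smul_def, Submonoid.coe_mul, mul_smul]
    exact hkill

theorem exists_regular_of_dep_ne_zero
    (hp : (⟨p, inferInstance⟩ : PrimeSpectrum A) ∈ Module.support A X) (h : dep p X ≠ 0) :
    ∃ x ∈ p, IsSMulRegular (LocalizedModule p.primeCompl X)
      (algebraMap A (Localization.AtPrime p) x) := by
  haveI : Nontrivial (LocalizedModule p.primeCompl X) := Module.mem_support_iff.mp hp
  haveI : IsNoetherianRing (Localization.AtPrime p) :=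
    IsLocalization.isNoetherianRing p.primeCompl _ inferInstance
  have hIM : IsLocalRing.maximalIdeal (Localization.AtPrime p) •
      (⊤ : Submodule (Localization.AtPrime p) (LocalizedModule p.primeCompl X)) ≠ ⊤ :=
    maximalIdeal_smul_top_ne_top
  have h1 : 1 ≤ LocCoh.idealDepth (IsLocalRing.maximalIdeal (Localization.AtPrime p))
      (LocalizedModule p.primeCompl X) := Order.one_le_iff_ne_zero.mpr h
  obtain ⟨r, hr, hreg⟩ := (one_le_idealDepth_iff hIM).mp h1
  obtain ⟨a, s, rfl⟩ := IsLocalization.exists_mk'_eq p.primeCompl r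
  refine ⟨a, ?_, ?_⟩
  · exact (IsLocalization.AtPrime.mk'_mem_maximal_iff (Localization.AtPrime p) p a s).mp hr
  · have h2 : algebraMap A (Localization.AtPrime p) a =
        algebraMap A (Localization.AtPrime p) s *
          IsLocalization.mk' (Localization.AtPrime p) a s :=
      (IsLocalization.mk'_spec' _ a s).symm
    rw [h2]
    exact IsSMulRegular.mul ((IsLocalization.map_units _ s).isSMulRegular _) hreg

theorem exists_injective_of_dep_eq_zero (h : dep p X = 0) :
    ∃ ι : (A ⧸ p) →ₗ[A] X, Function.Injective ι := by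
  haveI : IsNoetherianRing (Localization.AtPrime p) :=
    IsLocalization.isNoetherianRing p.primeCompl _ inferInstance
  have hass : IsLocalRing.maximalIdeal (Localization.AtPrime p) ∈
      associatedPrimes (Localization.AtPrime p) (LocalizedModule p.primeCompl X) :=
    depth_eq_zero_iff.mp h
  have hass' := Module.associatedPrimes.comap_mem_associatedPrimes_of_mem_associatedPrimes_of_isLocalizedModule_of_fg
    p.primeCompl (LocalizedModule.mkLinearMap p.primeCompl X) _ hass
    ((isNoetherianRing_iff_ideal_fg A).mp inferInstance _)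
  have hcm : Ideal.comap (algebraMap A (Localization.AtPrime p))
      (IsLocalRing.maximalIdeal (Localization.AtPrime p)) = p :=
    Localization.AtPrime.under_maximalIdeal
  rw [hcm] at hass'
  obtain ⟨_, m, hm⟩ := (isAssociatedPrime_iff.mp hass')
  have hker : LinearMap.ker (LinearMap.toSpanSingleton A X m) = p := by
    ext a
    rw [LinearMap.mem_ker, LinearMap.toSpanSingleton_apply, hm, Submodule.mem_colon_singleton,
      Submodule.mem_bot]
  refine ⟨Submodule.liftQ p (LinearMap.toSpanSingleton A X m) (le_of_eq hker.symm), ?_⟩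
  rw [← LinearMap.ker_eq_bot]
  exact Submodule.ker_liftQ_eq_bot _ _ _ (le_of_eq hker)

theorem dep_dm_quot_of_regular
    (hp : (⟨p, inferInstance⟩ : PrimeSpectrum A) ∈ Module.support A X) (x : A) (hxp : x ∈ p)
    (hreg : IsSMulRegular (LocalizedModule p.primeCompl X)
      (algebraMap A (Localization.AtPrime p) x)) :
    dep p (X ⧸ (Ideal.ofList [x] • ⊤ : Submodule A X)) + 1 = dep p X ∧
    dm p (X ⧸ (Ideal.ofList [x] • ⊤ : Submodule A X)) + 1 = dm p X := by
  haveI : IsNoetherianRing (Localization.AtPrime p) :=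
    IsLocalization.isNoetherianRing p.primeCompl _ inferInstance
  haveI : Nontrivial (LocalizedModule p.primeCompl X) := Module.mem_support_iff.mp hp
  have hIM : IsLocalRing.maximalIdeal (Localization.AtPrime p) •
      (⊤ : Submodule (Localization.AtPrime p) (LocalizedModule p.primeCompl X)) ≠ ⊤ :=
    maximalIdeal_smul_top_ne_top
  have hreg' : IsWeaklyRegular (LocalizedModule p.primeCompl X)
      ([x].map (algebraMap A (Localization.AtPrime p))) := by
    rw [List.map_singleton]
    exact (isWeaklyRegular_singleton_iff _ _).mpr hreg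
  have hmem' : ∀ y ∈ [x].map (algebraMap A (Localization.AtPrime p)),
      y ∈ IsLocalRing.maximalIdeal (Localization.AtPrime p) := by
    intro y hy
    obtain ⟨a, ha, rfl⟩ := List.mem_map.mp hy
    rw [List.mem_singleton] at ha
    subst ha
    rw [← Localization.AtPrime.map_eq_maximalIdeal]
    exact Ideal.mem_map_of_mem _ hxp
  have e := localizedQuotOfListEquiv p X [x]
  constructor
  · have h1 := idealDepth_quot_ofList_add_length
      (IsLocalRing.maximalIdeal (Localization.AtPrime p)) (LocalizedModule p.primeCompl X) hIM _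
      hmem' hreg'
    rw [List.length_map, List.length_singleton, Nat.cast_one] at h1
    unfold dep LocCoh.depth
    rw [← idealDepth_congr e]
    exact h1
  · have hR := isRegular_of_isWeaklyRegular_of_mem hreg' hmem' hIM
    have h2 := Module.supportDim_add_length_eq_supportDim_of_isRegular _ hR
    rw [List.length_map, List.length_singleton, Nat.cast_one] at h2
    unfold dm
    rw [← Module.supportDim_eq_of_equiv e]
    exact h2

omit [Module.Finite A X] in
theorem dm_dep_quotient_of_radical (I : Ideal A) (hI : I.radical = p) :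
    dep p (A ⧸ I) = 0 ∧ dm p (A ⧸ I) = 0 := by
  have hIp : I ≤ p := hI ▸ Ideal.le_radical
  have hsupp : (⟨p, inferInstance⟩ : PrimeSpectrum A) ∈ Module.support A (A ⧸ I) := by
    rw [Module.mem_support_iff_of_finite, Ideal.annihilator_quotient]
    exact hIp
  have h3 := supportDim_localization_eq_height p (A ⧸ I) hsupp
  have hmin : IsMin (⟨⟨p, inferInstance⟩, hsupp⟩ : Module.support A (A ⧸ I)) := by
    intro Q _
    have hQs := Q.2
    rw [Module.mem_support_iff_of_finite, Ideal.annihilator_quotient] at hQs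
    have : p ≤ Q.1.asIdeal := hI ▸ (Ideal.IsPrime.radical_le_iff Q.1.2).mpr hQs
    exact this
  have hdm : dm p (A ⧸ I) = 0 := by
    unfold dm
    rw [h3, Order.height_eq_zero.mpr hmin]
    rfl
  refine ⟨?_, hdm⟩
  haveI : Nontrivial (LocalizedModule p.primeCompl (A ⧸ I)) := Module.mem_support_iff.mp hsupp
  haveI : IsNoetherianRing (Localization.AtPrime p) :=
    IsLocalization.isNoetherianRing p.primeCompl _ inferInstance
  have h4 := Groth.Agent.Lib.Helper28.depth_le_supportDim (R := Localization.AtPrime p)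
    (M := LocalizedModule p.primeCompl (A ⧸ I))
  change ((dep p (A ⧸ I) : ℕ∞) : WithBot ℕ∞) ≤ dm p (A ⧸ I) at h4
  rw [hdm] at h4
  have h5 : dep p (A ⧸ I) ≤ 0 := by exact_mod_cast h4
  exact le_antisymm h5 zero_le

end Spread

section Induction

variable (p : Ideal A) [hpp : p.IsPrime]

/-- The generic-point property. -/
def P (Y : Type u) [AddCommGroup Y] [Module A Y] : Prop :=
  (⟨p, inferInstance⟩ : PrimeSpectrum A) ∈ Module.support A Y →
    ∃ f : A, f ∉ p ∧ ∀ (q : Ideal A) [q.IsPrime], p ≤ q → f ∉ q →
      dep q Y = dep p Y + dep q (A ⧸ p) ∧ dm q Y = dm p Y + dm q (A ⧸ p)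

theorem P_congr {Y Z : Type u} [AddCommGroup Y] [Module A Y] [AddCommGroup Z] [Module A Z]
    [Module.Finite A Y] (e : Y ≃ₗ[A] Z) (hY : P p Y) : P p Z := by
  intro hpZ
  have hpY : (⟨p, inferInstance⟩ : PrimeSpectrum A) ∈ Module.support A Y := by
    rw [LinearEquiv.support_eq e]
    exact hpZ
  obtain ⟨f, hfp, hf⟩ := hY hpY
  refine ⟨f, hfp, fun q _ hpq hfq => ?_⟩
  obtain ⟨h1, h2⟩ := hf q hpq hfq
  obtain ⟨hq1, hq2⟩ := dep_dm_congr q e
  obtain ⟨hp1, hp2⟩ := dep_dm_congr p e
  rw [← hq1, ← hq2, ← hp1, ← hp2]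
  exact ⟨h1, h2⟩

theorem step (Y : Type u) [AddCommGroup Y] [Module A Y] [Module.Finite A Y]
    (IH : ∀ S : Submodule A Y, S ≠ ⊥ → P p (Y ⧸ S)) : P p Y := by
  intro hpY
  haveI hNp : Nontrivial (LocalizedModule p.primeCompl Y) := Module.mem_support_iff.mp hpY
  have hsuppq : ∀ (q : Ideal A) [q.IsPrime], p ≤ q →
      (⟨q, inferInstance⟩ : PrimeSpectrum A) ∈ Module.support A Y :=
    fun q _ hpq => Module.mem_support_mono
      (show (⟨p, inferInstance⟩ : PrimeSpectrum A) ≤ ⟨q, inferInstance⟩ from hpq) hpY
  by_cases h0 : dep p Y = 0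
  · obtain ⟨ι, hι⟩ := exists_injective_of_dep_eq_zero p Y h0
    obtain ⟨S, hS⟩ : ∃ S : Submodule A Y, S = LinearMap.range ι := ⟨_, rfl⟩
    haveI : Nontrivial (A ⧸ p) := Ideal.Quotient.nontrivial_iff.mpr hpp.ne_top
    have hSne : S ≠ ⊥ := by
      rw [hS]
      intro hbot
      rw [LinearMap.range_eq_bot] at hbot
      obtain ⟨a, b, hab⟩ := exists_pair_ne (A ⧸ p)
      exact hab (hι (by rw [hbot]; rfl))
    have hexact : Function.Exact ι S.mkQ := by
      rw [hS]
      exact LinearMap.exact_map_mkQ_range ι
    have hsurj : Function.Surjective S.mkQ := Submodule.mkQ_surjective S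
    have hcp : dm p (A ⧸ p) = 0 := (dm_dep_quotient_of_radical p p hpp.radical).2
    have hsuppAp : ∀ (q : Ideal A) [q.IsPrime], p ≤ q →
        (⟨q, inferInstance⟩ : PrimeSpectrum A) ∈ Module.support A (A ⧸ p) := by
      intro q _ hpq
      rw [Module.mem_support_iff_of_finite, Ideal.annihilator_quotient]
      exact hpq
    by_cases hS2 : (⟨p, inferInstance⟩ : PrimeSpectrum A) ∈ Module.support A (Y ⧸ S)
    · obtain ⟨f, hfp, hf⟩ := IH S hSne hS2
      refine ⟨f, hfp, fun q _ hpq hfq => ?_⟩
      obtain ⟨hq1, hq2⟩ := hf q hpq hfq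
      obtain ⟨ha, hb, hc⟩ := ses_loc ι S.mkQ hι hsurj hexact q
      obtain ⟨-, -, hcP⟩ := ses_loc ι S.mkQ hι hsurj hexact p
      have hcne : dep q (A ⧸ p) ≠ ⊤ := dep_ne_top q (A ⧸ p) (hsuppAp q hpq)
      constructor
      · rw [h0, zero_add]
        apply le_antisymm
        · rcases min_le_iff.mp hb with h | h
          · exact h
          · exfalso
            rw [hq1] at h
            have h' : dep q (A ⧸ p) + 1 ≤ dep q (A ⧸ p) :=
              le_trans (add_le_add_left le_add_self 1) h
            exact absurd h' (not_le.mpr ((ENat.lt_add_one_iff hcne).mpr le_rfl))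
        · refine le_trans (le_min le_rfl ?_) ha
          rw [hq1]
          exact le_add_self
      · have hD : (0 : WithBot ℕ∞) ≤ dm p (Y ⧸ S) := by
          have hne : dm p (Y ⧸ S) ≠ ⊥ := by
            haveI : Nontrivial (LocalizedModule p.primeCompl (Y ⧸ S)) :=
              Module.mem_support_iff.mp hS2
            exact Module.supportDim_ne_bot_of_nontrivial _ _
          obtain ⟨d, hd⟩ := WithBot.ne_bot_iff_exists.mp hne
          rw [← hd]
          exact WithBot.coe_le_coe.mpr zero_le
        rw [hc, hcP, hq2, hcp, max_eq_right hD, max_eq_right]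
        calc dm q (A ⧸ p) = 0 + dm q (A ⧸ p) := (zero_add _).symm
          _ ≤ dm p (Y ⧸ S) + dm q (A ⧸ p) := add_le_add_left hD _
    · obtain ⟨f, hfp, hf⟩ := exists_subsingleton_nhd p (Y ⧸ S) hS2
      refine ⟨f, hfp, fun q _ hpq hfq => ?_⟩
      have htop : dep q (Y ⧸ S) = ⊤ := by
        haveI := hf q hfq
        exact depth_eq_top_of_subsingleton
      have hbot : dm q (Y ⧸ S) = ⊥ := by
        haveI := hf q hfq
        exact Module.supportDim_eq_bot_of_subsingleton _ _
      have hbotp : dm p (Y ⧸ S) = ⊥ := by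
        haveI := hf p hfp
        exact Module.supportDim_eq_bot_of_subsingleton _ _
      obtain ⟨ha, hb, hc⟩ := ses_loc ι S.mkQ hι hsurj hexact q
      obtain ⟨-, -, hcP⟩ := ses_loc ι S.mkQ hι hsurj hexact p
      constructor
      · rw [h0, zero_add]
        rw [htop] at ha hb
        apply le_antisymm
        · simpa using hb
        · simpa using ha
      · rw [hc, hcP, hbot, hbotp, hcp, max_bot_right, max_bot_right, zero_add]
  · obtain ⟨x, hxp, hxreg⟩ := exists_regular_of_dep_ne_zero p Y hpY h0
    obtain ⟨f1, hf1p, hf1⟩ := exists_regular_nhd p Y x hxreg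
    obtain ⟨hpA, hpB⟩ := dep_dm_quot_of_regular p Y hpY x hxp hxreg
    obtain ⟨S, hS⟩ : ∃ S : Submodule A Y, S = (Ideal.ofList [x] • ⊤ : Submodule A Y) :=
      ⟨_, rfl⟩
    rw [← hS] at hpA hpB
    have hS2 : (⟨p, inferInstance⟩ : PrimeSpectrum A) ∈ Module.support A (Y ⧸ S) := by
      rw [Module.mem_support_iff, ← Module.supportDim_ne_bot_iff_nontrivial
        (R := Localization.AtPrime p)]
      intro hbot
      change dm p (Y ⧸ S) = ⊥ at hbot
      rw [hbot, WithBot.bot_add] at hpB
      exact Module.supportDim_ne_bot_of_nontrivial (Localization.AtPrime p)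
        (LocalizedModule p.primeCompl Y) hpB.symm
    have hSne : S ≠ ⊥ := by
      intro hbot
      have e : (Y ⧸ S) ≃ₗ[A] Y := Submodule.quotEquivOfEqBot S hbot
      have h1 := (dep_dm_congr p e).1
      rw [h1] at hpA
      have hne := dep_ne_top p Y hpY
      exact absurd hpA.le (not_le.mpr ((ENat.lt_add_one_iff hne).mpr le_rfl))
    obtain ⟨f2, hf2p, hf2⟩ := IH S hSne hS2
    refine ⟨f1 * f2, fun h => (hpp.mem_or_mem h).elim hf1p hf2p, fun q _ hpq hfq => ?_⟩
    have hf1q : f1 ∉ q := fun h => hfq (Ideal.mul_mem_right _ _ h)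
    have hf2q : f2 ∉ q := fun h => hfq (Ideal.mul_mem_left _ _ h)
    obtain ⟨hqA, hqB⟩ := dep_dm_quot_of_regular q Y (hsuppq q hpq) x (hpq hxp) (hf1 q hf1q)
    rw [← hS] at hqA hqB
    obtain ⟨h1, h2⟩ := hf2 q hpq hf2q
    constructor
    · rw [← hqA, h1, ← hpA, add_right_comm]
    · rw [← hqB, h2, ← hpB, add_right_comm]

theorem core (X : Type u) [AddCommGroup X] [Module A X] [Module.Finite A X] :
    ∀ K : Submodule A X, P p (X ⧸ K) := by
  haveI : IsNoetherian A X := isNoetherian_of_isNoetherianRing_of_finite A X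
  intro K
  refine IsNoetherian.induction (P := fun K => P p (X ⧸ K)) ?_ K
  intro K IH
  apply step p (X ⧸ K)
  intro S hS
  obtain ⟨K', hK'⟩ : ∃ K' : Submodule A X, K' = S.comap K.mkQ := ⟨_, rfl⟩
  have hle : K ≤ K' := by
    rw [hK']
    intro k hk
    rw [Submodule.mem_comap]
    have h0 : K.mkQ k = 0 := (Submodule.Quotient.mk_eq_zero K).mpr hk
    rw [h0]
    exact S.zero_mem
  have hmap : K'.map K.mkQ = S := by
    rw [hK']
    exact Submodule.map_comap_eq_of_surjective (Submodule.mkQ_surjective K) S
  have hlt : K < K' := by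
    refine lt_of_le_of_ne hle ?_
    intro heq
    apply hS
    rw [← hmap, ← heq]
    exact Submodule.mkQ_map_self K
  have e : (X ⧸ K') ≃ₗ[A] ((X ⧸ K) ⧸ S) :=
    (Submodule.quotientQuotientEquivQuotient K K' hle).symm ≪≫ₗ
      Submodule.quotEquivOfEq _ _ hmap
  exact P_congr p e (IH K' hlt)

theorem P_all (X : Type u) [AddCommGroup X] [Module A X] [Module.Finite A X] : P p X :=
  P_congr p (Submodule.quotEquivOfEqBot (⊥ : Submodule A X) rfl) (core p X ⊥)

end Induction

theorem main (M : Type u) [AddCommGroup M] [Module A M] [Module.Finite A M] (I : Ideal A)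
    [hIp : I.radical.IsPrime]
    (hp : (⟨I.radical, inferInstance⟩ : PrimeSpectrum A) ∈ Module.support A M) :
    ∃ f : A, f ∉ I.radical ∧ ∀ (q : Ideal A) [q.IsPrime], I ≤ q → f ∉ q →
      Module.supportDim (Localization.AtPrime q) (LocalizedModule q.primeCompl M) =
          Module.supportDim (Localization.AtPrime I.radical)
            (LocalizedModule I.radical.primeCompl M) +
            Module.supportDim (Localization.AtPrime q)
              (Localization.AtPrime q ⧸ I.map (algebraMap A (Localization.AtPrime q))) ∧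
        LocCoh.depth (Localization.AtPrime q) (LocalizedModule q.primeCompl M) =
          LocCoh.depth (Localization.AtPrime I.radical)
            (LocalizedModule I.radical.primeCompl M) +
            LocCoh.depth (Localization.AtPrime q)
              (Localization.AtPrime q ⧸ I.map (algebraMap A (Localization.AtPrime q))) := by
  obtain ⟨f1, hf1p, hf1⟩ := P_all I.radical M hp
  have hsuppI : (⟨I.radical, inferInstance⟩ : PrimeSpectrum A) ∈ Module.support A (A ⧸ I) := by
    rw [Module.mem_support_iff_of_finite, Ideal.annihilator_quotient]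
    exact Ideal.le_radical
  obtain ⟨f2, hf2p, hf2⟩ := P_all I.radical (A ⧸ I) hsuppI
  obtain ⟨hdep0, hdm0⟩ := dm_dep_quotient_of_radical I.radical I rfl
  refine ⟨f1 * f2, fun h => (hIp.mem_or_mem h).elim hf1p hf2p, fun q hq hIq hfq => ?_⟩
  have hf1q : f1 ∉ q := fun h => hfq (Ideal.mul_mem_right _ _ h)
  have hf2q : f2 ∉ q := fun h => hfq (Ideal.mul_mem_left _ _ h)
  have hpq : I.radical ≤ q := (Ideal.IsPrime.radical_le_iff hq).mpr hIq
  obtain ⟨h1, h2⟩ := hf1 q hpq hf1q
  obtain ⟨h3, h4⟩ := hf2 q hpq hf2q
  rw [hdep0, zero_add] at h3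
  rw [hdm0, zero_add] at h4
  obtain ⟨h5, h6⟩ := dep_dm_quotient q I
  constructor
  · rw [← h6, h4]
    exact h2
  · rw [← h5, h3]
    exact h1

end Groth.Agent.Lib.Helper5.GenDepth
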