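import Groth.Agent.Lib.Helper5FinDimDepth

/-!
# Helper5SkEmb: Serre's condition `(S_k)` and embedded primes of quotients by regular sequences
(EGA IV 5.7.5-type statement).
-/

set_option autoImplicit false
universe u

namespace Groth.Agent.Lib.Helper5.SkEmb
open Groth.Agent.Lib.Helper28 Groth.Agent.Lib.Helper5 RingTheory.Sequence

section Core

variable {R : Type u} [CommRing R] [IsNoetherianRing R] (M : Type u) [AddCommGroup M] [Module R M]
  [Module.Finite R M]

/-- Depth and dimension of the localization of `M/(rs)M` at a prime containing the regular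
sequence `rs`. -/
theorem depth_dim_localization_quot (rs : List R) (hreg : IsWeaklyRegular M rs) (Q : Ideal R)
    [hQ : Q.IsPrime] (hrsQ : ∀ r ∈ rs, r ∈ Q)
    (hQM : (⟨Q, hQ⟩ : PrimeSpectrum R) ∈ Module.support R M) :
    LocCoh.depth (Localization.AtPrime Q)
        (LocalizedModule Q.primeCompl (M ⧸ (Ideal.ofList rs • ⊤ : Submodule R M))) + rs.length =
      LocCoh.depth (Localization.AtPrime Q) (LocalizedModule Q.primeCompl M) ∧
    Module.supportDim (Localization.AtPrime Q)
        (LocalizedModule Q.primeCompl (M ⧸ (Ideal.ofList rs • ⊤ : Submodule R M))) + rs.length =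
      Module.supportDim (Localization.AtPrime Q) (LocalizedModule Q.primeCompl M) := by
  haveI : IsNoetherianRing (Localization.AtPrime Q) :=
    IsLocalization.isNoetherianRing Q.primeCompl _ inferInstance
  haveI : Nontrivial (LocalizedModule Q.primeCompl M) := Module.mem_support_iff.mp hQM
  have hIM : IsLocalRing.maximalIdeal (Localization.AtPrime Q) •
      (⊤ : Submodule (Localization.AtPrime Q) (LocalizedModule Q.primeCompl M)) ≠ ⊤ :=
    maximalIdeal_smul_top_ne_top
  have hreg' : IsWeaklyRegular (LocalizedModule Q.primeCompl M)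
      (rs.map (algebraMap R (Localization.AtPrime Q))) :=
    hreg.of_isLocalizedModule (Localization.AtPrime Q) Q.primeCompl
      (LocalizedModule.mkLinearMap Q.primeCompl M)
  have hmem' : ∀ x ∈ rs.map (algebraMap R (Localization.AtPrime Q)),
      x ∈ IsLocalRing.maximalIdeal (Localization.AtPrime Q) := by
    intro x hx
    obtain ⟨a, ha, rfl⟩ := List.mem_map.mp hx
    rw [← Localization.AtPrime.map_eq_maximalIdeal]
    exact Ideal.mem_map_of_mem _ (hrsQ a ha)
  have e := localizedQuotOfListEquiv Q M rs
  constructor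
  · have h1 := idealDepth_quot_ofList_add_length
      (IsLocalRing.maximalIdeal (Localization.AtPrime Q)) (LocalizedModule Q.primeCompl M) hIM _
      hmem' hreg'
    rw [List.length_map] at h1
    unfold LocCoh.depth
    rw [← idealDepth_congr e]
    exact h1
  · have hR := isRegular_of_isWeaklyRegular_of_mem hreg' hmem' hIM
    have h2 := Module.supportDim_add_length_eq_supportDim_of_isRegular _ hR
    rw [List.length_map] at h2
    rw [← Module.supportDim_eq_of_equiv e]
    exact h2

theorem mem_support_of_mem_associatedPrimes {N : Type u} [AddCommGroup N] [Module R N]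
    [Module.Finite R N] {Q : Ideal R} (hQ : Q ∈ associatedPrimes R N) :
    (⟨Q, hQ.isPrime⟩ : PrimeSpectrum R) ∈ Module.support R N :=
  Module.mem_support_iff_of_finite.mpr (by
    have h1 := IsAssociatedPrime.annihilator_le hQ
    rwa [Submodule.annihilator_top] at h1)

theorem noEmbedded_of_hasSk (k : ℕ) (hS : LocCoh.HasSk k R M) (rs : List R)
    (hlen : rs.length < k) (hreg : IsWeaklyRegular M rs) (P : Ideal R)
    (hP : P ∈ associatedPrimes R (M ⧸ (Ideal.ofList rs • ⊤ : Submodule R M))) (Q : Ideal R)
    (hQ : Q ∈ associatedPrimes R (M ⧸ (Ideal.ofList rs • ⊤ : Submodule R M))) (hPQ : P ≤ Q) :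
    P = Q := by
  by_contra hne
  have hlt : P < Q := lt_of_le_of_ne hPQ hne
  haveI hQp : Q.IsPrime := hQ.isPrime
  haveI hPp : P.IsPrime := hP.isPrime
  have hQN := mem_support_of_mem_associatedPrimes hQ
  have hPN := mem_support_of_mem_associatedPrimes hP
  have hQN' := hQN
  rw [Module.support_quotient] at hQN'
  have hQM : (⟨Q, hQp⟩ : PrimeSpectrum R) ∈ Module.support R M := hQN'.1
  have hrsQ : ∀ r ∈ rs, r ∈ Q := by
    intro r hr
    have h1 : Ideal.ofList rs ≤ Q := (PrimeSpectrum.mem_zeroLocus _ _).mp hQN'.2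
    exact h1 (Ideal.subset_span hr)
  obtain ⟨hdep, hdim⟩ := depth_dim_localization_quot M rs hreg Q hrsQ hQM
  have h0 : LocCoh.depth (Localization.AtPrime Q)
      (LocalizedModule Q.primeCompl (M ⧸ (Ideal.ofList rs • ⊤ : Submodule R M))) = 0 :=
    depth_eq_zero_iff.mpr
      (Module.associatedPrimes.mem_associatedPrimes_atPrime_of_mem_associatedPrimes hQ)
  rw [h0, zero_add] at hdep
  have hSk := hS Q
  rw [← hdep, ← hdim, supportDim_localization_eq_height Q _ hQN] at hSk
  have hpos : 1 ≤ Order.height (⟨⟨Q, hQp⟩, hQN⟩ :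
      Module.support R (M ⧸ (Ideal.ofList rs • ⊤ : Submodule R M))) := by
    rw [Order.one_le_iff_pos, Order.height_pos]
    intro hmin
    have h1 := hmin (b := (⟨⟨P, hPp⟩, hPN⟩ :
      Module.support R (M ⧸ (Ideal.ofList rs • ⊤ : Submodule R M)))) hPQ
    exact absurd (show Q ≤ P from h1) (not_le_of_gt hlt)
  obtain ⟨h, hh⟩ : ∃ h : ℕ∞, h = Order.height (⟨⟨Q, hQp⟩, hQN⟩ :
      Module.support R (M ⧸ (Ideal.ofList rs • ⊤ : Submodule R M))) := ⟨_, rfl⟩
  rw [← hh] at hSk hpos
  have hSk' : min (k : ℕ∞) (h + rs.length) ≤ rs.length := by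
    have : ((min (k : ℕ∞) (h + rs.length) : ℕ∞) : WithBot ℕ∞) ≤ ((rs.length : ℕ∞) : WithBot ℕ∞) := by
      rw [WithBot.coe_min, WithBot.coe_add]
      exact hSk
    exact WithBot.coe_le_coe.mp this
  rcases min_le_iff.mp hSk' with h1 | h1
  · have : k ≤ rs.length := by exact_mod_cast h1
    omega
  · have h2 : h + (rs.length : ℕ∞) ≤ 0 + rs.length := by rwa [zero_add]
    have h3 := (ENat.add_le_add_iff_right (ENat.natCast_ne_top rs.length)).mp h2
    have : (1 : ℕ∞) ≤ 0 := hpos.trans h3
    exact absurd this (by simp)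

theorem hasSk_of_noEmbedded (k : ℕ)
    (H : ∀ rs : List R, rs.length < k → IsWeaklyRegular M rs →
      ∀ P ∈ associatedPrimes R (M ⧸ (Ideal.ofList rs • ⊤ : Submodule R M)),
      ∀ Q ∈ associatedPrimes R (M ⧸ (Ideal.ofList rs • ⊤ : Submodule R M)), P ≤ Q → P = Q) :
    LocCoh.HasSk k R M := by
  intro p0 hp0
  by_cases hsupp : (⟨p0, hp0⟩ : PrimeSpectrum R) ∈ Module.support R M
  swap
  · rw [Module.notMem_support_iff] at hsupp
    rw [depth_eq_top_of_subsingleton, WithBot.coe_top]
    exact le_top
  haveI : Nontrivial (LocalizedModule p0.primeCompl M) := Module.mem_support_iff.mp hsupp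
  haveI : IsNoetherianRing (Localization.AtPrime p0) :=
    IsLocalization.isNoetherianRing p0.primeCompl _ inferInstance
  have hIM : p0 • (⊤ : Submodule R M) ≠ ⊤ := by
    intro h
    have h1 := map_smul_top_eq_top_of_isLocalizedModule p0.primeCompl (Localization.AtPrime p0)
      (LocalizedModule.mkLinearMap p0.primeCompl M) p0 h
    rw [Localization.AtPrime.map_eq_maximalIdeal] at h1
    exact maximalIdeal_smul_top_ne_top h1
  haveI : IsNoetherian R M := isNoetherian_of_isNoetherianRing_of_finite R M
  obtain ⟨rs, -, hreg, hmem, hmax⟩ :=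
    exists_maximal_extension hIM [] (IsWeaklyRegular.nil R M) (by simp)
  have hlen := length_eq_idealDepth_of_maximal hIM rs hreg hmem hmax
  by_cases hk : k ≤ rs.length
  · have h1 := idealDepth_le_depth_localization p0 M (le_refl p0)
    rw [← hlen] at h1
    refine le_trans (min_le_left _ _) ?_
    have h2 : (k : ℕ∞) ≤ LocCoh.depth (Localization.AtPrime p0)
        (LocalizedModule p0.primeCompl M) := le_trans (by exact_mod_cast hk) h1
    exact WithBot.coe_le_coe.mpr h2
  · push Not at hk
    have hIN : p0 • (⊤ : Submodule R (M ⧸ (Ideal.ofList rs • ⊤ : Submodule R M))) ≠ ⊤ :=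
      smul_top_quot_ofList_ne_top p0 hmem hIM
    haveI hNnt : Nontrivial (M ⧸ (Ideal.ofList rs • ⊤ : Submodule R M)) :=
      nontrivial_of_smul_top_ne_top hIN
    have hnr : ∀ r ∈ p0, ¬ IsSMulRegular (M ⧸ (Ideal.ofList rs • ⊤ : Submodule R M)) r :=
      fun r hr hreg' => hmax r hr ((isWeaklyRegular_append_iff M rs [r]).mpr
        ⟨hreg, (isWeaklyRegular_singleton_iff _ r).mpr hreg'⟩)
    obtain ⟨P, hP, hp0P⟩ := exists_le_mem_associatedPrimes_of_forall_not_isSMulRegular hnr
    have hp0N : (⟨p0, hp0⟩ : PrimeSpectrum R) ∈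
        Module.support R (M ⧸ (Ideal.ofList rs • ⊤ : Submodule R M)) := by
      rw [Module.support_quotient]
      exact ⟨hsupp, (PrimeSpectrum.mem_zeroLocus _ _).mpr (ofList_le_of_forall_mem hmem)⟩
    have hann : Module.annihilator R (M ⧸ (Ideal.ofList rs • ⊤ : Submodule R M)) ≤ p0 :=
      Module.mem_support_iff_of_finite.mp hp0N
    obtain ⟨P0, hP0min, hP0le⟩ := Ideal.exists_minimalPrimes_le hann
    have hP0ass : P0 ∈ associatedPrimes R (M ⧸ (Ideal.ofList rs • ⊤ : Submodule R M)) :=
      Module.associatedPrimes.minimalPrimes_annihilator_subset_associatedPrimes R _ hP0min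
    have hPP0 : P0 = P := H rs hk hreg P0 hP0ass P hP (hP0le.trans hp0P)
    have hp0eq : p0 = P0 := le_antisymm (hPP0 ▸ hp0P) hP0le
    have hp0ass : p0 ∈ associatedPrimes R (M ⧸ (Ideal.ofList rs • ⊤ : Submodule R M)) :=
      hp0eq ▸ hP0ass
    have hp0min : p0 ∈ (Module.annihilator R
        (M ⧸ (Ideal.ofList rs • ⊤ : Submodule R M))).minimalPrimes := hp0eq ▸ hP0min
    obtain ⟨hdep, hdim⟩ := depth_dim_localization_quot M rs hreg p0 hmem hsupp
    have h0 : LocCoh.depth (Localization.AtPrime p0)
        (LocalizedModule p0.primeCompl (M ⧸ (Ideal.ofList rs • ⊤ : Submodule R M))) = 0 :=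
      depth_eq_zero_iff.mpr
        (Module.associatedPrimes.mem_associatedPrimes_atPrime_of_mem_associatedPrimes hp0ass)
    have hd0 : Module.supportDim (Localization.AtPrime p0)
        (LocalizedModule p0.primeCompl (M ⧸ (Ideal.ofList rs • ⊤ : Submodule R M))) = 0 := by
      rw [supportDim_localization_eq_height p0 _ hp0N]
      have h1 : Order.height (⟨⟨p0, hp0⟩, hp0N⟩ :
          Module.support R (M ⧸ (Ideal.ofList rs • ⊤ : Submodule R M))) = 0 := by
        rw [Order.height_eq_zero]
        intro b hb
        have hbann : Module.annihilator R (M ⧸ (Ideal.ofList rs • ⊤ : Submodule R M)) ≤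
            b.1.asIdeal := Module.mem_support_iff_of_finite.mp b.2
        exact hp0min.2 ⟨b.1.2, hbann⟩ hb
      rw [h1]
      rfl
    rw [h0, zero_add] at hdep
    rw [hd0, zero_add] at hdim
    rw [← hdep, ← hdim]
    exact min_le_right _ _

end Core

section Transfer

variable {A : Type u} [CommRing A] [IsNoetherianRing A] (M : Type u) [AddCommGroup M] [Module A M]
  [Module.Finite A M]

theorem hasSk_localizedModule (T : Submonoid A) (k : ℕ) (h : LocCoh.HasSk k A M) :
    LocCoh.HasSk k (Localization T) (LocalizedModule T M) := by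
  intro Q hQ
  obtain ⟨h1, h2⟩ := FinDimDepth.transport T M Q
  rw [h1, h2]
  exact h (Q.comap (algebraMap A (Localization T)))

omit [IsNoetherianRing A] [Module.Finite A M] in
theorem sk_congr {q1 q2 : Ideal A} [q1.IsPrime] [q2.IsPrime] (h : q1 = q2) (k : ℕ) :
    (min (k : WithBot ℕ∞) (Module.supportDim (Localization.AtPrime q1)
        (LocalizedModule q1.primeCompl M)) ≤
      ((LocCoh.depth (Localization.AtPrime q1) (LocalizedModule q1.primeCompl M) : ℕ∞) :
        WithBot ℕ∞)) ↔
    (min (k : WithBot ℕ∞) (Module.supportDim (Localization.AtPrime q2)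
        (LocalizedModule q2.primeCompl M)) ≤
      ((LocCoh.depth (Localization.AtPrime q2) (LocalizedModule q2.primeCompl M) : ℕ∞) :
        WithBot ℕ∞)) := by
  subst h
  rfl

theorem hasSk_of_hasSk_localizedModule_one (k : ℕ)
    (h : LocCoh.HasSk k (Localization.Away (1 : A))
      (LocalizedModule (Submonoid.powers (1 : A)) M)) : LocCoh.HasSk k A M := by
  intro p hp
  have hdisj : Disjoint ((Submonoid.powers (1 : A) : Submonoid A) : Set A) (p : Set A) := by
    rw [Set.disjoint_left]
    rintro x ⟨n, rfl⟩ hx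
    simp only [one_pow] at hx
    exact hp.ne_top ((Ideal.eq_top_iff_one _).mpr hx)
  haveI hprime : (p.map (algebraMap A (Localization.Away (1 : A)))).IsPrime :=
    IsLocalization.isPrime_of_isPrime_disjoint (Submonoid.powers (1 : A)) _ p hp hdisj
  have hcomap : (p.map (algebraMap A (Localization.Away (1 : A)))).comap
      (algebraMap A (Localization.Away (1 : A))) = p :=
    IsLocalization.under_map_of_isPrime_disjoint (Submonoid.powers (1 : A)) _ hp hdisj
  obtain ⟨h1, h2⟩ := FinDimDepth.transport (Submonoid.powers (1 : A)) M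
    (p.map (algebraMap A (Localization.Away (1 : A))))
  have h3 := h (p.map (algebraMap A (Localization.Away (1 : A))))
  rw [h1, h2] at h3
  exact (sk_congr M hcomap k).mp h3

theorem main (k : ℕ) :
    LocCoh.HasSk k A M ↔
      ∀ (g : A) (rs : List (Localization.Away g)), rs.length < k →
        RingTheory.Sequence.IsWeaklyRegular (LocalizedModule (Submonoid.powers g) M) rs →
        ∀ p ∈ associatedPrimes (Localization.Away g)
            (LocalizedModule (Submonoid.powers g) M ⧸
              (Ideal.ofList rs • (⊤ : Submodule (Localization.Away g) (LocalizedModule (Submonoid.powers g) M)))),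
          ∀ q ∈ associatedPrimes (Localization.Away g)
            (LocalizedModule (Submonoid.powers g) M ⧸
              (Ideal.ofList rs • (⊤ : Submodule (Localization.Away g) (LocalizedModule (Submonoid.powers g) M)))),
            p ≤ q → p = q := by
  constructor
  · intro hS g rs hlen hreg P hP Q hQ hPQ
    haveI : IsNoetherianRing (Localization.Away g) :=
      IsLocalization.isNoetherianRing (Submonoid.powers g) _ inferInstance
    exact noEmbedded_of_hasSk (LocalizedModule (Submonoid.powers g) M) k
      (hasSk_localizedModule M (Submonoid.powers g) k hS) rs hlen hreg P hP Q hQ hPQ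
  · intro H
    haveI : IsNoetherianRing (Localization.Away (1 : A)) :=
      IsLocalization.isNoetherianRing (Submonoid.powers (1 : A)) _ inferInstance
    apply hasSk_of_hasSk_localizedModule_one
    exact hasSk_of_noEmbedded _ k (H 1)

end Transfer

end Groth.Agent.Lib.Helper5.SkEmb
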