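import Mathlib
import Groth.Agent.Lib.Helper5GenDepth
import Groth.Agent.Lib.Helper5SkEmb
import Groth.Agent.Lib.Helper5RLR3
import Groth.Agent.Lib.Helper7RegOpen
import Groth.Agent.Lib.Helper28DepthCM2
import Groth.Agent.Lib.Helper28Normal
import Groth.Agent.Lib.Helper28Unmixed
import Groth.Agent.Lib.Helper28PolyCM

/-!
# Helper5CodepthOpen: openness of the codepth-`≤ n` loci and of the `(S_n)` loci (EGA IV 6.11)

Built on the generic depth/dimension formula of `Helper5GenDepth` and Nagata's topological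
criterion.
-/

set_option autoImplicit false
universe u

namespace Groth.Agent.Lib.Helper5.CodepthOpen
open Groth.Agent.Lib.Helper28 Groth.Agent.Lib.Helper5 Groth.Agent.Lib.Helper5.GenDepth PrimeSpectrum

section Basic

variable {A : Type u} [CommRing A] [IsNoetherianRing A]

omit [IsNoetherianRing A] in
theorem dep_dm_congr_ideal {q1 q2 : Ideal A} [q1.IsPrime] [q2.IsPrime] (h : q1 = q2)
    (X : Type u) [AddCommGroup X] [Module A X] :
    dep q1 X = dep q2 X ∧ dm q1 X = dm q2 X := by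
  subst h
  exact ⟨rfl, rfl⟩

theorem dep_dm_self (q : Ideal A) [q.IsPrime] :
    dep q A = LocCoh.depth (Localization.AtPrime q) (Localization.AtPrime q) ∧
    dm q A = Module.supportDim (Localization.AtPrime q) (Localization.AtPrime q) := by
  obtain ⟨h1, h2⟩ := FinDimDepth.transport_aux q A (Localization.AtPrime q)
    (Localization.AtPrime q) (Algebra.linearMap A (Localization.AtPrime q))
  exact ⟨h1.symm, h2.symm⟩

theorem mem_support_self (q : Ideal A) [hq : q.IsPrime] :
    (⟨q, hq⟩ : PrimeSpectrum A) ∈ Module.support A A := by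
  rw [Module.mem_support_iff_exists_annihilator]
  refine ⟨1, fun r hr => ?_⟩
  rw [Submodule.mem_annihilator_span_singleton, smul_eq_mul, mul_one] at hr
  rw [hr]
  exact zero_mem _

theorem mem_support_quotient (p q : Ideal A) [hq : q.IsPrime] (hpq : p ≤ q) :
    (⟨q, hq⟩ : PrimeSpectrum A) ∈ Module.support A (A ⧸ p) := by
  rw [Module.mem_support_iff_of_finite, Ideal.annihilator_quotient]
  exact hpq

theorem surj_transfer {R : Type u} [CommRing R] [IsNoetherianRing R] [Algebra R A]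
    (hs : Function.Surjective (algebraMap R A))
    (X : Type u) [AddCommGroup X] [Module A X] [Module R X] [IsScalarTower R A X]
    [Module.Finite A X] (q : Ideal A) [hq : q.IsPrime] :
    dep (q.comap (algebraMap R A)) X = dep q X ∧ dm (q.comap (algebraMap R A)) X = dm q X := by
  haveI : Module.Finite R A := Module.Finite.of_surjective (Algebra.linearMap R A) hs
  haveI : Module.Finite R X := Module.Finite.trans A X
  obtain ⟨hdim, hdep⟩ := FinDimDepth.main R A X (q.comap (algebraMap R A))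
  have huniq : ∀ q' : PrimeSpectrum A,
      q'.asIdeal.comap (algebraMap R A) = q.comap (algebraMap R A) → q'.asIdeal = q :=
    fun q' h => Ideal.comap_injective_of_surjective _ hs h
  by_cases hsupp : (⟨q, hq⟩ : PrimeSpectrum A) ∈ Module.support A X
  · constructor
    · unfold dep
      rw [hdep]
      apply le_antisymm
      · exact iInf₂_le (⟨q, hq⟩ : PrimeSpectrum A) ⟨rfl, hsupp⟩
      · refine le_iInf₂ fun q' hq' => ?_
        exact le_of_eq (dep_dm_congr_ideal (huniq q' hq'.1).symm X).1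
    · unfold dm
      rw [hdim]
      apply le_antisymm
      · refine iSup₂_le fun q' hq' => ?_
        exact le_of_eq (dep_dm_congr_ideal (huniq q' hq'.1) X).2
      · exact le_iSup₂_of_le (⟨q, hq⟩ : PrimeSpectrum A) ⟨rfl, hsupp⟩ le_rfl
  · have hempty : ∀ q' : PrimeSpectrum A,
        ¬ (q'.asIdeal.comap (algebraMap R A) = q.comap (algebraMap R A) ∧
          q' ∈ Module.support A X) := by
      rintro q' ⟨h1, h2⟩
      apply hsupp
      have h3 : q' = ⟨q, hq⟩ := PrimeSpectrum.ext (huniq q' h1)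
      rw [← h3]
      exact h2
    haveI : Subsingleton (LocalizedModule q.primeCompl X) := Module.notMem_support_iff.mp hsupp
    constructor
    · unfold dep
      rw [hdep, depth_eq_top_of_subsingleton]
      exact le_antisymm le_top (le_iInf₂ fun q' hq' => absurd hq' (hempty q'))
    · unfold dm
      rw [hdim, Module.supportDim_eq_bot_of_subsingleton]
      exact le_antisymm (iSup₂_le fun q' hq' => absurd hq' (hempty q')) bot_le

/-- transfer between `A` and `A ⧸ p`. -/
theorem transfer_quot (p : Ideal A) (q' : Ideal (A ⧸ p)) [q'.IsPrime] :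
    dep (q'.comap (algebraMap A (A ⧸ p))) (A ⧸ p) = dep q' (A ⧸ p) ∧
    dm (q'.comap (algebraMap A (A ⧸ p))) (A ⧸ p) = dm q' (A ⧸ p) :=
  surj_transfer (A := A ⧸ p) (R := A) Ideal.Quotient.mk_surjective (A ⧸ p) q'

end Basic

section Codepth

variable {A : Type u} [CommRing A] [IsNoetherianRing A]

/-- generic Cohen–Macaulayness of the integral quotients (module form). -/
def CMU (A : Type u) [CommRing A] [IsNoetherianRing A] : Prop :=
  ∀ (p : Ideal A) [p.IsPrime], ∃ f : A, f ∉ p ∧ ∀ (q : Ideal A) [q.IsPrime], p ≤ q → f ∉ q →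
    dm q (A ⧸ p) = ((dep q (A ⧸ p) : ℕ∞) : WithBot ℕ∞)

/-- generic `(S_n)` at the point for the integral quotients (module form). -/
def GenSk (n : ℕ) (A : Type u) [CommRing A] [IsNoetherianRing A] : Prop :=
  ∀ (p : Ideal A) [p.IsPrime], ∃ f : A, f ∉ p ∧ ∀ (q : Ideal A) [q.IsPrime], p ≤ q → f ∉ q →
    min (n : WithBot ℕ∞) (dm q (A ⧸ p)) ≤ ((dep q (A ⧸ p) : ℕ∞) : WithBot ℕ∞)

theorem genSk_of_cmu (n : ℕ) (h : CMU A) : GenSk n A := by
  intro p _
  obtain ⟨f, hfp, hf⟩ := h p
  refine ⟨f, hfp, fun q _ hpq hfq => ?_⟩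
  rw [← hf q hpq hfq]
  exact min_le_right _ _

theorem codepth_generization (M : Type u) [AddCommGroup M] [Module A M] [Module.Finite A M]
    (n : ℕ) {p q : Ideal A} [hp : p.IsPrime] [hq : q.IsPrime] (hqp : q ≤ p)
    (hpE : dm p M ≤ ((dep p M : ℕ∞) : WithBot ℕ∞) + n) :
    dm q M ≤ ((dep q M : ℕ∞) : WithBot ℕ∞) + n := by
  by_cases hqM : (⟨q, hq⟩ : PrimeSpectrum A) ∈ Module.support A M
  swap
  · haveI : Subsingleton (LocalizedModule q.primeCompl M) := Module.notMem_support_iff.mp hqM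
    have h0 : dm q M = ⊥ := Module.supportDim_eq_bot_of_subsingleton _ _
    rw [h0]
    exact bot_le
  have hpM : (⟨p, hp⟩ : PrimeSpectrum A) ∈ Module.support A M :=
    Module.mem_support_mono (show (⟨q, hq⟩ : PrimeSpectrum A) ≤ ⟨p, hp⟩ from hqp) hqM
  obtain ⟨hQ, hcomap⟩ := isPrime_map_and_comap_map_of_le p hqp
  haveI := hQ
  obtain ⟨h1, h2⟩ := FinDimDepth.transport p.primeCompl M
    (q.map (algebraMap A (Localization.AtPrime p)))
  obtain ⟨h3, h4⟩ := dep_dm_congr_ideal hcomap M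
  have hne : dm q M ≠ ⊥ := by
    haveI : Nontrivial (LocalizedModule q.primeCompl M) := Module.mem_support_iff.mp hqM
    exact Module.supportDim_ne_bot_of_nontrivial _ _
  haveI hnt : Nontrivial (LocalizedModule
      (q.map (algebraMap A (Localization.AtPrime p))).primeCompl
      (LocalizedModule p.primeCompl M)) := by
    rw [← Module.supportDim_ne_bot_iff_nontrivial
      (R := Localization.AtPrime (q.map (algebraMap A (Localization.AtPrime p)))), h2]
    change dm _ M ≠ ⊥
    rw [h4]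
    exact hne
  haveI : IsNoetherianRing (Localization.AtPrime p) :=
    IsLocalization.isNoetherianRing p.primeCompl _ inferInstance
  have key := supportDim_localization_add_depth_le (R := Localization.AtPrime p)
    (M := LocalizedModule p.primeCompl M) (q.map (algebraMap A (Localization.AtPrime p)))
  rw [h1, h2] at key
  change dm _ M + ((dep p M : ℕ∞) : WithBot ℕ∞) ≤ dm p M + ((dep _ M : ℕ∞) : WithBot ℕ∞) at key
  rw [h3, h4] at key
  -- arithmetic
  have hdp : dep p M ≠ ⊤ := dep_ne_top p M hpM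
  obtain ⟨a, ha⟩ := WithBot.ne_bot_iff_exists.mp hne
  rw [← ha] at key ⊢
  have h5 : ((a : ℕ∞) : WithBot ℕ∞) + ((dep p M : ℕ∞) : WithBot ℕ∞) ≤
      ((dep p M : ℕ∞) : WithBot ℕ∞) + (n : WithBot ℕ∞) + ((dep q M : ℕ∞) : WithBot ℕ∞) :=
    key.trans (add_le_add_left hpE _)
  have hn : ((n : ℕ) : WithBot ℕ∞) = (((n : ℕ) : ℕ∞) : WithBot ℕ∞) := rfl
  rw [hn, ← WithBot.coe_add, ← WithBot.coe_add, ← WithBot.coe_add, WithBot.coe_le_coe] at h5
  rw [hn, ← WithBot.coe_add, WithBot.coe_le_coe]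
  have h6 : a + dep p M ≤ (dep q M + n) + dep p M := by
    calc a + dep p M ≤ dep p M + (n : ℕ∞) + dep q M := h5
      _ = (dep q M + n) + dep p M := by ring
  exact (ENat.add_le_add_iff_right hdp).mp h6

theorem isOpen_codepth_le (hCM : CMU A) (M : Type u) [AddCommGroup M] [Module A M]
    [Module.Finite A M] (n : ℕ) :
    IsOpen {p : PrimeSpectrum A |
      dm p.asIdeal M ≤ ((dep p.asIdeal M : ℕ∞) : WithBot ℕ∞) + n} := by
  apply Groth.Agent.Lib.Helper7.RegOpen.isOpen_of_nagata
  · intro x y hyx hx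
    have hle : y.asIdeal ≤ x.asIdeal := (PrimeSpectrum.le_iff_specializes y x).mpr hyx
    exact codepth_generization M n hle hx
  · intro p hpE
    by_cases hpM : p ∈ Module.support A M
    · obtain ⟨f1, hf1p, hf1⟩ := P_all p.asIdeal M hpM
      obtain ⟨f2, hf2p, hf2⟩ := hCM p.asIdeal
      refine ⟨(PrimeSpectrum.basicOpen (f1 * f2) : Set (PrimeSpectrum A)),
        (PrimeSpectrum.basicOpen (f1 * f2)).isOpen, ⟨p, ?_, ?_⟩, ?_⟩
      · exact fun h => (p.2.mem_or_mem h).elim hf1p hf2p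
      · rw [PrimeSpectrum.mem_zeroLocus]
      · rintro q ⟨hqU, hqV⟩
        rw [PrimeSpectrum.mem_zeroLocus, SetLike.coe_subset_coe] at hqV
        have hfq : f1 * f2 ∉ q.asIdeal := hqU
        have hf1q : f1 ∉ q.asIdeal := fun h => hfq (Ideal.mul_mem_right _ _ h)
        have hf2q : f2 ∉ q.asIdeal := fun h => hfq (Ideal.mul_mem_left _ _ h)
        obtain ⟨h1, h2⟩ := hf1 q.asIdeal hqV hf1q
        have h3 := hf2 q.asIdeal hqV hf2q
        change dm q.asIdeal M ≤ ((dep q.asIdeal M : ℕ∞) : WithBot ℕ∞) + n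
        have hpE' : dm p.asIdeal M ≤ ((dep p.asIdeal M : ℕ∞) : WithBot ℕ∞) + n := hpE
        rw [h2, h1, h3, WithBot.coe_add, add_right_comm]
        exact add_le_add_left hpE' _
    · have hclosed : IsClosed (Module.support A M) := by
        rw [Module.support_eq_zeroLocus]
        exact PrimeSpectrum.isClosed_zeroLocus _
      refine ⟨(Module.support A M)ᶜ, hclosed.isOpen_compl, ⟨p, hpM, ?_⟩, ?_⟩
      · rw [PrimeSpectrum.mem_zeroLocus]
      · rintro q ⟨hqU, -⟩
        haveI : Subsingleton (LocalizedModule q.asIdeal.primeCompl M) :=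
          Module.notMem_support_iff.mp hqU
        have h0 : dm q.asIdeal M = ⊥ := Module.supportDim_eq_bot_of_subsingleton _ _
        change dm q.asIdeal M ≤ _
        rw [h0]
        exact bot_le

end Codepth

section CMUSources

variable {A : Type u} [CommRing A] [IsNoetherianRing A]

theorem cancel_aux {a b : ℕ∞} {x : WithBot ℕ∞} (ha : a ≠ ⊤)
    (h : ((a : ℕ∞) : WithBot ℕ∞) + x = ((a : ℕ∞) : WithBot ℕ∞) + ((b : ℕ∞) : WithBot ℕ∞)) :
    x = ((b : ℕ∞) : WithBot ℕ∞) := by
  induction x using WithBot.recBotCoe with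
  | bot =>
    rw [WithBot.add_bot, ← WithBot.coe_add] at h
    exact absurd h.symm WithBot.coe_ne_bot
  | coe x' =>
    rw [← WithBot.coe_add, ← WithBot.coe_add, WithBot.coe_inj] at h
    rw [ENat.add_right_injective_of_ne_top ha h]

theorem cmu_of_isCohenMacaulayRing [hCM : LocCoh.IsCohenMacaulayRing A] : CMU A := by
  intro p hp
  obtain ⟨f, hfp, hf⟩ := P_all p A (mem_support_self p)
  refine ⟨f, hfp, fun q hq hpq hfq => ?_⟩
  obtain ⟨h1, h2⟩ := hf q hpq hfq
  have hq' := (hCM.isCohenMacaulayLocalRing_localization q).supportDim_eq_depth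
  have hp' := (hCM.isCohenMacaulayLocalRing_localization p).supportDim_eq_depth
  obtain ⟨h5, h6⟩ := dep_dm_self q
  obtain ⟨h7, h8⟩ := dep_dm_self p
  rw [← h6, ← h5] at hq'
  rw [← h8, ← h7] at hp'
  rw [hq', hp', h1, WithBot.coe_add] at h2
  exact cancel_aux (dep_ne_top p A (mem_support_self p)) h2.symm

theorem cmu_of_surjective {R : Type u} [CommRing R] [IsNoetherianRing R] [Algebra R A]
    (hs : Function.Surjective (algebraMap R A)) (hR : CMU R) : CMU A := by
  intro p hp
  obtain ⟨f, hfP, hf⟩ := hR (p.comap (algebraMap R A))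
  refine ⟨algebraMap R A f, fun h => hfP h, fun q hq hpq hfq => ?_⟩
  have h1 := hf (q.comap (algebraMap R A)) (Ideal.comap_mono hpq) (fun h => hfq h)
  obtain ⟨g, hg⟩ : ∃ g : R →ₗ[R] (A ⧸ p),
      g = ((Submodule.mkQ p).restrictScalars R).comp (Algebra.linearMap R A) := ⟨_, rfl⟩
  have hgs : Function.Surjective g := by
    rw [hg]
    intro y
    obtain ⟨a, rfl⟩ := Submodule.mkQ_surjective p y
    obtain ⟨r, rfl⟩ := hs a
    exact ⟨r, rfl⟩
  have hker : p.comap (algebraMap R A) = LinearMap.ker g := by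
    ext x
    rw [LinearMap.mem_ker, hg, Ideal.mem_comap]
    change _ ↔ Submodule.Quotient.mk (algebraMap R A x) = 0
    rw [Submodule.Quotient.mk_eq_zero]
  let e : (R ⧸ p.comap (algebraMap R A)) ≃ₗ[R] (A ⧸ p) :=
    (Submodule.quotEquivOfEq _ _ hker).trans (LinearMap.quotKerEquivOfSurjective g hgs)
  obtain ⟨h2, h3⟩ := dep_dm_congr (q.comap (algebraMap R A)) e
  obtain ⟨h4, h5⟩ := surj_transfer hs (A ⧸ p) q
  rw [← h5, ← h4, ← h3, ← h2]
  exact h1

omit [IsNoetherianRing A] in
theorem exists_notMem_forall_mem (p : Ideal A) [hp : p.IsPrime]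
    (U : Set (PrimeSpectrum (A ⧸ p))) (hU : IsOpen U) (hne : U.Nonempty) :
    ∃ f : A, f ∉ p ∧ ∀ q' : PrimeSpectrum (A ⧸ p),
      Ideal.Quotient.mk p f ∉ q'.asIdeal → q' ∈ U := by
  haveI : IsDomain (A ⧸ p) := Ideal.Quotient.isDomain p
  obtain ⟨η, hη⟩ : ∃ η : PrimeSpectrum (A ⧸ p), η = ⟨⊥, Ideal.isPrime_bot⟩ := ⟨_, rfl⟩
  have hηU : η ∈ U := by
    obtain ⟨y, hy⟩ := hne
    have hle : η ≤ y := by
      rw [hη]
      exact (bot_le : (⊥ : Ideal (A ⧸ p)) ≤ y.asIdeal)
    exact ((PrimeSpectrum.le_iff_specializes η y).mp hle).mem_open hU hy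
  obtain ⟨v, ⟨r, rfl⟩, hηv, hvU⟩ :=
    PrimeSpectrum.isTopologicalBasis_basic_opens.exists_subset_of_mem_open hηU hU
  obtain ⟨f, rfl⟩ := Ideal.Quotient.mk_surjective r
  refine ⟨f, ?_, fun q' hq' => hvU hq'⟩
  intro hfp
  apply hηv
  rw [hη]
  change Ideal.Quotient.mk p f ∈ (⊥ : Ideal (A ⧸ p))
  rw [Ideal.mem_bot, Ideal.Quotient.eq_zero_iff_mem]
  exact hfp

omit [IsNoetherianRing A] in
theorem map_mk_prime (p q : Ideal A) [hq : q.IsPrime] (hpq : p ≤ q) :
    (q.map (Ideal.Quotient.mk p)).IsPrime ∧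
      (q.map (Ideal.Quotient.mk p)).comap (algebraMap A (A ⧸ p)) = q := by
  constructor
  · apply Ideal.map_isPrime_of_surjective Ideal.Quotient.mk_surjective
    rw [Ideal.mk_ker]
    exact hpq
  · change (q.map (Ideal.Quotient.mk p)).comap (Ideal.Quotient.mk p) = q
    rw [Ideal.comap_map_of_surjective _ Ideal.Quotient.mk_surjective,
      ← RingHom.ker_eq_comap_bot, Ideal.mk_ker]
    exact sup_eq_left.mpr hpq

theorem cmu_of_open
    (hCMU : ∀ (p : Ideal A) [p.IsPrime], ∃ U : Set (PrimeSpectrum (A ⧸ p)), IsOpen U ∧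
      U.Nonempty ∧ ∀ q ∈ U, LocCoh.IsCohenMacaulayLocalRing (Localization.AtPrime q.asIdeal)) :
    CMU A := by
  intro p hp
  obtain ⟨U, hUo, hUne, hU⟩ := hCMU p
  obtain ⟨f, hfp, hf⟩ := exists_notMem_forall_mem p U hUo hUne
  refine ⟨f, hfp, fun q hq hpq hfq => ?_⟩
  obtain ⟨hQ, hcomap⟩ := map_mk_prime p q hpq
  haveI := hQ
  have hmem : (⟨q.map (Ideal.Quotient.mk p), hQ⟩ : PrimeSpectrum (A ⧸ p)) ∈ U := by
    apply hf
    intro hcon
    apply hfq
    rw [← hcomap]
    exact hcon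
  have hCM := (hU _ hmem).supportDim_eq_depth
  obtain ⟨h1, h2⟩ := dep_dm_self (A := A ⧸ p) (q.map (Ideal.Quotient.mk p))
  obtain ⟨h3, h4⟩ := transfer_quot p (q.map (Ideal.Quotient.mk p))
  obtain ⟨h5, h6⟩ := dep_dm_congr_ideal hcomap (A ⧸ p)
  rw [← h6, ← h5, h4, h3, h2, h1]
  exact hCM

end CMUSources

section Sk

variable {A : Type u} [CommRing A] [IsNoetherianRing A]

/-- the points at which `(S_n)` holds pointwise. -/
def good (n : ℕ) (M : Type u) [AddCommGroup M] [Module A M] : Set (PrimeSpectrum A) :=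
  {q | min (n : WithBot ℕ∞) (dm q.asIdeal M) ≤ ((dep q.asIdeal M : ℕ∞) : WithBot ℕ∞)}

theorem hasSkAt_iff (n : ℕ) (M : Type u) [AddCommGroup M] [Module A M] [Module.Finite A M]
    (p : Ideal A) [hp : p.IsPrime] :
    EGA4.HasSkAt n A M p ↔ ∀ q : PrimeSpectrum A, q.asIdeal ≤ p → q ∈ good n M := by
  constructor
  · intro h q hqp
    obtain ⟨hQ, hcomap⟩ := isPrime_map_and_comap_map_of_le p hqp
    haveI := hQ
    obtain ⟨h1, h2⟩ := FinDimDepth.transport p.primeCompl M
      (q.asIdeal.map (algebraMap A (Localization.AtPrime p)))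
    have h3 := h (q.asIdeal.map (algebraMap A (Localization.AtPrime p)))
    rw [h1, h2] at h3
    exact (SkEmb.sk_congr M hcomap n).mp h3
  · intro h Q hQ
    obtain ⟨h1, h2⟩ := FinDimDepth.transport p.primeCompl M Q
    rw [h1, h2]
    have hle : Q.comap (algebraMap A (Localization.AtPrime p)) ≤ p := by
      intro x hx
      have hx' : algebraMap A (Localization.AtPrime p) x ∈
          IsLocalRing.maximalIdeal (Localization.AtPrime p) :=
        IsLocalRing.le_maximalIdeal hQ.ne_top hx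
      exact (IsLocalization.AtPrime.to_map_mem_maximal_iff (Localization.AtPrime p) p x).mp hx'
    exact h ⟨Q.comap (algebraMap A (Localization.AtPrime p)), inferInstance⟩ hle

theorem min_add_le (n : ℕ) (a b : ℕ∞) :
    min (n : ℕ∞) (a + b) ≤ min (n : ℕ∞) a + min (n : ℕ∞) b := by
  rcases le_total (n : ℕ∞) a with h | h
  · rw [min_eq_left h]
    exact (min_le_left _ _).trans le_self_add
  · rcases le_total (n : ℕ∞) b with h' | h'
    · rw [min_eq_left h']
      exact (min_le_left _ _).trans le_add_self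
    · rw [min_eq_right h, min_eq_right h']
      exact min_le_right _ _

theorem good_add {n : ℕ} {a b : WithBot ℕ∞} {x y : ℕ∞} (ha : a ≠ ⊥) (hb : b ≠ ⊥)
    (h1 : min (n : WithBot ℕ∞) a ≤ ((x : ℕ∞) : WithBot ℕ∞))
    (h2 : min (n : WithBot ℕ∞) b ≤ ((y : ℕ∞) : WithBot ℕ∞)) :
    min (n : WithBot ℕ∞) (a + b) ≤ ((x + y : ℕ∞) : WithBot ℕ∞) := by
  obtain ⟨a', rfl⟩ := WithBot.ne_bot_iff_exists.mp ha
  obtain ⟨b', rfl⟩ := WithBot.ne_bot_iff_exists.mp hb
  have hn : ((n : ℕ) : WithBot ℕ∞) = (((n : ℕ) : ℕ∞) : WithBot ℕ∞) := rfl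
  rw [hn, ← WithBot.coe_min, WithBot.coe_le_coe] at h1 h2
  rw [hn, ← WithBot.coe_add, ← WithBot.coe_min, WithBot.coe_le_coe]
  exact (min_add_le n a' b').trans (add_le_add h1 h2)

theorem good_nhd (n : ℕ) (hG : GenSk n A) (M : Type u) [AddCommGroup M] [Module A M]
    [Module.Finite A M] (r : PrimeSpectrum A) (hr : r ∈ good n M) :
    ∃ O : Set (PrimeSpectrum A), IsOpen O ∧ r ∈ O ∧
      O ∩ zeroLocus (r.asIdeal : Set A) ⊆ good n M := by
  by_cases hrM : r ∈ Module.support A M
  · obtain ⟨f1, hf1p, hf1⟩ := P_all r.asIdeal M hrM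
    obtain ⟨f2, hf2p, hf2⟩ := hG r.asIdeal
    refine ⟨(PrimeSpectrum.basicOpen (f1 * f2) : Set (PrimeSpectrum A)),
      (PrimeSpectrum.basicOpen (f1 * f2)).isOpen, ?_, ?_⟩
    · exact fun h => (r.2.mem_or_mem h).elim hf1p hf2p
    · rintro q ⟨hqU, hqV⟩
      rw [PrimeSpectrum.mem_zeroLocus, SetLike.coe_subset_coe] at hqV
      have hfq : f1 * f2 ∉ q.asIdeal := hqU
      have hf1q : f1 ∉ q.asIdeal := fun h => hfq (Ideal.mul_mem_right _ _ h)
      have hf2q : f2 ∉ q.asIdeal := fun h => hfq (Ideal.mul_mem_left _ _ h)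
      obtain ⟨h1, h2⟩ := hf1 q.asIdeal hqV hf1q
      have h3 := hf2 q.asIdeal hqV hf2q
      change min (n : WithBot ℕ∞) (dm q.asIdeal M) ≤ ((dep q.asIdeal M : ℕ∞) : WithBot ℕ∞)
      rw [h2, h1]
      have ha : dm r.asIdeal M ≠ ⊥ := by
        haveI : Nontrivial (LocalizedModule r.asIdeal.primeCompl M) :=
          Module.mem_support_iff.mp hrM
        exact Module.supportDim_ne_bot_of_nontrivial _ _
      have hb : dm q.asIdeal (A ⧸ r.asIdeal) ≠ ⊥ := by
        haveI : Nontrivial (LocalizedModule q.asIdeal.primeCompl (A ⧸ r.asIdeal)) :=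
          Module.mem_support_iff.mp (mem_support_quotient r.asIdeal q.asIdeal hqV)
        exact Module.supportDim_ne_bot_of_nontrivial _ _
      exact good_add ha hb hr h3
  · have hclosed : IsClosed (Module.support A M) := by
      rw [Module.support_eq_zeroLocus]
      exact PrimeSpectrum.isClosed_zeroLocus _
    refine ⟨(Module.support A M)ᶜ, hclosed.isOpen_compl, hrM, ?_⟩
    rintro q ⟨hqU, -⟩
    haveI : Subsingleton (LocalizedModule q.asIdeal.primeCompl M) :=
      Module.notMem_support_iff.mp hqU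
    have h0 : dm q.asIdeal M = ⊥ := Module.supportDim_eq_bot_of_subsingleton _ _
    change min (n : WithBot ℕ∞) (dm q.asIdeal M) ≤ _
    rw [h0, min_bot_right]
    exact bot_le

/-- topological lemma. -/
theorem isOpen_setOf_forall_le (G : Set (PrimeSpectrum A))
    (hG : ∀ r ∈ G, ∃ O : Set (PrimeSpectrum A), IsOpen O ∧ r ∈ O ∧
      O ∩ zeroLocus (r.asIdeal : Set A) ⊆ G) :
    IsOpen {p : PrimeSpectrum A | ∀ q : PrimeSpectrum A, q ≤ p → q ∈ G} := by
  classical
  have heq : {p : PrimeSpectrum A | ∀ q : PrimeSpectrum A, q ≤ p → q ∈ G} = (closure Gᶜ)ᶜ := by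
    ext p
    constructor
    · intro hp hpZ
      obtain ⟨J, hJ⟩ : ∃ J : Ideal A, J = vanishingIdeal (closure Gᶜ) := ⟨_, rfl⟩
      have hZ : zeroLocus (J : Set A) = closure Gᶜ := by
        rw [hJ, PrimeSpectrum.zeroLocus_vanishingIdeal_eq_closure, closure_closure]
      have hJp : J ≤ p.asIdeal := by
        rw [← hZ, PrimeSpectrum.mem_zeroLocus] at hpZ
        exact hpZ
      obtain ⟨r, hrmin, hrp⟩ := Ideal.exists_minimalPrimes_le hJp
      haveI hrprime : r.IsPrime := hrmin.1.1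
      obtain ⟨r', hr'⟩ : ∃ r' : PrimeSpectrum A, r' = ⟨r, hrprime⟩ := ⟨_, rfl⟩
      have hr'G : r' ∈ G := hp r' (by rw [hr']; exact hrp)
      obtain ⟨O, hOo, hrO, hOG⟩ := hG r' hr'G
      have hfin : (J.minimalPrimes \ {r}).Finite :=
        (Ideal.finite_minimalPrimes_of_isNoetherianRing A J).subset Set.sdiff_subset
      obtain ⟨W, hW⟩ : ∃ W : Set (PrimeSpectrum A),
          W = (⋃ s ∈ J.minimalPrimes \ {r}, zeroLocus (s : Set A))ᶜ := ⟨_, rfl⟩
      have hWo : IsOpen W := by
        rw [hW]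
        exact (hfin.isClosed_biUnion fun s _ => PrimeSpectrum.isClosed_zeroLocus _).isOpen_compl
      have hrW : r' ∈ W := by
        rw [hW]
        intro hmem
        rw [Set.mem_iUnion₂] at hmem
        obtain ⟨s, hs, hrs⟩ := hmem
        rw [PrimeSpectrum.mem_zeroLocus, SetLike.coe_subset_coe, hr'] at hrs
        have hsr : s ≤ r := hrs
        have hrs' : r ≤ s := hrmin.2 hs.1.1 hsr
        exact hs.2 (le_antisymm hsr hrs')
      have hr'Z : r' ∈ closure Gᶜ := by
        rw [← hZ, PrimeSpectrum.mem_zeroLocus, SetLike.coe_subset_coe, hr']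
        exact hrmin.1.2
      obtain ⟨b, ⟨hbO, hbW⟩, hbB⟩ :=
        mem_closure_iff.mp hr'Z (O ∩ W) (hOo.inter hWo) ⟨hrO, hrW⟩
      have hbZ : b ∈ closure Gᶜ := subset_closure hbB
      rw [← hZ, PrimeSpectrum.mem_zeroLocus, SetLike.coe_subset_coe] at hbZ
      obtain ⟨s, hsmin, hsb⟩ := Ideal.exists_minimalPrimes_le hbZ
      have hsr : s = r := by
        by_contra hne
        rw [hW] at hbW
        apply hbW
        rw [Set.mem_iUnion₂]
        refine ⟨s, ⟨hsmin, hne⟩, ?_⟩
        rw [PrimeSpectrum.mem_zeroLocus, SetLike.coe_subset_coe]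
        exact hsb
      have hbV : b ∈ zeroLocus (r'.asIdeal : Set A) := by
        rw [PrimeSpectrum.mem_zeroLocus, SetLike.coe_subset_coe, hr']
        rw [hsr] at hsb
        exact hsb
      exact hbB (hOG ⟨hbO, hbV⟩)
    · intro hp q hqp
      by_contra hqG
      apply hp
      have hq : q ∈ closure Gᶜ := subset_closure hqG
      exact ((PrimeSpectrum.le_iff_specializes q p).mp hqp).mem_closed isClosed_closure hq
  rw [heq]
  exact isClosed_closure.isOpen_compl

theorem isOpen_hasSkAt (n : ℕ) (hG : GenSk n A) (M : Type u) [AddCommGroup M] [Module A M]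
    [Module.Finite A M] :
    IsOpen {p : PrimeSpectrum A | EGA4.HasSkAt n A M p.asIdeal} := by
  have heq : {p : PrimeSpectrum A | EGA4.HasSkAt n A M p.asIdeal} =
      {p : PrimeSpectrum A | ∀ q : PrimeSpectrum A, q ≤ p → q ∈ good n M} := by
    ext p
    exact hasSkAt_iff n M p.asIdeal
  rw [heq]
  exact isOpen_setOf_forall_le (good n M) (good_nhd n hG M)

theorem genSk_of_open (n : ℕ)
    (h : ∀ (p : Ideal A) [p.IsPrime], ∃ U : Set (PrimeSpectrum (A ⧸ p)), IsOpen U ∧ U.Nonempty ∧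
      ∀ q ∈ U, EGA4.HasSkAt n (A ⧸ p) (A ⧸ p) q.asIdeal) : GenSk n A := by
  intro p hp
  obtain ⟨U, hUo, hUne, hU⟩ := h p
  obtain ⟨f, hfp, hf⟩ := exists_notMem_forall_mem p U hUo hUne
  refine ⟨f, hfp, fun q hq hpq hfq => ?_⟩
  obtain ⟨hQ, hcomap⟩ := map_mk_prime p q hpq
  haveI := hQ
  have hmem : (⟨q.map (Ideal.Quotient.mk p), hQ⟩ : PrimeSpectrum (A ⧸ p)) ∈ U := by
    apply hf
    intro hcon
    apply hfq
    rw [← hcomap]
    exact hcon
  have hSk := (hasSkAt_iff n (A ⧸ p) (q.map (Ideal.Quotient.mk p))).mp (hU _ hmem)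
    ⟨q.map (Ideal.Quotient.mk p), hQ⟩ le_rfl
  change min (n : WithBot ℕ∞) (dm (q.map (Ideal.Quotient.mk p)) (A ⧸ p)) ≤
    ((dep (q.map (Ideal.Quotient.mk p)) (A ⧸ p) : ℕ∞) : WithBot ℕ∞) at hSk
  obtain ⟨h3, h4⟩ := transfer_quot p (q.map (Ideal.Quotient.mk p))
  obtain ⟨h5, h6⟩ := dep_dm_congr_ideal hcomap (A ⧸ p)
  rw [← h6, ← h5, h4, h3]
  exact hSk

/-- `(S_1)` holds generically at the point on integral quotients, always. -/
theorem genSk_one : GenSk 1 A := by
  intro p hp
  refine ⟨1, fun h => hp.ne_top ((Ideal.eq_top_iff_one p).mpr h), fun q hq hpq _ => ?_⟩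
  haveI : IsNoetherianRing (Localization.AtPrime q) :=
    IsLocalization.isNoetherianRing q.primeCompl _ inferInstance
  haveI hnt : Nontrivial (LocalizedModule q.primeCompl (A ⧸ p)) :=
    Module.mem_support_iff.mp (mem_support_quotient p q hpq)
  by_cases hqp : q ≤ p
  · have heq : p = q := le_antisymm hpq hqp
    subst heq
    rw [(dm_dep_quotient_of_radical p p hp.radical).2]
    have h0 : (0 : WithBot ℕ∞) ≤ ((dep p (A ⧸ p) : ℕ∞) : WithBot ℕ∞) :=
      WithBot.coe_le_coe.mpr zero_le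
    exact (min_le_right _ _).trans h0
  · obtain ⟨x, hxq, hxp⟩ := SetLike.not_le_iff_exists.mp hqp
    haveI : IsDomain (A ⧸ p) := Ideal.Quotient.isDomain p
    have hreg : IsSMulRegular (A ⧸ p) x := by
      rw [isSMulRegular_iff_right_eq_zero_of_smul]
      intro m hm
      obtain ⟨a, rfl⟩ := Ideal.Quotient.mk_surjective m
      have h1 : Ideal.Quotient.mk p (x * a) = 0 := hm
      rw [Ideal.Quotient.eq_zero_iff_mem] at h1 ⊢
      exact (hp.mem_or_mem h1).resolve_left hxp
    have hreg' : IsSMulRegular (LocalizedModule q.primeCompl (A ⧸ p))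
        (algebraMap A (Localization.AtPrime q) x) := by
      refine (isSMulRegular_iff_right_eq_zero_of_smul (R := Localization.AtPrime q)
        (M := LocalizedModule q.primeCompl (A ⧸ p))).mpr ?_
      intro y hy
      induction y using LocalizedModule.induction_on with
      | h m s =>
        rw [algebraMap_smul, LocalizedModule.smul'_mk, mk_eq_zero_iff] at hy
        obtain ⟨t, ht⟩ := hy
        rw [mk_eq_zero_iff]
        refine ⟨t, ?_⟩
        rw [smul_comm] at ht
        exact hreg.right_eq_zero_of_smul ht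
    have hIM : IsLocalRing.maximalIdeal (Localization.AtPrime q) •
        (⊤ : Submodule (Localization.AtPrime q) (LocalizedModule q.primeCompl (A ⧸ p))) ≠ ⊤ :=
      maximalIdeal_smul_top_ne_top
    have hmem : algebraMap A (Localization.AtPrime q) x ∈
        IsLocalRing.maximalIdeal (Localization.AtPrime q) :=
      (IsLocalization.AtPrime.to_map_mem_maximal_iff (Localization.AtPrime q) q x).mpr hxq
    have h1 : 1 ≤ dep q (A ⧸ p) := (one_le_idealDepth_iff hIM).mpr ⟨_, hmem, hreg'⟩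
    have h2 : ((1 : ℕ) : WithBot ℕ∞) ≤ ((dep q (A ⧸ p) : ℕ∞) : WithBot ℕ∞) := by
      have : ((1 : ℕ) : WithBot ℕ∞) = (((1 : ℕ) : ℕ∞) : WithBot ℕ∞) := rfl
      rw [this, WithBot.coe_le_coe, Nat.cast_one]
      exact h1
    exact (min_le_left _ _).trans h2

end Sk

section Final

variable {A : Type u} [CommRing A]

theorem isCohenMacaulayRing_of_isRegularRing (R : Type u) [CommRing R] [IsRegularRing R] :
    LocCoh.IsCohenMacaulayRing R where
  isCohenMacaulayLocalRing_localization := fun p _ =>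
    Groth.Agent.Lib.Helper5.isCohenMacaulayLocalRing_of_isRegularLocalRing _

theorem cmu_of_regular_quotient (R : Type u) [CommRing R] [IsRegularRing R] [Algebra R A]
    (hs : Function.Surjective (algebraMap R A)) [IsNoetherianRing A] : CMU A := by
  haveI := isCohenMacaulayRing_of_isRegularRing R
  exact cmu_of_surjective hs cmu_of_isCohenMacaulayRing

end Final

end Groth.Agent.Lib.Helper5.CodepthOpen
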