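import Mathlib
import Groth.Agent.Lib.Helper28PolyCM
import Groth.Agent.Lib.Helper28FibreTrans
import Groth.Agent.Lib.Helper28DepthFlat2
import Groth.Agent.Lib.Helper28Unmixed

/-!
# Helper5TensorFieldsCM: `K ⊗[k] L` is Cohen–Macaulay for a finitely generated field extension `K/k`

* `isCohenMacaulayRing_of_isLocalization`: localizations of CM rings are CM;
* `isCohenMacaulayRing_of_isArtinianRing`;
* `isCohenMacaulayRing_of_finite_flat`: finite flat algebras over CM rings are CM;
* `cm_tensor_left`, `cm_tensor_right`: `K ⊗[k] L` is CM if `K` (resp. `L`) is essentially of finite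
  type over `k`.
-/

set_option autoImplicit false
universe u

namespace Groth.Agent.Lib.Helper5.TensorFieldsCM
open Groth.Agent.Lib.Helper28 TensorProduct

/-- The Cohen–Macaulay property passes to localizations. -/
theorem isCohenMacaulayRing_of_isLocalization {S : Type u} [CommRing S]
    [hS : LocCoh.IsCohenMacaulayRing S] (M : Submonoid S) (T : Type u) [CommRing T] [Algebra S T]
    [IsLocalization M T] : LocCoh.IsCohenMacaulayRing T := by
  haveI : IsNoetherianRing T := IsLocalization.isNoetherianRing M T inferInstance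
  refine { isCohenMacaulayLocalRing_localization := ?_ }
  intro P hP
  have hp : (P.comap (algebraMap S T)).IsPrime := Ideal.comap_isPrime _ _
  haveI := hS.isCohenMacaulayLocalRing_localization (P.comap (algebraMap S T))
  haveI : IsLocalization.AtPrime (Localization.AtPrime P) (P.comap (algebraMap S T)) :=
    IsLocalization.isLocalization_isLocalization_atPrime_isLocalization M
      (Localization.AtPrime P) P
  exact isCohenMacaulayLocalRing_of_ringEquiv
    (IsLocalization.algEquiv (P.comap (algebraMap S T)).primeCompl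
      (Localization.AtPrime (P.comap (algebraMap S T))) (Localization.AtPrime P)).toRingEquiv

theorem isCohenMacaulayLocalRing_of_isArtinianRing (R : Type u) [CommRing R] [IsLocalRing R]
    [IsArtinianRing R] : LocCoh.IsCohenMacaulayLocalRing R := by
  refine { supportDim_eq_depth := ?_ }
  rw [Module.supportDim_self_eq_ringKrullDim]
  have h1 : ringKrullDim R = 0 :=
    ringKrullDimZero_iff_ringKrullDim_eq_zero.mp inferInstance
  have h2 : LocCoh.depth R R = 0 :=
    depth_eq_zero_of_isFiniteLength
      (isFiniteLength_iff_isNoetherian_isArtinian.mpr ⟨inferInstance, inferInstance⟩)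
  rw [h1, h2]
  rfl

theorem isCohenMacaulayRing_of_isArtinianRing (R : Type u) [CommRing R] [IsArtinianRing R] :
    LocCoh.IsCohenMacaulayRing R := by
  refine { isCohenMacaulayLocalRing_localization := ?_ }
  intro p hp
  exact isCohenMacaulayLocalRing_of_isArtinianRing _

/-- A finite flat algebra over a Cohen–Macaulay ring is Cohen–Macaulay. -/
theorem isCohenMacaulayRing_of_finite_flat (C D : Type u) [CommRing C] [CommRing D] [Algebra C D]
    [Module.Finite C D] [Module.Flat C D] [hC : LocCoh.IsCohenMacaulayRing C] :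
    LocCoh.IsCohenMacaulayRing D := by
  haveI : IsNoetherianRing D := IsNoetherianRing.of_finite C D
  have hfib : ∀ (p : Ideal C) [p.IsPrime], LocCoh.IsCohenMacaulayRing (p.Fiber D) := by
    intro p _
    haveI : IsArtinianRing (p.Fiber D) := IsArtinianRing.of_finite p.ResidueField (p.Fiber D)
    exact isCohenMacaulayRing_of_isArtinianRing _
  have hloc := forall_isCohenMacaulayRing_fiber_iff.mp hfib
  refine { isCohenMacaulayLocalRing_localization := ?_ }
  intro Q hQ
  have hF := hloc Q
  haveI : IsLocalRing (EGA4.FibLocRing C D Q) := hF.toIsLocalRing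
  refine isCohenMacaulayLocalRing_localization_of_fibLocRing (A := C) Q
    (hC.isCohenMacaulayLocalRing_localization _) ?_
  have h1 := hF.supportDim_eq_depth
  rwa [Module.supportDim_self_eq_ringKrullDim] at h1

section Tower

variable (k F K L : Type u) [Field k] [Field F] [Field K] [Field L]
  [Algebra k F] [Algebra F K] [Algebra k K] [IsScalarTower k F K] [Algebra k L]

/-- `F ⊗[k] L` is CM when `F` is a rational function field over `k`. -/
theorem cm_tensor_ratFunc (n : ℕ) (e0 : FractionRing (MvPolynomial (Fin n) k) ≃ₐ[k] F) :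
    LocCoh.IsCohenMacaulayRing (F ⊗[k] L) := by
  haveI hL : LocCoh.IsCohenMacaulayRing L := isCohenMacaulayRing_of_field L
  haveI hPL : LocCoh.IsCohenMacaulayRing (MvPolynomial (Fin n) L) :=
    isCohenMacaulayRing_mvPolynomial_fin n
  haveI hS : LocCoh.IsCohenMacaulayRing (MvPolynomial (Fin n) k ⊗[k] L) :=
    isCohenMacaulayRing_of_ringEquiv
      ((Algebra.TensorProduct.comm k (MvPolynomial (Fin n) k) L).toRingEquiv.trans
        (MvPolynomial.algebraTensorAlgEquiv k L).toRingEquiv).symm
  letI : Algebra (MvPolynomial (Fin n) k ⊗[k] L)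
      (FractionRing (MvPolynomial (Fin n) k) ⊗[MvPolynomial (Fin n) k]
        (MvPolynomial (Fin n) k ⊗[k] L)) := Algebra.TensorProduct.rightAlgebra
  haveI hloc : IsLocalization
      (Algebra.algebraMapSubmonoid (MvPolynomial (Fin n) k ⊗[k] L)
        (nonZeroDivisors (MvPolynomial (Fin n) k)))
      (FractionRing (MvPolynomial (Fin n) k) ⊗[MvPolynomial (Fin n) k]
        (MvPolynomial (Fin n) k ⊗[k] L)) :=
    IsLocalization.tensorRight (FractionRing (MvPolynomial (Fin n) k))
      (nonZeroDivisors (MvPolynomial (Fin n) k))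
  haveI hW : LocCoh.IsCohenMacaulayRing
      (FractionRing (MvPolynomial (Fin n) k) ⊗[MvPolynomial (Fin n) k]
        (MvPolynomial (Fin n) k ⊗[k] L)) :=
    isCohenMacaulayRing_of_isLocalization
      (Algebra.algebraMapSubmonoid (MvPolynomial (Fin n) k ⊗[k] L)
        (nonZeroDivisors (MvPolynomial (Fin n) k))) _
  haveI hQ : LocCoh.IsCohenMacaulayRing (FractionRing (MvPolynomial (Fin n) k) ⊗[k] L) :=
    isCohenMacaulayRing_of_ringEquiv
      (Algebra.TensorProduct.cancelBaseChange k (MvPolynomial (Fin n) k)
        (FractionRing (MvPolynomial (Fin n) k)) (FractionRing (MvPolynomial (Fin n) k))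
        L).toRingEquiv
  exact isCohenMacaulayRing_of_ringEquiv
    (Algebra.TensorProduct.congr e0 (AlgEquiv.refl : L ≃ₐ[k] L)).toRingEquiv

/-- `K ⊗[k] L` is CM when `K` is finite over a rational function field `F` over `k`. -/
theorem cm_tensor_of_tower [Module.Finite F K] (n : ℕ)
    (e0 : FractionRing (MvPolynomial (Fin n) k) ≃ₐ[k] F) :
    LocCoh.IsCohenMacaulayRing (K ⊗[k] L) := by
  haveI hC : LocCoh.IsCohenMacaulayRing (F ⊗[k] L) := cm_tensor_ratFunc k F L n e0
  haveI hD : LocCoh.IsCohenMacaulayRing ((F ⊗[k] L) ⊗[F] K) :=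
    isCohenMacaulayRing_of_finite_flat (F ⊗[k] L) ((F ⊗[k] L) ⊗[F] K)
  haveI hD2 : LocCoh.IsCohenMacaulayRing (K ⊗[F] (F ⊗[k] L)) :=
    isCohenMacaulayRing_of_ringEquiv
      (Algebra.TensorProduct.comm F (F ⊗[k] L) K).toRingEquiv
  exact isCohenMacaulayRing_of_ringEquiv
    (Algebra.TensorProduct.cancelBaseChange k F K K L).toRingEquiv

end Tower

theorem cm_tensor_left (k K L : Type u) [Field k] [Field K] [Field L] [Algebra k K] [Algebra k L]
    [Algebra.EssFiniteType k K] : LocCoh.IsCohenMacaulayRing (K ⊗[k] L) := by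
  obtain ⟨s, hs⟩ := exists_isTranscendenceBasis k K
  haveI : Finite s := finite_of_isTranscendenceBasis hs
  obtain ⟨n, ⟨e⟩⟩ := Finite.exists_equiv_fin s
  have hx : IsTranscendenceBasis k ((Subtype.val : s → K) ∘ e.symm) :=
    (isTranscendenceBasis_equiv e.symm).mpr hs
  haveI : Algebra.IsAlgebraic
      (IntermediateField.adjoin k (Set.range ((Subtype.val : s → K) ∘ e.symm))) K :=
    hx.isAlgebraic_field
  haveI : Algebra.EssFiniteType
      (IntermediateField.adjoin k (Set.range ((Subtype.val : s → K) ∘ e.symm))) K :=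
    Algebra.EssFiniteType.of_comp k _ K
  haveI : Module.Finite
      (IntermediateField.adjoin k (Set.range ((Subtype.val : s → K) ∘ e.symm))) K :=
    Algebra.finite_of_essFiniteType_of_isAlgebraic
  exact cm_tensor_of_tower k
    (IntermediateField.adjoin k (Set.range ((Subtype.val : s → K) ∘ e.symm))) K L n
    hx.1.aevalEquivField

theorem cm_tensor_right (k K L : Type u) [Field k] [Field K] [Field L] [Algebra k K] [Algebra k L]
    [Algebra.EssFiniteType k L] : LocCoh.IsCohenMacaulayRing (K ⊗[k] L) := by
  haveI := cm_tensor_left k L K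
  exact isCohenMacaulayRing_of_ringEquiv (Algebra.TensorProduct.comm k L K).toRingEquiv

end Groth.Agent.Lib.Helper5.TensorFieldsCM
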