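import Mathlib
import Groth.Agent.Lib.Helper5CodepthOpen
import Groth.Agent.Lib.Helper5TensorFieldsCM
import Groth.Agent.Lib.Helper28FlatNormal
import Groth.Agent.Lib.Helper28DepthFlat3
import Groth.Agent.Lib.Helper28FibreTrans

/-!
# Helper5FlatCMFibres: flat ring maps with Cohen–Macaulay fibres preserve codepth and `(S_n)`

* `hasSkAt_self_iff`: `(S_n)` of a ring at a prime, pointwise in terms of heights and depths;
* `codepth_eq`: `ht P + depth B_Q = ht Q + depth A_P` when the fibre local ring at `Q` is CM;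
* `hasSkAt_iff_of_cm_fibres`;
* `cm_fibres_baseChange_field`: the fibre local rings of `S → S ⊗[k] k'` are CM.
-/

set_option autoImplicit false
universe u

namespace Groth.Agent.Lib.Helper5.FlatCMFibres
open Groth.Agent.Lib.Helper28 Groth.Agent.Lib.Helper5 Groth.Agent.Lib.Helper5.GenDepth
  Groth.Agent.Lib.Helper5.CodepthOpen TensorProduct

section Self

variable {A : Type u} [CommRing A] [IsNoetherianRing A]

theorem hasSkAt_self_iff (n : ℕ) (p : Ideal A) [p.IsPrime] :
    EGA4.HasSkAt n A A p ↔ ∀ (p₁ : Ideal A) [p₁.IsPrime], p₁ ≤ p →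
      min (n : ℕ∞) p₁.height ≤
        LocCoh.depth (Localization.AtPrime p₁) (Localization.AtPrime p₁) := by
  rw [hasSkAt_iff n A p]
  constructor
  · intro h p₁ hp₁ hle
    have h1 := h ⟨p₁, hp₁⟩ hle
    unfold good at h1
    rw [Set.mem_ofPred_eq] at h1
    obtain ⟨h2, h3⟩ := dep_dm_self p₁
    change min (n : WithBot ℕ∞) (dm p₁ A) ≤ ((dep p₁ A : ℕ∞) : WithBot ℕ∞) at h1
    rw [h2, h3, supportDim_localization_self, withBot_min_natCast_le_iff] at h1
    exact h1
  · intro h q hq
    haveI := q.2
    have h1 := h q.asIdeal hq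
    unfold good
    rw [Set.mem_ofPred_eq]
    obtain ⟨h2, h3⟩ := dep_dm_self q.asIdeal
    rw [h2, h3, supportDim_localization_self, withBot_min_natCast_le_iff]
    exact h1

end Self

section Flat

variable {A B : Type u} [CommRing A] [CommRing B] [IsNoetherianRing A] [IsNoetherianRing B]
  [Algebra A B] [Module.Flat A B]

theorem codepth_eq (Q : Ideal B) [Q.IsPrime]
    (hF : LocCoh.IsCohenMacaulayLocalRing (EGA4.FibLocRing A B Q)) :
    (Q.comap (algebraMap A B)).height +
        LocCoh.depth (Localization.AtPrime Q) (Localization.AtPrime Q) =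
      Q.height + LocCoh.depth (Localization.AtPrime (Q.comap (algebraMap A B)))
        (Localization.AtPrime (Q.comap (algebraMap A B))) := by
  haveI := hF.toIsLocalRing
  have h1 := height_eq_height_fibLocRing_add (A := A) Q
  have h2 := depth_localization_eq_add_fibLocRing (A := A) Q
  have h3 := (isCohenMacaulayLocalRing_iff _).mp hF
  rw [h1, h2, h3]
  ring

theorem hasSkAt_iff_of_cm_fibres (n : ℕ)
    (hF : ∀ (Q : Ideal B) [Q.IsPrime], LocCoh.IsCohenMacaulayLocalRing (EGA4.FibLocRing A B Q))
    (Q : Ideal B) [Q.IsPrime] :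
    EGA4.HasSkAt n A A (Q.comap (algebraMap A B)) ↔ EGA4.HasSkAt n B B Q := by
  rw [hasSkAt_self_iff, hasSkAt_self_iff]
  constructor
  · intro h Q₁ hQ₁ hle
    have hle' : Q₁.comap (algebraMap A B) ≤ Q.comap (algebraMap A B) := Ideal.comap_mono hle
    have h1 := h (Q₁.comap (algebraMap A B)) hle'
    haveI := (hF Q₁).toIsLocalRing
    have h3 := (isCohenMacaulayLocalRing_iff _).mp (hF Q₁)
    rw [height_eq_height_fibLocRing_add (A := A) Q₁,
      depth_localization_eq_add_fibLocRing (A := A) Q₁, h3]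
    calc min (n : ℕ∞) (LocCoh.depth (EGA4.FibLocRing A B Q₁) (EGA4.FibLocRing A B Q₁) +
            (Q₁.comap (algebraMap A B)).height)
        ≤ min (n : ℕ∞) (LocCoh.depth (EGA4.FibLocRing A B Q₁) (EGA4.FibLocRing A B Q₁)) +
            min (n : ℕ∞) (Q₁.comap (algebraMap A B)).height := min_natCast_add_le n _ _
      _ ≤ LocCoh.depth (EGA4.FibLocRing A B Q₁) (EGA4.FibLocRing A B Q₁) +
            LocCoh.depth (Localization.AtPrime (Q₁.comap (algebraMap A B)))
              (Localization.AtPrime (Q₁.comap (algebraMap A B))) :=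
          add_le_add (min_le_right _ _) h1
      _ = _ := add_comm _ _
  · intro h p₁ hp₁ hle
    haveI : Q.LiesOver (Q.comap (algebraMap A B)) := ⟨rfl⟩
    obtain ⟨Q₁, hQ₁le, hQ₁p, hQ₁lies⟩ :=
      Ideal.exists_ideal_le_liesOver_of_le (p := p₁) (q := Q.comap (algebraMap A B)) Q hle
    have hmap : p₁.map (algebraMap A B) ≤ Q₁ := by
      rw [Ideal.map_le_iff_le_comap]
      exact le_of_eq hQ₁lies.over
    obtain ⟨r, hr, hrle⟩ := Ideal.exists_minimalPrimes_le hmap
    haveI : r.IsPrime := hr.1.1
    obtain ⟨hd, hh⟩ := depth_height_localization_eq_of_mem_minimalPrimes_map p₁ r hr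
    have h1 := h r (hrle.trans hQ₁le)
    rw [hd, hh] at h1
    exact h1

end Flat

section FieldBaseChange

variable (k S k' : Type u) [Field k] [CommRing S] [Algebra k S] [IsNoetherianRing S] [Field k']
  [Algebra k k']

theorem cm_fibres_baseChange_field
    (hft : Algebra.FiniteType k S ∨ Algebra.EssFiniteType k k') [IsNoetherianRing (S ⊗[k] k')]
    (Q : Ideal (S ⊗[k] k')) [Q.IsPrime] :
    LocCoh.IsCohenMacaulayLocalRing (EGA4.FibLocRing S (S ⊗[k] k') Q) := by
  refine forall_isCohenMacaulayRing_fiber_iff.mp ?_ Q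
  intro p hp
  have hcm : LocCoh.IsCohenMacaulayRing (p.ResidueField ⊗[k] k') := by
    rcases hft with h | h
    · haveI := h
      haveI : Algebra.EssFiniteType k p.ResidueField :=
        Algebra.EssFiniteType.comp k S p.ResidueField
      exact TensorFieldsCM.cm_tensor_left k p.ResidueField k'
    · haveI := h
      exact TensorFieldsCM.cm_tensor_right k p.ResidueField k'
  exact isCohenMacaulayRing_of_ringEquiv
    (Algebra.TensorProduct.cancelBaseChange k S p.ResidueField p.ResidueField k').symm.toRingEquiv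

end FieldBaseChange

end Groth.Agent.Lib.Helper5.FlatCMFibres
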