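import Mathlib

/-!
# Flat preimmersions induce isomorphisms on local rings (helper5)

* `flat_fromSpecStalk`: the canonical morphism `Spec O_{X,x} ⟶ X` is flat.
* `stalkMap_bijective_of_flat_of_isPreimmersion`: a flat preimmersion induces bijections on
  stalks.
* stability of "flat preimmersion" under base change is by Mathlib instances.
-/

set_option autoImplicit false
universe u

namespace Groth.Agent.Lib.Helper5.FlatPreimm

open AlgebraicGeometry CategoryTheory Limits IsLocalRing

instance flat_fromSpecStalk (X : Scheme.{u}) (x : X) : Flat (X.fromSpecStalk x) := by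
  obtain ⟨_, ⟨U, hU, rfl⟩, hxU, -⟩ :=
    X.isBasis_affineOpens.exists_subset_of_mem_open (Set.mem_univ x) isOpen_univ
  rw [← hU.fromSpecStalk_eq_fromSpecStalk hxU]
  unfold IsAffineOpen.fromSpecStalk
  haveI : Flat (Spec.map (X.presheaf.germ U x hxU)) := by
    rw [Flat.SpecMap_iff]
    letI := TopCat.Presheaf.algebra_section_stalk X.presheaf (⟨x, hxU⟩ : U)
    haveI := hU.isLocalization_stalk ⟨x, hxU⟩
    exact IsLocalization.flat (X.presheaf.stalk x) (hU.primeIdealOf ⟨x, hxU⟩).asIdeal.primeCompl
  infer_instance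

/-- A flat preimmersion induces bijections on stalks. -/
theorem stalkMap_bijective_of_flat_of_isPreimmersion {X Y : Scheme.{u}} (f : X ⟶ Y) [Flat f]
    [IsPreimmersion f] (x : X) : Function.Bijective (f.stalkMap x).hom := by
  refine ⟨?_, f.stalkMap_surjective x⟩
  letI := (f.stalkMap x).hom.toAlgebra
  haveI : Module.Flat (Y.presheaf.stalk (f x)) (X.presheaf.stalk x) := Flat.stalkMap f x
  haveI : IsLocalHom (algebraMap (Y.presheaf.stalk (f x)) (X.presheaf.stalk x)) :=
    inferInstanceAs (IsLocalHom (f.stalkMap x).hom)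
  haveI : Module.FaithfullyFlat (Y.presheaf.stalk (f x)) (X.presheaf.stalk x) :=
    Module.FaithfullyFlat.of_flat_of_isLocalHom
  exact FaithfulSMul.algebraMap_injective (Y.presheaf.stalk (f x)) (X.presheaf.stalk x)

/-- The ring isomorphism on stalks induced by a flat preimmersion. -/
noncomputable def stalkEquiv {X Y : Scheme.{u}} (f : X ⟶ Y) [Flat f] [IsPreimmersion f] (x : X) :
    Y.presheaf.stalk (f x) ≃+* X.presheaf.stalk x :=
  RingEquiv.ofBijective (f.stalkMap x).hom (stalkMap_bijective_of_flat_of_isPreimmersion f x)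

/-- Stalks at equal points are isomorphic. -/
theorem nonempty_stalk_equiv_of_eq {X : Scheme.{u}} {a b : X} (h : a = b) :
    Nonempty (X.presheaf.stalk a ≃+* X.presheaf.stalk b) := by
  subst h
  exact ⟨RingEquiv.refl _⟩

theorem flat_stalkMap_of_eq {X Y : Scheme.{u}} (f : X ⟶ Y) {a b : X} (h : a = b)
    (hf : (f.stalkMap a).hom.Flat) : (f.stalkMap b).hom.Flat := by
  subst h
  exact hf

end Groth.Agent.Lib.Helper5.FlatPreimm
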