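import Mathlib
import Groth.Agent.Lib.Helper5GorRing

/-!
# Gorenstein property and base change of the ground field (helper5)

* `gor_baseChange_field_iff`: `S_p` Gorenstein iff `(S ⊗[k] k')_Q` Gorenstein, given Gorenstein
  `κ(p) ⊗[k] k'`.
* `gorRing_residueField_tensor_of_fg`, `gorRing_residueField_tensor_of_finiteType`.
-/

set_option autoImplicit false
universe u

namespace Groth.Agent.Lib.Helper5.GorBC
open IsLocalRing TensorProduct Groth.Agent.Lib.Helper5.GorRing Groth.Agent.Lib.Helper5
  Groth.Agent.Lib.Helper28 LocCoh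

section

variable (k S k' : Type u) [Field k] [CommRing S] [Algebra k S] [IsNoetherianRing S] [Field k']
  [Algebra k k']

theorem gor_baseChange_field_iff [IsNoetherianRing (S ⊗[k] k')]
    (hfib : ∀ (p : Ideal S) [p.IsPrime], IsGorensteinRing (p.ResidueField ⊗[k] k'))
    (Q : Ideal (S ⊗[k] k')) [Q.IsPrime] :
    IsGorensteinLocalRing (Localization.AtPrime (Q.comap (algebraMap S (S ⊗[k] k')))) ↔
      IsGorensteinLocalRing (Localization.AtPrime Q) := by
  have h1 := gor_localization_iff (A := S) (B := S ⊗[k] k') Q
  have h2 : IsGorensteinLocalRing (EGA4.FibLocRing S (S ⊗[k] k') Q) := by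
    refine (forall_gor_fiber_iff (A := S) (B := S ⊗[k] k')).mp ?_ Q
    intro p hp
    haveI := hfib p
    exact gorRing_of_ringEquiv (R := p.ResidueField ⊗[k] k')
      (Algebra.TensorProduct.cancelBaseChange k S p.ResidueField p.ResidueField k').symm.toRingEquiv
  rw [h1]
  exact ⟨fun h => ⟨h, h2⟩, fun h => h.1⟩

end

theorem gorRing_tensor_field_of_fg (k K k' : Type u) [Field k] [Field K] [Field k'] [Algebra k K]
    [Algebra k k'] (hfg : ∃ s : Finset k', IntermediateField.adjoin k (s : Set k') = ⊤) :
    IsGorensteinRing (K ⊗[k] k') := by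
  haveI := gorRing_of_field K
  haveI := gorRing_tensor_of_fg k k' K hfg
  exact gorRing_of_ringEquiv (R := k' ⊗[k] K) (Algebra.TensorProduct.comm k k' K).toRingEquiv

theorem gorRing_tensor_field_of_essFiniteType (k K k' : Type u) [Field k] [Field K] [Field k']
    [Algebra k K] [Algebra k k'] [Algebra.EssFiniteType k K] : IsGorensteinRing (K ⊗[k] k') := by
  haveI := gorRing_of_field k'
  exact gorRing_tensor_of_fg k K k' (IntermediateField.fg_top_iff.mpr inferInstance)

/-- A local ring is isomorphic to its localization at a prime equal to the maximal ideal. -/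
theorem gor_localization_maximalIdeal_iff (B : Type u) [CommRing B] [IsLocalRing B]
    (p : Ideal B) [p.IsPrime] (hp : p = maximalIdeal B) :
    IsGorensteinLocalRing B ↔ IsGorensteinLocalRing (Localization.AtPrime p) := by
  have h0 : p.primeCompl ≤ IsUnit.submonoid B := by
    intro x hx
    rw [IsUnit.mem_submonoid_iff]
    by_contra hnu
    exact hx (hp ▸ (mem_maximalIdeal x).mpr hnu)
  haveI : IsLocalization p.primeCompl B := IsLocalization.of_le_isUnit h0
  let e := (IsLocalization.algEquiv p.primeCompl B (Localization.AtPrime p)).toRingEquiv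
  exact ⟨fun h => @gorLocal_of_ringEquiv _ _ _ _ e h, fun h => @gorLocal_of_ringEquiv _ _ _ _ e.symm h⟩

end Groth.Agent.Lib.Helper5.GorBC
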