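import Mathlib
import Groth.Agent.Lib.Helper5FlatPreimm
import Groth.Agent.Lib.Helper5FiberMor
import Groth.Agent.Lib.Helper5FlatCMFibres
import Groth.Agent.Lib.Helper5GorBC

/-!
# Base change of fibres: local rings and pointwise flatness (helper5)

* `flat_stalkMap_of_isPullback`: pointwise flatness is stable under base change.
* `flat_stalkMap_of_isPullback_of_flat`: descent of pointwise flatness along a base change that
  is flat at the point.
* `localization_iff`, `ringBC`: ring-level comparison of `T` and `(T ⊗[k] k')_𝔮`.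
* `fiber_stalk_baseChange_iff`: in a cartesian square, the local ring of the fibre of `f'` at `x'`
  has `P` iff the local ring of the fibre of `f` at `g' x'` has `P`
  (`P` = Cohen–Macaulay, Gorenstein, ...), when `f` or `g` is locally of finite type.
-/

set_option autoImplicit false
universe u

namespace Groth.Agent.Lib.Helper5.FiberBC
open AlgebraicGeometry CategoryTheory Limits IsLocalRing TensorProduct
  Groth.Agent.Lib.Helper5.FiberStalk Groth.Agent.Lib.Helper5.FiberRing
  Groth.Agent.Lib.Helper5.FiberMor Groth.Agent.Lib.Helper5.FlatPreimm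
  Groth.Agent.Lib.Helper5 Groth.Agent.Lib.Helper28 LocCoh

section FlatBC

variable {X Y X' Y' : Scheme.{u}} {f : X ⟶ Y} {g : Y' ⟶ Y} {f' : X' ⟶ Y'} {g' : X' ⟶ X}

/-- Pointwise flatness is stable under base change. -/
theorem flat_stalkMap_of_isPullback (hsq : IsPullback g' f' f g) (x' : X')
    (hfl : (f.stalkMap (g' x')).hom.Flat) : (f'.stalkMap x').hom.Flat := by
  haveI hφ : Flat (X.fromSpecStalk (g' x') ≫ f) := by
    have : X.fromSpecStalk (g' x') ≫ f =
        Spec.map (f.stalkMap (g' x')) ≫ Y.fromSpecStalk (f (g' x')) :=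
      (Scheme.SpecMap_stalkMap_fromSpecStalk (f := f) (x := g' x')).symm
    rw [this]
    haveI : Flat (Spec.map (f.stalkMap (g' x'))) := Flat.SpecMap_iff.mpr hfl
    infer_instance
  have hpaste : IsPullback (pullback.fst (X.fromSpecStalk (g' x')) g')
      (pullback.snd (X.fromSpecStalk (g' x')) g' ≫ f') (X.fromSpecStalk (g' x') ≫ f) g :=
    (IsPullback.of_hasPullback (X.fromSpecStalk (g' x')) g').paste_vert hsq
  haveI hfl2 : Flat (pullback.snd (X.fromSpecStalk (g' x')) g' ≫ f') :=
    MorphismProperty.of_isPullback (P := @Flat) hpaste hφ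
  obtain ⟨z', -, hz2⟩ := Scheme.Pullback.exists_preimage_pullback
    (f := X.fromSpecStalk (g' x')) (g := g') (closedPoint (X.presheaf.stalk (g' x'))) x'
    Scheme.fromSpecStalk_closedPoint
  have h1 := Flat.stalkMap (pullback.snd (X.fromSpecStalk (g' x')) g' ≫ f') z'
  rw [Scheme.Hom.stalkMap_comp] at h1
  have h2 : (f'.stalkMap ((pullback.snd (X.fromSpecStalk (g' x')) g') z')).hom.Flat :=
    (RingHom.Flat.comp_iff_of_bijective_left
      (stalkMap_bijective_of_flat_of_isPreimmersion
        (pullback.snd (X.fromSpecStalk (g' x')) g') z')).mp h1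
  exact flat_stalkMap_of_eq f' hz2 h2

/-- Descent of pointwise flatness: if `f'` is flat at `x'` and `g` is flat at `f' x'` then `f` is
flat at `g' x'`. -/
theorem flat_stalkMap_of_isPullback_of_flat (hsq : IsPullback g' f' f g) (x' : X')
    (hf' : (f'.stalkMap x').hom.Flat) (hg : (g.stalkMap (f' x')).hom.Flat) :
    (f.stalkMap (g' x')).hom.Flat := by
  have hg' : (g'.stalkMap x').hom.Flat := flat_stalkMap_of_isPullback hsq.flip x' hg
  have h1 : ((f' ≫ g).stalkMap x').hom.Flat := flat_comp f' g x' hf' hg
  have h2 : ((g' ≫ f).stalkMap x').hom.Flat := by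
    rw [Scheme.Hom.stalkMap_congr_hom _ _ hsq.w x']
    refine RingHom.Flat.comp (RingHom.Flat.of_bijective ?_) h1
    exact ConcreteCategory.bijective_of_isIso _
  exact flat_of_comp g' f x' h2 hg'

end FlatBC

section RingBC

variable {P : ∀ (R : Type u) [CommRing R], Prop}

/-- For a flat map `A → B` of Noetherian rings and a prime `Q` of `B` over `p`: `B_Q` has `P` iff
`A_p` and the fibre local ring `B_Q / p B_Q` have `P`. -/
theorem localization_iff (hP : FlatLocalIff P) {A B : Type u} [CommRing A] [CommRing B]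
    [IsNoetherianRing A] [IsNoetherianRing B] [Algebra A B] [Module.Flat A B] (Q : Ideal B)
    [Q.IsPrime] :
    P (Localization.AtPrime Q) ↔
      P (Localization.AtPrime (Q.comap (algebraMap A B))) ∧ P (EGA4.FibLocRing A B Q) := by
  obtain ⟨alg, hloc, hflat, hmap⟩ := exists_algebra_localization_flat (A := A) (B := B) Q
  letI := alg
  haveI := hloc
  haveI := hflat
  haveI : IsLocalRing (EGA4.FibLocRing A B Q) := isLocalRing_fibLocRing (A := A) Q
  exact hP (Localization.AtPrime (Q.comap (algebraMap A B))) (Localization.AtPrime Q)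
    (EGA4.FibLocRing A B Q) (Ideal.Quotient.mk _) Ideal.Quotient.mk_surjective
    (by rw [Ideal.mk_ker]; exact hmap)

/-- The fibre local rings of a base change `S → S ⊗[k] k'` along a field extension have `P`. -/
def FieldFibP (P : ∀ (R : Type u) [CommRing R], Prop) : Prop :=
  ∀ (k S k' : Type u) [Field k] [CommRing S] [Algebra k S] [IsNoetherianRing S] [Field k']
    [Algebra k k'], (Algebra.EssFiniteType k S ∨ Algebra.EssFiniteType k k') →
    ∀ [IsNoetherianRing (S ⊗[k] k')] (Q : Ideal (S ⊗[k] k')) [Q.IsPrime],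
      P (EGA4.FibLocRing S (S ⊗[k] k') Q)

theorem fieldFibP_cm : FieldFibP.{u} (fun R _ => IsCohenMacaulayLocalRing R) := by
  intro k S k' _ _ _ _ _ _ hft _ Q _
  refine forall_isCohenMacaulayRing_fiber_iff.mp ?_ Q
  intro p hp
  have hcm : LocCoh.IsCohenMacaulayRing (p.ResidueField ⊗[k] k') := by
    rcases hft with h | h
    · haveI := h
      haveI : Algebra.EssFiniteType k p.ResidueField :=
        Algebra.EssFiniteType.comp k S p.ResidueField
      exact TensorFieldsCM.cm_tensor_left k p.ResidueField k'
    · haveI := h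
      exact TensorFieldsCM.cm_tensor_right k p.ResidueField k'
  exact isCohenMacaulayRing_of_ringEquiv
    (Algebra.TensorProduct.cancelBaseChange k S p.ResidueField p.ResidueField k').symm.toRingEquiv

theorem fieldFibP_gor : FieldFibP.{u} (fun R _ => IsGorensteinLocalRing R) := by
  intro k S k' _ _ _ _ _ _ hft _ Q _
  refine (GorRing.forall_gor_fiber_iff (A := S) (B := S ⊗[k] k')).mp ?_ Q
  intro p hp
  have hg : IsGorensteinRing (p.ResidueField ⊗[k] k') := by
    rcases hft with h | h
    · haveI := h
      haveI : Algebra.EssFiniteType k p.ResidueField :=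
        Algebra.EssFiniteType.comp k S p.ResidueField
      exact GorBC.gorRing_tensor_field_of_essFiniteType k p.ResidueField k'
    · haveI := h
      exact GorBC.gorRing_tensor_field_of_fg k p.ResidueField k'
        (IntermediateField.fg_top_iff.mpr inferInstance)
  exact GorRing.gorRing_of_ringEquiv (R := p.ResidueField ⊗[k] k')
    (Algebra.TensorProduct.cancelBaseChange k S p.ResidueField p.ResidueField k').symm.toRingEquiv

/-- For a Noetherian local `k`-algebra `T`, a field extension `k'/k` (one of them essentially of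
finite type over `k`) and a prime `𝔮` of `T ⊗[k] k'` over the maximal ideal of `T`:
`(T ⊗[k] k')_𝔮` has `P` iff `T` has `P`. -/
theorem ringBC (hP : FlatLocalIff P) (hPe : IsoInv P) (hF : FieldFibP P)
    (k T k' : Type u) [Field k] [CommRing T] [IsLocalRing T] [IsNoetherianRing T] [Field k']
    [Algebra k T] [Algebra k k']
    (hft : Algebra.EssFiniteType k T ∨ Algebra.EssFiniteType k k')
    (𝔮 : Ideal (T ⊗[k] k')) [𝔮.IsPrime]
    (h𝔮 : 𝔮.comap (algebraMap T (T ⊗[k] k')) = maximalIdeal T) :
    P (Localization.AtPrime 𝔮) ↔ P T := by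
  haveI hN : IsNoetherianRing (T ⊗[k] k') := by
    rcases hft with h | h
    · haveI := h
      haveI : Algebra.EssFiniteType k' (k' ⊗[k] T) := inferInstance
      haveI : IsNoetherianRing (k' ⊗[k] T) := Algebra.EssFiniteType.isNoetherianRing k' _
      exact isNoetherianRing_of_ringEquiv _ (Algebra.TensorProduct.comm k k' T).toRingEquiv
    · haveI := h
      haveI : Algebra.EssFiniteType T (T ⊗[k] k') := inferInstance
      exact Algebra.EssFiniteType.isNoetherianRing T _
  have h1 := localization_iff hP (A := T) (B := T ⊗[k] k') 𝔮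
  have h2 := hF k T k' hft 𝔮
  have h0 : (𝔮.comap (algebraMap T (T ⊗[k] k'))).primeCompl ≤ IsUnit.submonoid T := by
    intro x hx
    rw [IsUnit.mem_submonoid_iff]
    by_contra hnu
    exact hx (h𝔮 ▸ (mem_maximalIdeal x).mpr hnu)
  haveI : IsLocalization (𝔮.comap (algebraMap T (T ⊗[k] k'))).primeCompl T :=
    IsLocalization.of_le_isUnit h0
  let e := (IsLocalization.algEquiv (𝔮.comap (algebraMap T (T ⊗[k] k'))).primeCompl T
    (Localization.AtPrime (𝔮.comap (algebraMap T (T ⊗[k] k'))))).toRingEquiv
  rw [h1]
  constructor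
  · rintro ⟨h, -⟩
    exact hPe _ _ e.symm h
  · intro h
    exact ⟨hPe _ _ e h, h2⟩

end RingBC

section FibBC

variable {X Y : Scheme.{u}}

/-- Stalks of fibres over equal points at corresponding points are isomorphic. -/
theorem fiber_stalk_transport (f : X ⟶ Y) {y₁ y₂ : Y} (hy : y₁ = y₂) (z₁ : f.fiber y₁)
    (z₂ : f.fiber y₂) (hz : f.fiberι y₁ z₁ = f.fiberι y₂ z₂) :
    Nonempty ((f.fiber y₁).presheaf.stalk z₁ ≃+* (f.fiber y₂).presheaf.stalk z₂) := by
  subst hy
  obtain rfl : z₁ = z₂ := (f.fiberι y₁).isEmbedding.injective hz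
  exact ⟨RingEquiv.refl _⟩

section Main

variable {P : ∀ (R : Type u) [CommRing R], Prop}
variable {X' Y' : Scheme.{u}} {f : X ⟶ Y} {g : Y' ⟶ Y} {f' : X' ⟶ Y'} {g' : X' ⟶ X}

/-- In a cartesian square, the local ring of the fibre of `f'` at `x'` has `P` iff the local ring
of the fibre of `f` at `g' x'` has `P`, provided the latter is Noetherian and `f` is locally
of finite type or the residue field extension of `g` at `f' x'` is essentially of finite type. -/
theorem fiber_stalk_baseChange_iff' (hP : FlatLocalIff P) (hPe : IsoInv P) (hF : FieldFibP P)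
    (hsq : IsPullback g' f' f g) (x' : X')
    [hN : IsNoetherianRing ((f.fiber (f (g' x'))).presheaf.stalk (f.asFiber (g' x')))]
    (hreg : LocallyOfFiniteType f ∨ (g.residueFieldMap (f' x')).hom.EssFiniteType) :
    P ((f'.fiber (f' x')).presheaf.stalk (f'.asFiber x')) ↔
      P ((f.fiber (f (g' x'))).presheaf.stalk (f.asFiber (g' x'))) := by
  obtain ⟨h, hpb, hcomm⟩ : ∃ h : f'.fiber (f' x') ⟶ f.fiber (g (f' x')),
      IsPullback h (f'.fiberToSpecResidueField (f' x'))
        (f.fiberToSpecResidueField (g (f' x'))) (Spec.map (g.residueFieldMap (f' x'))) ∧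
      h ≫ f.fiberι (g (f' x')) = f'.fiberι (f' x') ≫ g' :=
    ⟨_, isPullback_fiberToSpecResidueField_of_isPullback hsq (f' x'), pullback.lift_fst _ _ _⟩
  -- transport to the fibre over `g (f' x')`
  have hw₁ : f.fiberι (g (f' x')) (h (f'.asFiber x')) = g' x' := by
    rw [← Scheme.Hom.comp_apply, hcomm, Scheme.Hom.comp_apply, f'.fiberι_asFiber]
  have hyy : g (f' x') = f (g' x') := by
    rw [← Scheme.Hom.comp_apply, ← Scheme.Hom.comp_apply, hsq.w]
  obtain ⟨eT⟩ := fiber_stalk_transport f hyy (h (f'.asFiber x')) (f.asFiber (g' x'))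
    (hw₁.trans (f.fiberι_asFiber _).symm)
  haveI : IsNoetherianRing ((f.fiber (g (f' x'))).presheaf.stalk (h (f'.asFiber x'))) :=
    isNoetherianRing_of_ringEquiv _ eT.symm
  -- the algebra structures
  letI algT : Algebra (Y.residueField (g (f' x')))
      ((f.fiber (g (f' x'))).presheaf.stalk (h (f'.asFiber x'))) :=
    (StructureSheaf.toStalk (Y.residueField (g (f' x')))
        ((f.fiberToSpecResidueField (g (f' x'))) (h (f'.asFiber x'))) ≫
      (f.fiberToSpecResidueField (g (f' x'))).stalkMap (h (f'.asFiber x'))).hom.toAlgebra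
  letI algK : Algebra (Y.residueField (g (f' x'))) (Y'.residueField (f' x')) :=
    (g.residueFieldMap (f' x')).hom.toAlgebra
  -- pasting of the cartesian squares
  have hpaste := (IsPullback.of_hasPullback
    ((f.fiber (g (f' x'))).fromSpecStalk (h (f'.asFiber x'))) h).paste_vert hpb
  have hjπ : (f.fiber (g (f' x'))).fromSpecStalk (h (f'.asFiber x')) ≫
      f.fiberToSpecResidueField (g (f' x')) =
      Spec.map (CommRingCat.ofHom (algebraMap (Y.residueField (g (f' x')))
        ((f.fiber (g (f' x'))).presheaf.stalk (h (f'.asFiber x'))))) := by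
    rw [← Scheme.SpecMap_stalkMap_fromSpecStalk, Spec.fromSpecStalk_eq']
    exact (Spec.map_comp _ _).symm
  rw [hjπ] at hpaste
  let ε := hpaste.isoPullback ≪≫ pullbackSpecIso (Y.residueField (g (f' x')))
    ((f.fiber (g (f' x'))).presheaf.stalk (h (f'.asFiber x'))) (Y'.residueField (f' x'))
  -- the point
  obtain ⟨z, hz1, hz2⟩ := Scheme.Pullback.exists_preimage_pullback
    (f := (f.fiber (g (f' x'))).fromSpecStalk (h (f'.asFiber x'))) (g := h)
    (closedPoint ((f.fiber (g (f' x'))).presheaf.stalk (h (f'.asFiber x')))) (f'.asFiber x')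
    Scheme.fromSpecStalk_closedPoint
  have hq1 : (Spec.map (CommRingCat.ofHom (algebraMap
      ((f.fiber (g (f' x'))).presheaf.stalk (h (f'.asFiber x')))
      (((f.fiber (g (f' x'))).presheaf.stalk (h (f'.asFiber x'))) ⊗[Y.residueField (g (f' x'))]
        (Y'.residueField (f' x')))))) (ε.hom z) =
      closedPoint ((f.fiber (g (f' x'))).presheaf.stalk (h (f'.asFiber x'))) := by
    have hcomp : ε.hom ≫ Spec.map (CommRingCat.ofHom (algebraMap
        ((f.fiber (g (f' x'))).presheaf.stalk (h (f'.asFiber x')))
        (((f.fiber (g (f' x'))).presheaf.stalk (h (f'.asFiber x')))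
          ⊗[Y.residueField (g (f' x'))] (Y'.residueField (f' x'))))) =
        pullback.fst ((f.fiber (g (f' x'))).fromSpecStalk (h (f'.asFiber x'))) h := by
      simp only [ε, Iso.trans_hom, Category.assoc, pullbackSpecIso_hom_fst']
      exact hpaste.isoPullback_hom_fst
    rw [← hcomp] at hz1
    exact hz1
  have h𝔮 : (ε.hom z).asIdeal.comap (algebraMap
      ((f.fiber (g (f' x'))).presheaf.stalk (h (f'.asFiber x')))
      (((f.fiber (g (f' x'))).presheaf.stalk (h (f'.asFiber x'))) ⊗[Y.residueField (g (f' x'))]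
        (Y'.residueField (f' x')))) =
      maximalIdeal ((f.fiber (g (f' x'))).presheaf.stalk (h (f'.asFiber x'))) :=
    congrArg PrimeSpectrum.asIdeal hq1
  -- the flat preimmersion from the spectrum of the tensor product
  have hρ : (ε.inv ≫ pullback.snd ((f.fiber (g (f' x'))).fromSpecStalk (h (f'.asFiber x'))) h)
      (ε.hom z) = f'.asFiber x' := by
    have hcomp : ε.hom ≫ ε.inv ≫
        pullback.snd ((f.fiber (g (f' x'))).fromSpecStalk (h (f'.asFiber x'))) h =
        pullback.snd ((f.fiber (g (f' x'))).fromSpecStalk (h (f'.asFiber x'))) h := by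
      rw [Iso.hom_inv_id_assoc]
    rw [← hcomp] at hz2
    exact hz2
  obtain ⟨e1⟩ := nonempty_stalk_equiv_of_eq hρ
  let e2 := stalkEquiv
    (ε.inv ≫ pullback.snd ((f.fiber (g (f' x'))).fromSpecStalk (h (f'.asFiber x'))) h) (ε.hom z)
  let e3 := (Spec.stalkIso (CommRingCat.of
    (((f.fiber (g (f' x'))).presheaf.stalk (h (f'.asFiber x'))) ⊗[Y.residueField (g (f' x'))]
      (Y'.residueField (f' x')))) (ε.hom z)).commRingCatIsoToRingEquiv
  let eT' := (e1.symm.trans e2).trans e3
  -- the finiteness hypothesis
  have hft : Algebra.EssFiniteType (Y.residueField (g (f' x')))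
      ((f.fiber (g (f' x'))).presheaf.stalk (h (f'.asFiber x'))) ∨
      Algebra.EssFiniteType (Y.residueField (g (f' x'))) (Y'.residueField (f' x')) := by
    rcases hreg with hf | hg
    · left
      haveI := hf
      haveI : LocallyOfFiniteType (f.fiberToSpecResidueField (g (f' x'))) := by
        dsimp only [Scheme.Hom.fiberToSpecResidueField]
        exact MorphismProperty.pullback_snd (P := @LocallyOfFiniteType) f _ inferInstance
      have h1 := LocallyOfFiniteType.stalkMap (f.fiberToSpecResidueField (g (f' x')))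
        (h (f'.asFiber x'))
      have h2 : (StructureSheaf.toStalk (Y.residueField (g (f' x')))
          ((f.fiberToSpecResidueField (g (f' x'))) (h (f'.asFiber x')))).hom.EssFiniteType :=
        Algebra.EssFiniteType.of_isLocalization _
          ((f.fiberToSpecResidueField (g (f' x'))) (h (f'.asFiber x'))).asIdeal.primeCompl
      exact h2.comp h1
    · right
      exact hg
  have key := ringBC hP hPe hF (Y.residueField (g (f' x')))
    ((f.fiber (g (f' x'))).presheaf.stalk (h (f'.asFiber x'))) (Y'.residueField (f' x')) hft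
    (ε.hom z).asIdeal h𝔮
  constructor
  · intro hp
    exact hPe _ _ eT (key.mp (hPe _ _ eT' hp))
  · intro hp
    exact hPe _ _ eT'.symm (key.mpr (hPe _ _ eT.symm hp))

/-- In a cartesian square, the local ring of the fibre of `f'` at `x'` has `P` iff the local ring
of the fibre of `f` at `g' x'` has `P`, provided the latter is Noetherian and `f` or `g` is locally
of finite type. -/
theorem fiber_stalk_baseChange_iff (hP : FlatLocalIff P) (hPe : IsoInv P) (hF : FieldFibP P)
    (hsq : IsPullback g' f' f g) (x' : X')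
    [hN : IsNoetherianRing ((f.fiber (f (g' x'))).presheaf.stalk (f.asFiber (g' x')))]
    (hreg : LocallyOfFiniteType f ∨ LocallyOfFiniteType g) :
    P ((f'.fiber (f' x')).presheaf.stalk (f'.asFiber x')) ↔
      P ((f.fiber (f (g' x'))).presheaf.stalk (f.asFiber (g' x'))) := by
  refine fiber_stalk_baseChange_iff' hP hPe hF hsq x' (hreg.imp id fun hg => ?_)
  haveI := hg
  exact RingHom.EssFiniteType.residueFieldMap (LocallyOfFiniteType.stalkMap g (f' x'))

end Main

end FibBC

end Groth.Agent.Lib.Helper5.FiberBC
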