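import Mathlib
import Groth.Agent.Lib.Helper5FiberBC

/-!
# Locally Noetherian fibres under base change (helper5)

* `isNoetherianRing_of_faithfullyFlat`: Noetherianity descends along faithfully flat ring maps.
* `affine_both`, `pullback_both`, `of_isPullback`: for `F` over `Spec K` and a ring map
  `φ : K ⟶ K'`: if `φ` is essentially of finite type then `F` locally Noetherian implies
  `F ×_K K'` locally Noetherian; if `φ` is faithfully flat then the converse holds.
* `fiber_isLocallyNoetherian_of_isPullback` / `fiber_isLocallyNoetherian_descend`: fibres of a base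
  change `f'` of `f` along `g` are locally Noetherian if those of `f` are and `g` is locally of
  finite type; conversely the fibre of `f` over `g y'` is locally Noetherian if that of `f'` over
  `y'` is.
-/

set_option autoImplicit false
universe u

namespace Groth.Agent.Lib.Helper5.FibreLN
open AlgebraicGeometry CategoryTheory Limits TensorProduct

section Ring

theorem isNoetherianRing_of_faithfullyFlat (A B : Type*) [CommRing A] [CommRing B] [Algebra A B]
    [Module.FaithfullyFlat A B] [IsNoetherianRing B] : IsNoetherianRing A := by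
  rw [isNoetherianRing_iff, isNoetherian_iff']
  have hmono : StrictMono (Ideal.map (algebraMap A B)) :=
    Monotone.strictMono_of_injective (fun _ _ h => Ideal.map_mono h)
      Ideal.map_injective_of_faithfullyFlat
  haveI : WellFoundedGT (Ideal B) := isNoetherian_iff'.mp inferInstance
  exact hmono.wellFoundedGT

end Ring

section Scheme

variable {K K' : CommRingCat.{u}} (φ : K ⟶ K')

theorem isLocallyNoetherian_iff_of_iso {X Y : Scheme.{u}} (e : X ≅ Y) :
    IsLocallyNoetherian X ↔ IsLocallyNoetherian Y :=
  ⟨fun _ => isLocallyNoetherian_of_isOpenImmersion e.inv,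
    fun _ => isLocallyNoetherian_of_isOpenImmersion e.hom⟩

theorem affine_both {V : Scheme.{u}} [IsAffine V] (c : V ⟶ Spec K) :
    (φ.hom.EssFiniteType → IsLocallyNoetherian V →
        IsLocallyNoetherian (pullback c (Spec.map φ))) ∧
      (φ.hom.FaithfullyFlat → IsLocallyNoetherian (pullback c (Spec.map φ)) →
        IsLocallyNoetherian V) := by
  let ψ : K ⟶ Γ(V, ⊤) := Spec.preimage (V.isoSpec.inv ≫ c)
  have hψ : Spec.map ψ = V.isoSpec.inv ≫ c := Spec.map_preimage _
  letI algR : Algebra K Γ(V, ⊤) := ψ.hom.toAlgebra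
  letI algK' : Algebra K K' := φ.hom.toAlgebra
  let e1 : pullback c (Spec.map φ) ≅ pullback (Spec.map ψ) (Spec.map φ) :=
    asIso (pullback.map c (Spec.map φ) (Spec.map ψ) (Spec.map φ) V.isoSpec.hom (𝟙 _) (𝟙 _)
      (by rw [hψ]; simp) (by simp))
  let e2 : pullback (Spec.map ψ) (Spec.map φ) ≅ Spec (.of (Γ(V, ⊤) ⊗[K] K')) :=
    pullbackSpecIso K Γ(V, ⊤) K'
  have key : IsLocallyNoetherian (pullback c (Spec.map φ)) ↔
      IsNoetherianRing (Γ(V, ⊤) ⊗[K] K') := by
    rw [isLocallyNoetherian_iff_of_iso (e1 ≪≫ e2)]
    exact isLocallyNoetherian_Spec (R := .of (Γ(V, ⊤) ⊗[K] K'))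
  have keyV : IsLocallyNoetherian V ↔ IsNoetherianRing Γ(V, ⊤) := by
    rw [isLocallyNoetherian_iff_of_iso V.isoSpec]
    exact isLocallyNoetherian_Spec
  rw [key, keyV]
  constructor
  · intro hφ hR
    haveI : Algebra.EssFiniteType K K' := hφ
    haveI := hR
    haveI : Algebra.EssFiniteType Γ(V, ⊤) (Γ(V, ⊤) ⊗[K] K') := inferInstance
    exact Algebra.EssFiniteType.isNoetherianRing Γ(V, ⊤) _
  · intro hφ hN
    haveI : Module.FaithfullyFlat K K' := hφ
    haveI := hN
    haveI : Module.FaithfullyFlat Γ(V, ⊤) (Γ(V, ⊤) ⊗[K] K') := inferInstance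
    exact isNoetherianRing_of_faithfullyFlat Γ(V, ⊤) (Γ(V, ⊤) ⊗[K] K')

theorem pullback_both {F : Scheme.{u}} (a : F ⟶ Spec K) :
    (φ.hom.EssFiniteType → IsLocallyNoetherian F →
        IsLocallyNoetherian (pullback a (Spec.map φ))) ∧
      (φ.hom.FaithfullyFlat → IsLocallyNoetherian (pullback a (Spec.map φ)) →
        IsLocallyNoetherian F) := by
  constructor
  · intro hφ hF
    rw [isLocallyNoetherian_iff_openCover
      (Scheme.Pullback.openCoverOfLeft F.affineCover a (Spec.map φ))]
    intro i
    haveI : IsLocallyNoetherian (F.affineCover.X i) := inferInstance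
    exact (affine_both φ (F.affineCover.f i ≫ a)).1 hφ inferInstance
  · intro hφ hF'
    rw [isLocallyNoetherian_iff_openCover F.affineCover]
    intro i
    haveI : IsLocallyNoetherian
        ((Scheme.Pullback.openCoverOfLeft F.affineCover a (Spec.map φ)).X i) := inferInstance
    exact (affine_both φ (F.affineCover.f i ≫ a)).2 hφ ‹_›

theorem of_isPullback {F F' : Scheme.{u}} {a : F ⟶ Spec K} {a' : F' ⟶ Spec K'} {h : F' ⟶ F}
    (hpb : IsPullback h a' a (Spec.map φ)) :
    (φ.hom.EssFiniteType → IsLocallyNoetherian F → IsLocallyNoetherian F') ∧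
      (φ.hom.FaithfullyFlat → IsLocallyNoetherian F' → IsLocallyNoetherian F) := by
  obtain ⟨h1, h2⟩ := pullback_both φ a
  refine ⟨fun hφ hF => ?_, fun hφ hF' => h2 hφ ?_⟩
  · exact (isLocallyNoetherian_iff_of_iso hpb.isoPullback).mpr (h1 hφ hF)
  · exact (isLocallyNoetherian_iff_of_iso hpb.isoPullback).mp hF'

end Scheme

section Fibre

variable {X Y X' Y' : Scheme.{u}} {f : X ⟶ Y} {f' : X' ⟶ Y'} {g' : X' ⟶ X} {g : Y' ⟶ Y}

theorem faithfullyFlat_residueFieldMap (y' : Y') : (g.residueFieldMap y').hom.FaithfullyFlat := by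
  letI := (g.residueFieldMap y').hom.toAlgebra
  show Module.FaithfullyFlat (Y.residueField (g y')) (Y'.residueField y')
  infer_instance

theorem essFiniteType_residueFieldMap [LocallyOfFiniteType g] (y' : Y') :
    (g.residueFieldMap y').hom.EssFiniteType :=
  RingHom.EssFiniteType.residueFieldMap (LocallyOfFiniteType.stalkMap g y')

/-- Fibres of a base change along a morphism locally of finite type are locally Noetherian when
those of the original morphism are. -/
theorem fiber_isLocallyNoetherian_of_isPullback [LocallyOfFiniteType g]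
    (hc : IsPullback g' f' f g) (y' : Y') (hN : IsLocallyNoetherian (f.fiber (g y'))) :
    IsLocallyNoetherian (f'.fiber y') :=
  (of_isPullback (g.residueFieldMap y')
    (isPullback_fiberToSpecResidueField_of_isPullback hc y')).1
    (essFiniteType_residueFieldMap y') hN

/-- Descent: if the fibre of the base change `f'` over `y'` is locally Noetherian then so is the
fibre of `f` over `g y'`. -/
theorem fiber_isLocallyNoetherian_descend (hc : IsPullback g' f' f g) (y' : Y')
    (hN : IsLocallyNoetherian (f'.fiber y')) : IsLocallyNoetherian (f.fiber (g y')) :=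
  (of_isPullback (g.residueFieldMap y')
    (isPullback_fiberToSpecResidueField_of_isPullback hc y')).2
    (faithfullyFlat_residueFieldMap y') hN

end Fibre

end Groth.Agent.Lib.Helper5.FibreLN
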