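import Mathlib
import Groth.Prelude.Def_AlgSp2
import Groth.Prelude.Def_AlgSpDec
import Groth.Agent.S9874
import Groth.Agent.Lib.Helper5FibreLN
import Groth.Agent.Lib.Helper12FibreSpec
import Groth.Agent.Lib.Helper12OpenSub

/-!
# Locally Noetherian fibres of morphisms of algebraic spaces under change of field (helper12)
-/

set_option autoImplicit false
universe u
open CategoryTheory CategoryTheory.Limits AlgebraicGeometry Opposite
open AlgSp

namespace Groth.Agent.Lib.Helper12.FibreLN2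

variable {S : Scheme.{u}}

/-- the chart of a base change: for `c : h_C ⟶ Q` and `Q ⟶ h_{T₀}`, the scheme `C ×_{T₀} T` maps to
`P = Q ×_{T₀} T` by a base change of `c`. -/
lemma exists_chart_baseChange {Q P : AlgSp.Sp S} {T T₀ : Over S} (τ : T ⟶ T₀)
    (qsnd : Q ⟶ (AlgSp.yon S).obj T₀) (pfst : P ⟶ Q) (psnd : P ⟶ (AlgSp.yon S).obj T)
    (sqP : IsPullback pfst psnd qsnd ((AlgSp.yon S).map τ)) {C : Over S}
    (c : (AlgSp.yon S).obj C ⟶ Q) :
    ∃ (C' : Over S) (π₁ : C' ⟶ C) (π₂ : C' ⟶ T) (c' : C ⟶ T₀) (γ : (AlgSp.yon S).obj C' ⟶ P),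
      IsPullback π₁ π₂ c' τ ∧ IsPullback ((AlgSp.yon S).map π₁) γ c pfst := by
  obtain ⟨c', hc'⟩ := (AlgSp.yon S).map_surjective (c ≫ qsnd)
  have sqC := IsPullback.of_hasPullback c' τ
  obtain ⟨π₁, hπ₁⟩ : ∃ π₁ : pullback c' τ ⟶ C, π₁ = pullback.fst c' τ := ⟨_, rfl⟩
  obtain ⟨π₂, hπ₂⟩ : ∃ π₂ : pullback c' τ ⟶ T, π₂ = pullback.snd c' τ := ⟨_, rfl⟩
  rw [← hπ₁, ← hπ₂] at sqC
  have sqCY := sqC.map (AlgSp.yon S)
  have hw : ((AlgSp.yon S).map π₁ ≫ c) ≫ qsnd = (AlgSp.yon S).map π₂ ≫ (AlgSp.yon S).map τ := by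
    rw [Category.assoc, ← hc']; exact sqCY.w
  obtain ⟨γ, hγ1, hγ2⟩ : ∃ γ, γ ≫ pfst = (AlgSp.yon S).map π₁ ≫ c ∧
      γ ≫ psnd = (AlgSp.yon S).map π₂ :=
    ⟨sqP.lift _ _ hw, sqP.lift_fst _ _ hw, sqP.lift_snd _ _ hw⟩
  refine ⟨_, π₁, π₂, c', γ, sqC, ?_⟩
  have big : IsPullback (γ ≫ psnd) ((AlgSp.yon S).map π₁) ((AlgSp.yon S).map τ) (c ≫ qsnd) := by
    rw [hγ2, ← hc']; exact sqCY.flip
  exact (IsPullback.of_right big hγ1 sqP.flip).flip

/-- ascent: if `Q` is locally Noetherian and `k₀ → k` is essentially of finite type, then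
`P = Q ×_{Spec k₀} Spec k` is locally Noetherian. -/
lemma isLocNoethSp_of_essFiniteType {Q P : AlgSp.Sp S} {k k₀ : CommRingCat.{u}}
    {str : Spec k ⟶ S} {str₀ : Spec k₀ ⟶ S} (τ : Over.mk str ⟶ Over.mk str₀)
    (hτ : (Spec.preimage τ.left).hom.EssFiniteType)
    (qsnd : Q ⟶ (AlgSp.yon S).obj (Over.mk str₀)) (pfst : P ⟶ Q)
    (psnd : P ⟶ (AlgSp.yon S).obj (Over.mk str))
    (sqP : IsPullback pfst psnd qsnd ((AlgSp.yon S).map τ)) (hQ : AlgSp.IsLocNoethSp Q) :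
    AlgSp.IsLocNoethSp P := by
  obtain ⟨C, c, hce, hcs, hC⟩ := hQ
  obtain ⟨C', π₁, π₂, c', γ, sqC, sqγ⟩ := exists_chart_baseChange τ qsnd pfst psnd sqP c
  refine ⟨C', γ, (AlgSp.RepWith @Etale).of_isPullback sqγ hce,
    (AlgSp.RepWith @Surjective).of_isPullback sqγ hcs, ?_⟩
  have hL := sqC.map (Over.forget S)
  simp only [Over.forget_obj, Over.forget_map] at hL
  have hτ' : τ.left = Spec.map (Spec.preimage τ.left) := (Spec.map_preimage _).symm
  rw [hτ'] at hL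
  exact (Groth.Agent.Lib.Helper5.FibreLN.of_isPullback (Spec.preimage τ.left) hL).1 hτ hC

/-- descent: if `P = Q ×_{Spec k₀} Spec k` is locally Noetherian, `k₀ → k` is faithfully flat and
`Q` is an algebraic space, then `Q` is locally Noetherian. -/
lemma isLocNoethSp_of_faithfullyFlat {Q P : AlgSp.Sp S} (hQa : AlgSp.IsAlgSpace Q)
    {k k₀ : CommRingCat.{u}}
    {str : Spec k ⟶ S} {str₀ : Spec k₀ ⟶ S} (τ : Over.mk str ⟶ Over.mk str₀)
    (hτ : (Spec.preimage τ.left).hom.FaithfullyFlat)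
    (qsnd : Q ⟶ (AlgSp.yon S).obj (Over.mk str₀)) (pfst : P ⟶ Q)
    (psnd : P ⟶ (AlgSp.yon S).obj (Over.mk str))
    (sqP : IsPullback pfst psnd qsnd ((AlgSp.yon S).map τ)) (hP : AlgSp.IsLocNoethSp P) :
    AlgSp.IsLocNoethSp Q := by
  obtain ⟨C, c, hce, hcs⟩ := hQa.atlas
  obtain ⟨C', π₁, π₂, c', γ, sqC, sqγ⟩ := exists_chart_baseChange τ qsnd pfst psnd sqP c
  have hγe : AlgSp.RepWith @Etale γ := (AlgSp.RepWith @Etale).of_isPullback sqγ hce
  have hC' : IsLocallyNoetherian C'.left :=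
    Groth.Agent.Lib.Helper12.FibreSpec.isLocallyNoetherian_of_chart hP γ hγe
  refine ⟨C, c, hce, hcs, ?_⟩
  have hL := sqC.map (Over.forget S)
  simp only [Over.forget_obj, Over.forget_map] at hL
  have hτ' : τ.left = Spec.map (Spec.preimage τ.left) := (Spec.map_preimage _).symm
  rw [hτ'] at hL
  exact (Groth.Agent.Lib.Helper5.FibreLN.of_isPullback (Spec.preimage τ.left) hL).2 hτ hC'

/-- local Noetherianity is invariant under isomorphisms of sheaves. -/
lemma isLocNoethSp_of_iso {P P' : AlgSp.Sp S} (e : P ≅ P') (hP : AlgSp.IsLocNoethSp P) :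
    AlgSp.IsLocNoethSp P' := by
  obtain ⟨C, c, hce, hcs, hC⟩ := hP
  exact ⟨C, c ≫ e.hom, MorphismProperty.RespectsIso.postcomp _ _ _ hce,
    MorphismProperty.RespectsIso.postcomp _ _ _ hcs, hC⟩

/-- ascent for fibres: if all fibres of `f` over `m₀ : Spec k₀ ⟶ Y` are locally Noetherian and
`k₀ → k` is essentially of finite type, all fibres over `Spec k ⟶ Spec k₀ ⟶ Y` are. -/
lemma fibre_isLocNoethSp_of_essFiniteType {X Y : AlgSp.Sp S} (f : X ⟶ Y) {k k₀ : CommRingCat.{u}}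
    {str : Spec k ⟶ S} {str₀ : Spec k₀ ⟶ S} (τ : Over.mk str ⟶ Over.mk str₀)
    (hτ : (Spec.preimage τ.left).hom.EssFiniteType)
    (m₀ : (AlgSp.yon S).obj (Over.mk str₀) ⟶ Y)
    (h₀ : ∀ ⦃P₀ : AlgSp.Sp S⦄ (fst : P₀ ⟶ X) (snd : P₀ ⟶ (AlgSp.yon S).obj (Over.mk str₀)),
      IsPullback fst snd f m₀ → AlgSp.IsLocNoethSp P₀)
    {P : AlgSp.Sp S} (fst : P ⟶ X) (snd : P ⟶ (AlgSp.yon S).obj (Over.mk str))
    (sq : IsPullback fst snd f ((AlgSp.yon S).map τ ≫ m₀)) : AlgSp.IsLocNoethSp P := by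
  have sq₀ := IsPullback.of_hasPullback f m₀
  have hP₀ := h₀ _ _ sq₀
  have hw : fst ≫ f = (snd ≫ (AlgSp.yon S).map τ) ≫ m₀ := by rw [Category.assoc]; exact sq.w
  obtain ⟨pfst, h1, h2⟩ : ∃ pfst : P ⟶ pullback f m₀, pfst ≫ pullback.fst f m₀ = fst ∧
      pfst ≫ pullback.snd f m₀ = snd ≫ (AlgSp.yon S).map τ :=
    ⟨pullback.lift _ _ hw, pullback.lift_fst _ _ hw, pullback.lift_snd _ _ hw⟩
  have big : IsPullback (pfst ≫ pullback.fst f m₀) snd f ((AlgSp.yon S).map τ ≫ m₀) := by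
    rw [h1]; exact sq
  have sqP := IsPullback.of_right big h2 sq₀
  exact isLocNoethSp_of_essFiniteType τ hτ _ pfst snd sqP hP₀

/-- descent for fibres: if one fibre of `f` over `Spec k ⟶ Spec k₀ ⟶ Y` is locally Noetherian and
`k₀ → k` is faithfully flat, all fibres over `m₀ : Spec k₀ ⟶ Y` are. -/
lemma fibre_isLocNoethSp_of_faithfullyFlat {X Y : AlgSp.Sp S} (hX : AlgSp.IsAlgSpace X)
    (hY : AlgSp.Representable (Limits.diag Y)) (f : X ⟶ Y) {k k₀ : CommRingCat.{u}}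
    {str : Spec k ⟶ S} {str₀ : Spec k₀ ⟶ S} (τ : Over.mk str ⟶ Over.mk str₀)
    (hτ : (Spec.preimage τ.left).hom.FaithfullyFlat)
    (m₀ : (AlgSp.yon S).obj (Over.mk str₀) ⟶ Y)
    {P : AlgSp.Sp S} (fst : P ⟶ X) (snd : P ⟶ (AlgSp.yon S).obj (Over.mk str))
    (sq : IsPullback fst snd f ((AlgSp.yon S).map τ ≫ m₀)) (hP : AlgSp.IsLocNoethSp P)
    {Q : AlgSp.Sp S} (qfst : Q ⟶ X) (qsnd : Q ⟶ (AlgSp.yon S).obj (Over.mk str₀))
    (sqQ : IsPullback qfst qsnd f m₀) : AlgSp.IsLocNoethSp Q := by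
  have hQa : AlgSp.IsAlgSpace Q :=
    Groth.Agent.S9874.isAlgSpace_of_isPullback hY hX (AlgSp.IsAlgSpace.yon_obj _) sqQ
  have sqP' := IsPullback.of_hasPullback qsnd ((AlgSp.yon S).map τ)
  have big : IsPullback (pullback.fst qsnd ((AlgSp.yon S).map τ) ≫ qfst)
      (pullback.snd qsnd ((AlgSp.yon S).map τ)) f ((AlgSp.yon S).map τ ≫ m₀) :=
    sqP'.paste_horiz sqQ
  have e : P ≅ pullback qsnd ((AlgSp.yon S).map τ) := sq.isoIsPullback _ _ big
  exact isLocNoethSp_of_faithfullyFlat hQa τ hτ qsnd _ _ sqP' (isLocNoethSp_of_iso e hP)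

section FieldEpi

open TensorProduct

/-- an epimorphism of commutative rings between fields is bijective. -/
lemma bijective_of_epi_of_field {k L : Type u} [Field k] [Field L] (φ : k →+* L)
    (h : Epi (CommRingCat.ofHom φ)) : Function.Bijective φ := by
  refine ⟨φ.injective, ?_⟩
  letI : Algebra k L := φ.toAlgebra
  have hepi : Algebra.IsEpi k L := CommRingCat.epi_iff_epi.mp h
  rw [Algebra.isEpi_iff_forall_one_tmul_eq] at hepi
  intro x
  by_contra hx
  -- `x` is not in the span of `1`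
  have hx' : x ∉ Submodule.span k ({1} : Set L) := by
    intro hmem
    rw [Submodule.mem_span_singleton] at hmem
    obtain ⟨a, ha⟩ := hmem
    exact hx ⟨a, by rw [← ha, Algebra.smul_def, mul_one]; rfl⟩
  obtain ⟨ψ, hψx, hψ1⟩ := Submodule.exists_dual_map_eq_bot_of_notMem hx' inferInstance
  have h1 : ψ 1 = 0 := by
    have : (1 : L) ∈ Submodule.span k ({1} : Set L) := Submodule.subset_span rfl
    have h2 : ψ 1 ∈ (Submodule.span k ({1} : Set L)).map ψ := ⟨1, this, rfl⟩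
    rw [hψ1] at h2
    exact h2
  have key := congrArg (fun z => TensorProduct.lid k L (LinearMap.rTensor L ψ z)) (hepi x)
  simp only [LinearMap.rTensor_tmul, TensorProduct.lid_tmul, h1, zero_smul] at key
  exact hψx (by
    have : ψ x • (1 : L) = 0 := key.symm
    rcases smul_eq_zero.1 this with h | h
    · exact h
    · exact absurd h one_ne_zero)

end FieldEpi

open Groth.Agent.S13210 in
/-- a field-valued point equivalent to a monomorphic field-valued point factors through it. -/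
lemma exists_factor_of_mono {Y : AlgSp.Sp S} (hY : AlgSp.Representable (Limits.diag Y))
    (p p₀ : AlgSp.FieldPt Y) (hpp : AlgSp.Points.mk p = AlgSp.Points.mk p₀)
    (hmono : Mono p₀.toHom) :
    ∃ τ : p.pt ⟶ p₀.pt, (AlgSp.yon S).map τ ≫ p₀.toHom = p.toHom := by
  obtain ⟨Z, z₁, z₂', sqZ⟩ := Functor.relativelyRepresentable.of_diag hY p₀.toHom p.toHom
  obtain ⟨z₂, rfl⟩ := (AlgSp.yon S).map_surjective z₂'
  haveI : Mono ((AlgSp.yon S).map z₁) := PullbackCone.mono_snd_of_is_pullback_of_mono sqZ.isLimit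
  haveI : Mono z₁ := (AlgSp.yon S).mono_of_mono_map inferInstance
  haveI : Mono z₁.left := inferInstance
  -- a point of `Z`
  obtain ⟨Ω, _, w, a, b, hab⟩ := AlgSp.Points.mk_eq_mk_iff.1 hpp
  have hab' : (AlgSp.yon S).map b ≫ p₀.toHom = (AlgSp.yon S).map a ≫ p.toHom := by
    have h1 : (AlgSp.yon S).map a ≫ p.toHom = (yEquiv _ Y).symm (Y.obj.map a.op p.val) :=
      (Groth.Agent.Lib.Helper12.OpenSub.yEquiv_symm_map a p.val).symm
    have h2 : (AlgSp.yon S).map b ≫ p₀.toHom = (yEquiv _ Y).symm (Y.obj.map b.op p₀.val) :=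
      (Groth.Agent.Lib.Helper12.OpenSub.yEquiv_symm_map b p₀.val).symm
    rw [h1, h2, hab]
  obtain ⟨ω, -⟩ := (AlgSp.yon S).map_surjective (sqZ.lift _ _ hab')
  obtain ⟨pt⟩ : Nonempty ↥(Spec (CommRingCat.of Ω)) := inferInstance
  set z : ↥Z.left := ω.left pt with hz
  -- the residue field of `z` maps isomorphically to `Spec k`
  set m : Spec (Z.left.residueField z) ⟶ Spec (CommRingCat.of p.K) :=
    Z.left.fromSpecResidueField z ≫ z₁.left with hm
  haveI : Mono m := mono_comp _ _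
  set ψ := Spec.preimage m with hψ
  have hψm : Spec.map ψ = m := Spec.map_preimage m
  haveI : Mono (Scheme.Spec.map ψ.op) := by
    change Mono (Spec.map ψ); rw [hψm]; infer_instance
  haveI : Mono ψ.op := Scheme.Spec.mono_of_mono_map inferInstance
  haveI : Epi ψ := unop_epi_of_mono ψ.op
  have hbij : Function.Bijective ψ.hom :=
    bijective_of_epi_of_field ψ.hom (by
      have : CommRingCat.ofHom ψ.hom = ψ := rfl
      rw [this]; infer_instance)
  haveI : IsIso ψ := (ConcreteCategory.isIso_iff_bijective ψ).2 hbij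
  haveI : IsIso m := by rw [← hψm]; infer_instance
  let σ : p.pt ⟶ Z := Over.homMk (inv m ≫ Z.left.fromSpecResidueField z) (by
    have hw : Z.hom = z₁.left ≫ p.pt.hom := (Over.w z₁).symm
    rw [hw, Category.assoc, ← Category.assoc (Z.left.fromSpecResidueField z), ← hm,
      IsIso.inv_hom_id_assoc])
  have hσ : σ ≫ z₁ = 𝟙 _ := by
    apply Over.OverMorphism.ext
    simp only [Over.comp_left, Over.id_left, σ, Over.homMk_left, Category.assoc]
    rw [← hm, IsIso.inv_hom_id]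
  refine ⟨σ ≫ z₂, ?_⟩
  rw [Functor.map_comp, Category.assoc, sqZ.w, ← Category.assoc, ← Functor.map_comp, hσ]
  have hid : (AlgSp.yon S).map (𝟙 p.pt) = 𝟙 _ := (AlgSp.yon S).map_id _
  rw [hid, Category.id_comp]

end Groth.Agent.Lib.Helper12.FibreLN2
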