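import Mathlib
import Groth.Prelude.Def_AlgSp2
import Groth.Prelude.Def_AlgSpDec
import Groth.Agent.S10176
import Groth.Agent.Lib.Helper12FibreLN2

/-!
# Locally Noetherian fibres over a point of an algebraic space: independence of the chart (helper12)
-/

set_option autoImplicit false
universe u
open CategoryTheory CategoryTheory.Limits AlgebraicGeometry Opposite
open AlgSp

namespace Groth.Agent.Lib.Helper12.FibreLN3

variable {S : Scheme.{u}}

/-- a monomorphism `Spec L ⟶ Spec K` of spectra of fields comes from a bijective ring map. -/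
lemma bijective_preimage_of_mono {K L : Type u} [Field K] [Field L]
    (m : Spec (CommRingCat.of L) ⟶ Spec (CommRingCat.of K)) (hm : Mono m) :
    Function.Bijective (Spec.preimage m).hom := by
  set ψ := Spec.preimage m with hψ
  have hψm : Spec.map ψ = m := Spec.map_preimage m
  haveI : Mono (Scheme.Spec.map ψ.op) := by
    change Mono (Spec.map ψ); rw [hψm]; infer_instance
  haveI : Mono ψ.op := Scheme.Spec.mono_of_mono_map inferInstance
  haveI : Epi ψ := unop_epi_of_mono ψ.op
  exact Groth.Agent.Lib.Helper12.FibreLN2.bijective_of_epi_of_field ψ.hom (by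
    have : CommRingCat.ofHom ψ.hom = ψ := rfl
    rw [this]; infer_instance)

/-- the residue field of a point of a scheme locally of finite type over a field is essentially
of finite type over the field. -/
lemma essFiniteType_fromSpecResidueField_comp {Z : Scheme.{u}} {K : Type u} [Field K]
    (g : Z ⟶ Spec (CommRingCat.of K)) [LocallyOfFiniteType g] (w : Z) :
    (Spec.preimage (Z.fromSpecResidueField w ≫ g)).hom.EssFiniteType := by
  have h1 : Z.fromSpecResidueField w ≫ g = Spec.map (g.residueFieldMap w) ≫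
      (Spec (CommRingCat.of K)).fromSpecResidueField (g w) :=
    (Scheme.Hom.SpecMap_residueFieldMap_fromSpecResidueField g w).symm
  have h2 : Spec.preimage (Z.fromSpecResidueField w ≫ g) =
      Spec.preimage ((Spec (CommRingCat.of K)).fromSpecResidueField (g w)) ≫
        g.residueFieldMap w := by
    apply Spec.map_injective
    rw [Spec.map_preimage, Spec.map_comp, Spec.map_preimage, h1]
  rw [h2, CommRingCat.hom_comp]
  refine RingHom.EssFiniteType.comp ?_
    (Groth.Agent.Lib.Helper5.FibreLN.essFiniteType_residueFieldMap (g := g) w)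
  have hmono : Mono ((Spec (CommRingCat.of K)).fromSpecResidueField (g w)) := inferInstance
  exact (RingHom.FiniteType.of_surjective _
    (bijective_preimage_of_mono ((Spec (CommRingCat.of K)).fromSpecResidueField (g w))
      hmono).2).essFiniteType

open Groth.Agent.Lib.Helper12.FibreLN2 in
/-- two field-valued points dominated by a third field point, essentially of finite type over the
first and faithfully flat over the second: locally Noetherian fibres transfer. -/
lemma fibre_isLocNoethSp_of_span {X Y : AlgSp.Sp S} (hX : AlgSp.IsAlgSpace X)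
    (hY : AlgSp.Representable (Limits.diag Y)) (f : X ⟶ Y) (p q : AlgSp.FieldPt Y)
    {kT : CommRingCat.{u}} {strT : Spec kT ⟶ S} (α : Over.mk strT ⟶ p.pt)
    (β : Over.mk strT ⟶ q.pt)
    (hα : (Spec.preimage α.left).hom.EssFiniteType)
    (hβ : (Spec.preimage β.left).hom.FaithfullyFlat)
    (hαβ : (AlgSp.yon S).map α ≫ p.toHom = (AlgSp.yon S).map β ≫ q.toHom)
    (hNoeth : ∀ ⦃P : AlgSp.Sp S⦄ (fst : P ⟶ X) (snd : P ⟶ (AlgSp.yon S).obj p.pt),
      IsPullback fst snd f p.toHom → AlgSp.IsLocNoethSp P)
    {Q : AlgSp.Sp S} (qfst : Q ⟶ X) (qsnd : Q ⟶ (AlgSp.yon S).obj q.pt)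
    (hQ : IsPullback qfst qsnd f q.toHom) : AlgSp.IsLocNoethSp Q := by
  obtain ⟨P, fst, snd, sqP⟩ : ∃ (P : AlgSp.Sp S) (fst : P ⟶ X)
      (snd : P ⟶ (AlgSp.yon S).obj (Over.mk strT)),
      IsPullback fst snd f ((AlgSp.yon S).map α ≫ p.toHom) :=
    ⟨_, _, _, IsPullback.of_hasPullback _ _⟩
  have hP : AlgSp.IsLocNoethSp P :=
    fibre_isLocNoethSp_of_essFiniteType f α hα p.toHom hNoeth fst snd sqP
  rw [hαβ] at sqP
  exact fibre_isLocNoethSp_of_faithfullyFlat hX hY f β hβ q.toHom fst snd sqP hP qfst qsnd hQ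

/-- a field-valued point `p` and a point `v` of an etale chart over the same point of `|Y|` are
dominated by a residue field point of `Spec k ×_Y V`. -/
lemma exists_span_of_etale {Y : AlgSp.Sp S} (p : AlgSp.FieldPt Y) {V : Over S}
    (b : (AlgSp.yon S).obj V ⟶ Y) (hb : AlgSp.RepWith @Etale b) (v : ↥V.left)
    (hv : AlgSp.Points.ofPt b v = AlgSp.Points.mk p) :
    ∃ (kT : CommRingCat.{u}) (strT : Spec kT ⟶ S) (α : Over.mk strT ⟶ p.pt)
      (β : Over.mk strT ⟶ (AlgSp.FieldPt.ofPt b v).pt),
      (Spec.preimage α.left).hom.EssFiniteType ∧ (Spec.preimage β.left).hom.FaithfullyFlat ∧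
      (AlgSp.yon S).map α ≫ p.toHom =
        (AlgSp.yon S).map β ≫ (AlgSp.FieldPt.ofPt b v).toHom := by
  obtain ⟨Z, z₁, z₂', sq⟩ := hb.1 p.toHom
  obtain ⟨z₂, rfl⟩ := (AlgSp.yon S).map_surjective z₂'
  haveI hz₁ : Etale z₁.left := hb.2 p.toHom _ z₁ sq
  obtain ⟨pt₀⟩ : Nonempty ↥(Spec (CommRingCat.of p.K)) := inferInstance
  have e : AlgSp.Points.ofPt b v = AlgSp.Points.ofPt p.toHom pt₀ := by
    rw [hv, AlgSp.Points.ofPt_toHom]
  obtain ⟨w, hw1, hw2⟩ := Groth.Agent.S10176.exists_point_of_isPullback_yon sq v pt₀ e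
  subst hw1
  have hover : Spec.map (z₂.left.residueFieldMap w) ≫
      (V.left.fromSpecResidueField (z₂.left w) ≫ V.hom) =
      Z.left.fromSpecResidueField w ≫ Z.hom := by
    rw [← Category.assoc, Scheme.Hom.SpecMap_residueFieldMap_fromSpecResidueField,
      Category.assoc, Over.w z₂]
  refine ⟨Z.left.residueField w, Z.left.fromSpecResidueField w ≫ Z.hom,
    Over.homMk (Z.left.fromSpecResidueField w) rfl ≫ z₁,
    Over.homMk (Spec.map (z₂.left.residueFieldMap w)) hover, ?_, ?_, ?_⟩
  · exact essFiniteType_fromSpecResidueField_comp z₁.left w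
  · have h : Spec.preimage (Spec.map (z₂.left.residueFieldMap w)) = z₂.left.residueFieldMap w :=
      Spec.preimage_map _
    show (Spec.preimage (Spec.map (z₂.left.residueFieldMap w))).hom.FaithfullyFlat
    rw [h]
    exact Groth.Agent.Lib.Helper5.FibreLN.faithfullyFlat_residueFieldMap (g := z₂.left) w
  · rw [AlgSp.FieldPt.toHom_ofPt, ← Category.assoc, ← Functor.map_comp, Functor.map_comp,
      Category.assoc, ← sq.w, ← Category.assoc, ← Functor.map_comp]
    congr 2
    apply Over.OverMorphism.ext
    exact (Scheme.Hom.SpecMap_residueFieldMap_fromSpecResidueField z₂.left w).symm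

end Groth.Agent.Lib.Helper12.FibreLN3
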