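import Mathlib
import Groth.Prelude.Def_FDesc
import Groth.Prelude.Def_AlgSp3
import Groth.Agent.Lib.Helper12Reduced

set_option autoImplicit false
universe u
open CategoryTheory CategoryTheory.Limits AlgebraicGeometry

namespace Groth.Agent.Lib.Helper12.FieldBC

variable {k : Type u} [Field k]

/-- `Spec K` over `Spec k`. -/
noncomputable abbrev ptK (k : Type u) [Field k] (K : Type u) [Field K] [Algebra k K] :
    Over (Spec (CommRingCat.of k)) :=
  Over.mk (Spec.map (CommRingCat.ofHom (algebraMap k K)))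

/-- the base change `U_K` as a scheme over `Spec k`. -/
noncomputable abbrev bcOver (U : Over (Spec (CommRingCat.of k))) (K : Type u) [Field K] [Algebra k K] :
    Over (Spec (CommRingCat.of k)) :=
  Over.mk (FBase.bcπ U.hom K ≫ U.hom)

/-- the projection `U_K ⟶ U`. -/
noncomputable abbrev bcPr (U : Over (Spec (CommRingCat.of k))) (K : Type u) [Field K] [Algebra k K] :
    bcOver U K ⟶ U :=
  Over.homMk (FBase.bcπ U.hom K) rfl

/-- the projection `U_K ⟶ Spec K`. -/
noncomputable abbrev bcQ (U : Over (Spec (CommRingCat.of k))) (K : Type u) [Field K] [Algebra k K] :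
    bcOver U K ⟶ ptK k K :=
  Over.homMk (FBase.bcStr U.hom K) (pullback.condition (f := U.hom)
    (g := Spec.map (CommRingCat.ofHom (algebraMap k K)))).symm

lemma isPullback_over (U : Over (Spec (CommRingCat.of k))) (K : Type u) [Field K] [Algebra k K] :
    IsPullback (bcQ U K) (bcPr U K) (Over.mkIdTerminal.from (ptK k K)) (Over.mkIdTerminal.from U) := by
  refine IsPullback.of_map (Over.forget _) (Over.mkIdTerminal.hom_ext _ _) ?_
  have := (IsPullback.of_hasPullback U.hom (Spec.map (CommRingCat.ofHom (algebraMap k K)))).flip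
  have e1 : (Over.forget _).map (Over.mkIdTerminal.from (ptK k K)) =
      Spec.map (CommRingCat.ofHom (algebraMap k K)) := by simp
  have e2 : (Over.forget _).map (Over.mkIdTerminal.from U) = U.hom := by simp
  rw [e1, e2]
  exact this


/-- the chart of `X_K` induced by a chart `a` of `X`. -/
noncomputable abbrev chartK {X : AlgSp.Sp (Spec (CommRingCat.of k))} {U : Over (Spec (CommRingCat.of k))}
    (a : (AlgSp.yon _).obj U ⟶ X) (K : Type u) [Field K] [Algebra k K] :
    (AlgSp.yon _).obj (bcOver U K) ⟶ X ⨯ (AlgSp.yon _).obj (ptK k K) :=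
  prod.lift ((AlgSp.yon _).map (bcPr U K) ≫ a) ((AlgSp.yon _).map (bcQ U K))

/-- the chart `a_K` is the base change of `a` along the projection `X_K ⟶ X`. -/
theorem isPullback_chartK {X : AlgSp.Sp (Spec (CommRingCat.of k))}
    {U : Over (Spec (CommRingCat.of k))} (a : (AlgSp.yon _).obj U ⟶ X) (K : Type u) [Field K]
    [Algebra k K] :
    IsPullback (chartK a K) ((AlgSp.yon _).map (bcPr U K)) prod.fst a := by
  have hpt : IsTerminal ((AlgSp.yon (Spec (CommRingCat.of k))).obj (Over.mk (𝟙 _))) :=
    IsTerminal.isTerminalObj (AlgSp.yon _) _ Over.mkIdTerminal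
  have hright : IsPullback (prod.fst : X ⨯ (AlgSp.yon _).obj (ptK k K) ⟶ X) prod.snd
      (hpt.from _) (hpt.from _) :=
    IsPullback.of_is_product' (prodIsProd _ _) hpt
  have hbig := (isPullback_over U K).map (AlgSp.yon (Spec (CommRingCat.of k)))
  have e1 : (AlgSp.yon (Spec (CommRingCat.of k))).map (Over.mkIdTerminal.from (ptK k K)) =
      hpt.from _ := hpt.hom_ext _ _
  have e2 : (AlgSp.yon (Spec (CommRingCat.of k))).map (Over.mkIdTerminal.from U) =
      a ≫ hpt.from _ := hpt.hom_ext _ _
  rw [e1, e2] at hbig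
  have h3 : (AlgSp.yon _).map (bcQ U K) = chartK a K ≫ prod.snd := by
    rw [prod.lift_snd]
  rw [h3] at hbig
  exact IsPullback.of_right hbig (by rw [prod.lift_fst]) hright.flip


lemma repWith_chartK (P : MorphismProperty Scheme.{u}) [P.IsStableUnderBaseChange]
    {X : AlgSp.Sp (Spec (CommRingCat.of k))}
    {U : Over (Spec (CommRingCat.of k))} (a : (AlgSp.yon _).obj U ⟶ X) (ha : AlgSp.RepWith P a)
    (K : Type u) [Field K] [Algebra k K] : AlgSp.RepWith P (chartK a K) :=
  MorphismProperty.of_isPullback (P := AlgSp.RepWith P) (isPullback_chartK a K).flip ha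

/-- every etale chart of a reduced space is reduced. -/
lemma isReduced_of_chart {S : Scheme.{u}} {F : AlgSp.Sp S} (hF : AlgSp.IsReducedSp F) {U : Over S}
    (a : (AlgSp.yon S).obj U ⟶ F) (ha : AlgSp.RepWith @Etale a) : IsReduced U.left := by
  obtain ⟨V, q, hqe, hqs, hV⟩ := hF
  obtain ⟨W, snd, fst', sq⟩ := hqe.1 a
  obtain ⟨fst, rfl⟩ := (AlgSp.yon S).map_surjective fst'
  haveI : Etale snd.left := hqe.2 _ _ snd sq
  haveI : Surjective snd.left := hqs.2 _ _ snd sq
  haveI : Etale fst.left := ha.2 _ _ fst sq.flip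
  haveI : IsReduced V.left := hV
  haveI : IsReduced W.left := Groth.Agent.Lib.Helper12.Reduced.isReduced_of_smooth fst.left
  exact Groth.Agent.Lib.Helper12.Reduced.isReduced_of_flat_of_surjective snd.left

lemma isReduced_bc_of_isReducedSp {X : AlgSp.Sp (Spec (CommRingCat.of k))} (K : Type u) [Field K]
    [Algebra k K] (h : AlgSp.IsReducedSp (X ⨯ (AlgSp.yon _).obj (ptK k K)))
    {U : Over (Spec (CommRingCat.of k))} (a : (AlgSp.yon _).obj U ⟶ X)
    (ha : AlgSp.RepWith @Etale a) : IsReduced (FBase.bc U.hom K) :=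
  isReduced_of_chart h (chartK a K) (repWith_chartK _ a ha K)

lemma isReducedSp_bc_of_isReduced {X : AlgSp.Sp (Spec (CommRingCat.of k))} (K : Type u) [Field K]
    [Algebra k K] {U : Over (Spec (CommRingCat.of k))} (a : (AlgSp.yon _).obj U ⟶ X)
    (ha : AlgSp.RepWith @Etale a) (has : AlgSp.RepWith @Surjective a)
    (h : IsReduced (FBase.bc U.hom K)) :
    AlgSp.IsReducedSp (X ⨯ (AlgSp.yon _).obj (ptK k K)) :=
  ⟨bcOver U K, chartK a K, repWith_chartK _ a ha K, repWith_chartK _ a has K, h⟩

end Groth.Agent.Lib.Helper12.FieldBC
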