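import Mathlib
import Groth.Agent.Lib.Helper6ReducedSmooth
import Groth.Prelude.Def_FDesc
import Groth.Agent.S10176
import Groth.Agent.S10177

set_option autoImplicit false
universe u
open CategoryTheory CategoryTheory.Limits AlgebraicGeometry TensorProduct

namespace Groth.Agent.Lib.Helper12.GeomRed

attribute [local instance] Algebra.TensorProduct.rightAlgebra in
/-- ring-level ascent of reducedness to a local ring of a smooth algebra. -/
lemma isReduced_of_smooth_of_isLocalization {A B R T : Type u} [CommRing A] [CommRing B]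
    [CommRing R] [CommRing T] [Algebra A B] [Algebra.Smooth A B] [Algebra A R] (M : Submonoid A)
    [IsLocalization M R] [IsReduced R] [Algebra B T] (Q : Ideal B) [Q.IsPrime]
    [IsLocalization.AtPrime T Q] (ψ : R →+* T)
    (hψ : ψ.comp (algebraMap A R) = (algebraMap B T).comp (algebraMap A B)) : IsReduced T := by
  haveI : Algebra.Smooth R (R ⊗[A] B) := inferInstance
  haveI : IsReduced (R ⊗[A] B) := Groth.Agent.Lib.Helper6.isReduced_of_smooth R (R ⊗[A] B)
  haveI : IsLocalization (Algebra.algebraMapSubmonoid B M) (R ⊗[A] B) :=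
    (Algebra.isLocalization_iff_isPushout M R).2 inferInstance
  constructor
  intro t ht
  obtain ⟨b, s, rfl⟩ := IsLocalization.exists_mk'_eq Q.primeCompl t
  obtain ⟨n, hn⟩ := ht
  rw [← IsLocalization.mk'_pow, IsLocalization.mk'_eq_zero_iff] at hn
  obtain ⟨c, hc⟩ := hn
  have hnil : IsNilpotent ((c : B) * b) := by
    refine ⟨n + 1, ?_⟩
    calc ((c : B) * b) ^ (n + 1) = (c : B) ^ n * b * ((c : B) * b ^ n) := by ring
      _ = 0 := by rw [hc, mul_zero]
  have h0 : algebraMap B (R ⊗[A] B) ((c : B) * b) = 0 := (hnil.map _).eq_zero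
  obtain ⟨⟨m', hm'⟩, hm⟩ := (IsLocalization.map_eq_zero_iff (Algebra.algebraMapSubmonoid B M) (R ⊗[A] B) _).1 h0
  obtain ⟨m, hmM, rfl⟩ := hm'
  have hu1 : IsUnit (algebraMap B T (algebraMap A B m)) := by
    have : algebraMap B T (algebraMap A B m) = ψ (algebraMap A R m) := by
      rw [← RingHom.comp_apply, ← hψ, RingHom.comp_apply]
    rw [this]
    exact (IsLocalization.map_units R ⟨m, hmM⟩).map ψ
  have hu2 : IsUnit (algebraMap B T (c : B)) := IsLocalization.map_units T c
  have h3 : algebraMap B T (algebraMap A B m) * (algebraMap B T (c : B) * algebraMap B T b) = 0 := by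
    rw [← map_mul, ← map_mul]
    simp only at hm
    rw [hm, map_zero]
  have h4 : algebraMap B T b = 0 := by
    have := hu1.mul_right_eq_zero.1 h3
    exact hu2.mul_right_eq_zero.1 this
  rw [IsLocalization.mk'_eq_zero_iff]
  exact (IsLocalization.map_eq_zero_iff Q.primeCompl T b).1 h4


/-- pointwise ascent of reducedness of stalks along smooth morphisms. -/
lemma isReduced_stalk_of_smooth {A B : Scheme.{u}} (g : A ⟶ B) [Smooth g] (a : A)
    (h : _root_.IsReduced (B.presheaf.stalk (g a))) : _root_.IsReduced (A.presheaf.stalk a) := by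
  obtain ⟨U, hU, hgx, -⟩ := TopologicalSpace.Opens.isBasis_iff_nbhd.mp B.isBasis_affineOpens
    (TopologicalSpace.Opens.mem_top (g a))
  obtain ⟨V, hV, haV, eV⟩ := TopologicalSpace.Opens.isBasis_iff_nbhd.mp A.isBasis_affineOpens
    (show a ∈ g ⁻¹ᵁ U from hgx)
  have hsm : (g.appLE U V eV).hom.Smooth :=
    HasRingHomProperty.appLE (P := @Smooth) g inferInstance ⟨U, hU⟩ ⟨V, hV⟩ eV
  algebraize [(g.appLE U V eV).hom]
  haveI : Algebra.Smooth Γ(B, U) Γ(A, V) := hsm
  letI := A.presheaf.algebra_section_stalk (⟨a, haV⟩ : V)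
  haveI := hV.isLocalization_stalk ⟨a, haV⟩
  letI := B.presheaf.algebra_section_stalk (⟨g a, hgx⟩ : U)
  haveI := hU.isLocalization_stalk ⟨g a, hgx⟩
  refine isReduced_of_smooth_of_isLocalization (A := Γ(B, U)) (B := Γ(A, V))
    (R := B.presheaf.stalk (g a)) (T := A.presheaf.stalk a)
    (hU.primeIdealOf ⟨g a, hgx⟩).asIdeal.primeCompl (hV.primeIdealOf ⟨a, haV⟩).asIdeal
    (g.stalkMap a).hom ?_
  ext y
  simp only [RingHom.comp_apply, RingHom.algebraMap_toAlgebra]
  rw [Scheme.Hom.germ_stalkMap_apply, Scheme.Hom.appLE]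
  simp only [CommRingCat.hom_comp, RingHom.comp_apply]
  exact (TopCat.Presheaf.germ_res_apply _ _ _ _ _).symm

/-- pointwise descent of reducedness of stalks along flat morphisms. -/
lemma isReduced_stalk_of_flat {A B : Scheme.{u}} (g : A ⟶ B) [Flat g] (a : A)
    (h : _root_.IsReduced (A.presheaf.stalk a)) : _root_.IsReduced (B.presheaf.stalk (g a)) := by
  have hfl : (g.stalkMap a).hom.Flat := Flat.stalkMap g a
  have hloc : IsLocalHom (g.stalkMap a).hom := inferInstance
  algebraize [(g.stalkMap a).hom]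
  have : IsLocalHom (algebraMap (B.presheaf.stalk (g a)) (A.presheaf.stalk a)) := hloc
  haveI : Module.FaithfullyFlat (B.presheaf.stalk (g a)) (A.presheaf.stalk a) :=
    Module.FaithfullyFlat.of_flat_of_isLocalHom
  exact isReduced_of_injective (algebraMap (B.presheaf.stalk (g a)) (A.presheaf.stalk a))
    (FaithfulSMul.algebraMap_injective _ _)


/-- geometric reducedness at a point is insensitive to etale morphisms. -/
theorem isGeomReducedAt_iff_of_etale {k : Type u} [Field k] {U' U : Scheme.{u}} (e : U' ⟶ U)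
    [Etale e] (f : U ⟶ Spec (CommRingCat.of k)) (u' : U') :
    FBase.IsGeomReducedAt (e ≫ f) u' ↔ FBase.IsGeomReducedAt f (e u') := by
  have key : ∀ (K : Type u) [Field K] [Algebra k K],
      ∃ eK : FBase.bc (e ≫ f) K ⟶ FBase.bc f K,
        IsPullback (FBase.bcπ (e ≫ f) K) eK e (FBase.bcπ f K) := by
    intro K _ _
    let g := Spec.map (CommRingCat.ofHom (algebraMap k K))
    have hbig := IsPullback.of_hasPullback (e ≫ f) g
    have hbot := IsPullback.of_hasPullback f g
    have hc : (pullback.fst (e ≫ f) g ≫ e) ≫ f = pullback.snd (e ≫ f) g ≫ g := by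
      rw [Category.assoc]; exact pullback.condition
    refine ⟨pullback.lift (pullback.fst (e ≫ f) g ≫ e) (pullback.snd (e ≫ f) g) hc, ?_⟩
    change IsPullback (pullback.fst (e ≫ f) g) (pullback.lift _ _ hc) e (pullback.fst f g)
    refine IsPullback.of_bot ?_ (by rw [pullback.lift_fst]) hbot
    rw [pullback.lift_snd]
    exact hbig
  constructor
  · intro h K _ _ x'' hx''
    obtain ⟨eK, sq⟩ := key K
    haveI : Etale eK := MorphismProperty.of_isPullback (P := @Etale) sq inferInstance
    obtain ⟨z, hz1, hz2⟩ := Scheme.Pullback.exists_preimage_pullback (f := e) (g := FBase.bcπ f K)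
      u' x'' hx''.symm
    let x' : ↥(FBase.bc (e ≫ f) K) := sq.isoPullback.inv z
    have h1 : (FBase.bcπ (e ≫ f) K) x' = u' := by
      rw [← hz1, ← Scheme.Hom.comp_apply, sq.isoPullback_inv_fst]
    have h2 : eK x' = x'' := by
      rw [← hz2, ← Scheme.Hom.comp_apply, sq.isoPullback_inv_snd]
    have := h K x' h1
    rw [← h2]
    exact isReduced_stalk_of_flat eK x' this
  · intro h K _ _ x' hx'
    obtain ⟨eK, sq⟩ := key K
    haveI : Etale eK := MorphismProperty.of_isPullback (P := @Etale) sq inferInstance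
    have h1 : (FBase.bcπ f K) (eK x') = e u' := by
      rw [← hx', ← Scheme.Hom.comp_apply, ← Scheme.Hom.comp_apply, sq.w]
    exact isReduced_stalk_of_smooth eK x' (h K (eK x') h1)


/-- version for morphisms of schemes over `Spec k`. -/
theorem isGeomReducedAt_iff_of_etale_over {k : Type u} [Field k]
    {U' U : Over (Spec (CommRingCat.of k))} (e : U' ⟶ U) (he : Etale e.left) (u' : ↥U'.left) :
    FBase.IsGeomReducedAt U'.hom u' ↔ FBase.IsGeomReducedAt U.hom (e.left u') := by
  have := isGeomReducedAt_iff_of_etale e.left U.hom u'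
  rwa [Over.w e] at this

/-- geometric reducedness at a point of an algebraic space does not depend on the etale
neighbourhood. -/
theorem isGeomReducedAt_iff_of_ofPt_eq {k : Type u} [Field k]
    {X : AlgSp.Sp (Spec (CommRingCat.of k))} {U V : Over (Spec (CommRingCat.of k))}
    (a : (AlgSp.yon _).obj U ⟶ X) (b : (AlgSp.yon _).obj V ⟶ X)
    (ha : AlgSp.RepWith @Etale a) (hb : AlgSp.RepWith @Etale b) (u : ↥U.left) (v : ↥V.left)
    (huv : AlgSp.Points.ofPt a u = AlgSp.Points.ofPt b v) :
    FBase.IsGeomReducedAt U.hom u ↔ FBase.IsGeomReducedAt V.hom v := by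
  have sq := ha.rep.isPullback' b
  have h1 : Etale (ha.rep.snd b).left := ha.property_snd b
  have h2 : Etale (ha.rep.fst' b).left := hb.2 a _ _ sq.flip
  obtain ⟨y, hy1, hy2⟩ := Groth.Agent.S10176.exists_point_of_isPullback_yon sq u v huv
  rw [← hy1, ← hy2, ← isGeomReducedAt_iff_of_etale_over _ h1, ← isGeomReducedAt_iff_of_etale_over _ h2]

end Groth.Agent.Lib.Helper12.GeomRed
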