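import Mathlib
import Groth.Prelude.Def_Curv2
import Groth.Prelude.Def_FDesc
import Groth.Agent.Lib.Helper6BcAlg
import Groth.Agent.Lib.Helper6BcGeom
import Groth.Agent.Lib.Helper6BcRed2
import Groth.Agent.Lib.Helper6SmNorm

set_option autoImplicit false
universe u
open CategoryTheory CategoryTheory.Limits AlgebraicGeometry TensorProduct

namespace Groth.Agent.Lib.Helper6.BcTrans

open Groth.Agent.Lib.Helper6.BcAlg Groth.Agent.Lib.Helper6.BcGeom Groth.Agent.Lib.Helper6.BcRed

section Descend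

variable (PP : RingProp.{u})
  (hdesc : ∀ (A B : Type u) [CommRing A] [CommRing B] [IsLocalRing A] [IsLocalRing B]
    (f : A →+* B) [IsLocalHom f], f.Flat → PP.P B → PP.P A)
  (k : Type u) [Field k] (X : Scheme.{u}) [X.Over (Spec (CommRingCat.of k))]
  (k' : Type u) [Field k'] [Algebra k k'] (x' : Curv2.bc k X k')

include hdesc in
theorem descend_of_bc
    (h : letI : (Curv2.bc k X k').Over (Spec (CommRingCat.of k')) := ⟨Curv2.bcSnd k X k'⟩
      ∀ (k'' : Type u) [Field k''] [Algebra k' k''] (x'' : Curv2.bc k' (Curv2.bc k X k') k''),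
        Curv2.bcFst k' (Curv2.bc k X k') k'' x'' = x' →
          PP.P ((Curv2.bc k' (Curv2.bc k X k') k'').presheaf.stalk x''))
    (K : Type u) [Field K] [Algebra k K] (y : Curv2.bc k X K)
    (hxy : Curv2.bcFst k X K y = Curv2.bcFst k X k' x') :
    PP.P ((Curv2.bc k X K).presheaf.stalk y) := by
  letI : (Curv2.bc k X k').Over (Spec (CommRingCat.of k')) := ⟨Curv2.bcSnd k X k'⟩
  obtain ⟨w, hw1, hw2⟩ := Scheme.Pullback.exists_preimage_pullback
    (f := Curv2.bcFst k X K) (g := Curv2.bcFst k X k') y x' hxy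
  let W := pullback (Curv2.bcFst k X K) (Curv2.bcFst k X k')
  let Ω : Type u := W.residueField w
  let s : Spec (CommRingCat.of Ω) ⟶ W := W.fromSpecResidueField w
  let a' : Spec (CommRingCat.of Ω) ⟶ Spec (CommRingCat.of k') :=
    s ≫ pullback.snd _ _ ≫ Curv2.bcSnd k X k'
  let a : Spec (CommRingCat.of Ω) ⟶ Spec (CommRingCat.of K) :=
    s ≫ pullback.fst _ _ ≫ Curv2.bcSnd k X K
  letI : Algebra k' Ω := (Spec.preimage a').hom.toAlgebra
  have ha' : Spec.map (CommRingCat.ofHom (algebraMap k' Ω)) = a' := Spec.map_preimage a'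
  -- compatibility of `a` and `a'` over `k`
  have hcomp : a' ≫ Spec.map (CommRingCat.ofHom (algebraMap k k')) =
      a ≫ Spec.map (CommRingCat.ofHom (algebraMap k K)) := by
    simp only [a, a', Category.assoc]
    rw [← pullback.condition (f := X ↘ Spec (CommRingCat.of k))
        (g := Spec.map (CommRingCat.ofHom (algebraMap k k'))),
      ← pullback.condition (f := X ↘ Spec (CommRingCat.of k))
        (g := Spec.map (CommRingCat.ofHom (algebraMap k K))),
      ← pullback.condition_assoc (f := Curv2.bcFst k X K) (g := Curv2.bcFst k X k')]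
  -- the second base change
  let Z := Curv2.bc k' (Curv2.bc k X k') Ω
  let σ : Spec (CommRingCat.of Ω) ⟶ Z :=
    pullback.lift (s ≫ pullback.snd _ _) (𝟙 _) (by rw [Category.id_comp, ha']; rfl)
  have hZ : Curv2.bcFst k' (Curv2.bc k X k') Ω ≫ Curv2.bcSnd k X k' =
      Curv2.bcSnd k' (Curv2.bc k X k') Ω ≫ Spec.map (CommRingCat.ofHom (algebraMap k' Ω)) :=
    pullback.condition
  have hY2 : Curv2.bcFst k X k' ≫ (X ↘ Spec (CommRingCat.of k)) =
      Curv2.bcSnd k X k' ≫ Spec.map (CommRingCat.ofHom (algebraMap k k')) := pullback.condition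
  have hY1 : Curv2.bcFst k X K ≫ (X ↘ Spec (CommRingCat.of k)) =
      Curv2.bcSnd k X K ≫ Spec.map (CommRingCat.ofHom (algebraMap k K)) := pullback.condition
  let g : Z ⟶ Curv2.bc k X K :=
    pullback.lift (Curv2.bcFst k' (Curv2.bc k X k') Ω ≫ Curv2.bcFst k X k')
      (Curv2.bcSnd k' (Curv2.bc k X k') Ω ≫ a) (by
        rw [Category.assoc, Category.assoc, ← hcomp, ← ha', hY2, reassoc_of% hZ])
  have hg1 : g ≫ Curv2.bcFst k X K =
      Curv2.bcFst k' (Curv2.bc k X k') Ω ≫ Curv2.bcFst k X k' := pullback.lift_fst _ _ _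
  have hg2 : g ≫ Curv2.bcSnd k X K = Curv2.bcSnd k' (Curv2.bc k X k') Ω ≫ a :=
    pullback.lift_snd _ _ _
  have hσ1 : σ ≫ Curv2.bcFst k' (Curv2.bc k X k') Ω = s ≫ pullback.snd _ _ :=
    pullback.lift_fst _ _ _
  have hσ2 : σ ≫ Curv2.bcSnd k' (Curv2.bc k X k') Ω = 𝟙 _ := pullback.lift_snd _ _ _
  have hσg : σ ≫ g = s ≫ pullback.fst _ _ := by
    apply pullback.hom_ext
    · rw [Category.assoc, hg1, reassoc_of% hσ1, Category.assoc,
        pullback.condition (f := Curv2.bcFst k X K) (g := Curv2.bcFst k X k')]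
    · rw [Category.assoc, hg2, reassoc_of% hσ2, Category.assoc]
  -- `g` is flat
  have hA : IsPullback (Curv2.bcFst k' (Curv2.bc k X k') Ω) (Curv2.bcSnd k' (Curv2.bc k X k') Ω)
      (Curv2.bcSnd k X k') (Spec.map (CommRingCat.ofHom (algebraMap k' Ω))) :=
    IsPullback.of_hasPullback _ _
  have hB : IsPullback (Curv2.bcFst k X k') (Curv2.bcSnd k X k') (X ↘ Spec (CommRingCat.of k))
      (Spec.map (CommRingCat.ofHom (algebraMap k k'))) := IsPullback.of_hasPullback _ _
  have hC : IsPullback (Curv2.bcFst k X K) (Curv2.bcSnd k X K) (X ↘ Spec (CommRingCat.of k))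
      (Spec.map (CommRingCat.ofHom (algebraMap k K))) := IsPullback.of_hasPullback _ _
  have hAB := hA.paste_horiz hB
  have hbig : IsPullback (g ≫ Curv2.bcFst k X K) (Curv2.bcSnd k' (Curv2.bc k X k') Ω)
      (X ↘ Spec (CommRingCat.of k)) (a ≫ Spec.map (CommRingCat.ofHom (algebraMap k K))) := by
    rw [hg1, ← hcomp, ← ha']
    exact hAB
  have hG : IsPullback g (Curv2.bcSnd k' (Curv2.bc k X k') Ω) (Curv2.bcSnd k X K) a :=
    IsPullback.of_right hbig hg2 hC
  have hflat_a : Flat a := by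
    rw [← Spec.map_preimage a, HasRingHomProperty.Spec_iff (P := @Flat)]
    algebraize [(Spec.preimage a).hom]
    rw [← (Spec.preimage a).hom.algebraMap_toAlgebra, RingHom.flat_algebraMap_iff]
    infer_instance
  have hflat_g : Flat g := MorphismProperty.of_isPullback (P := @Flat) hG.flip hflat_a
  -- the point
  let pt : Spec (CommRingCat.of Ω) := IsLocalRing.closedPoint Ω
  have hx''1 : Curv2.bcFst k' (Curv2.bc k X k') Ω (σ pt) = x' := by
    rw [← Scheme.Hom.comp_apply, hσ1, Scheme.Hom.comp_apply, Scheme.fromSpecResidueField_apply, hw2]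
  have hx''2 : g (σ pt) = y := by
    rw [← Scheme.Hom.comp_apply, hσg, Scheme.Hom.comp_apply, Scheme.fromSpecResidueField_apply, hw1]
  have hP := h Ω (σ pt) hx''1
  subst hx''2
  exact hdesc _ _ (g.stalkMap (σ pt)).hom (Flat.stalkMap g (σ pt)) hP

end Descend

section Ascend

variable (PP : RingProp.{u})
  (k : Type u) [Field k] (X : Scheme.{u}) [X.Over (Spec (CommRingCat.of k))]
  (k' : Type u) [Field k'] [Algebra k k'] (x' : Curv2.bc k X k')

theorem ascend_to_bc
    (h : ∀ (K : Type u) [Field K] [Algebra k K] (y : Curv2.bc k X K),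
      Curv2.bcFst k X K y = Curv2.bcFst k X k' x' → PP.P ((Curv2.bc k X K).presheaf.stalk y)) :
    letI : (Curv2.bc k X k').Over (Spec (CommRingCat.of k')) := ⟨Curv2.bcSnd k X k'⟩
    ∀ (k'' : Type u) [Field k''] [Algebra k' k''] (x'' : Curv2.bc k' (Curv2.bc k X k') k''),
      Curv2.bcFst k' (Curv2.bc k X k') k'' x'' = x' →
        PP.P ((Curv2.bc k' (Curv2.bc k X k') k'').presheaf.stalk x'') := by
  letI : (Curv2.bc k X k').Over (Spec (CommRingCat.of k')) := ⟨Curv2.bcSnd k X k'⟩
  intro k'' _ _ x'' hx''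
  letI : Algebra k k'' := ((algebraMap k' k'').comp (algebraMap k k')).toAlgebra
  have hA : IsPullback (Curv2.bcFst k' (Curv2.bc k X k') k'')
      (Curv2.bcSnd k' (Curv2.bc k X k') k'')
      (Curv2.bcSnd k X k') (Spec.map (CommRingCat.ofHom (algebraMap k' k''))) :=
    IsPullback.of_hasPullback _ _
  have hB : IsPullback (Curv2.bcFst k X k') (Curv2.bcSnd k X k') (X ↘ Spec (CommRingCat.of k))
      (Spec.map (CommRingCat.ofHom (algebraMap k k'))) := IsPullback.of_hasPullback _ _
  have hAB := hA.paste_horiz hB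
  have heq : Spec.map (CommRingCat.ofHom (algebraMap k' k'')) ≫
      Spec.map (CommRingCat.ofHom (algebraMap k k')) =
      Spec.map (CommRingCat.ofHom (algebraMap k k'')) := by
    rw [← Spec.map_comp]
    rfl
  rw [heq] at hAB
  let θ := hAB.isoPullback
  have hθ : θ.hom ≫ Curv2.bcFst k X k'' =
      Curv2.bcFst k' (Curv2.bc k X k') k'' ≫ Curv2.bcFst k X k' := hAB.isoPullback_hom_fst
  have hy : Curv2.bcFst k X k'' (θ.hom x'') = Curv2.bcFst k X k' x' := by
    rw [← Scheme.Hom.comp_apply, hθ, Scheme.Hom.comp_apply, hx'']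
  have hP := h k'' (θ.hom x'') hy
  exact PP.equiv _ _ (asIso (θ.hom.stalkMap x'')).commRingCatIsoToRingEquiv hP

end Ascend

section Desc

variable (A B : Type u) [CommRing A] [CommRing B] [IsLocalRing A] [IsLocalRing B]
  (f : A →+* B) [IsLocalHom f]

theorem reduced_desc (hf : f.Flat) (h : reducedProp.P B) : reducedProp.P A := by
  algebraize [f]
  haveI : IsLocalHom (algebraMap A B) := by rwa [RingHom.algebraMap_toAlgebra]
  haveI : Module.FaithfullyFlat A B := Module.FaithfullyFlat.of_flat_of_isLocalHom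
  haveI : IsReduced B := h
  exact isReduced_of_injective (algebraMap A B) (FaithfulSMul.algebraMap_injective A B)

theorem normal_desc (hf : f.Flat) (h : normalProp.P B) : normalProp.P A := by
  algebraize [f]
  haveI : IsLocalHom (algebraMap A B) := by rwa [RingHom.algebraMap_toAlgebra]
  haveI : Module.FaithfullyFlat A B := Module.FaithfullyFlat.of_flat_of_isLocalHom
  obtain ⟨h1, h2⟩ := h
  have hB : EGA4.IsNormalRing B := Groth.Agent.Lib.Helper6.SepBC.isNormalRing_of_normal B
  have hA : EGA4.IsNormalRing A :=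
    Groth.Agent.Lib.Helper6.SmNorm.isNormalRing_of_faithfullyFlat A B hB
  have hm := hA (IsLocalRing.maximalIdeal A)
  let e : A ≃ₐ[A] (Localization.AtPrime (IsLocalRing.maximalIdeal A)) :=
    IsLocalization.atUnits A (IsLocalRing.maximalIdeal A).primeCompl
      (fun x ↦ by simpa using! fun a ↦ a)
  exact normalProp.equiv _ _ e.symm.toRingEquiv hm

end Desc

end Groth.Agent.Lib.Helper6.BcTrans
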