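import Mathlib
import Groth.Agent.Lib.Helper12GeomRed
import Groth.Agent.Lib.Helper12FieldBC
import Groth.Agent.Lib.Helper6BcTrans

set_option autoImplicit false
universe u
open CategoryTheory CategoryTheory.Limits AlgebraicGeometry

namespace Groth.Agent.Lib.Helper12.FieldBC

/-- geometric reducedness at a point is insensitive to extending the base field. -/
theorem isGeomReducedAt_bc_iff {k : Type u} [Field k] {X : Scheme.{u}}
    (f : X ⟶ Spec (CommRingCat.of k)) (K : Type u) [Field K] [Algebra k K]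
    (x' : ↥(FBase.bc f K)) :
    FBase.IsGeomReducedAt f ((FBase.bcπ f K) x') ↔ FBase.IsGeomReducedAt (FBase.bcStr f K) x' := by
  letI : X.Over (Spec (CommRingCat.of k)) := ⟨f⟩
  constructor
  · intro h
    exact Groth.Agent.Lib.Helper6.BcTrans.ascend_to_bc Groth.Agent.Lib.Helper6.BcRed.reducedProp
      k X K x' (fun K' _ _ y hy => h K' y hy)
  · intro h K' _ _ y hy
    exact Groth.Agent.Lib.Helper6.BcTrans.descend_of_bc Groth.Agent.Lib.Helper6.BcRed.reducedProp
      Groth.Agent.Lib.Helper6.BcTrans.reduced_desc k X K x' h K' y hy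


/-- lifting points to the base-changed chart. -/
lemma exists_point_chartK {k : Type u} [Field k] {X : AlgSp.Sp (Spec (CommRingCat.of k))}
    {U : Over (Spec (CommRingCat.of k))} (a : (AlgSp.yon _).obj U ⟶ X) (K : Type u) [Field K]
    [Algebra k K] (u : ↥U.left)
    (x' : AlgSp.Points (X ⨯ (AlgSp.yon (Spec (CommRingCat.of k))).obj (ptK k K)))
    (hx' : AlgSp.Points.map (prod.fst : X ⨯ (AlgSp.yon _).obj (ptK k K) ⟶ X) x' =
      AlgSp.Points.ofPt a u) :
    ∃ u' : ↥(FBase.bc U.hom K), AlgSp.Points.ofPt (chartK a K) u' = x' ∧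
      (FBase.bcπ U.hom K) u' = u := by
  have sq := isPullback_chartK a K
  rw [AlgSp.Points.ofPt_eq_map_ofScheme] at hx'
  obtain ⟨p, hp1, hp2⟩ := Groth.Agent.S10175.exists_point_of_isPullback sq _ _ hx'
  obtain ⟨y, rfl⟩ := (AlgSp.Points.schemeHomeo (bcOver U K)).surjective p
  refine ⟨y, ?_, ?_⟩
  · rw [AlgSp.Points.ofPt_eq_map_ofScheme]
    exact hp1
  · apply (AlgSp.Points.schemeHomeo U).injective
    have := AlgSp.Points.map_yon_map_apply (bcPr U K) y
    exact this.symm.trans hp2

end Groth.Agent.Lib.Helper12.FieldBC
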