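import Mathlib
import Groth.Agent.Lib.Helper12FieldBC
import Groth.Agent.S10175

set_option autoImplicit false
universe u
open CategoryTheory CategoryTheory.Limits AlgebraicGeometry

namespace Groth.Agent.Lib.Helper12.FieldBC

lemma isPullback_prod_map {C : Type*} [Category C] [HasBinaryProducts C] {pt : C}
    (hpt : IsTerminal pt) (X : C) {T' T : C} (g : T' ⟶ T) :
    IsPullback (prod.snd : X ⨯ T' ⟶ T') (prod.map (𝟙 X) g) g prod.snd := by
  have hbig : IsPullback (prod.snd : X ⨯ T' ⟶ T') prod.fst (hpt.from _) (hpt.from _) :=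
    (IsPullback.of_is_product' (prodIsProd X T') hpt).flip
  have hbot : IsPullback (prod.snd : X ⨯ T ⟶ T) prod.fst (hpt.from _) (hpt.from _) :=
    (IsPullback.of_is_product' (prodIsProd X T) hpt).flip
  have e1 : (prod.fst : X ⨯ T' ⟶ X) = prod.map (𝟙 X) g ≫ prod.fst := by
    rw [prod.map_fst, Category.comp_id]
  have e2 : hpt.from T' = g ≫ hpt.from T := hpt.hom_ext _ _
  rw [e1, e2] at hbig
  exact IsPullback.of_bot hbig (by rw [prod.map_snd]) hbot

/-- base change of a space along a surjective map of field spectra is surjective on points. -/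
lemma surjective_map_prod_map {k : Type u} [Field k] (X : AlgSp.Sp (Spec (CommRingCat.of k)))
    (K Ω : Type u) [Field K] [Field Ω] [Algebra k K] [Algebra k Ω] (g : ptK k Ω ⟶ ptK k K) :
    Function.Surjective (AlgSp.Points.map
      (prod.map (𝟙 X) ((AlgSp.yon (Spec (CommRingCat.of k))).map g))) := by
  intro p
  have hpt : IsTerminal ((AlgSp.yon (Spec (CommRingCat.of k))).obj (Over.mk (𝟙 _))) :=
    IsTerminal.isTerminalObj (AlgSp.yon _) _ Over.mkIdTerminal
  have sq := isPullback_prod_map hpt X ((AlgSp.yon (Spec (CommRingCat.of k))).map g)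
  let z : AlgSp.Points ((AlgSp.yon (Spec (CommRingCat.of k))).obj (ptK k Ω)) :=
    AlgSp.Points.schemeHomeo (ptK k Ω) (⊥ : PrimeSpectrum Ω)
  have e : AlgSp.Points.map ((AlgSp.yon (Spec (CommRingCat.of k))).map g) z =
      AlgSp.Points.map prod.snd p := by
    apply (AlgSp.Points.schemeHomeo (ptK k K)).symm.injective
    exact (inferInstance : Subsingleton (PrimeSpectrum K)).elim _ _
  obtain ⟨q, -, hq⟩ := Groth.Agent.S10175.exists_point_of_isPullback sq z p e
  exact ⟨q, hq⟩

end Groth.Agent.Lib.Helper12.FieldBC
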