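import Mathlib
import Groth.Agent.Lib.Helper12FieldBC3

set_option autoImplicit false
universe u
open CategoryTheory CategoryTheory.Limits AlgebraicGeometry

namespace Groth.Agent.Lib.Helper12.FieldBC

/-- the projection `X_K ⟶ X` is surjective on points. -/
lemma surjective_map_prod_fst {k : Type u} [Field k] (X : AlgSp.Sp (Spec (CommRingCat.of k)))
    (K : Type u) [Field K] [Algebra k K] :
    Function.Surjective (AlgSp.Points.map
      (prod.fst : X ⨯ (AlgSp.yon (Spec (CommRingCat.of k))).obj (ptK k K) ⟶ X)) := by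
  intro x
  have hpt : IsTerminal ((AlgSp.yon (Spec (CommRingCat.of k))).obj (Over.mk (𝟙 _))) :=
    IsTerminal.isTerminalObj (AlgSp.yon _) _ Over.mkIdTerminal
  have sq : IsPullback (prod.fst : X ⨯ (AlgSp.yon _).obj (ptK k K) ⟶ X) prod.snd
      (hpt.from _) (hpt.from _) :=
    IsPullback.of_is_product' (prodIsProd _ _) hpt
  let z : AlgSp.Points ((AlgSp.yon (Spec (CommRingCat.of k))).obj (ptK k K)) :=
    AlgSp.Points.schemeHomeo (ptK k K) (⊥ : PrimeSpectrum K)
  have e : AlgSp.Points.map (hpt.from X) x = AlgSp.Points.map (hpt.from _) z := by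
    apply (AlgSp.Points.schemeHomeo (Over.mk (𝟙 (Spec (CommRingCat.of k))))).symm.injective
    exact (inferInstance : Subsingleton (PrimeSpectrum k)).elim _ _
  obtain ⟨q, hq, -⟩ := Groth.Agent.S10175.exists_point_of_isPullback sq x z e
  exact ⟨q, hq⟩

end Groth.Agent.Lib.Helper12.FieldBC
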