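import Mathlib
import Groth.Prelude.Def_AlgSpGpd

/-!
# Helper15Groupoid: generalized-element calculus for groupoids in sheaves (helper15)

`comp G α β h` is the composite `α ∘ β` of two `T`-valued arrows with `s α = t β`; the groupoid
axioms of `AlgSp.GroupoidSp` rewritten for it, naturality in `T`, and the left/right cancellation
identities.
-/

set_option autoImplicit false
universe u

open CategoryTheory CategoryTheory.Limits AlgebraicGeometry

namespace Groth.Agent.Lib.Helper15Groupoid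

variable {S : Scheme.{u}} {B : AlgSp.Sp S} (G : AlgSp.GroupoidSp B)

/-- composite of two `T`-valued arrows -/
noncomputable def comp {T : AlgSp.Sp S} (α β : T ⟶ G.R) (h : α ≫ G.s = β ≫ G.t) : T ⟶ G.R :=
  pullback.lift α β h ≫ G.c

theorem comp_congr {T : AlgSp.Sp S} {α α' β β' : T ⟶ G.R} (h : α ≫ G.s = β ≫ G.t)
    (hα : α = α') (hβ : β = β') (h' : α' ≫ G.s = β' ≫ G.t) :
    comp G α β h = comp G α' β' h' := by
  subst hα; subst hβ; rfl

theorem comp_src {T : AlgSp.Sp S} (α β : T ⟶ G.R) (h : α ≫ G.s = β ≫ G.t) :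
    comp G α β h ≫ G.s = β ≫ G.s := G.comp_s α β h

theorem comp_tgt {T : AlgSp.Sp S} (α β : T ⟶ G.R) (h : α ≫ G.s = β ≫ G.t) :
    comp G α β h ≫ G.t = α ≫ G.t := G.comp_t α β h

theorem comp_assoc {T : AlgSp.Sp S} (α β γ : T ⟶ G.R) (h₁ : α ≫ G.s = β ≫ G.t)
    (h₂ : β ≫ G.s = γ ≫ G.t) :
    comp G (comp G α β h₁) γ ((comp_src G α β h₁).trans h₂) =
      comp G α (comp G β γ h₂) (h₁.trans (comp_tgt G β γ h₂).symm) := G.assoc α β γ h₁ h₂

theorem precomp {T T' : AlgSp.Sp S} (f : T' ⟶ T) (α β : T ⟶ G.R) (h : α ≫ G.s = β ≫ G.t) :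
    f ≫ comp G α β h = comp G (f ≫ α) (f ≫ β)
      (by rw [Category.assoc, Category.assoc, h]) := by
  unfold comp
  have : f ≫ pullback.lift α β h = pullback.lift (f ≫ α) (f ≫ β)
      (by rw [Category.assoc, Category.assoc, h]) := by
    apply pullback.hom_ext
    · rw [Category.assoc, pullback.lift_fst, pullback.lift_fst]
    · rw [Category.assoc, pullback.lift_snd, pullback.lift_snd]
  rw [← this, Category.assoc]

theorem c_eq : G.c = comp G (pullback.fst G.s G.t) (pullback.snd G.s G.t) pullback.condition := by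
  unfold comp
  have : pullback.lift (pullback.fst G.s G.t) (pullback.snd G.s G.t) pullback.condition = 𝟙 _ := by
    apply pullback.hom_ext <;> simp
  rw [this, Category.id_comp]

theorem lift_c {T : AlgSp.Sp S} (m : T ⟶ pullback G.s G.t) :
    m ≫ G.c = comp G (m ≫ pullback.fst _ _) (m ≫ pullback.snd _ _)
      (by rw [Category.assoc, Category.assoc, pullback.condition]) := by
  unfold comp
  have : m = pullback.lift (m ≫ pullback.fst _ _) (m ≫ pullback.snd _ _)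
      (by rw [Category.assoc, Category.assoc, pullback.condition]) := by
    apply pullback.hom_ext
    · rw [pullback.lift_fst]
    · rw [pullback.lift_snd]
  conv_lhs => rw [this]

/-- `α ∘ e_{s α} = α`, with the unit given in any equal form. -/
theorem comp_unit {T : AlgSp.Sp S} (α ε : T ⟶ G.R) (hε : ε = α ≫ G.s ≫ G.e)
    (h : α ≫ G.s = ε ≫ G.t) : comp G α ε h = α := by
  subst hε
  exact G.comp_e α

/-- `e_{t α} ∘ α = α`. -/
theorem unit_comp {T : AlgSp.Sp S} (α ε : T ⟶ G.R) (hε : ε = α ≫ G.t ≫ G.e)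
    (h : ε ≫ G.s = α ≫ G.t) : comp G ε α h = α := by
  subst hε
  exact G.e_comp α

/-- `α ∘ α⁻¹ = e_{t α}`. -/
theorem comp_inv {T : AlgSp.Sp S} (α ι : T ⟶ G.R) (hι : ι = α ≫ G.i)
    (h : α ≫ G.s = ι ≫ G.t) : comp G α ι h = α ≫ G.t ≫ G.e := by
  subst hι
  exact G.comp_i α

/-- `α⁻¹ ∘ α = e_{s α}`. -/
theorem inv_comp {T : AlgSp.Sp S} (α ι : T ⟶ G.R) (hι : ι = α ≫ G.i)
    (h : ι ≫ G.s = α ≫ G.t) : comp G ι α h = α ≫ G.s ≫ G.e := by
  subst hι
  exact G.i_comp α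

/-- `(γ ∘ β⁻¹) ∘ β = γ`. -/
theorem comp_inv_comp {T : AlgSp.Sp S} (γ β : T ⟶ G.R) (hs : γ ≫ G.s = β ≫ G.s)
    (h₁ : γ ≫ G.s = (β ≫ G.i) ≫ G.t) (h₂ : comp G γ (β ≫ G.i) h₁ ≫ G.s = β ≫ G.t) :
    comp G (comp G γ (β ≫ G.i) h₁) β h₂ = γ := by
  have h3 : (β ≫ G.i) ≫ G.s = β ≫ G.t := by rw [Category.assoc, G.i_s]
  have := comp_assoc G γ (β ≫ G.i) β h₁ h3
  rw [comp_congr G h₂ rfl rfl ((comp_src G γ (β ≫ G.i) h₁).trans h3), this]
  apply comp_unit
  rw [inv_comp G β (β ≫ G.i) rfl h3, ← Category.assoc, ← Category.assoc, hs]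

/-- `(α ∘ β) ∘ β⁻¹ = α`. -/
theorem comp_comp_inv {T : AlgSp.Sp S} (α β : T ⟶ G.R) (h : α ≫ G.s = β ≫ G.t)
    (h₂ : comp G α β h ≫ G.s = (β ≫ G.i) ≫ G.t) :
    comp G (comp G α β h) (β ≫ G.i) h₂ = α := by
  have h3 : β ≫ G.s = (β ≫ G.i) ≫ G.t := by rw [Category.assoc, G.i_t]
  have := comp_assoc G α β (β ≫ G.i) h h3
  rw [comp_congr G h₂ rfl rfl ((comp_src G α β h).trans h3), this]
  apply comp_unit
  rw [comp_inv G β (β ≫ G.i) rfl h3, ← Category.assoc, ← Category.assoc, h]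

/-- `α⁻¹ ∘ (α ∘ β) = β`. -/
theorem inv_comp_comp {T : AlgSp.Sp S} (α β : T ⟶ G.R) (h : α ≫ G.s = β ≫ G.t)
    (h₂ : (α ≫ G.i) ≫ G.s = comp G α β h ≫ G.t) :
    comp G (α ≫ G.i) (comp G α β h) h₂ = β := by
  have h3 : (α ≫ G.i) ≫ G.s = α ≫ G.t := by rw [Category.assoc, G.i_s]
  have := comp_assoc G (α ≫ G.i) α β h3 h
  rw [comp_congr G h₂ rfl rfl (h3.trans (comp_tgt G α β h).symm), ← this]
  apply unit_comp
  rw [inv_comp G α (α ≫ G.i) rfl h3, ← Category.assoc, ← Category.assoc, h]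

/-- `α ∘ (α⁻¹ ∘ β) = β`. -/
theorem comp_inv_comp' {T : AlgSp.Sp S} (α β : T ⟶ G.R) (ht : α ≫ G.t = β ≫ G.t)
    (h₁ : (α ≫ G.i) ≫ G.s = β ≫ G.t) (h₂ : α ≫ G.s = comp G (α ≫ G.i) β h₁ ≫ G.t) :
    comp G α (comp G (α ≫ G.i) β h₁) h₂ = β := by
  have h3 : α ≫ G.s = (α ≫ G.i) ≫ G.t := by rw [Category.assoc, G.i_t]
  have := comp_assoc G α (α ≫ G.i) β h3 h₁
  rw [comp_congr G h₂ rfl rfl (h3.trans (comp_tgt G (α ≫ G.i) β h₁).symm), ← this]
  apply unit_comp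
  rw [comp_inv G α (α ≫ G.i) rfl h3, ← Category.assoc, ← Category.assoc, ht]

end Groth.Agent.Lib.Helper15Groupoid
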