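import Mathlib
import Groth.Agent.S9911
import Groth.Agent.S10142
import Groth.Agent.Lib.Helper12LocPCases
import Groth.Agent.Lib.Helper12TopDescent
import Groth.Agent.Lib.Helper8Grp

/-!
# Morphisms to the spectrum of a field; groupoids and groups over a field (helper12)
-/

set_option autoImplicit false
universe u
open CategoryTheory CategoryTheory.Limits AlgebraicGeometry Opposite
open AlgSp

namespace Groth.Agent.Lib.Helper12.FieldGpd

open Groth.Agent.Lib.Helper12.LocPCases

variable {S : Scheme.{u}}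

/-- every scheme over a field is flat over it. -/
lemma flat_of_field (k : Type u) [Field k] (X : Scheme.{u}) (p : X ⟶ Spec (CommRingCat.of k)) :
    Flat p := by
  rw [HasRingHomProperty.iff_of_source_openCover (P := @Flat) X.affineCover]
  intro i
  have h : ((Scheme.ΓSpecIso (.of k)).inv ≫ (X.affineCover.f i ≫ p).appTop).hom.Flat := by
    generalize ((Scheme.ΓSpecIso (.of k)).inv ≫ (X.affineCover.f i ≫ p).appTop) = φ
    algebraize [φ.hom]
    change Module.Flat k _
    infer_instance
  rw [CommRingCat.hom_comp] at h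
  exact (RingHom.Flat.respectsIso.cancel_left_isIso (Scheme.ΓSpecIso (.of k)).inv _).mp h

/-- `UnivSp Q` is insensitive to isomorphisms of the target. -/
lemma univSp_of_comp_iso (Q : MorphismProperty (AlgSp.Sp S)) {X Y Y' : AlgSp.Sp S} (f : X ⟶ Y)
    (e : Y ≅ Y') (h : AlgSp.UnivSp Q (f ≫ e.hom)) : AlgSp.UnivSp Q f := by
  intro Z Z' hZ g fst snd sq
  refine h hZ (g ≫ e.hom) fst snd ?_
  exact IsPullback.of_iso sq (Iso.refl _) (Iso.refl _) (Iso.refl _) e (by simp) (by simp)
    (by simp) (by simp)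

/-- `UnivSp Q` is insensitive to isomorphisms of the source. -/
lemma univSp_iso_comp (Q : MorphismProperty (AlgSp.Sp S)) {X X' Y : AlgSp.Sp S} (e : X' ≅ X)
    (f : X ⟶ Y) (h : AlgSp.UnivSp Q f) : AlgSp.UnivSp Q (e.hom ≫ f) := by
  intro Z Z' hZ g fst snd sq
  refine h hZ g (fst ≫ e.hom) snd ?_
  exact IsPullback.of_iso sq (Iso.refl _) e (Iso.refl _) (Iso.refl _) (by simp) (by simp)
    (by simp) (by simp)

/-- `LocP P` is insensitive to isomorphisms of the source. -/
lemma locP_iso_comp (P : MorphismProperty Scheme.{u}) [P.IsStableUnderBaseChange]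
    {X X' Y : AlgSp.Sp S} (e : X' ≅ X)
    (f : X ⟶ Y) (h : AlgSp.LocP P f) : AlgSp.LocP P (e.hom ≫ f) := by
  intro U V a b m ha hb hcomm
  exact h (a ≫ e.hom) b m (MorphismProperty.RespectsIso.postcomp _ _ _ ha) hb
    (by rw [Category.assoc]; exact hcomm)

/-- every morphism to the spectrum of a field is flat. -/
lemma locP_flat_to_field {X Y : AlgSp.Sp S} (f : X ⟶ Y) {k : Type u} [Field k]
    (σ : Spec (CommRingCat.of k) ⟶ S) (e : Y ≅ (AlgSp.yon S).obj (Over.mk σ)) :
    AlgSp.LocP @Flat f := by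
  intro U V a b h ha hb hcomm
  have hb' : AlgSp.RepWith @Etale (b ≫ e.hom) := MorphismProperty.RespectsIso.postcomp _ _ _ hb
  obtain ⟨b₀, hb₀⟩ := (AlgSp.yon S).map_surjective (b ≫ e.hom)
  rw [← hb₀, AlgSp.repWith_yon_map_iff] at hb'
  have hfl : Flat (h.left ≫ b₀.left) := flat_of_field k _ _
  exact good_flat.hcancel h.left b₀.left hb' hfl

/-- every morphism from an algebraic space to the spectrum of a field is universally open. -/
lemma isUnivOpenMor_to_field {X Y : AlgSp.Sp S} (hX : AlgSp.IsAlgSpace X) (f : X ⟶ Y)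
    {k : Type u} [Field k] (σ : Spec (CommRingCat.of k) ⟶ S)
    (e : Y ≅ (AlgSp.yon S).obj (Over.mk σ)) : AlgSp.IsUnivOpenMor f := by
  have h1 : AlgSp.IsUnivOpenMor (f ≫ e.hom) :=
    Groth.Agent.S9911.result (S := S) ⟨X, hX⟩ σ (ObjectProperty.homMk (f ≫ e.hom))
  exact univSp_of_comp_iso _ f e h1

end Groth.Agent.Lib.Helper12.FieldGpd
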