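import Mathlib
import Groth.Prelude.Def_NonAbH2
import Groth.Agent.Lib.Helper12Act

/-!
Helper library (helper12): the difference map of a pseudo-torsor, on points.
-/

set_option autoImplicit false
set_option linter.style.haveILetI false
universe u

open CategoryTheory MonoidalCategory CartesianMonoidalCategory MonObj AlgebraicGeometry Limits

namespace Groth.Agent.Lib.Helper12.PseudoTorsor

variable {S : Scheme.{u}} {G X : Over S} [GrpObj G] (a : AlgGrp.Action G X)

/-- the difference map `(y, z) ↦ g` with `g • z = y` of a pseudo-torsor. -/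
noncomputable def diff (h : NonAbH1.IsPseudoTorsorSch a) : X ⊗ X ⟶ G :=
  haveI : IsIso (lift a.act (snd G X)) := h
  inv (lift a.act (snd G X)) ≫ fst G X

lemma lift_shear {W : Over S} (g : W ⟶ G) (z : W ⟶ X) :
    lift g z ≫ lift a.act (snd G X) = lift (lift g z ≫ a.act) z := by
  apply CartesianMonoidalCategory.hom_ext <;> simp

lemma diff_act (h : NonAbH1.IsPseudoTorsorSch a) {W : Over S} (y z : W ⟶ X) :
    lift (lift y z ≫ diff a h) z ≫ a.act = y := by
  haveI : IsIso (lift a.act (snd G X)) := h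
  set Φ := lift a.act (snd G X) with hΦ
  have hΦ2 : Φ ≫ snd X X = snd G X := by simp [Φ]
  have h2 : inv Φ ≫ snd G X = snd X X := by rw [IsIso.inv_comp_eq, hΦ2]
  set q := lift y z ≫ inv Φ with hq
  have hq1 : q ≫ snd G X = z := by rw [hq, Category.assoc, h2, lift_snd]
  have hq2 : q = lift (q ≫ fst G X) z := by
    apply CartesianMonoidalCategory.hom_ext <;> simp [hq1]
  have hq3 : q ≫ Φ = lift y z := by rw [hq, Category.assoc, IsIso.inv_hom_id, Category.comp_id]
  rw [hq2, hΦ, lift_shear] at hq3
  have h4 := congrArg (· ≫ fst X X) hq3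
  simp only [lift_fst] at h4
  have h5 : lift y z ≫ diff a h = q ≫ fst G X := by
    simp only [diff, hq, Category.assoc, Φ]
  rw [h5]
  exact h4

lemma diff_unique (h : NonAbH1.IsPseudoTorsorSch a) {W : Over S} (g : W ⟶ G) (y z : W ⟶ X)
    (hg : lift g z ≫ a.act = y) : g = lift y z ≫ diff a h := by
  haveI : IsIso (lift a.act (snd G X)) := h
  have h1 : lift g z ≫ lift a.act (snd G X) = lift y z := by rw [lift_shear, hg]
  have h2 : lift g z = lift y z ≫ inv (lift a.act (snd G X)) := by
    rw [← h1, Category.assoc, IsIso.hom_inv_id, Category.comp_id]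
  have h3 := congrArg (· ≫ fst G X) h2
  simp only [lift_fst, Category.assoc] at h3
  rw [h3]
  rfl

/-- `δ(y, z) = 1` iff ... : the difference of a point with itself is `1`. -/
lemma diff_self (h : NonAbH1.IsPseudoTorsorSch a) {W : Over S} (z : W ⟶ X) :
    lift z z ≫ diff a h = 1 :=
  (diff_unique a h 1 z z (act_one a z)).symm

/-- `δ(g • y, z) = g * δ(y, z)`. -/
lemma diff_act_left (h : NonAbH1.IsPseudoTorsorSch a) {W : Over S} (g : W ⟶ G) (y z : W ⟶ X) :
    lift (lift g y ≫ a.act) z ≫ diff a h = g * (lift y z ≫ diff a h) := by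
  symm
  apply diff_unique
  rw [act_mul, diff_act]

/-- `δ(y, g • z) = δ(y, z) * g⁻¹`. -/
lemma diff_act_right (h : NonAbH1.IsPseudoTorsorSch a) {W : Over S} (g : W ⟶ G) (y z : W ⟶ X) :
    lift y (lift g z ≫ a.act) ≫ diff a h = (lift y z ≫ diff a h) * g⁻¹ := by
  symm
  apply diff_unique
  rw [← act_mul, inv_mul_cancel_right, diff_act]

end Groth.Agent.Lib.Helper12.PseudoTorsor
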