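import Mathlib
import Groth.Prelude.Def_NonAbH2
import Groth.Agent.Lib.Helper12PseudoTorsor

/-!
Helper library (helper12): pseudo-torsors under a group whose points with values in reduced
schemes are trivial (infinitesimal groups): sections descend along fpqc covers `V ⟶ S` with
`V ×_S V` reduced.
-/

set_option autoImplicit false
set_option linter.style.haveILetI false
universe u

open CategoryTheory MonoidalCategory CartesianMonoidalCategory MonObj AlgebraicGeometry Limits

namespace Groth.Agent.Lib.Helper12.InfTorsor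

/-- a separated morphism with a surjective section is "injective on reduced test schemes". -/
lemma eq_of_isReduced_of_surjective_section {I S W : Scheme.{u}} (p : I ⟶ S) [IsSeparated p]
    (e : S ⟶ I) (he : e ≫ p = 𝟙 S) [Surjective e] [IsReduced W] (h₁ h₂ : W ⟶ I)
    (h : h₁ ≫ p = h₂ ≫ p) : h₁ = h₂ := by
  haveI : IsClosedImmersion e := by
    haveI : IsClosedImmersion (e ≫ p) := by rw [he]; infer_instance
    exact IsClosedImmersion.of_comp e p
  have key : ∀ h : W ⟶ I, h = (h ≫ p) ≫ e := by
    intro h
    haveI : IsIso (pullback.fst h e) := isIso_of_isClosedImmersion_of_surjective _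
    have h1 : h = inv (pullback.fst h e) ≫ pullback.snd h e ≫ e := by
      rw [← pullback.condition, IsIso.inv_hom_id_assoc]
    have h2 : h ≫ p = inv (pullback.fst h e) ≫ pullback.snd h e := by
      conv_lhs => rw [h1]
      simp only [Category.assoc, he, Category.comp_id]
    rw [h2, Category.assoc]
    exact h1
  rw [key h₁, key h₂, h]

variable {S : Scheme.{u}}

/-- points of a group scheme `I ⟶ S` (separated, with surjective unit section) with values in a
reduced scheme are trivial. -/
lemma eq_one_of_isReduced {I : Over S} [GrpObj I] [IsSeparated I.hom]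
    (hI : Surjective (η[I] : 𝟙_ (Over S) ⟶ I).left) {T : Over S} [IsReduced T.left]
    (g : T ⟶ I) : g = 1 := by
  ext
  refine eq_of_isReduced_of_surjective_section I.hom (η[I] : 𝟙_ (Over S) ⟶ I).left ?_ _ _ ?_
  · exact Over.w (η[I] : 𝟙_ (Over S) ⟶ I)
  · rw [Over.w g, Over.w (1 : T ⟶ I)]

/-- the unit section of a group scheme with a one-point underlying space is surjective. -/
lemma surjective_unit_of_subsingleton {I : Over S} [GrpObj I] [Subsingleton I.left] :
    Surjective (η[I] : 𝟙_ (Over S) ⟶ I).left := by
  constructor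
  intro y
  by_cases hS : Nonempty S
  · obtain ⟨s⟩ := hS
    exact ⟨s, Subsingleton.elim _ _⟩
  · exfalso
    exact hS ⟨I.hom y⟩

variable {I E : Over S} [GrpObj I] (a : AlgGrp.Action I E)

/-- descent of a section of a pseudo-torsor under an "infinitesimal" group along an fpqc morphism
`f : V ⟶ S` with `V ×_S V` reduced. -/
theorem hasSectionOver_id_of_isReduced_pullback [IsSeparated I.hom]
    (hI : Surjective (η[I] : 𝟙_ (Over S) ⟶ I).left) (hE : NonAbH1.IsPseudoTorsorSch a)
    {V : Scheme.{u}} (f : V ⟶ S) [Flat f] [Surjective f] [QuasiCompact f]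
    [IsReduced (pullback f f)] (hx : NonAbH1.HasSectionOver E f) :
    NonAbH1.HasSectionOver E (𝟙 S) := by
  obtain ⟨x, hx⟩ := hx
  -- the two pullbacks of `x` agree
  have key : pullback.fst f f ≫ x = pullback.snd f f ≫ x := by
    let T : Over S := Over.mk (pullback.fst f f ≫ f)
    haveI : IsReduced T.left := inferInstanceAs (IsReduced (pullback f f))
    let x₁ : T ⟶ E := Over.homMk (pullback.fst f f ≫ x) (by simp [T, hx])
    let x₂ : T ⟶ E := Over.homMk (pullback.snd f f ≫ x) (by
      simp only [T, Category.assoc, hx, Over.mk_hom]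
      exact pullback.condition.symm)
    have h1 := PseudoTorsor.diff_act a hE x₁ x₂
    rw [eq_one_of_isReduced hI (lift x₁ x₂ ≫ PseudoTorsor.diff a hE), act_one] at h1
    exact (congrArg (fun φ => φ.left) h1).symm
  have hcond : ∀ {Z : Scheme.{u}} (g₁ g₂ : Z ⟶ V), g₁ ≫ f = g₂ ≫ f → g₁ ≫ x = g₂ ≫ x := by
    intro Z g₁ g₂ h12
    have e1 : g₁ = pullback.lift g₁ g₂ h12 ≫ pullback.fst f f := (pullback.lift_fst _ _ _).symm
    have e2 : g₂ = pullback.lift g₁ g₂ h12 ≫ pullback.snd f f := (pullback.lift_snd _ _ _).symm
    rw [e1, Category.assoc, key, ← Category.assoc, ← e2]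
  refine ⟨EffectiveEpi.desc f x hcond, ?_⟩
  rw [← cancel_epi f, ← Category.assoc, EffectiveEpi.fac, hx, Category.comp_id]

end Groth.Agent.Lib.Helper12.InfTorsor
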