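import Mathlib
import Groth.Prelude.Def_NonAbH2
import Groth.Agent.Lib.Helper12InfTorsor

set_option autoImplicit false
set_option linter.style.haveILetI false
universe u

open CategoryTheory AlgebraicGeometry Limits TensorProduct

namespace Groth.Agent.Lib.Helper12.FieldPoint

/-- a nontrivial finite type algebra over a field `K` which is unramified, or with `K` perfect,
has a quotient field `L` with `L ⊗_K L` reduced. -/
theorem isReduced_tensor_quotient (K A : Type u) [Field K] [CommRing A] [Algebra K A]
    [Algebra.FiniteType K A] (h : PerfectField K ∨ Algebra.FormallyUnramified K A)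
    (m : Ideal A) [m.IsMaximal] : IsReduced ((A ⧸ m) ⊗[K] (A ⧸ m)) := by
  letI : Field (A ⧸ m) := Ideal.Quotient.field m
  haveI : Algebra.FiniteType K (A ⧸ m) :=
    Algebra.FiniteType.of_surjective (IsScalarTower.toAlgHom K A (A ⧸ m))
      Ideal.Quotient.mk_surjective
  haveI : Module.Finite K (A ⧸ m) := finite_of_finite_type_of_isJacobsonRing K (A ⧸ m)
  haveI : Algebra.FormallyUnramified K (A ⧸ m) := by
    rcases h with h | h
    · haveI : Algebra.IsAlgebraic K (A ⧸ m) := Algebra.IsAlgebraic.of_finite K (A ⧸ m)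
      haveI : Algebra.IsSeparable K (A ⧸ m) := Algebra.IsAlgebraic.isSeparable_of_perfectField
      exact Algebra.FormallyUnramified.of_isSeparable K (A ⧸ m)
    · exact Algebra.FormallyUnramified.of_surjective (IsScalarTower.toAlgHom K A (A ⧸ m))
        Ideal.Quotient.mk_surjective
  exact Algebra.FormallyUnramified.isReduced_of_field (A ⧸ m) ((A ⧸ m) ⊗[K] (A ⧸ m))

/-- a nonempty scheme locally of finite type over a field `K` (unramified, or `K` perfect) mapping
to `X` gives a point of `X` with values in a field `L = A ⧸ m` with `L ⊗_K L` reduced. -/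
theorem exists_field_section {K : Type u} [Field K] (X : Over (Spec (CommRingCat.of K)))
    {U : Scheme.{u}} [Nonempty U] (g : U ⟶ Spec (CommRingCat.of K)) [LocallyOfFiniteType g]
    (hg : PerfectField K ∨ FormallyUnramified g) (hs : NonAbH1.HasSectionOver X g) :
    ∃ (A : Type u) (_ : CommRing A) (_ : Algebra K A) (m : Ideal A) (_ : m.IsMaximal),
      IsReduced ((A ⧸ m) ⊗[K] (A ⧸ m)) ∧
        NonAbH1.HasSectionOver X (Spec.map (CommRingCat.ofHom (algebraMap K (A ⧸ m)))) := by
  obtain ⟨s, hs⟩ := hs
  obtain ⟨u⟩ := ‹Nonempty U›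
  obtain ⟨V, hV, huV, -⟩ := exists_isAffineOpen_mem_and_subset (x := u) (U := ⊤) trivial
  obtain ⟨ψ, hψ⟩ : ∃ ψ : CommRingCat.of K ⟶ Γ(U, V), Spec.map ψ = hV.fromSpec ≫ g :=
    ⟨Spec.preimage _, Spec.map_preimage _⟩
  have hft : LocallyOfFiniteType (Spec.map ψ) := by rw [hψ]; infer_instance
  have hft' : ψ.hom.FiniteType := (HasRingHomProperty.Spec_iff (P := @LocallyOfFiniteType)).1 hft
  algebraize [ψ.hom]
  haveI : Nontrivial Γ(U, V) := by
    let p : Spec Γ(U, V) := hV.isoSpec.hom ⟨u, huV⟩
    refine nontrivial_of_ne (0 : Γ(U, V)) 1 fun h01 => ?_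
    have : (1 : Γ(U, V)) ∈ p.asIdeal := h01 ▸ p.asIdeal.zero_mem
    exact p.isPrime.ne_top ((Ideal.eq_top_iff_one _).2 this)
  obtain ⟨m, hm⟩ := Ideal.exists_maximal Γ(U, V)
  have hg' : PerfectField K ∨ Algebra.FormallyUnramified K Γ(U, V) := by
    rcases hg with hg | hg
    · exact Or.inl hg
    · right
      have h1 : FormallyUnramified (Spec.map ψ) := by
        rw [hψ]
        haveI : FormallyUnramified hV.fromSpec := inferInstance
        exact MorphismProperty.comp_mem _ _ _ inferInstance hg
      have h2 : ψ.hom.FormallyUnramified :=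
        (HasRingHomProperty.Spec_iff (P := @FormallyUnramified)).1 h1
      exact h2
  refine ⟨Γ(U, V), inferInstance, inferInstance, m, hm, isReduced_tensor_quotient K _ hg' m, ?_⟩
  refine ⟨Spec.map (CommRingCat.ofHom (Ideal.Quotient.mk m)) ≫ hV.fromSpec ≫ s, ?_⟩
  rw [Category.assoc, Category.assoc, hs, ← hψ, ← Spec.map_comp]
  rfl

/-- a finite connected scheme over a field is a one-point space. -/
theorem subsingleton_of_isFinite_of_connectedSpace {K : Type u} [Field K]
    (G : Over (Spec (CommRingCat.of K))) [IsFinite G.hom] [ConnectedSpace G.left] :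
    Subsingleton G.left := by
  haveI : IsAffine G.left := isAffine_of_isAffineHom G.hom
  have hfin : G.hom.appTop.hom.Finite := Scheme.Hom.finite_appTop G.hom
  have hfin' : ((Scheme.ΓSpecIso (CommRingCat.of K)).inv ≫ G.hom.appTop).hom.Finite := by
    rw [CommRingCat.hom_comp]
    refine RingHom.Finite.comp hfin (RingHom.Finite.of_surjective _ ?_)
    exact (ConcreteCategory.bijective_of_isIso (Scheme.ΓSpecIso (CommRingCat.of K)).inv).2
  algebraize [((Scheme.ΓSpecIso (CommRingCat.of K)).inv ≫ G.hom.appTop).hom]
  haveI : IsArtinianRing Γ(G.left, ⊤) := IsArtinianRing.of_finite K Γ(G.left, ⊤)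
  haveI : DiscreteTopology (Spec Γ(G.left, ⊤)) :=
    inferInstanceAs (DiscreteTopology (PrimeSpectrum Γ(G.left, ⊤)))
  let e := Scheme.homeoOfIso G.left.isoSpec
  haveI : DiscreteTopology G.left := e.isEmbedding.discreteTopology
  constructor
  intro x y
  exact PreconnectedSpace.constant (inferInstance : PreconnectedSpace G.left) continuous_id

/-- the morphism `Spec L ⟶ Spec k` of a field extension is an fpqc cover. -/
lemma field_ext_props (k : Type u) [Field k] (L : Type u) [Field L] [Algebra k L] :
    Flat (Spec.map (CommRingCat.ofHom (algebraMap k L))) ∧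
    Surjective (Spec.map (CommRingCat.ofHom (algebraMap k L))) ∧
    QuasiCompact (Spec.map (CommRingCat.ofHom (algebraMap k L))) := by
  refine ⟨?_, ?_, inferInstance⟩
  · rw [HasRingHomProperty.Spec_iff (P := @Flat)]
    rw [CommRingCat.hom_ofHom, RingHom.flat_algebraMap_iff]
    infer_instance
  · constructor
    intro y
    haveI : Nonempty (Spec (CommRingCat.of L)) :=
      inferInstanceAs (Nonempty (PrimeSpectrum L))
    obtain ⟨x⟩ := ‹Nonempty (Spec (CommRingCat.of L))›
    haveI : Subsingleton (Spec (CommRingCat.of k)) :=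
      inferInstanceAs (Subsingleton (PrimeSpectrum k))
    exact ⟨x, Subsingleton.elim _ _⟩

/-- a pseudo-torsor under an infinitesimal group over a field `k` which has a point with values in
an extension `L` with `L ⊗_k L` reduced has a `k`-point. -/
theorem hasSectionOver_id_of_field_ext (k : Type u) [Field k] (L : Type u) [Field L] [Algebra k L]
    [IsReduced (L ⊗[k] L)]
    (I E : Over (Spec (CommRingCat.of k))) [GrpObj I] [IsFinite I.hom] [Subsingleton ↥(I.left)]
    (a : AlgGrp.Action I E) (hE : NonAbH1.IsPseudoTorsorSch a)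
    (hL : NonAbH1.HasSectionOver E (Spec.map (CommRingCat.ofHom (algebraMap k L)))) :
    NonAbH1.HasSectionOver E (𝟙 (Spec (CommRingCat.of k))) := by
  obtain ⟨h1, h2, h3⟩ := field_ext_props k L
  haveI : IsReduced (Limits.pullback (Spec.map (CommRingCat.ofHom (algebraMap k L)))
      (Spec.map (CommRingCat.ofHom (algebraMap k L)))) := by
    haveI : IsReduced (Spec (CommRingCat.of (L ⊗[k] L))) := inferInstance
    exact isReduced_of_isOpenImmersion (pullbackSpecIso k L L).hom
  exact Groth.Agent.Lib.Helper12.InfTorsor.hasSectionOver_id_of_isReduced_pullback a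
    Groth.Agent.Lib.Helper12.InfTorsor.surjective_unit_of_subsingleton hE _ hL

/-- a pseudo-torsor under a finite connected group over a field `K` which has a section over a
nonempty scheme locally of finite type over `K`, unramified or with `K` perfect, has a
`K`-point. -/
theorem hasSectionOver_id_of_lft {K : Type u} [Field K]
    (G X : Over (Spec (CommRingCat.of K))) [GrpObj G] [IsFinite G.hom] [ConnectedSpace G.left]
    (a : AlgGrp.Action G X) (h : NonAbH1.IsPseudoTorsorSch a)
    {U : Scheme.{u}} [Nonempty U] (g : U ⟶ Spec (CommRingCat.of K)) [LocallyOfFiniteType g]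
    (hg : PerfectField K ∨ FormallyUnramified g) (hs : NonAbH1.HasSectionOver X g) :
    NonAbH1.HasSectionOver X (𝟙 (Spec (CommRingCat.of K))) := by
  haveI := subsingleton_of_isFinite_of_connectedSpace G
  obtain ⟨A, _, _, m, hm, hred, hsecL⟩ := exists_field_section X g hg hs
  letI : Field (A ⧸ m) := Ideal.Quotient.field m
  exact hasSectionOver_id_of_field_ext K (A ⧸ m) G X a h hsecL

end Groth.Agent.Lib.Helper12.FieldPoint
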