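import Mathlib
import Groth.Agent.Lib.Helper12Descent

set_option autoImplicit false
universe u
open CategoryTheory CategoryTheory.Limits AlgebraicGeometry Opposite MorphismProperty

namespace Groth.Agent.Lib.Helper12.FinCoverSep

/-- separation properties descend along a finite flat surjective cover of the source. -/
theorem sep_of_finite_flat_surjective {U M B : Scheme.{u}} (m : U ⟶ M) (b : M ⟶ B)
    [Surjective m] [Flat m] [IsFinite m] :
    (QuasiSeparated (m ≫ b) → QuasiSeparated b) ∧ (IsSeparated (m ≫ b) → IsSeparated b) := by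
  have sq := (pullback_map_diagonal_isPullback m m b).flip
  have hmm : (@Surjective ⊓ @Flat ⊓ @QuasiCompact : MorphismProperty Scheme.{u})
      (pullback.map (m ≫ b) (m ≫ b) b b m m (𝟙 _) (Category.comp_id _) (Category.comp_id _)) := by
    have hm : (@Surjective ⊓ @Flat ⊓ @QuasiCompact : MorphismProperty Scheme.{u}) m :=
      ⟨⟨inferInstance, inferInstance⟩, inferInstance⟩
    exact MorphismProperty.pullbackMap hm hm rfl rfl
  have hj1 : pullback.map m m (m ≫ b) (m ≫ b) (𝟙 _) (𝟙 _) b (Category.id_comp _).symm
      (Category.id_comp _).symm ≫ pullback.fst (m ≫ b) (m ≫ b) = pullback.fst m m := by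
    rw [pullback.lift_fst, Category.comp_id]
  constructor
  · intro h
    haveI : QuasiCompact (pullback.map m m (m ≫ b) (m ≫ b) (𝟙 _) (𝟙 _) b
        (Category.id_comp _).symm (Category.id_comp _).symm ≫ pullback.fst (m ≫ b) (m ≫ b)) := by
      rw [hj1]; infer_instance
    have hj : QuasiCompact (pullback.map m m (m ≫ b) (m ≫ b) (𝟙 _) (𝟙 _) b
        (Category.id_comp _).symm (Category.id_comp _).symm) :=
      QuasiCompact.of_comp _ (pullback.fst (m ≫ b) (m ≫ b))
    haveI := Groth.Agent.Lib.Helper12.descendsAlong_quasiCompact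
    have : QuasiCompact (pullback.diagonal b) :=
      MorphismProperty.of_isPullback_of_descendsAlong (P := @QuasiCompact)
        (Q := (@Surjective ⊓ @Flat ⊓ @QuasiCompact : MorphismProperty Scheme.{u})) sq hmm hj
    exact ⟨this⟩
  · intro h
    haveI : IsFinite (pullback.map m m (m ≫ b) (m ≫ b) (𝟙 _) (𝟙 _) b
        (Category.id_comp _).symm (Category.id_comp _).symm ≫ pullback.fst (m ≫ b) (m ≫ b)) := by
      rw [hj1]; infer_instance
    have hjf : IsFinite (pullback.map m m (m ≫ b) (m ≫ b) (𝟙 _) (𝟙 _) b
        (Category.id_comp _).symm (Category.id_comp _).symm) :=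
      MorphismProperty.of_postcomp (W := @IsFinite) (W' := @IsSeparated) _
        (pullback.fst (m ≫ b) (m ≫ b)) inferInstance inferInstance
    haveI : Mono (pullback.map m m (m ≫ b) (m ≫ b) (𝟙 _) (𝟙 _) b
        (Category.id_comp _).symm (Category.id_comp _).symm) := by
      have := sq.flip
      exact PullbackCone.mono_snd_of_is_pullback_of_mono this.isLimit
    have hj : IsClosedImmersion (pullback.map m m (m ≫ b) (m ≫ b) (𝟙 _) (𝟙 _) b
        (Category.id_comp _).symm (Category.id_comp _).symm) :=
      (IsClosedImmersion.iff_isFinite_and_mono _).2 ⟨hjf, inferInstance⟩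
    haveI := Groth.Agent.Lib.Helper12.descendsAlong_isClosedImmersion
    have : IsClosedImmersion (pullback.diagonal b) :=
      MorphismProperty.of_isPullback_of_descendsAlong (P := @IsClosedImmersion)
        (Q := (@Surjective ⊓ @Flat ⊓ @QuasiCompact : MorphismProperty Scheme.{u})) sq hmm hj
    exact ⟨this⟩

end Groth.Agent.Lib.Helper12.FinCoverSep
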