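import Groth.Agent.Lib.Helper12QuasiAffineDescent
import Groth.Agent.Lib.Helper12PullbackPts
import Groth.Agent.Lib.Helper12FpqcCover
import Mathlib

/-!
Helper library (helper12): descent along flat surjective morphisms which are NOT assumed
quasi-compact, for quasi-compact morphisms `f` (homeomorphisms, isomorphisms).
-/

set_option autoImplicit false
universe u
open CategoryTheory Limits AlgebraicGeometry TopologicalSpace TensorProduct

namespace Groth.Agent.Lib.Helper12


/-- Lemma Z: for a flat `A`-algebra `A'` and an element `x` of an `A`-module `M` with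
`x ⊗ 1 = 0`, the annihilator of `x` generates the unit ideal in `A'`. -/
lemma map_annihilator_eq_top_of_tmul_eq_zero {A A' M : Type u} [CommRing A] [CommRing A']
    [Algebra A A'] [Module.Flat A A'] [AddCommGroup M] [Module A M] (x : M)
    (h : x ⊗ₜ[A] (1 : A') = 0) :
    Ideal.map (algebraMap A A') (LinearMap.ker (LinearMap.toSpanSingleton A M x)) = ⊤ := by
  set I : Ideal A := LinearMap.ker (LinearMap.toSpanSingleton A M x) with hI
  let j : (A ⧸ I) →ₗ[A] M := Submodule.liftQ I (LinearMap.toSpanSingleton A M x) le_rfl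
  have hj : Function.Injective j := by
    rw [← LinearMap.ker_eq_bot]
    exact Submodule.ker_liftQ_eq_bot _ _ _ le_rfl
  have hj' := Module.Flat.rTensor_preserves_injective_linearMap (M := A') j hj
  have h0 : (Submodule.Quotient.mk (1 : A) : A ⧸ I) ⊗ₜ[A] (1 : A') = 0 := by
    apply hj'
    rw [map_zero, LinearMap.rTensor_tmul]
    have : j (Submodule.Quotient.mk (1 : A)) = x := by
      change (Submodule.liftQ I (LinearMap.toSpanSingleton A M x) le_rfl)
        (Submodule.Quotient.mk (1 : A)) = x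
      rw [Submodule.liftQ_apply]
      simp
    rw [this, h]
  have h1 := congrArg (TensorProduct.quotTensorEquivQuotSMul A' I) h0
  rw [map_zero] at h1
  have h2 : (TensorProduct.quotTensorEquivQuotSMul A' I)
      ((Submodule.Quotient.mk (1 : A) : A ⧸ I) ⊗ₜ[A] (1 : A')) =
      Submodule.Quotient.mk (1 : A') := by
    have := TensorProduct.quotTensorEquivQuotSMul_mk_tmul (M := A') I (1 : A) (1 : A')
    simp
  rw [h2, Submodule.Quotient.mk_eq_zero, Ideal.smul_top_eq_map] at h1
  rw [Ideal.eq_top_iff_one]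
  exact h1


/-- if `x ⊗ 1 = 0` for flat algebras `A'` hitting every maximal ideal, then `x = 0`. -/
lemma eq_zero_of_forall_tmul_eq_zero {A M : Type u} [CommRing A] [AddCommGroup M] [Module A M]
    (x : M)
    (H : ∀ m : Ideal A, m.IsMaximal → ∃ (A' : Type u) (_ : CommRing A') (_ : Algebra A A')
      (_ : Module.Flat A A') (q : Ideal A'), q.IsPrime ∧ m ≤ q.comap (algebraMap A A') ∧
      x ⊗ₜ[A] (1 : A') = 0) : x = 0 := by
  by_contra hx
  set I : Ideal A := LinearMap.ker (LinearMap.toSpanSingleton A M x) with hI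
  have hI1 : I ≠ ⊤ := by
    intro h
    have : (1 : A) ∈ I := by rw [h]; trivial
    rw [hI, LinearMap.mem_ker, LinearMap.toSpanSingleton_apply, one_smul] at this
    exact hx this
  obtain ⟨m, hm, hIm⟩ := Ideal.exists_le_maximal I hI1
  obtain ⟨A', _, _, _, q, hq, hmq, h0⟩ := H m hm
  have h1 := map_annihilator_eq_top_of_tmul_eq_zero (A' := A') x h0
  have h2 : Ideal.map (algebraMap A A') I ≤ q :=
    Ideal.map_le_iff_le_comap.mpr (hIm.trans hmq)
  rw [h1, top_le_iff] at h2
  exact hq.ne_top h2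

/-- Lemma Alg: a ring map which becomes an isomorphism after flat base changes covering the
spectrum is an isomorphism. -/
lemma isIso_of_forall_isPushout {A B : CommRingCat.{u}} (φ : A ⟶ B)
    (H : ∀ p : PrimeSpectrum A, ∃ (A' P : CommRingCat.{u}) (ψ : A ⟶ A') (b : B ⟶ P) (a : A' ⟶ P),
      IsPushout φ ψ b a ∧ ψ.hom.Flat ∧ p ∈ Set.range (PrimeSpectrum.comap ψ.hom) ∧ IsIso a) :
    IsIso φ := by
  algebraize [φ.hom]
  -- reformulate the hypothesis
  have H' : ∀ m : Ideal A, m.IsMaximal → ∃ (A' : Type u) (_ : CommRing A') (_ : Algebra A A')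
      (_ : Module.Flat A A') (q : Ideal A'), q.IsPrime ∧ m ≤ q.comap (algebraMap A A') ∧
      (∀ a₀ : A, φ a₀ = 0 → algebraMap A A' a₀ = 0) ∧
      (∀ b₀ : B, ∃ a' : A', b₀ ⊗ₜ[A] (1 : A') = (1 : B) ⊗ₜ[A] a') := by
    intro m hm
    obtain ⟨A', P, ψ, b, a, hpo, hflat, ⟨q, hq⟩, hiso⟩ := H ⟨m, hm.isPrime⟩
    algebraize [ψ.hom]
    have hbij : Function.Bijective a := (ConcreteCategory.isIso_iff_bijective a).mp hiso
    refine ⟨A', inferInstance, inferInstance, hflat, q.asIdeal, q.isPrime, ?_, ?_, ?_⟩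
    · have := congrArg PrimeSpectrum.asIdeal hq
      simp only [PrimeSpectrum.comap_asIdeal] at this
      exact this.ge
    · intro a₀ ha₀
      apply hbij.1
      have := congrArg (fun (θ : A ⟶ P) => θ a₀) hpo.w
      simp only [CommRingCat.comp_apply] at this
      rw [map_zero]
      change a (ψ a₀) = 0
      rw [← this, ha₀, map_zero]
    · intro b₀
      obtain ⟨a', ha'⟩ := hbij.2 (b b₀)
      refine ⟨a', ?_⟩
      let e := ((CommRingCat.isPushout_tensorProduct A B A').isoIsPushout B A' hpo)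
      have he1 : (CommRingCat.ofHom (Algebra.TensorProduct.includeLeftRingHom :
          B →+* B ⊗[A] A')) ≫ e.hom = b := IsPushout.inl_isoIsPushout_hom _ _ _ _
      have he2 : (CommRingCat.ofHom (Algebra.TensorProduct.includeRight.toRingHom :
          A' →+* B ⊗[A] A')) ≫ e.hom = a := IsPushout.inr_isoIsPushout_hom _ _ _ _
      have hinj : Function.Injective e.hom :=
        ((ConcreteCategory.isIso_iff_bijective e.hom).mp inferInstance).1
      apply hinj
      have h1 := congrArg (fun (θ : B ⟶ P) => θ b₀) he1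
      have h2 := congrArg (fun (θ : A' ⟶ P) => θ a') he2
      simp only [CommRingCat.comp_apply] at h1 h2
      change e.hom (b₀ ⊗ₜ[A] (1 : A')) = e.hom ((1 : B) ⊗ₜ[A] a')
      erw [h1, h2, ha']
  rw [ConcreteCategory.isIso_iff_bijective]
  constructor
  · rw [injective_iff_map_eq_zero]
    intro a₀ ha₀
    refine eq_zero_of_forall_tmul_eq_zero (A := A) (M := A) a₀ ?_
    intro m hm
    obtain ⟨A', i1, i2, i3, q, hq, hmq, h1, -⟩ := H' m hm
    refine ⟨A', i1, i2, i3, q, hq, hmq, ?_⟩
    have : a₀ ⊗ₜ[A] (1 : A') = (1 : A) ⊗ₜ[A] (algebraMap A A' a₀) := by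
      rw [Algebra.algebraMap_eq_smul_one, ← TensorProduct.smul_tmul, smul_eq_mul, mul_one]
    rw [this, h1 a₀ ha₀, TensorProduct.tmul_zero]
  · intro b₀
    let N : Submodule A B := LinearMap.range (Algebra.linearMap A B)
    have hx : (Submodule.Quotient.mk b₀ : B ⧸ N) = 0 := by
      refine eq_zero_of_forall_tmul_eq_zero (A := A) _ ?_
      intro m hm
      obtain ⟨A', i1, i2, i3, q, hq, hmq, -, h2⟩ := H' m hm
      refine ⟨A', i1, i2, i3, q, hq, hmq, ?_⟩
      obtain ⟨a', ha'⟩ := h2 b₀
      have h3 := congrArg (N.mkQ.rTensor A') ha'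
      simp only [LinearMap.rTensor_tmul, Submodule.mkQ_apply] at h3
      rw [h3]
      have : (Submodule.Quotient.mk (1 : B) : B ⧸ N) = 0 := by
        rw [Submodule.Quotient.mk_eq_zero]
        exact ⟨1, by simp⟩
      rw [this, TensorProduct.zero_tmul]
    rw [Submodule.Quotient.mk_eq_zero] at hx
    obtain ⟨a₀, ha₀⟩ := hx
    exact ⟨a₀, ha₀⟩



/-- A quasi-compact scheme with a topologically inducing morphism to an affine scheme is
quasi-affine. -/
lemma isQuasiAffine_of_isInducing {X V : Scheme.{u}} [CompactSpace X] [IsAffine V] (f : X ⟶ V)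
    (hf : Topology.IsInducing f.base) : X.IsQuasiAffine := by
  refine Scheme.IsQuasiAffine.of_forall_exists_mem_basicOpen X fun x => ?_
  obtain ⟨_, ⟨U, hU, rfl⟩, hxU, -⟩ :=
    X.isBasis_affineOpens.exists_subset_of_mem_open (Set.mem_univ x) isOpen_univ
  obtain ⟨O, hO, hOU⟩ := hf.isOpen_iff.mp U.2
  have hxO : f x ∈ O := by
    have : x ∈ f.base ⁻¹' O := by rw [hOU]; exact hxU
    exact this
  obtain ⟨_, ⟨_, ⟨s, rfl⟩, rfl⟩, hxs, hsO⟩ :=
    (isBasis_basicOpen V).exists_subset_of_mem_open hxO hO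
  refine ⟨f.appTop s, ?_, ?_⟩
  · have hle : X.basicOpen (f.appTop s) ≤ U := by
      rw [← Scheme.preimage_basicOpen_top]
      intro z hz
      have : z ∈ f.base ⁻¹' O := hsO hz
      rw [hOU] at this
      exact this
    have h1 : X.basicOpen (X.presheaf.map (homOfLE (le_top : U ≤ ⊤)).op (f.appTop s)) =
        X.basicOpen (f.appTop s) := by
      rw [Scheme.basicOpen_res, inf_eq_right.mpr hle]
    rw [← h1]
    exact IsAffineOpen.basicOpen hU _
  · rw [← Scheme.preimage_basicOpen_top]
    exact hxs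


/-- homeomorphisms descend along flat surjective base change, for quasi-compact `f`. -/
theorem isHomeomorph_of_isHomeomorph_pullback_snd {X Y Y' : Scheme.{u}} (f : X ⟶ Y) (g : Y' ⟶ Y)
    [Flat g] [Surjective g] [QuasiCompact f] (h : IsHomeomorph (pullback.snd f g).base) :
    IsHomeomorph f.base := by
  have hpb := IsPullback.of_hasPullback f g
  have hex := fun x y hxy => exists_preimage_of_isPullback hpb x y hxy
  rw [isHomeomorph_iff_continuous_isClosedMap_bijective] at h ⊢
  obtain ⟨-, hcl, hinj, hsurj⟩ := h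
  refine ⟨f.continuous, ?_, ?_, ?_⟩
  · rw [isClosedMap_iff_specializingMap]
    rw [SpecializingMap]
    intro x y₁ hy
    obtain ⟨y₁', hy₁'⟩ := g.surjective y₁
    have hgen : GeneralizingMap g := Flat.generalizingMap g
    obtain ⟨y', hy'1, hy'2⟩ := hgen (show f x ⤳ g y₁' from hy₁' ▸ hy)
    obtain ⟨x', hx'1, hx'2⟩ := hex x y' hy'2.symm
    have hspec : SpecializingMap (pullback.snd f g) := hcl.specializingMap
    obtain ⟨x₁', hx₁'1, hx₁'2⟩ := hspec (show pullback.snd f g x' ⤳ y₁' from hx'2 ▸ hy'1)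
    refine ⟨pullback.fst f g x₁', ?_, ?_⟩
    · rw [← hx'1]
      exact hx₁'1.map (pullback.fst f g).continuous
    · rw [← Scheme.Hom.comp_apply, pullback.condition, Scheme.Hom.comp_apply, hx₁'2, hy₁']
  · intro x₁ x₂ hx
    obtain ⟨y', hy'⟩ := g.surjective (f x₁)
    obtain ⟨a₁, h11, h12⟩ := hex x₁ y' hy'.symm
    obtain ⟨a₂, h21, h22⟩ := hex x₂ y' (hx ▸ hy'.symm)
    have : a₁ = a₂ := hinj (h12.trans h22.symm)
    rw [← h11, ← h21, this]
  · intro y
    obtain ⟨y', rfl⟩ := g.surjective y
    obtain ⟨a, ha⟩ := hsurj y'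
    refine ⟨pullback.fst f g a, ?_⟩
    rw [← Scheme.Hom.comp_apply, pullback.condition, Scheme.Hom.comp_apply, ha]


set_option backward.isDefEq.respectTransparency.types false in
/-- Core lemma: over an affine base, isomorphisms descend along flat surjective (not necessarily
quasi-compact) morphisms, for quasi-compact `f` which is a homeomorphism. -/
theorem isIso_of_isIso_pullback_snd_of_isAffine {X Y Y' : Scheme.{u}} [IsAffine Y] (f : X ⟶ Y)
    (g : Y' ⟶ Y) [Flat g] [Surjective g] [QuasiCompact f] (hhomeo : IsHomeomorph f.base)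
    (h : IsIso (pullback.snd f g)) : IsIso f := by
  have hcpt : CompactSpace X := QuasiCompact.compactSpace_of_compactSpace f
  have hqs : QuasiSeparatedSpace X := hhomeo.isOpenEmbedding.quasiSeparatedSpace
  have hφ : IsIso f.appTop := by
    apply isIso_of_forall_isPushout
    intro p
    obtain ⟨y, rfl⟩ := (Y.toSpecΓ).homeomorph.surjective p
    obtain ⟨y', rfl⟩ := g.surjective y
    let 𝒱 := Y'.affineCover
    obtain ⟨w, hw⟩ := 𝒱.covers y'
    let u := 𝒱.f (𝒱.idx y') ≫ g
    have hu : Flat u := inferInstance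
    have hiso : IsIso (pullback.snd f u) :=
      pullback_snd_comp_of_isStableUnderBaseChange (P := MorphismProperty.isomorphisms Scheme.{u})
        f g (𝒱.f (𝒱.idx y')) h
    have hpo := isPushout_appTop (IsPullback.of_hasPullback f u)
    have hiso' : IsIso (pullback.snd f u).appTop := by
      change IsIso ((pullback.snd f u).app ⊤)
      infer_instance
    refine ⟨_, _, u.appTop, (pullback.fst f u).appTop, (pullback.snd f u).appTop, hpo, ?_, ?_,
      inferInstance⟩
    · exact (HasRingHomProperty.iff_of_isAffine (P := @Flat)).mp hu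
    · refine ⟨(𝒱.X (𝒱.idx y')).toSpecΓ w, ?_⟩
      have hnat : u ≫ Y.toSpecΓ = (𝒱.X (𝒱.idx y')).toSpecΓ ≫ Spec.map u.appTop :=
        Scheme.toSpecΓ_naturality u
      have := congrArg (fun θ : 𝒱.X (𝒱.idx y') ⟶ Spec Γ(Y, ⊤) => θ w) hnat
      simp only [Scheme.Hom.comp_apply] at this
      change (Spec.map u.appTop) ((𝒱.X (𝒱.idx y')).toSpecΓ w) = _
      rw [← this]
      change Y.toSpecΓ (g (𝒱.f (𝒱.idx y') w)) = _
      rw [hw]
      rfl
  have hnat : f ≫ Y.toSpecΓ = X.toSpecΓ ≫ Spec.map f.appTop := Scheme.toSpecΓ_naturality f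
  have hiso2 : IsIso (Spec.map f.appTop) := inferInstance
  let θ : Y ⟶ Spec Γ(X, ⊤) := Y.toSpecΓ ≫ inv (Spec.map f.appTop)
  have hθ : IsIso θ := inferInstance
  have hτ : X.toSpecΓ = f ≫ θ := by
    simp only [θ]
    rw [← Category.assoc, hnat, Category.assoc, IsIso.hom_inv_id, Category.comp_id]
  have hcoe : ⇑X.toSpecΓ.base = ⇑θ.homeomorph ∘ ⇑f.base := by
    rw [hτ]; rfl
  have hind : Topology.IsInducing X.toSpecΓ.base := by
    rw [hcoe]
    exact θ.homeomorph.isInducing.comp hhomeo.isInducing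
  have hsurj : Surjective X.toSpecΓ := by
    constructor
    change Function.Surjective X.toSpecΓ.base
    rw [hcoe]
    exact θ.homeomorph.surjective.comp hhomeo.surjective
  have hqa := isQuasiAffine_of_isInducing X.toSpecΓ hind
  have hiso3 : IsIso X.toSpecΓ :=
    (isIso_iff_isOpenImmersion_and_surjective _).mpr ⟨inferInstance, hsurj⟩
  have : f = X.toSpecΓ ≫ Spec.map f.appTop ≫ inv Y.toSpecΓ := by
    rw [← Category.assoc, ← hnat, Category.assoc, IsIso.hom_inv_id, Category.comp_id]
  rw [this]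
  infer_instance


set_option backward.isDefEq.respectTransparency.types false in
/-- Isomorphisms descend along flat surjective (not necessarily quasi-compact) morphisms, for
quasi-compact `f`. -/
theorem isIso_of_isIso_pullback_snd {X Y Y' : Scheme.{u}} (f : X ⟶ Y) (g : Y' ⟶ Y) [Flat g]
    [Surjective g] [QuasiCompact f] (h : IsIso (pullback.snd f g)) : IsIso f := by
  change MorphismProperty.isomorphisms Scheme.{u} f
  rw [IsZariskiLocalAtTarget.iff_of_openCover (P := MorphismProperty.isomorphisms Scheme.{u})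
    Y.affineCover]
  intro i
  change IsIso (pullback.snd f (Y.affineCover.f i))
  have hiso : IsIso (pullback.snd (pullback.snd f (Y.affineCover.f i))
      (pullback.snd g (Y.affineCover.f i))) := by
    apply pullback_snd_pullback_snd (P := MorphismProperty.isomorphisms Scheme.{u})
    have e : pullback.snd g (Y.affineCover.f i) ≫ Y.affineCover.f i =
        pullback.fst g (Y.affineCover.f i) ≫ g := pullback.condition.symm
    apply pullback_snd_congr (P := MorphismProperty.isomorphisms Scheme.{u}) _ e.symm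
    exact pullback_snd_comp_of_isStableUnderBaseChange
      (P := MorphismProperty.isomorphisms Scheme.{u}) f g _ h
  have hhomeo : IsHomeomorph (pullback.snd f (Y.affineCover.f i)).base :=
    isHomeomorph_of_isHomeomorph_pullback_snd _ (pullback.snd g (Y.affineCover.f i))
      (Scheme.Hom.homeomorph (pullback.snd (pullback.snd f (Y.affineCover.f i))
      (pullback.snd g (Y.affineCover.f i)))).isHomeomorph
  exact isIso_of_isIso_pullback_snd_of_isAffine _ (pullback.snd g (Y.affineCover.f i)) hhomeo hiso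

/-- general form of `isOpenImmersion_pullback_snd_toSpecΓ`. -/
lemma pullback_snd_toSpecΓ_of_flat {P : MorphismProperty Scheme.{u}} [P.RespectsIso]
    [P.IsStableUnderBaseChange] {Y Z W Y' T : Scheme.{u}} [IsAffine Z] [IsAffine W]
    [CompactSpace Y] [QuasiSeparatedSpace Y] {g : Y ⟶ Z} {u : W ⟶ Z} [Flat u]
    {g' : Y' ⟶ Y} {iY' : Y' ⟶ W} (H : IsPullback g' iY' g u) (hP : P Y'.toSpecΓ)
    (a : T ⟶ W) (b : T ⟶ Spec Γ(Y, ⊤)) (hab : a ≫ u ≫ Z.toSpecΓ = b ≫ Spec.map g.appTop) :
    P (pullback.snd Y.toSpecΓ b) := by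
  have bottom := isPullback_Spec_appTop H
  have top := isPullback_toSpecΓ_of_flat H
  have hw : b ≫ Spec.map g.appTop = (a ≫ W.toSpecΓ) ≫ Spec.map u.appTop := by
    rw [Category.assoc, ← Scheme.toSpecΓ_naturality, hab]
  let e : T ⟶ Spec Γ(Y', ⊤) := bottom.lift b (a ≫ W.toSpecΓ) hw
  have he : e ≫ Spec.map g'.appTop = b := bottom.lift_fst _ _ _
  have h1 : P (pullback.snd Y.toSpecΓ (Spec.map g'.appTop)) := by
    have : pullback.snd Y.toSpecΓ (Spec.map g'.appTop) =
        (top.isoPullback).inv ≫ Y'.toSpecΓ := by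
      rw [Iso.eq_inv_comp]; exact top.isoPullback_hom_snd
    rw [this, P.cancel_left_of_respectsIso]
    exact hP
  rw [← he]
  exact pullback_snd_comp_of_isStableUnderBaseChange (P := P) _ _ _ h1

set_option backward.isDefEq.respectTransparency.types false in
/-- Over an affine base, affineness descends along flat surjective (not nec. quasi-compact)
morphisms for quasi-compact quasi-separated `f`. -/
theorem isAffine_of_isAffineHom_pullback_snd {X Y Y' : Scheme.{u}} [IsAffine Y] (f : X ⟶ Y)
    (g : Y' ⟶ Y) [Flat g] [Surjective g] [QuasiCompact f] [QuasiSeparated f]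
    (h : IsAffineHom (pullback.snd f g)) : IsAffine X := by
  have hcpt : CompactSpace X := QuasiCompact.compactSpace_of_compactSpace f
  have hqs : QuasiSeparatedSpace X := quasiSeparatedSpace_of_quasiSeparated f
  let c : Spec Γ(X, ⊤) ⟶ Y := Spec.map f.appTop ≫ inv Y.toSpecΓ
  have hc : c ≫ Y.toSpecΓ = Spec.map f.appTop := by simp [c]
  let p := pullback.fst g c
  let q := pullback.snd g c
  have hpq : p ≫ g = q ≫ c := pullback.condition
  have hqf : Flat q := inferInstanceAs (Flat (pullback.snd g c))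
  have hqs' : Surjective q := inferInstanceAs (Surjective (pullback.snd g c))
  have hτqc : QuasiCompact X.toSpecΓ := inferInstance
  suffices IsIso X.toSpecΓ from ⟨this⟩
  refine isIso_of_isIso_pullback_snd X.toSpecΓ q ?_
  change MorphismProperty.isomorphisms Scheme.{u} (pullback.snd X.toSpecΓ q)
  let 𝒱 := Y'.affineCover
  rw [IsZariskiLocalAtTarget.iff_of_openCover (P := MorphismProperty.isomorphisms Scheme.{u})
    (𝒱.pullback₁ p)]
  intro i
  obtain ⟨j, rfl⟩ : ∃ j : 𝒱.I₀, j = i := ⟨i, rfl⟩
  change MorphismProperty.isomorphisms Scheme.{u}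
    (pullback.snd (pullback.snd X.toSpecΓ q) (pullback.fst p (𝒱.f j)))
  apply pullback_snd_pullback_snd
  have hu : Flat (𝒱.f j ≫ g) := inferInstance
  have haff : IsAffineHom (pullback.snd f (𝒱.f j ≫ g)) :=
    pullback_snd_comp_of_isStableUnderBaseChange (P := @IsAffineHom) f g (𝒱.f j) h
  have hPaff : IsAffine (pullback f (𝒱.f j ≫ g)) :=
    isAffine_of_isAffineHom (pullback.snd f (𝒱.f j ≫ g))
  refine pullback_snd_toSpecΓ_of_flat (P := MorphismProperty.isomorphisms Scheme.{u})
    (W := 𝒱.X j) (u := 𝒱.f j ≫ g) (IsPullback.of_hasPullback f (𝒱.f j ≫ g))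
    (inferInstanceAs (IsIso (pullback f (𝒱.f j ≫ g)).toSpecΓ))
    (pullback.snd p (𝒱.f j)) _ ?_
  have h1 : pullback.snd p (𝒱.f j) ≫ 𝒱.f j = pullback.fst p (𝒱.f j) ≫ p :=
    pullback.condition.symm
  rw [← hc]
  simp only [Category.assoc]
  rw [reassoc_of% h1, reassoc_of% hpq]


end Groth.Agent.Lib.Helper12
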