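import Mathlib
import Groth.Agent.Lib.Helper11RigidAntiC

set_option autoImplicit false
universe u

namespace Groth.Agent.Lib.Helper12.FormalUniq

open CategoryTheory AlgebraicGeometry Limits
open Groth.Agent.Lib.Helper11RigidAntiC

/-- every point of a locally noetherian scheme has, inside any given open neighbourhood, an affine
open neighbourhood whose sections inject into the stalk -/
lemma exists_affine_nhd_germ_injective_le (Y : Scheme.{u}) [IsLocallyNoetherian Y] (y : Y)
    (W : Y.Opens) (hyW : y ∈ W) :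
    ∃ (N : Y.Opens) (hy : y ∈ N), N ≤ W ∧ IsAffineOpen N ∧
      Function.Injective (Y.presheaf.germ N y hy) := by
  obtain ⟨_, ⟨N₀, hN₀, rfl⟩, hy₀, hN₀W⟩ :=
    Y.isBasis_affineOpens.exists_subset_of_mem_open hyW W.isOpen
  have hnoeth : IsNoetherianRing Γ(Y, N₀) := IsLocallyNoetherian.component_noetherian ⟨N₀, hN₀⟩
  let alg := Y.presheaf.algebra_section_stalk ⟨y, hy₀⟩
  have hloc := hN₀.isLocalization_stalk ⟨y, hy₀⟩
  obtain ⟨s, hs, hker⟩ := Groth.Agent.Lib.Helper11RigidAntiAlg.exists_kills_ker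
    (B := Γ(Y, N₀)) (O := Y.presheaf.stalk y) (hN₀.primeIdealOf ⟨y, hy₀⟩).asIdeal.primeCompl
  have hunit : IsUnit (Y.presheaf.germ N₀ y hy₀ s) :=
    IsLocalization.map_units (Y.presheaf.stalk y) ⟨s, hs⟩
  have hyN : y ∈ Y.basicOpen s := (Y.mem_basicOpen s y hy₀).mpr hunit
  refine ⟨Y.basicOpen s, hyN, (Y.basicOpen_le s).trans hN₀W, hN₀.basicOpen s, ?_⟩
  have hlocs := hN₀.isLocalization_basicOpen s
  rw [injective_iff_map_eq_zero]
  intro c hc
  obtain ⟨⟨b, m⟩, hbm⟩ := IsLocalization.surj (Submonoid.powers s) c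
  have hm_unit : IsUnit (algebraMap Γ(Y, N₀) Γ(Y, Y.basicOpen s) (m : Γ(Y, N₀))) :=
    IsLocalization.map_units Γ(Y, Y.basicOpen s) m
  have hs_unit : IsUnit (algebraMap Γ(Y, N₀) Γ(Y, Y.basicOpen s) s) :=
    IsLocalization.map_units Γ(Y, Y.basicOpen s) (⟨s, Submonoid.mem_powers s⟩ : Submonoid.powers s)
  have hres : ∀ b : Γ(Y, N₀), Y.presheaf.germ (Y.basicOpen s) y hyN
      (algebraMap Γ(Y, N₀) Γ(Y, Y.basicOpen s) b) = Y.presheaf.germ N₀ y hy₀ b := by
    intro b
    exact TopCat.Presheaf.germ_res_apply Y.presheaf (homOfLE (Y.basicOpen_le s)) y hyN b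
  have h2 : Y.presheaf.germ N₀ y hy₀ b = 0 := by
    rw [← hres, ← hbm, map_mul, hc, zero_mul]
  have h3 : s * b = 0 := hker b h2
  have h6 : algebraMap Γ(Y, N₀) Γ(Y, Y.basicOpen s) b = 0 := by
    have h4 : algebraMap Γ(Y, N₀) Γ(Y, Y.basicOpen s) s *
        algebraMap Γ(Y, N₀) Γ(Y, Y.basicOpen s) b = 0 := by
      rw [← map_mul, h3, map_zero]
    exact (hs_unit.mul_right_eq_zero).mp h4
  rw [h6] at hbm
  exact (hm_unit.mul_left_eq_zero).mp hbm

/-- Formal local rigidity: two morphisms out of a locally noetherian scheme which agree on all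
infinitesimal neighbourhoods of a point agree on an open neighbourhood of that point. -/
theorem local_eq (X Y : Scheme.{u}) [IsLocallyNoetherian X] (φ ψ : X ⟶ Y) (x : X)
    (h : ∀ n, thickι X x n ≫ φ = thickι X x n ≫ ψ) :
    ∃ U : X.Opens, x ∈ U ∧ U.ι ≫ φ = U.ι ≫ ψ := by
  -- the two morphisms agree at the point
  have hpt : φ.base x = ψ.base x := by
    have hne : Nonempty (thick X x 1) := by
      have : Nontrivial (X.presheaf.stalk x ⧸ (IsLocalRing.maximalIdeal (X.presheaf.stalk x)) ^ 1) := by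
        rw [pow_one]
        exact Ideal.Quotient.nontrivial_iff.mpr (IsLocalRing.maximalIdeal.isMaximal _).ne_top
      exact inferInstanceAs (Nonempty (PrimeSpectrum _))
    obtain ⟨q⟩ := hne
    have hq := thickι_apply X x 1 q
    have e1 : (thickι X x 1 ≫ φ).base q = φ.base x := by
      rw [Scheme.Hom.comp_base, TopCat.comp_app, hq]
    have e2 : (thickι X x 1 ≫ ψ).base q = ψ.base x := by
      rw [Scheme.Hom.comp_base, TopCat.comp_app, hq]
    rw [← e1, ← e2, h 1]
  have hexV : ∃ V : Y.Opens, IsAffineOpen V ∧ φ.base x ∈ V := by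
    obtain ⟨_, ⟨V, hV, rfl⟩, hxV, -⟩ :=
      Y.isBasis_affineOpens.exists_subset_of_mem_open (Set.mem_univ (φ.base x)) isOpen_univ
    exact ⟨V, hV, hxV⟩
  obtain ⟨V, hV, hxV⟩ := hexV
  let W : X.Opens := φ ⁻¹ᵁ V ⊓ ψ ⁻¹ᵁ V
  have hxW : x ∈ W := ⟨hxV, by change ψ.base x ∈ V; rw [← hpt]; exact hxV⟩
  obtain ⟨N, hxN, hNW, hN, hinj⟩ := exists_affine_nhd_germ_injective_le X x W hxW
  refine ⟨N, hxN, ?_⟩
  rw [← hN.isoSpec_hom_fromSpec, Category.assoc, Category.assoc]
  congr 1
  -- the two morphisms `Spec Γ(X, N) ⟶ Y` factor through `V`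
  have hra : Set.range (hN.fromSpec ≫ φ).base ⊆ Set.range V.ι.base := by
    rintro _ ⟨z, rfl⟩
    rw [Scheme.Opens.range_ι]
    have hz : hN.fromSpec.base z ∈ N := by
      have := hN.range_fromSpec
      rw [← SetLike.mem_coe, ← this]
      exact ⟨z, rfl⟩
    exact (hNW hz).1
  have hrb : Set.range (hN.fromSpec ≫ ψ).base ⊆ Set.range V.ι.base := by
    rintro _ ⟨z, rfl⟩
    rw [Scheme.Opens.range_ι]
    have hz : hN.fromSpec.base z ∈ N := by
      have := hN.range_fromSpec
      rw [← SetLike.mem_coe, ← this]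
      exact ⟨z, rfl⟩
    exact (hNW hz).2
  let a' : Spec Γ(X, N) ⟶ V := IsOpenImmersion.lift V.ι (hN.fromSpec ≫ φ) hra
  let b' : Spec Γ(X, N) ⟶ V := IsOpenImmersion.lift V.ι (hN.fromSpec ≫ ψ) hrb
  have ha' : a' ≫ V.ι = hN.fromSpec ≫ φ := IsOpenImmersion.lift_fac _ _ _
  have hb' : b' ≫ V.ι = hN.fromSpec ≫ ψ := IsOpenImmersion.lift_fac _ _ _
  haveI : IsAffine V := hV
  have hab : a' = b' := by
    apply ext_of_isAffine
    ext c
    have hn : ∀ n, thickv X x N hxN n ≫ a' = thickv X x N hxN n ≫ b' := by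
      intro n
      rw [← cancel_mono V.ι, Category.assoc, Category.assoc, ha', hb', ← Category.assoc,
        ← Category.assoc, thickv_fromSpec X x N hxN hN n, h n]
    have key := thickv_jointly_injective X x N hxN hinj (a'.appTop.hom c - b'.appTop.hom c) (by
      intro n
      rw [map_sub, sub_eq_zero]
      have := hn n
      have e1 := congrArg (fun g => g.appTop.hom c) this
      simpa only [Scheme.Hom.comp_appTop, CommRingCat.comp_apply] using e1)
    exact sub_eq_zero.mp key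
  rw [← ha', ← hb', hab]

end Groth.Agent.Lib.Helper12.FormalUniq
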