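import Mathlib
import Groth.Prelude
import Groth.Agent.Lib.Helper12FormalUniqA

set_option autoImplicit false
universe u

namespace Groth.Agent.Lib.Helper12.FormalUniq

open CategoryTheory AlgebraicGeometry Limits
open Groth.Agent.Lib.Helper11RigidAntiC

/-- Morphisms agreeing on the thickenings `X_n = X ×_A A/I^(n+1)` agree on all infinitesimal
neighbourhoods of points lying over `V(I)`. -/
theorem thick_eq (A : Type u) [CommRing A] (I : Ideal A) {X Y : Scheme.{u}}
    (f : X ⟶ Spec (CommRingCat.of A)) (φ ψ : X ⟶ Y)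
    (e : ∀ n : ℕ, CohB1.thickι f I n ≫ φ = CohB1.thickι f I n ≫ ψ) (x : X)
    (hx : I ≤ (show PrimeSpectrum A from f.base x).asIdeal) (n : ℕ) :
    thickι X x n ≫ φ = thickι X x n ≫ ψ := by
  cases n with
  | zero =>
    haveI : IsEmpty (thick X x 0) := by
      have : Subsingleton (X.presheaf.stalk x ⧸ (IsLocalRing.maximalIdeal (X.presheaf.stalk x)) ^ 0) := by
        rw [pow_zero, Ideal.one_eq_top]
        exact Ideal.Quotient.subsingleton_iff.mpr rfl
      exact inferInstanceAs (IsEmpty (PrimeSpectrum _))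
    exact isInitialOfIsEmpty.hom_ext _ _
  | succ m =>
    let ρc : CommRingCat.of A ⟶ X.presheaf.stalk x := Spec.preimage (X.fromSpecStalk x ≫ f)
    have hρc : Spec.map ρc = X.fromSpecStalk x ≫ f := Spec.map_preimage _
    have hcomap : I ≤ (IsLocalRing.maximalIdeal (X.presheaf.stalk x)).comap ρc.hom := by
      have h1 : (Spec.map ρc).base (IsLocalRing.closedPoint (X.presheaf.stalk x)) = f.base x := by
        rw [hρc, Scheme.Hom.comp_base, TopCat.comp_app, Scheme.fromSpecStalk_closedPoint]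
      have h2 : (show PrimeSpectrum A from f.base x).asIdeal =
          (IsLocalRing.maximalIdeal (X.presheaf.stalk x)).comap ρc.hom := by
        rw [← h1]; rfl
      rw [← h2]; exact hx
    have hpow : I ^ (m + 1) ≤
        ((IsLocalRing.maximalIdeal (X.presheaf.stalk x)) ^ (m + 1)).comap ρc.hom :=
      (Ideal.pow_right_mono hcomap _).trans (Ideal.le_comap_pow _ _)
    let ρq : A ⧸ I ^ (m + 1) →+*
        X.presheaf.stalk x ⧸ (IsLocalRing.maximalIdeal (X.presheaf.stalk x)) ^ (m + 1) :=
      Ideal.quotientMap _ ρc.hom hpow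
    have comm : thickι X x (m + 1) ≫ f =
        Spec.map (CommRingCat.ofHom ρq) ≫ CohB1.specQuot I m := by
      rw [CohB1.specQuot, ← Spec.map_comp, Category.assoc, ← hρc, ← Spec.map_comp]
      congr 1
    let t : thick X x (m + 1) ⟶ CohB1.thick f I m :=
      pullback.lift (thickι X x (m + 1)) (Spec.map (CommRingCat.ofHom ρq)) comm
    have ht : t ≫ CohB1.thickι f I m = thickι X x (m + 1) := pullback.lift_fst _ _ _
    rw [← ht, Category.assoc, Category.assoc, e m]

/-- Two morphisms out of a scheme proper over a noetherian `I`-adically complete ring which agree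
on all thickenings `X_n` are equal. -/
theorem main (A : Type u) [CommRing A] [IsNoetherianRing A]
    (I : Ideal A) [IsAdicComplete I A] {X Y : Scheme.{u}} (f : X ⟶ Spec (CommRingCat.of A))
    [IsProper f] (φ ψ : X ⟶ Y)
    (e : ∀ n : ℕ, CohB1.thickι f I n ≫ φ = CohB1.thickι f I n ≫ ψ) : φ = ψ := by
  haveI : IsLocallyNoetherian X := LocallyOfFiniteType.isLocallyNoetherian f
  let G : Set X := {x | ∃ U : X.Opens, x ∈ U ∧ U.ι ≫ φ = U.ι ≫ ψ}
  have hGopen : IsOpen G := by
    rw [isOpen_iff_forall_mem_open]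
    rintro x ⟨U, hxU, hU⟩
    exact ⟨U, fun y hy => ⟨U, hy, hU⟩, U.isOpen, hxU⟩
  have hG0 : ∀ x : X, I ≤ (show PrimeSpectrum A from f.base x).asIdeal → x ∈ G := fun x hx =>
    local_eq X Y φ ψ x (thick_eq A I f φ ψ e x hx)
  have hGall : ∀ x : X, x ∈ G := by
    by_contra hne
    obtain ⟨z, hz⟩ := not_forall.mp hne
    have hZ : IsClosed Gᶜ := hGopen.isClosed_compl
    have hfZ : IsClosed (f.base '' Gᶜ) := f.isClosedMap _ hZ
    obtain ⟨J, hJ⟩ := (PrimeSpectrum.isClosed_iff_zeroLocus_ideal _).mp hfZ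
    have hJne : J ≠ ⊤ := by
      rintro rfl
      have hmem : f.base z ∈ f.base '' Gᶜ := ⟨z, hz, rfl⟩
      rw [hJ] at hmem
      simp at hmem
      exact hmem
    obtain ⟨M, hM, hJM⟩ := Ideal.exists_le_maximal J hJne
    have hIM : I ≤ M := by
      have h1 : I ≤ (⊥ : Ideal A).jacobson := IsAdicComplete.le_jacobson_bot I
      exact h1.trans (sInf_le ⟨bot_le, hM⟩)
    have hmem : (⟨M, hM.isPrime⟩ : PrimeSpectrum A) ∈ f.base '' Gᶜ := by
      rw [hJ]
      exact hJM
    obtain ⟨z', hz', hfz'⟩ := hmem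
    apply hz'
    apply hG0
    change I ≤ (show PrimeSpectrum A from f.base z').asIdeal
    rw [hfz']
    exact hIM
  choose U hxU hU using hGall
  refine Scheme.Cover.hom_ext (X.openCoverOfIsOpenCover U ?_) _ _ (fun x => hU x)
  exact eq_top_iff.mpr fun x _ => TopologicalSpace.Opens.mem_iSup.mpr ⟨x, hxU x⟩

end Groth.Agent.Lib.Helper12.FormalUniq
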