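import Mathlib
import Groth.Agent.Lib.Helper12SrcLocal
import Groth.Prelude.Def_AlgSpCov

set_option autoImplicit false
universe u
open CategoryTheory CategoryTheory.Limits AlgebraicGeometry
open AlgSp

namespace Groth.Agent.Lib.Helper12.FppfRefine

open Groth.Agent.Lib.Helper12.SrcLocal MorphismProperty

variable {S : Scheme.{u}}

lemma exists_preimage_of_isPullback {P X Y Z : Scheme.{u}} {fst : P ⟶ X} {snd : P ⟶ Y}
    {f : X ⟶ Z} {g : Y ⟶ Z} (h : IsPullback fst snd f g) (x : X) (y : Y) (e : f x = g y) :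
    ∃ z : P, fst z = x ∧ snd z = y := by
  obtain ⟨z0, h1, h2⟩ := Scheme.Pullback.exists_preimage_pullback x y e
  refine ⟨h.isoPullback.inv z0, ?_, ?_⟩
  · rw [← Scheme.Hom.comp_apply, h.isoPullback_inv_fst]; exact h1
  · rw [← Scheme.Hom.comp_apply, h.isoPullback_inv_snd]; exact h2

/-- an fppf covering of an algebraic space is refined, over every scheme mapping to the space, by a
jointly surjective family of flat morphisms locally of finite presentation of schemes. -/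
lemma exists_fppf_family {ι : Type u} {X : AlgSp.Sp S} (hX : AlgSp.IsAlgSpace X)
    (Xi : ι → AlgSp.Sp S) (hXi : ∀ i, AlgSp.IsAlgSpace (Xi i)) (g : ∀ i, Xi i ⟶ X)
    (hcov : AlgSp.IsFppfCover Xi g) {T : Over S} (t : (AlgSp.yon S).obj T ⟶ X) :
    ∃ (Tk : ι → Over S) (c : ∀ i, Tk i ⟶ T) (l : ∀ i, (AlgSp.yon S).obj (Tk i) ⟶ Xi i),
      (∀ i, Flat (c i).left) ∧ (∀ i, LocallyOfFinitePresentation (c i).left) ∧
      (∀ x : ↥T.left, ∃ i, x ∈ Set.range (c i).left) ∧
      ∀ i, l i ≫ g i = (AlgSp.yon S).map (c i) ≫ t := by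
  obtain ⟨U, p, hpe, hps⟩ := hX.atlas
  obtain ⟨T', pr, v', sqT⟩ := hpe.1 t
  obtain ⟨v, rfl⟩ := (AlgSp.yon S).map_surjective v'
  haveI : Etale pr.left := hpe.2 _ _ pr sqT
  haveI : Surjective pr.left := hps.2 _ _ pr sqT
  obtain ⟨D⟩ := exists_chartData hX Xi hXi g p
  have hsnd : ∀ i, AlgSp.RepWith @Etale (pullback.snd p (g i)) := fun i =>
    MorphismProperty.of_isPullback (P := AlgSp.RepWith @Etale)
      (IsPullback.of_hasPullback p (g i)) hpe
  have hai : ∀ i, AlgSp.RepWith @Etale (D.q i ≫ pullback.snd p (g i)) := fun i =>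
    (AlgSp.RepWith @Etale).comp_mem _ _ (D.hqe i) (hsnd i)
  have hcomm : ∀ i, (D.q i ≫ pullback.snd p (g i)) ≫ g i = (AlgSp.yon S).map (D.e i) ≫ p := by
    intro i
    rw [Category.assoc, ← pullback.condition, ← Category.assoc, ← D.he]
  haveI hfl : ∀ i, Flat (D.e i).left := fun i => (hcov.1 i).1 _ p (D.e i) (hai i) hpe (hcomm i)
  haveI hfp : ∀ i, LocallyOfFinitePresentation (D.e i).left := fun i =>
    (hcov.1 i).2 _ p (D.e i) (hai i) hpe (hcomm i)
  have hsq : ∀ i, IsPullback (pullback.fst (D.e i) v).left (pullback.snd (D.e i) v).left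
      (D.e i).left v.left := fun i => (IsPullback.of_hasPullback (D.e i) v).map (Over.forget S)
  refine ⟨fun i => pullback (D.e i) v, fun i => pullback.snd (D.e i) v ≫ pr,
    fun i => (AlgSp.yon S).map (pullback.fst (D.e i) v) ≫ D.q i ≫ pullback.snd p (g i),
    fun i => ?_, fun i => ?_, fun x => ?_, fun i => ?_⟩
  · haveI : Flat (pullback.snd (D.e i) v).left :=
      MorphismProperty.of_isPullback (P := @Flat) (hsq i) (hfl i)
    rw [Over.comp_left]
    infer_instance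
  · haveI : LocallyOfFinitePresentation (pullback.snd (D.e i) v).left :=
      MorphismProperty.of_isPullback (P := @LocallyOfFinitePresentation) (hsq i) (hfp i)
    rw [Over.comp_left]
    infer_instance
  · obtain ⟨x', rfl⟩ := pr.left.surjective x
    obtain ⟨i, w, hw⟩ := D.jointly_surjective hcov.2 (v.left x')
    obtain ⟨z, hz1, hz2⟩ := exists_preimage_of_isPullback (hsq i) w x' hw
    refine ⟨i, z, ?_⟩
    rw [Over.comp_left, Scheme.Hom.comp_apply, hz2]
  · have h1 := hcomm i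
    simp only [Category.assoc] at h1 ⊢
    rw [h1, ← Functor.map_comp_assoc, pullback.condition, Functor.map_comp_assoc, sqT.w,
      ← Functor.map_comp_assoc]

/-- an fppf covering of an algebraic space satisfies the refinement condition of an fpqc
covering. -/
lemma refines_of_fppfCover {ι : Type u} {X : AlgSp.Sp S} (hX : AlgSp.IsAlgSpace X)
    (Xi : ι → AlgSp.Sp S) (hXi : ∀ i, AlgSp.IsAlgSpace (Xi i)) (g : ∀ i, Xi i ⟶ X)
    (hcov : AlgSp.IsFppfCover Xi g) (Z : Over S) (hZ : IsAffine Z.left)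
    (h : (AlgSp.yon S).obj Z ⟶ X) :
    ∃ (m : ℕ) (W : Fin m → Over S) (c : ∀ j, W j ⟶ Z),
      (∀ j, IsAffine (W j).left) ∧ (∀ j, Flat (c j).left) ∧
      (∀ z : ↥Z.left, ∃ j, z ∈ Set.range (c j).left) ∧
      ∀ j, ∃ (i : _) (l : (AlgSp.yon S).obj (W j) ⟶ Xi i),
        l ≫ g i = (AlgSp.yon S).map (c j) ≫ h := by
  obtain ⟨Tk, c, l, hfl, hfp, hsurj, hl⟩ := exists_fppf_family hX Xi hXi g hcov h
  haveI := hfl
  haveI := hfp
  let κ := Σ i, (Tk i).left.affineOpens
  let O : κ → Set ↥Z.left := fun k => (c k.1).left '' (k.2.1 : Set ↥(Tk k.1).left)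
  have hO : ∀ k, IsOpen (O k) := fun k => (c k.1).left.isOpenMap _ k.2.1.2
  have hcover : (Set.univ : Set ↥Z.left) ⊆ ⋃ k, O k := by
    intro z _
    obtain ⟨i, x, rfl⟩ := hsurj z
    obtain ⟨V, ⟨V', hV', rfl⟩, hxV, -⟩ := ((Tk i).left.isBasis_affineOpens).exists_subset_of_mem_open
      (Set.mem_univ x) isOpen_univ
    exact Set.mem_iUnion.2 ⟨⟨i, ⟨V', hV'⟩⟩, x, hxV, rfl⟩
  haveI : CompactSpace ↥Z.left := inferInstance
  obtain ⟨t, ht⟩ := isCompact_univ.elim_finite_subcover O hO hcover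
  let e : Fin t.card ≃ t := t.equivFin.symm
  let Wo : κ → Over S := fun k => Over.mk (k.2.1.ι ≫ (Tk k.1).hom)
  let ιo : ∀ k : κ, Wo k ⟶ Tk k.1 := fun k => Over.homMk k.2.1.ι rfl
  refine ⟨t.card, fun j => Wo (e j).1, fun j => ιo (e j).1 ≫ c (e j).1.1, fun j => ?_, fun j => ?_,
    fun z => ?_, fun j => ?_⟩
  · exact (e j).1.2.2
  · rw [Over.comp_left]
    show Flat ((e j).1.2.1.ι ≫ (c (e j).1.1).left)
    infer_instance
  · obtain ⟨k, hk, x, hx, rfl⟩ : ∃ k ∈ t, z ∈ O k := by simpa using ht (Set.mem_univ z)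
    refine ⟨e.symm ⟨k, hk⟩, ?_⟩
    show (c k.1).left x ∈ Set.range ⇑(ιo (e (e.symm ⟨k, hk⟩)).1 ≫ c (e (e.symm ⟨k, hk⟩)).1.1).left
    rw [Equiv.apply_symm_apply]
    refine ⟨⟨x, hx⟩, ?_⟩
    rw [Over.comp_left, Scheme.Hom.comp_apply]
    rfl
  · refine ⟨(e j).1.1, (AlgSp.yon S).map (ιo (e j).1) ≫ l (e j).1.1, ?_⟩
    rw [Category.assoc, hl, ← Functor.map_comp_assoc]

end Groth.Agent.Lib.Helper12.FppfRefine
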