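import Mathlib
import Groth.Prelude.Def_W4c2gaugesfzipsQuiet

set_option autoImplicit false
universe u
open CategoryTheory CategoryTheory.Limits Polynomial

namespace Groth.Agent.Lib.Helper12.RootTower

variable (p : ℕ)

section ring
variable {A A' : Type u} [CommRing A] [CommRing A']

lemma rootMap_aux (φ : A →+* A') (a : A) :
    (X ^ p - C a : A[X]).eval₂ ((AdjoinRoot.of (X ^ p - C (φ a) : A'[X])).comp φ)
      (AdjoinRoot.root (X ^ p - C (φ a) : A'[X])) = 0 := by
  have h := AdjoinRoot.eval₂_root (X ^ p - C (φ a) : A'[X])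
  simp only [eval₂_sub, eval₂_pow, eval₂_X, eval₂_C] at h ⊢
  exact h

/-- the map of root rings induced by a ring map. -/
noncomputable def rootMap (φ : A →+* A') (a : A) :
    Quiet.RootRing p A a →+* Quiet.RootRing p A' (φ a) :=
  AdjoinRoot.lift ((AdjoinRoot.of _).comp φ) (AdjoinRoot.root _) (rootMap_aux p φ a)

lemma rootMap_comp_of (φ : A →+* A') (a : A) :
    (rootMap p φ a).comp (AdjoinRoot.of _) = (AdjoinRoot.of _).comp φ :=
  AdjoinRoot.lift_comp_of _

lemma rootMap_root (φ : A →+* A') (a : A) :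
    rootMap p φ a (AdjoinRoot.root _) = AdjoinRoot.root _ :=
  AdjoinRoot.lift_root _

lemma root_pow (a : A) :
    (AdjoinRoot.root (X ^ p - C a : A[X])) ^ p = AdjoinRoot.of (X ^ p - C a : A[X]) a := by
  have h := AdjoinRoot.eval₂_root (X ^ p - C a : A[X])
  simp only [eval₂_sub, eval₂_pow, eval₂_X, eval₂_C] at h
  exact sub_eq_zero.mp h

variable {p} in
lemma desc_aux {D : Type u} [CommRing D] (φ : A →+* A') (a : A)
    (h₁ : Quiet.RootRing p A a →+* D) (h₂ : A' →+* D)
    (hc : h₁.comp (AdjoinRoot.of _) = h₂.comp φ) :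
    (X ^ p - C (φ a) : A'[X]).eval₂ h₂ (h₁ (AdjoinRoot.root _)) = 0 := by
  have hc' : h₁ (AdjoinRoot.of (X ^ p - C a : A[X]) a) = h₂ (φ a) := congr($hc a)
  simp only [eval₂_sub, eval₂_pow, eval₂_X, eval₂_C]
  rw [← map_pow, root_pow, hc', sub_self]

/-- **Base change of an elementary root extraction is a pushout.** -/
lemma isPushout_rootMap (φ : A →+* A') (a : A) :
    IsPushout (CommRingCat.ofHom (AdjoinRoot.of (X ^ p - C a : A[X]))) (CommRingCat.ofHom φ)
      (CommRingCat.ofHom (rootMap p φ a))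
      (CommRingCat.ofHom (AdjoinRoot.of (X ^ p - C (φ a) : A'[X]))) := by
  have hw : CommRingCat.ofHom (AdjoinRoot.of (X ^ p - C a : A[X])) ≫
      CommRingCat.ofHom (rootMap p φ a) = CommRingCat.ofHom φ ≫
        CommRingCat.ofHom (AdjoinRoot.of (X ^ p - C (φ a) : A'[X])) := by
    rw [← CommRingCat.ofHom_comp, ← CommRingCat.ofHom_comp, rootMap_comp_of]
  have hcond : ∀ s : PushoutCocone (CommRingCat.ofHom (AdjoinRoot.of (X ^ p - C a : A[X])))
      (CommRingCat.ofHom φ), s.inl.hom.comp (AdjoinRoot.of _) = s.inr.hom.comp φ :=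
    fun s => congr($(s.condition).hom)
  refine ⟨⟨hw⟩, ⟨PushoutCocone.IsColimit.mk _ (fun s => CommRingCat.ofHom
    (AdjoinRoot.lift s.inr.hom (s.inl.hom (AdjoinRoot.root _))
      (desc_aux φ a s.inl.hom s.inr.hom (hcond s)))) ?_ ?_ ?_⟩⟩
  · intro s
    ext1
    rw [CommRingCat.hom_comp, CommRingCat.hom_ofHom, CommRingCat.hom_ofHom]
    refine AdjoinRoot.ringHom_ext ?_ ?_
    · rw [RingHom.comp_assoc, rootMap_comp_of, ← RingHom.comp_assoc, AdjoinRoot.lift_comp_of,
        hcond s]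
    · rw [RingHom.comp_apply, rootMap_root, AdjoinRoot.lift_root]
  · intro s
    ext1
    rw [CommRingCat.hom_comp, CommRingCat.hom_ofHom, CommRingCat.hom_ofHom]
    exact AdjoinRoot.lift_comp_of _
  · intro s m h1 h2
    ext1
    rw [CommRingCat.hom_ofHom]
    refine AdjoinRoot.ringHom_ext ?_ ?_
    · rw [AdjoinRoot.lift_comp_of]
      exact congr($(h2).hom)
    · rw [AdjoinRoot.lift_root, ← h1, CommRingCat.hom_comp, CommRingCat.hom_ofHom,
        RingHom.comp_apply, rootMap_root]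

end ring

end Groth.Agent.Lib.Helper12.RootTower
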