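import Mathlib
import Groth.Agent.Lib.Helper12RootTowerA

set_option autoImplicit false
universe u
open CategoryTheory CategoryTheory.Limits Polynomial

namespace Groth.Agent.Lib.Helper12.RootTower

variable (p : ℕ)

/-- ring-hom form of root towers. -/
def IsTowerHom : ℕ → ∀ {A B : Type u} [CommRing A] [CommRing B], (A →+* B) → Prop
  | 0, _, _, _, _, f => Function.Bijective f
  | n + 1, A, B, _, _, f => ∃ (a : A) (g : Quiet.RootRing p A a →+* B),
      g.comp (AdjoinRoot.of _) = f ∧ IsTowerHom n g

lemma isRootTower_iff (n : ℕ) : ∀ (A B : Type u) [CommRing A] [CommRing B] [Algebra A B],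
    Quiet.IsRootTower p n A B ↔ IsTowerHom p n (algebraMap A B) := by
  induction n with
  | zero =>
    intro A B _ _ _
    constructor
    · rintro ⟨e⟩
      have h : (algebraMap A B : A → B) = e.symm := by
        funext x
        rw [← e.symm.commutes x]
        rfl
      change Function.Bijective (algebraMap A B : A → B)
      rw [h]
      exact e.symm.bijective
    · intro h
      exact ⟨(AlgEquiv.ofBijective (Algebra.ofId A B) h).symm⟩
  | succ n ih =>
    intro A B _ _ _
    constructor
    · rintro ⟨a, inst, hst, h⟩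
      refine ⟨a, algebraMap (Quiet.RootRing p A a) B, ?_, (ih _ _).1 h⟩
      exact (IsScalarTower.algebraMap_eq A (Quiet.RootRing p A a) B).symm
    · rintro ⟨a, g, hg, h⟩
      letI := g.toAlgebra
      refine ⟨a, g.toAlgebra, IsScalarTower.of_algebraMap_eq' hg.symm, (ih _ _).2 h⟩

variable {p}

/-- **Root towers are stable under cobase change.** -/
lemma IsTowerHom.of_isPushout : ∀ (n : ℕ) {A B A' : Type u} [CommRing A] [CommRing B] [CommRing A']
    {f : A →+* B} {φ : A →+* A'} {P : CommRingCat.{u}} {inl : CommRingCat.of B ⟶ P}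
    {inr : CommRingCat.of A' ⟶ P}, IsTowerHom p n f →
    IsPushout (CommRingCat.ofHom f) (CommRingCat.ofHom φ) inl inr → IsTowerHom p n inr.hom
  | 0, A, B, A', _, _, _, f, φ, P, inl, inr, hf, sq => by
    haveI : IsIso (CommRingCat.ofHom f) :=
      (ConcreteCategory.isIso_iff_bijective _).2 hf
    haveI := sq.isIso_inr_of_isIso
    exact (ConcreteCategory.isIso_iff_bijective inr).1 inferInstance
  | n + 1, A, B, A', _, _, _, f, φ, P, inl, inr, hf, sq => by
    obtain ⟨a, g, rfl, hg⟩ := hf
    have sq1 := isPushout_rootMap p φ a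
    rw [CommRingCat.ofHom_comp] at sq
    let g' : CommRingCat.of (Quiet.RootRing p A' (φ a)) ⟶ P :=
      sq1.desc (CommRingCat.ofHom g ≫ inl) inr (by rw [← Category.assoc]; exact sq.w)
    have h1 : CommRingCat.ofHom (rootMap p φ a) ≫ g' = CommRingCat.ofHom g ≫ inl :=
      sq1.inl_desc _ _ _
    have h2 : CommRingCat.ofHom (AdjoinRoot.of (X ^ p - C (φ a) : A'[X])) ≫ g' = inr :=
      sq1.inr_desc _ _ _
    have sq2 : IsPushout (CommRingCat.ofHom g) (CommRingCat.ofHom (rootMap p φ a)) inl g' := by
      refine IsPushout.of_left ?_ h1.symm sq1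
      rw [h2]
      exact sq
    have hg' := IsTowerHom.of_isPushout n hg sq2
    refine ⟨φ a, g'.hom, ?_, hg'⟩
    rw [← h2]
    rfl

end Groth.Agent.Lib.Helper12.RootTower
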