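import Mathlib
import Groth.Agent.Lib.Helper12RootTowerB

set_option autoImplicit false
universe u
open CategoryTheory CategoryTheory.Limits Polynomial

namespace Groth.Agent.Lib.Helper12.RootTower

variable {p : ℕ}

lemma rootMap_surjective {A A' : Type u} [CommRing A] [CommRing A'] (φ : A →+* A')
    (hφ : Function.Surjective φ) (a : A) : Function.Surjective (rootMap p φ a) := by
  intro x
  obtain ⟨g, rfl⟩ := AdjoinRoot.mk_surjective x
  obtain ⟨g', rfl⟩ := Polynomial.map_surjective φ hφ g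
  refine ⟨AdjoinRoot.mk _ g', ?_⟩
  rw [rootMap, AdjoinRoot.lift_mk, ← Polynomial.eval₂_map, ← AdjoinRoot.aeval_eq,
    Polynomial.aeval_def]
  rfl

/-- **Root towers lift along surjections.** -/
lemma IsTowerHom.exists_lift : ∀ (n : ℕ) {A A₀ B₀ : Type u} [CommRing A] [CommRing A₀]
    [CommRing B₀] (π : A →+* A₀) (_ : Function.Surjective π) (f₀ : A₀ →+* B₀),
    IsTowerHom p n f₀ → ∃ (B : Type u) (_ : CommRing B) (f : A →+* B) (π' : B →+* B₀),
      IsTowerHom p n f ∧ IsPushout (CommRingCat.ofHom f) (CommRingCat.ofHom π)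
        (CommRingCat.ofHom π') (CommRingCat.ofHom f₀)
  | 0, A, A₀, B₀, _, _, _, π, hπ, f₀, hf₀ => by
    refine ⟨A, inferInstance, RingHom.id A, f₀.comp π, Function.bijective_id, ?_⟩
    haveI : IsIso (CommRingCat.ofHom f₀) := (ConcreteCategory.isIso_iff_bijective _).2 hf₀
    haveI : IsIso (CommRingCat.ofHom (RingHom.id A)) :=
      inferInstanceAs (IsIso (𝟙 (CommRingCat.of A)))
    exact IsPushout.of_horiz_isIso ⟨by
      rw [← CommRingCat.ofHom_comp, ← CommRingCat.ofHom_comp]⟩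
  | n + 1, A, A₀, B₀, _, _, _, π, hπ, f₀, hf₀ => by
    obtain ⟨a₀, g₀, rfl, hg₀⟩ := hf₀
    obtain ⟨a, rfl⟩ := hπ a₀
    obtain ⟨B, _, g, π', hg, sq⟩ := IsTowerHom.exists_lift n (rootMap p π a)
      (rootMap_surjective π hπ a) g₀ hg₀
    refine ⟨B, inferInstance, g.comp (AdjoinRoot.of _), π', ⟨a, g, rfl, hg⟩, ?_⟩
    rw [CommRingCat.ofHom_comp, CommRingCat.ofHom_comp]
    exact (isPushout_rootMap p π a).paste_horiz sq

end Groth.Agent.Lib.Helper12.RootTower
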