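import Mathlib
import Groth.Agent.S3694

/-!
# Topological invariance of Hom sets into étale schemes (helper20)

For `h : Y' ⟶ Y` integral, universally injective and surjective (a universal homeomorphism), and
`f : X ⟶ S` étale, composition with `h` induces a bijection between `S`-morphisms `Y ⟶ X`
and `S`-morphisms `Y' ⟶ X`.
-/

set_option autoImplicit false
universe u

open CategoryTheory CategoryTheory.Limits AlgebraicGeometry

namespace Groth.Agent.Lib.Helper20.EtHom

theorem universallyInjective_of_comp_surjective {X Y Z : Scheme.{u}} (f : X ⟶ Y) (g : Y ⟶ Z)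
    [UniversallyInjective (f ≫ g)] [Surjective f] : UniversallyInjective g := by
  constructor
  intro X' Y' i₁ i₂ f' H
  have := UniversallyInjective.universally_injective _ _ _
    ((IsPullback.of_hasPullback i₁ f).paste_horiz H)
  have hs : Function.Surjective (Limits.pullback.fst i₁ f) :=
    (MorphismProperty.pullback_fst (P := @Surjective) _ _ ‹_›).1
  exact Function.Injective.of_comp_right this hs

set_option backward.isDefEq.respectTransparency false in
theorem isOpenImmersion_equalizer_ι_left {S : Scheme.{u}} {X Y : Over S}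
    [IsOpenImmersion (pullback.diagonal Y.hom)]
    (f g : X ⟶ Y) : IsOpenImmersion (equalizer.ι f g).left := by
  refine MorphismProperty.of_isPullback (P := @IsOpenImmersion)
    ((Limits.isPullback_equalizer_prod f g).map (Over.forget _)).flip ?_
  rw [← MorphismProperty.cancel_right_of_respectsIso @IsOpenImmersion _
    (Over.prodLeftIsoPullback Y Y).hom]
  convert! (inferInstance : IsOpenImmersion (pullback.diagonal Y.hom))
  ext1 <;> simp [← Over.comp_left]

/-- Two `S`-morphisms into an étale `S`-scheme which agree after precomposing with a surjective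
morphism are equal. -/
theorem over_hom_ext_of_surjective {S : Scheme.{u}} {X Y : Over S} [Etale X.hom]
    (φ₁ φ₂ : Y ⟶ X) {Y' : Scheme.{u}} (h : Y' ⟶ Y.left) [Surjective h]
    (hh : h ≫ φ₁.left = h ≫ φ₂.left) : φ₁ = φ₂ := by
  let U' : Over S := Over.mk (h ≫ Y.hom)
  let ι' : U' ⟶ Y := Over.homMk h
  have hι : ι' ≫ φ₁ = ι' ≫ φ₂ := by
    ext1
    exact hh
  have : IsOpenImmersion (equalizer.ι φ₁ φ₂).left := isOpenImmersion_equalizer_ι_left φ₁ φ₂
  have hs : Surjective (equalizer.ι φ₁ φ₂).left := by
    have : Surjective ((equalizer.lift ι' hι).left ≫ (equalizer.ι φ₁ φ₂).left) := by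
      rw [← Over.comp_left, equalizer.lift_ι]
      exact ‹Surjective h›
    exact Surjective.of_comp (equalizer.lift ι' hι).left _
  have : IsIso (equalizer.ι φ₁ φ₂).left :=
    (isIso_iff_isOpenImmersion_and_surjective _).2 ⟨inferInstance, hs⟩
  ext1
  rw [← cancel_epi (equalizer.ι φ₁ φ₂).left]
  exact congr($(equalizer.condition φ₁ φ₂).left)

/-- A morphism which is integral, universally injective and surjective is a homeomorphism. -/
theorem isHomeomorph_of_integral {X Y : Scheme.{u}} (k : X ⟶ Y) [IsIntegralHom k]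
    [UniversallyInjective k] [Surjective k] : IsHomeomorph k := by
  rw [isHomeomorph_iff_continuous_isClosedMap_bijective]
  exact ⟨k.continuous, k.isClosedMap, k.injective, k.surjective⟩

/-- Lifting along a universal homeomorphism into an étale scheme. -/
theorem exists_lift {Y' Y X S : Scheme.{u}} (h : Y' ⟶ Y) [IsIntegralHom h]
    [UniversallyInjective h] [Surjective h] (f : X ⟶ S) [Etale f] (q : Y ⟶ S) (ψ : Y' ⟶ X)
    (hψ : ψ ≫ f = h ≫ q) : ∃ φ : Y ⟶ X, φ ≫ f = q ∧ h ≫ φ = ψ := by
  let π₁ : pullback f q ⟶ X := pullback.fst f q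
  let π₂ : pullback f q ⟶ Y := pullback.snd f q
  have : Etale π₂ := inferInstance
  let Γ : Y' ⟶ pullback f q := pullback.lift ψ h hψ
  have hΓ₁ : Γ ≫ π₁ = ψ := pullback.lift_fst _ _ _
  have hΓ₂ : Γ ≫ π₂ = h := pullback.lift_snd _ _ _
  let k : pullback π₂ h ⟶ pullback f q := pullback.fst π₂ h
  let π₂' : pullback π₂ h ⟶ Y' := pullback.snd π₂ h
  have : UniversallyInjective k := MorphismProperty.pullback_fst (P := @UniversallyInjective) _ _ ‹_›
  have : Surjective k := MorphismProperty.pullback_fst (P := @Surjective) _ _ ‹_›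
  have : IsIntegralHom k := MorphismProperty.pullback_fst (P := @IsIntegralHom) _ _ ‹_›
  have hk : IsHomeomorph k := isHomeomorph_of_integral k
  let σ : Y' ⟶ pullback π₂ h := pullback.lift Γ (𝟙 Y') (by rw [hΓ₂, Category.id_comp])
  have hσ₁ : σ ≫ k = Γ := pullback.lift_fst _ _ _
  have hσ₂ : σ ≫ π₂' = 𝟙 Y' := pullback.lift_snd _ _ _
  have : Etale π₂' := inferInstance
  have : Etale (σ ≫ π₂') := by rw [hσ₂]; infer_instance
  have : Etale σ := Etale.of_comp σ π₂'
  have : Mono σ := mono_of_mono_fac hσ₂
  have : IsOpenImmersion σ := Groth.Agent.S3694.result σ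
  have hopen : IsOpen (Set.range Γ) := by
    have : Set.range Γ = k '' Set.range σ := by
      rw [← hσ₁, ← Set.range_comp]
      rfl
    rw [this]
    exact hk.isOpenMap _ σ.isOpenEmbedding.isOpen_range
  let W : (pullback f q).Opens := ⟨Set.range Γ, hopen⟩
  let ΓW : Y' ⟶ W := IsOpenImmersion.lift W.ι Γ (by simp [W])
  have hfac : ΓW ≫ W.ι = Γ := IsOpenImmersion.lift_fac _ _ _
  have : Surjective ΓW := ⟨fun ⟨x, ⟨y, hy⟩⟩ ↦
    ⟨y, by apply W.ι.injective; simp [← Scheme.Hom.comp_apply, hfac, hy]⟩⟩
  let p : (W : Scheme.{u}) ⟶ Y := W.ι ≫ π₂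
  have hp : ΓW ≫ p = h := by
    simp only [p]
    rw [← Category.assoc, hfac, hΓ₂]
  have : UniversallyInjective (ΓW ≫ p) := by rw [hp]; infer_instance
  have : UniversallyInjective p := universallyInjective_of_comp_surjective ΓW p
  have : Surjective (ΓW ≫ p) := by rw [hp]; infer_instance
  have : Surjective p := Surjective.of_comp ΓW p
  have : Etale p := inferInstance
  have : IsOpenImmersion p := Groth.Agent.S3694.result p
  have : IsIso p := (isIso_iff_isOpenImmersion_and_surjective _).2 ⟨inferInstance, inferInstance⟩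
  refine ⟨inv p ≫ W.ι ≫ π₁, ?_, ?_⟩
  · rw [Category.assoc, Category.assoc, pullback.condition, ← Category.assoc W.ι]
    exact IsIso.inv_hom_id_assoc p q
  · rw [← hp, Category.assoc, IsIso.hom_inv_id_assoc, ← Category.assoc, hfac, hΓ₁]

end Groth.Agent.Lib.Helper20.EtHom
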