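import Mathlib
import Groth.Agent.Lib.Helper12RootTowerC
import Groth.Agent.Lib.Helper20EtHom

set_option autoImplicit false
universe u
open CategoryTheory CategoryTheory.Limits AlgebraicGeometry Polynomial

namespace Groth.Agent.Lib.Helper12.RootTower

variable {p : ℕ}

lemma isRootTower_toAlgebra_iff {A B : Type u} [CommRing A] [CommRing B] (f : A →+* B) (n : ℕ) :
    @Quiet.IsRootTower p n A B _ _ f.toAlgebra ↔ IsTowerHom p n f := by
  letI := f.toAlgebra
  exact isRootTower_iff p n A B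

lemma IsTowerHom.of_isPushout' (n : ℕ) {A B A' P : CommRingCat.{u}} {f : A ⟶ B} {φ : A ⟶ A'}
    {inl : B ⟶ P} {inr : A' ⟶ P} (hf : IsTowerHom p n f.hom) (sq : IsPushout f φ inl inr) :
    IsTowerHom p n inr.hom :=
  IsTowerHom.of_isPushout n (f := f.hom) (φ := φ.hom) (inl := inl) (inr := inr) hf sq

/-- `Spec` of a root tower is a `p`-th root morphism. -/
lemma isPthRoot_SpecMap {A B : CommRingCat.{u}} (f : A ⟶ B) {n : ℕ} (h : IsTowerHom p n f.hom) :
    Quiet.IsPthRoot p (Spec.map f) := by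
  intro x
  refine ⟨⟨⊤, isAffineOpen_top _⟩, trivial, isAffineOpen_top _, n, ?_⟩
  rw [isRootTower_toAlgebra_iff]
  have sq : IsPushout f (Scheme.ΓSpecIso A).inv (Scheme.ΓSpecIso B).inv (Spec.map f).appTop :=
    IsPushout.of_vert_isIso ⟨Scheme.ΓSpecIso_inv_naturality f⟩
  exact IsTowerHom.of_isPushout' n h sq

/-- precomposition with an isomorphism preserves `p`-th root morphisms. -/
lemma isPthRoot_iso_comp {Z Y X : Scheme.{u}} (k : Z ⟶ Y) [IsIso k] (g : Y ⟶ X)
    (h : Quiet.IsPthRoot p g) : Quiet.IsPthRoot p (k ≫ g) := by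
  intro x
  obtain ⟨U, hxU, hgU, n, hn⟩ := h x
  refine ⟨U, hxU, hgU.preimage_of_isIso k, n, ?_⟩
  rw [isRootTower_toAlgebra_iff] at hn ⊢
  have sq : IsPushout (g.app U.1) (𝟙 _) (k.app (g ⁻¹ᵁ U.1)) ((k ≫ g).app U.1) :=
    IsPushout.of_vert_isIso ⟨by rw [Category.id_comp]; rfl⟩
  exact IsTowerHom.of_isPushout' n hn sq

end Groth.Agent.Lib.Helper12.RootTower
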