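import Mathlib
import Groth.Agent.Lib.Helper12RootTowerD

set_option autoImplicit false
universe u
open CategoryTheory CategoryTheory.Limits Polynomial

namespace Groth.Agent.Lib.Helper12.RootTower

variable {p : ℕ}

/-- Root towers are invariant under isomorphisms of arrows. -/
lemma IsTowerHom.of_arrow_iso (n : ℕ) {A B A' B' : Type u} [CommRing A] [CommRing B] [CommRing A']
    [CommRing B'] {f : A →+* B} {f' : A' →+* B'} (α : A ≃+* A') (β : B ≃+* B')
    (h : ∀ x, β (f x) = f' (α x)) (hf : IsTowerHom p n f) : IsTowerHom p n f' := by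
  have sq : IsPushout (CommRingCat.ofHom f) (CommRingCat.ofHom (α : A →+* A'))
      (CommRingCat.ofHom (β : B →+* B')) (CommRingCat.ofHom f') := by
    haveI : IsIso (CommRingCat.ofHom (α : A →+* A')) :=
      (ConcreteCategory.isIso_iff_bijective _).2 α.bijective
    haveI : IsIso (CommRingCat.ofHom (β : B →+* B')) :=
      (ConcreteCategory.isIso_iff_bijective _).2 β.bijective
    refine IsPushout.of_vert_isIso ⟨?_⟩
    ext x
    exact h x
  exact IsTowerHom.of_isPushout n hf sq

/-- Root towers compose. -/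
lemma IsTowerHom.comp {m : ℕ} : ∀ (n : ℕ) {A B C : Type u} [CommRing A] [CommRing B] [CommRing C]
    {f : A →+* B} {g : B →+* C}, IsTowerHom p n f → IsTowerHom p m g →
    IsTowerHom p (m + n) (g.comp f)
  | 0, A, B, C, _, _, _, f, g, hf, hg => by
    refine IsTowerHom.of_arrow_iso m (RingEquiv.ofBijective f hf).symm (RingEquiv.refl C) ?_ hg
    intro x
    obtain ⟨y, rfl⟩ := hf.2 x
    have : (RingEquiv.ofBijective f hf).symm (f y) = y :=
      (RingEquiv.ofBijective f hf).symm_apply_apply y
    rw [this]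
    rfl
  | n + 1, A, B, C, _, _, _, f, g, hf, hg => by
    obtain ⟨a, f₁, rfl, hf₁⟩ := hf
    exact ⟨a, g.comp f₁, by rw [RingHom.comp_assoc], IsTowerHom.comp n hf₁ hg⟩

end Groth.Agent.Lib.Helper12.RootTower
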