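import Mathlib
import Groth.Agent.Lib.Helper12FrobTowerA

set_option autoImplicit false
universe u
open CategoryTheory CategoryTheory.Limits Polynomial

namespace Groth.Agent.Lib.Helper12.RootTower

variable {p : ℕ}

/-- `X ↦ X ^ p` on `R[X]` is an elementary root extraction. -/
lemma isTowerHom_expand (R : Type u) [CommRing R] :
    IsTowerHom p 1 ((Polynomial.expand R p : R[X] →ₐ[R] R[X]) : R[X] →+* R[X]) := by
  let E : R[X] →+* R[X] := ((Polynomial.expand R p : R[X] →ₐ[R] R[X]) : R[X] →+* R[X])
  have h0 : (X ^ p - C (X : R[X]) : R[X][X]).eval₂ E (X : R[X]) = 0 := by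
    simp [E, expand_X]
  let g : Quiet.RootRing p R[X] X →+* R[X] := AdjoinRoot.lift E X h0
  refine ⟨X, g, AdjoinRoot.lift_comp_of _, ?_⟩
  let hinv : R[X] →+* Quiet.RootRing p R[X] X :=
    eval₂RingHom ((AdjoinRoot.of _).comp C) (AdjoinRoot.root _)
  have h1 : g.comp hinv = RingHom.id _ := by
    refine Polynomial.ringHom_ext ?_ ?_
    · intro r
      simp [g, hinv, E]
    · simp [g, hinv]
  have h2 : hinv.comp g = RingHom.id _ := by
    refine AdjoinRoot.ringHom_ext ?_ ?_
    · refine Polynomial.ringHom_ext ?_ ?_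
      · intro r
        simp [g, hinv, E]
      · simp only [RingHom.comp_apply, RingHom.id_apply, g, hinv, E, AdjoinRoot.lift_of]
        simp only [RingHom.coe_coe, expand_X, map_pow, coe_eval₂RingHom, eval₂_X]
        exact root_pow p (X : R[X])
    · simp [g, hinv]
  constructor
  · intro x y hxy
    have := congr(hinv $hxy)
    rwa [← RingHom.comp_apply, ← RingHom.comp_apply, h2] at this
  · intro y
    exact ⟨hinv y, by rw [← RingHom.comp_apply, h1]; rfl⟩

/-- Polynomial rings commute with base change. -/
lemma isPushout_mapRingHom {R S : Type u} [CommRing R] [CommRing S] (φ : R →+* S) :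
    IsPushout (CommRingCat.ofHom φ) (CommRingCat.ofHom (C : R →+* R[X]))
      (CommRingCat.ofHom (C : S →+* S[X])) (CommRingCat.ofHom (Polynomial.mapRingHom φ)) := by
  have hw : CommRingCat.ofHom φ ≫ CommRingCat.ofHom (C : S →+* S[X]) =
      CommRingCat.ofHom (C : R →+* R[X]) ≫ CommRingCat.ofHom (Polynomial.mapRingHom φ) := by
    ext x
    simp
  have hcond : ∀ s : PushoutCocone (CommRingCat.ofHom φ) (CommRingCat.ofHom (C : R →+* R[X])),
      s.inl.hom.comp φ = s.inr.hom.comp C := fun s => congr($(s.condition).hom)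
  refine ⟨⟨hw⟩, ⟨PushoutCocone.IsColimit.mk _ (fun s => CommRingCat.ofHom
    (eval₂RingHom s.inl.hom (s.inr.hom X))) ?_ ?_ ?_⟩⟩
  · intro s
    ext x
    simp
  · intro s
    ext1
    rw [CommRingCat.hom_comp, CommRingCat.hom_ofHom, CommRingCat.hom_ofHom]
    refine Polynomial.ringHom_ext ?_ ?_
    · intro r
      have := congr($(hcond s) r)
      simpa using this
    · simp
  · intro s m h1 h2
    ext1
    rw [CommRingCat.hom_ofHom]
    refine Polynomial.ringHom_ext ?_ ?_
    · intro a
      have := congr($(h1).hom a)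
      simpa using this
    · have := congr($(h2).hom X)
      simpa using this

end Groth.Agent.Lib.Helper12.RootTower
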