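import Mathlib
import Groth.Agent.Lib.Helper12FrobTowerB

set_option autoImplicit false
universe u
open CategoryTheory CategoryTheory.Limits Polynomial

namespace Groth.Agent.Lib.Helper12.RootTower

variable {p : ℕ} [Fact p.Prime]

lemma frobenius_polynomial_eq (R : Type u) [CommRing R] [CharP R p] :
    frobenius R[X] p = ((expand R p : R[X] →ₐ[R] R[X]) : R[X] →+* R[X]).comp
      (mapRingHom (frobenius R p)) := by
  refine RingHom.ext fun f => ?_
  rw [frobenius_def, RingHom.comp_apply, RingHom.coe_coe, coe_mapRingHom, ← map_expand,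
    map_frobenius_expand]

lemma isTowerHom_frobenius_polynomial {R : Type u} [CommRing R] [CharP R p] {n : ℕ}
    (h : IsTowerHom p n (frobenius R p)) : IsTowerHom p (1 + n) (frobenius R[X] p) := by
  rw [frobenius_polynomial_eq]
  exact IsTowerHom.comp n (IsTowerHom.of_isPushout n h (isPushout_mapRingHom (frobenius R p)))
    (isTowerHom_expand R)

lemma exists_isTowerHom_frobenius_mvPolynomial {R : Type u} [CommRing R] [CharP R p] {m : ℕ}
    (h : IsTowerHom p m (frobenius R p)) :
    ∀ n : ℕ, ∃ N, IsTowerHom p N (frobenius (MvPolynomial (Fin n) R) p)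
  | 0 => by
    refine ⟨m, IsTowerHom.of_arrow_iso m (MvPolynomial.isEmptyAlgEquiv R (Fin 0)).symm.toRingEquiv
      (MvPolynomial.isEmptyAlgEquiv R (Fin 0)).symm.toRingEquiv (fun x => ?_) h⟩
    rw [frobenius_def, frobenius_def, map_pow]
  | n + 1 => by
    obtain ⟨N, hN⟩ := exists_isTowerHom_frobenius_mvPolynomial h n
    refine ⟨1 + N, IsTowerHom.of_arrow_iso _ (MvPolynomial.finSuccEquiv R n).symm.toRingEquiv
      (MvPolynomial.finSuccEquiv R n).symm.toRingEquiv (fun x => ?_)
      (isTowerHom_frobenius_polynomial hN)⟩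
    rw [frobenius_def, frobenius_def, map_pow]

/-- Over a perfect ring, the Frobenius of a polynomial ring in finitely many variables is a root
tower. -/
lemma exists_isTowerHom_frobenius_mvPolynomial_of_perfect (k : Type u) [CommRing k] [CharP k p]
    [PerfectRing k p] (n : ℕ) :
    ∃ N, IsTowerHom p N (frobenius (MvPolynomial (Fin n) k) p) :=
  exists_isTowerHom_frobenius_mvPolynomial (m := 0) (bijective_frobenius k p) n

end Groth.Agent.Lib.Helper12.RootTower
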