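import Mathlib
import Groth.Prelude.Def_FrobAlg

/-! Universe-polymorphic version of S16001 (proof copied from `Groth/Agent/S16001.lean`,
generalised to `A : Type u`, `B : Type v`). -/

set_option autoImplicit false
universe u v w

namespace Groth.Agent.Lib.Helper6.FrobEtale

open FrobAlg TensorProduct

theorem relFrob_tmul (p : ℕ) [Fact p.Prime] (A : Type u) [CommRing A] [CharP A p]
    (B : Type v) [CommRing B] [Algebra A B] [CharP B p] (b : B) (a : Twist p A) :
    FrobAlg.relFrob p A B (b ⊗ₜ[A] a) = b ^ p * algebraMap A B ((toTwist p A).symm a) := by
  unfold FrobAlg.relFrob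
  simp only [RingHom.coe_comp, Function.comp_apply, AlgHom.toRingHom_eq_coe, RingHom.coe_coe,
    Algebra.TensorProduct.lift_tmul]
  rfl

/-- Lifting for a nontrivial target `C` of characteristic `p`. -/
theorem bij_of_charP (p : ℕ) [Fact p.Prime] (A : Type u) [CommRing A] [CharP A p]
    (B : Type v) [CommRing B] [Algebra A B] [CharP B p]
    (h : Function.Bijective (FrobAlg.relFrob p A B))
    (C : Type w) [CommRing C] [Algebra A C] [CharP C p] (I : Ideal C) (hI : I ^ 2 = ⊥) :
    Function.Bijective ((Ideal.Quotient.mkₐ A I).comp : (B →ₐ[A] C) → B →ₐ[A] C ⧸ I) := by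
  have hp : p.Prime := Fact.out
  have hI0 : ∀ i ∈ I, i ^ p = 0 := by
    intro i hi
    have h2 : i ^ 2 = 0 := by
      have : i ^ 2 ∈ I ^ 2 := Ideal.pow_mem_pow hi 2
      rw [hI] at this
      exact this
    exact pow_eq_zero_of_le hp.two_le h2
  have hpow : ∀ c c' : C, c - c' ∈ I → c ^ p = c' ^ p := by
    intro c c' hcc
    have : c = c' + (c - c') := by ring
    rw [this, add_pow_char, hI0 _ hcc, add_zero]
  constructor
  · -- injectivity
    intro g1 g2 h12
    apply AlgHom.ext
    intro x
    obtain ⟨t, rfl⟩ := h.2 x
    induction t using TensorProduct.induction_on with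
    | zero => simp
    | tmul b a =>
      rw [relFrob_tmul, map_mul, map_mul, map_pow, map_pow, AlgHom.commutes, AlgHom.commutes]
      congr 1
      apply hpow
      have := AlgHom.congr_fun h12 b
      simp only [AlgHom.comp_apply, Ideal.Quotient.mkₐ_eq_mk] at this
      exact Ideal.Quotient.eq.mp this
    | add t1 t2 h1 h2 => rw [map_add, map_add, map_add, h1, h2]
  · -- surjectivity
    intro gbar
    let Φ : C ⧸ I →+* C := Ideal.Quotient.lift I (frobenius C p) (fun i hi => by
      rw [frobenius_def]; exact hI0 i hi)
    have hΦ : ∀ c : C, Φ (Ideal.Quotient.mk I c) = c ^ p := fun c => by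
      simp only [Φ, Ideal.Quotient.lift_mk, frobenius_def]
    let f : B →ₐ[A] Target p A C :=
      { toRingHom := ((toTarget p A C : C →+* Target p A C).comp Φ).comp gbar.toRingHom
        commutes' := by
          intro a
          change toTarget p A C (Φ (gbar (algebraMap A B a))) = _
          rw [AlgHom.commutes, algebraMap_target, IsScalarTower.algebraMap_apply A C (C ⧸ I),
            Ideal.Quotient.algebraMap_eq, hΦ] }
    let ψ : BaseChange p A B →ₐ[A] Target p A C :=
      Algebra.TensorProduct.lift f (inclHom p A C) (fun _ _ => Commute.all _ _)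
    let e : BaseChange p A B ≃+* B := RingEquiv.ofBijective (FrobAlg.relFrob p A B) h
    let g0 : B →+* C := ((toTarget p A C).symm : Target p A C →+* C).comp
      ((ψ : BaseChange p A B →+* Target p A C).comp (e.symm : B →+* BaseChange p A B))
    have hg0 : ∀ t, g0 (FrobAlg.relFrob p A B t) = (toTarget p A C).symm (ψ t) := by
      intro t
      simp only [g0, RingHom.coe_comp, Function.comp_apply, RingHom.coe_coe]
      congr 2
      exact e.symm_apply_apply t
    have hψ : ∀ (b : B) (a : Twist p A), (toTarget p A C).symm (ψ (b ⊗ₜ[A] a)) =
        Φ (gbar b) * algebraMap A C ((toTwist p A).symm a) := by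
      intro b a
      simp only [ψ, Algebra.TensorProduct.lift_tmul, map_mul]
      rfl
    let g : B →ₐ[A] C :=
      { toRingHom := g0
        commutes' := by
          intro a
          have : algebraMap A B a = FrobAlg.relFrob p A B ((1 : B) ⊗ₜ[A] toTwist p A a) := by
            rw [relFrob_tmul, one_pow, one_mul, RingEquiv.symm_apply_apply]
          change g0 (algebraMap A B a) = _
          rw [this, hg0, hψ, map_one, map_one, one_mul, RingEquiv.symm_apply_apply] }
    refine ⟨g, ?_⟩
    apply AlgHom.ext
    intro x
    obtain ⟨t, rfl⟩ := h.2 x
    change Ideal.Quotient.mk I (g0 (FrobAlg.relFrob p A B t)) = gbar (FrobAlg.relFrob p A B t)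
    induction t using TensorProduct.induction_on with
    | zero => simp
    | tmul b a =>
      rw [hg0, hψ, relFrob_tmul, map_mul, map_mul, map_pow, AlgHom.commutes]
      congr 1
      obtain ⟨c, hc⟩ := Ideal.Quotient.mk_surjective (gbar b)
      rw [← hc, hΦ, map_pow]
    | add t1 t2 h1 h2 => rw [map_add, map_add, map_add, map_add, h1, h2]

/-- Let A be a commutative ring of prime characteristic p and B a commutative A-algebra of
characteristic p such that the relative Frobenius B ⊗_{A,Frob} A → B, b ⊗ a ↦ b^p a, is bijective
(that is, Spec B → Spec A is relatively perfect; no finiteness condition is imposed). Then B is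
formally étale over A. (The source proves that every perfect algebraic stack over an algebraic space
of characteristic p is formally étale over it; this is the case of an affine scheme over an affine
base.) -/
theorem formallyEtale_of_bijective_relFrob (p : ℕ) [Fact p.Prime] (A : Type u) [CommRing A] [CharP A p]
    (B : Type v) [CommRing B] [Algebra A B] [CharP B p]
    (h : Function.Bijective (FrobAlg.relFrob p A B)) : Algebra.FormallyEtale A B := by
  rw [Algebra.FormallyEtale.iff_comp_bijective]
  intro C _ _ I hI
  have hp : p.Prime := Fact.out
  rcases subsingleton_or_nontrivial C with hC | hC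
  · constructor
    · intro g1 g2 _
      apply AlgHom.ext
      intro x
      exact Subsingleton.elim _ _
    · intro gbar
      refine ⟨{ toFun := fun _ => 0
                map_one' := Subsingleton.elim _ _
                map_mul' := fun _ _ => Subsingleton.elim _ _
                map_zero' := rfl
                map_add' := fun _ _ => Subsingleton.elim _ _
                commutes' := fun _ => Subsingleton.elim _ _ }, ?_⟩
      apply AlgHom.ext
      intro x
      exact Subsingleton.elim _ _
  · have hp0 : (p : C) = 0 := by
      have : (p : C) = algebraMap A C (p : A) := (map_natCast (algebraMap A C) p).symm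
      rw [this, CharP.cast_eq_zero, map_zero]
    have : CharP C p := (CharP.charP_iff_prime_eq_zero hp).mpr hp0
    exact bij_of_charP p A B h C I hI

end Groth.Agent.Lib.Helper6.FrobEtale
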