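import Mathlib
import Groth.Prelude.Def_FrobAlg
import Groth.Agent.Lib.Helper6FrobEtale

set_option autoImplicit false
universe u v w

namespace Groth.Agent.Lib.Helper6.RelFrobFlat

open FrobAlg TensorProduct MvPolynomial

section Expand

variable (σ : Type w) [Fintype σ] (R : Type u) [CommRing R] (p : ℕ) [NeZero p]

/-- The bijection `(e, m) ↦ p • m + e`. -/
noncomputable def idxEquiv : (Σ _ : σ → Fin p, (σ →₀ ℕ)) ≃ (σ →₀ ℕ) where
  toFun x := p • x.2 + Finsupp.equivFunOnFinite.symm (fun i => (x.1 i : ℕ))
  invFun n := ⟨fun i => ⟨n i % p, Nat.mod_lt _ (NeZero.pos p)⟩,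
    n.mapRange (· / p) (Nat.zero_div p)⟩
  left_inv := by
    rintro ⟨e, m⟩
    refine Sigma.ext ?_ (heq_of_eq ?_)
    · funext i
      apply Fin.ext
      simp [Nat.add_mod, Nat.mod_eq_of_lt (e i).2]
    · ext i
      simp [Nat.add_div (NeZero.pos p), Nat.mod_eq_of_lt (e i).2, Nat.div_eq_of_lt (e i).2,
        Nat.mul_div_cancel_left _ (NeZero.pos p)]
  right_inv := by
    intro n
    ext i
    simp [Nat.div_add_mod]

theorem idxEquiv_apply (e : σ → Fin p) (m : σ →₀ ℕ) :
    idxEquiv σ p ⟨e, m⟩ = p • m + Finsupp.equivFunOnFinite.symm (fun i => (e i : ℕ)) := rfl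

/-- the monomial `X^e`. -/
noncomputable def mon (e : σ → Fin p) : MvPolynomial σ R :=
  monomial (Finsupp.equivFunOnFinite.symm (fun i => (e i : ℕ))) 1

/-- The `R`-linear map `(f_e)_e ↦ ∑ expand p (f_e) * X^e`. -/
noncomputable def Psi : ((σ → Fin p) →₀ MvPolynomial σ R) →ₗ[R] MvPolynomial σ R :=
  Finsupp.lsum R (fun e => (LinearMap.mulRight R (mon σ R p e)).comp (expand p).toLinearMap)

omit [NeZero p] in
theorem Psi_single (e : σ → Fin p) (f : MvPolynomial σ R) :
    Psi σ R p (Finsupp.single e f) = expand p f * mon σ R p e := by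
  simp [Psi]

theorem Psi_eq : Psi σ R p =
    ((Finsupp.basis (fun _ : σ → Fin p => basisMonomials σ R)).equiv (basisMonomials σ R)
      (idxEquiv σ p)).toLinearMap := by
  apply (Finsupp.basis (fun _ : σ → Fin p => basisMonomials σ R)).ext
  rintro ⟨e, m⟩
  rw [LinearEquiv.coe_coe, Module.Basis.equiv_apply, Finsupp.coe_basis]
  simp only [coe_basisMonomials]
  rw [Psi_single, expand_monomial, mon, monomial_mul, one_mul, idxEquiv_apply]

theorem Psi_bijective : Function.Bijective (Psi σ R p) := by
  rw [Psi_eq]
  exact LinearEquiv.bijective _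

/-- Any ring `S` over `P = R[X_σ]` which is `expand p` up to a ring isomorphism is free. -/
theorem free_of_expand (S : Type v) [CommRing S] [Algebra (MvPolynomial σ R) S]
    (ε : S ≃+* MvPolynomial σ R)
    (h : ∀ f : MvPolynomial σ R, ε (algebraMap (MvPolynomial σ R) S f) = expand p f) :
    Module.Free (MvPolynomial σ R) S := by
  let L : ((σ → Fin p) →₀ MvPolynomial σ R) →ₗ[MvPolynomial σ R] S :=
    Finsupp.linearCombination (MvPolynomial σ R) (fun e => ε.symm (mon σ R p e))
  have hL : ∀ x, ε (L x) = Psi σ R p x := by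
    intro x
    induction x using Finsupp.induction_linear with
    | zero => simp
    | add x y hx hy => rw [map_add, map_add, map_add, hx, hy]
    | single e f =>
      rw [Psi_single, Finsupp.linearCombination_single, Algebra.smul_def, map_mul, h,
        RingEquiv.apply_symm_apply]
  have hbij : Function.Bijective L := by
    have : (L : _ → S) = ε.symm ∘ (Psi σ R p) := by
      funext x
      rw [Function.comp_apply, ← hL, RingEquiv.symm_apply_apply]
    rw [this]
    exact ε.symm.bijective.comp (Psi_bijective σ R p)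
  exact Module.Free.of_equiv (LinearEquiv.ofBijective L hbij)

theorem expand_flat : ((expand p : MvPolynomial σ R →ₐ[R] MvPolynomial σ R) :
    MvPolynomial σ R →+* MvPolynomial σ R).Flat := by
  letI alg : Algebra (MvPolynomial σ R) (MvPolynomial σ R) :=
    ((expand p : MvPolynomial σ R →ₐ[R] MvPolynomial σ R) :
      MvPolynomial σ R →+* MvPolynomial σ R).toAlgebra
  have hfree : @Module.Free (MvPolynomial σ R) (MvPolynomial σ R) _ _ alg.toModule :=
    @free_of_expand σ _ R _ p _ (MvPolynomial σ R) _ alg (RingEquiv.refl _) (fun f => rfl)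
  exact @Module.Flat.of_free (MvPolynomial σ R) (MvPolynomial σ R) _ _ alg.toModule hfree

end Expand



section Poly

variable (p : ℕ) [Fact p.Prime] (A : Type u) [CommRing A] [CharP A p]
  (σ : Type w) [Fintype σ]

/-- the ring isomorphism `A[X] ⊗_A A^{Frob} ≃ A[X]`, `f ⊗ t ↦ t · f^{(p)}`. -/
noncomputable def polyEquiv : BaseChange p A (MvPolynomial σ A) ≃+* MvPolynomial σ A :=
  ((Algebra.TensorProduct.comm A (MvPolynomial σ A) (Twist p A)).toRingEquiv.trans
    (algebraTensorAlgEquiv (σ := σ) A (Twist p A)).toRingEquiv).trans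
    (mapEquiv σ (toTwist p A).symm)

omit [Fintype σ] in
theorem polyEquiv_tmul (f : MvPolynomial σ A) (t : Twist p A) :
    polyEquiv p A σ (f ⊗ₜ[A] t) = C ((toTwist p A).symm t) * map (frobenius A p) f := by
  have h1 : (Algebra.TensorProduct.comm A (MvPolynomial σ A) (Twist p A)).toRingEquiv (f ⊗ₜ[A] t)
      = t ⊗ₜ[A] f := Algebra.TensorProduct.comm_tmul A f t
  have h2 : (algebraTensorAlgEquiv (σ := σ) A (Twist p A)).toRingEquiv (t ⊗ₜ[A] f) =
      t • MvPolynomial.map (algebraMap A (Twist p A)) f := algebraTensorAlgEquiv_tmul A _ t f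
  simp only [polyEquiv, RingEquiv.trans_apply, mapEquiv_apply]
  rw [h1, h2, smul_eq_C_mul, map_mul, map_C, MvPolynomial.map_map]
  rfl

omit [Fintype σ] in
theorem relFrob_poly_eq : relFrob p A (MvPolynomial σ A) =
    ((expand p : MvPolynomial σ A →ₐ[A] MvPolynomial σ A) :
      MvPolynomial σ A →+* MvPolynomial σ A).comp (polyEquiv p A σ : _ →+* _) := by
  apply RingHom.ext
  intro x
  induction x using TensorProduct.induction_on with
  | zero => simp
  | add x y hx hy => rw [map_add, map_add, hx, hy]
  | tmul f t =>
    rw [FrobEtale.relFrob_tmul, RingHom.comp_apply, RingEquiv.coe_toRingHom, polyEquiv_tmul,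
      RingHom.coe_coe, map_mul, expand_C, ← map_expand, map_frobenius_expand, mul_comm]
    rfl

theorem relFrob_poly_flat : (relFrob p A (MvPolynomial σ A)).Flat := by
  haveI : NeZero p := ⟨(Fact.out : p.Prime).ne_zero⟩
  rw [relFrob_poly_eq]
  exact RingHom.Flat.comp (.of_bijective (polyEquiv p A σ).bijective) (expand_flat σ A p)

end Poly

section Abstract

/-- A commutative square `P' → C'`, `P' → P`, `C' → C`, `P → C` with both `P' → C'` and `P → C`
étale and `P' → P` flat has `C' → C` flat. -/
theorem flat_of_etale_square {P' : Type*} {C' : Type*} {P : Type*} {C : Type*}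
    [CommRing P'] [CommRing C'] [CommRing P] [CommRing C]
    (f' : P' →+* C') (FP : P' →+* P) (FC : C' →+* C) (f : P →+* C)
    (comm : FC.comp f' = f.comp FP) (hf' : f'.Etale) (hf : f.Etale) (hFP : FP.Flat) :
    FC.Flat := by
  algebraize [f', FP, FC, f, f.comp FP]
  haveI : IsScalarTower P' P C := .of_algebraMap_eq' rfl
  haveI : IsScalarTower P' C' C := .of_algebraMap_eq' comm.symm
  let ψ : P ⊗[P'] C' →ₐ[P] C := Algebra.TensorProduct.lift (Algebra.ofId P C)
    (IsScalarTower.toAlgHom P' C' C) (fun _ _ => Commute.all _ _)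
  letI : Algebra (P ⊗[P'] C') C := ψ.toRingHom.toAlgebra
  haveI : IsScalarTower P (P ⊗[P'] C') C := .of_algebraMap_eq (fun x => (ψ.commutes x).symm)
  haveI : Algebra.Etale (P ⊗[P'] C') C := Algebra.Etale.of_restrictScalars P _ _
  haveI : Module.Flat (P ⊗[P'] C') C := inferInstance
  letI : Algebra C' (P ⊗[P'] C') := Algebra.TensorProduct.rightAlgebra
  haveI : Module.Flat C' (P ⊗[P'] C') :=
    Module.Flat.isBaseChange (R := P') (M := P) (S := C') (P ⊗[P'] C')
      (TensorProduct.isPushout' (R := P') (S := P) (T := C')).out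
  haveI : IsScalarTower C' (P ⊗[P'] C') C := .of_algebraMap_eq (fun x => by
    change algebraMap C' C x = ψ ((1 : P) ⊗ₜ[P'] x)
    simp [ψ])
  exact Module.Flat.trans C' (P ⊗[P'] C') C

end Abstract

section Natural

variable (p : ℕ) [Fact p.Prime] (A : Type u) [CommRing A] [CharP A p]
  {B : Type v} [CommRing B] [Algebra A B] [CharP B p]
  {C : Type w} [CommRing C] [Algebra A C] [CharP C p]

/-- the induced map on Frobenius twists. -/
noncomputable def twistMap (φ : B →ₐ[A] C) : BaseChange p A B →ₐ[A] BaseChange p A C :=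
  Algebra.TensorProduct.map φ (AlgHom.id A (Twist p A))

omit [CharP B p] [CharP C p] in
theorem twistMap_tmul (φ : B →ₐ[A] C) (b : B) (t : Twist p A) :
    twistMap p A φ (b ⊗ₜ[A] t) = φ b ⊗ₜ[A] t := by
  simp [twistMap]

theorem relFrob_natural (φ : B →ₐ[A] C) (x : BaseChange p A B) :
    relFrob p A C (twistMap p A φ x) = φ (relFrob p A B x) := by
  induction x using TensorProduct.induction_on with
  | zero => simp
  | add x y hx hy => rw [map_add, map_add, map_add, map_add, hx, hy]
  | tmul b t =>
    rw [twistMap_tmul, FrobEtale.relFrob_tmul, FrobEtale.relFrob_tmul, map_mul, map_pow,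
      AlgHom.commutes]

theorem relFrob_natural' (φ : B →ₐ[A] C) :
    (relFrob p A C).comp (twistMap p A φ : BaseChange p A B →+* BaseChange p A C) =
      (φ : B →+* C).comp (relFrob p A B) :=
  RingHom.ext (relFrob_natural p A φ)

end Natural

section Etale

variable (p : ℕ) [Fact p.Prime] (A : Type u) [CommRing A] [CharP A p]
  (P : Type v) [CommRing P] [Algebra A P]
  (C : Type w) [CommRing C] [Algebra A C]
  [Algebra P C] [IsScalarTower A P C] [Algebra.Etale P C]

theorem twistMap_etale :
    (twistMap p A (IsScalarTower.toAlgHom A P C) : BaseChange p A P →+* BaseChange p A C).Etale := by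
  letI alg : Algebra (BaseChange p A P) (BaseChange p A C) :=
    (twistMap p A (IsScalarTower.toAlgHom A P C) : BaseChange p A P →+* BaseChange p A C).toAlgebra
  haveI tw : IsScalarTower P (BaseChange p A P) (BaseChange p A C) :=
    IsScalarTower.of_algebraMap_eq (fun x => by
      change (algebraMap P C x) ⊗ₜ[A] (1 : Twist p A) =
        twistMap p A (IsScalarTower.toAlgHom A P C) (x ⊗ₜ[A] (1 : Twist p A))
      rw [twistMap_tmul]
      rfl)
  haveI po : Algebra.IsPushout P C (BaseChange p A P) (BaseChange p A C) :=
    Algebra.IsPushout.tensorProduct_tensorProduct A (Twist p A) P C (by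
      apply RingHom.ext
      intro t
      change twistMap p A (IsScalarTower.toAlgHom A P C) ((1 : P) ⊗ₜ[A] t) = (1 : C) ⊗ₜ[A] t
      rw [twistMap_tmul, map_one])
  haveI po' : Algebra.IsPushout P (BaseChange p A P) C (BaseChange p A C) := po.symm
  show Algebra.Etale (BaseChange p A P) (BaseChange p A C)
  exact Algebra.Etale.of_equiv (Algebra.IsPushout.equiv P (BaseChange p A P) C (BaseChange p A C))

variable [CharP P p] [CharP C p]

theorem relFrob_flat_of_etale (hP : (relFrob p A P).Flat) : (relFrob p A C).Flat :=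
  flat_of_etale_square
    (twistMap p A (IsScalarTower.toAlgHom A P C) : BaseChange p A P →+* BaseChange p A C)
    (relFrob p A P) (relFrob p A C) (algebraMap P C)
    (relFrob_natural' p A (IsScalarTower.toAlgHom A P C))
    (twistMap_etale p A P C) (RingHom.etale_algebraMap.mpr inferInstance) hP

end Etale


section Main

variable (p : ℕ) [Fact p.Prime] (A : Type u) [CommRing A] [CharP A p]
  {B : Type v} [CommRing B] [Algebra A B] [CharP B p]
  {C : Type w} [CommRing C] [Algebra A C] [CharP C p]

omit [CharP B p] [CharP C p] in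
theorem twistMap_flat (φ : B →ₐ[A] C) (hφ : (φ : B →+* C).Flat) :
    (twistMap p A φ : BaseChange p A B →+* BaseChange p A C).Flat :=
  RingHom.Flat.tensorProductMap (f := φ) (g := AlgHom.id A (Twist p A)) hφ (RingHom.Flat.id _)

/-- If `φ : B → C` is flat and `F_C` is flat then `φ ∘ F_B` is flat. -/
theorem comp_relFrob_flat (φ : B →ₐ[A] C) (hφ : (φ : B →+* C).Flat)
    (hC : (relFrob p A C).Flat) : ((φ : B →+* C).comp (relFrob p A B)).Flat := by
  rw [← relFrob_natural']
  exact RingHom.Flat.comp (twistMap_flat p A φ hφ) hC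

end Main

section Final

variable (p : ℕ) [Fact p.Prime] (A : Type u) [CommRing A] [CharP A p]
  (B : Type v) [CommRing B] [Algebra A B] [CharP B p] [Algebra.Smooth A B]

theorem main : (relFrob p A B).Flat := by
  have hp : p.Prime := Fact.out
  letI algB'B : Algebra (BaseChange p A B) B := (relFrob p A B).toAlgebra
  show Module.Flat (BaseChange p A B) B
  let s : Set B := {g | Module.Flat (BaseChange p A B) (Localization.Away g)}
  have hs : Ideal.span s = ⊤ := by
    by_contra h
    obtain ⟨m, hm, hsm⟩ := Ideal.exists_le_maximal _ h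
    haveI : m.IsPrime := hm.isPrime
    haveI : Algebra.IsSmoothAt A m := by
      have := Algebra.smoothLocus_eq_univ (R := A) (A := B)
      have hmem : (⟨m, inferInstance⟩ : PrimeSpectrum B) ∈ Algebra.smoothLocus A B := by
        rw [this]; trivial
      exact hmem
    obtain ⟨f, hf, n, alg, tower, hse⟩ :=
      Algebra.IsSmoothAt.exists_isStandardEtale_mvPolynomial (R := A) (S := B) (p := m)
    apply hf
    apply hsm
    apply Ideal.subset_span
    show Module.Flat (BaseChange p A B) (Localization.Away f)
    haveI hnt : Nontrivial (Localization.Away f) := by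
      rw [← not_subsingleton_iff_nontrivial,
        IsLocalization.subsingleton_iff (M := Submonoid.powers f) (S := Localization.Away f)]
      rintro ⟨k, hk⟩
      apply hf
      have : f ^ k ∈ m := by
        change f ^ k = 0 at hk
        rw [hk]; exact m.zero_mem
      exact Ideal.IsPrime.mem_of_pow_mem inferInstance k this
    haveI hchar : CharP (Localization.Away f) p := by
      rw [CharP.charP_iff_prime_eq_zero hp]
      have : ((p : ℕ) : Localization.Away f) = algebraMap B (Localization.Away f) ((p : ℕ) : B) :=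
        (map_natCast (algebraMap B (Localization.Away f)) p).symm
      rw [this, CharP.cast_eq_zero, map_zero]
    have h4 : (relFrob p A (Localization.Away f)).Flat :=
      relFrob_flat_of_etale p A (MvPolynomial (Fin n) A) (Localization.Away f)
        (relFrob_poly_flat p A (Fin n))
    have hloc : ((IsScalarTower.toAlgHom A B (Localization.Away f)) :
        B →+* Localization.Away f).Flat := by
      have : ((IsScalarTower.toAlgHom A B (Localization.Away f)) :
        B →+* Localization.Away f) = algebraMap B (Localization.Away f) := rfl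
      rw [this, RingHom.flat_algebraMap_iff]
      exact IsLocalization.flat (Localization.Away f) (Submonoid.powers f)
    have h5 := comp_relFrob_flat p A (IsScalarTower.toAlgHom A B (Localization.Away f)) hloc h4
    have h6 : algebraMap (BaseChange p A B) (Localization.Away f) =
        ((IsScalarTower.toAlgHom A B (Localization.Away f)) :
        B →+* Localization.Away f).comp (relFrob p A B) :=
      IsScalarTower.algebraMap_eq (BaseChange p A B) B (Localization.Away f)
    rw [← RingHom.flat_algebraMap_iff, h6]
    exact h5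
  exact Module.flat_of_isLocalized_span (R := BaseChange p A B) B B s hs
    (fun g => Localization.Away g.1)
    (fun g => Algebra.linearMap B (Localization.Away g.1)) (fun g => g.2)

end Final

end Groth.Agent.Lib.Helper6.RelFrobFlat
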