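import Mathlib
import Groth.Agent.Lib.Helper12FrobTowerC
import Groth.Agent.Lib.Helper18RelFrob
import Groth.Agent.Lib.Helper6RelFrobFlat

set_option autoImplicit false
universe u
open CategoryTheory CategoryTheory.Limits Polynomial TensorProduct

namespace Groth.Agent.Lib.Helper12.RootTower

variable {p : ℕ} [Fact p.Prime]

/-- For an étale algebra in characteristic `p`, the Frobenius square is a pushout
(the relative Frobenius is an isomorphism). -/
lemma isPushout_frobenius_of_etale (P C : Type u) [CommRing P] [CommRing C] [CharP P p] [CharP C p]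
    [Algebra P C] [Algebra.Etale P C] :
    IsPushout (CommRingCat.ofHom (frobenius P p)) (CommRingCat.ofHom (algebraMap P C))
      (CommRingCat.ofHom (algebraMap P C)) (CommRingCat.ofHom (frobenius C p)) := by
  have hbij := Groth.Agent.Lib.Helper18RelFrob.relFrob_bijective_of_etale p P C
  have h0 := CommRingCat.isPushout_tensorProduct P C (FrobAlg.Twist p P)
  refine (h0.of_iso (Iso.refl _) (Iso.refl _) (FrobAlg.toTwist p P).symm.toCommRingCatIso
    (RingEquiv.ofBijective (FrobAlg.relFrob p P C) hbij).toCommRingCatIso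
    (f' := CommRingCat.ofHom (algebraMap P C)) (g' := CommRingCat.ofHom (frobenius P p))
    (inl' := CommRingCat.ofHom (frobenius C p)) (inr' := CommRingCat.ofHom (algebraMap P C))
    ?_ ?_ ?_ ?_).flip
  · simp
  · ext x
    change (FrobAlg.toTwist p P).symm (algebraMap P (FrobAlg.Twist p P) x) = x ^ p
    rw [FrobAlg.algebraMap_twist, RingEquiv.symm_apply_apply]
  · ext c
    change FrobAlg.relFrob p P C (c ⊗ₜ[P] (1 : FrobAlg.Twist p P)) = c ^ p
    rw [Groth.Agent.S16001.relFrob_tmul]
    simp
  · ext t
    change FrobAlg.relFrob p P C ((1 : C) ⊗ₜ[P] t) = algebraMap P C ((FrobAlg.toTwist p P).symm t)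
    rw [Groth.Agent.S16001.relFrob_tmul]
    simp

lemma IsTowerHom.frobenius_of_etale {P C : Type u} [CommRing P] [CommRing C] [CharP P p]
    [CharP C p] [Algebra P C] [Algebra.Etale P C] {n : ℕ} (h : IsTowerHom p n (frobenius P p)) :
    IsTowerHom p n (frobenius C p) :=
  IsTowerHom.of_isPushout n h (isPushout_frobenius_of_etale P C)

lemma comap_frobenius_eq (A : Type u) [CommRing A] [CharP A p] (q : PrimeSpectrum A) :
    PrimeSpectrum.comap (frobenius A p) q = q := by
  have hp : p ≠ 0 := (Fact.out : p.Prime).ne_zero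
  ext x
  change x ^ p ∈ q.asIdeal ↔ x ∈ q.asIdeal
  exact q.2.pow_mem_iff_mem p (Nat.pos_of_ne_zero hp)

lemma comap_frobenius_surjective (A : Type u) [CommRing A] [CharP A p] :
    Function.Surjective (PrimeSpectrum.comap (frobenius A p)) :=
  fun q => ⟨q, comap_frobenius_eq A q⟩

/-- The Frobenius of a smooth algebra over a perfect field is faithfully flat. -/
lemma frobenius_faithfullyFlat_of_smooth (k : Type u) [Field k] [CharP k p] [PerfectRing k p]
    (A : Type u) [CommRing A] [Algebra k A] [CharP A p] [Algebra.Smooth k A] :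
    (frobenius A p).FaithfullyFlat := by
  rw [RingHom.FaithfullyFlat.iff_flat_and_comap_surjective]
  refine ⟨?_, comap_frobenius_surjective A⟩
  have hb : Function.Bijective (algebraMap k (FrobAlg.Twist p k)) :=
    (FrobAlg.toTwist p k).bijective.comp (bijective_frobenius k p)
  let e0 : k ≃ₐ[k] FrobAlg.Twist p k := AlgEquiv.ofBijective (Algebra.ofId k _) hb
  let e : A ≃ₐ[k] FrobAlg.BaseChange p k A :=
    (Algebra.TensorProduct.rid k k A).symm.trans (Algebra.TensorProduct.congr AlgEquiv.refl e0)
  let ι : A →+* FrobAlg.BaseChange p k A := Algebra.TensorProduct.includeLeftRingHom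
  have hι : Function.Bijective ι := by
    have : (ι : A → _) = e := by
      funext a
      simp [ι, e, e0]
    rw [this]
    exact e.bijective
  have hfac : frobenius A p = (FrobAlg.relFrob p k A).comp ι := by
    refine RingHom.ext fun a => ?_
    change a ^ p = FrobAlg.relFrob p k A (a ⊗ₜ[k] (1 : FrobAlg.Twist p k))
    rw [Groth.Agent.S16001.relFrob_tmul]
    simp
  rw [hfac]
  exact RingHom.Flat.comp (RingHom.Flat.of_bijective hι)
    (Groth.Agent.Lib.Helper6.RelFrobFlat.main p k A)

end Groth.Agent.Lib.Helper12.RootTower
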