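import Mathlib
import Groth.Agent.Lib.Helper12RootTowerD

set_option autoImplicit false
universe u
open CategoryTheory CategoryTheory.Limits AlgebraicGeometry

namespace Groth.Agent.Lib.Helper12.RootTower

variable {p : ℕ}

/-- Being a `p`-th root morphism is local on the target (in the form: it can be checked on
pullbacks along open immersions covering the target). -/
lemma isPthRoot_of_locally {V Z : Scheme.{u}} (r : V ⟶ Z)
    (H : ∀ z : Z, ∃ (Z' V' : Scheme.{u}) (h : Z' ⟶ Z) (fst : V' ⟶ V) (r' : V' ⟶ Z'),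
      IsOpenImmersion h ∧ z ∈ Set.range h ∧ IsPullback fst r' r h ∧ Quiet.IsPthRoot p r') :
    Quiet.IsPthRoot p r := by
  intro z
  obtain ⟨Z', V', h, fst, r', hh, ⟨z', rfl⟩, sq, hr'⟩ := H z
  haveI := hh
  haveI : IsOpenImmersion fst := MorphismProperty.of_isPullback (P := @IsOpenImmersion) sq.flip hh
  obtain ⟨U', hz', hN', n, hn⟩ := hr' z'
  have Heq : fst ''ᵁ (r' ⁻¹ᵁ U'.1) = r ⁻¹ᵁ (h ''ᵁ U'.1) :=
    IsOpenImmersion.image_preimage_eq_preimage_image_of_isPullback sq.flip U'.1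
  refine ⟨⟨h ''ᵁ U'.1, U'.2.image_of_isOpenImmersion h⟩, ⟨z', hz', rfl⟩, ?_, n, ?_⟩
  · rw [← Heq]
    exact hN'.image_of_isOpenImmersion fst
  · rw [isRootTower_toAlgebra_iff] at hn ⊢
    have key := IsOpenImmersion.app_eq_appIso_inv_app_of_comp_eq r' h (fst ≫ r) sq.w U'.1
    rw [Scheme.Hom.comp_app] at key
    have haux : r' ⁻¹ᵁ U'.1 = fst ⁻¹ᵁ r ⁻¹ᵁ (h ''ᵁ U'.1) :=
      IsOpenImmersion.app_eq_invApp_app_of_comp_eq_aux r' h (fst ≫ r) sq.w U'.1
    haveI : IsIso (fst.app (r ⁻¹ᵁ (h ''ᵁ U'.1))) := by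
      apply Scheme.Hom.isIso_app
      rw [← Heq]
      exact fst.image_le_opensRange _
    have sq' : IsPushout (r'.app U'.1) (h.appIso U'.1).inv
        (inv (fst.app (r ⁻¹ᵁ (h ''ᵁ U'.1)) ≫ V'.presheaf.map (eqToHom haux).op))
        (r.app (h ''ᵁ U'.1)) := by
      refine IsPushout.of_vert_isIso ⟨?_⟩
      rw [IsIso.comp_inv_eq, Category.assoc, key]
      exact congrArg (fun t => (h.appIso U'.1).inv ≫ t) (Category.assoc _ _ _)
    exact IsTowerHom.of_isPushout' n hn sq'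

end Groth.Agent.Lib.Helper12.RootTower
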