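import Mathlib
import Groth.Agent.Lib.Helper12FrobTowerD
import Groth.Agent.Lib.Helper12FrobTowerE

set_option autoImplicit false
universe u
open CategoryTheory CategoryTheory.Limits AlgebraicGeometry

namespace Groth.Agent.Lib.Helper12.RootTower

variable {p : ℕ} [Fact p.Prime]

lemma isPushout_frobenius_localization (A : Type u) [CommRing A] [CharP A p] (g : A)
    [CharP (Localization.Away g) p] :
    IsPushout (CommRingCat.ofHom (frobenius A p))
      (CommRingCat.ofHom (algebraMap A (Localization.Away g)))
      (CommRingCat.ofHom (algebraMap A (Localization.Away g)))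
      (CommRingCat.ofHom (frobenius (Localization.Away g) p)) := by
  have hp : p ≠ 0 := (Fact.out : p.Prime).ne_zero
  haveI : IsLocalization ((Submonoid.powers g).map (frobenius A p)) (Localization.Away g) := by
    rw [Submonoid.map_powers, frobenius_def]
    refine (IsLocalization.iff_of_le_of_exists_dvd (Submonoid.powers (g ^ p)) (Submonoid.powers g)
      ?_ ?_).mpr inferInstance
    · rw [Submonoid.powers_le]
      exact ⟨p, rfl⟩
    · rintro _ ⟨k, rfl⟩
      refine ⟨(g ^ p) ^ k, ⟨k, rfl⟩, ?_⟩
      rw [← pow_mul, mul_comm, pow_mul]
      exact dvd_pow_self _ hp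
  exact CommRingCat.isPushout_of_isLocalization (frobenius A p) (frobenius (Localization.Away g) p)
    (by ext x; simp [frobenius_def]) (Submonoid.powers g)

end Groth.Agent.Lib.Helper12.RootTower

namespace Groth.Agent.Lib.Helper12.RootTower

variable {p : ℕ} [Fact p.Prime]

lemma charP_localizationAway (A : Type u) [CommRing A] [CharP A p] (g : A) (q : Ideal A)
    [q.IsPrime] (hg : g ∉ q) : CharP (Localization.Away g) p := by
  have hp : p.Prime := Fact.out
  haveI hnt : Nontrivial (Localization.Away g) := by
    rw [← not_subsingleton_iff_nontrivial,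
      IsLocalization.subsingleton_iff (M := Submonoid.powers g) (S := Localization.Away g)]
    rintro ⟨k, hk⟩
    apply hg
    have : g ^ k ∈ q := by
      change g ^ k = 0 at hk
      rw [hk]; exact q.zero_mem
    exact Ideal.IsPrime.mem_of_pow_mem inferInstance k this
  rw [CharP.charP_iff_prime_eq_zero hp]
  have : ((p : ℕ) : Localization.Away g) = algebraMap A (Localization.Away g) ((p : ℕ) : A) :=
    (map_natCast (algebraMap A (Localization.Away g)) p).symm
  rw [this, CharP.cast_eq_zero, map_zero]

/-- The Frobenius of a smooth algebra over a perfect field is a `p`-th root morphism. -/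
lemma isPthRoot_frobenius_of_smooth (k : Type u) [Field k] [CharP k p] [PerfectRing k p]
    (A : Type u) [CommRing A] [Algebra k A] [CharP A p] [Algebra.Smooth k A] :
    Quiet.IsPthRoot p (Spec.map (CommRingCat.ofHom (frobenius A p))) := by
  apply isPthRoot_of_locally
  intro z
  haveI : Algebra.IsSmoothAt k z.asIdeal := by
    have := Algebra.smoothLocus_eq_univ (R := k) (A := A)
    have hmem : (⟨z.asIdeal, inferInstance⟩ : PrimeSpectrum A) ∈ Algebra.smoothLocus k A := by
      rw [this]; trivial
    exact hmem
  obtain ⟨g, hg, n, alg, tower, hse⟩ :=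
    Algebra.IsSmoothAt.exists_isStandardEtale_mvPolynomial (R := k) (S := A) (p := z.asIdeal)
  haveI : CharP (Localization.Away g) p := charP_localizationAway A g z.asIdeal hg
  obtain ⟨N, hN⟩ := exists_isTowerHom_frobenius_mvPolynomial_of_perfect (p := p) k n
  have hC : IsTowerHom p N (frobenius (Localization.Away g) p) := hN.frobenius_of_etale
  have sqr := isPushout_frobenius_localization (p := p) A g
  refine ⟨_, _, Spec.map (CommRingCat.ofHom (algebraMap A (Localization.Away g))),
    Spec.map (CommRingCat.ofHom (algebraMap A (Localization.Away g))),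
    Spec.map (CommRingCat.ofHom (frobenius (Localization.Away g) p)), ?_, ?_,
    isPullback_SpecMap_of_isPushout _ _ _ _ sqr, isPthRoot_SpecMap _ hC⟩
  · exact IsOpenImmersion.of_isLocalization g
  · change z ∈ Set.range (PrimeSpectrum.comap (algebraMap A (Localization.Away g)))
    rw [PrimeSpectrum.localization_away_comap_range (Localization.Away g) g]
    exact hg

end Groth.Agent.Lib.Helper12.RootTower
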