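import Mathlib
import Groth.Agent.Lib.Helper12RootTowerD

set_option autoImplicit false
universe u
open CategoryTheory CategoryTheory.Limits AlgebraicGeometry Polynomial

namespace Groth.Agent.Lib.Helper12.RootTower

variable {p : ℕ}

/-- **`p`-th root morphisms are stable under base change.** -/
lemma isPthRoot_of_isPullback {V Z V' Z' : Scheme.{u}} (r : V ⟶ Z) (h : Z' ⟶ Z) (fst : V' ⟶ V)
    (r' : V' ⟶ Z') (H : IsPullback fst r' r h) (hr : Quiet.IsPthRoot p r) :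
    Quiet.IsPthRoot p r' := by
  intro z'
  obtain ⟨U, hzU, hN, n, hn⟩ := hr (h z')
  obtain ⟨_, ⟨U', hU', rfl⟩, hzU', hU'U⟩ :=
    Z'.isBasis_affineOpens.exists_subset_of_mem_open (show z' ∈ h ⁻¹ᵁ U.1 from hzU)
      (h ⁻¹ᵁ U.1).2
  have hUST : U' ≤ h ⁻¹ᵁ U.1 := hU'U
  have hUSX : r ⁻¹ᵁ U.1 ≤ r ⁻¹ᵁ U.1 := le_rfl
  have hUY : r' ⁻¹ᵁ U' = fst ⁻¹ᵁ (r ⁻¹ᵁ U.1) ⊓ r' ⁻¹ᵁ U' := by
    refine (inf_eq_right.mpr ?_).symm
    intro v hv
    change r (fst v) ∈ U.1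
    rw [← Scheme.Hom.comp_apply, H.w, Scheme.Hom.comp_apply]
    exact hU'U hv
  haveI := isIso_pushoutSection_of_isAffineOpen H hUST hUSX hUY U.2 hU' hN
  have sq := (isIso_pushoutSection_iff H hUST hUSX hUY).1 inferInstance
  have hY' : IsAffineOpen (r' ⁻¹ᵁ U') := by
    haveI : IsAffine (U.1 : Scheme.{u}) := U.2
    haveI : IsAffine (U' : Scheme.{u}) := hU'
    haveI : IsAffine ((r ⁻¹ᵁ U.1 : V.Opens) : Scheme.{u}) := hN
    exact .of_isIso (Scheme.Hom.isPullback_resLE H hUST hUSX hUY).isoPullback.hom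
  refine ⟨⟨U', hU'⟩, hzU', hY', n, ?_⟩
  rw [isRootTower_toAlgebra_iff] at hn ⊢
  rw [Scheme.Hom.app_eq_appLE] at hn ⊢
  exact IsTowerHom.of_isPushout' n hn sq

end Groth.Agent.Lib.Helper12.RootTower
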