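import Mathlib
import Groth.Agent.Lib.Helper12FrobTowerF
import Groth.Agent.Lib.Helper12RootTowerE

set_option autoImplicit false
universe u
open CategoryTheory CategoryTheory.Limits AlgebraicGeometry

namespace Groth.Agent.Lib.Helper12.RootTower

/-- `R'/(I R')` is the pushout of `R/I` along `R → R'`. -/
lemma isPushout_quotientMap {R R' : Type u} [CommRing R] [CommRing R'] (φ : R →+* R') (I : Ideal R) :
    IsPushout (CommRingCat.ofHom φ) (CommRingCat.ofHom (Ideal.Quotient.mk I))
      (CommRingCat.ofHom (Ideal.Quotient.mk (I.map φ)))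
      (CommRingCat.ofHom (Ideal.quotientMap (I.map φ) φ Ideal.le_comap_map)) := by
  have hw : CommRingCat.ofHom φ ≫ CommRingCat.ofHom (Ideal.Quotient.mk (I.map φ)) =
      CommRingCat.ofHom (Ideal.Quotient.mk I) ≫
        CommRingCat.ofHom (Ideal.quotientMap (I.map φ) φ Ideal.le_comap_map) := by
    refine CommRingCat.hom_ext (RingHom.ext fun x => ?_)
    simp
  have hcond : ∀ s : PushoutCocone (CommRingCat.ofHom φ) (CommRingCat.ofHom (Ideal.Quotient.mk I)),
      s.inl.hom.comp φ = s.inr.hom.comp (Ideal.Quotient.mk I) := fun s => congr($(s.condition).hom)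
  have hker : ∀ s : PushoutCocone (CommRingCat.ofHom φ) (CommRingCat.ofHom (Ideal.Quotient.mk I)),
      ∀ a ∈ I.map φ, s.inl.hom a = 0 := by
    intro s a ha
    have hle : I.map φ ≤ RingHom.ker s.inl.hom := by
      rw [Ideal.map_le_iff_le_comap]
      intro x hx
      change s.inl.hom (φ x) = 0
      have := congr($(hcond s) x)
      simp only [RingHom.comp_apply] at this
      rw [this, Ideal.Quotient.eq_zero_iff_mem.mpr hx, map_zero]
    exact hle ha
  refine ⟨⟨hw⟩, ⟨PushoutCocone.IsColimit.mk _ (fun s => CommRingCat.ofHom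
    (Ideal.Quotient.lift (I.map φ) s.inl.hom (hker s))) ?_ ?_ ?_⟩⟩
  · intro s
    refine CommRingCat.hom_ext (RingHom.ext fun x => ?_)
    simp
  · intro s
    refine CommRingCat.hom_ext (Ideal.Quotient.ringHom_ext (RingHom.ext fun x => ?_))
    have := congr($(hcond s) x)
    simpa using this
  · intro s m h1 h2
    refine CommRingCat.hom_ext (Ideal.Quotient.ringHom_ext (RingHom.ext fun x => ?_))
    have := congr($(h1).hom x)
    simpa using this

variable {p : ℕ} [Fact p.Prime]

/-- If the Frobenius of `S` is faithfully flat and a `p`-th root morphism, so is the induced map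
`S/I → S/(F(I) S)`. -/
lemma quotientMap_frobenius_props (S : Type u) [CommRing S] [CharP S p]
    (hff : (frobenius S p).FaithfullyFlat)
    (hroot : Quiet.IsPthRoot p (Spec.map (CommRingCat.ofHom (frobenius S p)))) (I : Ideal S) :
    (Ideal.quotientMap (I.map (frobenius S p)) (frobenius S p) Ideal.le_comap_map).FaithfullyFlat ∧
      Quiet.IsPthRoot p (Spec.map (CommRingCat.ofHom
        (Ideal.quotientMap (I.map (frobenius S p)) (frobenius S p) Ideal.le_comap_map))) := by
  have sq := isPushout_quotientMap (frobenius S p) I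
  constructor
  · have h1 : (RingHom.toMorphismProperty
        (fun {R S : Type u} [CommRing R] [CommRing S] (f : R →+* S) => f.FaithfullyFlat)).IsStableUnderCobaseChange :=
      RingHom.isStableUnderCobaseChange_toMorphismProperty_iff.mpr
        RingHom.FaithfullyFlat.isStableUnderBaseChange
    exact h1.of_isPushout sq.flip hff
  · exact isPthRoot_of_isPullback _ _ _ _ (isPullback_SpecMap_of_isPushout _ _ _ _ sq) hroot

end Groth.Agent.Lib.Helper12.RootTower
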