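import Mathlib
import Groth.Agent.Lib.Helper12FrobQuotA

set_option autoImplicit false
universe u
open CategoryTheory AlgebraicGeometry MvPolynomial

namespace Groth.Agent.Lib.Helper12.RootTower

open RingTheory.Sequence

lemma isRegular_map_frobenius {p : ℕ} [Fact p.Prime] (S : Type u) [CommRing S] [CharP S p]
    (hff : (frobenius S p).FaithfullyFlat) (rs : List S) (h : IsRegular S rs) :
    IsRegular S (rs.map (frobenius S p)) :=
  @RingTheory.Sequence.IsRegular.of_faithfullyFlat S S _ _ (frobenius S p).toAlgebra hff rs h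

/-- Concatenating a regular sequence on `S` with a lift of a regular sequence on the quotient. -/
lemma isRegular_append_of_quotient {S : Type u} [CommRing S] (l₁ l₂ : List S)
    (h1 : IsRegular S l₁)
    (h2 : IsRegular (S ⧸ Ideal.ofList l₁) (l₂.map (Ideal.Quotient.mk (Ideal.ofList l₁)))) :
    IsRegular S (l₁ ++ l₂) := by
  have hsm : ∀ I : Ideal S, (I • (⊤ : Submodule S S)) = I := fun I => by
    rw [Ideal.smul_eq_mul]
    exact Ideal.mul_top I
  have hsm' : ∀ I : Ideal (S ⧸ Ideal.ofList l₁),
      (I • (⊤ : Submodule (S ⧸ Ideal.ofList l₁) (S ⧸ Ideal.ofList l₁))) = I := fun I => by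
    rw [Ideal.smul_eq_mul]
    exact Ideal.mul_top I
  refine ⟨(isWeaklyRegular_append_iff S l₁ l₂).mpr ⟨h1.1, ?_⟩, ?_⟩
  · let e : (S ⧸ Ideal.ofList l₁) ≃ₗ[S] (S ⧸ (Ideal.ofList l₁ • ⊤ : Submodule S S)) :=
      Submodule.quotEquivOfEq _ _ (hsm _).symm
    refine (AddEquiv.isWeaklyRegular_congr (e := e.toAddEquiv) ?_).mp h2.1
    refine List.forall₂_map_left_iff.mpr (List.forall₂_same.mpr fun r _ x => ?_)
    have : (Ideal.Quotient.mk (Ideal.ofList l₁) r) • x = r • x := rfl
    rw [this]
    exact e.map_smul r x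
  · rw [hsm, Ideal.ofList_append]
    intro htop
    apply h2.2
    rw [hsm', ← Ideal.map_ofList]
    have : Ideal.map (Ideal.Quotient.mk (Ideal.ofList l₁)) (Ideal.ofList l₁ ⊔ Ideal.ofList l₂) = ⊤ := by
      rw [← htop]
      exact Ideal.map_top _
    rw [Ideal.map_sup, Ideal.map_quotient_self, bot_sup_eq] at this
    exact this.symm


lemma smooth_mvPolynomial (k : Type u) [Field k] (A : Type u) [CommRing A] [Algebra k A]
    [Algebra.Smooth k A] (r : ℕ) : Algebra.Smooth k (MvPolynomial (Fin r) A) := by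
  haveI : Algebra.Smooth A (MvPolynomial (Fin r) A) := ⟨inferInstance, inferInstance⟩
  exact Algebra.Smooth.comp k A _

lemma isRegular_pow_seq (p : ℕ) [Fact p.Prime]
    (k : Type u) [Field k] [CharP k p] [PerfectRing k p] (A : Type u) [CommRing A] [Algebra k A]
    [CharP A p] [Algebra.Smooth k A] (n : ℕ) (t : Fin n → A)
    (ht : IsRegular A (List.ofFn t))
    (r m : ℕ) (v : Fin m → MvPolynomial (Fin r) A)
    (hv : IsRegular
      (MvPolynomial (Fin r) A ⧸ Ideal.span (Set.range fun i => (C (t i) : MvPolynomial (Fin r) A) ^ p))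
      (List.ofFn fun j => Ideal.Quotient.mk
        (Ideal.span (Set.range fun i => (C (t i) : MvPolynomial (Fin r) A) ^ p)) (v j))) :
    IsRegular (MvPolynomial (Fin r) A)
      (List.ofFn (fun i => (C (t i) : MvPolynomial (Fin r) A) ^ (p ^ 2)) ++
        List.ofFn (fun j => v j ^ p)) := by
  haveI : Nontrivial A := ht.nontrivial
  have hA := frobenius_faithfullyFlat_of_smooth (p := p) k A
  have h1 := isRegular_map_frobenius A hA _ ht
  have h2 : IsRegular (MvPolynomial (Fin r) A)
      (((List.ofFn t).map (frobenius A p)).map (algebraMap A (MvPolynomial (Fin r) A))) :=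
    h1.of_faithfullyFlat
  have hl₁ : ((List.ofFn t).map (frobenius A p)).map (algebraMap A (MvPolynomial (Fin r) A)) =
      List.ofFn (fun i => (C (t i) : MvPolynomial (Fin r) A) ^ p) := by
    rw [List.map_ofFn, List.map_ofFn]
    congr 1
    funext i
    simp [frobenius_def, MvPolynomial.algebraMap_eq]
  rw [hl₁] at h2
  have hJ : Ideal.ofList (List.ofFn (fun i => (C (t i) : MvPolynomial (Fin r) A) ^ p)) =
      Ideal.span (Set.range fun i => (C (t i) : MvPolynomial (Fin r) A) ^ p) := by
    refine congrArg Ideal.span (Set.ext fun x => ?_)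
    simp [List.mem_ofFn]
  have key : ∀ J' : Ideal (MvPolynomial (Fin r) A),
      J' = Ideal.span (Set.range fun i => (C (t i) : MvPolynomial (Fin r) A) ^ p) →
      IsRegular (MvPolynomial (Fin r) A ⧸ J') ((List.ofFn v).map (Ideal.Quotient.mk J')) := by
    rintro _ rfl
    rw [List.map_ofFn]
    exact hv
  have h5 := isRegular_append_of_quotient _ (List.ofFn v) h2 (key _ hJ)
  haveI := smooth_mvPolynomial k A r
  have hSff := frobenius_faithfullyFlat_of_smooth (p := p) k (MvPolynomial (Fin r) A)
  have h6 := isRegular_map_frobenius _ hSff _ h5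
  have hl : (List.ofFn (fun i => (C (t i) : MvPolynomial (Fin r) A) ^ p) ++ List.ofFn v).map
      (frobenius (MvPolynomial (Fin r) A) p) =
      List.ofFn (fun i => (C (t i) : MvPolynomial (Fin r) A) ^ (p ^ 2)) ++
        List.ofFn (fun j => v j ^ p) := by
    rw [List.map_append, List.map_ofFn, List.map_ofFn]
    congr 2
    funext i
    simp [frobenius_def, ← pow_mul, sq]
  rw [hl] at h6
  exact h6

end Groth.Agent.Lib.Helper12.RootTower
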