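import Mathlib
import Groth.Prelude.Def_Coh

set_option autoImplicit false
universe u
open CategoryTheory CategoryTheory.Limits AlgebraicGeometry Opposite TopologicalSpace

namespace Groth.Agent.Lib.Helper12.FrobSplit

/-- A `p`-linear injective additive endomorphism of a finite-dimensional vector space over a
perfect field is surjective. -/
lemma surjective_of_injective_semilinear (p : ℕ) [Fact p.Prime] (k : Type*) [Field k] [CharP k p]
    [PerfectRing k p] (V : Type*) [AddCommGroup V] [Module k V] [FiniteDimensional k V]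
    (Φ : V →+ V) (hΦ : ∀ (c : k) (x : V), Φ (c • x) = c ^ p • Φ x) (hinj : Function.Injective Φ) :
    Function.Surjective Φ := by
  let b := Module.finBasis k V
  have hroot : ∀ c : k, ∃ d : k, d ^ p = c := fun c => (bijective_frobenius k p).2 c
  -- the family `Φ ∘ b` is linearly independent
  have hli : LinearIndependent k (fun j => Φ (b j)) := by
    rw [Fintype.linearIndependent_iff]
    intro g hg j
    choose d hd using fun j => hroot (g j)
    have h1 : Φ (∑ j, d j • b j) = 0 := by
      rw [map_sum, ← hg]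
      refine Finset.sum_congr rfl fun j _ => ?_
      rw [hΦ, hd]
    have h2 : ∑ j, d j • b j = 0 := hinj (h1.trans (map_zero Φ).symm)
    have h3 := (Fintype.linearIndependent_iff.mp b.linearIndependent) d h2 j
    rw [← hd j, h3, zero_pow (Fact.out : p.Prime).ne_zero]
  have hspan : Submodule.span k (Set.range fun j => Φ (b j)) = ⊤ :=
    hli.span_eq_top_of_card_eq_finrank' (by simp)
  intro x
  have hx : x ∈ Submodule.span k (Set.range fun j => Φ (b j)) := by rw [hspan]; trivial
  obtain ⟨g, rfl⟩ := (Submodule.mem_span_range_iff_exists_fun k).mp hx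
  choose d hd using fun j => hroot (g j)
  refine ⟨∑ j, d j • b j, ?_⟩
  rw [map_sum]
  refine Finset.sum_congr rfl fun j _ => ?_
  rw [hΦ, hd]

variable {X : TopCat.{u}}

/-- If `φ` is a split monomorphism of abelian sheaves which is surjective on `H^i`, then the
cokernel has vanishing `H^i`. -/
lemma subsingleton_H_cokernel_of_split
    {F : Sheaf (Opens.grothendieckTopology X) AddCommGrpCat.{u}} (φ s : F ⟶ F) (hs : φ ≫ s = 𝟙 F)
    (i : ℕ) (hsurj : Function.Surjective (Sheaf.H.map φ i)) :
    Subsingleton (Sheaf.H (Limits.cokernel φ) i) := by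
  have h0 : φ ≫ (𝟙 F - s ≫ φ) = 0 := by
    rw [Preadditive.comp_sub, Category.comp_id, ← Category.assoc, hs, Category.id_comp, sub_self]
  let σ : cokernel φ ⟶ F := cokernel.desc φ (𝟙 F - s ≫ φ) h0
  have hσ : cokernel.π φ ≫ σ = 𝟙 F - s ≫ φ := cokernel.π_desc _ _ _
  have hσπ : σ ≫ cokernel.π φ = 𝟙 _ := by
    rw [← cancel_epi (cokernel.π φ), ← Category.assoc, hσ, Preadditive.sub_comp, Category.id_comp,
      Category.assoc, cokernel.condition, comp_zero, sub_zero, Category.comp_id]
  refine subsingleton_of_forall_eq 0 fun b => ?_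
  have hb : b = Sheaf.H.map (cokernel.π φ) i (Sheaf.H.map σ i b) := by
    rw [← Sheaf.H.map_comp_apply, hσπ, Sheaf.H.map_id_apply]
  obtain ⟨y, hy⟩ := hsurj (Sheaf.H.map σ i b)
  rw [hb, ← hy, ← Sheaf.H.map_comp_apply, cokernel.condition]
  change ((Sheaf.functorH _ i).map (0 : F ⟶ cokernel φ)).hom y = 0
  rw [Functor.map_zero]
  rfl

end Groth.Agent.Lib.Helper12.FrobSplit
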