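import Mathlib
import Groth.Agent.Lib.Helper12FrobSplitA
import Groth.Agent.S0002
import Groth.Agent.Lib.Helper4DevI

set_option autoImplicit false
universe u
open CategoryTheory CategoryTheory.Limits AlgebraicGeometry Opposite TopologicalSpace

namespace Groth.Agent.Lib.Helper12.FrobSplit

theorem main (p : ℕ) [Fact p.Prime] (k : Type u) [Field k] [CharP k p] [PerfectField k]
    (X : Scheme.{u}) [X.Over (Spec (CommRingCat.of k))] [IsProper (X ↘ Spec (CommRingCat.of k))]
    (φ : Coh.toAb (Coh.structureModule X) ⟶ Coh.toAb (Coh.structureModule X))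
    (hφ : ∀ (U : X.Opens) (t : Γ(X, U)), φ.hom.app (op U) t = t ^ p)
    (s : Coh.toAb (Coh.structureModule X) ⟶ Coh.toAb (Coh.structureModule X))
    (hs : φ ≫ s = 𝟙 _) (i : ℕ) : Subsingleton (Sheaf.H (Limits.cokernel φ) i) := by
  haveI : PerfectRing k p := PerfectField.toPerfectRing p
  haveI : Module.Finite k (Coh.HH X (Coh.structureModule X) i) :=
    Groth.Agent.S0002.result k X _ (Groth.Agent.Lib.Helper4.Dev.isCoh_structureModule X) i
  have key : ∀ r : Coh.Γtop X, Coh.smulAb (Coh.structureModule X) r ≫ φ =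
      φ ≫ Coh.smulAb (Coh.structureModule X) (r ^ p) := by
    intro r
    ext U m
    induction U using Opposite.rec with | _ U => ?_
    have h1 : (Coh.smulAb (Coh.structureModule X) r ≫ φ).hom.app (op U) m =
        φ.hom.app (op U) ((show Γ(X, U) from Coh.resTop X (op U) r) * (show Γ(X, U) from m)) := rfl
    have h2 : (φ ≫ Coh.smulAb (Coh.structureModule X) (r ^ p)).hom.app (op U) m =
        ((show Γ(X, U) from Coh.resTop X (op U) (r ^ p)) *
          (show Γ(X, U) from φ.hom.app (op U) m) : Γ(X, U)) := rfl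
    refine h1.trans (Eq.trans ?_ h2.symm)
    rw [hφ, hφ U m, mul_pow, map_pow]
    rfl
  -- the induced maps on cohomology
  have hΦ : ∀ (c : k) (x : Coh.HH X (Coh.structureModule X) i),
      Sheaf.H.map φ i (c • x) = c ^ p • Sheaf.H.map φ i x := by
    intro c x
    have e1 : c • x = Sheaf.H.map (Coh.smulAb (Coh.structureModule X)
        (Coh.toGlobal (X ↘ Spec (CommRingCat.of k)) c)) i x := rfl
    have e2 : c ^ p • Sheaf.H.map φ i x = Sheaf.H.map (Coh.smulAb (Coh.structureModule X)
        (Coh.toGlobal (X ↘ Spec (CommRingCat.of k)) (c ^ p))) i (Sheaf.H.map φ i x) := rfl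
    rw [e1, e2, ← Sheaf.H.map_comp_apply, ← Sheaf.H.map_comp_apply, key, map_pow]
  have hinj : Function.Injective (Sheaf.H.map φ i) := by
    intro x y hxy
    have := congrArg (Sheaf.H.map s i) hxy
    rwa [← Sheaf.H.map_comp_apply, ← Sheaf.H.map_comp_apply, hs, Sheaf.H.map_id_apply,
      Sheaf.H.map_id_apply] at this
  have hsurj := surjective_of_injective_semilinear p k (Coh.HH X (Coh.structureModule X) i)
    (Sheaf.H.map φ i) hΦ hinj
  exact subsingleton_H_cokernel_of_split φ s hs i hsurj

end Groth.Agent.Lib.Helper12.FrobSplit
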