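import Mathlib
import Groth.Prelude.Def_AlgSpGpd
import Groth.Agent.S9900
import Groth.Agent.S9912
import Groth.Agent.Lib.Helper8Grp
import Groth.Agent.Lib.Helper9ShfGrp

/-!
# Group algebraic spaces: the diagonal and the unit section (helper12)
-/

set_option autoImplicit false
universe u
open CategoryTheory CategoryTheory.Limits AlgebraicGeometry Opposite MonoidalCategory
  CartesianMonoidalCategory MonObj
open AlgSp

namespace Groth.Agent.Lib.Helper12.GrpUnit

variable {S : Scheme.{u}} {B : AlgSp.Sp S} (G : Over B) [GrpObj G]

/-- the unit section is the base change of the diagonal along `g ↦ (g, e)`. -/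
lemma isPullback_unit_diag :
    IsPullback η[G] η[G] (lift (𝟙 G) (𝟙 G)) (lift (𝟙 G) (toUnit G ≫ η[G])) := by
  refine IsPullback.of_isLimit' ⟨?_⟩ (PullbackCone.IsLimit.mk _ (fun s => toUnit _) ?_ ?_ ?_)
  · apply CartesianMonoidalCategory.hom_ext
    · simp
    · simp
  · intro s
    have h1 := congrArg (fun m => m ≫ fst G G) s.condition
    have h2 := congrArg (fun m => m ≫ snd G G) s.condition
    simp only [Category.assoc, lift_fst, lift_snd, Category.comp_id] at h1 h2
    rw [h2, ← Category.assoc]
    congr 1
    exact toUnit_unique _ _
  · intro s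
    have h2 := congrArg (fun m => m ≫ snd G G) s.condition
    have h1 := congrArg (fun m => m ≫ fst G G) s.condition
    simp only [Category.assoc, lift_fst, lift_snd, Category.comp_id] at h1 h2
    rw [← h1, h2, ← Category.assoc]
    congr 1
    exact toUnit_unique _ _
  · intro s m _ _
    exact toUnit_unique _ _

lemma diag_left : (lift (𝟙 G) (𝟙 G)).left = pullback.diagonal G.hom := rfl

variable (P : MorphismProperty (AlgSp.Sp S)) [P.IsStableUnderBaseChange]

include P in
/-- if the diagonal of a group space has `P`, so has the unit section. -/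
lemma unit_of_diagonal (h : P (pullback.diagonal G.hom)) : P (η[G]).left := by
  have sq := (isPullback_unit_diag G).map (Over.forget B)
  rw [← diag_left] at h
  exact MorphismProperty.of_isPullback (P := P) sq h

include P in
/-- if the unit section of a group space has `P`, so has the diagonal. -/
lemma diagonal_of_unit (h : P (η[G]).left) : P (pullback.diagonal G.hom) := by
  haveI : P.RespectsIso := MorphismProperty.IsStableUnderBaseChange.respectsIso
  have sq := (Groth.Agent.Lib.Helper9.isPullback_whiskerLeft G η[G]).map (Over.forget B)
  have h1 : P (G ◁ η[G]).left := MorphismProperty.of_isPullback (P := P) sq.flip h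
  rw [← diag_left, Groth.Agent.Lib.Helper8.diag_eq]
  simp only [Over.comp_left]
  haveI h2 : IsIso (ρ_ G).inv.left := inferInstanceAs (IsIso ((Over.forget B).map (ρ_ G).inv))
  haveI h3 : IsIso (Groth.Agent.Lib.Helper8.shearIso G).hom.left :=
    inferInstanceAs (IsIso ((Over.forget B).map (Groth.Agent.Lib.Helper8.shearIso G).hom))
  rw [MorphismProperty.cancel_left_of_respectsIso P, MorphismProperty.cancel_right_of_respectsIso P]
  exact h1

end Groth.Agent.Lib.Helper12.GrpUnit
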