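import Mathlib

/-!
# Right derived functors of `E ⋙ G` for `E` exact and preserving injectives (helper23)
-/

open CategoryTheory Limits

namespace Groth.Agent.Lib.Helper23DerComp

universe v v' v'' u u' u''

variable {C₀ : Type u''} [Category.{v''} C₀] [Abelian C₀]
  {C : Type u} [Category.{v} C] [Abelian C]
  {D : Type u'} [Category.{v'} D] [Abelian D]

/-- An additive functor which preserves homology and injective objects maps injective resolutions
to injective resolutions. -/
noncomputable def mapInjRes (E : C₀ ⥤ C) [E.Additive] [E.PreservesInjectiveObjects]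
    [E.PreservesHomology] {Z : C₀} (I : InjectiveResolution Z) : InjectiveResolution (E.obj Z) where
  cocomplex := (E.mapHomologicalComplex _).obj I.cocomplex
  injective n := Functor.PreservesInjectiveObjects.injective_obj (I.injective n)
  ι := (HomologicalComplex.singleMapHomologicalComplex _ _ _).inv.app _ ≫
    (E.mapHomologicalComplex _).map I.ι
  quasiIso := inferInstance

theorem mapInjRes_ι_f_zero (E : C₀ ⥤ C) [E.Additive] [E.PreservesInjectiveObjects]
    [E.PreservesHomology] {Z : C₀} (I : InjectiveResolution Z) :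
    (mapInjRes E I).ι.f 0 = E.map (I.ι.f 0) := by
  dsimp [mapInjRes]
  simp
  exact Category.id_comp _

variable [HasInjectiveResolutions C₀] [HasInjectiveResolutions C]
  (E : C₀ ⥤ C) [E.Additive] [E.PreservesInjectiveObjects] [E.PreservesHomology]
  (G : C ⥤ D) [G.Additive]

theorem comp_aux5 {𝒞 : Type*} [Category 𝒞] {A A' P P' B B' : 𝒞} (a : A ⟶ A') (iJ : A' ≅ P')
    (iI : A ≅ P) (kI : B ≅ P) (kJ : B' ≅ P') (m : P ⟶ P') (b : B ⟶ B')
    (h1 : a ≫ iJ.hom = iI.hom ≫ m) (h2 : kI.inv ≫ b = m ≫ kJ.inv) :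
    a ≫ (iJ ≪≫ kJ.symm).hom = (iI ≪≫ kI.symm).hom ≫ b := by
  simp only [Iso.trans_hom, Iso.symm_hom, Category.assoc]
  rw [reassoc_of% h1, h2]

/-- the component of the comparison isomorphism, for a given resolution. -/
noncomputable def compIsoRes {Z : C₀} (I : InjectiveResolution Z) (n : ℕ) :
    ((E ⋙ G).rightDerived n).obj Z ≅ (G.rightDerived n).obj (E.obj Z) :=
  I.isoRightDerivedObj (E ⋙ G) n ≪≫ ((mapInjRes E I).isoRightDerivedObj G n).symm

theorem compIsoRes_naturality {X Y : C₀} (f : X ⟶ Y) (I : InjectiveResolution X)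
    (J : InjectiveResolution Y) (n : ℕ) :
    ((E ⋙ G).rightDerived n).map f ≫ (compIsoRes E G J n).hom =
      (compIsoRes E G I n).hom ≫ (G.rightDerived n).map (E.map f) := by
  let φ : I.cocomplex ⟶ J.cocomplex := InjectiveResolution.desc f J I
  have comm : I.ι.f 0 ≫ φ.f 0 = f ≫ J.ι.f 0 := InjectiveResolution.desc_commutes_zero f J I
  have comm' : (mapInjRes E I).ι.f 0 ≫ ((E.mapHomologicalComplex _).map φ).f 0 =
      E.map f ≫ (mapInjRes E J).ι.f 0 := by
    rw [mapInjRes_ι_f_zero, mapInjRes_ι_f_zero]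
    exact (E.map_comp (I.ι.f 0) (φ.f 0)).symm.trans
      ((congrArg E.map comm).trans (E.map_comp f (J.ι.f 0)))
  have h1 := InjectiveResolution.isoRightDerivedObj_hom_naturality f I J φ comm (E ⋙ G) n
  have h2 := InjectiveResolution.isoRightDerivedObj_inv_naturality (E.map f) (mapInjRes E I)
    (mapInjRes E J) ((E.mapHomologicalComplex _).map φ) comm' G n
  exact comp_aux5 _ _ _ _ _ _ _ h1 h2

/-- `Rⁿ(E ⋙ G) ≅ E ⋙ Rⁿ G` for `E` exact and preserving injectives. -/
noncomputable def compIso (n : ℕ) : (E ⋙ G).rightDerived n ≅ E ⋙ G.rightDerived n :=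
  NatIso.ofComponents (fun Z => compIsoRes E G (injectiveResolution Z) n)
    (fun f => compIsoRes_naturality E G f _ _ n)

end Groth.Agent.Lib.Helper23DerComp
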