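import Groth.Agent.Lib.Helper27ProjFormula
import Groth.Agent.Lib.Helper23DerComp
import Groth.Agent.Lib.Helper21DerPost
import Groth.Agent.Lib.Helper23InvDual
import Groth.Agent.Lib.Helper23TensorUnit

/-!
# Helper17: the projection formula for higher direct images and invertible modules

Built on helper27's `Helper27ProjFormula.projIsoL` (the underived natural isomorphism
`L ⊗ f_* (-) ≅ f_* (f^* L ⊗ -)` for `L` with a tensor inverse).

* `derProjIso f L L' e e' q : R^q f_* ⋙ (L ⊗ -) ≅ (f^* L ⊗ -) ⋙ R^q f_*`.
* `nonempty_inverse L hL` : an invertible module has a two-sided tensor inverse.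
* `nonempty_tensorMod_Rpush_iso` : `L ⊗ R^q f_* G ≅ R^q f_* (f^* L ⊗ G)` for `L` invertible.
-/

set_option autoImplicit false
universe u

open CategoryTheory CategoryTheory.Limits AlgebraicGeometry

namespace Groth.Agent.Lib.Helper17.ProjFormulaD

open Groth.Agent.Lib.Helper27ProjFormula Groth.Agent.Lib.Helper1.PT
  Groth.Agent.Lib.Helper21.ModTensor5

section TL

variable {Z : Scheme.{u}} (L L' : Z.Modules)
  (e : CohB1.tensorMod L L' ≅ Coh.structureModule Z)
  (e' : CohB1.tensorMod L' L ≅ Coh.structureModule Z)

include e e' in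
theorem preservesLimits_TL : PreservesLimitsOfSize.{0, 0} (TL Z L) :=
  (adjTL L L' e e').rightAdjoint_preservesLimits

include e e' in
theorem preservesColimits_TL : PreservesColimitsOfSize.{0, 0} (TL Z L) :=
  (adjTL L' L e' e).leftAdjoint_preservesColimits

include e e' in
theorem preservesFiniteLimits_TL : PreservesFiniteLimits (TL Z L) := by
  haveI := preservesLimits_TL L L' e e'
  exact PreservesLimitsOfSize.preservesFiniteLimits.{0, 0} _

include e e' in
theorem preservesFiniteColimits_TL : PreservesFiniteColimits (TL Z L) := by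
  haveI := preservesColimits_TL L L' e e'
  exact PreservesColimitsOfSize.preservesFiniteColimits.{0, 0} _

include e e' in
theorem preservesHomology_TL : (TL Z L).PreservesHomology := by
  haveI := preservesFiniteLimits_TL L L' e e'
  haveI := preservesFiniteColimits_TL L L' e e'
  infer_instance

include e e' in
theorem preservesInjectiveObjects_TL : (TL Z L).PreservesInjectiveObjects := by
  haveI := preservesFiniteLimits_TL L' L e' e
  haveI : (TL Z L').PreservesMonomorphisms := inferInstance
  exact Functor.preservesInjectiveObjects_of_adjunction_of_preservesMonomorphisms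
    (adjTL L L' e e')

end TL

section Der

variable {X Y : Scheme.{u}} (f : X ⟶ Y) [HasInjectiveResolutions X.Modules]
  (L L' : Y.Modules) (e : CohB1.tensorMod L L' ≅ Coh.structureModule Y)
  (e' : CohB1.tensorMod L' L ≅ Coh.structureModule Y)

/-- **Projection formula for higher direct images**, as a natural isomorphism:
`L ⊗ R^q f_* (-) ≅ R^q f_* (f^* L ⊗ -)` for `L` with a tensor inverse. -/
noncomputable def derProjIso (q : ℕ) :
    (psh f).rightDerived q ⋙ TL Y L ≅ TL X ((plb f).obj L) ⋙ (psh f).rightDerived q :=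
  haveI := preservesHomology_TL L L' e e'
  haveI := preservesHomology_TL ((plb f).obj L) ((plb f).obj L') (plbInv f L L' e)
    (plbInv f L' L e')
  haveI := preservesInjectiveObjects_TL ((plb f).obj L) ((plb f).obj L') (plbInv f L L' e)
    (plbInv f L' L e')
  (Groth.Agent.Lib.Helper21.DerPost.postIso (psh f) (TL Y L) q).symm ≪≫
    Groth.Agent.Lib.Helper21.DerPost.natIsoRightDerived (projIsoL f L L' e e') q ≪≫
    Groth.Agent.Lib.Helper23DerComp.compIso (TL X ((plb f).obj L)) (psh f) q

end Der

/-- an invertible module has a two-sided tensor inverse. -/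
theorem nonempty_inverse {Z : Scheme.{u}} (L : Z.Modules) (hL : PicF.IsInvertible L) :
    ∃ L' : Z.Modules, PicF.IsInvertible L' ∧
      Nonempty (CohB1.tensorMod L L' ≅ Coh.structureModule Z) ∧
      Nonempty (CohB1.tensorMod L' L ≅ Coh.structureModule Z) := by
  obtain ⟨e⟩ := Groth.Agent.Lib.Helper23.InvDual.nonempty_tensorMod_dual_iso L hL
  exact ⟨RefHull.dual L, Groth.Agent.Lib.Helper23.InvDual.isInvertible_dual L hL, ⟨e⟩,
    ⟨brdApp Z.sheaf (RefHull.dual L) L ≪≫ e⟩⟩

/-- `L ⊗ R^q f_* G ≅ R^q f_* (f^* L ⊗ G)` for `L` invertible (the invertible case of the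
projection formula, one degree at a time). -/
theorem nonempty_tensorMod_Rpush_iso {X Y : Scheme.{u}} (f : X ⟶ Y)
    [HasInjectiveResolutions X.Modules] (G : X.Modules) (L : Y.Modules)
    (hL : PicF.IsInvertible L) (q : ℕ) :
    Nonempty (CohB1.tensorMod L ((Coh.Rpush f q).obj G) ≅
      (Coh.Rpush f q).obj (CohB1.tensorMod ((Scheme.Modules.pullback f).obj L) G)) := by
  obtain ⟨L', -, ⟨e⟩, ⟨e'⟩⟩ := nonempty_inverse L hL
  exact ⟨(derProjIso f L L' e e' q).app G⟩

end Groth.Agent.Lib.Helper17.ProjFormulaD
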