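import Groth.Agent.Lib.Helper27ClosedTransfer
import Groth.Agent.Lib.Helper27SerreVanPn
import Groth.Agent.Lib.Helper27PnAmple
import Groth.Agent.Lib.Helper27TwistEq
import Groth.Agent.Lib.Helper27QProjCover
import Groth.Agent.Lib.Helper17ProjFormulaD
import Groth.Agent.Lib.Helper23LocGen
import Groth.Agent.Lib.Helper23PB
import Groth.Agent.Lib.Helper23TensorQCoh
import Groth.Agent.Lib.Helper20ZClos20
import Groth.Agent.Lib.Helper4DevI

/-!
# Helper17: Serre vanishing for a closed subscheme of `P^m_B` and a module `L` with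
`L^{n₁} ≅ j^* O(1)`.

* `tensorPowAddIso L a b : L^a ⊗ L^b ≅ L^(a+b)`, `twistAddIso`.
* `serre_vanishing_closed`.
-/

set_option autoImplicit false
universe u

open CategoryTheory CategoryTheory.Limits AlgebraicGeometry

namespace Groth.Agent.Lib.Helper17.SerreAmple

open Groth.Agent.Lib.Helper23.LocGen Groth.Agent.Lib.Helper23.TensorUnit
  Groth.Agent.Lib.Helper23.SecTw Groth.Agent.Lib.Helper23.AmpleIso

section Pow

variable {X : Scheme.{u}}

/-- `L^a ⊗ L^b ≅ L^(a+b)` (no hypothesis on `L`). -/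
noncomputable def tensorPowAddIso (L : X.Modules) (a : ℕ) :
    (b : ℕ) → (CohB1.tensorMod (CohB1.tensorPow L a) (CohB1.tensorPow L b) ≅ CohB1.tensorPow L (a + b))
  | 0 => tensorUnitIso (CohB1.tensorPow L a)
  | b + 1 => (tensorAssoc (CohB1.tensorPow L a) (CohB1.tensorPow L b) L).symm ≪≫
      PicGrp.tensorModIso (tensorPowAddIso L a b) (Iso.refl L)

/-- `M ⊗ L^(a+b) ≅ (M ⊗ L^a) ⊗ L^b`. -/
noncomputable def twistAddIso (M L : X.Modules) (a b : ℕ) :
    CohB1.tensorMod M (CohB1.tensorPow L (a + b)) ≅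
      CohB1.tensorMod (CohB1.tensorMod M (CohB1.tensorPow L a)) (CohB1.tensorPow L b) :=
  PicGrp.tensorModIso (Iso.refl M) (tensorPowAddIso L a b).symm ≪≫
    (tensorAssoc M (CohB1.tensorPow L a) (CohB1.tensorPow L b)).symm

theorem isCoh_twist (M L : X.Modules) (hM : Coh.IsCoh M) (hL : PicF.IsInvertible L) (a : ℕ) :
    Coh.IsCoh (CohB1.tensorMod M (CohB1.tensorPow L a)) := by
  haveI := hM.1
  haveI := hM.2
  have hP := isInvertible_tensorPow hL a
  haveI : (CohB1.tensorPow L a).IsQuasicoherent := isQuasicoherent_of_isInvertible _ hP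
  haveI : SheafOfModules.IsFiniteType (R := X.ringCatSheaf) (CohB1.tensorPow L a) :=
    Groth.Agent.Lib.Helper20.ZClosLib.isFiniteType_of_isInvertible _ hP
  exact ⟨Groth.Agent.Lib.Helper23.TensorQCoh.isQuasicoherent_tensorMod M _,
    Groth.Agent.Lib.Helper23.TensorQCoh.isFiniteType_tensorMod M _⟩

end Pow

section Closed

variable (m : ℕ) (B : Type u) [CommRing B]

/-- `O(1)^{⊗ k} ≅ O(k)` on `P^m_B`. -/
theorem nonempty_tensorPow_twist_one_iso (k : ℕ) :
    Nonempty (CohB1.tensorPow (Twist.twistProjSpace m B 1) k ≅ Twist.twistProjSpace m B (k : ℤ)) := by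
  obtain ⟨e⟩ := Groth.Agent.Lib.Helper27PnAmple.nonempty_tensorPow_tilde_iso m B 1 k
  rw [one_mul] at e
  rw [Groth.Agent.Lib.Helper27TwistEq.twistProjSpace_apply,
    Groth.Agent.Lib.Helper27TwistEq.twistProjSpace_apply]
  exact ⟨e⟩

variable {m B}
variable {X : Scheme.{u}} (j : X ⟶ CohB1.ProjSpace m B) (L : X.Modules) (hL : PicF.IsInvertible L)
  (n₁ : ℕ)
  (Φ : CohB1.tensorPow L n₁ ≅ (Scheme.Modules.pullback j).obj (Twist.twistProjSpace m B 1))

include hL Φ in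
/-- `L^{n₁ k} ≅ j^* O(k)`. -/
theorem nonempty_tensorPow_mul_iso (k : ℕ) :
    Nonempty (CohB1.tensorPow L (n₁ * k) ≅
      (Scheme.Modules.pullback j).obj (Twist.twistProjSpace m B (k : ℤ))) := by
  obtain ⟨e1⟩ := nonempty_tensorPow_tensorPow_iso L hL n₁ k (n₁ * k) rfl
  obtain ⟨e2⟩ := Groth.Agent.Lib.Helper23.PB.nonempty_pullback_tensorPow_iso j
    (Twist.twistProjSpace m B 1) (Groth.Agent.Lib.Helper27SerreVanPn.isInvertible_twist m B 1) k
  obtain ⟨e3⟩ := nonempty_tensorPow_twist_one_iso m B k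
  exact ⟨e1.symm ≪≫ tensorPowIso Φ k ≪≫ e2.symm ≪≫ (Scheme.Modules.pullback j).mapIso e3⟩

variable [IsNoetherianRing B] [IsClosedImmersion j]

include hL Φ in
/-- vanishing along one residue class of exponents. -/
theorem exists_vanishing_class (M : X.Modules) (hM : Coh.IsCoh M) (r : ℕ) :
    ∃ k₀ : ℕ, ∀ k : ℕ, k₀ ≤ k → ∀ p : ℕ, 0 < p →
      Subsingleton (Coh.HH X (CohB1.tensorMod M (CohB1.tensorPow L (r + n₁ * k))) p) := by
  have hN := Groth.Agent.Lib.Helper27QProjCover.isNoetherian_projSpace m B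
  haveI : IsLocallyNoetherian (CohB1.ProjSpace m B) := inferInstance
  have hMr := isCoh_twist M L hM hL r
  have hG : Coh.IsCoh ((Scheme.Modules.pushforward j).obj
      (CohB1.tensorMod M (CohB1.tensorPow L r))) :=
    Groth.Agent.Lib.Helper4.Dev.isCoh_push_closed j _ hMr
  obtain ⟨d₀, hd₀⟩ := Groth.Agent.Lib.Helper27SerreVanPn.serre_vanishing m B _ hG
  refine ⟨d₀.toNat, fun k hk p hp => ?_⟩
  have hk' : d₀ ≤ (k : ℤ) := by
    have := Int.self_le_toNat d₀
    omega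
  have h1 := hd₀ (k : ℤ) hk' p hp
  obtain ⟨O', -, ⟨e⟩, ⟨e'⟩⟩ := Groth.Agent.Lib.Helper17.ProjFormulaD.nonempty_inverse
    (Twist.twistProjSpace m B (k : ℤ)) (Groth.Agent.Lib.Helper27SerreVanPn.isInvertible_twist m B k)
  have h2 := (Groth.Agent.Lib.Helper27ClosedTransfer.subsingleton_HH_twist_iff j
    (Twist.twistProjSpace m B (k : ℤ)) O' e e' (CohB1.tensorMod M (CohB1.tensorPow L r)) p).2 h1
  obtain ⟨e4⟩ := nonempty_tensorPow_mul_iso j L hL n₁ Φ k
  have e5 : CohB1.tensorMod M (CohB1.tensorPow L (r + n₁ * k)) ≅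
      CohB1.tensorMod (CohB1.tensorMod M (CohB1.tensorPow L r))
        ((Scheme.Modules.pullback j).obj (Twist.twistProjSpace m B (k : ℤ))) :=
    twistAddIso M L r (n₁ * k) ≪≫ PicGrp.tensorModIso (Iso.refl _) e4
  exact Groth.Agent.Lib.Helper27PnCohVanish.subsingleton_HH_of_iso e5.symm p h2

include hL Φ in
/-- **Serre vanishing** on a closed subscheme `j : X ⟶ P^m_B` (`B` Noetherian) for a module `L`
with `L^{n₁} ≅ j^* O(1)`, `n₁ > 0`. -/
theorem serre_vanishing_closed (hn₁ : 0 < n₁) (M : X.Modules) (hM : Coh.IsCoh M) :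
    ∃ n₀ : ℕ, ∀ n : ℕ, n₀ ≤ n → ∀ p : ℕ, 0 < p →
      Subsingleton (Coh.HH X (CohB1.tensorMod M (CohB1.tensorPow L n)) p) := by
  choose k₀ hk₀ using exists_vanishing_class j L hL n₁ Φ M hM
  refine ⟨n₁ * ((Finset.range n₁).sup k₀ + 1), fun n hn p hp => ?_⟩
  have hr : n % n₁ < n₁ := Nat.mod_lt n hn₁
  have hdecomp : n % n₁ + n₁ * (n / n₁) = n := Nat.mod_add_div n n₁
  have hk : k₀ (n % n₁) ≤ n / n₁ := by
    have h1 : k₀ (n % n₁) ≤ (Finset.range n₁).sup k₀ :=
      Finset.le_sup (f := k₀) (Finset.mem_range.2 hr)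
    have h2 : (Finset.range n₁).sup k₀ + 1 ≤ n / n₁ := by
      rw [Nat.le_div_iff_mul_le hn₁, Nat.mul_comm]
      exact hn
    omega
  have := hk₀ (n % n₁) (n / n₁) hk p hp
  rw [hdecomp] at this
  exact this

end Closed

end Groth.Agent.Lib.Helper17.SerreAmple
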