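import Mathlib
import Groth.Agent.Lib.Helper17HHLes
import Groth.Agent.S0002

set_option backward.isDefEq.respectTransparency.types false
set_option linter.style.haveILetI false
set_option maxHeartbeats 400000
set_option autoImplicit false

universe u

open CategoryTheory CategoryTheory.Limits AlgebraicGeometry

namespace Groth.Agent.Lib.Helper1.EulerAdd

section Algebra

variable {R : Type*} [Ring R] {M N P : Type*} [AddCommGroup M] [Module R M] [AddCommGroup N]
  [Module R N] [AddCommGroup P] [Module R P]

/-- rank–nullity for lengths. -/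
lemma length_eq_ker_add_range (f : M →ₗ[R] N) :
    Module.length R M = Module.length R (LinearMap.ker f) + Module.length R (LinearMap.range f) := by
  refine Module.length_eq_add_of_exact (LinearMap.ker f).subtype f.rangeRestrict
    (Submodule.subtype_injective _) f.surjective_rangeRestrict ?_
  intro x
  constructor
  · intro hx
    refine ⟨⟨x, ?_⟩, rfl⟩
    have := congrArg Subtype.val hx
    simpa using this
  · rintro ⟨y, rfl⟩
    apply Subtype.ext
    simpa using y.2

/-- the integer valued length. -/
noncomputable def len (R : Type*) [Ring R] (M : Type*) [AddCommGroup M] [Module R M] : ℤ :=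
  ((Module.length R M).toNat : ℤ)

lemma len_eq_of_exact (f : M →ₗ[R] N) (g : N →ₗ[R] P) (h : LinearMap.range f = LinearMap.ker g)
    (hN : Module.length R N ≠ ⊤) :
    len R N = len R (LinearMap.range f) + len R (LinearMap.range g) := by
  have h1 := length_eq_ker_add_range g
  rw [← h] at h1
  have hr1 : Module.length R (LinearMap.range f) ≠ ⊤ := by
    intro h'
    rw [h', top_add] at h1
    exact hN h1
  have hr2 : Module.length R (LinearMap.range g) ≠ ⊤ := by
    intro h'
    rw [h', add_top] at h1
    exact hN h1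
  unfold len
  rw [h1, ENat.toNat_add hr1 hr2]
  push_cast
  rfl

lemma len_eq_of_injective (g : N →ₗ[R] P) (hg : Function.Injective g) :
    len R N = len R (LinearMap.range g) := by
  unfold len
  rw [(LinearEquiv.ofInjective g hg).length_eq]

lemma len_range_eq_zero (f : M →ₗ[R] N) [Subsingleton N] : len R (LinearMap.range f) = 0 := by
  unfold len
  rw [Module.length_eq_zero]
  rfl

end Algebra

section Telescope

/-- the telescoping identity. -/
lemma telescope (A B C U V W : ℕ → ℤ) (hA0 : A 0 = U 0) (hA : ∀ i, A (i + 1) = W i + U (i + 1))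
    (hB : ∀ i, B i = U i + V i) (hC : ∀ i, C i = V i + W i) (N : ℕ) :
    ((Finset.range (N + 1)).sum fun i => (-1 : ℤ) ^ i * B i) =
      ((Finset.range (N + 1)).sum fun i => (-1 : ℤ) ^ i * A i) +
      ((Finset.range (N + 1)).sum fun i => (-1 : ℤ) ^ i * C i) - (-1 : ℤ) ^ N * W N := by
  induction N with
  | zero =>
    simp [hA0, hB, hC]
    ring
  | succ n ih =>
    rw [Finset.sum_range_succ, Finset.sum_range_succ (fun i => (-1 : ℤ) ^ i * A i),
      Finset.sum_range_succ (fun i => (-1 : ℤ) ^ i * C i), ih, hA n, hB (n + 1), hC (n + 1)]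
    ring

end Telescope

section Main

open Groth.Agent.Lib.Helper17.HHLes Groth.Agent.Lib.Helper27CohFin

variable (A : Type u) [CommRing A] [IsArtinianRing A]
  (X : Scheme.{u}) [X.Over (Spec (CommRingCat.of A))] [IsProper (X ↘ Spec (CommRingCat.of A))]

lemma length_HH_ne_top (F : X.Modules) (hF : Coh.IsCoh F) (i : ℕ) :
    Module.length A (Coh.HH X F i) ≠ ⊤ := by
  haveI : Module.Finite A (Coh.HH X F i) := Groth.Agent.S0002.result A X F hF i
  haveI : IsNoetherian A (Coh.HH X F i) := isNoetherian_of_isNoetherianRing_of_finite A _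
  haveI : IsArtinian A (Coh.HH X F i) := inferInstance
  exact Module.length_ne_top

theorem main (S : ShortComplex X.Modules) (hS : S.ShortExact) (h1 : Coh.IsCoh S.X₁)
    (h2 : Coh.IsCoh S.X₂) (h3 : Coh.IsCoh S.X₃) (N : ℕ)
    (hN : Subsingleton (Coh.HH X S.X₁ (N + 1))) :
    ((Finset.range (N + 1)).sum fun i => (-1 : ℤ) ^ i * ((Module.length A (Coh.HH X S.X₂ i)).toNat : ℤ)) =
      ((Finset.range (N + 1)).sum fun i => (-1 : ℤ) ^ i * ((Module.length A (Coh.HH X S.X₁ i)).toNat : ℤ)) +
      ((Finset.range (N + 1)).sum fun i => (-1 : ℤ) ^ i * ((Module.length A (Coh.HH X S.X₃ i)).toNat : ℤ)) := by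
  have key := telescope (fun i => len A (Coh.HH X S.X₁ i)) (fun i => len A (Coh.HH X S.X₂ i))
    (fun i => len A (Coh.HH X S.X₃ i))
    (fun i => len A (LinearMap.range (Canon.HHlin A S.f i)))
    (fun i => len A (LinearMap.range (Canon.HHlin A S.g i)))
    (fun i => len A (LinearMap.range (deltaLin A S hS i))) ?_ ?_ ?_ ?_ N
  · haveI := hN
    have : len A (LinearMap.range (deltaLin A S hS N)) = 0 := len_range_eq_zero _
    simp only [this, mul_zero, sub_zero] at key
    exact key
  · -- injectivity at H⁰
    apply len_eq_of_injective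
    haveI : Mono ((Groth.Agent.Lib.Helper23.QCohLocal.toAbF X).map S.f) :=
      (Groth.Agent.Lib.Helper23.QCohLocal.shortExact_toAbF S hS).mono_f
    exact CategoryTheory.Abelian.Ext.postcomp_mk₀_injective_of_mono _
      ((Groth.Agent.Lib.Helper23.QCohLocal.toAbF X).map S.f)
  · intro i
    refine len_eq_of_exact (deltaLin A S hS i) (Canon.HHlin A S.f (i + 1)) ?_
      (length_HH_ne_top A X _ h1 _)
    ext x
    constructor
    · rintro ⟨y, rfl⟩
      exact Hm_f_delta S hS i y
    · intro hx
      obtain ⟨y, hy⟩ := exact₁ S hS i x hx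
      exact ⟨y, hy⟩
  · intro i
    refine len_eq_of_exact (Canon.HHlin A S.f i) (Canon.HHlin A S.g i) ?_
      (length_HH_ne_top A X _ h2 _)
    ext x
    constructor
    · rintro ⟨y, rfl⟩
      exact Hm_g_f S i y
    · intro hx
      obtain ⟨y, hy⟩ := exact₂ S hS i x hx
      exact ⟨y, hy⟩
  · intro i
    refine len_eq_of_exact (Canon.HHlin A S.g i) (deltaLin A S hS i) ?_
      (length_HH_ne_top A X _ h3 _)
    ext x
    constructor
    · rintro ⟨y, rfl⟩
      exact delta_Hm_g S hS i y
    · intro hx
      obtain ⟨y, hy⟩ := exact₃ S hS i x hx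
      exact ⟨y, hy⟩

end Main

end Groth.Agent.Lib.Helper1.EulerAdd
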