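import Groth.Agent.Lib.Helper27CohFin2

/-!
# Duality by resolutions (helper27)

Fix a scheme `X` over `Spec A`, an `O_X`-module `ω`, a degree `N` and a linear form
`t : H^N(X, ω) → A`.  `IsDual A ω N t M` says that `φ ↦ t ∘ H^N(φ)` is a bijection from
`Hom(M, ω)` onto the `A`-dual of `H^N(X, M)`.

* `isDual_sigma` : the property passes to finite coproducts;
* `isDual_of_resolutions` : if every coherent module is a quotient of a coherent module with the
  property, and `H^{N+1}` vanishes on quasi-coherent modules, then every coherent module has the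
  property (`X` locally Noetherian).
-/

set_option autoImplicit false
universe u
open CategoryTheory Limits AlgebraicGeometry TopologicalSpace Opposite Abelian

namespace Groth.Agent.Lib.Helper27DualRes

open Groth.Agent.Lib.Helper23.QCohLocal Groth.Agent.Lib.Helper23.FinType
  Groth.Agent.Lib.Helper27CoprodFin Groth.Agent.Lib.Helper27CohFin

variable {X : Scheme.{u}} (A : Type u) [CommRing A] [X.Over (Spec (CommRingCat.of A))]
variable (ω : X.Modules) (N : ℕ) (t : Coh.HH X ω N →ₗ[A] A)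

/-- `M` satisfies duality with respect to `(ω, t)` in degree `N`. -/
def IsDual (M : X.Modules) : Prop :=
  ∀ ψ : Coh.HH X M N →ₗ[A] A, ∃! φ : M ⟶ ω,
    ∀ x : Coh.HH X M N,
      ψ x = t (Sheaf.H.map ((SheafOfModules.toSheaf X.ringCatSheaf).map φ) N x)

variable {A ω N t}

theorem HHlin_apply {M M' : X.Modules} (φ : M ⟶ M') (x : Coh.HH X M N) :
    Canon.HHlin A φ N x =
      Sheaf.H.map ((SheafOfModules.toSheaf X.ringCatSheaf).map φ) N x := rfl

theorem HHlin_comp {M M' M'' : X.Modules} (φ : M ⟶ M') (φ' : M' ⟶ M'') (x : Coh.HH X M N) :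
    Canon.HHlin A (φ ≫ φ') N x = Canon.HHlin A φ' N (Canon.HHlin A φ N x) :=
  evalH_comp N (x : Sheaf.H ((toAbF X).obj M) N) φ φ'

theorem HHlin_zero {M M' : X.Modules} (x : Coh.HH X M N) :
    Canon.HHlin A (0 : M ⟶ M') N x = 0 :=
  (evalH (N := M') N (x : Sheaf.H ((toAbF X).obj M) N)).map_zero

/-- decomposition of a class on a finite coproduct. -/
theorem sum_HHlin_sigma {r : ℕ} (f : Fin r → X.Modules) (x : Coh.HH X (∐ f) N) :
    ∑ j, Canon.HHlin A (Sigma.ι f j) N (Canon.HHlin A (sigmaπ f j) N x) = x := by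
  let x' : Sheaf.H ((toAbF X).obj (∐ f)) N := x
  have h1 := congrArg (evalH (N := ∐ f) N x') (sum_sigmaπ_ι f)
  rw [map_sum] at h1
  have h2 := h1.trans (evalH_id N x')
  refine Eq.trans (Finset.sum_congr rfl (fun j _ => ?_)) h2
  exact (evalH_comp N x' (sigmaπ f j) (Sigma.ι f j)).symm

/-- duality passes to finite coproducts. -/
theorem isDual_sigma {r : ℕ} (f : Fin r → X.Modules) (h : ∀ j, IsDual A ω N t (f j)) :
    IsDual A ω N t (∐ f) := by
  intro ψ
  choose φ hφ hφu using fun j => h j (ψ.comp (Canon.HHlin A (Sigma.ι f j) N))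
  have key : ∀ (φ' : ∐ f ⟶ ω),
      (∀ x : Coh.HH X (∐ f) N, ψ x = t (Canon.HHlin A φ' N x)) ↔
        ∀ j, Sigma.ι f j ≫ φ' = φ j := by
    intro φ'
    constructor
    · intro hx j
      apply hφu j
      intro y
      change ψ (Canon.HHlin A (Sigma.ι f j) N y) =
        t (Canon.HHlin A (Sigma.ι f j ≫ φ') N y)
      rw [hx, HHlin_comp]
    · intro hj x
      conv_lhs => rw [← sum_HHlin_sigma (A := A) f x]
      conv_rhs => rw [← sum_HHlin_sigma (A := A) f x]
      rw [map_sum, map_sum, map_sum]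
      refine Finset.sum_congr rfl fun j _ => ?_
      have h1 := hφ j (Canon.HHlin A (sigmaπ f j) N x)
      have h2 : Canon.HHlin A φ' N (Canon.HHlin A (Sigma.ι f j) N
          (Canon.HHlin A (sigmaπ f j) N x)) =
          Canon.HHlin A (φ j) N (Canon.HHlin A (sigmaπ f j) N x) := by
        rw [← HHlin_comp (Sigma.ι f j) φ' (Canon.HHlin A (sigmaπ f j) N x), hj j]
      rw [h2]
      exact h1
  refine ⟨Sigma.desc φ, (key _).mpr (fun j => Sigma.ι_desc _ _), ?_⟩
  intro φ' hφ'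
  apply Sigma.hom_ext
  intro j
  rw [Sigma.ι_desc]
  exact (key φ').mp hφ' j

/-- duality by resolutions. -/
theorem isDual_of_resolutions [IsLocallyNoetherian X]
    (hres : ∀ F : X.Modules, Coh.IsCoh F →
      ∃ (E : X.Modules) (p : E ⟶ F), Coh.IsCoh E ∧ IsDual A ω N t E ∧ Epi p)
    (hvan : ∀ K : X.Modules, K.IsQuasicoherent → Subsingleton (Coh.HH X K (N + 1)))
    (F : X.Modules) (hF : Coh.IsCoh F) : IsDual A ω N t F := by
  intro ψ
  obtain ⟨E₀, p, hE₀, hD₀, hp⟩ := hres F hF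
  have hE₀q : E₀.IsQuasicoherent := hE₀.1
  have hE₀f : SheafOfModules.IsFiniteType (R := X.ringCatSheaf) E₀ := hE₀.2
  have hFq : F.IsQuasicoherent := hF.1
  have hKq : (kernel p).IsQuasicoherent := isQuasicoherent_kernel p
  have hmono : Mono (kernel.ι p) := inferInstance
  have hKf : SheafOfModules.IsFiniteType (R := X.ringCatSheaf) (kernel p) :=
    @isFiniteType_of_mono X _ (kernel p) E₀ (kernel.ι p) hmono hE₀q hE₀f hKq
  obtain ⟨E₁, q, hE₁, hD₁, hq⟩ := hres (kernel p) ⟨hKq, hKf⟩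
  let S : ShortComplex X.Modules := ShortComplex.mk (kernel.ι p) p (kernel.condition p)
  have hS : S.ShortExact :=
    { exact := ShortComplex.exact_of_f_is_kernel _ (kernelIsKernel p)
      mono_f := hmono
      epi_g := hp }
  have hsurj : ∀ x : Coh.HH X F N, ∃ y : Coh.HH X E₀ N, Canon.HHlin A p N y = x := by
    intro x
    have := hvan (kernel p) hKq
    exact exact_delta S hS N x (Subsingleton.elim _ _)
  obtain ⟨φ₀, hφ₀, hφ₀u⟩ := hD₀ (ψ.comp (Canon.HHlin A p N))
  have hφ₀' : ∀ y : Coh.HH X E₀ N, ψ (Canon.HHlin A p N y) = t (Canon.HHlin A φ₀ N y) := hφ₀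
  have hzero : (q ≫ kernel.ι p) ≫ φ₀ = 0 := by
    obtain ⟨φ₁, -, hφ₁u⟩ := hD₁ 0
    have h1 : (q ≫ kernel.ι p) ≫ φ₀ = φ₁ := hφ₁u _ (fun y => by
      change (0 : A) = t (Canon.HHlin A ((q ≫ kernel.ι p) ≫ φ₀) N y)
      rw [HHlin_comp, ← hφ₀', ← HHlin_comp]
      have hz : (q ≫ kernel.ι p) ≫ p = 0 := by
        rw [Category.assoc, kernel.condition, comp_zero]
      rw [hz, HHlin_zero, map_zero])
    have h2 : (0 : E₁ ⟶ ω) = φ₁ := hφ₁u _ (fun y => by
      change (0 : A) = t (Canon.HHlin A (0 : E₁ ⟶ ω) N y)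
      rw [HHlin_zero, map_zero])
    rw [h1, ← h2]
  have hzero' : kernel.ι p ≫ φ₀ = 0 := by
    rw [← cancel_epi q, comp_zero, ← Category.assoc]
    exact hzero
  have hpφ : p ≫ Abelian.epiDesc p φ₀ hzero' = φ₀ := Abelian.comp_epiDesc p φ₀ hzero'
  refine ⟨Abelian.epiDesc p φ₀ hzero', ?_, ?_⟩
  · intro x
    obtain ⟨y, rfl⟩ := hsurj x
    change ψ (Canon.HHlin A p N y) =
      t (Canon.HHlin A (Abelian.epiDesc p φ₀ hzero') N (Canon.HHlin A p N y))
    rw [← HHlin_comp, hpφ]
    exact hφ₀' y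
  · intro φ' hφ'
    have h1 : p ≫ φ' = φ₀ := hφ₀u _ (fun y => by
      change ψ (Canon.HHlin A p N y) = t (Canon.HHlin A (p ≫ φ') N y)
      rw [HHlin_comp]
      exact hφ' _)
    rw [← cancel_epi p, h1, hpφ]

end Groth.Agent.Lib.Helper27DualRes
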