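import Groth.Agent.Lib.Helper27PnHom
import Groth.Agent.Lib.Helper27CoprodFin

/-!
# Matrices of forms as morphisms between sums of twisting sheaves on `P^n_R` (helper27)

* `sym_comp`, `sym_add`, `sym_zero`, `sym_sum` : the symbol calculus of `Helper27PnHom`;
* `mulF_comp`, `mulF_add`, `mulF_zero`, `mulF_sum` : multiplication by forms;
* `matHom M k hM t t' h : ∐_{Fin p} O(t) ⟶ ∐_{Fin q} O(t')` for a `q × p` matrix of forms of degree
  `k`, with `matHom_comp`, `matHom_add`, `matHom_zero`, `matHom_smul_one`;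
* sections of finite coproducts: `ι_sigmaπ_self`, `ι_sigmaπ_ne`, `map_sigmaπ`,
  `bijective_sigmaMap_app`;
* `bijective_mulF_X` : multiplication by `X_l` is bijective on sections over `D₊(X_l)`.
-/

set_option autoImplicit false
universe u

open CategoryTheory CategoryTheory.Limits AlgebraicGeometry TopologicalSpace Opposite
  HomogeneousLocalization MvPolynomial

namespace Groth.Agent.Lib.Helper27KoszHom

open Groth.Agent.Lib.Helper27GrTildeSect Groth.Agent.Lib.Helper27ProjGamma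
  Groth.Agent.Lib.Helper27PnSections Groth.Agent.Lib.Helper27Laurent
  Groth.Agent.Lib.Helper27PnLau Groth.Agent.Lib.Helper27PnLauMul
  Groth.Agent.Lib.Helper27PnHom Groth.Agent.Lib.Helper23.SecTw
  Groth.Agent.Lib.Helper27CoprodFin Groth.Agent.Lib.Helper6 Groth.Agent.Lib.Helper23.Extend

section Coprod

attribute [local instance] Abelian.hasFiniteBiproducts

variable {X : Scheme.{u}} {r : ℕ} (f f' : Fin r → X.Modules)

theorem ι_sigmaπ_self (j : Fin r) : Sigma.ι f j ≫ sigmaπ f j = 𝟙 (f j) := by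
  unfold sigmaπ
  rw [biproduct.isoCoproduct_inv, Sigma.ι_desc_assoc, biproduct.ι_π_self]

theorem ι_sigmaπ_ne {i j : Fin r} (h : i ≠ j) : Sigma.ι f i ≫ sigmaπ f j = 0 := by
  unfold sigmaπ
  rw [biproduct.isoCoproduct_inv, Sigma.ι_desc_assoc, biproduct.ι_π_ne _ h]

variable {f f'}

theorem map_sigmaπ (g : ∀ j, f j ⟶ f' j) (j : Fin r) :
    Limits.Sigma.map g ≫ sigmaπ f' j = sigmaπ f j ≫ g j := by
  refine Sigma.hom_ext _ _ (fun i => ?_)
  rw [Sigma.ι_map_assoc]
  by_cases h : i = j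
  · subst h
    rw [ι_sigmaπ_self, Category.comp_id, ← Category.assoc, ι_sigmaπ_self, Category.id_comp]
  · rw [ι_sigmaπ_ne f' h, comp_zero, ← Category.assoc, ι_sigmaπ_ne f h, zero_comp]

theorem bijective_sigmaMap_app (g : ∀ j, f j ⟶ f' j) (U : X.Opens)
    (hg : ∀ j, Function.Bijective ((g j).app U)) :
    Function.Bijective ((Limits.Sigma.map g).app U) := by
  constructor
  · intro s s' hss'
    have key : ∀ j, (sigmaπ f j).app U s = (sigmaπ f j).app U s' := by
      intro j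
      apply (hg j).1
      have h1 : ∀ z, (g j).app U ((sigmaπ f j).app U z) =
          (sigmaπ f' j).app U ((Limits.Sigma.map g).app U z) := fun z =>
        (congrArg (fun φ => Scheme.Modules.Hom.app φ U z) (map_sigmaπ g j)).symm
      rw [h1, h1, hss']
    have e : ∀ z : Γ((∐ f : X.Modules), U),
        z = ∑ j, (Sigma.ι f j).app U ((sigmaπ f j).app U z) := by
      intro z
      have h1 := congrArg (evalApp (N := ∐ f) U z) (sum_sigmaπ_ι f)
      rw [map_sum] at h1
      exact h1.symm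
    rw [e s, e s']
    exact Finset.sum_congr rfl (fun j _ => by rw [key j])
  · intro t
    choose s hs using fun j => (hg j).2 ((sigmaπ f' j).app U t)
    refine ⟨∑ j, (Sigma.ι f j).app U (s j), ?_⟩
    rw [map_sum]
    have h1 := congrArg (evalApp (N := ∐ f') U t) (sum_sigmaπ_ι f')
    rw [map_sum] at h1
    refine Eq.trans (Finset.sum_congr rfl (fun j _ => ?_)) h1
    have h2 : (Limits.Sigma.map g).app U ((Sigma.ι f j).app U (s j)) =
        (Sigma.ι f' j).app U ((g j).app U (s j)) :=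
      congrArg (fun φ => Scheme.Modules.Hom.app φ U (s j)) (Sigma.ι_map g j)
    rw [h2, hs j]
    rfl

end Coprod

variable {n : ℕ} {R : Type u} [CommRing R]

local notation "𝒢" => CohB1.polyGrading n R
local notation "σ'" => Fin (n + 1)

section Sym

variable {a b c : ℤ}

theorem sym_comp (φ : OO n R a ⟶ OO n R b) (ψ : OO n R b ⟶ OO n R c) :
    sym (φ ≫ ψ) = sym ψ * sym φ := by
  have h1 : sym (φ ≫ ψ) = lau c (Ui n R 0) (torus_le_Ui n R 0)
      (ψ.app (Ui n R 0) (φ.app (Ui n R 0) (gen a 0))) *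
      AddMonoidAlgebra.single (-(ev 0 a)) 1 := rfl
  rw [h1, lau_app ψ, mul_assoc]
  rfl

theorem sym_add (φ ψ : OO n R a ⟶ OO n R b) : sym (φ + ψ) = sym φ + sym ψ := by
  have h1 : sym (φ + ψ) = lau b (Ui n R 0) (torus_le_Ui n R 0)
      (φ.app (Ui n R 0) (gen a 0) + ψ.app (Ui n R 0) (gen a 0)) *
      AddMonoidAlgebra.single (-(ev 0 a)) 1 := rfl
  rw [h1, lau_add, add_mul]
  rfl

theorem sym_zero : sym (0 : OO n R a ⟶ OO n R b) = 0 := by
  have h1 : sym (0 : OO n R a ⟶ OO n R b) = lau b (Ui n R 0) (torus_le_Ui n R 0) 0 *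
      AddMonoidAlgebra.single (-(ev 0 a)) 1 := rfl
  rw [h1, lau_zero, zero_mul]

theorem sym_sum {ι : Type*} (s : Finset ι) (φ : ι → (OO n R a ⟶ OO n R b)) :
    sym (∑ j ∈ s, φ j) = ∑ j ∈ s, sym (φ j) := by
  classical
  induction s using Finset.induction_on with
  | empty => simp only [Finset.sum_empty]; exact sym_zero
  | insert j s hj ih => rw [Finset.sum_insert hj, Finset.sum_insert hj, sym_add, ih]

end Sym

section MulF

variable {a b c : ℤ}

theorem mulF_comp (k k' : ℕ) (h : a + k = b) (h' : b + k' = c) (F G : MvPolynomial σ' R)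
    (hF : F ∈ 𝒢 k) (hG : G ∈ 𝒢 k') (h'' : a + ((k + k' : ℕ) : ℤ) = c)
    (hFG : F * G ∈ 𝒢 (k + k')) :
    mulF k h F hF ≫ mulF k' h' G hG = mulF (k + k') h'' (F * G) hFG := by
  apply eq_of_sym_eq
  rw [sym_comp, sym_mulF, sym_mulF, sym_mulF, map_mul, mul_comm]

theorem mulF_add (k : ℕ) (h : a + k = b) (F G : MvPolynomial σ' R)
    (hF : F ∈ 𝒢 k) (hG : G ∈ 𝒢 k) (hFG : F + G ∈ 𝒢 k) :
    mulF k h (F + G) hFG = mulF k h F hF + mulF k h G hG := by
  apply eq_of_sym_eq
  rw [sym_add, sym_mulF, sym_mulF, sym_mulF, map_add]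

theorem mulF_zero (k : ℕ) (h : a + k = b) (h0 : (0 : MvPolynomial σ' R) ∈ 𝒢 k) :
    mulF k h (0 : MvPolynomial σ' R) h0 = 0 := by
  apply eq_of_sym_eq
  rw [sym_zero, sym_mulF, map_zero]

theorem mulF_sum {ι : Type*} (s : Finset ι) (k : ℕ) (h : a + k = b) (F : ι → MvPolynomial σ' R)
    (hF : ∀ j, F j ∈ 𝒢 k) (hs : ∑ j ∈ s, F j ∈ 𝒢 k) :
    mulF k h (∑ j ∈ s, F j) hs = ∑ j ∈ s, mulF k h (F j) (hF j) := by
  apply eq_of_sym_eq
  rw [sym_sum, sym_mulF, map_sum]
  exact Finset.sum_congr rfl (fun j _ => (sym_mulF k h (F j) (hF j)).symm)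

theorem mulF_congr (k : ℕ) (h : a + k = b) {F G : MvPolynomial σ' R} (hFG : F = G)
    (hF : F ∈ 𝒢 k) (hG : G ∈ 𝒢 k) : mulF k h F hF = mulF k h G hG := by
  subst hFG
  rfl

end MulF

section MatHom

variable {p q r : ℕ}

/-- the morphism `∐_{Fin p} O(t) ⟶ ∐_{Fin q} O(t')` defined by a matrix of forms of degree `k`. -/
noncomputable def matHom (M : Matrix (Fin q) (Fin p) (MvPolynomial σ' R)) (k : ℕ)
    (hM : ∀ b a, M b a ∈ 𝒢 k) (t t' : ℤ) (h : t + k = t') :
    (∐ fun _ : Fin p => OO n R t) ⟶ ∐ fun _ : Fin q => OO n R t' :=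
  Sigma.desc (fun a => ∑ b, mulF k h (M b a) (hM b a) ≫ Sigma.ι (fun _ : Fin q => OO n R t') b)

theorem ι_matHom (M : Matrix (Fin q) (Fin p) (MvPolynomial σ' R)) (k : ℕ)
    (hM : ∀ b a, M b a ∈ 𝒢 k) (t t' : ℤ) (h : t + k = t') (a : Fin p) :
    Sigma.ι (fun _ : Fin p => OO n R t) a ≫ matHom M k hM t t' h =
      ∑ b, mulF k h (M b a) (hM b a) ≫ Sigma.ι (fun _ : Fin q => OO n R t') b :=
  Sigma.ι_desc _ _

theorem matHom_congr {M M' : Matrix (Fin q) (Fin p) (MvPolynomial σ' R)} (hMM' : M = M') (k : ℕ)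
    (hM : ∀ b a, M b a ∈ 𝒢 k) (hM' : ∀ b a, M' b a ∈ 𝒢 k) (t t' : ℤ) (h : t + k = t') :
    matHom M k hM t t' h = matHom M' k hM' t t' h := by
  subst hMM'
  rfl

theorem matHom_comp (M : Matrix (Fin q) (Fin p) (MvPolynomial σ' R))
    (N : Matrix (Fin r) (Fin q) (MvPolynomial σ' R)) (k k' : ℕ)
    (hM : ∀ b a, M b a ∈ 𝒢 k) (hN : ∀ c b, N c b ∈ 𝒢 k') (t t' t'' : ℤ) (h : t + k = t')
    (h' : t' + k' = t'') (h'' : t + ((k + k' : ℕ) : ℤ) = t'')
    (hNM : ∀ c a, (N * M) c a ∈ 𝒢 (k + k')) :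
    matHom M k hM t t' h ≫ matHom N k' hN t' t'' h' = matHom (N * M) (k + k') hNM t t'' h'' := by
  refine Sigma.hom_ext _ _ (fun a => ?_)
  rw [← Category.assoc, ι_matHom, ι_matHom, Preadditive.sum_comp]
  have hmem : ∀ b c, M b a * N c b ∈ 𝒢 (k + k') := fun b c =>
    SetLike.mul_mem_graded (hM b a) (hN c b)
  have h1 : ∀ b, (mulF k h (M b a) (hM b a) ≫ Sigma.ι (fun _ : Fin q => OO n R t') b) ≫
      matHom N k' hN t' t'' h' =
      ∑ c, mulF (k + k') h'' (M b a * N c b) (hmem b c) ≫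
        Sigma.ι (fun _ : Fin r => OO n R t'') c := by
    intro b
    rw [Category.assoc, ι_matHom, Preadditive.comp_sum]
    refine Finset.sum_congr rfl (fun c _ => ?_)
    rw [← Category.assoc, mulF_comp k k' h h' _ _ (hM b a) (hN c b) h'' (hmem b c)]
  rw [Finset.sum_congr rfl (fun b _ => h1 b), Finset.sum_comm]
  refine Finset.sum_congr rfl (fun c _ => ?_)
  rw [← Preadditive.sum_comp]
  congr 1
  have hs : ∑ b, M b a * N c b ∈ 𝒢 (k + k') := Submodule.sum_mem _ (fun b _ => hmem b c)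
  rw [← mulF_sum Finset.univ (k + k') h'' (fun b => M b a * N c b) (fun b => hmem b c) hs]
  refine mulF_congr _ _ ?_ _ _
  rw [Matrix.mul_apply]
  exact Finset.sum_congr rfl (fun b _ => mul_comm _ _)

theorem matHom_add (M M' : Matrix (Fin q) (Fin p) (MvPolynomial σ' R)) (k : ℕ)
    (hM : ∀ b a, M b a ∈ 𝒢 k) (hM' : ∀ b a, M' b a ∈ 𝒢 k) (t t' : ℤ) (h : t + k = t')
    (hMM' : ∀ b a, (M + M') b a ∈ 𝒢 k) :
    matHom (M + M') k hMM' t t' h = matHom M k hM t t' h + matHom M' k hM' t t' h := by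
  refine Sigma.hom_ext _ _ (fun a => ?_)
  rw [Preadditive.comp_add, ι_matHom, ι_matHom, ι_matHom, ← Finset.sum_add_distrib]
  refine Finset.sum_congr rfl (fun b _ => ?_)
  rw [← Preadditive.add_comp]
  congr 1
  exact mulF_add k h (M b a) (M' b a) (hM b a) (hM' b a) (hMM' b a)

theorem matHom_zero (k : ℕ) (t t' : ℤ) (h : t + k = t')
    (h0 : ∀ (b : Fin q) (a : Fin p), (0 : Matrix (Fin q) (Fin p) (MvPolynomial σ' R)) b a ∈ 𝒢 k) :
    matHom (0 : Matrix (Fin q) (Fin p) (MvPolynomial σ' R)) k h0 t t' h = 0 := by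
  refine Sigma.hom_ext _ _ (fun a => ?_)
  rw [comp_zero, ι_matHom]
  refine Finset.sum_eq_zero (fun b _ => ?_)
  have : mulF k h ((0 : Matrix (Fin q) (Fin p) (MvPolynomial σ' R)) b a) (h0 b a) = 0 :=
    mulF_zero k h _
  rw [this, zero_comp]

theorem matHom_smul_one (F : MvPolynomial σ' R) (k : ℕ) (hF : F ∈ 𝒢 k) (t t' : ℤ)
    (h : t + k = t')
    (hM : ∀ b a : Fin p, (F • (1 : Matrix (Fin p) (Fin p) (MvPolynomial σ' R))) b a ∈ 𝒢 k) :
    matHom (F • (1 : Matrix (Fin p) (Fin p) (MvPolynomial σ' R))) k hM t t' h =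
      Limits.Sigma.map (fun _ : Fin p => mulF k h F hF) := by
  refine Sigma.hom_ext _ _ (fun a => ?_)
  rw [ι_matHom, Sigma.ι_map]
  rw [Finset.sum_eq_single a]
  · congr 1
    refine mulF_congr _ _ ?_ _ _
    rw [Matrix.smul_apply, Matrix.one_apply_eq, smul_eq_mul, mul_one]
  · intro b _ hba
    have h0 : (F • (1 : Matrix (Fin p) (Fin p) (MvPolynomial σ' R))) b a = 0 := by
      rw [Matrix.smul_apply, Matrix.one_apply_ne hba, smul_zero]
    rw [mulF_congr k h h0 (hM b a) (Submodule.zero_mem _), mulF_zero, zero_comp]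
  · intro ha
    exact absurd (Finset.mem_univ a) ha

end MatHom

section LocalIso

theorem X_mem (l : σ') : (X l : MvPolynomial σ' R) ∈ 𝒢 1 :=
  (mem_homogeneousSubmodule _ _).mpr (isHomogeneous_X R l)

theorem toL_X (l : σ') :
    toL (X l : MvPolynomial σ' R) = AddMonoidAlgebra.single (ev l (1 : ℤ)) 1 := by
  rw [X, toL_monomial]
  congr 1
  funext j
  rw [emb_apply]
  unfold ev
  by_cases h : j = l
  · subst h
    simp
  · rw [if_neg h, Finsupp.single_apply, if_neg (Ne.symm h)]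
    rfl

theorem mulF_X_gen {a b : ℤ} (h : a + ((1 : ℕ) : ℤ) = b) (l : σ') :
    (mulF 1 h (X l) (X_mem l)).app (Ui n R l) (gen a l) = gen b l := by
  apply lau_injective b (Finsupp.single l 1) (Ui n R l) rfl (by simp) (torus_le_Ui n R l)
  rw [lau_app, lau_gen, lau_gen, sym_mulF, toL_X, AddMonoidAlgebra.single_mul_single, mul_one]
  congr 1
  funext j
  unfold ev
  simp only [Pi.add_apply]
  split_ifs <;> omega

/-- multiplication by `X_l` is bijective on sections over `D₊(X_l)`. -/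
theorem bijective_mulF_X {a b : ℤ} (h : a + ((1 : ℕ) : ℤ) = b) (l : σ') :
    Function.Bijective ((mulF 1 h (X l) (X_mem l)).app (Ui n R l)) := by
  constructor
  · intro s s' hss'
    apply lau_injective a (Finsupp.single l 1) (Ui n R l) rfl (by simp) (torus_le_Ui n R l)
    have h1 := congrArg (lau b (Ui n R l) (torus_le_Ui n R l)) hss'
    rw [lau_app, lau_app, sym_mulF, toL_X] at h1
    have h2 := congrArg (fun z => AddMonoidAlgebra.single (-(ev l (1 : ℤ))) (1 : R) * z) h1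
    simp only [← mul_assoc] at h2
    have h3 : (AddMonoidAlgebra.single (-(ev l (1 : ℤ))) (1 : R) :
        AddMonoidAlgebra R (σ' → ℤ)) * AddMonoidAlgebra.single (ev l (1 : ℤ)) 1 = 1 := by
      rw [mul_comm]
      exact single_ev_mul l 1
    rw [h3, one_mul, one_mul] at h2
    exact h2
  · intro t
    have ht := coef_spec (isGen_gen (n := n) (R := R) b l) le_rfl t
    refine ⟨coef (isGen_gen (n := n) (R := R) b l) le_rfl t • gen a l, ?_⟩
    rw [Scheme.Modules.Hom.app_smul, mulF_X_gen h l]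
    have e : res (GrTilde.tilde 𝒢 𝒢 b) (le_refl (Ui n R l)) (gen b l) = gen b l := by
      change (GrTilde.tilde 𝒢 𝒢 b).presheaf.map (homOfLE (le_refl (Ui n R l))).op (gen b l) = _
      have : (homOfLE (le_refl (Ui n R l))).op = 𝟙 _ := rfl
      rw [this, CategoryTheory.Functor.map_id]
      rfl
    rw [e] at ht
    exact ht

end LocalIso

end Groth.Agent.Lib.Helper27KoszHom
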