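import Groth.Agent.Lib.Helper27CMReg

/-!
# Chasing cohomology through a flat resolution (helper27)

Setting: a scheme `X`, an exact complex `K^0 → K^1 → ⋯ → K^T → K^{T+1} → 0` of flat quasi-coherent
modules, a quasi-coherent module `G`, cohomology of quasi-coherent modules vanishing above degree
`N ≤ T`, and `H^q(K^j ⊗ G) = 0` whenever `j + q = T`, `q ≥ 1`.
Then `K^T ⊗ G ⟶ K^{T+1} ⊗ G` is surjective on global sections (`surjective_top`).

* `surjective_app_top_of_shortExact` : for a short exact sequence with `H^1(X₁) = 0`, `X₂ ⟶ X₃` is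
  surjective on global sections.
* `isFlat_sigma` : finite coproducts of flat modules are flat.
-/

set_option autoImplicit false
universe u
open CategoryTheory Limits AlgebraicGeometry TopologicalSpace Opposite Abelian

namespace Groth.Agent.Lib.Helper27ResChase

open Groth.Agent.Lib.Helper23.QCohLocal Groth.Agent.Lib.Helper23.FinType
  Groth.Agent.Lib.Helper27CoprodFin Groth.Agent.Lib.Helper27CohFin
  Groth.Agent.Lib.Helper21.ModTensor3 Groth.Agent.Lib.Helper21.ModTensor5
  Groth.Agent.Lib.Helper27SerreVan Groth.Agent.Lib.Helper27CMReg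

variable {X : Scheme.{u}}

/-- for a short exact sequence with `H^1(X₁) = 0`, `X₂ ⟶ X₃` is surjective on global sections. -/
theorem surjective_app_top_of_shortExact (S : ShortComplex X.Modules) (hS : S.ShortExact)
    (h1 : Subsingleton (Coh.HH X S.X₁ 1)) : Function.Surjective (S.g.app ⊤) := by
  intro t
  have hT : Limits.IsTerminal (⊤ : X.Opens) := Limits.isTerminalTop
  let x : Coh.HH X S.X₃ 0 := (Sheaf.H.equiv₀ (Coh.toAb S.X₃) hT).symm t
  have hδ : delta S hS 0 x = 0 := Subsingleton.elim (α := Coh.HH X S.X₁ (0 + 1)) _ _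
  obtain ⟨y, hy⟩ := exact_delta S hS 0 x hδ
  refine ⟨Sheaf.H.equiv₀ (Coh.toAb S.X₂) hT y, ?_⟩
  have e1 := Sheaf.H.equiv₀_naturality hT ((SheafOfModules.toSheaf X.ringCatSheaf).map S.g) y
  have h2 : Sheaf.H.map ((SheafOfModules.toSheaf X.ringCatSheaf).map S.g) 0 y = x := hy
  rw [h2] at e1
  refine Eq.trans ?_ (e1.trans ?_)
  · rfl
  · exact (Sheaf.H.equiv₀ (Coh.toAb S.X₃) hT).apply_symm_apply t

/-- finite coproducts of flat modules are flat. -/
theorem isFlat_sigma {r : ℕ} (f : Fin r → X.Modules)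
    (hf : ∀ j, ModSite.IsFlat (O := X.sheaf) (f j)) : ModSite.IsFlat (O := X.sheaf) (∐ f) := by
  let g : ULift.{u} (Fin r) → X.Modules := fun j => f j.down
  have h1 : ModSite.IsFlat (O := X.sheaf) (∐ g) :=
    isFlat_of_isColimit_cofan X.sheaf g (fun j => hf j.down) _ (coproductIsCoproduct g)
  let e : ∐ g ≅ ∐ f := Sigma.reindex (Equiv.ulift : ULift.{u} (Fin r) ≃ Fin r) f
  exact isFlat_of_iso X.sheaf e h1

section Chase

variable (Kx : ℕ → X.Modules) (d : ∀ i, Kx i ⟶ Kx (i + 1)) (hd : ∀ i, d i ≫ d (i + 1) = 0)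

/-- the cycles. -/
noncomputable abbrev Z (i : ℕ) : X.Modules := kernel (d i)

/-- `0 → Z^i → K^i → Z^{i+1} → 0`. -/
noncomputable def ses (i : ℕ) : ShortComplex X.Modules :=
  ShortComplex.mk (kernel.ι (d i)) (kernel.lift (d (i + 1)) (d i) (hd i)) (by
    rw [← cancel_mono (kernel.ι (d (i + 1))), Category.assoc, kernel.lift_ι, kernel.condition,
      zero_comp])

theorem ses_shortExact (i : ℕ) (hex : (ShortComplex.mk (d i) (d (i + 1)) (hd i)).Exact) :
    (ses Kx d hd i).ShortExact := by
  have hepi : Epi (kernel.lift (d (i + 1)) (d i) (hd i)) :=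
    (ShortComplex.exact_iff_epi_kernel_lift _).1 hex
  have hlim : IsLimit (KernelFork.ofι (kernel.ι (d i))
      (show kernel.ι (d i) ≫ kernel.lift (d (i + 1)) (d i) (hd i) = 0 from (ses Kx d hd i).zero)) :=
    KernelFork.IsLimit.ofι _ _
      (fun {W} g hg => kernel.lift (d i) g (by
        have := congrArg (fun z => z ≫ kernel.ι (d (i + 1))) hg
        simpa using this))
      (fun g hg => kernel.lift_ι _ _ _)
      (fun g hg m hm => by
        rw [← cancel_mono (kernel.ι (d i)), kernel.lift_ι]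
        exact hm)
  exact { exact := ShortComplex.exact_of_f_is_kernel _ hlim
          mono_f := (inferInstance : Mono (kernel.ι (d i)))
          epi_g := hepi }

/-- `0 → Z^T → K^T → K^{T+1} → 0`. -/
noncomputable def sesTop (T : ℕ) : ShortComplex X.Modules :=
  ShortComplex.mk (kernel.ι (d T)) (d T) (kernel.condition (d T))

theorem sesTop_shortExact (T : ℕ) (hepi : Epi (d T)) : (sesTop Kx d T).ShortExact :=
  { exact := ShortComplex.exact_of_f_is_kernel _ (kernelIsKernel (d T))
    mono_f := (inferInstance : Mono (kernel.ι (d T)))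
    epi_g := hepi }

variable (hex : ∀ i, (ShortComplex.mk (d i) (d (i + 1)) (hd i)).Exact)
  (T : ℕ) (hepi : Epi (d T)) (hflat : ∀ i, ModSite.IsFlat (O := X.sheaf) (Kx i))

include hex hepi hflat in
theorem isFlat_Z : ∀ p j : ℕ, j + p = T → ModSite.IsFlat (O := X.sheaf) (Z Kx d j) := by
  intro p
  induction p with
  | zero =>
    intro j hj
    have hj' : j = T := by omega
    subst hj'
    exact isFlat_left X.sheaf (sesTop Kx d j) (sesTop_shortExact Kx d j hepi) (hflat j)
      (hflat (j + 1))
  | succ p ih =>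
    intro j hj
    exact isFlat_left X.sheaf (ses Kx d hd j) (ses_shortExact Kx d hd j (hex j)) (hflat j)
      (ih (j + 1) (by omega))

variable (hq : ∀ i, (Kx i).IsQuasicoherent) (G : X.Modules) (hG : G.IsQuasicoherent)
  (N : ℕ) (hNT : N ≤ T)
  (hvan : ∀ M : X.Modules, M.IsQuasicoherent → ∀ i, N < i → Subsingleton (Coh.HH X M i))
  (hK : ∀ j q : ℕ, j + q = T → 1 ≤ q → Subsingleton (Coh.HH X (CohB1.tensorMod (Kx j) G) q))

include hq in
theorem isQuasicoherent_Z (i : ℕ) : (Z Kx d i).IsQuasicoherent := by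
  haveI := hq i
  haveI := hq (i + 1)
  exact isQuasicoherent_kernel (d i)

include hex hepi hflat hq hG hNT hvan hK in
theorem chase : ∀ j q : ℕ, j + q = T + 1 → 1 ≤ q →
    Subsingleton (Coh.HH X (CohB1.tensorMod (Z Kx d j) G) q) := by
  intro j
  induction j with
  | zero =>
    intro q hjq _
    haveI := isQuasicoherent_Z Kx d hq 0
    haveI := hG
    exact hvan _ (Groth.Agent.Lib.Helper23.TensorQCoh.isQuasicoherent_tensorMod _ G) q (by omega)
  | succ j ih =>
    intro q hjq hq1
    have hfl : ModSite.IsFlat (O := X.sheaf) (Z Kx d (j + 1)) :=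
      isFlat_Z Kx d hd hex T hepi hflat (T - (j + 1)) (j + 1) (by omega)
    have hS : ((ses Kx d hd j).map (tw G)).ShortExact :=
      shortExact_tensor X.sheaf (ses Kx d hd j) (ses_shortExact Kx d hd j (hex j)) hfl G
    have h2 : Subsingleton (Coh.HH X ((ses Kx d hd j).map (tw G)).X₂ q) :=
      hK j q (by omega) hq1
    have h1 : Subsingleton (Coh.HH X ((ses Kx d hd j).map (tw G)).X₁ (q + 1)) :=
      ih (q + 1) (by omega) (by omega)
    exact subsingleton_of_shortExact _ hS q h2 h1

include hex hepi hflat hq hG hNT hvan hK in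
/-- `K^T ⊗ G ⟶ K^{T+1} ⊗ G` is surjective on global sections. -/
theorem surjective_top : Function.Surjective (((tw G).map (d T)).app ⊤) := by
  have hS : ((sesTop Kx d T).map (tw G)).ShortExact :=
    shortExact_tensor X.sheaf (sesTop Kx d T) (sesTop_shortExact Kx d T hepi) (hflat (T + 1)) G
  have h1 : Subsingleton (Coh.HH X ((sesTop Kx d T).map (tw G)).X₁ 1) :=
    chase Kx d hd hex T hepi hflat hq G hG N hNT hvan hK T 1 rfl le_rfl
  exact surjective_app_top_of_shortExact _ hS h1

end Chase

end Groth.Agent.Lib.Helper27ResChase
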