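import Groth.Agent.Lib.Helper27CohFin
import Groth.Agent.Lib.Helper27CoprodFin
import Groth.Agent.Lib.Helper27ResChase

/-!
# Linear algebra on the long exact cohomology sequence over a field (helper27)
-/

set_option autoImplicit false
universe u
open CategoryTheory Limits AlgebraicGeometry TopologicalSpace Opposite Abelian

namespace Groth.Agent.Lib.Helper27LesLin

open Groth.Agent.Lib.Helper23.QCohLocal Groth.Agent.Lib.Helper27CohFin
  Groth.Agent.Lib.Helper27CoprodFin

variable {X : Scheme.{u}}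

section General

variable (A : Type u) [CommRing A] [X.Over (Spec (CommRingCat.of A))]

theorem HHlin_apply {M N : X.Modules} (φ : M ⟶ N) (i : ℕ) (x : Coh.HH X M i) :
    Canon.HHlin A φ i x = evalH i (show Sheaf.H ((toAbF X).obj M) i from x) φ := rfl

/-- an isomorphism of modules induces a linear equivalence on cohomology. -/
noncomputable def HHequiv {M N : X.Modules} (e : M ≅ N) (i : ℕ) :
    Coh.HH X M i ≃ₗ[A] Coh.HH X N i :=
  LinearEquiv.ofLinear (Canon.HHlin A e.hom i) (Canon.HHlin A e.inv i)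
    (by
      ext x
      change Canon.HHlin A e.hom i (Canon.HHlin A e.inv i x) = x
      rw [HHlin_apply, HHlin_apply, ← evalH_comp, e.inv_hom_id]
      exact evalH_id i _)
    (by
      ext x
      change Canon.HHlin A e.inv i (Canon.HHlin A e.hom i x) = x
      rw [HHlin_apply, HHlin_apply, ← evalH_comp, e.hom_inv_id]
      exact evalH_id i _)

theorem finrank_HH_of_iso {M N : X.Modules} (e : M ≅ N) (i : ℕ) :
    Module.finrank A (Coh.HH X M i) = Module.finrank A (Coh.HH X N i) :=
  (HHequiv A e i).finrank_eq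

variable (S : ShortComplex X.Modules) (hS : S.ShortExact)

include hS

theorem surjective_HHlin_f (i : ℕ) (h3 : Subsingleton (Coh.HH X S.X₃ i)) :
    Function.Surjective (Canon.HHlin A S.f i) := by
  intro x
  have hS' := shortExact_toAbF S hS
  obtain ⟨y, hy⟩ := Ext.covariant_sequence_exact₂ _ hS' (n := i) x
    (Subsingleton.elim (α := Coh.HH X S.X₃ i) _ _)
  exact ⟨y, hy⟩

theorem HHlin_f_delta (i : ℕ) (y : Coh.HH X S.X₃ i) :
    Canon.HHlin A S.f (i + 1) (delta S hS i y) = 0 := by
  have h := (shortExact_toAbF S hS).extClass_comp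
  exact (Ext.comp_assoc_of_third_deg_zero y (shortExact_toAbF S hS).extClass
      (Ext.mk₀ ((toAbF X).map S.f)) rfl).trans
    ((congrArg (fun z => y.comp z rfl) h).trans (Ext.comp_zero _ _ _ _ _))

theorem injective_HHlin_f_of_delta_zero (i : ℕ)
    (hδ : ∀ y : Coh.HH X S.X₃ i, delta S hS i y = 0) :
    Function.Injective (Canon.HHlin A S.f (i + 1)) := by
  rw [injective_iff_map_eq_zero]
  intro x hx
  have hS' := shortExact_toAbF S hS
  obtain ⟨y, hy⟩ := Ext.covariant_sequence_exact₁ _ hS' (n₁ := i + 1) x hx (n₀ := i) rfl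
  rw [← hy]
  exact hδ y

theorem delta_zero_of_injective (i : ℕ)
    (hinj : Function.Injective (Canon.HHlin A S.f (i + 1))) (y : Coh.HH X S.X₃ i) :
    delta S hS i y = 0 :=
  hinj ((HHlin_f_delta A S hS i y).trans (map_zero _).symm)

/-- if the connecting map vanishes on `H^0(X₃)`, then `X₂ ⟶ X₃` is surjective on global
sections. -/
theorem surjective_app_top_of_delta_zero (hδ : ∀ y : Coh.HH X S.X₃ 0, delta S hS 0 y = 0) :
    Function.Surjective (S.g.app ⊤) := by
  intro t
  have hT : Limits.IsTerminal (⊤ : X.Opens) := Limits.isTerminalTop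
  let x : Coh.HH X S.X₃ 0 := (Sheaf.H.equiv₀ (Coh.toAb S.X₃) hT).symm t
  obtain ⟨y, hy⟩ := exact_delta S hS 0 x (hδ x)
  refine ⟨Sheaf.H.equiv₀ (Coh.toAb S.X₂) hT y, ?_⟩
  have e1 := Sheaf.H.equiv₀_naturality hT ((SheafOfModules.toSheaf X.ringCatSheaf).map S.g) y
  have h2 : Sheaf.H.map ((SheafOfModules.toSheaf X.ringCatSheaf).map S.g) 0 y = x := hy
  rw [h2] at e1
  refine Eq.trans ?_ (e1.trans ?_)
  · rfl
  · exact (Sheaf.H.equiv₀ (Coh.toAb S.X₃) hT).apply_symm_apply t

/-- conversely, surjectivity on global sections kills the connecting map on `H^0(X₃)`. -/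
theorem delta_zero_of_surjective_app_top (hs : Function.Surjective (S.g.app ⊤))
    (y : Coh.HH X S.X₃ 0) : delta S hS 0 y = 0 := by
  have hT : Limits.IsTerminal (⊤ : X.Opens) := Limits.isTerminalTop
  obtain ⟨t, ht⟩ := hs (Sheaf.H.equiv₀ (Coh.toAb S.X₃) hT y)
  let z : Coh.HH X S.X₂ 0 := (Sheaf.H.equiv₀ (Coh.toAb S.X₂) hT).symm t
  have hz : Sheaf.H.map ((SheafOfModules.toSheaf X.ringCatSheaf).map S.g) 0 z = y := by
    apply (Sheaf.H.equiv₀ (Coh.toAb S.X₃) hT).injective
    have e1 := Sheaf.H.equiv₀_naturality hT ((SheafOfModules.toSheaf X.ringCatSheaf).map S.g) z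
    refine e1.symm.trans (Eq.trans ?_ ht)
    change S.g.app ⊤ (Sheaf.H.equiv₀ (Coh.toAb S.X₂) hT z) = S.g.app ⊤ t
    rw [(Sheaf.H.equiv₀ (Coh.toAb S.X₂) hT).apply_symm_apply t]
  rw [← hz]
  exact delta_map S hS 0 z

end General

section Field

variable (k : Type u) [Field k] [X.Over (Spec (CommRingCat.of k))]
  (S : ShortComplex X.Modules) (hS : S.ShortExact)

include hS

/-- `h^1(X₂) ≤ h^1(X₁)` if `H^1(X₃) = 0`. -/
theorem finrank_le (h3 : Subsingleton (Coh.HH X S.X₃ 1))
    (hf1 : Module.Finite k (Coh.HH X S.X₁ 1)) :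
    Module.finrank k (Coh.HH X S.X₂ 1) ≤ Module.finrank k (Coh.HH X S.X₁ 1) :=
  LinearMap.finrank_le_finrank_of_surjective (surjective_HHlin_f k S hS 1 h3)

/-- equality `h^1(X₂) = h^1(X₁)` (with `H^1(X₃) = 0`) forces surjectivity on global sections. -/
theorem surjective_app_top_of_finrank_eq (h3 : Subsingleton (Coh.HH X S.X₃ 1))
    (hf1 : Module.Finite k (Coh.HH X S.X₁ 1)) (hf2 : Module.Finite k (Coh.HH X S.X₂ 1))
    (heq : Module.finrank k (Coh.HH X S.X₂ 1) = Module.finrank k (Coh.HH X S.X₁ 1)) :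
    Function.Surjective (S.g.app ⊤) := by
  have hsurj := surjective_HHlin_f k S hS 1 h3
  have hinj : Function.Injective (Canon.HHlin k S.f 1) :=
    (LinearMap.injective_iff_surjective_of_finrank_eq_finrank heq.symm).2 hsurj
  exact surjective_app_top_of_delta_zero S hS (delta_zero_of_injective k S hS 0 hinj)

/-- surjectivity on global sections (with `H^1(X₃) = 0`) forces `h^1(X₁) = h^1(X₂)`. -/
theorem finrank_eq_of_surjective_app_top (h3 : Subsingleton (Coh.HH X S.X₃ 1))
    (hs : Function.Surjective (S.g.app ⊤)) :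
    Module.finrank k (Coh.HH X S.X₁ 1) = Module.finrank k (Coh.HH X S.X₂ 1) := by
  have hsurj := surjective_HHlin_f k S hS 1 h3
  have hinj : Function.Injective (Canon.HHlin k S.f 1) :=
    injective_HHlin_f_of_delta_zero k S hS 0 (delta_zero_of_surjective_app_top S hS hs)
  exact (LinearEquiv.ofBijective (Canon.HHlin k S.f 1) ⟨hinj, hsurj⟩).finrank_eq

end Field

end Groth.Agent.Lib.Helper27LesLin
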