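import Mathlib
import Groth.Agent.Lib.Helper27DualRes
import Groth.Agent.Lib.Helper27KoszHom
import Groth.Agent.Lib.Helper27LesLin

/-!
# Euler characteristics (by lengths) of finite coproducts (helper27)

For `X` over `Spec A`:
* `HHsigmaEquiv` : `H^i(X, ∐_{j : Fin c} f j) ≃ₗ[A] Π j, H^i(X, f j)`;
* `chi A X N M` : `Σ_{j ≤ N} (-1)^j length_A H^j(X, M)`;
* `chi_of_iso`, `chi_sigma_const`, `chi_of_isZero`.
-/

set_option autoImplicit false
universe u
open CategoryTheory Limits AlgebraicGeometry TopologicalSpace Opposite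

namespace Groth.Agent.Lib.Helper27HilbPolyB

open Groth.Agent.Lib.Helper27CoprodFin Groth.Agent.Lib.Helper27KoszHom
  Groth.Agent.Lib.Helper27DualRes

variable (A : Type u) [CommRing A] {X : Scheme.{u}} [X.Over (Spec (CommRingCat.of A))]

theorem HHlin_id {M : X.Modules} (i : ℕ) (x : Coh.HH X M i) : Canon.HHlin A (𝟙 M) i x = x := by
  rw [Groth.Agent.Lib.Helper27LesLin.HHlin_apply]
  exact evalH_id i _

/-- cohomology of a finite coproduct. -/
noncomputable def HHsigmaEquiv {c : ℕ} (f : Fin c → X.Modules) (i : ℕ) :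
    Coh.HH X (∐ f) i ≃ₗ[A] (∀ j, Coh.HH X (f j) i) :=
  LinearEquiv.ofLinearMap (LinearMap.pi (fun j => Canon.HHlin A (sigmaπ f j) i))
    (LinearMap.lsum A _ A (fun j => Canon.HHlin A (Sigma.ι f j) i))
    (by
      refine LinearMap.ext (fun y => ?_)
      funext k
      change Canon.HHlin A (sigmaπ f k) i
        (LinearMap.lsum A _ A (fun j => Canon.HHlin A (Sigma.ι f j) i) y) = y k
      rw [LinearMap.lsum_apply, LinearMap.sum_apply, map_sum]
      rw [Finset.sum_eq_single k]
      · change Canon.HHlin A (sigmaπ f k) i (Canon.HHlin A (Sigma.ι f k) i (y k)) = y k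
        rw [← HHlin_comp, ι_sigmaπ_self, HHlin_id]
      · intro j _ hjk
        change Canon.HHlin A (sigmaπ f k) i (Canon.HHlin A (Sigma.ι f j) i (y j)) = 0
        rw [← HHlin_comp, ι_sigmaπ_ne f hjk, HHlin_zero]
      · intro h
        exact absurd (Finset.mem_univ k) h)
    (by
      refine LinearMap.ext (fun x => ?_)
      change LinearMap.lsum A _ A (fun j => Canon.HHlin A (Sigma.ι f j) i)
        (fun j => Canon.HHlin A (sigmaπ f j) i x) = x
      rw [LinearMap.lsum_apply, LinearMap.sum_apply]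
      exact sum_HHlin_sigma (A := A) f x)

theorem length_HH_sigma_const (c : ℕ) (M : X.Modules) (i : ℕ) :
    Module.length A (Coh.HH X (∐ fun _ : Fin c => M) i) = c * Module.length A (Coh.HH X M i) := by
  rw [(HHsigmaEquiv A (fun _ : Fin c => M) i).length_eq, Module.length_pi]
  simp

/-- the Euler characteristic by lengths, truncated at `N`. -/
noncomputable def chi (X : Scheme.{u}) [X.Over (Spec (CommRingCat.of A))] (N : ℕ) (M : X.Modules) : ℤ :=
  (Finset.range (N + 1)).sum fun j => (-1 : ℤ) ^ j *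
    ((Module.length A (Coh.HH X M j)).toNat : ℤ)

theorem chi_of_iso (N : ℕ) {M M' : X.Modules} (e : M ≅ M') : chi A X N M = chi A X N M' := by
  unfold chi
  refine Finset.sum_congr rfl (fun j _ => ?_)
  rw [LinearEquiv.length_eq (Groth.Agent.Lib.Helper27LesLin.HHequiv A e j)]

theorem chi_sigma_const (N : ℕ) (c : ℕ) (M : X.Modules) :
    chi A X N (∐ fun _ : Fin c => M) = c * chi A X N M := by
  unfold chi
  rw [Finset.mul_sum]
  refine Finset.sum_congr rfl (fun j _ => ?_)
  rw [length_HH_sigma_const, ENat.toNat_mul, ENat.toNat_natCast]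
  push_cast
  ring

theorem chi_of_isZero (N : ℕ) {M : X.Modules} (hM : IsZero M) : chi A X N M = 0 := by
  unfold chi
  refine Finset.sum_eq_zero (fun j _ => ?_)
  have hz : ∀ x : Coh.HH X M j, x = 0 := by
    intro x
    have h1 := HHlin_id A j x
    have h2 : (𝟙 M : M ⟶ M) = 0 := hM.eq_of_src _ _
    rw [h2, HHlin_zero] at h1
    exact h1.symm
  haveI : Subsingleton (Coh.HH X M j) := ⟨fun x y => (hz x).trans (hz y).symm⟩
  rw [Module.length_eq_zero]
  simp

end Groth.Agent.Lib.Helper27HilbPolyB
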