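import Groth.Agent.Lib.Helper27PnDual3
import Groth.Agent.Lib.Helper27DualRes
import Groth.Agent.Lib.Helper27TwistCoh
import Groth.Agent.S0846
import Groth.Agent.S0022
import Groth.Agent.Lib.Helper27QProjCover2

/-!
# Duality for coherent modules on `P^n_R` (helper27)

* `lower d e : ∐_{i} O(d - e) ⟶ O(d)`, multiplication by the `X_i^e`, an epimorphism;
* `isDual_tilde` : `O(a)`, `a ≤ -n-1`, satisfies duality with respect to `(O(-n-1), tt)`;
-/

set_option autoImplicit false
universe u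

open CategoryTheory CategoryTheory.Limits AlgebraicGeometry TopologicalSpace Opposite
  HomogeneousLocalization MvPolynomial

namespace Groth.Agent.Lib.Helper27PnDualCoh

open Groth.Agent.Lib.Helper27GrTildeSect Groth.Agent.Lib.Helper27ProjGamma
  Groth.Agent.Lib.Helper27PnSections Groth.Agent.Lib.Helper27Laurent
  Groth.Agent.Lib.Helper27PnLau Groth.Agent.Lib.Helper27PnLauMul
  Groth.Agent.Lib.Helper27PnHom Groth.Agent.Lib.Helper27PnDual
  Groth.Agent.Lib.Helper27DualRes Groth.Agent.Lib.Helper23.SecTw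

variable {n : ℕ} {R : Type u} [CommRing R]

local notation "𝒢" => CohB1.polyGrading n R
local notation "σ'" => Fin (n + 1)

section Lower

theorem X_pow_mem (i : σ') (e : ℕ) : (X i ^ e : MvPolynomial σ' R) ∈ 𝒢 e :=
  (mem_homogeneousSubmodule _ _).mpr (isHomogeneous_X_pow i e)

theorem toL_X_pow (i : σ') (e : ℕ) :
    toL (X i ^ e : MvPolynomial σ' R) = AddMonoidAlgebra.single (ev i (e : ℤ)) 1 := by
  rw [X_pow_eq_monomial, toL_monomial]
  congr 1
  funext j
  rw [emb_apply]
  unfold ev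
  by_cases h : j = i
  · subst h
    simp
  · rw [if_neg h, Finsupp.single_apply, if_neg (Ne.symm h)]
    rfl

/-- multiplication by `X_i^e`, `O(d - e) ⟶ O(d)`. -/
noncomputable def mulX (d : ℤ) (e : ℕ) (i : σ') : OO n R (d - e) ⟶ OO n R d :=
  mulF e (by ring) (X i ^ e) (X_pow_mem i e)

theorem mulX_gen (d : ℤ) (e : ℕ) (i : σ') :
    (mulX d e i).app (Ui n R i) (gen (d - e) i) = gen d i := by
  apply lau_injective d (Finsupp.single i 1) (Ui n R i) rfl (by simp) (torus_le_Ui n R i)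
  rw [lau_app, lau_gen, lau_gen]
  unfold mulX
  rw [sym_mulF, toL_X_pow, AddMonoidAlgebra.single_mul_single, mul_one]
  congr 1
  funext j
  unfold ev
  simp only [Pi.add_apply]
  split_ifs <;> ring

/-- the map `∐_i O(d - e) ⟶ O(d)` given by the `X_i^e`. -/
noncomputable def lower (d : ℤ) (e : ℕ) : (∐ fun _ : σ' => OO n R (d - e)) ⟶ OO n R d :=
  Sigma.desc (fun i => mulX d e i)

instance epi_lower (d : ℤ) (e : ℕ) : Epi (lower (n := n) (R := R) d e) := by
  refine ⟨fun {Z} g h hgh => ?_⟩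
  have hi : ∀ i, mulX d e i ≫ g = mulX d e i ≫ h := by
    intro i
    have := congrArg (fun z => Sigma.ι (fun _ : σ' => OO n R (d - e)) i ≫ z) hgh
    simp only [lower, Sigma.ι_desc_assoc] at this
    exact this
  refine Groth.Agent.Lib.Helper27EpiGen.hom_ext_of_isGen _ _ (fun i : σ' => Ui n R i)
    (cover_Ui n R) (fun i => gen d i) (fun i => isGen_gen d i) g h (fun i => ?_)
  rw [← mulX_gen d e i]
  exact congrArg (fun z => Scheme.Modules.Hom.app (X := Proj 𝒢) z (Ui n R i) (gen (d - e) i)) (hi i)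

end Lower

section Dual

open Groth.Agent.Lib.Helper27CoprodFin

variable (n R)

/-- `O(d)` as a module on `CohB1.ProjSpace n R`. -/
noncomputable abbrev OX (d : ℤ) : (CohB1.ProjSpace n R).Modules := GrTilde.tilde 𝒢 𝒢 d

/-- the trace form `H^n(P^n_R, O(-n-1)) → R`. -/
noncomputable def trace :
    Coh.HH (CohB1.ProjSpace n R) (OX n R (-((n : ℤ) + 1))) n →ₗ[R] R :=
  (tt n R).toLinearMap

theorem isDual_tilde (a : ℤ) (ha : a ≤ -((n : ℤ) + 1)) :
    IsDual R (OX n R (-((n : ℤ) + 1))) n (trace n R) (OX n R a) := by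
  intro ψ
  exact duality_nat (-(a + n + 1)).toNat (by rw [Int.toNat_of_nonneg (by omega)]; ring) ψ

theorem isCoh_OX (d : ℤ) : Coh.IsCoh (OX n R d) :=
  ⟨isQuasicoherent_tilde 𝒢 𝒢 d, Groth.Agent.Lib.Helper27TwistCoh.isFiniteType_tilde n R d⟩

theorem exists_resolution [IsNoetherianRing R] (F : (CohB1.ProjSpace n R).Modules)
    (hF : Coh.IsCoh F) :
    ∃ (E : (CohB1.ProjSpace n R).Modules) (p : E ⟶ F), Coh.IsCoh E ∧
      IsDual R (OX n R (-((n : ℤ) + 1))) n (trace n R) E ∧ Epi p := by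
  have hfun : Twist.twist 𝒢 = fun d => (GrTilde.tilde 𝒢 𝒢 d : (Proj 𝒢).Modules) := rfl
  have key := Groth.Agent.S0846.result 𝒢 F hF
  rw [hfun] at key
  obtain ⟨r, d, φ, hφ⟩ := key
  let e : Fin r → ℕ := fun j => (d j + n + 1).toNat
  let Ej : Fin r → (CohB1.ProjSpace n R).Modules :=
    fun j => ∐ fun _ : σ' => OX n R (d j - e j)
  have hle : ∀ j, d j - e j ≤ -((n : ℤ) + 1) := by
    intro j
    change d j - ((d j + n + 1).toNat : ℤ) ≤ -((n : ℤ) + 1)
    omega
  have hEq : ∀ j, (Ej j).IsQuasicoherent := fun j =>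
    isQuasicoherent_sigma _ (fun _ => (isCoh_OX n R _).1)
  have hEf : ∀ j, SheafOfModules.IsFiniteType (R := (CohB1.ProjSpace n R).ringCatSheaf) (Ej j) :=
    fun j =>
    isFiniteType_sigma _ (fun _ => (isCoh_OX n R _).1) (fun _ => (isCoh_OX n R _).2)
  have hEd : ∀ j, IsDual R (OX n R (-((n : ℤ) + 1))) n (trace n R) (Ej j) := fun j =>
    isDual_sigma _ (fun _ => isDual_tilde n R _ (hle j))
  let q : (∐ Ej) ⟶ ∐ (fun j => OX n R (d j)) :=
    Limits.Sigma.map (fun j => lower (d j) (e j))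
  have hl : ∀ j, Epi (C := (CohB1.ProjSpace n R).Modules) (lower (d j) (e j)) :=
    fun j => epi_lower (d j) (e j)
  have hq : Epi q := @Limits.Sigma.map_epi _ _ _ _ _ _ _ _ hl
  exact ⟨∐ Ej, q ≫ φ, ⟨isQuasicoherent_sigma _ hEq, isFiniteType_sigma _ hEq hEf⟩,
    isDual_sigma _ hEd, epi_comp' hq hφ⟩

/-- duality for coherent modules on `P^n_R`, `R` Noetherian: `φ ↦ trace ∘ H^n(φ)` is a bijection
from `Hom(F, O(-n-1))` onto the `R`-dual of `H^n(P^n_R, F)`. -/
theorem duality_coh [IsNoetherianRing R] (F : (CohB1.ProjSpace n R).Modules)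
    (hF : Coh.IsCoh F) : IsDual R (OX n R (-((n : ℤ) + 1))) n (trace n R) F := by
  have hN := Groth.Agent.Lib.Helper27QProjCover.isNoetherian_projSpace n R
  have : IsLocallyNoetherian (CohB1.ProjSpace n R) := inferInstance
  refine isDual_of_resolutions (exists_resolution n R) (fun K hK => ?_) F hF
  have : Coh.IsQCoh K := hK
  exact Groth.Agent.S0022.result n R K (n + 1) (by omega)

end Dual

end Groth.Agent.Lib.Helper27PnDualCoh
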