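import Groth.Agent.Lib.Helper27CMReg
import Groth.Agent.Lib.Helper27SerreVanPn
import Groth.Agent.Lib.Helper27PnDualCoh
import Groth.Agent.S0022

/-!
# Castelnuovo–Mumford regularity on `P^n_R` (helper27)

* `exists_euler` : the Euler epimorphism `∐_{Fin (n+1)} O(-1) ⟶ O(0)`.
* `regular_succ_pn` : for quasi-coherent `F` on `P^n_R` (any ring `R`), if `H^q(F(m - q)) = 0` for all
  `q ≥ 1` then `H^q(F(m + 1 - q)) = 0` for all `q ≥ 1`.
* `regular_add_pn` : the same with `m + t`, `t : ℕ`.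
-/

set_option autoImplicit false
universe u
open CategoryTheory Limits AlgebraicGeometry TopologicalSpace Opposite

namespace Groth.Agent.Lib.Helper27CMRegPn

open Groth.Agent.Lib.Helper27PnDualCoh Groth.Agent.Lib.Helper27SerreVanPn

variable (n : ℕ) (R : Type u) [CommRing R]

local notation "𝒢" => CohB1.polyGrading n R

theorem exists_euler :
    ∃ φ : (∐ fun _ : Fin (n + 1) => Twist.twistProjSpace n R (-1)) ⟶ Twist.twistProjSpace n R 0,
      Epi φ := by
  have hfun : Twist.twistProjSpace n R =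
      fun d => (GrTilde.tilde 𝒢 𝒢 d : (CohB1.ProjSpace n R).Modules) := rfl
  rw [hfun]
  have key : ∀ e : ℤ, e = (0 : ℤ) - ((1 : ℕ) : ℤ) →
      ∃ φ : (∐ fun _ : Fin (n + 1) => OX n R e) ⟶ OX n R 0, Epi φ := by
    intro e he
    subst he
    exact ⟨lower 0 1, epi_lower 0 1⟩
  exact key (-1) (by norm_num)

theorem subsingleton_HH_gt (G : (CohB1.ProjSpace n R).Modules) (hG : G.IsQuasicoherent) (i : ℕ)
    (hi : n < i) : Subsingleton (Coh.HH (CohB1.ProjSpace n R) G i) := by
  have : Coh.IsQCoh G := hG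
  exact Groth.Agent.S0022.result n R G i hi

theorem regular_succ_pn (F : (CohB1.ProjSpace n R).Modules) (hF : F.IsQuasicoherent) (m : ℤ)
    (hreg : ∀ q : ℕ, 1 ≤ q → Subsingleton (Coh.HH (CohB1.ProjSpace n R)
      (CohB1.tensorMod F (Twist.twistProjSpace n R (m - q))) q)) :
    ∀ q : ℕ, 1 ≤ q → Subsingleton (Coh.HH (CohB1.ProjSpace n R)
      (CohB1.tensorMod F (Twist.twistProjSpace n R (m + 1 - q))) q) := by
  obtain ⟨φ, hφ⟩ := exists_euler n R
  exact Groth.Agent.Lib.Helper27CMReg.regular_succ (Twist.twistProjSpace n R) φ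
    (nonempty_twist_tensor_iso n R)
    (fun d => (Groth.Agent.Lib.Helper27TwistCoh.isCoh_twist n R d).1) n
    (subsingleton_HH_gt n R) hφ (isInvertible_twist n R 0) F hF m hreg

theorem regular_add_pn (F : (CohB1.ProjSpace n R).Modules) (hF : F.IsQuasicoherent) (m : ℤ)
    (hreg : ∀ q : ℕ, 1 ≤ q → Subsingleton (Coh.HH (CohB1.ProjSpace n R)
      (CohB1.tensorMod F (Twist.twistProjSpace n R (m - q))) q)) (t : ℕ) :
    ∀ q : ℕ, 1 ≤ q → Subsingleton (Coh.HH (CohB1.ProjSpace n R)
      (CohB1.tensorMod F (Twist.twistProjSpace n R (m + t - q))) q) := by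
  induction t with
  | zero =>
    intro q hq
    rw [show m + ((0 : ℕ) : ℤ) - (q : ℤ) = m - q by push_cast; ring]
    exact hreg q hq
  | succ t ih =>
    intro q hq
    rw [show m + ((t + 1 : ℕ) : ℤ) - (q : ℤ) = m + (t : ℤ) + 1 - q by push_cast; ring]
    exact regular_succ_pn n R F hF (m + t) ih q hq

end Groth.Agent.Lib.Helper27CMRegPn
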