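import Groth.Agent.Lib.Helper27KoszPn

/-!
# The Koszul complex on `P^n_R` as an exact cochain complex indexed by `ℤ` (helper27)

`koszul n R a : CochainComplex (Proj 𝒢).Modules ℤ` with terms
`∐_{Fin (choose (n+1) i)} O(a + i)` in degrees `0 ≤ i ≤ n + 1`, zero elsewhere, exact everywhere.
-/

set_option autoImplicit false
universe u

open CategoryTheory CategoryTheory.Limits AlgebraicGeometry TopologicalSpace Opposite
  HomogeneousLocalization MvPolynomial

namespace Groth.Agent.Lib.Helper27KoszCx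

open Groth.Agent.Lib.Helper27PnHom Groth.Agent.Lib.Helper27KoszHom
  Groth.Agent.Lib.Helper27KoszMat Groth.Agent.Lib.Helper27KoszPn

theorem exact_congr {C : Type*} [Category C] [HasZeroMorphisms C] {X₁ X₂ X₃ : C}
    {f f' : X₁ ⟶ X₂} {g g' : X₂ ⟶ X₃} (hf : f = f') (hg : g = g') (w : f ≫ g = 0)
    (w' : f' ≫ g' = 0) (h : (ShortComplex.mk f g w).Exact) : (ShortComplex.mk f' g' w').Exact := by
  subst hf hg
  exact h

theorem isZero_sigma_of_isEmpty {C : Type*} [Category C] [HasZeroMorphisms C] {ι : Type*}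
    [IsEmpty ι] (f : ι → C) [HasCoproduct f] : IsZero (∐ f) := by
  rw [IsZero.iff_id_eq_zero]
  exact Sigma.hom_ext _ _ (fun j => isEmptyElim j)

variable (n : ℕ) (R : Type u) [CommRing R] (a : ℤ)

local notation "𝒢" => CohB1.polyGrading n R
local notation "σ'" => Fin (n + 1)

theorem twist_succ (i : ℕ) : a + (i : ℤ) + ((1 : ℕ) : ℤ) = a + ((i + 1 : ℕ) : ℤ) := by
  push_cast; ring

/-- the Koszul complex, indexed by `ℕ`. -/
noncomputable def koszulNat : CochainComplex (Proj 𝒢).Modules ℕ :=
  CochainComplex.of (fun i => KK n R i (a + i))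
    (fun i => dd n R i (a + i) (a + ((i + 1 : ℕ) : ℤ)) (twist_succ a i))
    (fun i => dd_comp n R i _ _ _ _ _)

theorem koszulNat_d (i : ℕ) : (koszulNat n R a).d i (i + 1) =
    dd n R i (a + i) (a + ((i + 1 : ℕ) : ℤ)) (twist_succ a i) := by
  unfold koszulNat
  exact CochainComplex.of_d (fun i => KK n R i (a + i))
    (fun i => dd n R i (a + i) (a + ((i + 1 : ℕ) : ℤ)) (twist_succ a i)) i

theorem koszulNat_exactAt_zero : (koszulNat n R a).ExactAt 0 := by
  rw [HomologicalComplex.exactAt_iff' _ 0 0 1 CochainComplex.prev_nat_zero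
    (CochainComplex.next ℕ 0)]
  have h0 : (koszulNat n R a).d 0 0 = 0 := (koszulNat n R a).shape 0 0 (by simp)
  exact exact_congr h0.symm (koszulNat_d n R a 0).symm _ _
    (exact_dd_zero n R (a + ((0 : ℕ) : ℤ)) (a + ((0 + 1 : ℕ) : ℤ)) (twist_succ a 0))

theorem koszulNat_exactAt_succ (i : ℕ) : (koszulNat n R a).ExactAt (i + 1) := by
  rw [HomologicalComplex.exactAt_iff' _ i (i + 1) (i + 1 + 1) (CochainComplex.prev_nat_succ i)
    (CochainComplex.next ℕ (i + 1))]
  exact exact_congr (koszulNat_d n R a i).symm (koszulNat_d n R a (i + 1)).symm _ _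
    (exact_dd_succ n R i _ _ _ (twist_succ a i) (twist_succ a (i + 1)))

theorem koszulNat_exactAt (i : ℕ) : (koszulNat n R a).ExactAt i := by
  cases i with
  | zero => exact koszulNat_exactAt_zero n R a
  | succ i => exact koszulNat_exactAt_succ n R a i

/-- the Koszul complex, indexed by `ℤ`. -/
noncomputable def koszul : CochainComplex (Proj 𝒢).Modules ℤ :=
  (koszulNat n R a).extend ComplexShape.embeddingUpNat

theorem koszul_exactAt (i : ℤ) : (koszul n R a).ExactAt i := by
  by_cases hi : 0 ≤ i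
  · obtain ⟨j, rfl⟩ := Int.eq_ofNat_of_zero_le hi
    exact ((koszulNat n R a).extend_exactAt_iff ComplexShape.embeddingUpNat
      (j := j) (j' := (j : ℤ)) rfl).2 (koszulNat_exactAt n R a j)
  · refine (koszulNat n R a).extend_exactAt ComplexShape.embeddingUpNat i (fun j hj => hi ?_)
    rw [← hj]
    exact Int.natCast_nonneg j

/-- the terms of the Koszul complex. -/
noncomputable def koszulXIso (i : ℕ) :
    (koszul n R a).X (i : ℤ) ≅ ∐ fun _ : Fin (Nat.choose (n + 1) i) => OO n R (a + i) :=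
  (koszulNat n R a).extendXIso ComplexShape.embeddingUpNat (i := i) (i' := (i : ℤ)) rfl

theorem isZero_koszul_X (i : ℤ) (hi : i < 0 ∨ (n : ℤ) + 1 < i) : IsZero ((koszul n R a).X i) := by
  by_cases h0 : 0 ≤ i
  · obtain ⟨j, rfl⟩ := Int.eq_ofNat_of_zero_le h0
    have hj : n + 1 < j := by omega
    have hc : Nat.choose (n + 1) j = 0 := Nat.choose_eq_zero_of_lt hj
    have : IsEmpty (Fin (Nat.choose (n + 1) j)) := by rw [hc]; infer_instance
    exact (isZero_sigma_of_isEmpty _).of_iso (koszulXIso n R a j)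
  · refine (koszulNat n R a).isZero_extend_X ComplexShape.embeddingUpNat i (fun j hj => h0 ?_)
    rw [← hj]
    exact Int.natCast_nonneg j

end Groth.Agent.Lib.Helper27KoszCx
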