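import Groth.Agent.Lib.Helper27ResChase
import Groth.Agent.Lib.Helper27KoszCx
import Groth.Agent.Lib.Helper27CMRegPn

/-!
# Regularity and the Koszul complex on `P^n_R` (helper27)

`surjective_koszul_top` : for a quasi-coherent module `G` on `P^n_R` with
`H^q(O(t - q) ⊗ G) = 0` for `1 ≤ q ≤ n`, the top Koszul differential tensored with `G`,
`(∐_{n+1} O(t)) ⊗ G ⟶ O(t + 1) ⊗ G`, is surjective on global sections.
-/

set_option autoImplicit false
universe u

open CategoryTheory CategoryTheory.Limits AlgebraicGeometry TopologicalSpace Opposite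
  HomogeneousLocalization MvPolynomial

namespace Groth.Agent.Lib.Helper27KoszReg

open Groth.Agent.Lib.Helper27PnHom Groth.Agent.Lib.Helper27KoszHom
  Groth.Agent.Lib.Helper27KoszMat Groth.Agent.Lib.Helper27KoszPn Groth.Agent.Lib.Helper27KoszCx
  Groth.Agent.Lib.Helper27ResChase Groth.Agent.Lib.Helper27SerreVan Groth.Agent.Lib.Helper27CMReg

variable (n : ℕ) (R : Type u) [CommRing R]

local notation "𝒢" => CohB1.polyGrading n R
local notation "σ'" => Fin (n + 1)

theorem isInvertible_OO (t : ℤ) : PicF.IsInvertible (OO n R t) :=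
  Groth.Agent.Lib.Helper27GrTildeSect.isInvertible_tilde 𝒢 (Groth.Agent.Lib.Helper27PnMor.cover_X n R) t

theorem isFlat_KK (i : ℕ) (t : ℤ) : ModSite.IsFlat (O := (Proj 𝒢).sheaf) (KK n R i t) :=
  isFlat_sigma _ (fun _ => isFlat_of_isInvertible _ (isInvertible_OO n R t))

theorem isZero_KK (i : ℕ) (hi : n + 1 < i) (t : ℤ) : IsZero (KK n R i t) := by
  have hc : Nat.choose (n + 1) i = 0 := Nat.choose_eq_zero_of_lt hi
  have : IsEmpty (Fin (Nat.choose (n + 1) i)) := by rw [hc]; infer_instance
  exact isZero_sigma_of_isEmpty _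

theorem epi_dd_top (t t' : ℤ) (h : t + ((1 : ℕ) : ℤ) = t') : Epi (dd n R n t t' h) := by
  have hex := exact_dd_succ n R n t t' (t' + ((1 : ℕ) : ℤ)) h rfl
  have h0 : dd n R (n + 1) t' (t' + ((1 : ℕ) : ℤ)) rfl = 0 :=
    (isZero_KK n R (n + 1 + 1) (by omega) _).eq_of_tgt _ _
  exact (ShortComplex.exact_iff_epi _ h0).1 hex

theorem subsingleton_HH_gt' (M : (Proj 𝒢).Modules) (hM : M.IsQuasicoherent) (i : ℕ)
    (hi : n < i) : Subsingleton (Coh.HH (Proj 𝒢) M i) :=
  Groth.Agent.Lib.Helper27CMRegPn.subsingleton_HH_gt n R M hM i hi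

/-- the top Koszul differential tensored with a "`t`-regular" `G` is surjective on global
sections. -/
theorem surjective_koszul_top (G : (Proj 𝒢).Modules) (hG : G.IsQuasicoherent) (t t' : ℤ)
    (h : t + ((1 : ℕ) : ℤ) = t')
    (hreg : ∀ q : ℕ, 1 ≤ q → q ≤ n →
      Subsingleton (Coh.HH (Proj 𝒢) (CohB1.tensorMod (OO n R (t - q)) G) q)) :
    Function.Surjective (((tw G).map (dd n R n t t' h)).app ⊤) := by
  -- the resolution `K^i = ∐ O(a + i)` with `a = t - n`
  let a : ℤ := t - n
  have hat : a + ((n : ℕ) : ℤ) = t := by simp [a]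
  have hat' : a + ((n + 1 : ℕ) : ℤ) = t' := by rw [← h]; simp [a]; ring
  have key := surjective_top (X := Proj 𝒢) (fun i => KK n R i (a + i))
    (fun i => dd n R i (a + i) (a + ((i + 1 : ℕ) : ℤ)) (twist_succ a i))
    (fun i => dd_comp n R i _ _ _ _ _)
    (fun i => exact_dd_succ n R i _ _ _ (twist_succ a i) (twist_succ a (i + 1)))
    n (epi_dd_top n R _ _ _) (fun i => isFlat_KK n R i _)
    (fun i => isQuasicoherent_KK n R i _) G hG n le_rfl (subsingleton_HH_gt' n R)
    (fun j q hjq hq1 => by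
      refine subsingleton_HH_map_sigma (fun _ : Fin (Nat.choose (n + 1) j) => OO n R (a + j))
        (tw G) q (fun _ => ?_)
      have e : a + (j : ℤ) = t - q := by
        have : (j : ℤ) + q = n := by exact_mod_cast hjq
        simp only [a]
        omega
      rw [e]
      exact hreg q hq1 (by omega))
  -- transport along `a + n = t`
  have hgen : ∀ (s s' : ℤ) (hs : s = t) (hs' : s' = t') (hh : s + ((1 : ℕ) : ℤ) = s'),
      Function.Surjective (((tw G).map (dd n R n s s' hh)).app ⊤) →
      Function.Surjective (((tw G).map (dd n R n t t' h)).app ⊤) := by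
    intro s s' hs hs' hh hsurj
    subst hs hs'
    exact hsurj
  exact hgen _ _ hat hat' _ key

end Groth.Agent.Lib.Helper27KoszReg
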