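import Mathlib
import Groth.Agent.Lib.Helper27KoszReg
import Groth.Agent.Lib.Helper27HilbPolyB
import Groth.Agent.Lib.Helper1EulerAdd
import Groth.Agent.Lib.Helper27ProjSpaceFibres
import Groth.Agent.Lib.Helper27QProjCover2
import Groth.Agent.Lib.Helper27TwistCoh
import Groth.Agent.Lib.Helper4DevD
import Groth.Agent.Lib.Helper23TensorQCoh

/-!
# The Koszul relation between Euler characteristics of twists on `P^r_A` (helper27)

`A` Artinian, `G` coherent on `P = P^r_A`, `χ(M) = Σ_{j ≤ r} (-1)^j length_A H^j(P, M)`.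
`koszul_relation` : `Σ_{i ≤ r+1} (-1)^i C(r+1, i) χ(O(a + i) ⊗ G) = 0` for every `a : ℤ`.
-/

set_option autoImplicit false
universe u

open CategoryTheory CategoryTheory.Limits AlgebraicGeometry TopologicalSpace Opposite

namespace Groth.Agent.Lib.Helper27HilbPolyC

open Groth.Agent.Lib.Helper27PnHom Groth.Agent.Lib.Helper27KoszHom
  Groth.Agent.Lib.Helper27KoszMat Groth.Agent.Lib.Helper27KoszPn Groth.Agent.Lib.Helper27KoszCx
  Groth.Agent.Lib.Helper27KoszReg Groth.Agent.Lib.Helper27ResChase Groth.Agent.Lib.Helper27SerreVan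
  Groth.Agent.Lib.Helper27CMReg Groth.Agent.Lib.Helper27HilbPolyB Groth.Agent.Lib.Helper27CoprodFin
  Groth.Agent.Lib.Helper21.ModTensor3 Groth.Agent.Lib.Helper21.ModTensor5

theorem telescope (z : ℕ → ℤ) (m : ℕ) :
    (Finset.range m).sum (fun i => (-1 : ℤ) ^ i * (z i + z (i + 1))) = z 0 - (-1) ^ m * z m := by
  induction m with
  | zero => simp
  | succ m ih =>
    rw [Finset.sum_range_succ, ih]
    ring

theorem epi_of_isZero_tgt {C : Type*} [Category C] [HasZeroMorphisms C] {X Y : C} (f : X ⟶ Y)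
    (hY : IsZero Y) : Epi f :=
  ⟨fun g h _ => hY.eq_of_src g h⟩

theorem isZero_kernel_of_isZero_src {C : Type*} [Category C] [HasZeroMorphisms C] {X Y : C}
    (f : X ⟶ Y) [HasKernel f] (hX : IsZero X) : IsZero (kernel f) := by
  rw [IsZero.iff_id_eq_zero, ← cancel_mono (kernel.ι f)]
  exact hX.eq_of_tgt _ _

theorem isZero_kernel_of_mono {C : Type*} [Category C] [HasZeroMorphisms C] {X Y : C}
    (f : X ⟶ Y) [HasKernel f] [Mono f] : IsZero (kernel f) := by
  rw [IsZero.iff_id_eq_zero, ← cancel_mono (kernel.ι f), ← cancel_mono f]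
  simp

variable (r : ℕ) (A : Type u) [CommRing A] [IsArtinianRing A]

local notation "𝒢" => CohB1.polyGrading r A
local notation "PP" => CohB1.ProjSpace r A

theorem isCoh_KK (i : ℕ) (t : ℤ) : Coh.IsCoh (X := PP) (KK r A i t) :=
  ⟨isQuasicoherent_KK r A i t,
    isFiniteType_sigma _ (fun _ => (Groth.Agent.Lib.Helper27TwistCoh.isCoh_twist r A t).1)
      (fun _ => (Groth.Agent.Lib.Helper27TwistCoh.isCoh_twist r A t).2)⟩

theorem isCoh_tensorMod {X : Scheme.{u}} (F E : X.Modules) (hF : Coh.IsCoh F) (hE : Coh.IsCoh E) :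
    Coh.IsCoh (CohB1.tensorMod F E) := by
  haveI : E.IsQuasicoherent := hE.1
  haveI : SheafOfModules.IsFiniteType (R := X.ringCatSheaf) E := hE.2
  haveI : F.IsQuasicoherent := hF.1
  haveI : SheafOfModules.IsFiniteType (R := X.ringCatSheaf) F := hF.2
  exact ⟨Groth.Agent.Lib.Helper23.TensorQCoh.isQuasicoherent_tensorMod F E,
    Groth.Agent.Lib.Helper23.TensorQCoh.isFiniteType_tensorMod F E⟩

/-- `χ((∐_c O(t)) ⊗ G) = c · χ(O(t) ⊗ G)`. -/
theorem chi_KK_tensor (G : (PP).Modules) (i : ℕ) (t : ℤ) :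
    chi A PP r (CohB1.tensorMod (KK r A i t) G) =
      (Nat.choose (r + 1) i : ℤ) * chi A PP r (CohB1.tensorMod (OO r A t) G) := by
  have hpres : PreservesColimit (Discrete.functor (fun _ : Fin (Nat.choose (r + 1) i) => OO r A t))
      (tw G) := inferInstance
  let α : (tw G).obj (∐ fun _ : Fin (Nat.choose (r + 1) i) => OO r A t) ≅
      ∐ fun _ : Fin (Nat.choose (r + 1) i) => (tw G).obj (OO r A t) :=
    PreservesCoproduct.iso (tw G) _
  exact (chi_of_iso A (X := PP) r α).trans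
    (chi_sigma_const A (X := PP) r (Nat.choose (r + 1) i) (CohB1.tensorMod (OO r A t) G))

theorem koszul_relation (G : (PP).Modules) (hG : Coh.IsCoh G) (a : ℤ) :
    (Finset.range (r + 2)).sum (fun i => (-1 : ℤ) ^ i * ((Nat.choose (r + 1) i : ℤ) *
      chi A PP r (CohB1.tensorMod (OO r A (a + i)) G))) = 0 := by
  haveI : IsNoetherianRing A := inferInstance
  have hNoeth := Groth.Agent.Lib.Helper27QProjCover.isNoetherian_projSpace r A
  haveI : IsLocallyNoetherian PP := inferInstance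
  haveI : IsProper (PP ↘ Spec (CommRingCat.of A)) :=
    Groth.Agent.Lib.Helper27ProjSpaceFibres.isProper_projSpace_toSpec r A
  haveI : G.IsQuasicoherent := hG.1
  -- the complex
  let Kx : ℕ → (PP).Modules := fun i => KK r A i (a + i)
  let d : ∀ i, Kx i ⟶ Kx (i + 1) :=
    fun i => dd r A i (a + i) (a + ((i + 1 : ℕ) : ℤ)) (twist_succ a i)
  have hd : ∀ i, d i ≫ d (i + 1) = 0 := fun i => dd_comp r A i _ _ _ _ _
  have hex : ∀ i, (ShortComplex.mk (d i) (d (i + 1)) (hd i)).Exact :=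
    fun i => exact_dd_succ r A i _ _ _ (twist_succ a i) (twist_succ a (i + 1))
  have hflat : ∀ i, ModSite.IsFlat (O := (PP).sheaf) (Kx i) := fun i => isFlat_KK r A i _
  have hq : ∀ i, (Kx i).IsQuasicoherent := fun i => isQuasicoherent_KK r A i _
  have hcoh : ∀ i, Coh.IsCoh (Kx i) := fun i => isCoh_KK r A i _
  have hKzero : ∀ i, r + 1 < i → IsZero (Kx i) := fun i hi => isZero_KK r A i hi _
  have hepi : Epi (d (r + 2)) := epi_of_isZero_tgt _ (hKzero (r + 2 + 1) (by omega))
  have hZflat : ∀ j, j ≤ r + 2 → ModSite.IsFlat (O := (PP).sheaf) (Z Kx d j) :=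
    fun j hj => isFlat_Z Kx d hd hex (r + 2) hepi hflat (r + 2 - j) j (by omega)
  have hZq : ∀ j, (Z Kx d j).IsQuasicoherent := fun j => isQuasicoherent_Z Kx d hq j
  have hZcoh : ∀ j, Coh.IsCoh (Z Kx d j) :=
    fun j => Groth.Agent.Lib.Helper4.Dev.isCoh_kernel (d j) (hcoh j) (hcoh (j + 1))
  -- additivity
  have hadd : ∀ i, i ≤ r + 1 → chi A PP r (CohB1.tensorMod (Kx i) G) =
      chi A PP r (CohB1.tensorMod (Z Kx d i) G) +
        chi A PP r (CohB1.tensorMod (Z Kx d (i + 1)) G) := by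
    intro i hi
    have hS : ((ses Kx d hd i).map (tw G)).ShortExact :=
      shortExact_tensor (PP).sheaf (ses Kx d hd i) (ses_shortExact Kx d hd i (hex i))
        (hZflat (i + 1) (by omega)) G
    have hvan : Subsingleton (Coh.HH PP ((ses Kx d hd i).map (tw G)).X₁ (r + 1)) := by
      haveI := hZq i
      exact subsingleton_HH_gt' r A _
        (Groth.Agent.Lib.Helper23.TensorQCoh.isQuasicoherent_tensorMod (Z Kx d i) G) (r + 1)
        (by omega)
    exact Groth.Agent.Lib.Helper1.EulerAdd.main A PP ((ses Kx d hd i).map (tw G)) hS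
      (isCoh_tensorMod _ _ (hZcoh i) hG) (isCoh_tensorMod _ _ (hcoh i) hG)
      (isCoh_tensorMod _ _ (hZcoh (i + 1)) hG) r hvan
  -- the ends
  have hmono0 : Mono (d 0) := by
    have h0 := exact_dd_zero r A (a + ((0 : ℕ) : ℤ)) (a + ((0 + 1 : ℕ) : ℤ)) (twist_succ a 0)
    exact h0.mono_g rfl
  have hz0 : chi A PP r (CohB1.tensorMod (Z Kx d 0) G) = 0 := by
    have hz : IsZero (Z Kx d 0) := isZero_kernel_of_mono (d 0)
    exact chi_of_isZero A r ((tw G).map_isZero hz)
  have hzT : chi A PP r (CohB1.tensorMod (Z Kx d (r + 2)) G) = 0 := by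
    have hz : IsZero (Z Kx d (r + 2)) := isZero_kernel_of_isZero_src _ (hKzero (r + 2) (by omega))
    exact chi_of_isZero A r ((tw G).map_isZero hz)
  -- assemble
  have h1 : (Finset.range (r + 2)).sum (fun i => (-1 : ℤ) ^ i * ((Nat.choose (r + 1) i : ℤ) *
      chi A PP r (CohB1.tensorMod (OO r A (a + i)) G))) =
      (Finset.range (r + 2)).sum (fun i => (-1 : ℤ) ^ i *
        ((fun j => chi A PP r (CohB1.tensorMod (Z Kx d j) G)) i +
          (fun j => chi A PP r (CohB1.tensorMod (Z Kx d j) G)) (i + 1))) := by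
    refine Finset.sum_congr rfl (fun i hi => ?_)
    have hi' : i ≤ r + 1 := Nat.lt_succ_iff.mp (Finset.mem_range.mp hi)
    rw [← chi_KK_tensor r A G i (a + i)]
    exact congrArg _ (hadd i hi')
  rw [h1, telescope, hz0, hzT]
  simp

end Groth.Agent.Lib.Helper27HilbPolyC
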