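import Mathlib
import Groth.Prelude.Def_W4c2simpsonmod1HP
import Groth.Prelude.Def_StabCat
set_option backward.isDefEq.respectTransparency.types false

/-!
# Comparison of reduced Hilbert polynomials: quotient form versus cross-multiplied form (helper12)
-/

set_option autoImplicit false
universe u
open Polynomial

namespace Groth.Agent.Lib.Helper12.HNPnB

theorem rankOf_eq_alpha (d : ℕ) (P : ℚ[X]) : W4c2simpsonmod1.rankOf d P = StabCat.alpha d P := rfl

theorem redLE_iff {d : ℕ} {ψ φ : ℚ[X]} (hψ : 0 < StabCat.alpha d ψ) (hφ : 0 < StabCat.alpha d φ) :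
    W4c2simpsonmod1.RedLE d ψ φ ↔ StabCat.RedLE d ψ φ := by
  unfold W4c2simpsonmod1.RedLE StabCat.RedLE StabCat.PolyLE
  simp only [rankOf_eq_alpha, eval_smul, smul_eq_mul]
  constructor
  · rintro ⟨N, hN⟩
    refine ⟨N.toNat, fun m hm => ?_⟩
    have h := hN (m : ℤ) (by omega)
    rw [div_le_div_iff₀ hψ hφ] at h
    have hc : (((m : ℤ) : ℚ)) = (m : ℚ) := by push_cast; rfl
    rw [hc] at h
    linarith
  · rintro ⟨N, hN⟩
    refine ⟨(N : ℤ), fun m hm => ?_⟩
    have h := hN m.toNat (by omega)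
    have hc : ((m.toNat : ℕ) : ℚ) = (m : ℚ) := by
      have : ((m.toNat : ℕ) : ℤ) = m := by omega
      exact_mod_cast congrArg (fun z : ℤ => (z : ℚ)) this
    rw [hc] at h
    rw [div_le_div_iff₀ hψ hφ]
    linarith

theorem redLT_iff {d : ℕ} {ψ φ : ℚ[X]} (hψ : 0 < StabCat.alpha d ψ) (hφ : 0 < StabCat.alpha d φ) :
    W4c2simpsonmod1.RedLT d ψ φ ↔ StabCat.RedLT d ψ φ := by
  unfold W4c2simpsonmod1.RedLT StabCat.RedLT StabCat.PolyLT
  simp only [rankOf_eq_alpha, eval_smul, smul_eq_mul]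
  constructor
  · rintro ⟨N, hN⟩
    refine ⟨N.toNat, fun m hm => ?_⟩
    have h := hN (m : ℤ) (by omega)
    rw [div_lt_div_iff₀ hψ hφ] at h
    have hc : (((m : ℤ) : ℚ)) = (m : ℚ) := by push_cast; rfl
    rw [hc] at h
    linarith
  · rintro ⟨N, hN⟩
    refine ⟨(N : ℤ), fun m hm => ?_⟩
    have h := hN m.toNat (by omega)
    have hc : ((m.toNat : ℕ) : ℚ) = (m : ℚ) := by
      have : ((m.toNat : ℕ) : ℤ) = m := by omega
      exact_mod_cast congrArg (fun z : ℤ => (z : ℚ)) this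
    rw [hc] at h
    rw [div_lt_div_iff₀ hψ hφ]
    linarith

end Groth.Agent.Lib.Helper12.HNPnB
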