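import Mathlib
set_option backward.isDefEq.respectTransparency.types false

/-!
# Finite chains and strictly increasing series (helper12)
-/

set_option autoImplicit false
universe u

namespace Groth.Agent.Lib.Helper12.HNPnC

variable {α : Type u} [PartialOrder α]

/-- a nonempty finite chain is the range of a strictly increasing series -/
theorem exists_ltSeries_of_chain : ∀ (N : ℕ) (C : Finset α), C.card = N →
    IsChain (fun A B : α => A ≤ B) (C : Set α) → C.Nonempty →
    ∃ s : LTSeries α, ∀ x, x ∈ C ↔ x ∈ Set.range s := by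
  classical
  intro N
  induction N using Nat.strong_induction_on with
  | _ N ih =>
    intro C hcard hC hne
    obtain ⟨M, hM⟩ := C.exists_maximal hne
    have hMC : M ∈ C := hM.prop
    have hle : ∀ x ∈ C, x ≤ M := by
      intro x hx
      rcases hC.total hx hMC with h | h
      · exact h
      · exact hM.le_of_ge hx h
    by_cases hC' : (C.erase M).Nonempty
    · obtain ⟨s', hs'⟩ := ih (C.erase M).card (by rw [← hcard]; exact Finset.card_erase_lt_of_mem hMC)
        (C.erase M) rfl (hC.mono (by exact_mod_cast Finset.erase_subset M C)) hC'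
      have hlast : s'.last < M := by
        have h1 : s'.last ∈ C.erase M := (hs' _).2 ⟨_, rfl⟩
        rw [Finset.mem_erase] at h1
        exact lt_of_le_of_ne (hle _ h1.2) h1.1
      refine ⟨s'.snoc M hlast, fun x => ?_⟩
      rw [← RelSeries.mem_def, RelSeries.mem_snoc, RelSeries.mem_def, ← hs' x, Finset.mem_erase]
      constructor
      · intro hx
        by_cases hxM : x = M
        · exact Or.inr hxM
        · exact Or.inl ⟨hxM, hx⟩
      · rintro (h | h)
        · exact h.2
        · exact h ▸ hMC
    · refine ⟨RelSeries.singleton _ M, fun x => ?_⟩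
      rw [Finset.not_nonempty_iff_eq_empty] at hC'
      constructor
      · intro hx
        have : x = M := by
          by_contra hxM
          have : x ∈ C.erase M := Finset.mem_erase.2 ⟨hxM, hx⟩
          rw [hC'] at this
          simp at this
        exact ⟨0, this ▸ rfl⟩
      · rintro ⟨i, rfl⟩
        exact hMC

/-- consecutive members of the range of a strictly increasing series -/
theorem consecutive_iff (s : LTSeries α) (a b : Fin (s.length + 1)) :
    (s a < s b ∧ ∀ D ∈ Set.range s, ¬ (s a < D ∧ D < s b)) ↔
      ∃ i : Fin s.length, a = i.castSucc ∧ b = i.succ := by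
  constructor
  · rintro ⟨hab, hno⟩
    have hab' : a < b := s.strictMono.lt_iff_lt.1 hab
    have hb : a.val + 1 = b.val := by
      by_contra hne
      have hlt : a.val + 1 < b.val := by
        have : a.val < b.val := hab'
        omega
      refine hno (s ⟨a.val + 1, by omega⟩) ⟨_, rfl⟩ ⟨?_, ?_⟩
      · exact s.strictMono (by rw [Fin.lt_def]; simp)
      · exact s.strictMono (by rw [Fin.lt_def]; exact hlt)
    refine ⟨⟨a.val, by omega⟩, ?_, ?_⟩
    · ext; rfl
    · ext; simp [hb]
  · rintro ⟨i, rfl, rfl⟩
    refine ⟨s.strictMono (Fin.castSucc_lt_succ), ?_⟩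
    rintro D ⟨j, rfl⟩ ⟨h1, h2⟩
    have h1' := s.strictMono.lt_iff_lt.1 h1
    have h2' := s.strictMono.lt_iff_lt.1 h2
    rw [Fin.lt_def] at h1' h2'
    simp at h1' h2'
    omega

theorem head_eq_bot [OrderBot α] (s : LTSeries α) (h : (⊥ : α) ∈ Set.range s) : s.head = ⊥ := by
  obtain ⟨j, hj⟩ := h
  refine le_antisymm ?_ bot_le
  rw [← hj]
  exact s.strictMono.monotone (Fin.zero_le _)

theorem last_eq_top [OrderTop α] (s : LTSeries α) (h : (⊤ : α) ∈ Set.range s) : s.last = ⊤ := by
  obtain ⟨j, hj⟩ := h
  refine le_antisymm le_top ?_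
  rw [← hj]
  exact s.strictMono.monotone (Fin.le_last _)


end Groth.Agent.Lib.Helper12.HNPnC
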