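import Mathlib
import Groth.Agent.Lib.Helper12HNPnA
import Groth.Agent.Lib.Helper12HNPnB
import Groth.Agent.Lib.Helper12HNPnC
import Groth.Agent.Lib.Helper4DevD
set_option backward.isDefEq.respectTransparency.types false

/-!
# Harder–Narasimhan filtrations on `P^n_k` as finite chains of subobjects (helper12)
-/

set_option autoImplicit false
set_option linter.style.haveILetI false
set_option linter.unusedSectionVars false
set_option linter.unusedVariables false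
universe u
open CategoryTheory CategoryTheory.Limits AlgebraicGeometry TopologicalSpace Opposite Polynomial

namespace Groth.Agent.Lib.Helper12.HNPnD

open Groth.Agent.Lib.Helper4.Dev Groth.Agent.Lib.Helper4.CurveChi
  Groth.Agent.Lib.Helper12.Snap Groth.Agent.Lib.Helper12.Pos Groth.Agent.Lib.Helper12.HP
  Groth.Agent.Lib.Helper12.HPB Groth.Agent.Lib.Helper12.HPC
  Groth.Agent.Lib.Helper12.SubQC Groth.Agent.Lib.Helper12.HNA Groth.Agent.Lib.Helper12.HNB
  Groth.Agent.Lib.Helper12.HilbDeg Groth.Agent.Lib.Helper12.HNPnA Groth.Agent.Lib.Helper12.HNPnB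
  Groth.Agent.Lib.Helper12.HNPnC

variable (k : Type u) [Field k] (n d : ℕ)

/-- `φ` computes the Euler characteristics of all integral twists of `G` -/
def HPZ (G : (CohB1.ProjSpace n k).Modules) (φ : ℚ[X]) : Prop :=
  ∀ m : ℤ, (Curv2.euler k (CohB1.ProjSpace n k) (CohB1.tensorMod G (Twist.twistProjSpace n k m)) : ℚ) =
    φ.eval (m : ℚ)

/-- purity in the explicit form of the statement -/
def PureX (F : (CohB1.ProjSpace n k).Modules) : Prop :=
  topologicalKrullDim ↥(CohB1.support F) = (d : WithBot ℕ∞) ∧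
    ∀ (G : (CohB1.ProjSpace n k).Modules) (ι : G ⟶ F), Mono ι → Coh.IsCoh G → ¬ IsZero G →
      topologicalKrullDim ↥(CohB1.support G) = (d : WithBot ℕ∞)

/-- the predicate of the statement on a finite set of subobjects -/
def IsHNSet (E : (CohB1.ProjSpace n k).Modules) (C : Finset (Subobject E)) : Prop :=
  ⊥ ∈ C ∧ ⊤ ∈ C ∧ IsChain (fun A B : Subobject E => A ≤ B) (↑C : Set (Subobject E)) ∧
    (∀ A ∈ C, Coh.IsCoh (A : (CohB1.ProjSpace n k).Modules)) ∧
    (∀ A ∈ C, ∀ B ∈ C, ∀ hAB : A < B, (∀ D ∈ C, ¬ (A < D ∧ D < B)) →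
      PureX k n d (cokernel (Subobject.ofLE A B hAB.le)) ∧
      (∀ (G : (CohB1.ProjSpace n k).Modules) (ι : G ⟶ (cokernel (Subobject.ofLE A B hAB.le))),
        Mono ι → Coh.IsCoh G → ¬ IsZero G →
        ∀ φ ψ : Polynomial ℚ, HPZ k n (cokernel (Subobject.ofLE A B hAB.le)) φ → HPZ k n G ψ →
          W4c2simpsonmod1.RedLE d ψ φ)) ∧
    (∀ A ∈ C, ∀ B ∈ C, ∀ B' ∈ C, ∀ hAB : A < B, ∀ hBB : B < B',
      (∀ D ∈ C, ¬ (A < D ∧ D < B)) → (∀ D ∈ C, ¬ (B < D ∧ D < B')) →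
      ∀ ψ ψ' : Polynomial ℚ, HPZ k n (cokernel (Subobject.ofLE A B hAB.le)) ψ →
        HPZ k n (cokernel (Subobject.ofLE B B' hBB.le)) ψ' →
        W4c2simpsonmod1.RedLT d ψ' ψ)

local notation "PP" => CohB1.ProjSpace n k
local notation "LL" => OO k n 1

theorem hpz_iff (G : (PP).Modules) (hG : Coh.IsCoh G) (φ : ℚ[X]) :
    HPZ k n G φ ↔ ShStab.IsHilbPoly k PP LL G φ :=
  ⟨fun h => isHilbPoly_of_forall_int k n G φ h, fun h m => hilbPolyZ k n G hG φ h m⟩

/-- the factors of a Harder–Narasimhan filtration satisfy the explicit conditions -/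
theorem factor_facts {E : (PP).Modules} (s : LTSeries (Subobject E))
    (hs : ShStab.IsHNFiltration k PP LL E d s) (i : Fin s.length) :
    PureX k n d (StabCat.factor s i) ∧
      (∀ (G : (PP).Modules) (ι : G ⟶ StabCat.factor s i),
        Mono ι → Coh.IsCoh G → ¬ IsZero G →
        ∀ φ ψ : Polynomial ℚ, HPZ k n (StabCat.factor s i) φ → HPZ k n G ψ →
          W4c2simpsonmod1.RedLE d ψ φ) := by
  have hL := isAmple_one k n
  have hss := hs.2.2.1 i
  have hdim := dim_eq_of_isPure hss.2.2.1 hss.1 hss.2.1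
  refine ⟨⟨hdim, hss.2.2.1⟩, ?_⟩
  intro G ι hι hG hG0 φ ψ hφ hψ
  have hφ' := isHilbPoly_of_forall_int k n _ φ hφ
  have hψ' := isHilbPoly_of_forall_int k n _ ψ hψ
  have haφ := alpha_pos k PP LL hL _ hss.1 d hdim hφ'
  have haψ := alpha_pos k PP LL hL G hG d (hss.2.2.1 G ι hι hG hG0) hψ'
  rw [redLE_iff haψ haφ]
  by_cases hiso : IsIso ι
  · have := hilbPoly_of_iso k PP LL hL.1 (asIso ι) hψ'
    rw [hilbPoly_unique k PP this hφ']
    exact redLE_refl d φ
  · exact hss.2.2.2 G ι hι hG hG0 hiso ψ φ hψ' hφ'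

theorem isHNSet_of_hn {E : (PP).Modules} (hE : Coh.IsCoh E) (s : LTSeries (Subobject E))
    (hs : ShStab.IsHNFiltration k PP LL E d s) (C : Finset (Subobject E))
    (hC : ∀ x, x ∈ C ↔ x ∈ Set.range s) : IsHNSet k n d E C := by
  have hL := isAmple_one k n
  have hchain := isHNChain_of_isHNFiltration k PP LL hL d s hs
  refine ⟨(hC _).2 ⟨0, hs.1⟩, (hC _).2 ⟨Fin.last _, hs.2.1⟩, ?_, ?_, ?_, ?_⟩
  · intro A hA B hB _
    obtain ⟨a, rfl⟩ := (hC A).1 hA
    obtain ⟨b, rfl⟩ := (hC B).1 hB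
    rcases le_total a b with h | h
    · exact Or.inl (s.strictMono.monotone h)
    · exact Or.inr (s.strictMono.monotone h)
  · intro A hA
    obtain ⟨a, rfl⟩ := (hC A).1 hA
    have := hchain.isCoh k PP LL hL d (by rw [clamp_zero, hs.1]) a.val (by omega)
    rwa [clamp_of_le s (by omega)] at this
  · intro A hA B hB hAB hno
    obtain ⟨a, rfl⟩ := (hC A).1 hA
    obtain ⟨b, rfl⟩ := (hC B).1 hB
    obtain ⟨i, rfl, rfl⟩ := (consecutive_iff s a b).1 ⟨hAB, fun D hD => hno D ((hC D).2 hD)⟩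
    exact factor_facts k n d s hs i
  · intro A hA B hB B' hB' hAB hBB hno hno' ψ ψ' hψ hψ'
    obtain ⟨a, rfl⟩ := (hC A).1 hA
    obtain ⟨b, rfl⟩ := (hC B).1 hB
    obtain ⟨b', rfl⟩ := (hC B').1 hB'
    obtain ⟨i, rfl, hb⟩ := (consecutive_iff s a b).1 ⟨hAB, fun D hD => hno D ((hC D).2 hD)⟩
    obtain ⟨j, hb2, rfl⟩ := (consecutive_iff s b b').1 ⟨hBB, fun D hD => hno' D ((hC D).2 hD)⟩
    subst hb
    obtain ⟨iv, hiv⟩ := i
    obtain ⟨jv, hjv⟩ := j
    have hij : iv + 1 = jv := by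
      have := congrArg Fin.val hb2
      simpa using this
    subst hij
    have hss1 := hs.2.2.1 ⟨iv, hiv⟩
    have hss2 := hs.2.2.1 ⟨iv + 1, hjv⟩
    have h1 : ShStab.IsHilbPoly k PP LL (StabCat.factor s ⟨iv, hiv⟩) ψ :=
      isHilbPoly_of_forall_int k n _ ψ hψ
    have h2 : ShStab.IsHilbPoly k PP LL (StabCat.factor s ⟨iv + 1, hjv⟩) ψ' :=
      isHilbPoly_of_forall_int k n _ ψ' hψ'
    have ha1 := alpha_pos_of_isSemistable k PP LL hL d hss1 h1
    have ha2 := alpha_pos_of_isSemistable k PP LL hL d hss2 h2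
    rw [redLT_iff ha2 ha1]
    exact hs.2.2.2 ⟨iv, hiv⟩ ⟨iv + 1, hjv⟩ rfl ψ ψ' h1 h2

theorem not_isZero_cokernel_of_lt {E : (PP).Modules} {A B : Subobject E} (hAB : A < B) :
    ¬ IsZero (cokernel (Subobject.ofLE A B hAB.le)) := by
  intro h0
  haveI : Epi (Subobject.ofLE A B hAB.le) := Preadditive.epi_of_isZero_cokernel _ h0
  haveI : IsIso (Subobject.ofLE A B hAB.le) := isIso_of_mono_of_epi _
  apply hAB.ne
  refine le_antisymm hAB.le (Subobject.le_of_comm (inv (Subobject.ofLE A B hAB.le)) ?_)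
  rw [IsIso.inv_comp_eq, Subobject.ofLE_arrow]

theorem hn_of_isHNSet {E : (PP).Modules} (hE : Coh.IsCoh E) (C : Finset (Subobject E))
    (h : IsHNSet k n d E C) (s : LTSeries (Subobject E))
    (hC : ∀ x, x ∈ C ↔ x ∈ Set.range s) : ShStab.IsHNFiltration k PP LL E d s := by
  have hL := isAmple_one k n
  obtain ⟨hbot, htop, -, hcoh, hfac, hlt⟩ := h
  have hmem : ∀ a : Fin (s.length + 1), s a ∈ C := fun a => (hC _).2 ⟨a, rfl⟩
  have hcons : ∀ i : Fin s.length, ∀ D ∈ C, ¬ (s i.castSucc < D ∧ D < s i.succ) := fun i D hD =>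
    ((consecutive_iff s i.castSucc i.succ).2 ⟨i, rfl, rfl⟩).2 D ((hC D).1 hD)
  have hss : ∀ i : Fin s.length, ShStab.IsSemistable k PP LL (StabCat.factor s i) d := by
    intro i
    obtain ⟨⟨hdim, hpure⟩, hsemi⟩ := hfac _ (hmem i.castSucc) _ (hmem i.succ) (s.step i) (hcons i)
    have hcohF : Coh.IsCoh (StabCat.factor s i) :=
      isCoh_cokernel _ (hcoh _ (hmem i.castSucc)) (hcoh _ (hmem i.succ))
    refine ⟨hcohF, not_isZero_cokernel_of_lt k n (s.step i), hpure, ?_⟩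
    intro F ι hι hF hF0 _ pF pE hpF hpE
    have haE := alpha_pos k PP LL hL _ hcohF d hdim hpE
    have haF := alpha_pos k PP LL hL F hF d (hpure F ι hι hF hF0) hpF
    rw [← redLE_iff haF haE]
    exact hsemi F ι hι hF hF0 pE pF ((hpz_iff k n _ hcohF pE).2 hpE) ((hpz_iff k n _ hF pF).2 hpF)
  refine ⟨head_eq_bot s ((hC _).1 hbot), last_eq_top s ((hC _).1 htop), hss, ?_⟩
  intro i j hij p q hp hq
  obtain ⟨iv, hiv⟩ := i
  obtain ⟨jv, hjv⟩ := j
  have hij' : iv + 1 = jv := hij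
  subst hij'
  have ha1 := alpha_pos_of_isSemistable k PP LL hL d (hss ⟨iv, hiv⟩) hp
  have ha2 := alpha_pos_of_isSemistable k PP LL hL d (hss ⟨iv + 1, hjv⟩) hq
  rw [← redLT_iff ha2 ha1]
  exact hlt _ (hmem (Fin.castSucc ⟨iv, hiv⟩)) _ (hmem (Fin.succ ⟨iv, hiv⟩)) _ (hmem (Fin.succ ⟨iv + 1, hjv⟩))
    (s.step ⟨iv, hiv⟩) (s.step ⟨iv + 1, hjv⟩) (hcons ⟨iv, hiv⟩) (hcons ⟨iv + 1, hjv⟩) p q
    ((hpz_iff k n _ (hss ⟨iv, hiv⟩).1 p).2 hp) ((hpz_iff k n _ (hss ⟨iv + 1, hjv⟩).1 q).2 hq)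

/-- existence and uniqueness of the Harder–Narasimhan chain on `P^n_k` -/
theorem existsUnique_isHNSet (E : (PP).Modules) (hE : Coh.IsCoh E) (hpure : PureX k n d E) :
    ∃! C : Finset (Subobject E), IsHNSet k n d E C := by
  classical
  have hL := isAmple_one k n
  have h0 : ¬ IsZero E := by
    intro h0
    have h1 := hpure.1
    rw [Groth.Agent.Lib.Helper12.HPE.support_eq_empty_of_isZero h0] at h1
    have : topologicalKrullDim (↥(∅ : Set (PP))) = ⊥ := by
      unfold topologicalKrullDim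
      rw [Order.krullDim_eq_bot_iff]
      exact ⟨fun Z => Z.isIrreducible'.1.some.2⟩
    rw [this] at h1
    exact absurd h1 (by simp)
  obtain ⟨s, hs, huniq⟩ := existsUnique_hn k PP LL hL d hE h0 hpure.2
  refine ⟨Finset.univ.image s, isHNSet_of_hn k n d hE s hs _ (fun x => by simp), ?_⟩
  intro C hC
  have hne : C.Nonempty := ⟨⊥, hC.1⟩
  obtain ⟨t, ht⟩ := exists_ltSeries_of_chain C.card C rfl hC.2.2.1 hne
  have hts : t = s := huniq t (hn_of_isHNSet k n d hE C hC t ht)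
  subst hts
  ext x
  rw [ht x]
  simp

end Groth.Agent.Lib.Helper12.HNPnD
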