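import Mathlib
import Groth.Agent.Lib.Helper23SecTw6

/-!
# A module with a tensor inverse is invertible (helper2)

If `L ⊗ N ≅ O_X` then `L` is locally generated by one section (`isGen_of_isUnit_tm`), hence invertible.
Built on helper23's section calculus for `CohB1.tensorMod`.
-/

set_option autoImplicit false
universe u
open CategoryTheory Limits AlgebraicGeometry TopologicalSpace Opposite TensorProduct MonoidalCategory

namespace Groth.Agent.Lib.Helper2.TensorInv

open Groth.Agent.Lib.Helper23.SecTw Groth.Agent.Lib.Helper23.GenLocus Groth.Agent.Lib.Helper23.Extend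
  Groth.Agent.Lib.Helper6

section general
variable {C : Type*} [Category C] {R : Cᵒᵖ ⥤ CommRingCat.{u}}
variable (P Q : PresheafOfModules.{u} (R ⋙ forget₂ CommRingCat RingCat)) (Z : Cᵒᵖ)

/-- If a pure tensor `p ⊗ q` vanishes then `β q • p = 0` for every linear form `β`. -/
theorem smul_eq_zero_of_pt_eq_zero (β : Q.obj Z →ₗ[R.obj Z] R.obj Z) (p : P.obj Z) (q : Q.obj Z)
    (h : pt P Q Z p q = 0) : β q • p = 0 := by
  have h' : p ⊗ₜ[R.obj Z] q = (0 : (P.obj Z) ⊗[R.obj Z] (Q.obj Z)) := h
  have this : TensorProduct.rid (R.obj Z) (P.obj Z)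
      (TensorProduct.map LinearMap.id β (p ⊗ₜ[R.obj Z] q)) =
      TensorProduct.rid (R.obj Z) (P.obj Z) (TensorProduct.map LinearMap.id β 0) :=
    congrArg (fun t => TensorProduct.rid (R.obj Z) (P.obj Z)
      (TensorProduct.map LinearMap.id β t)) h'
  rw [TensorProduct.map_tmul, TensorProduct.rid_tmul, map_zero, map_zero] at this
  exact this

/-- A predicate that fails at `0` and is "prime" for sums, if it holds at the image of an element
of the sectionwise tensor product, holds at the image of a pure tensor. -/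
theorem exists_pt_of_pred {T : ModuleCat.{u} ((R ⋙ forget₂ CommRingCat RingCat).obj Z)}
    (φ : (P ⊗ Q).obj Z ⟶ T) (S : T → Prop) (h0 : ¬ S 0) (hadd : ∀ a b, S (a + b) → S a ∨ S b)
    (t : ↑((P ⊗ Q).obj Z)) (ht : S (φ.hom t)) :
    ∃ (p : P.obj Z) (q : Q.obj Z), S (φ.hom (pt P Q Z p q)) := by
  revert ht
  refine TensorProduct.induction_on (R := R.obj Z) (M := P.obj Z) (N := Q.obj Z)
    (motive := fun t => S (φ.hom t) → ∃ (p : P.obj Z) (q : Q.obj Z), S (φ.hom (pt P Q Z p q)))
    t ?_ ?_ ?_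
  · intro h
    have e : φ.hom (0 : ↑((P ⊗ Q).obj Z)) = 0 := map_zero φ.hom
    have h' : S (φ.hom (0 : ↑((P ⊗ Q).obj Z))) := h
    rw [e] at h'
    exact (h0 h').elim
  · intro p q h
    exact ⟨p, q, h⟩
  · intro a b ha hb h
    have e : ∀ a b : ↑((P ⊗ Q).obj Z), φ.hom (a + b) = φ.hom a + φ.hom b := map_add φ.hom
    have h' : S (φ.hom a + φ.hom b) := (congrArg S (e a b)).mp h
    rcases hadd _ _ h' with h | h
    · exact ha h
    · exact hb h

end general

variable {X : Scheme.{u}}

theorem mem_basicOpen_add {U : X.Opens} (a b : Γ(X, U)) (x : X)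
    (h : x ∈ X.basicOpen (a + b)) : x ∈ X.basicOpen a ∨ x ∈ X.basicOpen b := by
  have hxU : x ∈ U := X.basicOpen_le _ h
  rw [Scheme.mem_basicOpen _ _ _ hxU] at h
  rw [Scheme.mem_basicOpen _ _ _ hxU, Scheme.mem_basicOpen _ _ _ hxU]
  rw [map_add] at h
  exact IsLocalRing.isUnit_or_isUnit_of_isUnit_add h

theorem not_mem_basicOpen_zero {U : X.Opens} (x : X) : x ∉ X.basicOpen (0 : Γ(X, U)) := by
  rw [Scheme.basicOpen_zero]
  exact fun h => h

/-- Around a point where `ψ y` is invertible, `y` may be replaced by a pure tensor. -/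
theorem exists_tm_mem_basicOpen (L N : X.Modules) (ψ : CohB1.tensorMod L N ⟶ Coh.structureModule X)
    (V : X.Opens) (y : Γ(CohB1.tensorMod L N, V)) (x : X)
    (hx : x ∈ X.basicOpen (ofS V (ψ.app V y))) :
    ∃ (V' : X.Opens) (l : Γ(L, V')) (n : Γ(N, V')),
      x ∈ X.basicOpen (ofS V' (ψ.app V' (tm L N V' l n))) := by
  have hxV : x ∈ V := X.basicOpen_le _ hx
  obtain ⟨V', hV', p, hxV', hp⟩ := locSurj L N V y x hxV
  have h1 : x ∈ X.basicOpen (ofS V' (ψ.app V' (toT L N V' p))) := by
    rw [hp]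
    have h2 : ψ.app V' (res (CohB1.tensorMod L N) hV' y) =
        res (Coh.structureModule X) hV' (ψ.app V y) := (app_map ψ (homOfLE hV') y)
    rw [h2]
    have h3 : ofS V' (res (Coh.structureModule X) hV' (ψ.app V y)) =
        X.presheaf.map (homOfLE hV').op (ofS V (ψ.app V y)) := rfl
    rw [h3, Scheme.basicOpen_res]
    exact ⟨hxV', hx⟩
  obtain ⟨l, n, h⟩ := exists_pt_of_pred (CohB1.toPMod L) (CohB1.toPMod N) (op V')
    ((SecTwist.toTensor L N).app (op V'))
    (fun t => x ∈ X.basicOpen (ofS V' (ψ.app V' t)))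
    (by
      change x ∉ X.basicOpen (ofS V' (ψ.app V' 0))
      rw [map_zero]
      exact not_mem_basicOpen_zero x)
    (by
      intro a b hab
      have e : (ψ.app V') (a + b) = ψ.app V' a + ψ.app V' b := map_add (ψ.app V').hom a b
      have hab' : x ∈ X.basicOpen (ofS V' (ψ.app V' a) + ofS V' (ψ.app V' b)) :=
        (congrArg (fun z => x ∈ X.basicOpen (ofS V' z)) e).mp hab
      exact mem_basicOpen_add _ _ x hab')
    p h1
  exact ⟨V', l, n, h⟩

theorem ofS_smul (V : X.Opens) (r : Γ(X, V)) (s : Γ(Coh.structureModule X, V)) :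
    ofS V (r • s) = r * ofS V s := rfl

theorem ofS_add (V : X.Opens) (s t : Γ(Coh.structureModule X, V)) :
    ofS V (s + t) = ofS V s + ofS V t := rfl

theorem ofS_res {U V : X.Opens} (h : V ≤ U) (s : Γ(Coh.structureModule X, U)) :
    ofS V (res (Coh.structureModule X) h s) = resf h (ofS U s) := rfl

/-- the function `ψ (l ⊗ n)` -/
noncomputable def pairing (L N : X.Modules) (ψ : CohB1.tensorMod L N ⟶ Coh.structureModule X)
    (V : X.Opens) (l : Γ(L, V)) (n : Γ(N, V)) : Γ(X, V) :=
  ofS V (ψ.app V (tm L N V l n))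

section pairing
variable (L N : X.Modules) (ψ : CohB1.tensorMod L N ⟶ Coh.structureModule X)

theorem pairing_smul_left (V : X.Opens) (r : Γ(X, V)) (l : Γ(L, V)) (n : Γ(N, V)) :
    pairing L N ψ V (r • l) n = r * pairing L N ψ V l n := by
  unfold pairing
  rw [tm_smul_left, Scheme.Modules.Hom.app_smul, ofS_smul]

theorem pairing_smul_right (V : X.Opens) (r : Γ(X, V)) (l : Γ(L, V)) (n : Γ(N, V)) :
    pairing L N ψ V l (r • n) = r * pairing L N ψ V l n := by
  unfold pairing
  rw [tm_smul_right, Scheme.Modules.Hom.app_smul, ofS_smul]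

theorem pairing_add_right (V : X.Opens) (l : Γ(L, V)) (n n' : Γ(N, V)) :
    pairing L N ψ V l (n + n') = pairing L N ψ V l n + pairing L N ψ V l n' := by
  unfold pairing
  rw [tm_add_right, map_add, ofS_add]

theorem pairing_sub_left (V : X.Opens) (l l' : Γ(L, V)) (n : Γ(N, V)) :
    pairing L N ψ V (l - l') n = pairing L N ψ V l n - pairing L N ψ V l' n := by
  unfold pairing
  rw [tm_sub_left, map_sub]
  rfl

theorem pairing_res {U V : X.Opens} (h : V ≤ U) (l : Γ(L, U)) (n : Γ(N, U)) :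
    pairing L N ψ V (res L h l) (res N h n) = resf h (pairing L N ψ U l n) := by
  unfold pairing
  rw [← res_tm]
  have h2 : ψ.app V (res (CohB1.tensorMod L N) h (tm L N U l n)) =
      res (Coh.structureModule X) h (ψ.app U (tm L N U l n)) := app_map ψ (homOfLE h) _
  rw [h2, ofS_res]

/-- the linear form `n ↦ ψ (l ⊗ n)` -/
noncomputable def pairingLin (V : X.Opens) (l : Γ(L, V)) :
    (CohB1.toPMod N).obj (op V) →ₗ[X.sheaf.obj.obj (op V)] X.sheaf.obj.obj (op V) where
  toFun n := pairing L N ψ V l n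
  map_add' a b := pairing_add_right L N ψ V l a b
  map_smul' r a := pairing_smul_right L N ψ V r l a

theorem eq_zero_of_tm_eq_zero (V : X.Opens) (l m : Γ(L, V)) (n : Γ(N, V))
    (hu : IsUnit (pairing L N ψ V l n)) (h : tm L N V m n = 0) : m = 0 := by
  have key : ∀ x : V, ∃ (V' : X.Opens) (hV' : V' ≤ V), x.1 ∈ V' ∧ res L hV' m = 0 := by
    intro x
    have h1 : toT L N V (ptm L N V m n) = toT L N V (ptm L N V 0 n) := by
      rw [← tm_eq_toT, ← tm_eq_toT, h, tm_zero_left]
    obtain ⟨V', hV', hxV', h2⟩ := locInj L N V _ _ h1 x.1 x.2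
    refine ⟨V', hV', hxV', ?_⟩
    rw [resP_ptm, resP_ptm, res_zero] at h2
    have h3 : pt (CohB1.toPMod L) (CohB1.toPMod N) (op V') (res L hV' m) (res N hV' n) = 0 :=
      h2.trans (pt_zero_left _ _ _ _)
    have h4 := smul_eq_zero_of_pt_eq_zero (CohB1.toPMod L) (CohB1.toPMod N) (op V')
      (pairingLin L N ψ V' (res L hV' l)) (res L hV' m) (res N hV' n) h3
    have h5 : IsUnit (pairing L N ψ V' (res L hV' l) (res N hV' n)) := by
      rw [pairing_res]
      exact hu.map _
    exact (h5.smul_eq_zero).mp h4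
  choose V' hV' hx hz using key
  refine (modSheaf L).eq_of_locally_eq' V' V (fun x => homOfLE (hV' x)) ?_ m 0 ?_
  · intro x hx'
    exact Opens.mem_iSup.mpr ⟨⟨x, hx'⟩, hx _⟩
  · intro x
    rw [map_zero]
    exact hz x

end pairing

theorem bijective_smul_of_isUnit_pairing (L N : X.Modules)
    (e : CohB1.tensorMod L N ≅ Coh.structureModule X) (V : X.Opens) (l : Γ(L, V)) (n : Γ(N, V))
    (hu : IsUnit (pairing L N e.hom V l n)) : Function.Bijective (fun r : Γ(X, V) => r • l) := by
  constructor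
  · intro r r' h
    have h1 := congrArg (fun z => pairing L N e.hom V z n) h
    simp only [pairing_smul_left] at h1
    exact hu.mul_left_injective h1
  · intro m
    obtain ⟨u, hu'⟩ := hu
    refine ⟨pairing L N e.hom V m n * ↑u⁻¹, ?_⟩
    have hinj : Function.Injective (e.hom.app V) := by
      intro a b hab
      have h1 : e.inv.app V (e.hom.app V a) = e.inv.app V (e.hom.app V b) := by rw [hab]
      have h2 : e.hom.app V ≫ e.inv.app V = 𝟙 _ := by
        rw [← Scheme.Modules.Hom.comp_app, e.hom_inv_id]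
        rfl
      have h3 : ∀ a, e.inv.app V (e.hom.app V a) = a := fun a => by
        rw [← ConcreteCategory.comp_apply, h2]
        rfl
      rwa [h3, h3] at h1
    have h0 : tm L N V (m - (pairing L N e.hom V m n * ↑u⁻¹) • l) n = 0 := by
      apply hinj
      rw [map_zero]
      have h1 : pairing L N e.hom V (m - (pairing L N e.hom V m n * ↑u⁻¹) • l) n = 0 := by
        rw [pairing_sub_left, pairing_smul_left, ← hu', mul_assoc, Units.inv_mul, mul_one, sub_self]
      exact h1
    have h1 := eq_zero_of_tm_eq_zero L N e.hom V l _ n (hu' ▸ u.isUnit) h0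
    exact (sub_eq_zero.mp h1).symm

theorem isGen_of_isUnit_pairing (L N : X.Modules)
    (e : CohB1.tensorMod L N ≅ Coh.structureModule X) (V : X.Opens) (l : Γ(L, V)) (n : Γ(N, V))
    (hu : IsUnit (pairing L N e.hom V l n)) : IsGen L V l := by
  intro W hW
  refine bijective_smul_of_isUnit_pairing L N e W (res L hW l) (res N hW n) ?_
  rw [pairing_res]
  exact hu.map _

/-- If `L ⊗ N ≅ O_X` then `L` is invertible. -/
theorem isInvertible_of_tensor_iso (L N : X.Modules)
    (e : CohB1.tensorMod L N ≅ Coh.structureModule X) : PicF.IsInvertible L := by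
  refine isInvertible_of_isGen L ?_
  intro x
  -- the section of `L ⊗ N` corresponding to `1`
  have h1 : e.hom.app ⊤ (e.inv.app ⊤ (toS ⊤ 1)) = toS ⊤ 1 := by
    have h2 : e.inv.app ⊤ ≫ e.hom.app ⊤ = 𝟙 _ := by
      rw [← Scheme.Modules.Hom.comp_app, e.inv_hom_id]
      rfl
    rw [← ConcreteCategory.comp_apply, h2]
    rfl
  have hx : x ∈ X.basicOpen (ofS ⊤ (e.hom.app ⊤ (e.inv.app ⊤ (toS ⊤ 1)))) := by
    rw [h1, ofS_toS, Scheme.basicOpen_of_isUnit _ isUnit_one]
    trivial
  obtain ⟨V', l, n, h⟩ := exists_tm_mem_basicOpen L N e.hom ⊤ _ x hx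
  let f : Γ(X, V') := pairing L N e.hom V' l n
  have hW : X.basicOpen f ≤ V' := X.basicOpen_le f
  refine ⟨X.basicOpen f, res L hW l, h, ?_⟩
  refine isGen_of_isUnit_pairing L N e _ _ (res N hW n) ?_
  rw [pairing_res]
  exact RingedSpace.isUnit_res_basicOpen _ f

end Groth.Agent.Lib.Helper2.TensorInv
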