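import Mathlib
import Groth.Agent.Lib.Helper12HilbPolyA
import Groth.Agent.Lib.Helper12PosF
import Groth.Agent.Lib.Helper12SnapB
set_option backward.isDefEq.respectTransparency.types false

/-!
# Top coefficients of Hilbert polynomials in the binomial basis are intersection numbers (helper12)
-/

set_option autoImplicit false
set_option linter.style.haveILetI false
set_option linter.unusedSectionVars false
set_option linter.unusedVariables false
universe u
open CategoryTheory CategoryTheory.Limits AlgebraicGeometry TopologicalSpace Opposite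

namespace Groth.Agent.Lib.Helper12.HilbCoeff

open Groth.Agent.Lib.Helper4.Dev Groth.Agent.Lib.Helper4.CurveChi
  Groth.Agent.Lib.Helper12.Snap Groth.Agent.Lib.Helper12.Pos Groth.Agent.Lib.Helper12.HP

open fwdDiff Finset in
theorem fwdDiff_iter_shift_choose (j t : ℕ) (hj : j ≤ t) :
    (fwdDiff (1 : ℕ))^[t] (fun m : ℕ => (((m + j).choose j : ℕ) : ℤ)) 0 = if j = t then 1 else 0 := by
  have h1 := fwdDiff_iter_comp_add (1 : ℕ) (fun x : ℕ => ((x.choose j : ℕ) : ℤ)) j t 0
  rw [h1, zero_add]
  obtain ⟨u, rfl⟩ := Nat.exists_eq_add_of_le hj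
  have h2 : (fwdDiff (1 : ℕ))^[j] (fun x : ℕ => ((x.choose j : ℕ) : ℤ)) = fun x : ℕ => ((x.choose 0 : ℕ) : ℤ) := by
    have := fwdDiff_iter_choose 0 j
    rwa [add_zero] at this
  rw [add_comm j u, Function.iterate_add_apply, h2]
  simp only [Nat.choose_zero_right, Nat.cast_one]
  rcases Nat.eq_zero_or_pos u with rfl | hu
  · simp
  · have hne : ¬ (j = u + j) := by omega
    rw [if_neg hne]
    obtain ⟨v, rfl⟩ := Nat.exists_eq_succ_of_ne_zero hu.ne'
    rw [Function.iterate_succ_apply, fwdDiff_const]
    simp [fwdDiff_iter_eq_sum_shift]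

open fwdDiff Finset in
theorem fwdDiff_iter_binom_sum (t : ℕ) (c : Fin (t + 1) → ℤ) (q : ℕ → ℤ)
    (hq : ∀ m, q m = ∑ j : Fin (t + 1), c j * (((m + j).choose j : ℕ) : ℤ)) :
    (fwdDiff (1 : ℕ))^[t] q 0 = c (Fin.last t) := by
  have hq' : q = ∑ j : Fin (t + 1), c j • (fun m : ℕ => (((m + j).choose j : ℕ) : ℤ)) := by
    funext m
    rw [hq m, Finset.sum_apply]
    rfl
  rw [hq', fwdDiff_iter_finsetSum, Finset.sum_apply]
  simp_rw [fwdDiff_iter_const_smul, Pi.smul_apply]
  rw [Finset.sum_eq_single (Fin.last t)]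
  · rw [fwdDiff_iter_shift_choose _ _ (by simp)]
    simp
  · intro j _ hj
    rw [fwdDiff_iter_shift_choose _ _ (by omega)]
    have : ¬ ((j : ℕ) = t) := fun h => hj (Fin.ext (by simpa using h))
    rw [if_neg this, smul_zero]
  · intro h
    exact absurd (Finset.mem_univ _) h

variable (k : Type u) [Field k] (X : Scheme.{u}) [X.Over (Spec (CommRingCat.of k))]
  [IsProper (X ↘ (Spec (CommRingCat.of k)))]

/-- the top coefficient in the binomial basis of a Hilbert function is an iterated difference of Euler characteristics -/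
theorem top_coeff (H : X.Modules) (hH : PicF.IsInvertible H) (E : X.Modules) (t : ℕ) (c : Fin (t + 1) → ℤ)
    (hq : ∀ m : ℕ, chiTw k X H E m = ∑ j : Fin (t + 1), c j * (((m + j).choose j : ℕ) : ℤ)) :
    c (Fin.last t) = (-1 : ℤ) ^ t * dchi k X (List.replicate t H) E := by
  rw [← fwdDiff_zero_eq k X H hH E t, fwdDiff_iter_binom_sum t c _ hq]

theorem isInvertible_of_inverse {A B : X.Modules} (h : Nonempty (CohB1.tensorMod A B ≅ Coh.structureModule X)) :
    PicF.IsInvertible B := by
  obtain ⟨e⟩ := h
  exact Groth.Agent.Lib.Helper2.TensorInv.isInvertible_of_tensor_iso B A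
    (Groth.Agent.Lib.Helper23.AmpleFam2.tensorBraid B A ≪≫ e)

/-- top-degree iterated differences do not see a twist by an invertible module, and inverses only change the sign -/
theorem dchi_ofFn_inverse (r : ℕ) (hdim : topologicalKrullDim X ≤ (r : WithBot ℕ∞))
    (A B : Fin r → X.Modules) (hA : ∀ i, PicF.IsInvertible (A i))
    (hAB : ∀ i, Nonempty (CohB1.tensorMod (A i) (B i) ≅ Coh.structureModule X)) :
    dchi k X (List.ofFn B) (Coh.structureModule X) =
      (-1 : ℤ) ^ r * dchi k X (List.ofFn A) (Coh.structureModule X) := by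
  haveI : IsNoetherian X := Groth.Agent.Lib.Helper4.CurveRR.isNoetherian_of_proper k X
  haveI : IsLocallyNoetherian X := inferInstance
  have hB : ∀ i, PicF.IsInvertible (B i) := fun i => isInvertible_of_inverse X (hAB i)
  obtain ⟨T, hT, hTe⟩ := dchi_inverse k X r A B hA hB hAB
  have hlA : ∀ N ∈ List.ofFn A, PicF.IsInvertible N := by
    intro N hN
    obtain ⟨i, rfl⟩ := (List.mem_ofFn' _ N).1 hN
    exact hA i
  rw [hTe, dchi_tensor_invertible k X (List.ofFn A) hlA T hT _ (isCoh_structureModule X)]
  rw [List.length_ofFn]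
  refine lt_of_le_of_lt ((topologicalKrullDim_subspace_le _ _).trans hdim) ?_
  exact_mod_cast Nat.lt_succ_self r

theorem hilbCoeff_main (s : ℕ) (hdim : topologicalKrullDim X ≤ ((s + 1 : ℕ) : WithBot ℕ∞))
    (H H' L L' : X.Modules) (hH : PicF.IsInvertible H)
    (hHH' : Nonempty (CohB1.tensorMod H H' ≅ Coh.structureModule X))
    (hL : PicF.IsInvertible L) (hLL' : Nonempty (CohB1.tensorMod L L' ≅ Coh.structureModule X))
    (a e : Fin (s + 2) → ℤ)
    (ha : ∀ m : ℕ, chiTw k X H L m = ∑ j : Fin (s + 2), a j * (((m + j).choose j : ℕ) : ℤ))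
    (he : ∀ m : ℕ, chiTw k X H (Coh.structureModule X) m =
      ∑ j : Fin (s + 2), e j * (((m + j).choose j : ℕ) : ℤ)) :
    a (Fin.last (s + 1)) = e (Fin.last (s + 1)) ∧
      a (Fin.last (s + 1)) = FGA.intNum k X (s + 1) (fun _ : Fin (s + 1) => H') (Coh.structureModule X) ∧
      a (Fin.castSucc (Fin.last s)) - e (Fin.castSucc (Fin.last s)) =
        FGA.intNum k X (s + 1) (Matrix.vecCons L' (fun _ : Fin s => H')) (Coh.structureModule X) := by
  haveI : IsNoetherian X := Groth.Agent.Lib.Helper4.CurveRR.isNoetherian_of_proper k X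
  haveI : IsLocallyNoetherian X := inferInstance
  have hOcoh := isCoh_structureModule X
  have hdimO : ∀ t : ℕ, s + 1 ≤ t → topologicalKrullDim ↥(CohB1.support (Coh.structureModule X)) <
      ((t + 1 : ℕ) : WithBot ℕ∞) := by
    intro t ht
    refine lt_of_le_of_lt ((topologicalKrullDim_subspace_le _ _).trans hdim) ?_
    exact_mod_cast Nat.lt_succ_of_le ht
  have hrep : ∀ t : ℕ, ∀ M ∈ List.replicate t H, PicF.IsInvertible M := fun t M hM =>
    (List.eq_of_mem_replicate hM) ▸ hH
  -- top coefficients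
  have hatop := top_coeff k X H hH L (s + 1) a ha
  have hetop := top_coeff k X H hH (Coh.structureModule X) (s + 1) e he
  have hLO : dchi k X (List.replicate (s + 1) H) L =
      dchi k X (List.replicate (s + 1) H) (Coh.structureModule X) := by
    rw [← (isAdd_dchi k X _ (hrep (s + 1))).iso (Groth.Agent.Lib.Helper23.TensorUnit.unitTensorIso L)]
    exact dchi_tensor_invertible k X _ (hrep (s + 1)) L hL _ hOcoh
      (by rw [List.length_replicate]; exact hdimO (s + 1) le_rfl)
  have h1 : a (Fin.last (s + 1)) = e (Fin.last (s + 1)) := by rw [hatop, hetop, hLO]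
  refine ⟨h1, ?_, ?_⟩
  · rw [intNum_eq_dchi k X (s + 1) hdim,
      dchi_ofFn_inverse k X (s + 1) hdim (fun _ => H) (fun _ => H') (fun _ => hH) (fun _ => hHH'),
      List.ofFn_const, h1, hetop]
  · -- the subleading coefficients
    have hdiff : ∀ m : ℕ, chiTw k X H L m - chiTw k X H (Coh.structureModule X) m =
        ∑ j : Fin (s + 1), (a j.castSucc - e j.castSucc) * (((m + j).choose j : ℕ) : ℤ) := by
      intro m
      rw [ha m, he m, Fin.sum_univ_castSucc, Fin.sum_univ_castSucc (n := s + 1), h1]
      simp only [Fin.val_castSucc, sub_mul, Finset.sum_sub_distrib]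
      ring
    have hsub := fwdDiff_iter_binom_sum s (fun j => a j.castSucc - e j.castSucc)
      (fun m => chiTw k X H L m - chiTw k X H (Coh.structureModule X) m) hdiff
    have hfn : (fun m => chiTw k X H L m - chiTw k X H (Coh.structureModule X) m) =
        chiTw k X H L - chiTw k X H (Coh.structureModule X) := rfl
    rw [hfn, sub_eq_add_neg, fwdDiff_iter_add, Pi.add_apply] at hsub
    have hneg : (fwdDiff (1 : ℕ))^[s] (-chiTw k X H (Coh.structureModule X)) 0 =
        -((fwdDiff (1 : ℕ))^[s] (chiTw k X H (Coh.structureModule X)) 0) := by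
      have : (-chiTw k X H (Coh.structureModule X)) = (-1 : ℤ) • chiTw k X H (Coh.structureModule X) := by
        simp
      rw [this, fwdDiff_iter_const_smul]
      simp
    rw [hneg, fwdDiff_zero_eq k X H hH L s, fwdDiff_zero_eq k X H hH (Coh.structureModule X) s] at hsub
    change a (Fin.castSucc (Fin.last s)) - e (Fin.castSucc (Fin.last s)) = _
    rw [← hsub, intNum_eq_dchi k X (s + 1) hdim,
      dchi_ofFn_inverse k X (s + 1) hdim (Matrix.vecCons L (fun _ : Fin s => H))
        (Matrix.vecCons L' (fun _ : Fin s => H'))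
        (fun i => by refine Fin.cases ?_ (fun j => ?_) i <;> simp [hL, hH])
        (fun i => by refine Fin.cases ?_ (fun j => ?_) i <;> simp [hLL', hHH'])]
    rw [List.ofFn_succ]
    simp only [Matrix.cons_val_zero, Matrix.cons_val_succ, List.ofFn_const, dchi_cons]
    rw [(isAdd_dchi k X _ (hrep s)).iso (Groth.Agent.Lib.Helper23.TensorUnit.unitTensorIso L)]
    rw [pow_succ]
    ring

end Groth.Agent.Lib.Helper12.HilbCoeff
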