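import Mathlib
import Groth.Agent.Lib.Helper12HilbCoeff
import Groth.Agent.Lib.Helper12HNPnA
import Groth.Agent.Lib.Helper23PB
import Groth.Agent.Lib.Helper27ProjSpaceFibres
import Groth.Agent.Lib.Helper27AmpleSerre
import Groth.Prelude.Def_Pic13
set_option backward.isDefEq.respectTransparency.types false

/-!
# Top Hilbert coefficients of a closed subscheme of `P^n_k` (helper12)
-/

set_option autoImplicit false
set_option linter.style.haveILetI false
set_option linter.unusedSectionVars false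
set_option linter.unusedVariables false
universe u
open CategoryTheory CategoryTheory.Limits AlgebraicGeometry TopologicalSpace Opposite

namespace Groth.Agent.Lib.Helper12.HilbCoeffPn

open Groth.Agent.Lib.Helper4.Dev Groth.Agent.Lib.Helper4.CurveChi
  Groth.Agent.Lib.Helper12.Snap Groth.Agent.Lib.Helper12.Pos Groth.Agent.Lib.Helper12.HP
  Groth.Agent.Lib.Helper12.HilbCoeff

variable (k : Type u) [Field k] (n : ℕ) (X : Scheme.{u}) [X.Over (Spec (CommRingCat.of k))]
  (i : X ⟶ CohB1.ProjSpace n k) [IsClosedImmersion i]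
  (hi : i ≫ CohB1.ProjSpace.toSpec n k = X ↘ Spec (CommRingCat.of k))

include hi in
theorem isProper_of_closedImmersion : IsProper (X ↘ Spec (CommRingCat.of k)) := by
  rw [← hi]
  haveI := Groth.Agent.Lib.Helper27ProjSpaceFibres.isProper_projSpace_toSpec n k
  infer_instance

/-- `O_X(a) = i^* O(a)` -/
noncomputable abbrev OX (a : ℤ) : X.Modules := (Scheme.Modules.pullback i).obj (Twist.twistProjSpace n k a)

theorem isInvertible_OX (a : ℤ) : PicF.IsInvertible (OX k n X i a) :=
  Groth.Agent.Lib.Helper23.PB.isInvertible_pullback i _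
    (Groth.Agent.Lib.Helper27SerreVanPn.isInvertible_twist n k a)

theorem OX_inverse : Nonempty (CohB1.tensorMod (OX k n X i 1) (OX k n X i (-1)) ≅ Coh.structureModule X) := by
  obtain ⟨e1⟩ := Groth.Agent.Lib.Helper23.PB.nonempty_pullback_tensorMod_iso i
    (Twist.twistProjSpace n k 1) (Twist.twistProjSpace n k (-1))
    (Groth.Agent.Lib.Helper27SerreVanPn.isInvertible_twist n k 1)
    (Groth.Agent.Lib.Helper27SerreVanPn.isInvertible_twist n k (-1))
  obtain ⟨e2⟩ := Groth.Agent.Lib.Helper27SerreVanPn.nonempty_twist_tensor_iso n k 1 (-1)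
  have h0 : (1 : ℤ) + (-1) = 0 := by norm_num
  rw [h0] at e2
  obtain ⟨e3⟩ := Groth.Agent.Lib.Helper27AmpleSerre.nonempty_twist_zero_iso n k
  exact ⟨e1.symm ≪≫ (Scheme.Modules.pullback i).mapIso (e2 ≪≫ e3) ≪≫
    Groth.Agent.Lib.Helper23.PB.pullbackUnitIso i⟩

theorem tensorPow_OX_iso (m : ℕ) :
    Nonempty (CohB1.tensorPow (OX k n X i 1) m ≅ OX k n X i (m : ℤ)) := by
  obtain ⟨e2⟩ := Groth.Agent.Lib.Helper23.PB.nonempty_pullback_tensorPow_iso i
    (Twist.twistProjSpace n k 1) (Groth.Agent.Lib.Helper27SerreVanPn.isInvertible_twist n k 1) m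
  obtain ⟨e3⟩ := Groth.Agent.Lib.Helper17.SerreAmple.nonempty_tensorPow_twist_one_iso n k m
  exact ⟨e2.symm ≪≫ (Scheme.Modules.pullback i).mapIso e3⟩

variable [IsProper (X ↘ Spec (CommRingCat.of k))]

theorem chiTw_eq (s : ℕ) (hdim : topologicalKrullDim X ≤ ((s + 1 : ℕ) : WithBot ℕ∞)) (F : X.Modules) (m : ℕ) :
    chiTw k X (OX k n X i 1) F m = FGA.eulerCharLE k X (Pic13.twistOn k i F (m : ℤ)) (s + 1) := by
  rw [eulerCharLE_eq_euler k X (s + 1) hdim]
  obtain ⟨e⟩ := tensor_congr_left F (tensorPow_OX_iso k n X i m)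
  exact euler_congr_iso k e

theorem main (s : ℕ) (hdim : topologicalKrullDim X ≤ ((s + 1 : ℕ) : WithBot ℕ∞))
    (L L' : X.Modules) (hL : PicF.IsInvertible L)
    (hLL' : Nonempty (CohB1.tensorMod L L' ≅ Coh.structureModule X))
    (a e : Fin (s + 2) → ℤ)
    (ha : ∀ m : ℕ, FGA.eulerCharLE k X (Pic13.twistOn k i L m) (s + 1) =
      ∑ j : Fin (s + 2), a j * ((m + j).choose j : ℤ))
    (he : ∀ m : ℕ, FGA.eulerCharLE k X (Pic13.twistOn k i (Coh.structureModule X) m) (s + 1) =
      ∑ j : Fin (s + 2), e j * ((m + j).choose j : ℤ)) :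
    a (Fin.last (s + 1)) = e (Fin.last (s + 1)) ∧
      a (Fin.last (s + 1)) = FGA.intNum k X (s + 1)
        (fun _ : Fin (s + 1) => (Scheme.Modules.pullback i).obj (Twist.twistProjSpace n k (-1)))
        (Coh.structureModule X) ∧
      a (Fin.castSucc (Fin.last s)) - e (Fin.castSucc (Fin.last s)) = FGA.intNum k X (s + 1)
        (Matrix.vecCons L' (fun _ : Fin s => (Scheme.Modules.pullback i).obj (Twist.twistProjSpace n k (-1))))
        (Coh.structureModule X) :=
  hilbCoeff_main k X s hdim (OX k n X i 1) (OX k n X i (-1)) L L' (isInvertible_OX k n X i 1)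
    (OX_inverse k n X i) hL hLL' a e
    (fun m => by rw [chiTw_eq k n X i s hdim L m]; exact ha m)
    (fun m => by rw [chiTw_eq k n X i s hdim _ m]; exact he m)

end Groth.Agent.Lib.Helper12.HilbCoeffPn
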