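import Mathlib

/-!
# Mayer–Vietoris for flat base change (helper13; pure Mathlib)

For a flat ring map `R → R'`, an `R`-module `A`, an `R'`-module `B` and a semilinear map `u : A → B`, write
`kap u hu : R' ⊗[R] A →ₗ[R'] B` for the induced map.

* `kap_tmul`, `kap_nat`: formula on pure tensors and naturality.
* `kap_injective_of_cover`: if `A → A₁ × A₂` is injective and the maps `kap` of `A₁`, `A₂` are injective, then the
  `kap` of `A` is injective.
* `kap_bijective_of_cover`: if `0 → A → A₁ × A₂ → A₁₂` is exact, `B → B₁ × B₂` is injective, the `kap` of `A₁`, `A₂`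
  are bijective and the `kap` of `A₁₂` is injective, then the `kap` of `A` is bijective.
* `bijective_of_kap_bijective`: a semilinear `β : Q → Q'` with `β ∘ φ = φ'` is bijective as soon as `kap φ` and
  `kap φ'` are.
-/

set_option autoImplicit false
set_option linter.style.haveILetI false

namespace Groth.Agent.Helper13FlatMV

universe u

open TensorProduct

section defs
variable {R R' : Type u} [CommRing R] [CommRing R'] [Algebra R R']
variable {A B : Type u} [AddCommGroup A] [Module R A] [AddCommGroup B] [Module R' B]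

/-- the `R'`-linear map `R' ⊗[R] A → B` induced by a semilinear map `u : A → B` -/
noncomputable def kap (u : A →+ B) (hu : ∀ (r : R) (a : A), u (r • a) = algebraMap R R' r • u a) :
    R' ⊗[R] A →ₗ[R'] B :=
  letI : Module R B := Module.compHom B (algebraMap R R')
  haveI : IsScalarTower R R' B := ⟨fun r c m => by
    change (r • c) • m = algebraMap R R' r • (c • m)
    rw [Algebra.smul_def, mul_smul]⟩
  LinearMap.liftBaseChange R'
    ({ toFun := u, map_add' := u.map_add, map_smul' := fun r a => hu r a } : A →ₗ[R] B)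

theorem kap_tmul (u : A →+ B) (hu : ∀ (r : R) (a : A), u (r • a) = algebraMap R R' r • u a)
    (r' : R') (a : A) : kap u hu (r' ⊗ₜ[R] a) = r' • u a := rfl

end defs

section nat
variable {R R' : Type u} [CommRing R] [CommRing R'] [Algebra R R']
variable {A B : Type u} [AddCommGroup A] [Module R A] [AddCommGroup B] [Module R' B]
variable {A₁ B₁ : Type u} [AddCommGroup A₁] [Module R A₁] [AddCommGroup B₁] [Module R' B₁]

theorem kap_nat (u : A →+ B) (hu : ∀ (r : R) (a : A), u (r • a) = algebraMap R R' r • u a)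
    (u₁ : A₁ →+ B₁) (hu₁ : ∀ (r : R) (a : A₁), u₁ (r • a) = algebraMap R R' r • u₁ a)
    (φ : A →ₗ[R] A₁) (ψ : B →ₗ[R'] B₁) (h : ∀ a, ψ (u a) = u₁ (φ a)) (x : R' ⊗[R] A) :
    ψ (kap u hu x) = kap u₁ hu₁ (φ.lTensor R' x) := by
  induction x using TensorProduct.induction_on with
  | zero => simp
  | tmul r' a =>
    rw [kap_tmul, LinearMap.lTensor_tmul, kap_tmul, map_smul, h]
  | add x y hx hy => rw [map_add, map_add, hx, hy, map_add, map_add]

end nat

section mv
variable {R R' : Type u} [CommRing R] [CommRing R'] [Algebra R R'] [Module.Flat R R']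
variable {A A₁ A₂ A₁₂ : Type u} [AddCommGroup A] [Module R A] [AddCommGroup A₁] [Module R A₁]
  [AddCommGroup A₂] [Module R A₂] [AddCommGroup A₁₂] [Module R A₁₂]
variable {B B₁ B₂ B₁₂ : Type u} [AddCommGroup B] [Module R' B] [AddCommGroup B₁] [Module R' B₁]
  [AddCommGroup B₂] [Module R' B₂] [AddCommGroup B₁₂] [Module R' B₁₂]

omit [Module.Flat R R'] in
theorem lTensor_prod_eq_zero (r₁ : A →ₗ[R] A₁) (r₂ : A →ₗ[R] A₂) (y : R' ⊗[R] A)
    (h₁ : r₁.lTensor R' y = 0) (h₂ : r₂.lTensor R' y = 0) : (r₁.prod r₂).lTensor R' y = 0 := by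
  have e : r₁.prod r₂ = (LinearMap.inl R A₁ A₂).comp r₁ + (LinearMap.inr R A₁ A₂).comp r₂ := by
    ext a <;> simp
  rw [e, LinearMap.lTensor_add, LinearMap.add_apply, LinearMap.lTensor_comp, LinearMap.lTensor_comp,
    LinearMap.comp_apply, LinearMap.comp_apply, h₁, h₂, map_zero, map_zero, add_zero]

theorem kap_injective_of_cover
    (r₁ : A →ₗ[R] A₁) (r₂ : A →ₗ[R] A₂) (hr : ∀ a, r₁ a = 0 → r₂ a = 0 → a = 0)
    (r₁' : B →ₗ[R'] B₁) (r₂' : B →ₗ[R'] B₂)
    (u : A →+ B) (hu : ∀ (r : R) (a : A), u (r • a) = algebraMap R R' r • u a)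
    (u₁ : A₁ →+ B₁) (hu₁ : ∀ (r : R) (a : A₁), u₁ (r • a) = algebraMap R R' r • u₁ a)
    (u₂ : A₂ →+ B₂) (hu₂ : ∀ (r : R) (a : A₂), u₂ (r • a) = algebraMap R R' r • u₂ a)
    (h₁ : ∀ a, r₁' (u a) = u₁ (r₁ a)) (h₂ : ∀ a, r₂' (u a) = u₂ (r₂ a))
    (hk₁ : Function.Injective (kap u₁ hu₁)) (hk₂ : Function.Injective (kap u₂ hu₂)) :
    Function.Injective (kap u hu) := by
  rw [injective_iff_map_eq_zero]
  intro y hy
  have e₁ : r₁.lTensor R' y = 0 := by
    apply hk₁
    rw [← kap_nat u hu u₁ hu₁ r₁ r₁' h₁, hy, map_zero, map_zero]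
  have e₂ : r₂.lTensor R' y = 0 := by
    apply hk₂
    rw [← kap_nat u hu u₂ hu₂ r₂ r₂' h₂, hy, map_zero, map_zero]
  have hinj : Function.Injective (r₁.prod r₂) := by
    rw [injective_iff_map_eq_zero]
    intro a ha
    have := Prod.ext_iff.1 ha
    exact hr a this.1 this.2
  have hinj' : Function.Injective ((r₁.prod r₂).lTensor R') :=
    Module.Flat.lTensor_preserves_injective_linearMap _ hinj
  apply hinj'
  rw [lTensor_prod_eq_zero r₁ r₂ y e₁ e₂, map_zero]

theorem kap_bijective_of_cover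
    (r₁ : A →ₗ[R] A₁) (r₂ : A →ₗ[R] A₂) (s₁ : A₁ →ₗ[R] A₁₂) (s₂ : A₂ →ₗ[R] A₁₂)
    (hr : ∀ a, r₁ a = 0 → r₂ a = 0 → a = 0)
    (hs : ∀ a, s₁ (r₁ a) = s₂ (r₂ a))
    (hglue : ∀ a₁ a₂, s₁ a₁ = s₂ a₂ → ∃ a, r₁ a = a₁ ∧ r₂ a = a₂)
    (r₁' : B →ₗ[R'] B₁) (r₂' : B →ₗ[R'] B₂) (s₁' : B₁ →ₗ[R'] B₁₂) (s₂' : B₂ →ₗ[R'] B₁₂)
    (hr' : ∀ b, r₁' b = 0 → r₂' b = 0 → b = 0)
    (hs' : ∀ b, s₁' (r₁' b) = s₂' (r₂' b))
    (u : A →+ B) (hu : ∀ (r : R) (a : A), u (r • a) = algebraMap R R' r • u a)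
    (u₁ : A₁ →+ B₁) (hu₁ : ∀ (r : R) (a : A₁), u₁ (r • a) = algebraMap R R' r • u₁ a)
    (u₂ : A₂ →+ B₂) (hu₂ : ∀ (r : R) (a : A₂), u₂ (r • a) = algebraMap R R' r • u₂ a)
    (u₁₂ : A₁₂ →+ B₁₂) (hu₁₂ : ∀ (r : R) (a : A₁₂), u₁₂ (r • a) = algebraMap R R' r • u₁₂ a)
    (h₁ : ∀ a, r₁' (u a) = u₁ (r₁ a)) (h₂ : ∀ a, r₂' (u a) = u₂ (r₂ a))
    (k₁ : ∀ a, s₁' (u₁ a) = u₁₂ (s₁ a)) (k₂ : ∀ a, s₂' (u₂ a) = u₁₂ (s₂ a))
    (hk₁ : Function.Bijective (kap u₁ hu₁)) (hk₂ : Function.Bijective (kap u₂ hu₂))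
    (hk₁₂ : Function.Injective (kap u₁₂ hu₁₂)) :
    Function.Bijective (kap u hu) := by
  refine ⟨kap_injective_of_cover r₁ r₂ hr r₁' r₂' u hu u₁ hu₁ u₂ hu₂ h₁ h₂ hk₁.1 hk₂.1, ?_⟩
  intro t
  obtain ⟨x₁, hx₁⟩ := hk₁.2 (r₁' t)
  obtain ⟨x₂, hx₂⟩ := hk₂.2 (r₂' t)
  -- the difference map
  let d : (A₁ × A₂) →ₗ[R] A₁₂ := s₁.coprod (-s₂)
  let i : A →ₗ[R] (A₁ × A₂) := r₁.prod r₂
  have hex : Function.Exact i d := by
    intro p
    constructor
    · intro hp
      have hp' : s₁ p.1 = s₂ p.2 := by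
        have : s₁ p.1 + -(s₂ p.2) = 0 := by simpa [d] using hp
        exact add_neg_eq_zero.1 this
      obtain ⟨a, ha₁, ha₂⟩ := hglue p.1 p.2 hp'
      exact ⟨a, Prod.ext ha₁ ha₂⟩
    · rintro ⟨a, rfl⟩
      simp [d, i, hs a]
  have hex' : Function.Exact (i.lTensor R') (d.lTensor R') := Module.Flat.lTensor_exact R' hex
  let x : R' ⊗[R] (A₁ × A₂) :=
    (LinearMap.inl R A₁ A₂).lTensor R' x₁ + (LinearMap.inr R A₁ A₂).lTensor R' x₂
  have dl : d.comp (LinearMap.inl R A₁ A₂) = s₁ := by ext a; simp [d]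
  have dr : d.comp (LinearMap.inr R A₁ A₂) = -s₂ := by ext a; simp [d]
  have hdx : d.lTensor R' x = s₁.lTensor R' x₁ - s₂.lTensor R' x₂ := by
    show d.lTensor R' ((LinearMap.inl R A₁ A₂).lTensor R' x₁ + (LinearMap.inr R A₁ A₂).lTensor R' x₂) = _
    rw [map_add, ← LinearMap.comp_apply, ← LinearMap.comp_apply, ← LinearMap.lTensor_comp,
      ← LinearMap.lTensor_comp, dl, dr, LinearMap.lTensor_neg, LinearMap.neg_apply, sub_eq_add_neg]
  have hdx0 : d.lTensor R' x = 0 := by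
    apply hk₁₂
    rw [hdx, map_sub, map_zero, ← kap_nat u₁ hu₁ u₁₂ hu₁₂ s₁ s₁' k₁, ← kap_nat u₂ hu₂ u₁₂ hu₁₂ s₂ s₂' k₂,
      hx₁, hx₂, hs' t, sub_self]
  obtain ⟨y, hy⟩ := (hex' x).1 hdx0
  refine ⟨y, ?_⟩
  have f1 : (LinearMap.fst R A₁ A₂).comp i = r₁ := by ext a; simp [i]
  have f2 : (LinearMap.snd R A₁ A₂).comp i = r₂ := by ext a; simp [i]
  have g1 : r₁.lTensor R' y = x₁ := by
    rw [← f1, LinearMap.lTensor_comp, LinearMap.comp_apply, hy]
    show (LinearMap.fst R A₁ A₂).lTensor R'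
      ((LinearMap.inl R A₁ A₂).lTensor R' x₁ + (LinearMap.inr R A₁ A₂).lTensor R' x₂) = _
    rw [map_add, ← LinearMap.comp_apply, ← LinearMap.comp_apply, ← LinearMap.lTensor_comp,
      ← LinearMap.lTensor_comp, LinearMap.fst_comp_inl, LinearMap.fst_comp_inr, LinearMap.lTensor_id,
      LinearMap.lTensor_zero, LinearMap.id_apply, LinearMap.zero_apply, add_zero]
  have g2 : r₂.lTensor R' y = x₂ := by
    rw [← f2, LinearMap.lTensor_comp, LinearMap.comp_apply, hy]
    show (LinearMap.snd R A₁ A₂).lTensor R'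
      ((LinearMap.inl R A₁ A₂).lTensor R' x₁ + (LinearMap.inr R A₁ A₂).lTensor R' x₂) = _
    rw [map_add, ← LinearMap.comp_apply, ← LinearMap.comp_apply, ← LinearMap.lTensor_comp,
      ← LinearMap.lTensor_comp, LinearMap.snd_comp_inl, LinearMap.snd_comp_inr, LinearMap.lTensor_id,
      LinearMap.lTensor_zero, LinearMap.id_apply, LinearMap.zero_apply, zero_add]
  have e : kap u hu y - t = 0 := by
    apply hr'
    · rw [map_sub, kap_nat u hu u₁ hu₁ r₁ r₁' h₁, g1, hx₁, sub_self]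
    · rw [map_sub, kap_nat u hu u₂ hu₂ r₂ r₂' h₂, g2, hx₂, sub_self]
  exact sub_eq_zero.1 e

end mv

section final
variable {R R' : Type u} [CommRing R] [CommRing R'] [Algebra R R']
variable {M Q Q' : Type u} [AddCommGroup M] [Module R M] [AddCommGroup Q] [Module R' Q]
  [AddCommGroup Q'] [Module R' Q']

theorem bijective_of_kap_bijective
    (φ : M →+ Q) (hφ : ∀ (r : R) (m : M), φ (r • m) = algebraMap R R' r • φ m)
    (φ' : M →+ Q') (hφ' : ∀ (r : R) (m : M), φ' (r • m) = algebraMap R R' r • φ' m)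
    (β : Q →+ Q') (hβ : ∀ (r' : R') (q : Q), β (r' • q) = r' • β q) (hβφ : ∀ m, β (φ m) = φ' m)
    (h : Function.Bijective (kap φ hφ)) (h' : Function.Bijective (kap φ' hφ')) :
    Function.Bijective β := by
  let βl : Q →ₗ[R'] Q' := { toFun := β, map_add' := β.map_add, map_smul' := fun r q => hβ r q }
  have e : ∀ x, βl (kap φ hφ x) = kap φ' hφ' x := by
    intro x
    have := kap_nat φ hφ φ' hφ' LinearMap.id βl hβφ x
    rw [this, LinearMap.lTensor_id, LinearMap.id_apply]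
  have hcomp : (β : Q → Q') ∘ (kap φ hφ) = kap φ' hφ' := funext e
  have : Function.Bijective ((β : Q → Q') ∘ (kap φ hφ)) := hcomp ▸ h'
  exact (Function.Bijective.of_comp_iff _ h).1 this

/-- universal property ⇒ `kap` bijective -/
theorem kap_bijective_of_existsUnique
    (φ : M →+ Q) (hφ : ∀ (r : R) (m : M), φ (r • m) = algebraMap R R' r • φ m)
    (huniv : ∀ (N : Type u) [AddCommGroup N] [Module R' N] (l : M →+ N),
      (∀ (r : R) (m : M), l (r • m) = algebraMap R R' r • l m) →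
        ∃! l' : Q →ₗ[R'] N, ∀ m, l' (φ m) = l m) :
    Function.Bijective (kap φ hφ) := by
  -- inverse via the universal property applied to `N = R' ⊗[R] M`
  obtain ⟨l', hl', -⟩ := huniv (R' ⊗[R] M)
    ({ toFun := fun m => (1 : R') ⊗ₜ[R] m, map_zero' := by simp, map_add' := fun a b => by simp [tmul_add] })
    (fun r m => by
      show (1 : R') ⊗ₜ[R] (r • m) = algebraMap R R' r • ((1 : R') ⊗ₜ[R] m)
      rw [TensorProduct.smul_tmul', smul_eq_mul, mul_one, ← TensorProduct.smul_tmul, Algebra.smul_def, mul_one])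
  have hl'' : ∀ m, l' (φ m) = (1 : R') ⊗ₜ[R] m := hl'
  have left : ∀ x, l' (kap φ hφ x) = x := by
    intro x
    induction x using TensorProduct.induction_on with
    | zero => simp
    | tmul r' a =>
      rw [kap_tmul, map_smul, hl'', TensorProduct.smul_tmul', smul_eq_mul, mul_one]
    | add x y hx hy => rw [map_add, map_add, hx, hy]
  have right : ∀ q, kap φ hφ (l' q) = q := by
    obtain ⟨l₀, -, huniq⟩ := huniv Q φ hφ
    have e1 : (kap φ hφ).comp l' = l₀ := huniq _ (fun m => by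
      rw [LinearMap.comp_apply, hl'', kap_tmul, one_smul])
    have e2 : LinearMap.id = l₀ := huniq _ (fun m => rfl)
    intro q
    have := LinearMap.congr_fun (e1.trans e2.symm) q
    exact this
  exact ⟨Function.LeftInverse.injective left, Function.RightInverse.surjective right⟩

theorem one_tmul_smul (r : R) (m : M) :
    (1 : R') ⊗ₜ[R] (r • m) = algebraMap R R' r • ((1 : R') ⊗ₜ[R] m) := by
  rw [TensorProduct.smul_tmul', smul_eq_mul, mul_one, ← TensorProduct.smul_tmul, Algebra.smul_def, mul_one]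

/-- the additive map `m ↦ 1 ⊗ m` -/
noncomputable def oneTmul : M →+ R' ⊗[R] M where
  toFun m := (1 : R') ⊗ₜ[R] m
  map_zero' := by simp
  map_add' a b := by simp [tmul_add]

theorem oneTmul_apply (m : M) : oneTmul (R := R) (R' := R') m = (1 : R') ⊗ₜ[R] m := rfl

theorem oneTmul_smul (r : R) (m : M) :
    oneTmul (R := R) (R' := R') (r • m) = algebraMap R R' r • oneTmul (R := R) (R' := R') m :=
  one_tmul_smul r m

/-- universal property of `m ↦ 1 ⊗ m` -/
theorem existsUnique_of_oneTmul (N : Type u) [AddCommGroup N] [Module R' N] (l : M →+ N)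
    (hl : ∀ (r : R) (m : M), l (r • m) = algebraMap R R' r • l m) :
    ∃! l' : R' ⊗[R] M →ₗ[R'] N, ∀ m, l' (oneTmul (R := R) (R' := R') m) = l m := by
  refine ⟨kap l hl, fun m => ?_, fun l'' hl'' => ?_⟩
  · rw [oneTmul_apply, kap_tmul, one_smul]
  · refine LinearMap.ext fun x => ?_
    induction x using TensorProduct.induction_on with
    | zero => simp
    | tmul r' a =>
      have e : r' ⊗ₜ[R] a = r' • ((1 : R') ⊗ₜ[R] a) := by
        rw [TensorProduct.smul_tmul', smul_eq_mul, mul_one]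
      rw [kap_tmul, e, map_smul, ← oneTmul_apply, hl'']
    | add x y hx hy => rw [map_add, map_add, hx, hy]

end final

end Groth.Agent.Helper13FlatMV
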