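import Mathlib
import Groth.Agent.Lib.Helper13AffBC
import Groth.Agent.Lib.Helper13FlatMV
import Groth.Agent.Lib.Helper6QCohQcqs

/-!
# Flat base change for quasi-coherent modules along a qcqs morphism (helper13)

For a pullback square `g' : X' ⟶ X`, `f' : X' ⟶ S'`, `f : X ⟶ S`, `g : S' ⟶ S` with `f` quasi-compact and
quasi-separated, `g` flat and `F` quasi-coherent on `X`:
* `isIso_bcMap_of_flat`: the base change map `bcMap : g^* f_* F ⟶ f'_* g'^* F` (of `Helper13AffBC`) is an isomorphism;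
* `bcMap_eq`: `bcMap` agrees with the "unit, then counit" form of the base change morphism;
* `bcMap_app_bijective_of_flat`: bijectivity on sections over affine opens;
* `KInj`, `KBij`, `KInj_sup`, `KBij_sup`, `KBij_of_isAffineOpen`, `KInj_of_isCompact`, `KBij_of_qcqs`: the
  Mayer–Vietoris induction on quasi-compact opens `W ⊆ f⁻¹U` for the maps
  `Γ(S',U') ⊗_{Γ(S,U)} Γ(F, W) → Γ(g'^*F, g'⁻¹W ∩ f'⁻¹U')`;
* `SecR`, `resL`, `unitSec_res`, `uW`: sections as modules over the base ring, restrictions, unit maps.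
-/

set_option autoImplicit false
set_option linter.style.haveILetI false
universe u
open CategoryTheory CategoryTheory.Limits AlgebraicGeometry Opposite TopologicalSpace

namespace Groth.Agent.Helper13QcqsBC

open Scheme.Modules Groth.Agent.Helper13PullbackUnit Groth.Agent.Helper13AffBC
  Groth.Agent.Helper13FlatMV Groth.Agent.Lib.Helper6

section SecR
variable {X S : Scheme.{u}} (f : X ⟶ S) (F : X.Modules) (U : S.Opens)

/-- `Γ(F, W)` viewed as a module over `Γ(S, U)`, for `W ≤ f⁻¹U` -/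
def SecR (W : X.Opens) (_hW : W ≤ f ⁻¹ᵁ U) : Type u := Γ(F, W)

noncomputable instance (W : X.Opens) (hW : W ≤ f ⁻¹ᵁ U) : AddCommGroup (SecR f F U W hW) :=
  inferInstanceAs (AddCommGroup Γ(F, W))

noncomputable instance (W : X.Opens) (hW : W ≤ f ⁻¹ᵁ U) : Module Γ(S, U) (SecR f F U W hW) :=
  Module.compHom Γ(F, W) (f.appLE U W hW).hom

theorem SecR.smul_def {W : X.Opens} (hW : W ≤ f ⁻¹ᵁ U) (r : Γ(S, U)) (a : SecR f F U W hW) :
    r • a = ((f.appLE U W hW r : Γ(X, W)) • (show Γ(F, W) from a) : Γ(F, W)) := rfl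

/-- restriction as a linear map over `Γ(S, U)` -/
noncomputable def resL {W W₁ : X.Opens} (hW : W ≤ f ⁻¹ᵁ U) (hW₁ : W₁ ≤ f ⁻¹ᵁ U) (hle : W₁ ≤ W) :
    SecR f F U W hW →ₗ[Γ(S, U)] SecR f F U W₁ hW₁ where
  toFun a := res F hle a
  map_add' a b := map_add _ a b
  map_smul' r a := by
    show res F hle ((f.appLE U W hW r : Γ(X, W)) • (show Γ(F, W) from a)) =
      ((f.appLE U W₁ hW₁ r : Γ(X, W₁)) • res F hle a : Γ(F, W₁))
    rw [res_smul]
    congr 1
    show (f.appLE U W hW ≫ X.presheaf.map (homOfLE hle).op) r = _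
    rw [Scheme.Hom.appLE_map]

theorem resL_apply {W W₁ : X.Opens} (hW : W ≤ f ⁻¹ᵁ U) (hW₁ : W₁ ≤ f ⁻¹ᵁ U) (hle : W₁ ≤ W)
    (a : SecR f F U W hW) : resL f F U hW hW₁ hle a = res F hle a := rfl

theorem res_self {W : X.Opens} (a : Γ(F, W)) : res F (le_refl W) a = a := by
  have e : (homOfLE (le_refl W)) = 𝟙 W := Subsingleton.elim _ _
  show F.presheaf.map (homOfLE (le_refl W)).op a = a
  rw [e, op_id, F.presheaf.map_id]
  rfl

theorem appLE_smul_eq (r : Γ(S, U)) (m : Γ(F, f ⁻¹ᵁ U)) :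
    ((f.appLE U (f ⁻¹ᵁ U) le_rfl r : Γ(X, f ⁻¹ᵁ U)) • m : Γ(F, f ⁻¹ᵁ U)) =
      ((f.app U r : Γ(X, f ⁻¹ᵁ U)) • m : Γ(F, f ⁻¹ᵁ U)) := by
  rw [Scheme.Hom.appLE_eq_app]

end SecR

section unit
variable {X X' : Scheme.{u}} (g' : X' ⟶ X) (F : X.Modules)

/-- compatibility of `unitSec` with restrictions -/
theorem unitSec_res {W W₁ : X.Opens} {V' V₁' : X'.Opens} (hV' : V' ≤ g' ⁻¹ᵁ W)
    (hV₁' : V₁' ≤ g' ⁻¹ᵁ W₁) (hW : W₁ ≤ W) (hV : V₁' ≤ V') (a : Γ(F, W)) :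
    res ((Scheme.Modules.pullback g').obj F) hV (unitSec g' F hV' a) =
      unitSec g' F hV₁' (res F hW a) := by
  rw [unitSec_apply, unitSec_apply]
  have n : ((pullbackPushforwardAdjunction g').unit.app F).app W₁ (F.presheaf.map (homOfLE hW).op a) =
      ((Scheme.Modules.pullback g').obj F).presheaf.map (homOfLE (g'.preimage_mono hW)).op
        (((pullbackPushforwardAdjunction g').unit.app F).app W a) :=
    CategoryTheory.congr_fun
      (((pullbackPushforwardAdjunction g').unit.app F).mapPresheaf.naturality (homOfLE hW).op) a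
  show res _ hV (res _ hV' _) = res _ hV₁' (((pullbackPushforwardAdjunction g').unit.app F).app W₁
    (F.presheaf.map (homOfLE hW).op a))
  rw [n]
  show _ = res _ hV₁' (res _ (g'.preimage_mono hW) _)
  rw [res_res, res_res]

end unit

section square
variable {X S X' S' : Scheme.{u}} (f : X ⟶ S) (g : S' ⟶ S) (g' : X' ⟶ X) (f' : X' ⟶ S')
  (h : IsPullback g' f' f g) (F : X.Modules)
  {U : S.Opens} {U' : S'.Opens} (hle : U' ≤ g ⁻¹ᵁ U)

/-- the semilinear map `Γ(F, W) → Γ(g'^*F, V')` -/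
noncomputable def uW {W : X.Opens} (hW : W ≤ f ⁻¹ᵁ U) {V' : X'.Opens} (hV'W : V' ≤ g' ⁻¹ᵁ W)
    (hV'U : V' ≤ f' ⁻¹ᵁ U') :
    SecR f F U W hW →+ SecR f' ((Scheme.Modules.pullback g').obj F) U' V' hV'U :=
  unitSec g' F hV'W

include h in
theorem uW_smul {W : X.Opens} (hW : W ≤ f ⁻¹ᵁ U) {V' : X'.Opens} (hV'W : V' ≤ g' ⁻¹ᵁ W)
    (hV'U : V' ≤ f' ⁻¹ᵁ U') (r : Γ(S, U)) (a : SecR f F U W hW) :
    uW f g' f' F hW hV'W hV'U (r • a) =
      ((g.appLE U U' hle).hom r : Γ(S', U')) • uW f g' f' F hW hV'W hV'U a := by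
  show unitSec g' F hV'W ((f.appLE U W hW r : Γ(X, W)) • (show Γ(F, W) from a)) =
    ((f'.appLE U' V' hV'U ((g.appLE U U' hle).hom r) : Γ(X', V')) • unitSec g' F hV'W a :
      Γ((Scheme.Modules.pullback g').obj F, V'))
  rw [unitSec_smul]
  congr 1
  have e : f.appLE U W hW ≫ g'.appLE W V' hV'W = g.appLE U U' hle ≫ f'.appLE U' V' hV'U := by
    simp only [Scheme.Hom.appLE_comp_appLE, h.w]
  exact congrArg (fun t : Γ(S, U) ⟶ Γ(X', V') => t.hom r) e

/-- the open `g'⁻¹W ∩ f'⁻¹U'` -/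
abbrev Vp (U' : S'.Opens) (W : X.Opens) : X'.Opens := g' ⁻¹ᵁ W ⊓ f' ⁻¹ᵁ U'

/-- injectivity of `Γ(S',U') ⊗ Γ(F, W) → Γ(g'^*F, g'⁻¹W ∩ f'⁻¹U')` -/
def KInj (W : X.Opens) (hW : W ≤ f ⁻¹ᵁ U) : Prop :=
  letI : Algebra Γ(S, U) Γ(S', U') := (g.appLE U U' hle).hom.toAlgebra
  Function.Injective (kap (R := Γ(S, U)) (R' := Γ(S', U'))
    (uW f g' f' F hW (inf_le_left : Vp g' f' U' W ≤ g' ⁻¹ᵁ W) inf_le_right)
    (uW_smul f g g' f' h F hle hW inf_le_left inf_le_right))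

/-- bijectivity of `Γ(S',U') ⊗ Γ(F, W) → Γ(g'^*F, g'⁻¹W ∩ f'⁻¹U')` -/
def KBij (W : X.Opens) (hW : W ≤ f ⁻¹ᵁ U) : Prop :=
  letI : Algebra Γ(S, U) Γ(S', U') := (g.appLE U U' hle).hom.toAlgebra
  Function.Bijective (kap (R := Γ(S, U)) (R' := Γ(S', U'))
    (uW f g' f' F hW (inf_le_left : Vp g' f' U' W ≤ g' ⁻¹ᵁ W) inf_le_right)
    (uW_smul f g g' f' h F hle hW inf_le_left inf_le_right))

include h hle in
theorem isAffineOpen_Vp (hU : IsAffineOpen U) (hU' : IsAffineOpen U') {W : X.Opens}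
    (hW : W ≤ f ⁻¹ᵁ U) (hWa : IsAffineOpen W) : IsAffineOpen (Vp g' f' U' W) := by
  haveI : IsAffine (U : Scheme) := hU
  haveI : IsAffine (U' : Scheme) := hU'
  haveI : IsAffine (W : Scheme) := hWa
  exact .of_isIso (Scheme.Hom.isPullback_resLE h hle hW rfl).isoPullback.hom

theorem KBij_of_isAffineOpen [F.IsQuasicoherent] (hU : IsAffineOpen U) (hU' : IsAffineOpen U')
    {W : X.Opens} (hW : W ≤ f ⁻¹ᵁ U) (hWa : IsAffineOpen W) : KBij f g g' f' h F hle W hW := by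
  have hV'a : IsAffineOpen (Vp g' f' U' W) := isAffineOpen_Vp f g g' f' h hle hU hU' hW hWa
  have hpo := ((isIso_pushoutSection_iff h hle hW (rfl : Vp g' f' U' W = _)).1
    (isIso_pushoutSection_of_isAffineOpen h hle hW rfl hU hU' hWa)).flip
  letI : Algebra Γ(S, U) Γ(S', U') := (g.appLE U U' hle).hom.toAlgebra
  show Function.Bijective (kap (R := Γ(S, U)) (R' := Γ(S', U'))
    (uW f g' f' F hW (inf_le_left : Vp g' f' U' W ≤ g' ⁻¹ᵁ W) inf_le_right)
    (uW_smul f g g' f' h F hle hW inf_le_left inf_le_right))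
  refine Groth.Agent.Helper13BCAlg.bijective_of_lifts (g.appLE U U' hle).hom
    (f.appLE U W hW).hom (g'.appLE W (Vp g' f' U' W) inf_le_left).hom
    (f'.appLE U' (Vp g' f' U' W) inf_le_right).hom hpo
    (M := Γ(F, W)) (Q := TensorProduct Γ(S, U) Γ(S', U') (SecR f F U W hW))
    (Q' := Γ((Scheme.Modules.pullback g').obj F, Vp g' f' U' W))
    (oneTmul (R := Γ(S, U)) (R' := Γ(S', U')) (M := SecR f F U W hW)) ?_ ?_
    (unitSec g' F inf_le_left) (unitSec_smul g' F inf_le_left) ?_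
    (kap (R := Γ(S, U)) (R' := Γ(S', U'))
      (uW f g' f' F hW (inf_le_left : Vp g' f' U' W ≤ g' ⁻¹ᵁ W) inf_le_right)
      (uW_smul f g g' f' h F hle hW inf_le_left inf_le_right)).toAddMonoidHom ?_ ?_
  · intro r m
    exact oneTmul_smul (R := Γ(S, U)) (R' := Γ(S', U')) (M := SecR f F U W hW) r m
  · intro N _ _ l hl
    exact existsUnique_of_oneTmul (R := Γ(S, U)) (R' := Γ(S', U')) (M := SecR f F U W hW) N l hl
  · intro N _ _ l hl
    exact existsUnique_lift g' F hWa hV'a inf_le_left N l hl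
  · intro r' q
    exact (kap (R := Γ(S, U)) (R' := Γ(S', U'))
      (uW f g' f' F hW (inf_le_left : Vp g' f' U' W ≤ g' ⁻¹ᵁ W) inf_le_right)
      (uW_smul f g g' f' h F hle hW inf_le_left inf_le_right)).map_smul r' q
  · intro m
    show kap (R := Γ(S, U)) (R' := Γ(S', U'))
      (uW f g' f' F hW (inf_le_left : Vp g' f' U' W ≤ g' ⁻¹ᵁ W) inf_le_right)
      (uW_smul f g g' f' h F hle hW inf_le_left inf_le_right)
      ((1 : Γ(S', U')) ⊗ₜ[Γ(S, U)] (show SecR f F U W hW from m)) = _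
    rw [kap_tmul, one_smul]
    rfl

theorem Vp_mono {W₁ W : X.Opens} (hW : W₁ ≤ W) : Vp g' f' U' W₁ ≤ Vp g' f' U' W :=
  inf_le_inf_right _ (g'.preimage_mono hW)

theorem Vp_sup_le (W₁ W₂ : X.Opens) :
    Vp g' f' U' (W₁ ⊔ W₂) ≤ Vp g' f' U' W₁ ⊔ Vp g' f' U' W₂ := by
  rintro x ⟨hx | hx, hx'⟩
  · exact Or.inl ⟨hx, hx'⟩
  · exact Or.inr ⟨hx, hx'⟩

theorem Vp_inf_le (W₁ W₂ : X.Opens) :
    Vp g' f' U' W₁ ⊓ Vp g' f' U' W₂ ≤ Vp g' f' U' (W₁ ⊓ W₂) := by
  rintro x ⟨⟨hx₁, hx'⟩, ⟨hx₂, -⟩⟩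
  exact ⟨⟨hx₁, hx₂⟩, hx'⟩

theorem KInj_sup (hflat : (g.appLE U U' hle).hom.Flat) {W₁ W₂ : X.Opens}
    (hW₁ : W₁ ≤ f ⁻¹ᵁ U) (hW₂ : W₂ ≤ f ⁻¹ᵁ U)
    (H₁ : KInj f g g' f' h F hle W₁ hW₁) (H₂ : KInj f g g' f' h F hle W₂ hW₂) :
    KInj f g g' f' h F hle (W₁ ⊔ W₂) (sup_le hW₁ hW₂) := by
  letI : Algebra Γ(S, U) Γ(S', U') := (g.appLE U U' hle).hom.toAlgebra
  haveI : Module.Flat Γ(S, U) Γ(S', U') := hflat
  have hW : W₁ ⊔ W₂ ≤ f ⁻¹ᵁ U := sup_le hW₁ hW₂
  refine kap_injective_of_cover (R := Γ(S, U)) (R' := Γ(S', U'))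
    (resL f F U hW hW₁ le_sup_left) (resL f F U hW hW₂ le_sup_right) ?_
    (resL f' ((Scheme.Modules.pullback g').obj F) U' inf_le_right inf_le_right
      (Vp_mono g' f' (le_sup_left : W₁ ≤ W₁ ⊔ W₂)))
    (resL f' ((Scheme.Modules.pullback g').obj F) U' inf_le_right inf_le_right
      (Vp_mono g' f' (le_sup_right : W₂ ≤ W₁ ⊔ W₂)))
    _ _ _ _ _ _ ?_ ?_ H₁ H₂
  · intro a h₁ h₂
    refine eq_of_res_eq₂ F (le_sup_left : W₁ ≤ W₁ ⊔ W₂) le_sup_right le_rfl a 0 ?_ ?_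
    · rw [res_zero]; exact h₁
    · rw [res_zero]; exact h₂
  · intro a
    exact unitSec_res g' F _ _ _ _ a
  · intro a
    exact unitSec_res g' F _ _ _ _ a

theorem KBij_sup (hflat : (g.appLE U U' hle).hom.Flat) {W₁ W₂ : X.Opens}
    (hW₁ : W₁ ≤ f ⁻¹ᵁ U) (hW₂ : W₂ ≤ f ⁻¹ᵁ U)
    (H₁ : KBij f g g' f' h F hle W₁ hW₁) (H₂ : KBij f g g' f' h F hle W₂ hW₂)
    (H₁₂ : KInj f g g' f' h F hle (W₁ ⊓ W₂) (inf_le_left.trans hW₁)) :
    KBij f g g' f' h F hle (W₁ ⊔ W₂) (sup_le hW₁ hW₂) := by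
  letI : Algebra Γ(S, U) Γ(S', U') := (g.appLE U U' hle).hom.toAlgebra
  haveI : Module.Flat Γ(S, U) Γ(S', U') := hflat
  have hW : W₁ ⊔ W₂ ≤ f ⁻¹ᵁ U := sup_le hW₁ hW₂
  have hW₁₂ : W₁ ⊓ W₂ ≤ f ⁻¹ᵁ U := inf_le_left.trans hW₁
  refine kap_bijective_of_cover (R := Γ(S, U)) (R' := Γ(S', U'))
    (resL f F U hW hW₁ le_sup_left) (resL f F U hW hW₂ le_sup_right)
    (resL f F U hW₁ hW₁₂ inf_le_left) (resL f F U hW₂ hW₁₂ inf_le_right) ?_ ?_ ?_
    (resL f' ((Scheme.Modules.pullback g').obj F) U' inf_le_right inf_le_right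
      (Vp_mono g' f' (le_sup_left : W₁ ≤ W₁ ⊔ W₂)))
    (resL f' ((Scheme.Modules.pullback g').obj F) U' inf_le_right inf_le_right
      (Vp_mono g' f' (le_sup_right : W₂ ≤ W₁ ⊔ W₂)))
    (resL f' ((Scheme.Modules.pullback g').obj F) U' inf_le_right inf_le_right
      (Vp_mono g' f' (inf_le_left : W₁ ⊓ W₂ ≤ W₁)))
    (resL f' ((Scheme.Modules.pullback g').obj F) U' inf_le_right inf_le_right
      (Vp_mono g' f' (inf_le_right : W₁ ⊓ W₂ ≤ W₂))) ?_ ?_
    _ _ _ _ _ _ _ _ ?_ ?_ ?_ ?_ H₁ H₂ H₁₂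
  · intro a h₁ h₂
    refine eq_of_res_eq₂ F (le_sup_left : W₁ ≤ W₁ ⊔ W₂) le_sup_right le_rfl a 0 ?_ ?_
    · rw [res_zero]; exact h₁
    · rw [res_zero]; exact h₂
  · intro a
    show res F _ (res F _ a) = res F _ (res F _ a)
    rw [res_res, res_res]
  · intro a₁ a₂ e
    exact exists_res_eq₂ F (le_sup_left : W₁ ≤ W₁ ⊔ W₂) le_sup_right le_rfl inf_le_left inf_le_right
      le_rfl a₁ a₂ e
  · intro b h₁ h₂
    refine eq_of_res_eq₂ ((Scheme.Modules.pullback g').obj F)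
      (Vp_mono g' f' (le_sup_left : W₁ ≤ W₁ ⊔ W₂)) (Vp_mono g' f' (le_sup_right : W₂ ≤ W₁ ⊔ W₂))
      (Vp_sup_le g' f' W₁ W₂) b 0 ?_ ?_
    · rw [res_zero]; exact h₁
    · rw [res_zero]; exact h₂
  · intro b
    show res _ _ (res _ _ b) = res _ _ (res _ _ b)
    rw [res_res, res_res]
  · intro a
    exact unitSec_res g' F _ _ _ _ a
  · intro a
    exact unitSec_res g' F _ _ _ _ a
  · intro a
    exact unitSec_res g' F _ _ _ _ a
  · intro a
    exact unitSec_res g' F _ _ _ _ a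

theorem KInj_of_isCompact [F.IsQuasicoherent] (hU : IsAffineOpen U) (hU' : IsAffineOpen U')
    (hflat : (g.appLE U U' hle).hom.Flat) (W : X.Opens) (hWc : IsCompact (W : Set X))
    (hW : W ≤ f ⁻¹ᵁ U) : KInj f g g' f' h F hle W hW := by
  revert hW
  refine compact_open_induction_on (P := fun W => ∀ hW : W ≤ f ⁻¹ᵁ U, KInj f g g' f' h F hle W hW)
    W hWc ?_ ?_
  · intro hW
    exact (KBij_of_isAffineOpen f g g' f' h F hle hU hU' hW (isAffineOpen_bot X)).1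
  · intro T _ V hP hW
    have hT' : T ≤ f ⁻¹ᵁ U := le_sup_left.trans hW
    have hV' : V.1 ≤ f ⁻¹ᵁ U := le_sup_right.trans hW
    exact KInj_sup f g g' f' h F hle hflat hT' hV' (hP hT')
      (KBij_of_isAffineOpen f g g' f' h F hle hU hU' hV' V.2).1

theorem KBij_of_qcqs [F.IsQuasicoherent] (hU : IsAffineOpen U) (hU' : IsAffineOpen U')
    (hflat : (g.appLE U U' hle).hom.Flat) (hqs : IsQuasiSeparated ((f ⁻¹ᵁ U : X.Opens) : Set X))
    (W : X.Opens) (hWc : IsCompact (W : Set X))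
    (hW : W ≤ f ⁻¹ᵁ U) : KBij f g g' f' h F hle W hW := by
  revert hW
  refine compact_open_induction_on (P := fun W => ∀ hW : W ≤ f ⁻¹ᵁ U, KBij f g g' f' h F hle W hW)
    W hWc ?_ ?_
  · intro hW
    exact KBij_of_isAffineOpen f g g' f' h F hle hU hU' hW (isAffineOpen_bot X)
  · intro T hT V hP hW
    have hT' : T ≤ f ⁻¹ᵁ U := le_sup_left.trans hW
    have hV' : V.1 ≤ f ⁻¹ᵁ U := le_sup_right.trans hW
    have hc : IsCompact ((T ⊓ V.1 : X.Opens) : Set X) :=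
      hqs T V.1 hT' T.2 hT hV' V.1.2 V.2.isCompact
    exact KBij_sup f g g' f' h F hle hflat hT' hV' (hP hT')
      (KBij_of_isAffineOpen f g g' f' h F hle hU hU' hV' V.2)
      (KInj_of_isCompact f g g' f' h F hle hU hU' hflat _ hc _)

include hle in
/-- **flat base change** on sections over affine opens. -/
theorem bcMap_app_bijective_of_flat [QuasiCompact f] [QuasiSeparated f] [Flat g] [F.IsQuasicoherent]
    (hU : IsAffineOpen U) (hU' : IsAffineOpen U') :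
    Function.Bijective ((bcMap f g g' f' h F).app U') := by
  haveI : ((pushforward f).obj F).IsQuasicoherent :=
    Groth.Agent.Lib.Helper23.QCohLocal.isQuasicoherent_pushforward f F
  have hflat : (g.appLE U U' hle).hom.Flat := g.flat_appLE hU hU' hle
  have hle' : f' ⁻¹ᵁ U' ≤ g' ⁻¹ᵁ (f ⁻¹ᵁ U) := preimage_le f g g' f' h hle
  have hK := KBij_of_qcqs f g g' f' h F hle hU hU' hflat
    (f.isQuasiSeparated_preimage hU.isQuasiSeparated) (f ⁻¹ᵁ U) (f.isCompact_preimage hU.isCompact)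
    le_rfl
  letI : Algebra Γ(S, U) Γ(S', U') := (g.appLE U U' hle).hom.toAlgebra
  let φ : SecR f F U (f ⁻¹ᵁ U) le_rfl →+
      Γ((Scheme.Modules.pullback g).obj ((pushforward f).obj F), U') :=
    unitSec g ((pushforward f).obj F) hle
  have hφ : ∀ (r : Γ(S, U)) (m : SecR f F U (f ⁻¹ᵁ U) le_rfl),
      φ (r • m) = algebraMap Γ(S, U) Γ(S', U') r • φ m := by
    intro r m
    have e := unitSec_smul g ((pushforward f).obj F) hle r
      (show Γ((pushforward f).obj F, U) from m)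
    refine Eq.trans (congrArg (unitSec g ((pushforward f).obj F) hle) ?_) e
    exact appLE_smul_eq f F U r m
  have hφ' : ∀ (r : Γ(S, U)) (m : SecR f F U (f ⁻¹ᵁ U) le_rfl),
      uW f g' f' F le_rfl hle' (le_refl (f' ⁻¹ᵁ U')) (r • m) =
        algebraMap Γ(S, U) Γ(S', U') r • uW f g' f' F le_rfl hle' (le_refl (f' ⁻¹ᵁ U')) m :=
    uW_smul f g g' f' h F hle le_rfl hle' le_rfl
  refine bijective_of_kap_bijective (R := Γ(S, U)) (R' := Γ(S', U'))
    (M := SecR f F U (f ⁻¹ᵁ U) le_rfl)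
    (Q := Γ((Scheme.Modules.pullback g).obj ((pushforward f).obj F), U'))
    (Q' := SecR f' ((Scheme.Modules.pullback g').obj F) U' (f' ⁻¹ᵁ U') le_rfl)
    φ hφ
    (uW f g' f' F le_rfl hle' (le_refl (f' ⁻¹ᵁ U'))) hφ'
    ((bcMap f g g' f' h F).app U').hom ?_ ?_ ?_ ?_
  · intro r' q
    have e := (bcMap f g g' f' h F).app_smul r' q
    refine e.trans ?_
    exact (appLE_smul_eq f' ((Scheme.Modules.pullback g').obj F) U' r' _).symm
  · intro m
    exact bcMap_unitSec f g g' f' h F hle m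
  · refine kap_bijective_of_existsUnique _ hφ ?_
    intro N _ _ l hl
    refine existsUnique_lift g ((pushforward f).obj F) hU hU' hle N l fun r x => ?_
    have e := hl r x
    refine Eq.trans (congrArg l ?_) e
    exact (appLE_smul_eq f F U r x).symm
  · -- transport along `Vp (f⁻¹U) = f'⁻¹U'`
    have hVle : Vp g' f' U' (f ⁻¹ᵁ U) ≤ f' ⁻¹ᵁ U' := inf_le_right
    have hVeq : Vp g' f' U' (f ⁻¹ᵁ U) = f' ⁻¹ᵁ U' := inf_eq_right.2 hle'
    let ψ := resL f' ((Scheme.Modules.pullback g').obj F) U' (le_refl (f' ⁻¹ᵁ U'))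
      (inf_le_right : Vp g' f' U' (f ⁻¹ᵁ U) ≤ f' ⁻¹ᵁ U') hVle
    have hψ : Function.Bijective ψ :=
      map_bijective_of_eq ((Scheme.Modules.pullback g').obj F) hVeq (homOfLE hVle)
    have hn : ∀ x, ψ (kap (uW f g' f' F le_rfl hle' (le_refl (f' ⁻¹ᵁ U'))) hφ' x) =
        kap (R := Γ(S, U)) (R' := Γ(S', U'))
          (uW f g' f' F le_rfl (inf_le_left : Vp g' f' U' (f ⁻¹ᵁ U) ≤ g' ⁻¹ᵁ (f ⁻¹ᵁ U)) inf_le_right)
          (uW_smul f g g' f' h F hle le_rfl inf_le_left inf_le_right) x := by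
      intro x
      have := kap_nat (R := Γ(S, U)) (R' := Γ(S', U'))
        (uW f g' f' F le_rfl hle' (le_refl (f' ⁻¹ᵁ U'))) hφ'
        (uW f g' f' F le_rfl (inf_le_left : Vp g' f' U' (f ⁻¹ᵁ U) ≤ g' ⁻¹ᵁ (f ⁻¹ᵁ U)) inf_le_right)
        (uW_smul f g g' f' h F hle le_rfl inf_le_left inf_le_right)
        LinearMap.id ψ (fun a => unitSec_res g' F _ _ le_rfl hVle a |>.trans (by
          congr 1
          exact res_self F a)) x
      rw [this, LinearMap.lTensor_id, LinearMap.id_apply]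
    have hcomp : (ψ : _ → _) ∘ (kap (uW f g' f' F le_rfl hle' (le_refl (f' ⁻¹ᵁ U'))) hφ') =
        kap (R := Γ(S, U)) (R' := Γ(S', U'))
          (uW f g' f' F le_rfl (inf_le_left : Vp g' f' U' (f ⁻¹ᵁ U) ≤ g' ⁻¹ᵁ (f ⁻¹ᵁ U)) inf_le_right)
          (uW_smul f g g' f' h F hle le_rfl inf_le_left inf_le_right) := funext hn
    have hb : Function.Bijective ((ψ : _ → _) ∘
        (kap (uW f g' f' F le_rfl hle' (le_refl (f' ⁻¹ᵁ U'))) hφ')) := hcomp ▸ hK
    exact (Function.Bijective.of_comp_iff' hψ _).1 hb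

end square

section main
variable {X S X' S' : Scheme.{u}} (f : X ⟶ S) (g : S' ⟶ S) (g' : X' ⟶ X) (f' : X' ⟶ S')
  (h : IsPullback g' f' f g) (F : X.Modules)

/-- **flat base change**: for `f` quasi-compact quasi-separated, `g` flat and `F` quasi-coherent,
`g^* f_* F → f'_* g'^* F` is an isomorphism. -/
theorem isIso_bcMap_of_flat [QuasiCompact f] [QuasiSeparated f] [Flat g] [F.IsQuasicoherent] :
    IsIso (bcMap f g g' f' h F) := by
  let ι : Type u := {U' : S'.Opens // IsAffineOpen U' ∧ ∃ U : S.Opens, IsAffineOpen U ∧ U' ≤ g ⁻¹ᵁ U}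
  refine isIso_of_bijective_on_basis _ (fun i : ι => i.1) ?_ ?_
  · rw [Opens.isBasis_iff_nbhd]
    intro W y hyW
    obtain ⟨V, hV, hyV, -⟩ := exists_isAffineOpen_mem_and_subset (x := g y) (U := ⊤) trivial
    obtain ⟨U', hU', hyU', hU'W⟩ := exists_isAffineOpen_mem_and_subset (x := y)
      (U := W ⊓ g ⁻¹ᵁ V) ⟨hyW, hyV⟩
    exact ⟨U', ⟨⟨U', hU', V, hV, hU'W.trans inf_le_right⟩, rfl⟩, hyU', hU'W.trans inf_le_left⟩
  · rintro ⟨U', hU', U, hU, hle⟩
    exact bcMap_app_bijective_of_flat f g g' f' h F hle hU hU'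

/-- the base change map in "unit / counit" form -/
theorem bcMap_eq :
    (Scheme.Modules.pullback g).map ((Scheme.Modules.pushforward f).map
        ((Scheme.Modules.pullbackPushforwardAdjunction g').unit.app F)) ≫
      (Scheme.Modules.pullback g).map ((Scheme.Modules.pushforwardComp g' f ≪≫
          Scheme.Modules.pushforwardCongr h.w ≪≫ (Scheme.Modules.pushforwardComp f' g).symm).hom.app
        ((Scheme.Modules.pullback g').obj F)) ≫
      (Scheme.Modules.pullbackPushforwardAdjunction g).counit.app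
        ((Scheme.Modules.pushforward f').obj ((Scheme.Modules.pullback g').obj F)) =
    bcMap f g g' f' h F := by
  rw [bcMap, Adjunction.homEquiv_counit, vMap, Functor.map_comp, Category.assoc]
  rfl

end main

end Groth.Agent.Helper13QcqsBC
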