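import Groth.Agent.Lib.Helper17FBC2
import Groth.Agent.Lib.Helper13QcqsBC
import Groth.Agent.Lib.Helper2PullbackSec

/-!
# Flat base change for the cohomology of quasi-coherent modules: the affine case (helper17)
-/

set_option autoImplicit false
universe u
open CategoryTheory Limits AlgebraicGeometry TopologicalSpace Opposite Abelian

namespace Groth.Agent.Lib.Helper17.FBC3

open Groth.Agent.Lib.Helper17.ExtAct Groth.Agent.Lib.Helper21.PushAcyc
  Groth.Agent.Lib.Helper17.LerayTop Groth.Agent.Lib.Helper17.FBC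
  Groth.Agent.Lib.Helper23.AffVanish

section Gen

variable {T : TopCat.{u}}

theorem h0Equiv_mk₀ (F : CohTop.Ab T) (U : Opens T) (ψ : ZU U ⟶ F) :
    h0Equiv F U (Ext.mk₀ ψ) = CohFree.evalGen (J T) U F ψ := by
  change CohFree.evalGen (J T) U F (Ext.addEquiv₀ (Ext.mk₀ ψ)) = _
  rw [addEquiv₀_mk₀]

end Gen

section Source

variable {A : Type u} [CommRing A] {X : Scheme.{u}} (f : X ⟶ Spec (CommRingCat.of A))
  (M : X.Modules) (U : X.Opens)

/-- the ring map `A → Γ(X, U)`. -/
noncomputable def rho : A →+* Γ(X, U) := (Coh.resTop X (op U)).comp (Coh.toGlobal f)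

/-- degree zero classes are sections. -/
noncomputable def h0 : EE (actOf f M) (ZU U) 0 ≃+ Γ(M, U) := h0F' M U

theorem h0_smul (a : A) (x : EE (actOf f M) (ZU U) 0) :
    h0 f M U (a • x) = rho f U a • h0 f M U x := by
  obtain ⟨ψ, rfl⟩ := (Ext.mk₀_bijective _ _).2 (show Ext (ZU U) (Coh.toAb M) 0 from x)
  change h0Equiv (ab' M) U ((Ext.mk₀ ψ).comp (Ext.mk₀ (Coh.smulAb M (Coh.toGlobal f a)))
    (add_zero 0)) = @HSMul.hSMul Γ(X, U) Γ(M, U) Γ(M, U) _ (rho f U a)
      (h0Equiv (ab' M) U (Ext.mk₀ ψ))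
  rw [Ext.mk₀_comp_mk₀, h0Equiv_mk₀, h0Equiv_mk₀]
  exact Coh.smulAb_app M _ (op U) _

end Source

section Target

variable {X X' : Scheme.{u}} (g' : X' ⟶ X) (N : X'.Modules) (U : X.Opens)

/-- degree zero classes on the pulled back probe are sections over the preimage. -/
noncomputable def t0 :
    Ext.{u} ((pullF g').obj (ZU U)) (Coh.toAb N) 0 ≃+ Γ(N, g' ⁻¹ᵁ U) :=
  (Ext.addEquiv₀).trans
    (((adjP (Opens.grothendieckTopology X') (Opens.grothendieckTopology X)
      (Opens.map g'.base)).homAddEquiv _ _).trans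
      (CohFree.homEquivSect (Opens.grothendieckTopology X) U
        ((CohSite.push (Opens.grothendieckTopology X') (Opens.grothendieckTopology X)
          (Opens.map g'.base)).obj (Coh.toAb N))))

theorem t0_mk₀ (χ : (pullF g').obj (ZU U) ⟶ Coh.toAb N) :
    t0 g' N U (Ext.mk₀ χ) =
      CohFree.evalGen (Opens.grothendieckTopology X) U
        ((CohSite.push (Opens.grothendieckTopology X') (Opens.grothendieckTopology X)
          (Opens.map g'.base)).obj (Coh.toAb N))
        ((adjP (Opens.grothendieckTopology X') (Opens.grothendieckTopology X)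
          (Opens.map g'.base)).homEquiv _ _ χ) := by
  change CohFree.evalGen _ U _ ((adjP (Opens.grothendieckTopology X')
    (Opens.grothendieckTopology X) (Opens.map g'.base)).homEquiv _ _
      (Ext.addEquiv₀ (Ext.mk₀ χ))) = _
  rw [addEquiv₀_mk₀]

end Target

section Compare

open Groth.Agent.Helper13PullbackUnit

variable {A B : Type u} [CommRing A] [CommRing B] [Algebra A B] {X X' : Scheme.{u}}
  (f : X ⟶ Spec (CommRingCat.of A)) (f' : X' ⟶ Spec (CommRingCat.of B)) (g' : X' ⟶ X)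
  (hw : g' ≫ f = f' ≫ Spec.map (CommRingCat.ofHom (algebraMap A B)))
  (M : X.Modules) (U : X.Opens)

theorem t0_smul (b : B) (y : EB (cmp f f' g' M hw) ((pullF g').obj (ZU U)) 0) :
    t0 g' ((Scheme.Modules.pullback g').obj M) U (b • y) =
      rho f' (g' ⁻¹ᵁ U) b • t0 g' ((Scheme.Modules.pullback g').obj M) U y := by
  obtain ⟨χ, rfl⟩ := (Ext.mk₀_bijective _ _).2
    (show Ext ((pullF g').obj (ZU U)) (Coh.toAb ((Scheme.Modules.pullback g').obj M)) 0 from y)
  change t0 g' ((Scheme.Modules.pullback g').obj M) U ((Ext.mk₀ χ).comp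
    (Ext.mk₀ (Coh.smulAb ((Scheme.Modules.pullback g').obj M) (Coh.toGlobal f' b))) (add_zero 0)) =
      @HSMul.hSMul Γ(X', g' ⁻¹ᵁ U) Γ((Scheme.Modules.pullback g').obj M, g' ⁻¹ᵁ U)
        Γ((Scheme.Modules.pullback g').obj M, g' ⁻¹ᵁ U) _ (rho f' (g' ⁻¹ᵁ U) b)
        (t0 g' ((Scheme.Modules.pullback g').obj M) U (Ext.mk₀ χ))
  rw [Ext.mk₀_comp_mk₀, t0_mk₀, t0_mk₀, Adjunction.homEquiv_naturality_right]
  exact Coh.smulAb_app ((Scheme.Modules.pullback g').obj M) _ (op (g' ⁻¹ᵁ U)) _

theorem t0_phi (x : EE (actOf f M) (ZU U) 0) :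
    t0 g' ((Scheme.Modules.pullback g').obj M) U (phi (cmp f f' g' M hw) (ZU U) 0 x) =
      unitSec g' M (le_refl (g' ⁻¹ᵁ U)) (h0 f M U x) := by
  obtain ⟨ψ, rfl⟩ := (Ext.mk₀_bijective _ _).2 (show Ext (ZU U) (Coh.toAb M) 0 from x)
  change t0 g' ((Scheme.Modules.pullback g').obj M) U
    (((Ext.mk₀ ψ).mapExactFunctor (pullF g')).comp (Ext.mk₀ (kappa g' M)) (add_zero 0)) =
      unitSec g' M (le_refl (g' ⁻¹ᵁ U)) (h0Equiv (ab' M) U (Ext.mk₀ ψ))
  rw [Ext.mapExactFunctor_mk₀, Ext.mk₀_comp_mk₀, t0_mk₀, h0Equiv_mk₀,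
    Adjunction.homEquiv_naturality_left]
  unfold kappa
  rw [Equiv.apply_symm_apply, unitSec_apply]
  have e : (homOfLE (le_refl (g' ⁻¹ᵁ U))) = 𝟙 (g' ⁻¹ᵁ U) := Subsingleton.elim _ _
  rw [e, op_id, ((Scheme.Modules.pullback g').obj M).presheaf.map_id]
  rfl

end Compare

section Pushout

variable {A B : Type u} [CommRing A] [CommRing B] [Algebra A B] {X X' : Scheme.{u}}
  {f : X ⟶ Spec (CommRingCat.of A)} {f' : X' ⟶ Spec (CommRingCat.of B)} {g' : X' ⟶ X}
  (h : IsPullback g' f' f (Spec.map (CommRingCat.ofHom (algebraMap A B))))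
  {U : X.Opens}

include h in
theorem isAffineHom_of_isPullback : IsAffineHom g' :=
  MorphismProperty.of_isPullback (P := @IsAffineHom) h.flip inferInstance

include h in
theorem isAffineOpen_preimage (hU : IsAffineOpen U) : IsAffineOpen (g' ⁻¹ᵁ U) := by
  haveI := isAffineHom_of_isPullback h
  exact hU.preimage g'

theorem rho_eq (f : X ⟶ Spec (CommRingCat.of A)) (U : X.Opens) :
    CommRingCat.ofHom (rho f U) =
      (Scheme.ΓSpecIso (CommRingCat.of A)).inv ≫ f.appLE ⊤ U le_top := by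
  rfl

include h in
theorem isPushout_sections (hU : IsAffineOpen U) :
    IsPushout (CommRingCat.ofHom (algebraMap A B)) (CommRingCat.ofHom (rho f U))
      (CommRingCat.ofHom (rho f' (g' ⁻¹ᵁ U)))
      (CommRingCat.ofHom (g'.appLE U (g' ⁻¹ᵁ U) le_rfl).hom) := by
  have hUY : g' ⁻¹ᵁ U = g' ⁻¹ᵁ U ⊓ f' ⁻¹ᵁ ⊤ := by simp
  have h1 := (isIso_pushoutSection_iff h (US := ⊤) (UT := ⊤) (UX := U) le_top le_top hUY).1
    (isIso_pushoutSection_of_isAffineOpen h le_top le_top hUY (isAffineOpen_top _)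
      (isAffineOpen_top _) hU)
  refine IsPushout.of_iso h1.flip (Scheme.ΓSpecIso (CommRingCat.of A))
    (Scheme.ΓSpecIso (CommRingCat.of B)) (Iso.refl _) (Iso.refl _) ?_ ?_ ?_ ?_
  · have e : Scheme.Hom.appLE (Spec.map (CommRingCat.ofHom (algebraMap A B))) ⊤ ⊤ le_top =
        (Spec.map (CommRingCat.ofHom (algebraMap A B))).appTop := by
      rw [Scheme.Hom.appLE]
      exact (congrArg (fun t => (Spec.map (CommRingCat.ofHom (algebraMap A B))).app ⊤ ≫ t)
        ((Spec (CommRingCat.of B)).presheaf.map_id _)).trans (Category.comp_id _)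
    rw [e]
    exact Scheme.ΓSpecIso_naturality (CommRingCat.ofHom (algebraMap A B))
  · rw [rho_eq, Iso.refl_hom, Category.comp_id, Iso.hom_inv_id_assoc]
  · rw [rho_eq, Iso.refl_hom, Category.comp_id, Iso.hom_inv_id_assoc]
  · rw [Iso.refl_hom, Category.comp_id, Iso.refl_hom, Category.id_comp]
    rfl

end Pushout

section Zero

open Groth.Agent.Helper13PullbackUnit Groth.Agent.Helper13FlatMV TensorProduct

variable {A B : Type u} [CommRing A] [CommRing B] [Algebra A B] {X X' : Scheme.{u}}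
  {f : X ⟶ Spec (CommRingCat.of A)} {f' : X' ⟶ Spec (CommRingCat.of B)} {g' : X' ⟶ X}
  (h : IsPullback g' f' f (Spec.map (CommRingCat.ofHom (algebraMap A B))))
  (M : X.Modules) [M.IsQuasicoherent] {U : X.Opens} (hU : IsAffineOpen U)

include hU in
theorem beta_zero_bijective :
    Function.Bijective (beta (cmp f f' g' M h.w) (ZU U) 0) := by
  have hU' := isAffineOpen_preimage h hU
  let β : (B ⊗[A] EE (cmp f f' g' M h.w).α (ZU U) 0) →+
      Γ((Scheme.Modules.pullback g').obj M, g' ⁻¹ᵁ U) :=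
    (t0 g' ((Scheme.Modules.pullback g').obj M) U).toAddMonoidHom.comp
      (beta (cmp f f' g' M h.w) (ZU U) 0).toAddMonoidHom
  let φ : Γ(M, U) →+ B ⊗[A] EE (cmp f f' g' M h.w).α (ZU U) 0 :=
    (oneTmul (R := A) (R' := B) (M := EE (cmp f f' g' M h.w).α (ZU U) 0)).comp
      (h0 f M U).symm.toAddMonoidHom
  have hβ : Function.Bijective β := by
    refine Groth.Agent.Helper13BCAlg.bijective_of_lifts (algebraMap A B) (rho f U)
      (g'.appLE U (g' ⁻¹ᵁ U) le_rfl).hom (rho f' (g' ⁻¹ᵁ U)) (isPushout_sections h hU)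
      (M := Γ(M, U)) (Q := B ⊗[A] EE (cmp f f' g' M h.w).α (ZU U) 0)
      (Q' := Γ((Scheme.Modules.pullback g').obj M, g' ⁻¹ᵁ U))
      φ ?_ ?_ (unitSec g' M le_rfl) (unitSec_smul g' M le_rfl) ?_ β ?_ ?_
    · intro r m
      obtain ⟨x, rfl⟩ := (h0 f M U).surjective m
      change oneTmul (R := A) (R' := B) ((h0 f M U).symm (rho f U r • h0 f M U x)) =
        algebraMap A B r • oneTmul (R := A) (R' := B) ((h0 f M U).symm (h0 f M U x))
      rw [← h0_smul, AddEquiv.symm_apply_apply, AddEquiv.symm_apply_apply]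
      exact oneTmul_smul (R := A) (R' := B) (M := EE (actOf f M) (ZU U) 0) r x
    · intro N _ _ l hl
      obtain ⟨l', h1, h2⟩ := existsUnique_of_oneTmul (R := A) (R' := B)
        (M := EE (cmp f f' g' M h.w).α (ZU U) 0) N (l.comp (h0 f M U).toAddMonoidHom)
        (fun r x => by
          exact (congrArg l (h0_smul f M U r x)).trans (hl r _))
      refine ⟨l', fun m => ?_, fun l'' hl'' => h2 l'' (fun x => ?_)⟩
      · have := h1 ((h0 f M U).symm m)
        change l' (oneTmul (R := A) (R' := B) ((h0 f M U).symm m)) = l m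
        rw [this]
        change l (h0 f M U ((h0 f M U).symm m)) = l m
        rw [AddEquiv.apply_symm_apply]
      · have := hl'' (h0 f M U x)
        change l'' (oneTmul (R := A) (R' := B) ((h0 f M U).symm (h0 f M U x))) = _ at this
        rw [AddEquiv.symm_apply_apply] at this
        exact this
    · intro N _ _ l hl
      exact existsUnique_lift g' M hU hU' le_rfl N l hl
    · intro b q
      change t0 g' _ U (beta (cmp f f' g' M h.w) (ZU U) 0 (b • q)) =
        rho f' (g' ⁻¹ᵁ U) b • t0 g' _ U (beta (cmp f f' g' M h.w) (ZU U) 0 q)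
      rw [map_smul]
      exact t0_smul f f' g' h.w M U b _
    · intro m
      change t0 g' _ U (beta (cmp f f' g' M h.w) (ZU U) 0
        ((1 : B) ⊗ₜ[A] ((h0 f M U).symm m))) = unitSec g' M le_rfl m
      rw [beta_tmul, one_smul]
      have := t0_phi f f' g' h.w M U ((h0 f M U).symm m)
      rw [AddEquiv.apply_symm_apply] at this
      exact this
  exact (Function.Bijective.of_comp_iff'
    (t0 g' ((Scheme.Modules.pullback g').obj M) U).bijective _).1 hβ

end Zero

section Higher

open TensorProduct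

variable {A B : Type u} [CommRing A] [CommRing B] [Algebra A B] {X X' : Scheme.{u}}
  {f : X ⟶ Spec (CommRingCat.of A)} {f' : X' ⟶ Spec (CommRingCat.of B)} {g' : X' ⟶ X}
  (h : IsPullback g' f' f (Spec.map (CommRingCat.ofHom (algebraMap A B))))
  (M : X.Modules) [M.IsQuasicoherent] {U : X.Opens} (hU : IsAffineOpen U)

include hU in
/-- **the affine case** of flat base change. -/
theorem good_ZU : Good (cmp f f' g' M h.w) (ZU U) := by
  intro n
  cases n with
  | zero => exact beta_zero_bijective h M hU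
  | succ n =>
    have hU' := isAffineOpen_preimage h hU
    haveI : ((Scheme.Modules.pullback g').obj M).IsQuasicoherent :=
      Groth.Agent.Lib.Helper2.PullbackSec.isQuasicoherent_pullback g' M
    have h1 : ∀ x : EE (cmp f f' g' M h.w).α (ZU U) (n + 1), x = 0 := by
      intro x
      haveI := subsingleton_HE_of_isAffineOpen hU M n
      exact Subsingleton.elim (α := HE (ab' M) (n + 1) U) x 0
    have h2 : ∀ z : B ⊗[A] EE (cmp f f' g' M h.w).α (ZU U) (n + 1), z = 0 := by
      intro z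
      induction z using TensorProduct.induction_on with
      | zero => rfl
      | tmul b x => rw [h1 x, tmul_zero]
      | add x y hx hy => rw [hx, hy, add_zero]
    have h3 : ∀ y : EB (cmp f f' g' M h.w) ((pullF g').obj (ZU U)) (n + 1), y = 0 := by
      intro y
      refine Groth.Agent.Lib.Helper21.AcyclicAdj.ext_eq_zero_of_iso
        (pullFreeSheafIso (Opens.grothendieckTopology X') (Opens.grothendieckTopology X)
          (Opens.map g'.base) U) (n + 1) ?_ y
      intro y'
      haveI := subsingleton_HE_of_isAffineOpen hU' ((Scheme.Modules.pullback g').obj M) n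
      exact Subsingleton.elim
        (α := HE (ab' ((Scheme.Modules.pullback g').obj M)) (n + 1) (g' ⁻¹ᵁ U)) y' 0
    refine ⟨fun a b _ => (h2 a).trans (h2 b).symm, fun y => ⟨0, ?_⟩⟩
    rw [h3 y, map_zero]

end Higher

end Groth.Agent.Lib.Helper17.FBC3
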