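import Groth.Agent.Lib.Helper17StalkBC2
import Groth.Agent.S0034
import Groth.Agent.Lib.Helper17HHLes

/-!
# The stalk of a higher direct image as the cohomology of the base change to the local ring
(helper17)
-/

set_option autoImplicit false
universe u
open CategoryTheory Limits AlgebraicGeometry TopologicalSpace Opposite TensorProduct

namespace Groth.Agent.Lib.Helper17.StalkBC

section HHiso

variable (A : Type u) [CommRing A] {X : Scheme.{u}} [X.Over (Spec (CommRingCat.of A))]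

/-- isomorphic modules have linearly isomorphic cohomology. -/
noncomputable def hhEquiv {M N : X.Modules} (e : M ≅ N) (p : ℕ) :
    Coh.HH X M p ≃ₗ[A] Coh.HH X N p :=
  LinearEquiv.ofLinear (Canon.HHlin A e.hom p) (Canon.HHlin A e.inv p)
    (LinearMap.ext fun x => by
      change Groth.Agent.Lib.Helper17.HHLes.Hm e.hom p (Groth.Agent.Lib.Helper17.HHLes.Hm e.inv p x)
        = x
      rw [Groth.Agent.Lib.Helper17.HHLes.Hm_comp, e.inv_hom_id,
        Groth.Agent.Lib.Helper17.HHLes.Hm_id])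
    (LinearMap.ext fun x => by
      change Groth.Agent.Lib.Helper17.HHLes.Hm e.inv p (Groth.Agent.Lib.Helper17.HHLes.Hm e.hom p x)
        = x
      rw [Groth.Agent.Lib.Helper17.HHLes.Hm_comp, e.hom_inv_id,
        Groth.Agent.Lib.Helper17.HHLes.Hm_id])

end HHiso

section Square

variable {X Y : Scheme.{u}} (f : X ⟶ Y) {V : Y.Opens} (hV : IsAffineOpen V) (y : Y) (hy : y ∈ V)
  (X₁ : Scheme.{u}) [X₁.Over (Spec (CommRingCat.of (Y.presheaf.stalk y)))] (g : X₁ ⟶ X)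
  (hsq : IsPullback g (X₁ ↘ Spec (CommRingCat.of (Y.presheaf.stalk y))) f (Y.fromSpecStalk y))

/-- `Spec O_{Y,y} ⟶ Spec Γ(Y, V)`. -/
noncomputable abbrev sigma :
    Spec (CommRingCat.of (Y.presheaf.stalk y)) ⟶ Spec (CommRingCat.of Γ(Y, V)) :=
  letI : Algebra Γ(Y, V) (Y.presheaf.stalk y) := Y.presheaf.algebra_section_stalk ⟨y, hy⟩
  Spec.map (CommRingCat.ofHom (algebraMap Γ(Y, V) (Y.presheaf.stalk y)))

theorem sigma_fromSpec : sigma y hy ≫ hV.isoSpec.inv ≫ V.ι = Y.fromSpecStalk y := by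
  rw [← hV.fromSpecStalk_eq_fromSpecStalk hy]
  rfl

include hsq in
theorem lift_w : ((X₁ ↘ Spec (CommRingCat.of (Y.presheaf.stalk y))) ≫ sigma y hy ≫
    hV.isoSpec.inv) ≫ V.ι = g ≫ f := by
  rw [hsq.w, Category.assoc, Category.assoc, sigma_fromSpec hV y hy]

/-- the factorization of `g` through `f⁻¹V`. -/
noncomputable def g₂ : X₁ ⟶ (f ⁻¹ᵁ V : Scheme.{u}) :=
  (isPullback_morphismRestrict f V).lift
    ((X₁ ↘ Spec (CommRingCat.of (Y.presheaf.stalk y))) ≫ sigma y hy ≫ hV.isoSpec.inv) g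
    (lift_w f hV y hy X₁ g hsq)

theorem g₂_ι : g₂ f hV y hy X₁ g hsq ≫ (f ⁻¹ᵁ V).ι = g :=
  (isPullback_morphismRestrict f V).lift_snd _ _ _

theorem g₂_res : g₂ f hV y hy X₁ g hsq ≫ (f ∣_ V) =
    (X₁ ↘ Spec (CommRingCat.of (Y.presheaf.stalk y))) ≫ sigma y hy ≫ hV.isoSpec.inv :=
  (isPullback_morphismRestrict f V).lift_fst _ _ _

theorem isPullback_g₂ :
    IsPullback (g₂ f hV y hy X₁ g hsq) (X₁ ↘ Spec (CommRingCat.of (Y.presheaf.stalk y)))
      (hRes f hV) (sigma y hy) := by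
  have s : IsPullback (g₂ f hV y hy X₁ g hsq ≫ (f ⁻¹ᵁ V).ι)
      (X₁ ↘ Spec (CommRingCat.of (Y.presheaf.stalk y))) f
      ((sigma y hy ≫ hV.isoSpec.inv) ≫ V.ι) := by
    rw [g₂_ι, Category.assoc, sigma_fromSpec hV y hy]
    exact hsq
  have t : IsPullback (f ⁻¹ᵁ V).ι (f ∣_ V) f V.ι := (isPullback_morphismRestrict f V).flip
  have h1 := IsPullback.of_right s (g₂_res f hV y hy X₁ g hsq) t
  refine IsPullback.of_iso h1 (Iso.refl _) (Iso.refl _) (Iso.refl _) hV.isoSpec ?_ ?_ ?_ ?_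
  · simp
  · simp
  · simp
  · simp

end Square

section Main

local instance (X : Scheme.{u}) : EnoughInjectives X.Modules :=
  Groth.Agent.Lib.Helper17.QCPush.enoughInjectives X

variable {X Y : Scheme.{u}} (f : X ⟶ Y) [QuasiCompact f] [QuasiSeparated f]
  (F : X.Modules) [Coh.IsQCoh F] (y : Y) (p : ℕ)
  (X₁ : Scheme.{u}) [X₁.Over (Spec (CommRingCat.of (Y.presheaf.stalk y)))] (g : X₁ ⟶ X)
  (hsq : IsPullback g (X₁ ↘ Spec (CommRingCat.of (Y.presheaf.stalk y))) f (Y.fromSpecStalk y))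

include hsq in
/-- **the stalk of `R^p f_* F` at `y`** is `H^p(X ×_Y Spec O_{Y,y}, g^*F)`, linearly over `O_{Y,y}`. -/
theorem nonempty_stalk_Rpush_linearEquiv :
    Nonempty (((Coh.Rpush f p).obj F).presheaf.stalk y ≃ₗ[Y.presheaf.stalk y]
      Coh.HH X₁ ((Scheme.Modules.pullback g).obj F) p) := by
  obtain ⟨V, hV, hy, -⟩ := exists_isAffineOpen_mem_and_subset (x := y) (U := ⊤) trivial
  letI : Algebra Γ(Y, V) (Y.presheaf.stalk y) := Y.presheaf.algebra_section_stalk ⟨y, hy⟩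
  haveI := hV.isLocalization_stalk ⟨y, hy⟩
  haveI : Module.Flat Γ(Y, V) (Y.presheaf.stalk y) :=
    IsLocalization.flat (Y.presheaf.stalk y) (hV.primeIdealOf ⟨y, hy⟩).asIdeal.primeCompl
  letI := overRes f hV
  haveI : CompactSpace (f ⁻¹ᵁ V : Scheme.{u}) :=
    QuasiCompact.compactSpace_of_compactSpace (hRes f hV)
  haveI : QuasiSeparatedSpace (f ⁻¹ᵁ V : Scheme.{u}) :=
    quasiSeparatedSpace_of_quasiSeparated (hRes f hV)
  haveI : Coh.IsQCoh ((Scheme.Modules.restrictFunctor (f ⁻¹ᵁ V).ι).obj F) :=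
    Scheme.Modules.isQuasicoherent_restrictFunctor (f ⁻¹ᵁ V).ι F
  haveI : ((Coh.Rpush f p).obj F).IsQuasicoherent := Groth.Agent.S0030.result f F p
  obtain ⟨e1⟩ := nonempty_stalk_linearEquiv hV ((Coh.Rpush f p).obj F) y hy
  obtain ⟨e2⟩ := nonempty_sections_linearEquiv f F hV p
  obtain ⟨e3⟩ := Groth.Agent.S0034.result Γ(Y, V) (Y.presheaf.stalk y) (f ⁻¹ᵁ V : Scheme.{u}) X₁
    (g₂ f hV y hy X₁ g hsq) (isPullback_g₂ f hV y hy X₁ g hsq)
    ((Scheme.Modules.restrictFunctor (f ⁻¹ᵁ V).ι).obj F) p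
  let i4 : (Scheme.Modules.pullback (g₂ f hV y hy X₁ g hsq)).obj
      ((Scheme.Modules.restrictFunctor (f ⁻¹ᵁ V).ι).obj F) ≅
      (Scheme.Modules.pullback g).obj F :=
    (Scheme.Modules.pullback (g₂ f hV y hy X₁ g hsq)).mapIso
      ((Scheme.Modules.restrictFunctorIsoPullback (f ⁻¹ᵁ V).ι).app F) ≪≫
    (Scheme.Modules.pullbackComp (g₂ f hV y hy X₁ g hsq) (f ⁻¹ᵁ V).ι).app F ≪≫
    (Scheme.Modules.pullbackCongr (g₂_ι f hV y hy X₁ g hsq)).app F
  let e4 := hhEquiv (Y.presheaf.stalk y) i4 p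
  let e2' : (Y.presheaf.stalk y) ⊗[Γ(Y, V)] Γ((Coh.Rpush f p).obj F, V) ≃ₗ[Y.presheaf.stalk y]
      (Y.presheaf.stalk y) ⊗[Γ(Y, V)]
        Coh.HH (f ⁻¹ᵁ V : Scheme.{u}) ((Scheme.Modules.restrictFunctor (f ⁻¹ᵁ V).ι).obj F) p :=
    TensorProduct.AlgebraTensorModule.congr (LinearEquiv.refl _ _) e2
  exact ⟨e1.symm.trans (e2'.trans (e3.trans e4))⟩

end Main

end Groth.Agent.Lib.Helper17.StalkBC
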