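import Groth.Agent.Lib.Helper27FibreVan
import Groth.Agent.Lib.Helper17StalkBC3
import Groth.Agent.S11319

/-!
# Ampleness on a fibre: vanishing over the local ring and at the stalk (helper27)

For `f : X ⟶ Y` proper, `Y` locally Noetherian, `y : Y`, and `L` invertible on `X` whose pullback
to the fibre `X_y` is ample, let `X₁ = X ×_Y Spec O_{Y,y}` with `g : X₁ ⟶ X`.
* `sv_localBase` : every coherent module on `X₁` has eventually vanishing twisted cohomology
  with respect to `g^* L`;
* `isAmple_localBase` : `g^* L` is ample;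
* `isZero_stalk_RpushAb` : for `M` coherent on `X`, the stalks at `y` of `R^p f_*(M ⊗ L^d)`
  vanish for `p > 0` and `d` large.
-/

set_option autoImplicit false
universe u
open CategoryTheory Limits AlgebraicGeometry TopologicalSpace Opposite

namespace Groth.Agent.Lib.Helper27FibreStalk

open Groth.Agent.Lib.Helper27FibreVan Groth.Agent.Lib.Helper27FinSurjAmple
  Groth.Agent.Lib.Helper27SerreVan

variable {X Y : Scheme.{u}} (f : X ⟶ Y) [IsProper f] [IsLocallyNoetherian Y] (y : Y)

/-- the closed fibre inside the base change to the local ring. -/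
noncomputable def jFib : f.fiber y ⟶ pullback f (Y.fromSpecStalk y) :=
  pullback.lift (f.fiberι y) (f.fiberToSpecResidueField y ≫ Spec.map (Y.residue y)) (by
    rw [f.fiber_fac y, Category.assoc]
    rfl)

@[reassoc]
theorem jFib_fst : jFib f y ≫ pullback.fst f (Y.fromSpecStalk y) = f.fiberι y :=
  pullback.lift_fst _ _ _

@[reassoc]
theorem jFib_snd : jFib f y ≫ pullback.snd f (Y.fromSpecStalk y) =
    f.fiberToSpecResidueField y ≫ Spec.map (Y.residue y) :=
  pullback.lift_snd _ _ _

theorem isPullback_jFib :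
    IsPullback (jFib f y) (f.fiberToSpecResidueField y) (pullback.snd f (Y.fromSpecStalk y))
      (Spec.map (Y.residue y)) := by
  refine IsPullback.of_right (h₁₂ := pullback.fst f (Y.fromSpecStalk y)) (v₁₃ := f)
    (h₂₂ := Y.fromSpecStalk y) ?_ (jFib_snd f y) (IsPullback.of_hasPullback f (Y.fromSpecStalk y))
  rw [jFib_fst]
  exact IsPullback.of_hasPullback f (Y.fromSpecResidueField y)

/-- the structure of a scheme over the local ring on the base change. -/
@[reducible] noncomputable def overLocal :
    (pullback f (Y.fromSpecStalk y)).Over (Spec (CommRingCat.of (Y.presheaf.stalk y))) :=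
  ⟨pullback.snd f (Y.fromSpecStalk y)⟩

theorem isCoh_pullback {X' Y' : Scheme.{u}} (g : X' ⟶ Y') (M : Y'.Modules) (hM : Coh.IsCoh M) :
    Coh.IsCoh ((Scheme.Modules.pullback g).obj M) := by
  haveI : M.IsQuasicoherent := hM.1
  haveI : SheafOfModules.IsFiniteType (R := Y'.ringCatSheaf) M := hM.2
  exact ⟨Groth.Agent.Lib.Helper2.PullbackSec.isQuasicoherent_pullback g M,
    Groth.Agent.Lib.Helper20.FormalPull.isFiniteType_pullback g M⟩

section Local

variable (L : X.Modules) (hL : PicF.IsInvertible L)
  (hy : CohB1.IsAmple ((Scheme.Modules.pullback (f.fiberι y)).obj L))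

include hL hy

theorem isAmple_jFib :
    CohB1.IsAmple ((Scheme.Modules.pullback (jFib f y)).obj
      ((Scheme.Modules.pullback (pullback.fst f (Y.fromSpecStalk y))).obj L)) := by
  let e : (Scheme.Modules.pullback (f.fiberι y)).obj L ≅
      (Scheme.Modules.pullback (jFib f y)).obj
        ((Scheme.Modules.pullback (pullback.fst f (Y.fromSpecStalk y))).obj L) :=
    ((Scheme.Modules.pullbackCongr (jFib_fst f y)).app L).symm ≪≫
      ((Scheme.Modules.pullbackComp (jFib f y) (pullback.fst f (Y.fromSpecStalk y))).app L).symm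
  exact Groth.Agent.Lib.Helper23.AmpleIso.isAmple_of_iso e hy

/-- Serre vanishing on the base change to the local ring. -/
theorem sv_localBase (N : (pullback f (Y.fromSpecStalk y)).Modules) (hN : Coh.IsCoh N) :
    SV ((Scheme.Modules.pullback (pullback.fst f (Y.fromSpecStalk y))).obj L) N := by
  letI := overLocal f y
  have hsq : IsPullback (jFib f y) (f.fiberToSpecResidueField y)
      ((pullback f (Y.fromSpecStalk y)) ↘ Spec (CommRingCat.of (Y.presheaf.stalk y)))
      (Spec.map (CommRingCat.ofHom (IsLocalRing.residue (Y.presheaf.stalk y)))) :=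
    isPullback_jFib f y
  haveI : IsProper ((pullback f (Y.fromSpecStalk y)) ↘ Spec (CommRingCat.of (Y.presheaf.stalk y))) :=
    inferInstanceAs (IsProper (pullback.snd f (Y.fromSpecStalk y)))
  refine sv_of_fibre_ample (IsLocalRing.residue (Y.presheaf.stalk y)) (jFib f y)
    (f.fiberToSpecResidueField y) hsq IsLocalRing.residue_surjective ?_ _
    (Groth.Agent.Lib.Helper23.PB.isInvertible_pullback _ L hL) (isAmple_jFib f y L hL hy) N hN
  rw [IsLocalRing.ker_residue]
  exact IsLocalRing.maximalIdeal_le_jacobson _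

/-- ampleness on the base change to the local ring. -/
theorem isAmple_localBase :
    CohB1.IsAmple ((Scheme.Modules.pullback (pullback.fst f (Y.fromSpecStalk y))).obj L) := by
  letI := overLocal f y
  haveI : IsProper ((pullback f (Y.fromSpecStalk y)) ↘ Spec (CommRingCat.of (Y.presheaf.stalk y))) :=
    inferInstanceAs (IsProper (pullback.snd f (Y.fromSpecStalk y)))
  exact (Groth.Agent.S0051.result (Y.presheaf.stalk y) _
    ((pullback f (Y.fromSpecStalk y)) ↘ Spec (CommRingCat.of (Y.presheaf.stalk y))) _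
    (Groth.Agent.Lib.Helper23.PB.isInvertible_pullback _ L hL)).2
    (fun N hN => sv_localBase f y L hL hy N hN)

end Local

section Stalk

local instance (X : Scheme.{u}) : EnoughInjectives X.Modules :=
  Groth.Agent.Lib.Helper17.QCPush.enoughInjectives X

/-- vanishing of the stalks of the higher direct images of large twists. -/
theorem isZero_stalk_RpushAb (L : X.Modules) (hL : PicF.IsInvertible L)
    (hy : CohB1.IsAmple ((Scheme.Modules.pullback (f.fiberι y)).obj L))
    (M : X.Modules) (hM : Coh.IsCoh M) :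
    ∃ d₀ : ℕ, ∀ d : ℕ, d₀ ≤ d → ∀ p : ℕ, 0 < p →
      IsZero (TopCat.Presheaf.stalk
        ((Coh.RpushAb f p).obj (Coh.toAb (CohB1.tensorMod M (CohB1.tensorPow L d)))).obj y) := by
  obtain ⟨d₀, hd₀⟩ := sv_localBase f y L hL hy _
    (isCoh_pullback (pullback.fst f (Y.fromSpecStalk y)) M hM)
  refine ⟨d₀, fun d hd p hp => ?_⟩
  letI := overLocal f y
  have hLd := Groth.Agent.Lib.Helper23.SecTw.isInvertible_tensorPow hL d
  haveI : M.IsQuasicoherent := hM.1
  haveI : (CohB1.tensorPow L d).IsQuasicoherent :=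
    Groth.Agent.Lib.Helper23.SecTw.isQuasicoherent_of_isInvertible _ hLd
  haveI : Coh.IsQCoh (CohB1.tensorMod M (CohB1.tensorPow L d)) :=
    Groth.Agent.Lib.Helper23.TensorQCoh.isQuasicoherent_tensorMod M (CohB1.tensorPow L d)
  have hsq₁ : IsPullback (pullback.fst f (Y.fromSpecStalk y))
      ((pullback f (Y.fromSpecStalk y)) ↘ Spec (CommRingCat.of (Y.presheaf.stalk y))) f
      (Y.fromSpecStalk y) := IsPullback.of_hasPullback f (Y.fromSpecStalk y)
  obtain ⟨e⟩ := Groth.Agent.Lib.Helper17.StalkBC.nonempty_stalk_Rpush_linearEquiv f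
    (CohB1.tensorMod M (CohB1.tensorPow L d)) y p (pullback f (Y.fromSpecStalk y))
    (pullback.fst f (Y.fromSpecStalk y)) hsq₁
  obtain ⟨Θ⟩ := Groth.Agent.Lib.Helper23.PB.nonempty_pullback_tensorPow_iso
    (pullback.fst f (Y.fromSpecStalk y)) L hL d
  let i : (Scheme.Modules.pullback (pullback.fst f (Y.fromSpecStalk y))).obj
      (CohB1.tensorMod M (CohB1.tensorPow L d)) ≅
      CohB1.tensorMod ((Scheme.Modules.pullback (pullback.fst f (Y.fromSpecStalk y))).obj M)
        (CohB1.tensorPow ((Scheme.Modules.pullback (pullback.fst f (Y.fromSpecStalk y))).obj L) d) :=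
    Groth.Agent.Lib.Helper23.RestrTensor.pullbackTensorIso M (CohB1.tensorPow L d) _ ≪≫
      PicGrp.tensorModIso (Iso.refl _) Θ
  haveI h1 : Subsingleton (Coh.HH (pullback f (Y.fromSpecStalk y))
      ((Scheme.Modules.pullback (pullback.fst f (Y.fromSpecStalk y))).obj
        (CohB1.tensorMod M (CohB1.tensorPow L d))) p) :=
    subsingleton_HH_of_iso i p (hd₀ d hd p hp)
  haveI h2 : Subsingleton (((Coh.Rpush f p).obj
      (CohB1.tensorMod M (CohB1.tensorPow L d))).presheaf.stalk y) := e.toEquiv.subsingleton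
  obtain ⟨θ⟩ := Groth.Agent.S11319.result f (CohB1.tensorMod M (CohB1.tensorPow L d)) p
  have hz : IsZero (TopCat.Presheaf.stalk (C := AddCommGrpCat.{u})
      (Coh.toAb ((Coh.Rpush f p).obj (CohB1.tensorMod M (CohB1.tensorPow L d)))).obj y) := by
    haveI : Subsingleton ↑(TopCat.Presheaf.stalk (C := AddCommGrpCat.{u})
      (Coh.toAb ((Coh.Rpush f p).obj (CohB1.tensorMod M (CohB1.tensorPow L d)))).obj y) := h2
    exact AddCommGrpCat.isZero_of_subsingleton _
  exact hz.of_iso ((TopCat.Presheaf.stalkFunctor AddCommGrpCat.{u} y).mapIso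
    ((sheafToPresheaf _ _).mapIso θ)).symm

end Stalk

end Groth.Agent.Lib.Helper27FibreStalk
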