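import Mathlib
import Groth.Agent.Lib.Helper12ClosedDescent
import Groth.Agent.Lib.Helper12OpenSub
import Groth.Agent.Lib.Helper12ZarGlue2

/-!
Helper library (helper12): descent of open immersions and immersions along an etale atlas, in the
sheaf language of `AlgSp.Sp S`.
-/

set_option autoImplicit false
universe u
open CategoryTheory CategoryTheory.Limits AlgebraicGeometry Opposite
open AlgSp

namespace Groth.Agent.Lib.Helper12.ImmDescent

open Groth.Agent.Lib.Helper9 Groth.Agent.Lib.Helper12.ClosedDescent Groth.Agent.Lib.Helper12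

variable {S : Scheme.{u}}

/-- the chart of an open subspace: the open subscheme `O = p⁻¹(W)` of `V` with its map to
`OpenSub.obj X W`. -/
lemma exists_open_chart {X : AlgSp.Sp S} {V : Over S} (p : (AlgSp.yon S).obj V ⟶ X)
    {W : Set (AlgSp.Points X)} (hW : IsOpen W) (O : V.left.Opens)
    (hO : (O : Set ↥V.left) = AlgSp.Points.ofPt p ⁻¹' W) :
    ∃ p0 : (AlgSp.yon S).obj (Over.mk (O.ι ≫ V.hom)) ⟶ OpenSub.obj X W,
      IsPullback p0 ((AlgSp.yon S).map (Over.homMk O.ι rfl : Over.mk (O.ι ≫ V.hom) ⟶ V))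
        (OpenSub.incl X W) p := by
  obtain ⟨O', ι', fst', sq'⟩ := (OpenSub.repWith_incl hW).1 p
  haveI : IsOpenImmersion ι'.left := (OpenSub.repWith_incl hW).2 _ _ ι' sq'
  have hrange : Set.range ι'.left = Set.range O.ι := by
    rw [Scheme.Opens.range_ι, hO]
    ext v
    constructor
    · rintro ⟨t, rfl⟩
      show AlgSp.Points.ofPt p (ι'.left t) ∈ W
      rw [← Groth.Agent.S10176.ofPt_map_comp ι' p, ← sq'.w, ← AlgSp.Points.map_ofPt]
      have h0 : AlgSp.Points.map (OpenSub.incl X W) (AlgSp.Points.ofPt fst' t) ∈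
          Set.range (AlgSp.Points.map (OpenSub.incl X W)) := ⟨_, rfl⟩
      rwa [OpenSub.range_map_incl W] at h0
    · intro hv
      refine ZarGlue.mem_range_of_mem_range_map (OpenSub.incl X W) p fst' ι' sq' v ?_
      rw [OpenSub.range_map_incl]
      exact hv
  let ε : O'.left ≅ (O : Scheme.{u}) := IsOpenImmersion.isoOfRangeEq ι'.left O.ι hrange
  have hε : ε.hom ≫ O.ι = ι'.left := IsOpenImmersion.isoOfRangeEq_hom_fac _ _ _
  let εO : O' ≅ Over.mk (O.ι ≫ V.hom) := Over.isoMk ε (by
    show ε.hom ≫ O.ι ≫ V.hom = O'.hom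
    rw [← Category.assoc, hε, Over.w ι'])
  have hεO : εO.hom ≫ (Over.homMk O.ι rfl : Over.mk (O.ι ≫ V.hom) ⟶ V) = ι' := by
    apply Over.OverMorphism.ext
    exact hε
  refine ⟨(AlgSp.yon S).map εO.inv ≫ fst', ?_⟩
  refine IsPullback.of_iso sq' ((AlgSp.yon S).mapIso εO) (Iso.refl _) (Iso.refl _) (Iso.refl _)
    ?_ ?_ (by simp) (by simp)
  · simp only [Iso.refl_hom, Category.comp_id, Functor.mapIso_hom]
    rw [← Category.assoc, ← Functor.map_comp, Iso.hom_inv_id, (AlgSp.yon S).map_id,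
      Category.id_comp]
  · simp only [Iso.refl_hom, Category.comp_id, Functor.mapIso_hom]
    rw [← Functor.map_comp, hεO]

/-- **factoring through an open subspace.**  If the base change `e : E ⟶ V` of `f : F ⟶ X` to an
etale surjective chart factors through the open `O = p⁻¹(W)`, then `f` factors through the open
subspace `OpenSub.obj X W`, and the base change of the factorization to the chart `O` of the open
subspace is `E ⟶ O`. -/
lemma exists_factor_open {F X : AlgSp.Sp S} (f : F ⟶ X) {V E : Over S}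
    (p : (AlgSp.yon S).obj V ⟶ X) (hpe : AlgSp.RepWith @Etale p)
    (hps : AlgSp.RepWith @Surjective p) (e : E ⟶ V) (a : (AlgSp.yon S).obj E ⟶ F)
    (sqE : IsPullback a ((AlgSp.yon S).map e) f p) {W : Set (AlgSp.Points X)} (hW : IsOpen W)
    (O : V.left.Opens) (hO : (O : Set ↥V.left) = AlgSp.Points.ofPt p ⁻¹' W)
    (e' : E.left ⟶ (O : Scheme.{u})) (he' : e' ≫ O.ι = e.left) :
    ∃ (f' : F ⟶ OpenSub.obj X W)
      (p0 : (AlgSp.yon S).obj (Over.mk (O.ι ≫ V.hom)) ⟶ OpenSub.obj X W)
      (eO : E ⟶ Over.mk (O.ι ≫ V.hom)),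
      f' ≫ OpenSub.incl X W = f ∧ eO.left = e' ∧ AlgSp.RepWith @Etale p0 ∧
        AlgSp.RepWith @Surjective p0 ∧ IsPullback a ((AlgSp.yon S).map eO) f' p0 := by
  obtain ⟨p0, sq0⟩ := exists_open_chart p hW O hO
  have hp0e : AlgSp.RepWith @Etale p0 :=
    MorphismProperty.of_isPullback (P := AlgSp.RepWith @Etale) sq0.flip hpe
  have hp0s : AlgSp.RepWith @Surjective p0 :=
    MorphismProperty.of_isPullback (P := AlgSp.RepWith @Surjective) sq0.flip hps
  haveI : Epi p := Groth.Agent.S9927.epi_of_repWith p hpe hps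
  haveI : Epi a := ToposLike.epi_of_isPullback sqE inferInstance
  obtain ⟨eO, heO⟩ : ∃ eO : E ⟶ Over.mk (O.ι ≫ V.hom), eO = Over.homMk e' (by
      show e' ≫ O.ι ≫ V.hom = E.hom
      rw [← Category.assoc, he', Over.w e]) := ⟨_, rfl⟩
  have heOl : eO.left = e' := by rw [heO]; rfl
  have heι : eO ≫ (Over.homMk O.ι rfl : Over.mk (O.ι ≫ V.hom) ⟶ V) = e := by
    apply Over.OverMorphism.ext
    rw [Over.comp_left, heOl]
    exact he'
  obtain ⟨f', hf', haf'⟩ := exists_factor_of_epi a ((AlgSp.yon S).map eO ≫ p0) f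
    (OpenSub.incl X W) (by
      rw [sqE.w, Category.assoc, sq0.w, ← Category.assoc, ← Functor.map_comp, heι])
  refine ⟨f', p0, eO, hf', heOl, hp0e, hp0s, ?_⟩
  have big : IsPullback ((AlgSp.yon S).map eO ≫ (AlgSp.yon S).map
      (Over.homMk O.ι rfl : Over.mk (O.ι ≫ V.hom) ⟶ V)) a p (f' ≫ OpenSub.incl X W) := by
    rw [← Functor.map_comp, heι, hf']
    exact sqE.flip
  exact (IsPullback.of_right big haf'.symm sq0.flip).flip

lemma repWith_of_le {P Q : MorphismProperty Scheme.{u}} (hPQ : P ≤ Q) {F G : AlgSp.Sp S}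
    {f : F ⟶ G} (h : AlgSp.RepWith P f) : AlgSp.RepWith Q f :=
  (AlgSp.repWith_iff _ _).2 ⟨h.1, fun _ _ g fst snd sq => hPQ _ (h.2 g fst snd sq)⟩

/-- the base change of `f` to the chart, as a scheme. -/
lemma exists_chart_of_repWith (P : MorphismProperty Scheme.{u}) {F X : AlgSp.Sp S} (f : F ⟶ X)
    {V : Over S} (p : (AlgSp.yon S).obj V ⟶ X) {P₀ : AlgSp.Sp S} (fst : P₀ ⟶ F)
    (snd : P₀ ⟶ (AlgSp.yon S).obj V) (sq : IsPullback fst snd f p) (h : AlgSp.RepWith P snd) :
    ∃ (E : Over S) (e : E ⟶ V) (a : (AlgSp.yon S).obj E ⟶ F),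
      IsPullback a ((AlgSp.yon S).map e) f p ∧ P e.left := by
  obtain ⟨E, e, a₀, sqE₀⟩ := h.1 (𝟙 _)
  have he : P e.left := h.2 (𝟙 _) a₀ e sqE₀
  have := sqE₀.paste_horiz sq
  rw [Category.id_comp] at this
  exact ⟨E, e, _, this, he⟩

/-- the range of the base change to the chart is saturated. -/
lemma preimage_image_range {F X : AlgSp.Sp S} (f : F ⟶ X) {V E : Over S}
    (p : (AlgSp.yon S).obj V ⟶ X) (e : E ⟶ V) (a : (AlgSp.yon S).obj E ⟶ F)
    (sqE : IsPullback a ((AlgSp.yon S).map e) f p) :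
    AlgSp.Points.ofPt p ⁻¹' (AlgSp.Points.ofPt p '' Set.range e.left) = Set.range e.left := by
  apply Set.Subset.antisymm _ (Set.subset_preimage_image _ _)
  rintro v ⟨_, ⟨w, rfl⟩, hw⟩
  refine ZarGlue.mem_range_of_mem_range_map f p a e sqE v ?_
  rw [← hw, ← Groth.Agent.S10176.ofPt_map_comp e p, ← sqE.w, ← AlgSp.Points.map_ofPt]
  exact ⟨_, rfl⟩

/-- **descent of open immersions along an etale atlas.** -/
theorem repWith_isOpenImmersion_of_chart {F X : AlgSp.Sp S} (f : F ⟶ X) {V : Over S}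
    (p : (AlgSp.yon S).obj V ⟶ X) (hpe : AlgSp.RepWith @Etale p)
    (hps : AlgSp.RepWith @Surjective p) {P₀ : AlgSp.Sp S} (fst : P₀ ⟶ F)
    (snd : P₀ ⟶ (AlgSp.yon S).obj V) (sq : IsPullback fst snd f p)
    (h : AlgSp.RepWith @IsOpenImmersion snd) : AlgSp.RepWith @IsOpenImmersion f := by
  haveI : Epi p := Groth.Agent.S9927.epi_of_repWith p hpe hps
  haveI : Mono snd := Groth.Agent.S9928.mono_of_repWith @IsOpenImmersion
    (fun X Y g hg => by haveI : IsOpenImmersion g := hg; infer_instance) snd h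
  haveI : Mono f := Groth.Agent.S9927.mono_of_isPullback_of_epi sq
  obtain ⟨E, e, a, sqE, he⟩ := exists_chart_of_repWith _ f p fst snd sq h
  haveI : IsOpenImmersion e.left := he
  have hW : IsOpen (AlgSp.Points.ofPt p '' Set.range e.left) :=
    Groth.Agent.S10176.isOpenMap_ofPt p hpe _ e.left.isOpenEmbedding.isOpen_range
  have hO : (e.left.opensRange : Set ↥V.left) =
      AlgSp.Points.ofPt p ⁻¹' (AlgSp.Points.ofPt p '' Set.range e.left) := by
    rw [preimage_image_range f p e a sqE]; rfl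
  obtain ⟨f', p0, eO, hf', heO, hp0e, hp0s, sq0⟩ := exists_factor_open f p hpe hps e a sqE hW
    e.left.opensRange hO e.left.isoOpensRange.hom e.left.isoOpensRange_hom_ι
  haveI : IsIso eO.left := by rw [heO]; infer_instance
  haveI : IsIso ((Over.forget S).map eO) := ‹IsIso eO.left›
  haveI : IsIso eO := isIso_of_reflects_iso eO (Over.forget S)
  haveI : Epi p0 := Groth.Agent.S9927.epi_of_repWith p0 hp0e hp0s
  haveI : Mono f' := by
    haveI : Mono (f' ≫ OpenSub.incl X _) := by rw [hf']; infer_instance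
    exact mono_of_mono f' (OpenSub.incl X _)
  haveI : Epi f' := by
    haveI : Epi (a ≫ f') := by rw [sq0.w]; infer_instance
    exact epi_of_epi a f'
  haveI : IsIso f' := ToposLike.isIso_of_mono_of_epi f' inferInstance inferInstance
  rw [← hf']
  exact (AlgSp.RepWith @IsOpenImmersion).comp_mem _ _
    (MorphismProperty.of_isIso _ _) (OpenSub.repWith_incl hW)

/-- **descent of immersions along an etale atlas.** -/
theorem repWith_isImmersion_of_chart {F X : AlgSp.Sp S} (f : F ⟶ X) {V : Over S}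
    (p : (AlgSp.yon S).obj V ⟶ X) (hpe : AlgSp.RepWith @Etale p)
    (hps : AlgSp.RepWith @Surjective p) {P₀ : AlgSp.Sp S} (fst : P₀ ⟶ F)
    (snd : P₀ ⟶ (AlgSp.yon S).obj V) (sq : IsPullback fst snd f p)
    (h : AlgSp.RepWith @IsImmersion snd) : AlgSp.RepWith @IsImmersion f := by
  obtain ⟨E, e, a, sqE, he⟩ := exists_chart_of_repWith _ f p fst snd sq h
  haveI : IsImmersion e.left := he
  have hpre : AlgSp.Points.ofPt p ⁻¹' (coborder (AlgSp.Points.ofPt p '' Set.range e.left)) =
      coborder (Set.range e.left) := by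
    rw [← coborder_preimage (Groth.Agent.S10176.isOpenMap_ofPt p hpe)
      (AlgSp.Points.continuous_ofPt p), preimage_image_range f p e a sqE]
  have hW : IsOpen (coborder (AlgSp.Points.ofPt p '' Set.range e.left)) := by
    rw [← (Groth.Agent.S10177.isQuotientMap_ofPt p hpe hps).isOpen_preimage, hpre]
    exact e.left.isLocallyClosed_range.isOpen_coborder
  have hO : (e.left.coborderRange : Set ↥V.left) =
      AlgSp.Points.ofPt p ⁻¹' (coborder (AlgSp.Points.ofPt p '' Set.range e.left)) := by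
    rw [hpre]; rfl
  obtain ⟨f', p0, eO, hf', heO, hp0e, hp0s, sq0⟩ := exists_factor_open f p hpe hps e a sqE hW
    e.left.coborderRange hO e.left.liftCoborder e.left.liftCoborder_ι
  haveI : IsClosedImmersion eO.left := by rw [heO]; infer_instance
  have hf'c : AlgSp.RepWith @IsClosedImmersion f' :=
    repWith_isClosedImmersion_of_chart f' p0 hp0e hp0s a _ sq0
      ((AlgSp.repWith_yon_map_iff _ _).2 inferInstance)
  rw [← hf']
  exact (AlgSp.RepWith @IsImmersion).comp_mem _ _
    (repWith_of_le (fun _ _ g hg => by haveI : IsClosedImmersion g := hg; infer_instance) hf'c)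
    (repWith_of_le (fun _ _ g hg => by haveI : IsOpenImmersion g := hg; infer_instance)
      (OpenSub.repWith_incl hW))

end Groth.Agent.Lib.Helper12.ImmDescent
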