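import Groth.Agent.Lib.Helper12Descent
import Mathlib.AlgebraicGeometry.Morphisms.Immersion
import Mathlib.AlgebraicGeometry.Morphisms.SchemeTheoreticallyDominant

/-!
Helper library (helper12): fpqc descent of quasi-compact immersions.
-/

set_option autoImplicit false
universe u
open CategoryTheory Limits MorphismProperty AlgebraicGeometry

namespace Groth.Agent.Lib.Helper12

lemma isSchemeTheoreticallyDominant_toImage {X Y : Scheme.{u}} (f : X ⟶ Y) [QuasiCompact f] :
    IsSchemeTheoreticallyDominant f.toImage := by
  constructor
  refine Scheme.IdealSheafData.ext_of_iSup_eq_top (ι := Y.affineOpens)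
    (fun U => ⟨f.imageι ⁻¹ᵁ U.1, U.2.preimage f.imageι⟩) ?_ ?_
  · rw [← Scheme.Hom.preimage_iSup, iSup_affineOpens_eq_top]
    rfl
  · intro U
    rw [Scheme.Hom.ker_apply]
    simp only [Scheme.IdealSheafData.ideal_bot, Pi.bot_apply]
    exact (RingHom.injective_iff_ker_eq_bot _).mp (f.toImage_app_injective U)


lemma isOpenImmersion_of_isImmersion_of_isSchemeTheoreticallyDominant {X Y : Scheme.{u}}
    (f : X ⟶ Y) [IsImmersion f] [QuasiCompact f] [IsSchemeTheoreticallyDominant f] :
    IsOpenImmersion f := by
  have h1 : IsOpenImmersion f.toImage := inferInstance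
  have h2 : IsIso f.imageι := (Scheme.isIso_subschemeι_iff_eq_bot _).mpr f.ker_eq_bot
  rw [← f.toImage_imageι]
  infer_instance

set_option backward.isDefEq.respectTransparency.types false in
theorem descendsAlong_isImmersion_inf_quasiCompact :
    DescendsAlong (@IsImmersion ⊓ @QuasiCompact : MorphismProperty Scheme.{u})
      (@Surjective ⊓ @Flat ⊓ @QuasiCompact : MorphismProperty Scheme.{u}) := by
  constructor
  intro A X Y Z fst snd f g h hf hfst
  have hfst1 : IsImmersion fst := hfst.1
  have hfst2 : QuasiCompact fst := hfst.2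
  have hgqc : QuasiCompact g := (descendsAlong_quasiCompact).of_isPullback h hf hfst.2
  refine ⟨?_, hgqc⟩
  have hright := IsPullback.of_hasPullback f g.imageι
  have hw : fst ≫ f = (snd ≫ g.toImage) ≫ g.imageι := by
    rw [Category.assoc, g.toImage_imageι, h.w]
  let a : A ⟶ pullback f g.imageι := pullback.lift fst (snd ≫ g.toImage) hw
  have ha1 : a ≫ pullback.fst f g.imageι = fst := pullback.lift_fst _ _ _
  have ha2 : a ≫ pullback.snd f g.imageι = snd ≫ g.toImage := pullback.lift_snd _ _ _
  have hbig : IsPullback (a ≫ pullback.fst f g.imageι) snd f (g.toImage ≫ g.imageι) := by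
    rw [ha1, g.toImage_imageι]
    exact h
  have hleft : IsPullback a snd (pullback.snd f g.imageι) g.toImage :=
    IsPullback.of_right hbig ha2 hright
  have hp2 : (@Surjective ⊓ @Flat ⊓ @QuasiCompact : MorphismProperty Scheme.{u})
      (pullback.snd f g.imageι) := by
    obtain ⟨⟨h1, h2⟩, h3⟩ := hf
    exact ⟨⟨MorphismProperty.of_isPullback (P := @Surjective) hright h1,
      MorphismProperty.of_isPullback (P := @Flat) hright h2⟩,
      MorphismProperty.of_isPullback (P := @QuasiCompact) hright h3⟩
  have hflat : Flat (pullback.snd f g.imageι) := hp2.1.2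
  have hdom : IsSchemeTheoreticallyDominant g.toImage := isSchemeTheoreticallyDominant_toImage g
  have hadom : IsSchemeTheoreticallyDominant a :=
    IsSchemeTheoreticallyDominant.of_isPullback hleft.flip
  have haqc : QuasiCompact a :=
    MorphismProperty.of_isPullback (P := @QuasiCompact) hleft.flip inferInstance
  have haimm : IsImmersion a := by
    have : IsImmersion (a ≫ pullback.fst f g.imageι) := by rw [ha1]; exact hfst1
    exact IsImmersion.of_comp a (pullback.fst f g.imageι)
  have haopen : IsOpenImmersion a :=
    isOpenImmersion_of_isImmersion_of_isSchemeTheoreticallyDominant a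
  have htopen : IsOpenImmersion g.toImage :=
    MorphismProperty.of_isPullback_of_descendsAlong (P := @IsOpenImmersion)
      (Q := @Surjective ⊓ @Flat ⊓ @QuasiCompact) hleft hp2 haopen
  change IsImmersion g
  rw [← g.toImage_imageι]
  infer_instance

end Groth.Agent.Lib.Helper12
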