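import Mathlib
import Groth.Prelude.Def_AlgSpInf
import Groth.Agent.Lib.Helper12FOBaseChange
import Groth.Agent.Lib.Helper12EtaleLift2
import Groth.Agent.S9928

set_option autoImplicit false
universe u
open CategoryTheory CategoryTheory.Limits AlgebraicGeometry Opposite
open AlgSp

namespace Groth.Agent.Lib.Helper12.InfNbhdUniv

open Groth.Agent.Lib.Helper12.SqZeroBC Groth.Agent.Lib.Helper12.InfGlue
open Groth.Agent.Lib.Helper12.FOBaseChange Groth.Agent.Lib.Helper12.EtaleLift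
open Groth.Agent.Lib.Helper12.EtaleLift2

section Cat

variable {C : Type*} [Category C] {P X Y Z Z' : C} {fst : P ⟶ X} {snd : P ⟶ Y} {f : X ⟶ Z}
  {g : Y ⟶ Z}

/-- postcomposing with a monomorphism preserves pullback squares. -/
lemma isPullback_comp_mono (k : Z ⟶ Z') [Mono k] (sq : IsPullback fst snd f g) :
    IsPullback fst snd (f ≫ k) (g ≫ k) := by
  refine ⟨⟨by rw [← Category.assoc, ← Category.assoc, sq.w]⟩,
    ⟨PullbackCone.IsLimit.mk _ (fun s => sq.lift s.fst s.snd (by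
      rw [← cancel_mono k, Category.assoc, Category.assoc]; exact s.condition)) (fun s => ?_)
      (fun s => ?_) (fun s m h1 h2 => ?_)⟩⟩
  · exact sq.lift_fst _ _ _
  · exact sq.lift_snd _ _ _
  · apply sq.hom_ext
    · rw [h1, sq.lift_fst]
    · rw [h2, sq.lift_snd]

/-- and reflects them. -/
lemma isPullback_of_comp_mono (k : Z ⟶ Z') [Mono k] (sq : IsPullback fst snd (f ≫ k) (g ≫ k)) :
    IsPullback fst snd f g := by
  have hw : fst ≫ f = snd ≫ g := by
    rw [← cancel_mono k, Category.assoc, Category.assoc]; exact sq.w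
  refine ⟨⟨hw⟩,
    ⟨PullbackCone.IsLimit.mk _ (fun s => sq.lift s.fst s.snd (by
      rw [← Category.assoc, ← Category.assoc, s.condition])) (fun s => ?_)
      (fun s => ?_) (fun s m h1 h2 => ?_)⟩⟩
  · exact sq.lift_fst _ _ _
  · exact sq.lift_snd _ _ _
  · apply sq.hom_ext
    · rw [h1, sq.lift_fst]
    · rw [h2, sq.lift_snd]

end Cat

section Sch

variable {X Y Z Z₁ P Q : Scheme.{u}}

lemma ker_appTop_pow_two (i : Z ⟶ Y) (i₁ : Z₁ ⟶ Y) [IsAffine Y] [QuasiCompact i] [QuasiCompact i₁]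
    (hker : i₁.ker = i.ker ^ (1 + 1)) :
    RingHom.ker i₁.appTop.hom = RingHom.ker i.appTop.hom * RingHom.ker i.appTop.hom := by
  have h1 := congrArg (fun I => I.ideal ⟨⊤, isAffineOpen_top _⟩) hker
  simp only [Scheme.IdealSheafData.ideal_pow, Pi.pow_apply] at h1
  rw [Scheme.Hom.ker_apply, Scheme.Hom.ker_apply, pow_succ, pow_one] at h1
  exact h1

/-- the ideal of a closed subscheme pulls back into the kernel of any map factoring through it. -/
lemma map_ker_le_ker (f : X ⟶ Y) (i : Z ⟶ Y) (q : Q ⟶ X) (r : Q ⟶ Z) (hq : q ≫ f = r ≫ i) :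
    (RingHom.ker i.appTop.hom).map f.appTop.hom ≤ RingHom.ker q.appTop.hom := by
  rw [Ideal.map_le_iff_le_comap]
  intro a ha
  rw [Ideal.mem_comap, RingHom.mem_ker]
  have h1 : f.appTop ≫ q.appTop = i.appTop ≫ r.appTop := by
    rw [← Scheme.Hom.comp_appTop, ← Scheme.Hom.comp_appTop, hq]
  have h2 := congrArg (fun φ => φ.hom a) h1
  simp only [CommRingCat.hom_comp, RingHom.comp_apply] at h2
  rw [h2]
  have ha' : i.appTop.hom a = 0 := ha
  rw [ha', map_zero]

/-- base change of the first order neighbourhood `V(I²)` along a map from an affine scheme on which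
`I` pulls back into a square-zero ideal is an isomorphism on global sections. -/
lemma ker_fst_eq_bot_of_sq [IsAffine X] [IsAffine Y] (f : X ⟶ Y) (i : Z ⟶ Y) (i₁ : Z₁ ⟶ Y)
    [IsClosedImmersion i] [IsClosedImmersion i₁] (hker : i₁.ker = i.ker ^ (1 + 1))
    (fst₁ : P ⟶ X) (snd₁ : P ⟶ Z₁) (sq₁ : IsPullback fst₁ snd₁ f i₁)
    (q : Q ⟶ X) (r : Q ⟶ Z) (hq : q ≫ f = r ≫ i)
    (hqk : RingHom.ker q.appTop.hom * RingHom.ker q.appTop.hom = ⊥) :
    RingHom.ker fst₁.appTop.hom = ⊥ := by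
  refine le_antisymm ?_ bot_le
  refine (ker_fst_le_map f i₁ fst₁ snd₁ sq₁).trans ?_
  rw [ker_appTop_pow_two i i₁ hker, Ideal.map_mul, ← hqk]
  exact Ideal.mul_mono (map_ker_le_ker f i q r hq) (map_ker_le_ker f i q r hq)

/-- base change of `V(I)` along a map from an affine scheme factoring through `V(I²)` is
square-zero. -/
lemma sqZero_fst_of_factor [IsAffine X] [IsAffine Y] (f : X ⟶ Y) (i : Z ⟶ Y) (i₁ : Z₁ ⟶ Y)
    [IsClosedImmersion i] [IsClosedImmersion i₁] (hker : i₁.ker = i.ker ^ (1 + 1))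
    (f₁ : X ⟶ Z₁) (hf : f₁ ≫ i₁ = f) (fst : P ⟶ X) (snd : P ⟶ Z) (sq : IsPullback fst snd f i) :
    fst.ker * fst.ker = ⊥ := by
  haveI : IsClosedImmersion fst := MorphismProperty.of_isPullback sq.flip inferInstance
  apply Scheme.IdealSheafData.ext_of_isAffine
  change fst.ker.ideal ⟨⊤, isAffineOpen_top _⟩ * fst.ker.ideal ⟨⊤, isAffineOpen_top _⟩ = ⊥
  rw [Scheme.Hom.ker_apply]
  refine le_antisymm ?_ bot_le
  refine (Ideal.mul_mono (ker_fst_le_map f i fst snd sq) (ker_fst_le_map f i fst snd sq)).trans ?_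
  rw [← Ideal.map_mul, ← ker_appTop_pow_two i i₁ hker]
  have := map_ker_le_ker f i₁ (𝟙 X) f₁ (by rw [Category.id_comp, hf])
  refine this.trans ?_
  intro a ha
  rw [RingHom.mem_ker] at ha
  simpa using ha

end Sch


variable {S : Scheme.{u}}

/-- **Local factorisation through affine etale charts**: a map from a scheme to an algebraic space
factors, etale locally on the source, through affine etale charts of the target. -/
theorem exists_chart_factor {U : AlgSp.Sp S} (hU : AlgSp.IsAlgSpace U) {T : Over S}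
    (g₀ : (AlgSp.yon S).obj T ⟶ U) (t : ↥T.left) :
    ∃ (T₁ Vα : Over S) (c : T₁ ⟶ T) (m : T₁ ⟶ Vα) (b : (AlgSp.yon S).obj Vα ⟶ U),
      IsAffine T₁.left ∧ IsAffine Vα.left ∧ Etale c.left ∧ t ∈ Set.range c.left ∧
        AlgSp.RepWith @Etale b ∧ (AlgSp.yon S).map c ≫ g₀ = (AlgSp.yon S).map m ≫ b := by
  obtain ⟨V, p, hp, hps⟩ := hU.atlas
  obtain ⟨V₁, q, g₁', sq₁⟩ := hp.1 g₀
  obtain ⟨g₁, rfl⟩ := (AlgSp.yon S).map_surjective g₁'
  haveI : Etale q.left := hp.2 g₀ _ q sq₁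
  haveI : Surjective q.left := hps.2 g₀ _ q sq₁
  obtain ⟨v₁, rfl⟩ := q.left.surjective t
  obtain ⟨_, ⟨Uk, hUk, rfl⟩, hmem, -⟩ := V.left.isBasis_affineOpens.exists_subset_of_mem_open
    (Set.mem_univ (g₁.left v₁)) isOpen_univ
  obtain ⟨_, ⟨Vk, hVk, rfl⟩, hv₁, hVkU : Vk ≤ g₁.left ⁻¹ᵁ Uk⟩ :=
    V₁.left.isBasis_affineOpens.exists_subset_of_mem_open
      (show v₁ ∈ (g₁.left ⁻¹ᵁ Uk : V₁.left.Opens) from hmem) (g₁.left ⁻¹ᵁ Uk).isOpen
  let Uko : Over S := Over.mk (Scheme.Opens.ι Uk ≫ V.hom)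
  let ιU : Uko ⟶ V := Over.homMk (Scheme.Opens.ι Uk) rfl
  let Vko : Over S := Over.mk (Scheme.Opens.ι Vk ≫ V₁.hom)
  let ιV : Vko ⟶ V₁ := Over.homMk (Scheme.Opens.ι Vk) rfl
  have hrange : Set.range (Scheme.Opens.ι Vk ≫ g₁.left) ⊆ Set.range (Scheme.Opens.ι Uk) := by
    rintro _ ⟨x, rfl⟩
    rw [Scheme.Opens.range_ι]
    exact hVkU x.2
  let m' : (Vk : Scheme) ⟶ (Uk : Scheme) :=
    IsOpenImmersion.lift (Scheme.Opens.ι Uk) (Scheme.Opens.ι Vk ≫ g₁.left) hrange
  have hm' : m' ≫ Scheme.Opens.ι Uk = Scheme.Opens.ι Vk ≫ g₁.left := IsOpenImmersion.lift_fac _ _ _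
  let m : Vko ⟶ Uko := Over.homMk m' (by
    have h2 := Over.w g₁
    simp only [Uko, Vko, Over.mk_hom]
    rw [← Category.assoc, hm', Category.assoc, h2])
  have hm : m ≫ ιU = ιV ≫ g₁ := by
    ext
    exact hm'
  refine ⟨Vko, Uko, ιV ≫ q, m, (AlgSp.yon S).map ιU ≫ p, hVk, hUk, ?_, ⟨⟨v₁, hv₁⟩, rfl⟩,
    repWith_etale_restrict p hp Uk, ?_⟩
  · rw [Over.comp_left]
    exact inferInstanceAs (Etale (Scheme.Opens.ι Vk ≫ q.left))
  · rw [Functor.map_comp, Category.assoc, ← sq₁.w, ← Functor.map_comp_assoc, ← hm,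
      Functor.map_comp_assoc]

section Nbhd

variable {Z U Z₁ : AlgSp.Sp S} (ci : Z ⟶ U) (j : Z ⟶ Z₁) (k : Z₁ ⟶ U)

/-- **The first order infinitesimal neighbourhood pulls back to square-zero closed immersions** along
arbitrary maps from affine schemes. -/
theorem sqZero_of_isInfNbhd (hU : AlgSp.IsAlgSpace U) (hN : AlgSp.IsInfNbhd 1 ci j k)
    {T W : Over S} (g : (AlgSp.yon S).obj T ⟶ Z₁) (fst : (AlgSp.yon S).obj W ⟶ Z) (snd : W ⟶ T)
    (hT : IsAffine T.left) (sq : IsPullback fst ((AlgSp.yon S).map snd) j g) :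
    AlgSp.sqZero snd.left := by
  haveI : Mono k := Groth.Agent.S9928.mono_of_repWith @IsClosedImmersion
    (fun X Y g hg => by haveI : IsClosedImmersion g := hg; infer_instance) k hN.2.2.1
  have sq' : IsPullback fst ((AlgSp.yon S).map snd) ci (g ≫ k) := by
    have := isPullback_comp_mono k sq
    rwa [hN.1] at this
  haveI : IsClosedImmersion snd.left := hN.2.1.2 (g ≫ k) fst snd sq'
  haveI : IsAffine T.left := hT
  have hloc : ∀ t : T.left, ∃ (Vk Wk : Scheme.{u}) (c : Vk ⟶ T.left) (s : Wk ⟶ Vk)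
      (τ : Wk ⟶ W.left), IsAffine Vk ∧ Flat c ∧ t ∈ Set.range c ∧ QuasiCompact s ∧
        s.ker * s.ker = ⊥ ∧ τ ≫ snd.left = s ≫ c := by
    intro t
    obtain ⟨T₁, Vα, c, m, b, hT₁, hVα, hc, ht, hb, hcomm⟩ := exists_chart_factor hU (g ≫ k) t
    obtain ⟨WU, sU, fU, sqU⟩ := hN.2.1.1 b
    obtain ⟨WU₁, sU₁, fU₁, sqU₁⟩ := hN.2.2.1.1 b
    have hker : sU₁.left.ker = sU.left.ker ^ (1 + 1) := hN.2.2.2 b fU sU fU₁ sU₁ hVα hb sqU sqU₁
    haveI : IsClosedImmersion sU.left := hN.2.1.2 b fU sU sqU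
    haveI : IsClosedImmersion sU₁.left := hN.2.2.1.2 b fU₁ sU₁ sqU₁
    haveI : IsAffine T₁.left := hT₁
    haveI : IsAffine Vα.left := hVα
    obtain ⟨m₁', -, hm₁'⟩ : ∃ m₁', m₁' ≫ fU₁ = (AlgSp.yon S).map c ≫ g ∧
        m₁' ≫ (AlgSp.yon S).map sU₁ = (AlgSp.yon S).map m :=
      ⟨sqU₁.lift ((AlgSp.yon S).map c ≫ g) ((AlgSp.yon S).map m) (by
        rw [Category.assoc]; exact hcomm), sqU₁.lift_fst _ _ _, sqU₁.lift_snd _ _ _⟩
    obtain ⟨m₁, rfl⟩ := (AlgSp.yon S).map_surjective m₁'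
    have hm₁ : m₁ ≫ sU₁ = m := (AlgSp.yon S).map_injective (by
      rw [Functor.map_comp]; exact hm₁')
    have hP : IsPullback (pullback.fst m sU).left (pullback.snd m sU).left m.left sU.left :=
      (IsPullback.of_hasPullback m sU).map (Over.forget S)
    have hk : (pullback.fst m sU).left.ker * (pullback.fst m sU).left.ker = ⊥ :=
      sqZero_fst_of_factor m.left sU.left sU₁.left hker m₁.left
        (by rw [← Over.comp_left, hm₁]) _ _ hP
    have comm : ((AlgSp.yon S).map (pullback.snd m sU) ≫ fU) ≫ j =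
        (AlgSp.yon S).map (pullback.fst m sU ≫ c) ≫ g := by
      rw [← cancel_mono k, Category.assoc, Category.assoc, hN.1, sqU.w, ← Functor.map_comp_assoc,
        ← pullback.condition, Functor.map_comp_assoc, ← hcomm, Functor.map_comp, Category.assoc,
        Category.assoc]
    obtain ⟨τ', -, hτ2⟩ : ∃ τ', τ' ≫ fst = (AlgSp.yon S).map (pullback.snd m sU) ≫ fU ∧
        τ' ≫ (AlgSp.yon S).map snd = (AlgSp.yon S).map (pullback.fst m sU ≫ c) :=
      ⟨sq.lift _ _ comm, sq.lift_fst _ _ _, sq.lift_snd _ _ _⟩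
    obtain ⟨τ, rfl⟩ := (AlgSp.yon S).map_surjective τ'
    have hτ : τ ≫ snd = pullback.fst m sU ≫ c :=
      (AlgSp.yon S).map_injective (by rw [Functor.map_comp]; exact hτ2)
    haveI : IsClosedImmersion (pullback.fst m sU).left :=
      MorphismProperty.of_isPullback (P := @IsClosedImmersion) hP.flip inferInstance
    haveI : Etale c.left := hc
    refine ⟨T₁.left, (pullback m sU).left, c.left, (pullback.fst m sU).left, τ.left, hT₁,
      inferInstance, ht, inferInstance, hk, ?_⟩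
    have := congrArg (fun m => m.left) hτ
    simpa only [Over.comp_left] using this
  choose Vk Wk c s τ hVk hc hmem hs hk hτ using hloc
  haveI : ∀ t, IsAffine (Vk t) := hVk
  haveI : ∀ t, Flat (c t) := hc
  haveI : ∀ t, QuasiCompact (s t) := hs
  exact sqZero_of_flat_cover snd.left Vk Wk c (fun t => ⟨t, hmem t⟩) s hk τ hτ

/-- **`Z ⟶ Z₁` is a first order thickening** for the first order infinitesimal neighbourhood `Z₁`
of a closed subspace `Z` of an algebraic space. -/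
theorem isFOThickMor_of_isInfNbhd (hU : AlgSp.IsAlgSpace U) (hN : AlgSp.IsInfNbhd 1 ci j k) :
    AlgSp.IsFOThickMor j := by
  haveI : Mono k := Groth.Agent.S9928.mono_of_repWith @IsClosedImmersion
    (fun X Y g hg => by haveI : IsClosedImmersion g := hg; infer_instance) k hN.2.2.1
  have hrep : AlgSp.Representable j := by
    intro T g
    obtain ⟨W, snd, fst, sq⟩ := hN.2.1.1 (g ≫ k)
    refine ⟨W, snd, fst, isPullback_of_comp_mono k ?_⟩
    rwa [hN.1]
  refine ⟨⟨hrep, ?_⟩, ?_⟩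
  · intro T W g fst snd sq
    have sq' : IsPullback fst ((AlgSp.yon S).map snd) ci (g ≫ k) := by
      have := isPullback_comp_mono k sq
      rwa [hN.1] at this
    haveI hcl : IsClosedImmersion snd.left := hN.2.1.2 (g ≫ k) fst snd sq'
    refine ⟨hcl, ⟨fun t => ?_⟩⟩
    obtain ⟨_, ⟨O, hO, rfl⟩, ht, -⟩ := T.left.isBasis_affineOpens.exists_subset_of_mem_open
      (Set.mem_univ t) isOpen_univ
    let To : Over S := Over.mk (Scheme.Opens.ι O ≫ T.hom)
    let ιO : To ⟶ T := Over.homMk (Scheme.Opens.ι O) rfl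
    obtain ⟨Wa, snda, fsta, sqa⟩ := hrep ((AlgSp.yon S).map ιO ≫ g)
    have hsq0 : snda.left.ker * snda.left.ker = ⊥ :=
      sqZero_of_isInfNbhd ci j k hU hN _ fsta snda hO sqa
    have sqa' : IsPullback fsta ((AlgSp.yon S).map snda) ci (((AlgSp.yon S).map ιO ≫ g) ≫ k) := by
      have := isPullback_comp_mono k sqa
      rwa [hN.1] at this
    haveI : IsClosedImmersion snda.left := hN.2.1.2 _ fsta snda sqa'
    have hnil : IsNilpotent snda.left.ker := ⟨2, by rw [pow_two]; exact hsq0⟩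
    obtain ⟨wa, hwa⟩ := surjective_of_isNilpotent_ker snda.left hnil ⟨t, ht⟩
    obtain ⟨τ', -, hτ2⟩ : ∃ τ', τ' ≫ fst = fsta ∧
        τ' ≫ (AlgSp.yon S).map snd = (AlgSp.yon S).map (snda ≫ ιO) :=
      ⟨sq.lift fsta ((AlgSp.yon S).map (snda ≫ ιO)) (by
        rw [sqa.w, Functor.map_comp, Category.assoc]), sq.lift_fst _ _ _, sq.lift_snd _ _ _⟩
    obtain ⟨τ, rfl⟩ := (AlgSp.yon S).map_surjective τ'
    have hτ : τ ≫ snd = snda ≫ ιO :=
      (AlgSp.yon S).map_injective (by rw [Functor.map_comp]; exact hτ2)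
    refine ⟨τ.left wa, ?_⟩
    have h1 := congrArg (fun m => m.left) hτ
    simp only [Over.comp_left] at h1
    calc snd.left (τ.left wa) = (τ.left ≫ snd.left) wa := rfl
      _ = (snda.left ≫ ιO.left) wa := by rw [h1]
      _ = ιO.left (snda.left wa) := rfl
      _ = t := by rw [hwa]; rfl
  · intro V W b fst snd hV hb sqb
    exact sqZero_of_isInfNbhd ci j k hU hN b fst snd hV sqb


variable {ci j k}

/-- **The universal property of the first order infinitesimal neighbourhood** (affine test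
form). -/
theorem existsUnique_lift {X : AlgSp.Sp S} (hU : AlgSp.IsAlgSpace U)
    (hN : AlgSp.IsInfNbhd 1 ci j k) (u : U ⟶ X) (hu : AlgSp.RepWith @IsOpenImmersion u)
    (T T' : Over S) (j' : T ⟶ T') (hT' : IsAffine T'.left)
    (hj' : AlgSp.IsFOThickMor ((AlgSp.yon S).map j'))
    (a : (AlgSp.yon S).obj T ⟶ Z) (b : (AlgSp.yon S).obj T' ⟶ X)
    (comm : (AlgSp.yon S).map j' ≫ b = a ≫ (ci ≫ u)) :
    ∃! a' : (AlgSp.yon S).obj T' ⟶ Z₁, (AlgSp.yon S).map j' ≫ a' = a ≫ j ∧ a' ≫ (k ≫ u) = b := by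
  haveI : Mono k := Groth.Agent.S9928.mono_of_repWith @IsClosedImmersion
    (fun X Y g hg => by haveI : IsClosedImmersion g := hg; infer_instance) k hN.2.2.1
  haveI : Mono u := Groth.Agent.S9928.mono_of_repWith @IsOpenImmersion
    (fun X Y g hg => by haveI : IsOpenImmersion g := hg; infer_instance) u hu
  haveI := hT'
  have hFO := AlgSp.isFirstOrderThickening_of_isFOThickMor_yon_map hT' hj'
  haveI : IsClosedImmersion j'.left := hFO.1.1
  haveI : Surjective j'.left := hFO.1.2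
  have hk : j'.left.ker * j'.left.ker = ⊥ := hFO.2
  -- `b` factors through the open subspace `U`
  obtain ⟨b₀, hb₀u⟩ : ∃ b₀ : (AlgSp.yon S).obj T' ⟶ U, b₀ ≫ u = b := by
    obtain ⟨O, ι, b', sqO⟩ := hu.1 b
    haveI : IsOpenImmersion ι.left := hu.2 b b' ι sqO
    obtain ⟨l', -, hl'⟩ : ∃ l', l' ≫ b' = a ≫ ci ∧ l' ≫ (AlgSp.yon S).map ι = (AlgSp.yon S).map j' :=
      ⟨sqO.lift (a ≫ ci) ((AlgSp.yon S).map j') (by rw [Category.assoc, comm]),
        sqO.lift_fst _ _ _, sqO.lift_snd _ _ _⟩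
    obtain ⟨l, rfl⟩ := (AlgSp.yon S).map_surjective l'
    have hl : l ≫ ι = j' := (AlgSp.yon S).map_injective (by rw [Functor.map_comp]; exact hl')
    haveI : Surjective ι.left := by
      constructor
      intro t'
      obtain ⟨t, rfl⟩ := j'.left.surjective t'
      refine ⟨l.left t, ?_⟩
      have := congrArg (fun m => m.left) hl
      simp only [Over.comp_left] at this
      calc ι.left (l.left t) = (l.left ≫ ι.left) t := rfl
        _ = j'.left t := by rw [this]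
    haveI : IsIso ι.left := (isIso_iff_isOpenImmersion_and_surjective _).2 ⟨inferInstance, inferInstance⟩
    haveI : IsIso ((Over.forget S).map ι) := ‹IsIso ι.left›
    haveI : IsIso ι := isIso_of_reflects_iso ι (Over.forget S)
    refine ⟨(AlgSp.yon S).map (inv ι) ≫ b', ?_⟩
    rw [Category.assoc, sqO.w, ← Functor.map_comp_assoc, IsIso.inv_hom_id,
      CategoryTheory.Functor.map_id, Category.id_comp]
  have hb₀ : (AlgSp.yon S).map j' ≫ b₀ = a ≫ ci := by
    rw [← cancel_mono u, Category.assoc, hb₀u, comm, Category.assoc]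
  -- the pullback of `Z₁` to `T'`
  obtain ⟨K₁, κ₁, f₁, sqK₁⟩ := hN.2.2.1.1 b₀
  haveI : IsClosedImmersion κ₁.left := hN.2.2.1.2 b₀ f₁ κ₁ sqK₁
  have hloc : ∀ t' : T'.left, ∃ (Vk : Scheme.{u}) (c : Vk ⟶ T'.left), Flat c ∧ t' ∈ Set.range c ∧
      ∀ x, κ₁.left.appTop.hom x = 0 → c.appTop.hom x = 0 := by
    intro t'
    obtain ⟨T₁, Vα, c, m, bα, hT₁, hVα, hc, ht, hb, hcomm⟩ := exists_chart_factor hU b₀ t'
    obtain ⟨WU, sU, fU, sqU⟩ := hN.2.1.1 bα
    obtain ⟨WU₁, sU₁, fU₁, sqU₁⟩ := hN.2.2.1.1 bα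
    have hker : sU₁.left.ker = sU.left.ker ^ (1 + 1) := hN.2.2.2 bα fU sU fU₁ sU₁ hVα hb sqU sqU₁
    haveI : IsClosedImmersion sU.left := hN.2.1.2 bα fU sU sqU
    haveI : IsClosedImmersion sU₁.left := hN.2.2.1.2 bα fU₁ sU₁ sqU₁
    haveI : IsAffine T₁.left := hT₁
    haveI : IsAffine Vα.left := hVα
    haveI : Etale c.left := hc
    have hP₁ : IsPullback (pullback.fst m sU₁).left (pullback.snd m sU₁).left m.left sU₁.left :=
      (IsPullback.of_hasPullback m sU₁).map (Over.forget S)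
    have hQ : IsPullback (pullback.fst c j').left (pullback.snd c j').left c.left j'.left :=
      (IsPullback.of_hasPullback c j').map (Over.forget S)
    haveI : IsClosedImmersion (pullback.fst c j').left :=
      MorphismProperty.of_isPullback (P := @IsClosedImmersion) hQ.flip inferInstance
    have hqk := ker_appTop_mul_self (pullback.fst c j').left
      (sqZero_of_isPullback c.left j'.left _ _ hQ hk)
    -- `Q ⟶ T₁ ⟶ Vα` factors through `WU`
    have comm' : ((AlgSp.yon S).map (pullback.snd c j') ≫ a) ≫ ci =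
        (AlgSp.yon S).map (pullback.fst c j' ≫ m) ≫ bα := by
      rw [Category.assoc, ← hb₀, ← Functor.map_comp_assoc, ← pullback.condition,
        Functor.map_comp_assoc, hcomm, Functor.map_comp, Category.assoc]
    obtain ⟨r', -, hr'⟩ : ∃ r', r' ≫ fU = (AlgSp.yon S).map (pullback.snd c j') ≫ a ∧
        r' ≫ (AlgSp.yon S).map sU = (AlgSp.yon S).map (pullback.fst c j' ≫ m) :=
      ⟨sqU.lift _ _ comm', sqU.lift_fst _ _ _, sqU.lift_snd _ _ _⟩
    obtain ⟨r, rfl⟩ := (AlgSp.yon S).map_surjective r'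
    have hr : r ≫ sU = pullback.fst c j' ≫ m :=
      (AlgSp.yon S).map_injective (by rw [Functor.map_comp]; exact hr')
    have hrl : (pullback.fst c j').left ≫ m.left = r.left ≫ sU.left := by
      rw [← Over.comp_left, ← Over.comp_left, hr]
    have hbot := ker_fst_eq_bot_of_sq m.left sU.left sU₁.left hker _ _ hP₁
      (pullback.fst c j').left r.left hrl hqk
    -- `P₁ ⟶ K₁`
    have comm'' : ((AlgSp.yon S).map (pullback.snd m sU₁) ≫ fU₁) ≫ k =
        (AlgSp.yon S).map (pullback.fst m sU₁ ≫ c) ≫ b₀ := by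
      rw [Category.assoc, sqU₁.w, ← Functor.map_comp_assoc, ← pullback.condition,
        Functor.map_comp_assoc, ← hcomm, Functor.map_comp, Category.assoc]
    obtain ⟨σ', -, hσ'⟩ : ∃ σ', σ' ≫ f₁ = (AlgSp.yon S).map (pullback.snd m sU₁) ≫ fU₁ ∧
        σ' ≫ (AlgSp.yon S).map κ₁ = (AlgSp.yon S).map (pullback.fst m sU₁ ≫ c) :=
      ⟨sqK₁.lift _ _ comm'', sqK₁.lift_fst _ _ _, sqK₁.lift_snd _ _ _⟩
    obtain ⟨σ, rfl⟩ := (AlgSp.yon S).map_surjective σ'
    have hσ : σ ≫ κ₁ = pullback.fst m sU₁ ≫ c :=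
      (AlgSp.yon S).map_injective (by rw [Functor.map_comp]; exact hσ')
    refine ⟨T₁.left, c.left, inferInstance, ht, fun x hx => ?_⟩
    have hmem : c.left.appTop.hom x ∈ RingHom.ker (pullback.fst m sU₁).left.appTop.hom := by
      rw [RingHom.mem_ker]
      have h1 : c.left.appTop ≫ (pullback.fst m sU₁).left.appTop =
          κ₁.left.appTop ≫ σ.left.appTop := by
        rw [← Scheme.Hom.comp_appTop, ← Scheme.Hom.comp_appTop, ← Over.comp_left, ← Over.comp_left,
          hσ]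
      have h2 := congrArg (fun φ => φ.hom x) h1
      simp only [CommRingCat.hom_comp, RingHom.comp_apply] at h2
      rw [h2, hx, map_zero]
    rw [hbot] at hmem
    exact hmem
  choose Vk c hc hmem hx using hloc
  haveI : ∀ t, Flat (c t) := hc
  have hinj : Function.Injective κ₁.left.appTop.hom := by
    rw [injective_iff_map_eq_zero]
    intro x hx0
    exact eq_zero_of_forall_appTop_eq_zero Vk c (fun t => ⟨t, hmem t⟩) x (fun t => hx t x hx0)
  haveI : IsIso κ₁.left := IsClosedImmersion.isIso_of_injective_of_isAffine hinj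
  haveI : IsIso ((Over.forget S).map κ₁) := ‹IsIso κ₁.left›
  haveI : IsIso κ₁ := isIso_of_reflects_iso κ₁ (Over.forget S)
  have ha'k : ((AlgSp.yon S).map (inv κ₁) ≫ f₁) ≫ k = b₀ := by
    rw [Category.assoc, sqK₁.w, ← Functor.map_comp_assoc, IsIso.inv_hom_id,
      CategoryTheory.Functor.map_id, Category.id_comp]
  refine ⟨(AlgSp.yon S).map (inv κ₁) ≫ f₁, ⟨?_, ?_⟩, ?_⟩
  · rw [← cancel_mono k, Category.assoc, ha'k, hb₀, Category.assoc, hN.1]
  · rw [← Category.assoc, ha'k, hb₀u]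
  · rintro a'' ⟨-, h2⟩
    rw [← cancel_mono (k ≫ u), h2, ← Category.assoc, ha'k, hb₀u]

end Nbhd

end Groth.Agent.Lib.Helper12.InfNbhdUniv
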