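import Mathlib
import Groth.Agent.Lib.Helper12SubQuotC
set_option backward.isDefEq.respectTransparency.types false

/-!
# The lattice of subobjects in an abelian category: kernels, second isomorphism theorem (helper12)
-/

set_option autoImplicit false
set_option linter.unusedSectionVars false
universe v u
open CategoryTheory CategoryTheory.Limits

namespace Groth.Agent.Lib.Helper12.SubQD

open Groth.Agent.Lib.Helper12.SubQ Groth.Agent.Lib.Helper12.SubQC

variable {C : Type u} [Category.{v} C] [Abelian C] {E : C}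

/-- a subobject killed by the projection to `E / y` is contained in `y` -/
theorem le_of_comp_cokernel_eq_zero {x y : Subobject E} (h : x.arrow ≫ cokernel.π y.arrow = 0) : x ≤ y :=
  Subobject.le_of_comm (Abelian.monoLift y.arrow x.arrow h) (Abelian.monoLift_comp _ _ _)

theorem comp_cokernel_eq_zero_of_le {x y : Subobject E} (h : x ≤ y) : x.arrow ≫ cokernel.π y.arrow = 0 := by
  rw [← Subobject.ofLE_arrow h, Category.assoc, cokernel.condition, Limits.comp_zero]

/-- the intersection as a kernel -/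
theorem inf_eq_mk_kernel (x y : Subobject E) :
    x ⊓ y = Subobject.mk (kernel.ι (x.arrow ≫ cokernel.π y.arrow) ≫ x.arrow) := by
  apply le_antisymm
  · have h1 : Subobject.ofLE (x ⊓ y) x inf_le_left ≫ x.arrow ≫ cokernel.π y.arrow = 0 := by
      rw [← Category.assoc, Subobject.ofLE_arrow]
      exact comp_cokernel_eq_zero_of_le inf_le_right
    refine Subobject.le_mk_of_comm (kernel.lift _ (Subobject.ofLE (x ⊓ y) x inf_le_left) h1) ?_
    rw [← Category.assoc, kernel.lift_ι, Subobject.ofLE_arrow]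
  · apply le_inf
    · exact Subobject.mk_le_of_comm (kernel.ι _) rfl
    · have h1 : (kernel.ι (x.arrow ≫ cokernel.π y.arrow) ≫ x.arrow) ≫ cokernel.π y.arrow = 0 := by
        rw [Category.assoc, kernel.condition]
      exact Subobject.mk_le_of_comm (Abelian.monoLift y.arrow _ h1) (Abelian.monoLift_comp _ _ _)

/-- the sum as a kernel -/
theorem sup_eq_mk_kernel (x y : Subobject E) :
    x ⊔ y = Subobject.mk
      (kernel.ι (cokernel.π x.arrow ≫ cokernel.π (y.arrow ≫ cokernel.π x.arrow))) := by
  apply le_antisymm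
  · apply sup_le
    · refine Subobject.le_mk_of_comm (kernel.lift _ x.arrow ?_) (kernel.lift_ι _ _ _)
      rw [cokernel.condition_assoc, Limits.zero_comp]
    · refine Subobject.le_mk_of_comm (kernel.lift _ y.arrow ?_) (kernel.lift_ι _ _ _)
      rw [← Category.assoc, cokernel.condition]
  · -- the projection to `E / (x ⊔ y)` factors through the double cokernel
    have h1 : (y.arrow ≫ cokernel.π x.arrow) ≫ subV (le_sup_left : x ≤ x ⊔ y) = 0 := by
      rw [Category.assoc, π_subV]
      exact comp_cokernel_eq_zero_of_le le_sup_right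
    have h2 : cokernel.π (x ⊔ y).arrow = cokernel.π x.arrow ≫
        cokernel.π (y.arrow ≫ cokernel.π x.arrow) ≫ cokernel.desc _ _ h1 := by
      rw [cokernel.π_desc, π_subV]
    have h3 : kernel.ι (cokernel.π x.arrow ≫ cokernel.π (y.arrow ≫ cokernel.π x.arrow)) ≫
        cokernel.π (x ⊔ y).arrow = 0 := by
      rw [h2, ← Category.assoc, ← Category.assoc, Category.assoc (kernel.ι _), kernel.condition,
        Limits.zero_comp]
    exact Subobject.mk_le_of_comm (Abelian.monoLift (x ⊔ y).arrow _ h3) (Abelian.monoLift_comp _ _ _)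

/-- `y ⟶ (x ⊔ y) / x` is an epimorphism -/
theorem epi_to_sup_quot (x y : Subobject E) :
    Epi (Subobject.ofLE y (x ⊔ y) le_sup_right ≫ cokernel.π (Subobject.ofLE x (x ⊔ y) le_sup_left)) := by
  apply Preadditive.epi_of_isZero_cokernel
  set ψ := Subobject.ofLE y (x ⊔ y) le_sup_right ≫ cokernel.π (Subobject.ofLE x (x ⊔ y) le_sup_left)
  -- `q : x ⊔ y ⟶ W`
  set q := cokernel.π (Subobject.ofLE x (x ⊔ y) le_sup_left) ≫ cokernel.π ψ with hq
  have hx : x ≤ Subobject.mk (kernel.ι q ≫ (x ⊔ y).arrow) := by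
    refine Subobject.le_mk_of_comm (kernel.lift q (Subobject.ofLE x (x ⊔ y) le_sup_left) ?_) ?_
    · rw [hq, cokernel.condition_assoc, Limits.zero_comp]
    · rw [← Category.assoc, kernel.lift_ι, Subobject.ofLE_arrow]
  have hy : y ≤ Subobject.mk (kernel.ι q ≫ (x ⊔ y).arrow) := by
    refine Subobject.le_mk_of_comm (kernel.lift q (Subobject.ofLE y (x ⊔ y) le_sup_right) ?_) ?_
    · rw [hq, ← Category.assoc, cokernel.condition]
    · rw [← Category.assoc, kernel.lift_ι, Subobject.ofLE_arrow]
  have hle : x ⊔ y ≤ Subobject.mk (kernel.ι q ≫ (x ⊔ y).arrow) := sup_le hx hy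
  have h1 : Subobject.ofLEMk (x ⊔ y) _ hle ≫ kernel.ι q = 𝟙 _ := by
    rw [← cancel_mono (x ⊔ y).arrow, Category.assoc, Subobject.ofLEMk_comp, Category.id_comp]
  have h2 : q = 0 := by
    have : q = (Subobject.ofLEMk (x ⊔ y) _ hle ≫ kernel.ι q) ≫ q := by rw [h1, Category.id_comp]
    rw [this, Category.assoc, kernel.condition, Limits.comp_zero]
  haveI : Epi q := by rw [hq]; exact epi_comp _ _
  rw [IsZero.iff_id_eq_zero, ← cancel_epi q, h2, Limits.zero_comp, Limits.zero_comp]

/-- the second isomorphism theorem for subobjects -/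
theorem nonempty_second_iso (x y : Subobject E) :
    Nonempty (cokernel (Subobject.ofLE x (x ⊔ y) le_sup_left) ≅
      cokernel (Subobject.ofLE (x ⊓ y) y inf_le_right)) := by
  haveI := epi_to_sup_quot x y
  set ψ := Subobject.ofLE y (x ⊔ y) le_sup_right ≫ cokernel.π (Subobject.ofLE x (x ⊔ y) le_sup_left)
    with hψ
  have w : Subobject.ofLE (x ⊓ y) y inf_le_right ≫ ψ = 0 := by
    rw [hψ, ← Category.assoc, Subobject.ofLE_comp_ofLE,
      ← Subobject.ofLE_comp_ofLE (x ⊓ y) x (x ⊔ y) inf_le_left le_sup_left, Category.assoc,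
      cokernel.condition, Limits.comp_zero]
  -- the inclusion of the intersection is a kernel of `ψ`
  have hfac : ∀ {T : C} (t : T ⟶ (y : C)), t ≫ ψ = 0 → (x ⊓ y).Factors (t ≫ y.arrow) := by
    intro T t ht
    have hfx : x.Factors (t ≫ y.arrow) := by
      have h1 : (t ≫ Subobject.ofLE y (x ⊔ y) le_sup_right) ≫
          cokernel.π (Subobject.ofLE x (x ⊔ y) le_sup_left) = 0 := by
        rw [Category.assoc]; exact ht
      have := Abelian.monoLift_comp (Subobject.ofLE x (x ⊔ y) le_sup_left) _ h1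
      have h2 := congrArg (fun f => f ≫ (x ⊔ y).arrow) this
      simp only [Category.assoc, Subobject.ofLE_arrow] at h2
      rw [← h2]
      exact Subobject.factors_comp_arrow _
    have hfy : y.Factors (t ≫ y.arrow) := Subobject.factors_comp_arrow t
    exact (Subobject.inf_factors _).2 ⟨hfx, hfy⟩
  have hlim : IsLimit (KernelFork.ofι (Subobject.ofLE (x ⊓ y) y inf_le_right) w) := by
    refine KernelFork.IsLimit.ofι _ _ (fun {T} t ht => (x ⊓ y).factorThru (t ≫ y.arrow) (hfac t ht))
      (fun {T} t ht => ?_) (fun {T} t ht m hm => ?_)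
    · rw [← cancel_mono y.arrow, Category.assoc, Subobject.ofLE_arrow, Subobject.factorThru_arrow]
    · rw [← cancel_mono (x ⊓ y).arrow, Subobject.factorThru_arrow, ← hm, Category.assoc,
        Subobject.ofLE_arrow]
  have hcolim := Abelian.epiIsCokernelOfKernel _ hlim
  exact ⟨(IsColimit.coconePointUniqueUpToIso (colimit.isColimit _) hcolim).symm⟩

/-- if `y ⟶ z / x` vanishes then `y ≤ x` -/
theorem le_of_ofLE_comp_eq_zero {x y z : Subobject E} (hx : x ≤ z) (hy : y ≤ z)
    (h : Subobject.ofLE y z hy ≫ cokernel.π (Subobject.ofLE x z hx) = 0) : y ≤ x := by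
  refine Subobject.le_of_comm (Abelian.monoLift (Subobject.ofLE x z hx) _ h) ?_
  have := Abelian.monoLift_comp (Subobject.ofLE x z hx) _ h
  have h2 := congrArg (fun f => f ≫ z.arrow) this
  simp only [Category.assoc, Subobject.ofLE_arrow] at h2
  exact h2

/-- if `y ⟶ z / x` is an epimorphism then `x ⊔ y = z` -/
theorem sup_eq_of_epi {x y z : Subobject E} (hx : x ≤ z) (hy : y ≤ z)
    (h : Epi (Subobject.ofLE y z hy ≫ cokernel.π (Subobject.ofLE x z hx))) : x ⊔ y = z := by
  haveI := h
  apply le_antisymm (sup_le hx hy)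
  apply le_of_comp_cokernel_eq_zero
  have hxw : Subobject.ofLE x z hx ≫ z.arrow ≫ cokernel.π (x ⊔ y).arrow = 0 := by
    rw [← Category.assoc, Subobject.ofLE_arrow]
    exact comp_cokernel_eq_zero_of_le le_sup_left
  have hyw : Subobject.ofLE y z hy ≫ z.arrow ≫ cokernel.π (x ⊔ y).arrow = 0 := by
    rw [← Category.assoc, Subobject.ofLE_arrow]
    exact comp_cokernel_eq_zero_of_le le_sup_right
  have h1 : z.arrow ≫ cokernel.π (x ⊔ y).arrow
      = cokernel.π (Subobject.ofLE x z hx) ≫ cokernel.desc _ _ hxw := (cokernel.π_desc _ _ _).symm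
  have h2 : (Subobject.ofLE y z hy ≫ cokernel.π (Subobject.ofLE x z hx)) ≫ cokernel.desc _ _ hxw = 0 := by
    rw [Category.assoc, cokernel.π_desc, hyw]
  have h3 : cokernel.desc _ _ hxw = 0 := by
    rw [← cancel_epi (Subobject.ofLE y z hy ≫ cokernel.π (Subobject.ofLE x z hx)), h2, Limits.comp_zero]
  rw [h1, h3, Limits.comp_zero]

/-- `x / y ⟶ z / y ⟶ z / x` for `y ≤ x ≤ z` -/
theorem quot_shortExact {x y z : Subobject E} (hyx : y ≤ x) (hxz : x ≤ z) :
    (ShortComplex.mk (cokU (Subobject.ofLE y x hyx) (Subobject.ofLE x z hxz)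
        (Subobject.ofLE y z (hyx.trans hxz)) (Subobject.ofLE_comp_ofLE _ _ _ _ _))
      (cokV (Subobject.ofLE y x hyx) (Subobject.ofLE x z hxz)
        (Subobject.ofLE y z (hyx.trans hxz)) (Subobject.ofLE_comp_ofLE _ _ _ _ _))
      (cokU_cokV _ _ _ _)).ShortExact := cok_shortExact _ _ _ _

end Groth.Agent.Lib.Helper12.SubQD
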