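import Mathlib
import Groth.Agent.Lib.Helper12SubQuotC
import Groth.Prelude.Def_StabCat
set_option backward.isDefEq.respectTransparency.types false

/-!
# Concatenation of a chain of a subobject with the preimage of a chain of the quotient (helper12)
-/

set_option autoImplicit false
set_option linter.unusedSectionVars false
universe v u
open CategoryTheory CategoryTheory.Limits

namespace Groth.Agent.Lib.Helper12.SubQE

open Groth.Agent.Lib.Helper12.SubQ Groth.Agent.Lib.Helper12.SubQC StabCat

variable {C : Type u} [Category.{v} C] [Abelian C]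

variable {E F : C} (ι : F ⟶ E) [Mono ι]

theorem junction (s : LTSeries (Subobject F)) (t : LTSeries (Subobject (cokernel ι)))
    (hs1 : s.last = ⊤) (ht0 : t.head = ⊥) :
    (s.map (Subobject.map ι).obj (strictMono_map ι)).last =
      (t.map (Subobject.pullback (cokernel.π ι)).obj (strictMono_pre (cokernel.π ι))).head := by
  rw [LTSeries.last_map, LTSeries.head_map, hs1, ht0, pre_bot, Subobject.map_top]

/-- the concatenation -/
noncomputable def concat (s : LTSeries (Subobject F)) (t : LTSeries (Subobject (cokernel ι)))
    (hs1 : s.last = ⊤) (ht0 : t.head = ⊥) : LTSeries (Subobject E) :=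
  RelSeries.smash (s.map (Subobject.map ι).obj (strictMono_map ι))
    (t.map (Subobject.pullback (cokernel.π ι)).obj (strictMono_pre (cokernel.π ι)))
    (junction ι s t hs1 ht0)

variable (s : LTSeries (Subobject F)) (t : LTSeries (Subobject (cokernel ι)))
    (hs1 : s.last = ⊤) (ht0 : t.head = ⊥)

theorem concat_length : (concat ι s t hs1 ht0).length = s.length + t.length := rfl

theorem concat_head (hs0 : s.head = ⊥) : (concat ι s t hs1 ht0).head = ⊥ := by
  unfold concat
  rw [RelSeries.head_smash, LTSeries.head_map, hs0, Subobject.map_bot]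

theorem concat_last (ht1 : t.last = ⊤) : (concat ι s t hs1 ht0).last = ⊤ := by
  unfold concat
  rw [RelSeries.last_smash, LTSeries.last_map, ht1, Subobject.pullback_top]

theorem nonempty_factor_concat_left (i : Fin s.length) :
    Nonempty (factor (concat ι s t hs1 ht0) (Fin.castAdd t.length i) ≅ factor s i) := by
  have e1 : (concat ι s t hs1 ht0) (Fin.castAdd t.length i).castSucc =
      (Subobject.map ι).obj (s i.castSucc) :=
    RelSeries.smash_castAdd (junction ι s t hs1 ht0) i
  have e2 : (concat ι s t hs1 ht0) (Fin.castAdd t.length i).succ =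
      (Subobject.map ι).obj (s i.succ) :=
    RelSeries.smash_succ_castAdd (junction ι s t hs1 ht0) i
  obtain ⟨e3⟩ := nonempty_coker_map_iso ι (le_of_lt (s.step i))
    ((Subobject.map ι).monotone (le_of_lt (s.step i)))
  exact ⟨(cokerCongr e1 e2 _ _).trans e3⟩

theorem nonempty_factor_concat_right (j : Fin t.length) :
    Nonempty (factor (concat ι s t hs1 ht0) (Fin.natAdd s.length j) ≅ factor t j) := by
  have e1 : (concat ι s t hs1 ht0) (Fin.natAdd s.length j).castSucc =
      (Subobject.pullback (cokernel.π ι)).obj (t j.castSucc) :=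
    RelSeries.smash_natAdd (junction ι s t hs1 ht0) j
  have e2 : (concat ι s t hs1 ht0) (Fin.natAdd s.length j).succ =
      (Subobject.pullback (cokernel.π ι)).obj (t j.succ) :=
    RelSeries.smash_succ_natAdd (junction ι s t hs1 ht0) j
  obtain ⟨e3⟩ := nonempty_coker_pre_iso (cokernel.π ι) (le_of_lt (t.step j))
    ((Subobject.pullback (cokernel.π ι)).monotone (le_of_lt (t.step j)))
  exact ⟨(cokerCongr e1 e2 _ _).trans e3⟩

/-- the graded object of the first chain is a retract of the graded object of the concatenation -/
theorem exists_retract_left : ∃ (a : grObj s ⟶ grObj (concat ι s t hs1 ht0))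
    (b : grObj (concat ι s t hs1 ht0) ⟶ grObj s), a ≫ b = 𝟙 _ := by
  unfold grObj
  let e : ∀ i : Fin s.length, factor (concat ι s t hs1 ht0) (Fin.castAdd t.length i) ≅ factor s i :=
    fun i => Classical.choice (nonempty_factor_concat_left ι s t hs1 ht0 i)
  let a : (∐ fun i : Fin s.length => factor s i) ⟶
      ∐ fun i : Fin (concat ι s t hs1 ht0).length => factor (concat ι s t hs1 ht0) i :=
    Sigma.desc (fun i => (e i).inv ≫
      Sigma.ι (fun i : Fin (concat ι s t hs1 ht0).length => factor (concat ι s t hs1 ht0) i)
        (Fin.castAdd t.length i))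
  let b : (∐ fun i : Fin (concat ι s t hs1 ht0).length => factor (concat ι s t hs1 ht0) i) ⟶
      ∐ fun i : Fin s.length => factor s i :=
    Sigma.desc (fun i => Fin.addCases
      (motive := fun i => factor (concat ι s t hs1 ht0) i ⟶ ∐ fun i : Fin s.length => factor s i)
      (fun i' => (e i').hom ≫ Sigma.ι (fun i : Fin s.length => factor s i) i')
      (fun j => 0) i)
  refine ⟨a, b, ?_⟩
  apply Sigma.hom_ext
  intro i
  rw [Category.comp_id]
  refine (Sigma.ι_desc_assoc _ _ _).trans ?_
  rw [Category.assoc]
  refine (congrArg (fun z => (e i).inv ≫ z) (Sigma.ι_desc _ _)).trans ?_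
  dsimp only
  erw [Fin.addCases_left]
  exact Iso.inv_hom_id_assoc _ _

/-- the graded object of the second chain is a retract of the graded object of the concatenation -/
theorem exists_retract_right : ∃ (a : grObj t ⟶ grObj (concat ι s t hs1 ht0))
    (b : grObj (concat ι s t hs1 ht0) ⟶ grObj t), a ≫ b = 𝟙 _ := by
  unfold grObj
  let e : ∀ j : Fin t.length, factor (concat ι s t hs1 ht0) (Fin.natAdd s.length j) ≅ factor t j :=
    fun j => Classical.choice (nonempty_factor_concat_right ι s t hs1 ht0 j)
  let a : (∐ fun i : Fin t.length => factor t i) ⟶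
      ∐ fun i : Fin (concat ι s t hs1 ht0).length => factor (concat ι s t hs1 ht0) i :=
    Sigma.desc (fun j => (e j).inv ≫
      Sigma.ι (fun i : Fin (concat ι s t hs1 ht0).length => factor (concat ι s t hs1 ht0) i)
        (Fin.natAdd s.length j))
  let b : (∐ fun i : Fin (concat ι s t hs1 ht0).length => factor (concat ι s t hs1 ht0) i) ⟶
      ∐ fun i : Fin t.length => factor t i :=
    Sigma.desc (fun i => Fin.addCases
      (motive := fun i => factor (concat ι s t hs1 ht0) i ⟶ ∐ fun i : Fin t.length => factor t i)
      (fun i' => 0)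
      (fun j => (e j).hom ≫ Sigma.ι (fun j : Fin t.length => factor t j) j) i)
  refine ⟨a, b, ?_⟩
  apply Sigma.hom_ext
  intro j
  rw [Category.comp_id]
  refine (Sigma.ι_desc_assoc _ _ _).trans ?_
  rw [Category.assoc]
  refine (congrArg (fun z => (e j).inv ≫ z) (Sigma.ι_desc _ _)).trans ?_
  dsimp only
  erw [Fin.addCases_right]
  exact Iso.inv_hom_id_assoc _ _

end Groth.Agent.Lib.Helper12.SubQE
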