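import Mathlib
import Groth.Agent.Lib.Helper12JHC
import Groth.Agent.Lib.Helper12SubQuotE
import Groth.Agent.Lib.Helper1PC7
set_option backward.isDefEq.respectTransparency.types false

/-!
# Jordan–Hölder filtrations of a subsheaf and of the quotient, with the same reduced Hilbert polynomial (helper12)
-/

set_option autoImplicit false
set_option linter.style.haveILetI false
set_option linter.unusedSectionVars false
set_option linter.unusedVariables false
universe u
open CategoryTheory CategoryTheory.Limits AlgebraicGeometry TopologicalSpace Opposite Polynomial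

namespace Groth.Agent.Lib.Helper12.JHD

open Groth.Agent.Lib.Helper4.Dev Groth.Agent.Lib.Helper4.CurveChi
  Groth.Agent.Lib.Helper12.Snap Groth.Agent.Lib.Helper12.Pos Groth.Agent.Lib.Helper12.HP
  Groth.Agent.Lib.Helper12.HPB Groth.Agent.Lib.Helper12.HPC Groth.Agent.Lib.Helper12.HPD
  Groth.Agent.Lib.Helper12.HPE Groth.Agent.Lib.Helper12.HPF Groth.Agent.Lib.Helper12.SubQ
  Groth.Agent.Lib.Helper12.SubQB Groth.Agent.Lib.Helper12.SubQC Groth.Agent.Lib.Helper12.SubQD
  Groth.Agent.Lib.Helper12.SubQE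
  Groth.Agent.Lib.Helper12.JHA Groth.Agent.Lib.Helper12.MDA Groth.Agent.Lib.Helper12.HNA
  Groth.Agent.Lib.Helper12.JHB Groth.Agent.Lib.Helper12.JHC StabCat

theorem isZero_factor_of_isZero {C : Type*} [Category C] [Abelian C] {E : C} (hE : IsZero E)
    (s : LTSeries (Subobject E)) (i : Fin s.length) : IsZero (StabCat.factor s i) := by
  have h1 : IsZero ((s i.succ : Subobject E) : C) := IsZero.of_mono (s i.succ).arrow hE
  unfold StabCat.factor
  haveI : Epi (cokernel.π (Subobject.ofLE (s i.castSucc) (s i.succ) (le_of_lt (s.step i)))) :=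
    inferInstance
  exact IsZero.of_epi (cokernel.π (Subobject.ofLE (s i.castSucc) (s i.succ) (le_of_lt (s.step i)))) h1

/-- a retract of a finite locally free module is finite locally free -/
theorem isFinLocFree_of_retract' {X : Scheme.{u}} {M P : X.Modules} (s : M ⟶ P) (r : P ⟶ M)
    (h : s ≫ r = 𝟙 M) (hP : FlatMod.IsFinLocFree P) : FlatMod.IsFinLocFree M := by
  refine Groth.Agent.Lib.Helper1.SPL.isFinLocFree_of_local M (fun x => ?_)
  obtain ⟨U, n, hxU, ⟨e⟩⟩ := hP x
  refine ⟨U, U.ι, inferInstance, by simpa using hxU, ?_⟩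
  refine Groth.Agent.Lib.Helper20.LocFree.isFinLocFree_of_retract
    ((Scheme.Modules.restrictFunctor U.ι).map s ≫ e.hom)
    (e.inv ≫ (Scheme.Modules.restrictFunctor U.ι).map r) ?_
  rw [Category.assoc, Iso.hom_inv_id_assoc, ← Functor.map_comp, h, CategoryTheory.Functor.map_id]

variable (k : Type u) [Field k] (X : Scheme.{u}) [X.Over (Spec (CommRingCat.of k))]
  [IsProper (X ↘ (Spec (CommRingCat.of k)))] (L : X.Modules) (hL : CohB1.IsAmple L) (d : ℕ)

include hL in
theorem exists_jh_of_inC {pE : ℚ[X]} {M : X.Modules} (hM : InC k X L d pE M) :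
    ∃ s : LTSeries (Subobject M), ShStab.IsJHFiltration k X L M d s := by
  rcases hM with h | h
  · refine ⟨RelSeries.singleton _ ⊥, rfl, ?_, fun i => i.elim0⟩
    exact bot_eq_top_of_isZero h
  · exact exists_jh k X L hL d h.1

include hL in
theorem jh_sub_quot {E : X.Modules} (hE : ShStab.IsSemistable k X L E d) (sE : LTSeries (Subobject E))
    (hsE : ShStab.IsJHFiltration k X L E d sE) {G : X.Modules} (ι : G ⟶ E) [Mono ι] (hG : Coh.IsCoh G)
    {pG pE : ℚ[X]} (hpG : ShStab.IsHilbPoly k X L G pG) (hpE : ShStab.IsHilbPoly k X L E pE)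
    (hred : RedEq d pG pE) :
    ∃ (sG : LTSeries (Subobject G)) (sQ : LTSeries (Subobject (cokernel ι))),
      ShStab.IsJHFiltration k X L G d sG ∧ ShStab.IsJHFiltration k X L (cokernel ι) d sQ ∧
      (∃ (a : grObj sG ⟶ grObj sE) (b : grObj sE ⟶ grObj sG), a ≫ b = 𝟙 _) ∧
      (∃ (a : grObj sQ ⟶ grObj sE) (b : grObj sE ⟶ grObj sQ), a ≫ b = 𝟙 _) := by
  have hpE0 := alpha_pos_of_isSemistable k X L hL d hE hpE
  have hGC : InC k X L d pE G := by
    by_cases hG0 : IsZero G
    · exact Or.inl hG0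
    · exact Or.inr ⟨isSemistable_of_sub k X L hL d hpE0 hE hpE (redEq_refl d pE) ι hG hG0 hpG hred,
        fun p hp => by rw [hilbPoly_unique k X hp hpG]; exact hred⟩
  have hQC : InC k X L d pE (cokernel ι) :=
    inC_cokernel_of_mono k X L hL d hpE0 hE hpE (redEq_refl d pE) ι hG hpG hred
  obtain ⟨sG, hsG⟩ := exists_jh_of_inC k X L hL d hGC
  obtain ⟨sQ, hsQ⟩ := exists_jh_of_inC k X L hL d hQC
  obtain ⟨pQ, hpQ⟩ := exists_hilbPoly k X L hL.1 _ (hQC.coh k X L hL d)
  have hu : ShStab.IsJHFiltration k X L E d (concat ι sG sQ hsG.2.1 hsQ.1) := by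
    refine ⟨concat_head ι sG sQ _ _ hsG.1, concat_last ι sG sQ _ _ hsQ.2.1, fun i => ?_⟩
    refine Fin.addCases (motive := fun i =>
      ShStab.IsStable k X L (factor (concat ι sG sQ hsG.2.1 hsQ.1) i) d ∧
        ∀ p q : ℚ[X], ShStab.IsHilbPoly k X L (factor (concat ι sG sQ hsG.2.1 hsQ.1) i) p →
          ShStab.IsHilbPoly k X L E q → RedEq d p q) ?_ ?_ i
    · intro i'
      obtain ⟨e⟩ := nonempty_factor_concat_left ι sG sQ hsG.2.1 hsQ.1 i'
      have hst := (hsG.2.2 i').1
      refine ⟨isStable_of_iso k X L hL d e.symm hst, fun p q hp hq => ?_⟩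
      have hp' : ShStab.IsHilbPoly k X L (factor sG i') p := hilbPoly_of_iso k X L hL.1 e hp
      have h1 := (hsG.2.2 i').2 p pG hp' hpG
      rw [hilbPoly_unique k X hq hpE]
      have hG0 : ¬ IsZero G := fun h0 => hst.2.1 (isZero_factor_of_isZero h0 sG i')
      have h2 : 0 < alpha d pG :=
        alpha_pos_of_isSemistable k X L hL d (hGC.isSemistable k X L d hG0) hpG
      exact redEq_trans h2.ne' h1 hred
    · intro j
      obtain ⟨e⟩ := nonempty_factor_concat_right ι sG sQ hsG.2.1 hsQ.1 j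
      have hst := (hsQ.2.2 j).1
      refine ⟨isStable_of_iso k X L hL d e.symm hst, fun p q hp hq => ?_⟩
      have hp' : ShStab.IsHilbPoly k X L (factor sQ j) p := hilbPoly_of_iso k X L hL.1 e hp
      have h1 := (hsQ.2.2 j).2 p pQ hp' hpQ
      rw [hilbPoly_unique k X hq hpE]
      have hQ0 : ¬ IsZero (cokernel ι) := fun h0 => hst.2.1 (isZero_factor_of_isZero h0 sQ j)
      have h2 : 0 < alpha d pQ :=
        alpha_pos_of_isSemistable k X L hL d (hQC.isSemistable k X L d hQ0) hpQ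
      exact redEq_trans h2.ne' h1 (hQC.redEq k X L hL d hpQ)
  obtain ⟨-, ⟨φ⟩⟩ := jh_unique k X L d hL hE _ sE hu hsE
  obtain ⟨a, b, hab⟩ := exists_retract_left ι sG sQ hsG.2.1 hsQ.1
  obtain ⟨a', b', hab'⟩ := exists_retract_right ι sG sQ hsG.2.1 hsQ.1
  refine ⟨sG, sQ, hsG, hsQ, ⟨a ≫ φ.hom, φ.inv ≫ b, ?_⟩, ⟨a' ≫ φ.hom, φ.inv ≫ b', ?_⟩⟩
  · rw [Category.assoc, Iso.hom_inv_id_assoc, hab]
  · rw [Category.assoc, Iso.hom_inv_id_assoc, hab']

end Groth.Agent.Lib.Helper12.JHD
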