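import Mathlib
import Groth.Agent.S10176
import Groth.Agent.S10177
import Groth.Agent.Lib.Helper12QcPoint
import Groth.Agent.S10265
import Groth.Prelude.Def_AlgSpDec

set_option autoImplicit false
universe u
open CategoryTheory CategoryTheory.Limits AlgebraicGeometry Opposite
open AlgSp

namespace Groth.Agent.Lib.Helper12.Jac

variable {S : Scheme.{u}}

/-- in a decent space, a point all of whose preimages in an atlas are closed points is closed. -/
lemma isClosed_singleton_of_fibre_closed {X : AlgSp.Sp S} (hX : AlgSp.IsDecent X) {A : Over S}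
    (a : (AlgSp.yon S).obj A ⟶ X) (hae : AlgSp.RepWith @Etale a)
    (has : AlgSp.RepWith @Surjective a) (x : AlgSp.Points X)
    (h : ∀ u : ↥A.left, AlgSp.Points.ofPt a u = x → IsClosed ({u} : Set ↥A.left)) :
    IsClosed ({x} : Set (AlgSp.Points X)) := by
  obtain ⟨q, hq, -, hqc⟩ := hX x
  have hfib : IsClosed (AlgSp.Points.ofPt a ⁻¹' {x}) := by
    rw [TopologicalSpace.IsOpenCover.isClosed_iff_coe_preimage (iSup_affineOpens_eq_top A.left)]
    intro O
    let V : Over S := Over.mk (O.1.ι ≫ A.hom)
    let ιO : V ⟶ A := Over.homMk O.1.ι rfl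
    haveI : IsAffine V.left := O.2
    haveI : CompactSpace ↥V.left := inferInstance
    have hb : AlgSp.RepWith @Etale ((AlgSp.yon S).map ιO ≫ a) :=
      MorphismProperty.comp_mem _ _ _
        ((AlgSp.repWith_yon_map_iff _ _).2 (by show Etale O.1.ι; infer_instance)) hae
    have hfin : (AlgSp.Points.ofPt ((AlgSp.yon S).map ιO ≫ a) ⁻¹' {x}).Finite := by
      rw [← hq]
      exact Groth.Agent.Lib.Helper12.QcPoint.finite_fibre_of_quasiCompact q hqc _ hb
    have hpt : ∀ o ∈ (AlgSp.Points.ofPt ((AlgSp.yon S).map ιO ≫ a) ⁻¹' {x}),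
        IsClosed ({o} : Set ↥V.left) := by
      intro o ho
      rw [Set.mem_preimage, Set.mem_singleton_iff, Groth.Agent.S10176.ofPt_map_comp] at ho
      have h1 := h _ ho
      have h2 : ({o} : Set ↥V.left) = O.1.ι ⁻¹' {ιO.left o} := by
        ext o'
        simp only [Set.mem_singleton_iff, Set.mem_preimage]
        constructor
        · rintro rfl; rfl
        · intro h3; exact O.1.ι.isOpenEmbedding.injective h3
      rw [h2]
      exact h1.preimage O.1.ι.continuous
    have hcl := hfin.isClosed_biUnion hpt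
    rw [Set.biUnion_of_singleton] at hcl
    have hset : (Subtype.val ⁻¹' (AlgSp.Points.ofPt a ⁻¹' {x}) :
        Set ↥(O.1 : A.left.Opens)) = (show Set ↥(O.1 : A.left.Opens) from
          AlgSp.Points.ofPt ((AlgSp.yon S).map ιO ≫ a) ⁻¹' {x}) := by
      ext o
      simp only [Set.mem_preimage, Set.mem_singleton_iff]
      rw [Groth.Agent.S10176.ofPt_map_comp]
      rfl
    rw [hset]
    exact hcl
  have hopen := Groth.Agent.S10176.isOpenMap_ofPt a hae
  have hsurj := Groth.Agent.S10177.surjective_ofPt a has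
  have himg : ({x} : Set (AlgSp.Points X))ᶜ =
      AlgSp.Points.ofPt a '' (AlgSp.Points.ofPt a ⁻¹' {x})ᶜ := by
    rw [← Set.preimage_compl, Set.image_preimage_eq _ hsurj]
  rw [← isOpen_compl_iff, himg]
  exact hopen _ hfib.isOpen_compl

/-- a point of a fibre of an etale morphism over a closed point is closed. -/
lemma isClosed_singleton_of_etale {R U : Scheme.{u}} (f : R ⟶ U) [Etale f] (r : ↥R)
    (h : IsClosed ({f r} : Set ↥U)) : IsClosed ({r} : Set ↥R) := by
  haveI : LocallyQuasiFinite f := Groth.Agent.S10265.locallyQuasiFinite_of_unramified _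
  have hF : IsClosed (f ⁻¹' {f r}) := h.preimage f.continuous
  have hd := f.isDiscrete_preimage_singleton (f r)
  haveI : DiscreteTopology ↥(f ⁻¹' {f r}) := hd.to_subtype
  have h1 : IsClosed ({⟨r, rfl⟩} : Set ↥(f ⁻¹' {f r})) := isClosed_discrete _
  have h2 := hF.isClosedEmbedding_subtypeVal.isClosedMap _ h1
  rwa [Set.image_singleton] at h2

/-- transfer closedness of points between two etale charts, one of them Jacobson. -/
lemma isClosed_of_closed_chart {X : AlgSp.Sp S} {U U' : Over S}
    (p : (AlgSp.yon S).obj U ⟶ X) (hp : AlgSp.RepWith @Etale p) [JacobsonSpace ↥U.left]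
    (a' : (AlgSp.yon S).obj U' ⟶ X) (ha' : AlgSp.RepWith @Etale a') (u : ↥U.left) (u' : ↥U'.left)
    (e : AlgSp.Points.ofPt p u = AlgSp.Points.ofPt a' u')
    (hcl : IsClosed ({u'} : Set ↥U'.left)) : IsClosed ({u} : Set ↥U.left) := by
  obtain ⟨R, r2, r1', sq⟩ := hp.1 a'
  obtain ⟨r1, rfl⟩ := (AlgSp.yon S).map_surjective r1'
  haveI : Etale r2.left := hp.2 _ _ r2 sq
  haveI : Etale r1.left := ha'.2 _ _ r1 sq.flip
  obtain ⟨r, hr1, hr2⟩ := Groth.Agent.S10176.exists_point_of_isPullback_yon sq u u' e
  have hr : IsClosed ({r} : Set ↥R.left) :=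
    isClosed_singleton_of_etale r2.left r (by rw [hr2]; exact hcl)
  have := r1.left.closePoints_subset_preimage_closedPoints hr
  rw [Set.mem_preimage, hr1] at this
  exact this

end Groth.Agent.Lib.Helper12.Jac
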