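import Mathlib
import Groth.Agent.Lib.Helper12Jacobson

set_option autoImplicit false
universe u
open CategoryTheory CategoryTheory.Limits AlgebraicGeometry Opposite
open AlgSp

namespace Groth.Agent.Lib.Helper12.Jac

/-- the image of a closed point under an etale morphism from a Jacobson scheme is closed. -/
lemma isClosed_singleton_map_of_etale {V W : Scheme.{u}} (f : V ⟶ W) [Etale f] [Surjective f]
    [JacobsonSpace ↥V] (v : ↥V) (hv : IsClosed ({v} : Set ↥V)) : IsClosed ({f v} : Set ↥W) := by
  rw [← closure_subset_iff_isClosed]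
  intro w' hw'
  rw [← specializes_iff_mem_closure] at hw'
  obtain ⟨v', rfl⟩ := f.surjective w'
  obtain ⟨v'', hv''1, hv''2⟩ := (Flat.generalizingMap (f := f)) hw'
  -- `v''` is closed, by transfer through the fibre product
  obtain ⟨r, hr1, hr2⟩ := Scheme.Pullback.exists_preimage_pullback (f := f) (g := f) v v'' hv''2.symm
  have hr : IsClosed ({r} : Set ↥(pullback f f)) :=
    isClosed_singleton_of_etale (pullback.fst f f) r (by rw [hr1]; exact hv)
  have h2 := (pullback.snd f f).closePoints_subset_preimage_closedPoints hr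
  rw [Set.mem_preimage, hr2] at h2
  have h3 : v' ∈ closure ({v''} : Set ↥V) := specializes_iff_mem_closure.1 hv''1
  have h4 : IsClosed ({v''} : Set ↥V) := h2
  rw [h4.closure_eq, Set.mem_singleton_iff] at h3
  rw [Set.mem_singleton_iff, h3, hv''2]

/-- Jacobson descends along etale surjective morphisms. -/
lemma jacobsonSpace_of_etale_surjective {V W : Scheme.{u}} (f : V ⟶ W) [Etale f] [Surjective f]
    [JacobsonSpace ↥V] : JacobsonSpace ↥W := by
  rw [jacobsonSpace_iff_locallyClosed]
  intro Z hZ hZl
  obtain ⟨w, hw⟩ := hZ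
  obtain ⟨v₀, rfl⟩ := f.surjective w
  have hne : (f ⁻¹' Z).Nonempty := ⟨v₀, hw⟩
  obtain ⟨v, hv1, hv2⟩ := nonempty_inter_closedPoints hne (hZl.preimage f.continuous)
  exact ⟨f v, hv1, isClosed_singleton_map_of_etale f v hv2⟩

end Groth.Agent.Lib.Helper12.Jac
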