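import Mathlib
import Groth.Agent.S10340
import Groth.Agent.Lib.Helper12QcPoint

set_option autoImplicit false
universe u
open CategoryTheory CategoryTheory.Limits AlgebraicGeometry Opposite
open AlgSp

namespace Groth.Agent.Lib.Helper12.Jac3

variable {S : Scheme.{u}}

/-- an affine scheme etale over a decent space whose space of points is Jacobson is Jacobson. -/
theorem jacobsonSpace_chart (X : AlgSp.Space S) (hX : AlgSp.IsDecent X.obj)
    [JacobsonSpace (AlgSp.Points X.obj)] {V : Over S} [IsAffine V.left]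
    (b : (AlgSp.yon S).obj V ⟶ X.obj) (hb : AlgSp.RepWith @Etale b) : JacobsonSpace ↥V.left := by
  haveI : CompactSpace ↥V.left := inferInstance
  rw [jacobsonSpace_iff_locallyClosed]
  rintro Z ⟨z, hz⟩ ⟨O, C, hO, hC, rfl⟩
  obtain ⟨q, hq, -, hqc⟩ := hX (AlgSp.Points.ofPt b z)
  have hfin : (AlgSp.Points.ofPt b ⁻¹' {AlgSp.Points.ofPt b z}).Finite := by
    rw [← hq]
    exact Groth.Agent.Lib.Helper12.QcPoint.finite_fibre_of_quasiCompact q hqc b hb
  let K : Set ↥V.left := ⋃ z' ∈ (AlgSp.Points.ofPt b ⁻¹' {AlgSp.Points.ofPt b z}) \ {z},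
    closure ({z'} : Set ↥V.left)
  have hK : IsClosed K := (hfin.diff).isClosed_biUnion (fun _ _ => isClosed_closure)
  have hzK : z ∉ K := by
    intro h
    obtain ⟨z', hz', hzz'⟩ := Set.mem_iUnion₂.1 h
    have hs : z' ⤳ z := specializes_iff_mem_closure.2 hzz'
    have he : AlgSp.Points.ofPt b z = AlgSp.Points.ofPt b z' := hz'.1.symm
    exact hz'.2 (Groth.Agent.S10340.result X hX b hb z z' he hs).symm
  let O' : Set ↥V.left := O ∩ Kᶜ
  have hO' : IsOpen O' := hO.inter hK.isOpen_compl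
  have hzO' : z ∈ O' := ⟨hz.1, hzK⟩
  have hT : IsLocallyClosed (closure ({AlgSp.Points.ofPt b z} : Set (AlgSp.Points X.obj)) ∩
      AlgSp.Points.ofPt b '' O') :=
    isClosed_closure.isLocallyClosed.inter
      ((Groth.Agent.S10176.isOpenMap_ofPt b hb) _ hO').isLocallyClosed
  have hTne : (closure ({AlgSp.Points.ofPt b z} : Set (AlgSp.Points X.obj)) ∩
      AlgSp.Points.ofPt b '' O').Nonempty :=
    ⟨AlgSp.Points.ofPt b z, subset_closure rfl, ⟨z, hzO', rfl⟩⟩
  obtain ⟨y, ⟨hy1, v, hvO', rfl⟩, hy2⟩ := nonempty_inter_closedPoints hTne hT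
  have hspec : AlgSp.Points.ofPt b z ⤳ AlgSp.Points.ofPt b v := specializes_iff_mem_closure.2 hy1
  obtain ⟨z'', hz''1, hz''2⟩ := Groth.Agent.Lib.Helper12.QcPoint.exists_generization
    (AlgSp.Points.ofPt b v) (AlgSp.Points.ofPt b z) hspec q hq hqc b hb v rfl
  have hz''z : z'' = z := by
    by_contra hne
    apply hvO'.2
    exact Set.mem_iUnion₂.2 ⟨z'', ⟨hz''2, hne⟩, specializes_iff_mem_closure.1 hz''1⟩
  rw [hz''z] at hz''1
  have hvC : v ∈ C := by
    have h1 : v ∈ closure ({z} : Set ↥V.left) := specializes_iff_mem_closure.1 hz''1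
    exact (hC.closure_subset_iff.2 (Set.singleton_subset_iff.2 hz.2)) h1
  refine ⟨v, ⟨hvO'.1, hvC⟩, ?_⟩
  show IsClosed ({v} : Set ↥V.left)
  rw [← closure_subset_iff_isClosed]
  intro v' hv'
  have hs : v ⤳ v' := specializes_iff_mem_closure.2 hv'
  have hFy : IsClosed (AlgSp.Points.ofPt b ⁻¹' {AlgSp.Points.ofPt b v}) :=
    (show IsClosed ({AlgSp.Points.ofPt b v} : Set (AlgSp.Points X.obj)) from hy2).preimage
      (AlgSp.Points.continuous_ofPt b)
  have hv'F : v' ∈ AlgSp.Points.ofPt b ⁻¹' {AlgSp.Points.ofPt b v} :=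
    (hFy.closure_subset_iff.2 (Set.singleton_subset_iff.2 rfl)) hv'
  exact Groth.Agent.S10340.result X hX b hb v' v hv'F hs

end Groth.Agent.Lib.Helper12.Jac3
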