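import Groth.Prelude.Def_AlgGrp
import Groth.Agent.Lib.Helper12QuotGrp

/-!
# Kernels of homomorphisms of group objects and kernel pairs
-/

set_option autoImplicit false
universe v u₁ u

open CategoryTheory Limits MonoidalCategory CartesianMonoidalCategory MonObj GrpObj

namespace Groth.Agent.Lib.Helper12.Kernel

section Abstract

variable {C : Type u₁} [Category.{v} C] [CartesianMonoidalCategory C]
variable {N G Q : C} [GrpObj G] [GrpObj Q]

lemma act_eq' (u : N ⟶ G) : (G ◁ u) ≫ μ[G] = fst G N * (snd G N ≫ u) := by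
  rw [mul_eq_mul, comp_mul]; simp

lemma lift_act' (u : N ⟶ G) {T : C} (g : T ⟶ G) (h : T ⟶ N) :
    lift g h ≫ (G ◁ u) ≫ μ[G] = g * (h ≫ u) := by
  rw [act_eq', comp_mul]; simp

/-- If `i : N ⟶ G` is the kernel of the homomorphism `q : G ⟶ Q`, then the kernel pair of `q` is
`G ⊗ N ⇉ G` given by `(g, n) ↦ g * i n` and the first projection. -/
theorem isPullback_act_of_isKernel (i : N ⟶ G) (q : G ⟶ Q) [IsMonHom q]
    (hK : IsPullback i (toUnit N) q η[Q]) :
    IsPullback ((G ◁ i) ≫ μ[G]) (fst G N) q q := by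
  have hiq : i ≫ q = 1 := by rw [hK.w, Hom.one_def]
  have hmono : Mono i := by
    refine ⟨fun a b hab => hK.hom_ext hab (toUnit_unique _ _)⟩
  refine ⟨⟨?_⟩, ⟨PullbackCone.IsLimit.mk _ (fun s => lift s.snd
    (hK.lift (s.snd⁻¹ * s.fst) (toUnit _) ?_)) ?_ ?_ ?_⟩⟩
  · rw [act_eq', mul_comp, Category.assoc, hiq, comp_one, _root_.mul_one]
  · rw [mul_comp, inv_comp, s.condition, inv_mul_cancel, Hom.one_def]
  · intro s
    rw [lift_act', hK.lift_fst]
    group
  · intro s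
    exact lift_fst _ _
  · intro s m h1 h2
    have hm : m = lift (m ≫ fst G N) (m ≫ snd G N) := by
      apply CartesianMonoidalCategory.hom_ext <;> simp
    rw [hm]
    congr 1
    apply hK.hom_ext
    · rw [hK.lift_fst]
      rw [hm, lift_act', h2] at h1
      rw [← h1]
      group
    · exact toUnit_unique _ _

/-- Universal property of a quotient homomorphism, from descent for its kernel pair. -/
theorem existsUnique_desc_of_desc {K : C} [GrpObj K] (i : N ⟶ G) (q : G ⟶ Q) [IsMonHom q]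
    [Epi q] [Epi (q ⊗ₘ q)]
    (desc : ∀ (g : G ⟶ K), ((G ◁ i) ≫ μ[G]) ≫ g = fst G N ≫ g → ∃ f : Q ⟶ K, q ≫ f = g)
    (f : G ⟶ K) [IsMonHom f] (hf : i ≫ f = toUnit N ≫ η[K]) :
    ∃! g : Q ⟶ K, q ≫ g = f ∧ IsMonHom g := by
  obtain ⟨g, hg⟩ := desc f (by
    have hf' : i ≫ f = 1 := by rw [hf, Hom.one_def]
    rw [act_eq', mul_comp, Category.assoc, hf', comp_one, _root_.mul_one])
  refine ⟨g, ⟨hg, ⟨?_, ?_⟩⟩, fun g' hg' => ?_⟩
  · rw [← IsMonHom.one_hom q, Category.assoc, hg, IsMonHom.one_hom]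
  · rw [← cancel_epi (q ⊗ₘ q), ← IsMonHom.mul_hom_assoc q, hg, tensorHom_comp_tensorHom_assoc, hg,
      IsMonHom.mul_hom]
  · rw [← cancel_epi q, hg'.1, hg]

end Abstract

end Groth.Agent.Lib.Helper12.Kernel
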