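import Mathlib
import Groth.Agent.Lib.Helper5LocalFlat3

set_option autoImplicit false
universe u

namespace Groth.Agent.Lib.Helper12.LocFreeAdicA

open TensorProduct

/-- A finite module `P` over a Noetherian ring `B` which becomes flat over quotients `B → B'`
with kernels in arbitrarily high powers of an ideal `𝔞` is flat at all primes containing `𝔞`. -/
theorem flat_atPrime_of_levels {B : Type u} [CommRing B] [IsNoetherianRing B]
    (P : Type u) [AddCommGroup P] [Module B P] [Module.Finite B P] (𝔞 : Ideal B)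
    (h : ∀ n : ℕ, ∃ (B' : Type u) (_ : CommRing B') (_ : Algebra B B'),
      Function.Surjective (algebraMap B B') ∧
      RingHom.ker (algebraMap B B') ≤ 𝔞 ^ (n + 1) ∧
      Module.Flat B' (B' ⊗[B] P))
    (q : Ideal B) [q.IsPrime] (h𝔞 : 𝔞 ≤ q) :
    Module.Flat (Localization.AtPrime q) (LocalizedModule q.primeCompl P) := by
  have hlev : ∀ n : ℕ, 0 < n → Module.Flat (B ⧸ 𝔞 ^ n) ((B ⧸ 𝔞 ^ n) ⊗[B] P) := by
    intro n hn
    obtain ⟨k, rfl⟩ : ∃ k, n = k + 1 := ⟨n - 1, by omega⟩
    obtain ⟨B', _, _, hsurj, hker, hflat⟩ := h k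
    let e : (B ⧸ RingHom.ker (algebraMap B B')) ≃+* B' :=
      RingHom.quotientKerEquivOfSurjective hsurj
    let ψ : B' →+* B ⧸ 𝔞 ^ (k + 1) :=
      (Ideal.Quotient.factor hker).comp e.symm.toRingHom
    have hψ : ∀ r : B, ψ (algebraMap B B' r) = Ideal.Quotient.mk _ r := by
      intro r
      have : e.symm (algebraMap B B' r) = Ideal.Quotient.mk _ r := by
        rw [RingEquiv.symm_apply_eq]
        rfl
      change Ideal.Quotient.factor hker (e.symm (algebraMap B B' r)) = _
      rw [this]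
      rfl
    letI : Algebra B' (B ⧸ 𝔞 ^ (k + 1)) := ψ.toAlgebra
    haveI : IsScalarTower B B' (B ⧸ 𝔞 ^ (k + 1)) :=
      IsScalarTower.of_algebraMap_eq fun r => (hψ r).symm
    have hbc : Module.Flat (B ⧸ 𝔞 ^ (k + 1))
        ((B ⧸ 𝔞 ^ (k + 1)) ⊗[B'] (B' ⊗[B] P)) := inferInstance
    exact Module.Flat.of_linearEquiv
      (TensorProduct.AlgebraTensorModule.cancelBaseChange B B' (B ⧸ 𝔞 ^ (k + 1))
        (B ⧸ 𝔞 ^ (k + 1)) P).symm
  have h1 : Module.Flat B (LocalizedModule q.primeCompl P) :=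
    Groth.Agent.Lib.Helper5.flat_localizedModule_of_flat_baseChange_pow (A := B) (B := B) P
      𝔞 hlev q (by rw [Algebra.algebraMap_self, Ideal.map_id]; exact h𝔞)
  exact (Module.flat_iff_of_isLocalization (Localization.AtPrime q) q.primeCompl
    (LocalizedModule q.primeCompl P)).2 h1

end Groth.Agent.Lib.Helper12.LocFreeAdicA
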