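import Mathlib
import Groth.Prelude.Def_FlatMod2
import Groth.Agent.Lib.Helper12LocFreeAdicA
import Groth.Agent.Lib.Helper2LocFree
import Groth.Agent.Lib.Helper20PullbackAff

set_option autoImplicit false
set_option linter.style.haveILetI false
universe u

open CategoryTheory Limits AlgebraicGeometry TopologicalSpace Opposite TensorProduct

namespace Groth.Agent.Lib.Helper12.LocFreeAdicB

open Groth.Agent.Lib.Helper2.LocFree Groth.Agent.Lib.Helper20.PullbackAff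
  Groth.Agent.Lib.Helper20.Thickening Groth.Agent.Lib.Helper2.QCoh
  Groth.Agent.Lib.Helper23.FinType Groth.Agent.Lib.Helper20.LocFree

variable {X : Scheme.{u}}

theorem mem_primeIdealOf_iff {U : X.Opens} (hU : IsAffineOpen U) (x : X) (hx : x ∈ U)
    (f : Γ(X, U)) : f ∈ (hU.primeIdealOf ⟨x, hx⟩).asIdeal ↔ x ∉ X.basicOpen f := by
  have h1 : hU.fromSpec (hU.primeIdealOf ⟨x, hx⟩) = x := hU.fromSpec_primeIdealOf ⟨x, hx⟩
  have h2 := hU.fromSpec_preimage_basicOpen f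
  have h3 : hU.primeIdealOf ⟨x, hx⟩ ∈ hU.fromSpec ⁻¹ᵁ X.basicOpen f ↔
      hU.primeIdealOf ⟨x, hx⟩ ∈ PrimeSpectrum.basicOpen f := by rw [h2]; rfl
  have h4 : x ∈ X.basicOpen f ↔ hU.fromSpec (hU.primeIdealOf ⟨x, hx⟩) ∈ X.basicOpen f := by
    rw [h1]
  rw [h4]
  have h5 : hU.fromSpec (hU.primeIdealOf ⟨x, hx⟩) ∈ X.basicOpen f ↔
      f ∉ (hU.primeIdealOf ⟨x, hx⟩).asIdeal := h3
  rw [h5, not_not]

theorem exists_restrict_iso_freeMod_of_levels [IsLocallyNoetherian X]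
    (𝓘 : X.IdealSheafData) (F : X.Modules) [F.IsQuasicoherent]
    [SheafOfModules.IsFinitePresentation (R := X.ringCatSheaf) F]
    (h : ∀ n : ℕ, FlatMod.IsFinLocFree
      ((Scheme.Modules.pullback (𝓘 ^ (n + 1)).subschemeι).obj F))
    (x₀ : X) (hx₀ : x₀ ∈ 𝓘.support) :
    ∃ (D : X.Opens) (m : ℕ), x₀ ∈ D ∧
      Nonempty (F.restrict D.ι ≅ FlatMod.freeMod (D : Scheme.{u}) m) := by
  obtain ⟨U, hU, hxU, -, hfp⟩ :=
    Groth.Agent.Lib.Helper2.FinPres.exists_affine_nhds_finitePresentation F x₀ ⊤ trivial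
  haveI : Module.FinitePresentation Γ(X, U) ((ΓUF hU).obj F) :=
    Module.FinitePresentation.of_equiv (ΓUEquiv hU F)
  haveI : IsNoetherianRing Γ(X, U) := IsLocallyNoetherian.component_noetherian ⟨U, hU⟩
  set q := hU.primeIdealOf ⟨x₀, hxU⟩ with hq
  have hflat : Module.Flat (Localization.AtPrime q.asIdeal)
      (LocalizedModule q.asIdeal.primeCompl ((ΓUF hU).obj F)) := by
    refine Groth.Agent.Lib.Helper12.LocFreeAdicA.flat_atPrime_of_levels ((ΓUF hU).obj F)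
      (𝓘.ideal ⟨U, hU⟩) ?_ q.asIdeal ?_
    · intro n
      set ι := (𝓘 ^ (n + 1)).subschemeι with hι
      have hU' : IsAffineOpen (ι ⁻¹ᵁ U) := hU.preimage ι
      set E := (Scheme.Modules.pullback ι).obj F with hE
      haveI : E.IsQuasicoherent := isQuasicoherent_pullback ι F
      letI alg : Algebra Γ(X, U) Γ((𝓘 ^ (n + 1)).subscheme, ι ⁻¹ᵁ U) :=
        (ι.appLE U (ι ⁻¹ᵁ U) le_rfl).hom.toAlgebra
      have happ : ι.appLE U (ι ⁻¹ᵁ U) le_rfl = ι.app U := Scheme.Hom.appLE_eq_app _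
      refine ⟨Γ((𝓘 ^ (n + 1)).subscheme, ι ⁻¹ᵁ U), inferInstance, alg, ?_, ?_, ?_⟩
      · change Function.Surjective (ι.appLE U (ι ⁻¹ᵁ U) le_rfl).hom
        rw [happ]
        exact (𝓘 ^ (n + 1)).subschemeι_app_surjective ⟨U, hU⟩
      · change RingHom.ker (ι.appLE U (ι ⁻¹ᵁ U) le_rfl).hom ≤ _
        rw [happ, Scheme.IdealSheafData.ker_subschemeι_app (𝓘 ^ (n + 1)) ⟨U, hU⟩,
          Scheme.IdealSheafData.ideal_pow]
        exact le_rfl
      · have hfl : Module.Flat Γ((𝓘 ^ (n + 1)).subscheme, ι ⁻¹ᵁ U) Γ(E, ι ⁻¹ᵁ U) :=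
          flat_sections_of_isFlatAt E hU' (fun z _ => isFlat_of_isFinLocFree E (h n) z)
        have hfl2 : Module.Flat Γ((𝓘 ^ (n + 1)).subscheme, ι ⁻¹ᵁ U) ((ΓUF hU').obj E) :=
          Module.Flat.of_linearEquiv (ΓUEquiv hU' E).symm
        let e1 := (ΓUFPullbackIso ι hU hU' le_rfl F).toLinearEquiv
        exact Module.Flat.of_linearEquiv e1.symm
    · intro a ha
      rw [mem_primeIdealOf_iff hU x₀ hxU a]
      have h1 := (Scheme.IdealSheafData.mem_support_iff_of_mem (I := 𝓘) (U := ⟨U, hU⟩) hxU).1 hx₀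
      rw [Scheme.mem_zeroLocus_iff] at h1
      exact h1 a ha
  obtain ⟨f, hf, hfree⟩ := exists_free_away_of_flat_atPrime ((ΓUF hU).obj F) q hflat
  obtain ⟨D, m, hxD, -, hD⟩ := exists_restrict_iso_freeMod_of_free_away F hU x₀ hxU f hf hfree
  exact ⟨D, m, hxD, hD⟩

end Groth.Agent.Lib.Helper12.LocFreeAdicB
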