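import Mathlib
import Groth.Prelude.Def_FlatMod2
import Groth.Prelude.Def_FSch3
import Groth.Agent.Lib.Helper12LocFreeAdicB
import Groth.Agent.Lib.Helper26ModRank
import Groth.Agent.Lib.Helper23FinPres

set_option autoImplicit false
set_option linter.style.haveILetI false
universe u

open CategoryTheory Limits AlgebraicGeometry TopologicalSpace Opposite TensorProduct

namespace Groth.Agent.Lib.Helper12.LocFreeAdicC

open Groth.Agent.Lib.Helper12.LocFreeAdicB

theorem exists_specializes_support (A : Type u) [CommRing A] (I : Ideal A)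
    (hI : I ≤ (⊥ : Ideal A).jacobson) {X : Scheme.{u}}
    (f : X ⟶ Spec (CommRingCat.of A)) [IsProper f] (x : X) :
    ∃ x₀ : X, x ⤳ x₀ ∧ x₀ ∈ ((FSch.idealSpec A I).comap f).support := by
  have hcl : IsClosed (f '' closure {x}) := f.isClosedMap _ isClosed_closure
  have hmem : f x ∈ f '' closure {x} := ⟨x, subset_closure rfl, rfl⟩
  obtain ⟨𝔟, h𝔟⟩ := (PrimeSpectrum.isClosed_iff_zeroLocus_ideal (R := A) _).1 hcl
  have hne : 𝔟 ≠ ⊤ := by
    intro htop
    have hempty : PrimeSpectrum.zeroLocus (𝔟 : Set A) = ∅ :=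
      PrimeSpectrum.zeroLocus_empty_iff_eq_top.2 htop
    rw [h𝔟, hempty] at hmem
    exact hmem
  obtain ⟨M, hM, h𝔟M⟩ := Ideal.exists_le_maximal 𝔟 hne
  let pM : PrimeSpectrum A := ⟨M, hM.isPrime⟩
  have hpM : pM ∈ f '' closure {x} := by
    rw [h𝔟]
    exact h𝔟M
  obtain ⟨x₀, hx₀, hfx₀⟩ := hpM
  refine ⟨x₀, specializes_iff_mem_closure.mpr hx₀, ?_⟩
  rw [Scheme.IdealSheafData.support_comap]
  change f x₀ ∈ (FSch.idealSpec A I).support
  rw [hfx₀]
  apply Scheme.Hom.range_subset_ker_support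
  have hIM : I ≤ M := hI.trans (sInf_le ⟨bot_le, hM⟩)
  have hrange := _root_.range_comap_of_surjective _ _
    (Ideal.Quotient.mk_surjective (I := I))
  have : pM ∈ Set.range (PrimeSpectrum.comap (Ideal.Quotient.mk I)) := by
    rw [hrange, Ideal.mk_ker]
    exact hIM
  obtain ⟨y, hy⟩ := this
  exact ⟨y, hy⟩

theorem main (A : Type u) [CommRing A] [IsNoetherianRing A]
    (I : Ideal A) [IsAdicComplete I A] (X : Scheme.{u}) (f : X ⟶ Spec (CommRingCat.of A))
    [IsProper f] (F : X.Modules) (hF : Coh.IsCoh F) (r : ℕ)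
    (h : ∀ n : ℕ, FlatMod.IsFinLocFreeOfRank r
      ((Scheme.Modules.pullback (FSch.completionToX X ((FSch.idealSpec A I).comap f) n)).obj F)) :
    FlatMod.IsFinLocFreeOfRank r F := by
  set 𝓘 := (FSch.idealSpec A I).comap f with h𝓘
  haveI : IsLocallyNoetherian X := LocallyOfFiniteType.isLocallyNoetherian f
  haveI : F.IsQuasicoherent := hF.1
  haveI : SheafOfModules.IsFiniteType (R := X.ringCatSheaf) F := hF.2
  haveI hfp : SheafOfModules.IsFinitePresentation (R := X.ringCatSheaf) F :=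
    Groth.Agent.Lib.Helper23.FinType.isFinitePresentation_of_isFiniteType F
  intro x
  obtain ⟨x₀, hxx₀, hx₀⟩ := exists_specializes_support A I (IsAdicComplete.le_jacobson_bot I) f x
  have hlf : ∀ n : ℕ, FlatMod.IsFinLocFree
      ((Scheme.Modules.pullback (𝓘 ^ (n + 1)).subschemeι).obj F) := by
    intro n z
    obtain ⟨U, hz, e⟩ := h n z
    exact ⟨U, r, hz, e⟩
  obtain ⟨D, m, hx₀D, ⟨e⟩⟩ := exists_restrict_iso_freeMod_of_levels 𝓘 F hlf x₀ hx₀
  have hm : m = r := by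
    obtain ⟨z₀, hz₀⟩ : ∃ z₀ : (𝓘 ^ (0 + 1)).subscheme, (𝓘 ^ (0 + 1)).subschemeι z₀ = x₀ := by
      have : x₀ ∈ Set.range (𝓘 ^ (0 + 1)).subschemeι := by
        rw [Scheme.IdealSheafData.range_subschemeι, Scheme.IdealSheafData.support_pow_succ]
        exact hx₀
      exact this
    obtain ⟨U', hzU', ⟨j'⟩⟩ :=
      Groth.Agent.Lib.Helper26.ModRank.exists_restrict_iso_freeMod_pullback
        (𝓘 ^ (0 + 1)).subschemeι F e z₀ (by rw [hz₀]; exact hx₀D)
    obtain ⟨U'', hzU'', ⟨j''⟩⟩ := h 0 z₀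
    haveI : ((Scheme.Modules.pullback (𝓘 ^ (0 + 1)).subschemeι).obj F).IsQuasicoherent :=
      Groth.Agent.Lib.Helper20.PullbackAff.isQuasicoherent_pullback _ F
    exact Groth.Agent.Lib.Helper26.ModRank.eq_of_restrict_iso_freeMod
      ((Scheme.Modules.pullback (𝓘 ^ (0 + 1)).subschemeι).obj F) j' j'' z₀ hzU' hzU''
  subst hm
  exact ⟨D, hxx₀.mem_open D.2 hx₀D, ⟨e⟩⟩

end Groth.Agent.Lib.Helper12.LocFreeAdicC
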