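import Mathlib
import Groth.Agent.Lib.Helper12LocPCases
import Groth.Agent.S10176
import Groth.Agent.S10177
import Groth.Prelude.Def_AlgSpDec
import Groth.Agent.S9947
import Groth.Agent.S9906
import Groth.Agent.S10210
import Groth.Agent.Lib.Helper12OpenSub
import Groth.Agent.Lib.Helper12LargestOpen

/-!
# `LocP P` versus `P` near points (helper12)
-/

set_option autoImplicit false
universe u
open CategoryTheory CategoryTheory.Limits AlgebraicGeometry
open AlgSp

namespace Groth.Agent.Lib.Helper12.LocPNbhd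

open MorphismProperty Groth.Agent.Lib.Helper12.LocPCases

variable {S : Scheme.{u}}

lemma zlocal_of_cases (P : MorphismProperty Scheme.{u})
    (hP : P = @LocallyOfFiniteType ∨ P = @LocallyOfFinitePresentation ∨ P = @Flat ∨ P = @Smooth ∨
      P = @Etale ∨
      (∀ ⦃A B : Scheme.{u}⦄ (g : A ⟶ B), P g ↔ (LocallyQuasiFinite g ∧ LocallyOfFiniteType g)) ∨
      (∀ ⦃A B : Scheme.{u}⦄ (g : A ⟶ B), P g ↔ (LocallyOfFiniteType g ∧ FormallyUnramified g))) :
    IsZariskiLocalAtSource P := by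
  rcases hP with rfl | rfl | rfl | rfl | rfl | h6 | h7
  · infer_instance
  · infer_instance
  · infer_instance
  · infer_instance
  · infer_instance
  · have hPeq : P = (@LocallyQuasiFinite ⊓ @LocallyOfFiniteType : MorphismProperty Scheme.{u}) := by
      ext A B g
      exact h6 g
    subst hPeq
    infer_instance
  · have hPeq : P = (@LocallyOfFiniteType ⊓ @FormallyUnramified : MorphismProperty Scheme.{u}) := by
      ext A B g
      exact h7 g
    subst hPeq
    infer_instance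

/-- transport of "`P` near a point" between chart diagrams. -/
lemma exists_open_of_chart {P : MorphismProperty Scheme.{u}} (hP : Good P)
    {X Y : AlgSp.Sp S} (f : X ⟶ Y)
    {U V : Over S} (a : (AlgSp.yon S).obj U ⟶ X) (b : (AlgSp.yon S).obj V ⟶ Y) (h : U ⟶ V)
    (ha : AlgSp.RepWith @Etale a) (hb : AlgSp.RepWith @Etale b)
    (hc : a ≫ f = (AlgSp.yon S).map h ≫ b) (u : ↥U.left)
    {U1 V1 : Over S} (a1 : (AlgSp.yon S).obj U1 ⟶ X) (b1 : (AlgSp.yon S).obj V1 ⟶ Y) (h1 : U1 ⟶ V1)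
    (ha1 : AlgSp.RepWith @Etale a1) (hb1 : AlgSp.RepWith @Etale b1)
    (hc1 : a1 ≫ f = (AlgSp.yon S).map h1 ≫ b1)
    (u1 : ↥U1.left) (e : AlgSp.Points.ofPt a u = AlgSp.Points.ofPt a1 u1)
    (W1 : U1.left.Opens) (hu1 : u1 ∈ W1) (hW1 : P (W1.ι ≫ h1.left)) :
    ∃ W : U.left.Opens, u ∈ W ∧ P (W.ι ≫ h.left) := by
  haveI := hP.comp
  -- `W1` as a scheme over `S`
  let W1o : Over S := Over.mk (W1.ι ≫ U1.hom)
  let ι1 : W1o ⟶ U1 := Over.homMk W1.ι rfl
  have hι1 : AlgSp.RepWith @Etale ((AlgSp.yon S).map ι1) :=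
    (AlgSp.repWith_yon_map_iff _ _).2 (inferInstance : Etale W1.ι)
  have ha1' : AlgSp.RepWith @Etale ((AlgSp.yon S).map ι1 ≫ a1) :=
    (AlgSp.RepWith @Etale).comp_mem _ _ hι1 ha1
  obtain ⟨U2, pr1, pr2', sqU⟩ := ha.1 ((AlgSp.yon S).map ι1 ≫ a1)
  obtain ⟨pr2, rfl⟩ := (AlgSp.yon S).map_surjective pr2'
  haveI : Etale pr1.left := ha.2 _ _ pr1 sqU
  haveI : Etale pr2.left := ha1'.2 _ _ pr2 sqU.flip
  have e' : AlgSp.Points.ofPt a u =
      AlgSp.Points.ofPt ((AlgSp.yon S).map ι1 ≫ a1) (⟨u1, hu1⟩ : ↥W1) := by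
    rw [Groth.Agent.S10176.ofPt_map_comp]
    exact e
  obtain ⟨y, hy1, hy2⟩ := Groth.Agent.S10176.exists_point_of_isPullback_yon sqU u
    (⟨u1, hu1⟩ : ↥W1) e'
  -- the target side
  obtain ⟨V2, q1, q', sqV⟩ := hb.1 b1
  obtain ⟨q, rfl⟩ := (AlgSp.yon S).map_surjective q'
  haveI : Etale q1.left := hb.2 _ _ q1 sqV
  haveI : Etale q.left := hb1.2 _ _ q sqV.flip
  have hcomp : (AlgSp.yon S).map (pr2 ≫ h) ≫ b = (AlgSp.yon S).map (pr1 ≫ ι1 ≫ h1) ≫ b1 := by
    rw [Functor.map_comp, Category.assoc, ← hc, ← Category.assoc, sqU.w, Category.assoc,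
      Category.assoc, hc1, Functor.map_comp, Functor.map_comp, Category.assoc, Category.assoc]
  obtain ⟨m', hm1, hm2⟩ := sqV.exists_lift _ _ hcomp
  obtain ⟨m, rfl⟩ := (AlgSp.yon S).map_surjective m'
  have hm1' : m ≫ q = pr2 ≫ h :=
    (AlgSp.yon S).map_injective (by rw [Functor.map_comp]; exact hm1)
  have hm2' : m ≫ q1 = pr1 ≫ ι1 ≫ h1 :=
    (AlgSp.yon S).map_injective (by rw [Functor.map_comp]; exact hm2)
  have hPm1 : P (m.left ≫ q1.left) := by
    rw [← Over.comp_left, hm2', Over.comp_left, Over.comp_left]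
    exact P.comp_mem _ _ (hP.hEt _ inferInstance) hW1
  have hPm : P m.left := hP.hcancel _ _ inferInstance hPm1
  have hPh : P (pr2.left ≫ h.left) := by
    rw [← Over.comp_left, ← hm1', Over.comp_left]
    exact P.comp_mem _ _ hPm (hP.hEt _ inferInstance)
  -- the open image
  let W : U.left.Opens := ⟨Set.range pr2.left, pr2.left.isOpenMap.isOpen_range⟩
  have hWι : IsOpenImmersion W.ι := inferInstance
  let e2 := hWι.lift W.ι pr2.left (by simp [W])
  have heq : pr2.left = e2 ≫ W.ι := by simp [e2]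
  haveI : Etale e2 := Groth.Agent.Lib.Helper12.SrcLocal.cancel_etale (@Etale)
    (fun j hj => by haveI := hj; infer_instance) e2 W.ι inferInstance
    (by rw [← heq]; infer_instance)
  haveI : Surjective e2 := ⟨fun ⟨x, ⟨y, hy⟩⟩ ↦
    ⟨y, by apply W.ι.injective; simp [← Scheme.Hom.comp_apply, e2, hy]⟩⟩
  refine ⟨W, ⟨y, hy1⟩, ?_⟩
  apply hP.hsrc e2
  rw [← Category.assoc, ← heq]
  exact hPh

/-- a chart diagram through a point. -/
lemma exists_chart {X Y : AlgSp.Sp S} (hX : AlgSp.IsAlgSpace X) (hY : AlgSp.IsAlgSpace Y)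
    (f : X ⟶ Y) (x : AlgSp.Points X) :
    ∃ (U V : Over S) (a : (AlgSp.yon S).obj U ⟶ X) (b : (AlgSp.yon S).obj V ⟶ Y) (h : U ⟶ V)
      (u : ↥U.left), AlgSp.RepWith @Etale a ∧ AlgSp.RepWith @Etale b ∧
        a ≫ f = (AlgSp.yon S).map h ≫ b ∧ AlgSp.Points.ofPt a u = x := by
  obtain ⟨V, b, hbe, hbs⟩ := hY.atlas
  have hXV : AlgSp.IsAlgSpace (pullback f b) :=
    Groth.Agent.S9874.isAlgSpace_of_isPullback hY.diag hX (AlgSp.IsAlgSpace.yon_obj V)
      (IsPullback.of_hasPullback f b)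
  obtain ⟨U, a0, hae, has⟩ := hXV.atlas
  have hpr1 : AlgSp.RepWith @Etale (pullback.fst f b) :=
    MorphismProperty.of_isPullback (P := AlgSp.RepWith @Etale)
      (IsPullback.of_hasPullback f b).flip hbe
  have hpr1s : AlgSp.RepWith @Surjective (pullback.fst f b) :=
    MorphismProperty.of_isPullback (P := AlgSp.RepWith @Surjective)
      (IsPullback.of_hasPullback f b).flip hbs
  obtain ⟨h, hh⟩ := (AlgSp.yon S).map_surjective (a0 ≫ pullback.snd f b)
  have hae' : AlgSp.RepWith @Etale (a0 ≫ pullback.fst f b) :=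
    (AlgSp.RepWith @Etale).comp_mem _ _ hae hpr1
  have has' : AlgSp.RepWith @Surjective (a0 ≫ pullback.fst f b) :=
    (AlgSp.RepWith @Surjective).comp_mem _ _ has hpr1s
  obtain ⟨u, hu⟩ := Groth.Agent.S10177.surjective_ofPt _ has' x
  refine ⟨U, V, a0 ≫ pullback.fst f b, b, h, u, hae', hbe, ?_, hu⟩
  rw [Category.assoc, pullback.condition, ← Category.assoc, hh]

/-- `LocP P f` iff `P` holds near every point in some chart diagram. -/
theorem locP_iff_forall_hasAtMor {P : MorphismProperty Scheme.{u}} (hP : Good P)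
    [IsZariskiLocalAtSource P]
    {X Y : AlgSp.Sp S} (hX : AlgSp.IsAlgSpace X) (hY : AlgSp.IsAlgSpace Y) (f : X ⟶ Y) :
    AlgSp.LocP P f ↔
      ∀ x : AlgSp.Points X,
        AlgSp.HasAtMor (fun U _ h u => ∃ W : U.Opens, u ∈ W ∧ P (W.ι ≫ h)) f x := by
  haveI := hP.comp
  constructor
  · intro hf x
    obtain ⟨U, V, a, b, h, u, ha, hb, hc, hu⟩ := exists_chart hX hY f x
    refine ⟨U, V, a, b, h, u, ha, hb, hc, hu, ⊤, trivial, ?_⟩
    exact P.comp_mem _ _ (hP.hEt _ inferInstance) (hf a b h ha hb hc)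
  · intro H U V a b h ha hb hc
    have key : ∀ u : ↥U.left, ∃ W : U.left.Opens, u ∈ W ∧ P (W.ι ≫ h.left) := by
      intro u
      obtain ⟨U1, V1, a1, b1, h1, u1, ha1, hb1, hc1, hu1, W1, hW1, hPW1⟩ :=
        H (AlgSp.Points.ofPt a u)
      exact exists_open_of_chart hP f a b h ha hb hc u a1 b1 h1 ha1 hb1 hc1 u1 hu1.symm W1 hW1 hPW1
    choose W hW hPW using key
    have hsup : iSup W = ⊤ := by
      rw [eq_top_iff]
      intro u _
      exact TopologicalSpace.Opens.mem_iSup.2 ⟨u, hW u⟩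
    exact (IsZariskiLocalAtSource.iff_of_iSup_eq_top (P := P) W hsup).2 hPW

open Groth.Agent.Lib.Helper12 in
/-- `P` near a point in some chart diagram iff `LocP P` on an open subspace through the point. -/
theorem hasAtMor_iff_exists_open {P : MorphismProperty Scheme.{u}} (hP : Good P)
    {X Y : AlgSp.Space S} (f : X ⟶ Y) (x : AlgSp.Points X.obj) :
    AlgSp.HasAtMor (fun U _ h u => ∃ W : U.Opens, u ∈ W ∧ P (W.ι ≫ h)) f.hom x ↔
      ∃ (X' : AlgSp.Space S) (j : X' ⟶ X), AlgSp.RepWith @IsOpenImmersion j.hom ∧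
        x ∈ Set.range (AlgSp.Points.map j.hom) ∧ AlgSp.LocP P (j ≫ f).hom := by
  haveI := hP.comp
  constructor
  · rintro ⟨U, V, a, b, h, u, ha, hb, hc, hu, W, hW, hPW⟩
    let Wo : Over S := Over.mk (W.ι ≫ U.hom)
    let ι : Wo ⟶ U := Over.homMk W.ι rfl
    have hι : AlgSp.RepWith @Etale ((AlgSp.yon S).map ι) :=
      (AlgSp.repWith_yon_map_iff _ _).2 (inferInstance : Etale W.ι)
    have ha' : AlgSp.RepWith @Etale ((AlgSp.yon S).map ι ≫ a) :=
      (AlgSp.RepWith @Etale).comp_mem _ _ hι ha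
    obtain ⟨Wset, hWset⟩ : ∃ Wset : Set (AlgSp.Points X.obj),
        Wset = Set.range (AlgSp.Points.ofPt ((AlgSp.yon S).map ι ≫ a)) := ⟨_, rfl⟩
    have hopen : IsOpen Wset := by
      rw [hWset]
      exact (Groth.Agent.S10176.isOpenMap_ofPt _ ha').isOpen_range
    have hXW : AlgSp.IsAlgSpace (OpenSub.obj X.obj Wset) := OpenSub.isAlgSpace_obj X.property hopen
    have hincl : AlgSp.RepWith @IsOpenImmersion (OpenSub.incl X.obj Wset) :=
      OpenSub.repWith_incl hopen
    obtain ⟨a'', ha''⟩ := (OpenSub.factor_iff Wset ((AlgSp.yon S).map ι ≫ a)).2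
      (fun t => by rw [hWset]; exact ⟨t, rfl⟩)
    have hea'' : AlgSp.RepWith @Etale a'' := by
      refine MorphismProperty.of_isPullback (P := AlgSp.RepWith @Etale)
        (LargestOpen.isPullback_id_of_mono a'' (OpenSub.incl X.obj Wset)) ?_
      rw [ha'']
      exact ha'
    have hsa'' : AlgSp.RepWith @Surjective a'' := by
      refine Groth.Agent.S9906.repWith_surjective_of_surjective_map a'' hea''.1 ?_
      intro y'
      have h0 : AlgSp.Points.map (OpenSub.incl X.obj Wset) y' ∈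
          Set.range (AlgSp.Points.map (OpenSub.incl X.obj Wset)) := ⟨y', rfl⟩
      have h1 : AlgSp.Points.map (OpenSub.incl X.obj Wset) y' ∈
          Set.range (AlgSp.Points.ofPt ((AlgSp.yon S).map ι ≫ a)) := by
        have h2 := OpenSub.range_map_incl Wset
        rw [h2] at h0
        exact hWset ▸ h0
      obtain ⟨w, hw⟩ := h1
      refine ⟨AlgSp.Points.ofScheme Wo w, ?_⟩
      apply LargestOpen.injective_map_of_open _ hincl
      rw [← hw, ← ha'', ← AlgSp.Points.map_ofPt, AlgSp.Points.ofPt_eq_map_ofScheme]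
    refine ⟨⟨OpenSub.obj X.obj Wset, hXW⟩, ObjectProperty.homMk (OpenSub.incl X.obj Wset),
      hincl, ?_, ?_⟩
    · show x ∈ Set.range (AlgSp.Points.map (OpenSub.incl X.obj Wset))
      rw [OpenSub.range_map_incl]
      have h3 : x ∈ Set.range (AlgSp.Points.ofPt ((AlgSp.yon S).map ι ≫ a)) := by
        rw [← hu]
        refine ⟨(⟨u, hW⟩ : ↥W), ?_⟩
        rw [Groth.Agent.S10176.ofPt_map_comp]
        rfl
      exact hWset ▸ h3
    · show AlgSp.LocP P (OpenSub.incl X.obj Wset ≫ f.hom)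
      refine Groth.Agent.S9947.locP_of_chart P hP.hEt hP.hsrc hP.hcancel Y.property _ a'' b
        (ι ≫ h) hea'' hsa'' hb ?_ ?_
      · rw [← Category.assoc, ha'', Category.assoc, hc, Functor.map_comp, Category.assoc]
      · rw [Over.comp_left]
        exact hPW
  · rintro ⟨X', j, hj, ⟨x', rfl⟩, hjf⟩
    obtain ⟨U, V, a, b, h, u, ha, hb, hc, hu⟩ :=
      exists_chart X'.property Y.property (j ≫ f).hom x'
    have hje : AlgSp.RepWith @Etale j.hom := Groth.Agent.S10210.repWith_etale_of_isOpenImmersion hj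
    refine ⟨U, V, a ≫ j.hom, b, h, u, (AlgSp.RepWith @Etale).comp_mem _ _ ha hje, hb, ?_, ?_,
      ⊤, trivial, ?_⟩
    · rw [Category.assoc]
      exact hc
    · rw [← AlgSp.Points.map_ofPt, hu]
    · exact P.comp_mem _ _ (hP.hEt _ inferInstance) (hjf a b h ha hb hc)

end Groth.Agent.Lib.Helper12.LocPNbhd
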