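import Mathlib

set_option autoImplicit false
universe u

namespace Groth.Agent.Lib.Helper12.LocSepA

/-- if `⟨x i, y j⟩ = δ_ij` for vectors in `Ω^σ` (`σ` finite) then the index set is finite -/
theorem finite_of_dual_family {Ω : Type*} [Field Ω] {ι : Type*} {σ : Type*} [Fintype σ]
    (x y : ι → σ → Ω)
    (h1 : ∀ i, ∑ l, x i l * y i l = 1)
    (h0 : ∀ i j, i ≠ j → ∑ l, x i l * y j l = 0) : Finite ι := by
  classical
  have hli : LinearIndependent Ω x := by
    rw [linearIndependent_iff']
    intro s g hg i hi
    have h2 := congrArg (fun v : σ → Ω => ∑ l, v l * y i l) hg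
    simp only [Finset.sum_apply, Pi.smul_apply, smul_eq_mul, Pi.zero_apply, zero_mul,
      Finset.sum_const_zero] at h2
    have h3 : ∑ l, (∑ k ∈ s, g k * x k l) * y i l = ∑ k ∈ s, g k * ∑ l, x k l * y i l := by
      simp_rw [Finset.sum_mul, Finset.mul_sum]
      rw [Finset.sum_comm]
      refine Finset.sum_congr rfl (fun k _ => Finset.sum_congr rfl (fun l _ => ?_))
      ring
    rw [h3, Finset.sum_eq_single i] at h2
    · rw [h1, mul_one] at h2
      exact h2
    · intro k _ hk
      rw [h0 k i hk, mul_zero]
    · intro hi'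
      exact absurd hi hi'
  exact hli.finite_of_isNoetherian

end Groth.Agent.Lib.Helper12.LocSepA
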