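import Mathlib

set_option autoImplicit false
universe u
open CategoryTheory CategoryTheory.Limits AlgebraicGeometry TensorProduct

namespace Groth.Agent.Lib.Helper12.LocSepB

/-- every global function on a fibre product of affine schemes is a finite sum of products of
functions pulled back from the factors. -/
lemma exists_sum_of_pullback {X Y Z : Scheme.{u}} [IsAffine X] [IsAffine Y] [IsAffine Z]
    (f : X ⟶ Z) (g : Y ⟶ Z) (c : Γ(pullback f g, ⊤)) :
    ∃ F : Finset (Γ(X, ⊤) × Γ(Y, ⊤)),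
      c = ∑ p ∈ F, (pullback.fst f g).appTop.hom p.1 * (pullback.snd f g).appTop.hom p.2 := by
  have hpo := isPushout_appTop_of_isPullback (IsPullback.of_hasPullback f g)
  algebraize [f.appTop.hom, g.appTop.hom]
  have h2 := CommRingCat.isPushout_tensorProduct Γ(Z, ⊤) Γ(X, ⊤) Γ(Y, ⊤)
  have h2' : IsPushout f.appTop g.appTop
      (CommRingCat.ofHom (S := Γ(X, ⊤) ⊗[Γ(Z, ⊤)] Γ(Y, ⊤))
        Algebra.TensorProduct.includeLeftRingHom)
      (CommRingCat.ofHom (S := Γ(X, ⊤) ⊗[Γ(Z, ⊤)] Γ(Y, ⊤))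
        Algebra.TensorProduct.includeRight.toRingHom) := h2
  let e := h2'.isoIsPushout _ _ hpo
  have he1 : ∀ a, e.hom.hom (a ⊗ₜ 1) = (pullback.fst f g).appTop.hom a := by
    intro a
    have := IsPushout.inl_isoIsPushout_hom _ _ h2' hpo
    exact congrArg (fun m => m.hom a) this
  have he2 : ∀ b, e.hom.hom (1 ⊗ₜ b) = (pullback.snd f g).appTop.hom b := by
    intro b
    have := IsPushout.inr_isoIsPushout_hom _ _ h2' hpo
    exact congrArg (fun m => m.hom b) this
  obtain ⟨F, hF⟩ := TensorProduct.exists_finset (e.inv.hom c)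
  refine ⟨F, ?_⟩
  have h3 : c = e.hom.hom (e.inv.hom c) := by
    have := e.inv_hom_id
    exact (congrArg (fun m => m.hom c) this).symm
  rw [h3, hF, map_sum]
  refine Finset.sum_congr rfl (fun p _ => ?_)
  have h4 : (p.1 ⊗ₜ[Γ(Z, ⊤)] p.2 : Γ(X, ⊤) ⊗[Γ(Z, ⊤)] Γ(Y, ⊤)) = (p.1 ⊗ₜ 1) * (1 ⊗ₜ p.2) := by
    rw [Algebra.TensorProduct.tmul_mul_tmul, mul_one, one_mul]
  rw [h4, map_mul, he1, he2]

end Groth.Agent.Lib.Helper12.LocSepB
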