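import Mathlib
import Groth.Agent.Lib.Helper12LocSepA
import Groth.Agent.Lib.Helper12LocSepB

set_option autoImplicit false
set_option backward.isDefEq.respectTransparency.types false
universe u
open CategoryTheory CategoryTheory.Limits AlgebraicGeometry TensorProduct

namespace Groth.Agent.Lib.Helper12.LocSepC

variable {Ω : Type u} [Field Ω]

/-- evaluation of global functions at a field valued point. -/
noncomputable def ev {Y : Scheme.{u}} (y : Spec (CommRingCat.of Ω) ⟶ Y) : Γ(Y, ⊤) →+* Ω :=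
  (Scheme.ΓSpecIso (CommRingCat.of Ω)).hom.hom.comp y.appTop.hom

lemma ev_comp {Y Z : Scheme.{u}} (y : Spec (CommRingCat.of Ω) ⟶ Y) (f : Y ⟶ Z) (c : Γ(Z, ⊤)) :
    ev (y ≫ f) c = ev y (f.appTop.hom c) := by
  simp only [ev, Scheme.Hom.comp_appTop, CommRingCat.hom_comp, RingHom.comp_apply]

lemma ev_eq_zero_of_notMem {Y : Scheme.{u}} (y : Spec (CommRingCat.of Ω) ⟶ Y) (g : Γ(Y, ⊤))
    (h : y (IsLocalRing.closedPoint Ω) ∉ Y.basicOpen g) : ev y g = 0 := by
  by_contra hne
  apply h
  have hu : IsUnit (ev y g) := IsUnit.mk0 _ hne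
  have hu' : IsUnit (y.appTop.hom g) := by
    have : y.appTop.hom g = (Scheme.ΓSpecIso (CommRingCat.of Ω)).inv.hom (ev y g) := by
      simp only [ev, RingHom.comp_apply]
      exact (congrArg (fun m => m.hom (y.appTop.hom g))
        (Scheme.ΓSpecIso (CommRingCat.of Ω)).hom_inv_id).symm
    rw [this]
    exact hu.map _
  have h1 : y ⁻¹ᵁ Y.basicOpen g = ⊤ := by
    rw [Scheme.preimage_basicOpen_top]
    exact Scheme.basicOpen_of_isUnit _ hu'
  have h2 : IsLocalRing.closedPoint Ω ∈ y ⁻¹ᵁ Y.basicOpen g := by rw [h1]; trivial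
  exact h2


/-- Core finiteness: for an equivalence relation `R ⇉ V` on an affine scheme whose diagonal section
is open and which is immersed in the absolute product, every family of pairwise distinct,
pairwise equivalent field valued points is finite. -/
theorem finite_of_immersion {V R T : Scheme.{u}} [IsAffine V] [IsAffine T]
    (hT : ∀ {W : Scheme.{u}} (f g : W ⟶ T), f = g) (q : V ⟶ T) (s t : R ⟶ V) (e : V ⟶ R)
    [IsOpenImmersion e] (hes : e ≫ s = 𝟙 V) (het : e ≫ t = 𝟙 V)
    (himm : IsImmersion (pullback.lift t s (hT _ _) : R ⟶ pullback q q))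
    {ι : Type*} (a : ι → (Spec (CommRingCat.of Ω) ⟶ V))
    (ha : Function.Injective a)
    (hR : ∀ i k, ∃ ρ : Spec (CommRingCat.of Ω) ⟶ R, ρ ≫ t = a i ∧ ρ ≫ s = a k) :
    Finite ι := by
  classical
  set Y := pullback q q with hY
  set j : R ⟶ Y := pullback.lift t s (hT _ _) with hj
  set δ : V ⟶ Y := pullback.lift (𝟙 V) (𝟙 V) rfl with hδdef
  have hjt : j ≫ pullback.fst _ _ = t := pullback.lift_fst _ _ _
  have hjs : j ≫ pullback.snd _ _ = s := pullback.lift_snd _ _ _
  have hδ1 : δ ≫ pullback.fst _ _ = 𝟙 V := pullback.lift_fst _ _ _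
  have hδ2 : δ ≫ pullback.snd _ _ = 𝟙 V := pullback.lift_snd _ _ _
  have hδ : e ≫ j = δ := by
    apply pullback.hom_ext
    · rw [Category.assoc, hjt, het, hδ1]
    · rw [Category.assoc, hjs, hes, hδ2]
  -- the open neighbourhood `N` of the diagonal
  have hemb : Topology.IsEmbedding j := j.isEmbedding
  have hopen : IsOpen (Set.range e) := e.isOpenEmbedding.isOpen_range
  obtain ⟨N, hN, hNe⟩ := hemb.isInducing.isOpen_iff.1 hopen
  have hδN : ∀ v : V, δ v ∈ N := by
    intro v
    have h1 : e v ∈ j ⁻¹' N := by rw [hNe]; exact ⟨v, rfl⟩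
    rw [← hδ]
    exact h1
  set pt : Spec (CommRingCat.of Ω) := IsLocalRing.closedPoint Ω with hpt
  let y : ι → ι → (Spec (CommRingCat.of Ω) ⟶ Y) := fun i k =>
    pullback.lift (a i) (a k) (hT _ _)
  have hy1 : ∀ i k, y i k ≫ pullback.fst _ _ = a i := fun i k => pullback.lift_fst _ _ _
  have hy2 : ∀ i k, y i k ≫ pullback.snd _ _ = a k := fun i k => pullback.lift_snd _ _ _
  have hyd : ∀ i, y i i = a i ≫ δ := by
    intro i
    apply pullback.hom_ext
    · rw [hy1, Category.assoc, hδ1, Category.comp_id]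
    · rw [hy2, Category.assoc, hδ2, Category.comp_id]
  have hP2 : ∀ i k, i ≠ k → (y i k) pt ∉ N := by
    intro i k hik hmem
    obtain ⟨ρ, hρt, hρs⟩ := hR i k
    have hyρ : y i k = ρ ≫ j := by
      apply pullback.hom_ext
      · rw [hy1, Category.assoc, hjt, hρt]
      · rw [hy2, Category.assoc, hjs, hρs]
    have h1 : ρ pt ∈ Set.range e := by
      rw [← hNe]
      show j (ρ pt) ∈ N
      rw [hyρ] at hmem
      exact hmem
    have h2 : Set.range ρ ⊆ Set.range e := by
      rintro _ ⟨z, rfl⟩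
      have : z = pt := Subsingleton.elim _ _
      rw [this]
      exact h1
    have hρ' : IsOpenImmersion.lift e ρ h2 ≫ e = ρ := IsOpenImmersion.lift_fac _ _ _
    apply hik
    apply ha
    rw [← hρt, ← hρs, ← hρ', Category.assoc, Category.assoc, het, hes]
  -- the functions whose basic opens lie in `N`
  let G : Set Γ(Y, ⊤) := {g | ((Y.basicOpen g : Y.Opens) : Set Y) ⊆ N}
  have hspan : Ideal.span (δ.appTop.hom '' G) = ⊤ := by
    rw [← (isAffineOpen_top V).iSup_basicOpen_eq_self_iff, eq_top_iff]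
    intro v _
    obtain ⟨_, ⟨g, rfl⟩, hvg, hgN⟩ :=
      (TopologicalSpace.Opens.isBasis_iff_nbhd.1 (isBasis_basicOpen Y))
        (show δ v ∈ (⟨N, hN⟩ : Y.Opens) from hδN v)
    rw [TopologicalSpace.Opens.mem_iSup]
    refine ⟨⟨δ.appTop.hom g, g, hgN, rfl⟩, ?_⟩
    show v ∈ V.basicOpen (δ.appTop.hom g)
    have := Scheme.preimage_basicOpen_top δ g
    rw [← this]
    exact hvg
  have h1mem : (1 : Γ(V, ⊤)) ∈ Ideal.span (δ.appTop.hom '' G) := by rw [hspan]; trivial
  obtain ⟨n, h, γ, hsum⟩ := Submodule.mem_span_set'.1 h1mem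
  choose g hgG hgγ using fun k => (γ k).2
  let c : Γ(Y, ⊤) := ∑ k, (pullback.fst q q).appTop.hom (h k) * g k
  have hδc : δ.appTop.hom c = 1 := by
    rw [map_sum, ← hsum]
    refine Finset.sum_congr rfl (fun k _ => ?_)
    rw [map_mul, hgγ k, smul_eq_mul]
    congr 1
    have : (pullback.fst q q).appTop ≫ δ.appTop = 𝟙 _ := by
      rw [← Scheme.Hom.comp_appTop, hδ1]; rfl
    exact congrArg (fun m => m.hom (h k)) this
  have hc1 : ∀ i, ev (y i i) c = 1 := by
    intro i
    rw [hyd, ev_comp, hδc, map_one]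
  have hc0 : ∀ i k, i ≠ k → ev (y i k) c = 0 := by
    intro i k hik
    rw [map_sum]
    refine Finset.sum_eq_zero (fun l _ => ?_)
    rw [map_mul, ev_eq_zero_of_notMem (y i k) (g l) (fun hm => hP2 i k hik (hgG l hm)), mul_zero]
  obtain ⟨F, hF⟩ := Groth.Agent.Lib.Helper12.LocSepB.exists_sum_of_pullback
    q q c
  have hev : ∀ i k, ev (y i k) c = ∑ p ∈ F, ev (a i) p.1 * ev (a k) p.2 := by
    intro i k
    rw [hF, map_sum]
    refine Finset.sum_congr rfl (fun p _ => ?_)
    rw [map_mul, ← ev_comp, ← ev_comp, hy1, hy2]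
  refine Groth.Agent.Lib.Helper12.LocSepA.finite_of_dual_family (σ := F)
    (fun i p => ev (a i) p.1.1) (fun k p => ev (a k) p.1.2) ?_ ?_
  · intro i
    rw [Finset.sum_coe_sort F (fun p => ev (a i) p.1 * ev (a i) p.2), ← hev, hc1]
  · intro i k hik
    rw [Finset.sum_coe_sort F (fun p => ev (a i) p.1 * ev (a k) p.2), ← hev, hc0 i k hik]

end Groth.Agent.Lib.Helper12.LocSepC
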