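import Mathlib
import Groth.Agent.S13210
import Groth.Agent.Lib.Helper12MonoPoint

set_option autoImplicit false
universe u
open CategoryTheory CategoryTheory.Limits AlgebraicGeometry Opposite
open AlgSp

namespace Groth.Agent.Lib.Helper12.QSep

open Groth.Agent.S13210

variable {S : Scheme.{u}}

/-- the fibre product `A ×_X T` is the base change of the diagonal of `X` along `A ×_S T ⟶ X × X`. -/
lemma isPullback_diag {X : AlgSp.Sp S} {A T W : Over S} (a : (AlgSp.yon S).obj A ⟶ X)
    (g : (AlgSp.yon S).obj T ⟶ X) (fst : W ⟶ A) (snd : W ⟶ T)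
    (sq : IsPullback ((AlgSp.yon S).map fst) ((AlgSp.yon S).map snd) a g) :
    IsPullback ((AlgSp.yon S).map fst ≫ a) ((AlgSp.yon S).map (prod.lift fst snd))
      (Limits.diag X)
      (prod.lift ((AlgSp.yon S).map (prod.fst : A ⨯ T ⟶ A) ≫ a)
        ((AlgSp.yon S).map (prod.snd : A ⨯ T ⟶ T) ≫ g)) := by
  have hw : ((AlgSp.yon S).map fst ≫ a) ≫ Limits.diag X =
      (AlgSp.yon S).map (prod.lift fst snd) ≫
        prod.lift ((AlgSp.yon S).map (prod.fst : A ⨯ T ⟶ A) ≫ a)
          ((AlgSp.yon S).map (prod.snd : A ⨯ T ⟶ T) ≫ g) := by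
    apply Limits.prod.hom_ext
    · rw [Category.assoc, Category.assoc, Category.assoc, Limits.diag, prod.lift_fst,
        prod.lift_fst, Category.comp_id, ← Category.assoc, ← Functor.map_comp, prod.lift_fst]
    · rw [Category.assoc, Category.assoc, Category.assoc, Limits.diag, prod.lift_snd,
        prod.lift_snd, Category.comp_id, ← Category.assoc, ← Functor.map_comp, prod.lift_snd,
        sq.w]
  refine isPullback_of_yon hw (fun T' b c hbc => ?_)
  obtain ⟨c', rfl⟩ := (AlgSp.yon S).map_surjective c
  have h1 : b = (AlgSp.yon S).map (c' ≫ prod.fst) ≫ a := by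
    have := congrArg (fun m => m ≫ prod.fst) hbc
    simp only [Category.assoc, prod.lift_fst, Limits.diag, Category.comp_id] at this
    rw [this, Functor.map_comp, Category.assoc]
  have h2 : b = (AlgSp.yon S).map (c' ≫ prod.snd) ≫ g := by
    have := congrArg (fun m => m ≫ prod.snd) hbc
    simp only [Category.assoc, prod.lift_snd, Limits.diag, Category.comp_id] at this
    rw [this, Functor.map_comp, Category.assoc]
  obtain ⟨ε', hε'⟩ := (AlgSp.yon S).map_surjective (sq.lift _ _ (h1.symm.trans h2))
  have hε1 : ε' ≫ fst = c' ≫ prod.fst := by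
    apply (AlgSp.yon S).map_injective
    rw [Functor.map_comp, hε', sq.lift_fst]
  have hε2 : ε' ≫ snd = c' ≫ prod.snd := by
    apply (AlgSp.yon S).map_injective
    rw [Functor.map_comp, hε', sq.lift_snd]
  refine ⟨(AlgSp.yon S).map ε', ⟨?_, ?_⟩, ?_⟩
  · rw [← Category.assoc, ← Functor.map_comp, hε1, ← h1]
  · rw [← Functor.map_comp]
    congr 1
    apply Limits.prod.hom_ext
    · rw [Category.assoc, prod.lift_fst, hε1]
    · rw [Category.assoc, prod.lift_snd, hε2]
  · rintro ε2 ⟨-, hε2'⟩
    obtain ⟨ε2', rfl⟩ := (AlgSp.yon S).map_surjective ε2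
    rw [← Functor.map_comp] at hε2'
    have h := (AlgSp.yon S).map_injective hε2'
    congr 1
    apply (AlgSp.yon S).map_injective
    apply sq.hom_ext
    · rw [← Functor.map_comp, ← Functor.map_comp, hε1, ← h, Category.assoc, prod.lift_fst]
    · rw [← Functor.map_comp, ← Functor.map_comp, hε2, ← h, Category.assoc, prod.lift_snd]

/-- Over a base `S`, a representable morphism from a scheme quasi-compact over `S` to a sheaf which is
quasi-separated over `S` is quasi-compact. -/
theorem repWith_quasiCompact_of_quasiSeparated {X : AlgSp.Sp S}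
    (hX : AlgSp.IsQuasiSeparatedSp X) {A : Over S} [QuasiCompact A.hom]
    (a : (AlgSp.yon S).obj A ⟶ X) (ha : AlgSp.Representable a) :
    AlgSp.RepWith @QuasiCompact a := by
  refine ⟨ha, fun T W g fst snd sq => ?_⟩
  obtain ⟨fst', rfl⟩ := (AlgSp.yon S).map_surjective fst
  have sqD := isPullback_diag a g fst' snd sq
  haveI : QuasiCompact (prod.lift fst' snd).left := hX.2 _ _ _ sqD
  haveI : QuasiCompact (prod.snd : A ⨯ T ⟶ T).left := by
    rw [← Over.prodLeftIsoPullback_hom_snd]
    infer_instance
  have : snd.left = (prod.lift fst' snd).left ≫ (prod.snd : A ⨯ T ⟶ T).left := by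
    rw [← Over.comp_left, prod.lift_snd]
  show QuasiCompact snd.left
  rw [this]
  infer_instance

end Groth.Agent.Lib.Helper12.QSep
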