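import Mathlib
import Groth.Agent.Lib.Helper12LocSepC
import Groth.Agent.Lib.Helper12QSep
import Groth.Agent.Lib.Helper12MonoField

set_option autoImplicit false
set_option backward.isDefEq.respectTransparency.types false
universe u
open CategoryTheory CategoryTheory.Limits AlgebraicGeometry Opposite
open AlgSp

namespace Groth.Agent.Lib.Helper12.LocSepD

variable {S : Scheme.{u}}

/-- a section of an etale morphism is an open immersion. -/
theorem isOpenImmersion_of_section {E T : Scheme.{u}} (p : E ⟶ T) [Etale p] (σ : T ⟶ E)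
    (hσ : σ ≫ p = 𝟙 T) : IsOpenImmersion σ := by
  have h1 : MorphismProperty.HasOfPostcompProperty @IsOpenImmersion @Etale := by
    rw [MorphismProperty.hasOfPostcompProperty_iff_le_diagonal]
    intro X Y f hf
    have : Etale f := hf
    exact FormallyUnramified.isOpenImmersion_diagonal (f := f)
  exact MorphismProperty.of_postcomp (W := @IsOpenImmersion) (W' := @Etale) σ p inferInstance
    (by rw [hσ]; infer_instance)

/-- Finite fibres of the projection `V' ×_X V ⟶ V` for a locally separated `X`, an affine etale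
chart `V'` and any `V`. -/
theorem finite_fibre_of_locallySeparated {X : AlgSp.Sp S} (hX : AlgSp.IsLocallySeparatedSp X)
    {V' V P : Over S} [IsAffine V'.left]
    (b' : (AlgSp.yon S).obj V' ⟶ X) (hb' : AlgSp.RepWith @Etale b')
    (b : (AlgSp.yon S).obj V ⟶ X)
    (fst : P ⟶ V') (snd : P ⟶ V)
    (sq : IsPullback ((AlgSp.yon S).map fst) ((AlgSp.yon S).map snd) b' b) (v : ↥V.left) :
    (snd.left ⁻¹' {v}).Finite := by
  classical
  haveI : Etale snd.left := hb'.2 b ((AlgSp.yon S).map fst) snd sq
  -- the relation `R' = V' ×_X V'`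
  obtain ⟨R', s', t'', sqR'⟩ := hb'.1 b'
  obtain ⟨t', rfl⟩ := (AlgSp.yon S).map_surjective t''
  haveI : Etale s'.left := hb'.2 b' _ s' sqR'
  obtain ⟨e', he'⟩ := (AlgSp.yon S).map_surjective (sqR'.lift (𝟙 _) (𝟙 _) rfl)
  have he't : e' ≫ t' = 𝟙 V' := by
    apply (AlgSp.yon S).map_injective
    rw [Functor.map_comp, he', sqR'.lift_fst, CategoryTheory.Functor.map_id]
  have he's : e' ≫ s' = 𝟙 V' := by
    apply (AlgSp.yon S).map_injective
    rw [Functor.map_comp, he', sqR'.lift_snd, CategoryTheory.Functor.map_id]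
  have he't' : e'.left ≫ t'.left = 𝟙 V'.left := by rw [← Over.comp_left, he't]; rfl
  have he's' : e'.left ≫ s'.left = 𝟙 V'.left := by rw [← Over.comp_left, he's]; rfl
  haveI : IsOpenImmersion e'.left := isOpenImmersion_of_section s'.left e'.left he's'
  -- the immersion
  have sqD := Groth.Agent.Lib.Helper12.QSep.isPullback_diag b' b' t' s' sqR'
  haveI : IsImmersion (prod.lift t' s').left := hX.2 _ _ _ sqD
  have hT : ∀ {W : Scheme.{u}} (f g : W ⟶ ⊤_ Scheme.{u}), f = g := fun f g => Subsingleton.elim _ _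
  set q : V'.left ⟶ ⊤_ Scheme.{u} := V'.hom ≫ terminal.from S with hq
  have hlift : (pullback.lift t'.left s'.left (hT _ _) : R'.left ⟶ pullback q q) =
      (prod.lift t' s').left ≫ (Over.prodLeftIsoPullback V' V').hom ≫
        pullback.mapDesc V'.hom V'.hom (terminal.from S) := by
    apply pullback.hom_ext
    · rw [pullback.lift_fst, Category.assoc, Category.assoc, pullback.mapDesc, pullback.lift_fst,
        Category.comp_id, Over.prodLeftIsoPullback_hom_fst, ← Over.comp_left, prod.lift_fst]
    · rw [pullback.lift_snd, Category.assoc, Category.assoc, pullback.mapDesc, pullback.lift_snd,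
        Category.comp_id, Over.prodLeftIsoPullback_hom_snd, ← Over.comp_left, prod.lift_snd]
  have himm : IsImmersion (pullback.lift t'.left s'.left (hT _ _) : R'.left ⟶ pullback q q) := by
    rw [hlift]
    infer_instance
  -- geometric points of the fibre
  let κ := V.left.residueField v
  let Ω := AlgebraicClosure κ
  let c₀ : Spec (CommRingCat.of Ω) ⟶ V.left :=
    Spec.map (CommRingCat.ofHom (algebraMap κ Ω)) ≫ V.left.fromSpecResidueField v
  set pt : Spec (CommRingCat.of Ω) := IsLocalRing.closedPoint Ω with hpt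
  have hc₀ : c₀ pt = v := by
    show (Spec.map (CommRingCat.ofHom (algebraMap κ Ω)) ≫ V.left.fromSpecResidueField v) pt = v
    rw [Scheme.Hom.comp_apply]
    exact Scheme.fromSpecResidueField_apply _ _
  let PT : Over S := Over.mk (c₀ ≫ V.hom)
  let m : PT ⟶ V := Over.homMk c₀ rfl
  have key : ∀ r : snd.left ⁻¹' {v}, ∃ ρ : PT ⟶ P, ρ ≫ snd = m ∧ ρ.left pt = r.1 := by
    rintro ⟨r, hr⟩
    have hr' : snd.left r = c₀ pt := by rw [hc₀]; exact hr
    obtain ⟨z, hz1, hz2⟩ := Scheme.Pullback.exists_preimage_pullback r pt hr'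
    haveI : Etale (pullback.snd snd.left c₀) := inferInstance
    obtain ⟨hdisc, -⟩ :=
      Groth.Agent.Lib.Helper12.MonoField.discrete_reduced_of_etale_field Ω (pullback.snd snd.left c₀)
    have hzcl : IsClosed ({z} : Set ↥(pullback snd.left c₀)) := isClosed_discrete _
    let σ := pointOfClosedPoint (pullback.snd snd.left c₀) z hzcl
    have hσ : σ ≫ pullback.snd snd.left c₀ = 𝟙 _ := pointOfClosedPoint_comp _ _ _
    have hσz : σ pt = z := pointOfClosedPoint_apply _ _ _ _
    have hρ₀ : (σ ≫ pullback.fst snd.left c₀) ≫ snd.left = c₀ := by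
      rw [Category.assoc, pullback.condition, ← Category.assoc, hσ, Category.id_comp]
    refine ⟨Over.homMk (σ ≫ pullback.fst snd.left c₀) ?_, ?_, ?_⟩
    · show (σ ≫ pullback.fst snd.left c₀) ≫ P.hom = c₀ ≫ V.hom
      rw [← Over.w snd, ← Category.assoc, hρ₀]
    · apply Over.OverMorphism.ext
      exact hρ₀
    · show (σ ≫ pullback.fst snd.left c₀) pt = r
      rw [Scheme.Hom.comp_apply, hσz, hz1]
  choose ρ hρm hρpt using key
  let a : snd.left ⁻¹' {v} → (Spec (CommRingCat.of Ω) ⟶ V'.left) := fun r => (ρ r ≫ fst).left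
  have hcomm : ∀ r, (AlgSp.yon S).map (ρ r ≫ fst) ≫ b' = (AlgSp.yon S).map m ≫ b := by
    intro r
    rw [Functor.map_comp, Category.assoc, sq.w, ← Category.assoc, ← Functor.map_comp, hρm]
  have ha : Function.Injective a := by
    intro r r' h
    have h1 : ρ r ≫ fst = ρ r' ≫ fst := Over.OverMorphism.ext h
    have h2 : (AlgSp.yon S).map (ρ r) = (AlgSp.yon S).map (ρ r') := by
      apply sq.hom_ext
      · rw [← Functor.map_comp, ← Functor.map_comp, h1]
      · rw [← Functor.map_comp, ← Functor.map_comp, hρm, hρm]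
    have h3 : ρ r = ρ r' := (AlgSp.yon S).map_injective h2
    apply Subtype.ext
    rw [← hρpt r, ← hρpt r', h3]
  have hR : ∀ r r', ∃ ρ' : Spec (CommRingCat.of Ω) ⟶ R'.left,
      ρ' ≫ t'.left = a r ∧ ρ' ≫ s'.left = a r' := by
    intro r r'
    obtain ⟨w, hw⟩ := (AlgSp.yon S).map_surjective
      (sqR'.lift ((AlgSp.yon S).map (ρ r ≫ fst)) ((AlgSp.yon S).map (ρ r' ≫ fst))
        ((hcomm r).trans (hcomm r').symm))
    refine ⟨w.left, ?_, ?_⟩
    · have : w ≫ t' = ρ r ≫ fst := by
        apply (AlgSp.yon S).map_injective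
        rw [Functor.map_comp, hw, sqR'.lift_fst]
      rw [← Over.comp_left, this]
    · have : w ≫ s' = ρ r' ≫ fst := by
        apply (AlgSp.yon S).map_injective
        rw [Functor.map_comp, hw, sqR'.lift_snd]
      rw [← Over.comp_left, this]
  have hfin : Finite (snd.left ⁻¹' {v}) :=
    Groth.Agent.Lib.Helper12.LocSepC.finite_of_immersion hT q s'.left t'.left e'.left he's' he't'
      himm a ha hR
  exact Set.toFinite _

end Groth.Agent.Lib.Helper12.LocSepD
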