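import Mathlib
import Groth.Agent.Lib.Helper12MuHNA
set_option backward.isDefEq.respectTransparency.types false

/-!
# Slope Harder–Narasimhan filtrations: existence (helper12)
-/

set_option autoImplicit false
set_option linter.style.haveILetI false
set_option linter.unusedSectionVars false
set_option linter.unusedVariables false
universe u
open CategoryTheory CategoryTheory.Limits AlgebraicGeometry TopologicalSpace Opposite Polynomial

namespace Groth.Agent.Lib.Helper12.MuB

open Groth.Agent.Lib.Helper4.Dev Groth.Agent.Lib.Helper4.CurveChi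
  Groth.Agent.Lib.Helper12.Snap Groth.Agent.Lib.Helper12.Pos Groth.Agent.Lib.Helper12.HP
  Groth.Agent.Lib.Helper12.HPB Groth.Agent.Lib.Helper12.HPC Groth.Agent.Lib.Helper12.HPD
  Groth.Agent.Lib.Helper12.HPE Groth.Agent.Lib.Helper12.HPF Groth.Agent.Lib.Helper12.SubQ
  Groth.Agent.Lib.Helper12.SubQB Groth.Agent.Lib.Helper12.SubQC Groth.Agent.Lib.Helper12.JHA
  Groth.Agent.Lib.Helper12.MDA Groth.Agent.Lib.Helper12.HNA Groth.Agent.Lib.Helper12.HNB
  Groth.Agent.Lib.Helper12.MuA StabCat

variable (k : Type u) [Field k] (X : Scheme.{u}) [X.Over (Spec (CommRingCat.of k))]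
  [IsProper (X ↘ (Spec (CommRingCat.of k)))] (L : X.Modules) (hL : CohB1.IsAmple L) (n : ℕ)

/-- pure and slope-semistable -/
def MuSS (G : X.Modules) : Prop := ShStab.IsPure X G n ∧ ShStab.IsMuSemistable k X L G n

/-- slope Harder–Narasimhan filtrations -/
def IsMuHN (E : X.Modules) (s : LTSeries (Subobject E)) : Prop :=
  s.head = ⊥ ∧ s.last = ⊤ ∧ (∀ i : Fin s.length, MuSS k X L n (factor s i)) ∧
    ∀ (i j : Fin s.length), i.val + 1 = j.val →
      ∀ (p q : ℚ[X]), ShStab.IsHilbPoly k X L (factor s i) p → ShStab.IsHilbPoly k X L (factor s j) q →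
        hatSlope n q < hatSlope n p

include hL in
theorem isMuSemistable_of_iso {E E' : X.Modules} (e : E ≅ E') (h : ShStab.IsMuSemistable k X L E n) :
    ShStab.IsMuSemistable k X L E' n := by
  refine ⟨isCoh_of_iso e h.1, fun h0 => h.2.1 (IsZero.of_iso h0 e), ?_, ?_, ?_⟩
  · rw [← HPC.support_eq_of_iso e]; exact h.2.2.1
  · intro F ι hι hF
    haveI := hι
    exact h.2.2.2.1 F (ι ≫ e.inv) (mono_comp _ _) hF
  · intro F ι hι hF pF pE hpF hpE
    haveI := hι
    exact h.2.2.2.2 F (ι ≫ e.inv) (mono_comp _ _) hF pF pE hpF (hilbPoly_of_iso k X L hL.1 e.symm hpE)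

include hL in
theorem muSS_of_iso {E E' : X.Modules} (e : E ≅ E') (h : MuSS k X L n E) : MuSS k X L n E' :=
  ⟨isPure_of_iso X n e h.1, isMuSemistable_of_iso k X L hL n e h.2⟩

open ZeroObject in
include hL in
/-- a pure slope-semistable sheaf has the trivial filtration -/
theorem exists_muhn_of_muSS {E : X.Modules} (hE : MuSS k X L n E) :
    ∃ s : LTSeries (Subobject E), IsMuHN k X L n E s := by
  have hι : ¬ IsIso (0 : (0 : X.Modules) ⟶ E) := fun h => hE.2.2.1 (by
    haveI := h
    exact IsZero.of_iso (isZero_zero _) (asIso (0 : (0 : X.Modules) ⟶ E)).symm)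
  obtain ⟨s', hs0, hs1, hl, hf1, hf2⟩ := exists_extend_top (0 : (0 : X.Modules) ⟶ E) hι
    (RelSeries.singleton _ ⊥) rfl (bot_eq_top_of_isZero (isZero_zero _))
  have hl' : s'.length = 1 := hl
  refine ⟨s', hs0, hs1, ?_, ?_⟩
  · intro i
    have hi : i = ⟨0, by omega⟩ := Fin.ext (by have := i.isLt; omega)
    obtain ⟨e⟩ := hf2
    rw [hi]
    exact muSS_of_iso k X L hL n (e.trans cokernelZeroIsoTarget).symm hE
  · intro i j hij
    exfalso
    have := i.isLt
    have := j.isLt
    omega

include hL in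
/-- extend a filtration of the quotient -/
theorem muhn_extend {E F : X.Modules} (ι : F ⟶ E) [Mono ι] (hF0 : ¬ IsZero F)
    (hFss : MuSS k X L n F) (t : LTSeries (Subobject (cokernel ι)))
    (ht : IsMuHN k X L n (cokernel ι) t)
    (hj : ∀ (hlen : 0 < t.length) (p q : ℚ[X]), ShStab.IsHilbPoly k X L F p →
      ShStab.IsHilbPoly k X L (factor t ⟨0, hlen⟩) q → hatSlope n q < hatSlope n p) :
    ∃ s : LTSeries (Subobject E), IsMuHN k X L n E s := by
  obtain ⟨ht0, ht1, htss, htlt⟩ := ht
  have hhead : (t.map (Subobject.pullback (cokernel.π ι)).obj (strictMono_pre (cokernel.π ι))).head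
      = Subobject.mk ι := by
    rw [LTSeries.head_map, ht0, pre_bot]
  have hlt : ⊥ < (t.map (Subobject.pullback (cokernel.π ι)).obj (strictMono_pre (cokernel.π ι))).head := by
    rw [hhead, bot_lt_iff_ne_bot]
    intro h
    rw [Subobject.mk_eq_bot_iff_zero] at h
    exact hF0 (IsZero.of_mono_eq_zero ι h)
  -- the factors
  have f0 : Nonempty (factor (consSeries ⊥ _ hlt) ⟨0, by simp⟩ ≅ F) := by
    have e1 : (consSeries ⊥ _ hlt) (Fin.castSucc (⟨0, by simp⟩ : Fin (t.length + 1))) = ⊥ := rfl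
    have e2 : (consSeries ⊥ _ hlt) (Fin.succ (⟨0, by simp⟩ : Fin (t.length + 1))) = Subobject.mk ι := hhead
    obtain ⟨e3⟩ := nonempty_coker_bot_iso (Subobject.mk ι) bot_le
    exact ⟨((cokerCongr e1 e2 _ _).trans e3).trans (Subobject.underlyingIso ι)⟩
  have fS : ∀ i : Fin t.length, Nonempty (factor (consSeries ⊥ _ hlt) (Fin.succ i) ≅ factor t i) := by
    intro i
    have e1 : (consSeries ⊥ _ hlt) (Fin.castSucc (Fin.succ i))
        = (Subobject.pullback (cokernel.π ι)).obj (t (Fin.castSucc i)) := rfl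
    have e2 : (consSeries ⊥ _ hlt) (Fin.succ (Fin.succ i))
        = (Subobject.pullback (cokernel.π ι)).obj (t (Fin.succ i)) := rfl
    obtain ⟨e3⟩ := nonempty_coker_pre_iso (cokernel.π ι) (le_of_lt (t.step i))
      ((Subobject.pullback (cokernel.π ι)).monotone (le_of_lt (t.step i)))
    exact ⟨(cokerCongr e1 e2 _ _).trans e3⟩
  refine ⟨consSeries ⊥ _ hlt, rfl, ?_, ?_, ?_⟩
  · rw [consSeries_last, LTSeries.last_map, ht1, Subobject.pullback_top]
  · intro i
    refine Fin.cases ?_ (fun i' => ?_) i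
    · obtain ⟨e⟩ := f0
      exact muSS_of_iso k X L hL n e.symm hFss
    · obtain ⟨e⟩ := fS i'
      exact muSS_of_iso k X L hL n e.symm (htss i')
  · intro i j
    refine Fin.cases ?_ (fun i' => ?_) i
    · refine Fin.cases ?_ (fun j' => ?_) j
      · intro hij; exfalso; simp at hij
      · intro hij p q hp hq
        have hj' : j'.val = 0 := by
          have : (0 : ℕ) + 1 = j'.val + 1 := hij
          omega
        have hlen : 0 < t.length := by
          have h2 : j'.val < t.length := j'.isLt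
          omega
        have hjj : j' = ⟨0, hlen⟩ := Fin.ext hj'
        obtain ⟨e⟩ := f0
        obtain ⟨e'⟩ := fS j'
        rw [hjj] at e'
        exact hj hlen p q (hilbPoly_of_iso k X L hL.1 e hp) (hilbPoly_of_iso k X L hL.1 e' (hjj ▸ hq))
    · refine Fin.cases ?_ (fun j' => ?_) j
      · intro hij; exfalso; simp at hij
      · intro hij p q hp hq
        have hij' : i'.val + 1 = j'.val := by
          have : i'.val + 1 + 1 = j'.val + 1 := hij
          omega
        obtain ⟨e⟩ := fS i'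
        obtain ⟨e'⟩ := fS j'
        exact htlt i' j' hij' p q (hilbPoly_of_iso k X L hL.1 e hp) (hilbPoly_of_iso k X L hL.1 e' hq)

include hL in
theorem exists_muhn_aux (hn : 1 ≤ n) : ∀ (N : ℕ) (E : X.Modules), Coh.IsCoh E → ¬ IsZero E →
    ShStab.IsPure X E n →
    (∀ pE : ℚ[X], ShStab.IsHilbPoly k X L E pE → alpha n pE ≤ (N : ℚ)) →
    ∃ s : LTSeries (Subobject E), IsMuHN k X L n E s := by
  haveI : IsNoetherian X := Groth.Agent.Lib.Helper4.CurveRR.isNoetherian_of_proper k X
  haveI : IsLocallyNoetherian X := inferInstance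
  intro N
  induction N with
  | zero =>
    intro E hE hE0 hp hN
    exfalso
    obtain ⟨pE, hpE⟩ := exists_hilbPoly k X L hL.1 E hE
    have := alpha_pos k X L hL E hE n (dim_eq_of_isPure hp hE hE0) hpE
    have := hN pE hpE
    simp only [Nat.cast_zero] at this
    linarith
  | succ N ih =>
    intro E hE hE0 hp hN
    obtain ⟨pE, hpE⟩ := exists_hilbPoly k X L hL.1 E hE
    have hdimE := dim_eq_of_isPure hp hE hE0
    obtain ⟨F, ι, hmd⟩ := exists_muMaxDestab k X L hL n hn hE hE0 hp
    have hFss := isMuSemistable_of_isMuMaxDestab k X L hL n ι hmd hp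
    have hQp := isPure_cokernel_of_isMuMaxDestab k X L hL n hn hE hE0 hp ι hmd
    haveI : Mono ι := hmd.1
    have hF : Coh.IsCoh F := hmd.2.1
    have hF0 : ¬ IsZero F := hmd.2.2.1
    by_cases hi : IsIso ι
    · haveI := hi
      exact exists_muhn_of_muSS k X L hL n (muSS_of_iso k X L hL n (asIso ι) hFss)
    · have hQ : Coh.IsCoh (cokernel ι) := isCoh_cokernel ι hF hE
      have hQ0 : ¬ IsZero (cokernel ι) := fun h => hi (by
        haveI : Epi ι := Preadditive.epi_of_isZero_cokernel ι h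
        exact isIso_of_mono_of_epi ι)
      obtain ⟨pF, hpF⟩ := exists_hilbPoly k X L hL.1 F hF
      obtain ⟨pQ, hpQ⟩ := exists_hilbPoly k X L hL.1 _ hQ
      have hadd := hilbPoly_eq_add_of_mono k X L hL hF ι hE hpF hpE hpQ
      have haF := alpha_pos k X L hL F hF n (hp F ι inferInstance hF hF0) hpF
      obtain ⟨nF, hnF⟩ := exists_nat_alpha k X L hL n F hF
        ((dim_le_of_mono ι).trans hdimE.le) hpF
      have hnF1 : (1 : ℚ) ≤ alpha n pF := by
        rw [hnF] at haF ⊢
        have : 0 < nF := by exact_mod_cast haF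
        exact_mod_cast this
      have hQN : ∀ p : ℚ[X], ShStab.IsHilbPoly k X L (cokernel ι) p → alpha n p ≤ (N : ℚ) := by
        intro p hp'
        rw [hilbPoly_unique k X hp' hpQ]
        have h1 := hN pE hpE
        rw [hadd, alpha_add] at h1
        push_cast at h1
        linarith
      obtain ⟨t, ht⟩ := ih _ hQ hQ0 hQp hQN
      refine muhn_extend k X L hL n ι hF0 hFss t ht ?_
      intro hlen p q hp' hq
      -- the first factor of `t` is a submodule of the quotient
      have e1 : t (Fin.castSucc (⟨0, hlen⟩ : Fin t.length)) = ⊥ := ht.1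
      obtain ⟨e3⟩ := nonempty_coker_bot_iso (t (Fin.succ (⟨0, hlen⟩ : Fin t.length))) bot_le
      have e : factor t ⟨0, hlen⟩ ≅ ((t (Fin.succ (⟨0, hlen⟩ : Fin t.length)) : Subobject (cokernel ι)) :
          X.Modules) := (cokerCongr e1 rfl _ _).trans e3
      have hss0 := (ht.2.2.1 ⟨0, hlen⟩).2
      exact mu_junction_lt k X L hL n hn hE hE0 hp ι hmd
        (t (Fin.succ (⟨0, hlen⟩ : Fin t.length))).arrow (isCoh_of_iso e hss0.1)
        (fun h0 => hss0.2.1 (IsZero.of_iso h0 e)) hp' (hilbPoly_of_iso k X L hL.1 e hq)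

include hL in
/-- existence of slope Harder–Narasimhan filtrations -/
theorem exists_muhn (hn : 1 ≤ n) {E : X.Modules} (hE : Coh.IsCoh E) (h0 : ¬ IsZero E)
    (hp : ShStab.IsPure X E n) : ∃ s : LTSeries (Subobject E), IsMuHN k X L n E s := by
  obtain ⟨pE, hpE⟩ := exists_hilbPoly k X L hL.1 E hE
  have hdimE := dim_eq_of_isPure hp hE h0
  obtain ⟨N, hN⟩ := exists_nat_alpha k X L hL n E hE hdimE.le hpE
  refine exists_muhn_aux k X L hL n hn N E hE h0 hp (fun p hp' => ?_)
  rw [hilbPoly_unique k X hp' hpE, hN]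

end Groth.Agent.Lib.Helper12.MuB
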