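import Mathlib
import Groth.Agent.Lib.Helper12MuHNB
set_option backward.isDefEq.respectTransparency.types false

/-!
# Slope Harder–Narasimhan filtrations: uniqueness (helper12)
-/

set_option autoImplicit false
set_option linter.style.haveILetI false
set_option linter.unusedSectionVars false
set_option linter.unusedVariables false
universe u
open CategoryTheory CategoryTheory.Limits AlgebraicGeometry TopologicalSpace Opposite Polynomial

namespace Groth.Agent.Lib.Helper12.MuC

open Groth.Agent.Lib.Helper4.Dev Groth.Agent.Lib.Helper4.CurveChi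
  Groth.Agent.Lib.Helper12.Snap Groth.Agent.Lib.Helper12.Pos Groth.Agent.Lib.Helper12.HP
  Groth.Agent.Lib.Helper12.HPB Groth.Agent.Lib.Helper12.HPC Groth.Agent.Lib.Helper12.HPD
  Groth.Agent.Lib.Helper12.HPE Groth.Agent.Lib.Helper12.HPF Groth.Agent.Lib.Helper12.SubQ
  Groth.Agent.Lib.Helper12.SubQB Groth.Agent.Lib.Helper12.SubQC Groth.Agent.Lib.Helper12.JHA
  Groth.Agent.Lib.Helper12.MDA Groth.Agent.Lib.Helper12.HNA Groth.Agent.Lib.Helper12.HNB
  Groth.Agent.Lib.Helper12.MuA Groth.Agent.Lib.Helper12.MuB StabCat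

variable (k : Type u) [Field k] (X : Scheme.{u}) [X.Over (Spec (CommRingCat.of k))]
  [IsProper (X ↘ (Spec (CommRingCat.of k)))] (L : X.Modules) (hL : CohB1.IsAmple L) (n : ℕ)

/-- the data of a slope Harder–Narasimhan chain, as a function on `ℕ` -/
structure IsMuHNChain {E : X.Modules} (S : ℕ → Subobject E) (hS : Monotone S) (N : ℕ) : Prop where
  ss : ∀ j, j < N → MuSS k X L n
    (cokernel (Subobject.ofLE (S j) (S (j + 1)) (hS (Nat.le_succ j))))
  lt : ∀ j, j + 1 < N → ∀ p q : ℚ[X],
    ShStab.IsHilbPoly k X L (cokernel (Subobject.ofLE (S j) (S (j + 1)) (hS (Nat.le_succ j)))) p →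
    ShStab.IsHilbPoly k X L
      (cokernel (Subobject.ofLE (S (j + 1)) (S (j + 1 + 1)) (hS (Nat.le_succ (j + 1))))) q →
    hatSlope n q < hatSlope n p

include hL in
theorem alpha_pos_of_muSS {G : X.Modules} (h : MuSS k X L n G) {p : ℚ[X]}
    (hp : ShStab.IsHilbPoly k X L G p) : 0 < alpha n p :=
  alpha_pos k X L hL G h.2.1 n h.2.2.2.1 hp

include hL in
/-- the slopes of the factors decrease -/
theorem IsMuHNChain.lt_of_lt {E : X.Modules} {S : ℕ → Subobject E} {hS : Monotone S} {N : ℕ}
    (h : IsMuHNChain k X L n S hS N) (i : ℕ) : ∀ j, i + 1 ≤ j → j < N → ∀ p q : ℚ[X],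
    ShStab.IsHilbPoly k X L (cokernel (Subobject.ofLE (S i) (S (i + 1)) (hS (Nat.le_succ i)))) p →
    ShStab.IsHilbPoly k X L (cokernel (Subobject.ofLE (S j) (S (j + 1)) (hS (Nat.le_succ j)))) q →
    hatSlope n q < hatSlope n p := by
  intro j hij
  induction j, hij using Nat.le_induction with
  | base => intro hj p q hp hq; exact h.lt i hj p q hp hq
  | succ j hij ih =>
    intro hj p q hp hq
    have hssj := h.ss j (by omega)
    obtain ⟨r, hr⟩ := exists_hilbPoly k X L hL.1 _ hssj.2.1
    have h1 := ih (by omega) p r hp hr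
    have h2 := h.lt j hj r q hr hq
    exact h2.trans h1

include hL in
/-- the key comparison: submodules of `E / S i` contained in `S j / S i` -/
theorem IsMuHNChain.claim (hn : 1 ≤ n) {E : X.Modules} {S : ℕ → Subobject E} {hS : Monotone S} {N : ℕ}
    (h : IsMuHNChain k X L n S hS N) (i : ℕ) (hi : i < N) :
    ∀ j, i + 1 ≤ j → j ≤ N → ∀ (M : X.Modules) (m : M ⟶ cokernel (S i).arrow), Mono m → Coh.IsCoh M →
      ¬ IsZero M → (∀ hij : S i ≤ S j, m ≫ subV hij = 0) → ∀ pM pi : ℚ[X], ShStab.IsHilbPoly k X L M pM →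
      ShStab.IsHilbPoly k X L (cokernel (Subobject.ofLE (S i) (S (i + 1)) (hS (Nat.le_succ i)))) pi →
      0 < alpha n pM ∧ hatSlope n pM ≤ hatSlope n pi ∧
        (hatSlope n pM = hatSlope n pi → m ≫ subV (hS (Nat.le_succ i)) = 0) := by
  haveI : IsNoetherian X := Groth.Agent.Lib.Helper4.CurveRR.isNoetherian_of_proper k X
  haveI : IsLocallyNoetherian X := inferInstance
  intro j hij
  induction j, hij using Nat.le_induction with
  | base =>
    intro hjn M m hm hM hM0 hz pM pi hpM hpi
    haveI := hm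
    have hz' := hz (hS (Nat.le_succ i))
    obtain ⟨m', hm'⟩ := exists_lift_subU _ m hz'
    haveI : Mono m' := mono_of_mono_fac hm'
    have hss := h.ss i hi
    have h1 := mu_sub_le k X L hL n hn hss.1 hss.2 m' hM hM0 hpM hpi
    have h2 : 0 < alpha n pM := alpha_pos k X L hL M hM n (hss.1 M m' inferInstance hM hM0) hpM
    exact ⟨h2, h1, fun _ => hz'⟩
  | succ j hij ih =>
    intro hjn M m hm hM hM0 hz pM pi hpM hpi
    haveI := hm
    have hAS : S i ≤ S j := hS (by omega)
    have hST : S j ≤ S (j + 1) := hS (Nat.le_succ j)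
    have hssj := h.ss j (by omega)
    have hψ : (m ≫ subV hAS) ≫ subV hST = 0 := by
      rw [Category.assoc, subV_comp]
      exact hz _
    obtain ⟨ψ', hψ'⟩ := exists_lift_subU hST (m ≫ subV hAS) hψ
    have hK : Coh.IsCoh (kernel ψ') := isCoh_kernel ψ' hM hssj.2.1
    have hC : Coh.IsCoh (cokernel (kernel.ι ψ')) := isCoh_cokernel _ hK hM
    obtain ⟨pK, hpK⟩ := exists_hilbPoly k X L hL.1 _ hK
    obtain ⟨pC, hpC⟩ := exists_hilbPoly k X L hL.1 _ hC
    have hadd := hilbPoly_eq_add_of_mono k X L hL hK (kernel.ι ψ') hM hpK hpM hpC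
    obtain ⟨pj, hpj⟩ := exists_hilbPoly k X L hL.1 _ hssj.2.1
    have hji : hatSlope n pj < hatSlope n pi := h.lt_of_lt k X L hL n i j hij (by omega) pi pj hpi hpj
    by_cases hC0 : IsZero (cokernel (kernel.ι ψ'))
    · have hψ'0 : ψ' = 0 := by
        rw [← Abelian.coimage.fac ψ', hC0.eq_of_tgt (Abelian.coimage.π ψ') 0, Limits.zero_comp]
      have hmz : m ≫ subV hAS = 0 := by rw [← hψ', hψ'0, Limits.zero_comp]
      exact ih (by omega) M m hm hM hM0 (fun _ => hmz) pM pi hpM hpi
    · have haC : 0 < alpha n pC := alpha_pos k X L hL _ hC n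
        (hssj.1 _ (Abelian.factorThruCoimage ψ') inferInstance hC hC0) hpC
      have hCj : hatSlope n pC ≤ hatSlope n pj :=
        mu_sub_le k X L hL n hn hssj.1 hssj.2 (Abelian.factorThruCoimage ψ') hC hC0 hpC hpj
      have hCi : hatSlope n pC < hatSlope n pi := lt_of_le_of_lt hCj hji
      by_cases hK0 : IsZero (kernel ψ')
      · have h0 : pK = 0 := hilbPoly_unique k X hpK (hilbPoly_zero k X L hL.1 hK0)
        rw [h0, zero_add] at hadd
        rw [hadd]
        exact ⟨haC, hCi.le, fun heq => absurd heq hCi.ne⟩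
      · have hKz : ∀ h' : S i ≤ S j, (kernel.ι ψ' ≫ m) ≫ subV h' = 0 := by
          intro h'
          rw [Category.assoc, ← hψ', ← Category.assoc, kernel.condition, Limits.zero_comp]
        obtain ⟨h1, h2, -⟩ := ih (by omega) (kernel ψ') (kernel.ι ψ' ≫ m) inferInstance hK hK0 hKz pK pi
          hpK hpi
        have h3 : hatSlope n (pK + pC) < hatSlope n pi := hatSlope_add_lt h1 haC h2 hCi
        rw [hadd]
        refine ⟨?_, h3.le, fun heq => absurd heq h3.ne⟩
        rw [alpha_add]
        linarith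

include hL in
/-- comparison of the next steps of two chains agreeing at step `i` -/
theorem IsMuHNChain.next_le (hn : 1 ≤ n) {E : X.Modules} {S S' : ℕ → Subobject E} {hS : Monotone S}
    {hS' : Monotone S'}
    {N N' : ℕ} (h : IsMuHNChain k X L n S hS N) (h' : IsMuHNChain k X L n S' hS' N') (hN : S N = ⊤)
    (i : ℕ) (hi : i < N) (hi' : i < N') (heq : S i = S' i) (p p' : ℚ[X])
    (hp : ShStab.IsHilbPoly k X L (cokernel (Subobject.ofLE (S i) (S (i + 1)) (hS (Nat.le_succ i)))) p)
    (hp' : ShStab.IsHilbPoly k X L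
      (cokernel (Subobject.ofLE (S' i) (S' (i + 1)) (hS' (Nat.le_succ i)))) p') :
    hatSlope n p' ≤ hatSlope n p ∧ (hatSlope n p' = hatSlope n p → S' (i + 1) ≤ S (i + 1)) := by
  have hAB' : S i ≤ S' (i + 1) := heq ▸ hS' (Nat.le_succ i)
  have e : cokernel (Subobject.ofLE (S' i) (S' (i + 1)) (hS' (Nat.le_succ i))) ≅
      cokernel (Subobject.ofLE (S i) (S' (i + 1)) hAB') := cokerCongr heq.symm rfl _ _
  have hss' := (h'.ss i hi').2
  have hM : Coh.IsCoh (cokernel (Subobject.ofLE (S i) (S' (i + 1)) hAB')) := isCoh_of_iso e hss'.1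
  have hM0 : ¬ IsZero (cokernel (Subobject.ofLE (S i) (S' (i + 1)) hAB')) :=
    fun h0 => hss'.2.1 (IsZero.of_iso h0 e)
  have hz0 : IsZero (cokernel (S N).arrow) := by
    rw [hN]
    exact isZero_cokernel_top
  obtain ⟨-, h1, h2⟩ := h.claim k X L hL n hn i hi N (by omega) le_rfl _ (subU hAB') inferInstance hM hM0
    (fun _ => hz0.eq_of_tgt _ _) p' p (hilbPoly_of_iso k X L hL.1 e hp') hp
  exact ⟨h1, fun heq' => le_of_subU_subV (hS (Nat.le_succ i)) hAB' (h2 heq')⟩

include hL in
/-- two chains agree -/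
theorem IsMuHNChain.eq_of (hn : 1 ≤ n) {E : X.Modules} {S S' : ℕ → Subobject E} {hS : Monotone S}
    {hS' : Monotone S'}
    {N N' : ℕ} (h : IsMuHNChain k X L n S hS N) (h' : IsMuHNChain k X L n S' hS' N') (h0 : S 0 = S' 0)
    (hN : S N = ⊤) (hN' : S' N' = ⊤) : ∀ i, i ≤ N → i ≤ N' → S i = S' i := by
  intro i
  induction i with
  | zero => intro _ _; exact h0
  | succ i ih =>
    intro hi hi'
    have heq := ih (by omega) (by omega)
    obtain ⟨p, hp⟩ := exists_hilbPoly k X L hL.1 _ (h.ss i (by omega)).2.1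
    obtain ⟨p', hp'⟩ := exists_hilbPoly k X L hL.1 _ (h'.ss i (by omega)).2.1
    obtain ⟨a1, a2⟩ := h.next_le k X L hL n hn h' hN i (by omega) (by omega) heq p p' hp hp'
    obtain ⟨b1, b2⟩ := h'.next_le k X L hL n hn h hN' i (by omega) (by omega) heq.symm p' p hp' hp
    exact le_antisymm (b2 (le_antisymm b1 a1)) (a2 (le_antisymm a1 b1))

include hL in
/-- a filtration gives a chain -/
theorem isMuHNChain_of_isMuHN {E : X.Modules} (s : LTSeries (Subobject E))
    (hs : IsMuHN k X L n E s) : IsMuHNChain k X L n (clamp s) (clamp_mono s) s.length := by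
  obtain ⟨-, -, hss, hlt⟩ := hs
  constructor
  · intro j hj
    obtain ⟨e⟩ := nonempty_factor_clamp_iso s j hj
    exact muSS_of_iso k X L hL n e (hss ⟨j, hj⟩)
  · intro j hj p q hp hq
    obtain ⟨e⟩ := nonempty_factor_clamp_iso s j (by omega)
    obtain ⟨e'⟩ := nonempty_factor_clamp_iso s (j + 1) hj
    exact hlt ⟨j, by omega⟩ ⟨j + 1, hj⟩ rfl p q (hilbPoly_of_iso k X L hL.1 e.symm hp)
      (hilbPoly_of_iso k X L hL.1 e'.symm hq)

include hL in
/-- uniqueness of the slope Harder–Narasimhan filtration -/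
theorem muhn_unique (hn : 1 ≤ n) {E : X.Modules} (s s' : LTSeries (Subobject E))
    (hs : IsMuHN k X L n E s) (hs' : IsMuHN k X L n E s') : s = s' := by
  have h := isMuHNChain_of_isMuHN k X L hL n s hs
  have h' := isMuHNChain_of_isMuHN k X L hL n s' hs'
  have h0 : clamp s 0 = clamp s' 0 := by rw [clamp_zero, clamp_zero, hs.1, hs'.1]
  have hN : clamp s s.length = ⊤ := by rw [clamp_length, hs.2.1]
  have hN' : clamp s' s'.length = ⊤ := by rw [clamp_length, hs'.2.1]
  have key := h.eq_of k X L hL n hn h' h0 hN hN'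
  have key' := h'.eq_of k X L hL n hn h h0.symm hN' hN
  have hlen : s.length = s'.length := by
    rcases lt_trichotomy s.length s'.length with hlt | heq | hgt
    · exfalso
      have h1 := key s.length le_rfl hlt.le
      have h2 := clamp_lt s' hlt le_rfl
      rw [← h1, hN, hN'] at h2
      exact lt_irrefl _ h2
    · exact heq
    · exfalso
      have h1 := key' s'.length le_rfl hgt.le
      have h2 := clamp_lt s hgt le_rfl
      rw [← h1, hN', hN] at h2
      exact lt_irrefl _ h2
  refine RelSeries.ext hlen ?_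
  funext i
  have h1 := key i.val (by have := i.isLt; omega) (by have := i.isLt; omega)
  rw [clamp_of_le s (by have := i.isLt; omega), clamp_of_le s' (by have := i.isLt; omega)] at h1
  exact h1

include hL in
/-- existence and uniqueness of slope Harder–Narasimhan filtrations -/
theorem existsUnique_muhn (hn : 1 ≤ n) {E : X.Modules} (hE : Coh.IsCoh E) (h0 : ¬ IsZero E)
    (hp : ShStab.IsPure X E n) : ∃! s : LTSeries (Subobject E), IsMuHN k X L n E s := by
  obtain ⟨s, hs⟩ := exists_muhn k X L hL n hn hE h0 hp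
  exact ⟨s, hs, fun s' hs' => muhn_unique k X L hL n hn s' s hs' hs⟩

end Groth.Agent.Lib.Helper12.MuC
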