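import Groth.Agent.Lib.Helper17RDer8

/-!
# Helper17: objects all of whose derived-functor values lie in a Serre class

For an additive functor `F : C ⥤ D` and a Serre class `P` of `D`, the class `DerP F P` of objects
`M` of `C` with `P (RⁿF M)` for all `n` contains zero objects, is closed under isomorphisms and
retracts and satisfies two-out-of-three for short exact sequences.
-/

set_option autoImplicit false
universe v u v' u'
open CategoryTheory CategoryTheory.Limits

namespace Groth.Agent.Lib.Helper17.DerSerre

open RDer Groth.Agent.Lib.Helper17.RDerLib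

variable {C : Type u} [Category.{v} C] [Abelian C] [EnoughInjectives C]
  {D : Type u'} [Category.{v'} D] [Abelian D] (F : C ⥤ D) [F.Additive]
  (P : ObjectProperty D) [P.IsSerreClass]

/-- all derived functors of `F` take values in `P` at `M`. -/
def DerP : ObjectProperty C := fun M => ∀ n : ℕ, P ((F.rightDerived n).obj M)

theorem derP_of_iso {M N : C} (e : M ≅ N) (h : DerP F P M) : DerP F P N := fun n =>
  P.prop_of_iso ((F.rightDerived n).mapIso e) (h n)

theorem derP_of_isZero {M : C} (h : IsZero M) : DerP F P M := fun n =>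
  P.prop_of_isZero ((F.rightDerived n).map_isZero h)

theorem derP_of_retract {M N : C} (i : N ⟶ M) (r : M ⟶ N) (hir : i ≫ r = 𝟙 N)
    (h : DerP F P M) : DerP F P N := fun n => by
  haveI : Mono ((F.rightDerived n).map i) := by
    haveI : Mono ((F.rightDerived n).map i ≫ (F.rightDerived n).map r) := by
      rw [← Functor.map_comp, hir, CategoryTheory.Functor.map_id]; infer_instance
    exact mono_of_mono _ ((F.rightDerived n).map r)
  exact P.prop_of_mono ((F.rightDerived n).map i) (h n)

variable {S : ShortComplex C} (hS : S.ShortExact)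

include hS

theorem derP_X₂ (h₁ : DerP F P S.X₁) (h₃ : DerP F P S.X₃) : DerP F P S.X₂ := fun n => by
  obtain ⟨T⟩ := nonempty_sesRes S hS
  have := P.prop_X₂_of_exact (exact₂ F T n) (h₁ n) (h₃ n)
  exact this

theorem derP_X₃ (h₁ : DerP F P S.X₁) (h₂ : DerP F P S.X₂) : DerP F P S.X₃ := fun n => by
  obtain ⟨T⟩ := nonempty_sesRes S hS
  have := P.prop_X₂_of_exact (exact₃ F T n (n + 1) rfl) (h₂ n) (h₁ (n + 1))
  exact this

theorem derP_X₁ (h₂ : DerP F P S.X₂) (h₃ : DerP F P S.X₃) : DerP F P S.X₁ := fun n => by
  obtain ⟨T⟩ := nonempty_sesRes S hS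
  rcases n with _ | n
  · haveI := mono_rightDerived_zero_map_f F T
    exact P.prop_of_mono ((F.rightDerived 0).map S.f) (h₂ 0)
  · have := P.prop_X₂_of_exact (exact₁ F T n (n + 1) rfl) (h₃ n) (h₂ (n + 1))
    exact this

end Groth.Agent.Lib.Helper17.DerSerre
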