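import Mathlib

/-!
# Helper17: finitely generated modules over a Noetherian ring form a Serre class of `ModuleCat A`.
-/

set_option autoImplicit false
universe u v
open CategoryTheory Limits

namespace Groth.Agent.Lib.Helper17.FinMod

variable (A : Type u) [CommRing A]

/-- the class of finite modules. -/
def fin : ObjectProperty (ModuleCat.{v} A) := fun N => Module.Finite A N

variable [IsNoetherianRing A]

instance : (fin.{u, v} A).IsSerreClass where
  exists_zero := ⟨ModuleCat.of A PUnit.{v + 1}, ModuleCat.isZero_of_subsingleton _,
    (inferInstance : Module.Finite A PUnit.{v + 1})⟩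
  prop_of_mono {M N} f hf hN := by
    haveI : Module.Finite A N := hN
    haveI : IsNoetherian A N := isNoetherian_of_isNoetherianRing_of_finite A N
    have hinj : Function.Injective f.hom := (ModuleCat.mono_iff_injective f).1 hf
    haveI : IsNoetherian A M := isNoetherian_of_injective f.hom hinj
    exact (inferInstance : Module.Finite A M)
  prop_of_epi {M N} f hf hM := by
    haveI : Module.Finite A M := hM
    have hsurj : Function.Surjective f.hom := (ModuleCat.epi_iff_surjective f).1 hf
    exact Module.Finite.of_surjective f.hom hsurj
  prop_X₂_of_shortExact {S} hS h₁ h₃ := by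
    haveI : Module.Finite A S.X₁ := h₁
    haveI : Module.Finite A S.X₃ := h₃
    have hsurj : Function.Surjective S.g.hom := (ModuleCat.epi_iff_surjective S.g).1 hS.epi_g
    have hex : Function.Exact S.f.hom S.g.hom :=
      (ShortComplex.ShortExact.moduleCat_exact_iff_function_exact S).1 hS.exact
    exact Module.Finite.of_exact hex hsurj

end Groth.Agent.Lib.Helper17.FinMod
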