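import Groth.Agent.Lib.Helper27CohFin
import Groth.Agent.Lib.Helper27CoprodFin
import Groth.Agent.Lib.Helper23FinType

/-!
# Finiteness of coherent cohomology from resolutions by building blocks (helper27)

Descending induction: on a locally Noetherian scheme `X` over `Spec A` (`A` Noetherian) on which
every coherent module is a quotient of a finite coproduct of coherent "building blocks" with
finite cohomology, and whose coherent cohomology vanishes in large degrees, all cohomology groups
of coherent modules are finite `A`-modules.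
-/

set_option autoImplicit false
universe u
open CategoryTheory Limits AlgebraicGeometry TopologicalSpace Opposite Abelian

namespace Groth.Agent.Lib.Helper27CohFin

open Groth.Agent.Lib.Helper23.QCohLocal Groth.Agent.Lib.Helper23.FinType
  Groth.Agent.Lib.Helper27CoprodFin

variable {X : Scheme.{u}} (A : Type u) [CommRing A] [X.Over (Spec (CommRingCat.of A))]

theorem finite_of_resolutions [IsNoetherianRing A] [IsLocallyNoetherian X]
    (𝒞 : X.Modules → Prop) (h𝒞 : ∀ M, 𝒞 M → Coh.IsCoh M)
    (h𝒞H : ∀ M, 𝒞 M → ∀ i, Module.Finite A (Coh.HH X M i))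
    (hres : ∀ F : X.Modules, Coh.IsCoh F →
      ∃ (r : ℕ) (f : Fin r → X.Modules) (φ : ∐ f ⟶ F), (∀ j, 𝒞 (f j)) ∧ Epi φ)
    (N : ℕ) (hvan : ∀ F : X.Modules, Coh.IsCoh F → ∀ i, N < i → Subsingleton (Coh.HH X F i))
    (F : X.Modules) (hF : Coh.IsCoh F) (i : ℕ) : Module.Finite A (Coh.HH X F i) := by
  have key : ∀ k : ℕ, ∀ i : ℕ, N < i + k → ∀ F : X.Modules, Coh.IsCoh F →
      Module.Finite A (Coh.HH X F i) := by
    intro k
    induction k with
    | zero =>
      intro i hi F hF
      have := hvan F hF i (by omega)
      infer_instance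
    | succ k ih =>
      intro i hi F hF
      obtain ⟨r, f, φ, hf, hφ⟩ := hres F hF
      have hfq : ∀ j, (f j).IsQuasicoherent := fun j => (h𝒞 _ (hf j)).1
      have hff : ∀ j, SheafOfModules.IsFiniteType (R := X.ringCatSheaf) (f j) :=
        fun j => (h𝒞 _ (hf j)).2
      haveI hEq : (∐ f).IsQuasicoherent := isQuasicoherent_sigma f hfq
      haveI hEf : SheafOfModules.IsFiniteType (R := X.ringCatSheaf) (∐ f) :=
        isFiniteType_sigma f hfq hff
      haveI hFq : F.IsQuasicoherent := hF.1
      haveI hKq : (kernel φ).IsQuasicoherent := isQuasicoherent_kernel φ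
      have hmono : Mono (kernel.ι φ) := inferInstance
      have hKf : SheafOfModules.IsFiniteType (R := X.ringCatSheaf) (kernel φ) :=
        @isFiniteType_of_mono X _ (kernel φ) (∐ f) (kernel.ι φ) hmono hEq hEf hKq
      let S : ShortComplex X.Modules := ShortComplex.mk (kernel.ι φ) φ (kernel.condition φ)
      have hS : S.ShortExact :=
        { exact := ShortComplex.exact_of_f_is_kernel _ (kernelIsKernel φ)
          mono_f := hmono
          epi_g := hφ }
      have hE : Module.Finite A (Coh.HH X S.X₂ i) :=
        finite_HH_sigma f A i (fun j => h𝒞H _ (hf j) i)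
      have hK : Module.Finite A (Coh.HH X S.X₁ (i + 1)) :=
        ih (i + 1) (by omega) (kernel φ) ⟨hKq, hKf⟩
      exact finite_of_shortExact A S hS i hE hK
  exact key (N + 1) i (by omega) F hF

end Groth.Agent.Lib.Helper27CohFin
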