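import Mathlib

/-!
# Alternation of top-degree cocycles on the full simplex (helper27)

A function `T` on `(m+1)`-tuples in `Fin (m+1)` which vanishes on non-injective tuples and
satisfies the cocycle condition for all `(m+2)`-tuples is alternating:
`T σ = sign σ • T id`.  Conversely the determinant of the incidence matrix is such a cocycle.
-/

set_option autoImplicit false

namespace Groth.Agent.Lib.Helper27AltCocycle

open Equiv

section NonInj

variable {α : Type*} {k : ℕ}

lemma not_injective_comp_succAbove (y : Fin (k + 2) → α) {p q : Fin (k + 2)} (hpq : p ≠ q)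
    (hy : y p = y q) (i : Fin (k + 2)) (hip : i ≠ p) (hiq : i ≠ q) :
    ¬ Function.Injective (y ∘ i.succAbove) := by
  obtain ⟨p', hp'⟩ := Fin.exists_succAbove_eq (Ne.symm hip)
  obtain ⟨q', hq'⟩ := Fin.exists_succAbove_eq (Ne.symm hiq)
  intro hinj
  have h : p' = q' := hinj (by simp only [Function.comp_apply, hp', hq', hy])
  apply hpq
  rw [← hp', ← hq', h]

end NonInj

section Alt

variable {m : ℕ} {M : Type*} [AddCommGroup M] (T : (Fin (m + 1) → Fin (m + 1)) → M)
  (h0 : ∀ x, ¬ Function.Injective x → T x = 0)
  (h1 : ∀ y : Fin (m + 2) → Fin (m + 1),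
    ∑ i : Fin (m + 2), (-1 : ℤ) ^ (i : ℕ) • T (y ∘ Fin.succAbove i) = 0)

include h0 h1 in
theorem swap_step (x : Fin (m + 1) → Fin (m + 1)) (a : Fin m) :
    T (x ∘ Equiv.swap a.castSucc a.succ) = - T x := by
  let a' : Fin (m + 2) := a.castSucc.castSucc
  let a'' : Fin (m + 2) := a.succ.succ
  let y : Fin (m + 2) → Fin (m + 1) := Fin.insertNth a'' (x a.castSucc) x
  have hy2 : y ∘ a''.succAbove = x := funext (fun j => Fin.insertNth_apply_succAbove a'' _ _ j)
  have hsa : a''.succAbove a.castSucc = a' := by
    apply Fin.ext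
    simp [Fin.succAbove, a', a'', Fin.lt_def]
  have hya' : y a' = x a.castSucc := by
    rw [← hsa]
    exact Fin.insertNth_apply_succAbove a'' _ _ _
  have hya'' : y a'' = x a.castSucc := Fin.insertNth_apply_same a'' _ _
  have hy1 : y ∘ a'.succAbove = x ∘ Equiv.swap a.castSucc a.succ := by
    funext j
    simp only [Function.comp_apply]
    by_cases hj1 : j = a.castSucc
    · rw [hj1, Equiv.swap_apply_left]
      have h : a'.succAbove a.castSucc = a''.succAbove a.succ := by
        apply Fin.ext
        simp [Fin.succAbove, a', a'', Fin.lt_def]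
      rw [h]
      exact Fin.insertNth_apply_succAbove a'' _ _ _
    · by_cases hj2 : j = a.succ
      · rw [hj2, Equiv.swap_apply_right]
        have h : a'.succAbove a.succ = a'' := by
          apply Fin.ext
          simp [Fin.succAbove, a', a'', Fin.lt_def]
        rw [h]
        exact hya''
      · rw [Equiv.swap_apply_of_ne_of_ne hj1 hj2]
        have h : a'.succAbove j = a''.succAbove j := by
          have h1 : j.val ≠ a.val := fun h => hj1 (Fin.ext h)
          have h2 : j.val ≠ a.val + 1 := fun h => hj2 (Fin.ext h)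
          apply Fin.ext
          simp only [Fin.succAbove, a', a'', Fin.lt_def, Fin.val_castSucc, Fin.val_succ]
          split_ifs <;> simp <;> omega
        rw [h]
        exact Fin.insertNth_apply_succAbove a'' _ _ _
  have hne : a' ≠ a'' := by
    intro h
    have := congrArg Fin.val h
    simp [a', a''] at this
    omega
  have hsum := h1 y
  rw [Finset.sum_eq_add a' a'' hne (fun i _ hi => by
      rw [h0 _ (not_injective_comp_succAbove y hne (hya'.trans hya''.symm) i hi.1 hi.2), smul_zero])
    (fun h => absurd (Finset.mem_univ _) h) (fun h => absurd (Finset.mem_univ _) h), hy1, hy2] at hsum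
  have e1 : (a'' : ℕ) = (a' : ℕ) + 2 := by simp [a', a'']
  rw [e1, pow_add, ← smul_smul, ← smul_add] at hsum
  have h2 : ((-1 : ℤ) ^ 2) • T x = T x := by simp
  rw [h2] at hsum
  rcases neg_one_pow_eq_or ℤ (a' : ℕ) with h | h
  · rw [h, one_smul] at hsum
    exact eq_neg_of_add_eq_zero_left hsum
  · rw [h, neg_one_smul, neg_eq_zero] at hsum
    exact eq_neg_of_add_eq_zero_left hsum

include h0 h1 in
theorem alt (σ : Equiv.Perm (Fin (m + 1))) :
    T σ = ((Equiv.Perm.sign σ : ℤˣ) : ℤ) • T id := by
  have key : ∀ g : Equiv.Perm (Fin (m + 1)), ∀ τ : Equiv.Perm (Fin (m + 1)),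
      T (τ * g : Equiv.Perm (Fin (m + 1))) = ((Equiv.Perm.sign g : ℤˣ) : ℤ) • T τ := by
    intro g
    have hg : g ∈ Submonoid.closure (Set.range fun i : Fin m => swap i.castSucc i.succ) := by
      rw [Equiv.Perm.mclosure_swap_castSucc_succ]
      trivial
    induction hg using Submonoid.closure_induction with
    | mem g hg =>
      obtain ⟨a, rfl⟩ := hg
      intro τ
      have h := swap_step T h0 h1 τ a
      have hne : a.castSucc ≠ a.succ := by
        intro h
        have := congrArg Fin.val h
        simp at this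
      rw [Equiv.Perm.coe_mul, h, Equiv.Perm.sign_swap hne, Units.val_neg, Units.val_one,
        neg_one_smul]
    | one =>
      intro τ
      simp
    | mul g h _ _ ihg ihh =>
      intro τ
      rw [← mul_assoc, ihh, ihg, Equiv.Perm.sign_mul, Units.val_mul, mul_comm, mul_smul]
  have h := key σ 1
  rwa [one_mul, Equiv.Perm.coe_one] at h

end Alt

section Det

variable {m : ℕ}

/-- the incidence matrix of a tuple. -/
def inc {k l : ℕ} (x : Fin k → Fin l) : Matrix (Fin k) (Fin l) ℤ :=
  fun i j => if x i = j then 1 else 0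

/-- the determinant of the incidence matrix. -/
def D (x : Fin (m + 1) → Fin (m + 1)) : ℤ := (inc x).det

lemma D_id : D (id : Fin (m + 1) → Fin (m + 1)) = 1 := by
  have h : inc (id : Fin (m + 1) → Fin (m + 1)) = 1 := by
    ext i j
    simp [inc, Matrix.one_apply]
  rw [D, h, Matrix.det_one]

lemma D_of_not_injective (x : Fin (m + 1) → Fin (m + 1)) (hx : ¬ Function.Injective x) :
    D x = 0 := by
  obtain ⟨i, j, hij, hne⟩ : ∃ i j, x i = x j ∧ i ≠ j := by
    simpa [Function.Injective] using hx
  exact Matrix.det_zero_of_row_eq hne (by ext k; simp [inc, hij])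

lemma D_cocycle (y : Fin (m + 2) → Fin (m + 1)) :
    ∑ i : Fin (m + 2), (-1 : ℤ) ^ (i : ℕ) * D (y ∘ Fin.succAbove i) = 0 := by
  let N : Matrix (Fin (m + 2)) (Fin (m + 2)) ℤ :=
    fun i j => Fin.cases 1 (fun j' => inc y i j') j
  have hN : N.det = 0 := by
    rw [← Matrix.exists_mulVec_eq_zero_iff]
    refine ⟨Fin.cases 1 (fun _ => -1), ?_, ?_⟩
    · intro h
      have := congrFun h 0
      simp at this
    · funext i
      simp [Matrix.mulVec, dotProduct, Fin.sum_univ_succ, N, inc]
  rw [Matrix.det_succ_column_zero] at hN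
  rw [← hN]
  refine Finset.sum_congr rfl (fun i _ => ?_)
  have h : N.submatrix i.succAbove Fin.succ = inc (y ∘ i.succAbove) := by
    ext a b
    change (Fin.cases 1 (fun j' => inc y (i.succAbove a) j') (Fin.succ b) : ℤ) = _
    rw [Fin.cases_succ]
    rfl
  rw [h]
  simp [D, N]

end Det

end Groth.Agent.Lib.Helper27AltCocycle
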