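import Mathlib
import Groth.Agent.Lib.Helper16CechLow

/-!
# Interface for vanishing of the first Cech cohomology on a space (helper16)

`exists_coboundary`: if `Ȟ¹(W, P) = 0`, any family `a k l ∈ P(W k ⊓ W l)` with the cocycle condition is
`b l - b k` for a family `b k ∈ P(W k)`.
-/

set_option autoImplicit false
set_option linter.unusedSectionVars false
universe u
open CategoryTheory

namespace Groth.Agent.Lib.Helper16.CechH1
open Opposite CategoryTheory.Limits TopologicalSpace Groth.Agent.Lib.Helper16.CechLow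

variable {X : TopCat.{u}} (P : (Opens X)ᵒᵖ ⥤ AddCommGrpCat.{u}) {κ : Type u} (W : κ → Opens X)

lemma map_map {A B C : Opens X} (h1 : B ≤ A) (h2 : C ≤ B) (y : P.obj (op A)) :
    P.map (homOfLE h2).op (P.map (homOfLE h1).op y) = P.map (homOfLE (h2.trans h1)).op y := by
  rw [← ConcreteCategory.comp_apply, ← P.map_comp]
  rfl

lemma map_hom_eq {A B : Opens X} (f : op A ⟶ op B) (h : B ≤ A) : P.map f = P.map (homOfLE h).op :=
  congrArg P.map (Subsingleton.elim _ _)

lemma map_self {A : Opens X} (h : A ≤ A) (y : P.obj (op A)) : P.map (homOfLE h).op y = y := by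
  have : (homOfLE h).op = 𝟙 (op A) := Subsingleton.elim _ _
  rw [this, P.map_id]
  rfl

lemma Ux_le {n : ℕ} (x : Fin (n + 1) → κ) (a : Fin (n + 1)) : Ux W x ≤ W (x a) :=
  (Pi.π (W ∘ x) a).le

lemma le_Ux {n : ℕ} (x : Fin (n + 1) → κ) (V : Opens X) (h : ∀ a, V ≤ W (x a)) : V ≤ Ux W x :=
  (Pi.lift (fun a => homOfLE (h a)) : V ⟶ ∏ᶜ (W ∘ x)).le

/-- transport of components along an equality of indices -/
lemma pr_transport (n : ℕ) {v v' : Fin (n + 1) → κ} (h : v = v') (V : Opens X) (hV : V ≤ Ux W v)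
    (hV' : V ≤ Ux W v') (b : (CK W P).X n) :
    P.map (homOfLE hV).op (pr W P n v b) = P.map (homOfLE hV').op (pr W P n v' b) := by
  subst h
  rfl


/-- restriction of `a (z p) (z q)` to `U_z`. -/
noncomputable def AA (a : ∀ k l, P.obj (op (W k ⊓ W l))) {n : ℕ} (z : Fin (n + 1) → κ)
    (p q : Fin (n + 1)) : P.obj (op (Ux W z)) :=
  P.map (homOfLE (le_inf (Ux_le W z p) (Ux_le W z q))).op (a (z p) (z q))

lemma face_AA (a : ∀ k l, P.obj (op (W k ⊓ W l))) {n : ℕ} (z : Fin (n + 2) → κ) (i : Fin (n + 2))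
    (p q : Fin (n + 1)) :
    P.map (face W z i).op (AA P W a (z ∘ Fin.succAbove i) p q) =
      AA P W a z (Fin.succAbove i p) (Fin.succAbove i q) := by
  have hle : Ux W z ≤ Ux W (z ∘ Fin.succAbove i) := (face W z i).le
  rw [map_hom_eq P (face W z i).op hle]
  exact map_map P _ hle _

/-- the 1-cochain attached to a family on double intersections. -/
noncomputable def cochain1 (a : ∀ k l, P.obj (op (W k ⊓ W l))) : (CK W P).X 1 :=
  mkElt W P 1 (fun x => AA P W a x 0 1)

lemma cochain1_cocycle (a : ∀ k l, P.obj (op (W k ⊓ W l)))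
    (hcoc : ∀ k l m,
      P.map (homOfLE (le_inf (inf_le_left.trans inf_le_right) inf_le_right :
        W k ⊓ W l ⊓ W m ≤ W l ⊓ W m)).op (a l m) -
      P.map (homOfLE (le_inf (inf_le_left.trans inf_le_left) inf_le_right :
        W k ⊓ W l ⊓ W m ≤ W k ⊓ W m)).op (a k m) +
      P.map (homOfLE (inf_le_left : W k ⊓ W l ⊓ W m ≤ W k ⊓ W l)).op (a k l) = 0) :
    (CK W P).d 1 2 (cochain1 P W a) = 0 := by
  apply elt_ext W P 2
  intro z
  rw [d_pr_apply, map_zero]
  have h1 : ∀ i : Fin 3, P.map (face W z i).op (pr W P 1 (z ∘ Fin.succAbove i) (cochain1 P W a)) =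
      AA P W a z (Fin.succAbove i 0) (Fin.succAbove i 1) := by
    intro i
    rw [cochain1, pr_mkElt]
    exact face_AA P W a z i 0 1
  simp only [h1]
  rw [Fin.sum_univ_three]
  have e00 : Fin.succAbove (0 : Fin 3) (0 : Fin 2) = 1 := by decide
  have e01 : Fin.succAbove (0 : Fin 3) (1 : Fin 2) = 2 := by decide
  have e10 : Fin.succAbove (1 : Fin 3) (0 : Fin 2) = 0 := by decide
  have e11 : Fin.succAbove (1 : Fin 3) (1 : Fin 2) = 2 := by decide
  have e20 : Fin.succAbove (2 : Fin 3) (0 : Fin 2) = 0 := by decide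
  have e21 : Fin.succAbove (2 : Fin 3) (1 : Fin 2) = 1 := by decide
  rw [e00, e01, e10, e11, e20, e21]
  have hle : Ux W z ≤ W (z 0) ⊓ W (z 1) ⊓ W (z 2) :=
    le_inf (le_inf (Ux_le W z 0) (Ux_le W z 1)) (Ux_le W z 2)
  have hh := congrArg (P.map (homOfLE hle).op) (hcoc (z 0) (z 1) (z 2))
  rw [map_add, map_sub, map_zero, map_map, map_map, map_map] at hh
  simp only [Fin.val_zero, pow_zero, one_smul, Fin.val_one, pow_one, neg_smul, Fin.val_two, even_two,
    Even.neg_pow, one_pow]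
  rw [AA, AA, AA]
  rw [← hh]
  abel


/-- **Interface for `Ȟ¹ = 0`**: a family on double intersections satisfying the cocycle condition is a
coboundary. -/
theorem exists_coboundary (hz : IsZero ((CK W P).homology 1))
    (a : ∀ k l, P.obj (op (W k ⊓ W l)))
    (hcoc : ∀ k l m,
      P.map (homOfLE (le_inf (inf_le_left.trans inf_le_right) inf_le_right :
        W k ⊓ W l ⊓ W m ≤ W l ⊓ W m)).op (a l m) -
      P.map (homOfLE (le_inf (inf_le_left.trans inf_le_left) inf_le_right :
        W k ⊓ W l ⊓ W m ≤ W k ⊓ W m)).op (a k m) +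
      P.map (homOfLE (inf_le_left : W k ⊓ W l ⊓ W m ≤ W k ⊓ W l)).op (a k l) = 0) :
    ∃ b : ∀ k, P.obj (op (W k)), ∀ k l,
      a k l = P.map (homOfLE (inf_le_right : W k ⊓ W l ≤ W l)).op (b l) -
        P.map (homOfLE (inf_le_left : W k ⊓ W l ≤ W k)).op (b k) := by
  obtain ⟨b, hb⟩ := exists_of_isZero_homology W P 0 hz (cochain1 P W a) (cochain1_cocycle P W a hcoc)
  refine ⟨fun k => P.map (homOfLE (le_Ux W (fun _ : Fin 1 => k) (W k) (fun _ => le_rfl))).op
    (pr W P 0 (fun _ => k) b), ?_⟩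
  intro k l
  let x : Fin 2 → κ := Fin.cons k (fun _ => l)
  have hx0 : x 0 = k := rfl
  have hx1 : x 1 = l := rfl
  have h1 := congrArg (pr W P 1 x) hb
  rw [d_pr_apply, cochain1, pr_mkElt, Fin.sum_univ_two] at h1
  simp only [Fin.val_zero, pow_zero, one_smul, Fin.val_one, pow_one, neg_smul] at h1
  -- transport the two terms
  have hl : x ∘ Fin.succAbove (0 : Fin 2) = fun _ => l := by
    funext j
    have : j = 0 := Subsingleton.elim _ _
    subst this
    rfl
  have hk : x ∘ Fin.succAbove (1 : Fin 2) = fun _ => k := by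
    funext j
    have : j = 0 := Subsingleton.elim _ _
    subst this
    rfl
  have hle0 : Ux W x ≤ Ux W (x ∘ Fin.succAbove (0 : Fin 2)) := (face W x 0).le
  have hle1 : Ux W x ≤ Ux W (x ∘ Fin.succAbove (1 : Fin 2)) := (face W x 1).le
  have hle0' : Ux W x ≤ Ux W (fun _ : Fin 1 => l) := le_Ux W _ _ (fun _ => Ux_le W x 1)
  have hle1' : Ux W x ≤ Ux W (fun _ : Fin 1 => k) := le_Ux W _ _ (fun _ => Ux_le W x 0)
  rw [map_hom_eq P (face W x 0).op hle0, map_hom_eq P (face W x 1).op hle1,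
    pr_transport P W 0 hl (Ux W x) hle0 hle0' b, pr_transport P W 0 hk (Ux W x) hle1 hle1' b] at h1
  -- restrict to `W k ⊓ W l`
  have hkl : W k ⊓ W l ≤ Ux W x := le_Ux W x _ (fun a => by
    refine Fin.cases ?_ (fun j => ?_) a
    · exact inf_le_left
    · exact inf_le_right)
  have h2 := congrArg (P.map (homOfLE hkl).op) h1
  rw [map_add, map_neg, map_map, map_map, AA, map_map] at h2
  rw [map_map, map_map]
  have h3 : P.map (homOfLE (hkl.trans (le_inf (Ux_le W x 0) (Ux_le W x 1)))).op (a (x 0) (x 1)) = a k l :=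
    map_self P _ _
  rw [← h3, ← h2]
  abel

end Groth.Agent.Lib.Helper16.CechH1
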