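import Mathlib
import Groth.Agent.Lib.Helper16CechH1
import Groth.Prelude.Def_CohCx

/-!
# Comparison of Cech complexes: opens of a space vs. the over category (helper16)

`isoCx`, `isoH : CohTop.cechH P (fun i => (Y i).left) p ≅ CohCx.cechH P Y p` for `Y : ι → Over W` in `Opens X`;
`isoH'` for a family of opens contained in `W`.
-/

set_option autoImplicit false
set_option linter.unusedSectionVars false
universe u
open CategoryTheory

namespace Groth.Agent.Lib.Helper16.CechCmp
open Opposite CategoryTheory.Limits TopologicalSpace Groth.Agent.Lib.Helper16.CechLow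
  Groth.Agent.Lib.Helper16.CechH1

variable {X : TopCat.{u}} (P : (Opens X)ᵒᵖ ⥤ AddCommGrpCat.{u}) {W : Opens X} {ι : Type u}
  (Y : ι → Over W)

/-- the underlying family of opens -/
abbrev UY : ι → Opens X := fun i => (Y i).left

/-- the restricted presheaf on `Over W` -/
abbrev PW : (Over W)ᵒᵖ ⥤ AddCommGrpCat.{u} := (Over.forget W).op ⋙ P

lemma left_le {n : ℕ} (x : Fin (n + 1) → ι) : (Ux Y x).left ≤ Ux (UY Y) x :=
  le_Ux (UY Y) x _ (fun a => ((Pi.π (Y ∘ x) a).left).le)

lemma le_left {n : ℕ} (x : Fin (n + 1) → ι) : Ux (UY Y) x ≤ (Ux Y x).left := by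
  let T : Over W := Over.mk (homOfLE ((Ux_le (UY Y) x 0).trans (Y (x 0)).hom.le) : Ux (UY Y) x ⟶ W)
  let φ : T ⟶ Ux Y x := Pi.lift (fun a => Over.homMk (homOfLE (Ux_le (UY Y) x a)) (Subsingleton.elim _ _))
  exact φ.left.le

lemma map_comp_thin {A B C : Opens X} (h1 : B ≤ A) (h2 : C ≤ B) :
    P.map (homOfLE h1).op ≫ P.map (homOfLE h2).op = P.map (homOfLE (h2.trans h1)).op := by
  rw [← P.map_comp]
  rfl

lemma map_thin_id {A : Opens X} (h : A ≤ A) : P.map (homOfLE h).op = 𝟙 _ := by
  have : (homOfLE h).op = 𝟙 (op A) := Subsingleton.elim _ _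
  rw [this, P.map_id]

/-- componentwise comparison -/
noncomputable def toPW {n : ℕ} (x : Fin (n + 1) → ι) :
    P.obj (op (Ux (UY Y) x)) ⟶ (PW P).obj (op (Ux Y x)) :=
  P.map (homOfLE (left_le Y x)).op

/-- componentwise comparison, inverse -/
noncomputable def fromPW {n : ℕ} (x : Fin (n + 1) → ι) :
    (PW P).obj (op (Ux Y x)) ⟶ P.obj (op (Ux (UY Y) x)) :=
  P.map (homOfLE (le_left Y x)).op

lemma toPW_fromPW {n : ℕ} (x : Fin (n + 1) → ι) : toPW P Y x ≫ fromPW P Y x = 𝟙 _ :=
  (map_comp_thin P _ _).trans (map_thin_id P _)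

lemma fromPW_toPW {n : ℕ} (x : Fin (n + 1) → ι) : fromPW P Y x ≫ toPW P Y x = 𝟙 _ :=
  (map_comp_thin P _ _).trans (map_thin_id P _)

lemma face_toPW {n : ℕ} (x : Fin (n + 2) → ι) (i : Fin (n + 2)) :
    P.map (face (UY Y) x i).op ≫ toPW P Y x =
      toPW P Y (x ∘ Fin.succAbove i) ≫ (PW P).map (face Y x i).op := by
  have hle : Ux (UY Y) x ≤ Ux (UY Y) (x ∘ Fin.succAbove i) := (face (UY Y) x i).le
  have e1 : P.map (face (UY Y) x i).op = P.map (homOfLE hle).op := map_hom_eq P _ hle
  have hle2 : (Ux Y x).left ≤ (Ux Y (x ∘ Fin.succAbove i)).left := (face Y x i).left.le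
  have e2 : (PW P).map (face Y x i).op = P.map (homOfLE hle2).op :=
    map_hom_eq P ((Over.forget W).map (face Y x i)).op hle2
  rw [e1, e2]
  exact (map_comp_thin P _ _).trans (map_comp_thin P _ _).symm

/-- the comparison map in each degree -/
noncomputable def homX (n : ℕ) : (CK (UY Y) P).X n ⟶ (CK Y (PW P)).X n :=
  Pi.lift (fun x => pr (UY Y) P n x ≫ toPW P Y x)

/-- the inverse comparison map in each degree -/
noncomputable def invX (n : ℕ) : (CK Y (PW P)).X n ⟶ (CK (UY Y) P).X n :=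
  Pi.lift (fun x => pr Y (PW P) n x ≫ fromPW P Y x)

lemma homX_pr (n : ℕ) (x : Fin (n + 1) → ι) :
    homX P Y n ≫ pr Y (PW P) n x = pr (UY Y) P n x ≫ toPW P Y x :=
  limit.lift_π _ _

lemma invX_pr (n : ℕ) (x : Fin (n + 1) → ι) :
    invX P Y n ≫ pr (UY Y) P n x = pr Y (PW P) n x ≫ fromPW P Y x :=
  limit.lift_π _ _

/-- the comparison isomorphism in each degree -/
noncomputable def isoX (n : ℕ) : (CK (UY Y) P).X n ≅ (CK Y (PW P)).X n where
  hom := homX P Y n
  inv := invX P Y n
  hom_inv_id := by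
    refine Pi.hom_ext _ _ (fun (x : Fin (n + 1) → ι) => ?_)
    have : (homX P Y n ≫ invX P Y n) ≫ pr (UY Y) P n x = 𝟙 _ ≫ pr (UY Y) P n x := by
      rw [Category.assoc, invX_pr, ← Category.assoc, homX_pr, Category.assoc, toPW_fromPW,
        Category.comp_id, Category.id_comp]
    exact this
  inv_hom_id := by
    refine Pi.hom_ext _ _ (fun (x : Fin (n + 1) → ι) => ?_)
    have : (invX P Y n ≫ homX P Y n) ≫ pr Y (PW P) n x = 𝟙 _ ≫ pr Y (PW P) n x := by
      rw [Category.assoc, homX_pr, ← Category.assoc, invX_pr, Category.assoc, fromPW_toPW,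
        Category.comp_id, Category.id_comp]
    exact this

lemma comm (n : ℕ) : homX P Y n ≫ (CK Y (PW P)).d n (n + 1) =
    (CK (UY Y) P).d n (n + 1) ≫ homX P Y (n + 1) := by
  refine Pi.hom_ext _ _ (fun (x : Fin (n + 2) → ι) => ?_)
  have : (homX P Y n ≫ (CK Y (PW P)).d n (n + 1)) ≫ pr Y (PW P) (n + 1) x =
      ((CK (UY Y) P).d n (n + 1) ≫ homX P Y (n + 1)) ≫ pr Y (PW P) (n + 1) x := by
    rw [Category.assoc, d_pr, Category.assoc, homX_pr, ← Category.assoc, d_pr,
      Preadditive.comp_sum, Preadditive.sum_comp]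
    refine Finset.sum_congr rfl (fun i _ => ?_)
    rw [Preadditive.comp_zsmul, Preadditive.zsmul_comp, ← Category.assoc, homX_pr, Category.assoc,
      Category.assoc, face_toPW]
  exact this


/-- the comparison isomorphism of Cech complexes. -/
noncomputable def isoCx : CK (UY Y) P ≅ CK Y (PW P) :=
  HomologicalComplex.Hom.isoOfComponents (fun n => isoX P Y n) (by
    rintro i j (rfl : i + 1 = j)
    exact comm P Y i)

/-- the comparison isomorphism of Cech cohomology: opens vs. the over category. -/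
noncomputable def isoH (p : ℕ) : CohTop.cechH P (UY Y) p ≅ CohCx.cechH P Y p :=
  (HomologicalComplex.homologyFunctor _ _ p).mapIso (isoCx P Y)

/-- a family of opens contained in `W`, as a family over `W`. -/
abbrev fam {ι : Type u} (U : ι → Opens X) (W : Opens X) (h : ∀ i, U i ≤ W) : ι → Over W :=
  fun i => Over.mk (homOfLE (h i))

/-- the comparison isomorphism for a family of opens. -/
noncomputable def isoH' {ι : Type u} (U : ι → Opens X) (W : Opens X) (h : ∀ i, U i ≤ W) (p : ℕ) :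
    CohTop.cechH P U p ≅ CohCx.cechH P (fam U W h) p :=
  isoH P (fam U W h) p

end Groth.Agent.Lib.Helper16.CechCmp
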