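import Mathlib
import Groth.Prelude.Def_CechEdge
import Groth.Agent.Lib.Helper21Cech1
import Groth.Agent.Lib.Helper21Cech2
import Groth.Agent.Lib.Helper21Cech3
import Groth.Agent.Lib.Helper21Cech4

set_option autoImplicit false
universe u
open CategoryTheory CategoryTheory.Limits Opposite

namespace Groth.Agent.Lib.Helper21.Cech

variable {C : Type u} [SmallCategory C]

/-! ### The Ext side -/
section ExtSide
variable {J : GrothendieckTopology C}

theorem HUmap_apply {F G : Sheaf J AddCommGrpCat.{u}} (ψ : F ⟶ G) (p : ℕ) (U : C)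
    (x : CohSite.HU F p U) :
    CechEdge.HUmap ψ p U x = Abelian.Ext.comp x (Abelian.Ext.mk₀ ψ) (add_zero p) := rfl

theorem extδ_apply {S : ShortComplex (Sheaf J AddCommGrpCat.{u})} (hS : S.ShortExact) (U : C)
    (p : ℕ) (x : CohSite.HU S.X₃ p U) :
    CechEdge.extδ hS U p x = Abelian.Ext.comp x hS.extClass rfl := rfl

theorem HUmap_id (F : Sheaf J AddCommGrpCat.{u}) (p : ℕ) (U : C) (x : CohSite.HU F p U) :
    CechEdge.HUmap (𝟙 F) p U x = x := by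
  rw [HUmap_apply]
  exact Abelian.Ext.comp_mk₀_id x

theorem HUmap_comp {F G H : Sheaf J AddCommGrpCat.{u}} (ψ : F ⟶ G) (ψ' : G ⟶ H) (p : ℕ) (U : C)
    (x : CohSite.HU F p U) :
    CechEdge.HUmap (ψ ≫ ψ') p U x = CechEdge.HUmap ψ' p U (CechEdge.HUmap ψ p U x) := by
  rw [HUmap_apply, HUmap_apply, HUmap_apply, Abelian.Ext.comp_assoc_of_third_deg_zero,
    Abelian.Ext.mk₀_comp_mk₀]

theorem HUmap_bijective_of_isIso {F G : Sheaf J AddCommGrpCat.{u}} (ψ : F ⟶ G) [IsIso ψ]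
    (p : ℕ) (U : C) : Function.Bijective (CechEdge.HUmap ψ p U) := by
  refine Function.bijective_iff_has_inverse.2 ⟨CechEdge.HUmap (inv ψ) p U, ?_, ?_⟩
  · intro x
    rw [← HUmap_comp, IsIso.hom_inv_id, HUmap_id]
  · intro x
    rw [← HUmap_comp, IsIso.inv_hom_id, HUmap_id]

theorem extδ_HUmap_g {S : ShortComplex (Sheaf J AddCommGrpCat.{u})} (hS : S.ShortExact) (U : C)
    (p : ℕ) (x : CohSite.HU S.X₂ p U) :
    CechEdge.extδ hS U p (CechEdge.HUmap S.g p U x) = 0 := by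
  rw [extδ_apply, HUmap_apply, Abelian.Ext.comp_assoc_of_second_deg_zero, hS.comp_extClass,
    Abelian.Ext.comp_zero]
  rfl

theorem HUmap_f_extδ {S : ShortComplex (Sheaf J AddCommGrpCat.{u})} (hS : S.ShortExact) (U : C)
    (p : ℕ) (x : CohSite.HU S.X₃ p U) :
    CechEdge.HUmap S.f (p + 1) U (CechEdge.extδ hS U p x) = 0 := by
  rw [extδ_apply, HUmap_apply, Abelian.Ext.comp_assoc_of_third_deg_zero, hS.extClass_comp,
    Abelian.Ext.comp_zero]
  rfl

theorem extδ_naturality {S₁ S₂ : ShortComplex (Sheaf J AddCommGrpCat.{u})}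
    (h₁ : S₁.ShortExact) (h₂ : S₂.ShortExact) (φ : S₁ ⟶ S₂) (U : C) (p : ℕ)
    (x : CohSite.HU S₁.X₃ p U) :
    CechEdge.HUmap φ.τ₁ (p + 1) U (CechEdge.extδ h₁ U p x) =
      CechEdge.extδ h₂ U p (CechEdge.HUmap φ.τ₃ p U x) := by
  rw [extδ_apply, extδ_apply, HUmap_apply, HUmap_apply,
    Abelian.Ext.comp_assoc_of_third_deg_zero,
    ShortComplex.ShortExact.extClass_naturality h₁ h₂ φ,
    Abelian.Ext.comp_assoc_of_second_deg_zero]

/-- exactness at `H^{p+1}(X₁)` -/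
theorem ext_exact₁ {S : ShortComplex (Sheaf J AddCommGrpCat.{u})} (hS : S.ShortExact) (U : C)
    (p : ℕ) (x : CohSite.HU S.X₁ (p + 1) U) (hx : CechEdge.HUmap S.f (p + 1) U x = 0) :
    ∃ y : CohSite.HU S.X₃ p U, CechEdge.extδ hS U p y = x :=
  Abelian.Ext.covariant_sequence_exact₁ _ hS x hx rfl

/-- exactness at `H^p(X₂)` -/
theorem ext_exact₂ {S : ShortComplex (Sheaf J AddCommGrpCat.{u})} (hS : S.ShortExact) (U : C)
    (p : ℕ) (x : CohSite.HU S.X₂ p U) (hx : CechEdge.HUmap S.g p U x = 0) :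
    ∃ y : CohSite.HU S.X₁ p U, CechEdge.HUmap S.f p U y = x :=
  Abelian.Ext.covariant_sequence_exact₂ _ hS x hx

/-- exactness at `H^p(X₃)` -/
theorem ext_exact₃ {S : ShortComplex (Sheaf J AddCommGrpCat.{u})} (hS : S.ShortExact) (U : C)
    (p : ℕ) (x : CohSite.HU S.X₃ p U) (hx : CechEdge.extδ hS U p x = 0) :
    ∃ y : CohSite.HU S.X₂ p U, CechEdge.HUmap S.g p U y = x :=
  Abelian.Ext.covariant_sequence_exact₃ _ hS x rfl hx

theorem sectH0_symm_apply (U : C) (F : Sheaf J AddCommGrpCat.{u}) (x : CohSite.HU F 0 U) :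
    (CechEdge.sectH0 J U F).symm x = CohFree.evalGen J U F (Abelian.Ext.addEquiv₀ x) := rfl

theorem addEquiv₀_comp_mk₀ {X F G : Sheaf J AddCommGrpCat.{u}} (ψ : F ⟶ G)
    (x : Abelian.Ext X F 0) :
    Abelian.Ext.addEquiv₀ (x.comp (Abelian.Ext.mk₀ ψ) (add_zero 0)) =
      Abelian.Ext.addEquiv₀ x ≫ ψ := by
  apply (Abelian.Ext.mk₀_bijective _ G).injective
  rw [Abelian.Ext.mk₀_addEquiv₀_apply, ← Abelian.Ext.mk₀_comp_mk₀,
    Abelian.Ext.mk₀_addEquiv₀_apply]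

theorem sectH0_naturality {F G : Sheaf J AddCommGrpCat.{u}} (ψ : F ⟶ G) (U : C)
    (s : F.obj.obj (op U)) :
    CechEdge.HUmap ψ 0 U (CechEdge.sectH0 J U F s) =
      CechEdge.sectH0 J U G ((ψ.hom.app (op U)).hom s) := by
  obtain ⟨y, rfl⟩ : ∃ y, s = (CechEdge.sectH0 J U F).symm y :=
    ⟨CechEdge.sectH0 J U F s, (AddEquiv.symm_apply_apply _ _).symm⟩
  rw [AddEquiv.apply_symm_apply]
  apply (CechEdge.sectH0 J U G).symm.injective
  rw [AddEquiv.symm_apply_apply, sectH0_symm_apply, sectH0_symm_apply, HUmap_apply,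
    addEquiv₀_comp_mk₀]
  rfl

end ExtSide

/-! ### The Čech side -/
section CechSide
variable [HasPullbacks C] {U : C} {ι : Type u} (Y : ι → Over U)

theorem cechHMap_id (P : Cᵒᵖ ⥤ AddCommGrpCat.{u}) (p : ℕ) (x : CohCx.cechH P Y p) :
    CechEdge.cechHMap Y (𝟙 P) p x = x := by
  rw [CechEdge.cechHMap, CategoryTheory.Functor.map_id, HomologicalComplex.homologyMap_id]
  rfl

theorem cechHMap_comp {P Q R : Cᵒᵖ ⥤ AddCommGrpCat.{u}} (φ : P ⟶ Q) (ψ : Q ⟶ R) (p : ℕ)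
    (x : CohCx.cechH P Y p) :
    CechEdge.cechHMap Y (φ ≫ ψ) p x = CechEdge.cechHMap Y ψ p (CechEdge.cechHMap Y φ p x) := by
  rw [CechEdge.cechHMap, CategoryTheory.Functor.map_comp, HomologicalComplex.homologyMap_comp]
  rfl

theorem cechHMap_bijective_of_isIso {P Q : Cᵒᵖ ⥤ AddCommGrpCat.{u}} (φ : P ⟶ Q) [IsIso φ]
    (p : ℕ) : Function.Bijective (CechEdge.cechHMap Y φ p) := by
  refine Function.bijective_iff_has_inverse.2 ⟨CechEdge.cechHMap Y (inv φ) p, ?_, ?_⟩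
  · intro x
    rw [← cechHMap_comp, IsIso.hom_inv_id, cechHMap_id]
  · intro x
    rw [← cechHMap_comp, IsIso.inv_hom_id, cechHMap_id]

/-- the Čech connecting homomorphism -/
noncomputable def Cδ (S : ShortComplex (Cᵒᵖ ⥤ AddCommGrpCat.{u})) (hS : S.ShortExact) (p : ℕ) :
    CohCx.cechH S.X₃ Y p →+ CohCx.cechH S.X₁ Y (p + 1) :=
  ((shortExact_cx Y S hS).δ p (p + 1) rfl).hom

theorem Cδ_eq (S : ShortComplex (Cᵒᵖ ⥤ AddCommGrpCat.{u})) (hS : S.ShortExact)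
    (hC : (S.map (CechEdge.cxFunctor Y)).ShortExact) (p : ℕ) :
    (hC.δ p (p + 1) rfl).hom = Cδ Y S hS p := rfl

theorem Cδ_naturality {S₁ S₂ : ShortComplex (Cᵒᵖ ⥤ AddCommGrpCat.{u})}
    (h₁ : S₁.ShortExact) (h₂ : S₂.ShortExact) (φ : S₁ ⟶ S₂) (p : ℕ)
    (x : CohCx.cechH S₁.X₃ Y p) :
    CechEdge.cechHMap Y φ.τ₁ (p + 1) (Cδ Y S₁ h₁ p x) =
      Cδ Y S₂ h₂ p (CechEdge.cechHMap Y φ.τ₃ p x) := by
  have := HomologicalComplex.HomologySequence.δ_naturality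
    ((CechEdge.cxFunctor Y).mapShortComplex.map φ) (shortExact_cx Y S₁ h₁) (shortExact_cx Y S₂ h₂)
    p (p + 1) rfl
  exact ConcreteCategory.congr_hom this x

theorem Cδ_cechHMap_g (S : ShortComplex (Cᵒᵖ ⥤ AddCommGrpCat.{u})) (hS : S.ShortExact) (p : ℕ)
    (x : CohCx.cechH S.X₂ Y p) : Cδ Y S hS p (CechEdge.cechHMap Y S.g p x) = 0 := by
  have := (shortExact_cx Y S hS).comp_δ p (p + 1) rfl
  exact ConcreteCategory.congr_hom this x

theorem cechHMap_f_Cδ (S : ShortComplex (Cᵒᵖ ⥤ AddCommGrpCat.{u})) (hS : S.ShortExact) (p : ℕ)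
    (x : CohCx.cechH S.X₃ Y p) : CechEdge.cechHMap Y S.f (p + 1) (Cδ Y S hS p x) = 0 := by
  have := (shortExact_cx Y S hS).δ_comp p (p + 1) rfl
  exact ConcreteCategory.congr_hom this x

/-- exactness at `Ȟ^{p+1}(X₁)` -/
theorem cech_exact₁ (S : ShortComplex (Cᵒᵖ ⥤ AddCommGrpCat.{u})) (hS : S.ShortExact) (p : ℕ)
    (x : CohCx.cechH S.X₁ Y (p + 1)) (hx : CechEdge.cechHMap Y S.f (p + 1) x = 0) :
    ∃ y, Cδ Y S hS p y = x :=
  (ShortComplex.ab_exact_iff _).1 ((shortExact_cx Y S hS).homology_exact₁ p (p + 1) rfl) x hx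

/-- exactness at `Ȟ^p(X₂)` -/
theorem cech_exact₂ (S : ShortComplex (Cᵒᵖ ⥤ AddCommGrpCat.{u})) (hS : S.ShortExact) (p : ℕ)
    (x : CohCx.cechH S.X₂ Y p) (hx : CechEdge.cechHMap Y S.g p x = 0) :
    ∃ y, CechEdge.cechHMap Y S.f p y = x :=
  (ShortComplex.ab_exact_iff _).1 ((shortExact_cx Y S hS).homology_exact₂ p) x hx

/-- exactness at `Ȟ^p(X₃)` -/
theorem cech_exact₃ (S : ShortComplex (Cᵒᵖ ⥤ AddCommGrpCat.{u})) (hS : S.ShortExact) (p : ℕ)
    (x : CohCx.cechH S.X₃ Y p) (hx : Cδ Y S hS p x = 0) :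
    ∃ y, CechEdge.cechHMap Y S.g p y = x :=
  (ShortComplex.ab_exact_iff _).1 ((shortExact_cx Y S hS).homology_exact₃ p (p + 1) rfl) x hx

theorem Cδ_surjective (S : ShortComplex (Cᵒᵖ ⥤ AddCommGrpCat.{u})) (hS : S.ShortExact) (p : ℕ)
    (h : IsZero (CohCx.cechH S.X₂ Y (p + 1))) : Function.Surjective (Cδ Y S hS p) := by
  intro x
  apply cech_exact₁
  exact (AddCommGrpCat.subsingleton_of_isZero h).elim _ _

/-- naturality of `toCech` -/
theorem toCech_naturality {P Q : Cᵒᵖ ⥤ AddCommGrpCat.{u}} (φ : P ⟶ Q) (s : P.obj (op U)) :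
    CechEdge.cechHMap Y φ 0 (CechEdge.toCech Y P s) =
      CechEdge.toCech Y Q ((φ.app (op U)).hom s) := by
  have h0 : CechEdge.toCech₀ P Y ≫ ((CechEdge.cxFunctor Y).map φ).f 0 =
      φ.app (op U) ≫ CechEdge.toCech₀ Q Y := by
    apply X_hom_ext
    intro V g e he
    rw [Category.assoc, Category.assoc, cxMap_evM, ← Category.assoc, toCech₀_evM, toCech₀_evM]
    exact (φ.naturality g.op)
  have h1 : CechEdge.toCycles P Y ≫ HomologicalComplex.cyclesMap ((CechEdge.cxFunctor Y).map φ) 0 =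
      φ.app (op U) ≫ CechEdge.toCycles Q Y := by
    rw [← cancel_mono ((CechEdge.cx Q Y).iCycles 0), Category.assoc, Category.assoc,
      CechEdge.toCycles_i]
    erw [HomologicalComplex.cyclesMap_i]
    rw [← Category.assoc]
    erw [CechEdge.toCycles_i]
    exact h0
  have h2 : (CechEdge.toCycles P Y ≫ (CechEdge.cx P Y).homologyπ 0) ≫
      HomologicalComplex.homologyMap ((CechEdge.cxFunctor Y).map φ) 0 =
      φ.app (op U) ≫ CechEdge.toCycles Q Y ≫ (CechEdge.cx Q Y).homologyπ 0 := by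
    rw [Category.assoc, HomologicalComplex.homologyπ_naturality, ← Category.assoc, h1,
      Category.assoc]
    rfl
  exact ConcreteCategory.congr_hom h2 s

end CechSide

end Groth.Agent.Lib.Helper21.Cech
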