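import Mathlib
import Groth.Prelude.Def_CechEdge
import Groth.Agent.Lib.Helper21Cech5

set_option autoImplicit false
universe u
open CategoryTheory CategoryTheory.Limits Opposite

namespace Groth.Agent.Lib.Helper21.Cech

variable {C : Type u} [SmallCategory C] [HasPullbacks C]
variable (J : GrothendieckTopology C) {U : C} {ι : Type u} (Y : ι → Over U)

/-- presheaves of abelian groups -/
abbrev PSh (C : Type u) [SmallCategory C] := Cᵒᵖ ⥤ AddCommGrpCat.{u}

/-- target groups -/
abbrev TH (U : C) (P : PSh C) (p : ℕ) : Type u := CohSite.HU (CechEdge.shf J P) p U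

/-- target maps -/
noncomputable abbrev THmap (U : C) {P Q : PSh C} (φ : P ⟶ Q) (p : ℕ) : TH J U P p →+ TH J U Q p :=
  CechEdge.HUmap (CechEdge.shfMap J φ) p U

/-- target connecting maps -/
noncomputable abbrev Tδ (U : C) (S : ShortComplex (PSh C)) (hS : S.ShortExact) (p : ℕ) :
    TH J U S.X₃ p →+ TH J U S.X₁ (p + 1) :=
  CechEdge.extδ (hS.map_of_exact (presheafToSheaf J AddCommGrpCat.{u})) U p

theorem THmap_id (P : PSh C) (p : ℕ) (x : TH J U P p) : THmap J U (𝟙 P) p x = x := by
  rw [THmap, CechEdge.shfMap, CategoryTheory.Functor.map_id]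
  exact HUmap_id _ _ _ _

theorem THmap_comp {P Q R : PSh C} (φ : P ⟶ Q) (ψ : Q ⟶ R) (p : ℕ) (x : TH J U P p) :
    THmap J U (φ ≫ ψ) p x = THmap J U ψ p (THmap J U φ p x) := by
  rw [THmap, CechEdge.shfMap, CategoryTheory.Functor.map_comp]
  exact HUmap_comp _ _ _ _ _

theorem Tδ_THmap_g (S : ShortComplex (PSh C)) (hS : S.ShortExact) (p : ℕ) (x : TH J U S.X₂ p) :
    Tδ J U S hS p (THmap J U S.g p x) = 0 :=
  extδ_HUmap_g (hS.map_of_exact (presheafToSheaf J AddCommGrpCat.{u})) U p x

theorem Tδ_naturality {S₁ S₂ : ShortComplex (PSh C)} (h₁ : S₁.ShortExact) (h₂ : S₂.ShortExact)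
    (φ : S₁ ⟶ S₂) (p : ℕ) (x : TH J U S₁.X₃ p) :
    THmap J U φ.τ₁ (p + 1) (Tδ J U S₁ h₁ p x) = Tδ J U S₂ h₂ p (THmap J U φ.τ₃ p x) :=
  extδ_naturality (h₁.map_of_exact (presheafToSheaf J AddCommGrpCat.{u}))
    (h₂.map_of_exact (presheafToSheaf J AddCommGrpCat.{u}))
    ((presheafToSheaf J AddCommGrpCat.{u}).mapShortComplex.map φ) U p x

/-! ### short exact sequences from monos -/

/-- the short complex `A → B → coker` -/
noncomputable def sesOfMono {A B : PSh C} (j : A ⟶ B) : ShortComplex (PSh C) :=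
  ShortComplex.mk j (cokernel.π j) (cokernel.condition j)

theorem sesOfMono_shortExact {A B : PSh C} (j : A ⟶ B) [Mono j] : (sesOfMono j).ShortExact where
  exact := ShortComplex.exact_cokernel j
  mono_f := inferInstanceAs (Mono j)
  epi_g := inferInstanceAs (Epi (cokernel.π j))

/-- functoriality -/
noncomputable def sesOfMonoMap {A B A' B' : PSh C} (j : A ⟶ B) (j' : A' ⟶ B') (a : A ⟶ A')
    (b : B ⟶ B') (h : j ≫ b = a ≫ j') : sesOfMono j ⟶ sesOfMono j' where
  τ₁ := a
  τ₂ := b
  τ₃ := cokernel.map j j' a b h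
  comm₁₂ := h.symm
  comm₂₃ := by
    change b ≫ cokernel.π j' = cokernel.π j ≫ cokernel.map j j' a b h
    simp

/-- the comparison from a short exact sequence -/
noncomputable def toSesOfMono (S : ShortComplex (PSh C)) (hS : S.ShortExact) {B : PSh C}
    (i : S.X₂ ⟶ B) : S ⟶ sesOfMono (S.f ≫ i) :=
  haveI := hS.epi_g
  { τ₁ := 𝟙 _
    τ₂ := i
    τ₃ := hS.exact.gIsCokernel.desc (CokernelCofork.ofπ (i ≫ cokernel.π (S.f ≫ i))
      (by rw [← Category.assoc, cokernel.condition]))
    comm₁₂ := by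
      change 𝟙 _ ≫ (S.f ≫ i) = S.f ≫ i
      simp
    comm₂₃ := by
      change i ≫ cokernel.π (S.f ≫ i) = S.g ≫ _
      exact (hS.exact.gIsCokernel.fac (CokernelCofork.ofπ (i ≫ cokernel.π (S.f ≫ i))
        (by rw [← Category.assoc, cokernel.condition])) WalkingParallelPair.one).symm }

/-- the standard effacing sequence -/
noncomputable abbrev effSES (P : PSh C) : ShortComplex (PSh C) := sesOfMono (effι P)

theorem effSES_shortExact (P : PSh C) : (effSES P).ShortExact := sesOfMono_shortExact _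

/-- functoriality of the effacing sequence -/
noncomputable abbrev effSESMap {P Q : PSh C} (φ : P ⟶ Q) : effSES P ⟶ effSES Q :=
  sesOfMonoMap (effι P) (effι Q) φ (effMap φ) (effι_effMap φ)

/-! ### degree zero -/
section zero
variable {J}
variable (hY : Sieve.ofArrows (fun i => (Y i).left) (fun i => (Y i).hom) ∈ J U)

/-- `toCech` as an equivalence for sheaves -/
noncomputable def toCechEquiv (F : Sheaf J AddCommGrpCat.{u}) :
    F.obj.obj (op U) ≃+ CohCx.cechH F.obj Y 0 :=
  AddEquiv.ofBijective (CechEdge.toCech Y F.obj)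
    (toCech_bijective_of_isSheaf Y F.obj J F.property hY)

theorem toCechEquiv_apply (F : Sheaf J AddCommGrpCat.{u}) (s : F.obj.obj (op U)) :
    toCechEquiv Y hY F s = CechEdge.toCech Y F.obj s := rfl

/-- the edge map in degree zero -/
noncomputable def e0 (P : PSh C) : CohCx.cechH P Y 0 →+ TH J U P 0 :=
  (CechEdge.sectH0 J U (CechEdge.shf J P)).toAddMonoidHom.comp
    ((toCechEquiv Y hY (CechEdge.shf J P)).symm.toAddMonoidHom.comp
      (CechEdge.cechHMap Y (toSheafify J P) 0))

theorem e0_apply (P : PSh C) (x : CohCx.cechH P Y 0) :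
    e0 Y hY P x = CechEdge.sectH0 J U (CechEdge.shf J P)
      ((toCechEquiv Y hY (CechEdge.shf J P)).symm (CechEdge.cechHMap Y (toSheafify J P) 0 x)) :=
  rfl

theorem e0_zero (P : PSh C) (s : P.obj (op U)) :
    e0 Y hY P (CechEdge.toCech Y P s) =
      CechEdge.sectH0 J U (CechEdge.shf J P) (((toSheafify J P).app (op U)).hom s) := by
  rw [e0_apply, toCech_naturality, ← toCechEquiv_apply Y hY, AddEquiv.symm_apply_apply]

theorem e0_natural {P Q : PSh C} (φ : P ⟶ Q) (x : CohCx.cechH P Y 0) :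
    e0 Y hY Q (CechEdge.cechHMap Y φ 0 x) = THmap J U φ 0 (e0 Y hY P x) := by
  rw [e0_apply, e0_apply, ← cechHMap_comp]
  have h1 : φ ≫ toSheafify J Q = toSheafify J P ≫ (CechEdge.shfMap J φ).hom :=
    toSheafify_naturality J φ
  rw [h1, cechHMap_comp]
  obtain ⟨s, hs⟩ := (toCechEquiv Y hY (CechEdge.shf J P)).surjective
    (CechEdge.cechHMap Y (toSheafify J P) 0 x)
  rw [← hs, AddEquiv.symm_apply_apply, toCechEquiv_apply, toCech_naturality,
    ← toCechEquiv_apply Y hY, AddEquiv.symm_apply_apply]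
  exact (sectH0_naturality (CechEdge.shfMap J φ) U s).symm

end zero

end Groth.Agent.Lib.Helper21.Cech
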