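import Mathlib
import Groth.Prelude.Def_CechEdge
import Groth.Agent.Lib.Helper21Cech6

set_option autoImplicit false
universe u
open CategoryTheory CategoryTheory.Limits Opposite

namespace Groth.Agent.Lib.Helper21.Cech

variable {C : Type u} [SmallCategory C] [HasPullbacks C]
variable {J : GrothendieckTopology C} {U : C} {ι : Type u} (Y : ι → Over U)

/-- a natural family of maps in degree `p` -/
structure NatFam (J : GrothendieckTopology C) {U : C} {ι : Type u} (Y : ι → Over U) (p : ℕ) :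
    Type (u + 1) where
  /-- the maps -/
  e : ∀ P : PSh C, CohCx.cechH P Y p →+ TH J U P p
  /-- naturality -/
  nat : ∀ (P Q : PSh C) (φ : P ⟶ Q) (x : CohCx.cechH P Y p),
      e Q (CechEdge.cechHMap Y φ p x) = THmap J U φ p (e P x)

/-- the Čech connecting map of the effacing sequence -/
noncomputable abbrev effδ (P : PSh C) (p : ℕ) :
    CohCx.cechH (effSES P).X₃ Y p →+ CohCx.cechH P Y (p + 1) :=
  Cδ Y (effSES P) (effSES_shortExact P) p

theorem effδ_surjective (P : PSh C) (p : ℕ) : Function.Surjective (effδ Y P p) :=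
  Cδ_surjective Y _ _ p (isZero_cechH_eff Y P p)

/-- the map to be lifted -/
noncomputable def stepG {p : ℕ} (E : NatFam J Y p) (P : PSh C) :
    CohCx.cechH (effSES P).X₃ Y p →+ TH J U P (p + 1) :=
  (Tδ J U (effSES P) (effSES_shortExact P) p).comp (E.e (effSES P).X₃)

theorem stepG_apply {p : ℕ} (E : NatFam J Y p) (P : PSh C) (y : CohCx.cechH (effSES P).X₃ Y p) :
    stepG Y E P y = Tδ J U (effSES P) (effSES_shortExact P) p (E.e (effSES P).X₃ y) := rfl

theorem stepG_ker {p : ℕ} (E : NatFam J Y p) (P : PSh C) :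
    (effδ Y P p).ker ≤ (stepG Y E P).ker := by
  intro y hy
  rw [AddMonoidHom.mem_ker] at hy ⊢
  obtain ⟨z, rfl⟩ := cech_exact₃ Y _ (effSES_shortExact P) p y hy
  rw [stepG_apply, E.nat, Tδ_THmap_g]
  rfl

/-- the lifted map -/
noncomputable def stepE {p : ℕ} (E : NatFam J Y p) (P : PSh C) :
    CohCx.cechH P Y (p + 1) →+ TH J U P (p + 1) :=
  (effδ Y P p).liftOfSurjective (effδ_surjective Y P p) ⟨stepG Y E P, stepG_ker Y E P⟩

theorem stepE_δ {p : ℕ} (E : NatFam J Y p) (P : PSh C) (y : CohCx.cechH (effSES P).X₃ Y p) :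
    stepE Y E P (effδ Y P p y) = Tδ J U (effSES P) (effSES_shortExact P) p (E.e _ y) := by
  rw [stepE]
  erw [AddMonoidHom.liftOfRightInverse_comp_apply]
  rfl

/-- the inductive step -/
noncomputable def stepFam {p : ℕ} (E : NatFam J Y p) : NatFam J Y (p + 1) where
  e := stepE Y E
  nat := by
    intro P Q φ x
    obtain ⟨y, rfl⟩ := effδ_surjective Y P p x
    have h1 : CechEdge.cechHMap Y φ (p + 1) (effδ Y P p y) =
        effδ Y Q p (CechEdge.cechHMap Y (effSESMap φ).τ₃ p y) :=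
      Cδ_naturality Y (effSES_shortExact P) (effSES_shortExact Q) (effSESMap φ) p y
    rw [h1, stepE_δ, stepE_δ, E.nat]
    exact (Tδ_naturality J (effSES_shortExact P) (effSES_shortExact Q) (effSESMap φ) p _).symm

variable (hY : Sieve.ofArrows (fun i => (Y i).left) (fun i => (Y i).hom) ∈ J U)

/-- the family of edge maps -/
noncomputable def fam : ∀ p : ℕ, NatFam J Y p
  | 0 => ⟨e0 Y hY, fun _ _ φ x => e0_natural Y hY φ x⟩
  | p + 1 => stepFam Y (fam p)

/-- the edge maps -/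
noncomputable def edge (P : PSh C) (p : ℕ) : CohCx.cechH P Y p →+ TH J U P p := (fam Y hY p).e P

theorem edge_natural {P Q : PSh C} (φ : P ⟶ Q) (p : ℕ) (x : CohCx.cechH P Y p) :
    edge Y hY Q p (CechEdge.cechHMap Y φ p x) = THmap J U φ p (edge Y hY P p x) :=
  (fam Y hY p).nat P Q φ x

theorem edge_zero (P : PSh C) (s : P.obj (op U)) :
    edge Y hY P 0 (CechEdge.toCech Y P s) =
      CechEdge.sectH0 J U (CechEdge.shf J P) (((toSheafify J P).app (op U)).hom s) :=
  e0_zero Y hY P s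

theorem edge_succ_δ (P : PSh C) (p : ℕ) (y : CohCx.cechH (effSES P).X₃ Y p) :
    edge Y hY P (p + 1) (effδ Y P p y) =
      Tδ J U (effSES P) (effSES_shortExact P) p (edge Y hY _ p y) :=
  stepE_δ Y (fam Y hY p) P y

/-- the auxiliary sequence `X₁ → Eff X₂ → coker` -/
noncomputable def effT (S : ShortComplex (PSh C)) : ShortComplex (PSh C) :=
  sesOfMono (S.f ≫ effι S.X₂)

theorem effT_shortExact (S : ShortComplex (PSh C)) (hS : S.ShortExact) : (effT S).ShortExact := by
  have := hS.mono_f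
  have : Mono (S.f ≫ effι S.X₂) := mono_comp _ _
  exact sesOfMono_shortExact _

/-- `S ⟶ effT S` -/
noncomputable def effTα (S : ShortComplex (PSh C)) (hS : S.ShortExact) : S ⟶ effT S :=
  toSesOfMono S hS (effι S.X₂)

/-- `effSES S.X₁ ⟶ effT S` -/
noncomputable def effTβ (S : ShortComplex (PSh C)) : effSES S.X₁ ⟶ effT S :=
  sesOfMonoMap (effι S.X₁) (S.f ≫ effι S.X₂) (𝟙 _) (effMap S.f)
    (by rw [effι_effMap, Category.id_comp])

theorem edge_delta_T (S : ShortComplex (PSh C)) (hS : S.ShortExact) (p : ℕ)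
    (w : CohCx.cechH (effT S).X₃ Y p) :
    edge Y hY S.X₁ (p + 1) (Cδ Y (effT S) (effT_shortExact S hS) p w) =
      Tδ J U (effT S) (effT_shortExact S hS) p (edge Y hY _ p w) := by
  have hT := effT_shortExact S hS
  obtain ⟨y, hy⟩ := effδ_surjective Y S.X₁ p (Cδ Y (effT S) hT p w)
  have h1 : CechEdge.cechHMap Y (effTβ S).τ₁ (p + 1) (effδ Y S.X₁ p y) =
      Cδ Y (effT S) hT p (CechEdge.cechHMap Y (effTβ S).τ₃ p y) :=
    Cδ_naturality Y (effSES_shortExact S.X₁) hT (effTβ S) p y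
  have h1' : CechEdge.cechHMap Y (effTβ S).τ₁ (p + 1) (effδ Y S.X₁ p y) = effδ Y S.X₁ p y :=
    cechHMap_id Y S.X₁ (p + 1) _
  rw [h1'] at h1
  have h2 : Cδ Y (effT S) hT p (w - CechEdge.cechHMap Y (effTβ S).τ₃ p y) = 0 := by
    rw [map_sub, ← h1, hy, sub_self]
  obtain ⟨z, hz⟩ := cech_exact₃ Y _ hT p _ h2
  have hw : w = CechEdge.cechHMap Y (effTβ S).τ₃ p y + CechEdge.cechHMap Y (effT S).g p z := by
    rw [hz]; abel
  have h3 : THmap J U (effTβ S).τ₁ (p + 1)
      (Tδ J U (effSES S.X₁) (effSES_shortExact S.X₁) p (edge Y hY _ p y)) =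
      Tδ J U (effT S) hT p (THmap J U (effTβ S).τ₃ p (edge Y hY _ p y)) :=
    Tδ_naturality J (effSES_shortExact S.X₁) hT (effTβ S) p _
  have h3' : THmap J U (effTβ S).τ₁ (p + 1)
      (Tδ J U (effSES S.X₁) (effSES_shortExact S.X₁) p (edge Y hY _ p y)) =
      Tδ J U (effSES S.X₁) (effSES_shortExact S.X₁) p (edge Y hY _ p y) :=
    THmap_id J S.X₁ (p + 1) _
  rw [h3'] at h3
  rw [← hy, edge_succ_δ, h3, hw, map_add, map_add, edge_natural, edge_natural,
    Tδ_THmap_g, add_zero]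

/-- compatibility of the edge maps with connecting homomorphisms -/
theorem edge_delta (S : ShortComplex (PSh C)) (hS : S.ShortExact) (p : ℕ)
    (x : CohCx.cechH S.X₃ Y p) :
    edge Y hY S.X₁ (p + 1) (Cδ Y S hS p x) = Tδ J U S hS p (edge Y hY S.X₃ p x) := by
  have hT := effT_shortExact S hS
  have h1 : CechEdge.cechHMap Y (effTα S hS).τ₁ (p + 1) (Cδ Y S hS p x) =
      Cδ Y (effT S) hT p (CechEdge.cechHMap Y (effTα S hS).τ₃ p x) :=
    Cδ_naturality Y hS hT (effTα S hS) p x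
  have h1' : CechEdge.cechHMap Y (effTα S hS).τ₁ (p + 1) (Cδ Y S hS p x) = Cδ Y S hS p x :=
    cechHMap_id Y S.X₁ (p + 1) _
  rw [h1'] at h1
  have h3 : THmap J U (effTα S hS).τ₁ (p + 1) (Tδ J U S hS p (edge Y hY _ p x)) =
      Tδ J U (effT S) hT p (THmap J U (effTα S hS).τ₃ p (edge Y hY _ p x)) :=
    Tδ_naturality J hS hT (effTα S hS) p _
  have h3' : THmap J U (effTα S hS).τ₁ (p + 1) (Tδ J U S hS p (edge Y hY _ p x)) =
      Tδ J U S hS p (edge Y hY _ p x) :=
    THmap_id J S.X₁ (p + 1) _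
  rw [h3'] at h3
  rw [h1, h3, ← edge_natural]
  exact edge_delta_T Y hY S hS p _

/-- The constructed family is an edge family. -/
theorem edge_isEdge : CechEdge.IsEdge J Y (edge Y hY) where
  cover := hY
  zero := edge_zero Y hY
  natural := fun P Q φ p x => edge_natural Y hY φ p x
  delta := fun S hS hC p x => edge_delta Y hY S hS p x

end Groth.Agent.Lib.Helper21.Cech
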