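import Mathlib
import Groth.Prelude.Def_CechEdge
import Groth.Agent.Lib.Helper21Cech7

set_option autoImplicit false
universe u
open CategoryTheory CategoryTheory.Limits Opposite

namespace Groth.Agent.Lib.Helper21.Cech

variable {C : Type u} [SmallCategory C] [HasPullbacks C]
variable {J : GrothendieckTopology C} {U : C} {ι : Type u} (Y : ι → Over U)

instance isIso_shfMap_toSheafify (P : PSh C) : IsIso (CechEdge.shfMap J (toSheafify J P)) := by
  have h := (sheafificationAdjunction J AddCommGrpCat.{u}).left_triangle_components P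
  have : IsIso ((presheafToSheaf J AddCommGrpCat.{u}).map
      ((sheafificationAdjunction J AddCommGrpCat.{u}).unit.app P) ≫
      (sheafificationAdjunction J AddCommGrpCat.{u}).counit.app
        ((presheafToSheaf J AddCommGrpCat.{u}).obj P)) := by
    rw [h]; exact IsIso.id _
  exact IsIso.of_isIso_comp_right _ ((sheafificationAdjunction J AddCommGrpCat.{u}).counit.app
        ((presheafToSheaf J AddCommGrpCat.{u}).obj P))

/-- uniqueness of edge families -/
theorem isEdge_ext
    (e e' : ∀ (P : Cᵒᵖ ⥤ AddCommGrpCat.{u}) (p : ℕ),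
      CohCx.cechH P Y p →+ CohSite.HU (CechEdge.shf J P) p U)
    (he : CechEdge.IsEdge J Y e) (he' : CechEdge.IsEdge J Y e') :
    ∀ (p : ℕ) (P : PSh C) (x : CohCx.cechH P Y p), e P p x = e' P p x := by
  intro p
  induction p with
  | zero =>
    intro P x
    have hY := he.cover
    apply (HUmap_bijective_of_isIso (CechEdge.shfMap J (toSheafify J P)) 0 U).1
    rw [← he.natural, ← he'.natural]
    obtain ⟨s, hs⟩ := (toCech_bijective_of_isSheaf Y _ J (CechEdge.shf J P).property hY).2
      (CechEdge.cechHMap Y (toSheafify J P) 0 x)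
    rw [← hs, he.zero, he'.zero]
  | succ p ih =>
    intro P x
    obtain ⟨y, rfl⟩ := effδ_surjective Y P p x
    have h1 := he.delta (effSES P) (effSES_shortExact P)
      (shortExact_cx Y _ (effSES_shortExact P)) p y
    have h2 := he'.delta (effSES P) (effSES_shortExact P)
      (shortExact_cx Y _ (effSES_shortExact P)) p y
    exact h1.trans ((congrArg _ (ih _ y)).trans h2.symm)

theorem isEdge_unique
    (e e' : ∀ (P : Cᵒᵖ ⥤ AddCommGrpCat.{u}) (p : ℕ),
      CohCx.cechH P Y p →+ CohSite.HU (CechEdge.shf J P) p U)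
    (he : CechEdge.IsEdge J Y e) (he' : CechEdge.IsEdge J Y e') : e = e' := by
  funext P p
  ext x
  exact isEdge_ext Y e e' he he' p P x

/-- any edge family is the constructed one -/
theorem isEdge_eq_edge
    (e : ∀ (P : Cᵒᵖ ⥤ AddCommGrpCat.{u}) (p : ℕ),
      CohCx.cechH P Y p →+ CohSite.HU (CechEdge.shf J P) p U)
    (he : CechEdge.IsEdge J Y e) : e = edge Y he.cover :=
  isEdge_unique Y e _ he (edge_isEdge Y he.cover)

end Groth.Agent.Lib.Helper21.Cech
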