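import Mathlib
import Groth.Prelude.Def_CechEdge
import Groth.Agent.Lib.Helper21Cech8
import Groth.Agent.S0858

set_option autoImplicit false
universe u
open CategoryTheory CategoryTheory.Limits Opposite

namespace Groth.Agent.Lib.Helper21.Cech

variable {C : Type u} [SmallCategory C] [HasPullbacks C]
variable {J : GrothendieckTopology C} {U : C} {ι : Type u} (Y : ι → Over U)

section Shift
variable (F : Sheaf J AddCommGrpCat.{u})

/-- an injective sheaf containing `F` -/
noncomputable abbrev IF : Sheaf J AddCommGrpCat.{u} := Injective.under F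

/-- the embedding -/
noncomputable abbrev iF : F ⟶ IF F := Injective.ι F

/-- the short exact sequence of sheaves `F → I → Q` -/
noncomputable def shS : ShortComplex (Sheaf J AddCommGrpCat.{u}) :=
  ShortComplex.mk (iF F) (cokernel.π (iF F)) (cokernel.condition _)

theorem shS_shortExact : (shS F).ShortExact where
  exact := ShortComplex.exact_cokernel _
  mono_f := inferInstanceAs (Mono (iF F))
  epi_g := inferInstanceAs (Epi (cokernel.π (iF F)))

instance mono_iF_hom : Mono (iF F).hom :=
  inferInstanceAs (Mono ((sheafToPresheaf J AddCommGrpCat.{u}).map (iF F)))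

/-- the short exact sequence of presheaves `F → I → Q'` -/
noncomputable def preS : ShortComplex (PSh C) := sesOfMono (iF F).hom

theorem preS_shortExact : (preS F).ShortExact := sesOfMono_shortExact _

/-- the comparison from the presheaf quotient to the sheaf quotient -/
noncomputable def νF : (preS F).X₃ ⟶ (shS F).X₃.obj :=
  cokernel.desc (iF F).hom (shS F).g.hom (by
    have := (shS F).zero
    exact congrArg (fun f => f.hom) this)

theorem preS_g_νF : (preS F).g ≫ νF F = (shS F).g.hom :=
  cokernel.π_desc _ _ _

theorem mono_νF : Mono (νF F) := by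
  have hex : ((shS F).map (sheafToPresheaf J AddCommGrpCat.{u})).Exact :=
    (shS_shortExact F).exact.map_of_mono_of_preservesKernel _ (shS_shortExact F).mono_f
      inferInstance
  exact hex.mono_cokernelDesc

theorem νF_app_injective (W : Cᵒᵖ) : Function.Injective ((νF F).app W).hom := by
  have := mono_νF F
  have h2 : Mono ((νF F).app W) := inferInstance
  exact (AddCommGrpCat.mono_iff_injective _).1 h2

/-- the comparison of short exact sequences of sheaves -/
noncomputable def shCmp : (preS F).map (presheafToSheaf J AddCommGrpCat.{u}) ⟶ shS F where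
  τ₁ := (sheafificationAdjunction J AddCommGrpCat.{u}).counit.app F
  τ₂ := (sheafificationAdjunction J AddCommGrpCat.{u}).counit.app (IF F)
  τ₃ := CechEdge.shfMap J (νF F) ≫
    (sheafificationAdjunction J AddCommGrpCat.{u}).counit.app (shS F).X₃
  comm₁₂ := ((sheafificationAdjunction J AddCommGrpCat.{u}).counit.naturality (iF F)).symm
  comm₂₃ := by
    change _ = (presheafToSheaf J AddCommGrpCat.{u}).map (preS F).g ≫ _ ≫ _
    rw [← Category.assoc, ← Functor.map_comp, preS_g_νF]
    exact ((sheafificationAdjunction J AddCommGrpCat.{u}).counit.naturality (shS F).g).symm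

instance isIso_shfMap_νF : IsIso (CechEdge.shfMap J (νF F)) := by
  have hT : ((preS F).map (presheafToSheaf J AddCommGrpCat.{u})).ShortExact :=
    (preS_shortExact F).map_of_exact _
  have hS := shS_shortExact F
  have : Epi ((preS F).map (presheafToSheaf J AddCommGrpCat.{u})).g := hT.epi_g
  have : Epi (shS F).g := hS.epi_g
  have h1 : IsIso (shCmp F).τ₁ :=
    inferInstanceAs (IsIso ((sheafificationAdjunction J AddCommGrpCat.{u}).counit.app F))
  have h2 : IsIso (shCmp F).τ₂ :=
    inferInstanceAs (IsIso ((sheafificationAdjunction J AddCommGrpCat.{u}).counit.app (IF F)))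
  have hm : Mono (shCmp F).τ₃ :=
    ShortComplex.mono_of_epi_of_epi_of_mono (shCmp F) hS.exact hT.epi_g inferInstance inferInstance
  have he : Epi (shCmp F).τ₃ := by
    have h3 : Epi (((preS F).map (presheafToSheaf J AddCommGrpCat.{u})).g ≫ (shCmp F).τ₃) := by
      rw [← (shCmp F).comm₂₃]
      infer_instance
    exact epi_of_epi ((preS F).map (presheafToSheaf J AddCommGrpCat.{u})).g (shCmp F).τ₃
  have hi : IsIso (shCmp F).τ₃ := isIso_of_mono_of_epi _
  have hi' : IsIso (CechEdge.shfMap J (νF F) ≫
    (sheafificationAdjunction J AddCommGrpCat.{u}).counit.app (shS F).X₃) := hi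
  exact IsIso.of_isIso_comp_right (CechEdge.shfMap J (νF F))
    ((sheafificationAdjunction J AddCommGrpCat.{u}).counit.app (shS F).X₃)

theorem isZero_cechH_IF (p : ℕ) : IsZero (CohCx.cechH (preS F).X₂ Y (p + 1)) :=
  Groth.Agent.S0858.result' J (IF F) Y p

theorem preδ_surjective (p : ℕ) :
    Function.Surjective (Cδ Y (preS F) (preS_shortExact F) p) :=
  Cδ_surjective Y _ _ p (isZero_cechH_IF Y F p)

theorem subsingleton_HU_of_injective (I : Sheaf J AddCommGrpCat.{u}) (hI : Injective I) (p : ℕ)
    (W : C) : Subsingleton (CohSite.HU I (p + 1) W) :=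
  subsingleton_of_forall_eq 0 fun x => Abelian.Ext.eq_zero_of_injective x

theorem subsingleton_TH_IF (p : ℕ) (W : C) : Subsingleton (TH J W (preS F).X₂ (p + 1)) := by
  have : Injective (CechEdge.shf J (IF F).obj) :=
    Injective.of_iso (asIso ((sheafificationAdjunction J AddCommGrpCat.{u}).counit.app (IF F))).symm
      inferInstance
  exact subsingleton_HU_of_injective (CechEdge.shf J (IF F).obj) this p W

theorem νF_app_surjective (W : C) (h : Subsingleton (CohSite.HU F 1 W)) :
    Function.Surjective ((νF F).app (op W)).hom := by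
  intro q
  have hx : CechEdge.extδ (shS_shortExact F) W 0 (CechEdge.sectH0 J W (shS F).X₃ q) = 0 :=
    h.elim _ _
  obtain ⟨y, hy⟩ := ext_exact₃ (shS_shortExact F) W 0 _ hx
  obtain ⟨t, rfl⟩ := (CechEdge.sectH0 J W (shS F).X₂).surjective y
  rw [sectH0_naturality] at hy
  have hq := (CechEdge.sectH0 J W _).injective hy
  refine ⟨((preS F).g.app (op W)).hom t, ?_⟩
  rw [← hq]
  exact ConcreteCategory.congr_hom (NatTrans.congr_app (preS_g_νF F) (op W)) t

theorem acyclic_quotient (W : C) (h : ∀ q : ℕ, Subsingleton (CohSite.HU F (q + 1) W)) (q : ℕ) :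
    Subsingleton (CohSite.HU (shS F).X₃ (q + 1) W) := by
  refine subsingleton_of_forall_eq 0 fun x => ?_
  have hx : CechEdge.extδ (shS_shortExact F) W (q + 1) x = 0 := (h (q + 1)).elim _ _
  obtain ⟨y, rfl⟩ := ext_exact₃ (shS_shortExact F) W (q + 1) _ hx
  have : y = 0 := (subsingleton_HU_of_injective (IF F) inferInstance q W).elim _ _
  rw [this, map_zero]

end Shift

section maps

theorem cechHMap_bijective_of_app_bijective {P Q : PSh C} (φ : P ⟶ Q)
    (h : ∀ (n : ℕ) (i : Fin (n + 1) → ι), Function.Bijective (φ.app (op (fp Y i).left)).hom)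
    (p : ℕ) : Function.Bijective (CechEdge.cechHMap Y φ p) := by
  have hf : ∀ n (c : (CechEdge.cx P Y).X n) (i : Fin (n + 1) → ι),
      (proj Y Q n i).hom ((((CechEdge.cxFunctor Y).map φ).f n).hom c) =
        (φ.app _).hom ((proj Y P n i).hom c) := fun n c i =>
    ConcreteCategory.congr_hom (cxMap_proj Y φ n i) c
  have hcomp : ∀ n, IsIso (((CechEdge.cxFunctor Y).map φ).f n) := by
    intro n
    rw [ConcreteCategory.isIso_iff_bijective]
    constructor
    · intro c c' hcc
      apply X_ext
      intro i
      apply (h n i).1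
      have := congrArg (proj Y Q n i).hom hcc
      rw [← hf, ← hf]
      exact this
    · intro c
      have h1 : ∀ i, ∃ y, (φ.app _).hom y = (proj Y Q n i).hom c := fun i => (h n i).2 _
      choose y hy using h1
      refine ⟨mkX Y P y, ?_⟩
      apply X_ext
      intro i
      change (proj Y Q n i).hom ((((CechEdge.cxFunctor Y).map φ).f n).hom _) = _
      rw [hf, proj_mkX, hy]
  have : IsIso ((CechEdge.cxFunctor Y).map φ) := HomologicalComplex.Hom.isIso_of_components _
  have h2 : IsIso (HomologicalComplex.homologyMap ((CechEdge.cxFunctor Y).map φ) p) :=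
    inferInstance
  exact (ConcreteCategory.isIso_iff_bijective _).1 h2

theorem cechHMap_zero_injective {P Q : PSh C} (φ : P ⟶ Q)
    (h : ∀ W : Cᵒᵖ, Function.Injective (φ.app W).hom) :
    Function.Injective (CechEdge.cechHMap Y φ 0) := by
  have hf : ∀ (c : (CechEdge.cx P Y).X 0) (i : Fin (0 + 1) → ι),
      (proj Y Q 0 i).hom ((((CechEdge.cxFunctor Y).map φ).f 0).hom c) =
        (φ.app _).hom ((proj Y P 0 i).hom c) := fun c i =>
    ConcreteCategory.congr_hom (cxMap_proj Y φ 0 i) c
  rw [injective_iff_map_eq_zero]
  intro x hx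
  obtain ⟨z, rfl⟩ := (homologyπ_bijective Y P).2 x
  have h1 := ConcreteCategory.congr_hom
    (HomologicalComplex.homologyπ_naturality ((CechEdge.cxFunctor Y).map φ) 0) z
  rw [ConcreteCategory.comp_apply, ConcreteCategory.comp_apply] at h1
  change (HomologicalComplex.homologyMap ((CechEdge.cxFunctor Y).map φ) 0).hom _ = 0 at hx
  erw [hx] at h1
  have h2 : (HomologicalComplex.cyclesMap ((CechEdge.cxFunctor Y).map φ) 0).hom z = 0 := by
    apply (homologyπ_bijective Y Q).1
    rw [map_zero]
    exact h1.symm
  have h3 := ConcreteCategory.congr_hom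
    (HomologicalComplex.cyclesMap_i ((CechEdge.cxFunctor Y).map φ) 0) z
  rw [ConcreteCategory.comp_apply, ConcreteCategory.comp_apply] at h3
  erw [h2] at h3
  rw [map_zero] at h3
  have h4 : ((CechEdge.cx P Y).iCycles 0).hom z = 0 := by
    apply X_ext
    intro i
    apply h
    rw [map_zero, map_zero]
    have := (hf (((CechEdge.cx P Y).iCycles 0).hom z) i).symm
    rw [this]
    erw [← h3]
    rw [map_zero]
  have h5 : z = 0 := by
    apply iCycles_injective Y P
    rw [h4, map_zero]
  rw [h5, map_zero]

end maps

end Groth.Agent.Lib.Helper21.Cech
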