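import Mathlib
import Groth.Prelude.Def_CechEdge
import Groth.Agent.Lib.Helper21Cech9

set_option autoImplicit false
universe u
open CategoryTheory CategoryTheory.Limits Opposite

namespace Groth.Agent.Lib.Helper21.Cech

variable {C : Type u} [SmallCategory C] [HasPullbacks C]
variable {J : GrothendieckTopology C} {U : C} {ι : Type u} (Y : ι → Over U)
variable (hY : Sieve.ofArrows (fun i => (Y i).left) (fun i => (Y i).hom) ∈ J U)

theorem edge_zero_eq (P : PSh C) : edge Y hY P 0 = e0 Y hY P := rfl

theorem edge_zero_bijective (G : Sheaf J AddCommGrpCat.{u}) :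
    Function.Bijective (edge Y hY G.obj 0) := by
  have : IsIso (toSheafify J G.obj) := isIso_toSheafify J G.property
  have h1 := cechHMap_bijective_of_isIso Y (toSheafify J G.obj) 0
  have h2 := (toCechEquiv Y hY (CechEdge.shf J G.obj)).symm.bijective
  have h3 := (CechEdge.sectH0 J U (CechEdge.shf J G.obj)).bijective
  rw [edge_zero_eq]
  exact h3.comp (h2.comp h1)

variable (F : Sheaf J AddCommGrpCat.{u})

theorem edge_Q'_injective (p : ℕ) (h1 : Function.Injective (CechEdge.cechHMap Y (νF F) p))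
    (h2 : Function.Injective (edge Y hY (shS F).X₃.obj p)) :
    Function.Injective (edge Y hY (preS F).X₃ p) := by
  intro x x' hxx
  apply h1
  apply h2
  rw [edge_natural, edge_natural, hxx]

theorem edge_Q'_surjective (p : ℕ) (h1 : Function.Surjective (CechEdge.cechHMap Y (νF F) p))
    (h2 : Function.Surjective (edge Y hY (shS F).X₃.obj p)) :
    Function.Surjective (edge Y hY (preS F).X₃ p) := by
  intro b'
  obtain ⟨c, hc⟩ := h2 (THmap J U (νF F) p b')
  obtain ⟨b, rfl⟩ := h1 c
  refine ⟨b, ?_⟩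
  apply (HUmap_bijective_of_isIso (CechEdge.shfMap J (νF F)) p U).1
  rw [← hc, edge_natural]

theorem inj_step (p : ℕ) (hα : Function.Surjective (edge Y hY (preS F).X₂ p))
    (hβ : Function.Injective (edge Y hY (preS F).X₃ p)) :
    Function.Injective (edge Y hY F.obj (p + 1)) := by
  rw [injective_iff_map_eq_zero]
  intro c hc
  obtain ⟨b, rfl⟩ := preδ_surjective Y F p c
  have h1 := edge_delta Y hY (preS F) (preS_shortExact F) p b
  have h2 : Tδ J U (preS F) (preS_shortExact F) p (edge Y hY (preS F).X₃ p b) = 0 :=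
    h1.symm.trans hc
  obtain ⟨a', ha'⟩ := ext_exact₃
    ((preS_shortExact F).map_of_exact (presheafToSheaf J AddCommGrpCat.{u})) U p _ h2
  obtain ⟨a, rfl⟩ := hα a'
  have h3 : edge Y hY (preS F).X₃ p (CechEdge.cechHMap Y (preS F).g p a) =
      edge Y hY (preS F).X₃ p b := (edge_natural Y hY (preS F).g p a).trans ha'
  rw [← hβ h3]
  exact Cδ_cechHMap_g Y _ _ p a

theorem surj_step (p : ℕ) (hβ : Function.Surjective (edge Y hY (preS F).X₃ p)) :
    Function.Surjective (edge Y hY F.obj (p + 1)) := by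
  intro c'
  have h0 : THmap J U (preS F).f (p + 1) c' = 0 := (subsingleton_TH_IF F p U).elim _ _
  obtain ⟨b', hb'⟩ := ext_exact₁
    ((preS_shortExact F).map_of_exact (presheafToSheaf J AddCommGrpCat.{u})) U p c' h0
  obtain ⟨b, rfl⟩ := hβ b'
  exact ⟨Cδ Y (preS F) (preS_shortExact F) p b,
    (edge_delta Y hY (preS F) (preS_shortExact F) p b).trans hb'⟩

/-- injectivity of the edge map in degree one -/
theorem edge_one_injective : Function.Injective (edge Y hY F.obj 1) :=
  inj_step Y hY F 0 (edge_zero_bijective Y hY (IF F)).2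
    (edge_Q'_injective Y hY F 0 (cechHMap_zero_injective Y (νF F) (νF_app_injective F))
      (edge_zero_bijective Y hY (shS F).X₃).1)

/-- bijectivity of the edge maps for acyclic sheaves -/
theorem edge_bijective_of_acyclic : ∀ (p : ℕ) (F : Sheaf J AddCommGrpCat.{u}),
    (∀ (n : ℕ) (a : Fin (n + 1) → ι) (q : ℕ),
      Subsingleton (CohSite.HU F (q + 1) (fp Y a).left)) →
    Function.Bijective (edge Y hY F.obj p)
  | 0, F, _ => edge_zero_bijective Y hY F
  | p + 1, F, h => by
    have hI : ∀ (n : ℕ) (a : Fin (n + 1) → ι) (q : ℕ),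
        Subsingleton (CohSite.HU (IF F) (q + 1) (fp Y a).left) :=
      fun n a q => subsingleton_HU_of_injective (IF F) inferInstance q _
    have hQ : ∀ (n : ℕ) (a : Fin (n + 1) → ι) (q : ℕ),
        Subsingleton (CohSite.HU (shS F).X₃ (q + 1) (fp Y a).left) :=
      fun n a q => acyclic_quotient F _ (fun q => h n a q) q
    have ihI := edge_bijective_of_acyclic p (IF F) hI
    have ihQ := edge_bijective_of_acyclic p (shS F).X₃ hQ
    have hν : Function.Bijective (CechEdge.cechHMap Y (νF F) p) :=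
      cechHMap_bijective_of_app_bijective Y (νF F)
        (fun n i => ⟨νF_app_injective F _, νF_app_surjective F _ (h n i 0)⟩) p
    exact ⟨inj_step Y hY F p ihI.2 (edge_Q'_injective Y hY F p hν.1 ihQ.1),
      surj_step Y hY F p (edge_Q'_surjective Y hY F p hν.2 ihQ.2)⟩

/-- `edgeSh` in terms of the family -/
theorem edgeSh_apply
    (e : ∀ (P : Cᵒᵖ ⥤ AddCommGrpCat.{u}) (p : ℕ),
      CohCx.cechH P Y p →+ CohSite.HU (CechEdge.shf J P) p U)
    (p : ℕ) (x : CohCx.cechH F.obj Y p) :
    CechEdge.edgeSh e F p x =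
      CechEdge.HUmap ((sheafificationAdjunction J AddCommGrpCat.{u}).counit.app F) p U
        (e F.obj p x) := rfl

theorem edgeSh_injective_iff
    (e : ∀ (P : Cᵒᵖ ⥤ AddCommGrpCat.{u}) (p : ℕ),
      CohCx.cechH P Y p →+ CohSite.HU (CechEdge.shf J P) p U) (p : ℕ) :
    Function.Injective (CechEdge.edgeSh e F p) ↔ Function.Injective (e F.obj p) := by
  have hb := HUmap_bijective_of_isIso
    ((sheafificationAdjunction J AddCommGrpCat.{u}).counit.app F) p U
  constructor
  · intro h x x' hxx
    apply h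
    rw [edgeSh_apply, edgeSh_apply, hxx]
  · intro h x x' hxx
    rw [edgeSh_apply, edgeSh_apply] at hxx
    exact h (hb.1 hxx)

theorem edgeSh_surjective_iff
    (e : ∀ (P : Cᵒᵖ ⥤ AddCommGrpCat.{u}) (p : ℕ),
      CohCx.cechH P Y p →+ CohSite.HU (CechEdge.shf J P) p U) (p : ℕ) :
    Function.Surjective (CechEdge.edgeSh e F p) ↔ Function.Surjective (e F.obj p) := by
  have hb := HUmap_bijective_of_isIso
    ((sheafificationAdjunction J AddCommGrpCat.{u}).counit.app F) p U
  constructor
  · intro h y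
    obtain ⟨x, hx⟩ := h (CechEdge.HUmap
      ((sheafificationAdjunction J AddCommGrpCat.{u}).counit.app F) p U y)
    rw [edgeSh_apply] at hx
    exact ⟨x, hb.1 hx⟩
  · intro h y
    obtain ⟨y', rfl⟩ := hb.2 y
    obtain ⟨x, rfl⟩ := h y'
    exact ⟨x, rfl⟩

end Groth.Agent.Lib.Helper21.Cech
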