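import Mathlib
import Groth.Agent.S0464
import Groth.Agent.Lib.Helper23AffVanish7
import Groth.Agent.Lib.Helper23AffOpen2

/-!
# The Čech-to-derived comparison map, natural in the sheaf (helper27)

For a family of opens `U` covering a space `X` we construct a single family of additive maps
`cmp U hcov F p : Ȟ^p(U, F) → H^p(X, F)`, for all abelian sheaves `F`, which is natural in `F`
(`cmp_natural`) and bijective when the finite intersections of the cover are `F`-acyclic
(`cmp_bijective`).  This refines S0464/S0013 (which only assert the existence of an isomorphism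
for each `F` separately) and gives linearity of the comparison for module structures induced
by sheaf endomorphisms.
-/

set_option autoImplicit false
universe u
open CategoryTheory CategoryTheory.Limits Opposite TopologicalSpace

namespace Groth.Agent.Lib.Helper27CechNat

open Groth.Agent.Lib.Helper16.CechLow Groth.Agent.Lib.Helper16.CechH1
  Groth.Agent.Lib.Helper16.CechCmp Groth.Agent.Lib.Helper16.CechLES
  Groth.Agent.Lib.Helper23.AffVanish

section Pr

universe v u₁
variable {C : Type u₁} [Category.{v} C] [HasFiniteProducts C] {ι : Type u} (U : ι → C)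
  {P Q : Cᵒᵖ ⥤ AddCommGrpCat.{u}} (α : P ⟶ Q)

/-- the map of Čech complexes induced by a morphism of presheaves is componentwise. -/
lemma map_pr (n : ℕ) (x : Fin (n + 1) → ι) :
    ((cechComplexFunctor U).map α).f n ≫ pr U Q n x = pr U P n x ≫ α.app (op (Ux U x)) := by
  exact limMap_π _ _

end Pr

section Cmp

variable {X : TopCat.{u}} {P Q : (Opens X)ᵒᵖ ⥤ AddCommGrpCat.{u}} (α : P ⟶ Q)
  {W : Opens X} {ι : Type u} (Y : ι → Over W)

/-- the restriction of a morphism of presheaves to `Over W`. -/
abbrev αW : PW P (W := W) ⟶ PW Q := Functor.whiskerLeft (Over.forget W).op α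

lemma toPW_natural {n : ℕ} (x : Fin (n + 1) → ι) :
    toPW P Y x ≫ (αW α).app (op (Ux Y x)) = α.app (op (Ux (UY Y) x)) ≫ toPW Q Y x :=
  α.naturality (homOfLE (left_le Y x)).op

lemma homX_natural (n : ℕ) :
    homX P Y n ≫ ((cechComplexFunctor Y).map (αW α)).f n =
      ((cechComplexFunctor (UY Y)).map α).f n ≫ homX Q Y n := by
  refine Pi.hom_ext _ _ (fun (x : Fin (n + 1) → ι) => ?_)
  have : (homX P Y n ≫ ((cechComplexFunctor Y).map (αW α)).f n) ≫ pr Y (PW Q) n x =
      (((cechComplexFunctor (UY Y)).map α).f n ≫ homX Q Y n) ≫ pr Y (PW Q) n x := by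
    rw [Category.assoc, map_pr, ← Category.assoc, homX_pr, Category.assoc, toPW_natural,
      Category.assoc, homX_pr, ← Category.assoc, ← Category.assoc, map_pr]
  exact this

lemma isoCx_natural :
    (isoCx P Y).hom ≫ (cechComplexFunctor Y).map (αW α) =
      (cechComplexFunctor (UY Y)).map α ≫ (isoCx Q Y).hom := by
  ext n : 1
  exact homX_natural α Y n

/-- the induced map on Čech cohomology of a family of opens. -/
noncomputable abbrev cechMap {ι : Type u} (U : ι → Opens X) (p : ℕ) :
    CohTop.cechH P U p →+ CohTop.cechH Q U p :=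
  (HomologicalComplex.homologyMap ((cechComplexFunctor U).map α) p).hom

lemma isoH_natural (p : ℕ) (x : CohTop.cechH P (UY Y) p) :
    (isoH Q Y p).hom (cechMap α (UY Y) p x) =
      CechEdge.cechHMap Y α p ((isoH P Y p).hom x) := by
  have h := congrArg (fun f => (HomologicalComplex.homologyFunctor _ _ p).map f) (isoCx_natural α Y)
  simp only [Functor.map_comp] at h
  exact (ConcreteCategory.congr_hom h x).symm

end Cmp

section Edge

variable {C : Type u} [SmallCategory C] [HasPullbacks C] {J : GrothendieckTopology C}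

lemma HUmap_comp {F G H : Sheaf J AddCommGrpCat.{u}} (a : F ⟶ G) (b : G ⟶ H) (p : ℕ) (U : C)
    (x : CohSite.HU F p U) :
    CechEdge.HUmap (a ≫ b) p U x = CechEdge.HUmap b p U (CechEdge.HUmap a p U x) := by
  change (((Sheaf.cohomologyPresheafFunctor J p).map (a ≫ b)).app (op U)).hom x = _
  rw [Functor.map_comp]
  rfl

/-- the comparison maps `edgeSh` are natural in the sheaf. -/
lemma edgeSh_natural {U : C} {ι : Type u} {Y : ι → Over U}
    (e : ∀ (P : Cᵒᵖ ⥤ AddCommGrpCat.{u}) (p : ℕ),
      CohCx.cechH P Y p →+ CohSite.HU (CechEdge.shf J P) p U)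
    (he : CechEdge.IsEdge J Y e) {F G : Sheaf J AddCommGrpCat.{u}} (ψ : F ⟶ G) (p : ℕ)
    (x : CohCx.cechH F.obj Y p) :
    CechEdge.edgeSh e G p (CechEdge.cechHMap Y ψ.hom p x) =
      CechEdge.HUmap ψ p U (CechEdge.edgeSh e F p x) := by
  change CechEdge.HUmap ((sheafificationAdjunction J AddCommGrpCat.{u}).counit.app G) p U
      (e G.obj p (CechEdge.cechHMap Y ψ.hom p x)) =
    CechEdge.HUmap ψ p U
      (CechEdge.HUmap ((sheafificationAdjunction J AddCommGrpCat.{u}).counit.app F) p U
        (e F.obj p x))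
  rw [he.natural, ← HUmap_comp, ← HUmap_comp]
  congr 2
  exact (sheafificationAdjunction J AddCommGrpCat.{u}).counit.naturality ψ

end Edge

section Top

variable {X : TopCat.{u}} {ι : Type u} (U : ι → Opens X) (hcov : iSup U = ⊤)

/-- the cover as a family over the whole space. -/
abbrev Yt : ι → Over (⊤ : Opens X) := fam U ⊤ (fun _ => le_top)

include hcov in
lemma covers : Sieve.ofArrows (fun i => (Yt U i).left) (fun i => (Yt U i).hom) ∈
    Opens.grothendieckTopology X ⊤ := by
  apply covering_of_iSup (Yt U)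
  change ⊤ ≤ iSup U
  rw [hcov]

/-- a chosen edge family for the cover. -/
noncomputable def edge : ∀ (P : (Opens X)ᵒᵖ ⥤ AddCommGrpCat.{u}) (p : ℕ),
    CohCx.cechH P (Yt U) p →+ CohSite.HU (CechEdge.shf (Opens.grothendieckTopology X) P) p ⊤ :=
  Classical.choose (Groth.Agent.S16019.result (Opens.grothendieckTopology X) (Yt U) (covers U hcov))

lemma isEdge : CechEdge.IsEdge (Opens.grothendieckTopology X) (Yt U) (edge U hcov) :=
  Classical.choose_spec (Groth.Agent.S16019.result (Opens.grothendieckTopology X) (Yt U) (covers U hcov))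

/-- the comparison map from Čech cohomology to sheaf cohomology. -/
noncomputable def cmp (F : CohTop.Ab X) (p : ℕ) : CohTop.cechH F.obj U p →+ CohTop.H F p :=
  (HETopEquivH X F p).toAddMonoidHom.comp
    ((CechEdge.edgeSh (edge U hcov) F p).comp
      (isoH' F.obj U ⊤ (fun _ => le_top) p).hom.hom)

lemma cmp_apply (F : CohTop.Ab X) (p : ℕ) (x : CohTop.cechH F.obj U p) :
    cmp U hcov F p x = HETopEquivH X F p
      (CechEdge.edgeSh (edge U hcov) F p ((isoH F.obj (Yt U) p).hom x)) := rfl

theorem cmp_bijective (F : CohTop.Ab X)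
    (h : ∀ (p : ℕ) (a : Fin (p + 1) → ι) (q : ℕ),
      Subsingleton (CohTop.HU F (q + 1) (iInf fun k => U (a k)))) (p : ℕ) :
    Function.Bijective (cmp U hcov F p) := by
  have hh : ∀ (p : ℕ) (a : Fin (p + 1) → ι) (q : ℕ),
      Subsingleton (CohSite.HU F (q + 1) (∏ᶜ fun k => Yt U (a k)).left) := by
    intro p a q
    have e : (∏ᶜ fun k => Yt U (a k)).left = iInf fun k => U (a k) := by
      rw [← Groth.Agent.S0493.prod_eq_iInf]
      exact le_antisymm (left_le (Yt U) a) (le_left (Yt U) a)
    rw [e]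
    exact h p a q
  have h1 := Groth.Agent.S16022.result (Opens.grothendieckTopology X) (Yt U) (edge U hcov)
    (isEdge U hcov) F hh p
  have h2 : Function.Bijective (isoH F.obj (Yt U) p).hom :=
    ConcreteCategory.bijective_of_isIso _
  exact (HETopEquivH X F p).bijective.comp (h1.comp h2)

theorem cmp_natural {F G : CohTop.Ab X} (ψ : F ⟶ G) (p : ℕ) (x : CohTop.cechH F.obj U p) :
    cmp U hcov G p (cechMap ψ.hom U p x) = Sheaf.H.map ψ p (cmp U hcov F p x) := by
  rw [cmp_apply, cmp_apply]
  have h1 : (isoH G.obj (Yt U) p).hom (cechMap ψ.hom U p x) =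
      CechEdge.cechHMap (Yt U) ψ.hom p ((isoH F.obj (Yt U) p).hom x) :=
    isoH_natural ψ.hom (Yt U) p x
  have h2 := edgeSh_natural (edge U hcov) (isEdge U hcov) ψ p ((isoH F.obj (Yt U) p).hom x)
  have h3 : ∀ y : HE F p ⊤, HETopEquivH X G p (CechEdge.HUmap ψ p ⊤ y) =
      Sheaf.H.map ψ p (HETopEquivH X F p y) := by
    intro y
    exact (Abelian.Ext.comp_assoc_of_third_deg_zero (Abelian.Ext.mk₀ (wTop X)) y
      (Abelian.Ext.mk₀ ψ) (zero_add p)).symm
  exact (congrArg (fun z => HETopEquivH X G p (CechEdge.edgeSh (edge U hcov) G p z)) h1).trans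
    ((congrArg (HETopEquivH X G p) h2).trans (h3 _))

end Top

section Sch

open AlgebraicGeometry

variable {X : Scheme.{u}} {ι : Type u} (U : ι → X.Opens) (hcov : ⨆ i, U i = ⊤)

/-- the comparison map for an `O_X`-module. -/
noncomputable def cmpM (M : X.Modules) (p : ℕ) : ↑(CohB1.cechH U M p) →+ Coh.HH X M p :=
  cmp U hcov (Coh.toAb M) p

theorem cmpM_bijective (hU : ∀ s : Finset ι, s.Nonempty → IsAffineOpen (⨅ i ∈ s, U i))
    (M : X.Modules) [Coh.IsQCoh M] (p : ℕ) : Function.Bijective (cmpM U hcov M p) := by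
  have h : ∀ (p : ℕ) (a : Fin (p + 1) → ι) (q : ℕ),
      Subsingleton (CohTop.HU (ab' M) (q + 1) (iInf fun k => U (a k))) := by
    intro p a q
    have haff : IsAffineOpen (iInf fun k => U (a k)) := by
      classical
      have := hU (Finset.image a Finset.univ) (Finset.image_nonempty.2 Finset.univ_nonempty)
      have e : (⨅ i ∈ Finset.image a Finset.univ, U i) = iInf fun k => U (a k) := by
        apply le_antisymm
        · refine le_iInf fun k => ?_
          exact iInf₂_le (a k) (Finset.mem_image.2 ⟨k, Finset.mem_univ k, rfl⟩)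
        · refine le_iInf₂ fun i hi => ?_
          obtain ⟨k, -, rfl⟩ := Finset.mem_image.1 hi
          exact iInf_le _ k
      rwa [e] at this
    exact subsingleton_HE_of_isAffineOpen haff M q
  exact cmp_bijective U hcov (ab' M) h p

/-- the map on Čech cohomology induced by a morphism of the underlying abelian sheaves. -/
noncomputable def cechMapM {M N : X.Modules} (ψ : Coh.toAb M ⟶ Coh.toAb N) (p : ℕ) :
    ↑(CohB1.cechH U M p) →+ ↑(CohB1.cechH U N p) :=
  cechMap ψ.hom U p

theorem cmpM_natural {M N : X.Modules} (ψ : Coh.toAb M ⟶ Coh.toAb N) (p : ℕ)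
    (x : ↑(CohB1.cechH U M p)) :
    cmpM U hcov N p (cechMapM U ψ p x) = Sheaf.H.map ψ p (cmpM U hcov M p x) :=
  cmp_natural U hcov ψ p x

/-- the comparison map is linear over the global functions. -/
theorem cmpM_smul (M : X.Modules) (p : ℕ) (r : Coh.Γtop X) (x : ↑(CohB1.cechH U M p)) :
    cmpM U hcov M p (cechMapM U (Coh.smulAb M r) p x) = r • cmpM U hcov M p x :=
  cmpM_natural U hcov (Coh.smulAb M r) p x

/-- linearity over a base ring `A` when `X` is a scheme over `Spec A`. -/
theorem cmpM_smulOver {A : Type u} [CommRing A] [X.Over (Spec (CommRingCat.of A))]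
    (M : X.Modules) (p : ℕ) (a : A) (x : ↑(CohB1.cechH U M p)) :
    cmpM U hcov M p
        (cechMapM U (Coh.smulAb M (Coh.toGlobal (X ↘ Spec (CommRingCat.of A)) a)) p x) =
      a • cmpM U hcov M p x :=
  cmpM_smul U hcov M p _ x

include hcov in
/-- an `A`-linear description of Čech cohomology for an affine-intersection cover gives an
`A`-linear description of sheaf cohomology. -/
theorem nonempty_linearEquiv_of_cech {A : Type u} [CommRing A]
    [X.Over (Spec (CommRingCat.of A))]
    (hU : ∀ s : Finset ι, s.Nonempty → IsAffineOpen (⨅ i ∈ s, U i))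
    (M : X.Modules) [Coh.IsQCoh M] (p : ℕ) {S : Type*} [AddCommGroup S] [Module A S]
    (Ψ : ↑(CohB1.cechH U M p) →+ S) (hΨ : Function.Bijective Ψ)
    (hlin : ∀ (a : A) (x : ↑(CohB1.cechH U M p)),
      Ψ (cechMapM U (Coh.smulAb M (Coh.toGlobal (X ↘ Spec (CommRingCat.of A)) a)) p x) =
        a • Ψ x) :
    Nonempty (Coh.HH X M p ≃ₗ[A] S) := by
  let e1 := AddEquiv.ofBijective (cmpM U hcov M p) (cmpM_bijective U hcov hU M p)
  let e2 := AddEquiv.ofBijective Ψ hΨ
  refine ⟨{ (e1.symm.trans e2) with map_smul' := ?_ }⟩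
  intro a y
  obtain ⟨x, rfl⟩ := e1.surjective y
  have h1 : a • e1 x =
      e1 (cechMapM U (Coh.smulAb M (Coh.toGlobal (X ↘ Spec (CommRingCat.of A)) a)) p x) :=
    (cmpM_smulOver U hcov M p a x).symm
  change e2 (e1.symm (a • e1 x)) = a • e2 (e1.symm (e1 x))
  rw [h1, AddEquiv.symm_apply_apply, AddEquiv.symm_apply_apply]
  exact hlin a x

end Sch

end Groth.Agent.Lib.Helper27CechNat
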