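import Groth.Agent.Lib.Helper27PnCech
import Groth.Agent.Lib.Helper27AltCocycle
import Groth.Agent.Lib.Helper27CechNat
import Groth.Agent.Lib.Helper27TwistGen

/-!
# The top Čech cohomology of `O(d)` on `P^n_R` for the standard cover (helper27)
-/

set_option autoImplicit false
universe u

open CategoryTheory CategoryTheory.Limits AlgebraicGeometry TopologicalSpace Opposite
  HomogeneousLocalization MvPolynomial

namespace Groth.Agent.Lib.Helper27PnTop

open Groth.Agent.Lib.Helper27GrTildeSect Groth.Agent.Lib.Helper27ProjGamma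
  Groth.Agent.Lib.Helper27PnSections Groth.Agent.Lib.Helper27Laurent
  Groth.Agent.Lib.Helper27PnLau Groth.Agent.Lib.Helper16.CechLow
  Groth.Agent.Lib.Helper27PnCech Groth.Agent.Lib.Helper27AltCocycle

section Smul

variable {σ : Type*} [Fintype σ] {R : Type*} [CommRing R]

theorem lcoef_smul (v : σ → ℤ) (r : R) (F : MvPolynomial σ R) (e : σ → ℤ) :
    lcoef v (r • F) e = r * lcoef v F e := by
  unfold lcoef
  split_ifs
  · rw [coeff_smul, smul_eq_mul]
  · rw [mul_zero]

end Smul

variable {n : ℕ} {R : Type u} [CommRing R] (d : ℤ)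

local notation "𝒢" => CohB1.polyGrading n R

/-- the Laurent coefficients are `R`-linear for the action of constants. -/
theorem lauC_smul (W : (Proj 𝒢).Opens) (hW : torus n R ≤ W) (r : R)
    (s : Γ(GrTilde.tilde 𝒢 𝒢 d, W)) (e : Fin (n + 1) → ℤ) :
    lauC d W hW (((Proj 𝒢).presheaf.map (homOfLE (le_top : W ≤ ⊤)).op (constFun 𝒢 r)) • s) e =
      r * lauC d W hW s e := by
  obtain ⟨hF, hi, hval⟩ := rep_spec d W hW s
  have hdef : lauC d W hW s e = lcoef (fun _ => (repK d W hW s : ℤ)) (repF d W hW s) e := rfl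
  rw [hdef]
  generalize repK d W hW s = k at hF hi hval ⊢
  generalize repI d W hW s = i at hF hi hval ⊢
  generalize repF d W hW s = F at hF hi hval ⊢
  have h := lauC_eq d W hW
    (((Proj 𝒢).presheaf.map (homOfLE (le_top : W ≤ ⊤)).op (constFun 𝒢 r)) • s) (ones n) k i
    (r • F) (Submodule.smul_mem _ r hF) (by rw [hi, degree_ones]; push_cast; ring)
    (fun y hy => by
      obtain ⟨j, hj⟩ := exists_X_not_mem n R y
      rw [secVal_smul', funVal_map 𝒢 le_top _ y (hW hy),
        funVal_constFun_val 𝒢 (hX n R j) Nat.one_pos r y hj, hval y hy, Localization.mk_mul,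
        one_mul, Algebra.smul_def]) e
  rw [h, lcoef_smul]
  congr 2
  funext i
  simp

theorem hat_add {p : ℕ} (c c' : (CK (V n R) (P n R d)).X p)
    (x : Fin (p + 1) → ULift.{u} (Fin (n + 1))) (e : Fin (n + 1) → ℤ) :
    hat d (c + c') x e = hat d c x e + hat d c' x e := by
  unfold hat
  rw [map_add, lauC_add]

/-- lifting a tuple to the index type of the cover. -/
def up {p : ℕ} (x : Fin (p + 1) → Fin (n + 1)) : Fin (p + 1) → ULift.{u} (Fin (n + 1)) :=
  fun a => ⟨x a⟩

theorem up_down {p : ℕ} (x : Fin (p + 1) → ULift.{u} (Fin (n + 1))) :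
    up (fun a => (x a).down) = x := rfl

/-- coefficients at all-negative exponents vanish on non-surjective tuples. -/
theorem hat_eq_zero_of_not_surjective {p : ℕ} (c : (CK (V n R) (P n R d)).X p)
    (x : Fin (p + 1) → ULift.{u} (Fin (n + 1))) (e : Fin (n + 1) → ℤ) (he : ∀ i, e i < 0)
    (hx : ¬ Function.Surjective (fun a => (x a).down)) : hat d c x e = 0 := by
  by_contra hne
  obtain ⟨-, h2⟩ := hat_ne_zero d c x e hne
  apply hx
  intro i
  by_contra hi
  push Not at hi
  exact absurd (h2 i hi) (not_le.mpr (he i))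

/-- top-degree cocycles are alternating at all-negative exponents. -/
theorem hat_eq_D (c : (CK (V n R) (P n R d)).X n)
    (hc : (CK (V n R) (P n R d)).d n (n + 1) c = 0) (e : Fin (n + 1) → ℤ) (he : ∀ i, e i < 0)
    (x : Fin (n + 1) → Fin (n + 1)) :
    hat d c (up x) e = D x • hat d c (up id) e := by
  have h0 : ∀ x : Fin (n + 1) → Fin (n + 1), ¬ Function.Injective x → hat d c (up x) e = 0 := by
    intro x hx
    apply hat_eq_zero_of_not_surjective d c (up x) e he
    intro hs
    exact hx (Finite.injective_iff_surjective.mpr hs)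
  have h1 : ∀ y : Fin (n + 2) → Fin (n + 1),
      ∑ i : Fin (n + 2), (-1 : ℤ) ^ (i : ℕ) • hat d c (up (y ∘ Fin.succAbove i)) e = 0 := by
    intro y
    have h := hat_d d c (up y) e
    rw [hc, hat_zero] at h
    exact h.symm
  by_cases hx : Function.Injective x
  · let σ : Equiv.Perm (Fin (n + 1)) :=
      Equiv.ofBijective x ⟨hx, Finite.injective_iff_surjective.mp hx⟩
    have hσ : (σ : Fin (n + 1) → Fin (n + 1)) = x := rfl
    have e1 := alt (fun x => hat d c (up x) e) h0 h1 σ
    have e2 := alt (fun x => D x) D_of_not_injective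
      (fun y => by simpa only [smul_eq_mul] using D_cocycle y) σ
    rw [D_id, smul_eq_mul, mul_one] at e2
    rw [hσ] at e1 e2
    rw [e1, e2]
  · rw [h0 x hx, D_of_not_injective x hx, zero_smul]

/-- the all-negative exponent attached to a monomial: `X^m ↦ X^{-(m+1)}`. -/
def negExp (m : Fin (n + 1) →₀ ℕ) : Fin (n + 1) → ℤ := fun i => -((m i : ℤ) + 1)

theorem negExp_neg (m : Fin (n + 1) →₀ ℕ) (i : Fin (n + 1)) : negExp m i < 0 := by
  unfold negExp
  omega

theorem negExp_injective : Function.Injective (negExp (n := n)) := by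
  intro m m' h
  ext i
  have := congrFun h i
  unfold negExp at this
  omega

/-- the monomial attached to an all-negative exponent. -/
noncomputable def invExp (e : Fin (n + 1) → ℤ) : Fin (n + 1) →₀ ℕ :=
  Finsupp.equivFunOnFinite.symm (fun i => (-(e i) - 1).toNat)

theorem invExp_negExp (m : Fin (n + 1) →₀ ℕ) : invExp (negExp m) = m := by
  ext i
  unfold invExp negExp
  simp

theorem negExp_invExp (e : Fin (n + 1) → ℤ) (he : ∀ i, e i < 0) : negExp (invExp e) = e := by
  funext i
  unfold invExp negExp
  have := he i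
  simp only [Finsupp.equivFunOnFinite_symm_apply_apply]
  omega

theorem sum_negExp (m : Fin (n + 1) →₀ ℕ) :
    ∑ i, negExp m i = -(((Finsupp.degree m : ℕ) : ℤ) + (n + 1)) := by
  unfold negExp
  rw [Finset.sum_neg_distrib, Finset.sum_add_distrib, Finsupp.degree_eq_sum]
  simp

/-- the top coefficients of a cochain of degree `n`. -/
noncomputable def topCoef (c : (CK (V n R) (P n R d)).X n) (m : Fin (n + 1) →₀ ℕ) : R :=
  hat d c (up id) (negExp m)

theorem finite_topCoef (c : (CK (V n R) (P n R d)).X n) :
    {m : Fin (n + 1) →₀ ℕ | topCoef d c m ≠ 0}.Finite :=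
  (finite_support_hat d c (up id)).preimage negExp_injective.injOn

/-- the polynomial of top coefficients. -/
noncomputable def topPoly (c : (CK (V n R) (P n R d)).X n) : MvPolynomial (Fin (n + 1)) R :=
  ∑ m ∈ (finite_topCoef d c).toFinset, monomial m (topCoef d c m)

theorem coeff_topPoly (c : (CK (V n R) (P n R d)).X n) (m : Fin (n + 1) →₀ ℕ) :
    coeff m (topPoly d c) = topCoef d c m := by
  classical
  unfold topPoly
  rw [coeff_sum]
  simp only [coeff_monomial]
  rw [Finset.sum_ite_eq']
  split_ifs with h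
  · rfl
  · rw [Set.Finite.mem_toFinset] at h
    by_contra h'
    exact h (fun h'' => h' h''.symm)

theorem topPoly_add (c c' : (CK (V n R) (P n R d)).X n) :
    topPoly d (c + c') = topPoly d c + topPoly d c' := by
  ext m
  rw [coeff_add, coeff_topPoly, coeff_topPoly, coeff_topPoly]
  exact hat_add d c c' _ _

theorem topPoly_isHomogeneous (k : ℕ) (hd : d = -((n : ℤ) + 1 + k))
    (c : (CK (V n R) (P n R d)).X n) : (topPoly d c).IsHomogeneous k := by
  intro m hm
  rw [coeff_topPoly] at hm
  obtain ⟨h1, -⟩ := hat_ne_zero d c (up id) (negExp m) hm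
  rw [sum_negExp, hd] at h1
  have h2 : Finsupp.weight (1 : Fin (n + 1) → ℕ) m = Finsupp.degree m := by
    rw [Finsupp.degree_eq_weight_one]
    rfl
  rw [h2]
  have : ((Finsupp.degree m : ℕ) : ℤ) = k := by linarith
  exact_mod_cast this

/-- coboundaries have no top coefficients. -/
theorem topPoly_d (i : ℕ) (b : (CK (V n R) (P n R d)).X i) :
    topPoly d ((CK (V n R) (P n R d)).d i n b) = 0 := by
  by_cases h : i + 1 = n
  · subst h
    ext m
    rw [coeff_topPoly, coeff_zero]
    unfold topCoef
    rw [hat_d]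
    apply Finset.sum_eq_zero
    intro j _
    rw [hat_eq_zero_of_not_surjective d b _ (negExp m) (negExp_neg m), smul_zero]
    intro hs
    obtain ⟨a, ha⟩ := hs j
    exact Fin.succAbove_ne j a ha
  · have h0 : (CK (V n R) (P n R d)).d i n = 0 := (CK (V n R) (P n R d)).shape i n h
    rw [h0]
    ext m
    rw [coeff_topPoly, coeff_zero]
    exact hat_zero d _ _

/-- cocycles of positive degree without all-negative coefficients are coboundaries. -/
theorem exists_primitive_of_neg (p : ℕ)
    (c : (CK (V n R) (P n R d)).X (p + 1))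
    (hc : (CK (V n R) (P n R d)).d (p + 1) (p + 2) c = 0)
    (hneg : ∀ y e, (∀ i, e i < 0) → hat d c y e = 0) :
    ∃ b : (CK (V n R) (P n R d)).X p, (CK (V n R) (P n R d)).d p (p + 1) b = c := by
  classical
  let jj : (Fin (n + 1) → ℤ) → ULift.{u} (Fin (n + 1)) :=
    fun e => if h : ∃ i, 0 ≤ e i then ⟨h.choose⟩ else ⟨0⟩
  have hjj : ∀ e : Fin (n + 1) → ℤ, (∃ i, 0 ≤ e i) → 0 ≤ e (jj e).down := by
    intro e h
    simp only [jj, dif_pos h]
    exact h.choose_spec
  let r : (Fin (p + 1) → ULift.{u} (Fin (n + 1))) → (Fin (n + 1) → ℤ) → R :=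
    fun x e => hat d c (Fin.cons (jj e) x) e
  let S : (Fin (p + 1) → ULift.{u} (Fin (n + 1))) → Finset (Fin (n + 1) → ℤ) :=
    fun x => ((Finset.univ : Finset (ULift.{u} (Fin (n + 1)))).biUnion
      (fun j => (finite_support_hat d c (Fin.cons j x)).toFinset)).filter
        (fun e => (∃ i, 0 ≤ e i) ∧ r x e ≠ 0)
  have hS : ∀ x, ∀ e ∈ S x, ∑ i, e i = d ∧ ∀ i, (∀ a, (x a).down ≠ i) → 0 ≤ e i := by
    intro x e he
    obtain ⟨-, hex, hre⟩ := Finset.mem_filter.mp he
    obtain ⟨h1, h2⟩ := hat_ne_zero d c (Fin.cons (jj e) x) e hre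
    refine ⟨h1, fun i hi => ?_⟩
    by_cases hij : (jj e).down = i
    · rw [← hij]
      exact hjj e hex
    · apply h2 i
      intro a
      refine Fin.cases ?_ (fun a' => ?_) a
      · rw [Fin.cons_zero]
        exact hij
      · rw [Fin.cons_succ]
        exact hi a'
  obtain ⟨b, hb⟩ := exists_cochain d p S r hS
  have hb' : ∀ x e, hat d b x e = if (∃ i, 0 ≤ e i) then r x e else 0 := by
    intro x e
    rw [hb x e]
    by_cases hex : ∃ i, 0 ≤ e i
    · rw [if_pos hex]
      by_cases hre : r x e = 0
      · rw [hre]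
        split_ifs <;> rfl
      · rw [if_pos]
        refine Finset.mem_filter.mpr ⟨?_, hex, hre⟩
        rw [Finset.mem_biUnion]
        exact ⟨jj e, Finset.mem_univ _, (Set.Finite.mem_toFinset _).mpr hre⟩
    · rw [if_neg hex, if_neg]
      intro he
      exact hex (Finset.mem_filter.mp he).2.1
  refine ⟨b, ext_of_hat d _ _ (fun y e => ?_)⟩
  rw [hat_d]
  by_cases hex : ∃ i, 0 ≤ e i
  · have h0 : hat d ((CK (V n R) (P n R d)).d (p + 1) (p + 2) c) (Fin.cons (jj e) y) e = 0 := by
      rw [hc, hat_zero]
    rw [hat_d, Fin.sum_univ_succ] at h0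
    simp only [Fin.val_zero, pow_zero, one_smul, cons_comp_succAbove_zero,
      cons_comp_succAbove_succ, Fin.val_succ, pow_succ, mul_neg, mul_one, neg_smul,
      Finset.sum_neg_distrib] at h0
    have h1 : hat d c y e =
        ∑ i : Fin (p + 2), (-1 : ℤ) ^ (i : ℕ) • hat d c (Fin.cons (jj e) (y ∘ Fin.succAbove i)) e := by
      rw [← sub_eq_zero, sub_eq_add_neg]
      exact h0
    rw [h1]
    refine Finset.sum_congr rfl (fun i _ => ?_)
    rw [hb', if_pos hex]
  · have hL : ∑ i : Fin (p + 2), (-1 : ℤ) ^ (i : ℕ) • hat d b (y ∘ Fin.succAbove i) e = 0 := by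
      apply Finset.sum_eq_zero
      intro i _
      rw [hb', if_neg hex, smul_zero]
    rw [hL]
    push Not at hex
    exact (hneg y e hex).symm

/-- top-degree cocycles without top coefficients have no all-negative coefficients. -/
theorem hat_eq_zero_of_topPoly (c : (CK (V n R) (P n R d)).X n)
    (hc : (CK (V n R) (P n R d)).d n (n + 1) c = 0) (h : topPoly d c = 0)
    (y : Fin (n + 1) → ULift.{u} (Fin (n + 1))) (e : Fin (n + 1) → ℤ) (he : ∀ i, e i < 0) :
    hat d c y e = 0 := by
  have h1 := hat_eq_D d c hc e he (fun a => (y a).down)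
  rw [up_down] at h1
  rw [h1]
  have h2 : hat d c (up id) e = coeff (invExp e) (topPoly d c) := by
    rw [coeff_topPoly]
    unfold topCoef
    rw [negExp_invExp e he]
  rw [h2, h, coeff_zero, smul_zero]

/-- every homogeneous polynomial of degree `k` is the top polynomial of a cocycle of
`O(-(n+1+k))`. -/
theorem exists_cocycle (k : ℕ) (hd : d = -((n : ℤ) + 1 + k))
    (f : MvPolynomial (Fin (n + 1)) R) (hf : f.IsHomogeneous k) :
    ∃ c : (CK (V n R) (P n R d)).X n,
      (CK (V n R) (P n R d)).d n (n + 1) c = 0 ∧ topPoly d c = f := by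
  classical
  let S : (Fin (n + 1) → ULift.{u} (Fin (n + 1))) → Finset (Fin (n + 1) → ℤ) :=
    fun x => if Function.Surjective (fun a => (x a).down) then f.support.image negExp else ∅
  let r : (Fin (n + 1) → ULift.{u} (Fin (n + 1))) → (Fin (n + 1) → ℤ) → R :=
    fun x e => D (fun a => (x a).down) • coeff (invExp e) f
  have hS : ∀ x, ∀ e ∈ S x, ∑ i, e i = d ∧ ∀ i, (∀ a, (x a).down ≠ i) → 0 ≤ e i := by
    intro x e he
    by_cases hx : Function.Surjective (fun a => (x a).down)
    · simp only [S, if_pos hx, Finset.mem_image] at he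
      obtain ⟨m, hm, rfl⟩ := he
      constructor
      · rw [sum_negExp, hd]
        have h1 : Finsupp.weight (1 : Fin (n + 1) → ℕ) m = k := hf (mem_support_iff.mp hm)
        have h2 : Finsupp.weight (1 : Fin (n + 1) → ℕ) m = Finsupp.degree m := by
          rw [Finsupp.degree_eq_weight_one]
          rfl
        rw [h2] at h1
        rw [h1]
        ring
      · intro i hi
        obtain ⟨a, ha⟩ := hx i
        exact absurd ha (hi a)
    · simp only [S, if_neg hx] at he
      exact absurd he (Finset.notMem_empty _)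
  obtain ⟨c, hc⟩ := exists_cochain d n S r hS
  have hc' : ∀ x e, hat d c x e =
      if e ∈ f.support.image negExp then D (fun a => (x a).down) • coeff (invExp e) f else 0 := by
    intro x e
    rw [hc x e]
    by_cases hx : Function.Surjective (fun a => (x a).down)
    · simp only [S, if_pos hx, r]
    · simp only [S, if_neg hx, Finset.notMem_empty, if_false]
      rw [D_of_not_injective _ (fun hi => hx (Finite.injective_iff_surjective.mp hi)), zero_smul]
      split_ifs <;> rfl
  refine ⟨c, ?_, ?_⟩
  · apply ext_of_hat d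
    intro y e
    rw [hat_d, hat_zero]
    by_cases he : e ∈ f.support.image negExp
    · have h1 : ∀ i : Fin (n + 2), hat d c (y ∘ Fin.succAbove i) e =
          D ((fun a => (y a).down) ∘ Fin.succAbove i) • coeff (invExp e) f := by
        intro i
        rw [hc', if_pos he]
        rfl
      simp only [h1, smul_smul]
      rw [← Finset.sum_smul, D_cocycle, zero_smul]
    · apply Finset.sum_eq_zero
      intro i _
      rw [hc', if_neg he, smul_zero]
  · ext m
    rw [coeff_topPoly]
    unfold topCoef
    rw [hc']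
    by_cases hm : m ∈ f.support
    · rw [if_pos (Finset.mem_image_of_mem _ hm), invExp_negExp]
      have : (fun a => ((up (id : Fin (n + 1) → Fin (n + 1)) a : ULift.{u} (Fin (n + 1))).down)) = id :=
        rfl
      rw [this, D_id, one_smul]
    · rw [if_neg]
      · exact (notMem_support_iff.mp hm).symm
      · intro h
        obtain ⟨m', hm', h'⟩ := Finset.mem_image.mp h
        rw [negExp_injective h'] at hm'
        exact hm hm'

section Scalar

open Groth.Agent.Lib.Helper27CechNat

/-- multiplication by a constant, as an endomorphism of the abelian sheaf of `O(d)`. -/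
noncomputable abbrev smulR (r : R) :
    Coh.toAb (GrTilde.tilde 𝒢 𝒢 d) ⟶ Coh.toAb (GrTilde.tilde 𝒢 𝒢 d) :=
  Coh.smulAb (GrTilde.tilde 𝒢 𝒢 d) (constFun 𝒢 r)

/-- multiplication by a constant, as an endomorphism of the presheaf of `O(d)`. -/
noncomputable def smulP (r : R) : P n R d ⟶ P n R d := (smulR d r).hom

theorem hat_smul {p : ℕ} (r : R) (c : (CK (V n R) (P n R d)).X p)
    (x : Fin (p + 1) → ULift.{u} (Fin (n + 1))) (e : Fin (n + 1) → ℤ) :
    hat d (((cechComplexFunctor (V n R)).map (smulP d r)).f p c) x e = r * hat d c x e := by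
  unfold hat
  have h := ConcreteCategory.congr_hom (map_pr (V n R) (smulP d r) p x) c
  have h2 : pr (V n R) (P n R d) p x (((cechComplexFunctor (V n R)).map (smulP d r)).f p c) =
      (smulP d r).app (op (Ux (V n R) x)) (pr (V n R) (P n R d) p x c) := h
  rw [h2]
  exact lauC_smul d (Ux (V n R) x) (torus_le_Ux n R x) r _ e

theorem topPoly_smul (r : R) (c : (CK (V n R) (P n R d)).X n) :
    topPoly d (((cechComplexFunctor (V n R)).map (smulP d r)).f n c) = r • topPoly d c := by
  ext m
  rw [coeff_smul, coeff_topPoly, coeff_topPoly, smul_eq_mul]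
  exact hat_smul d r c _ _

end Scalar

section Homology

variable (R) (k : ℕ) (hd : d = -((n : ℤ) + 1 + k))

/-- the top polynomial as an additive map into homogeneous polynomials. -/
noncomputable def topHom : (CK (V n R) (P n R d)).X n →+
    ↥(MvPolynomial.homogeneousSubmodule (Fin (n + 1)) R k) :=
  AddMonoidHom.mk'
    (fun c => ⟨topPoly d c,
      (mem_homogeneousSubmodule _ _).mpr (topPoly_isHomogeneous d k hd c)⟩)
    (fun c c' => Subtype.ext (topPoly_add d c c'))

theorem topHom_val (c : (CK (V n R) (P n R d)).X n) :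
    (topHom R d k hd c : MvPolynomial (Fin (n + 1)) R) = topPoly d c := rfl

/-- the top polynomial as a morphism of abelian groups. -/
noncomputable def topMor : (CK (V n R) (P n R d)).X n ⟶
    AddCommGrpCat.of ↥(MvPolynomial.homogeneousSubmodule (Fin (n + 1)) R k) :=
  AddCommGrpCat.ofHom (topHom R d k hd)

theorem d_topMor (i : ℕ) : (CK (V n R) (P n R d)).d i n ≫ topMor R d k hd = 0 := by
  ext b m
  exact congrArg (coeff m) (topPoly_d d i b)

/-- the top polynomial of a Čech cohomology class of degree `n`. -/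
noncomputable def topH : (CK (V n R) (P n R d)).homology n ⟶
    AddCommGrpCat.of ↥(MvPolynomial.homogeneousSubmodule (Fin (n + 1)) R k) :=
  (CK (V n R) (P n R d)).homologyι n ≫
    (CK (V n R) (P n R d)).descOpcycles (topMor R d k hd) ((ComplexShape.up ℕ).prev n) rfl
      (d_topMor R d k hd _)

theorem topH_π (z : (CK (V n R) (P n R d)).cycles n) :
    topH R d k hd ((CK (V n R) (P n R d)).homologyπ n z) =
      topHom R d k hd ((CK (V n R) (P n R d)).iCycles n z) := by
  have h : (CK (V n R) (P n R d)).homologyπ n ≫ topH R d k hd =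
      (CK (V n R) (P n R d)).iCycles n ≫ topMor R d k hd := by
    unfold topH
    rw [HomologicalComplex.homology_π_ι_assoc, HomologicalComplex.p_descOpcycles]
  exact ConcreteCategory.congr_hom h z

theorem homologyπ_surjective :
    Function.Surjective ((CK (V n R) (P n R d)).homologyπ n) :=
  (AddCommGrpCat.epi_iff_surjective _).mp inferInstance

theorem iCycles_injective :
    Function.Injective ((CK (V n R) (P n R d)).iCycles n) :=
  (AddCommGrpCat.mono_iff_injective _).mp inferInstance

theorem topH_injective : Function.Injective (topH R d k hd) := by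
  rw [injective_iff_map_eq_zero]
  intro ξ hξ
  obtain ⟨z, rfl⟩ := homologyπ_surjective (n := n) R d ξ
  rw [topH_π] at hξ
  set c := (CK (V n R) (P n R d)).iCycles n z with hcdef
  have hc : (CK (V n R) (P n R d)).d n (n + 1) c = 0 :=
    ConcreteCategory.congr_hom ((CK (V n R) (P n R d)).iCycles_d n (n + 1)) z
  have htop : topPoly d c = 0 := congrArg Subtype.val hξ
  have hneg := hat_eq_zero_of_topPoly d c hc htop
  rcases Nat.eq_zero_or_pos n with hn0 | hnpos
  · -- `n = 0`: all coefficients are all-negative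
    have hc0 : c = 0 := by
      apply ext_of_hat d
      intro x e
      rw [hat_zero]
      by_contra hne
      obtain ⟨h1, -⟩ := hat_ne_zero d c x e hne
      apply hne
      apply hneg x e
      intro i
      subst hn0
      have hi : i = 0 := Fin.ext (by have := i.isLt; omega)
      rw [Fin.sum_univ_one] at h1
      rw [hi, h1, hd]
      push_cast
      omega
    have hz : z = 0 := iCycles_injective R d (by rw [← hcdef, hc0, map_zero])
    rw [hz, map_zero]
  · obtain ⟨p, rfl⟩ : ∃ p, n = p + 1 := ⟨n - 1, by omega⟩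
    obtain ⟨b, hb⟩ := exists_primitive_of_neg d p c hc hneg
    have hz : z = (CK (V (p + 1) R) (P (p + 1) R d)).toCycles p (p + 1) b := by
      apply iCycles_injective R d
      rw [← hcdef, ← hb]
      exact (ConcreteCategory.congr_hom
        ((CK (V (p + 1) R) (P (p + 1) R d)).toCycles_i p (p + 1)) b).symm
    rw [hz]
    exact ConcreteCategory.congr_hom
      ((CK (V (p + 1) R) (P (p + 1) R d)).toCycles_comp_homologyπ p (p + 1)) b

theorem topH_surjective : Function.Surjective (topH R d k hd) := by
  intro f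
  obtain ⟨c, hc, hcf⟩ := exists_cocycle d k hd f.1 ((mem_homogeneousSubmodule _ _).mp f.2)
  let A : AddCommGrpCat.{u} :=
    AddCommGrpCat.of (AddMonoidHom.ker ((CK (V n R) (P n R d)).d n (n + 1)).hom)
  let κ : A ⟶ (CK (V n R) (P n R d)).X n := AddCommGrpCat.ofHom (AddSubgroup.subtype _)
  have hκ : κ ≫ (CK (V n R) (P n R d)).d n (n + 1) = 0 := by
    ext a
    exact a.2
  let z := (CK (V n R) (P n R d)).liftCycles κ (n + 1) (by simp) hκ ⟨c, hc⟩
  have hz : (CK (V n R) (P n R d)).iCycles n z = c :=
    ConcreteCategory.congr_hom ((CK (V n R) (P n R d)).liftCycles_i κ (n + 1) (by simp) hκ) ⟨c, hc⟩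
  refine ⟨(CK (V n R) (P n R d)).homologyπ n z, ?_⟩
  rw [topH_π, hz]
  exact Subtype.ext hcf

open Groth.Agent.Lib.Helper27CechNat in
theorem topH_smul (r : R) (ξ : (CK (V n R) (P n R d)).homology n) :
    topH R d k hd ((HomologicalComplex.homologyMap
      ((cechComplexFunctor (V n R)).map (smulP d r)) n) ξ) = r • topH R d k hd ξ := by
  obtain ⟨z, rfl⟩ := homologyπ_surjective (n := n) R d ξ
  have h1 := ConcreteCategory.congr_hom (HomologicalComplex.homologyπ_naturality
    ((cechComplexFunctor (V n R)).map (smulP d r)) n) z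
  have h2 := ConcreteCategory.congr_hom (HomologicalComplex.cyclesMap_i
    ((cechComplexFunctor (V n R)).map (smulP d r)) n) z
  rw [topH_π]
  refine (congrArg (topH R d k hd) h1).trans ?_
  refine (topH_π R d k hd _).trans ?_
  refine (congrArg (topHom R d k hd) h2).trans ?_
  exact Subtype.ext (topPoly_smul d r _)

end Homology

end Groth.Agent.Lib.Helper27PnTop
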