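import Groth.Agent.Lib.Helper17FinClosed
import Groth.Agent.Lib.Helper17DerSerre
import Groth.Agent.Lib.Helper17FinMod
import Groth.Agent.Lib.Helper27ProjSpaceBC2
import Groth.Agent.Lib.Helper27QProjCover
import Groth.Agent.S0038
import Groth.Agent.S0019

/-!
# Helper17: finiteness of cohomology for closed subschemes of `P^N_A`, `A` Noetherian.
-/

set_option autoImplicit false
universe u
open CategoryTheory Limits AlgebraicGeometry Opposite

namespace Groth.Agent.Lib.Helper17.FinProj

open Groth.Agent.Lib.Helper17.GammaA Groth.Agent.Lib.Helper17.FinClosed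
  Groth.Agent.Lib.Helper17.DerSerre Groth.Agent.Lib.Helper17.FinMod

local instance instEnoughInjectivesModules (X : Scheme.{u}) : EnoughInjectives X.Modules :=
  Groth.Agent.Lib.Helper17.QCPush.enoughInjectives X

variable {A : Type u} [CommRing A] [IsNoetherianRing A]

/-- all `R^n Γ(X, M)` are finite `A`-modules. -/
abbrev FinH {X : Scheme.{u}} (f : X ⟶ Spec (CommRingCat.of A)) : ObjectProperty X.Modules :=
  DerP (gammaA f) (fin.{u, u} A)

/-- coherent modules on `P^N_A` have finite cohomology (`S0038`, in terms of `R^n Γ`). -/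
theorem finH_projSpace (N : ℕ) (M : (CohB1.ProjSpace N A).Modules) (hM : Coh.IsCoh M) :
    FinH (CohB1.ProjSpace.toSpec N A) M := fun n =>
  (finite_iff A n M).2 (Groth.Agent.S0038.result N A M hM n)

/-- coherent modules on closed subschemes of `P^N_A` have finite cohomology. -/
theorem finH_of_closedImmersion_projSpace (N : ℕ) {W : Scheme.{u}}
    (ι : W ⟶ CohB1.ProjSpace N A) [IsClosedImmersion ι] (G : W.Modules) (hG : Coh.IsCoh G) :
    FinH (ι ≫ CohB1.ProjSpace.toSpec N A) G := fun n => by
  obtain ⟨e⟩ := nonempty_rightDerived_gammaA_closedImmersion ι (CohB1.ProjSpace.toSpec N A) G n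
  have hN := Groth.Agent.Lib.Helper27QProjCover.isNoetherian_projSpace N A
  haveI : IsLocallyNoetherian (CohB1.ProjSpace N A) := inferInstance
  have hc : Coh.IsCoh ((Scheme.Modules.pushforward ι).obj G) := Groth.Agent.S0019.result ι G hG
  exact (fin.{u, u} A).prop_of_iso e.symm (finH_projSpace N _ hc n)

/-- the same, for the base-change form `P^N_ℤ × Spec A` of projective space. -/
theorem finH_of_closedImmersion_projSpaceOver (N : ℕ) {W : Scheme.{u}}
    (j : W ⟶ CohB1.ProjSpaceOver N (Spec (CommRingCat.of A))) [IsClosedImmersion j]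
    (h : W ⟶ Spec (CommRingCat.of A))
    (hh : j ≫ CohB1.ProjSpaceOver.toBase N (Spec (CommRingCat.of A)) = h)
    (G : W.Modules) (hG : Coh.IsCoh G) : FinH h G := by
  have h1 : (j ≫ (Groth.Agent.Lib.Helper27ProjSpaceBC.overIso N A).inv) ≫
      CohB1.ProjSpace.toSpec N A = h := by
    rw [Category.assoc, Groth.Agent.Lib.Helper27ProjSpaceBC.overIso_inv_toSpec, hh]
  subst h1
  exact finH_of_closedImmersion_projSpace N
    (j ≫ (Groth.Agent.Lib.Helper27ProjSpaceBC.overIso N A).inv) G hG

end Groth.Agent.Lib.Helper17.FinProj
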