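import Groth.Agent.Lib.Helper17FinAff
import Groth.Agent.Lib.Helper17FinProj
import Groth.Agent.Lib.Helper17GammaZ3
import Groth.Agent.Lib.Helper23Extend2
import Groth.Agent.Lib.Helper23DerComp
import Groth.Agent.Lib.Helper1RpushRes
import Groth.Agent.S0030

/-!
# Coherence of higher direct images: localisation on the base (helper17)

* `isCoh_of_finite_gS`: a quasi-coherent module on `Spec B` with finitely many global generators
  over `B` is coherent;
* `isCoh_Rpush_of_finH`: over a Noetherian affine base, finiteness of all `R^nΓ_B` gives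
  coherence of `R^n h_*`;
* `nonempty_Rpush_restrict_iso`: `(R^n f_* M)|_V ≅ R^n (f|_V)_* (M|_{f⁻¹V})`;
* `isCoh_of_forall_affine_restrict`: coherence is local on affine opens.
-/

set_option autoImplicit false

universe u
open CategoryTheory Limits AlgebraicGeometry Opposite TopologicalSpace

namespace Groth.Agent.Lib.Helper17.FinLoc

open Groth.Agent.Lib.Helper17.GammaA Groth.Agent.Lib.Helper17.FinClosed
  Groth.Agent.Lib.Helper17.FinAff Groth.Agent.Lib.Helper17.FinProj
  Groth.Agent.Lib.Helper17.FinMod Groth.Agent.Lib.Helper23.FinType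
  Groth.Agent.Lib.Helper23.Extend

local instance (X : Scheme.{u}) : EnoughInjectives X.Modules :=
  Groth.Agent.Lib.Helper17.QCPush.enoughInjectives X

section A2

variable {B : Type u} [CommRing B]

/-- a quasi-coherent module on `Spec B` whose global sections are a finite `B`-module is
coherent. -/
theorem isCoh_of_finite_gS (N : (Spec (CommRingCat.of B)).Modules) [hN : N.IsQuasicoherent]
    (h : Module.Finite B ((gS B).obj N)) : Coh.IsCoh N := by
  refine ⟨hN, ?_⟩
  refine isFiniteType_of_finite N (fun _ : PUnit.{u + 1} => (⊤ : (Spec (CommRingCat.of B)).Opens))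
    ?_ (fun _ => isAffineOpen_top _) (fun _ => ?_)
  · exact IsOpenCover.mk (by simp)
  · have hρ : Function.Surjective (Scheme.ΓSpecIso (CommRingCat.of B)).inv.hom :=
      (ConcreteCategory.bijective_of_isIso (Scheme.ΓSpecIso (CommRingCat.of B)).inv).2
    exact (finite_iff_of_semilinear (R := B) (N := (gS B).obj N)
      (R' := Γ(Spec (CommRingCat.of B), ⊤)) (N' := Γ(N, ⊤))
      (Scheme.ΓSpecIso (CommRingCat.of B)).inv.hom hρ
      (AddEquiv.refl Γ(N, ⊤)) (fun r x => rfl)).1 h

variable [IsNoetherianRing B] {W : Scheme.{u}}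

/-- over a Noetherian affine base: finiteness of `R^nΓ_B(W, G)` gives coherence of `R^n h_* G`. -/
theorem isCoh_Rpush_of_finH (h : W ⟶ Spec (CommRingCat.of B)) [QuasiCompact h]
    [QuasiSeparated h] (G : W.Modules) [Coh.IsQCoh G] (hG : FinH h G) (n : ℕ) :
    Coh.IsCoh ((Coh.Rpush h n).obj G) := by
  haveI : ((Coh.Rpush h n).obj G).IsQuasicoherent := Groth.Agent.S0030.result h G n
  obtain ⟨e⟩ := nonempty_gS_Rpush_iso h G n
  have h1 : fin.{u, u} B ((gS B).obj ((Coh.Rpush h n).obj G)) :=
    (fin.{u, u} B).prop_of_iso e.symm (hG n)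
  exact isCoh_of_finite_gS _ h1

end A2

section Restrict

theorem preservesFiniteLimits_restrictFunctor {U X : Scheme.{u}} (j : U ⟶ X) [IsOpenImmersion j] :
    PreservesFiniteLimits (Scheme.Modules.restrictFunctor j) := by
  haveI : PreservesLimitsOfSize.{0, 0} (Scheme.Modules.restrictFunctor j) :=
    (CxOX.extZeroAdj j).rightAdjoint_preservesLimits
  exact PreservesLimitsOfSize.preservesFiniteLimits.{0, 0} _

theorem preservesFiniteColimits_restrictFunctor {U X : Scheme.{u}} (j : U ⟶ X)
    [IsOpenImmersion j] : PreservesFiniteColimits (Scheme.Modules.restrictFunctor j) := by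
  haveI : PreservesColimitsOfSize.{0, 0} (Scheme.Modules.restrictFunctor j) :=
    (Scheme.Modules.restrictAdjunction j).leftAdjoint_preservesColimits
  exact ⟨fun _ _ _ => inferInstance⟩

attribute [local instance] preservesFiniteLimits_restrictFunctor
  preservesFiniteColimits_restrictFunctor

variable {X Y : Scheme.{u}} (f : X ⟶ Y) (V : Y.Opens)

/-- `(R^n f_* M)|_V ≅ R^n (f|_V)_* (M|_{f⁻¹V})`. -/
theorem nonempty_Rpush_restrict_iso (M : X.Modules) (n : ℕ) :
    Nonempty ((Scheme.Modules.restrictFunctor V.ι).obj ((Coh.Rpush f n).obj M) ≅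
      (Coh.Rpush (f ∣_ V) n).obj ((Scheme.Modules.restrictFunctor (f ⁻¹ᵁ V).ι).obj M)) := by
  haveI : (Scheme.Modules.restrictFunctor V.ι).PreservesHomology := inferInstance
  haveI : (Scheme.Modules.restrictFunctor (f ⁻¹ᵁ V).ι).PreservesHomology := inferInstance
  have e1 := (Groth.Agent.Lib.Helper21.DerPost.postIso (Scheme.Modules.pushforward f)
    (Scheme.Modules.restrictFunctor V.ι) n).app M
  have e2 := (Groth.Agent.Lib.Helper21.DerPost.natIsoRightDerived
    (Groth.Agent.Lib.Helper1.RpushRes.pushRestrictIso f V) n).app M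
  have e3 := (Groth.Agent.Lib.Helper23DerComp.compIso
    (Scheme.Modules.restrictFunctor (f ⁻¹ᵁ V).ι) (Scheme.Modules.pushforward (f ∣_ V)) n).app M
  exact ⟨e1.symm ≪≫ e2 ≪≫ e3⟩

variable [QuasiCompact f] [QuasiSeparated f]

/-- coherence of `R^n f_* G` can be checked over the affine opens of the base. -/
theorem isCoh_Rpush_of_forall_affine (G : X.Modules) [Coh.IsQCoh G] (n : ℕ)
    (h : ∀ V : Y.Opens, IsAffineOpen V → Coh.IsCoh ((Coh.Rpush (f ∣_ V) n).obj
      ((Scheme.Modules.restrictFunctor (f ⁻¹ᵁ V).ι).obj G))) :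
    Coh.IsCoh ((Coh.Rpush f n).obj G) := by
  haveI hq : ((Coh.Rpush f n).obj G).IsQuasicoherent := Groth.Agent.S0030.result f G n
  refine ⟨hq, ?_⟩
  refine isFiniteType_of_open_cover _ (fun V : Y.affineOpens => (V : Y.Opens))
    (iSup_affineOpens_eq_top Y) (fun V => ?_)
  obtain ⟨e⟩ := nonempty_Rpush_restrict_iso f V.1 G n
  haveI := (h V.1 V.2).2
  exact isFiniteType_of_iso e.symm

/-- restriction of a coherent module to an open subscheme is coherent. -/
theorem isCoh_restrict {U : Scheme.{u}} (j : U ⟶ X) [IsOpenImmersion j] (G : X.Modules)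
    (hG : Coh.IsCoh G) : Coh.IsCoh ((Scheme.Modules.restrictFunctor j).obj G) := by
  haveI := hG.1
  haveI := hG.2
  exact ⟨Scheme.Modules.isQuasicoherent_restrictFunctor j G, isFiniteType_restrict j G⟩

end Restrict

end Groth.Agent.Lib.Helper17.FinLoc
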