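import Mathlib

/-!
# A criterion for a functor to be a localization (helper20)

Let `R : C ⥤ D` be a functor from a category with pushouts and coequalizers which preserves them, and let
`W` be the class of morphisms inverted by `R`.  If `R` is essentially surjective and every morphism
`β : R A ⟶ R B` is the image of a "right fraction" (`p₁ : H ⟶ A` inverted by `R`, `p₂ : H ⟶ B` with
`R p₂ = R p₁ ≫ β`), then `R` is a localization functor for `W`.
-/

set_option autoImplicit false
open CategoryTheory CategoryTheory.Limits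

namespace Groth.Agent.Lib.Helper20.LocFrac

universe v₁ v₂ u₁ u₂
variable {C : Type u₁} {D : Type u₂} [Category.{v₁} C] [Category.{v₂} D] (R : C ⥤ D)

/-- the class of morphisms inverted by `R` -/
abbrev WR : MorphismProperty C := (MorphismProperty.isomorphisms D).inverseImage R

theorem WR_iff {A B : C} (f : A ⟶ B) : WR R f ↔ IsIso (R.map f) := Iff.rfl

instance hasLeftCalculusOfFractions [HasPushouts C] [HasCoequalizers C]
    [PreservesColimitsOfShape WalkingSpan R] [PreservesColimitsOfShape WalkingParallelPair R] :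
    (WR R).HasLeftCalculusOfFractions where
  exists_leftFraction X Y φ := by
    refine ⟨{ s := pushout.inl φ.f φ.s, f := pushout.inr φ.f φ.s, hs := ?_ }, pushout.condition⟩
    have h := (IsPushout.of_hasPushout φ.f φ.s).map R
    haveI : IsIso (R.map φ.s) := φ.hs
    exact h.isIso_inl_of_isIso
  ext X' X Y f₁ f₂ s hs eq := by
    refine ⟨coequalizer f₁ f₂, coequalizer.π f₁ f₂, ?_, coequalizer.condition f₁ f₂⟩
    haveI : IsIso (R.map s) := hs
    have h12 : R.map f₁ = R.map f₂ := by
      rw [← cancel_epi (R.map s), ← R.map_comp, ← R.map_comp, eq]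
    change IsIso (R.map (coequalizer.π f₁ f₂))
    have hc := isColimitOfHasCoequalizerOfPreservesColimit R f₁ f₂
    exact isIso_colimit_cocone_parallelPair_of_eq h12 hc

/-- the criterion -/
theorem isLocalization_of_graph [HasPushouts C] [HasCoequalizers C]
    [PreservesColimitsOfShape WalkingSpan R] [PreservesColimitsOfShape WalkingParallelPair R]
    [R.EssSurj]
    (hfull : ∀ (A B : C) (β : R.obj A ⟶ R.obj B), ∃ (H : C) (p₁ : H ⟶ A) (p₂ : H ⟶ B),
      IsIso (R.map p₁) ∧ R.map p₂ = R.map p₁ ≫ β) :
    R.IsLocalization (WR R) := by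
  have hinv : (WR R).IsInvertedBy R := fun _ _ f hf => hf
  let G : (WR R).Localization ⥤ D := Localization.lift R hinv (WR R).Q
  let e : (WR R).Q ⋙ G ≅ R := Localization.fac R hinv (WR R).Q
  have hnat : ∀ {A B : C} (p : A ⟶ B), G.map ((WR R).Q.map p) = e.hom.app A ≫ R.map p ≫ e.inv.app B := by
    intro A B p
    have := e.hom.naturality p
    simp only [Functor.comp_map] at this
    rw [← Category.assoc, ← this, Category.assoc, Iso.hom_inv_id_app, Category.comp_id]
  haveI : (WR R).Q.EssSurj := Localization.essSurj (WR R).Q (WR R)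
  haveI : G.EssSurj := ⟨fun d => ⟨(WR R).Q.obj (R.objPreimage d),
    ⟨e.app _ ≪≫ R.objObjPreimageIso d⟩⟩⟩
  haveI : G.Full := by
    refine G.full_of_comp_essSurj (WR R).Q (fun A B φ => ?_)
    obtain ⟨H, p₁, p₂, h1, h2⟩ := hfull A B (e.inv.app A ≫ φ ≫ e.hom.app B)
    haveI : IsIso ((WR R).Q.map p₁) := Localization.inverts (WR R).Q (WR R) p₁ h1
    refine ⟨inv ((WR R).Q.map p₁) ≫ (WR R).Q.map p₂, ?_⟩
    rw [G.map_comp, G.map_inv, IsIso.inv_comp_eq, hnat, hnat, h2]
    simp
  haveI : G.Faithful := by
    refine Functor.faithful_of_comp_of_hasLeftCalculusOfFractions (WR R).Q (WR R) G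
      (fun A B f g hfg => ?_)
    rw [hnat, hnat] at hfg
    have h12 : R.map f = R.map g := by
      rwa [cancel_epi, cancel_mono] at hfg
    have hc := isColimitOfHasCoequalizerOfPreservesColimit R f g
    have hW : WR R (coequalizer.π f g) := isIso_colimit_cocone_parallelPair_of_eq h12 hc
    haveI : IsIso ((WR R).Q.map (coequalizer.π f g)) :=
      Localization.inverts (WR R).Q (WR R) _ hW
    rw [← cancel_mono ((WR R).Q.map (coequalizer.π f g)), ← Functor.map_comp, ← Functor.map_comp,
      coequalizer.condition]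
  haveI : G.IsEquivalence := { }
  exact Functor.IsLocalization.of_equivalence_target (WR R).Q (WR R) R G.asEquivalence e

end Groth.Agent.Lib.Helper20.LocFrac
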