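import Mathlib
import Groth.Prelude
set_option backward.isDefEq.respectTransparency.types false

/-!
# Schemes whose underlying space is locally Noetherian (helper23)

Namespace `Groth.Agent.Lib.Helper23.LocNoethSp`.

* `isCompact_of_subset_noetherian`, `isCompact_of_subset_of_isCompact`: subsets of quasi-compact subsets are quasi-compact.
* `quasiCompact_ι`: every open immersion `U.ι` is quasi-compact.
* `exists_wellOrdered_affine_cover`: a well-ordered affine open cover all of whose members are Noetherian spaces.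
-/

set_option autoImplicit false
universe u
open CategoryTheory AlgebraicGeometry TopologicalSpace

namespace Groth.Agent.Lib.Helper23.LocNoethSp

theorem isCompact_of_subset_noetherian {α : Type*} [TopologicalSpace α] {N S : Set α} [NoetherianSpace N]
    (h : S ⊆ N) : IsCompact S := by
  have h1 : IsCompact ((Subtype.val : N → α) ⁻¹' S) := NoetherianSpace.isCompact _
  have h2 := h1.image continuous_subtype_val
  rw [Subtype.image_preimage_coe, Set.inter_eq_right.2 h] at h2
  exact h2

section
variable {X : Scheme.{u}}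
  (hX : ∀ x : X, ∃ U : X.Opens, x ∈ U ∧ NoetherianSpace (U : Set X))

include hX in
theorem isCompact_of_subset_of_isCompact {K S : Set X} (hK : IsCompact K) (hS : S ⊆ K) : IsCompact S := by
  choose N hxN hN using hX
  obtain ⟨t, ht⟩ := hK.elim_finite_subcover (fun x : X => (N x : Set X)) (fun x => (N x).isOpen)
    (fun x _ => Set.mem_iUnion.2 ⟨x, hxN x⟩)
  have h1 : S = ⋃ x ∈ t, (S ∩ (N x : Set X)) := by
    ext y
    constructor
    · intro hy
      obtain ⟨x, hx⟩ := Set.mem_iUnion.1 (ht (hS hy))
      obtain ⟨hxt, hyx⟩ := Set.mem_iUnion.1 hx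
      exact Set.mem_iUnion.2 ⟨x, Set.mem_iUnion.2 ⟨hxt, hy, hyx⟩⟩
    · intro hy
      obtain ⟨x, hx⟩ := Set.mem_iUnion.1 hy
      obtain ⟨-, hy', -⟩ := Set.mem_iUnion.1 hx
      exact hy'
  rw [h1]
  refine t.isCompact_biUnion fun x _ => ?_
  haveI := hN x
  exact isCompact_of_subset_noetherian (N := (N x : Set X)) Set.inter_subset_right

include hX in
theorem quasiCompact_ι (U : X.Opens) : QuasiCompact U.ι := by
  rw [quasiCompact_iff_forall_isAffineOpen]
  intro A hA
  rw [U.ι.isOpenEmbedding.isInducing.isCompact_iff]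
  have h3 : U.ι '' ((U.ι ⁻¹ᵁ A : (U : Scheme.{u}).Opens) : Set U) = (A : Set X) ∩ (U : Set X) := by
    change U.ι '' (U.ι ⁻¹' (A : Set X)) = _
    rw [Set.image_preimage_eq_inter_range, Scheme.Opens.range_ι]
  rw [h3]
  exact isCompact_of_subset_of_isCompact hX hA.isCompact Set.inter_subset_left

include hX in
theorem exists_wellOrdered_affine_cover :
    ∃ (L : Type u) (_ : LinearOrder L) (_ : WellFoundedLT L) (V : L → X.Opens),
      (∀ l, IsAffineOpen (V l)) ∧ (⨆ l, V l = ⊤) ∧ ∀ (l : L) (S : Set X), S ⊆ (V l : Set X) → IsCompact S := by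
  let L : Type u := {A : X.Opens // IsAffineOpen A}
  obtain ⟨hlin, hwf⟩ := exists_wellFoundedLT L
  refine ⟨L, hlin, hwf, fun l => l.1, fun l => l.2, ?_, ?_⟩
  · rw [eq_top_iff]
    intro x _
    obtain ⟨A, hA, hxA, -⟩ := Opens.isBasis_iff_nbhd.1 X.isBasis_affineOpens (show x ∈ (⊤ : X.Opens) from trivial)
    exact Opens.mem_iSup.2 ⟨⟨A, hA⟩, hxA⟩
  · intro l S hS
    exact isCompact_of_subset_of_isCompact hX l.2.isCompact hS

end

end Groth.Agent.Lib.Helper23.LocNoethSp
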