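import Mathlib
import Groth.Prelude
import Groth.Agent.Lib.Helper6QCohQcqs
set_option backward.isDefEq.respectTransparency.types false

/-!
# Subsheaves of modules given by families of submodules of sections (helper23)

Namespace `Groth.Agent.Lib.Helper23.SubSh`.

* `SubSh H` : a family of submodules `S A ⊆ Γ(H, A)` stable under restriction and local.
* `SubSh.toModules`, `SubSh.ι` : the corresponding `O_X`-module with its monomorphism to `H`;
  `SubSh.range_ι_app` : the image of `ι` on sections over `A` is `S A`.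
-/

set_option autoImplicit false
universe u
open CategoryTheory Limits AlgebraicGeometry TopologicalSpace Opposite

namespace Groth.Agent.Lib.Helper23.SubSh
open Groth.Agent.Lib.Helper6

variable {X : Scheme.{u}}

/-- a subsheaf of `H` given by its sections -/
structure SubSh (H : X.Modules) where
  carrier : ∀ A : X.Opens, Submodule Γ(X, A) Γ(H, A)
  res' : ∀ {A A' : X.Opens} (h : A' ≤ A) (s : Γ(H, A)), s ∈ carrier A → res H h s ∈ carrier A'
  loc' : ∀ (A : X.Opens) (s : Γ(H, A)),
    (∀ x ∈ A, ∃ (A' : X.Opens) (h : A' ≤ A), x ∈ A' ∧ res H h s ∈ carrier A') → s ∈ carrier A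

variable {H : X.Modules} (S : SubSh H)

/-- restriction maps of the subsheaf -/
noncomputable def SubSh.resHom {A B : (X.Opens)ᵒᵖ} (f : A ⟶ B) : S.carrier A.unop →+ S.carrier B.unop where
  toFun s := ⟨H.presheaf.map f s.1, S.res' f.unop.le s.1 s.2⟩
  map_zero' := by
    apply Subtype.ext
    exact map_zero _
  map_add' a b := by
    apply Subtype.ext
    exact map_add _ _ _

/-- the underlying presheaf of abelian groups -/
noncomputable def SubSh.abPresheaf : (X.Opens)ᵒᵖ ⥤ Ab.{u} where
  obj A := AddCommGrpCat.of (S.carrier A.unop)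
  map f := AddCommGrpCat.ofHom (S.resHom f)
  map_id A := by
    ext s
    change H.presheaf.map (𝟙 A) s.1 = s.1
    rw [H.presheaf.map_id]
    rfl
  map_comp f g := by
    ext s
    change H.presheaf.map (f ≫ g) s.1 = H.presheaf.map g (H.presheaf.map f s.1)
    rw [H.presheaf.map_comp]
    rfl

noncomputable instance SubSh.instModule (A : (X.Opens)ᵒᵖ) :
    Module (X.ringCatSheaf.obj.obj A) (S.abPresheaf.obj A) :=
  inferInstanceAs (Module Γ(X, A.unop) (S.carrier A.unop))

theorem SubSh.abPresheaf_map_smul ⦃A B : (X.Opens)ᵒᵖ⦄ (f : A ⟶ B) (r : X.ringCatSheaf.obj.obj A)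
    (m : S.abPresheaf.obj A) :
    S.abPresheaf.map f (r • m) = X.ringCatSheaf.obj.map f r • S.abPresheaf.map f m := by
  apply Subtype.ext
  exact H.val.map_smul f r m.1

/-- the presheaf of modules -/
noncomputable def SubSh.pre : X.PresheafOfModules :=
  PresheafOfModules.ofPresheaf S.abPresheaf S.abPresheaf_map_smul

theorem SubSh.isSheaf_abPresheaf : TopCat.Presheaf.IsSheaf S.abPresheaf := by
  rw [TopCat.Presheaf.isSheaf_iff_isSheafUniqueGluing]
  intro ι U sf hsf
  have hH := (TopCat.Presheaf.isSheaf_iff_isSheafUniqueGluing H.presheaf).1 H.isSheaf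
  let sf' : ∀ i, S.carrier (U i) := fun i => sf i
  have hcompat : TopCat.Presheaf.IsCompatible H.presheaf U (fun i => ((sf' i : S.carrier (U i)) : Γ(H, U i))) := by
    intro i j
    exact congrArg Subtype.val (hsf i j)
  obtain ⟨s, hs, hsu⟩ := hH U _ hcompat
  have hsS : s ∈ S.carrier (iSup U) := by
    apply S.loc'
    intro x hx
    obtain ⟨i, hi⟩ := Opens.mem_iSup.1 hx
    refine ⟨U i, le_iSup U i, hi, ?_⟩
    have h1 : res H (le_iSup U i) s = ((sf' i : S.carrier (U i)) : Γ(H, U i)) := hs i
    rw [h1]
    exact (sf' i).2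
  refine ⟨(⟨s, hsS⟩ : S.carrier (iSup U)), ?_, ?_⟩
  · intro i
    apply Subtype.ext
    exact hs i
  · intro t ht
    apply Subtype.ext
    apply hsu
    intro i
    exact congrArg Subtype.val (ht i)

/-- the `O_X`-module attached to a subsheaf given by sections -/
noncomputable def SubSh.toModules : X.Modules where
  val := S.pre
  isSheaf := S.isSheaf_abPresheaf

/-- the inclusion, on presheaves of abelian groups -/
noncomputable def SubSh.ιAb : S.abPresheaf ⟶ H.presheaf where
  app A := AddCommGrpCat.ofHom (S.carrier A.unop).subtype.toAddMonoidHom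
  naturality A B f := by
    ext s
    rfl

/-- the inclusion of the subsheaf -/
noncomputable def SubSh.ι : S.toModules ⟶ H :=
  ⟨PresheafOfModules.homMk (M₁ := S.pre) (M₂ := H.val) S.ιAb (fun A r m => rfl)⟩

theorem SubSh.ι_app_apply (A : X.Opens) (s : Γ(S.toModules, A)) :
    S.ι.app A s = ((show S.carrier A from s) : Γ(H, A)) := rfl

theorem SubSh.ι_app_injective (A : X.Opens) : Function.Injective (S.ι.app A) := by
  intro a b hab
  exact Subtype.ext hab

theorem SubSh.range_ι_app (A : X.Opens) : Set.range (S.ι.app A) = (S.carrier A : Set Γ(H, A)) := by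
  ext s
  constructor
  · rintro ⟨t, rfl⟩
    exact (show S.carrier A from t).2
  · intro hs
    exact ⟨(⟨s, hs⟩ : S.carrier A), rfl⟩

theorem SubSh.ι_app_mem (A : X.Opens) (s : Γ(S.toModules, A)) : S.ι.app A s ∈ S.carrier A :=
  (show S.carrier A from s).2

theorem SubSh.exists_of_mem {A : X.Opens} {s : Γ(H, A)} (hs : s ∈ S.carrier A) :
    ∃ t : Γ(S.toModules, A), S.ι.app A t = s :=
  ⟨(⟨s, hs⟩ : S.carrier A), rfl⟩

instance SubSh.mono_ι : Mono S.ι := by
  haveI : Mono ((SheafOfModules.forget X.ringCatSheaf).map S.ι) :=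
    PresheafOfModules.mono_of_injective (f := S.ι.val) (fun V => S.ι_app_injective V.unop)
  exact (SheafOfModules.forget X.ringCatSheaf).mono_of_mono_map inferInstance

end Groth.Agent.Lib.Helper23.SubSh
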