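import Mathlib
import Groth.Prelude
import Groth.Agent.Lib.Helper23SubSh
import Groth.Agent.Lib.Helper2Push
set_option backward.isDefEq.respectTransparency.types false

/-!
# Subsheaves generated by sections (helper23)

Namespace `Groth.Agent.Lib.Helper23.SubSh`.

* `res_mem_span`, `exists_res_eq_of_mem_span`, `exists_pow_smul_mem_span`, `mem_span_of_locally`: spans of restricted
  sections on affine opens of a scheme, for a module which localizes (helper2's `IsLocOn`).
* `SubSh.inf`, `SubSh.iInf`, `SubSh.top`, `genSub`.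
* `GenOn`, `LocGen`, `Sat`.
-/

set_option autoImplicit false
universe u
open CategoryTheory Limits AlgebraicGeometry TopologicalSpace Opposite

namespace Groth.Agent.Lib.Helper23.SubSh
open Groth.Agent.Lib.Helper6 Groth.Agent.Lib.Helper2.Push

variable {X : Scheme.{u}} (H : X.Modules)

theorem res_id {A : X.Opens} (s : Γ(H, A)) : res H (le_refl A) s = s := by
  have : (homOfLE (le_refl A)).op = 𝟙 (op A) := rfl
  simp only [res]
  rw [this, H.presheaf.map_id]
  rfl

theorem res_add {A B : X.Opens} (h : B ≤ A) (s t : Γ(H, A)) : res H h (s + t) = res H h s + res H h t :=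
  map_add _ _ _

theorem image_res_res {A B C : X.Opens} (h₁ : B ≤ A) (h₂ : C ≤ B) (T : Set Γ(H, A)) :
    res H h₂ '' (res H h₁ '' T) = res H (h₂.trans h₁) '' T := by
  rw [Set.image_image]
  congr 1
  funext s
  exact res_res H h₁ h₂ s

theorem res_mem_span {A B : X.Opens} (h : B ≤ A) (T : Set Γ(H, A)) {s : Γ(H, A)}
    (hs : s ∈ Submodule.span Γ(X, A) T) : res H h s ∈ Submodule.span Γ(X, B) (res H h '' T) := by
  induction hs using Submodule.span_induction with
  | mem y hy => exact Submodule.subset_span ⟨y, hy, rfl⟩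
  | zero => rw [res_zero]; exact Submodule.zero_mem _
  | add a b _ _ ha hb => rw [res_add]; exact Submodule.add_mem _ ha hb
  | smul r a _ ha => rw [res_smul]; exact Submodule.smul_mem _ _ ha

/-- a section over `D(f)` in the span of restrictions of `T`, multiplied by a power of `f`, is the restriction of an
element of the span of `T`. -/
theorem exists_res_eq_of_mem_span {A : X.Opens} (hA : IsAffineOpen A) (f : Γ(X, A)) (T : Set Γ(H, A))
    (s : Γ(H, X.basicOpen f))
    (hs : s ∈ Submodule.span Γ(X, X.basicOpen f) (res H (X.basicOpen_le f) '' T)) :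
    ∃ (n : ℕ) (t : Γ(H, A)), t ∈ Submodule.span Γ(X, A) T ∧
      res H (X.basicOpen_le f) t = (resf (X.basicOpen_le f) f) ^ n • s := by
  have hloc := hA.isLocalization_basicOpen f
  induction hs using Submodule.span_induction with
  | mem y hy =>
    obtain ⟨τ, hτ, rfl⟩ := hy
    exact ⟨0, τ, Submodule.subset_span hτ, by simp⟩
  | zero => exact ⟨0, 0, Submodule.zero_mem _, by simp⟩
  | add z₁ z₂ _ _ h₁ h₂ =>
    obtain ⟨N₁, w₁, hw₁, e₁⟩ := h₁
    obtain ⟨N₂, w₂, hw₂, e₂⟩ := h₂
    refine ⟨N₁ + N₂, f ^ N₂ • w₁ + f ^ N₁ • w₂,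
      Submodule.add_mem _ (Submodule.smul_mem _ _ hw₁) (Submodule.smul_mem _ _ hw₂), ?_⟩
    rw [res_add, res_smul, res_smul, e₁, e₂, resf_pow, resf_pow, smul_add,
      smul_smul, smul_smul, ← pow_add, ← pow_add, add_comm N₂ N₁]
  | smul a z _ h =>
    obtain ⟨N, w, hw, e⟩ := h
    obtain ⟨k, r, hr⟩ := IsLocalization.Away.surj (x := f) a
    refine ⟨N + k, r • w, Submodule.smul_mem _ _ hw, ?_⟩
    have hr' : a * (resf (X.basicOpen_le f) f) ^ k = resf (X.basicOpen_le f) r := hr
    rw [res_smul, e, ← hr', smul_smul, smul_smul]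
    congr 1
    rw [pow_add]; ring

/-- if the restriction of `s` to `D(f)` lies in the span of the restrictions of `T`, then `f ^ n • s` lies in the
span of `T`. -/
theorem exists_pow_smul_mem_span {A : X.Opens} (hA : IsAffineOpen A) (hH : IsLocOn H A) (f : Γ(X, A))
    (T : Set Γ(H, A)) (s : Γ(H, A))
    (hs : res H (X.basicOpen_le f) s ∈
      Submodule.span Γ(X, X.basicOpen f) (res H (X.basicOpen_le f) '' T)) :
    ∃ n : ℕ, f ^ n • s ∈ Submodule.span Γ(X, A) T := by
  obtain ⟨N, w, hw, e⟩ := exists_res_eq_of_mem_span H hA f T _ hs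
  have h0 : res H (X.basicOpen_le f) (f ^ N • s - w) = 0 := by
    rw [res_sub, res_smul, resf_pow, e, sub_self]
  obtain ⟨n', hn'⟩ := hH.exists_pow_smul_eq_zero f _ h0
  refine ⟨n' + N, ?_⟩
  rw [smul_sub, sub_eq_zero, smul_smul, ← pow_add] at hn'
  rw [hn']
  exact Submodule.smul_mem _ _ hw

/-- membership in the span of a set of sections over an affine open is a local property -/
theorem mem_span_of_locally {A : X.Opens} (hA : IsAffineOpen A) (hH : IsLocOn H A) (T : Set Γ(H, A))
    (s : Γ(H, A))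
    (h : ∀ x ∈ A, ∃ (B : X.Opens) (hB : B ≤ A), x ∈ B ∧
      res H hB s ∈ Submodule.span Γ(X, B) (res H hB '' T)) :
    s ∈ Submodule.span Γ(X, A) T := by
  let I : Set Γ(X, A) := {f | ∃ n : ℕ, f ^ n • s ∈ Submodule.span Γ(X, A) T}
  have hI : Ideal.span I = ⊤ := by
    rw [← hA.self_le_iSup_basicOpen_iff]
    intro x hx
    obtain ⟨B, hB, hxB, hmem⟩ := h x hx
    obtain ⟨f, hf, hxf⟩ := hA.exists_basicOpen_le (V := B) ⟨x, hxB⟩ hx
    refine Opens.mem_iSup.2 ⟨⟨f, ?_⟩, hxf⟩
    have h1 := res_mem_span H hf _ hmem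
    rw [res_res, image_res_res] at h1
    exact exists_pow_smul_mem_span H hA hH f T s h1
  exact Submodule.mem_of_span_eq_top_of_smul_pow_mem _ I hI s (fun r => r.2)

variable {H}

/-- intersection of two subsheaves -/
noncomputable def SubSh.inf (S₁ S₂ : SubSh H) : SubSh H where
  carrier A := S₁.carrier A ⊓ S₂.carrier A
  res' h s hs := ⟨S₁.res' h s hs.1, S₂.res' h s hs.2⟩
  loc' A s hs := by
    refine ⟨S₁.loc' A s fun x hx => ?_, S₂.loc' A s fun x hx => ?_⟩
    · obtain ⟨A', h, hx', hm⟩ := hs x hx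
      exact ⟨A', h, hx', hm.1⟩
    · obtain ⟨A', h, hx', hm⟩ := hs x hx
      exact ⟨A', h, hx', hm.2⟩

/-- intersection of a family of subsheaves -/
noncomputable def SubSh.iInf {ι : Type*} (S : ι → SubSh H) : SubSh H where
  carrier A := ⨅ i, (S i).carrier A
  res' h s hs := by
    rw [Submodule.mem_iInf] at hs ⊢
    exact fun i => (S i).res' h s (hs i)
  loc' A s hs := by
    rw [Submodule.mem_iInf]
    intro i
    refine (S i).loc' A s fun x hx => ?_
    obtain ⟨A', h, hx', hm⟩ := hs x hx
    exact ⟨A', h, hx', (Submodule.mem_iInf _).1 hm i⟩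

/-- the whole module as a subsheaf -/
noncomputable def SubSh.top (H : X.Modules) : SubSh H where
  carrier _ := ⊤
  res' _ _ _ := trivial
  loc' _ _ _ := trivial

/-- the sections of `H` whose restrictions to affine opens inside `V` lie in the span of `T` -/
noncomputable def genSub (hH : ∀ A : X.Opens, IsAffineOpen A → IsLocOn H A) (V : X.Opens) (T : Set Γ(H, V)) :
    SubSh H where
  carrier A :=
    { carrier := {s | ∀ (A' : X.Opens) (h : A' ≤ A) (h' : A' ≤ V), IsAffineOpen A' →
        res H h s ∈ Submodule.span Γ(X, A') (res H h' '' T)}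
      add_mem' := by
        intro a b ha hb A' h h' haff
        rw [res_add]
        exact Submodule.add_mem _ (ha A' h h' haff) (hb A' h h' haff)
      zero_mem' := by
        intro A' h h' haff
        rw [res_zero]
        exact Submodule.zero_mem _
      smul_mem' := by
        intro r a ha A' h h' haff
        rw [res_smul]
        exact Submodule.smul_mem _ _ (ha A' h h' haff) }
  res' := by
    intro A A₁ h s hs A' hA' hA'V haff
    rw [res_res]
    exact hs A' _ hA'V haff
  loc' := by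
    intro A s hloc A' hA' hA'V haff
    apply mem_span_of_locally H haff (hH A' haff)
    intro x hx
    obtain ⟨A₁, hA₁, hxA₁, hmem⟩ := hloc x (hA' hx)
    obtain ⟨f, hf, hxf⟩ := haff.exists_basicOpen_le (V := A₁ ⊓ A') ⟨x, ⟨hxA₁, hx⟩⟩ hx
    refine ⟨X.basicOpen f, X.basicOpen_le f, hxf, ?_⟩
    have h1 := hmem (X.basicOpen f) (hf.trans inf_le_left) ((X.basicOpen_le f).trans hA'V) (haff.basicOpen f)
    rw [res_res] at h1
    rw [res_res, image_res_res]
    exact h1

theorem mem_genSub_iff (hH : ∀ A : X.Opens, IsAffineOpen A → IsLocOn H A) (V : X.Opens) (T : Set Γ(H, V))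
    {A : X.Opens} (s : Γ(H, A)) :
    s ∈ (genSub hH V T).carrier A ↔ ∀ (A' : X.Opens) (h : A' ≤ A) (h' : A' ≤ V), IsAffineOpen A' →
        res H h s ∈ Submodule.span Γ(X, A') (res H h' '' T) := Iff.rfl

/-- `S` is generated by `T` on the affine open subsets of `A` -/
def GenOn (S : SubSh H) (A : X.Opens) (T : Set Γ(H, A)) : Prop :=
  ∀ (A' : X.Opens) (h : A' ≤ A), IsAffineOpen A' →
    S.carrier A' = Submodule.span Γ(X, A') (res H h '' T)

theorem GenOn.mono {S : SubSh H} {A : X.Opens} {T : Set Γ(H, A)} (hg : GenOn S A T) {B : X.Opens} (hB : B ≤ A) :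
    GenOn S B (res H hB '' T) := by
  intro A' h haff
  rw [image_res_res]
  exact hg A' (h.trans hB) haff

theorem GenOn.congr {S S' : SubSh H} {A : X.Opens} {T : Set Γ(H, A)} (hg : GenOn S A T)
    (h : ∀ A' : X.Opens, A' ≤ A → S'.carrier A' = S.carrier A') : GenOn S' A T := by
  intro A' hA' haff
  rw [h A' hA']
  exact hg A' hA' haff

theorem GenOn.subset {S : SubSh H} {A : X.Opens} {T : Set Γ(H, A)} (hg : GenOn S A T) (hA : IsAffineOpen A) :
    T ⊆ S.carrier A := by
  intro τ hτ
  rw [hg A le_rfl hA]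
  refine Submodule.subset_span ⟨τ, hτ, res_id H τ⟩

/-- `S` is locally generated by finitely many sections on `W` -/
def LocGen (S : SubSh H) (W : X.Opens) : Prop :=
  ∀ x ∈ W, ∃ (A : X.Opens), IsAffineOpen A ∧ x ∈ A ∧ A ≤ W ∧ ∃ T : Set Γ(H, A), T.Finite ∧ GenOn S A T

/-- `S` is saturated with respect to `W`: a section whose restriction to `W` lies in `S` is in `S` -/
def Sat (S : SubSh H) (W : X.Opens) : Prop :=
  ∀ (A : X.Opens) (s : Γ(H, A)), res H (inf_le_left : A ⊓ W ≤ A) s ∈ S.carrier (A ⊓ W) → s ∈ S.carrier A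

end Groth.Agent.Lib.Helper23.SubSh
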