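import Mathlib
import Groth.Prelude
import Groth.Agent.Lib.Helper23SubSh2
set_option backward.isDefEq.respectTransparency.types false

/-!
# Extension of locally finitely generated subsheaves over one more affine open (helper23)

Namespace `Groth.Agent.Lib.Helper23.SubSh`.

* `exists_finite_cover`, `exists_extension_of_sat`, `exists_finite_genOn`, `exists_succ`.
-/

set_option autoImplicit false
universe u
open CategoryTheory Limits AlgebraicGeometry TopologicalSpace Opposite

namespace Groth.Agent.Lib.Helper23.SubSh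
open Groth.Agent.Lib.Helper6 Groth.Agent.Lib.Helper2.Push

variable {X : Scheme.{u}} {H : X.Modules}

theorem image_res_id {A : X.Opens} (T : Set Γ(H, A)) : res H (le_refl A) '' T = T := by
  have : (res H (le_refl A) : Γ(H, A) → Γ(H, A)) = id := by
    funext s
    exact res_id H s
  rw [this, Set.image_id]

theorem GenOn.self_eq {S : SubSh H} {A : X.Opens} {T : Set Γ(H, A)} (hg : GenOn S A T) (hA : IsAffineOpen A) :
    S.carrier A = Submodule.span Γ(X, A) T := by
  rw [hg A le_rfl hA, image_res_id]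

theorem isUnit_resf_of_le_basicOpen {V B : X.Opens} (f : Γ(X, V)) (hB : B ≤ X.basicOpen f) :
    IsUnit (resf (hB.trans (X.basicOpen_le f)) f) := by
  have h1 : IsUnit (resf (X.basicOpen_le f) f) := X.toRingedSpace.isUnit_res_basicOpen f
  have h2 : resf (hB.trans (X.basicOpen_le f)) f = resf hB (resf (X.basicOpen_le f) f) :=
    (resf_resf _ _ _).symm
  rw [h2]
  exact h1.map _

section succ
variable (hH : ∀ A : X.Opens, IsAffineOpen A → IsLocOn H A)
  (S : SubSh H) (W V : X.Opens) (hV : IsAffineOpen V)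

include hV in
/-- Step 0: finite cover of `V ⊓ W` by basic opens of `V` on which `S` is finitely generated -/
theorem exists_finite_cover (hΩ : IsCompact ((V ⊓ W : X.Opens) : Set X)) (hgen : LocGen S W) :
    ∃ (F : Finset Γ(X, V)), (∀ f ∈ F, X.basicOpen f ≤ W ∧
        ∃ T : Set Γ(H, X.basicOpen f), T.Finite ∧ GenOn S (X.basicOpen f) T) ∧
      ∀ x ∈ V ⊓ W, ∃ f ∈ F, x ∈ X.basicOpen f := by
  classical
  let P : Γ(X, V) → Prop := fun f => X.basicOpen f ≤ W ∧
        ∃ T : Set Γ(H, X.basicOpen f), T.Finite ∧ GenOn S (X.basicOpen f) T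
  have hcov : ((V ⊓ W : X.Opens) : Set X) ⊆ ⋃ f : {f // P f}, (X.basicOpen f.1 : Set X) := by
    intro x hx
    obtain ⟨A, hA, hxA, hAW, T, hTfin, hT⟩ := hgen x hx.2
    obtain ⟨f, hf, hxf⟩ := hV.exists_basicOpen_le (V := A) ⟨x, hxA⟩ hx.1
    refine Set.mem_iUnion.2 ⟨⟨f, hf.trans hAW, res H hf '' T, hTfin.image _, hT.mono hf⟩, hxf⟩
  obtain ⟨t, ht⟩ := hΩ.elim_finite_subcover (fun f : {f // P f} => (X.basicOpen f.1 : Set X))
    (fun f => (X.basicOpen f.1).isOpen) hcov
  refine ⟨t.image Subtype.val, ?_, ?_⟩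
  · intro f hf
    obtain ⟨f', -, rfl⟩ := Finset.mem_image.1 hf
    exact f'.2
  · intro x hx
    obtain ⟨f, hf⟩ := Set.mem_iUnion.1 (ht hx)
    obtain ⟨hft, hxf⟩ := Set.mem_iUnion.1 hf
    exact ⟨f.1, Finset.mem_image_of_mem _ hft, hxf⟩

include hH hV in
/-- Step 1: sections of `S` over `D(g)` extend to `V` after multiplication by a power of `g`. -/
theorem exists_extension_of_sat (hΩ : IsCompact ((V ⊓ W : X.Opens) : Set X)) (hsat : Sat S W)
    (hgen : LocGen S W) (g : Γ(X, V)) (s : Γ(H, X.basicOpen g)) (hs : s ∈ S.carrier (X.basicOpen g)) :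
    ∃ (n : ℕ) (t : Γ(H, V)), t ∈ S.carrier V ∧
      res H (X.basicOpen_le g) t = (resf (X.basicOpen_le g) g) ^ n • s := by
  classical
  obtain ⟨F, hF, hcov⟩ := exists_finite_cover S W V hV hΩ hgen
  obtain ⟨n₀, t₀, ht₀⟩ := (hH V hV).exists_extension g s
  have ht₀' : res H (X.basicOpen_le g) t₀ = (resf (X.basicOpen_le g) g) ^ n₀ • s := ht₀
  have key : ∀ f : Γ(X, V), ∃ N : ℕ, f ∈ F →
      res H (X.basicOpen_le f) (g ^ N • t₀) ∈ S.carrier (X.basicOpen f) := by
    intro f
    by_cases hf : f ∈ F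
    · obtain ⟨hfW, T, hTfin, hT⟩ := hF f hf
      let gf : Γ(X, X.basicOpen f) := resf (X.basicOpen_le f) g
      have hle : X.basicOpen gf ≤ X.basicOpen g := by
        rw [Scheme.basicOpen_res]; exact inf_le_right
      have haff : IsAffineOpen (X.basicOpen f) := hV.basicOpen f
      have h1 : res H (X.basicOpen_le gf) (res H (X.basicOpen_le f) t₀) ∈
          Submodule.span Γ(X, X.basicOpen gf) (res H (X.basicOpen_le gf) '' T) := by
        rw [← hT (X.basicOpen gf) (X.basicOpen_le gf) (haff.basicOpen gf), res_res]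
        have h2 : res H ((X.basicOpen_le gf).trans (X.basicOpen_le f)) t₀ =
            res H hle (res H (X.basicOpen_le g) t₀) := (res_res H _ _ _).symm
        rw [h2, ht₀']
        exact S.res' hle _ (Submodule.smul_mem _ _ hs)
      obtain ⟨N, hN⟩ := exists_pow_smul_mem_span H haff (hH _ haff) gf T _ h1
      refine ⟨N, fun _ => ?_⟩
      rw [res_smul, resf_pow, hT.self_eq haff]
      exact hN
    · exact ⟨0, fun h => absurd h hf⟩
  choose N hN using key
  let M : ℕ := F.sup N
  have hM : ∀ f ∈ F, res H (X.basicOpen_le f) (g ^ M • t₀) ∈ S.carrier (X.basicOpen f) := by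
    intro f hf
    have hle : N f ≤ M := Finset.le_sup hf
    have h1 : g ^ M • t₀ = g ^ (M - N f) • (g ^ N f • t₀) := by
      rw [smul_smul, ← pow_add, Nat.sub_add_cancel hle]
    rw [h1, res_smul]
    exact Submodule.smul_mem _ _ (hN f hf)
  refine ⟨M + n₀, g ^ M • t₀, ?_, ?_⟩
  · apply hsat V
    apply S.loc'
    intro x hx
    obtain ⟨f, hf, hxf⟩ := hcov x hx
    refine ⟨X.basicOpen f, le_inf (X.basicOpen_le f) (hF f hf).1, hxf, ?_⟩
    rw [res_res]
    exact hM f hf
  · rw [res_smul, resf_pow, ht₀', smul_smul, ← pow_add]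

include hH hV in
/-- Step 2: finitely many sections of `S` over `V` generating `S` on the affine opens inside `V ⊓ W`. -/
theorem exists_finite_genOn (hΩ : IsCompact ((V ⊓ W : X.Opens) : Set X)) (hsat : Sat S W)
    (hgen : LocGen S W) :
    ∃ T : Set Γ(H, V), T.Finite ∧ T ⊆ S.carrier V ∧
      ∀ (A' : X.Opens) (h : A' ≤ V), A' ≤ W → IsAffineOpen A' →
        S.carrier A' = Submodule.span Γ(X, A') (res H h '' T) := by
  classical
  obtain ⟨F, hF, hcov⟩ := exists_finite_cover S W V hV hΩ hgen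
  have h1 : ∀ f : Γ(X, V), ∃ T : Set Γ(H, X.basicOpen f), f ∈ F → T.Finite ∧ GenOn S (X.basicOpen f) T := by
    intro f
    by_cases hf : f ∈ F
    · obtain ⟨-, T, hT⟩ := hF f hf
      exact ⟨T, fun _ => hT⟩
    · exact ⟨∅, fun h => absurd h hf⟩
  choose Tf hTf using h1
  have h2 : ∀ (f : Γ(X, V)) (τ : Γ(H, X.basicOpen f)), ∃ (n : ℕ) (t : Γ(H, V)),
      τ ∈ S.carrier (X.basicOpen f) → t ∈ S.carrier V ∧
        res H (X.basicOpen_le f) t = (resf (X.basicOpen_le f) f) ^ n • τ := by
    intro f τ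
    by_cases hτ : τ ∈ S.carrier (X.basicOpen f)
    · obtain ⟨n, t, ht⟩ := exists_extension_of_sat hH S W V hV hΩ hsat hgen f τ hτ
      exact ⟨n, t, fun _ => ht⟩
    · exact ⟨0, 0, fun h => absurd h hτ⟩
  choose n t ht using h2
  have hTfS : ∀ f ∈ F, Tf f ⊆ S.carrier (X.basicOpen f) := fun f hf =>
    (hTf f hf).2.subset (hV.basicOpen f)
  let T : Set Γ(H, V) := ⋃ f ∈ (F : Set Γ(X, V)), t f '' (Tf f)
  have hTS : T ⊆ S.carrier V := by
    intro τ' hτ'
    obtain ⟨f, hτ'⟩ := Set.mem_iUnion.1 hτ'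
    obtain ⟨hf, τ, hτ, rfl⟩ := Set.mem_iUnion.1 hτ'
    exact (ht f τ (hTfS f hf hτ)).1
  refine ⟨T, ?_, hTS, ?_⟩
  · exact Set.Finite.biUnion F.finite_toSet (fun f hf => (hTf f hf).1.image _)
  · intro A' hA'V hA'W haff
    apply le_antisymm
    · intro s hs
      apply mem_span_of_locally H haff (hH A' haff)
      intro x hx
      obtain ⟨f, hf, hxf⟩ := hcov x ⟨hA'V hx, hA'W hx⟩
      obtain ⟨k, hk, hxk⟩ := haff.exists_basicOpen_le (V := A' ⊓ X.basicOpen f) ⟨x, ⟨hx, hxf⟩⟩ hx
      have hB : IsAffineOpen (X.basicOpen k) := haff.basicOpen k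
      have hBf : X.basicOpen k ≤ X.basicOpen f := hk.trans inf_le_right
      refine ⟨X.basicOpen k, X.basicOpen_le k, hxk, ?_⟩
      have h3 : res H (X.basicOpen_le k) s ∈ S.carrier (X.basicOpen k) := S.res' _ s hs
      rw [(hTf f hf).2 (X.basicOpen k) hBf hB] at h3
      refine (Submodule.span_le.2 ?_) h3
      rintro _ ⟨τ, hτ, rfl⟩
      have hτS := hTfS f hf hτ
      have h4 := (ht f τ hτS).2
      have h5 : res H (hBf.trans (X.basicOpen_le f)) (t f τ) =
          (resf (hBf.trans (X.basicOpen_le f)) f) ^ n f τ • res H hBf τ := by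
        rw [← res_res H (X.basicOpen_le f) hBf, h4, res_smul, resf_pow, resf_resf]
      have hu : IsUnit ((resf (hBf.trans (X.basicOpen_le f)) f) ^ n f τ) :=
        (isUnit_resf_of_le_basicOpen f hBf).pow _
      rw [SetLike.mem_coe, ← Submodule.smul_mem_iff_of_isUnit _ hu, ← h5]
      refine Submodule.subset_span ⟨res H hA'V (t f τ), ⟨t f τ, ?_, rfl⟩, res_res H _ _ _⟩
      exact Set.mem_iUnion.2 ⟨f, Set.mem_iUnion.2 ⟨hf, τ, hτ, rfl⟩⟩
    · refine Submodule.span_le.2 ?_
      rintro _ ⟨τ', hτ', rfl⟩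
      exact S.res' _ _ (hTS hτ')

include hH hV in
/-- **One step**: extension over one more affine open `V` such that `V ⊓ W` is quasi-compact. -/
theorem exists_succ (hΩ : IsCompact ((V ⊓ W : X.Opens) : Set X)) (hsat : Sat S W) (hgen : LocGen S W) :
    ∃ S' : SubSh H, (∀ A, S'.carrier A ≤ S.carrier A) ∧ (∀ A ≤ W, S'.carrier A = S.carrier A) ∧
      Sat S' (W ⊔ V) ∧ LocGen S' (W ⊔ V) := by
  obtain ⟨T, hTfin, hTS, hT⟩ := exists_finite_genOn hH S W V hV hΩ hsat hgen
  have heq : ∀ A ≤ W, (S.inf (genSub hH V T)).carrier A = S.carrier A := by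
    intro A hA
    apply le_antisymm
    · exact inf_le_left
    · intro s hs
      refine ⟨hs, fun A' h h' haff => ?_⟩
      rw [← hT A' h' (h.trans hA) haff]
      exact S.res' h s hs
  refine ⟨S.inf (genSub hH V T), fun A => inf_le_left, heq, ?_, ?_⟩
  · intro A s hs
    refine ⟨?_, ?_⟩
    · apply hsat A s
      have h1 := S.res' (inf_le_inf_left A (le_sup_left : W ≤ W ⊔ V)) _ hs.1
      rw [res_res] at h1
      exact h1
    · intro A' h h' haff
      have h1 := hs.2 A' (le_inf h (h'.trans le_sup_right)) h' haff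
      rw [res_res] at h1
      exact h1
  · intro x hx
    rcases hx with hxW | hxV
    · obtain ⟨A, hA, hxA, hAW, T', hT'fin, hT'⟩ := hgen x hxW
      refine ⟨A, hA, hxA, hAW.trans le_sup_left, T', hT'fin, hT'.congr fun A' hA' => heq A' (hA'.trans hAW)⟩
    · refine ⟨V, hV, hxV, le_sup_right, T, hTfin, ?_⟩
      intro A' hA' haff
      apply le_antisymm
      · intro s hs
        have h1 := hs.2 A' le_rfl hA' haff
        rw [res_id] at h1
        exact h1
      · refine Submodule.span_le.2 ?_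
        rintro _ ⟨τ, hτ, rfl⟩
        refine ⟨S.res' _ _ (hTS hτ), fun A'' h h' haff' => ?_⟩
        rw [res_res]
        exact Submodule.subset_span ⟨τ, hτ, rfl⟩

end succ

end Groth.Agent.Lib.Helper23.SubSh
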