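import Mathlib
import Groth.Prelude
import Groth.Agent.Lib.Helper23SubSh3
import Groth.Agent.Lib.Helper23Extend2
set_option backward.isDefEq.respectTransparency.types false

/-!
# Extension of finite type quasi-coherent submodules along well-ordered affine covers (helper23)

Namespace `Groth.Agent.Lib.Helper23.SubSh`.

* `isLocOn_toModules_of_genOn`, `finite_toModules_of_genOn`
* `span_res_eq_top`, `locGen_of_ftOn`
* `Stage`, `exists_locGen_top` (Zorn), `exists_sub_isFiniteType_wo` (EGA I 9.4.7 / (new) 6.9.7)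
-/

set_option autoImplicit false
universe u v
open CategoryTheory Limits AlgebraicGeometry TopologicalSpace Opposite

namespace Groth.Agent.Lib.Helper23.SubSh
open Groth.Agent.Lib.Helper6 Groth.Agent.Lib.Helper2.Push Groth.Agent.Lib.Helper23.Extend
  Groth.Agent.Lib.Helper23.QCohLocal Groth.Agent.Lib.Helper23.FinType

variable {X : Scheme.{u}} {H : X.Modules}

section D1

theorem isLocOn_toModules_of_genOn (S : SubSh H) {A : X.Opens} (hA : IsAffineOpen A) (hH : IsLocOn H A)
    {T : Set Γ(H, A)} (hT : GenOn S A T) : IsLocOn S.toModules A := by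
  constructor
  · intro f s
    have hs : S.ι.app _ s ∈ Submodule.span Γ(X, X.basicOpen f) (res H (X.basicOpen_le f) '' T) := by
      rw [← hT (X.basicOpen f) (X.basicOpen_le f) (hA.basicOpen f)]
      exact S.ι_app_mem _ s
    obtain ⟨n, t', ht', e⟩ := exists_res_eq_of_mem_span H hA f T _ hs
    rw [← hT.self_eq hA] at ht'
    obtain ⟨t, rfl⟩ := S.exists_of_mem ht'
    refine ⟨n, t, ?_⟩
    apply S.ι_app_injective
    exact e
  · intro f t ht
    have h0 : res H (X.basicOpen_le f) (S.ι.app A t) = 0 := by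
      have := congrArg (S.ι.app (X.basicOpen f)) ht
      rw [map_zero] at this
      exact this
    obtain ⟨n, hn⟩ := hH.exists_pow_smul_eq_zero f _ h0
    refine ⟨n, ?_⟩
    apply S.ι_app_injective
    rw [map_zero]
    exact hn

theorem finite_toModules_of_genOn (S : SubSh H) {A : X.Opens} (hA : IsAffineOpen A)
    {T : Set Γ(H, A)} (hTfin : T.Finite) (hT : GenOn S A T) : Module.Finite Γ(X, A) Γ(S.toModules, A) := by
  have h1 : (S.carrier A).FG := by
    rw [hT.self_eq hA]
    exact Submodule.fg_span hTfin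
  exact Module.Finite.iff_fg.2 h1

end D1

section base

/-- sections of a localizing module over a smaller affine open are generated by restrictions -/
theorem span_res_eq_top {A A' : X.Opens} (hA : IsAffineOpen A) (hA' : IsAffineOpen A') (hle : A' ≤ A)
    (hH : IsLocOn H A) (hH' : IsLocOn H A') (T : Set Γ(H, A)) (hT : Submodule.span Γ(X, A) T = ⊤) :
    Submodule.span Γ(X, A') (res H hle '' T) = ⊤ := by
  rw [eq_top_iff]
  rintro s -
  apply mem_span_of_locally H hA' hH'
  intro x hx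
  obtain ⟨f, hf, hxf⟩ := hA.exists_basicOpen_le (V := A') ⟨x, hx⟩ (hle hx)
  refine ⟨X.basicOpen f, hf, hxf, ?_⟩
  obtain ⟨n, t, ht⟩ := hH.exists_extension f (res H hf s)
  have ht' : res H (X.basicOpen_le f) t = (resf (X.basicOpen_le f) f) ^ n • res H hf s := ht
  have h1 : t ∈ Submodule.span Γ(X, A) T := by rw [hT]; trivial
  have h2 := res_mem_span H (X.basicOpen_le f) T h1
  rw [ht'] at h2
  have hu : IsUnit ((resf (X.basicOpen_le f) f) ^ n) :=
    (X.toRingedSpace.isUnit_res_basicOpen f).pow _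
  rw [Submodule.smul_mem_iff_of_isUnit _ hu] at h2
  rw [image_res_res]
  exact h2

/-- a quasi-coherent module which is of finite type on `U` is locally generated on `U` -/
theorem locGen_of_ftOn (hH : ∀ A : X.Opens, IsAffineOpen A → IsLocOn H A) (U : X.Opens) (hft : FTOn H U)
    (S : SubSh H) (hS : ∀ A ≤ U, S.carrier A = ⊤) : LocGen S U := by
  intro x hx
  obtain ⟨A, hA, hxA, hAU⟩ := Opens.isBasis_iff_nbhd.1 X.isBasis_affineOpens hx
  have hfin := hft A hA hAU
  obtain ⟨T, hT⟩ := hfin.fg_top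
  refine ⟨A, hA, hxA, hAU, (T : Set Γ(H, A)), T.finite_toSet, ?_⟩
  intro A' hA' haff
  rw [hS A' (hA'.trans hAU), span_res_eq_top hA haff hA' (hH A hA) (hH A' haff) _ hT]

end base

section zorn

variable {L : Type v} (V : L → X.Opens) (U : X.Opens)

/-- the open `U ∪ ⋃_{m ∈ I} V_m` -/
def Wof (I : Set L) : X.Opens := U ⊔ ⨆ m : I, V m.1

theorem mem_Wof {I : Set L} {x : X} : x ∈ Wof V U I ↔ x ∈ U ∨ ∃ m ∈ I, x ∈ V m := by
  change x ∈ U ∨ x ∈ (⨆ m : I, V m.1) ↔ _
  rw [Opens.mem_iSup]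
  constructor
  · rintro (h | ⟨m, hm⟩)
    · exact Or.inl h
    · exact Or.inr ⟨m.1, m.2, hm⟩
  · rintro (h | ⟨m, hmI, hm⟩)
    · exact Or.inl h
    · exact Or.inr ⟨⟨m, hmI⟩, hm⟩

theorem Wof_mono {I J : Set L} (h : I ⊆ J) : Wof V U I ≤ Wof V U J := by
  intro x hx
  rw [mem_Wof] at hx
  rw [mem_Wof]
  rcases hx with hx | ⟨m, hm, hx⟩
  · exact Or.inl hx
  · exact Or.inr ⟨m, h hm, hx⟩

theorem le_Wof (I : Set L) : U ≤ Wof V U I := le_sup_left

variable [LinearOrder L]

variable (H) in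
/-- a partial solution of the extension problem -/
structure Stage where
  I : Set L
  lower : IsLowerSet I
  S : SubSh H
  top : ∀ A ≤ U, S.carrier A = ⊤
  sat : Sat S (Wof V U I)
  gen : LocGen S (Wof V U I)

/-- the order on partial solutions -/
def Stage.r (a b : Stage H V U) : Prop :=
  a.I ⊆ b.I ∧ (∀ A, b.S.carrier A ≤ a.S.carrier A) ∧ ∀ A ≤ Wof V U a.I, b.S.carrier A = a.S.carrier A

theorem Stage.r_trans {a b c : Stage H V U} (hab : Stage.r V U a b) (hbc : Stage.r V U b c) :
    Stage.r V U a c := by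
  refine ⟨hab.1.trans hbc.1, fun A => (hbc.2.1 A).trans (hab.2.1 A), fun A hA => ?_⟩
  rw [hbc.2.2 A (hA.trans (Wof_mono V U hab.1)), hab.2.2 A hA]

theorem Stage.exists_ub (hH : ∀ A : X.Opens, IsAffineOpen A → IsLocOn H A) (hft : FTOn H U)
    (c : Set (Stage H V U)) (hc : IsChain (Stage.r V U) c) :
    ∃ ub : Stage H V U, ∀ a ∈ c, Stage.r V U a ub := by
  let I' : Set L := ⋃ a : c, a.1.I
  let S' : SubSh H := SubSh.iInf (fun a : c => a.1.S)
  have hle : ∀ a : c, ∀ A, S'.carrier A ≤ a.1.S.carrier A := fun a A => iInf_le _ a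
  have hstar : ∀ a : c, ∀ A ≤ Wof V U a.1.I, S'.carrier A = a.1.S.carrier A := by
    intro a A hA
    apply le_antisymm (hle a A)
    refine le_iInf fun b => ?_
    by_cases hab : a.1 = b.1
    · rw [hab]
    · rcases hc a.2 b.2 hab with h | h
      · rw [h.2.2 A hA]
      · exact h.2.1 A
  have htop : ∀ A ≤ U, S'.carrier A = ⊤ := by
    intro A hA
    rw [eq_top_iff]
    refine le_iInf fun b => ?_
    rw [b.1.top A hA]
  refine ⟨⟨I', isLowerSet_iUnion fun a => a.1.lower, S', htop, ?_, ?_⟩, ?_⟩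
  · intro A s hs
    change s ∈ ⨅ a : c, a.1.S.carrier A
    rw [Submodule.mem_iInf]
    intro a
    apply a.1.sat A s
    have hIa : a.1.I ⊆ I' := Set.subset_iUnion (fun a : c => a.1.I) a
    have h1 := a.1.S.res' (inf_le_inf_left A (Wof_mono V U hIa)) _ (hle a _ hs)
    rw [res_res] at h1
    exact h1
  · intro x hx
    rw [mem_Wof] at hx
    rcases hx with hxU | ⟨m, hm, hxm⟩
    · obtain ⟨A, hA, hxA, hAU, T, hTfin, hT⟩ := locGen_of_ftOn hH U hft S' htop x hxU
      exact ⟨A, hA, hxA, hAU.trans (le_Wof V U _), T, hTfin, hT⟩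
    · obtain ⟨a, hma⟩ := Set.mem_iUnion.1 hm
      have hxa : x ∈ Wof V U a.1.I := (mem_Wof V U).2 (Or.inr ⟨m, hma, hxm⟩)
      obtain ⟨A, hA, hxA, hAW, T, hTfin, hT⟩ := a.1.gen x hxa
      have hIa : a.1.I ⊆ I' := Set.subset_iUnion (fun a : c => a.1.I) a
      exact ⟨A, hA, hxA, hAW.trans (Wof_mono V U hIa), T, hTfin,
        hT.congr fun A' hA' => hstar a A' (hA'.trans hAW)⟩
  · intro a ha
    exact ⟨Set.subset_iUnion (fun a : c => a.1.I) ⟨a, ha⟩, hle ⟨a, ha⟩, hstar ⟨a, ha⟩⟩

variable [WellFoundedLT L]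

/-- **Zorn**: a locally finitely generated subsheaf of `H` on all of `X`, equal to `H` on `U`. -/
theorem exists_locGen_top (hH : ∀ A : X.Opens, IsAffineOpen A → IsLocOn H A) (hft : FTOn H U)
    (hV : ∀ l, IsAffineOpen (V l)) (hcov : ⨆ l, V l = ⊤)
    (hW : ∀ l, IsCompact ((V l : Set X) ∩ ⋃ m ∈ Set.Iio l, (V m : Set X)))
    (hU : ∀ l, IsCompact ((V l : Set X) ∩ (U : Set X))) :
    ∃ S : SubSh H, (∀ A ≤ U, S.carrier A = ⊤) ∧ LocGen S ⊤ := by
  obtain ⟨m, hm⟩ := exists_maximal_of_chains_bounded (Stage.exists_ub V U hH hft)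
    (fun hab hbc => Stage.r_trans V U hab hbc)
  have hI : m.I = Set.univ := by
    by_contra hne
    have hne' : (m.Iᶜ).Nonempty := by
      rw [Set.nonempty_compl]; exact hne
    have wf : WellFounded ((· < ·) : L → L → Prop) := wellFounded_lt
    let l : L := wf.min (m.Iᶜ) hne'
    have hl : l ∉ m.I := wf.min_mem (m.Iᶜ) hne'
    have hlt : ∀ k, k < l → k ∈ m.I := by
      intro k hk
      by_contra hk'
      exact wf.not_lt_min (m.Iᶜ) hk' hk
    have hIio : m.I = Set.Iio l := by
      ext k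
      constructor
      · intro hk
        by_contra hkl
        exact hl (m.lower (not_lt.1 hkl) hk)
      · exact hlt k
    have hΩ : IsCompact ((V l ⊓ Wof V U m.I : X.Opens) : Set X) := by
      have : ((V l ⊓ Wof V U m.I : X.Opens) : Set X) =
          ((V l : Set X) ∩ (U : Set X)) ∪ ((V l : Set X) ∩ ⋃ k ∈ Set.Iio l, (V k : Set X)) := by
        ext x
        simp only [Opens.coe_inf, Set.mem_inter_iff, SetLike.mem_coe, mem_Wof, Set.mem_union,
          Set.mem_iUnion, exists_prop, hIio]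
        tauto
      rw [this]
      exact (hU l).union (hW l)
    obtain ⟨S', hS'le, hS'eq, hS'sat, hS'gen⟩ := exists_succ hH m.S _ (V l) (hV l) hΩ m.sat m.gen
    have hWeq : Wof V U m.I ⊔ V l = Wof V U (Set.Iic l) := by
      ext x
      simp only [Opens.coe_sup, Set.mem_union, SetLike.mem_coe, mem_Wof, hIio, Set.mem_Iio, Set.mem_Iic]
      constructor
      · rintro ((h | ⟨k, hk, hx⟩) | h)
        · exact Or.inl h
        · exact Or.inr ⟨k, hk.le, hx⟩
        · exact Or.inr ⟨l, le_rfl, h⟩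
      · rintro (h | ⟨k, hk, hx⟩)
        · exact Or.inl (Or.inl h)
        · rcases hk.lt_or_eq with hk | rfl
          · exact Or.inl (Or.inr ⟨k, hk, hx⟩)
          · exact Or.inr hx
    rw [hWeq] at hS'sat hS'gen
    let a : Stage H V U := ⟨Set.Iic l, isLowerSet_Iic l, S',
      fun A hA => by rw [hS'eq A (hA.trans (le_Wof V U _)), m.top A hA], hS'sat, hS'gen⟩
    have hma : Stage.r V U m a := by
      refine ⟨?_, hS'le, hS'eq⟩
      rw [hIio]
      exact fun k hk => le_of_lt hk
    have ham := hm a hma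
    exact hl (ham.1 (Set.mem_Iic.2 le_rfl))
  refine ⟨m.S, m.top, ?_⟩
  have hWtop : Wof V U m.I = ⊤ := by
    rw [eq_top_iff]
    intro x _
    have hx : x ∈ ⨆ l, V l := by rw [hcov]; trivial
    obtain ⟨l, hl⟩ := Opens.mem_iSup.1 hx
    exact (mem_Wof V U).2 (Or.inr ⟨l, by rw [hI]; trivial, hl⟩)
  have := m.gen
  rw [hWtop] at this
  exact this

end zorn

section final

variable {L : Type v} [LinearOrder L] [WellFoundedLT L]

/-- **EGA I 9.4.7 (general form)**: if `X` has a well-ordered affine open cover `(V_l)` with `V_l ∩ ⋃_{m<l} V_m`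
quasi-compact, `U` is retrocompact, and `H` is quasi-coherent and of finite type on `U`, then `H` has a quasi-coherent
submodule of finite type which agrees with `H` on `U`. -/
theorem exists_sub_isFiniteType_wo (H : X.Modules) [H.IsQuasicoherent] (V : L → X.Opens) (U : X.Opens)
    (hV : ∀ l, IsAffineOpen (V l)) (hcov : ⨆ l, V l = ⊤)
    (hW : ∀ l, IsCompact ((V l : Set X) ∩ ⋃ m ∈ Set.Iio l, (V m : Set X)))
    (hU : ∀ l, IsCompact ((V l : Set X) ∩ (U : Set X))) (hft : FTOn H U) :
    ∃ (F : X.Modules) (ψ : F ⟶ H), Mono ψ ∧ F.IsQuasicoherent ∧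
      SheafOfModules.IsFiniteType (R := X.ringCatSheaf) F ∧ IsoOn ψ U := by
  have hH : ∀ A : X.Opens, IsAffineOpen A → IsLocOn H A := fun A hA => IsLocOn.of_isQuasicoherent hA H
  obtain ⟨S, hStop, hSgen⟩ := exists_locGen_top V U hH hft hV hcov hW hU
  have h1 : ∀ x : X, ∃ (A : X.Opens), IsAffineOpen A ∧ x ∈ A ∧ ∃ T : Set Γ(H, A), T.Finite ∧ GenOn S A T := by
    intro x
    obtain ⟨A, hA, hxA, -, T, hTfin, hT⟩ := hSgen x trivial
    exact ⟨A, hA, hxA, T, hTfin, hT⟩
  choose A hA hxA T hTfin hT using h1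
  have hcovA : IsOpenCover A := by
    change iSup A = ⊤
    rw [eq_top_iff]
    intro x _
    exact Opens.mem_iSup.2 ⟨x, hxA x⟩
  have hq : S.toModules.IsQuasicoherent :=
    isQuasicoherent_of_affine_cover S.toModules A hcovA hA fun x =>
      isQuasicoherent_restrict_fromSpec_of_isLocOn (hA x) S.toModules
        (isLocOn_toModules_of_genOn S (hA x) (hH _ (hA x)) (hT x))
  refine ⟨S.toModules, S.ι, inferInstance, hq, ?_, ?_⟩
  · exact isFiniteType_of_finite S.toModules A hcovA hA fun x =>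
      finite_toModules_of_genOn S (hA x) (hTfin x) (hT x)
  · intro W' hW'
    rw [ConcreteCategory.isIso_iff_bijective]
    refine ⟨S.ι_app_injective W', fun s => S.exists_of_mem (by rw [hStop W' hW']; trivial)⟩

end final

end Groth.Agent.Lib.Helper23.SubSh
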