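import Mathlib
import Groth.Agent.Lib.Helper20LocFrac
import Groth.Agent.Lib.Helper4CohThick
import Groth.Agent.S2252
import Groth.Agent.Lib.Helper17FinLoc

/-!
# Restriction of coherent modules to an open subscheme is a Serre localization (helper20)

* `isLocalization_isoModSerre`: an exact, essentially surjective functor `R` of abelian categories such that every morphism
  `R A ⟶ R B` is a right fraction is a localization functor for the isomorphisms modulo the Serre class of objects killed
  by `R`.
* `CohCat X`: the abelian category of coherent modules on a locally Noetherian scheme.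
* `Lc j hres : CohCat X ⥤ CohCat U`: restriction along an open immersion; exact; on a Noetherian scheme it is a
  localization functor for `(killP j hres).isoModSerre`, where `killP j hres M ↔ Supp M ∩ j(U) = ∅`.
-/

set_option autoImplicit false
universe u
open CategoryTheory CategoryTheory.Limits AlgebraicGeometry

namespace Groth.Agent.Lib.Helper20.CohLoc

open Groth.Agent.Lib.Helper4.Dev Opposite
  Groth.Agent.Lib.Helper23.FinType Groth.Agent.Lib.Helper23.QCohLocal
  Groth.Agent.Lib.Helper4.KFilt Groth.Agent.Lib.Helper4.CohThick Groth.Agent.Lib.Helper20.LocFrac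

section Abstract

universe v₁ v₂ u₁ u₂
variable {C : Type u₁} {D : Type u₂} [Category.{v₁} C] [Category.{v₂} D] [Abelian C] [Abelian D]
  (R : C ⥤ D) [R.Additive] [PreservesFiniteLimits R] [PreservesFiniteColimits R]

/-- the Serre class of objects killed by an exact functor -/
abbrev killed : ObjectProperty C := ObjectProperty.inverseImage (IsZero (C := D)) R

theorem isIso_map_iff_isZero {A B : C} (f : A ⟶ B) :
    IsIso (R.map f) ↔ IsZero (R.obj (kernel f)) ∧ IsZero (R.obj (cokernel f)) := by
  have e1 : R.obj (kernel f) ≅ kernel (R.map f) := PreservesKernel.iso R f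
  have e2 : R.obj (cokernel f) ≅ cokernel (R.map f) := PreservesCokernel.iso R f
  constructor
  · intro h
    exact ⟨(isZero_kernel_of_mono (R.map f)).of_iso e1, (isZero_cokernel_of_epi (R.map f)).of_iso e2⟩
  · rintro ⟨h1, h2⟩
    have : Mono (R.map f) := Preadditive.mono_of_isZero_kernel _ (h1.of_iso e1.symm)
    have : Epi (R.map f) := Preadditive.epi_of_isZero_cokernel _ (h2.of_iso e2.symm)
    exact isIso_of_mono_of_epi _

theorem isoModSerre_killed_eq : (killed R).isoModSerre = WR R := by
  ext A B f
  rw [WR_iff, isIso_map_iff_isZero]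
  rfl

theorem isLocalization_isoModSerre [R.EssSurj]
    (hfull : ∀ (A B : C) (β : R.obj A ⟶ R.obj B), ∃ (H : C) (p₁ : H ⟶ A) (p₂ : H ⟶ B),
      IsIso (R.map p₁) ∧ R.map p₂ = R.map p₁ ≫ β) :
    R.IsLocalization (killed R).isoModSerre := by
  rw [isoModSerre_killed_eq]
  exact isLocalization_of_graph R hfull

end Abstract

section Inst
variable (X : Scheme.{u}) [IsLocallyNoetherian X]

/-- the category of coherent modules -/
abbrev CohCat := (cohP X).FullSubcategory

theorem isCoh_limit_pair (F : Discrete WalkingPair ⥤ X.Modules) [HasLimit F]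
    (hF : ∀ j, Coh.IsCoh (F.obj j)) : Coh.IsCoh (limit F) := by
  have h1 : Coh.IsCoh (F.obj ⟨WalkingPair.left⟩ ⊞ F.obj ⟨WalkingPair.right⟩ : X.Modules) :=
    (cohP X).prop_biprod (hF _) (hF _)
  let e : (F.obj ⟨WalkingPair.left⟩ ⊞ F.obj ⟨WalkingPair.right⟩ : X.Modules) ≅ limit F :=
    biprod.isoProd _ _ ≪≫ (HasLimit.isoOfNatIso (diagramIsoPair F)).symm
  exact isCoh_of_iso e h1

instance : (cohP X).IsClosedUnderBinaryProducts :=
  ObjectProperty.IsClosedUnderLimitsOfShape.mk' (by
    rintro _ @⟨F, hlim, hF⟩
    exact isCoh_limit_pair X F hF)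

instance : (cohP X).IsClosedUnderFiniteProducts := ObjectProperty.IsClosedUnderFiniteProducts.mk'

noncomputable instance : Abelian (CohCat X) := inferInstance

instance preservesFiniteColimits_ι : PreservesFiniteColimits (cohP X).ι := by
  haveI : ∀ {A B : CohCat X} (f : A ⟶ B), PreservesColimit (parallelPair f 0) (cohP X).ι :=
    fun f => (cohP X).preservesCokernels_ι f
  exact Functor.preservesFiniteColimits_of_preservesCokernels _

instance preservesFiniteLimits_ι : PreservesFiniteLimits (cohP X).ι := by
  haveI : ∀ {A B : CohCat X} (f : A ⟶ B), PreservesLimit (parallelPair f 0) (cohP X).ι :=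
    fun f => (cohP X).preservesKernels_ι f
  exact Functor.preservesFiniteLimits_of_preservesKernels _

end Inst

attribute [local instance] Groth.Agent.Lib.Helper23.QCohLocal.restrictFunctor_isRightAdjoint

section LocNoeth

variable {X U : Scheme.{u}} (j : U ⟶ X) [IsOpenImmersion j]
  (hres : ∀ M : X.Modules, Coh.IsCoh M → Coh.IsCoh ((Scheme.Modules.restrictFunctor j).obj M))

/-- a module restricts to zero iff its support is disjoint from the image -/
theorem isZero_restrict_iff (K : X.Modules) :
    IsZero ((Scheme.Modules.restrictFunctor j).obj K) ↔ CohB1.support K ⊆ (Set.range j)ᶜ := by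
  constructor
  · rintro hK x hx ⟨u, rfl⟩
    apply hx
    have h1 := subsingleton_stalk_of_isZero hK u
    let e' : ((Scheme.Modules.restrictFunctor j).obj K).presheaf.stalk u ≅
      K.presheaf.stalk (j u) := (Scheme.Modules.restrictStalkNatIso j u).app K
    exact e'.addCommGroupIsoToAddEquiv.symm.toEquiv.subsingleton
  · intro hK
    apply isZero_of_support_eq_empty
    rw [Set.eq_empty_iff_forall_notMem]
    intro u hu
    apply hu
    let e' : ((Scheme.Modules.restrictFunctor j).obj K).presheaf.stalk u ≅
      K.presheaf.stalk (j u) := (Scheme.Modules.restrictStalkNatIso j u).app K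
    have : Subsingleton (K.presheaf.stalk (j u)) := by
      by_contra h
      exact hK h ⟨u, rfl⟩
    exact e'.addCommGroupIsoToAddEquiv.toEquiv.subsingleton

variable [IsLocallyNoetherian X] [IsLocallyNoetherian U]

/-- the restriction functor on coherent modules -/
noncomputable abbrev Lc : CohCat X ⥤ CohCat U :=
  ObjectProperty.lift (cohP U) ((cohP X).ι ⋙ Scheme.Modules.restrictFunctor j)
    (fun M => hres M.obj M.property)

instance : PreservesFiniteColimits (Lc j hres) := by
  haveI : PreservesFiniteColimits (Lc j hres ⋙ (cohP U).ι) :=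
    (inferInstance : PreservesFiniteColimits ((cohP X).ι ⋙ Scheme.Modules.restrictFunctor j))
  exact ⟨fun J _ _ => preservesColimitsOfShape_of_reflects_of_preserves (Lc j hres) (cohP U).ι⟩

instance : PreservesFiniteLimits (Lc j hres) := by
  haveI : PreservesFiniteLimits (Lc j hres ⋙ (cohP U).ι) :=
    (inferInstance : PreservesFiniteLimits ((cohP X).ι ⋙ Scheme.Modules.restrictFunctor j))
  exact ⟨fun J _ _ => preservesLimitsOfShape_of_reflects_of_preserves (Lc j hres) (cohP U).ι⟩

instance : (Lc j hres).Additive where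
  map_add {A B f g} := by
    apply (cohP U).ι.map_injective
    rw [Functor.map_add]

/-- coherent modules killed by restriction -/
abbrev killP : ObjectProperty (CohCat X) := killed (Lc j hres)

omit [IsLocallyNoetherian X] [IsLocallyNoetherian U] in
theorem killP_iff (M : CohCat X) : killP j hres M ↔ CohB1.support M.obj ⊆ (Set.range j)ᶜ := by
  rw [← isZero_restrict_iff]
  change IsZero ((Lc j hres).obj M) ↔ _
  constructor
  · intro h
    exact (cohP U).ι.map_isZero h
  · intro h
    exact IsZero.of_full_of_faithful_of_isZero (cohP U).ι _ h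

end LocNoeth

section Noeth

variable {X U : Scheme.{u}} (j : U ⟶ X) [IsOpenImmersion j]
  (hres : ∀ M : X.Modules, Coh.IsCoh M → Coh.IsCoh ((Scheme.Modules.restrictFunctor j).obj M))
  [IsNoetherian X]

/-- every coherent module on an open subscheme of a Noetherian scheme extends -/
theorem exists_extension (G : U.Modules) (hG : Coh.IsCoh G) :
    ∃ G' : X.Modules, Coh.IsCoh G' ∧ Nonempty ((Scheme.Modules.restrictFunctor j).obj G' ≅ G) := by
  have hX : ∀ x : X, ∃ V : X.Opens, x ∈ V ∧ TopologicalSpace.NoetherianSpace (V : Set X) :=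
    fun x => ⟨⊤, trivial, inferInstance⟩
  let V := j.opensRange
  let e : U ≅ (↑V : Scheme.{u}) := j.isoOpensRange
  let G₁ : (↑V : Scheme.{u}).Modules := (Scheme.Modules.restrictFunctor e.inv).obj G
  have hG₁ : Coh.IsCoh G₁ := Groth.Agent.Lib.Helper17.FinLoc.isCoh_restrict e.inv G hG
  haveI : Coh.IsQCoh G₁ := hG₁.1
  obtain ⟨G', hq, hft, ⟨a⟩⟩ := Groth.Agent.S2252.result hX V G₁ hG₁.2
  refine ⟨G', ⟨hq, hft⟩, ⟨?_⟩⟩
  have h1 : j = e.hom ≫ V.ι := (Scheme.Hom.isoOpensRange_hom_ι j).symm
  have h2 : e.hom ≫ e.inv = 𝟙 U := e.hom_inv_id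
  exact (Scheme.Modules.restrictFunctorCongr h1).app G' ≪≫
    (Scheme.Modules.restrictFunctorComp e.hom V.ι).app G' ≪≫
    (Scheme.Modules.restrictFunctor e.hom).mapIso a ≪≫
    ((Scheme.Modules.restrictFunctorComp e.hom e.inv).app G).symm ≪≫
    (Scheme.Modules.restrictFunctorCongr h2).app G ≪≫
    Scheme.Modules.restrictFunctorId.app G

variable [IsLocallyNoetherian U]

omit [IsLocallyNoetherian U] in
theorem essSurj_Lc : (Lc j hres).EssSurj := by
  refine ⟨fun G => ?_⟩
  obtain ⟨G', hG', ⟨a⟩⟩ := exists_extension j G.obj G.property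
  exact ⟨⟨G', hG'⟩, ⟨(cohP U).isoMk a⟩⟩

theorem hfull_Lc (A B : CohCat X) (β : (Lc j hres).obj A ⟶ (Lc j hres).obj B) :
    ∃ (H : CohCat X) (p₁ : H ⟶ A) (p₂ : H ⟶ B),
      IsIso ((Lc j hres).map p₁) ∧ (Lc j hres).map p₂ = (Lc j hres).map p₁ ≫ β := by
  haveI : A.obj.IsQuasicoherent := A.property.1
  haveI : B.obj.IsQuasicoherent := B.property.1
  obtain ⟨H, p₁, p₂, hq, h1, h2, hm⟩ := exists_graph j A.obj B.obj β.hom
  have hAB : Coh.IsCoh (A.obj ⊞ B.obj : X.Modules) := (cohP X).prop_biprod A.property B.property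
  haveI : (A.obj ⊞ B.obj : X.Modules).IsQuasicoherent := hAB.1
  haveI : SheafOfModules.IsFiniteType (R := X.ringCatSheaf) (A.obj ⊞ B.obj : X.Modules) := hAB.2
  have hH : Coh.IsCoh H := ⟨hq, isFiniteType_of_mono (biprod.lift p₁ p₂)⟩
  refine ⟨⟨H, hH⟩, ObjectProperty.homMk p₁, ObjectProperty.homMk p₂, ?_, ?_⟩
  · rw [← isIso_iff_of_reflects_iso _ (cohP U).ι]
    exact h1
  · apply (cohP U).ι.map_injective
    rw [Functor.map_comp]
    exact h2

/-- restriction of coherent modules to an open subscheme of a Noetherian scheme is a Serre localization -/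
theorem isLocalization_Lc : (Lc j hres).IsLocalization (killP j hres).isoModSerre := by
  haveI := essSurj_Lc j hres
  exact isLocalization_isoModSerre (Lc j hres) (hfull_Lc j hres)

end Noeth

end Groth.Agent.Lib.Helper20.CohLoc
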