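/-
helper23: the sheaf of rational functions `T X = (Spec K(X) → X)_* O` on an integral scheme and the
canonical monomorphism from a torsion-free quasi-coherent module whose generic stalk embeds in K(X).
-/
import Mathlib
import Groth.Prelude.Def_Coh
import Groth.Prelude.Def_TorSh
import Groth.Agent.Lib.Helper2Push
import Groth.Agent.Lib.Helper23Extend

set_option autoImplicit false
set_option backward.isDefEq.respectTransparency.types false
universe u
open CategoryTheory Limits AlgebraicGeometry TopologicalSpace Opposite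

namespace Groth.Agent.Lib.Helper23.RatFun

variable (X : Scheme.{u}) [IsIntegral X]

/-- the function field -/
noncomputable abbrev K : CommRingCat.{u} := X.presheaf.stalk (genericPoint X)

/-- the canonical morphism from the spectrum of the function field -/
noncomputable abbrev jj : Spec (K X) ⟶ X := X.fromSpecStalk (genericPoint X)

/-- the sheaf of rational functions -/
noncomputable abbrev T : X.Modules := (Scheme.Modules.pushforward (jj X)).obj (Coh.structureModule (Spec (K X)))

variable {X}

theorem mem_of_ne_bot {U : X.Opens} (h : U ≠ ⊥) : genericPoint X ∈ U := by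
  refine ((genericPoint_spec X).mem_open_set_iff U.2).2 ?_
  simp only [Set.univ_inter]
  by_contra hne
  apply h
  ext x
  simp only [Opens.coe_bot, Set.mem_empty_iff_false, iff_false]
  intro hx
  exact hne ⟨x, hx⟩

theorem eq_bot_of_not_mem {U : X.Opens} (h : genericPoint X ∉ U) : U = ⊥ := by
  by_contra hne
  exact h (mem_of_ne_bot hne)

theorem subsingleton_T {U : X.Opens} (h : genericPoint X ∉ U) : Subsingleton Γ(T X, U) := by
  have hU : U = ⊥ := eq_bot_of_not_mem h
  subst hU
  have h1 : (jj X) ⁻¹ᵁ (⊥ : X.Opens) = ⊥ := rfl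
  have hT : IsTerminal ((T X).presheaf.obj (op ⊥)) :=
    TopCat.Sheaf.isTerminalOfEqEmpty ⟨(T X).presheaf, (T X).isSheaf⟩ rfl
  have hZ : IsZero ((T X).presheaf.obj (op ⊥)) :=
    IsZero.of_iso (isZero_zero _) (hT.uniqueUpToIso HasZeroObject.zeroIsTerminal)
  exact AddCommGrpCat.subsingleton_of_isZero hZ

omit [IsIntegral X] in
theorem subsingleton_bot (F : X.Modules) : Subsingleton Γ(F, (⊥ : X.Opens)) := by
  have hT : IsTerminal (F.presheaf.obj (op ⊥)) :=
    TopCat.Sheaf.isTerminalOfEqEmpty ⟨F.presheaf, F.isSheaf⟩ rfl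
  have hZ : IsZero (F.presheaf.obj (op ⊥)) :=
    IsZero.of_iso (isZero_zero _) (hT.uniqueUpToIso HasZeroObject.zeroIsTerminal)
  exact AddCommGrpCat.subsingleton_of_isZero hZ

section Map
variable (F : X.Modules) (θ : F.presheaf.stalk (genericPoint X) →ₗ[K X] K X)

/-- the canonical ring map from the function field to the sections of the structure sheaf of its spectrum -/
noncomputable def toS (V : (Spec (K X)).Opens) : K X →+* Γ(Spec (K X), V) :=
  (CommRingCat.ofHom (algebraMap (K X) ((Spec.structureSheaf (K X)).presheaf.obj (op V)))).hom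

theorem toS_res {V V' : (Spec (K X)).Opens} (i : V' ⟶ V) (a : K X) :
    (Spec (K X)).presheaf.map i.op (toS V a) = toS V' a := rfl

/-- the canonical map from the function field to the sections of the sheaf of rational functions -/
noncomputable def toT (U : X.Opens) (a : K X) : Γ(T X, U) := toS ((jj X) ⁻¹ᵁ U) a

theorem toT_add (U : X.Opens) (a b : K X) : toT U (a + b) = toT U a + toT U b :=
  map_add (toS ((jj X) ⁻¹ᵁ U)) a b

theorem toT_zero (U : X.Opens) : toT U (0 : K X) = 0 :=
  map_zero (toS ((jj X) ⁻¹ᵁ U))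

theorem toT_res {U V : X.Opens} (i : V ⟶ U) (a : K X) :
    (T X).presheaf.map i.op (toT U a) = toT V a := rfl

theorem app_eq {U : X.Opens} (h : genericPoint X ∈ U) (r : Γ(X, U)) :
    (jj X).app U r = toS ((jj X) ⁻¹ᵁ U) (X.presheaf.germ U _ h r) := by
  have h2 := ConcreteCategory.congr_hom (Scheme.fromSpecStalk_app (X := X) h) r
  exact h2

theorem smul_toT {U : X.Opens} (h : genericPoint X ∈ U) (r : Γ(X, U)) (a : K X) :
    r • toT U a = toT U (X.presheaf.germ U _ h r * a) := by
  change (show Γ(T X, U) from (jj X).app U r * toS ((jj X) ⁻¹ᵁ U) a) = _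
  rw [app_eq h]
  exact (map_mul (toS ((jj X) ⁻¹ᵁ U)) _ _).symm

theorem toT_injective {U : X.Opens} (h : genericPoint X ∈ U) : Function.Injective (toT (X := X) U) := by
  haveI : Nonempty ((jj X) ⁻¹ᵁ U : (Spec (K X)).Opens) := by
    refine ⟨⟨IsLocalRing.closedPoint (K X), ?_⟩⟩
    change (jj X) (IsLocalRing.closedPoint (K X)) ∈ U
    rw [Scheme.fromSpecStalk_closedPoint]
    exact h
  haveI : Nontrivial Γ(Spec (K X), (jj X) ⁻¹ᵁ U) := Scheme.component_nontrivial _ _
  exact (toS ((jj X) ⁻¹ᵁ U)).injective

open Classical in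
/-- the map on sections -/
noncomputable def secMap (U : X.Opens) (s : Γ(F, U)) : Γ(T X, U) :=
  if h : genericPoint X ∈ U then toT U (θ (F.presheaf.germ U _ h s)) else 0

theorem secMap_of_mem {U : X.Opens} (h : genericPoint X ∈ U) (s : Γ(F, U)) :
    secMap F θ U s = toT U (θ (F.presheaf.germ U _ h s)) := dif_pos h

theorem secMap_add (U : X.Opens) (s t : Γ(F, U)) : secMap F θ U (s + t) = secMap F θ U s + secMap F θ U t := by
  by_cases h : genericPoint X ∈ U
  · rw [secMap_of_mem F θ h, secMap_of_mem F θ h, secMap_of_mem F θ h, map_add, map_add, toT_add]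
  · haveI := subsingleton_T h
    exact Subsingleton.elim _ _

theorem secMap_res {U V : X.Opens} (i : V ⟶ U) (s : Γ(F, U)) :
    (T X).presheaf.map i.op (secMap F θ U s) = secMap F θ V (F.presheaf.map i.op s) := by
  by_cases h : genericPoint X ∈ V
  · have hU : genericPoint X ∈ U := i.le h
    rw [secMap_of_mem F θ hU, secMap_of_mem F θ h, toT_res, TopCat.Presheaf.germ_res_apply]
  · haveI := subsingleton_T h
    exact Subsingleton.elim _ _

theorem secMap_smul (U : X.Opens) (r : Γ(X, U)) (s : Γ(F, U)) :
    secMap F θ U (r • s) = r • secMap F θ U s := by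
  by_cases h : genericPoint X ∈ U
  · rw [secMap_of_mem F θ h, secMap_of_mem F θ h, smul_toT h,
      Groth.Agent.Lib.Helper2.QCoh.germ_smul, map_smul]
    rfl
  · haveI := subsingleton_T h
    exact Subsingleton.elim _ _

/-- the morphism of abelian presheaves -/
noncomputable def φ : F.presheaf ⟶ (T X).presheaf where
  app U := AddCommGrpCat.ofHom (AddMonoidHom.mk' (secMap F θ U.unop) (secMap_add F θ U.unop))
  naturality U V i := by
    ext s
    exact (secMap_res F θ i.unop s).symm

/-- the morphism to the sheaf of rational functions -/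
noncomputable def ι : F ⟶ T X :=
  ⟨PresheafOfModules.homMk (M₁ := F.val) (M₂ := (T X).val) (φ F θ) (fun U r m => secMap_smul F θ U.unop r m)⟩

theorem ι_app (U : X.Opens) (s : Γ(F, U)) : (ι F θ).app U s = secMap F θ U s := rfl

end Map

section Inj
open Groth.Agent.Lib.Helper2.Push

/-- a section of a torsion-free quasi-coherent module on an integral scheme vanishing at the generic point vanishes -/
theorem eq_zero_of_germ_eq_zero (F : X.Modules) [F.IsQuasicoherent] (hF : TorSh.IsTorsionFree F) {U : X.Opens}
    (h : genericPoint X ∈ U) (s : Γ(F, U)) (hs : F.presheaf.germ U _ h s = 0) : s = 0 := by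
  -- `s` vanishes on a neighbourhood of the generic point
  obtain ⟨W, hW, iU, iV, hres⟩ := TopCat.Presheaf.germ_eq F.presheaf (genericPoint X) h h s 0
    (by rw [hs, map_zero])
  rw [map_zero] at hres
  refine TopCat.Presheaf.section_ext (⟨F.presheaf, F.isSheaf⟩ : TopCat.Sheaf Ab.{u} X.carrier) U s 0 ?_
  intro x hx
  rw [map_zero]
  obtain ⟨_, ⟨V, hV, rfl⟩, hxV, hVU⟩ := X.isBasis_affineOpens.exists_subset_of_mem_open hx U.2
  have hηV : genericPoint X ∈ V := mem_of_ne_bot (by
    intro h0
    rw [h0] at hxV
    exact hxV)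
  obtain ⟨f, hfW, hηf⟩ := hV.exists_basicOpen_le ⟨genericPoint X, hW⟩ hηV
  have hloc := IsLocOn.of_isQuasicoherent hV F
  let sV : Γ(F, V) := F.presheaf.map (homOfLE hVU).op s
  have h0 : F.presheaf.map (homOfLE (X.basicOpen_le f)).op sV = 0 := by
    have h1 : F.presheaf.map (homOfLE (X.basicOpen_le f)).op sV =
        F.presheaf.map (homOfLE hfW).op (F.presheaf.map iU.op s) := by
      simp only [sV, ← ConcreteCategory.comp_apply, ← Functor.map_comp]
      rfl
    rw [h1, hres, map_zero]
  obtain ⟨n, hn⟩ := hloc.exists_pow_smul_eq_zero f sV h0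
  have hf0 : f ≠ 0 := by
    intro hf
    rw [hf, Scheme.basicOpen_zero] at hηf
    exact hηf
  have hgf : X.presheaf.germ V x hxV f ≠ 0 := by
    intro hg
    exact hf0 (germ_injective_of_isIntegral X x hxV (hg.trans (map_zero _).symm))
  have hreg : IsRegular ((X.presheaf.germ V x hxV f) ^ n) := isRegular_of_ne_zero (pow_ne_zero n hgf)
  have hg := congrArg (F.presheaf.germ V x hxV) hn
  rw [map_zero, Groth.Agent.Lib.Helper2.QCoh.germ_smul, map_pow] at hg
  have h2 : F.presheaf.germ V x hxV sV = 0 := by
    haveI := hF x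
    exact hreg.isSMulRegular (M := F.presheaf.stalk x) (hg.trans (smul_zero _).symm)
  have h3 : F.presheaf.germ V x hxV sV = F.presheaf.germ U x hx s :=
    TopCat.Presheaf.germ_res_apply F.presheaf (homOfLE hVU) x hxV s
  rw [← h3, h2]

variable (F : X.Modules) (θ : F.presheaf.stalk (genericPoint X) →ₗ[K X] K X)

theorem mono_ι [F.IsQuasicoherent] (hF : TorSh.IsTorsionFree F) (hθ : Function.Injective θ) : Mono (ι F θ) := by
  have h2 : Mono (Scheme.Modules.Hom.mapPresheaf (ι F θ)) := by
    refine (NatTrans.mono_iff_mono_app _).2 (fun W => ?_)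
    rw [Scheme.Modules.mapPresheaf_app, AddCommGrpCat.mono_iff_injective]
    rw [injective_iff_map_eq_zero]
    intro s hs
    have hs' : secMap F θ W.unop s = 0 := hs
    by_cases h : genericPoint X ∈ W.unop
    · rw [secMap_of_mem F θ h] at hs'
      have h1 : θ (F.presheaf.germ W.unop _ h s) = 0 := toT_injective h (hs'.trans (toT_zero _).symm)
      have h2 : F.presheaf.germ W.unop _ h s = 0 := hθ (h1.trans (map_zero θ).symm)
      exact eq_zero_of_germ_eq_zero F hF h s h2
    · have hW : W.unop = ⊥ := eq_bot_of_not_mem h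
      haveI : Subsingleton Γ(F, W.unop) := by rw [hW]; exact subsingleton_bot F
      exact Subsingleton.elim _ _
  have h1 : Mono ((Scheme.Modules.toPresheaf X).map (ι F θ)) := by
    rw [Scheme.Modules.toPresheaf_map]
    exact h2
  exact (Scheme.Modules.toPresheaf X).mono_of_mono_map h1

end Inj

end Groth.Agent.Lib.Helper23.RatFun
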