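import Mathlib
import Groth.Agent.Lib.Helper26ModLim2

/-!
# Calculus of pullback functors of modules (helper26)

* `pfcIso f g p e : pushforward f ⋙ pushforward g ≅ pushforward p` for `e : f ≫ g = p`.
* `unit_comp`: the unit of `p^* ⊣ p_*` in terms of the units for `f`, `g` and `compIso`.
* `homEquiv_comp`: transposes of maps of the form `κ⁻¹ ≫ f^*(m♭) ≫ n`.
* `compIso_assoc`: the associativity coherence for `compIso`.
-/

set_option autoImplicit false
set_option linter.style.haveILetI false
universe u
open CategoryTheory AlgebraicGeometry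

namespace Groth.Agent.Lib.Helper26.PbCalc

open Groth.Agent.Lib.Helper26.ModLim2 Scheme.Modules

variable {X Y Z : Scheme.{u}} (f : X ⟶ Y) (g : Y ⟶ Z) (p : X ⟶ Z) (e : f ≫ g = p)

/-- `g_* f_* ≅ p_*` for `p = f ≫ g`. -/
noncomputable def pfcIso : pushforward f ⋙ pushforward g ≅ pushforward p :=
  pushforwardComp f g ≪≫ pushforwardCongr e

/-- the adjunction `L ⊣ R` notation -/
noncomputable abbrev adj {X Y : Scheme.{u}} (f : X ⟶ Y) := pullbackPushforwardAdjunction f

theorem unit_comp (M : Z.Modules) :
    (adj p).unit.app M = (adj g).unit.app M ≫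
      (pushforward g).map ((adj f).unit.app ((pullback g).obj M)) ≫
        (pfcIso f g p e).hom.app ((pullback f).obj ((pullback g).obj M)) ≫
          (pushforward p).map ((compIso f g p e).hom.app M) := by
  subst e
  have h1 := unit_conjugateEquiv ((adj g).comp (adj f)) (adj (f ≫ g)) (pullbackComp f g).inv M
  rw [conjugateEquiv_pullbackComp_inv, Adjunction.comp_unit_app] at h1
  dsimp only [Functor.comp_obj] at h1
  have h2 : (compIso f g (f ≫ g) rfl) = pullbackComp f g := by
    unfold compIso
    rw [show pullbackCongr (rfl : f ≫ g = f ≫ g) = Iso.refl _ from rfl, Iso.trans_refl]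
  have h3 : pfcIso f g (f ≫ g) rfl = pushforwardComp f g := by
    unfold pfcIso
    have : pushforwardCongr (rfl : f ≫ g = f ≫ g) = Iso.refl _ := by
      ext M U x
      change (M.presheaf.map (𝟙 _)) x = x
      rw [M.presheaf.map_id]
      rfl
    rw [this, Iso.trans_refl]
  rw [h2, h3]
  have h4 : (adj (f ≫ g)).unit.app M = ((adj g).unit.app M ≫
      (pushforward g).map ((adj f).unit.app ((pullback g).obj M))) ≫
      (pushforwardComp f g).hom.app _ ≫ (pushforward (f ≫ g)).map ((pullbackComp f g).hom.app M) := by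
    rw [← Category.assoc, h1, Category.assoc, ← Functor.map_comp, Iso.inv_hom_id_app]
    simp
  rw [h4, Category.assoc]

/-- transposes of maps of the form `κ⁻¹ ≫ f^*(m) ≫ n`. -/
theorem homEquiv_comp {M : Z.Modules} {N : Y.Modules} {C : X.Modules}
    (m : (pullback g).obj M ⟶ N) (n : (pullback f).obj N ⟶ C) :
    (adj p).homEquiv M C ((compIso f g p e).inv.app M ≫ (pullback f).map m ≫ n) =
      (adj g).homEquiv M N m ≫ (pushforward g).map ((adj f).unit.app N) ≫
        (pfcIso f g p e).hom.app ((pullback f).obj N) ≫ (pushforward p).map n := by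
  rw [Adjunction.homEquiv_unit, Adjunction.homEquiv_unit, unit_comp f g p e M]
  simp only [Functor.map_comp, Category.assoc]
  rw [← Functor.map_comp_assoc (pushforward p), Iso.hom_inv_id_app]
  erw [CategoryTheory.Functor.map_id, Category.id_comp]
  have h1 := (pfcIso f g p e).hom.naturality ((pullback f).map m)
  dsimp only [Functor.comp_obj, Functor.comp_map] at h1
  rw [← reassoc_of% h1]
  have h2 := (adj f).unit.naturality m
  dsimp only [Functor.id_obj, Functor.id_map, Functor.comp_obj, Functor.comp_map] at h2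
  rw [← Functor.map_comp_assoc (pushforward g), ← h2, Functor.map_comp, Category.assoc]

theorem compIso_hom_app_of_rfl (M : Z.Modules) :
    (compIso f g (f ≫ g) rfl).hom.app M = (pullbackComp f g).hom.app M := by
  unfold compIso
  rw [show pullbackCongr (rfl : f ≫ g = f ≫ g) = Iso.refl _ from rfl, Iso.trans_refl]

/-- associativity coherence for `compIso`. -/
theorem compIso_assoc {T : Scheme.{u}} (h : Z ⟶ T) (fg : X ⟶ Z) (gh : Y ⟶ T) (d : X ⟶ T)
    (e₁ : f ≫ g = fg) (e₂ : g ≫ h = gh) (e₃ : fg ≫ h = d) (e₄ : f ≫ gh = d) (M : T.Modules) :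
    (compIso f g fg e₁).hom.app ((pullback h).obj M) ≫ (compIso fg h d e₃).hom.app M =
      (pullback f).map ((compIso g h gh e₂).hom.app M) ≫ (compIso f gh d e₄).hom.app M := by
  subst e₁ e₂ e₄
  have h0 := NatTrans.congr_app (pseudofunctor_associativity f g h) M
  simp only [NatTrans.comp_app, Functor.whiskerRight_app, Functor.associator_hom_app,
    Functor.whiskerLeft_app, eqToHom_app] at h0
  rw [compIso_hom_app_of_rfl, compIso_hom_app_of_rfl, compIso_hom_app_of_rfl]
  have h1 : (compIso (f ≫ g) h (f ≫ g ≫ h) e₃).hom.app M =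
      (pullbackComp (f ≫ g) h).hom.app M ≫ eqToHom (by rw [e₃]) := by
    unfold compIso pullbackCongr
    simp
  rw [h1]
  let k1 := (pullback f).mapIso ((pullbackComp g h).app M)
  let k2 := (pullbackComp f (g ≫ h)).app M
  have h0' : k2.inv ≫ k1.inv ≫ (pullbackComp f g).hom.app ((pullback h).obj M) ≫
      (pullbackComp (f ≫ g) h).hom.app M = eqToHom (by rw [e₃]) := h0
  have h2 : (pullbackComp f g).hom.app ((pullback h).obj M) ≫
      (pullbackComp (f ≫ g) h).hom.app M = k1.hom ≫ k2.hom ≫ eqToHom (by rw [e₃]) := by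
    rw [← h0', Iso.hom_inv_id_assoc, Iso.hom_inv_id_assoc]
  rw [reassoc_of% h2]
  change k1.hom ≫ k2.hom ≫ _ = k1.hom ≫ k2.hom
  rw [eqToHom_trans, eqToHom_refl, Category.comp_id]

end Groth.Agent.Lib.Helper26.PbCalc
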