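import Mathlib
import Groth.Prelude.Def_CxOX
import Groth.Agent.Lib.Helper26PbCalc
import Groth.Agent.Lib.Helper13AffBC

/-!
# Gluing modules over a two-member open cover I: sectionwise inputs (helper26)

For open immersions `a : XA ⟶ X`, `b : XB ⟶ X`, `wb : XW ⟶ XB` with `b⁻¹(range a) ≤ range wb`:

* `preservesFiniteLimits_pullback`: `a^*` is exact.
* `isIso_pullback_map_pushforward_unit`: `a^*` inverts `b_*(B ⟶ wb_* wb^* B)`.
* `isIso_of_isIso_pullback_map`: `a^*`, `b^*` are jointly conservative when `a`, `b` cover `X`.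
-/

set_option autoImplicit false
set_option linter.style.haveILetI false
universe u
open CategoryTheory AlgebraicGeometry

namespace Groth.Agent.Lib.Helper26.Glue

open Groth.Agent.Lib.Helper26.ModLim2 Groth.Agent.Lib.Helper26.PbCalc Scheme.Modules

section exact
variable {X U : Scheme.{u}} (j : U ⟶ X) [IsOpenImmersion j]

instance preservesFiniteLimits_restrictFunctor : Limits.PreservesFiniteLimits (restrictFunctor j) := by
  haveI : Limits.PreservesLimitsOfSize.{0, 0} (restrictFunctor j) :=
    (CxOX.extZeroAdj j).rightAdjoint_preservesLimits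
  exact Limits.PreservesLimitsOfSize.preservesFiniteLimits.{0, 0} _

instance preservesFiniteLimits_pullback : Limits.PreservesFiniteLimits (pullback j) :=
  Limits.preservesFiniteLimits_of_natIso (restrictFunctorIsoPullback j)

theorem isIso_pullback_map_iff {M N : X.Modules} (x : M ⟶ N) :
    IsIso ((pullback j).map x) ↔ IsIso ((restrictFunctor j).map x) :=
  (NatIso.isIso_map_iff (restrictFunctorIsoPullback j) x).symm

theorem restrictFunctor_map_app {M N : X.Modules} (x : M ⟶ N) (O : U.Opens) :
    ((restrictFunctor j).map x).app O = x.app (j ''ᵁ O) := rfl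

end exact

section inputs
variable {X XA XB XW : Scheme.{u}} (a : XA ⟶ X) (b : XB ⟶ X) (wb : XW ⟶ XB)
  [IsOpenImmersion a] [IsOpenImmersion b] [IsOpenImmersion wb]

theorem isIso_presheaf_map_of_eq {T : Scheme.{u}} (M : T.Modules) {P Q : T.Opens} (h : P ≤ Q) (h' : Q ≤ P) :
    IsIso (M.presheaf.map (homOfLE h).op) := by
  have : IsIso (homOfLE h) := ⟨⟨homOfLE h', rfl, rfl⟩⟩
  infer_instance

theorem isIso_restrict_pushforward_unit (hwb : b ⁻¹ᵁ a.opensRange ≤ wb.opensRange) (B : XB.Modules) :
    IsIso ((restrictFunctor a).map ((pushforward b).map ((restrictAdjunction wb).unit.app B))) := by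
  rw [Hom.isIso_iff_isIso_app]
  intro O
  rw [restrictFunctor_map_app, pushforward_map_app, restrictAdjunction_unit_app_app]
  apply isIso_presheaf_map_of_eq
  rw [Scheme.Hom.image_preimage_eq_opensRange_inf]
  refine le_inf (le_trans ?_ hwb) le_rfl
  exact (Scheme.Hom.preimage_mono b (Scheme.Hom.image_le_opensRange a O))

theorem isIso_pullback_map_pushforward_unit (hwb : b ⁻¹ᵁ a.opensRange ≤ wb.opensRange) (B : XB.Modules) :
    IsIso ((pullback a).map ((pushforward b).map ((adj wb).unit.app B))) := by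
  rw [isIso_pullback_map_iff]
  have h1 := Adjunction.unit_leftAdjointUniq_hom_app (restrictAdjunction wb) (adj wb) B
  rw [← h1, Functor.map_comp, Functor.map_comp]
  haveI := isIso_restrict_pushforward_unit a b wb hwb B
  infer_instance

omit [IsOpenImmersion wb] in
/-- `a^*` and `b^*` are jointly conservative when `a`, `b` cover `X`. -/
theorem isIso_of_isIso_restrict_map (hcov : a.opensRange ⊔ b.opensRange = ⊤) {M N : X.Modules} (x : M ⟶ N)
    (ha : IsIso ((restrictFunctor a).map x)) (hb : IsIso ((restrictFunctor b).map x)) : IsIso x := by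
  let ι : Type u := {O : X.Opens // O ≤ a.opensRange ∨ O ≤ b.opensRange}
  refine Groth.Agent.Helper13AffBC.isIso_of_bijective_on_basis x (fun i : ι => i.1) ?_ ?_
  · rw [TopologicalSpace.Opens.isBasis_iff_nbhd]
    intro O p hp
    have hp' : p ∈ a.opensRange ⊔ b.opensRange := by rw [hcov]; trivial
    rcases hp' with hp' | hp'
    · exact ⟨O ⊓ a.opensRange, ⟨⟨O ⊓ a.opensRange, Or.inl inf_le_right⟩, rfl⟩, ⟨hp, hp'⟩, inf_le_left⟩
    · exact ⟨O ⊓ b.opensRange, ⟨⟨O ⊓ b.opensRange, Or.inr inf_le_right⟩, rfl⟩, ⟨hp, hp'⟩, inf_le_left⟩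
  · rintro ⟨O, hO | hO⟩
    · have himg : a ''ᵁ (a ⁻¹ᵁ O) = O := by
        rw [Scheme.Hom.image_preimage_eq_opensRange_inf]; exact inf_eq_right.2 hO
      have h1 : IsIso (x.app (a ''ᵁ (a ⁻¹ᵁ O))) :=
        (inferInstance : IsIso (((restrictFunctor a).map x).app (a ⁻¹ᵁ O)))
      rw [himg] at h1
      exact (ConcreteCategory.isIso_iff_bijective _).1 h1
    · have himg : b ''ᵁ (b ⁻¹ᵁ O) = O := by
        rw [Scheme.Hom.image_preimage_eq_opensRange_inf]; exact inf_eq_right.2 hO
      have h1 : IsIso (x.app (b ''ᵁ (b ⁻¹ᵁ O))) :=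
        (inferInstance : IsIso (((restrictFunctor b).map x).app (b ⁻¹ᵁ O)))
      rw [himg] at h1
      exact (ConcreteCategory.isIso_iff_bijective _).1 h1

omit [IsOpenImmersion wb] in
theorem isIso_of_isIso_pullback_map (hcov : a.opensRange ⊔ b.opensRange = ⊤) {M N : X.Modules} (x : M ⟶ N)
    (ha : IsIso ((pullback a).map x)) (hb : IsIso ((pullback b).map x)) : IsIso x :=
  isIso_of_isIso_restrict_map a b hcov x ((isIso_pullback_map_iff a x).1 ha)
    ((isIso_pullback_map_iff b x).1 hb)

end inputs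

end Groth.Agent.Lib.Helper26.Glue
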