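import Mathlib
import Groth.Agent.Lib.Helper26GlueA

/-!
# Gluing modules over a two-member open cover II: construction and uniqueness (helper26)

Setting: open immersions `a : XA ⟶ X`, `b : XB ⟶ X`, `wa : XW ⟶ XA`, `wb : XW ⟶ XB` with
`wa ≫ a = w = wb ≫ b`, `a⁻¹(range b) ≤ range wa`, `b⁻¹(range a) ≤ range wb` (i.e. `XW` is the intersection).

* `canIso M : wa^* a^* M ≅ wb^* b^* M`, the canonical identification.
* `glue A B φ`, for `φ : wa^* A ≅ wb^* B`: the glued module, with `glueIsoA : a^* (glue A B φ) ≅ A`,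
  `glueIsoB : b^* (glue A B φ) ≅ B` and `glue_compat`.
* `nonempty_iso_of_local`: modules `M`, `N` on `X` with compatible isomorphisms of their restrictions along a
  cover `a`, `b` are isomorphic.
-/

set_option autoImplicit false
set_option linter.style.haveILetI false
set_option linter.unusedSectionVars false
universe u
open CategoryTheory AlgebraicGeometry

namespace Groth.Agent.Lib.Helper26.Glue

open Groth.Agent.Lib.Helper26.ModLim2 Groth.Agent.Lib.Helper26.PbCalc Scheme.Modules

section leg
variable {X XA XW : Scheme.{u}} (a : XA ⟶ X) (wa : XW ⟶ XA) (w : XW ⟶ X) (ea : wa ≫ a = w)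

/-- the leg `a_* A ⟶ w_* C` attached to `φ : wa^* A ⟶ C`. -/
noncomputable def leg (A : XA.Modules) (C : XW.Modules) (φ : (pullback wa).obj A ⟶ C) :
    (pushforward a).obj A ⟶ (pushforward w).obj C :=
  (pushforward a).map ((adj wa).unit.app A) ≫ (pfcIso wa a w ea).hom.app ((pullback wa).obj A) ≫
    (pushforward w).map φ

theorem homEquiv_leg {M : X.Modules} {A : XA.Modules} {C : XW.Modules} (m : (pullback a).obj M ⟶ A)
    (φ : (pullback wa).obj A ⟶ C) :
    (adj w).homEquiv M C ((compIso wa a w ea).inv.app M ≫ (pullback wa).map m ≫ φ) =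
      (adj a).homEquiv M A m ≫ leg a wa w ea A C φ :=
  homEquiv_comp wa a w ea m φ

theorem isIso_pullback_map_leg {XA' : Scheme.{u}} (a' : XA' ⟶ X) [IsOpenImmersion a'] [IsOpenImmersion a]
    [IsOpenImmersion wa] (h : a ⁻¹ᵁ a'.opensRange ≤ wa.opensRange)
    (A : XA.Modules) (C : XW.Modules) (φ : (pullback wa).obj A ⟶ C) [IsIso φ] :
    IsIso ((pullback a').map (leg a wa w ea A C φ)) := by
  unfold leg
  rw [Functor.map_comp, Functor.map_comp]
  haveI := isIso_pullback_map_pushforward_unit a' a wa h A
  infer_instance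

end leg

section glue
variable {X XA XB XW : Scheme.{u}} (a : XA ⟶ X) (b : XB ⟶ X) (wa : XW ⟶ XA) (wb : XW ⟶ XB) (w : XW ⟶ X)
  [IsOpenImmersion a] [IsOpenImmersion b] [IsOpenImmersion wa] [IsOpenImmersion wb]
  (ea : wa ≫ a = w) (eb : wb ≫ b = w)

/-- the canonical identification `wa^* a^* M ≅ wb^* b^* M`. -/
noncomputable def canIso (M : X.Modules) :
    (pullback wa).obj ((pullback a).obj M) ≅ (pullback wb).obj ((pullback b).obj M) :=
  (compIso wa a w ea).app M ≪≫ ((compIso wb b w eb).app M).symm

variable (A : XA.Modules) (B : XB.Modules) (φ : (pullback wa).obj A ≅ (pullback wb).obj B)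

/-- the glued module. -/
noncomputable def glue : X.Modules :=
  Limits.pullback (leg a wa w ea A _ φ.hom) (leg b wb w eb B _ (𝟙 _))

noncomputable def glueFst : glue a b wa wb w ea eb A B φ ⟶ (pushforward a).obj A :=
  Limits.pullback.fst _ _

noncomputable def glueSnd : glue a b wa wb w ea eb A B φ ⟶ (pushforward b).obj B :=
  Limits.pullback.snd _ _

theorem glue_condition :
    glueFst a b wa wb w ea eb A B φ ≫ leg a wa w ea A _ φ.hom =
      glueSnd a b wa wb w ea eb A B φ ≫ leg b wb w eb B _ (𝟙 _) :=
  Limits.pullback.condition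

theorem isPullback_glue :
    IsPullback (glueFst a b wa wb w ea eb A B φ) (glueSnd a b wa wb w ea eb A B φ)
      (leg a wa w ea A _ φ.hom) (leg b wb w eb B _ (𝟙 _)) :=
  IsPullback.of_hasPullback _ _

variable (hwa : a ⁻¹ᵁ b.opensRange ≤ wa.opensRange) (hwb : b ⁻¹ᵁ a.opensRange ≤ wb.opensRange)

include hwb in
theorem isIso_pullback_map_glueFst : IsIso ((pullback a).map (glueFst a b wa wb w ea eb A B φ)) := by
  have h1 := (isPullback_glue a b wa wb w ea eb A B φ).map (pullback a)
  haveI := isIso_pullback_map_leg b wb w eb a hwb B _ (𝟙 _)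
  exact h1.isIso_fst_of_isIso

include hwa in
theorem isIso_pullback_map_glueSnd : IsIso ((pullback b).map (glueSnd a b wa wb w ea eb A B φ)) := by
  have h1 := (isPullback_glue a b wa wb w ea eb A B φ).map (pullback b)
  haveI := isIso_pullback_map_leg a wa w ea b hwa A _ φ.hom
  exact h1.isIso_snd_of_isIso

/-- `a^* (glue A B φ) ⟶ A`. -/
noncomputable def glueHomA : (pullback a).obj (glue a b wa wb w ea eb A B φ) ⟶ A :=
  ((adj a).homEquiv _ _).symm (glueFst a b wa wb w ea eb A B φ)

/-- `b^* (glue A B φ) ⟶ B`. -/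
noncomputable def glueHomB : (pullback b).obj (glue a b wa wb w ea eb A B φ) ⟶ B :=
  ((adj b).homEquiv _ _).symm (glueSnd a b wa wb w ea eb A B φ)

include hwb in
theorem isIso_glueHomA : IsIso (glueHomA a b wa wb w ea eb A B φ) := by
  unfold glueHomA
  rw [Adjunction.homEquiv_counit]
  haveI := isIso_pullback_map_glueFst a b wa wb w ea eb A B φ hwb
  infer_instance

include hwa in
theorem isIso_glueHomB : IsIso (glueHomB a b wa wb w ea eb A B φ) := by
  unfold glueHomB
  rw [Adjunction.homEquiv_counit]
  haveI := isIso_pullback_map_glueSnd a b wa wb w ea eb A B φ hwa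
  infer_instance

/-- compatibility of the glued module with the gluing isomorphism. -/
theorem glue_compat :
    (pullback wa).map (glueHomA a b wa wb w ea eb A B φ) ≫ φ.hom =
      (canIso a b wa wb w ea eb (glue a b wa wb w ea eb A B φ)).hom ≫
        (pullback wb).map (glueHomB a b wa wb w ea eb A B φ) := by
  have hA := homEquiv_leg a wa w ea (glueHomA a b wa wb w ea eb A B φ) φ.hom
  have hB := homEquiv_leg b wb w eb (glueHomB a b wa wb w ea eb A B φ) (𝟙 _)
  unfold glueHomA at hA
  unfold glueHomB at hB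
  rw [Equiv.apply_symm_apply] at hA hB
  rw [glue_condition, ← hB] at hA
  have h1 := (Equiv.injective _) hA
  rw [Category.comp_id] at h1
  unfold canIso
  simp only [Iso.trans_hom, Iso.app_hom, Iso.symm_hom, Iso.app_inv, Category.assoc]
  rw [← cancel_epi ((compIso wa a w ea).inv.app (glue a b wa wb w ea eb A B φ))]
  rw [Iso.inv_hom_id_app_assoc]
  exact h1

/-- the isomorphism `a^* (glue A B φ) ≅ A`. -/
noncomputable def glueIsoA (hwb : b ⁻¹ᵁ a.opensRange ≤ wb.opensRange) :
    (pullback a).obj (glue a b wa wb w ea eb A B φ) ≅ A :=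
  haveI := isIso_glueHomA a b wa wb w ea eb A B φ hwb
  asIso (glueHomA a b wa wb w ea eb A B φ)

/-- the isomorphism `b^* (glue A B φ) ≅ B`. -/
noncomputable def glueIsoB (hwa : a ⁻¹ᵁ b.opensRange ≤ wa.opensRange) :
    (pullback b).obj (glue a b wa wb w ea eb A B φ) ≅ B :=
  haveI := isIso_glueHomB a b wa wb w ea eb A B φ hwa
  asIso (glueHomB a b wa wb w ea eb A B φ)

include hwa hwb in
/-- **existence of gluing** -/
theorem exists_glue :
    ∃ (G : X.Modules) (eA : (pullback a).obj G ≅ A) (eB : (pullback b).obj G ≅ B),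
      (pullback wa).map eA.hom ≫ φ.hom =
        (canIso a b wa wb w ea eb G).hom ≫ (pullback wb).map eB.hom :=
  ⟨glue a b wa wb w ea eb A B φ, glueIsoA a b wa wb w ea eb A B φ hwb,
    glueIsoB a b wa wb w ea eb A B φ hwa, glue_compat a b wa wb w ea eb A B φ⟩

section unique
variable (hcov : a.opensRange ⊔ b.opensRange = ⊤) (M N : X.Modules)
  (fa : (pullback a).obj M ≅ (pullback a).obj N) (fb : (pullback b).obj M ≅ (pullback b).obj N)
  (h : (pullback wa).map fa.hom ≫ (canIso a b wa wb w ea eb N).hom =
    (canIso a b wa wb w ea eb M).hom ≫ (pullback wb).map fb.hom)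

/-- the comparison map from `M` to the module glued from the restrictions of `N`. -/
noncomputable def toGlue :
    M ⟶ glue a b wa wb w ea eb ((pullback a).obj N) ((pullback b).obj N) (canIso a b wa wb w ea eb N) :=
  Limits.pullback.lift ((adj a).homEquiv M _ fa.hom) ((adj b).homEquiv M _ fb.hom) (by
    rw [← homEquiv_leg a wa w ea fa.hom, ← homEquiv_leg b wb w eb fb.hom]
    congr 1
    rw [Category.comp_id, h]
    unfold canIso
    simp only [Iso.trans_hom, Iso.app_hom, Iso.symm_hom, Iso.app_inv, Category.assoc]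
    rw [Iso.inv_hom_id_app_assoc])

theorem pullback_map_toGlue_glueHomA :
    (pullback a).map (toGlue a b wa wb w ea eb M N fa fb h) ≫
      glueHomA a b wa wb w ea eb _ _ (canIso a b wa wb w ea eb N) = fa.hom := by
  unfold glueHomA
  rw [Adjunction.homEquiv_counit, ← Functor.map_comp_assoc]
  have : toGlue a b wa wb w ea eb M N fa fb h ≫ glueFst a b wa wb w ea eb _ _ _ =
      (adj a).homEquiv M _ fa.hom := Limits.pullback.lift_fst _ _ _
  rw [this, ← Adjunction.homEquiv_counit, Equiv.symm_apply_apply]

theorem pullback_map_toGlue_glueHomB :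
    (pullback b).map (toGlue a b wa wb w ea eb M N fa fb h) ≫
      glueHomB a b wa wb w ea eb _ _ (canIso a b wa wb w ea eb N) = fb.hom := by
  unfold glueHomB
  rw [Adjunction.homEquiv_counit, ← Functor.map_comp_assoc]
  have : toGlue a b wa wb w ea eb M N fa fb h ≫ glueSnd a b wa wb w ea eb _ _ _ =
      (adj b).homEquiv M _ fb.hom := Limits.pullback.lift_snd _ _ _
  rw [this, ← Adjunction.homEquiv_counit, Equiv.symm_apply_apply]

include hwa hwb hcov in
theorem isIso_toGlue : IsIso (toGlue a b wa wb w ea eb M N fa fb h) := by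
  apply isIso_of_isIso_pullback_map a b hcov
  · haveI := isIso_glueHomA a b wa wb w ea eb _ _ (canIso a b wa wb w ea eb N) hwb
    have h1 := pullback_map_toGlue_glueHomA a b wa wb w ea eb M N fa fb h
    have h2 : (pullback a).map (toGlue a b wa wb w ea eb M N fa fb h) =
        fa.hom ≫ inv (glueHomA a b wa wb w ea eb _ _ (canIso a b wa wb w ea eb N)) := by
      rw [← h1, Category.assoc, IsIso.hom_inv_id, Category.comp_id]
    rw [h2]
    infer_instance
  · haveI := isIso_glueHomB a b wa wb w ea eb _ _ (canIso a b wa wb w ea eb N) hwa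
    have h1 := pullback_map_toGlue_glueHomB a b wa wb w ea eb M N fa fb h
    have h2 : (pullback b).map (toGlue a b wa wb w ea eb M N fa fb h) =
        fb.hom ≫ inv (glueHomB a b wa wb w ea eb _ _ (canIso a b wa wb w ea eb N)) := by
      rw [← h1, Category.assoc, IsIso.hom_inv_id, Category.comp_id]
    rw [h2]
    infer_instance

include hwa hwb hcov h in
/-- **uniqueness of gluing**: modules with compatibly isomorphic restrictions are isomorphic. -/
theorem nonempty_iso_of_local : Nonempty (M ≅ N) := by
  haveI := isIso_toGlue a b wa wb w ea eb hwa hwb hcov M N fa fb h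
  have hN : (pullback wa).map (Iso.refl ((pullback a).obj N)).hom ≫ (canIso a b wa wb w ea eb N).hom =
      (canIso a b wa wb w ea eb N).hom ≫ (pullback wb).map (Iso.refl ((pullback b).obj N)).hom := by
    simp
  haveI := isIso_toGlue a b wa wb w ea eb hwa hwb hcov N N (Iso.refl _) (Iso.refl _) hN
  exact ⟨asIso (toGlue a b wa wb w ea eb M N fa fb h) ≪≫
    (asIso (toGlue a b wa wb w ea eb N N (Iso.refl _) (Iso.refl _) hN)).symm⟩

end unique

end glue

end Groth.Agent.Lib.Helper26.Glue
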