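import Mathlib
import Groth.Prelude.Def_CohB1
import Groth.Agent.Lib.Helper26GlueB
import Groth.Agent.Lib.Helper23FinTypeLocal
import Groth.Agent.Lib.Helper2FinPushFP
import Groth.Agent.Lib.Helper2FPAff
import Groth.Agent.Lib.Helper2PullbackSec
import Groth.Agent.Lib.Helper18Strict6

/-!
# Gluing modules over a two-member open cover III: quasi-coherence and finite presentation (helper26)

For open immersions `a : XA ⟶ X`, `b : XB ⟶ X` covering `X` and a module `M` on `X`:
* `isQuasicoherent_of_pullback_cover`: `M` is quasi-coherent if `a^* M` and `b^* M` are.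
* `isFP_of_pullback_cover`: `M` is of finite presentation if `a^* M` and `b^* M` are.
-/

set_option autoImplicit false
set_option linter.style.haveILetI false
set_option linter.unusedSectionVars false
universe u
open CategoryTheory AlgebraicGeometry TopologicalSpace

namespace Groth.Agent.Lib.Helper26.Glue

open Groth.Agent.Lib.Helper26.ModLim2 Groth.Agent.Lib.Helper26.PbCalc Scheme.Modules

section
variable {X Y : Scheme.{u}}

theorem isQuasicoherent_of_iso {M N : X.Modules} (e : M ≅ N) (h : M.IsQuasicoherent) : N.IsQuasicoherent :=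
  (SheafOfModules.isQuasicoherent X.ringCatSheaf).prop_of_iso e h

theorem isQuasicoherent_restrict (j : Y ⟶ X) [IsOpenImmersion j] (M : X.Modules) [M.IsQuasicoherent] :
    (M.restrict j).IsQuasicoherent := by
  exact isQuasicoherent_of_iso ((restrictFunctorIsoPullback j).app M).symm
    (Groth.Agent.Lib.Helper2.PullbackSec.isQuasicoherent_pullback j M)

theorem isFP_restrict (j : Y ⟶ X) [IsOpenImmersion j] (M : X.Modules) (hM : CohB1.IsFP M) :
    CohB1.IsFP (M.restrict j) :=
  (SheafOfModules.isFinitePresentation Y.ringCatSheaf).prop_of_iso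
    ((restrictFunctorIsoPullback j).app M).symm (Groth.Agent.Helper18Strict.isFP_pullback j M hM)

/-- sections of a restriction along an open immersion: finite presentation transfers -/
theorem finitePresentation_restrict_iff (j : Y ⟶ X) [IsOpenImmersion j] (M : X.Modules) (W : Y.Opens) :
    Module.FinitePresentation Γ(Y, W) Γ(M.restrict j, W) ↔
      Module.FinitePresentation Γ(X, j ''ᵁ W) Γ(M, j ''ᵁ W) := by
  refine Groth.Agent.Lib.Helper2.FPAff.finitePresentation_iff_of_semilinear (j.appIso W).inv.hom ?_
    (AddEquiv.refl _) (fun r x => ?_)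
  · exact ConcreteCategory.bijective_of_isIso (j.appIso W).inv
  · exact Scheme.Modules.smul_restrictAppIso_hom_apply j M W r x

end

section cover
variable {X XA XB : Scheme.{u}} (a : XA ⟶ X) (b : XB ⟶ X) [IsOpenImmersion a] [IsOpenImmersion b]
  (hcov : a.opensRange ⊔ b.opensRange = ⊤) (M : X.Modules)

/-- the affine opens of `X` which are images of affine opens of `XA` or `XB` -/
noncomputable def imgOpen : XA.affineOpens ⊕ XB.affineOpens → X.Opens
  | Sum.inl U => a ''ᵁ U.1
  | Sum.inr U => b ''ᵁ U.1

theorem isAffineOpen_imgOpen (i : XA.affineOpens ⊕ XB.affineOpens) : IsAffineOpen (imgOpen a b i) := by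
  rcases i with U | U
  · exact U.2.image_of_isOpenImmersion a
  · exact U.2.image_of_isOpenImmersion b

include hcov in
theorem isOpenCover_imgOpen : IsOpenCover (imgOpen a b) := by
  rw [IsOpenCover, eq_top_iff]
  intro x _
  have hx : x ∈ a.opensRange ⊔ b.opensRange := by rw [hcov]; trivial
  rcases hx with ⟨y, rfl⟩ | ⟨y, rfl⟩
  · obtain ⟨U, hU, hyU, -⟩ := exists_isAffineOpen_mem_and_subset (x := y) (U := ⊤) trivial
    exact Opens.mem_iSup.2 ⟨Sum.inl ⟨U, hU⟩, ⟨y, hyU, rfl⟩⟩
  · obtain ⟨U, hU, hyU, -⟩ := exists_isAffineOpen_mem_and_subset (x := y) (U := ⊤) trivial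
    exact Opens.mem_iSup.2 ⟨Sum.inr ⟨U, hU⟩, ⟨y, hyU, rfl⟩⟩

/-- restriction to the image of an affine open `U` of `XA`, in terms of the restriction along `a` -/
noncomputable def restrictImageIso {XA : Scheme.{u}} (a : XA ⟶ X) [IsOpenImmersion a] {U : XA.Opens}
    (hU : IsAffineOpen U) :
    (M.restrict a).restrict
        ((hU.image_of_isOpenImmersion a).isoSpec.inv ≫ (a.isoImage U).inv ≫ U.ι) ≅
      M.restrict (hU.image_of_isOpenImmersion a).fromSpec :=
  ((restrictFunctorComp _ a).app M).symm ≪≫ (restrictFunctorCongr (by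
    simp only [Category.assoc, Scheme.Hom.isoImage_inv_ι, IsAffineOpen.isoSpec_inv_ι])).app M

include hcov in
theorem isQuasicoherent_of_restrict_cover [(M.restrict a).IsQuasicoherent] [(M.restrict b).IsQuasicoherent] :
    M.IsQuasicoherent := by
  refine Groth.Agent.Lib.Helper23.QCohLocal.isQuasicoherent_of_affine_cover M (imgOpen a b)
    (isOpenCover_imgOpen a b hcov) (isAffineOpen_imgOpen a b) (fun i => ?_)
  rcases i with U | U
  · exact isQuasicoherent_of_iso (restrictImageIso M a U.2) (isQuasicoherent_restrict
      ((U.2.image_of_isOpenImmersion a).isoSpec.inv ≫ (a.isoImage U.1).inv ≫ U.1.ι) (M.restrict a))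
  · exact isQuasicoherent_of_iso (restrictImageIso M b U.2) (isQuasicoherent_restrict
      ((U.2.image_of_isOpenImmersion b).isoSpec.inv ≫ (b.isoImage U.1).inv ≫ U.1.ι) (M.restrict b))

include hcov in
theorem isFP_of_restrict_cover (hA : CohB1.IsFP (M.restrict a)) (hB : CohB1.IsFP (M.restrict b)) :
    CohB1.IsFP M := by
  haveI : (M.restrict a).IsQuasicoherent := Groth.Agent.Helper18Strict.isQCoh_of_isFP _ hA
  haveI : (M.restrict b).IsQuasicoherent := Groth.Agent.Helper18Strict.isQCoh_of_isFP _ hB
  haveI : M.IsQuasicoherent := isQuasicoherent_of_restrict_cover a b hcov M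
  refine Groth.Agent.Lib.Helper2.FinPushFP.isFinitePresentation_of_finitePresentation_sections M
    (imgOpen a b) (isOpenCover_imgOpen a b hcov) (isAffineOpen_imgOpen a b) (fun i => ?_)
  rcases i with U | U
  · haveI : SheafOfModules.IsFinitePresentation (R := XA.ringCatSheaf) (M.restrict a) := hA
    exact (finitePresentation_restrict_iff a M U.1).1
      (Groth.Agent.Lib.Helper2.FPAff.finitePresentation_sections (M.restrict a) U.2)
  · haveI : SheafOfModules.IsFinitePresentation (R := XB.ringCatSheaf) (M.restrict b) := hB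
    exact (finitePresentation_restrict_iff b M U.1).1
      (Groth.Agent.Lib.Helper2.FPAff.finitePresentation_sections (M.restrict b) U.2)

include hcov in
theorem isQuasicoherent_of_pullback_cover [((pullback a).obj M).IsQuasicoherent]
    [((pullback b).obj M).IsQuasicoherent] : M.IsQuasicoherent := by
  haveI : (M.restrict a).IsQuasicoherent :=
    isQuasicoherent_of_iso ((restrictFunctorIsoPullback a).app M).symm inferInstance
  haveI : (M.restrict b).IsQuasicoherent :=
    isQuasicoherent_of_iso ((restrictFunctorIsoPullback b).app M).symm inferInstance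
  exact isQuasicoherent_of_restrict_cover a b hcov M

include hcov in
theorem isFP_of_pullback_cover (hA : CohB1.IsFP ((pullback a).obj M)) (hB : CohB1.IsFP ((pullback b).obj M)) :
    CohB1.IsFP M :=
  isFP_of_restrict_cover a b hcov M
    ((SheafOfModules.isFinitePresentation XA.ringCatSheaf).prop_of_iso
      ((restrictFunctorIsoPullback a).app M).symm hA)
    ((SheafOfModules.isFinitePresentation XB.ringCatSheaf).prop_of_iso
      ((restrictFunctorIsoPullback b).app M).symm hB)

end cover

end Groth.Agent.Lib.Helper26.Glue
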