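import Groth.Agent.Lib.Helper28HomShStalk

set_option autoImplicit false
universe u
open CategoryTheory Limits AlgebraicGeometry TopologicalSpace Opposite

namespace Groth.Agent.Lib.Helper28.HomSh

open Groth.Agent.Lib.Helper6 Groth.Agent.Lib.Helper2 Groth.Agent.Lib.Helper2.FlatOver

variable {X : Scheme.{u}} (F G : X.Modules)

/-- generators of the sections over an affine open span all the stalks. -/
theorem spansOn_of_span_eq_top [F.IsQuasicoherent] {U : X.Opens} (hU : IsAffineOpen U) {n : ℕ}
    (s : Fin n → Γ(F, U)) (hs : Submodule.span Γ(X, U) (Set.range s) = ⊤) : SpansOn F U s := by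
  intro y hy
  rw [eq_top_iff]
  rintro z -
  obtain ⟨a, m, hya, ham⟩ := QCoh.exists_smul_eq_germ hU F y hy z
  have hunit : IsUnit (X.presheaf.germ U y hy a) := (Scheme.mem_basicOpen X a y hy).1 hya
  obtain ⟨u, hu⟩ := hunit
  have hz : z = (u⁻¹ : (X.presheaf.stalk y)ˣ).1 • F.presheaf.germ U y hy m := by
    rw [← ham, ← hu, smul_smul, Units.inv_mul, one_smul]
  rw [hz]
  refine Submodule.smul_mem _ _ ?_
  have hm : m ∈ Submodule.span Γ(X, U) (Set.range s) := by rw [hs]; trivial
  obtain ⟨c, rfl⟩ := (Submodule.mem_span_range_iff_exists_fun _).1 hm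
  rw [germ_sum_smul]
  refine Submodule.sum_mem _ fun i _ => Submodule.smul_mem _ _ (Submodule.subset_span ⟨i, rfl⟩)

/-- a finite presentation of the sections over an affine open presents all the stalks. -/
theorem presentsOn_of_presentation [F.IsQuasicoherent] {U : X.Opens} (hU : IsAffineOpen U)
    {n m : ℕ} (K : Submodule Γ(X, U) (Fin n → Γ(X, U)))
    (e : Γ(F, U) ≃ₗ[Γ(X, U)] (Fin n → Γ(X, U)) ⧸ K)
    (r : Fin m → Fin n → Γ(X, U)) (hr : Submodule.span Γ(X, U) (Set.range r) = K) :
    PresentsOn F U (fun i => e.symm (K.mkQ (Pi.single i 1))) r := by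
  have hsum : ∀ c : Fin n → Γ(X, U),
      ∑ i, c i • e.symm (K.mkQ (Pi.single i 1)) = e.symm (K.mkQ c) := by
    intro c
    simp only [← map_smul, ← map_sum]
    congr 2
    ext j
    simp [Finset.sum_apply, Pi.single_apply]
  refine ⟨spansOn_of_span_eq_top F hU _ ?_, ?_, ?_⟩
  · rw [eq_top_iff]
    rintro z -
    obtain ⟨c, hc⟩ := K.mkQ_surjective (e z)
    have : z = ∑ i, c i • e.symm (K.mkQ (Pi.single i 1)) := by
      rw [hsum, hc, LinearEquiv.symm_apply_apply]
    rw [this]
    exact Submodule.sum_mem _ fun i _ => Submodule.smul_mem _ _ (Submodule.subset_span ⟨i, rfl⟩)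
  · intro j
    rw [hsum]
    have : r j ∈ K := by rw [← hr]; exact Submodule.subset_span ⟨j, rfl⟩
    rw [Submodule.mkQ_apply, (Submodule.Quotient.mk_eq_zero K).2 this, map_zero]
  · intro y hy N _ _ t ht
    letI mF := moduleStalkSections F U y hy
    haveI locF : IsLocalizedModule (hU.primeIdealOf ⟨y, hy⟩).asIdeal.primeCompl (germₗ F U y hy) :=
      isLocalizedModule_germ hU F y hy
    letI alg : Algebra Γ(X, U) (X.presheaf.stalk y) :=
      TopCat.Presheaf.algebra_section_stalk X.presheaf ⟨y, hy⟩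
    haveI locR : IsLocalization.AtPrime (X.presheaf.stalk y) (hU.primeIdealOf ⟨y, hy⟩).asIdeal :=
      hU.isLocalization_stalk ⟨y, hy⟩
    haveI : IsScalarTower Γ(X, U) (X.presheaf.stalk y) (F.presheaf.stalk y) :=
      IsScalarTower.of_algebraMap_smul fun r x => rfl
    letI mN : Module Γ(X, U) N := Module.compHom N (X.presheaf.germ U y hy).hom
    haveI : IsScalarTower Γ(X, U) (X.presheaf.stalk y) N :=
      IsScalarTower.of_algebraMap_smul fun r x => rfl
    let ψ : (Fin n → Γ(X, U)) →ₗ[Γ(X, U)] N := Fintype.linearCombination Γ(X, U) t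
    have hK : K ≤ LinearMap.ker ψ := by
      rw [← hr, Submodule.span_le]
      rintro _ ⟨j, rfl⟩
      change ψ (r j) = 0
      rw [Fintype.linearCombination_apply]
      exact ht j
    let ψ' : Γ(F, U) →ₗ[Γ(X, U)] N := (K.liftQ ψ hK).comp e.toLinearMap
    have hbc : IsBaseChange (X.presheaf.stalk y) (germₗ F U y hy) :=
      IsLocalizedModule.isBaseChange (hU.primeIdealOf ⟨y, hy⟩).asIdeal.primeCompl
        (X.presheaf.stalk y) (germₗ F U y hy)
    refine ⟨hbc.lift ψ', fun i => ?_⟩
    have h1 := hbc.lift_eq ψ' (e.symm (K.mkQ (Pi.single i 1)))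
    rw [germₗ_apply] at h1
    rw [h1]
    change (K.liftQ ψ hK) (e (e.symm (K.mkQ (Pi.single i 1)))) = t i
    rw [LinearEquiv.apply_symm_apply, Submodule.mkQ_apply, Submodule.liftQ_apply]
    change Fintype.linearCombination Γ(X, U) t (Pi.single i 1) = t i
    rw [Fintype.linearCombination_apply_single, one_smul]

/-- `𝓗om(F, G)_x → Hom(F_x, G_x)` is injective for quasi-coherent `F` with finitely generated
sections over an affine neighbourhood of `x`. -/
theorem evalStalk_injective_of_finite [F.IsQuasicoherent] {U : X.Opens} (hU : IsAffineOpen U)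
    (x : X) (hx : x ∈ U) [Module.Finite Γ(X, U) Γ(F, U)] :
    Function.Injective (RefHull.evalStalk F G x) := by
  obtain ⟨n, s, hs⟩ := Module.Finite.exists_fin (R := Γ(X, U)) (M := Γ(F, U))
  exact evalStalk_injective_of_spansOn F G x hx s (spansOn_of_span_eq_top F hU s hs)

/-- `𝓗om(F, G)_x → Hom(F_x, G_x)` is bijective for quasi-coherent `F` with finitely presented
sections over an affine neighbourhood of `x`. -/
theorem evalStalk_bijective_of_finitePresentation [F.IsQuasicoherent] {U : X.Opens}
    (hU : IsAffineOpen U) (x : X) (hx : x ∈ U) [Module.FinitePresentation Γ(X, U) Γ(F, U)] :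
    Function.Bijective (RefHull.evalStalk F G x) := by
  obtain ⟨n, K, e, hK⟩ := Module.FinitePresentation.exists_fin Γ(X, U) Γ(F, U)
  obtain ⟨m, r, hr⟩ := Submodule.fg_iff_exists_fin_generating_family.1 hK
  have hP := presentsOn_of_presentation F hU K e r hr
  exact ⟨evalStalk_injective_of_spansOn F G x hx _ hP.spans,
    evalStalk_surjective_of_presentsOn F G x hx _ r hP⟩

end Groth.Agent.Lib.Helper28.HomSh
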