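import Mathlib
import Groth.Agent.Lib.Helper28HomShStalk2

/-!
# Sections of the sheaf Hom `RefHull.homSh F G` as linear maps on sections (helper28)

Namespace `Groth.Agent.Lib.Helper28.HomSh`.

* `secHom F G U : Γ(𝓗om(F, G), U) →ₗ[Γ(X, U)] (Γ(F, U) →ₗ[Γ(X, U)] Γ(G, U))`: a section `g = (g_y)` of the
  sheaf Hom acts on sections: `secHom g m` is the section of `G` with germs `g_y (m_y)`.
* `secHom_ext_of_spansOn`: `g` is determined by `secHom g (s i)` if the `s i` span the stalks.
* `exists_secHom_eq_of_presentsOn`: existence of `g` with prescribed values on a presentation.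
* `secHom_bijective`: for quasi-coherent `F` with finitely presented sections over the affine open `U`,
  `secHom F G U` is bijective: `Γ(𝓗om(F, G), U) = Hom_{Γ(X, U)}(Γ(F, U), Γ(G, U))`.
-/

set_option autoImplicit false
universe u
open CategoryTheory Limits AlgebraicGeometry TopologicalSpace Opposite

namespace Groth.Agent.Lib.Helper28.HomSh

open Groth.Agent.Lib.Helper6 Groth.Agent.Lib.Helper2 Groth.Agent.Lib.Helper2.FlatOver

variable {X : Scheme.{u}} (F G : X.Modules)

/-- gluing a section from local sections with prescribed germs (after helper23). -/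
theorem exists_section_of_germs' (M : X.Modules) (U : X.Opens) (γ : ∀ x : U, M.presheaf.stalk x.1)
    (h : ∀ x : U, ∃ (V : X.Opens) (hV : V ≤ U) (_ : x.1 ∈ V) (n : Γ(M, V)),
      ∀ (y : X) (hy : y ∈ V), M.presheaf.germ V y hy n = γ ⟨y, hV hy⟩) :
    ∃ n : Γ(M, U), ∀ (y : X) (hy : y ∈ U), M.presheaf.germ U y hy n = γ ⟨y, hy⟩ := by
  choose V hV hxV n hn using h
  have hcompat : TopCat.Presheaf.IsCompatible (modSheaf M).1 V n := by
    intro x x'
    change res M (inf_le_left : V x ⊓ V x' ≤ V x) (n x) =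
      res M (inf_le_right : V x ⊓ V x' ≤ V x') (n x')
    apply section_ext'
    intro y hy
    rw [germ_res', germ_res', hn x y hy.1, hn x' y hy.2]
  have hcov : U ≤ ⨆ x : U, V x := fun y hy => Opens.mem_iSup.2 ⟨⟨y, hy⟩, hxV ⟨y, hy⟩⟩
  obtain ⟨n₀, hn₀⟩ : ∃ n₀ : Γ(M, U), ∀ x : U, res M (hV x) n₀ = n x := by
    obtain ⟨n₀, hn₀, -⟩ :=
      (modSheaf M).existsUnique_gluing' V U (fun x => homOfLE (hV x)) hcov n hcompat
    exact ⟨n₀, hn₀⟩
  refine ⟨n₀, fun y hy => ?_⟩
  rw [← germ_res' M (hV ⟨y, hy⟩) y (hxV ⟨y, hy⟩), hn₀, hn]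

theorem exists_secFun (U : X.Opens) (g : Γ(RefHull.homSh F G, U)) (m : Γ(F, U)) :
    ∃ n : Γ(G, U), ∀ (y : X) (hy : y ∈ U),
      G.presheaf.germ U y hy n = g.1 ⟨y, hy⟩ (F.presheaf.germ U y hy m) := by
  refine exists_section_of_germs' G U (fun y => g.1 y (F.presheaf.germ U y.1 y.2 m)) fun x => ?_
  obtain ⟨W, hxW, j, n, hn⟩ := RefHull.isLocSect_of_mem g U (𝟙 U) m x
  exact ⟨W, j.le, hxW, n, fun y hy => (hn ⟨y, hy⟩).symm⟩

/-- the value of a section of the sheaf Hom on a section of `F`. -/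
noncomputable def secFun (U : X.Opens) (g : Γ(RefHull.homSh F G, U)) (m : Γ(F, U)) : Γ(G, U) :=
  (exists_secFun F G U g m).choose

theorem germ_secFun (U : X.Opens) (g : Γ(RefHull.homSh F G, U)) (m : Γ(F, U)) (y : X)
    (hy : y ∈ U) :
    G.presheaf.germ U y hy (secFun F G U g m) = g.1 ⟨y, hy⟩ (F.presheaf.germ U y hy m) :=
  (exists_secFun F G U g m).choose_spec y hy

/-- `secFun` as a bilinear map. -/
noncomputable def secHom (U : X.Opens) :
    Γ(RefHull.homSh F G, U) →ₗ[Γ(X, U)] (Γ(F, U) →ₗ[Γ(X, U)] Γ(G, U)) where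
  toFun g :=
    { toFun := secFun F G U g
      map_add' := fun m m' => section_ext' G _ _ fun y hy => by
        rw [map_add, germ_secFun, germ_secFun, germ_secFun, map_add, map_add]
      map_smul' := fun a m => section_ext' G _ _ fun y hy => by
        rw [RingHom.id_apply, Mero.germ_smul, germ_secFun, germ_secFun, Mero.germ_smul, map_smul] }
  map_add' g g' := LinearMap.ext fun m => section_ext' G _ _ fun y hy => by
    change G.presheaf.germ U y hy (secFun F G U (g + g') m) =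
      G.presheaf.germ U y hy (secFun F G U g m + secFun F G U g' m)
    rw [map_add, germ_secFun, germ_secFun, germ_secFun, add_homSh_apply, LinearMap.add_apply]
  map_smul' a g := LinearMap.ext fun m => section_ext' G _ _ fun y hy => by
    change G.presheaf.germ U y hy (secFun F G U (a • g) m) =
      G.presheaf.germ U y hy (a • secFun F G U g m)
    rw [Mero.germ_smul, germ_secFun, germ_secFun, smul_homSh_apply, LinearMap.smul_apply]

theorem germ_secHom (U : X.Opens) (g : Γ(RefHull.homSh F G, U)) (m : Γ(F, U)) (y : X)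
    (hy : y ∈ U) :
    G.presheaf.germ U y hy (secHom F G U g m) = g.1 ⟨y, hy⟩ (F.presheaf.germ U y hy m) :=
  germ_secFun F G U g m y hy

/-- compatibility with restriction. -/
theorem res_secHom {U V : X.Opens} (h : V ≤ U) (g : Γ(RefHull.homSh F G, U)) (m : Γ(F, U)) :
    res G h (secHom F G U g m) = secHom F G V (res (RefHull.homSh F G) h g) (res F h m) :=
  section_ext' G _ _ fun y hy => by
    rw [germ_res', germ_secHom, germ_secHom, germ_res', res_homSh_apply]

variable {F G}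

/-- a section of the sheaf Hom is determined by its values on sections spanning the stalks. -/
theorem secHom_ext_of_spansOn {V : X.Opens} {n : ℕ} (s : Fin n → Γ(F, V)) (hs : SpansOn F V s)
    (g g' : Γ(RefHull.homSh F G, V))
    (h : ∀ i, secHom F G V g (s i) = secHom F G V g' (s i)) : g = g' := by
  refine Subtype.ext (funext fun y => ?_)
  refine LinearMap.ext_on (hs y.1 y.2) ?_
  rintro _ ⟨i, rfl⟩
  rw [← germ_secHom F G V g (s i) y.1 y.2, ← germ_secHom F G V g' (s i) y.1 y.2, h i]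

/-- a family of stalk maps with prescribed values (germs of sections of `G`) on sections spanning
the stalks of `F` is a section of the sheaf Hom. -/
theorem isLocSect_of_spansOn {V : X.Opens} {n : ℕ} (s : Fin n → Γ(F, V)) (hs : SpansOn F V s)
    (t : Fin n → Γ(G, V)) (f : ∀ y : V, RefHull.StalkHom F G y.1)
    (hf : ∀ (y : V) (i : Fin n), f y (F.presheaf.germ V y.1 y.2 (s i)) =
      G.presheaf.germ V y.1 y.2 (t i)) : RefHull.IsLocSect F G f := by
  intro V₁ i₁ m₁ x₁
  have hx₁V : x₁.1 ∈ V := i₁.le x₁.2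
  have hmem : F.presheaf.germ V₁ x₁.1 x₁.2 m₁ ∈ Submodule.span (X.presheaf.stalk x₁.1)
      (Set.range fun i => F.presheaf.germ V x₁.1 hx₁V (s i)) := by
    rw [hs x₁.1 hx₁V]; trivial
  obtain ⟨c, hc⟩ := (Submodule.mem_span_range_iff_exists_fun _).1 hmem
  obtain ⟨W₁, hW₁V₁, hx₁W₁, hW₁⟩ := exists_nhd_le_forall_fin x₁.1 x₁.2
    (fun i W₁ => ∃ a : Γ(X, W₁), ∀ hx : x₁.1 ∈ W₁, X.presheaf.germ W₁ x₁.1 hx a = c i)
    (fun i W W' hle ⟨a, ha⟩ => ⟨resf hle a, fun hx => by rw [germ_resf', ha]⟩)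
    (fun i => by
      obtain ⟨W, _, hxW, a, ha⟩ := exists_germ_eq_le_ring x₁.1 x₁.2 (c i)
      exact ⟨W, hxW, a, fun _ => ha⟩)
  choose a ha using hW₁
  have hW₁V : W₁ ≤ V := hW₁V₁.trans i₁.le
  have hgerm : F.presheaf.germ W₁ x₁.1 hx₁W₁ (res F hW₁V₁ m₁) =
      F.presheaf.germ W₁ x₁.1 hx₁W₁ (∑ i, a i • res F hW₁V (s i)) := by
    rw [germ_res', germ_sum_smul, ← hc]
    refine Finset.sum_congr rfl fun i _ => ?_
    rw [ha i hx₁W₁, germ_res']
  obtain ⟨W₂, hW₂, hx₁W₂, hres⟩ := exists_res_eq_of_germ_eq F x₁.1 hx₁W₁ _ _ hgerm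
  refine ⟨W₂, hx₁W₂, homOfLE (hW₂.trans hW₁V₁), ∑ i, resf hW₂ (a i) • res G (hW₂.trans hW₁V) (t i),
    fun y => ?_⟩
  have e1 : F.presheaf.germ V₁ y.1 ((hW₂.trans hW₁V₁) y.2) m₁ =
      ∑ i, X.presheaf.germ W₁ y.1 (hW₂ y.2) (a i) •
        F.presheaf.germ V y.1 (hW₁V (hW₂ y.2)) (s i) := by
    rw [← germ_res' F hW₁V₁ y.1 (hW₂ y.2), ← germ_res' F hW₂ y.1 y.2, hres, germ_res',
      germ_sum_smul]
    refine Finset.sum_congr rfl fun i _ => ?_
    rw [germ_res']
  rw [e1, map_sum, germ_sum_smul]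
  refine Finset.sum_congr rfl fun i _ => ?_
  rw [map_smul, germ_resf', germ_res']
  exact congrArg _ (hf ⟨y.1, i₁.le ((hW₂.trans hW₁V₁) y.2)⟩ i)

/-- existence of a section of the sheaf Hom with prescribed values on a presentation. -/
theorem exists_secHom_eq_of_presentsOn {V : X.Opens} {n m : ℕ} (s : Fin n → Γ(F, V))
    (r : Fin m → Fin n → Γ(X, V)) (hs : PresentsOn F V s r) (t : Fin n → Γ(G, V))
    (ht : ∀ j, ∑ i, r j i • t i = 0) :
    ∃ g : Γ(RefHull.homSh F G, V), ∀ i, secHom F G V g (s i) = t i := by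
  have hlift : ∀ y : V, ∃ f : F.presheaf.stalk y.1 →ₗ[X.presheaf.stalk y.1] G.presheaf.stalk y.1,
      ∀ i, f (F.presheaf.germ V y.1 y.2 (s i)) = G.presheaf.germ V y.1 y.2 (t i) := by
    intro y
    refine hs.lift y.1 y.2 _ (fun i => G.presheaf.germ V y.1 y.2 (t i)) fun j => ?_
    rw [← germ_sum_smul, ht j, map_zero]
  choose f hf using hlift
  refine ⟨⟨f, isLocSect_of_spansOn s hs.spans t f hf⟩, fun i => ?_⟩
  refine section_ext' G _ _ fun y hy => ?_
  rw [germ_secHom]
  exact hf ⟨y, hy⟩ i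

theorem span_range_eq_top_of_equiv {A M : Type*} [CommRing A] [AddCommGroup M] [Module A M] {n : ℕ}
    (K : Submodule A (Fin n → A)) (e : M ≃ₗ[A] (Fin n → A) ⧸ K) :
    Submodule.span A (Set.range fun i => e.symm (K.mkQ (Pi.single i 1))) = ⊤ := by
  have hsum : ∀ c : Fin n → A,
      ∑ i, c i • e.symm (K.mkQ (Pi.single i 1)) = e.symm (K.mkQ c) := by
    intro c
    simp only [← map_smul, ← map_sum]
    congr 2
    ext j
    simp [Finset.sum_apply, Pi.single_apply]
  rw [eq_top_iff]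
  rintro z -
  obtain ⟨c, hc⟩ := K.mkQ_surjective (e z)
  have : z = ∑ i, c i • e.symm (K.mkQ (Pi.single i 1)) := by
    rw [hsum, hc, LinearEquiv.symm_apply_apply]
  rw [this]
  exact Submodule.sum_mem _ fun i _ => Submodule.smul_mem _ _ (Submodule.subset_span ⟨i, rfl⟩)

variable (F G)

/-- **Sections of the sheaf Hom over an affine open**: for quasi-coherent `F` with finitely
presented sections over the affine open `U`, `Γ(𝓗om(F, G), U) = Hom_{Γ(X, U)}(Γ(F, U), Γ(G, U))`. -/
theorem secHom_bijective [F.IsQuasicoherent] {U : X.Opens} (hU : IsAffineOpen U)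
    [Module.FinitePresentation Γ(X, U) Γ(F, U)] : Function.Bijective (secHom F G U) := by
  obtain ⟨n, K, e, hK⟩ := Module.FinitePresentation.exists_fin Γ(X, U) Γ(F, U)
  obtain ⟨m, r, hr⟩ := Submodule.fg_iff_exists_fin_generating_family.1 hK
  have hP := presentsOn_of_presentation F hU K e r hr
  have hspan := span_range_eq_top_of_equiv K e
  constructor
  · intro g g' h
    exact secHom_ext_of_spansOn _ hP.spans g g' fun i => by rw [h]
  · intro φ
    obtain ⟨g, hg⟩ := exists_secHom_eq_of_presentsOn (G := G) _ r hP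
      (fun i => φ (e.symm (K.mkQ (Pi.single i 1)))) (fun j => by
        have h1 : ∀ i, r j i • φ (e.symm (K.mkQ (Pi.single i 1))) =
            φ (r j i • e.symm (K.mkQ (Pi.single i 1))) := fun i => (map_smul φ _ _).symm
        simp only [h1]
        rw [← map_sum, hP.rel j, map_zero])
    refine ⟨g, LinearMap.ext_on hspan ?_⟩
    rintro _ ⟨i, rfl⟩
    exact hg i

/-- injectivity needs only finite generation. -/
theorem secHom_injective [F.IsQuasicoherent] {U : X.Opens} (hU : IsAffineOpen U)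
    [Module.Finite Γ(X, U) Γ(F, U)] : Function.Injective (secHom F G U) := by
  obtain ⟨n, s, hs⟩ := Module.Finite.exists_fin (R := Γ(X, U)) (M := Γ(F, U))
  intro g g' h
  exact secHom_ext_of_spansOn s (spansOn_of_span_eq_top F hU s hs) g g' fun i => by rw [h]

end Groth.Agent.Lib.Helper28.HomSh
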