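import Mathlib
import Groth.Agent.Lib.Helper28HomShSec
import Groth.Agent.Lib.Helper23QCohLocal
import Groth.Agent.Lib.Helper23FinType2
import Groth.Agent.Lib.Helper2LocFree

/-!
# Quasi-coherence of the sheaf Hom `RefHull.homSh F G` (helper28)

Namespace `Groth.Agent.Lib.Helper28.HomSh`.

* `isLocOn_homSh`: for quasi-coherent `F`, `G` and an affine open `U` over which `F` has finitely
  presented sections, `𝓗om(F, G)` localizes on `U` (helper2's `IsLocOn`).
* `isQuasicoherent_homSh`: `𝓗om(F, G)` is quasi-coherent if `F` is quasi-coherent of finite presentation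
  (sections over all affine opens finitely presented) and `G` is quasi-coherent.
-/

set_option autoImplicit false
universe u
open CategoryTheory Limits AlgebraicGeometry TopologicalSpace Opposite

namespace Groth.Agent.Lib.Helper28.HomSh

open Groth.Agent.Lib.Helper6 Groth.Agent.Lib.Helper2 Groth.Agent.Lib.Helper2.FlatOver
  Groth.Agent.Lib.Helper2.Push

theorem exists_common_pow {A M : Type*} [CommRing A] [AddCommGroup M] [Module A M] (f : A) {n : ℕ}
    (x : Fin n → M) (h : ∀ i, ∃ k : ℕ, f ^ k • x i = 0) : ∃ k : ℕ, ∀ i, f ^ k • x i = 0 := by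
  choose k hk using h
  refine ⟨Finset.univ.sup k, fun i => ?_⟩
  have hle : k i ≤ Finset.univ.sup k := Finset.le_sup (Finset.mem_univ i)
  rw [← Nat.sub_add_cancel hle, pow_add, mul_smul, hk i, smul_zero]

variable {X : Scheme.{u}} (F G : X.Modules)

theorem res_sum (M : X.Modules) {U V : X.Opens} (h : V ≤ U) {ι : Type*} (s : Finset ι)
    (x : ι → Γ(M, U)) : res M h (∑ i ∈ s, x i) = ∑ i ∈ s, res M h (x i) := map_sum _ _ _

theorem exists_common_extension {U : X.Opens} (hG : IsLocOn G U) (f : Γ(X, U)) {n : ℕ}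
    (ψ : Fin n → Γ(G, X.basicOpen f)) :
    ∃ (k : ℕ) (t : Fin n → Γ(G, U)), ∀ i,
      res G (X.basicOpen_le f) (t i) = resf (X.basicOpen_le f) f ^ k • ψ i := by
  have h := fun i => hG.exists_extension f (ψ i)
  choose k t ht using h
  refine ⟨Finset.univ.sup k, fun i => f ^ (Finset.univ.sup k - k i) • t i, fun i => ?_⟩
  have hle : k i ≤ Finset.univ.sup k := Finset.le_sup (Finset.mem_univ i)
  have hti : res G (X.basicOpen_le f) (t i) = resf (X.basicOpen_le f) f ^ k i • ψ i := ht i
  rw [res_smul, resf_pow, hti, ← mul_smul, ← pow_add, Nat.sub_add_cancel hle]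

theorem isLocOn_homSh [F.IsQuasicoherent] [G.IsQuasicoherent] {U : X.Opens} (hU : IsAffineOpen U)
    [Module.FinitePresentation Γ(X, U) Γ(F, U)] : IsLocOn (RefHull.homSh F G) U := by
  obtain ⟨n, K, e, hK⟩ := Module.FinitePresentation.exists_fin Γ(X, U) Γ(F, U)
  obtain ⟨m, r, hr⟩ := Submodule.fg_iff_exists_fin_generating_family.1 hK
  have hP := presentsOn_of_presentation F hU K e r hr
  have hG : IsLocOn G U := IsLocOn.of_isQuasicoherent hU G
  set s : Fin n → Γ(F, U) := fun i => e.symm (K.mkQ (Pi.single i 1)) with hs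
  refine ⟨fun f g' => ?_, fun f g hg => ?_⟩
  · -- extension
    have hD : X.basicOpen f ≤ U := X.basicOpen_le f
    obtain ⟨k, t, ht⟩ := exists_common_extension G hG f
      (fun i => secHom F G (X.basicOpen f) g' (res F hD (s i)))
    have hrel : ∀ j, ∃ l : ℕ, f ^ l • ∑ i, r j i • t i = 0 := by
      intro j
      refine hG.exists_pow_smul_eq_zero f _ ?_
      change res G hD (∑ i, r j i • t i) = 0
      rw [res_sum]
      have h1 : ∀ i, res G hD (r j i • t i) = resf hD f ^ k •
          secHom F G (X.basicOpen f) g' (res F hD (r j i • s i)) := by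
        intro i
        rw [res_smul, ht i, res_smul, map_smul, smul_comm]
      simp only [h1]
      rw [← Finset.smul_sum, ← map_sum, ← res_sum, hP.rel j, res_zero, map_zero, smul_zero]
    obtain ⟨l, hl⟩ := exists_common_pow f (fun j => ∑ i, r j i • t i) hrel
    obtain ⟨g, hg⟩ := exists_secHom_eq_of_presentsOn (G := G) s r hP (fun i => f ^ l • t i)
      (fun j => by
        have h1 : ∀ i, r j i • f ^ l • t i = f ^ l • (r j i • t i) := fun i => smul_comm _ _ _
        simp only [h1]
        rw [← Finset.smul_sum]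
        exact hl j)
    refine ⟨l + k, g, ?_⟩
    change res (RefHull.homSh F G) hD g = resf hD f ^ (l + k) • g'
    refine secHom_ext_of_spansOn (fun i => res F hD (s i)) (hP.spans.mono hD) _ _ fun i => ?_
    rw [← res_secHom, hg i, res_smul, resf_pow, ht i, map_smul, LinearMap.smul_apply, ← mul_smul,
      ← pow_add]
  · -- torsion
    have hD : X.basicOpen f ≤ U := X.basicOpen_le f
    have h1 : ∀ i, ∃ k : ℕ, f ^ k • secHom F G U g (s i) = 0 := by
      intro i
      refine hG.exists_pow_smul_eq_zero f _ ?_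
      change res G hD (secHom F G U g (s i)) = 0
      rw [res_secHom]
      change secHom F G _ ((RefHull.homSh F G).presheaf.map (homOfLE hD).op g) _ = 0
      rw [hg, map_zero, LinearMap.zero_apply]
    obtain ⟨k, hk⟩ := exists_common_pow f (fun i => secHom F G U g (s i)) h1
    refine ⟨k, ?_⟩
    refine secHom_ext_of_spansOn s hP.spans _ _ fun i => ?_
    rw [map_smul, LinearMap.smul_apply, hk i, map_zero, LinearMap.zero_apply]

/-- `𝓗om(F, G)` is quasi-coherent for quasi-coherent `F`, `G` with `F` of finite presentation. -/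
theorem isQuasicoherent_homSh [F.IsQuasicoherent] [G.IsQuasicoherent]
    (hfp : ∀ U : X.Opens, IsAffineOpen U → Module.FinitePresentation Γ(X, U) Γ(F, U)) :
    (RefHull.homSh F G).IsQuasicoherent :=
  Groth.Agent.Lib.Helper23.QCohLocal.isQuasicoherent_of_isLocOn _ fun V hV => by
    haveI := hfp V hV
    exact isLocOn_homSh F G hV

open Groth.Agent.Lib.Helper23.FinType Groth.Agent.Lib.Helper20.PullbackAff
  Groth.Agent.Lib.Helper20.Thickening in
/-- on a locally Noetherian scheme, the sheaf Hom of coherent modules is coherent. -/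
theorem isCoh_homSh [IsLocallyNoetherian X] (hF : Coh.IsCoh F) (hG : Coh.IsCoh G) :
    Coh.IsCoh (RefHull.homSh F G) := by
  haveI : F.IsQuasicoherent := hF.1
  haveI : SheafOfModules.IsFiniteType (R := X.ringCatSheaf) F := hF.2
  haveI : G.IsQuasicoherent := hG.1
  haveI : SheafOfModules.IsFiniteType (R := X.ringCatSheaf) G := hG.2
  have hfp : ∀ U : X.Opens, IsAffineOpen U → Module.FinitePresentation Γ(X, U) Γ(F, U) := by
    intro U hU
    haveI : IsNoetherianRing Γ(X, U) := IsLocallyNoetherian.component_noetherian ⟨U, hU⟩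
    haveI : Module.Finite Γ(X, U) Γ(F, U) := finite_of_isFiniteType F hU
    exact Module.finitePresentation_of_finite _ _
  haveI hq : (RefHull.homSh F G).IsQuasicoherent := isQuasicoherent_homSh F G hfp
  refine ⟨hq, ?_⟩
  refine isFiniteType_of_finite_ΓU (RefHull.homSh F G) (fun V : X.affineOpens => (V : X.Opens))
    (iSup_affineOpens_eq_top X) (fun V => V.2) fun V => ?_
  haveI : IsNoetherianRing Γ(X, V.1) := IsLocallyNoetherian.component_noetherian V
  haveI : Module.Finite Γ(X, V.1) Γ(F, V.1) := finite_of_isFiniteType F V.2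
  haveI : Module.Finite Γ(X, V.1) Γ(G, V.1) := finite_of_isFiniteType G V.2
  haveI : Module.Finite Γ(X, V.1) Γ(RefHull.homSh F G, V.1) :=
    Module.Finite.of_injective (secHom F G V.1) (secHom_injective F G V.2)
  exact Module.Finite.equiv (ΓUEquiv V.2 (RefHull.homSh F G))

end Groth.Agent.Lib.Helper28.HomSh
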