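import Mathlib
import Groth.Agent.Lib.Helper10Reflexive

/-!
# Reflexivity of a localization in terms of the module (helper28)

Namespace `Groth.Agent.Lib.Helper28.ReflLoc`.

For a finitely presented `R`-module `M` with finitely presented dual and a prime `q`,
`LocRefl R M q` says that the evaluation map `M → M**` is "bijective near `q`" in element form.  It is
equivalent to reflexivity of any localization of `M` at `q` (`isReflexive_iff_locRefl`), it is
inherited by smaller primes (`LocRefl.mono`) and `M` is reflexive iff it holds at all maximal ideals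
(`isReflexive_of_forall_locRefl`).
-/

set_option autoImplicit false
universe u

namespace Groth.Agent.Lib.Helper28.ReflLoc

open Module Groth.Agent.Lib.Helper10.Reflexive

variable (R : Type*) [CommRing R] (M : Type*) [AddCommGroup M] [Module R M]

/-- the evaluation map `M → M**` is bijective near the prime `q`, in element form. -/
def LocRefl (q : Ideal R) : Prop :=
  (∀ k : M, Dual.eval R M k = 0 → ∃ s : R, s ∉ q ∧ s • k = 0) ∧
    (∀ c : Dual R (Dual R M), ∃ s : R, s ∉ q ∧ s • c ∈ LinearMap.range (Dual.eval R M))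

variable {R M}

theorem LocRefl.mono {q q' : Ideal R} (h : LocRefl R M q) (hle : q' ≤ q) : LocRefl R M q' :=
  ⟨fun k hk => let ⟨s, hs, hsk⟩ := h.1 k hk; ⟨s, fun hs' => hs (hle hs'), hsk⟩,
    fun c => let ⟨s, hs, hsc⟩ := h.2 c; ⟨s, fun hs' => hs (hle hs'), hsc⟩⟩

theorem locRefl_of_isReflexive [Module.IsReflexive R M] (q : Ideal R) (hq : q ≠ ⊤) :
    LocRefl R M q := by
  have h1 : (1 : R) ∉ q := fun h => hq ((Ideal.eq_top_iff_one q).2 h)
  have hb := Module.bijective_dual_eval R M
  refine ⟨fun k hk => ⟨1, h1, ?_⟩, fun c => ⟨1, h1, ?_⟩⟩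
  · rw [one_smul]
    exact hb.1 (hk.trans (map_zero _).symm)
  · rw [one_smul]
    exact LinearMap.mem_range.2 (hb.2 c)

/-- local-global principle. -/
theorem isReflexive_of_forall_locRefl
    (h : ∀ (q : Ideal R), q.IsMaximal → LocRefl R M q) : Module.IsReflexive R M := by
  refine ⟨⟨?_, ?_⟩⟩
  · rw [injective_iff_map_eq_zero]
    intro k hk
    by_contra hne
    let I : Ideal R := Submodule.colon ⊥ {k}  -- annihilator of k
    have hI : I ≠ ⊤ := by
      intro htop
      have : (1 : R) ∈ I := by rw [htop]; trivial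
      rw [Submodule.mem_colon_singleton, one_smul, Submodule.mem_bot] at this
      exact hne this
    obtain ⟨q, hq, hIq⟩ := Ideal.exists_le_maximal I hI
    obtain ⟨s, hs, hsk⟩ := (h q hq).1 k hk
    exact hs (hIq (by rw [Submodule.mem_colon_singleton, hsk]; exact Submodule.zero_mem _))
  · intro c
    by_contra hne
    let I : Ideal R := Submodule.colon (LinearMap.range (Dual.eval R M)) {c}
    have hI : I ≠ ⊤ := by
      intro htop
      have : (1 : R) ∈ I := by rw [htop]; trivial
      rw [Submodule.mem_colon_singleton, one_smul] at this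
      exact hne (LinearMap.mem_range.1 this)
    obtain ⟨q, hq, hIq⟩ := Ideal.exists_le_maximal I hI
    obtain ⟨s, hs, hsc⟩ := (h q hq).2 c
    exact hs (hIq (by rw [Submodule.mem_colon_singleton]; exact hsc))

section Localization

variable (q : Ideal R) [q.IsPrime] (Rs : Type*) [CommRing Rs] [Algebra R Rs]
  [IsLocalization.AtPrime Rs q]
variable {Ms : Type*} [AddCommGroup Ms] [Module R Ms] [Module Rs Ms]
  [IsScalarTower R Rs Ms] (l : M →ₗ[R] Ms) [IsLocalizedModule q.primeCompl l]
variable [Module.FinitePresentation R M] [Module.FinitePresentation R (Dual R M)]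

include l in
theorem locRefl_of_isReflexive_localization [Module.IsReflexive Rs Ms] : LocRefl R M q := by
  have hb := Module.bijective_dual_eval Rs Ms
  constructor
  · intro k hk
    have h1 : Dual.eval Rs Ms (l k) = 0 := by
      rw [← DD_eval q.primeCompl Rs l k, hk, map_zero]
    have h2 : l k = 0 := hb.1 (h1.trans (map_zero _).symm)
    obtain ⟨s, hs⟩ := (IsLocalizedModule.eq_zero_iff q.primeCompl l).1 h2
    exact ⟨s.1, s.2, hs⟩
  · intro c
    obtain ⟨z, hz⟩ := hb.2 (DD q.primeCompl Rs l c)
    obtain ⟨⟨m, s⟩, hms⟩ := IsLocalizedModule.surj q.primeCompl l z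
    have h1 : DD q.primeCompl Rs l (s.1 • c - Dual.eval R M m) = 0 := by
      rw [map_sub, map_smul, ← hz, DD_eval, ← hms, sub_eq_zero]
      change s.1 • Dual.eval Rs Ms z = Dual.eval Rs Ms (s.1 • z)
      rw [← algebraMap_smul Rs s.1 z, map_smul, algebraMap_smul]
    obtain ⟨t, ht⟩ := (IsLocalizedModule.eq_zero_iff q.primeCompl (DD q.primeCompl Rs l)).1 h1
    refine ⟨t.1 * s.1, q.primeCompl.mul_mem t.2 s.2, LinearMap.mem_range.2 ⟨t.1 • m, ?_⟩⟩
    have ht' : t.1 • (s.1 • c - Dual.eval R M m) = 0 := ht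
    rw [smul_sub, sub_eq_zero] at ht'
    rw [map_smul, mul_smul, ht']

include l in
theorem isReflexive_localization_of_locRefl (h : LocRefl R M q) : Module.IsReflexive Rs Ms := by
  refine ⟨⟨?_, ?_⟩⟩
  · rw [injective_iff_map_eq_zero]
    intro z hz
    obtain ⟨⟨m, s⟩, hms⟩ := IsLocalizedModule.surj q.primeCompl l z
    have hms' : s.1 • z = l m := hms
    have h1 : DD q.primeCompl Rs l (Dual.eval R M m) = 0 := by
      rw [DD_eval, ← hms', ← algebraMap_smul Rs s.1 z, map_smul, hz, smul_zero]
    obtain ⟨t, ht⟩ := (IsLocalizedModule.eq_zero_iff q.primeCompl (DD q.primeCompl Rs l)).1 h1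
    have ht' : Dual.eval R M (t.1 • m) = 0 := by rw [map_smul]; exact ht
    obtain ⟨s', hs', hs'm⟩ := h.1 _ ht'
    have h2 : l m = 0 := by
      rw [IsLocalizedModule.eq_zero_iff q.primeCompl l]
      refine ⟨⟨s', hs'⟩ * t, ?_⟩
      change (s' * t.1) • m = 0
      rw [mul_smul]
      exact hs'm
    rw [h2] at hms'
    exact (IsLocalizedModule.smul_inj l s z 0).1 (by rw [smul_zero]; exact hms')
  · intro w
    obtain ⟨⟨c, s⟩, hcs⟩ := IsLocalizedModule.surj q.primeCompl (DD q.primeCompl Rs l) w
    have hcs' : s.1 • w = DD q.primeCompl Rs l c := hcs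
    obtain ⟨s', hs', hs'c⟩ := h.2 c
    obtain ⟨m, hm⟩ := LinearMap.mem_range.1 hs'c
    have hu : IsUnit (algebraMap R Rs (s' * s.1)) :=
      IsLocalization.map_units Rs (⟨s', hs'⟩ * s : q.primeCompl)
    obtain ⟨u, hu⟩ := hu
    refine ⟨(u⁻¹ : Rsˣ).1 • l m, ?_⟩
    have h3 : algebraMap R Rs (s' * s.1) • w = Dual.eval Rs Ms (l m) := by
      rw [algebraMap_smul, mul_smul, hcs', ← map_smul, ← hm, DD_eval]
    rw [map_smul, ← h3, ← hu, smul_smul, Units.inv_mul, one_smul]

include l in
theorem isReflexive_iff_locRefl : Module.IsReflexive Rs Ms ↔ LocRefl R M q :=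
  ⟨fun _ => locRefl_of_isReflexive_localization q Rs l,
    isReflexive_localization_of_locRefl q Rs l⟩

end Localization

end Groth.Agent.Lib.Helper28.ReflLoc
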