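import Mathlib
import Groth.Agent.Lib.Helper28HomShQCoh
import Groth.Agent.Lib.Helper28ReflLoc

/-!
# Reflexive modules on a scheme: sheaf-level versus stalk-level (helper28)

Namespace `Groth.Agent.Lib.Helper28.HomSh`.

* `isCoh_structureModule'`, `isIso_of_bijective_on_affines'`.
* `secHom_bidualMap`: the biduality map on sections is evaluation.
* `bijective_bidualMap_app_iff`: over an affine open `U` (with `𝓗om` computed by `secHom`), the
  biduality map `Γ(F, U) → Γ(F**, U)` is bijective iff `Γ(F, U)` is a reflexive `Γ(X, U)`-module.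
* `isReflexiveAt_iff_locRefl`: `F_x` is reflexive iff `Γ(F, U)` is reflexive near the prime of `x`.
* `isReflexive_iff_forall_isReflexiveAt`, `isReflexiveAt_of_specializes`.
-/

set_option autoImplicit false
universe u
open CategoryTheory Limits AlgebraicGeometry TopologicalSpace Opposite

namespace Groth.Agent.Lib.Helper28.HomSh

open Groth.Agent.Lib.Helper6 Groth.Agent.Lib.Helper2 Groth.Agent.Lib.Helper2.FlatOver
  Groth.Agent.Lib.Helper28.ReflLoc

variable {X : Scheme.{u}}

theorem isQuasicoherent_structureModule' (P : Scheme.{u}) :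
    (Coh.structureModule P).IsQuasicoherent := by
  unfold Coh.structureModule
  have h : (SheafOfModules.free (R := P.ringCatSheaf) PUnit.{u+1}).IsQuasicoherent := inferInstance
  exact (SheafOfModules.isQuasicoherent P.ringCatSheaf).prop_of_iso
    (coproductUniqueIso (fun (_ : PUnit.{u+1}) ↦ SheafOfModules.unit P.ringCatSheaf)) h

theorem isCoh_structureModule' (P : Scheme.{u}) : Coh.IsCoh (Coh.structureModule P) := by
  haveI := isQuasicoherent_structureModule' P
  refine ⟨inferInstance, ?_⟩
  rw [Groth.Agent.Lib.Helper23.FinType.isFiniteType_iff_forall_affine]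
  intro U hU
  exact inferInstanceAs (Module.Finite Γ(P, U) Γ(P, U))

/-- a morphism of modules that is bijective on affine opens is an isomorphism (after helper13). -/
theorem isIso_of_bijective_on_affines' {M N : X.Modules} (φ : M ⟶ N)
    (hφ : ∀ U : X.Opens, IsAffineOpen U → Function.Bijective (φ.app U)) : IsIso φ := by
  let α : (⟨M.presheaf, M.isSheaf⟩ : TopCat.Sheaf Ab X) ⟶ ⟨N.presheaf, N.isSheaf⟩ :=
    ⟨φ.mapPresheaf⟩
  have hB : Opens.IsBasis (Set.range (fun U : X.affineOpens => (U.1 : X.Opens))) := by
    have := X.isBasis_affineOpens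
    rwa [← Subtype.range_coe (s := X.affineOpens)] at this
  have h1 : IsIso α := TopCat.Sheaf.isIso_iff_isIso_basis
    (B := fun U : X.affineOpens => (U.1 : X.Opens)) hB fun i =>
    (ConcreteCategory.isIso_iff_bijective _).2 (hφ i.1 i.2)
  have h2 : IsIso ((Scheme.Modules.toPresheaf X).map φ) := by
    have : IsIso ((TopCat.Sheaf.forget Ab X).map α) := Functor.map_isIso _ α
    exact this
  exact isIso_of_reflects_iso φ (Scheme.Modules.toPresheaf X)

/-- sections of the structure module are functions. -/
noncomputable def secUnit (U : X.Opens) : Γ(Coh.structureModule X, U) ≃ₗ[Γ(X, U)] Γ(X, U) where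
  toFun b := b
  invFun a := a
  map_add' _ _ := rfl
  map_smul' _ _ := rfl
  left_inv _ := rfl
  right_inv _ := rfl

variable (F : X.Modules)

/-- the biduality map on sections is evaluation. -/
theorem secHom_bidualMap (U : X.Opens) (s : Γ(F, U)) (θ : Γ(RefHull.dual F, U)) :
    secHom (RefHull.dual F) (Coh.structureModule X) U ((RefHull.bidualMap F).app U s) θ =
      secHom F (Coh.structureModule X) U θ s := by
  refine section_ext' _ _ _ fun y hy => ?_
  rw [germ_secHom, germ_secHom, RefHull.bidualMap_app_apply, RefHull.bidualAt_apply,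
    RefHull.evalStalk_germ]

/-- sections of the dual as linear forms. -/
noncomputable def dualSec (U : X.Opens) :
    Γ(RefHull.dual F, U) →ₗ[Γ(X, U)] Module.Dual Γ(X, U) Γ(F, U) :=
  (LinearEquiv.congrRight (secUnit U)).toLinearMap ∘ₗ secHom F (Coh.structureModule X) U

theorem dualSec_apply (U : X.Opens) (θ : Γ(RefHull.dual F, U)) (s : Γ(F, U)) :
    dualSec F U θ s = secUnit U (secHom F (Coh.structureModule X) U θ s) := rfl

theorem dualSec_bijective {U : X.Opens}
    (h : Function.Bijective (secHom F (Coh.structureModule X) U)) :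
    Function.Bijective (dualSec F U) :=
  (LinearEquiv.congrRight (secUnit U)).bijective.comp h

/-- over an open where the sheaf Homs are computed by `secHom`, the biduality map is bijective iff
the module of sections is reflexive. -/
theorem bijective_bidualMap_app_iff {U : X.Opens}
    (h1 : Function.Bijective (secHom F (Coh.structureModule X) U))
    (h2 : Function.Bijective (secHom (RefHull.dual F) (Coh.structureModule X) U)) :
    Function.Bijective ((RefHull.bidualMap F).app U) ↔ Module.IsReflexive Γ(X, U) Γ(F, U) := by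
  let δ : Γ(RefHull.dual F, U) ≃ₗ[Γ(X, U)] Module.Dual Γ(X, U) Γ(F, U) :=
    LinearEquiv.ofBijective (dualSec F U) (dualSec_bijective F h1)
  let Δ : Γ(RefHull.ddual F, U) ≃ₗ[Γ(X, U)] Module.Dual Γ(X, U) (Module.Dual Γ(X, U) Γ(F, U)) :=
    (LinearEquiv.ofBijective (secHom (RefHull.dual F) (Coh.structureModule X) U) h2).trans
      (LinearEquiv.arrowCongr δ (secUnit U))
  have key : ∀ s : Γ(F, U), Δ ((RefHull.bidualMap F).app U s) = Module.Dual.eval Γ(X, U) Γ(F, U) s := by
    intro s
    refine LinearMap.ext fun lam => ?_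
    change secUnit U (secHom (RefHull.dual F) (Coh.structureModule X) U
      ((RefHull.bidualMap F).app U s) (δ.symm lam)) = lam s
    rw [secHom_bidualMap]
    have : δ (δ.symm lam) s = lam s := by rw [LinearEquiv.apply_symm_apply]
    exact this
  have hcomp : ⇑(Module.Dual.eval Γ(X, U) Γ(F, U)) = ⇑Δ ∘ ⇑((RefHull.bidualMap F).app U) :=
    funext fun s => (key s).symm
  constructor
  · intro hb
    refine ⟨?_⟩
    rw [hcomp]
    exact Δ.bijective.comp hb
  · intro hr
    have hb := Module.bijective_dual_eval Γ(X, U) Γ(F, U)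
    rw [hcomp] at hb
    exact (Function.Bijective.of_comp_iff' Δ.bijective _).1 hb

/-- the stalk `F_x` is reflexive iff the module of sections over an affine neighbourhood is
reflexive near the prime of `x`. -/
theorem isReflexiveAt_iff_locRefl [F.IsQuasicoherent] {U : X.Opens} (hU : IsAffineOpen U)
    [Module.FinitePresentation Γ(X, U) Γ(F, U)]
    [Module.FinitePresentation Γ(X, U) (Module.Dual Γ(X, U) Γ(F, U))] (x : X) (hx : x ∈ U) :
    RefHull.IsReflexiveAt F x ↔
      LocRefl Γ(X, U) Γ(F, U) (hU.primeIdealOf ⟨x, hx⟩).asIdeal := by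
  letI mF := moduleStalkSections F U x hx
  haveI locF : IsLocalizedModule (hU.primeIdealOf ⟨x, hx⟩).asIdeal.primeCompl (germₗ F U x hx) :=
    isLocalizedModule_germ hU F x hx
  letI alg : Algebra Γ(X, U) (X.presheaf.stalk x) :=
    TopCat.Presheaf.algebra_section_stalk X.presheaf ⟨x, hx⟩
  haveI locR : IsLocalization.AtPrime (X.presheaf.stalk x) (hU.primeIdealOf ⟨x, hx⟩).asIdeal :=
    hU.isLocalization_stalk ⟨x, hx⟩
  haveI : IsScalarTower Γ(X, U) (X.presheaf.stalk x) (F.presheaf.stalk x) :=
    IsScalarTower.of_algebraMap_smul fun r x => rfl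
  exact isReflexive_iff_locRefl (hU.primeIdealOf ⟨x, hx⟩).asIdeal (X.presheaf.stalk x)
    (germₗ F U x hx)

/-- reflexivity of stalks passes to generizations. -/
theorem isReflexiveAt_of_specializes [IsLocallyNoetherian X] (hF : Coh.IsCoh F) {x y : X}
    (h : y ⤳ x) (hx : RefHull.IsReflexiveAt F x) : RefHull.IsReflexiveAt F y := by
  haveI : F.IsQuasicoherent := hF.1
  haveI : SheafOfModules.IsFiniteType (R := X.ringCatSheaf) F := hF.2
  obtain ⟨U, hU0, hxU, -⟩ := (Opens.isBasis_iff_nbhd.1 X.isBasis_affineOpens) (Opens.mem_top x)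
  have hU : IsAffineOpen U := hU0
  have hyU : y ∈ U := h.mem_open U.2 hxU
  haveI : IsNoetherianRing Γ(X, U) := IsLocallyNoetherian.component_noetherian ⟨U, hU⟩
  haveI : Module.Finite Γ(X, U) Γ(F, U) :=
    Groth.Agent.Lib.Helper23.FinType.finite_of_isFiniteType F hU
  haveI : Module.FinitePresentation Γ(X, U) Γ(F, U) := Module.finitePresentation_of_finite _ _
  haveI : Module.FinitePresentation Γ(X, U) (Module.Dual Γ(X, U) Γ(F, U)) :=
    Module.finitePresentation_of_finite _ _
  rw [isReflexiveAt_iff_locRefl F hU y hyU]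
  rw [isReflexiveAt_iff_locRefl F hU x hxU] at hx
  exact hx.mono (QCoh.primeIdealOf_le_of_specializes hU x y hxU hyU h)

/-- **Reflexive iff stalkwise reflexive** for coherent modules on a locally Noetherian scheme. -/
theorem isReflexive_iff_forall_isReflexiveAt [IsLocallyNoetherian X] (hF : Coh.IsCoh F) :
    RefHull.IsReflexive F ↔ ∀ x : X, RefHull.IsReflexiveAt F x := by
  haveI : F.IsQuasicoherent := hF.1
  haveI : SheafOfModules.IsFiniteType (R := X.ringCatSheaf) F := hF.2
  have hD : Coh.IsCoh (RefHull.dual F) := isCoh_homSh F _ hF (isCoh_structureModule' X)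
  haveI : (RefHull.dual F).IsQuasicoherent := hD.1
  haveI : SheafOfModules.IsFiniteType (R := X.ringCatSheaf) (RefHull.dual F) := hD.2
  -- the dictionary over an affine open
  have hdict : ∀ U : X.Opens, IsAffineOpen U →
      (Function.Bijective ((RefHull.bidualMap F).app U) ↔
        Module.IsReflexive Γ(X, U) Γ(F, U)) := by
    intro U hU
    haveI : IsNoetherianRing Γ(X, U) := IsLocallyNoetherian.component_noetherian ⟨U, hU⟩
    haveI : Module.Finite Γ(X, U) Γ(F, U) :=
      Groth.Agent.Lib.Helper23.FinType.finite_of_isFiniteType F hU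
    haveI : Module.FinitePresentation Γ(X, U) Γ(F, U) := Module.finitePresentation_of_finite _ _
    haveI : Module.Finite Γ(X, U) Γ(RefHull.dual F, U) :=
      Groth.Agent.Lib.Helper23.FinType.finite_of_isFiniteType (RefHull.dual F) hU
    haveI : Module.FinitePresentation Γ(X, U) Γ(RefHull.dual F, U) :=
      Module.finitePresentation_of_finite _ _
    exact bijective_bidualMap_app_iff F (secHom_bijective F _ hU) (secHom_bijective _ _ hU)
  constructor
  · intro hiso x
    haveI : IsIso (RefHull.bidualMap F) := hiso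
    obtain ⟨U, hU0, hxU, -⟩ := (Opens.isBasis_iff_nbhd.1 X.isBasis_affineOpens) (Opens.mem_top x)
    have hU : IsAffineOpen U := hU0
    haveI : IsNoetherianRing Γ(X, U) := IsLocallyNoetherian.component_noetherian ⟨U, hU⟩
    haveI : Module.Finite Γ(X, U) Γ(F, U) :=
      Groth.Agent.Lib.Helper23.FinType.finite_of_isFiniteType F hU
    haveI : Module.FinitePresentation Γ(X, U) Γ(F, U) := Module.finitePresentation_of_finite _ _
    haveI : Module.FinitePresentation Γ(X, U) (Module.Dual Γ(X, U) Γ(F, U)) :=
      Module.finitePresentation_of_finite _ _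
    have hb : Function.Bijective ((RefHull.bidualMap F).app U) :=
      ConcreteCategory.bijective_of_isIso ((RefHull.bidualMap F).app U)
    haveI := (hdict U hU).1 hb
    rw [isReflexiveAt_iff_locRefl F hU x hxU]
    exact locRefl_of_isReflexive _ (hU.primeIdealOf ⟨x, hxU⟩).2.ne_top
  · intro hst
    refine isIso_of_bijective_on_affines' _ fun U hU => ?_
    rw [hdict U hU]
    haveI : IsNoetherianRing Γ(X, U) := IsLocallyNoetherian.component_noetherian ⟨U, hU⟩
    haveI : Module.Finite Γ(X, U) Γ(F, U) :=
      Groth.Agent.Lib.Helper23.FinType.finite_of_isFiniteType F hU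
    haveI : Module.FinitePresentation Γ(X, U) Γ(F, U) := Module.finitePresentation_of_finite _ _
    haveI : Module.FinitePresentation Γ(X, U) (Module.Dual Γ(X, U) Γ(F, U)) :=
      Module.finitePresentation_of_finite _ _
    refine isReflexive_of_forall_locRefl fun q hq => ?_
    have hmem := QCoh.fromSpec_mem hU ⟨q, hq.isPrime⟩
    have h1 := (isReflexiveAt_iff_locRefl F hU _ hmem).1 (hst _)
    rw [QCoh.primeIdealOf_fromSpec] at h1
    exact h1

end Groth.Agent.Lib.Helper28.HomSh
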