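import Mathlib
import Groth.Agent.Lib.Helper28ReflLoc

set_option autoImplicit false
universe u

namespace Groth.Agent.Lib.Helper28.ReflLoc

open Module

variable (R : Type*) [CommRing R] [IsDomain R] [IsNoetherianRing R]
  (P : Type*) [AddCommGroup P] [Module R P] [Module.Finite R P]

/-- over a Noetherian domain the evaluation map into the bidual has torsion cokernel. -/
theorem exists_smul_mem_range_eval (c : Dual R (Dual R P)) :
    ∃ s : R, s ≠ 0 ∧ s • c ∈ LinearMap.range (Dual.eval R P) := by
  haveI : Module.FinitePresentation R P := Module.finitePresentation_of_finite _ _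
  haveI : Module.FinitePresentation R (Dual R P) := Module.finitePresentation_of_finite _ _
  let S := (⊥ : Ideal R).primeCompl
  have hfield : IsField (Localization.AtPrime (⊥ : Ideal R)) := by
    rw [IsLocalRing.isField_iff_maximalIdeal_eq, ← Localization.AtPrime.map_eq_maximalIdeal,
      Ideal.map_bot]
  letI : Field (Localization.AtPrime (⊥ : Ideal R)) := hfield.toField
  haveI : Module.IsReflexive (Localization.AtPrime (⊥ : Ideal R)) (LocalizedModule S P) :=
    inferInstance
  have h := locRefl_of_isReflexive_localization (⊥ : Ideal R) (Localization.AtPrime (⊥ : Ideal R))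
    (LocalizedModule.mkLinearMap S P)
  obtain ⟨s, hs, hsc⟩ := h.2 c
  exact ⟨s, fun h0 => hs (by rw [h0]; exact Submodule.zero_mem _), hsc⟩

/-- over a Noetherian domain the dual of a finite module is reflexive. -/
theorem isReflexive_dual : Module.IsReflexive R (Dual R P) := by
  have hsplit : ∀ φ : Dual R P, (Dual.eval R P).dualMap (Dual.eval R (Dual R P) φ) = φ := by
    intro φ
    ext p
    rfl
  refine ⟨⟨?_, ?_⟩⟩
  · intro φ ψ h
    rw [← hsplit φ, ← hsplit ψ, h]
  · intro ξ
    refine ⟨(Dual.eval R P).dualMap ξ, ?_⟩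
    refine LinearMap.ext fun c => ?_
    obtain ⟨s, hs, hsc⟩ := exists_smul_mem_range_eval R P c
    obtain ⟨p, hp⟩ := LinearMap.mem_range.1 hsc
    have h1 : s • (Dual.eval R (Dual R P) ((Dual.eval R P).dualMap ξ)) c = s • ξ c := by
      rw [← map_smul, ← map_smul, ← hp]
      rfl
    exact smul_right_injective _ hs h1

variable (M N : Type*) [AddCommGroup M] [Module R M] [Module.Finite R M]
  [AddCommGroup N] [Module R N] [Module.Finite R N]

/-- over a Noetherian domain, `Hom(M, N)` is reflexive if `N` is. -/
theorem isReflexive_linearMap [Module.IsReflexive R N] : Module.IsReflexive R (M →ₗ[R] N) := by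
  haveI := isReflexive_dual R (TensorProduct R M (Dual R N))
  let e1 : Dual R (TensorProduct R M (Dual R N)) ≃ₗ[R] (M →ₗ[R] Dual R (Dual R N)) :=
    (TensorProduct.lift.equiv (RingHom.id R) M (Dual R N) R).symm
  let e2 : (M →ₗ[R] Dual R (Dual R N)) ≃ₗ[R] (M →ₗ[R] N) :=
    LinearEquiv.congrRight (Module.evalEquiv R N).symm
  exact Module.equiv (e1.trans e2)

end Groth.Agent.Lib.Helper28.ReflLoc
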