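import Mathlib
import Groth.Agent.Lib.Helper28HomShRefl
import Groth.Agent.Lib.Helper28ReflHom

/-!
# Reflexivity of the sheaf Hom (helper28)

* `finite_stalk_of_isCoh`: stalks of coherent modules on locally Noetherian schemes are finite.
* `isReflexive_homSh`: on an integral locally Noetherian scheme, `𝓗om(F, G)` is reflexive for coherent
  `F`, `G` with `G` reflexive.
-/

set_option autoImplicit false
universe u
open CategoryTheory Limits AlgebraicGeometry TopologicalSpace Opposite

namespace Groth.Agent.Lib.Helper28.HomSh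

open Groth.Agent.Lib.Helper6 Groth.Agent.Lib.Helper2 Groth.Agent.Lib.Helper2.FlatOver
  Groth.Agent.Lib.Helper28.ReflLoc

variable {X : Scheme.{u}}

theorem finite_stalk_of_isCoh [IsLocallyNoetherian X] (F : X.Modules) (hF : Coh.IsCoh F) (x : X) :
    Module.Finite (X.presheaf.stalk x) (F.presheaf.stalk x) := by
  haveI : F.IsQuasicoherent := hF.1
  haveI : SheafOfModules.IsFiniteType (R := X.ringCatSheaf) F := hF.2
  obtain ⟨U, hU0, hx, -⟩ := (Opens.isBasis_iff_nbhd.1 X.isBasis_affineOpens) (Opens.mem_top x)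
  have hU : IsAffineOpen U := hU0
  letI mF := moduleStalkSections F U x hx
  haveI locF : IsLocalizedModule (hU.primeIdealOf ⟨x, hx⟩).asIdeal.primeCompl (germₗ F U x hx) :=
    isLocalizedModule_germ hU F x hx
  haveI hfinU : Module.Finite Γ(X, U) Γ(F, U) :=
    Groth.Agent.Lib.Helper23.FinType.finite_of_isFiniteType F hU
  letI alg : Algebra Γ(X, U) (X.presheaf.stalk x) :=
    TopCat.Presheaf.algebra_section_stalk X.presheaf ⟨x, hx⟩
  haveI locR : IsLocalization.AtPrime (X.presheaf.stalk x) (hU.primeIdealOf ⟨x, hx⟩).asIdeal :=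
    hU.isLocalization_stalk ⟨x, hx⟩
  haveI : IsScalarTower Γ(X, U) (X.presheaf.stalk x) (F.presheaf.stalk x) :=
    IsScalarTower.of_algebraMap_smul fun r x => rfl
  exact Module.Finite.of_isLocalizedModule (hU.primeIdealOf ⟨x, hx⟩).asIdeal.primeCompl
    (germₗ F U x hx)

/-- the stalk of the sheaf Hom of coherent modules is the Hom of the stalks. -/
theorem evalStalk_bijective_of_isCoh [IsLocallyNoetherian X] (F G : X.Modules) (hF : Coh.IsCoh F)
    (x : X) : Function.Bijective (RefHull.evalStalk F G x) := by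
  haveI : F.IsQuasicoherent := hF.1
  haveI : SheafOfModules.IsFiniteType (R := X.ringCatSheaf) F := hF.2
  obtain ⟨U, hU0, hx, -⟩ := (Opens.isBasis_iff_nbhd.1 X.isBasis_affineOpens) (Opens.mem_top x)
  have hU : IsAffineOpen U := hU0
  haveI : IsNoetherianRing Γ(X, U) := IsLocallyNoetherian.component_noetherian ⟨U, hU⟩
  haveI : Module.Finite Γ(X, U) Γ(F, U) :=
    Groth.Agent.Lib.Helper23.FinType.finite_of_isFiniteType F hU
  haveI : Module.FinitePresentation Γ(X, U) Γ(F, U) := Module.finitePresentation_of_finite _ _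
  exact evalStalk_bijective_of_finitePresentation F G hU x hx

theorem isReflexive_homSh [IsIntegral X] [IsLocallyNoetherian X] (F G : X.Modules)
    (hF : Coh.IsCoh F) (hG : Coh.IsCoh G) (hGr : RefHull.IsReflexive G) :
    RefHull.IsReflexive (RefHull.homSh F G) := by
  rw [isReflexive_iff_forall_isReflexiveAt _ (isCoh_homSh F G hF hG)]
  intro x
  haveI := finite_stalk_of_isCoh F hF x
  haveI := finite_stalk_of_isCoh G hG x
  haveI : Module.IsReflexive (X.presheaf.stalk x) (G.presheaf.stalk x) :=
    (isReflexive_iff_forall_isReflexiveAt G hG).1 hGr x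
  haveI := isReflexive_linearMap (X.presheaf.stalk x) (F.presheaf.stalk x) (G.presheaf.stalk x)
  exact Module.equiv (LinearEquiv.ofBijective (RefHull.evalStalk F G x)
    (evalStalk_bijective_of_isCoh F G hF x)).symm

end Groth.Agent.Lib.Helper28.HomSh
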