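import Mathlib

set_option autoImplicit false
universe u

namespace Groth.Agent.Lib.Helper28.ReflUFD

open Module

section GCD

variable {R : Type*} [CommRing R] [IsDomain R] [UniqueFactorizationMonoid R]

theorem exists_dvd_iff (a : R) (ha : a ≠ 0) (j : R) : ∃ c : R, ∀ r : R, a ∣ r * j ↔ c ∣ r := by
  classical
  letI : GCDMonoid R := UniqueFactorizationMonoid.toGCDMonoid R
  obtain ⟨a', j', ha', hj', hu⟩ := extract_gcd a j
  have hg : gcd a j ≠ 0 := fun h => ha ((gcd_eq_zero_iff a j).1 h).1
  generalize gcd a j = g at ha' hj' hg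
  subst ha' hj'
  refine ⟨a', fun r => ?_⟩
  have h1 : g * a' ∣ r * (g * j') ↔ a' ∣ r * j' := by
    rw [show r * (g * j') = g * (r * j') by ring]
    exact mul_dvd_mul_iff_left hg
  rw [h1]
  constructor
  · intro h
    rw [mul_comm] at h
    have h2 := dvd_gcd_mul_of_dvd_mul h
    exact (IsUnit.dvd_mul_left hu).1 h2
  · intro h
    exact Dvd.dvd.mul_right h _

theorem exists_dvd_iff_finset (a : R) (ha : a ≠ 0) (S : Finset R) :
    ∃ c : R, ∀ r : R, (∀ j ∈ S, a ∣ r * j) ↔ c ∣ r := by
  classical
  letI : GCDMonoid R := UniqueFactorizationMonoid.toGCDMonoid R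
  induction S using Finset.induction_on with
  | empty => exact ⟨1, fun r => by simp⟩
  | insert j S _ ih =>
    obtain ⟨c, hc⟩ := ih
    obtain ⟨d, hd⟩ := exists_dvd_iff a ha j
    refine ⟨lcm d c, fun r => ?_⟩
    rw [lcm_dvd_iff, ← hd, ← hc]
    simp

end GCD

variable {R : Type*} [CommRing R] [IsDomain R] [UniqueFactorizationMonoid R] [IsNoetherianRing R]

/-- the dual of a nonzero ideal of a Noetherian factorial domain is free of rank one. -/
theorem nonempty_dual_ideal_equiv (J : Ideal R) (hJ : J ≠ ⊥) : Nonempty (Dual R J ≃ₗ[R] R) := by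
  obtain ⟨a, haJ, ha⟩ := Submodule.exists_mem_ne_zero_of_ne_bot hJ
  obtain ⟨S, hS⟩ := (IsNoetherian.noetherian J : J.FG)
  obtain ⟨c, hc⟩ := exists_dvd_iff_finset a ha S
  -- the divisibility criterion on all of `J`
  have hcJ : ∀ r : R, (∀ j ∈ J, a ∣ r * j) ↔ c ∣ r := by
    intro r
    rw [← hc r]
    constructor
    · intro h j hj
      exact h j (by rw [← hS]; exact Submodule.subset_span hj)
    · intro h j hj
      rw [← hS] at hj
      induction hj using Submodule.span_induction with
      | mem x hx => exact h x hx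
      | zero => simp
      | add x y _ _ hx hy => rw [mul_add]; exact dvd_add hx hy
      | smul t x _ hx =>
        rw [smul_eq_mul, mul_left_comm]
        exact Dvd.dvd.mul_left hx t
  have hc0 : c ≠ 0 := by
    have h1 : c ∣ a := (hcJ a).1 fun j _ => Dvd.intro j rfl
    intro h0
    rw [h0, zero_dvd_iff] at h1
    exact ha h1
  let ev : Dual R J →ₗ[R] R := LinearMap.applyₗ (⟨a, haJ⟩ : J)
  have hev : ∀ ψ : Dual R J, ev ψ = ψ ⟨a, haJ⟩ := fun _ => rfl
  have hkey : ∀ (ψ : Dual R J) (j : J), a * ψ j = ψ ⟨a, haJ⟩ * j.1 := by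
    intro ψ j
    have h1 : (a • j : J) = j.1 • (⟨a, haJ⟩ : J) := by
      ext
      simp [mul_comm]
    have h2 := congrArg ψ h1
    rw [map_smul, map_smul, smul_eq_mul, smul_eq_mul] at h2
    rw [h2, mul_comm]
  have hinj : Function.Injective ev := by
    rw [injective_iff_map_eq_zero]
    intro ψ hψ
    refine LinearMap.ext fun j => ?_
    have h1 := hkey ψ j
    rw [← hev, hψ, zero_mul] at h1
    exact (mul_eq_zero.1 h1).resolve_left ha
  have hrange : LinearMap.range ev = Submodule.span R {c} := by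
    apply le_antisymm
    · rintro _ ⟨ψ, rfl⟩
      rw [Submodule.mem_span_singleton]
      have h1 : c ∣ ev ψ := (hcJ _).1 fun j hj => ⟨ψ ⟨j, hj⟩, (hkey ψ ⟨j, hj⟩).symm⟩
      obtain ⟨t, ht⟩ := h1
      exact ⟨t, by rw [ht, smul_eq_mul, mul_comm]⟩
    · rw [Submodule.span_singleton_le_iff_mem]
      have hdiv : ∀ j : J, a ∣ c * j.1 := fun j => (hcJ c).2 (dvd_refl c) j.1 j.2
      choose q hq using hdiv
      let ψ : Dual R J :=
        { toFun := q
          map_add' := fun j j' => by
            apply mul_left_cancel₀ ha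
            rw [mul_add, ← hq, ← hq, ← hq]
            simp [mul_add]
          map_smul' := fun t j => by
            apply mul_left_cancel₀ ha
            rw [RingHom.id_apply, smul_eq_mul, mul_left_comm, ← hq, ← hq]
            simp [mul_left_comm] }
      refine ⟨ψ, ?_⟩
      apply mul_left_cancel₀ ha
      change a * q ⟨a, haJ⟩ = a * c
      rw [← hq, mul_comm]
  exact ⟨(LinearEquiv.ofInjective ev hinj).trans ((LinearEquiv.ofEq _ _ hrange).trans
    (LinearEquiv.toSpanNonzeroSingleton R R c hc0).symm)⟩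

/-- a nontrivial reflexive module over a Noetherian factorial domain which embeds into the ring is
free of rank one. -/
theorem nonempty_linearEquiv_of_isReflexive (M : Type*) [AddCommGroup M] [Module R M]
    [Module.IsReflexive R M] [Nontrivial M] (φ : M →ₗ[R] R) (hφ : Function.Injective φ) :
    Nonempty (M ≃ₗ[R] R) := by
  let J : Ideal R := LinearMap.range φ
  let e₀ : M ≃ₗ[R] J := LinearEquiv.ofInjective φ hφ
  have hJ : J ≠ ⊥ := by
    obtain ⟨m, hm⟩ := exists_ne (0 : M)
    intro h
    have h1 : φ m ∈ J := LinearMap.mem_range_self φ m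
    rw [h, Submodule.mem_bot] at h1
    exact hm (hφ (h1.trans (map_zero φ).symm))
  obtain ⟨d⟩ := nonempty_dual_ideal_equiv J hJ
  let d' : Dual R M ≃ₗ[R] R := e₀.symm.dualMap.trans d
  exact ⟨(Module.evalEquiv R M).trans (d'.symm.dualMap.trans (LinearMap.ringLmapEquivSelf R R R))⟩


/-- any two elements are linearly dependent. -/
def RankLeOne (R N : Type*) [CommRing R] [AddCommGroup N] [Module R N] : Prop :=
  ∀ n n' : N, ∃ a b : R, (a ≠ 0 ∨ b ≠ 0) ∧ a • n + b • n' = 0

theorem rankLeOne_self (R : Type*) [CommRing R] [Nontrivial R] : RankLeOne R R := by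
  intro x x'
  by_cases h : x = 0 ∧ x' = 0
  · exact ⟨1, 0, Or.inl one_ne_zero, by rw [h.1, h.2]; simp⟩
  · refine ⟨x', -x, ?_, by simp [mul_comm]⟩
    by_contra hcon
    push Not at hcon
    exact h ⟨neg_eq_zero.1 hcon.2, hcon.1⟩

theorem RankLeOne.of_equiv {R N N' : Type*} [CommRing R] [AddCommGroup N] [Module R N]
    [AddCommGroup N'] [Module R N'] (e : N ≃ₗ[R] N') (h : RankLeOne R N) : RankLeOne R N' := by
  intro n n'
  obtain ⟨a, b, hab, h0⟩ := h (e.symm n) (e.symm n')
  refine ⟨a, b, hab, ?_⟩
  have := congrArg e h0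
  simpa using this

section Loc

variable {A : Type*} [CommRing A] [IsDomain A] (S : Submonoid A) (hS : S ≤ nonZeroDivisors A)
  (Rs : Type*) [CommRing Rs] [Algebra A Rs] [IsLocalization S Rs]
  {M Ms : Type*} [AddCommGroup M] [Module A M] [AddCommGroup Ms] [Module A Ms] [Module Rs Ms]
  [IsScalarTower A Rs Ms] (l : M →ₗ[A] Ms) [IsLocalizedModule S l]

include hS l in
/-- rank at most one passes to localizations. -/
theorem RankLeOne.localization (h : RankLeOne A M) : RankLeOne Rs Ms := by
  have hinj : Function.Injective (algebraMap A Rs) := IsLocalization.injective Rs hS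
  intro n n'
  obtain ⟨⟨m, s⟩, hms⟩ := IsLocalizedModule.surj S l n
  obtain ⟨⟨m', s'⟩, hms'⟩ := IsLocalizedModule.surj S l n'
  have hms1 : s.1 • n = l m := hms
  have hms1' : s'.1 • n' = l m' := hms'
  obtain ⟨a, b, hab, h0⟩ := h m m'
  have hs : s.1 ≠ 0 := nonZeroDivisors.ne_zero (hS s.2)
  have hs' : s'.1 ≠ 0 := nonZeroDivisors.ne_zero (hS s'.2)
  refine ⟨algebraMap A Rs (a * s.1), algebraMap A Rs (b * s'.1), ?_, ?_⟩
  · rcases hab with ha | hb
    · left
      rw [Ne, map_eq_zero_iff _ hinj]
      exact mul_ne_zero ha hs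
    · right
      rw [Ne, map_eq_zero_iff _ hinj]
      exact mul_ne_zero hb hs'
  · rw [algebraMap_smul, algebraMap_smul, mul_smul, mul_smul, hms1, hms1', ← map_smul, ← map_smul,
      ← map_add, h0, map_zero]

include hS l in
/-- rank at most one descends from a localization. -/
theorem RankLeOne.of_localization (h : RankLeOne Rs Ms) : RankLeOne A M := by
  have hinj : Function.Injective (algebraMap A Rs) := IsLocalization.injective Rs hS
  intro m m'
  obtain ⟨c, c', hcc, h0⟩ := h (l m) (l m')
  obtain ⟨⟨α, s⟩, hα⟩ := IsLocalization.surj S c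
  obtain ⟨⟨α', s'⟩, hα'⟩ := IsLocalization.surj S c'
  have hα1 : c * algebraMap A Rs s.1 = algebraMap A Rs α := hα
  have hα1' : c' * algebraMap A Rs s'.1 = algebraMap A Rs α' := hα'
  have hs : s.1 ≠ 0 := nonZeroDivisors.ne_zero (hS s.2)
  have hs' : s'.1 ≠ 0 := nonZeroDivisors.ne_zero (hS s'.2)
  have hunit : IsUnit (algebraMap A Rs s.1) := IsLocalization.map_units Rs s
  have hunit' : IsUnit (algebraMap A Rs s'.1) := IsLocalization.map_units Rs s'
  have h1 : l ((α * s'.1) • m + (α' * s.1) • m') = 0 := by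
    rw [map_add, map_smul, map_smul, ← algebraMap_smul Rs, ← algebraMap_smul Rs (α' * s.1),
      map_mul, map_mul, ← hα1, ← hα1']
    have : (c * algebraMap A Rs s.1 * algebraMap A Rs s'.1) • l m +
        (c' * algebraMap A Rs s'.1 * algebraMap A Rs s.1) • l m' =
        (algebraMap A Rs s.1 * algebraMap A Rs s'.1) • (c • l m + c' • l m') := by
      rw [smul_add, smul_smul, smul_smul]
      congr 2 <;> ring
    rw [this, h0, smul_zero]
  obtain ⟨t, ht⟩ := (IsLocalizedModule.eq_zero_iff S l).1 h1
  have ht0 : t.1 ≠ 0 := nonZeroDivisors.ne_zero (hS t.2)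
  have ht' : t.1 • ((α * s'.1) • m + (α' * s.1) • m') = 0 := ht
  refine ⟨t.1 * (α * s'.1), t.1 * (α' * s.1), ?_, ?_⟩
  · rcases hcc with hc | hc'
    · left
      have hα0 : α ≠ 0 := by
        intro h
        rw [h, map_zero] at hα1
        exact hc ((hunit.mul_left_eq_zero).1 hα1)
      exact mul_ne_zero ht0 (mul_ne_zero hα0 hs')
    · right
      have hα0 : α' ≠ 0 := by
        intro h
        rw [h, map_zero] at hα1'
        exact hc' ((hunit'.mul_left_eq_zero).1 hα1')
      exact mul_ne_zero ht0 (mul_ne_zero hα0 hs)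
  · have : (t.1 * (α * s'.1)) • m + (t.1 * (α' * s.1)) • m' =
        t.1 • ((α * s'.1) • m + (α' * s.1) • m') := by
      rw [smul_add, smul_smul, smul_smul]
    rw [this]
    exact ht'

end Loc

/-- a nonzero linear form on a torsion-free module of rank at most one is injective. -/
theorem injective_of_rankLeOne {R N : Type*} [CommRing R] [IsDomain R] [AddCommGroup N] [Module R N]
    [Module.IsTorsionFree R N] (h : RankLeOne R N) (lam : N →ₗ[R] R) (hlam : lam ≠ 0) :
    Function.Injective lam := by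
  rw [injective_iff_map_eq_zero]
  intro n hn
  by_contra hne
  obtain ⟨n', hn'⟩ : ∃ n', lam n' ≠ 0 := by
    by_contra hcon
    push Not at hcon
    exact hlam (LinearMap.ext hcon)
  obtain ⟨a, b, hab, h0⟩ := h n n'
  have h1 := congrArg lam h0
  rw [map_add, map_smul, map_smul, hn, smul_zero, zero_add, map_zero, smul_eq_mul] at h1
  have hb : b = 0 := (mul_eq_zero.1 h1).resolve_right hn'
  rw [hb, zero_smul, add_zero] at h0
  have ha : a ≠ 0 := hab.resolve_right (fun h => h hb)
  exact hne ((smul_eq_zero_iff_right ha).1 h0)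

/-- a nontrivial reflexive module of rank at most one over a Noetherian factorial domain is free of
rank one. -/
theorem nonempty_linearEquiv_of_rankLeOne {R : Type*} [CommRing R] [IsDomain R]
    [UniqueFactorizationMonoid R] [IsNoetherianRing R] (N : Type*) [AddCommGroup N] [Module R N]
    [Module.IsReflexive R N] [Nontrivial N] (h : RankLeOne R N) : Nonempty (N ≃ₗ[R] R) := by
  obtain ⟨lam, hlam⟩ : ∃ lam : Dual R N, lam ≠ 0 := by
    by_contra hcon
    push Not at hcon
    obtain ⟨n, hn⟩ := exists_ne (0 : N)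
    apply hn
    apply (Module.bijective_dual_eval R N).1
    rw [map_zero]
    refine LinearMap.ext fun lam => ?_
    rw [hcon lam]
    simp
  exact nonempty_linearEquiv_of_isReflexive N lam (injective_of_rankLeOne h lam hlam)

end Groth.Agent.Lib.Helper28.ReflUFD
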