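import Mathlib
import Groth.Agent.Lib.Helper28HomShRefl2
import Groth.Agent.Lib.Helper28ReflUFD
import Groth.Agent.Lib.Helper2RankLoc

set_option autoImplicit false
universe u
open CategoryTheory Limits AlgebraicGeometry TopologicalSpace Opposite

namespace Groth.Agent.Lib.Helper28.HomSh

open Groth.Agent.Lib.Helper6 Groth.Agent.Lib.Helper2 Groth.Agent.Lib.Helper2.FlatOver
  Groth.Agent.Lib.Helper28.ReflUFD

variable {X : Scheme.{u}}

/-- a free module over a local ring with fibre rank one is free of rank one. -/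
theorem nonempty_linearEquiv_of_free_of_fibreRank {R : Type u} [CommRing R] [IsLocalRing R]
    (N : Type u) [AddCommGroup N] [Module R N] [Module.Free R N] [Module.Finite R N]
    (h : Module.finrank (IsLocalRing.ResidueField R)
      (TensorProduct R (IsLocalRing.ResidueField R) N) = 1) : Nonempty (N ≃ₗ[R] R) := by
  rw [Module.finrank_baseChange] at h
  exact ⟨((Module.finBasisOfFinrankEq R N h).equivFun).trans (LinearEquiv.funUnique (Fin 1) R R)⟩

/-- at the points of the open where `F` is invertible the stalks are free of rank one. -/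
theorem nonempty_stalk_equiv_of_isInvertible_restrict [IsLocallyNoetherian X] (F : X.Modules)
    (hF : Coh.IsCoh F) (U₀ : X.Opens) (hinv : PicF.IsInvertible (F.restrict U₀.ι)) (z : X)
    (hz : z ∈ U₀) : Nonempty (F.presheaf.stalk z ≃ₗ[X.presheaf.stalk z] X.presheaf.stalk z) := by
  haveI : F.IsQuasicoherent := hF.1
  obtain ⟨V, hzV, ⟨iso⟩⟩ := hinv ⟨z, hz⟩
  let e : F.restrict (V.ι ≫ U₀.ι) ≅ FlatMod.freeMod (↑V) 1 :=
    (Scheme.Modules.restrictFunctorComp V.ι U₀.ι).app F ≪≫ iso ≪≫
      (Limits.coproductUniqueIso (fun _ : Fin 1 => Coh.structureModule (↑V : Scheme.{u}))).symm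
  have h := RankLoc.fibreRank_eq_of_restrict_iso_freeMod (V.ι ≫ U₀.ι) F e ⟨⟨z, hz⟩, hzV⟩
  have hz' : (V.ι ≫ U₀.ι) ⟨⟨z, hz⟩, hzV⟩ = z := rfl
  rw [hz'] at h
  haveI := h.1
  haveI := finite_stalk_of_isCoh F hF z
  exact nonempty_linearEquiv_of_free_of_fibreRank _ h.2

/-- on an integral scheme, a coherent module which is invertible on a dense open has stalks of rank
at most one, and nontrivial. -/
theorem rankLeOne_stalk_of_genInvertible [IsIntegral X] [IsLocallyNoetherian X] (F : X.Modules)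
    (hF : Coh.IsCoh F) (hrk : RefHull.GenInvertible F) (y : X) :
    RankLeOne (X.presheaf.stalk y) (F.presheaf.stalk y) ∧ Nontrivial (F.presheaf.stalk y) := by
  haveI : F.IsQuasicoherent := hF.1
  obtain ⟨U₀, hdense, hinv⟩ := hrk
  obtain ⟨U, hU0, hy, -⟩ := (Opens.isBasis_iff_nbhd.1 X.isBasis_affineOpens) (Opens.mem_top y)
  have hU : IsAffineOpen U := hU0
  obtain ⟨z, hzU, hzU₀⟩ := hdense.inter_open_nonempty U.1 U.2 ⟨y, hy⟩
  obtain ⟨ez⟩ := nonempty_stalk_equiv_of_isInvertible_restrict F hF U₀ hinv z hzU₀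
  haveI : Nonempty U := ⟨⟨y, hy⟩⟩
  haveI : IsDomain Γ(X, U) := inferInstance
  -- localization data at `z`
  letI algz : Algebra Γ(X, U) (X.presheaf.stalk z) :=
    TopCat.Presheaf.algebra_section_stalk X.presheaf ⟨z, hzU⟩
  haveI locRz : IsLocalization.AtPrime (X.presheaf.stalk z) (hU.primeIdealOf ⟨z, hzU⟩).asIdeal :=
    hU.isLocalization_stalk ⟨z, hzU⟩
  letI mFz := moduleStalkSections F U z hzU
  haveI locFz : IsLocalizedModule (hU.primeIdealOf ⟨z, hzU⟩).asIdeal.primeCompl (germₗ F U z hzU) :=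
    isLocalizedModule_germ hU F z hzU
  haveI : IsScalarTower Γ(X, U) (X.presheaf.stalk z) (F.presheaf.stalk z) :=
    IsScalarTower.of_algebraMap_smul fun r x => rfl
  have hSz : (hU.primeIdealOf ⟨z, hzU⟩).asIdeal.primeCompl ≤ nonZeroDivisors Γ(X, U) :=
    Ideal.primeCompl_le_nonZeroDivisors _
  have hrkz : RankLeOne (X.presheaf.stalk z) (F.presheaf.stalk z) :=
    (rankLeOne_self _).of_equiv ez.symm
  have hrkM : RankLeOne Γ(X, U) Γ(F, U) :=
    RankLeOne.of_localization _ hSz (X.presheaf.stalk z) (germₗ F U z hzU) hrkz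
  -- localization data at `y`
  letI algy : Algebra Γ(X, U) (X.presheaf.stalk y) :=
    TopCat.Presheaf.algebra_section_stalk X.presheaf ⟨y, hy⟩
  haveI locRy : IsLocalization.AtPrime (X.presheaf.stalk y) (hU.primeIdealOf ⟨y, hy⟩).asIdeal :=
    hU.isLocalization_stalk ⟨y, hy⟩
  letI mFy := moduleStalkSections F U y hy
  haveI locFy : IsLocalizedModule (hU.primeIdealOf ⟨y, hy⟩).asIdeal.primeCompl (germₗ F U y hy) :=
    isLocalizedModule_germ hU F y hy
  haveI : IsScalarTower Γ(X, U) (X.presheaf.stalk y) (F.presheaf.stalk y) :=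
    IsScalarTower.of_algebraMap_smul fun r x => rfl
  have hSy : (hU.primeIdealOf ⟨y, hy⟩).asIdeal.primeCompl ≤ nonZeroDivisors Γ(X, U) :=
    Ideal.primeCompl_le_nonZeroDivisors _
  refine ⟨RankLeOne.localization _ hSy (X.presheaf.stalk y) (germₗ F U y hy) hrkM, ?_⟩
  by_contra hnt
  rw [not_nontrivial_iff_subsingleton] at hnt
  haveI : IsDomain (X.presheaf.stalk z) := inferInstance
  have hinjz : Function.Injective (algebraMap Γ(X, U) (X.presheaf.stalk z)) :=
    IsLocalization.injective _ hSz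
  have hzero : ∀ m : Γ(F, U), germₗ F U z hzU m = 0 := by
    intro m
    have h0 : germₗ F U y hy m = 0 := Subsingleton.elim _ _
    obtain ⟨t, ht⟩ := (IsLocalizedModule.eq_zero_iff
      (hU.primeIdealOf ⟨y, hy⟩).asIdeal.primeCompl (germₗ F U y hy)).1 h0
    have ht0 : t.1 ≠ 0 := nonZeroDivisors.ne_zero (hSy t.2)
    have ht' : t.1 • m = 0 := ht
    have h1 : algebraMap Γ(X, U) (X.presheaf.stalk z) t.1 • germₗ F U z hzU m = 0 := by
      rw [algebraMap_smul, ← map_smul, ht', map_zero]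
    have h2 : algebraMap Γ(X, U) (X.presheaf.stalk z) t.1 ≠ 0 := by
      rw [Ne, map_eq_zero_iff _ hinjz]
      exact ht0
    have h3 := congrArg ez h1
    rw [map_smul, map_zero, smul_eq_mul] at h3
    have h4 : ez (germₗ F U z hzU m) = 0 := (mul_eq_zero.1 h3).resolve_left h2
    exact ez.injective (h4.trans (map_zero ez).symm)
  have hsub : ∀ n : F.presheaf.stalk z, n = 0 := by
    intro n
    obtain ⟨⟨m, s⟩, hms⟩ := IsLocalizedModule.surj
      (hU.primeIdealOf ⟨z, hzU⟩).asIdeal.primeCompl (germₗ F U z hzU) n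
    rw [hzero m] at hms
    exact (IsLocalizedModule.smul_inj (germₗ F U z hzU) s n 0).1 (by rw [smul_zero]; exact hms)
  have : (1 : X.presheaf.stalk z) = 0 := by
    have := hsub (ez.symm 1)
    rw [LinearEquiv.symm_apply_eq, map_zero] at this
    exact this
  exact one_ne_zero this

open Groth.Agent.Lib.Helper2.LocFree Groth.Agent.Lib.Helper23.FinType
  Groth.Agent.Lib.Helper20.PullbackAff Groth.Agent.Lib.Helper20.Thickening in
/-- a coherent module whose stalk at `y` is free of rank one is trivial near `y`. -/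
theorem exists_restrict_iso_structureModule_of_stalk_equiv [IsLocallyNoetherian X] (F : X.Modules)
    (hF : Coh.IsCoh F) (y : X)
    (e : F.presheaf.stalk y ≃ₗ[X.presheaf.stalk y] X.presheaf.stalk y) :
    ∃ D : X.Opens, y ∈ D ∧ Nonempty (F.restrict D.ι ≅ Coh.structureModule (↑D : Scheme.{u})) := by
  haveI : F.IsQuasicoherent := hF.1
  haveI : SheafOfModules.IsFiniteType (R := X.ringCatSheaf) F := hF.2
  obtain ⟨U, hU0, hy, -⟩ := (Opens.isBasis_iff_nbhd.1 X.isBasis_affineOpens) (Opens.mem_top y)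
  have hU : IsAffineOpen U := hU0
  haveI : IsNoetherianRing Γ(X, U) := IsLocallyNoetherian.component_noetherian ⟨U, hU⟩
  haveI hfinU : Module.Finite Γ(X, U) Γ(F, U) := finite_of_isFiniteType F hU
  haveI hfree : Module.Free (X.presheaf.stalk y) (F.presheaf.stalk y) := Module.Free.of_equiv e.symm
  have hflat : FlatMod.IsFlatAt F y := by
    unfold FlatMod.IsFlatAt
    infer_instance
  haveI : Module.Finite Γ(X, U) ((ΓUF hU).obj F) := Module.Finite.equiv (ΓUEquiv hU F)
  haveI : Module.FinitePresentation Γ(X, U) ((ΓUF hU).obj F) :=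
    Module.finitePresentation_of_finite _ _
  obtain ⟨f, hf, hfree'⟩ := exists_free_away_of_flat_atPrime ((ΓUF hU).obj F)
    (hU.primeIdealOf ⟨y, hy⟩) (flat_localizedModule_of_isFlatAt F hU y hy hflat)
  obtain ⟨D, m, hyD, -, ⟨iso⟩⟩ := exists_restrict_iso_freeMod_of_free_away F hU y hy f hf hfree'
  have h := (RankLoc.fibreRank_eq_of_restrict_iso_freeMod D.ι F iso ⟨y, hyD⟩).2
  have hy' : D.ι ⟨y, hyD⟩ = y := rfl
  rw [hy'] at h
  have h1 : RankLoc.fibreRank F y = 1 := by
    unfold RankLoc.fibreRank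
    rw [Module.finrank_baseChange, e.finrank_eq, Module.finrank_self]
  have hm : m = 1 := h.symm.trans h1
  subst hm
  exact ⟨D, hyD, ⟨iso ≪≫
    Limits.coproductUniqueIso (fun _ : Fin 1 => Coh.structureModule (↑D : Scheme.{u}))⟩⟩

end Groth.Agent.Lib.Helper28.HomSh
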