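import Mathlib
import Groth.Agent.S0563
import Groth.Agent.Lib.Helper5RLR

/-!
# Finite free resolutions (helper5)

* `HasFFR R n M`: `M` has a resolution of length `≤ n` by finite free modules.
* `HasFFR.congr`, `HasFFR.isStablyFree` (a projective module with a finite free resolution is
  stably free), `HasFFR.baseChange` (flat base change),
  `hasFFR_of_hasProjectiveDimensionLT` (finite modules of finite projective dimension over a
  Noetherian local ring), `hasFFR_of_isRegularLocalRing`.
* `free_of_invertible_away`: over a localization `R_f` of a regular local ring every invertible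
  module is free.
-/

set_option autoImplicit false
universe u

namespace Groth.Agent.Lib.Helper5.FFR

open CategoryTheory TensorProduct

variable (R : Type u) [CommRing R]

/-- `M` has a finite free resolution of length at most `n`. -/
def HasFFR : ℕ → ∀ (M : Type u) [AddCommGroup M] [Module R M], Prop
  | 0, M, _, _ => Module.Free R M ∧ Module.Finite R M
  | n + 1, M, _, _ => ∃ (F : Type u) (_ : AddCommGroup F) (_ : Module R F) (_ : Module.Free R F)
      (_ : Module.Finite R F) (f : F →ₗ[R] M), Function.Surjective f ∧ HasFFR n (LinearMap.ker f)

variable {R}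

theorem hasFFR_zero_iff {M : Type u} [AddCommGroup M] [Module R M] :
    HasFFR R 0 M ↔ Module.Free R M ∧ Module.Finite R M := Iff.rfl

theorem hasFFR_succ_iff {n : ℕ} {M : Type u} [AddCommGroup M] [Module R M] :
    HasFFR R (n + 1) M ↔ ∃ (F : Type u) (_ : AddCommGroup F) (_ : Module R F)
      (_ : Module.Free R F) (_ : Module.Finite R F) (f : F →ₗ[R] M),
      Function.Surjective f ∧ HasFFR R n (LinearMap.ker f) := Iff.rfl

theorem HasFFR.congr {n : ℕ} {M M' : Type u} [AddCommGroup M] [Module R M] [AddCommGroup M']
    [Module R M'] (e : M ≃ₗ[R] M') (h : HasFFR R n M) : HasFFR R n M' := by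
  cases n with
  | zero =>
    rw [hasFFR_zero_iff] at h ⊢
    obtain ⟨h1, h2⟩ := h
    exact ⟨Module.Free.of_equiv e, Module.Finite.equiv e⟩
  | succ n =>
    rw [hasFFR_succ_iff] at h ⊢
    obtain ⟨F, i1, i2, i3, i4, f, hf, hk⟩ := h
    refine ⟨F, i1, i2, i3, i4, e.toLinearMap ∘ₗ f, e.surjective.comp hf, ?_⟩
    have hker : LinearMap.ker (e.toLinearMap ∘ₗ f) = LinearMap.ker f := LinearEquiv.ker_comp _ _
    rw [hker]
    exact hk

theorem HasFFR.finite {n : ℕ} {M : Type u} [AddCommGroup M] [Module R M] (h : HasFFR R n M) :
    Module.Finite R M := by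
  cases n with
  | zero => exact h.2
  | succ n =>
    rw [hasFFR_succ_iff] at h
    obtain ⟨F, i1, i2, i3, i4, f, hf, hk⟩ := h
    exact Module.Finite.of_surjective f hf

/-- A projective module with a finite free resolution is stably free. -/
theorem HasFFR.isStablyFree {n : ℕ} {M : Type u} [AddCommGroup M] [Module R M]
    (h : HasFFR R n M) [Module.Projective R M] : Module.IsStablyFree R M := by
  induction n generalizing M with
  | zero =>
    haveI := h.1
    infer_instance
  | succ n ih =>
    rw [hasFFR_succ_iff] at h
    obtain ⟨F, i1, i2, i3, i4, f, hf, hk⟩ := h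
    obtain ⟨g, hg⟩ := Module.projective_lifting_property f LinearMap.id hf
    let e : F ≃ₗ[R] ((LinearMap.ker f) × M) :=
      ((LinearMap.exact_subtype_ker_map f).splitSurjectiveEquiv
        (Submodule.injective_subtype _) ⟨g, hg⟩).1
    haveI : Module.Projective R ((LinearMap.ker f) × M) := Module.Projective.of_equiv e
    haveI : Module.Projective R (LinearMap.ker f) :=
      Module.Projective.of_split (LinearMap.inl R (LinearMap.ker f) M)
        (LinearMap.fst R (LinearMap.ker f) M) (by ext x; simp)
    haveI hK : Module.IsStablyFree R (LinearMap.ker f) := ih hk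
    haveI hKfin : Module.Finite R (LinearMap.ker f) := hk.finite
    obtain ⟨N, i5, i6, i7, i8, hfree⟩ := Module.IsStablyFree.exist_free_prod R (LinearMap.ker f)
    let e' : (F × N) ≃ₗ[R] (M × ((LinearMap.ker f) × N)) :=
      (LinearEquiv.prodCongr e (LinearEquiv.refl R N)).trans
        ((LinearEquiv.prodCongr (LinearEquiv.prodComm R (LinearMap.ker f) M)
          (LinearEquiv.refl R N)).trans (LinearEquiv.prodAssoc R M (LinearMap.ker f) N))
    haveI : Module.Free R (M × ((LinearMap.ker f) × N)) := Module.Free.of_equiv e'
    exact Module.IsStablyFree.of_free_prod R M ((LinearMap.ker f) × N)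

/-- Flat base change of finite free resolutions. -/
theorem HasFFR.baseChange (A : Type u) [CommRing A] [Algebra R A] [Module.Flat R A] {n : ℕ}
    {M : Type u} [AddCommGroup M] [Module R M] (h : HasFFR R n M) : HasFFR A n (A ⊗[R] M) := by
  induction n generalizing M with
  | zero =>
    rw [hasFFR_zero_iff] at h ⊢
    obtain ⟨h1, h2⟩ := h
    exact ⟨inferInstance, inferInstance⟩
  | succ n ih =>
    rw [hasFFR_succ_iff] at h ⊢
    obtain ⟨F, i1, i2, i3, i4, f, hf, hk⟩ := h
    refine ⟨A ⊗[R] F, inferInstance, inferInstance, inferInstance, inferInstance,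
      f.baseChange A, ?_, ?_⟩
    · have h1 : Function.Surjective (f.lTensor A) := LinearMap.lTensor_surjective A hf
      intro y
      obtain ⟨x, hx⟩ := h1 y
      exact ⟨x, hx⟩
    · have hinj : Function.Injective ((LinearMap.ker f).subtype.baseChange A) := by
        have h1 : Function.Injective ((LinearMap.ker f).subtype.lTensor A) :=
          Module.Flat.lTensor_preserves_injective_linearMap _ (Submodule.injective_subtype _)
        intro x y hxy
        exact h1 hxy
      have hex : Function.Exact ((LinearMap.ker f).subtype.lTensor A) (f.lTensor A) :=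
        Module.Flat.lTensor_exact A (LinearMap.exact_subtype_ker_map f)
      have hrange : LinearMap.range ((LinearMap.ker f).subtype.baseChange A) =
          LinearMap.ker (f.baseChange A) := by
        ext x
        rw [LinearMap.mem_range, LinearMap.mem_ker]
        constructor
        · rintro ⟨y, rfl⟩
          exact hex.apply_apply_eq_zero y
        · intro hx
          obtain ⟨y, hy⟩ := (hex x).mp hx
          exact ⟨y, hy⟩
      let e : A ⊗[R] (LinearMap.ker f) ≃ₗ[A] LinearMap.ker (f.baseChange A) :=
        (LinearEquiv.ofInjective _ hinj).trans (LinearEquiv.ofEq _ _ hrange)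
      exact HasFFR.congr e (ih hk)

/-- Finite modules of finite projective dimension over a Noetherian local ring have finite free
resolutions. -/
theorem hasFFR_of_hasProjectiveDimensionLT [IsLocalRing R] [IsNoetherianRing R] (n : ℕ)
    (M : Type u) [AddCommGroup M] [Module R M] [Module.Finite R M]
    (h : HasProjectiveDimensionLT (ModuleCat.of R M) (n + 1)) : HasFFR R n M := by
  induction n generalizing M with
  | zero =>
    rw [hasFFR_zero_iff]
    have hp : Projective (ModuleCat.of R M) := projective_iff_hasProjectiveDimensionLT_one.mpr h
    haveI : Module.Projective R M := (IsProjective.iff_projective M).mpr hp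
    exact ⟨Module.free_of_flat_of_isLocalRing, inferInstance⟩
  | succ n ih =>
    rw [hasFFR_succ_iff]
    obtain ⟨k, f, hf⟩ := Module.Finite.exists_fin' R M
    have hex : Function.Exact (LinearMap.ker f).subtype f := LinearMap.exact_subtype_ker_map f
    let S : ShortComplex (ModuleCat.{u} R) :=
      ShortComplex.mk (ModuleCat.ofHom (LinearMap.ker f).subtype) (ModuleCat.ofHom f) (by
        ext x
        exact hex.apply_apply_eq_zero x)
    have hS : S.ShortExact :=
      ShortComplex.ShortExact.mk'
        ((ShortComplex.moduleCat_exact_iff _).mpr fun x hx => (hex x).mp hx)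
        ((ModuleCat.mono_iff_injective _).mpr (Submodule.injective_subtype _))
        ((ModuleCat.epi_iff_surjective _).mpr hf)
    have hFproj : Projective (ModuleCat.of R (Fin k → R)) :=
      (IsProjective.iff_projective _).mp inferInstance
    have hF1 : HasProjectiveDimensionLT (ModuleCat.of R (Fin k → R)) 1 :=
      projective_iff_hasProjectiveDimensionLT_one.mp hFproj
    have hF2 : HasProjectiveDimensionLT (ModuleCat.of R (Fin k → R)) (n + 1) :=
      hasProjectiveDimensionLT_of_ge _ 1 (n + 1) (Nat.succ_le_succ (Nat.zero_le n))
    have hK : HasProjectiveDimensionLT (ModuleCat.of R (LinearMap.ker f)) (n + 1) :=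
      hS.hasProjectiveDimensionLT_X₁ (n + 1) hF2 h
    exact ⟨Fin k → R, inferInstance, inferInstance, inferInstance, inferInstance, f, hf,
      ih (LinearMap.ker f) hK⟩

theorem hasFFR_of_isRegularLocalRing [IsRegularLocalRing R] (M : Type u) [AddCommGroup M]
    [Module R M] [Module.Finite R M] : ∃ n : ℕ, HasFFR R n M := by
  obtain ⟨d, hd⟩ := Groth.Agent.Lib.Helper5.exists_nat_ringKrullDim_eq R
  exact ⟨d, hasFFR_of_hasProjectiveDimensionLT d M (Groth.Agent.S0563.result R d hd M)⟩

/-- The `R`-span of a set generating an `R_f`-module `M` localizes to `M`. -/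
theorem isLocalizedModule_span_subtype (f : R) (M : Type u) [AddCommGroup M] [Module R M]
    [Module (Localization.Away f) M] [IsScalarTower R (Localization.Away f) M] (s : Set M)
    (hs : Submodule.span (Localization.Away f) s = ⊤) :
    IsLocalizedModule (Submonoid.powers f) (Submodule.span R s).subtype where
  map_units x :=
    (isLocalizedModule_id (Submonoid.powers f) M (Localization.Away f)).map_units x
  surj y := by
    have key : ∀ y : M, ∃ k : ℕ, (f ^ k) • y ∈ Submodule.span R s := by
      intro y
      have hy : y ∈ Submodule.span (Localization.Away f) s := by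
        rw [hs]
        trivial
      induction hy using Submodule.span_induction with
      | mem y hy => exact ⟨0, by rw [pow_zero, one_smul]; exact Submodule.subset_span hy⟩
      | zero => exact ⟨0, by rw [smul_zero]; exact Submodule.zero_mem _⟩
      | add y z _ _ hy hz =>
        obtain ⟨k, hk⟩ := hy
        obtain ⟨l, hl⟩ := hz
        refine ⟨k + l, ?_⟩
        rw [smul_add]
        refine Submodule.add_mem _ ?_ ?_
        · rw [pow_add, mul_comm, mul_smul]
          exact Submodule.smul_mem _ _ hk
        · rw [pow_add, mul_smul]
          exact Submodule.smul_mem _ _ hl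
      | smul a y _ hy =>
        obtain ⟨k, hk⟩ := hy
        obtain ⟨⟨r, t⟩, hrt⟩ := IsLocalization.surj (Submonoid.powers f) a
        obtain ⟨j, hj⟩ := t.2
        refine ⟨j + k, ?_⟩
        have h1 : (f ^ (j + k)) • (a • y) = r • ((f ^ k) • y) := by
          rw [← algebraMap_smul (Localization.Away f) (f ^ (j + k)) (a • y),
            ← algebraMap_smul (Localization.Away f) r ((f ^ k) • y),
            ← algebraMap_smul (Localization.Away f) (f ^ k) y, smul_smul, smul_smul]
          congr 1
          have h2 : a * algebraMap R (Localization.Away f) (f ^ j) =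
              algebraMap R (Localization.Away f) r := by
            have hj' : f ^ j = (t : R) := hj
            rw [hj']
            exact hrt
          rw [pow_add, map_mul, ← h2]
          ring
        rw [h1]
        exact Submodule.smul_mem _ _ hk
    obtain ⟨k, hk⟩ := key y
    exact ⟨(⟨(f ^ k) • y, hk⟩, ⟨f ^ k, k, rfl⟩), rfl⟩
  exists_of_eq {x₁ x₂} h := ⟨1, by rw [Subtype.ext h]⟩

/-- Over a localization `R_f` of a regular local ring every invertible module is free. -/
theorem free_of_invertible_away [IsRegularLocalRing R] (f : R) (M : Type u) [AddCommGroup M]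
    [Module (Localization.Away f) M] [Module.Invertible (Localization.Away f) M] :
    Module.Free (Localization.Away f) M := by
  letI : Module R M := Module.compHom M (algebraMap R (Localization.Away f))
  haveI : IsScalarTower R (Localization.Away f) M :=
    IsScalarTower.of_algebraMap_smul fun r m => rfl
  obtain ⟨s, hs⟩ := (Module.Finite.fg_top : (⊤ : Submodule (Localization.Away f) M).FG)
  haveI : Module.Finite R (Submodule.span R (s : Set M)) :=
    Module.Finite.span_of_finite R s.finite_toSet
  haveI := isLocalizedModule_span_subtype f M (s : Set M) hs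
  have hbc : IsBaseChange (Localization.Away f) (Submodule.span R (s : Set M)).subtype :=
    IsLocalizedModule.isBaseChange (Submonoid.powers f) (Localization.Away f) _
  obtain ⟨n, hn⟩ := hasFFR_of_isRegularLocalRing (R := R) (Submodule.span R (s : Set M))
  have h1 : HasFFR (Localization.Away f) n
      (Localization.Away f ⊗[R] (Submodule.span R (s : Set M))) :=
    hn.baseChange (Localization.Away f)
  have h2 : HasFFR (Localization.Away f) n M := HasFFR.congr hbc.equiv h1
  haveI : Module.IsStablyFree (Localization.Away f) M := h2.isStablyFree
  exact Module.free_of_isStablyFree_of_invertible (Localization.Away f) M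

end Groth.Agent.Lib.Helper5.FFR
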