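import Mathlib
import Groth.Agent.Lib.Helper5FFR
import Groth.Agent.Lib.Helper5RLR
import Groth.Agent.Lib.Helper28RegLoc
import Groth.Agent.Lib.Helper13QFOmega14

/-!
# Auslander–Buchsbaum: regular local rings are factorial (helper13)

* `Groth.Agent.Helper13AusBuch.ufd_of_isRegularLocalRing` : a regular local ring is a UFD
  (it is a domain by `Groth.Agent.Lib.Helper5.isDomain_of_isRegularLocalRing`).
Proof: induction on the dimension; Nagata's criterion (`iff_localizationAway_of_prime`) for
`x ∈ m ∖ m²`, height one primes of `R_x` are invertible (locally principal by induction) and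
hence free by helper5's `FFR.free_of_invertible_away`.
-/

set_option autoImplicit false
set_option linter.style.haveILetI false
universe u
open TensorProduct IsLocalRing

namespace Groth.Agent.Helper13AusBuch

/-- If the extension of a nonzero ideal `p` of a domain `B` to a localization `B_q` (a domain)
is principal, then `B_q ⊗ p` is free of rank one. -/
theorem nonempty_tensor_equiv_of_map_isPrincipal (B : Type u) [CommRing B] [IsDomain B]
    (p : Ideal B) (hp : p ≠ ⊥) (q : Ideal B) [q.IsPrime]
    (h : (p.map (algebraMap B (Localization.AtPrime q))).IsPrincipal) :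
    Nonempty (Localization.AtPrime q ⊗[B] p ≃ₗ[Localization.AtPrime q] Localization.AtPrime q) := by
  haveI : IsDomain (Localization.AtPrime q) :=
    IsLocalization.isDomain_localization q.primeCompl_le_nonZeroDivisors
  have hbc : IsBaseChange (Localization.AtPrime q)
      (Submodule.toLocalized' (Localization.AtPrime q) q.primeCompl
        (Algebra.linearMap B (Localization.AtPrime q)) p) :=
    IsLocalizedModule.isBaseChange q.primeCompl (Localization.AtPrime q) _
  have e1 := hbc.equiv
  have hL : Submodule.localized' (Localization.AtPrime q) q.primeCompl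
      (Algebra.linearMap B (Localization.AtPrime q)) p =
      p.map (algebraMap B (Localization.AtPrime q)) :=
    Ideal.localized'_eq_map (Localization.AtPrime q) q.primeCompl p
  obtain ⟨g, hg⟩ := h
  have hg0 : g ≠ 0 := by
    rintro rfl
    have hbot : p.map (algebraMap B (Localization.AtPrime q)) = ⊥ := by
      rw [hg]; simp
    have hinj : Function.Injective (algebraMap B (Localization.AtPrime q)) :=
      IsLocalization.injective _ q.primeCompl_le_nonZeroDivisors
    exact hp ((Ideal.map_eq_bot_iff_of_injective hinj).mp hbot)
  have e2 : Localization.AtPrime q ≃ₗ[Localization.AtPrime q]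
      Submodule.span (Localization.AtPrime q) {g} :=
    LinearEquiv.toSpanNonzeroSingleton (Localization.AtPrime q) (Localization.AtPrime q) g hg0
  have e3 : Submodule.localized' (Localization.AtPrime q) q.primeCompl
      (Algebra.linearMap B (Localization.AtPrime q)) p ≃ₗ[Localization.AtPrime q]
      Submodule.span (Localization.AtPrime q) {g} :=
    LinearEquiv.ofEq _ _ (by rw [hL, hg])
  exact ⟨e1.trans (e3.trans e2.symm)⟩


/-- a submodule of `B` that is free of rank one is a principal ideal. -/
theorem isPrincipal_of_linearEquiv (B : Type u) [CommRing B] (p : Ideal B)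
    (e : p ≃ₗ[B] B) : p.IsPrincipal := by
  refine ⟨((e.symm 1 : p) : B), ?_⟩
  apply le_antisymm
  · intro y hy
    have h1 : (⟨y, hy⟩ : p) = e ⟨y, hy⟩ • e.symm 1 := by
      rw [← map_smul, smul_eq_mul, mul_one, LinearEquiv.symm_apply_apply]
    have h2 : y = e ⟨y, hy⟩ * ((e.symm 1 : p) : B) := by
      have := congrArg (fun z : p => (z : B)) h1
      simpa using this
    rw [h2]
    exact Ideal.mul_mem_left _ _ (Ideal.subset_span rfl)
  · rw [Ideal.submodule_span_eq, Ideal.span_le, Set.singleton_subset_iff]
    exact (e.symm 1).2

/-- the localization of a regular local ring away from an element of the maximal ideal has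
regular local rings of strictly smaller dimension. -/
theorem exists_dim_lt_localization (R : Type u) [CommRing R] [IsRegularLocalRing R] (d : ℕ)
    (hd : ringKrullDim R = d) (x : R) (hx : x ∈ maximalIdeal R)
    (q : Ideal (Localization.Away x)) [q.IsPrime] :
    ∃ (_ : IsRegularLocalRing (Localization.AtPrime (q.comap (algebraMap R (Localization.Away x)))))
      (d' : ℕ), d' < d ∧
      ringKrullDim (Localization.AtPrime (q.comap (algebraMap R (Localization.Away x)))) = d' := by
  set q' := q.comap (algebraMap R (Localization.Away x)) with hq'
  haveI hreg : IsRegularLocalRing (Localization.AtPrime q') :=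
    Groth.Agent.Lib.Helper28.isRegularLocalRing_localization_of_isRegularLocalRing R q'
  refine ⟨hreg, ?_⟩
  obtain ⟨d', hd'⟩ := Groth.Agent.Lib.Helper5.exists_nat_ringKrullDim_eq (Localization.AtPrime q')
  refine ⟨d', ?_, hd'⟩
  have hxq : x ∉ q' := by
    intro hmem
    have hu : IsUnit (algebraMap R (Localization.Away x) x) :=
      IsLocalization.Away.algebraMap_isUnit x
    exact (Ideal.IsPrime.ne_top inferInstance) (Ideal.eq_top_of_isUnit_mem q hmem hu)
  have hlt : q' < maximalIdeal R := by
    refine lt_of_le_of_ne (le_maximalIdeal (Ideal.IsPrime.ne_top inferInstance)) ?_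
    intro heq
    exact hxq (heq ▸ hx)
  have h1 : q'.height < (maximalIdeal R).height :=
    Ideal.height_strict_mono_of_isPrime_of_isPrime hlt
  have h2 : ringKrullDim (Localization.AtPrime q') = q'.height :=
    IsLocalization.AtPrime.ringKrullDim_eq_height q' (Localization.AtPrime q')
  have h3 : ((maximalIdeal R).height : WithBot ℕ∞) = ringKrullDim R :=
    IsLocalRing.maximalIdeal_height_eq_ringKrullDim
  have h4 : (q'.height : WithBot ℕ∞) < ((maximalIdeal R).height : WithBot ℕ∞) :=
    WithBot.coe_lt_coe.mpr h1
  rw [h3, hd, ← h2, hd'] at h4
  exact_mod_cast h4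


theorem exists_mem_maximalIdeal_not_mem_sq (R : Type u) [CommRing R] [IsLocalRing R]
    [IsNoetherianRing R] (hm : maximalIdeal R ≠ ⊥) :
    ∃ x ∈ maximalIdeal R, x ∉ maximalIdeal R ^ 2 := by
  by_contra hcon
  push Not at hcon
  apply hm
  have hle : maximalIdeal R ≤ maximalIdeal R • maximalIdeal R := by
    intro x hx
    have := hcon x hx
    rwa [pow_two] at this
  exact Submodule.eq_bot_of_le_smul_of_le_jacobson_bot (maximalIdeal R) (maximalIdeal R)
    (IsNoetherian.noetherian _) hle
    (by rw [IsLocalRing.jacobson_eq_maximalIdeal ⊥ bot_ne_top])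

theorem ufd_aux (d : ℕ) : ∀ (R : Type u) [CommRing R] [IsRegularLocalRing R],
    ringKrullDim R = d → UniqueFactorizationMonoid R := by
  induction d using Nat.strong_induction_on with
  | _ d ih =>
  intro R _ _ hd
  haveI : IsDomain R := Groth.Agent.Lib.Helper5.isDomain_of_isRegularLocalRing R
  by_cases hm : maximalIdeal R = ⊥
  · apply UniqueFactorizationMonoid.iff_exists_prime_mem_of_isPrime.mpr
    intro I hI hIp
    exfalso
    apply hI
    have := le_maximalIdeal hIp.ne_top
    rw [hm] at this
    exact le_bot_iff.mp this
  · obtain ⟨x, hx, hx2⟩ := exists_mem_maximalIdeal_not_mem_sq R hm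
    have hx0 : x ≠ 0 := by
      rintro rfl
      exact hx2 (Ideal.zero_mem _)
    have hne : Ideal.span ({x} : Set R) ≠ ⊤ := by
      intro htop
      have : Ideal.span ({x} : Set R) ≤ maximalIdeal R := by
        rw [Ideal.span_le, Set.singleton_subset_iff]; exact hx
      rw [htop] at this
      exact (Ideal.IsPrime.ne_top inferInstance) (top_le_iff.mp this)
    haveI : IsLocalRing (R ⧸ Ideal.span ({x} : Set R)) :=
      Groth.Agent.Lib.Helper5.isLocalRing_quotient hne
    obtain ⟨hreg, hdimq⟩ := Groth.Agent.Lib.Helper5.isRegularLocalRing_quotient_span_singleton hx hx2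
    haveI := hreg
    have hdom : IsDomain (R ⧸ Ideal.span ({x} : Set R)) :=
      Groth.Agent.Lib.Helper5.isDomain_of_isRegularLocalRing _
    have hprime : Prime x :=
      (Ideal.span_singleton_prime hx0).mp ((Ideal.Quotient.isDomain_iff_prime _).mp hdom)
    rw [UniqueFactorizationMonoid.iff_localizationAway_of_prime hprime]
    haveI : IsDomain (Localization.Away x) :=
      IsLocalization.isDomain_localization (powers_le_nonZeroDivisors_of_noZeroDivisors hx0)
    haveI : IsNoetherianRing (Localization.Away x) :=
      IsLocalization.isNoetherianRing (Submonoid.powers x) _ inferInstance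
    apply UniqueFactorizationMonoid.of_forall_isPrincipal_of_height_eq_one
    intro p hp h1
    have hp0 : p ≠ ⊥ := p.ne_bot_of_height_eq_one h1
    haveI : Module.FinitePresentation (Localization.Away x) p :=
      Module.finitePresentation_of_finite _ _
    haveI : Module.Invertible (Localization.Away x) p := by
      apply Groth.Agent.Helper13QFOmega.invertible_of_forall_prime
      intro q hq
      apply nonempty_tensor_equiv_of_map_isPrincipal _ p hp0 q
      obtain ⟨hreg', d', hlt, hd'⟩ := exists_dim_lt_localization R d hd x hx q
      haveI := hreg'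
      have hufd' := ih d' hlt _ hd'
      let e := IsLocalization.localizationLocalizationAtPrimeIsoLocalization (Submonoid.powers x) q
      haveI : IsDomain (Localization.AtPrime q) :=
        IsLocalization.isDomain_localization q.primeCompl_le_nonZeroDivisors
      haveI : IsDomain (Localization.AtPrime (q.comap (algebraMap R (Localization.Away x)))) :=
        Groth.Agent.Lib.Helper5.isDomain_of_isRegularLocalRing _
      haveI : UniqueFactorizationMonoid (Localization.AtPrime q) :=
        MulEquiv.uniqueFactorizationMonoid e.toMulEquiv hufd'
      by_cases hpq : p ≤ q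
      · have hdisj : Disjoint (q.primeCompl : Set (Localization.Away x)) p := by
          rw [Set.disjoint_left]
          intro y hy hyp
          exact hy (hpq hyp)
        haveI hP' : (p.map (algebraMap (Localization.Away x) (Localization.AtPrime q))).IsPrime :=
          IsLocalization.isPrime_of_isPrime_disjoint q.primeCompl _ p hp hdisj
        apply UniqueFactorizationMonoid.isPrincipal_of_height_eq_one
        rw [← IsLocalization.height_under q.primeCompl,
          IsLocalization.under_map_of_isPrime_disjoint q.primeCompl _ hp hdisj, h1]
      · have htop : p.map (algebraMap (Localization.Away x) (Localization.AtPrime q)) = ⊤ := by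
          obtain ⟨y, hyp, hyq⟩ := Set.not_subset.mp hpq
          apply Ideal.eq_top_of_isUnit_mem _ (Ideal.mem_map_of_mem _ hyp)
          exact IsLocalization.map_units (Localization.AtPrime q) (⟨y, hyq⟩ : q.primeCompl)
        rw [htop]
        exact ⟨1, by simp⟩
    haveI : Module.Free (Localization.Away x) p :=
      Groth.Agent.Lib.Helper5.FFR.free_of_invertible_away (R := R) x p
    obtain ⟨e⟩ := Module.Invertible.free_iff_linearEquiv.mp this
    exact isPrincipal_of_linearEquiv _ p e

/-- **Auslander–Buchsbaum**: a regular local ring is a unique factorisation domain. -/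
theorem ufd_of_isRegularLocalRing (R : Type u) [CommRing R] [IsRegularLocalRing R] :
    UniqueFactorizationMonoid R := by
  obtain ⟨d, hd⟩ := Groth.Agent.Lib.Helper5.exists_nat_ringKrullDim_eq R
  exact ufd_aux d R hd

end Groth.Agent.Helper13AusBuch
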