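import Mathlib
import Groth.Prelude.Def_TorSh
import Groth.Agent.Lib.Helper28HomShRefl2
import Groth.Agent.Lib.Helper20ZClos19
import Groth.Agent.Lib.Helper28Normal
import Groth.Agent.Lib.Helper13AusBuchUFD

/-!
# Reflexive = torsion-free + normal on regular schemes (helper28)

Namespace `Groth.Agent.Lib.Helper28.ReflNormal`.

* `closedOn_of_basis`: helper20's `ClosedOn Z F W` on a basis of opens implies it on every open.
* `two_le_depth_of_isReflexive`: finite reflexive modules over regular local rings of dimension `>= 2` have depth `>= 2`.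
* `bijective_res_of_isReflexive`: a reflexive coherent module on a regular locally Noetherian scheme is normal
  (`F(U) -> F(V)` bijective when `U \ V` consists of points of codimension `>= 2`).
* `exists_forall_locRefl`, `isOpen_setOf_isReflexiveAt`: the reflexive locus of a coherent module is open.
* `bijective_app_of_basis`: a morphism bijective on a basis of opens below `V` is bijective on `V`.
* `isReflexive_structureModule`, `isReflexive_ddual`, `isTorsionFree_of_isReflexive'`.
* `isReflexive_of_isTorsionFree_of_normal`: torsion-free + normal => reflexive (regular integral schemes).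
-/

set_option autoImplicit false
universe u v
open CategoryTheory Limits AlgebraicGeometry TopologicalSpace Opposite

namespace Groth.Agent.Lib.Helper28.ReflNormal

open Groth.Agent.Lib.Helper6 Groth.Agent.Lib.Helper2 Groth.Agent.Lib.Helper28.HomSh
  Groth.Agent.Lib.Helper20.ZClosLib Groth.Agent.Lib.Helper28.ReflLoc

section Glue

variable {X : Scheme.{u}} (Z : Set X) (F : X.Modules)

/-- `ClosedOn` on a basis of opens implies `ClosedOn` on every open (sheaf gluing). -/
theorem closedOn_of_basis (B : Set X.Opens) (hB : Opens.IsBasis B)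
    (h : ∀ W ∈ B, ClosedOn Z F W) (U : X.Opens) : ClosedOn Z F U := by
  intro O hOU hZ
  have key : ∀ W ∈ B, W ≤ U →
      Function.Bijective (F.presheaf.map (homOfLE (inf_le_left : W ⊓ O ≤ W)).op) := by
    intro W hW hWU
    refine h W hW (W ⊓ O) inf_le_left ?_
    rintro y ⟨hyW, hyO⟩
    exact hZ ⟨hWU hyW, fun hy => hyO ⟨hyW, hy⟩⟩
  have hnb : ∀ (A : X.Opens) (y : X), y ∈ A → ∃ W ∈ B, y ∈ W ∧ W ≤ A := by
    intro A y hy
    obtain ⟨W, hWB, hyW, hWA⟩ := (Opens.isBasis_iff_nbhd.1 hB) hy
    exact ⟨W, hWB, hyW, hWA⟩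
  constructor
  · intro s s' hss
    apply section_ext'
    intro y hy
    obtain ⟨W, hWB, hyW, hWU⟩ := hnb U y hy
    have hss' : res F hOU s = res F hOU s' := hss
    have : res F hWU s = res F hWU s' := by
      apply (key W hWB hWU).1
      change res F _ (res F _ s) = res F _ (res F _ s')
      rw [res_res, res_res]
      have e1 : ∀ m : Γ(F, U), res F ((inf_le_left : W ⊓ O ≤ W).trans hWU) m =
          res F (inf_le_right : W ⊓ O ≤ O) (res F hOU m) := fun m => (res_res F _ _ m).symm
      rw [e1, e1, hss']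
    rw [← germ_res' F hWU y hyW, this, germ_res']
  · intro t
    -- choose a basic neighbourhood of each point of `U`, and the unique extension there
    have hex : ∀ x : U, ∃ (W : X.Opens) (hWB : W ∈ B) (hxW : x.1 ∈ W) (hWU : W ≤ U)
        (s : Γ(F, W)), res F (inf_le_left : W ⊓ O ≤ W) s = res F (inf_le_right : W ⊓ O ≤ O) t := by
      intro x
      obtain ⟨W, hWB, hxW, hWU⟩ := hnb U x.1 x.2
      obtain ⟨s, hs⟩ := (key W hWB hWU).2 (res F (inf_le_right : W ⊓ O ≤ O) t)
      exact ⟨W, hWB, hxW, hWU, s, hs⟩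
    choose W hWB hxW hWU s hs using hex
    have hcompat : ∀ (x x' : U) (y : X) (hy : y ∈ W x) (hy' : y ∈ W x'),
        F.presheaf.germ (W x) y hy (s x) = F.presheaf.germ (W x') y hy' (s x') := by
      intro x x' y hy hy'
      obtain ⟨W', hW'B, hyW', hW'⟩ := hnb (W x ⊓ W x') y ⟨hy, hy'⟩
      have hW'U : W' ≤ U := hW'.trans (inf_le_left.trans (hWU x))
      have : res F (hW'.trans inf_le_left) (s x) = res F (hW'.trans inf_le_right) (s x') := by
        apply (key W' hW'B hW'U).1
        change res F _ (res F _ (s x)) = res F _ (res F _ (s x'))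
        rw [res_res, res_res]
        have e1 : res F ((inf_le_left : W' ⊓ O ≤ W').trans (hW'.trans inf_le_left)) (s x) =
            res F (inf_le_inf_right O (hW'.trans inf_le_left) : W' ⊓ O ≤ W x ⊓ O)
              (res F (inf_le_left : W x ⊓ O ≤ W x) (s x)) := (res_res F _ _ _).symm
        have e2 : res F ((inf_le_left : W' ⊓ O ≤ W').trans (hW'.trans inf_le_right)) (s x') =
            res F (inf_le_inf_right O (hW'.trans inf_le_right) : W' ⊓ O ≤ W x' ⊓ O)
              (res F (inf_le_left : W x' ⊓ O ≤ W x') (s x')) := (res_res F _ _ _).symm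
        rw [e1, e2, hs, hs, res_res, res_res]
      rw [← germ_res' F (hW'.trans inf_le_left) y hyW', this, germ_res']
    obtain ⟨n, hn⟩ := exists_section_of_germs' F U
      (fun x => F.presheaf.germ (W x) x.1 (hxW x) (s x)) fun x =>
        ⟨W x, hWU x, hxW x, s x, fun y hy => hcompat x ⟨y, hWU x hy⟩ y hy (hxW ⟨y, hWU x hy⟩)⟩
    refine ⟨n, ?_⟩
    change res F hOU n = t
    apply section_ext'
    intro y hy
    rw [germ_res', hn y (hOU hy)]
    change F.presheaf.germ (W ⟨y, hOU hy⟩) y _ (s ⟨y, hOU hy⟩) = _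
    have hyW : y ∈ W ⟨y, hOU hy⟩ := hxW ⟨y, hOU hy⟩
    rw [← germ_res' F (inf_le_left : W ⟨y, hOU hy⟩ ⊓ O ≤ W ⟨y, hOU hy⟩) y ⟨hyW, hy⟩, hs, germ_res']

end Glue

/-- a regular local ring of dimension at least two has depth at least two. -/
theorem two_le_depth_self_of_isRegularLocalRing (R : Type u) [CommRing R] [IsRegularLocalRing R]
    (hdim : 2 ≤ ringKrullDim R) : (2 : ℕ∞) ≤ LocCoh.depth R R := by
  haveI : IsDomain R := Groth.Agent.Lib.Helper5.isDomain_of_isRegularLocalRing R
  haveI : UniqueFactorizationMonoid R := Groth.Agent.Helper13AusBuch.ufd_of_isRegularLocalRing R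
  haveI : IsIntegrallyClosed R := inferInstance
  exact Groth.Agent.Lib.Helper28.two_le_depth_of_isIntegrallyClosed_of_two_le_dim hdim

/-- a finite reflexive module over a regular local ring of dimension at least two has depth at least two. -/
theorem two_le_depth_of_isReflexive (R : Type u) [CommRing R] [IsRegularLocalRing R]
    (hdim : 2 ≤ ringKrullDim R) (M : Type v) [AddCommGroup M] [Module R M] [Module.Finite R M]
    [Module.IsReflexive R M] : (2 : ℕ∞) ≤ LocCoh.depth R M := by
  have h1 := two_le_depth_self_of_isRegularLocalRing R hdim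
  have h2 : 2 ≤ LocCoh.idealDepth (IsLocalRing.maximalIdeal R) (Module.Dual R M →ₗ[R] R) :=
    Groth.Agent.Lib.Helper28.two_le_idealDepth_dual (IsLocalRing.maximalIdeal R) (Module.Dual R M) h1
  have h3 := Groth.Agent.Lib.Helper28.idealDepth_congr (Module.evalEquiv R M) (IsLocalRing.maximalIdeal R)
  unfold LocCoh.depth
  rw [h3]
  exact h2

section Algebra

open Module

variable {R : Type u} [CommRing R] {M : Type v} [AddCommGroup M] [Module R M]

theorem exists_smul_eq_zero_of_fg (q : Ideal R) [q.IsPrime] (K : Submodule R M) (hK : K.FG)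
    (h : ∀ k ∈ K, ∃ s : R, s ∉ q ∧ s • k = 0) : ∃ s : R, s ∉ q ∧ ∀ k ∈ K, s • k = 0 := by
  classical
  obtain ⟨S, hS⟩ := hK
  have h' : ∀ k : M, ∃ s : R, s ∉ q ∧ (k ∈ K → s • k = 0) := by
    intro k
    by_cases hk : k ∈ K
    · obtain ⟨s, hs, hsk⟩ := h k hk
      exact ⟨s, hs, fun _ => hsk⟩
    · exact ⟨1, fun h1 => (Ideal.IsPrime.ne_top ‹_›) ((Ideal.eq_top_iff_one q).2 h1), fun h => (hk h).elim⟩
  choose s hs hsk using h'
  refine ⟨∏ k ∈ S, s k, ?_, ?_⟩
  · exact Submonoid.prod_mem q.primeCompl fun k _ => hs k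
  · intro k hk
    rw [← hS] at hk
    induction hk using Submodule.span_induction with
    | mem x hx =>
      obtain ⟨t, ht⟩ := Finset.dvd_prod_of_mem s hx
      have hxK : x ∈ K := hS ▸ Submodule.subset_span hx
      rw [ht, mul_comm, mul_smul, hsk x hxK, smul_zero]
    | zero => exact smul_zero _
    | add x y _ _ hx hy => rw [smul_add, hx, hy, add_zero]
    | smul a x _ hx => rw [smul_comm, hx, smul_zero]

theorem exists_smul_mem_of_fg {N : Type*} [AddCommGroup N] [Module R N] (q : Ideal R) [q.IsPrime]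
    (P : Submodule R N) (hN : (⊤ : Submodule R N).FG)
    (h : ∀ c : N, ∃ s : R, s ∉ q ∧ s • c ∈ P) : ∃ s : R, s ∉ q ∧ ∀ c : N, s • c ∈ P := by
  classical
  obtain ⟨S, hS⟩ := hN
  choose s hs hsk using h
  refine ⟨∏ k ∈ S, s k, ?_, ?_⟩
  · exact Submonoid.prod_mem q.primeCompl fun k _ => hs k
  · intro c
    have hc : c ∈ Submodule.span R (S : Set N) := hS ▸ Submodule.mem_top
    induction hc using Submodule.span_induction with
    | mem x hx =>
      obtain ⟨t, ht⟩ := Finset.dvd_prod_of_mem s hx
      rw [ht, mul_comm, mul_smul]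
      exact P.smul_mem _ (hsk x)
    | zero => rw [smul_zero]; exact P.zero_mem
    | add x y _ _ hx hy => rw [smul_add]; exact P.add_mem hx hy
    | smul a x _ hx => rw [smul_comm]; exact P.smul_mem _ hx

/-- the reflexive locus is open. -/
theorem exists_forall_locRefl [IsNoetherianRing R] [Module.Finite R M] (q : Ideal R) [q.IsPrime]
    (h : LocRefl R M q) : ∃ s : R, s ∉ q ∧ ∀ q' : Ideal R, s ∉ q' → LocRefl R M q' := by
  obtain ⟨s, hs, hsk⟩ := exists_smul_eq_zero_of_fg q (LinearMap.ker (Dual.eval R M))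
    (IsNoetherian.noetherian _) (fun k hk => h.1 k hk)
  haveI : Module.Finite R (Dual R (Dual R M)) := inferInstance
  obtain ⟨t, ht, htc⟩ := exists_smul_mem_of_fg q (LinearMap.range (Dual.eval R M))
    (Module.Finite.fg_top) (fun c => h.2 c)
  refine ⟨s * t, fun hst => ?_, fun q' hq' => ⟨fun k hk => ⟨s * t, hq', ?_⟩, fun c => ⟨s * t, hq', ?_⟩⟩⟩
  · rcases Ideal.IsPrime.mem_or_mem ‹_› hst with h1 | h1
    · exact hs h1
    · exact ht h1
  · rw [mul_comm, mul_smul, hsk k hk, smul_zero]
  · rw [mul_smul]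
    exact Submodule.smul_mem _ _ (htc c)

end Algebra

/-- (after helper4) a regular local domain of dimension at most one is a principal ideal ring. -/
theorem isPrincipalIdealRing_of_regular (R : Type*) [CommRing R] [IsDomain R] [hR : IsRegularLocalRing R]
    (h : ringKrullDim R ≤ 1) : IsPrincipalIdealRing R := by
  have h1 := (IsRegularLocalRing.iff_finrank_cotangentSpace R).1 hR
  have h2 : Module.finrank (IsLocalRing.ResidueField R) (IsLocalRing.CotangentSpace R) ≤ 1 := by
    have h3 : ((Module.finrank (IsLocalRing.ResidueField R) (IsLocalRing.CotangentSpace R) : ℕ) : WithBot ℕ∞) ≤ 1 := by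
      rw [h1]; exact h
    exact_mod_cast h3
  exact ((tfae_of_isNoetherianRing_of_isLocalRing_of_isDomain R).out 0 5).2 h2

/-- a finite torsion-free module over a regular local ring of dimension `< 2` is reflexive. -/
theorem isReflexive_of_isTorsionFree_of_dim_lt_two (R : Type u) [CommRing R] [IsRegularLocalRing R]
    (hdim : ¬ (2 : WithBot ℕ∞) ≤ ringKrullDim R) (M : Type v) [AddCommGroup M] [Module R M]
    [Module.Finite R M] [Module.IsTorsionFree R M] : Module.IsReflexive R M := by
  haveI : IsDomain R := Groth.Agent.Lib.Helper5.isDomain_of_isRegularLocalRing R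
  obtain ⟨d, hd⟩ := Groth.Agent.Lib.Helper5.exists_nat_ringKrullDim_eq R
  have h1 : ringKrullDim R ≤ 1 := by
    rw [hd] at hdim ⊢
    have : ¬ (2 : ℕ) ≤ d := fun h => hdim (by exact_mod_cast h)
    have : d ≤ 1 := by omega
    exact_mod_cast this
  haveI := isPrincipalIdealRing_of_regular R h1
  haveI : Module.Free R M := inferInstance
  infer_instance

theorem isTorsionFree_of_isReflexive (R : Type u) [CommRing R] [IsDomain R] (M : Type v)
    [AddCommGroup M] [Module R M] [Module.IsReflexive R M] : Module.IsTorsionFree R M := by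
  refine ⟨fun r hr m m' h => ?_⟩
  apply (Module.bijective_dual_eval R M).1
  refine LinearMap.ext fun f => ?_
  have h2 : r • f m = r • f m' := by
    rw [← map_smul, ← map_smul]; exact congrArg f h
  have hr0 : r ≠ 0 := hr.ne_zero
  exact mul_left_cancel₀ hr0 h2

section Morph

variable {X : Scheme.{u}}

theorem app_res {M N : X.Modules} (φ : M ⟶ N) {U V : X.Opens} (h : V ≤ U) (s : Γ(M, U)) :
    φ.app V (res M h s) = res N h (φ.app U s) := by
  apply section_ext'
  intro y hy
  rw [← RefHull.stalkMapₗ_germ φ y hy, germ_res', germ_res', RefHull.stalkMapₗ_germ]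

/-- a morphism of modules that is bijective on a basis of opens below `V` is bijective on `V`. -/
theorem bijective_app_of_basis {M N : X.Modules} (φ : M ⟶ N) (B : Set X.Opens)
    (hB : Opens.IsBasis B) (V : X.Opens)
    (h : ∀ W ∈ B, W ≤ V → Function.Bijective (φ.app W)) : Function.Bijective (φ.app V) := by
  have hnb : ∀ (A : X.Opens) (y : X), y ∈ A → ∃ W ∈ B, y ∈ W ∧ W ≤ A := by
    intro A y hy
    obtain ⟨W, hWB, hyW, hWA⟩ := (Opens.isBasis_iff_nbhd.1 hB) hy
    exact ⟨W, hWB, hyW, hWA⟩
  constructor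
  · intro s s' hss
    apply section_ext'
    intro y hy
    obtain ⟨W, hWB, hyW, hWV⟩ := hnb V y hy
    have : res M hWV s = res M hWV s' := by
      apply (h W hWB hWV).1
      rw [app_res, app_res, hss]
    rw [← germ_res' M hWV y hyW, this, germ_res']
  · intro t
    have hex : ∀ x : V, ∃ (W : X.Opens) (hWB : W ∈ B) (hxW : x.1 ∈ W) (hWV : W ≤ V)
        (s : Γ(M, W)), φ.app W s = res N hWV t := by
      intro x
      obtain ⟨W, hWB, hxW, hWV⟩ := hnb V x.1 x.2
      obtain ⟨s, hs⟩ := (h W hWB hWV).2 (res N hWV t)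
      exact ⟨W, hWB, hxW, hWV, s, hs⟩
    choose W hWB hxW hWV s hs using hex
    have hcompat : ∀ (x x' : V) (y : X) (hy : y ∈ W x) (hy' : y ∈ W x'),
        M.presheaf.germ (W x) y hy (s x) = M.presheaf.germ (W x') y hy' (s x') := by
      intro x x' y hy hy'
      obtain ⟨W', hW'B, hyW', hW'⟩ := hnb (W x ⊓ W x') y ⟨hy, hy'⟩
      have hW'V : W' ≤ V := hW'.trans (inf_le_left.trans (hWV x))
      have : res M (hW'.trans inf_le_left) (s x) = res M (hW'.trans inf_le_right) (s x') := by
        apply (h W' hW'B hW'V).1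
        rw [app_res, app_res, hs, hs, res_res, res_res]
      rw [← germ_res' M (hW'.trans inf_le_left) y hyW', this, germ_res']
    obtain ⟨n, hn⟩ := exists_section_of_germs' M V
      (fun x => M.presheaf.germ (W x) x.1 (hxW x) (s x)) fun x =>
        ⟨W x, hWV x, hxW x, s x, fun y hy => hcompat x ⟨y, hWV x hy⟩ y hy (hxW ⟨y, hWV x hy⟩)⟩
    refine ⟨n, ?_⟩
    apply section_ext'
    intro y hy
    have hyW : y ∈ W ⟨y, hy⟩ := hxW ⟨y, hy⟩
    have hres : res M (hWV ⟨y, hy⟩) n = s ⟨y, hy⟩ := by
      apply section_ext'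
      intro z hz
      rw [germ_res', hn z (hWV ⟨y, hy⟩ hz)]
      exact hcompat ⟨z, hWV ⟨y, hy⟩ hz⟩ ⟨y, hy⟩ z (hxW _) hz
    rw [← germ_res' N (hWV ⟨y, hy⟩) y hyW, ← app_res, hres, hs, germ_res']

end Morph

section Sch

variable {X : Scheme.{u}} [IsLocallyNoetherian X] (F : X.Modules)

theorem two_le_depth_stalk_of_isReflexiveAt (hF : Coh.IsCoh F) (x : X)
    [IsRegularLocalRing (X.presheaf.stalk x)] (hdim : 2 ≤ ringKrullDim (X.presheaf.stalk x))
    (hx : RefHull.IsReflexiveAt F x) :
    (2 : ℕ∞) ≤ LocCoh.depth (X.presheaf.stalk x) (F.presheaf.stalk x) := by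
  haveI := finite_stalk_of_isCoh F hF x
  haveI : Module.IsReflexive (X.presheaf.stalk x) (F.presheaf.stalk x) := hx
  exact two_le_depth_of_isReflexive _ hdim _

theorem isZClosed_dimGe_two_of_isReflexive
    (hreg : ∀ x : X, IsRegularLocalRing (X.presheaf.stalk x)) (hF : Coh.IsCoh F)
    (hr : RefHull.IsReflexive F) : ZClos.IsZClosed (ZClos.dimGe X 2) F := by
  haveI : F.IsQuasicoherent := hF.1
  haveI : SheafOfModules.IsFiniteType (R := X.ringCatSheaf) F := hF.2
  have hall := (isReflexive_iff_forall_isReflexiveAt F hF).1 hr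
  refine isZClosed_of_forall_isZClosedAt _ _ fun x => ?_
  refine isZClosedAt_of_depth_ge_two _ F x fun x' _ hx' => ?_
  haveI := hreg x'
  exact two_le_depth_stalk_of_isReflexiveAt F hF x' hx' (hall x')

/-- a reflexive coherent sheaf on a regular locally Noetherian scheme is normal. -/
theorem bijective_res_of_isReflexive
    (hreg : ∀ x : X, IsRegularLocalRing (X.presheaf.stalk x)) (hF : Coh.IsCoh F)
    (hr : RefHull.IsReflexive F) (U V : X.Opens) (hVU : V ≤ U)
    (h : ∀ x : X, x ∈ U → x ∉ V → (2 : WithBot ℕ∞) ≤ ringKrullDim (X.presheaf.stalk x)) :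
    Function.Bijective (F.presheaf.map (homOfLE hVU).op) := by
  have hcl := isZClosed_dimGe_two_of_isReflexive F hreg hF hr
  have hst : StableUnderSpecialization (ZClos.dimGe X 2) := stableUnderSpecialization_dimGe 2
  have hB : ∀ W ∈ (X.affineOpens : Set X.Opens), ClosedOn (ZClos.dimGe X 2) F W :=
    fun W hW => closedOn_of_isZClosed _ F hst hcl hW
  refine closedOn_of_basis _ F _ X.isBasis_affineOpens hB U V hVU ?_
  rintro y ⟨hyU, hyV⟩
  exact h y hyU hyV

theorem mem_basicOpen_iff_notMem_primeIdealOf' {U : X.Opens} (hU : IsAffineOpen U) (s : Γ(X, U))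
    (y : X) (hy : y ∈ U) :
    y ∈ X.basicOpen s ↔ s ∉ (hU.primeIdealOf ⟨y, hy⟩).asIdeal := by
  have h1 : hU.fromSpec (hU.primeIdealOf ⟨y, hy⟩) = y := hU.fromSpec_primeIdealOf ⟨y, hy⟩
  have h2 := hU.fromSpec_preimage_basicOpen s
  constructor
  · intro h
    have : hU.primeIdealOf ⟨y, hy⟩ ∈ hU.fromSpec ⁻¹ᵁ X.basicOpen s := by
      change hU.fromSpec (hU.primeIdealOf ⟨y, hy⟩) ∈ X.basicOpen s
      rw [h1]; exact h
    rw [h2] at this
    exact this
  · intro h
    have : hU.primeIdealOf ⟨y, hy⟩ ∈ hU.fromSpec ⁻¹ᵁ X.basicOpen s := by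
      rw [h2]; exact h
    have h3 : hU.fromSpec (hU.primeIdealOf ⟨y, hy⟩) ∈ X.basicOpen s := this
    rwa [h1] at h3

/-- the reflexive locus of a coherent module is open. -/
theorem isOpen_setOf_isReflexiveAt (hF : Coh.IsCoh F) :
    IsOpen {x : X | RefHull.IsReflexiveAt F x} := by
  haveI : F.IsQuasicoherent := hF.1
  haveI : SheafOfModules.IsFiniteType (R := X.ringCatSheaf) F := hF.2
  rw [isOpen_iff_forall_mem_open]
  intro x hx
  obtain ⟨U, hU0, hxU, -⟩ := (Opens.isBasis_iff_nbhd.1 X.isBasis_affineOpens) (Opens.mem_top x)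
  have hU : IsAffineOpen U := hU0
  haveI : IsNoetherianRing Γ(X, U) := IsLocallyNoetherian.component_noetherian ⟨U, hU⟩
  haveI : Module.Finite Γ(X, U) Γ(F, U) :=
    Groth.Agent.Lib.Helper23.FinType.finite_of_isFiniteType F hU
  haveI : Module.FinitePresentation Γ(X, U) Γ(F, U) := Module.finitePresentation_of_finite _ _
  haveI : Module.FinitePresentation Γ(X, U) (Module.Dual Γ(X, U) Γ(F, U)) :=
    Module.finitePresentation_of_finite _ _
  have h1 := (isReflexiveAt_iff_locRefl F hU x hxU).1 hx
  obtain ⟨s, hs, hall⟩ := exists_forall_locRefl _ h1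
  refine ⟨X.basicOpen s, ?_, (X.basicOpen s).2, ?_⟩
  · intro y hy
    have hyU : y ∈ U := X.basicOpen_le s hy
    change RefHull.IsReflexiveAt F y
    rw [isReflexiveAt_iff_locRefl F hU y hyU]
    exact hall _ ((mem_basicOpen_iff_notMem_primeIdealOf' hU s y hyU).1 hy)
  · exact (mem_basicOpen_iff_notMem_primeIdealOf' hU s x hxU).2 hs

/-- over an affine open all of whose points are reflexive the biduality map is bijective. -/
theorem bijective_bidualMap_app_of_forall_isReflexiveAt (hF : Coh.IsCoh F) {U : X.Opens}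
    (hU : IsAffineOpen U) (hst : ∀ x ∈ U, RefHull.IsReflexiveAt F x) :
    Function.Bijective ((RefHull.bidualMap F).app U) := by
  haveI : F.IsQuasicoherent := hF.1
  haveI : SheafOfModules.IsFiniteType (R := X.ringCatSheaf) F := hF.2
  have hD : Coh.IsCoh (RefHull.dual F) := isCoh_homSh F _ hF (isCoh_structureModule' X)
  haveI : (RefHull.dual F).IsQuasicoherent := hD.1
  haveI : SheafOfModules.IsFiniteType (R := X.ringCatSheaf) (RefHull.dual F) := hD.2
  haveI : IsNoetherianRing Γ(X, U) := IsLocallyNoetherian.component_noetherian ⟨U, hU⟩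
  haveI : Module.Finite Γ(X, U) Γ(F, U) :=
    Groth.Agent.Lib.Helper23.FinType.finite_of_isFiniteType F hU
  haveI : Module.FinitePresentation Γ(X, U) Γ(F, U) := Module.finitePresentation_of_finite _ _
  haveI : Module.Finite Γ(X, U) Γ(RefHull.dual F, U) :=
    Groth.Agent.Lib.Helper23.FinType.finite_of_isFiniteType (RefHull.dual F) hU
  haveI : Module.FinitePresentation Γ(X, U) Γ(RefHull.dual F, U) :=
    Module.finitePresentation_of_finite _ _
  haveI : Module.FinitePresentation Γ(X, U) (Module.Dual Γ(X, U) Γ(F, U)) :=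
    Module.finitePresentation_of_finite _ _
  rw [bijective_bidualMap_app_iff F (secHom_bijective F _ hU) (secHom_bijective _ _ hU)]
  refine isReflexive_of_forall_locRefl fun q hq => ?_
  have hmem := QCoh.fromSpec_mem hU ⟨q, hq.isPrime⟩
  have h1 := (isReflexiveAt_iff_locRefl F hU _ hmem).1 (hst _ hmem)
  rw [QCoh.primeIdealOf_fromSpec] at h1
  exact h1

theorem isReflexive_structureModule [IsIntegral X] : RefHull.IsReflexive (Coh.structureModule X) := by
  rw [isReflexive_iff_forall_isReflexiveAt _ (isCoh_structureModule' X)]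
  intro x
  have e := Groth.Agent.Lib.Helper23.UnitStalk.unitStalkEquiv x
  haveI : Module.Free (X.presheaf.stalk x) ((Coh.structureModule X).presheaf.stalk x) :=
    Module.Free.of_equiv e
  haveI : Module.Finite (X.presheaf.stalk x) ((Coh.structureModule X).presheaf.stalk x) :=
    Module.Finite.equiv e
  change Module.IsReflexive _ _
  infer_instance

theorem isCoh_ddual (hF : Coh.IsCoh F) : Coh.IsCoh (RefHull.ddual F) :=
  isCoh_homSh _ _ (isCoh_homSh F _ hF (isCoh_structureModule' X)) (isCoh_structureModule' X)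

theorem isReflexive_ddual [IsIntegral X] (hF : Coh.IsCoh F) : RefHull.IsReflexive (RefHull.ddual F) :=
  isReflexive_homSh _ _ (isCoh_homSh F _ hF (isCoh_structureModule' X)) (isCoh_structureModule' X)
    isReflexive_structureModule

theorem isTorsionFree_of_isReflexive' [IsIntegral X] (hF : Coh.IsCoh F)
    (hr : RefHull.IsReflexive F) : TorSh.IsTorsionFree F := by
  intro x
  haveI : Module.IsReflexive (X.presheaf.stalk x) (F.presheaf.stalk x) :=
    (isReflexive_iff_forall_isReflexiveAt F hF).1 hr x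
  exact isTorsionFree_of_isReflexive _ _

/-- a torsion-free normal coherent module on a regular integral locally Noetherian scheme is reflexive. -/
theorem isReflexive_of_isTorsionFree_of_normal [IsIntegral X]
    (hreg : ∀ x : X, IsRegularLocalRing (X.presheaf.stalk x)) (hF : Coh.IsCoh F)
    (htf : TorSh.IsTorsionFree F)
    (hn : ∀ (U V : X.Opens) (hVU : V ≤ U),
      (∀ x : X, x ∈ U → x ∉ V → (2 : WithBot ℕ∞) ≤ ringKrullDim (X.presheaf.stalk x)) →
        Function.Bijective (F.presheaf.map (homOfLE hVU).op)) :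
    RefHull.IsReflexive F := by
  let R : X.Opens := ⟨{x : X | RefHull.IsReflexiveAt F x}, isOpen_setOf_isReflexiveAt F hF⟩
  have hR : ∀ x : X, x ∉ R → (2 : WithBot ℕ∞) ≤ ringKrullDim (X.presheaf.stalk x) := by
    intro x hx
    by_contra hdim
    apply hx
    haveI := hreg x
    haveI := finite_stalk_of_isCoh F hF x
    haveI := htf x
    exact isReflexive_of_isTorsionFree_of_dim_lt_two _ hdim _
  have hG := isCoh_ddual F hF
  have hGr := isReflexive_ddual F hF
  refine isIso_of_bijective_on_affines' _ fun U _ => ?_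
  have hV : Function.Bijective ((RefHull.bidualMap F).app (U ⊓ R)) := by
    refine bijective_app_of_basis _ _ X.isBasis_affineOpens _ fun W hW hWV => ?_
    exact bijective_bidualMap_app_of_forall_isReflexiveAt F hF hW fun x hx => (hWV hx).2
  have hdimUV : ∀ x : X, x ∈ U → x ∉ U ⊓ R → (2 : WithBot ℕ∞) ≤ ringKrullDim (X.presheaf.stalk x) :=
    fun x hxU hxV => hR x fun hxR => hxV ⟨hxU, hxR⟩
  have h1 : Function.Bijective (res F (inf_le_left : U ⊓ R ≤ U)) := hn U (U ⊓ R) inf_le_left hdimUV
  have h2 : Function.Bijective (res (RefHull.ddual F) (inf_le_left : U ⊓ R ≤ U)) :=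
    bijective_res_of_isReflexive _ hreg hG hGr U (U ⊓ R) inf_le_left hdimUV
  have hcomm : res (RefHull.ddual F) (inf_le_left : U ⊓ R ≤ U) ∘ (RefHull.bidualMap F).app U =
      (RefHull.bidualMap F).app (U ⊓ R) ∘ res F (inf_le_left : U ⊓ R ≤ U) := by
    funext s
    exact (app_res (RefHull.bidualMap F) inf_le_left s).symm
  have h3 : Function.Bijective (res (RefHull.ddual F) (inf_le_left : U ⊓ R ≤ U) ∘
      (RefHull.bidualMap F).app U) := by
    rw [hcomm]; exact hV.comp h1
  exact (Function.Bijective.of_comp_iff' h2 _).1 h3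

end Sch

end Groth.Agent.Lib.Helper28.ReflNormal
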