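import Mathlib
import Groth.Agent.Lib.Helper28ReflNormal
import Groth.Agent.Lib.Helper2ModExact

set_option autoImplicit false
universe u v
open CategoryTheory Limits AlgebraicGeometry TopologicalSpace Opposite

namespace Groth.Agent.Lib.Helper28.ReflNormal

open Groth.Agent.Lib.Helper6 Groth.Agent.Lib.Helper2 Groth.Agent.Lib.Helper28.HomSh
  Groth.Agent.Lib.Helper20.ZClosLib Groth.Agent.Lib.Helper28.ReflLoc

/-- `PureOn` on a basis of opens implies `PureOn` on every open. -/
theorem pureOn_of_basis {X : Scheme.{u}} (Z : Set X) (F : X.Modules) (B : Set X.Opens)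
    (hB : Opens.IsBasis B) (h : ∀ W ∈ B, PureOn Z F W) (U : X.Opens) : PureOn Z F U := by
  intro O hOU hZ s s' hss
  apply section_ext'
  intro y hy
  obtain ⟨W, hWB, hyW, hWU⟩ := (Opens.isBasis_iff_nbhd.1 hB) hy
  have hss' : res F hOU s = res F hOU s' := hss
  have hW : Function.Injective (F.presheaf.map (homOfLE (inf_le_left : W ⊓ O ≤ W)).op) := by
    refine h W hWB (W ⊓ O) inf_le_left ?_
    rintro z ⟨hzW, hzO⟩
    exact hZ ⟨hWU hzW, fun hz => hzO ⟨hzW, hz⟩⟩
  have : res F hWU s = res F hWU s' := by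
    apply hW
    change res F _ (res F _ s) = res F _ (res F _ s')
    rw [res_res, res_res]
    have e1 : ∀ m : Γ(F, U), res F ((inf_le_left : W ⊓ O ≤ W).trans hWU) m =
        res F (inf_le_right : W ⊓ O ≤ O) (res F hOU m) := fun m => (res_res F _ _ m).symm
    rw [e1, e1, hss']
  rw [← germ_res' F hWU y hyW, this, germ_res']

/-- a torsion-free module over a local domain which is not a field has depth at least one. -/
theorem one_le_depth_of_isTorsionFree (R : Type u) [CommRing R] [IsLocalRing R] [IsDomain R]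
    (hdim : (1 : WithBot ℕ∞) ≤ ringKrullDim R) (M : Type v) [AddCommGroup M] [Module R M]
    [Module.IsTorsionFree R M] : (1 : ℕ∞) ≤ LocCoh.depth R M := by
  have hmne : IsLocalRing.maximalIdeal R ≠ ⊥ := by
    intro h
    have hf : IsField R := IsLocalRing.isField_iff_maximalIdeal_eq.mpr h
    have h0 : ringKrullDim R = 0 := ringKrullDim_eq_zero_of_isField hf
    rw [h0] at hdim
    exact absurd hdim (by norm_num)
  obtain ⟨a, ham, ha0⟩ := Submodule.exists_mem_ne_zero_of_ne_bot hmne
  have hreg : IsSMulRegular M a :=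
    Module.IsTorsionFree.isSMulRegular (IsRegular.of_ne_zero ha0)
  unfold LocCoh.depth
  by_cases hIM : IsLocalRing.maximalIdeal R • (⊤ : Submodule R M) = ⊤
  · rw [Groth.Agent.Lib.Helper28.idealDepth_eq_top_of_smul_top_eq_top _ _ hIM]
    exact le_top
  · rw [Groth.Agent.Lib.Helper28.one_le_idealDepth_iff hIM]
    exact ⟨a, ham, hreg⟩

variable {X : Scheme.{u}} [IsLocallyNoetherian X] [IsIntegral X]

theorem injective_res_of_isTorsionFree (Q : X.Modules) (hQ : Coh.IsCoh Q)
    (htf : TorSh.IsTorsionFree Q) (U V : X.Opens) (hVU : V ≤ U)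
    (h : ∀ x : X, x ∈ U → x ∉ V → (2 : WithBot ℕ∞) ≤ ringKrullDim (X.presheaf.stalk x)) :
    Function.Injective (Q.presheaf.map (homOfLE hVU).op) := by
  haveI : Q.IsQuasicoherent := hQ.1
  haveI : SheafOfModules.IsFiniteType (R := X.ringCatSheaf) Q := hQ.2
  have hst : StableUnderSpecialization (ZClos.dimGe X 2) := stableUnderSpecialization_dimGe 2
  have hpure : ZClos.IsZPure (ZClos.dimGe X 2) Q := by
    refine (mono_iff_stalk_injective (ZClos.rhoApp (ZClos.dimGe X 2) Q)).2 fun x => ?_
    refine isZPureAt_of_depth_ge_one (ZClos.dimGe X 2) Q x fun x' _ hx' => ?_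
    haveI := htf x'
    refine one_le_depth_of_isTorsionFree _ ?_ _
    exact le_trans (by norm_num) hx'
  have hB : ∀ W ∈ (X.affineOpens : Set X.Opens), PureOn (ZClos.dimGe X 2) Q W :=
    fun W hW => pureOn_of_isZPure _ Q hst hpure hW
  refine pureOn_of_basis _ Q _ X.isBasis_affineOpens hB U V hVU ?_
  rintro y ⟨hyU, hyV⟩
  exact h y hyU hyV

/-- a subsheaf of a normal sheaf with "pure" quotient is normal. -/
theorem bijective_res_of_shortExact (S : ShortComplex X.Modules) (hS : S.ShortExact)
    (U V : X.Opens) (hVU : V ≤ U)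
    (hE : Function.Bijective (S.X₂.presheaf.map (homOfLE hVU).op))
    (hQ : Function.Injective (S.X₃.presheaf.map (homOfLE hVU).op)) :
    Function.Bijective (S.X₁.presheaf.map (homOfLE hVU).op) := by
  haveI := hS.mono_f
  have hfU := ModExact.app_injective_of_mono S.f U
  have hfV := ModExact.app_injective_of_mono S.f V
  have hzero : ∀ (W : X.Opens) (t : Γ(S.X₁, W)), S.g.app W (S.f.app W t) = 0 := by
    intro W t
    have h0 : S.f ≫ S.g = 0 := S.zero
    have : (S.f ≫ S.g).app W t = 0 := by rw [h0]; rfl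
    exact this
  constructor
  · intro s s' hss
    apply hfU
    apply hE.1
    rw [← ModExact.app_map S.f (homOfLE hVU), ← ModExact.app_map S.f (homOfLE hVU), hss]
  · intro t
    obtain ⟨e, he⟩ := hE.2 (S.f.app V t)
    have hg : S.g.app U e = 0 := by
      apply hQ
      rw [← ModExact.app_map S.g (homOfLE hVU), he, hzero, map_zero]
    obtain ⟨f, hf⟩ := ModExact.exists_app_eq_of_shortExact S hS U e hg
    refine ⟨f, ?_⟩
    apply hfV
    rw [ModExact.app_map S.f (homOfLE hVU), hf, he]

end Groth.Agent.Lib.Helper28.ReflNormal
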