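import Mathlib
import Groth.Agent.Lib.Helper28ReflNormal2
import Groth.Agent.Lib.Helper28RefOne
import Groth.Agent.Lib.Helper2LocFree
import Groth.Agent.Lib.Helper1PC15
import Groth.Agent.Lib.Helper26GlueC
import Groth.Agent.Lib.Helper23Extend2
import Groth.Agent.Lib.Helper23FinPres

/-!
# Reflexive modules and big opens (helper28)

Namespace `Groth.Agent.Lib.Helper28.BigOpen`.
-/

set_option autoImplicit false
universe u v
open CategoryTheory Limits AlgebraicGeometry TopologicalSpace Opposite

namespace Groth.Agent.Lib.Helper28.BigOpen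

open Groth.Agent.Lib.Helper6 Groth.Agent.Lib.Helper2 Groth.Agent.Lib.Helper28.HomSh
  Groth.Agent.Lib.Helper20.ZClosLib Groth.Agent.Lib.Helper28.ReflNormal

theorem le_one_of_not_two_le (d : WithBot ℕ∞) (h : ¬ (2 : WithBot ℕ∞) ≤ d) : d ≤ 1 := by
  have h1 : d < 2 := not_le.1 h
  induction d using WithBot.recBotCoe with
  | bot => exact bot_le
  | coe e =>
    have h2 : e < 2 := WithBot.coe_lt_coe.1 h1
    have h3 : e ≤ 1 := by
      have : e < 1 + 1 := by rwa [one_add_one_eq_two]
      exact Order.le_of_lt_add_one this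
    exact WithBot.coe_le_coe.2 h3

/-- a finite torsion-free module over a normal Noetherian local domain of dimension `< 2` is free. -/
theorem free_of_isTorsionFree_of_dim_lt_two (R : Type u) [CommRing R] [IsLocalRing R]
    [IsNoetherianRing R] [IsDomain R] [IsIntegrallyClosed R]
    (hdim : ¬ (2 : WithBot ℕ∞) ≤ ringKrullDim R) (M : Type v) [AddCommGroup M] [Module R M]
    [Module.Finite R M] [Module.IsTorsionFree R M] : Module.Free R M := by
  have h1 : ringKrullDim R ≤ 1 := le_one_of_not_two_le _ hdim
  haveI : IsRegularLocalRing R :=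
    Groth.Agent.Lib.Helper28.isRegularLocalRing_of_isIntegrallyClosed_of_dim_le_one h1
  haveI := isPrincipalIdealRing_of_regular R h1
  infer_instance

/-- a finite reflexive module over a Noetherian local ring of depth at least two has depth at least two. -/
theorem two_le_depth_of_isReflexive' (R : Type u) [CommRing R] [IsLocalRing R] [IsNoetherianRing R]
    (h1 : (2 : ℕ∞) ≤ LocCoh.depth R R) (M : Type v) [AddCommGroup M] [Module R M] [Module.Finite R M]
    [Module.IsReflexive R M] : (2 : ℕ∞) ≤ LocCoh.depth R M := by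
  have h2 : 2 ≤ LocCoh.idealDepth (IsLocalRing.maximalIdeal R) (Module.Dual R M →ₗ[R] R) :=
    Groth.Agent.Lib.Helper28.two_le_idealDepth_dual (IsLocalRing.maximalIdeal R) (Module.Dual R M) h1
  have h3 := Groth.Agent.Lib.Helper28.idealDepth_congr (Module.evalEquiv R M) (IsLocalRing.maximalIdeal R)
  unfold LocCoh.depth
  rw [h3]
  exact h2

variable {X : Scheme.{u}} [IsLocallyNoetherian X] (F : X.Modules)

/-- if off `U` the local rings have depth `≥ 2` and the stalks of the coherent module `F` are reflexive, the unit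
`F ⟶ j_* j^* F` is an isomorphism. -/
theorem isIso_unit_of_isReflexiveAt (hF : Coh.IsCoh F) (U : X.Opens)
    (hdepth : ∀ x : X, x ∉ U →
      (2 : ℕ∞) ≤ LocCoh.depth (X.presheaf.stalk x) (X.presheaf.stalk x))
    (hrefl : ∀ x : X, x ∉ U → RefHull.IsReflexiveAt F x) :
    IsIso ((Scheme.Modules.restrictAdjunction U.ι).unit.app F) := by
  haveI : F.IsQuasicoherent := hF.1
  haveI : SheafOfModules.IsFiniteType (R := X.ringCatSheaf) F := hF.2
  let K : Closeds X := ⟨(U : Set X)ᶜ, U.2.isClosed_compl⟩
  have hKU : K.compl = U := Opens.ext (compl_compl _)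
  have h := isIso_unit_of_depth_ge_two K F (fun x hx => by
    have hxU : x ∉ U := hx
    haveI := finite_stalk_of_isCoh F hF x
    haveI : Module.IsReflexive (X.presheaf.stalk x) (F.presheaf.stalk x) := hrefl x hxU
    exact two_le_depth_of_isReflexive' _ (hdepth x hxU) _)
  rw [hKU] at h
  exact h

/-- the biduality map is an isomorphism over an open all of whose points are reflexive. -/
theorem isIso_restrict_bidualMap (hF : Coh.IsCoh F) (U : X.Opens)
    (hrefl : ∀ x : X, x ∈ U → RefHull.IsReflexiveAt F x) :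
    IsIso ((Scheme.Modules.restrictFunctor U.ι).map (RefHull.bidualMap F)) := by
  rw [Groth.Agent.Lib.Helper23.Extend.isIso_restrict_iff]
  intro W hW
  have hWU : W ≤ U := by
    rw [Scheme.Opens.opensRange_ι] at hW; exact hW
  have hb : Function.Bijective ((RefHull.bidualMap F).app W) := by
    refine bijective_app_of_basis _ _ X.isBasis_affineOpens _ fun W' hW' hW'W => ?_
    exact bijective_bidualMap_app_of_forall_isReflexiveAt F hF hW' fun x hx => hrefl x (hWU (hW'W hx))
  exact (ConcreteCategory.isIso_iff_bijective _).2 hb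

/-- a coherent module which is reflexive on a big open `U` and equal to `j_* j^*` of itself is reflexive. -/
theorem isReflexive_of_bigOpen [IsIntegral X] (hF : Coh.IsCoh F) (U : X.Opens)
    (hdepth : ∀ x : X, x ∉ U →
      (2 : ℕ∞) ≤ LocCoh.depth (X.presheaf.stalk x) (X.presheaf.stalk x))
    (hrefl : ∀ x : X, x ∈ U → RefHull.IsReflexiveAt F x)
    (hunit : IsIso ((Scheme.Modules.restrictAdjunction U.ι).unit.app F)) :
    RefHull.IsReflexive F := by
  have hG := isCoh_ddual F hF
  have hGr := isReflexive_ddual F hF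
  haveI hGu : IsIso ((Scheme.Modules.restrictAdjunction U.ι).unit.app (RefHull.ddual F)) :=
    isIso_unit_of_isReflexiveAt _ hG U hdepth fun x _ =>
      (isReflexive_iff_forall_isReflexiveAt _ hG).1 hGr x
  haveI hφ := isIso_restrict_bidualMap F hF U hrefl
  haveI := hunit
  have hnat : RefHull.bidualMap F ≫ (Scheme.Modules.restrictAdjunction U.ι).unit.app (RefHull.ddual F) =
      (Scheme.Modules.restrictAdjunction U.ι).unit.app F ≫
        (Scheme.Modules.pushforward U.ι).map ((Scheme.Modules.restrictFunctor U.ι).map (RefHull.bidualMap F)) :=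
    (Scheme.Modules.restrictAdjunction U.ι).unit.naturality (RefHull.bidualMap F)
  have h1 : IsIso (RefHull.bidualMap F ≫
      (Scheme.Modules.restrictAdjunction U.ι).unit.app (RefHull.ddual F)) := by
    rw [hnat]; infer_instance
  exact IsIso.of_isIso_comp_right (RefHull.bidualMap F)
    ((Scheme.Modules.restrictAdjunction U.ι).unit.app (RefHull.ddual F))

/-- the flat locus of a coherent module is open. -/
theorem isOpen_setOf_isFlatAt (hF : Coh.IsCoh F) : IsOpen {x : X | FlatMod.IsFlatAt F x} := by
  haveI : F.IsQuasicoherent := hF.1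
  haveI : SheafOfModules.IsFiniteType (R := X.ringCatSheaf) F := hF.2
  haveI : SheafOfModules.IsFinitePresentation (R := X.ringCatSheaf) F :=
    Groth.Agent.Lib.Helper23.FinType.isFinitePresentation_of_isFiniteType F
  rw [isOpen_iff_forall_mem_open]
  intro x hx
  obtain ⟨D, m, hxD, ⟨e⟩⟩ := LocFree.exists_restrict_iso_freeMod_of_isFlatAt F x hx
  exact ⟨D, fun y hy => LocFree.isFlatAt_of_restrict_iso_freeMod D.ι F e ⟨y, hy⟩, D.2, hxD⟩


/-- S1690: on a normal integral locally Noetherian scheme a coherent module is stalkwise reflexive iff it is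
`j_* j^*` of a finite locally free module on a big open. -/
theorem reflexive_iff_bigOpen [IsIntegral X] (hX : Pi1.IsNormalScheme X) (hF : Coh.IsCoh F) :
    (∀ x : X, Module.IsReflexive (X.presheaf.stalk x) (F.presheaf.stalk x)) ↔
      ∃ U : X.Opens, (∀ x : X, x ∉ U → (2 : WithBot ℕ∞) ≤ ringKrullDim (X.presheaf.stalk x)) ∧
        FlatMod.IsFinLocFree (F.restrict U.ι) ∧
        IsIso ((Scheme.Modules.restrictAdjunction U.ι).unit.app F) := by
  haveI : F.IsQuasicoherent := hF.1
  haveI : SheafOfModules.IsFiniteType (R := X.ringCatSheaf) F := hF.2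
  haveI hFP : SheafOfModules.IsFinitePresentation (R := X.ringCatSheaf) F :=
    Groth.Agent.Lib.Helper23.FinType.isFinitePresentation_of_isFiniteType F
  have hdepth : ∀ x : X, (2 : WithBot ℕ∞) ≤ ringKrullDim (X.presheaf.stalk x) →
      (2 : ℕ∞) ≤ LocCoh.depth (X.presheaf.stalk x) (X.presheaf.stalk x) := by
    intro x hx
    haveI : IsIntegrallyClosed (X.presheaf.stalk x) := (hX x).2
    exact Groth.Agent.Lib.Helper28.two_le_depth_of_isIntegrallyClosed_of_two_le_dim hx
  constructor
  · intro hrefl
    let U : X.Opens := ⟨{x : X | FlatMod.IsFlatAt F x}, isOpen_setOf_isFlatAt F hF⟩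
    have hU2 : ∀ x : X, x ∉ U → (2 : WithBot ℕ∞) ≤ ringKrullDim (X.presheaf.stalk x) := by
      intro x hx
      by_contra hdim
      apply hx
      haveI : IsIntegrallyClosed (X.presheaf.stalk x) := (hX x).2
      haveI := finite_stalk_of_isCoh F hF x
      haveI := hrefl x
      haveI : Module.IsTorsionFree (X.presheaf.stalk x) (F.presheaf.stalk x) :=
        isTorsionFree_of_isReflexive _ _
      haveI : Module.Free (X.presheaf.stalk x) (F.presheaf.stalk x) :=
        free_of_isTorsionFree_of_dim_lt_two _ hdim _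
      change Module.Flat (X.presheaf.stalk x) (F.presheaf.stalk x)
      infer_instance
    refine ⟨U, hU2, ?_, ?_⟩
    · intro y
      haveI : (F.restrict U.ι).IsQuasicoherent :=
        Groth.Agent.Lib.Helper26.Glue.isQuasicoherent_restrict U.ι F
      haveI : SheafOfModules.IsFinitePresentation (R := (U : Scheme.{u}).ringCatSheaf)
          (F.restrict U.ι) := Groth.Agent.Lib.Helper26.Glue.isFP_restrict U.ι F hFP
      have hy : FlatMod.IsFlatAt F (U.ι y) := y.2
      have hy' := Groth.Agent.Lib.Helper1.SPL.isFlatAt_restrict U.ι F y hy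
      obtain ⟨D, m, hyD, he⟩ := LocFree.exists_restrict_iso_freeMod_of_isFlatAt (F.restrict U.ι) y hy'
      exact ⟨D, m, hyD, he⟩
    · exact isIso_unit_of_isReflexiveAt F hF U (fun x hx => hdepth x (hU2 x hx))
        fun x _ => hrefl x
  · rintro ⟨U, hU2, hlf, hunit⟩
    have hr : RefHull.IsReflexive F := by
      refine isReflexive_of_bigOpen F hF U (fun x hx => hdepth x (hU2 x hx)) ?_ hunit
      intro x hx
      obtain ⟨D, n, hxD, ⟨e⟩⟩ := hlf ⟨x, hx⟩
      let e' : F.restrict (D.ι ≫ U.ι) ≅ FlatMod.freeMod (↑D) n :=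
        (Scheme.Modules.restrictFunctorComp D.ι U.ι).app F ≪≫ e
      have h := RankLoc.fibreRank_eq_of_restrict_iso_freeMod (D.ι ≫ U.ι) F e' ⟨⟨x, hx⟩, hxD⟩
      have hx' : (D.ι ≫ U.ι) ⟨⟨x, hx⟩, hxD⟩ = x := rfl
      rw [hx'] at h
      haveI := h.1
      haveI := finite_stalk_of_isCoh F hF x
      change Module.IsReflexive _ _
      infer_instance
    exact (isReflexive_iff_forall_isReflexiveAt F hF).1 hr

end Groth.Agent.Lib.Helper28.BigOpen
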