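import Mathlib
import Groth.Agent.Lib.Helper12MuHNA
import Groth.Agent.Lib.Helper12PosB
import Groth.Agent.Lib.Helper23RatFun
import Groth.Agent.Lib.Helper28BigOpen
import Groth.Agent.Lib.Helper28HBSch
import Groth.Agent.Lib.Helper20StalkExact
import Groth.Agent.Lib.Helper20CohLoc
import Groth.Agent.Lib.Helper17FinLoc
set_option backward.isDefEq.respectTransparency.types false

/-!
# Reflexive sheaves and slope stability (helper12)
-/

set_option autoImplicit false
set_option linter.style.haveILetI false
set_option linter.unusedSectionVars false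
set_option linter.unusedVariables false
universe u
open CategoryTheory CategoryTheory.Limits AlgebraicGeometry TopologicalSpace Opposite Polynomial

namespace Groth.Agent.Lib.Helper12.ReflA

open Groth.Agent.Lib.Helper4.Dev Groth.Agent.Lib.Helper4.VarDim

section Pure

variable {X : Scheme.{u}} [IsIntegral X]

/-- a coherent submodule of a torsion-free quasi-coherent module on an integral scheme with vanishing generic stalk
vanishes -/
theorem isZero_of_subsingleton_generic_stalk {F K : X.Modules} [F.IsQuasicoherent]
    (htf : TorSh.IsTorsionFree F) (ι : K ⟶ F) [Mono ι]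
    (h : Subsingleton (K.presheaf.stalk (genericPoint X))) : IsZero K := by
  apply Groth.Agent.Lib.Helper23.ModLocal.isZero_of_forall_eq_zero
  intro U s
  by_cases hU : genericPoint X ∈ U
  · apply Groth.Agent.Lib.Helper20.StalkExact.injective_app_of_mono ι U
    rw [map_zero]
    apply Groth.Agent.Lib.Helper23.RatFun.eq_zero_of_germ_eq_zero F htf hU
    rw [← RefHull.stalkMapₗ_germ ι (genericPoint X) hU s,
      Subsingleton.elim (K.presheaf.germ U (genericPoint X) hU s) 0, map_zero]
  · -- `U` is empty
    have hbot : U = ⊥ := by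
      by_contra hne
      apply hU
      have hne' : (U : Set X).Nonempty := by
        rw [Set.nonempty_iff_ne_empty]
        intro h0
        exact hne (Opens.ext h0)
      exact ((genericPoint_spec X).mem_open_set_iff U.2).2 (by rwa [Set.univ_inter])
    apply Groth.Agent.Lib.Helper28.HomSh.section_ext' K
    intro x hx
    rw [hbot] at hx
    exact absurd hx (by simp)

/-- a torsion-free coherent module on an integral scheme is pure of the dimension of the scheme -/
theorem isPure_of_isTorsionFree (n : ℕ) (hX : topologicalKrullDim X = (n : WithBot ℕ∞)) {F : X.Modules}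
    (hF : Coh.IsCoh F) (htf : TorSh.IsTorsionFree F) : ShStab.IsPure X F n := by
  haveI : F.IsQuasicoherent := hF.1
  intro K ι hι hK hK0
  haveI := hι
  have hη : genericPoint X ∈ CohB1.support K := by
    intro hsub
    exact hK0 (isZero_of_subsingleton_generic_stalk htf ι hsub)
  have hcl : IsClosed (CohB1.support K) := isClosed_support K hK
  have huniv : CohB1.support K = Set.univ := by
    apply Set.eq_univ_of_univ_subset
    rw [← (genericPoint_spec X).def]
    exact hcl.closure_subset_iff.2 (Set.singleton_subset_iff.2 hη)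
  rw [huniv, ← hX]
  exact topologicalKrullDim_univ_eq

end Pure

section Codim

variable (k : Type u) [Field k] (X : Scheme.{u}) [X.Over (Spec (CommRingCat.of k))]
  [LocallyOfFiniteType (X ↘ Spec (CommRingCat.of k))] [IsIntegral X]

include k in
/-- points of a closed subset of dimension `< n - 1` of an integral variety of dimension `n` have local rings of
dimension at least two -/
theorem two_le_ringKrullDim_stalk (n : ℕ) (hX : topologicalKrullDim X = (n : WithBot ℕ∞)) (T : Set X)
    (hT : IsClosed T) (hdim : topologicalKrullDim T < ((n - 1 : ℕ) : WithBot ℕ∞)) (x : X) (hx : x ∈ T) :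
    (2 : WithBot ℕ∞) ≤ ringKrullDim (X.presheaf.stalk x) := by
  obtain ⟨b, hb⟩ := exists_ringKrullDim_stalk_eq k X x
  have h1 := localDim_eq_add k X x (trdegNat k X x) b (trdeg_eq_trdegNat k X x) hb
  have h2 := Groth.Agent.Lib.Helper12.Pos.localDim_eq_dim_of_irreducible k X x
  rw [h1, hX] at h2
  have h3 : trdegNat k X x + b = n := by exact_mod_cast h2
  have h4 : ((trdegNat k X x : ℕ) : WithBot ℕ∞) ≤ topologicalKrullDim T :=
    trdegNat_le_topologicalKrullDim_of_isLocallyClosed k X T hT.isLocallyClosed x hx
  have h5 : ((trdegNat k X x : ℕ) : WithBot ℕ∞) < ((n - 1 : ℕ) : WithBot ℕ∞) := lt_of_le_of_lt h4 hdim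
  have h6 : trdegNat k X x < n - 1 := by exact_mod_cast h5
  rw [hb]
  have : 2 ≤ b := by omega
  exact_mod_cast this

end Codim

section Hartogs

open Groth.Agent.Lib.Helper28.BigOpen Groth.Agent.Lib.Helper28.ReflNormal Groth.Agent.Lib.Helper28.HomSh

attribute [local instance] Groth.Agent.Lib.Helper17.FinLoc.preservesFiniteLimits_restrictFunctor
  Groth.Agent.Lib.Helper17.FinLoc.preservesFiniteColimits_restrictFunctor

variable {X : Scheme.{u}} [IsLocallyNoetherian X]

/-- a monomorphism of reflexive coherent modules on a regular scheme whose cokernel is supported in codimension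
at least two is an isomorphism -/
theorem isIso_of_mono_of_reflexive (hreg : ∀ x : X, IsRegularLocalRing (X.presheaf.stalk x))
    {F G : X.Modules} (hF : Coh.IsCoh F) (hG : Coh.IsCoh G) (hFr : RefHull.IsReflexive F)
    (hGr : RefHull.IsReflexive G) (φ : F ⟶ G) [Mono φ]
    (hbig : ∀ x : X, x ∈ CohB1.support (cokernel φ) →
      (2 : WithBot ℕ∞) ≤ ringKrullDim (X.presheaf.stalk x)) : IsIso φ := by
  have hC : Coh.IsCoh (cokernel φ) := isCoh_cokernel φ hF hG
  let V : X.Opens := ⟨(CohB1.support (cokernel φ))ᶜ, (isClosed_support _ hC).isOpen_compl⟩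
  have hdepth : ∀ x : X, x ∉ V →
      (2 : ℕ∞) ≤ LocCoh.depth (X.presheaf.stalk x) (X.presheaf.stalk x) := by
    intro x hx
    haveI := hreg x
    have hx' : x ∈ CohB1.support (cokernel φ) := by
      by_contra h
      exact hx h
    exact two_le_depth_self_of_isRegularLocalRing _ (hbig x hx')
  haveI hFu := isIso_unit_of_isReflexiveAt F hF V hdepth fun x _ =>
    (isReflexive_iff_forall_isReflexiveAt F hF).1 hFr x
  haveI hGu := isIso_unit_of_isReflexiveAt G hG V hdepth fun x _ =>
    (isReflexive_iff_forall_isReflexiveAt G hG).1 hGr x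
  -- the restriction of `φ` to `V` is an isomorphism
  haveI : Mono ((Scheme.Modules.restrictFunctor V.ι).map φ) := inferInstance
  have hz : IsZero ((Scheme.Modules.restrictFunctor V.ι).obj (cokernel φ)) := by
    rw [Groth.Agent.Lib.Helper20.CohLoc.isZero_restrict_iff]
    intro x hx hr
    obtain ⟨v, rfl⟩ := hr
    exact v.2 hx
  haveI : Epi ((Scheme.Modules.restrictFunctor V.ι).map φ) := by
    apply Preadditive.epi_of_isZero_cokernel
    exact IsZero.of_iso hz (PreservesCokernel.iso (Scheme.Modules.restrictFunctor V.ι) φ).symm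
  haveI : IsIso ((Scheme.Modules.restrictFunctor V.ι).map φ) := isIso_of_mono_of_epi _
  have hnat : φ ≫ (Scheme.Modules.restrictAdjunction V.ι).unit.app G =
      (Scheme.Modules.restrictAdjunction V.ι).unit.app F ≫
        (Scheme.Modules.pushforward V.ι).map ((Scheme.Modules.restrictFunctor V.ι).map φ) :=
    (Scheme.Modules.restrictAdjunction V.ι).unit.naturality φ
  have h1 : IsIso (φ ≫ (Scheme.Modules.restrictAdjunction V.ι).unit.app G) := by
    rw [hnat]; infer_instance
  exact IsIso.of_isIso_comp_right φ ((Scheme.Modules.restrictAdjunction V.ι).unit.app G)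

end Hartogs

end Groth.Agent.Lib.Helper12.ReflA
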