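import Mathlib
import Groth.Agent.Lib.Helper12MuReflA
import Groth.Agent.Lib.Helper12Simple
set_option backward.isDefEq.respectTransparency.types false

/-!
# Morphisms of slope-stable reflexive sheaves (helper12)
-/

set_option autoImplicit false
set_option linter.style.haveILetI false
set_option linter.unusedSectionVars false
set_option linter.unusedVariables false
universe u
open CategoryTheory CategoryTheory.Limits AlgebraicGeometry TopologicalSpace Opposite Polynomial

namespace Groth.Agent.Lib.Helper12.ReflB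

open Groth.Agent.Lib.Helper4.Dev Groth.Agent.Lib.Helper4.CurveChi
  Groth.Agent.Lib.Helper12.Snap Groth.Agent.Lib.Helper12.Pos Groth.Agent.Lib.Helper12.HP
  Groth.Agent.Lib.Helper12.HPB Groth.Agent.Lib.Helper12.HPC Groth.Agent.Lib.Helper12.HPD
  Groth.Agent.Lib.Helper12.HPE Groth.Agent.Lib.Helper12.HPF Groth.Agent.Lib.Helper12.SubQ
  Groth.Agent.Lib.Helper12.JHA Groth.Agent.Lib.Helper12.MuA Groth.Agent.Lib.Helper12.ReflA StabCat

variable (k : Type u) [Field k] (X : Scheme.{u}) [X.Over (Spec (CommRingCat.of k))]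
  [IsProper (X ↘ (Spec (CommRingCat.of k)))] (L : X.Modules) (hL : CohB1.IsAmple L) (n : ℕ)

theorem isMuSemistable_of_isMuStable {E : X.Modules} (h : ShStab.IsMuStable k X L E n) :
    ShStab.IsMuSemistable k X L E n :=
  ⟨h.1, h.2.1, h.2.2.1, h.2.2.2.1, fun F ι hι hF pF pE hpF hpE h1 h2 =>
    (h.2.2.2.2 F ι hι hF pF pE hpF hpE h1 h2).le⟩

include hL in
/-- a nonzero morphism `F ⟶ G` of pure slope-stable sheaves with `μ(G) ≤ μ(F)` is a monomorphism whose cokernel
has support of dimension `< n - 1` -/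
theorem mu_stable_hom_facts (hn : 1 ≤ n) {F G : X.Modules} (hFt : ShStab.IsPure X F n)
    (hGt : ShStab.IsPure X G n)
    (hF : ShStab.IsMuStable k X L F n) (hG : ShStab.IsMuStable k X L G n)
    {pF pG : ℚ[X]} (hpF : ShStab.IsHilbPoly k X L F pF) (hpG : ShStab.IsHilbPoly k X L G pG)
    (hle : hatSlope n pG ≤ hatSlope n pF) (φ : F ⟶ G) (hφ : φ ≠ 0) :
    Mono φ ∧ topologicalKrullDim ↥(CohB1.support (cokernel φ)) < ((n - 1 : ℕ) : WithBot ℕ∞) := by
  haveI : IsNoetherian X := Groth.Agent.Lib.Helper4.CurveRR.isNoetherian_of_proper k X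
  haveI : IsLocallyNoetherian X := inferInstance
  have hGss := isMuSemistable_of_isMuStable k X L n hG
  have haF := alpha_pos k X L hL F hF.1 n hF.2.2.1 hpF
  have haG := alpha_pos k X L hL G hG.1 n hG.2.2.1 hpG
  have hI : Coh.IsCoh (Abelian.image φ) := isCoh_image φ hF.1 hG.1
  have hI0 : ¬ IsZero (Abelian.image φ) := fun h => hφ (by
    rw [← Abelian.image.fac φ, h.eq_of_tgt (Abelian.factorThruImage φ) 0, Limits.zero_comp])
  obtain ⟨pI, hpI⟩ := exists_hilbPoly k X L hL.1 _ hI
  have haI : 0 < alpha n pI := alpha_pos k X L hL _ hI n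
    (hGt _ (Abelian.image.ι φ) inferInstance hI hI0) hpI
  have hIG := mu_sub_le k X L hL n hn hGt hGss (Abelian.image.ι φ) hI hI0 hpI hpG
  -- the kernel vanishes
  have hK : Coh.IsCoh (kernel (Abelian.factorThruImage φ)) := isCoh_kernel _ hF.1 hI
  obtain ⟨pK, hpK⟩ := exists_hilbPoly k X L hL.1 _ hK
  have hadd := hilbPoly_eq_add_of_epi k X L hL hF.1 (Abelian.factorThruImage φ) hI hpK hpF hpI
  have hK0 : IsZero (kernel (Abelian.factorThruImage φ)) := by
    by_contra hK0
    have haK := alpha_pos k X L hL _ hK n (hFt _ (kernel.ι _) inferInstance hK hK0) hpK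
    have h1 := hF.2.2.2.2 _ (kernel.ι (Abelian.factorThruImage φ)) inferInstance hK pK pF hpK hpF haK
      (by rw [hadd, alpha_add]; linarith)
    -- seesaw: `μ(I) > μ(F)`
    have h2 : hatSlope n pF < hatSlope n pI := by
      rw [hadd, hatSlope_add] at h1 ⊢
      unfold hatSlope at h1 ⊢
      rw [div_lt_div_iff₀ haK (by linarith)] at h1
      rw [div_lt_div_iff₀ (by linarith) haI]
      nlinarith
    linarith
  haveI : Mono (Abelian.factorThruImage φ) := Preadditive.mono_of_isZero_kernel _ hK0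
  have hmono : Mono φ := by
    rw [← Abelian.image.fac φ]
    infer_instance
  haveI := hmono
  refine ⟨hmono, ?_⟩
  -- the cokernel
  have hC : Coh.IsCoh (cokernel φ) := isCoh_cokernel φ hF.1 hG.1
  obtain ⟨pC, hpC⟩ := exists_hilbPoly k X L hL.1 _ hC
  have hadd' := hilbPoly_eq_add_of_mono k X L hL hF.1 φ hG.1 hpF hpG hpC
  have hdC : topologicalKrullDim ↥(CohB1.support (cokernel φ)) ≤ (n : WithBot ℕ∞) :=
    (dim_le_of_epi (cokernel.π φ)).trans hG.2.2.1.le
  have haC := alpha_nonneg k X L hL _ hC n hdC hpC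
  have haC0 : alpha n pC = 0 := by
    rcases haC.lt_or_eq with hpos | h0
    · exfalso
      have h1 := hG.2.2.2.2 F φ inferInstance hF.1 pF pG hpF hpG haF
        (by rw [hadd', alpha_add]; linarith)
      linarith
    · exact h0.symm
  have hltC := dim_lt_of_alpha_eq_zero k X L hL n _ hC hdC hpC haC0
  have haC1 := alpha_pred_nonneg k X L hL n hn _ hC hltC hpC
  have haC10 : alpha (n - 1) pC = 0 := by
    rw [hadd', hatSlope_add, haC0, add_zero] at hle
    unfold hatSlope at hle
    rw [div_le_div_iff_of_pos_right haF] at hle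
    linarith
  have hdC' : topologicalKrullDim ↥(CohB1.support (cokernel φ)) ≤ ((n - 1 : ℕ) : WithBot ℕ∞) := by
    have h1 : ((n - 1 + 1 : ℕ) : WithBot ℕ∞) = (n : WithBot ℕ∞) := by
      congr 1
      omega
    rw [← h1] at hltC
    exact (lt_succ_iff_le _ (n - 1)).1 hltC
  exact dim_lt_of_alpha_eq_zero k X L hL (n - 1) _ hC hdC' hpC haC10

include hL in
/-- S18966 -/
theorem main_S18966 [IsIntegral X] [Smooth (X ↘ Spec (CommRingCat.of k))] (hn : 1 ≤ n)
    (hX : topologicalKrullDim X = (n : WithBot ℕ∞))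
    (F G : X.Modules) (hFr : RefHull.IsReflexive F) (hGr : RefHull.IsReflexive G)
    (hF : ShStab.IsMuStable k X L F n) (hG : ShStab.IsMuStable k X L G n)
    (pF pG : ℚ[X]) (hpF : ShStab.IsHilbPoly k X L F pF) (hpG : ShStab.IsHilbPoly k X L G pG)
    (hle : StabCat.hatSlope n pG ≤ StabCat.hatSlope n pF) (φ : F ⟶ G) (hφ : φ ≠ 0) : IsIso φ := by
  haveI : IsNoetherian X := Groth.Agent.Lib.Helper4.CurveRR.isNoetherian_of_proper k X
  haveI : IsLocallyNoetherian X := inferInstance
  have hreg : ∀ x : X, IsRegularLocalRing (X.presheaf.stalk x) := fun x =>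
    Groth.Agent.Lib.Helper28HBSch.isRegularLocalRing_stalk_of_smooth k X (X ↘ Spec (CommRingCat.of k)) x
  have hFt : ShStab.IsPure X F n := isPure_of_isTorsionFree n hX hF.1
    (Groth.Agent.Lib.Helper28.ReflNormal.isTorsionFree_of_isReflexive' F hF.1 hFr)
  have hGt : ShStab.IsPure X G n := isPure_of_isTorsionFree n hX hG.1
    (Groth.Agent.Lib.Helper28.ReflNormal.isTorsionFree_of_isReflexive' G hG.1 hGr)
  obtain ⟨hm, hdim⟩ := mu_stable_hom_facts k X L hL n hn hFt hGt hF hG hpF hpG hle φ hφ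
  haveI := hm
  have hC : Coh.IsCoh (cokernel φ) := isCoh_cokernel φ hF.1 hG.1
  exact isIso_of_mono_of_reflexive hreg hF.1 hG.1 hFr hGr φ fun x hx =>
    two_le_ringKrullDim_stalk k X n hX _ (isClosed_support _ hC) hdim x hx

open Groth.Agent.Lib.Helper12.Simple in
include hL in
/-- an object all of whose nonzero endomorphisms are isomorphisms is simple (over an algebraically closed field) -/
theorem simple_of_forall_isIso [IsAlgClosed k] (E : X.Modules) (hE : Coh.IsCoh E) (hE0 : ¬ IsZero E)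
    (hiso : ∀ ψ : E ⟶ E, ψ ≠ 0 → IsIso ψ) (φ : E ⟶ E) : ∃ c : k, φ = Formal.smulMod k E c := by
  obtain ⟨m, i, hmi⟩ := exists_finrank_ne_zero k X L hL E hE hE0
  change Module.finrank k (Coh.HH X (CohB1.tensorMod E (CohB1.tensorPow L m)) i) ≠ 0 at hmi
  haveI : Module.Finite k (Coh.HH X (CohB1.tensorMod E (CohB1.tensorPow L m)) i) :=
    Module.finite_of_finrank_pos (Nat.pos_of_ne_zero hmi)
  haveI : Nontrivial (Coh.HH X (CohB1.tensorMod E (CohB1.tensorPow L m)) i) :=
    by
      by_contra hn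
      haveI := not_nontrivial_iff_subsingleton.1 hn
      exact hmi Module.finrank_zero_of_subsingleton
  obtain ⟨c, hc⟩ := Module.End.exists_eigenvalue (twMapH k X (CohB1.tensorPow L m) φ i)
  obtain ⟨v, hv⟩ := hc.exists_hasEigenvector
  refine ⟨c, ?_⟩
  by_contra hne
  have hψ : φ - Formal.smulMod k E c ≠ 0 := fun h => hne (sub_eq_zero.1 h)
  haveI := hiso _ hψ
  have hinj := twMapH_injective k X (CohB1.tensorPow L m) (φ - Formal.smulMod k E c) i
  have h0 : twMapH k X (CohB1.tensorPow L m) (φ - Formal.smulMod k E c) i v = 0 := by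
    rw [twMapH_sub, twMapH_smulMod, hv.apply_eq_smul, sub_self]
  exact hv.2 (hinj (h0.trans (map_zero _).symm))

include hL in
/-- S18968 -/
theorem main_S18968 [IsAlgClosed k] [IsIntegral X] [Smooth (X ↘ Spec (CommRingCat.of k))] (hn : 1 ≤ n)
    (hX : topologicalKrullDim X = (n : WithBot ℕ∞))
    (F : X.Modules) (hFr : RefHull.IsReflexive F) (hF : ShStab.IsMuStable k X L F n) (φ : F ⟶ F) :
    ∃ c : k, φ = Formal.smulMod k F c := by
  obtain ⟨pF, hpF⟩ := exists_hilbPoly k X L hL.1 F hF.1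
  exact simple_of_forall_isIso k X L hL F hF.1 hF.2.1
    (fun ψ hψ => main_S18966 k X L hL n hn hX F F hFr hFr hF hF pF pF hpF hpF le_rfl ψ hψ) φ

end Groth.Agent.Lib.Helper12.ReflB
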