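import Mathlib

set_option autoImplicit false
universe u
open CategoryTheory CategoryTheory.Limits AlgebraicGeometry Opposite

namespace Groth.Agent.Lib.Helper12.NoethConst

/-- algebraic core: a map from a Noetherian ring to a reduced ring whose image on spectra lies in
a set without internal specializations is locally constant on spectra. -/
lemma exists_basicOpen_const {A B : Type u} [CommRing A] [CommRing B] [IsNoetherianRing A]
    [IsReduced B] (φ : A →+* B) (F : Set (PrimeSpectrum A))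
    (hF : ∀ q : PrimeSpectrum B, PrimeSpectrum.comap φ q ∈ F)
    (hspec : ∀ p ∈ F, ∀ p' ∈ F, p' ≤ p → p = p') (qt : PrimeSpectrum B) :
    ∃ r : B, r ∉ qt.asIdeal ∧ ∀ q : PrimeSpectrum B, r ∉ q.asIdeal →
      PrimeSpectrum.comap φ q = PrimeSpectrum.comap φ qt := by
  classical
  obtain ⟨s, hs⟩ := (isNoetherianRing_iff_ideal_fg A).1 inferInstance (PrimeSpectrum.comap φ qt).asIdeal
  have key : ∀ a ∈ s, ∃ m : B, m ∉ qt.asIdeal ∧ m * φ a = 0 := by
    intro a ha
    have hap : a ∈ (PrimeSpectrum.comap φ qt).asIdeal := by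
      rw [← hs]; exact Ideal.subset_span ha
    have hnil : IsNilpotent (algebraMap B (Localization.AtPrime qt.asIdeal) (φ a)) := by
      rw [nilpotent_iff_mem_prime]
      intro J hJ
      let q' : PrimeSpectrum B := ⟨J.comap (algebraMap B (Localization.AtPrime qt.asIdeal)),
        Ideal.comap_isPrime _ _⟩
      have hle : q' ≤ qt := by
        intro b hb
        by_contra hbq
        have hu : IsUnit (algebraMap B (Localization.AtPrime qt.asIdeal) b) :=
          IsLocalization.map_units _ (⟨b, hbq⟩ : qt.asIdeal.primeCompl)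
        exact hJ.ne_top (Ideal.eq_top_of_isUnit_mem _ hb hu)
      have hle' : PrimeSpectrum.comap φ q' ≤ PrimeSpectrum.comap φ qt := fun x hx => hle hx
      have heq := hspec _ (hF qt) _ (hF q') hle'
      have : a ∈ (PrimeSpectrum.comap φ q').asIdeal := by rw [← heq]; exact hap
      exact this
    have h0 := hnil.eq_zero
    obtain ⟨m, hm⟩ := (IsLocalization.map_eq_zero_iff qt.asIdeal.primeCompl
      (Localization.AtPrime qt.asIdeal) (φ a)).1 h0
    exact ⟨m.1, m.2, hm⟩
  choose! m hm1 hm2 using key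
  refine ⟨∏ a ∈ s, m a, ?_, ?_⟩
  · rw [Ideal.IsPrime.prod_mem_iff]
    rintro ⟨a, ha, ham⟩
    exact hm1 a ha ham
  · intro q hq
    have hle : PrimeSpectrum.comap φ qt ≤ PrimeSpectrum.comap φ q := by
      change (PrimeSpectrum.comap φ qt).asIdeal ≤ (PrimeSpectrum.comap φ q).asIdeal
      rw [← hs, Ideal.span_le]
      intro a ha
      have hma : m a ∉ q.asIdeal := by
        intro h
        apply hq
        rw [Ideal.IsPrime.prod_mem_iff]
        exact ⟨a, ha, h⟩
      have : m a * φ a ∈ q.asIdeal := by rw [hm2 a ha]; exact q.asIdeal.zero_mem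
      exact (q.isPrime.mem_or_mem this).resolve_left hma
    exact hspec _ (hF q) _ (hF qt) hle


/-- a morphism from a reduced scheme to a locally Noetherian scheme, with image in a set without
internal specializations, is locally constant on points. -/
theorem exists_open_const {P U : Scheme.{u}} [IsReduced P] [IsLocallyNoetherian U] (g : P ⟶ U)
    (F : Set U) (hF : ∀ t, g t ∈ F) (hspec : ∀ u ∈ F, ∀ u' ∈ F, u' ⤳ u → u = u') (t : P) :
    ∃ O : P.Opens, t ∈ O ∧ ∀ t' ∈ O, g t' = g t := by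
  obtain ⟨V, hV, huV, -⟩ : ∃ V : U.Opens, V ∈ U.affineOpens ∧ g t ∈ V ∧ V ≤ ⊤ :=
    TopologicalSpace.Opens.isBasis_iff_nbhd.1 U.isBasis_affineOpens
      (TopologicalSpace.Opens.mem_top (g t))
  obtain ⟨W₀, hW₀, htW₀, e⟩ : ∃ W₀ : P.Opens, W₀ ∈ P.affineOpens ∧ t ∈ W₀ ∧ W₀ ≤ g ⁻¹ᵁ V :=
    TopologicalSpace.Opens.isBasis_iff_nbhd.1 P.isBasis_affineOpens (show t ∈ g ⁻¹ᵁ V from huV)
  have hV' : IsAffineOpen V := hV
  have hW₀' : IsAffineOpen W₀ := hW₀
  haveI : IsNoetherianRing Γ(U, V) := IsLocallyNoetherian.component_noetherian ⟨V, hV⟩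
  have hcomm : ∀ q : PrimeSpectrum Γ(P, W₀),
      hV'.fromSpec (PrimeSpectrum.comap (g.appLE V W₀ e).hom q) = g (hW₀'.fromSpec q) := by
    intro q
    have : hV'.fromSpec ((Spec.map (g.appLE V W₀ e)) q) = g (hW₀'.fromSpec q) := by
      rw [← Scheme.Hom.comp_apply, ← Scheme.Hom.comp_apply,
        IsAffineOpen.SpecMap_appLE_fromSpec _ hV' hW₀']
    exact this
  obtain ⟨qt, hqt⟩ : ∃ qt : PrimeSpectrum Γ(P, W₀), hW₀'.fromSpec qt = t := by
    have : t ∈ Set.range hW₀'.fromSpec := by
      rw [IsAffineOpen.range_fromSpec]; exact htW₀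
    exact this
  obtain ⟨r, hr1, hr2⟩ := exists_basicOpen_const (g.appLE V W₀ e).hom (hV'.fromSpec ⁻¹' F)
    (fun q => by rw [Set.mem_preimage, hcomm]; exact hF _)
    (fun p hp p' hp' hle => by
      have h1 : p' ⤳ p := (PrimeSpectrum.le_iff_specializes p' p).1 hle
      have h2 := hspec _ hp _ hp' (h1.map hV'.fromSpec.continuous)
      exact hV'.fromSpec.isOpenEmbedding.injective h2) qt
  refine ⟨hW₀'.fromSpec ''ᵁ (PrimeSpectrum.basicOpen r), ⟨qt, hr1, hqt⟩, ?_⟩
  rintro _ ⟨q, hq, rfl⟩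
  have h1 := hcomm q
  have h2 := hcomm qt
  rw [hr2 q hq] at h1
  rw [← hqt]
  exact h1.symm.trans h2

end Groth.Agent.Lib.Helper12.NoethConst
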