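import Mathlib
import Groth.Agent.Lib.Helper12Reduced
import Groth.Agent.Lib.Helper12LocPCases
import Groth.Agent.S9948
import Groth.Agent.S9906
open CategoryTheory AlgebraicGeometry
universe u

namespace Groth.Agent.Lib.Helper12.OnePoint

/-- the local rings of a scheme etale over a field have a single prime. -/
lemma subsingleton_primeSpectrum_stalk {X : Scheme.{u}} (k : Type u) [Field k]
    (h : X ⟶ Spec (CommRingCat.of k)) [Etale h] (x : X) :
    Subsingleton (PrimeSpectrum (X.presheaf.stalk x)) := by
  obtain ⟨V, hV, hxV, -⟩ : ∃ V : X.Opens, V ∈ X.affineOpens ∧ x ∈ V ∧ V ≤ (⊤ : X.Opens) :=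
    TopologicalSpace.Opens.isBasis_iff_nbhd.1 X.isBasis_affineOpens
      (show x ∈ (⊤ : X.Opens) from trivial)
  have h1 : (h.appLE ⊤ V le_top).hom.FiniteType :=
    HasRingHomProperty.appLE (P := @LocallyOfFiniteType) h inferInstance
      ⟨⊤, isAffineOpen_top _⟩ ⟨V, hV⟩ le_top
  have h2 : (h.appLE ⊤ V le_top).hom.FormallyUnramified :=
    HasRingHomProperty.appLE (P := @FormallyUnramified) h inferInstance
      ⟨⊤, isAffineOpen_top _⟩ ⟨V, hV⟩ le_top
  let e := (Scheme.ΓSpecIso (CommRingCat.of k)).symm.commRingCatIsoToRingEquiv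
  let ψ : k →+* Γ(X, V) := (h.appLE ⊤ V le_top).hom.comp e.toRingHom
  have hψ1 : ψ.FiniteType := h1.comp (RingHom.FiniteType.of_surjective _ e.surjective)
  have hψ2 : ψ.FormallyUnramified := RingHom.FormallyUnramified.respectsIso.2 _ e h2
  algebraize [ψ]
  haveI : Algebra.EssFiniteType k Γ(X, V) := inferInstance
  haveI : Module.Finite k Γ(X, V) := Algebra.FormallyUnramified.finite_of_free k _
  haveI : IsArtinianRing Γ(X, V) := .of_finite k _
  haveI : Ring.KrullDimLE 0 Γ(X, V) := inferInstance
  letI := X.presheaf.algebra_section_stalk (⟨x, hxV⟩ : V)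
  haveI := hV.isLocalization_stalk ⟨x, hxV⟩
  have hp : (hV.primeIdealOf ⟨x, hxV⟩).asIdeal ∈ minimalPrimes Γ(X, V) :=
    Ideal.mem_minimalPrimes_of_krullDimLE_zero _
  exact IsLocalization.subsingleton_primeSpectrum_of_mem_minimalPrimes _ hp _


/-- a reduced local ring with a flat local homomorphism to a ring with a single prime is a field. -/
lemma isField_of_flat_of_subsingleton {A B : Type u} [CommRing A] [CommRing B] [IsLocalRing A]
    [IsLocalRing B] [IsReduced A] (f : A →+* B) (hf : f.Flat) [hloc : IsLocalHom f]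
    [Subsingleton (PrimeSpectrum B)] : IsField A := by
  algebraize [f]
  haveI : IsLocalHom (algebraMap A B) := hloc
  haveI : Module.FaithfullyFlat A B := .of_flat_of_isLocalHom
  have hs : Function.Surjective (PrimeSpectrum.comap (algebraMap A B)) :=
    PrimeSpectrum.comap_surjective_of_faithfullyFlat
  haveI : Subsingleton (PrimeSpectrum A) := hs.subsingleton
  exact PrimeSpectrum.subsingleton_iff_isField_of_isReduced.1 inferInstance

open AlgSp CategoryTheory.Limits in
/-- if an algebraic space receives a flat surjective map from the spectrum of a field, every scheme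
etale over it is reduced with all local rings fields. -/
theorem isField_stalk_of_etale {S : Scheme.{u}} (Z : AlgSp.Space S) (k : Type u) [Field k]
    (str : Spec (CommRingCat.of k) ⟶ S) (p : (AlgSp.yon S).obj (Over.mk str) ⟶ Z.obj)
    (hpf : AlgSp.LocP @Flat p) (hps : AlgSp.IsSurjectiveMor p) {W : Over S}
    (a : (AlgSp.yon S).obj W ⟶ Z.obj) (hae : AlgSp.RepWith @Etale a) :
    IsReduced W.left ∧ ∀ w : W.left, IsField (W.left.presheaf.stalk w) := by
  have hgf := Groth.Agent.Lib.Helper12.LocPCases.good_flat.{u}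
  have hrep : AlgSp.Representable p := Z.property.representable_from_yon p
  haveI := hgf.bc
  haveI := hgf.comp
  haveI := hgf.desc
  have h1 : AlgSp.RepWith @Flat p :=
    (Groth.Agent.S9948.locP_iff_repWith @Flat hgf.hEt Z.property p hrep).1 hpf
  have h3 : AlgSp.RepWith @Surjective p :=
    Groth.Agent.S9906.repWith_surjective_of_surjective_map p hrep hps
  have sq := h1.rep.isPullback' a
  haveI : Flat (h1.rep.snd a).left := h1.property_snd a
  haveI : Surjective (h1.rep.snd a).left := h3.2 a _ _ (h1.rep.isPullback a)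
  haveI hfe : Etale (h1.rep.fst' a).left := hae.2 p _ _ sq.flip
  haveI : IsReduced (Over.mk str).left :=
    (inferInstance : IsReduced (Spec (CommRingCat.of k)))
  haveI : IsReduced (h1.rep.pullback a).left :=
    Groth.Agent.Lib.Helper12.Reduced.isReduced_of_smooth (h1.rep.fst' a).left
  haveI hW : IsReduced W.left :=
    Groth.Agent.Lib.Helper12.Reduced.isReduced_of_flat_of_surjective (h1.rep.snd a).left
  refine ⟨hW, fun w => ?_⟩
  obtain ⟨w', rfl⟩ := (h1.rep.snd a).left.surjective w
  haveI := subsingleton_primeSpectrum_stalk k (h1.rep.fst' a).left w'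
  exact isField_of_flat_of_subsingleton ((h1.rep.snd a).left.stalkMap w').hom
    (Flat.stalkMap (h1.rep.snd a).left w')

end Groth.Agent.Lib.Helper12.OnePoint
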