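import Mathlib
import Groth.Agent.S10198

set_option autoImplicit false
universe u
open CategoryTheory CategoryTheory.Limits AlgebraicGeometry Opposite
open AlgSp

namespace Groth.Agent.Lib.Helper12.OpenImage

open Groth.Agent.Lib.Helper12

variable {S : Scheme.{u}}

/-- an etale chart factors through the open subspace on its image by an etale surjective chart. -/
theorem exists_chart_onto_image {X : AlgSp.Sp S} {O : Over S} (φ : (AlgSp.yon S).obj O ⟶ X)
    (hφ : AlgSp.RepWith @Etale φ) :
    IsOpen (Set.range (AlgSp.Points.ofPt φ)) ∧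
      ∃ p : (AlgSp.yon S).obj O ⟶ OpenSub.obj X (Set.range (AlgSp.Points.ofPt φ)),
        p ≫ OpenSub.incl X (Set.range (AlgSp.Points.ofPt φ)) = φ ∧ AlgSp.RepWith @Etale p ∧
          AlgSp.RepWith @Surjective p := by
  have hW : IsOpen (Set.range (AlgSp.Points.ofPt φ)) :=
    (Groth.Agent.S10176.isOpenMap_ofPt φ hφ).isOpen_range
  obtain ⟨p, hp⟩ := (OpenSub.factor_iff (Set.range (AlgSp.Points.ofPt φ)) φ).2 (fun t => ⟨t, rfl⟩)
  have hopen := OpenSub.repWith_incl (X := X) hW
  have hinj := LargestOpen.injective_map_of_open _ hopen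
  have hpe : AlgSp.RepWith @Etale p :=
    Groth.Agent.S10412.repWith_of_comp_mono @Etale p
      (OpenSub.incl X (Set.range (AlgSp.Points.ofPt φ))) (by rw [hp]; exact hφ)
  refine ⟨hW, p, hp, hpe, ?_⟩
  refine (AlgSp.repWith_iff _ _).2 ⟨hpe.1, fun T V g fst' snd sq => ?_⟩
  obtain ⟨fst, rfl⟩ := (AlgSp.yon S).map_surjective fst'
  refine ⟨fun t => ?_⟩
  have hmem : AlgSp.Points.map (OpenSub.incl X (Set.range (AlgSp.Points.ofPt φ)))
      (AlgSp.Points.ofPt g t) ∈ Set.range (AlgSp.Points.ofPt φ) := by
    have h := OpenSub.range_map_incl (X := X) (Set.range (AlgSp.Points.ofPt φ))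
    have h2 : AlgSp.Points.map (OpenSub.incl X (Set.range (AlgSp.Points.ofPt φ)))
        (AlgSp.Points.ofPt g t) ∈ Set.range
          (AlgSp.Points.map (OpenSub.incl X (Set.range (AlgSp.Points.ofPt φ)))) := ⟨_, rfl⟩
    exact h.subset h2
  obtain ⟨v, hv⟩ := hmem
  have e : AlgSp.Points.ofPt p v = AlgSp.Points.ofPt g t := by
    apply hinj
    rw [AlgSp.Points.map_ofPt, hp]
    exact hv
  obtain ⟨y, -, hy⟩ := Groth.Agent.S10176.exists_point_of_isPullback_yon sq v t e
  exact ⟨y, hy⟩

/-- an etale surjective chart whose self fibre product is quasi-compact over it is quasi-compact. -/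
theorem repWith_quasiCompact_of_self {X : AlgSp.Sp S} {U R : Over S}
    (p : (AlgSp.yon S).obj U ⟶ X) (he : AlgSp.RepWith @Etale p)
    (hs : AlgSp.RepWith @Surjective p) (s t : R ⟶ U)
    (sq : IsPullback ((AlgSp.yon S).map t) ((AlgSp.yon S).map s) p p) [QuasiCompact s.left] :
    AlgSp.RepWith @QuasiCompact p := by
  haveI := Groth.Agent.Lib.Helper12.descendsAlong_quasiCompact.{u}
  exact Groth.Agent.Lib.Helper12.AtlasDescent.repWith_of_atlas @QuasiCompact p he.1
    p he hs ((AlgSp.yon S).map t) s sq inferInstance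

/-- a sheaf with representable diagonal admitting a quasi-compact etale surjective chart from an
affine scheme is quasi-separated over `S`. -/
theorem isQuasiSeparatedSp_of_chart {X : AlgSp.Sp S} (hd : AlgSp.Representable (Limits.diag X))
    {U : Over S} [IsAffine U.left] (p : (AlgSp.yon S).obj U ⟶ X)
    (hq : AlgSp.RepWith @QuasiCompact p) (he : AlgSp.RepWith @Etale p)
    (hs : AlgSp.RepWith @Surjective p) : AlgSp.IsQuasiSeparatedSp X := by
  obtain ⟨R, s, t', sq⟩ := he.1 p
  obtain ⟨t, rfl⟩ := (AlgSp.yon S).map_surjective t'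
  haveI : QuasiCompact s.left := hq.2 _ _ s sq
  haveI : CompactSpace ↥U.left := inferInstance
  haveI : CompactSpace ↥R.left := QuasiCompact.compactSpace_of_compactSpace s.left
  haveI : QuasiSeparatedSpace ↥(U ⨯ U).left := Groth.Agent.S10198.quasiSeparatedSpace_prod U
  have sqD := QSep.isPullback_diag p p t s sq
  haveI := Groth.Agent.Lib.Helper12.descendsAlong_quasiCompact.{u}
  haveI : QuasiCompact (prod.lift t s).left := quasiCompact_of_compactSpace _
  exact AtlasDescent.repWith_of_atlas @QuasiCompact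
    (Limits.diag X) hd _ (Groth.Agent.S10198.repWith_prod_chart @Etale p he)
    (Groth.Agent.S10198.repWith_prod_chart @Surjective p hs) _ (prod.lift t s) sqD inferInstance

end Groth.Agent.Lib.Helper12.OpenImage
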