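import Mathlib
import Groth.Agent.Lib.Helper12SubQuotE
import Groth.Prelude.Def_ParBun
set_option backward.isDefEq.respectTransparency.types false

/-!
# Pullback / image short exact sequence of a subobject along a short exact sequence (helper12)
-/

set_option autoImplicit false
set_option linter.unusedSectionVars false
set_option linter.style.haveILetI false
universe v u
open CategoryTheory CategoryTheory.Limits

namespace Groth.Agent.Lib.Helper12.SubQF

variable {C : Type u} [Category.{v} C] [Abelian C]

variable {F E G : C} (i : F ⟶ E) (p : E ⟶ G) (w : i ≫ p = 0)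

include w in
theorem pullbackπ_comp_factorThru (A : Subobject E) :
    Subobject.pullbackπ i A ≫ factorThruImageSubobject (A.arrow ≫ p) = 0 := by
  rw [← cancel_mono (imageSubobject (A.arrow ≫ p)).arrow, Category.assoc, imageSubobject_arrow_comp,
    Limits.zero_comp, ← Category.assoc, (Subobject.isPullback i A).w, Category.assoc, w, Limits.comp_zero]

theorem pullback_image_shortExact (hS : (ShortComplex.mk i p w).ShortExact) (A : Subobject E) :
    (ShortComplex.mk (Subobject.pullbackπ i A) (factorThruImageSubobject (A.arrow ≫ p))
      (pullbackπ_comp_factorThru i p w A)).ShortExact := by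
  haveI : Mono i := hS.mono_f
  haveI : Mono (Subobject.pullbackπ i A) := (Subobject.isPullback i A).mono_fst_of_mono
  refine ShortComplex.ShortExact.mk' ?_ inferInstance inferInstance
  refine ShortComplex.exact_of_f_is_kernel _ ?_
  refine KernelFork.IsLimit.ofι' _ _ (fun {T} x hx => ?_)
  have h1 : (x ≫ A.arrow) ≫ p = 0 := by
    have := congrArg (fun z => z ≫ (imageSubobject (A.arrow ≫ p)).arrow) hx
    simpa using this
  let y : T ⟶ F := hS.fIsKernel.lift (KernelFork.ofι (x ≫ A.arrow) h1)
  have hy : y ≫ i = x ≫ A.arrow := hS.fIsKernel.fac (KernelFork.ofι (x ≫ A.arrow) h1) WalkingParallelPair.zero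
  exact ⟨(Subobject.isPullback i A).lift x y hy.symm, (Subobject.isPullback i A).lift_fst _ _ _⟩

end Groth.Agent.Lib.Helper12.SubQF
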