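import Mathlib
import Groth.Agent.Lib.Helper12SubQuotF
import Groth.Agent.Lib.Helper12HilbPolyC
import Groth.Prelude.Def_ParBun
set_option backward.isDefEq.respectTransparency.types false

/-!
# Additivity of the parabolic Hilbert function on a parabolic extension (helper12)
-/

set_option autoImplicit false
set_option linter.style.haveILetI false
set_option linter.unusedSectionVars false
set_option linter.unusedVariables false
universe u
open CategoryTheory CategoryTheory.Limits AlgebraicGeometry TopologicalSpace Opposite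

namespace Groth.Agent.Lib.Helper12.ParA

open Groth.Agent.Lib.Helper4.Dev Groth.Agent.Lib.Helper4.CurveChi
  Groth.Agent.Lib.Helper12.Snap Groth.Agent.Lib.Helper12.Pos Groth.Agent.Lib.Helper12.HP
  Groth.Agent.Lib.Helper12.HPC Groth.Agent.Lib.Helper12.SubQF

section Generic

variable {C : Type*} [Category C] [Abelian C] {E : C} (𝓔 : ParSh.Str E)

theorem pieceX_induced {F : C} (i : F ⟶ E) (j : Fin (𝓔.l + 2)) :
    (𝓔.induced i).pieceX j = (Subobject.pullback i).obj (𝓔.pieceX j) := by
  induction j using Fin.lastCases with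
  | last =>
    rw [ParSh.Str.pieceX_last]
    exact (𝓔.induced i).pieceX_last
  | cast j =>
    rw [ParSh.Str.pieceX_castSucc]
    exact (𝓔.induced i).pieceX_castSucc j

theorem pieceX_coinduced {G : C} (p : E ⟶ G) [Epi p] (j : Fin (𝓔.l + 2)) :
    (𝓔.coinduced p).pieceX j = imageSubobject ((𝓔.pieceX j).arrow ≫ p) := by
  induction j using Fin.lastCases with
  | last =>
    rw [ParSh.Str.pieceX_last]
    exact (𝓔.coinduced p).pieceX_last
  | cast j =>
    rw [ParSh.Str.pieceX_castSucc]
    exact (𝓔.coinduced p).pieceX_castSucc j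

end Generic

variable (k : Type u) [Field k] (X : Scheme.{u}) [X.Over (Spec (CommRingCat.of k))]
  [IsProper (X ↘ (Spec (CommRingCat.of k)))] (L : X.Modules) (hL : PicF.IsInvertible L)

include hL in
theorem euler_pullback_add_image {F E G : X.Modules} (hF : Coh.IsCoh F) (hE : Coh.IsCoh E) (hG : Coh.IsCoh G)
    (i : F ⟶ E) (p : E ⟶ G) (w : i ≫ p = 0) (hS : (ShortComplex.mk i p w).ShortExact)
    (A : Subobject E) (hA : Coh.IsCoh (A : X.Modules)) (m : ℕ) :
    (Curv2.euler k X (ShStab.twist X L (((Subobject.pullback i).obj A : Subobject F) : X.Modules) m) : ℝ) +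
      (Curv2.euler k X (ShStab.twist X L ((imageSubobject (A.arrow ≫ p) : Subobject G) : X.Modules) m) : ℝ) =
      (Curv2.euler k X (ShStab.twist X L (A : X.Modules) m) : ℝ) := by
  haveI : IsNoetherian X := Groth.Agent.Lib.Helper4.CurveRR.isNoetherian_of_proper k X
  haveI : IsLocallyNoetherian X := inferInstance
  have hSA := pullback_image_shortExact i p w hS A
  have h3 : Coh.IsCoh ((imageSubobject (A.arrow ≫ p) : Subobject G) : X.Modules) :=
    isCoh_of_iso ((Abelian.imageIsoImage (A.arrow ≫ p)) ≪≫ (imageSubobjectIso (A.arrow ≫ p)).symm)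
      (isCoh_image (A.arrow ≫ p) hA hG)
  have h1 : Coh.IsCoh (((Subobject.pullback i).obj A : Subobject F) : X.Modules) := by
    have e := IsLimit.conePointUniqueUpToIso hSA.fIsKernel
      (kernelIsKernel (factorThruImageSubobject (A.arrow ≫ p)))
    exact isCoh_of_iso e.symm (isCoh_kernel _ hA h3)
  have := (isAdd_chiTw k X L hL m).add _ hSA h1 hA h3
  change chiTw k X L (A : X.Modules) m =
    chiTw k X L (((Subobject.pullback i).obj A : Subobject F) : X.Modules) m +
      chiTw k X L ((imageSubobject (A.arrow ≫ p) : Subobject G) : X.Modules) m at this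
  change ((chiTw k X L (((Subobject.pullback i).obj A : Subobject F) : X.Modules) m : ℤ) : ℝ) +
    ((chiTw k X L ((imageSubobject (A.arrow ≫ p) : Subobject G) : X.Modules) m : ℤ) : ℝ) =
    ((chiTw k X L (A : X.Modules) m : ℤ) : ℝ)
  rw [this]
  push_cast
  rfl

include hL in
theorem parHilb_add {F E G : X.Modules} (hF : Coh.IsCoh F) (hE : Coh.IsCoh E) (hG : Coh.IsCoh G)
    (i : F ⟶ E) (p : E ⟶ G) [Epi p] (w : i ≫ p = 0) (hS : (ShortComplex.mk i p w).ShortExact)
    (𝓔 : ParSh.Str E)
    (hcoh : ∀ j, Coh.IsCoh ((𝓔.piece j : Subobject E) : X.Modules))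
    (hbot : Coh.IsCoh ((𝓔.bot : Subobject E) : X.Modules)) (m : ℕ) :
    (𝓔.induced i).parHilb k X L m + (𝓔.coinduced p).parHilb k X L m = 𝓔.parHilb k X L m := by
  have hcohX : ∀ j, Coh.IsCoh ((𝓔.pieceX j : Subobject E) : X.Modules) := by
    intro j
    induction j using Fin.lastCases with
    | last => rw [ParSh.Str.pieceX_last]; exact hbot
    | cast j => rw [ParSh.Str.pieceX_castSucc]; exact hcoh j
  have key := fun (A : Subobject E) (hA : Coh.IsCoh (A : X.Modules)) =>
    euler_pullback_add_image k X L hL hF hE hG i p w hS A hA m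
  have e1 : ∀ j : Fin (𝓔.l + 1), (𝓔.induced i).pieceX j.succ = (Subobject.pullback i).obj (𝓔.pieceX j.succ) :=
    fun j => pieceX_induced 𝓔 i j.succ
  have e2 : ∀ j : Fin (𝓔.l + 1), (𝓔.coinduced p).pieceX j.succ =
      imageSubobject ((𝓔.pieceX j.succ).arrow ≫ p) := fun j => pieceX_coinduced 𝓔 p j.succ
  let φ : X.Modules → ℝ := fun M => (Curv2.euler k X (ShStab.twist X L M m) : ℝ)
  have hF' : (𝓔.induced i).parHilb k X L m =
      φ (((Subobject.pullback i).obj 𝓔.bot : Subobject F) : X.Modules) +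
        ∑ j : Fin (𝓔.l + 1), 𝓔.wt j * (φ (((Subobject.pullback i).obj (𝓔.piece j) : Subobject F) : X.Modules) -
          φ (((Subobject.pullback i).obj (𝓔.pieceX j.succ) : Subobject F) : X.Modules)) := by
    unfold ParSh.Str.parHilb ParSh.Str.parSum
    refine congrArg₂ (· + ·) rfl (Finset.sum_congr rfl (fun j _ => ?_))
    exact congrArg (fun B : Subobject F => 𝓔.wt j *
      (φ (((Subobject.pullback i).obj (𝓔.piece j) : Subobject F) : X.Modules) - φ (B : X.Modules))) (e1 j)
  have hG' : (𝓔.coinduced p).parHilb k X L m =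
      φ ((imageSubobject (𝓔.bot.arrow ≫ p) : Subobject G) : X.Modules) +
        ∑ j : Fin (𝓔.l + 1), 𝓔.wt j * (φ ((imageSubobject ((𝓔.piece j).arrow ≫ p) : Subobject G) : X.Modules) -
          φ ((imageSubobject ((𝓔.pieceX j.succ).arrow ≫ p) : Subobject G) : X.Modules)) := by
    unfold ParSh.Str.parHilb ParSh.Str.parSum
    refine congrArg₂ (· + ·) rfl (Finset.sum_congr rfl (fun j _ => ?_))
    exact congrArg (fun B : Subobject G => 𝓔.wt j *
      (φ ((imageSubobject ((𝓔.piece j).arrow ≫ p) : Subobject G) : X.Modules) - φ (B : X.Modules))) (e2 j)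
  have hE' : 𝓔.parHilb k X L m = φ ((𝓔.bot : Subobject E) : X.Modules) +
        ∑ j : Fin (𝓔.l + 1), 𝓔.wt j * (φ ((𝓔.piece j : Subobject E) : X.Modules) -
          φ ((𝓔.pieceX j.succ : Subobject E) : X.Modules)) := rfl
  have key' : ∀ (A : Subobject E), Coh.IsCoh (A : X.Modules) →
      φ (((Subobject.pullback i).obj A : Subobject F) : X.Modules) +
        φ ((imageSubobject (A.arrow ≫ p) : Subobject G) : X.Modules) = φ (A : X.Modules) := key
  rw [hF', hG', hE', ← key' 𝓔.bot hbot]
  have hsum : ∀ j : Fin (𝓔.l + 1), 𝓔.wt j * (φ ((𝓔.piece j : Subobject E) : X.Modules) -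
          φ ((𝓔.pieceX j.succ : Subobject E) : X.Modules)) =
      𝓔.wt j * (φ (((Subobject.pullback i).obj (𝓔.piece j) : Subobject F) : X.Modules) -
          φ (((Subobject.pullback i).obj (𝓔.pieceX j.succ) : Subobject F) : X.Modules)) +
      𝓔.wt j * (φ ((imageSubobject ((𝓔.piece j).arrow ≫ p) : Subobject G) : X.Modules) -
          φ ((imageSubobject ((𝓔.pieceX j.succ).arrow ≫ p) : Subobject G) : X.Modules)) := by
    intro j
    rw [← key' (𝓔.piece j) (hcoh j), ← key' (𝓔.pieceX j.succ) (hcohX j.succ)]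
    ring
  rw [Finset.sum_congr rfl (fun j _ => hsum j), Finset.sum_add_distrib]
  ring

end Groth.Agent.Lib.Helper12.ParA
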