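import Groth.Agent.Lib.Helper27CMRegPn

/-!
# Castelnuovo–Mumford regularity on `P^n`: long exact sequence consequences (helper27)

* `subsingleton_X₂_of_shortExact` : exactness of the long exact cohomology sequence in the middle.
* `vanishing_of_isMRegular` : an `m`-regular quasi-coherent module on `P^n_k` has
  `H^q(F(m - q)) = 0` for *all* `q ≥ 1`; `vanishing_ge_of_isMRegular` : and `H^q(F(r)) = 0` for
  `q ≥ 1`, `r ≥ m - q`.
* `subsingleton_HH_twist_twist` : `H^q((F(a))(b)) = 0` if `H^q(F(a + b)) = 0`.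
* `isMRegular_of_shortExact`, `isMRegular_cokernel`.
-/

set_option autoImplicit false
universe u
open CategoryTheory Limits AlgebraicGeometry TopologicalSpace Opposite Abelian

namespace Groth.Agent.Lib.Helper27CMReg2

open Groth.Agent.Lib.Helper23.QCohLocal Groth.Agent.Lib.Helper27SerreVan
  Groth.Agent.Lib.Helper27SerreVanPn Groth.Agent.Lib.Helper27CMRegPn
  Groth.Agent.Lib.Helper23.LocGen Groth.Agent.Lib.Helper23.AmpleIso

section General

variable {X : Scheme.{u}}

/-- exactness of the long exact sequence at `H^i(X₂)`. -/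
theorem subsingleton_X₂_of_shortExact (S : ShortComplex X.Modules) (hS : S.ShortExact) (i : ℕ)
    (h1 : Subsingleton (Coh.HH X S.X₁ i)) (h3 : Subsingleton (Coh.HH X S.X₃ i)) :
    Subsingleton (Coh.HH X S.X₂ i) := by
  have key : ∀ x : Coh.HH X S.X₂ i, x = 0 := by
    intro x
    have hS' := shortExact_toAbF S hS
    obtain ⟨y, hy⟩ := Ext.covariant_sequence_exact₂ _ hS' (n := i) x
      (Subsingleton.elim (α := Coh.HH X S.X₃ i) _ _)
    have hy0 : y = 0 := Subsingleton.elim (α := Coh.HH X S.X₁ i) _ _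
    rw [← hy, hy0, Ext.zero_comp]
    rfl
  exact ⟨fun x y => (key x).trans (key y).symm⟩

end General

variable (n : ℕ) (k : Type u) [Field k]

theorem isQuasicoherent_twisted (F : (CohB1.ProjSpace n k).Modules) (hF : F.IsQuasicoherent)
    (d : ℤ) : (CohB1.tensorMod F (Twist.twistProjSpace n k d)).IsQuasicoherent := by
  have := hF
  have : (Twist.twistProjSpace n k d).IsQuasicoherent :=
    (Groth.Agent.Lib.Helper27TwistCoh.isCoh_twist n k d).1
  exact Groth.Agent.Lib.Helper23.TensorQCoh.isQuasicoherent_tensorMod F _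

theorem vanishing_of_isMRegular (F : (CohB1.ProjSpace n k).Modules) (hF : F.IsQuasicoherent)
    (m : ℤ) (h : Curv2.IsMRegular k n F m) :
    ∀ q : ℕ, 1 ≤ q → Subsingleton (Coh.HH (CohB1.ProjSpace n k)
      (CohB1.tensorMod F (Twist.twistProjSpace n k (m - q))) q) := by
  intro q hq1
  by_cases hqn : q ≤ n
  · exact h q hq1 hqn
  · exact subsingleton_HH_gt n k _ (isQuasicoherent_twisted n k F hF _) q (by omega)

theorem vanishing_ge_of_isMRegular (F : (CohB1.ProjSpace n k).Modules) (hF : F.IsQuasicoherent)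
    (m : ℤ) (h : Curv2.IsMRegular k n F m) (q : ℕ) (r : ℤ) (hq : 1 ≤ q) (hr : m - q ≤ r) :
    Subsingleton (Coh.HH (CohB1.ProjSpace n k)
      (CohB1.tensorMod F (Twist.twistProjSpace n k r)) q) := by
  have h' := regular_add_pn n k F hF m (vanishing_of_isMRegular n k F hF m h) (r - m + q).toNat q hq
  rw [show m + (((r - m + q).toNat : ℕ) : ℤ) - (q : ℤ) = r by
    rw [Int.toNat_of_nonneg (by omega)]; ring] at h'
  exact h'

theorem subsingleton_HH_twist_twist (F : (CohB1.ProjSpace n k).Modules) (a b c : ℤ)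
    (hc : a + b = c) (q : ℕ)
    (h : Subsingleton (Coh.HH (CohB1.ProjSpace n k)
      (CohB1.tensorMod F (Twist.twistProjSpace n k c)) q)) :
    Subsingleton (Coh.HH (CohB1.ProjSpace n k)
      (CohB1.tensorMod (CohB1.tensorMod F (Twist.twistProjSpace n k a))
        (Twist.twistProjSpace n k b)) q) := by
  subst hc
  obtain ⟨e⟩ := nonempty_twist_tensor_iso n k a b
  exact subsingleton_HH_of_iso (tensorAssoc F _ _ ≪≫ tensorModIso (Iso.refl F) e) q h

/-- in a short exact sequence, if the outer terms are `m`-regular, so is the middle one. -/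
theorem isMRegular_of_shortExact (S : ShortComplex (CohB1.ProjSpace n k).Modules)
    (hS : S.ShortExact) (m : ℤ)
    (hreg₁ : Curv2.IsMRegular k n S.X₁ m) (hreg₃ : Curv2.IsMRegular k n S.X₃ m) :
    Curv2.IsMRegular k n S.X₂ m := by
  intro i hi1 hin
  have hS' := shortExact_tw (Twist.twistProjSpace n k (m - i)) (isInvertible_twist n k _) S hS
  exact subsingleton_X₂_of_shortExact _ hS' i (hreg₁ i hi1 hin) (hreg₃ i hi1 hin)

/-- the cokernel of a monomorphism `F(-1) ⟶ F` with `F` `m`-regular is `m`-regular. -/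
theorem isMRegular_cokernel (F : (CohB1.ProjSpace n k).Modules) (hF : F.IsQuasicoherent) (m : ℤ)
    (hreg : Curv2.IsMRegular k n F m)
    (ι : CohB1.tensorMod F (Twist.twistProjSpace n k (-1)) ⟶ F) [Mono ι] :
    Curv2.IsMRegular k n (cokernel ι) m := by
  intro i hi1 _
  let S : ShortComplex (CohB1.ProjSpace n k).Modules :=
    ShortComplex.mk ι (cokernel.π ι) (cokernel.condition ι)
  have hS : S.ShortExact :=
    { exact := ShortComplex.exact_of_g_is_cokernel _ (cokernelIsCokernel ι)
      mono_f := (inferInstance : Mono ι)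
      epi_g := (inferInstance : Epi (cokernel.π ι)) }
  have hS' := shortExact_tw (Twist.twistProjSpace n k (m - i)) (isInvertible_twist n k _) S hS
  have hall := vanishing_of_isMRegular n k F hF m hreg
  have h2 : Subsingleton (Coh.HH (CohB1.ProjSpace n k) (S.map (tw (Twist.twistProjSpace n k
      (m - i)))).X₂ i) := hall i hi1
  have h1 : Subsingleton (Coh.HH (CohB1.ProjSpace n k) (S.map (tw (Twist.twistProjSpace n k
      (m - i)))).X₁ (i + 1)) :=
    subsingleton_HH_twist_twist n k F (-1) (m - i) (m - ((i + 1 : ℕ) : ℤ)) (by push_cast; ring)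
      (i + 1) (hall (i + 1) (by omega))
  exact subsingleton_of_shortExact _ hS' i h2 h1

end Groth.Agent.Lib.Helper27CMReg2
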