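import Groth.Agent.Lib.Helper27GenTop
import Groth.Agent.Lib.Helper27KoszReg
import Groth.Agent.Lib.Helper27CMReg2
import Groth.Agent.Lib.Helper27PnDualCoh
import Groth.Agent.Lib.Helper21ModTensor7

/-!
# Castelnuovo–Mumford: an `m`-regular coherent module on `P^n` has `F(m)` globally generated
(helper27)
-/

set_option autoImplicit false
universe u

open CategoryTheory CategoryTheory.Limits AlgebraicGeometry TopologicalSpace Opposite
  HomogeneousLocalization MvPolynomial

namespace Groth.Agent.Lib.Helper27GlobGenPn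

open Groth.Agent.Lib.Helper27PnHom Groth.Agent.Lib.Helper27KoszHom
  Groth.Agent.Lib.Helper27KoszPn Groth.Agent.Lib.Helper27KoszReg
  Groth.Agent.Lib.Helper27SerreVan Groth.Agent.Lib.Helper27CMReg Groth.Agent.Lib.Helper27GenTop
  Groth.Agent.Lib.Helper27CoprodFin Groth.Agent.Lib.Helper21.ModTensor3
  Groth.Agent.Lib.Helper21.ModTensor5
  Groth.Agent.Lib.Helper21.ModTensor6 Groth.Agent.Lib.Helper21.ModTensor7
  Groth.Agent.Lib.Helper27PnLau Groth.Agent.Lib.Helper27PnLauMul Groth.Agent.Lib.Helper27Laurent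
  Groth.Agent.Lib.Helper6

section Abstract

variable {X : Scheme.{u}}

/-- a morphism kills all global sections. -/
def KillsTop {M N : X.Modules} (f : M ⟶ N) : Prop := ∀ s : Γ(M, ⊤), f.app ⊤ s = 0

theorem killsTop_zero {M N : X.Modules} : KillsTop (0 : M ⟶ N) := by
  intro s
  rw [Scheme.Modules.Hom.zero_app]
  rfl

theorem killsTop_add {M N : X.Modules} {f g : M ⟶ N} (hf : KillsTop f) (hg : KillsTop g) :
    KillsTop (f + g) := by
  intro s
  rw [Scheme.Modules.Hom.add_app]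
  change f.app ⊤ s + g.app ⊤ s = 0
  rw [hf s, hg s, add_zero]

theorem killsTop_comp {M' M N N' : X.Modules} (a : M' ⟶ M) {f : M ⟶ N} (b : N ⟶ N')
    (hf : KillsTop f) : KillsTop (a ≫ f ≫ b) := by
  intro s
  rw [Scheme.Modules.Hom.comp_app, Scheme.Modules.Hom.comp_app]
  change b.app ⊤ (f.app ⊤ (a.app ⊤ s)) = 0
  rw [hf, map_zero]

theorem killsTop_sum {M N : X.Modules} {ι : Type*} (s : Finset ι) (f : ι → (M ⟶ N))
    (hf : ∀ i ∈ s, KillsTop (f i)) : KillsTop (∑ i ∈ s, f i) :=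
  Finset.sum_induction f KillsTop (fun _ _ => killsTop_add) killsTop_zero hf

/-- `L ⊗ -` as an endofunctor of `X.Modules`. -/
noncomputable def tl (L : X.Modules) : X.Modules ⥤ X.Modules := tL X.sheaf L

theorem tl_obj (L F : X.Modules) : (tl L).obj F = CohB1.tensorMod L F := rfl

instance tl_additive (L : X.Modules) : (tl L).Additive := tL_additive X.sheaf L

/-- `δ ⊗ G`. -/
noncomputable def wl {L L' : X.Modules} (δ : L ⟶ L') (G : X.Modules) :
    CohB1.tensorMod L G ⟶ CohB1.tensorMod L' G := (tw G).map δ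

/-- `L ⊗ h`. -/
noncomputable def wr (L : X.Modules) {G N : X.Modules} (h : G ⟶ N) :
    CohB1.tensorMod L G ⟶ CohB1.tensorMod L N := (tl L).map h

theorem wl_id (L G : X.Modules) : wl (𝟙 L) G = 𝟙 _ := (tw G).map_id L

theorem wl_comp {L L' L'' : X.Modules} (δ : L ⟶ L') (δ' : L' ⟶ L'') (G : X.Modules) :
    wl (δ ≫ δ') G = wl δ G ≫ wl δ' G := (tw G).map_comp δ δ'

theorem wl_sum {L L' : X.Modules} {ι : Type*} (s : Finset ι) (δ : ι → (L ⟶ L')) (G : X.Modules) :
    wl (∑ i ∈ s, δ i) G = ∑ i ∈ s, wl (δ i) G := (tw G).map_sum δ s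

theorem wr_zero (L : X.Modules) (G N : X.Modules) : wr L (0 : G ⟶ N) = 0 := (tl L).map_zero _ _

/-- the interchange law for the tensor product bifunctor. -/
theorem interchange {L L' G N : X.Modules} (δ : L ⟶ L') (h : G ⟶ N) :
    wl δ G ≫ wr L' h = wr L h ≫ wl δ N :=
  (((ModSite.tensorBi X.sheaf).map δ).naturality h).symm

/-- if `L' ⊗ L ≅ O` then `L ⊗ -` is faithful. -/
theorem faithful_tl (L L' : X.Modules) (e : CohB1.tensorMod L' L ≅ Coh.structureModule X) :
    (tl L).Faithful := by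
  have i1 : tl L ⋙ tl L' ≅ 𝟭 X.Modules :=
    (tLTensorIso X.sheaf L' L).symm ≪≫ (ModSite.tensorBi X.sheaf).mapIso e ≪≫ tLUnitIso X.sheaf
  have : (tl L ⋙ tl L').Faithful := Functor.Faithful.of_iso i1.symm
  exact Functor.Faithful.of_comp (tl L) (tl L')

theorem wr_injective (L L' : X.Modules) (e : CohB1.tensorMod L' L ≅ Coh.structureModule X)
    {G N : X.Modules} (h h' : G ⟶ N) (hh : wr L h = wr L h') : h = h' :=
  (faithful_tl L L' e).map_injective hh

/-- the descent step: if `L₁ ⊗ G` is generated by global sections, `δ : ∐ L₀ ⟶ L₁` induces a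
surjection on global sections after tensoring with `G`, `L₀ ⊗ - ≅ 𝟭` and `L₁ ⊗ -` is faithful,
then `G` is generated by global sections. -/
theorem genTop_descent {r : ℕ} (L₀ L₁ G : X.Modules) (δ : (∐ fun _ : Fin r => L₀) ⟶ L₁)
    (η : ∀ G : X.Modules, CohB1.tensorMod L₀ G ≅ G)
    (hη : ∀ {G N : X.Modules} (h : G ⟶ N), wr L₀ h ≫ (η N).hom = (η G).hom ≫ h)
    (hfaith : ∀ {N : X.Modules} (h : G ⟶ N), wr L₁ h = 0 → h = 0)
    (hsurj : Function.Surjective ((wl δ G).app ⊤))
    (hgen : GenTop (CohB1.tensorMod L₁ G)) : GenTop G := by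
  intro N h hh
  -- `L₀ ⊗ h` kills global sections
  have h0 : KillsTop (wr L₀ h) := by
    have e : wr L₀ h = (η G).hom ≫ h ≫ (η N).inv := by
      rw [← Category.assoc, ← hη h, Category.assoc, Iso.hom_inv_id, Category.comp_id]
    rw [e]
    exact killsTop_comp _ _ hh
  -- `(∐ L₀) ⊗ h` kills global sections
  have h1 : KillsTop (wr (∐ fun _ : Fin r => L₀) h) := by
    have hid : 𝟙 (CohB1.tensorMod (∐ fun _ : Fin r => L₀) G) =
        ∑ i, wl (sigmaπ (fun _ : Fin r => L₀) i) G ≫ wl (Sigma.ι (fun _ : Fin r => L₀) i) G := by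
      rw [← wl_id, ← sum_sigmaπ_ι (fun _ : Fin r => L₀), wl_sum]
      refine Finset.sum_congr rfl (fun i _ => ?_)
      rw [wl_comp]
    have e : wr (∐ fun _ : Fin r => L₀) h =
        ∑ i, wl (sigmaπ (fun _ : Fin r => L₀) i) G ≫ wr L₀ h ≫
          wl (Sigma.ι (fun _ : Fin r => L₀) i) N := by
      calc wr (∐ fun _ : Fin r => L₀) h
          = 𝟙 (CohB1.tensorMod (∐ fun _ : Fin r => L₀) G) ≫ wr (∐ fun _ : Fin r => L₀) h :=
            (Category.id_comp _).symm
        _ = _ := by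
          rw [hid, Preadditive.sum_comp]
          refine Finset.sum_congr rfl (fun i _ => ?_)
          rw [Category.assoc, interchange]
    rw [e]
    exact killsTop_sum _ _ (fun i _ => killsTop_comp _ _ h0)
  -- `L₁ ⊗ h` kills global sections
  have h2 : wr L₁ h = 0 := by
    apply hgen
    intro s
    obtain ⟨s', rfl⟩ := hsurj s
    have e := interchange δ h
    have e' := congrArg (fun t : CohB1.tensorMod (∐ fun _ : Fin r => L₀) G ⟶ CohB1.tensorMod L₁ N =>
      t.app ⊤ s') e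
    simp only [Scheme.Modules.Hom.comp_app] at e'
    change (wr L₁ h).app ⊤ ((wl δ G).app ⊤ s') =
      (wl δ N).app ⊤ ((wr (∐ fun _ : Fin r => L₀) h).app ⊤ s') at e'
    rw [e', h1 s', map_zero]
  exact hfaith h h2

/-- `L₀ ≅ O` gives a natural isomorphism `L₀ ⊗ G ≅ G`. -/
theorem exists_eta (L₀ : X.Modules) (e : L₀ ≅ Coh.structureModule X) :
    ∃ η : ∀ G : X.Modules, CohB1.tensorMod L₀ G ≅ G,
      ∀ {G N : X.Modules} (h : G ⟶ N), wr L₀ h ≫ (η N).hom = (η G).hom ≫ h := by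
  let ν : tl L₀ ≅ 𝟭 X.Modules := (ModSite.tensorBi X.sheaf).mapIso e ≪≫ tLUnitIso X.sheaf
  exact ⟨fun G => ν.app G, fun h => ν.hom.naturality h⟩

theorem surjective_app_top_of_iso {M N : X.Modules} (e : M ≅ N) :
    Function.Surjective (e.hom.app ⊤) := by
  intro x
  refine ⟨e.inv.app ⊤ x, ?_⟩
  have h1 : (e.inv ≫ e.hom).app ⊤ x = (𝟙 N : N ⟶ N).app ⊤ x := by rw [e.inv_hom_id]
  rw [Scheme.Modules.Hom.comp_app, Scheme.Modules.Hom.id_app] at h1
  exact h1

end Abstract

section Pn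

variable (n : ℕ) (R : Type u) [CommRing R]

local notation "𝒢" => CohB1.polyGrading n R
local notation "σ'" => Fin (n + 1)

open Groth.Agent.Lib.Helper27PnDualCoh Groth.Agent.Lib.Helper27GrTildeSect

theorem gen_eq_res (e : ℕ) (i : σ') :
    gen (n := n) (R := R) (e : ℤ) i =
      (OO n R (e : ℤ)).presheaf.map (homOfLE (le_top : Ui n R i ≤ ⊤)).op
        (formSec e (X i ^ e) (X_pow_mem i e)) := by
  apply lau_injective (e : ℤ) (Finsupp.single i 1) (Ui n R i) rfl (by simp) (torus_le_Ui n R i)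
  rw [lau_gen, lau_map (e : ℤ) (torus_le_Ui n R i) le_top]
  unfold formSec
  rw [lau_fracSec_one, toL_X_pow]

theorem genTop_OO_nat (e : ℕ) : GenTop (OO n R (e : ℤ)) := by
  intro N f hf
  refine Groth.Agent.Lib.Helper27EpiGen.hom_ext_of_isGen _ _ (fun i : σ' => Ui n R i)
    (cover_Ui n R) (fun i => gen (e : ℤ) i) (fun i => isGen_gen _ i) f 0 (fun i => ?_)
  rw [gen_eq_res, Groth.Agent.Lib.Helper23.Extend.app_map f (homOfLE le_top), hf, map_zero,
    Scheme.Modules.Hom.zero_app]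
  rfl

theorem genTop_OO (d : ℤ) (hd : 0 ≤ d) : GenTop (OO n R d) := by
  obtain ⟨e, rfl⟩ : ∃ e : ℕ, d = (e : ℤ) := ⟨d.toNat, by omega⟩
  exact genTop_OO_nat n R e

theorem nonempty_OO_zero_iso : Nonempty (OO n R 0 ≅ Coh.structureModule (Proj 𝒢)) := by
  obtain ⟨e⟩ := nonempty_pow_iso 𝒢 (Groth.Agent.Lib.Helper27PnMor.cover_X n R) 0
  have e' : GrTilde.tilde 𝒢 𝒢 (0 : ℤ) ≅ Coh.structureModule (Proj 𝒢) := e
  exact ⟨e'⟩

theorem nonempty_OO_tensor_iso (a b c : ℤ) (h : a + b = c) :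
    Nonempty (CohB1.tensorMod (OO n R a) (OO n R b) ≅ OO n R c) := by
  subst h
  exact nonempty_tensor_iso 𝒢 (Groth.Agent.Lib.Helper27PnMor.cover_X n R) a b

/-- descent of global generation along the top Koszul differential. -/
theorem genTop_descent_pn (G : (Proj 𝒢).Modules) (hG : G.IsQuasicoherent)
    (hreg : ∀ q : ℕ, 1 ≤ q → q ≤ n →
      Subsingleton (Coh.HH (Proj 𝒢) (CohB1.tensorMod (OO n R (0 - q)) G) q))
    (hgen : GenTop (CohB1.tensorMod (OO n R 1) G)) : GenTop G := by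
  have hu : Nat.choose (n + 1) (n + 1) = 1 := Nat.choose_self _
  have : Unique (Fin (Nat.choose (n + 1) (n + 1))) := by rw [hu]; infer_instance
  let e1 : KK n R (n + 1) 1 ≅ OO n R 1 := coproductUniqueIso (fun _ => OO n R 1)
  let δ : (∐ fun _ : Fin (Nat.choose (n + 1) n) => OO n R 0) ⟶ OO n R 1 :=
    dd n R n 0 1 (by norm_num) ≫ e1.hom
  obtain ⟨e0⟩ := nonempty_OO_zero_iso n R
  obtain ⟨η, hη⟩ := exists_eta (OO n R 0) e0
  obtain ⟨e2⟩ := nonempty_OO_tensor_iso n R (-1) 1 0 (by norm_num)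
  refine genTop_descent (OO n R 0) (OO n R 1) G δ η hη (fun {N} h hh => ?_) ?_ hgen
  · exact wr_injective (OO n R 1) (OO n R (-1)) (e2 ≪≫ e0) h 0 (hh.trans (wr_zero _ _ _).symm)
  · have h1 : Function.Surjective ((wl (dd n R n 0 1 (by norm_num)) G).app ⊤) :=
      surjective_koszul_top n R G hG 0 1 (by norm_num) hreg
    have h2 : Function.Surjective ((wl e1.hom G).app ⊤) :=
      surjective_app_top_of_iso ((tw G).mapIso e1)
    have h3 : wl δ G = wl (dd n R n 0 1 (by norm_num)) G ≫ wl e1.hom G := wl_comp _ _ _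
    rw [h3, Scheme.Modules.Hom.comp_app]
    exact h2.comp h1

theorem nonempty_twIso_pn (a s : ℤ) (A : (Proj 𝒢).Modules) :
    Nonempty (CohB1.tensorMod (OO n R a) (CohB1.tensorMod A (OO n R s)) ≅
      CohB1.tensorMod A (OO n R (s + a))) :=
  nonempty_twIso (fun d => OO n R d) (fun a b => nonempty_OO_tensor_iso n R a b (a + b) rfl) a s A

/-- Serre: `F(r)` is generated by global sections for `r ≫ 0`. -/
theorem genTop_twist_large [IsNoetherianRing R] (F : (Proj 𝒢).Modules) (hF : Coh.IsCoh F) :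
    ∃ r₀ : ℤ, ∀ r : ℤ, r₀ ≤ r → GenTop (CohB1.tensorMod F (OO n R r)) := by
  obtain ⟨c, d, φ, hφ⟩ := Groth.Agent.S0846.result (CohB1.polyGrading n R) F hF
  refine ⟨∑ j, |d j|, fun r hr => ?_⟩
  haveI := hφ
  haveI : (tw (OO n R r)).PreservesEpimorphisms :=
    preservesEpimorphisms_of_preservesColimitsOfShape _
  have : Epi ((tw (OO n R r)).map φ) := (tw (OO n R r)).map_epi φ
  show GenTop ((tw (OO n R r)).obj F)
  refine genTop_of_epi ((tw (OO n R r)).map φ) ?_
  refine genTop_map_sigma (fun j => OO n R (d j)) (tw (OO n R r)) (fun j => ?_)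
  obtain ⟨e⟩ := nonempty_OO_tensor_iso n R (d j) r (d j + r) rfl
  refine genTop_of_iso e.symm (genTop_OO n R _ ?_)
  have h1 : |d j| ≤ ∑ j, |d j| :=
    Finset.single_le_sum (f := fun j => |d j|) (fun _ _ => abs_nonneg _) (Finset.mem_univ j)
  have h2 := neg_abs_le (d j)
  omega

/-- Castelnuovo–Mumford: if `H^q(F(r)) = 0` for `q ≥ 1`, `r ≥ m - q`, then `F(r)` is generated by
global sections for all `r ≥ m`. -/
theorem genTop_of_regular [IsNoetherianRing R] (F : (Proj 𝒢).Modules) (hF : Coh.IsCoh F) (m : ℤ)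
    (hreg : ∀ q : ℕ, 1 ≤ q → ∀ r : ℤ, m - q ≤ r →
      Subsingleton (Coh.HH (Proj 𝒢) (CohB1.tensorMod F (OO n R r)) q)) :
    ∀ r : ℤ, m ≤ r → GenTop (CohB1.tensorMod F (OO n R r)) := by
  obtain ⟨r₀, hr₀⟩ := genTop_twist_large n R F hF
  have key : ∀ t : ℕ, ∀ r : ℤ, m ≤ r → r₀ ≤ r + t → GenTop (CohB1.tensorMod F (OO n R r)) := by
    intro t
    induction t with
    | zero =>
      intro r _ hr
      exact hr₀ r (by simpa using hr)
    | succ t ih =>
      intro r hmr hr
      have ih' := ih (r + 1) (by omega) (by push_cast at hr ⊢; omega)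
      have hFq : F.IsQuasicoherent := hF.1
      have hOq : (OO n R r).IsQuasicoherent :=
        isQuasicoherent_tilde 𝒢 𝒢 r
      have hG : (CohB1.tensorMod F (OO n R r)).IsQuasicoherent :=
        Groth.Agent.Lib.Helper23.TensorQCoh.isQuasicoherent_tensorMod F _
      refine genTop_descent_pn n R _ hG (fun q hq1 _ => ?_) ?_
      · obtain ⟨e⟩ := nonempty_twIso_pn n R (0 - q) r F
        exact subsingleton_HH_of_iso e q (hreg q hq1 _ (by omega))
      · obtain ⟨e⟩ := nonempty_twIso_pn n R 1 r F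
        exact genTop_of_iso e.symm ih'
  intro r hr
  exact key (r₀ - r).toNat r hr (by omega)

end Pn

section Field

variable (k : Type u) [Field k] (n : ℕ)

/-- an `m`-regular coherent module `F` on `P^n_k` has `F(m)` globally generated. -/
theorem isGloballyGenerated_of_isMRegular (F : (CohB1.ProjSpace n k).Modules) (hF : Coh.IsCoh F)
    (m : ℤ) (h : Curv2.IsMRegular k n F m) (r : ℤ) (hr : m ≤ r) :
    Curv2.IsGloballyGenerated (CohB1.tensorMod F (Twist.twistProjSpace n k r)) := by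
  apply isGloballyGenerated_of_genTop
  exact genTop_of_regular n k F hF m
    (fun q hq r hr => Groth.Agent.Lib.Helper27CMReg2.vanishing_ge_of_isMRegular n k F hF.1 m h q r hq hr)
    r hr

end Field

end Groth.Agent.Lib.Helper27GlobGenPn
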