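import Mathlib

set_option autoImplicit false
universe u

namespace Groth.Agent.Helper18Ann

/-- the annihilator of a finite module commutes with localization. -/
theorem annihilator_map_eq {R : Type*} [CommRing R] (S : Submonoid R) {R' : Type*} [CommRing R']
    [Algebra R R'] [IsLocalization S R'] {M M' : Type*} [AddCommGroup M] [Module R M]
    [AddCommGroup M'] [Module R M'] [Module R' M'] [IsScalarTower R R' M'] (r : M →ₗ[R] M')
    [IsLocalizedModule S r] [Module.Finite R M] :
    (Module.annihilator R M).map (algebraMap R R') = Module.annihilator R' M' := by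
  apply le_antisymm
  · rw [Ideal.map_le_iff_le_comap]
    intro a ha
    rw [Ideal.mem_comap, Module.mem_annihilator]
    intro x
    obtain ⟨⟨m, s⟩, hs⟩ := IsLocalizedModule.surj S r x
    apply IsLocalizedModule.smul_injective r s
    change s • (algebraMap R R' a • x) = s • (0 : M')
    have h1 : (s : R) • (algebraMap R R' a • x) = a • ((s : R) • x) := by
      rw [algebraMap_smul, smul_comm]
    have h2 : s • (algebraMap R R' a • x) = (s : R) • (algebraMap R R' a • x) := rfl
    have h3 : (s : R) • x = r m := hs
    rw [h2, h1, h3, ← map_smul, Module.mem_annihilator.1 ha m, map_zero, smul_zero]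
  · intro y hy
    obtain ⟨a, s, rfl⟩ := IsLocalization.exists_mk'_eq S y
    rw [IsLocalization.mk'_mem_map_algebraMap_iff]
    have ha : algebraMap R R' a ∈ Module.annihilator R' M' := by
      rw [← IsLocalization.mk'_spec R' a s]
      exact Ideal.mul_mem_right _ _ hy
    obtain ⟨G, hG⟩ := (Module.Finite.fg_top : (⊤ : Submodule R M).FG)
    have h1 : ∀ m : M, ∃ t : S, t • (a • m) = 0 := by
      intro m
      rw [← IsLocalizedModule.eq_zero_iff S r, map_smul, ← algebraMap_smul R']
      exact Module.mem_annihilator.1 ha _
    choose t ht using h1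
    classical
    refine ⟨((∏ m ∈ G, t m : S) : R), (∏ m ∈ G, t m : S).2, ?_⟩
    rw [Module.mem_annihilator]
    have hspan : ∀ m ∈ Submodule.span R (G : Set M), (((∏ m ∈ G, t m : S) : R) * a) • m = 0 := by
      intro m hm
      induction hm using Submodule.span_induction with
      | mem x hx =>
        have hd : ((∏ m ∈ G, t m : S) : R) = ((∏ m ∈ G.erase x, t m : S) : R) * (t x : R) := by
          rw [← Finset.prod_erase_mul G _ hx]
          simp
        rw [hd, mul_assoc, mul_smul, mul_smul]
        have : (t x : R) • a • x = 0 := ht x
        rw [this, smul_zero]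
      | zero => exact smul_zero _
      | add x y _ _ hx hy => rw [smul_add, hx, hy, add_zero]
      | smul c x _ hx => rw [smul_comm, hx, smul_zero]
    intro m
    exact hspan m (hG ▸ Submodule.mem_top)

end Groth.Agent.Helper18Ann
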