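import Mathlib
import Groth.Prelude.Def_RelSpec
import Groth.Agent.Lib.Helper23QCohLocal

set_option autoImplicit false
set_option linter.style.haveILetI false
universe u
open CategoryTheory CategoryTheory.Limits AlgebraicGeometry TopologicalSpace Opposite

namespace Groth.Agent.Helper18QCAlg

open Groth.Agent.Lib.Helper2.Push Groth.Agent.Lib.Helper23.QCohLocal

variable {X : Scheme.{u}} (A : RelSpec.QCAlg X)

theorem str_res_apply' {V W : X.Opens} (h : V ≤ W) (r : Γ(X, W)) :
    (A.presheaf.map (homOfLE h).op).hom ((A.str.app (op W)).hom r) =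
      (A.str.app (op V)).hom ((X.presheaf.map (homOfLE h).op).hom r) := by
  have := A.str.naturality (homOfLE h).op
  exact congr($(this.symm) r)

theorem exists_extension_aux {U : X.Opens} (hU : IsAffineOpen U) (f : Γ(X, U))
    (s : A.presheaf.obj (op (X.basicOpen f))) :
    ∃ (n : ℕ) (t : A.presheaf.obj (op U)),
      (A.presheaf.map (homOfLE (X.basicOpen_le f)).op).hom t =
        (A.str.app (op (X.basicOpen f))).hom
          ((X.presheaf.map (homOfLE (X.basicOpen_le f)).op).hom f ^ n) * s := by
  letI := (A.presheaf.map (homOfLE (X.basicOpen_le f)).op).hom.toAlgebra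
  haveI : IsLocalization.Away ((A.str.app (op U)).hom f)
      (A.presheaf.obj (op (X.basicOpen f))) := A.isQC U hU f
  obtain ⟨⟨t, m⟩, hm⟩ := IsLocalization.surj (Submonoid.powers ((A.str.app (op U)).hom f)) s
  obtain ⟨n, hn⟩ := m.2
  have hn' : (A.str.app (op U)).hom f ^ n = m := hn
  refine ⟨n, t, ?_⟩
  rw [map_pow, ← str_res_apply', ← map_pow, mul_comm, hn']
  exact hm.symm

theorem exists_pow_aux {U : X.Opens} (hU : IsAffineOpen U) (f : Γ(X, U))
    (t : A.presheaf.obj (op U))
    (ht : (A.presheaf.map (homOfLE (X.basicOpen_le f)).op).hom t = 0) :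
    ∃ n : ℕ, (A.str.app (op U)).hom (f ^ n) * t = 0 := by
  letI := (A.presheaf.map (homOfLE (X.basicOpen_le f)).op).hom.toAlgebra
  haveI : IsLocalization.Away ((A.str.app (op U)).hom f)
      (A.presheaf.obj (op (X.basicOpen f))) := A.isQC U hU f
  have h0 : algebraMap (A.presheaf.obj (op U)) (A.presheaf.obj (op (X.basicOpen f))) t = 0 := ht
  obtain ⟨m, hm⟩ := (IsLocalization.map_eq_zero_iff
    (Submonoid.powers ((A.str.app (op U)).hom f)) _ _).1 h0
  obtain ⟨n, hn⟩ := m.2
  have hn' : (A.str.app (op U)).hom f ^ n = m := hn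
  refine ⟨n, ?_⟩
  rw [map_pow, hn']
  exact hm

/-- the module of a quasi-coherent algebra localizes on affine opens. -/
theorem isLocOn_toModule {U : X.Opens} (hU : IsAffineOpen U) : IsLocOn A.toModule U :=
  ⟨fun f s => exists_extension_aux A hU f s, fun f t ht => exists_pow_aux A hU f t ht⟩

instance isQuasicoherent_toModule : A.toModule.IsQuasicoherent :=
  isQuasicoherent_of_isLocOn _ (fun _ hV => isLocOn_toModule A hV)

end Groth.Agent.Helper18QCAlg
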