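import Mathlib
import Groth.Prelude.Def_FinCov
import Groth.Agent.Lib.Helper18QCAlg1
import Groth.Agent.Lib.Helper18FinFlat3
import Groth.Agent.Lib.Helper20LocFree
import Groth.Agent.Lib.Helper18Cart1

set_option autoImplicit false
set_option linter.style.haveILetI false
universe u
open CategoryTheory CategoryTheory.Limits AlgebraicGeometry TopologicalSpace Opposite

namespace Groth.Agent.Helper18Dbl

open Groth.Agent.Helper18QCAlg Groth.Agent.Helper18FinFlat Groth.Agent.Lib.Helper20.LocFree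

variable {X : Scheme.{u}} (L : X.Modules) (m : CohB1.tensorMod L L ⟶ Coh.structureModule X)
  (A : RelSpec.QCAlg X) (j : L ⟶ A.toModule)

/-- a morphism of modules on sections, linearly. -/
noncomputable def appL {M N : X.Modules} (φ : M ⟶ N) (V : X.Opens) :
    Γ(M, V) →ₗ[Γ(X, V)] Γ(N, V) where
  toFun x := φ.app V x
  map_add' x y := map_add _ x y
  map_smul' r x := Scheme.Modules.Hom.app_smul φ r x

/-- the map `(s, l) ↦ s·1 + j(l)` as a linear map on sections. -/
noncomputable def dblMap (W : X.Opens) : (Γ(X, W) × Γ(L, W)) →ₗ[Γ(X, W)] Γ(A.toModule, W) :=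
  ((appL (FinCov.strMod A) W).comp (Groth.Agent.Helper18Cart.strEquiv X W).symm.toLinearMap).coprod
    (appL j W)

theorem main_S19698 (hL : PicF.IsInvertible L) (h : FinCov.IsDblAlg L m A j) :
    FlatMod.IsFinLocFreeOfRank 2 A.toModule := by
  intro x
  obtain ⟨U, hxU, ⟨e⟩⟩ := hL x
  let e' : L.restrict U.ι ≅ FlatMod.freeMod (↑U) 1 :=
    e ≪≫ (coproductUniqueIso (fun _ : Fin 1 => Coh.structureModule (U : Scheme.{u}))).symm
  obtain ⟨W, hW, hxW, ⟨bs⟩⟩ := exists_affine_basis_of_restrict_iso_freeMod' L U.ι e' ⟨x, hxU⟩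
  have hbij : Function.Bijective (dblMap L A j W) := h.1 W
  let Φ : (Γ(X, W) × Γ(L, W)) ≃ₗ[Γ(X, W)] Γ(A.toModule, W) := LinearEquiv.ofBijective _ hbij
  let b : Module.Basis (Fin 2) Γ(X, W) Γ(A.toModule, W) :=
    (((Module.Basis.singleton (Fin 1) Γ(X, W)).prod bs).map Φ).reindex finSumFinEquiv
  exact ⟨W, hxW, ⟨restrictIsoFreeMod A.toModule hW b⟩⟩

end Groth.Agent.Helper18Dbl
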