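import Mathlib
import Groth.Agent.Lib.Helper18Trace3

set_option autoImplicit false
set_option linter.style.haveILetI false
universe u
open CategoryTheory CategoryTheory.Limits AlgebraicGeometry TopologicalSpace Opposite

namespace Groth.Agent.Helper18Trace

variable {X : Scheme.{u}} (A : RelSpec.QCAlg X)

theorem isFinLocFree_of_rank {d : ℕ} (hA : FlatMod.IsFinLocFreeOfRank d A.toModule) :
    FlatMod.IsFinLocFree A.toModule := fun x => by
  obtain ⟨U, hxU, e⟩ := hA x
  exact ⟨U, d, hxU, e⟩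

/-- sections of `O_X` agree if they agree on the affine opens over which `A` has a basis of size
`d`. -/
theorem eq_of_goodRank {d : ℕ} (hA : FlatMod.IsFinLocFreeOfRank d A.toModule) {U : X.Opens}
    (s t : Γ(X, U))
    (h : ∀ (W : X.Opens) (_ : IsAffineOpen W) (hWU : W ≤ U)
      (_ : letI := alg A W; Module.Basis (Fin d) Γ(X, W) (A.presheaf.obj (op W))),
      (X.presheaf.map (homOfLE hWU).op).hom s = (X.presheaf.map (homOfLE hWU).op).hom t) :
    s = t := by
  have key : ∀ x : U, ∃ (W : X.Opens) (_ : IsAffineOpen W) (_ : W ≤ U)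
      (_ : letI := alg A W; Module.Basis (Fin d) Γ(X, W) (A.presheaf.obj (op W))), x.1 ∈ W := by
    intro x
    obtain ⟨U₀, hx₀, ⟨e⟩⟩ := hA x.1
    obtain ⟨W, hW, hxW, hWU, ⟨b⟩⟩ := exists_good A e x.1 hx₀ U x.2
    exact ⟨W, hW, hWU, b, hxW⟩
  choose W hW hWU b hxW using key
  refine TopCat.Sheaf.eq_of_locally_eq' X.sheaf W U (fun x => homOfLE (hWU x)) ?_ _ _
    (fun x => h _ (hW x) (hWU x) (b x))
  intro x hx
  exact Opens.mem_iSup.2 ⟨⟨x, hx⟩, hxW _⟩

/-- evaluation on sections as an additive map. -/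
def appAddHom (M N : X.Modules) (U : X.Opens) : (M ⟶ N) →+ (Γ(M, U) ⟶ Γ(N, U)) where
  toFun φ := φ.app U
  map_zero' := rfl
  map_add' _ _ := rfl

theorem nsmul_app {M N : X.Modules} (n : ℕ) (φ : M ⟶ N) (U : X.Opens) :
    (n • φ).app U = n • φ.app U := map_nsmul (appAddHom M N U) n φ

theorem trace_str_apply (d : ℕ) (hA : FlatMod.IsFinLocFreeOfRank d A.toModule)
    (τ : A.toModule ⟶ Coh.structureModule X) (hτ : FinCov.IsTrace A τ) (U : X.Opens)
    (s : Γ(X, U)) :
    (τ.val.app (op U)).hom ((A.str.app (op U)).hom s) = d • s := by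
  apply eq_of_goodRank A hA
  intro W hW hWU b
  letI := alg A W
  rw [hom_res, str_res_apply, isTrace_good A hτ (isGood_of_basis A hW b), map_nsmul]
  have := Algebra.trace_algebraMap_of_basis b ((X.presheaf.map (homOfLE hWU).op).hom s)
  rw [Fintype.card_fin] at this
  exact this

theorem main_S19695 (d : ℕ) (hA : FlatMod.IsFinLocFreeOfRank d A.toModule)
    (τ : A.toModule ⟶ Coh.structureModule X) (hτ : FinCov.IsTrace A τ) :
    FinCov.strMod A ≫ τ = d • 𝟙 (Coh.structureModule X) := by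
  apply Scheme.Modules.hom_ext
  intro U
  rw [nsmul_app]
  ext s
  exact trace_str_apply A d hA τ hτ U s

end Groth.Agent.Helper18Trace
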