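import Mathlib
import Groth.Agent.Lib.Helper18Dbl1
import Groth.Agent.Lib.Helper18Trace4

set_option autoImplicit false
set_option linter.style.haveILetI false
universe u
open CategoryTheory CategoryTheory.Limits AlgebraicGeometry TopologicalSpace Opposite

namespace Groth.Agent.Helper18Dbl

section alg

theorem trace_j_eq_zero {R S N : Type u} [CommRing R] [CommRing S] [Algebra R S] [AddCommGroup N]
    [Module R N] (bs : Module.Basis (Fin 1) R N) (jj : N →ₗ[R] S) (Φ : (R × N) ≃ₗ[R] S)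
    (hΦ : ∀ p, Φ p = algebraMap R S p.1 + jj p.2)
    (hmul : ∀ l l', ∃ c : R, jj l * jj l' = algebraMap R S c) (l : N) :
    Algebra.trace R S (jj l) = 0 := by
  classical
  let b : Module.Basis (Fin 1 ⊕ Fin 1) R S := ((Module.Basis.singleton (Fin 1) R).prod bs).map Φ
  have hb0 : b (Sum.inl 0) = 1 := by
    simp [b, hΦ]
  have hb1 : b (Sum.inr 0) = jj (bs 0) := by
    simp [b, hΦ]
  have hrepr : ∀ x : S, b.repr x = ((Module.Basis.singleton (Fin 1) R).prod bs).repr (Φ.symm x) := by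
    intro x
    simp [b]
  have e1 : Φ.symm (jj l) = (0, l) := by
    rw [LinearEquiv.symm_apply_eq, hΦ]
    simp
  obtain ⟨c, hc⟩ := hmul l (bs 0)
  have e2 : Φ.symm (jj l * jj (bs 0)) = (c, 0) := by
    rw [LinearEquiv.symm_apply_eq, hΦ, hc]
    simp
  rw [Algebra.trace_eq_matrix_trace b, Matrix.trace, Fintype.sum_sum_type]
  simp only [Finset.univ_unique, Finset.sum_singleton, Matrix.diag_apply,
    Algebra.leftMulMatrix_eq_repr_mul, Fin.default_eq_zero]
  rw [hb0, hb1, mul_one, hrepr, hrepr, e1, e2, Module.Basis.prod_repr_inl,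
    Module.Basis.prod_repr_inr]
  simp

end alg

variable {X : Scheme.{u}}

open Groth.Agent.Lib.Helper2.RankLoc in
attribute [local instance] RingHomInvPair.of_ringEquiv RingHomInvPair.of_ringEquiv_symm in
/-- version of `exists_affine_basis_of_restrict_iso_freeMod'` inside a given open. -/
theorem exists_affine_basis_le (M : X.Modules) {Y : Scheme.{u}} (f : Y ⟶ X)
    [IsOpenImmersion f]
    {n : ℕ} (e : M.restrict f ≅ FlatMod.freeMod Y n) (y : Y) (U : X.Opens) (hy : f y ∈ U) :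
    ∃ (W : X.Opens) (_ : IsAffineOpen W), f y ∈ W ∧ W ≤ U ∧
      Nonempty (Module.Basis (Fin n) Γ(X, W) Γ(M, W)) := by
  obtain ⟨V, hV, hyV, hVU⟩ := exists_isAffineOpen_mem_and_subset (x := y) (U := f ⁻¹ᵁ U) hy
  obtain ⟨E⟩ := nonempty_sections_equiv_of_iso_freeMod (M.restrict f) e hV
  haveI : Nonempty V := ⟨⟨y, hyV⟩⟩
  haveI : Nontrivial Γ(Y, V) := inferInstance
  have hV' : IsAffineOpen (f ''ᵁ V) := hV.image_of_isOpenImmersion f
  have hxD : f y ∈ f ''ᵁ V := ⟨y, hyV, rfl⟩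
  have hle : f ''ᵁ V ≤ U := by
    rintro _ ⟨z, hz, rfl⟩
    exact hVU hz
  haveI hfreeY : Module.Free Γ(Y, V) Γ(M.restrict f, V) := Module.Free.of_equiv E.symm
  have hrkY : Module.finrank Γ(Y, V) Γ(M.restrict f, V) = n := by
    rw [E.finrank_eq, Module.finrank_finsupp_self, Fintype.card_fin]
  let σ : Γ(Y, V) ≃+* Γ(X, f ''ᵁ V) := (f.appIso V).symm.commRingCatIsoToRingEquiv
  let j : Γ(M.restrict f, V) ≃+ Γ(M, f ''ᵁ V) := (M.restrictAppIso f V).addCommGroupIsoToAddEquiv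
  have hc : ∀ (r : Γ(Y, V)) (m : Γ(M.restrict f, V)), j (r • m) = σ r • j m :=
    fun r m => Scheme.Modules.smul_restrictAppIso_hom_apply f M V r m
  haveI hfreeX : Module.Free Γ(X, f ''ᵁ V) Γ(M, f ''ᵁ V) := by
    refine (Module.Free.iff_of_equiv (σ := (σ : Γ(Y, V) →+* Γ(X, f ''ᵁ V)))
      (σ' := (σ.symm : Γ(X, f ''ᵁ V) →+* Γ(Y, V))) ?_).1 hfreeY
    exact { j with map_smul' := hc }
  have hrkX : Module.finrank Γ(X, f ''ᵁ V) Γ(M, f ''ᵁ V) = n := by
    rw [← hrkY]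
    exact (congrArg Cardinal.toNat (rank_eq_of_equiv_equiv σ j σ.bijective hc)).symm
  haveI : Nonempty (f ''ᵁ V : X.Opens) := ⟨⟨f y, hxD⟩⟩
  haveI : Nontrivial Γ(X, f ''ᵁ V) := inferInstance
  haveI : Module.Finite Γ(Y, V) Γ(M.restrict f, V) := Module.Finite.equiv E.symm
  haveI : Module.Finite Γ(X, f ''ᵁ V) Γ(M, f ''ᵁ V) := by
    let J : Γ(M.restrict f, V) →ₛₗ[(σ : Γ(Y, V) →+* Γ(X, f ''ᵁ V))] Γ(M, f ''ᵁ V) :=
      { j with map_smul' := hc }
    exact Module.Finite.of_surjective J j.surjective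
  exact ⟨f ''ᵁ V, hV', hxD, hle, ⟨Module.finBasisOfFinrankEq _ _ hrkX⟩⟩

open Groth.Agent.Helper18Trace

variable (L : X.Modules) (m : CohB1.tensorMod L L ⟶ Coh.structureModule X)
  (A : RelSpec.QCAlg X) (j : L ⟶ A.toModule)

theorem traceHom_j (h : FinCov.IsDblAlg L m A j) {W : X.Opens}
    (bs : Module.Basis (Fin 1) Γ(X, W) Γ(L, W)) (l : Γ(L, W)) :
    traceHom A W (j.app W l) = 0 := by
  letI := alg A W
  let jj : Γ(L, W) →ₗ[Γ(X, W)] (A.presheaf.obj (op W)) := appL j W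
  let Φ : (Γ(X, W) × Γ(L, W)) ≃ₗ[Γ(X, W)] (A.presheaf.obj (op W)) :=
    LinearEquiv.ofBijective (dblMap L A j W) (h.1 W)
  exact trace_j_eq_zero bs jj Φ (fun p => rfl)
    (fun l l' => ⟨(m.val.app (op W)).hom (SecTwist.tmul L L W l l'), h.2 W l l'⟩) l

theorem isGood_of_dbl (h : FinCov.IsDblAlg L m A j) {W : X.Opens} (hW : IsAffineOpen W)
    (bs : Module.Basis (Fin 1) Γ(X, W) Γ(L, W)) : IsGood A W := by
  let Φ : (Γ(X, W) × Γ(L, W)) ≃ₗ[Γ(X, W)] Γ(A.toModule, W) :=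
    LinearEquiv.ofBijective (dblMap L A j W) (h.1 W)
  let b : Module.Basis (Fin 2) Γ(X, W) Γ(A.toModule, W) :=
    (((Module.Basis.singleton (Fin 1) Γ(X, W)).prod bs).map Φ).reindex finSumFinEquiv
  exact isGood_of_basis A hW b

theorem j_res {U V : X.Opens} (hVU : V ≤ U) (l : Γ(L, U)) :
    (A.presheaf.map (homOfLE hVU).op).hom (j.app U l) =
      j.app V (L.presheaf.map (homOfLE hVU).op l) :=
  (congr($((Scheme.Modules.Hom.mapPresheaf j).naturality (homOfLE hVU).op) l)).symm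

theorem trace_j (hL : PicF.IsInvertible L) (h : FinCov.IsDblAlg L m A j)
    (τ : A.toModule ⟶ Coh.structureModule X) (hτ : FinCov.IsTrace A τ) (U : X.Opens)
    (l : Γ(L, U)) : (τ.val.app (op U)).hom (j.app U l) = 0 := by
  have key : ∀ x : U, ∃ (W : X.Opens) (_ : IsAffineOpen W) (_ : W ≤ U)
      (_ : Module.Basis (Fin 1) Γ(X, W) Γ(L, W)), x.1 ∈ W := by
    intro x
    obtain ⟨U₀, hxU₀, ⟨e⟩⟩ := hL x.1
    let e' : L.restrict U₀.ι ≅ FlatMod.freeMod (↑U₀) 1 :=
      e ≪≫ (coproductUniqueIso (fun _ : Fin 1 => Coh.structureModule (U₀ : Scheme.{u}))).symm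
    obtain ⟨W, hW, hxW, hWU, ⟨bs⟩⟩ := exists_affine_basis_le L U₀.ι e' ⟨x.1, hxU₀⟩ U x.2
    exact ⟨W, hW, hWU, bs, hxW⟩
  choose W hW hWU bs hxW using key
  refine TopCat.Sheaf.eq_of_locally_eq' X.sheaf W U (fun x => homOfLE (hWU x)) ?_
    ((τ.val.app (op U)).hom (j.app U l)) 0 (fun x => ?_)
  · intro x hx
    exact Opens.mem_iSup.2 ⟨⟨x, hx⟩, hxW _⟩
  · have e1 := hom_res A τ (hWU x) (j.app U l)
    rw [j_res] at e1
    have e2 := isTrace_good A hτ (isGood_of_dbl L m A j h (hW x) (bs x))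
      (j.app (W x) (L.presheaf.map (homOfLE (hWU x)).op l))
    have e3 := traceHom_j L m A j h (bs x) (L.presheaf.map (homOfLE (hWU x)).op l)
    exact (e1.trans (e2.trans e3)).trans (map_zero _).symm

theorem main_S19700 (hL : PicF.IsInvertible L) (h : FinCov.IsDblAlg L m A j)
    (h2 : IsUnit (2 : Γ(X, ⊤))) (τ : A.toModule ⟶ Coh.structureModule X)
    (hτ : FinCov.IsTrace A τ) (U : X.Opens) (a : A.toModule.val.obj (op U)) :
    (τ.val.app (op U)).hom a = 0 ↔ a ∈ Set.range (j.val.app (op U)).hom := by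
  have hA : FlatMod.IsFinLocFreeOfRank 2 A.toModule := main_S19698 L m A j hL h
  have h2U : IsUnit (2 : Γ(X, U)) := by
    have := h2.map (X.presheaf.map (homOfLE (le_top : U ≤ ⊤)).op).hom
    rwa [map_ofNat] at this
  constructor
  · intro ha
    obtain ⟨⟨s, l⟩, hsl⟩ := (h.1 U).2 a
    have e1 : (τ.val.app (op U)).hom a =
        (τ.val.app (op U)).hom ((A.str.app (op U)).hom s) +
          (τ.val.app (op U)).hom (j.app U l) := by
      rw [← hsl]
      exact map_add (τ.val.app (op U)).hom _ _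
    have t1 : (τ.val.app (op U)).hom ((A.str.app (op U)).hom s) = 2 • s :=
      trace_str_apply A 2 hA τ hτ U s
    have t2 : (τ.val.app (op U)).hom (j.app U l) = 0 := trace_j L m A j hL h τ hτ U l
    have e2 : (2 : Γ(X, U)) * s = 0 := by
      have e3 : (2 • s : Γ(X, U)) = 0 :=
        t1.symm.trans (((add_zero _).symm.trans
          (congrArg (fun z => (τ.val.app (op U)).hom ((A.str.app (op U)).hom s) + z)
            t2.symm)).trans (e1.symm.trans ha))
      rw [← e3]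
      simp
    have hs : s = 0 := (h2U.mul_right_eq_zero).1 e2
    refine ⟨l, ?_⟩
    rw [← hsl, hs]
    simp
  · rintro ⟨l, rfl⟩
    exact trace_j L m A j hL h τ hτ U l

end Groth.Agent.Helper18Dbl
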