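import Mathlib
import Groth.Agent.Lib.Helper13AffBC
import Groth.Agent.Lib.Helper18Dbl2
import Groth.Agent.Lib.Helper18Strict6

set_option autoImplicit false
set_option linter.style.haveILetI false
universe u
open CategoryTheory CategoryTheory.Limits AlgebraicGeometry TopologicalSpace Opposite

namespace Groth.Agent.Helper18PBUnit

/-- a finite family that is "basis-like": linearly independent and spanning, in elementary form. -/
def IsBasisLike (R : Type*) {N : Type*} [Semiring R] [AddCommMonoid N] [Module R N] {n : ℕ}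
    (s : Fin n → N) : Prop :=
  (∀ c : Fin n → R, ∑ i, c i • s i = 0 → c = 0) ∧ (∀ t : N, ∃ c : Fin n → R, t = ∑ i, c i • s i)

/-- a semilinear map with the universal property of base change sends a basis to a basis-like
family. -/
theorem isBasisLike_of_existsUnique_lift {R S : Type u} [CommRing R] [CommRing S] (φ : R →+* S)
    {M N : Type u} [AddCommGroup M] [Module R M] [AddCommGroup N] [Module S N]
    (ι : M →+ N) (hι : ∀ (r : R) (m : M), ι (r • m) = φ r • ι m)
    (huniv : ∀ (Q : Type u) [AddCommGroup Q] [Module S Q] (l : M →+ Q),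
      (∀ (r : R) (m : M), l (r • m) = φ r • l m) →
        ∃! l' : N →ₗ[S] Q, ∀ m, l' (ι m) = l m)
    {n : ℕ} (b : Module.Basis (Fin n) R M) :
    IsBasisLike S (fun i => ι (b i)) := by
  have hsum : ∀ m : M, ι m = ∑ i, φ (b.repr m i) • ι (b i) := by
    intro m
    conv_lhs => rw [← b.sum_repr m]
    rw [map_sum]
    exact Finset.sum_congr rfl fun i _ => hι _ _
  constructor
  · intro c hc
    let l : M →+ (Fin n → S) :=
      { toFun := fun m i => φ (b.repr m i)
        map_zero' := by ext i; simp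
        map_add' := fun m m' => by ext i; simp }
    obtain ⟨l', hl', -⟩ := huniv (Fin n → S) l (fun r m => by
      ext i
      simp [l])
    have h1 : ∀ j, l' (ι (b j)) = Pi.single j 1 := by
      intro j
      rw [hl']
      ext i
      simp only [l, AddMonoidHom.coe_mk, ZeroHom.coe_mk, Module.Basis.repr_self]
      rw [Finsupp.single_apply, Pi.single_apply]
      split_ifs with h1 h2 h2
      · exact map_one φ
      · exact absurd h1.symm h2
      · exact absurd h2.symm h1
      · exact map_zero φ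
    have h2 := congrArg l' hc
    rw [map_sum, map_zero] at h2
    ext j
    have h3 := congrFun h2 j
    simp only [map_smul, h1, Finset.sum_apply, Pi.smul_apply, Pi.single_apply, smul_eq_mul,
      mul_ite, mul_one, mul_zero, Finset.sum_ite_eq, Finset.mem_univ, if_true, Pi.zero_apply] at h3
    exact h3
  · intro t
    let T : Submodule S N := Submodule.span S (Set.range fun i => ι (b i))
    obtain ⟨l₀, -, huniq⟩ := huniv (N ⧸ T) 0 (fun r m => by simp)
    have h0 : (0 : N →ₗ[S] N ⧸ T) = l₀ := huniq 0 (fun m => by simp)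
    have h1 : T.mkQ = l₀ := huniq T.mkQ (fun m => by
      rw [AddMonoidHom.zero_apply, Submodule.mkQ_apply, Submodule.Quotient.mk_eq_zero, hsum m]
      exact Submodule.sum_mem _ fun i _ => Submodule.smul_mem _ _ (Submodule.subset_span ⟨i, rfl⟩))
    have h2 : t ∈ T := by
      rw [← Submodule.Quotient.mk_eq_zero, ← Submodule.mkQ_apply, h1, ← h0]
      rfl
    obtain ⟨c, hc⟩ := (Submodule.mem_span_range_iff_exists_fun S).1 h2
    exact ⟨c, hc.symm⟩


section glue
variable {X : Scheme.{u}} (P : X.Modules)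

/-- the sheaf of abelian groups underlying a module. -/
noncomputable def abSheaf : TopCat.Sheaf AddCommGrpCat.{u} X.carrier := ⟨P.presheaf, P.isSheaf⟩

theorem res_sum {V U : X.Opens} (h : U ≤ V) {n : ℕ} (c : Fin n → Γ(X, V)) (s : Fin n → Γ(P, V)) :
    P.presheaf.map (homOfLE h).op (∑ i, c i • s i) =
      ∑ i, (X.presheaf.map (homOfLE h).op (c i) : Γ(X, U)) • P.presheaf.map (homOfLE h).op (s i) := by
  rw [map_sum]
  exact Finset.sum_congr rfl fun i _ => Scheme.Modules.map_smul P (homOfLE h) (c i) (s i)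

theorem res_res {V U U' : X.Opens} (h : U ≤ V) (h' : U' ≤ U) (t : Γ(P, V)) :
    P.presheaf.map (homOfLE h').op (P.presheaf.map (homOfLE h).op t) =
      P.presheaf.map (homOfLE (h'.trans h)).op t := by
  rw [← ConcreteCategory.comp_apply, ← Functor.map_comp]
  rfl

theorem resX_res {V U U' : X.Opens} (h : U ≤ V) (h' : U' ≤ U) (t : Γ(X, V)) :
    X.presheaf.map (homOfLE h').op (X.presheaf.map (homOfLE h).op t) =
      X.presheaf.map (homOfLE (h'.trans h)).op t := by
  rw [← ConcreteCategory.comp_apply, ← Functor.map_comp]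
  rfl

/-- the affine opens inside `V`. -/
def AffLE (V : X.Opens) : Type u := {U : X.Opens // IsAffineOpen U ∧ U ≤ V}

theorem le_iSup_affLE (V : X.Opens) : V ≤ ⨆ U : AffLE V, U.1 := by
  intro x hx
  obtain ⟨U, hU, hxU, hUV⟩ := exists_isAffineOpen_mem_and_subset (x := x) (U := V) hx
  exact Opens.mem_iSup.2 ⟨⟨U, hU, hUV⟩, hxU⟩

theorem eqX_of_affine {V : X.Opens} (s t : Γ(X, V))
    (h : ∀ (U : X.Opens) (_ : IsAffineOpen U) (hUV : U ≤ V),
      X.presheaf.map (homOfLE hUV).op s = X.presheaf.map (homOfLE hUV).op t) : s = t :=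
  TopCat.Sheaf.eq_of_locally_eq' X.sheaf (fun U : AffLE V => U.1) V (fun U => homOfLE U.2.2)
    (le_iSup_affLE V) s t (fun U => h U.1 U.2.1 U.2.2)

theorem eqP_of_affine {V : X.Opens} (s t : Γ(P, V))
    (h : ∀ (U : X.Opens) (_ : IsAffineOpen U) (hUV : U ≤ V),
      P.presheaf.map (homOfLE hUV).op s = P.presheaf.map (homOfLE hUV).op t) : s = t :=
  TopCat.Sheaf.eq_of_locally_eq' (abSheaf P) (fun U : AffLE V => U.1) V (fun U => homOfLE U.2.2)
    (le_iSup_affLE V) s t (fun U => h U.1 U.2.1 U.2.2)

/-- local freeness on affine opens glues. -/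
theorem isBasisLike_of_affine (V : X.Opens) {n : ℕ} (s : Fin n → Γ(P, V))
    (h : ∀ (U : X.Opens) (_ : IsAffineOpen U) (hUV : U ≤ V),
      IsBasisLike Γ(X, U) (fun i => P.presheaf.map (homOfLE hUV).op (s i))) :
    IsBasisLike Γ(X, V) s := by
  constructor
  · intro c hc
    ext i
    refine eqX_of_affine _ _ fun U hU hUV => ?_
    have h1 := congrArg (P.presheaf.map (homOfLE hUV).op) hc
    rw [res_sum, map_zero] at h1
    have h2 := (h U hU hUV).1 _ h1
    rw [Pi.zero_apply, map_zero]
    exact congrFun h2 i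
  · intro t
    have hex : ∀ U : AffLE V, ∃ c : Fin n → Γ(X, U.1),
        P.presheaf.map (homOfLE U.2.2).op t =
          ∑ i, c i • P.presheaf.map (homOfLE U.2.2).op (s i) := fun U => (h U.1 U.2.1 U.2.2).2 _
    choose cU hcU using hex
    -- restriction compatibility
    have hR : ∀ (U U' : AffLE V) (h' : U'.1 ≤ U.1) (i : Fin n),
        X.presheaf.map (homOfLE h').op (cU U i) = cU U' i := by
      intro U U' h' i
      have e1 := congrArg (P.presheaf.map (homOfLE h').op) (hcU U)
      rw [res_res, res_sum] at e1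
      have e2 : ∑ i, ((X.presheaf.map (homOfLE h').op (cU U i) : Γ(X, U'.1)) - cU U' i) •
          P.presheaf.map (homOfLE U'.2.2).op (s i) = 0 := by
        simp_rw [sub_smul]
        rw [Finset.sum_sub_distrib, ← hcU U', sub_eq_zero, e1]
        exact (Finset.sum_congr rfl fun i _ => by rw [res_res]).symm
      have e3 := congrFun ((h U'.1 U'.2.1 U'.2.2).1 _ e2) i
      exact sub_eq_zero.1 e3
    have hglue : ∀ i : Fin n, ∃ c : Γ(X, V), ∀ U : AffLE V,
        X.presheaf.map (homOfLE U.2.2).op c = cU U i := by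
      intro i
      obtain ⟨c, hc, -⟩ := TopCat.Sheaf.existsUnique_gluing' X.sheaf (fun U : AffLE V => U.1) V
        (fun U => homOfLE U.2.2) (le_iSup_affLE V) (fun U => cU U i) (by
          intro U₁ U₂
          refine eqX_of_affine _ _ fun U₃ hU₃ h₃ => ?_
          have e1 := hR U₁ ⟨U₃, hU₃, (h₃.trans inf_le_left).trans U₁.2.2⟩ (h₃.trans inf_le_left) i
          have e2 := hR U₂ ⟨U₃, hU₃, (h₃.trans inf_le_left).trans U₁.2.2⟩ (h₃.trans inf_le_right) i
          exact (resX_res _ _ _).trans (e1.trans (e2.symm.trans (resX_res _ _ _).symm)))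
      exact ⟨c, hc⟩
    choose c hc using hglue
    refine ⟨c, eqP_of_affine P _ _ fun U hU hUV => ?_⟩
    rw [res_sum, hcU ⟨U, hU, hUV⟩]
    exact Finset.sum_congr rfl fun i _ => by rw [hc i ⟨U, hU, hUV⟩]

end glue


section unit
open Groth.Agent.Helper13PullbackUnit
variable {X S : Scheme.{u}} (f : X ⟶ S)

/-- the unit of the pullback–pushforward adjunction. -/
noncomputable abbrev η (M : S.Modules) : M ⟶ (Scheme.Modules.pushforward f).obj ((Scheme.Modules.pullback f).obj M) :=
  (Scheme.Modules.pullbackPushforwardAdjunction f).unit.app M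

/-- sections of the pushforward, viewed upstairs. -/
def up {N : X.Modules} {W : S.Opens} (y : Γ((Scheme.Modules.pushforward f).obj N, W)) : Γ(N, f ⁻¹ᵁ W) := y

/-- sections upstairs, viewed as sections of the pushforward. -/
def down {N : X.Modules} {W : S.Opens} (y : Γ(N, f ⁻¹ᵁ W)) : Γ((Scheme.Modules.pushforward f).obj N, W) := y

theorem up_sum {N : X.Modules} {W : S.Opens} {n : ℕ} (a : Fin n → Γ(S, W))
    (y : Fin n → Γ((Scheme.Modules.pushforward f).obj N, W)) :
    up f (∑ i, a i • y i) = ∑ i, (f.app W (a i) : Γ(X, f ⁻¹ᵁ W)) • up f (y i) := by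
  induction' (Finset.univ : Finset (Fin n)) using Finset.induction_on with j T hj ih
  · simp only [Finset.sum_empty]; rfl
  · rw [Finset.sum_insert hj, Finset.sum_insert hj, ← ih]
    rfl

theorem isBasisLike_unit (M : S.Modules) [M.IsQuasicoherent] {W : S.Opens} (hW : IsAffineOpen W)
    {n : ℕ} (b : Module.Basis (Fin n) Γ(S, W) Γ(M, W)) :
    IsBasisLike Γ(X, f ⁻¹ᵁ W) (fun i => up f ((η f M).app W (b i))) := by
  refine isBasisLike_of_affine _ _ _ fun U hU hUV => ?_
  exact isBasisLike_of_existsUnique_lift (f.appLE W U hUV).hom (unitSec f M hUV)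
    (unitSec_smul f M hUV) (fun Q _ _ l hl => existsUnique_lift f M hW hU hUV Q l hl) b

theorem unit_app_bijective (hf : ∀ U : S.Opens, Function.Bijective (f.app U))
    (M : S.Modules) [M.IsQuasicoherent] {W : S.Opens} (hW : IsAffineOpen W)
    {n : ℕ} (b : Module.Basis (Fin n) Γ(S, W) Γ(M, W)) :
    Function.Bijective ((η f M).app W) := by
  have hB := isBasisLike_unit f M hW b
  have key : ∀ a : Fin n → Γ(S, W), up f ((η f M).app W (∑ i, a i • b i)) =
      ∑ i, (f.app W (a i) : Γ(X, f ⁻¹ᵁ W)) • up f ((η f M).app W (b i)) := by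
    intro a
    rw [← up_sum, map_sum]
    congr 1
    exact Finset.sum_congr rfl fun i _ => Scheme.Modules.Hom.app_smul _ _ _
  constructor
  · rw [injective_iff_map_eq_zero]
    intro m hm
    have h1 := key (fun i => b.repr m i)
    rw [b.sum_repr m, hm] at h1
    have h2 := hB.1 _ h1.symm
    have h3 : ∀ i, b.repr m i = 0 := fun i =>
      (hf W).1 ((congrFun h2 i).trans (map_zero (f.app W).hom).symm)
    rw [← b.sum_repr m]
    exact Finset.sum_eq_zero fun i _ => by rw [h3 i, zero_smul]
  · intro t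
    obtain ⟨c, hc⟩ := hB.2 (up f t)
    have hex : ∀ i, ∃ a : Γ(S, W), f.app W a = c i := fun i => (hf W).2 (c i)
    choose a ha using hex
    refine ⟨∑ i, a i • b i, ?_⟩
    have := key a
    simp_rw [ha] at this
    exact this.trans hc.symm


/-- **Key lemma**: if `O_S → f_* O_X` is bijective on all opens, then the unit `M → f_* f^* M` is an
isomorphism for every finite locally free `M`. -/
theorem isIso_unit (hf : ∀ U : S.Opens, Function.Bijective (f.app U))
    (M : S.Modules) (hM : FlatMod.IsFinLocFree M) : IsIso (η f M) := by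
  haveI : M.IsQuasicoherent :=
    Groth.Agent.Helper18Strict.isQCoh_of_isFP M (Groth.Agent.Lib.Helper2.LocFree.isFP_of_isFinLocFree M hM)
  let ι : Type u := {W : S.Opens // IsAffineOpen W ∧
    ∃ n : ℕ, Nonempty (Module.Basis (Fin n) Γ(S, W) Γ(M, W))}
  refine Groth.Agent.Helper13AffBC.isIso_of_bijective_on_basis _ (fun i : ι => i.1) ?_ ?_
  · rw [Opens.isBasis_iff_nbhd]
    intro U x hx
    obtain ⟨U₀, n, hx₀, ⟨e⟩⟩ := hM x
    obtain ⟨W, hW, hxW, hWU, hb⟩ :=
      Groth.Agent.Helper18Dbl.exists_affine_basis_le M U₀.ι e ⟨x, hx₀⟩ U hx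
    exact ⟨W, ⟨⟨W, hW, n, hb⟩, rfl⟩, hxW, hWU⟩
  · rintro ⟨W, hW, n, ⟨b⟩⟩
    exact unit_app_bijective f hf M hW b

end unit

end Groth.Agent.Helper18PBUnit
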