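import Mathlib
import Groth.Agent.Lib.Helper18PBUnit1
import Groth.Agent.Lib.Helper13UnitSub

set_option autoImplicit false
set_option linter.style.haveILetI false
universe u
open CategoryTheory CategoryTheory.Limits AlgebraicGeometry TopologicalSpace Opposite
open Groth.Agent.Helper13PullbackUnit Scheme.Modules

namespace Groth.Agent.Helper18PBUnit

theorem unit_app_eq_unitSec {Z X : Scheme.{u}} (i : Z ⟶ X) (F : X.Modules) (U : X.Opens)
    (m : Γ(F, U)) :
    ((pullbackPushforwardAdjunction i).unit.app F).app U m = unitSec i F (le_refl (i ⁻¹ᵁ U)) m := by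
  rw [unitSec_apply]
  have h1 : ∀ z : Γ((Scheme.Modules.pullback i).obj F, i ⁻¹ᵁ U),
      z = ((Scheme.Modules.pullback i).obj F).presheaf.map (homOfLE (le_refl (i ⁻¹ᵁ U))).op z := by
    intro z
    have h0 : (homOfLE (le_refl (i ⁻¹ᵁ U))).op = 𝟙 (op (i ⁻¹ᵁ U)) := rfl
    rw [h0, CategoryTheory.Functor.map_id]
    rfl
  exact h1 _

theorem main_S9376 {Z X : Scheme.{u}} (i : Z ⟶ X) [IsClosedImmersion i]
    (G : X.Modules) [G.IsQuasicoherent] :
    IsIso ((Scheme.Modules.pullbackPushforwardAdjunction i).unit.app G) ↔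
      ∀ (U : X.affineOpens) (a : Γ(X, U.1)), a ∈ i.ker.ideal U → ∀ s : Γ(G, U.1), a • s = 0 := by
  constructor
  · intro hiso U a ha s
    have h1 : i.app U.1 a = 0 := i.ideal_ker_le U ha
    have hinj : Function.Injective (((pullbackPushforwardAdjunction i).unit.app G).app U.1) := by
      have : IsIso (((pullbackPushforwardAdjunction i).unit.app G).app U.1) :=
        Scheme.Modules.Hom.isIso_iff_isIso_app.1 hiso _
      exact (ConcreteCategory.bijective_of_isIso _).1
    apply hinj
    rw [Scheme.Modules.Hom.app_smul, map_zero, pushforward_smul, h1, zero_smul]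
    rfl
  · intro hJ
    refine Groth.Agent.Helper13AffBC.isIso_of_bijective_on_basis _
      (fun U : X.affineOpens => (U.1 : X.Opens)) ?_ fun U => ?_
    · have := X.isBasis_affineOpens
      rwa [← Subtype.range_coe (s := X.affineOpens)] at this
    · have hU' : IsAffineOpen (i ⁻¹ᵁ U.1) := U.2.preimage i
      have hle : i ⁻¹ᵁ U.1 ≤ i ⁻¹ᵁ U.1 := le_rfl
      have hbij : Function.Bijective (unitSec i G hle) := by
        refine Groth.Agent.Helper13BCAlg2.bijective_of_lift_of_surjective
          (i.appLE U.1 (i ⁻¹ᵁ U.1) hle).hom ?_ ?_ _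
          (unitSec_smul i G hle)
          (fun N _ _ l hl => existsUnique_lift i G U.2 hU' hle N l hl)
        · rw [Scheme.Hom.appLE_eq_app]
          exact i.app_surjective U.1 U.2
        · intro r hr m
          rw [Scheme.Hom.appLE_eq_app, ← i.ker_apply U] at hr
          exact hJ U r hr m
      have : ⇑(ConcreteCategory.hom
          (((pullbackPushforwardAdjunction i).unit.app G).app U.1)) =
          ⇑(unitSec i G hle) := funext (unit_app_eq_unitSec i G U.1)
      rw [this]
      exact hbij

end Groth.Agent.Helper18PBUnit
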