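import Mathlib
import Groth.Agent.Lib.Helper18Ann1
import Groth.Agent.Lib.Helper18PBUnit4
import Groth.Agent.Lib.Helper18FittSh1
import Groth.Agent.Lib.Helper20FittSheaf

set_option autoImplicit false
set_option linter.style.haveILetI false
universe u
open CategoryTheory CategoryTheory.Limits AlgebraicGeometry TopologicalSpace Opposite
open Groth.Agent.Lib.Helper2.FPAff

namespace Groth.Agent.Helper18Ann

variable {X : Scheme.{u}} (M : X.Modules) [M.IsQuasicoherent]

theorem map_ann_basicOpen {U : X.Opens} (hU : IsAffineOpen U) (g : Γ(X, U))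
    [Module.Finite Γ(X, U) Γ(M, U)] :
    (Module.annihilator Γ(X, U) Γ(M, U)).map (X.presheaf.map (homOfLE (X.basicOpen_le g)).op).hom =
      Module.annihilator Γ(X, X.basicOpen g) Γ(M, X.basicOpen g) := by
  letI := moduleRes M (X.basicOpen_le g)
  haveI := isScalarTower_basicOpen M g
  haveI := isLocalizedModule_basicOpen M hU g
  haveI : IsLocalization.Away g Γ(X, X.basicOpen g) := hU.isLocalization_basicOpen g
  exact annihilator_map_eq (Submonoid.powers g) (resₗ M (X.basicOpen_le g))

/-- the annihilator ideal sheaf of a quasi-coherent module of finite type. -/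
noncomputable def annSheaf (hfin : ∀ V : X.affineOpens, Module.Finite Γ(X, V.1) Γ(M, V.1)) :
    X.IdealSheafData where
  ideal V := Module.annihilator Γ(X, V.1) Γ(M, V.1)
  map_ideal_basicOpen V g := by
    haveI := hfin V
    exact map_ann_basicOpen M V.2 g

theorem main_S9377 (hft : CohB1.IsFT M) :
    ∃ J : X.IdealSheafData,
      (∀ U : X.affineOpens, J.ideal U = Module.annihilator Γ(X, U.1) Γ(M, U.1)) ∧
        IsIso ((Scheme.Modules.pullbackPushforwardAdjunction J.subschemeι).unit.app M) ∧
          (∀ J' : X.IdealSheafData,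
            IsIso ((Scheme.Modules.pullbackPushforwardAdjunction J'.subschemeι).unit.app M) → J' ≤ J) ∧
            (J.support : Set ↑X) = CohB1.support M := by
  have hfin := Groth.Agent.Helper18FittSh.finite_sections M hft
  refine ⟨annSheaf M hfin, fun U => rfl, ?_, ?_, ?_⟩
  · refine Groth.Agent.Helper13UnitSub.isIso_unit_subscheme M _ fun U r hr m => ?_
    exact Module.mem_annihilator.1 hr m
  · intro J' hJ'
    have h := (Groth.Agent.Helper18PBUnit.main_S9376 J'.subschemeι M).1 hJ'
    rw [Scheme.IdealSheafData.le_def]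
    intro U a ha
    change a ∈ Module.annihilator Γ(X, U.1) Γ(M, U.1)
    rw [Module.mem_annihilator]
    intro s
    refine h U a ?_ s
    rw [Scheme.IdealSheafData.ker_subschemeι]
    exact ha
  · ext x
    obtain ⟨V, hV, hxV, -⟩ := exists_isAffineOpen_mem_and_subset (x := x) (U := ⊤) trivial
    haveI := hfin ⟨V, hV⟩
    change x ∈ (annSheaf M hfin).support ↔ ¬ Subsingleton (M.presheaf.stalk x)
    rw [Scheme.IdealSheafData.mem_support_iff_of_mem (U := ⟨V, hV⟩) hxV,
      Groth.Agent.Lib.Helper20.FittSheaf.subsingleton_stalk_iff_notMem_support M hV x hxV, not_not,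
      Module.support_eq_zeroLocus, PrimeSpectrum.mem_zeroLocus, Scheme.mem_zeroLocus_iff]
    constructor
    · intro h f hf
      by_contra hfp
      exact h f hf ((Groth.Agent.Lib.Helper2.mem_basicOpen_iff_notMem_primeIdealOf hV x hxV f).mpr hfp)
    · intro h f hf hxf
      exact (Groth.Agent.Lib.Helper2.mem_basicOpen_iff_notMem_primeIdealOf hV x hxV f).mp hxf (h hf)

end Groth.Agent.Helper18Ann
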