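import Mathlib
import Groth.Agent.Lib.Helper4DevM
import Groth.Agent.Lib.Helper17FinCore
import Groth.Agent.Lib.Helper2PullbackSec
import Groth.Agent.Lib.Helper20FormalPull
import Groth.Agent.S9377
import Groth.Agent.S0787
import Groth.Agent.S0020

/-!
# Modules with proper support (helper4)

* `support_push_eq`: `Supp (i_* N) = i '' Supp N` for a closed immersion `i`.
* `exists_closed_push_iso`: a quasi-coherent module of finite type is `i_* i^* F` for the closed subscheme
  defined by its annihilator, whose underlying set is `Supp F`.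
* `isProperOver_support_iff`: S0792.
-/

set_option autoImplicit false
set_option linter.style.haveILetI false
set_option linter.unusedSectionVars false
universe u
open CategoryTheory CategoryTheory.Limits AlgebraicGeometry

namespace Groth.Agent.Lib.Helper4.PropSupp
open Groth.Agent.Lib.Helper4.Dev

section
variable {Z X : Scheme.{u}} (i : Z ⟶ X) [IsClosedImmersion i]

theorem support_push_eq (N : Z.Modules) :
    CohB1.support ((Scheme.Modules.pushforward i).obj N) = ⇑i '' CohB1.support N := by
  apply Set.Subset.antisymm
  · intro x hx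
    obtain ⟨z, rfl⟩ := support_push_subset i N hx
    refine ⟨z, fun hs => hx ?_, rfl⟩
    exact Groth.Agent.Lib.Helper17.FinCore.subsingleton_stalk_push i
      i.isClosedEmbedding.isInducing N z hs
  · rintro _ ⟨z, hz, rfl⟩
    have hnt : Nontrivial (N.presheaf.stalk z) := not_subsingleton_iff_nontrivial.1 hz
    have := nontrivial_stalk_push i N z hnt
    exact not_subsingleton_iff_nontrivial.2 this

end

variable {X S : Scheme.{u}}

theorem exists_closed_push_iso (F : X.Modules) (hq : Coh.IsQCoh F) (hft : CohB1.IsFT F) :
    ∃ J : X.IdealSheafData, (J.support : Set X) = CohB1.support F ∧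
      Coh.IsQCoh ((Scheme.Modules.pullback J.subschemeι).obj F) ∧
      CohB1.IsFT ((Scheme.Modules.pullback J.subschemeι).obj F) ∧
      Nonempty ((Scheme.Modules.pushforward J.subschemeι).obj
        ((Scheme.Modules.pullback J.subschemeι).obj F) ≅ F) := by
  obtain ⟨J, -, hiso, -, hsupp⟩ := Groth.Agent.S9377.result X F hq hft
  haveI : F.IsQuasicoherent := hq
  haveI : SheafOfModules.IsFiniteType (R := X.ringCatSheaf) F := hft
  refine ⟨J, hsupp, ?_, ?_, ⟨?_⟩⟩
  · exact Groth.Agent.Lib.Helper2.PullbackSec.isQuasicoherent_pullback J.subschemeι F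
  · exact Groth.Agent.Lib.Helper20.FormalPull.isFiniteType_pullback J.subschemeι F
  · haveI := hiso
    exact (asIso ((Scheme.Modules.pullbackPushforwardAdjunction J.subschemeι).unit.app F)).symm

/-- S0792 -/
theorem isProperOver_support_iff (f : X ⟶ S) [LocallyOfFiniteType f]
    (F : X.Modules) (hq : Coh.IsQCoh F) (hft : CohB1.IsFT F) :
    ClSub.IsProperOver f (CohB1.support F) ↔
      ∃ (Z : Scheme.{u}) (i : Z ⟶ X), IsClosedImmersion i ∧ IsProper (i ≫ f) ∧
        ∃ G : Z.Modules, Coh.IsQCoh G ∧ CohB1.IsFT G ∧
          Nonempty ((Scheme.Modules.pushforward i).obj G ≅ F) := by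
  have hcl : IsClosed (CohB1.support F) := Groth.Agent.S0020.result X F hft
  constructor
  · intro hp
    obtain ⟨J, hsupp, hGq, hGft, hiso⟩ := exists_closed_push_iso F hq hft
    have hr : Set.range ⇑J.subschemeι = CohB1.support F := by
      rw [Scheme.IdealSheafData.range_subschemeι, hsupp]
    exact ⟨J.subscheme, J.subschemeι, inferInstance,
      ((Groth.Agent.S0787.result f _ hcl).2.1 hp) J.subscheme J.subschemeι inferInstance hr,
      _, hGq, hGft, hiso⟩
  · rintro ⟨Z, i, hi, hpr, G, hGq, hGft, ⟨e⟩⟩
    have hclG : IsClosed (CohB1.support G) := Groth.Agent.S0020.result Z G hGft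
    refine (Groth.Agent.S0787.result f _ hcl).1.2 ?_
    let I := Scheme.IdealSheafData.vanishingIdeal ⟨CohB1.support G, hclG⟩
    refine ⟨I.subscheme, I.subschemeι ≫ i, inferInstance, ?_, ?_⟩
    · rw [← support_eq_of_iso e, support_push_eq i G, Scheme.Hom.comp_base, TopCat.coe_comp,
        Set.range_comp, Scheme.IdealSheafData.range_subschemeι,
        Scheme.IdealSheafData.coe_support_vanishingIdeal]
      rfl
    · rw [Category.assoc]
      infer_instance

end Groth.Agent.Lib.Helper4.PropSupp
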