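import Mathlib
import Groth.Agent.Lib.Helper4PropSupp
import Groth.Agent.Lib.Helper17FinClosed
import Groth.Agent.Lib.Helper27QProjCover2
import Groth.Agent.Lib.Helper27SerreVan
import Groth.Agent.Lib.Helper4KTensor
import Groth.Agent.S0010

/-!
# Cohomology of a coherent module on `P^n_A` vanishes above the dimension of its support (helper27)
-/

set_option autoImplicit false
universe u

open CategoryTheory CategoryTheory.Limits AlgebraicGeometry TopologicalSpace Topology

namespace Groth.Agent.Lib.Helper27SuppDimVan

open Groth.Agent.Lib.Helper27ProjSpaceBC Groth.Agent.Lib.Helper27ProjSpaceFibres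
  Groth.Agent.Lib.Helper27QProjCover

theorem isAffineOpen_inf_of_isSeparated {Z : Scheme.{u}} {R : CommRingCat.{u}} (f : Z ⟶ Spec R)
    [IsSeparated f] (V W : Z.Opens) (hV : IsAffineOpen V) (hW : IsAffineOpen W) :
    IsAffineOpen (V ⊓ W) := by
  have h : IsAffineHom (pullback.diagonal f) := inferInstance
  exact isAffineHom_diagonal_iff.mp h ⊤ (isAffineOpen_top _) V (by simp) W (by simp) hV hW

theorem support_tensorMod_subset_left {X : Scheme.{u}} (E F : X.Modules) :
    CohB1.support (CohB1.tensorMod E F) ⊆ CohB1.support E := by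
  intro x hx hE
  apply hx
  haveI : Subsingleton ↑(E.presheaf.stalk x) := hE
  exact (Groth.Agent.Lib.Helper4.KTensor.stalkTensorEquiv E F x).toEquiv.subsingleton

theorem subsingleton_HH_of_support_dim (A : Type u) [CommRing A] [IsNoetherianRing A] (n : ℕ)
    (F : (CohB1.ProjSpace n A).Modules) (hF : Coh.IsCoh F) (d : ℕ)
    (hd : topologicalKrullDim (CohB1.support F) < (d : WithBot ℕ∞)) (i : ℕ) (hi : d ≤ i) :
    Subsingleton (Coh.HH (CohB1.ProjSpace n A) F i) := by
  obtain ⟨J, hJ, hq, hft, ⟨e⟩⟩ :=
    Groth.Agent.Lib.Helper4.PropSupp.exists_closed_push_iso F hF.1 hF.2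
  have hN := isNoetherian_projSpace n A
  have hNs : NoetherianSpace (CohB1.ProjSpace n A) :=
    IsNoetherian.noetherianSpace (X := CohB1.ProjSpace n A)
  have hZN : NoetherianSpace J.subscheme :=
    J.subschemeι.isEmbedding.isInducing.noetherianSpace
  have hdim : topologicalKrullDim J.subscheme < (d : WithBot ℕ∞) := by
    have h1 : topologicalKrullDim J.subscheme =
        topologicalKrullDim (Set.range J.subschemeι) :=
      IsHomeomorph.topologicalKrullDim_eq _
        (J.subschemeι.isEmbedding.toHomeomorph).isHomeomorph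
    have h2 : Set.range J.subschemeι = CohB1.support F := by
      rw [← hJ]
      exact J.range_subschemeι
    rw [h1, h2]
    exact hd
  let j : J.subscheme ⟶ Proj (CohB1.polyGrading n A) := J.subschemeι
  haveI hI : IsImmersion j := by
    have : IsClosedImmersion J.subschemeι := inferInstance
    exact (inferInstance : IsImmersion J.subschemeι)
  obtain ⟨U, hU, hcov⟩ := exists_affine_cover (CohB1.polyGrading n A)
    (X := J.subscheme) j d hdim
  have hp := isProper_projSpace_toSpec n A
  haveI : IsSeparated (J.subschemeι ≫ CohB1.ProjSpace.toSpec n A) := inferInstance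
  haveI : Coh.IsQCoh ((Scheme.Modules.pullback J.subschemeι).obj F) := hq
  have h0 := Groth.Agent.S0010.result J.subscheme d U hU hcov
    (fun V W hV hW => isAffineOpen_inf_of_isSeparated
      (J.subschemeι ≫ CohB1.ProjSpace.toSpec n A) V W hV hW)
    ((Scheme.Modules.pullback J.subschemeι).obj F) i hi
  have h1 := Groth.Agent.Lib.Helper17.FinClosed.subsingleton_HH_push_of_closedImmersion
    J.subschemeι _ i h0
  exact Groth.Agent.Lib.Helper27SerreVan.subsingleton_HH_of_iso e.symm i h1

end Groth.Agent.Lib.Helper27SuppDimVan
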