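import Mathlib
import Groth.Agent.Lib.Helper12ParA
import Groth.Agent.Lib.Helper12SubQuotD
import Groth.Agent.Lib.Helper27GlobGenPn
import Groth.Agent.Lib.Helper27SuppDimVan
import Groth.Agent.Lib.Helper21ExtCartier2
import Groth.Agent.Lib.Helper12SnapD
import Groth.Prelude.Def_W4swparbununimodPar
set_option backward.isDefEq.respectTransparency.types false

/-!
# Parabolic Hilbert polynomials: supports of the filtration quotients and coefficient comparisons (helper12)
-/

set_option autoImplicit false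
set_option linter.style.haveILetI false
set_option linter.unusedSectionVars false
set_option linter.unusedVariables false
universe u
open CategoryTheory CategoryTheory.Limits AlgebraicGeometry TopologicalSpace Opposite

namespace Groth.Agent.Lib.Helper12.ParB

open Groth.Agent.Lib.Helper4.Dev Groth.Agent.Lib.Helper4.CurveChi
  Groth.Agent.Lib.Helper12.Snap Groth.Agent.Lib.Helper12.Pos Groth.Agent.Lib.Helper12.HP
  Groth.Agent.Lib.Helper12.HPC Groth.Agent.Lib.Helper12.SubQF Groth.Agent.Lib.Helper12.SubQC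
  Groth.Agent.Lib.Helper12.SubQ Groth.Agent.Lib.Helper27GlobGenPn

section Supp

variable {X : Scheme.{u}}

theorem support_tensorMod_subset_right (E F : X.Modules) :
    CohB1.support (CohB1.tensorMod E F) ⊆ CohB1.support F := by
  intro x hx hF
  apply hx
  haveI : Subsingleton ↑(F.presheaf.stalk x) := hF
  exact (Groth.Agent.Lib.Helper4.KTensor.stalkTensorEquiv E F x).toEquiv.subsingleton

theorem support_quotMod_subset (I : X.IdealSheafData) :
    CohB1.support (ClSub.quotMod I) ⊆ (I.support : Set X) := by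
  intro x hx
  have := support_push_subset I.subschemeι (Coh.structureModule I.subscheme) hx
  rw [Scheme.IdealSheafData.range_subschemeι] at this
  exact this

theorem support_cokernel_twistMap (I : X.IdealSheafData) (E : X.Modules) :
    CohB1.support (cokernel (ParSh.twistMap I E)) ⊆ CohB1.support E ∩ (I.support : Set X) := by
  refine Set.subset_inter (support_subset_of_epi (cokernel.π _)) ?_
  -- right exactness of `E ⊗ -`
  let S := Groth.Agent.Lib.Helper21.ExtCartier.idealSES I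
  have hS : S.ShortExact := Groth.Agent.Lib.Helper21.ExtCartier.idealSES_shortExact I
  haveI : Epi S.g := hS.epi_g
  haveI : PreservesFiniteColimits (tl E) :=
    Groth.Agent.Lib.Helper21.ModTensor5.tL_preservesFiniteColimits X.sheaf E
  have hex := hS.exact.map_of_epi_of_preservesCokernel (tl E) inferInstance inferInstance
  haveI : Epi (S.map (tl E)).g := by
    change Epi ((tl E).map S.g)
    infer_instance
  let e1 : cokernel ((tl E).map (ClSub.idealModι I)) ≅ CohB1.tensorMod E (ClSub.quotMod I) :=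
    IsColimit.coconePointUniqueUpToIso (cokernelIsCokernel ((tl E).map (ClSub.idealModι I))) hex.gIsCokernel
  have h1 : ParSh.twistMap I E = (tl E).map (ClSub.idealModι I) ≫ (SecTwist.unitorR E).hom := by
    unfold ParSh.twistMap
    rw [← KoszTw.tensorBi_obj_map]
    rfl
  let e2 : cokernel (ParSh.twistMap I E) ≅ cokernel ((tl E).map (ClSub.idealModι I)) := by
    rw [h1]
    exact cokernelCompIsIso _ _
  rw [Groth.Agent.Lib.Helper12.HPC.support_eq_of_iso (e2 ≪≫ e1)]
  exact (support_tensorMod_subset_right E _).trans (support_quotMod_subset I)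

theorem support_cokernel_imageSubobject_arrow {A E : X.Modules} (f : A ⟶ E) :
    CohB1.support (cokernel (imageSubobject f).arrow) ⊆ CohB1.support (cokernel f) := by
  have hw : f ≫ cokernel.π (imageSubobject f).arrow = 0 := by
    have h1 : f ≫ cokernel.π (imageSubobject f).arrow =
        (factorThruImageSubobject f ≫ (imageSubobject f).arrow) ≫ cokernel.π (imageSubobject f).arrow := by
      rw [imageSubobject_arrow_comp f]
    rw [h1, Category.assoc, cokernel.condition, Limits.comp_zero]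
  have hfac : cokernel.π f ≫ cokernel.desc f (cokernel.π (imageSubobject f).arrow) hw =
      cokernel.π (imageSubobject f).arrow := cokernel.π_desc _ _ _
  haveI : Epi (cokernel.desc f (cokernel.π (imageSubobject f).arrow) hw) :=
    epi_of_epi_fac hfac
  exact support_subset_of_epi (cokernel.desc f (cokernel.π (imageSubobject f).arrow) hw)

/-- the quotient `B/A` of subobjects containing `Z` is supported in the support of `E/Z` -/
theorem support_cokernel_ofLE_subset {E : X.Modules} {Z A B : Subobject E} (hZA : Z ≤ A) (hAB : A ≤ B) :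
    CohB1.support (cokernel (Subobject.ofLE A B hAB)) ⊆ CohB1.support (cokernel Z.arrow) := by
  have h1 : CohB1.support (cokernel (Subobject.ofLE A B hAB)) ⊆
      CohB1.support (cokernel (Subobject.ofLE Z B (hZA.trans hAB))) :=
    support_subset_of_epi (cokV (Subobject.ofLE Z A hZA) (Subobject.ofLE A B hAB)
      (Subobject.ofLE Z B (hZA.trans hAB)) (Subobject.ofLE_comp_ofLE _ _ _ _ _))
  exact h1.trans (support_subset_of_mono (subU (hZA.trans hAB)))

theorem withBot_le_pred {x : WithBot ℕ∞} {d : ℕ} (hd : 1 ≤ d) (h : x < (d : WithBot ℕ∞)) :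
    x ≤ ((d - 1 : ℕ) : WithBot ℕ∞) := by
  induction x using WithBot.recBotCoe with
  | bot => exact bot_le
  | coe a =>
    have h' : a < (d : ℕ∞) := by exact_mod_cast h
    have : a ≤ ((d - 1 : ℕ) : ℕ∞) := by
      have hd' : (d : ℕ∞) = ((d - 1 : ℕ) : ℕ∞) + 1 := by
        norm_cast; omega
      rw [hd'] at h'
      exact Order.le_of_lt_add_one h'
    exact WithBot.coe_le_coe.2 this

end Supp

section Generic

variable {C : Type*} [Category C] {E : C} (𝓔 : ParSh.Str E)

theorem pieceX_succ_le (j : Fin (𝓔.l + 1)) : 𝓔.pieceX j.succ ≤ 𝓔.pieceX j.castSucc := by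
  rw [ParSh.Str.pieceX_castSucc]
  induction j using Fin.lastCases with
  | last => rw [ParSh.Str.pieceX_succ_last]; exact 𝓔.bot_le _
  | cast j => rw [ParSh.Str.pieceX_succ_castSucc]; exact 𝓔.piece_anti (Fin.castSucc_lt_succ (i := j)).le

theorem pieceX_zero : 𝓔.pieceX 0 = ⊤ := by
  have : (0 : Fin (𝓔.l + 2)) = (0 : Fin (𝓔.l + 1)).castSucc := rfl
  rw [this, ParSh.Str.pieceX_castSucc, 𝓔.piece_zero]

end Generic

section Core

variable (k : Type u) [Field k] (X : Scheme.{u}) [X.Over (Spec (CommRingCat.of k))]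
  [IsProper (X ↘ (Spec (CommRingCat.of k)))] (L : X.Modules) (hL : CohB1.IsAmple L)

include hL in
/-- the Hilbert polynomials of consecutive pieces of a parabolic structure along `I` agree in degrees `≥ d` and are
ordered in degree `d - 1`, when `Supp E ∩ Supp D` has dimension `< d` -/
theorem coeff_pieceX (I : X.IdealSheafData) (E : X.Modules) (hE : Coh.IsCoh E) (𝓔 : ParSh.Str E)
    (h𝓔 : 𝓔.Along I) (hcoh : ∀ j, Coh.IsCoh ((𝓔.pieceX j : Subobject E) : X.Modules)) (d : ℕ)
    (hsupp : topologicalKrullDim ↥(CohB1.support E ∩ (I.support : Set X)) < (d : WithBot ℕ∞))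
    (P : Polynomial ℚ) (hP : ShStab.IsHilbPoly k X L E P) (PX : Fin (𝓔.l + 2) → Polynomial ℚ)
    (hPX : ∀ j, ShStab.IsHilbPoly k X L ((𝓔.pieceX j : Subobject E) : X.Modules) (PX j)) :
    PX 0 = P ∧
    (∀ (j : Fin (𝓔.l + 1)) (n : ℕ), d ≤ n → (PX j.castSucc).coeff n = (PX j.succ).coeff n) ∧
    (∀ j : Fin (𝓔.l + 1), 1 ≤ d → (PX j.succ).coeff (d - 1) ≤ (PX j.castSucc).coeff (d - 1)) := by
  haveI : IsNoetherian X := Groth.Agent.Lib.Helper4.CurveRR.isNoetherian_of_proper k X
  haveI : IsLocallyNoetherian X := inferInstance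
  have h0 : PX 0 = P := by
    have e : ((𝓔.pieceX 0 : Subobject E) : X.Modules) ≅ E := by
      rw [pieceX_zero]
      exact asIso (⊤ : Subobject E).arrow
    exact hilbPoly_unique k X (hilbPoly_of_iso k X L hL.1 e (hPX 0)) hP
  have key : ∀ j : Fin (𝓔.l + 1), ∃ q : Polynomial ℚ, PX j.castSucc = PX j.succ + q ∧
      (∀ n, d ≤ n → q.coeff n = 0) ∧ (1 ≤ d → 0 ≤ q.coeff (d - 1)) := by
    intro j
    have hle := pieceX_succ_le 𝓔 j
    have hQ : Coh.IsCoh (cokernel (Subobject.ofLE _ _ hle)) := isCoh_cokernel _ (hcoh _) (hcoh _)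
    obtain ⟨q, hq⟩ := exists_hilbPoly k X L hL.1 _ hQ
    have hS : (ShortComplex.mk (Subobject.ofLE _ _ hle) (cokernel.π (Subobject.ofLE _ _ hle))
        (cokernel.condition _)).ShortExact :=
      ShortComplex.ShortExact.mk' (ShortComplex.exact_cokernel _) inferInstance inferInstance
    have hadd := hilbPoly_add k X L hL.1 _ hS (hcoh _) (hcoh _) hQ (hPX j.succ) hq
    have hdim : topologicalKrullDim ↥(CohB1.support (cokernel (Subobject.ofLE _ _ hle))) < (d : WithBot ℕ∞) := by
      refine lt_of_le_of_lt (dim_le_of_subset' ?_) hsupp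
      refine (support_cokernel_ofLE_subset (Z := 𝓔.bot) (𝓔.bot_le_pieceX _) hle).trans ?_
      have hb : 𝓔.bot = imageSubobject (ParSh.twistMap I E) := h𝓔
      rw [hb]
      exact (support_cokernel_imageSubobject_arrow _).trans (support_cokernel_twistMap I E)
    refine ⟨q, hilbPoly_unique k X (hPX j.castSucc) hadd, fun n hn => ?_, fun hd => ?_⟩
    · have h1 := alpha_eq_zero k X L hL.1 _ hQ n
        (lt_of_lt_of_le hdim (by exact_mod_cast hn)) hq
      unfold StabCat.alpha at h1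
      rcases mul_eq_zero.1 h1 with h | h
      · exact absurd h (by positivity)
      · exact h
    · have h1 := alpha_nonneg k X L hL _ hQ (d - 1) (withBot_le_pred hd hdim) hq
      unfold StabCat.alpha at h1
      exact nonneg_of_mul_nonneg_right h1 (by positivity)
  refine ⟨h0, fun j n hn => ?_, fun j hd => ?_⟩
  · obtain ⟨q, hq, hq0, -⟩ := key j
    rw [hq, Polynomial.coeff_add, hq0 n hn, add_zero]
  · obtain ⟨q, hq, -, hq1⟩ := key j
    rw [hq, Polynomial.coeff_add]
    linarith [hq1 hd]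

omit [IsProper (X ↘ Spec (CommRingCat.of k))] [X.Over (Spec (CommRingCat.of k))] in
theorem coeff_parPoly {E : X.Modules} (𝓔 : ParSh.Str E) (PX : Fin (𝓔.l + 2) → Polynomial ℚ) (n : ℕ) :
    (W4swparbununimod.parPoly 𝓔 PX).coeff n = (((PX (Fin.last (𝓔.l + 1))).coeff n : ℚ) : ℝ) +
      ∑ j : Fin (𝓔.l + 1), 𝓔.wt j * ((((PX j.castSucc).coeff n : ℚ) : ℝ) - (((PX j.succ).coeff n : ℚ) : ℝ)) := by
  unfold W4swparbununimod.parPoly W4swparbununimod.rpoly
  rw [Polynomial.coeff_add, Polynomial.finsetSum_coeff, Polynomial.coeff_map]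
  refine congrArg₂ (· + ·) rfl (Finset.sum_congr rfl (fun j _ => ?_))
  rw [Polynomial.coeff_C_mul, Polynomial.coeff_sub, Polynomial.coeff_map, Polynomial.coeff_map]
  rfl

/-- telescoping: the coefficient of `PX 0` -/
theorem coeff_zero_eq (l : ℕ) (g : Fin (l + 2) → ℝ) :
    g 0 = g (Fin.last (l + 1)) + ∑ j : Fin (l + 1), (g j.castSucc - g j.succ) := by
  have h1 := Fin.sum_univ_succ g
  have h2 := Fin.sum_univ_castSucc g
  rw [Finset.sum_sub_distrib]
  linarith

include hL in
theorem main_S18525 (I : X.IdealSheafData) (E : X.Modules) (hE : Coh.IsCoh E) (𝓔 : ParSh.Str E)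
    (h𝓔 : 𝓔.Along I) (hcoh : ∀ j, Coh.IsCoh ((𝓔.pieceX j : Subobject E) : X.Modules)) (d : ℕ)
    (hsupp : topologicalKrullDim ↥(CohB1.support E ∩ (I.support : Set X)) < (d : WithBot ℕ∞))
    (P : Polynomial ℚ) (hP : ShStab.IsHilbPoly k X L E P) (PX : Fin (𝓔.l + 2) → Polynomial ℚ)
    (hPX : ∀ j, ShStab.IsHilbPoly k X L ((𝓔.pieceX j : Subobject E) : X.Modules) (PX j))
    (n : ℕ) (hn : d ≤ n) :
    (W4swparbununimod.parPoly 𝓔 PX).coeff n = (W4swparbununimod.rpoly P).coeff n := by
  obtain ⟨h0, ha, -⟩ := coeff_pieceX k X L hL I E hE 𝓔 h𝓔 hcoh d hsupp P hP PX hPX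
  rw [coeff_parPoly]
  unfold W4swparbununimod.rpoly
  rw [Polynomial.coeff_map, ← h0]
  have hz : ∀ j : Fin (𝓔.l + 1),
      ((((PX j.castSucc).coeff n : ℚ) : ℝ) - (((PX j.succ).coeff n : ℚ) : ℝ)) = 0 := by
    intro j
    rw [ha j n hn, sub_self]
  have h1 := coeff_zero_eq 𝓔.l (fun j => (((PX j).coeff n : ℚ) : ℝ))
  simp only [hz, mul_zero, Finset.sum_const_zero, add_zero] at h1 ⊢
  exact h1.symm

include hL in
theorem main_S18527 (I : X.IdealSheafData) (E : X.Modules) (hE : Coh.IsCoh E) (𝓔 : ParSh.Str E)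
    (h𝓔 : 𝓔.Along I) (hcoh : ∀ j, Coh.IsCoh ((𝓔.pieceX j : Subobject E) : X.Modules)) (d : ℕ) (hd : 1 ≤ d)
    (hsupp : topologicalKrullDim ↥(CohB1.support E ∩ (I.support : Set X)) < (d : WithBot ℕ∞))
    (P : Polynomial ℚ) (hP : ShStab.IsHilbPoly k X L E P) (PX : Fin (𝓔.l + 2) → Polynomial ℚ)
    (hPX : ∀ j, ShStab.IsHilbPoly k X L ((𝓔.pieceX j : Subobject E) : X.Modules) (PX j)) :
    (W4swparbununimod.rpoly (PX (Fin.last (𝓔.l + 1)))).coeff (d - 1) ≤
        (W4swparbununimod.parPoly 𝓔 PX).coeff (d - 1) ∧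
      (W4swparbununimod.parPoly 𝓔 PX).coeff (d - 1) ≤ (W4swparbununimod.rpoly P).coeff (d - 1) := by
  obtain ⟨h0, -, hb⟩ := coeff_pieceX k X L hL I E hE 𝓔 h𝓔 hcoh d hsupp P hP PX hPX
  rw [coeff_parPoly]
  unfold W4swparbununimod.rpoly
  rw [Polynomial.coeff_map, Polynomial.coeff_map, ← h0]
  have hnn : ∀ j : Fin (𝓔.l + 1),
      0 ≤ ((((PX j.castSucc).coeff (d - 1) : ℚ) : ℝ) - (((PX j.succ).coeff (d - 1) : ℚ) : ℝ)) := by
    intro j
    have := hb j hd
    have h' : (((PX j.succ).coeff (d - 1) : ℚ) : ℝ) ≤ (((PX j.castSucc).coeff (d - 1) : ℚ) : ℝ) := by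
      exact_mod_cast this
    linarith
  have hw0 : ∀ j : Fin (𝓔.l + 1), 0 ≤ 𝓔.wt j := fun j =>
    𝓔.wt_nonneg.trans (𝓔.wt_strictMono.monotone (Fin.zero_le j))
  have hw1 : ∀ j : Fin (𝓔.l + 1), 𝓔.wt j ≤ 1 := fun j =>
    ((𝓔.wt_strictMono.monotone (Fin.le_last j)).trans_lt 𝓔.wt_lt_one).le
  have h1 := coeff_zero_eq 𝓔.l (fun j => (((PX j).coeff (d - 1) : ℚ) : ℝ))
  constructor
  · have : 0 ≤ ∑ j : Fin (𝓔.l + 1), 𝓔.wt j *
        ((((PX j.castSucc).coeff (d - 1) : ℚ) : ℝ) - (((PX j.succ).coeff (d - 1) : ℚ) : ℝ)) :=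
      Finset.sum_nonneg (fun j _ => mul_nonneg (hw0 j) (hnn j))
    change (((PX (Fin.last (𝓔.l + 1))).coeff (d - 1) : ℚ) : ℝ) ≤ _
    linarith
  · have : ∑ j : Fin (𝓔.l + 1), 𝓔.wt j *
        ((((PX j.castSucc).coeff (d - 1) : ℚ) : ℝ) - (((PX j.succ).coeff (d - 1) : ℚ) : ℝ)) ≤
        ∑ j : Fin (𝓔.l + 1),
        ((((PX j.castSucc).coeff (d - 1) : ℚ) : ℝ) - (((PX j.succ).coeff (d - 1) : ℚ) : ℝ)) :=
      Finset.sum_le_sum (fun j _ => mul_le_of_le_one_left (hnn j) (hw1 j))
    change _ ≤ (((PX 0).coeff (d - 1) : ℚ) : ℝ)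
    linarith

end Core

end Groth.Agent.Lib.Helper12.ParB
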