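import Mathlib
import Groth.Agent.Lib.Helper12ParB
set_option backward.isDefEq.respectTransparency.types false

/-!
# Parabolic Hilbert polynomials of sub-modules with the induced filtration (helper12)
-/

set_option autoImplicit false
set_option linter.style.haveILetI false
set_option linter.unusedSectionVars false
set_option linter.unusedVariables false
universe u
open CategoryTheory CategoryTheory.Limits AlgebraicGeometry TopologicalSpace Opposite

namespace Groth.Agent.Lib.Helper12.ParC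

open Groth.Agent.Lib.Helper4.Dev Groth.Agent.Lib.Helper4.CurveChi
  Groth.Agent.Lib.Helper12.Snap Groth.Agent.Lib.Helper12.Pos Groth.Agent.Lib.Helper12.HP
  Groth.Agent.Lib.Helper12.HPC Groth.Agent.Lib.Helper12.SubQF Groth.Agent.Lib.Helper12.SubQC
  Groth.Agent.Lib.Helper12.SubQ Groth.Agent.Lib.Helper12.ParA Groth.Agent.Lib.Helper12.ParB

section Real

open Polynomial Filter

/-- a real polynomial with vanishing coefficients above degree `n` and positive coefficient in degree `n` is eventually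
positive at the natural numbers -/
theorem eventually_pos_of_coeff_pos (D : ℝ[X]) (n : ℕ) (hdeg : ∀ i, n < i → D.coeff i = 0)
    (hpos : 0 < D.coeff n) : ∃ M : ℕ, ∀ m : ℕ, M ≤ m → 0 < D.eval (m : ℝ) := by
  have hD0 : D ≠ 0 := fun h => by simp [h] at hpos
  have hnat : D.natDegree = n := by
    apply le_antisymm
    · rw [Polynomial.natDegree_le_iff_coeff_eq_zero]
      exact hdeg
    · exact Polynomial.le_natDegree_of_ne_zero hpos.ne'
  have hlc : D.leadingCoeff = D.coeff n := by rw [Polynomial.leadingCoeff, hnat]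
  rcases Nat.eq_zero_or_pos n with h0 | h0
  · refine ⟨0, fun m _ => ?_⟩
    have hC : D = C (D.coeff 0) := Polynomial.eq_C_of_natDegree_eq_zero (hnat.trans h0)
    rw [hC, Polynomial.eval_C]
    rw [h0] at hpos
    exact hpos
  · have hdeg' : 0 < D.degree := by
      rw [← Polynomial.natDegree_pos_iff_degree_pos, hnat]; exact h0
    have ht := D.tendsto_atTop_of_leadingCoeff_nonneg hdeg' (by rw [hlc]; exact hpos.le)
    have hev : ∀ᶠ x in atTop, 0 < D.eval x := ht.eventually (eventually_gt_atTop 0)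
    obtain ⟨a, ha⟩ := Filter.eventually_atTop.1 hev
    refine ⟨Nat.ceil a, fun m hm => ha _ ?_⟩
    exact (Nat.le_ceil a).trans (by exact_mod_cast hm)

/-- telescoping over `Fin` -/
theorem sum_telescope' (n : ℕ) (g : Fin (n + 1) → ℝ) :
    ∑ j : Fin n, (g j.succ - g j.castSucc) = g (Fin.last n) - g 0 := by
  have h1 := Fin.sum_univ_succ g
  have h2 := Fin.sum_univ_castSucc g
  rw [Finset.sum_sub_distrib]
  linarith

/-- comparison of two real polynomials whose coefficients agree above degree `n` -/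
theorem poly_compare (A B : ℝ[X]) (n : ℕ) (h : ∀ i, n < i → A.coeff i = B.coeff i) :
    ((∃ M : ℕ, ∀ m : ℕ, M ≤ m → A.eval (m : ℝ) ≤ B.eval (m : ℝ)) → A.coeff n ≤ B.coeff n) ∧
    (A.coeff n < B.coeff n → ∃ M : ℕ, ∀ m : ℕ, M ≤ m → A.eval (m : ℝ) < B.eval (m : ℝ)) := by
  constructor
  · rintro ⟨M, hM⟩
    by_contra hlt
    push Not at hlt
    obtain ⟨M', hM'⟩ := eventually_pos_of_coeff_pos (A - B) n
      (fun i hi => by rw [Polynomial.coeff_sub, h i hi, sub_self])
      (by rw [Polynomial.coeff_sub]; linarith)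
    have h1 := hM (max M M') (le_max_left _ _)
    have h2 := hM' (max M M') (le_max_right _ _)
    rw [Polynomial.eval_sub] at h2
    linarith
  · intro hlt
    obtain ⟨M', hM'⟩ := eventually_pos_of_coeff_pos (B - A) n
      (fun i hi => by rw [Polynomial.coeff_sub, h i hi, sub_self])
      (by rw [Polynomial.coeff_sub]; linarith)
    refine ⟨M', fun m hm => ?_⟩
    have h2 := hM' m hm
    rw [Polynomial.eval_sub] at h2
    linarith

end Real

section Cat

variable {C : Type*} [Category C] [Abelian C]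

/-- `W / (W ∩ A) ⟶ E / A` is a monomorphism -/
theorem exists_mono_cokernel_pullback {W E : C} (ι : W ⟶ E) (A : Subobject E) :
    ∃ m : cokernel ((Subobject.pullback ι).obj A).arrow ⟶ cokernel A.arrow, Mono m :=
  ⟨_, Abelian.mono_cokernel_map_of_isPullback (Subobject.isPullback ι A).flip⟩

end Cat

section Supp

variable {X : Scheme.{u}} [IsLocallyNoetherian X]

theorem isCoh_pullback_obj {W E : X.Modules} (ι : W ⟶ E) [Mono ι] (hW : Coh.IsCoh W) (hE : Coh.IsCoh E)
    (A : Subobject E) (hA : Coh.IsCoh (A : X.Modules)) :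
    Coh.IsCoh (((Subobject.pullback ι).obj A : Subobject W) : X.Modules) := by
  have hS : (ShortComplex.mk ι (cokernel.π ι) (cokernel.condition ι)).ShortExact :=
    ShortComplex.ShortExact.mk' (ShortComplex.exact_cokernel _) inferInstance inferInstance
  have hG : Coh.IsCoh (cokernel ι) := isCoh_cokernel ι hW hE
  have hSA := pullback_image_shortExact ι (cokernel.π ι) (cokernel.condition ι) hS A
  have h3 : Coh.IsCoh ((imageSubobject (A.arrow ≫ cokernel.π ι) : Subobject (cokernel ι)) : X.Modules) :=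
    isCoh_of_iso ((Abelian.imageIsoImage (A.arrow ≫ cokernel.π ι)) ≪≫
      (imageSubobjectIso (A.arrow ≫ cokernel.π ι)).symm) (isCoh_image (A.arrow ≫ cokernel.π ι) hA hG)
  have e := IsLimit.conePointUniqueUpToIso hSA.fIsKernel
    (kernelIsKernel (factorThruImageSubobject (A.arrow ≫ cokernel.π ι)))
  exact isCoh_of_iso e.symm (isCoh_kernel _ hA h3)

/-- the support of `E/A` for `Z ≤ A` -/
theorem support_cokernel_arrow_subset {E : X.Modules} {Z A : Subobject E} (h : Z ≤ A) :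
    CohB1.support (cokernel A.arrow) ⊆ CohB1.support (cokernel Z.arrow) :=
  support_subset_of_epi (subV h)

theorem support_cokernel_pullback_subset {W E : X.Modules} (ι : W ⟶ E) (A : Subobject E) :
    CohB1.support (cokernel ((Subobject.pullback ι).obj A).arrow) ⊆ CohB1.support (cokernel A.arrow) := by
  obtain ⟨m, hm⟩ := exists_mono_cokernel_pullback ι A
  exact support_subset_of_mono m

end Supp

section Core

variable (k : Type u) [Field k] (X : Scheme.{u}) [X.Over (Spec (CommRingCat.of k))]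
  [IsProper (X ↘ (Spec (CommRingCat.of k)))] (L : X.Modules) (hL : CohB1.IsAmple L)

include hL in
/-- vanishing of the coefficients in degrees `≥ d` of the Hilbert polynomial of a coherent module with support of
dimension `< d` -/
theorem coeff_eq_zero_of_dim_lt (M : X.Modules) (hM : Coh.IsCoh M) (d : ℕ)
    (hdim : topologicalKrullDim ↥(CohB1.support M) < (d : WithBot ℕ∞)) {q : Polynomial ℚ}
    (hq : ShStab.IsHilbPoly k X L M q) (n : ℕ) (hn : d ≤ n) : q.coeff n = 0 := by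
  have h1 := alpha_eq_zero k X L hL.1 M hM n (lt_of_lt_of_le hdim (by exact_mod_cast hn)) hq
  unfold StabCat.alpha at h1
  rcases mul_eq_zero.1 h1 with h | h
  · exact absurd h (by positivity)
  · exact h

include hL in
theorem coeff_pred_nonneg_of_dim_lt (M : X.Modules) (hM : Coh.IsCoh M) (d : ℕ) (hd : 1 ≤ d)
    (hdim : topologicalKrullDim ↥(CohB1.support M) < (d : WithBot ℕ∞)) {q : Polynomial ℚ}
    (hq : ShStab.IsHilbPoly k X L M q) : 0 ≤ q.coeff (d - 1) := by
  have h1 := alpha_nonneg k X L hL M hM (d - 1) (withBot_le_pred hd hdim) hq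
  unfold StabCat.alpha at h1
  exact nonneg_of_mul_nonneg_right h1 (by positivity)

include hL in
/-- version of `coeff_pieceX` with a hypothesis on the support of `E / bot` -/
theorem coeff_pieceX' (E : X.Modules) (hE : Coh.IsCoh E) (𝓔 : ParSh.Str E)
    (hcoh : ∀ j, Coh.IsCoh ((𝓔.pieceX j : Subobject E) : X.Modules)) (d : ℕ)
    (hsupp : topologicalKrullDim ↥(CohB1.support (cokernel 𝓔.bot.arrow)) < (d : WithBot ℕ∞))
    (P : Polynomial ℚ) (hP : ShStab.IsHilbPoly k X L E P) (PX : Fin (𝓔.l + 2) → Polynomial ℚ)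
    (hPX : ∀ j, ShStab.IsHilbPoly k X L ((𝓔.pieceX j : Subobject E) : X.Modules) (PX j)) :
    PX 0 = P ∧
    (∀ (j : Fin (𝓔.l + 1)) (n : ℕ), d ≤ n → (PX j.castSucc).coeff n = (PX j.succ).coeff n) ∧
    (∀ j : Fin (𝓔.l + 1), 1 ≤ d → (PX j.succ).coeff (d - 1) ≤ (PX j.castSucc).coeff (d - 1)) := by
  haveI : IsNoetherian X := Groth.Agent.Lib.Helper4.CurveRR.isNoetherian_of_proper k X
  haveI : IsLocallyNoetherian X := inferInstance
  have h0 : PX 0 = P := by
    have e : ((𝓔.pieceX 0 : Subobject E) : X.Modules) ≅ E := by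
      rw [pieceX_zero]
      exact asIso (⊤ : Subobject E).arrow
    exact hilbPoly_unique k X (hilbPoly_of_iso k X L hL.1 e (hPX 0)) hP
  have key : ∀ j : Fin (𝓔.l + 1), ∃ q : Polynomial ℚ, PX j.castSucc = PX j.succ + q ∧
      (∀ n, d ≤ n → q.coeff n = 0) ∧ (1 ≤ d → 0 ≤ q.coeff (d - 1)) := by
    intro j
    have hle := pieceX_succ_le 𝓔 j
    have hQ : Coh.IsCoh (cokernel (Subobject.ofLE _ _ hle)) := isCoh_cokernel _ (hcoh _) (hcoh _)
    obtain ⟨q, hq⟩ := exists_hilbPoly k X L hL.1 _ hQ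
    have hS : (ShortComplex.mk (Subobject.ofLE _ _ hle) (cokernel.π (Subobject.ofLE _ _ hle))
        (cokernel.condition _)).ShortExact :=
      ShortComplex.ShortExact.mk' (ShortComplex.exact_cokernel _) inferInstance inferInstance
    have hadd := hilbPoly_add k X L hL.1 _ hS (hcoh _) (hcoh _) hQ (hPX j.succ) hq
    have hdim : topologicalKrullDim ↥(CohB1.support (cokernel (Subobject.ofLE _ _ hle))) < (d : WithBot ℕ∞) :=
      lt_of_le_of_lt (dim_le_of_subset'
        (support_cokernel_ofLE_subset (Z := 𝓔.bot) (𝓔.bot_le_pieceX _) hle)) hsupp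
    exact ⟨q, hilbPoly_unique k X (hPX j.castSucc) hadd,
      fun n hn => coeff_eq_zero_of_dim_lt k X L hL _ hQ d hdim hq n hn,
      fun hd => coeff_pred_nonneg_of_dim_lt k X L hL _ hQ d hd hdim hq⟩
  refine ⟨h0, fun j n hn => ?_, fun j hd => ?_⟩
  · obtain ⟨q, hq, hq0, -⟩ := key j
    rw [hq, Polynomial.coeff_add, hq0 n hn, add_zero]
  · obtain ⟨q, hq, -, hq1⟩ := key j
    rw [hq, Polynomial.coeff_add]
    linarith [hq1 hd]

/-- the support of `E / I E` -/
theorem dim_cokernel_bot_lt (I : X.IdealSheafData) (E : X.Modules) (𝓔 : ParSh.Str E) (h𝓔 : 𝓔.Along I) (d : ℕ)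
    (hsupp : topologicalKrullDim ↥(CohB1.support E ∩ (I.support : Set X)) < (d : WithBot ℕ∞)) :
    topologicalKrullDim ↥(CohB1.support (cokernel 𝓔.bot.arrow)) < (d : WithBot ℕ∞) := by
  refine lt_of_le_of_lt (dim_le_of_subset' ?_) hsupp
  have hb : 𝓔.bot = imageSubobject (ParSh.twistMap I E) := h𝓔
  rw [hb]
  exact (support_cokernel_imageSubobject_arrow _).trans (support_cokernel_twistMap I E)

omit [IsProper (X ↘ Spec (CommRingCat.of k))] [X.Over (Spec (CommRingCat.of k))] in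
theorem coeff_parPoly_eq_of_ge {E : X.Modules} (𝓔 : ParSh.Str E) (PX : Fin (𝓔.l + 2) → Polynomial ℚ)
    (P : Polynomial ℚ) (d : ℕ) (h0 : PX 0 = P)
    (ha : ∀ (j : Fin (𝓔.l + 1)) (n : ℕ), d ≤ n → (PX j.castSucc).coeff n = (PX j.succ).coeff n)
    (n : ℕ) (hn : d ≤ n) : (W4swparbununimod.parPoly 𝓔 PX).coeff n = ((P.coeff n : ℚ) : ℝ) := by
  rw [coeff_parPoly, ← h0]
  have hz : ∀ j : Fin (𝓔.l + 1),
      ((((PX j.castSucc).coeff n : ℚ) : ℝ) - (((PX j.succ).coeff n : ℚ) : ℝ)) = 0 := by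
    intro j
    rw [ha j n hn, sub_self]
  have h1 := coeff_zero_eq 𝓔.l (fun j => (((PX j).coeff n : ℚ) : ℝ))
  simp only [hz, mul_zero, Finset.sum_const_zero, add_zero] at h1 ⊢
  exact h1.symm

omit [IsProper (X ↘ Spec (CommRingCat.of k))] [X.Over (Spec (CommRingCat.of k))] in
/-- the induced structure on a sub-module: coherence of the pieces and the support of `W / W ∩ bot` -/
theorem induced_facts [IsLocallyNoetherian X] {E : X.Modules} (hE : Coh.IsCoh E) (𝓔 : ParSh.Str E)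
    (hcoh : ∀ j, Coh.IsCoh ((𝓔.pieceX j : Subobject E) : X.Modules)) (d : ℕ)
    (hsupp : topologicalKrullDim ↥(CohB1.support (cokernel 𝓔.bot.arrow)) < (d : WithBot ℕ∞))
    {W : X.Modules} (ι : W ⟶ E) [Mono ι] (hW : Coh.IsCoh W) :
    (∀ j, Coh.IsCoh (((𝓔.induced ι).pieceX j : Subobject W) : X.Modules)) ∧
      topologicalKrullDim ↥(CohB1.support (cokernel (𝓔.induced ι).bot.arrow)) < (d : WithBot ℕ∞) := by
  refine ⟨fun j => ?_, ?_⟩
  · rw [pieceX_induced]
    exact isCoh_pullback_obj ι hW hE _ (hcoh j)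
  · exact lt_of_le_of_lt (dim_le_of_subset' (support_cokernel_pullback_subset ι 𝓔.bot)) hsupp

include hL in
theorem main_S18528 (I : X.IdealSheafData)
    (E : X.Modules) (hE : Coh.IsCoh E) (h0 : ¬ IsZero E) (d : ℕ) (hd : 1 ≤ d)
    (hpure : ShStab.IsPure X E d) (𝓔 : ParSh.Str E) (h𝓔 : 𝓔.Along I)
    (hcoh : ∀ j, Coh.IsCoh ((𝓔.pieceX j : Subobject E) : X.Modules))
    (hsupp : topologicalKrullDim ↥(CohB1.support E ∩ (I.support : Set X)) < (d : WithBot ℕ∞))
    (P : Polynomial ℚ) (hP : ShStab.IsHilbPoly k X L E P) (PX : Fin (𝓔.l + 2) → Polynomial ℚ)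
    (hPX : ∀ j, ShStab.IsHilbPoly k X L ((𝓔.pieceX j : Subobject E) : X.Modules) (PX j))
    {W : X.Modules} (ι : W ⟶ E) [Mono ι] (hW : Coh.IsCoh W)
    (Q : Polynomial ℚ) (hQ : ShStab.IsHilbPoly k X L W Q) (QX : Fin (𝓔.l + 2) → Polynomial ℚ)
    (hQX : ∀ j, ShStab.IsHilbPoly k X L (((𝓔.induced ι).pieceX j : Subobject W) : X.Modules) (QX j)) :
    ((∃ M : ℕ, ∀ m : ℕ, M ≤ m →
        (W4swparbununimod.parPoly (𝓔.induced ι) QX).eval (m : ℝ) * (StabCat.alpha d P : ℝ) ≤
          (W4swparbununimod.parPoly 𝓔 PX).eval (m : ℝ) * (StabCat.alpha d Q : ℝ)) →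
      (W4swparbununimod.parPoly (𝓔.induced ι) QX).coeff (d - 1) * (StabCat.alpha d P : ℝ) ≤
        (W4swparbununimod.parPoly 𝓔 PX).coeff (d - 1) * (StabCat.alpha d Q : ℝ)) ∧
    ((W4swparbununimod.parPoly (𝓔.induced ι) QX).coeff (d - 1) * (StabCat.alpha d P : ℝ) <
        (W4swparbununimod.parPoly 𝓔 PX).coeff (d - 1) * (StabCat.alpha d Q : ℝ) →
      ∃ M : ℕ, ∀ m : ℕ, M ≤ m →
        (W4swparbununimod.parPoly (𝓔.induced ι) QX).eval (m : ℝ) * (StabCat.alpha d P : ℝ) <
          (W4swparbununimod.parPoly 𝓔 PX).eval (m : ℝ) * (StabCat.alpha d Q : ℝ)) := by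
  haveI : IsNoetherian X := Groth.Agent.Lib.Helper4.CurveRR.isNoetherian_of_proper k X
  haveI : IsLocallyNoetherian X := inferInstance
  have hbot := dim_cokernel_bot_lt X I E 𝓔 h𝓔 d hsupp
  obtain ⟨hcW, hbW⟩ := induced_facts X hE 𝓔 hcoh d hbot ι hW
  obtain ⟨hE0, hEa, -⟩ := coeff_pieceX' k X L hL E hE 𝓔 hcoh d hbot P hP PX hPX
  obtain ⟨hW0, hWa, -⟩ := coeff_pieceX' k X L hL W hW (𝓔.induced ι) hcW d hbW Q hQ QX hQX
  have hdimE := dim_eq_of_isPure hpure hE h0
  have hdimW : topologicalKrullDim ↥(CohB1.support W) ≤ (d : WithBot ℕ∞) :=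
    (dim_le_of_subset' (support_subset_of_mono ι)).trans hdimE.le
  have hPz : ∀ n, d < n → P.coeff n = 0 := fun n hn =>
    coeff_eq_zero_of_dim_lt k X L hL E hE (d + 1)
      (lt_of_le_of_lt hdimE.le (by exact_mod_cast Nat.lt_succ_self d)) hP n hn
  have hQz : ∀ n, d < n → Q.coeff n = 0 := fun n hn =>
    coeff_eq_zero_of_dim_lt k X L hL W hW (d + 1)
      (lt_of_le_of_lt hdimW (by exact_mod_cast Nat.lt_succ_self d)) hQ n hn
  have hcmp := poly_compare
    (W4swparbununimod.parPoly (𝓔.induced ι) QX * Polynomial.C (StabCat.alpha d P : ℝ))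
    (W4swparbununimod.parPoly 𝓔 PX * Polynomial.C (StabCat.alpha d Q : ℝ)) (d - 1) (by
      intro i hi
      have hi' : d ≤ i := by omega
      rw [Polynomial.coeff_mul_C, Polynomial.coeff_mul_C,
        coeff_parPoly_eq_of_ge X 𝓔 PX P d hE0 hEa i hi',
        coeff_parPoly_eq_of_ge X (𝓔.induced ι) QX Q d hW0 hWa i hi']
      rcases Nat.eq_or_lt_of_le hi' with h | h
      · subst h
        unfold StabCat.alpha
        push_cast
        ring
      · rw [hPz i h, hQz i h]
        simp)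
  simp only [Polynomial.coeff_mul_C, Polynomial.eval_mul, Polynomial.eval_C] at hcmp
  exact hcmp

include hL in
/-- the polynomial form of the identity `par-P = P - Σ (w_{j+1} - w_j) H_{j+1}`, coefficientwise -/
theorem coeff_parPoly_eq_sub {W : X.Modules} (hW : Coh.IsCoh W) (𝓕 : ParSh.Str W)
    (hcoh : ∀ j, Coh.IsCoh ((𝓕.pieceX j : Subobject W) : X.Modules))
    (Q : Polynomial ℚ) (hQ : ShStab.IsHilbPoly k X L W Q) (QX : Fin (𝓕.l + 2) → Polynomial ℚ)
    (hQX : ∀ j, ShStab.IsHilbPoly k X L ((𝓕.pieceX j : Subobject W) : X.Modules) (QX j))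
    (QH : Fin (𝓕.l + 2) → Polynomial ℚ)
    (hQH : ∀ j, ShStab.IsHilbPoly k X L (cokernel (𝓕.pieceX j).arrow) (QH j)) (n : ℕ) :
    (W4swparbununimod.parPoly 𝓕 QX).coeff n = ((Q.coeff n : ℚ) : ℝ) -
      ∑ j : Fin (𝓕.l + 1), (𝓕.wtX j.succ - 𝓕.wtX j.castSucc) * (((QH j.succ).coeff n : ℚ) : ℝ) := by
  haveI : IsNoetherian X := Groth.Agent.Lib.Helper4.CurveRR.isNoetherian_of_proper k X
  haveI : IsLocallyNoetherian X := inferInstance
  have ha : ∀ j, Q = QX j + QH j := by
    intro j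
    have hS : (ShortComplex.mk (𝓕.pieceX j).arrow (cokernel.π (𝓕.pieceX j).arrow)
        (cokernel.condition _)).ShortExact :=
      ShortComplex.ShortExact.mk' (ShortComplex.exact_cokernel _) inferInstance inferInstance
    exact hilbPoly_unique k X hQ
      (hilbPoly_add k X L hL.1 _ hS (hcoh j) hW (isCoh_cokernel _ (hcoh j) hW) (hQX j) (hQH j))
  have hc0 : QH 0 = 0 := by
    have hz : IsZero (cokernel (𝓕.pieceX 0).arrow) := by
      rw [pieceX_zero]
      exact isZero_cokernel_of_epi _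
    exact hilbPoly_unique k X (hQH 0) (hilbPoly_zero k X L hL.1 hz)
  rw [coeff_parPoly]
  have hx : ∀ j, (((QX j).coeff n : ℚ) : ℝ) = ((Q.coeff n : ℚ) : ℝ) - (((QH j).coeff n : ℚ) : ℝ) := by
    intro j
    have := congrArg (fun p : Polynomial ℚ => ((p.coeff n : ℚ) : ℝ)) (ha j)
    simp only [Polynomial.coeff_add, Rat.cast_add] at this
    linarith
  simp only [hx]
  have htel := sum_telescope' (𝓕.l + 1) (fun j => 𝓕.wtX j * (((QH j).coeff n : ℚ) : ℝ))
  simp only [ParSh.Str.wtX_last, hc0, Polynomial.coeff_zero, Rat.cast_zero, mul_zero, sub_zero,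
    one_mul] at htel
  have hw : ∀ j : Fin (𝓕.l + 1), 𝓕.wt j = 𝓕.wtX j.castSucc := fun j => (𝓕.wtX_castSucc j).symm
  simp only [hw]
  have : ∑ j : Fin (𝓕.l + 1), (𝓕.wtX j.succ - 𝓕.wtX j.castSucc) * (((QH j.succ).coeff n : ℚ) : ℝ) =
      (((QH (Fin.last (𝓕.l + 1))).coeff n : ℚ) : ℝ) -
      ∑ j : Fin (𝓕.l + 1), 𝓕.wtX j.castSucc * ((((Q.coeff n : ℚ) : ℝ) - (((QH j.castSucc).coeff n : ℚ) : ℝ)) -
        (((Q.coeff n : ℚ) : ℝ) - (((QH j.succ).coeff n : ℚ) : ℝ))) := by
    rw [← htel, ← Finset.sum_sub_distrib]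
    refine Finset.sum_congr rfl (fun j _ => ?_)
    ring
  rw [this]
  ring

include hL in
theorem main_S18530 (I : X.IdealSheafData)
    (E : X.Modules) (hE : Coh.IsCoh E) (𝓔 : ParSh.Str E) (h𝓔 : 𝓔.Along I)
    (hcoh : ∀ j, Coh.IsCoh ((𝓔.pieceX j : Subobject E) : X.Modules)) (d : ℕ) (hd : 1 ≤ d)
    (hsupp : topologicalKrullDim ↥(CohB1.support E ∩ (I.support : Set X)) < (d : WithBot ℕ∞))
    (H : Fin (𝓔.l + 2) → Polynomial ℚ)
    (hH : ∀ j, ShStab.IsHilbPoly k X L (cokernel (𝓔.pieceX j).arrow) (H j))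
    (hHa : ∀ j : Fin (𝓔.l + 1), StabCat.alpha (d - 1) (H j.succ) ≠ 0)
    {W : X.Modules} (ι : W ⟶ E) [Mono ι] (hW : Coh.IsCoh W)
    (Q : Polynomial ℚ) (hQ : ShStab.IsHilbPoly k X L W Q) (QX : Fin (𝓔.l + 2) → Polynomial ℚ)
    (hQX : ∀ j, ShStab.IsHilbPoly k X L (((𝓔.induced ι).pieceX j : Subobject W) : X.Modules) (QX j))
    (QH : Fin (𝓔.l + 2) → Polynomial ℚ)
    (hQH : ∀ j, ShStab.IsHilbPoly k X L (cokernel ((𝓔.induced ι).pieceX j).arrow) (QH j)) :
    (W4swparbununimod.parPolyOne 𝓔 d Q QH H).coeff d =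
        (W4swparbununimod.parPoly (𝓔.induced ι) QX).coeff d ∧
      (W4swparbununimod.parPolyOne 𝓔 d Q QH H).coeff (d - 1) =
        (W4swparbununimod.parPoly (𝓔.induced ι) QX).coeff (d - 1) := by
  haveI : IsNoetherian X := Groth.Agent.Lib.Helper4.CurveRR.isNoetherian_of_proper k X
  haveI : IsLocallyNoetherian X := inferInstance
  have hbot := dim_cokernel_bot_lt X I E 𝓔 h𝓔 d hsupp
  obtain ⟨hcW, hbW⟩ := induced_facts X hE 𝓔 hcoh d hbot ι hW
  -- vanishing in degree `≥ d`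
  have hHz : ∀ (j : Fin (𝓔.l + 2)) (n : ℕ), d ≤ n → (H j).coeff n = 0 := by
    intro j n hn
    refine coeff_eq_zero_of_dim_lt k X L hL _ (isCoh_cokernel _ (hcoh j) hE) d ?_ (hH j) n hn
    exact lt_of_le_of_lt (dim_le_of_subset' (support_cokernel_arrow_subset (𝓔.bot_le_pieceX j))) hbot
  have hQHz : ∀ (j : Fin (𝓔.l + 2)) (n : ℕ), d ≤ n → (QH j).coeff n = 0 := by
    intro j n hn
    refine coeff_eq_zero_of_dim_lt k X L hL _ (isCoh_cokernel _ (hcW j) hW) d ?_ (hQH j) n hn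
    refine lt_of_le_of_lt (dim_le_of_subset' ?_) hbot
    rw [pieceX_induced]
    exact (support_cokernel_pullback_subset ι _).trans
      (support_cokernel_arrow_subset (𝓔.bot_le_pieceX j))
  have hpar : ∀ n, (W4swparbununimod.parPoly (𝓔.induced ι) QX).coeff n = ((Q.coeff n : ℚ) : ℝ) -
      ∑ j : Fin (𝓔.l + 1), (𝓔.wtX j.succ - 𝓔.wtX j.castSucc) * (((QH j.succ).coeff n : ℚ) : ℝ) :=
    fun n => coeff_parPoly_eq_sub k X L hL hW (𝓔.induced ι) hcW Q hQ QX hQX QH hQH n
  have hone : ∀ n, (W4swparbununimod.parPolyOne 𝓔 d Q QH H).coeff n = ((Q.coeff n : ℚ) : ℝ) -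
      ∑ j : Fin (𝓔.l + 1), ((𝓔.wtX j.succ - 𝓔.wtX j.castSucc) *
        ((StabCat.alpha (d - 1) (QH j.succ) / StabCat.alpha (d - 1) (H j.succ) : ℚ) : ℝ)) *
          (((H j.succ).coeff n : ℚ) : ℝ) := by
    intro n
    unfold W4swparbununimod.parPolyOne W4swparbununimod.rpoly
    rw [Polynomial.coeff_sub, Polynomial.finsetSum_coeff, Polynomial.coeff_map]
    refine congrArg₂ (· - ·) rfl (Finset.sum_congr rfl (fun j _ => ?_))
    rw [Polynomial.coeff_C_mul, Polynomial.coeff_map]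
    rfl
  constructor
  · rw [hone d, hpar d]
    refine congrArg₂ (· - ·) rfl (Finset.sum_congr rfl (fun j _ => ?_))
    rw [hHz j.succ d le_rfl, hQHz j.succ d le_rfl]
    simp
  · rw [hone (d - 1), hpar (d - 1)]
    refine congrArg₂ (· - ·) rfl (Finset.sum_congr rfl (fun j _ => ?_))
    have hne : (H j.succ).coeff (d - 1) ≠ 0 := by
      intro h
      apply hHa j
      unfold StabCat.alpha
      rw [h, mul_zero]
    have hfac : ((d - 1).factorial : ℚ) ≠ 0 := by positivity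
    have : (StabCat.alpha (d - 1) (QH j.succ) / StabCat.alpha (d - 1) (H j.succ) : ℚ) *
        (H j.succ).coeff (d - 1) = (QH j.succ).coeff (d - 1) := by
      unfold StabCat.alpha
      field_simp
    have h2 := congrArg (fun q : ℚ => (q : ℝ)) this
    simp only [Rat.cast_mul] at h2
    change (𝓔.wtX j.succ - 𝓔.wtX j.castSucc) * _ * _ = (𝓔.wtX j.succ - 𝓔.wtX j.castSucc) * _
    rw [mul_assoc, h2]

end Core

end Groth.Agent.Lib.Helper12.ParC
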