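import Mathlib
import Groth.Agent.Lib.Helper12ParC
set_option backward.isDefEq.respectTransparency.types false

/-!
# Parabolic stability: the first modified polynomial versus the parabolic Hilbert polynomial (helper12)
-/

set_option autoImplicit false
set_option linter.style.haveILetI false
set_option linter.unusedSectionVars false
set_option linter.unusedVariables false
universe u
open CategoryTheory CategoryTheory.Limits AlgebraicGeometry TopologicalSpace Opposite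

namespace Groth.Agent.Lib.Helper12.ParD

open Groth.Agent.Lib.Helper4.Dev Groth.Agent.Lib.Helper4.CurveChi
  Groth.Agent.Lib.Helper12.Snap Groth.Agent.Lib.Helper12.Pos Groth.Agent.Lib.Helper12.HP
  Groth.Agent.Lib.Helper12.HPC Groth.Agent.Lib.Helper12.SubQF Groth.Agent.Lib.Helper12.SubQC
  Groth.Agent.Lib.Helper12.SubQ Groth.Agent.Lib.Helper12.ParA Groth.Agent.Lib.Helper12.ParB
  Groth.Agent.Lib.Helper12.ParC

section Generic

variable {C : Type*} [Category C] {E : C} (𝓔 : ParSh.Str E)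

theorem wtX_castSucc_le_succ (j : Fin (𝓔.l + 1)) : 𝓔.wtX j.castSucc ≤ 𝓔.wtX j.succ := by
  rw [ParSh.Str.wtX_castSucc]
  induction j using Fin.lastCases with
  | last =>
    rw [Fin.succ_last, ParSh.Str.wtX_last]
    exact 𝓔.wt_lt_one.le
  | cast j =>
    rw [Fin.succ_castSucc, ParSh.Str.wtX_castSucc]
    exact 𝓔.wt_strictMono.monotone (Fin.castSucc_lt_succ (i := j)).le

end Generic

section Core

variable (k : Type u) [Field k] (X : Scheme.{u}) [X.Over (Spec (CommRingCat.of k))]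
  [IsProper (X ↘ (Spec (CommRingCat.of k)))] (L : X.Modules) (hL : CohB1.IsAmple L)

theorem eval_rpoly (p : Polynomial ℚ) (m : ℕ) :
    (W4swparbununimod.rpoly p).eval (m : ℝ) = ((p.eval (m : ℚ) : ℚ) : ℝ) := by
  unfold W4swparbununimod.rpoly
  rw [Polynomial.eval_natCast_map]
  rfl

include hL in
/-- evaluation of the parabolic Hilbert polynomial through the quotients -/
theorem eval_parPoly_eq_sub {W : X.Modules} (hW : Coh.IsCoh W) (𝓕 : ParSh.Str W)
    (hcoh : ∀ j, Coh.IsCoh ((𝓕.pieceX j : Subobject W) : X.Modules))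
    (Q : Polynomial ℚ) (hQ : ShStab.IsHilbPoly k X L W Q) (QX : Fin (𝓕.l + 2) → Polynomial ℚ)
    (hQX : ∀ j, ShStab.IsHilbPoly k X L ((𝓕.pieceX j : Subobject W) : X.Modules) (QX j))
    (QH : Fin (𝓕.l + 2) → Polynomial ℚ)
    (hQH : ∀ j, ShStab.IsHilbPoly k X L (cokernel (𝓕.pieceX j).arrow) (QH j)) (m : ℕ) :
    (W4swparbununimod.parPoly 𝓕 QX).eval (m : ℝ) = ((Q.eval (m : ℚ) : ℚ) : ℝ) -
      ∑ j : Fin (𝓕.l + 1), (𝓕.wtX j.succ - 𝓕.wtX j.castSucc) * (((QH j.succ).eval (m : ℚ) : ℚ) : ℝ) := by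
  have hpoly : W4swparbununimod.parPoly 𝓕 QX = W4swparbununimod.rpoly Q -
      ∑ j : Fin (𝓕.l + 1), Polynomial.C (𝓕.wtX j.succ - 𝓕.wtX j.castSucc) *
        W4swparbununimod.rpoly (QH j.succ) := by
    ext n
    rw [coeff_parPoly_eq_sub k X L hL hW 𝓕 hcoh Q hQ QX hQX QH hQH n, Polynomial.coeff_sub,
      Polynomial.finsetSum_coeff]
    unfold W4swparbununimod.rpoly
    rw [Polynomial.coeff_map]
    refine congrArg₂ (· - ·) rfl (Finset.sum_congr rfl (fun j _ => ?_))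
    rw [Polynomial.coeff_C_mul, Polynomial.coeff_map]
    rfl
  rw [hpoly, Polynomial.eval_sub, Polynomial.eval_finsetSum, eval_rpoly]
  refine congrArg₂ (· - ·) rfl (Finset.sum_congr rfl (fun j _ => ?_))
  rw [Polynomial.eval_mul, Polynomial.eval_C, eval_rpoly]

theorem eval_parPolyOne {E : X.Modules} (𝓔 : ParSh.Str E) (d : ℕ) (Q : Polynomial ℚ)
    (QH H : Fin (𝓔.l + 2) → Polynomial ℚ) (m : ℕ) :
    (W4swparbununimod.parPolyOne 𝓔 d Q QH H).eval (m : ℝ) = ((Q.eval (m : ℚ) : ℚ) : ℝ) -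
      ∑ j : Fin (𝓔.l + 1), (𝓔.wtX j.succ - 𝓔.wtX j.castSucc) *
        (((StabCat.alpha (d - 1) (QH j.succ) / StabCat.alpha (d - 1) (H j.succ) : ℚ) : ℝ) *
          (((H j.succ).eval (m : ℚ) : ℚ) : ℝ)) := by
  unfold W4swparbununimod.parPolyOne
  rw [Polynomial.eval_sub, Polynomial.eval_finsetSum, eval_rpoly]
  refine congrArg₂ (· - ·) rfl (Finset.sum_congr rfl (fun j _ => ?_))
  rw [Polynomial.eval_mul, Polynomial.eval_C, eval_rpoly, mul_assoc]

include hL in
/-- a sub-module of a stable sheaf of dimension `d'`: eventual comparison of Hilbert polynomials -/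
theorem eventually_le_of_stable {F G : X.Modules} (d' : ℕ) (hG : ShStab.IsStable k X L G d')
    (m : F ⟶ G) [Mono m] (hF : Coh.IsCoh F) {pF pG : Polynomial ℚ} (hpF : ShStab.IsHilbPoly k X L F pF)
    (hpG : ShStab.IsHilbPoly k X L G pG) :
    ∃ N : ℕ, ∀ n : ℕ, N ≤ n →
      pF.eval (n : ℚ) ≤ (StabCat.alpha d' pF / StabCat.alpha d' pG) * pG.eval (n : ℚ) := by
  haveI : IsNoetherian X := Groth.Agent.Lib.Helper4.CurveRR.isNoetherian_of_proper k X
  haveI : IsLocallyNoetherian X := inferInstance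
  have haG : 0 < StabCat.alpha d' pG :=
    alpha_pos k X L hL G hG.1 d' (dim_eq_of_isPure hG.2.2.1 hG.1 hG.2.1) hpG
  by_cases hF0 : IsZero F
  · have : pF = 0 := hilbPoly_unique k X hpF (hilbPoly_zero k X L hL.1 hF0)
    subst this
    refine ⟨0, fun n _ => ?_⟩
    simp [StabCat.alpha]
  by_cases hiso : IsIso m
  · have : pF = pG := hilbPoly_unique k X hpF (hilbPoly_of_iso k X L hL.1 (asIso m).symm hpG)
    subst this
    refine ⟨0, fun n _ => ?_⟩
    rw [div_self haG.ne', one_mul]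
  · obtain ⟨N, hN⟩ := hG.2.2.2 F m inferInstance hF hF0 hiso pF pG hpF hpG
    refine ⟨N, fun n hn => ?_⟩
    have := hN n hn
    simp only [Polynomial.eval_smul, smul_eq_mul] at this
    rw [div_mul_eq_mul_div, le_div_iff₀ haG]
    linarith

include hL in
theorem main_S18533 (I : X.IdealSheafData)
    (E : X.Modules) (hE : Coh.IsCoh E) (𝓔 : ParSh.Str E) (h𝓔 : 𝓔.Along I)
    (hcoh : ∀ j, Coh.IsCoh ((𝓔.pieceX j : Subobject E) : X.Modules)) (d : ℕ) (hd : 1 ≤ d)
    (hsupp : topologicalKrullDim ↥(CohB1.support E ∩ (I.support : Set X)) < (d : WithBot ℕ∞))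
    (h0 : ¬ IsZero E) (hpure : ShStab.IsPure X E d)
    (P : Polynomial ℚ) (hP : ShStab.IsHilbPoly k X L E P) (PX : Fin (𝓔.l + 2) → Polynomial ℚ)
    (hPX : ∀ j, ShStab.IsHilbPoly k X L ((𝓔.pieceX j : Subobject E) : X.Modules) (PX j))
    (H : Fin (𝓔.l + 2) → Polynomial ℚ)
    (hH : ∀ j, ShStab.IsHilbPoly k X L (cokernel (𝓔.pieceX j).arrow) (H j))
    (hst : (∀ (W : X.Modules) (ι : W ⟶ E), Mono ι → Coh.IsCoh W → ¬ IsZero W → ¬ IsIso ι →
        ShStab.IsPure X (cokernel ι) d →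
        ∀ (Q : Polynomial ℚ) (QX : Fin (𝓔.l + 2) → Polynomial ℚ), ShStab.IsHilbPoly k X L W Q →
          (∀ j, ShStab.IsHilbPoly k X L (((𝓔.induced ι).pieceX j : Subobject W) : X.Modules) (QX j)) →
          ∃ M : ℕ, ∀ m : ℕ, M ≤ m →
            (W4swparbununimod.parPoly (𝓔.induced ι) QX).eval (m : ℝ) * (StabCat.alpha d P : ℝ) <
              (W4swparbununimod.parPoly 𝓔 PX).eval (m : ℝ) * (StabCat.alpha d Q : ℝ)))
    (hq : ∀ j : Fin (𝓔.l + 1), ShStab.IsStable k X L (cokernel (𝓔.pieceX j.succ).arrow) (d - 1))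
    {W : X.Modules} (ι : W ⟶ E) [Mono ι] (hW : Coh.IsCoh W)
    (Q : Polynomial ℚ) (hQ : ShStab.IsHilbPoly k X L W Q) (QH : Fin (𝓔.l + 2) → Polynomial ℚ)
    (hQH : ∀ j, ShStab.IsHilbPoly k X L (cokernel ((𝓔.induced ι).pieceX j).arrow) (QH j))
    (hW0 : ¬ IsZero W) (hWp : ¬ IsIso ι) (hWsat : ShStab.IsPure X (cokernel ι) d) :
    ∃ M : ℕ, ∀ m : ℕ, M ≤ m →
      (W4swparbununimod.parPolyOne 𝓔 d Q QH H).eval (m : ℝ) * (StabCat.alpha d P : ℝ) <
        (W4swparbununimod.parPoly 𝓔 PX).eval (m : ℝ) * (StabCat.alpha d Q : ℝ) := by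
  haveI : IsNoetherian X := Groth.Agent.Lib.Helper4.CurveRR.isNoetherian_of_proper k X
  haveI : IsLocallyNoetherian X := inferInstance
  have hbot := dim_cokernel_bot_lt X I E 𝓔 h𝓔 d hsupp
  obtain ⟨hcW, hbW⟩ := induced_facts X hE 𝓔 hcoh d hbot ι hW
  -- Hilbert polynomials of the induced pieces
  have hex : ∀ j, ∃ q : Polynomial ℚ,
      ShStab.IsHilbPoly k X L (((𝓔.induced ι).pieceX j : Subobject W) : X.Modules) q :=
    fun j => exists_hilbPoly k X L hL.1 _ (hcW j)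
  choose QX hQX using hex
  obtain ⟨M, hM⟩ := hst W ι inferInstance hW hW0 hWp hWsat Q QX hQ hQX
  -- comparison for each flag quotient
  have hcmp : ∀ j : Fin (𝓔.l + 1), ∃ N : ℕ, ∀ n : ℕ, N ≤ n →
      (QH j.succ).eval (n : ℚ) ≤
        (StabCat.alpha (d - 1) (QH j.succ) / StabCat.alpha (d - 1) (H j.succ)) * (H j.succ).eval (n : ℚ) := by
    intro j
    have hQHj := hQH j.succ
    rw [pieceX_induced] at hQHj
    obtain ⟨mj, hmj⟩ := exists_mono_cokernel_pullback ι (𝓔.pieceX j.succ)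
    haveI := hmj
    have hcF : Coh.IsCoh (cokernel ((Subobject.pullback ι).obj (𝓔.pieceX j.succ)).arrow) := by
      have := hcW j.succ
      rw [pieceX_induced] at this
      exact isCoh_cokernel _ this hW
    exact eventually_le_of_stable k X L hL (d - 1) (hq j) mj hcF hQHj (hH j.succ)
  choose N hN using hcmp
  have haP : 0 < StabCat.alpha d P := alpha_pos k X L hL E hE d (dim_eq_of_isPure hpure hE h0) hP
  refine ⟨max M (Finset.univ.sup N), fun m hm => ?_⟩
  have hm1 : M ≤ m := (le_max_left _ _).trans hm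
  have hm2 : ∀ j, N j ≤ m := fun j =>
    (Finset.le_sup (f := N) (Finset.mem_univ j)).trans ((le_max_right _ _).trans hm)
  have h1 := hM m hm1
  have h2 : (W4swparbununimod.parPolyOne 𝓔 d Q QH H).eval (m : ℝ) ≤
      (W4swparbununimod.parPoly (𝓔.induced ι) QX).eval (m : ℝ) := by
    rw [eval_parPolyOne, eval_parPoly_eq_sub k X L hL hW (𝓔.induced ι) hcW Q hQ QX hQX QH hQH m]
    refine sub_le_sub_left (Finset.sum_le_sum (fun j _ => ?_)) _
    refine mul_le_mul_of_nonneg_left ?_ (sub_nonneg.2 (wtX_castSucc_le_succ 𝓔 j))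
    have := hN j m (hm2 j)
    have h3 : (((QH j.succ).eval (m : ℚ) : ℚ) : ℝ) ≤
        (((StabCat.alpha (d - 1) (QH j.succ) / StabCat.alpha (d - 1) (H j.succ)) *
          (H j.succ).eval (m : ℚ) : ℚ) : ℝ) := by exact_mod_cast this
    rw [Rat.cast_mul] at h3
    exact h3
  have haP' : (0 : ℝ) < (StabCat.alpha d P : ℝ) := by exact_mod_cast haP
  calc (W4swparbununimod.parPolyOne 𝓔 d Q QH H).eval (m : ℝ) * (StabCat.alpha d P : ℝ)
      ≤ (W4swparbununimod.parPoly (𝓔.induced ι) QX).eval (m : ℝ) * (StabCat.alpha d P : ℝ) :=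
        mul_le_mul_of_nonneg_right h2 haP'.le
    _ < _ := h1

end Core

end Groth.Agent.Lib.Helper12.ParD
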