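import Mathlib
import Groth.Agent.Lib.Helper12ParD
import Groth.Agent.Lib.Helper12Sat
set_option backward.isDefEq.respectTransparency.types false

/-!
# Parabolic semistability: the first modified polynomial, all sub-modules (helper12)
-/

set_option autoImplicit false
set_option linter.style.haveILetI false
set_option linter.unusedSectionVars false
set_option linter.unusedVariables false
universe u
open CategoryTheory CategoryTheory.Limits AlgebraicGeometry TopologicalSpace Opposite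

namespace Groth.Agent.Lib.Helper12.ParE

open Groth.Agent.Lib.Helper4.Dev Groth.Agent.Lib.Helper4.CurveChi
  Groth.Agent.Lib.Helper12.Snap Groth.Agent.Lib.Helper12.Pos Groth.Agent.Lib.Helper12.HP
  Groth.Agent.Lib.Helper12.HPB Groth.Agent.Lib.Helper12.HPC Groth.Agent.Lib.Helper12.SubQF
  Groth.Agent.Lib.Helper12.SubQC
  Groth.Agent.Lib.Helper12.SubQ Groth.Agent.Lib.Helper12.ParA Groth.Agent.Lib.Helper12.ParB
  Groth.Agent.Lib.Helper12.ParC Groth.Agent.Lib.Helper12.ParD Groth.Agent.Lib.Helper12.JHA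
  Groth.Agent.Lib.Helper12.Sat

section Cat

variable {C : Type*} [Category C] [Abelian C]

/-- `W / (W ∩ A) ⟶ E / A` is a monomorphism, with its compatibility -/
theorem exists_mono_cokernel_pullback' {W E : C} (ι : W ⟶ E) (A : Subobject E) :
    ∃ m : cokernel ((Subobject.pullback ι).obj A).arrow ⟶ cokernel A.arrow, Mono m ∧
      cokernel.π ((Subobject.pullback ι).obj A).arrow ≫ m = ι ≫ cokernel.π A.arrow :=
  ⟨_, Abelian.mono_cokernel_map_of_isPullback (Subobject.isPullback ι A).flip, cokernel.π_desc _ _ _⟩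

end Cat

section Core

variable (k : Type u) [Field k] (X : Scheme.{u}) [X.Over (Spec (CommRingCat.of k))]
  [IsProper (X ↘ (Spec (CommRingCat.of k)))] (L : X.Modules) (hL : CohB1.IsAmple L)

include hL in
/-- the saturation, with the inclusion of the original sub-module -/
theorem exists_saturation' (d : ℕ) {E F : X.Modules} (hE : Coh.IsCoh E)
    (hdE : topologicalKrullDim ↥(CohB1.support E) ≤ (d : WithBot ℕ∞)) (hF : Coh.IsCoh F)
    (ι : F ⟶ E) [Mono ι] {pF : Polynomial ℚ} (hpF : ShStab.IsHilbPoly k X L F pF) :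
    ∃ (Fs : X.Modules) (σ : Fs ⟶ E) (κ : F ⟶ Fs) (pT : Polynomial ℚ), Mono σ ∧ κ ≫ σ = ι ∧ Coh.IsCoh Fs ∧
      ShStab.IsPure X (cokernel σ) d ∧ ShStab.IsHilbPoly k X L Fs (pF + pT) ∧ StabCat.alpha d pT = 0 := by
  haveI : IsNoetherian X := Groth.Agent.Lib.Helper4.CurveRR.isNoetherian_of_proper k X
  haveI : IsLocallyNoetherian X := inferInstance
  have hQ : Coh.IsCoh (cokernel ι) := isCoh_cokernel ι hF hE
  have hdQ : topologicalKrullDim ↥(CohB1.support (cokernel ι)) ≤ (d : WithBot ℕ∞) :=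
    (dim_le_of_epi (cokernel.π ι)).trans hdE
  obtain ⟨T, κ, pT, hκ, hT, hpT, haT, hpure⟩ := exists_torsion k X L hL d _ hQ hdQ
  haveI := hκ
  obtain ⟨hK, hpK⟩ := preimage_hilbPoly k X L hL hE hF ι hT κ hpF hpT
  refine ⟨_, kernel.ι (cokernel.π ι ≫ cokernel.π κ),
    kernel.lift _ ι (by rw [cokernel.condition_assoc, Limits.zero_comp]), pT, inferInstance,
    kernel.lift_ι _ _ _, hK, ?_, hpK, haT⟩
  haveI : Epi (cokernel.π ι ≫ cokernel.π κ) := epi_comp _ _
  haveI : IsIso (Abelian.factorThruCoimage (cokernel.π ι ≫ cokernel.π κ)) :=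
    Abelian.isIso_factorThruCoimage _
  have e : cokernel (kernel.ι (cokernel.π ι ≫ cokernel.π κ)) ≅ cokernel κ :=
    asIso (Abelian.factorThruCoimage (cokernel.π ι ≫ cokernel.π κ))
  exact isPure_of_iso X d e.symm hpure

include hL in
/-- a sub-module of a semistable sheaf of dimension `d'`: eventual comparison of Hilbert polynomials -/
theorem eventually_le_of_semistable {F G : X.Modules} (d' : ℕ) (hG : ShStab.IsSemistable k X L G d')
    (m : F ⟶ G) [Mono m] (hF : Coh.IsCoh F) {pF pG : Polynomial ℚ} (hpF : ShStab.IsHilbPoly k X L F pF)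
    (hpG : ShStab.IsHilbPoly k X L G pG) :
    ∃ N : ℕ, ∀ n : ℕ, N ≤ n →
      pF.eval (n : ℚ) ≤ (StabCat.alpha d' pF / StabCat.alpha d' pG) * pG.eval (n : ℚ) := by
  haveI : IsNoetherian X := Groth.Agent.Lib.Helper4.CurveRR.isNoetherian_of_proper k X
  haveI : IsLocallyNoetherian X := inferInstance
  have haG : 0 < StabCat.alpha d' pG :=
    alpha_pos k X L hL G hG.1 d' (dim_eq_of_isPure hG.2.2.1 hG.1 hG.2.1) hpG
  by_cases hF0 : IsZero F
  · have : pF = 0 := hilbPoly_unique k X hpF (hilbPoly_zero k X L hL.1 hF0)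
    subst this
    refine ⟨0, fun n _ => ?_⟩
    simp [StabCat.alpha]
  by_cases hiso : IsIso m
  · have : pF = pG := hilbPoly_unique k X hpF (hilbPoly_of_iso k X L hL.1 (asIso m).symm hpG)
    subst this
    refine ⟨0, fun n _ => ?_⟩
    rw [div_self haG.ne', one_mul]
  · obtain ⟨N, hN⟩ := hG.2.2.2 F m inferInstance hF hF0 hiso pF pG hpF hpG
    refine ⟨N, fun n hn => ?_⟩
    have := hN n hn
    simp only [Polynomial.eval_smul, smul_eq_mul] at this
    rw [div_mul_eq_mul_div, le_div_iff₀ haG]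
    linarith

include hL in
/-- for `W ⊂ W' ⊂ E` and a subobject `A` of `E`: the Hilbert polynomial of `W'/(W' ∩ A)` exceeds that of
`W/(W ∩ A)` by a polynomial which is eventually at most that of `W'/W` -/
theorem quot_compare {W W' E : X.Modules} (κ : W ⟶ W') [Mono κ] (σ : W' ⟶ E) [Mono σ]
    (hW : Coh.IsCoh W) (hW' : Coh.IsCoh W') (hE : Coh.IsCoh E) (A : Subobject E)
    (hA : Coh.IsCoh (A : X.Modules)) {Q Q' K K' : Polynomial ℚ}
    (hQ : ShStab.IsHilbPoly k X L W Q) (hQ' : ShStab.IsHilbPoly k X L W' Q')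
    (hK : ShStab.IsHilbPoly k X L (cokernel ((Subobject.pullback (κ ≫ σ)).obj A).arrow) K)
    (hK' : ShStab.IsHilbPoly k X L (cokernel ((Subobject.pullback σ).obj A).arrow) K') :
    ∃ T : Polynomial ℚ, K' = K + T ∧ ∃ N : ℕ, ∀ n : ℕ, N ≤ n → T.eval (n : ℚ) ≤ (Q' - Q).eval (n : ℚ) := by
  haveI : IsNoetherian X := Groth.Agent.Lib.Helper4.CurveRR.isNoetherian_of_proper k X
  haveI : IsLocallyNoetherian X := inferInstance
  rw [Subobject.pullback_comp] at hK
  have hB : Coh.IsCoh (((Subobject.pullback σ).obj A : Subobject W') : X.Modules) :=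
    isCoh_pullback_obj σ hW' hE A hA
  have hB' : Coh.IsCoh (((Subobject.pullback κ).obj ((Subobject.pullback σ).obj A) : Subobject W) : X.Modules) :=
    isCoh_pullback_obj κ hW hW' _ hB
  have hcB : Coh.IsCoh (cokernel ((Subobject.pullback σ).obj A).arrow) := isCoh_cokernel _ hB hW'
  have hcB' : Coh.IsCoh (cokernel ((Subobject.pullback κ).obj ((Subobject.pullback σ).obj A)).arrow) :=
    isCoh_cokernel _ hB' hW
  obtain ⟨m, hm, hmπ⟩ := exists_mono_cokernel_pullback' κ ((Subobject.pullback σ).obj A)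
  haveI := hm
  have hCm : Coh.IsCoh (cokernel m) := isCoh_cokernel m hcB' hcB
  obtain ⟨T, hT⟩ := exists_hilbPoly k X L hL.1 _ hCm
  have hS1 : (ShortComplex.mk m (cokernel.π m) (cokernel.condition m)).ShortExact :=
    ShortComplex.ShortExact.mk' (ShortComplex.exact_cokernel _) inferInstance inferInstance
  have hKT : K' = K + T := hilbPoly_unique k X hK' (hilbPoly_add k X L hL.1 _ hS1 hcB' hcB hCm hK hT)
  -- the quotient `W'/W`
  have hcκ : Coh.IsCoh (cokernel κ) := isCoh_cokernel κ hW hW'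
  obtain ⟨R, hR⟩ := exists_hilbPoly k X L hL.1 _ hcκ
  have hS2 : (ShortComplex.mk κ (cokernel.π κ) (cokernel.condition κ)).ShortExact :=
    ShortComplex.ShortExact.mk' (ShortComplex.exact_cokernel _) inferInstance inferInstance
  have hQR : Q' = Q + R := hilbPoly_unique k X hQ' (hilbPoly_add k X L hL.1 _ hS2 hW hW' hcκ hQ hR)
  -- the epimorphism `W'/W ⟶ coker m`
  have hw : κ ≫ cokernel.π ((Subobject.pullback σ).obj A).arrow ≫ cokernel.π m = 0 := by
    rw [← Category.assoc, ← hmπ, Category.assoc, cokernel.condition, Limits.comp_zero]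
  let e : cokernel κ ⟶ cokernel m := cokernel.desc κ _ hw
  have heπ : cokernel.π κ ≫ e = cokernel.π ((Subobject.pullback σ).obj A).arrow ≫ cokernel.π m :=
    cokernel.π_desc _ _ _
  haveI : Epi e := by
    haveI : Epi (cokernel.π κ ≫ e) := by rw [heπ]; infer_instance
    exact epi_of_epi (cokernel.π κ) e
  have hcK : Coh.IsCoh (kernel e) := isCoh_kernel e hcκ hCm
  obtain ⟨U, hU⟩ := exists_hilbPoly k X L hL.1 _ hcK
  have hS3 : (ShortComplex.mk (kernel.ι e) e (kernel.condition e)).ShortExact :=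
    ShortComplex.ShortExact.mk' (ShortComplex.exact_kernel _) inferInstance inferInstance
  have hRU : R = U + T := hilbPoly_unique k X hR (hilbPoly_add k X L hL.1 _ hS3 hcK hcκ hCm hU hT)
  obtain ⟨N, hN⟩ := eventually_nonneg k X L hL _ hcK hU
  refine ⟨T, hKT, N, fun n hn => ?_⟩
  rw [hQR, add_sub_cancel_left, hRU, Polynomial.eval_add]
  linarith [hN n hn]

include hL in
theorem main_S18531 (I : X.IdealSheafData)
    (E : X.Modules) (hE : Coh.IsCoh E) (𝓔 : ParSh.Str E) (h𝓔 : 𝓔.Along I)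
    (hcoh : ∀ j, Coh.IsCoh ((𝓔.pieceX j : Subobject E) : X.Modules)) (d : ℕ) (hd : 1 ≤ d)
    (hsupp : topologicalKrullDim ↥(CohB1.support E ∩ (I.support : Set X)) < (d : WithBot ℕ∞))
    (h0 : ¬ IsZero E) (hpure : ShStab.IsPure X E d)
    (P : Polynomial ℚ) (hP : ShStab.IsHilbPoly k X L E P) (PX : Fin (𝓔.l + 2) → Polynomial ℚ)
    (hPX : ∀ j, ShStab.IsHilbPoly k X L ((𝓔.pieceX j : Subobject E) : X.Modules) (PX j))
    (H : Fin (𝓔.l + 2) → Polynomial ℚ)
    (hH : ∀ j, ShStab.IsHilbPoly k X L (cokernel (𝓔.pieceX j).arrow) (H j))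
    (hss : (∀ (W : X.Modules) (ι : W ⟶ E), Mono ι → Coh.IsCoh W → ¬ IsZero W →
        ShStab.IsPure X (cokernel ι) d →
        ∀ (Q : Polynomial ℚ) (QX : Fin (𝓔.l + 2) → Polynomial ℚ), ShStab.IsHilbPoly k X L W Q →
          (∀ j, ShStab.IsHilbPoly k X L (((𝓔.induced ι).pieceX j : Subobject W) : X.Modules) (QX j)) →
          ∃ M : ℕ, ∀ m : ℕ, M ≤ m →
            (W4swparbununimod.parPoly (𝓔.induced ι) QX).eval (m : ℝ) * (StabCat.alpha d P : ℝ) ≤
              (W4swparbununimod.parPoly 𝓔 PX).eval (m : ℝ) * (StabCat.alpha d Q : ℝ)))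
    (hq : ∀ j : Fin (𝓔.l + 1), ShStab.IsSemistable k X L (cokernel (𝓔.pieceX j.succ).arrow) (d - 1))
    {W : X.Modules} (ι : W ⟶ E) [Mono ι] (hW : Coh.IsCoh W)
    (Q : Polynomial ℚ) (hQ : ShStab.IsHilbPoly k X L W Q) (QH : Fin (𝓔.l + 2) → Polynomial ℚ)
    (hQH : ∀ j, ShStab.IsHilbPoly k X L (cokernel ((𝓔.induced ι).pieceX j).arrow) (QH j))
    (hW0 : ¬ IsZero W) :
    ∃ M : ℕ, ∀ m : ℕ, M ≤ m →
      (W4swparbununimod.parPolyOne 𝓔 d Q QH H).eval (m : ℝ) * (StabCat.alpha d P : ℝ) ≤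
        (W4swparbununimod.parPoly 𝓔 PX).eval (m : ℝ) * (StabCat.alpha d Q : ℝ) := by
  haveI : IsNoetherian X := Groth.Agent.Lib.Helper4.CurveRR.isNoetherian_of_proper k X
  haveI : IsLocallyNoetherian X := inferInstance
  have hdimE := dim_eq_of_isPure hpure hE h0
  obtain ⟨W', σ, κ, pT, hσ, hκσ, hW', hpW', hQ', haT⟩ :=
    exists_saturation' k X L hL d hE hdimE.le hW ι hQ
  haveI := hσ
  subst hκσ
  haveI : Mono κ := mono_of_mono κ σ
  have hW'0 : ¬ IsZero W' := fun h => hW0 (IsZero.of_mono κ h)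
  have hbot := dim_cokernel_bot_lt X I E 𝓔 h𝓔 d hsupp
  obtain ⟨hcW', -⟩ := induced_facts X hE 𝓔 hcoh d hbot σ hW'
  -- Hilbert polynomials for `W'`
  have hex : ∀ j, ∃ q : Polynomial ℚ,
      ShStab.IsHilbPoly k X L (((𝓔.induced σ).pieceX j : Subobject W') : X.Modules) q :=
    fun j => exists_hilbPoly k X L hL.1 _ (hcW' j)
  choose QX' hQX' using hex
  have hex2 : ∀ j, ∃ q : Polynomial ℚ,
      ShStab.IsHilbPoly k X L (cokernel ((𝓔.induced σ).pieceX j).arrow) q :=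
    fun j => exists_hilbPoly k X L hL.1 _ (isCoh_cokernel _ (hcW' j) hW')
  choose K' hK' using hex2
  obtain ⟨M₁, hM₁⟩ := hss W' σ inferInstance hW' hW'0 hpW' (Q + pT) QX' hQ' hQX'
  -- `pT` is eventually nonnegative
  have hcκ : Coh.IsCoh (cokernel κ) := isCoh_cokernel κ hW hW'
  obtain ⟨R, hR⟩ := exists_hilbPoly k X L hL.1 _ hcκ
  have hS2 : (ShortComplex.mk κ (cokernel.π κ) (cokernel.condition κ)).ShortExact :=
    ShortComplex.ShortExact.mk' (ShortComplex.exact_cokernel _) inferInstance inferInstance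
  have hQR : Q + pT = Q + R := hilbPoly_unique k X hQ' (hilbPoly_add k X L hL.1 _ hS2 hW hW' hcκ hQ hR)
  have hRT : pT = R := add_left_cancel hQR
  obtain ⟨N₀, hN₀⟩ := eventually_nonneg k X L hL _ hcκ hR
  rw [← hRT] at hN₀
  -- comparison for each flag quotient
  have hcmp : ∀ j : Fin (𝓔.l + 1), ∃ N : ℕ, ∀ n : ℕ, N ≤ n →
      (K' j.succ).eval (n : ℚ) ≤ pT.eval (n : ℚ) +
        (StabCat.alpha (d - 1) (QH j.succ) / StabCat.alpha (d - 1) (H j.succ)) * (H j.succ).eval (n : ℚ) := by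
    intro j
    have hQHj := hQH j.succ
    rw [pieceX_induced] at hQHj
    have hK'j := hK' j.succ
    rw [pieceX_induced] at hK'j
    obtain ⟨T, hKT, N₁, hN₁⟩ := quot_compare k X L hL κ σ hW hW' hE (𝓔.pieceX j.succ) (hcoh j.succ)
      hQ hQ' hQHj hK'j
    obtain ⟨mj, hmj⟩ := exists_mono_cokernel_pullback (κ ≫ σ) (𝓔.pieceX j.succ)
    haveI := hmj
    have hcF : Coh.IsCoh (cokernel ((Subobject.pullback (κ ≫ σ)).obj (𝓔.pieceX j.succ)).arrow) :=
      isCoh_cokernel _ (isCoh_pullback_obj (κ ≫ σ) hW hE _ (hcoh j.succ)) hW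
    obtain ⟨N₂, hN₂⟩ := eventually_le_of_semistable k X L hL (d - 1) (hq j) mj hcF hQHj (hH j.succ)
    refine ⟨max N₁ N₂, fun n hn => ?_⟩
    have h1 := hN₁ n ((le_max_left _ _).trans hn)
    have h2 := hN₂ n ((le_max_right _ _).trans hn)
    rw [add_sub_cancel_left] at h1
    rw [hKT, Polynomial.eval_add]
    linarith
  choose N hN using hcmp
  have haP : 0 < StabCat.alpha d P := alpha_pos k X L hL E hE d hdimE hP
  have haP' : (0 : ℝ) < (StabCat.alpha d P : ℝ) := by exact_mod_cast haP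
  have haQ : StabCat.alpha d (Q + pT) = StabCat.alpha d Q := by rw [alpha_add, haT, add_zero]
  -- the total weight
  have hwsum : ∑ j : Fin (𝓔.l + 1), (𝓔.wtX j.succ - 𝓔.wtX j.castSucc) ≤ 1 := by
    rw [sum_telescope' (𝓔.l + 1) 𝓔.wtX, ParSh.Str.wtX_last]
    have : (0 : Fin (𝓔.l + 2)) = (0 : Fin (𝓔.l + 1)).castSucc := rfl
    rw [this, ParSh.Str.wtX_castSucc]
    linarith [𝓔.wt_nonneg]
  refine ⟨max (max M₁ N₀) (Finset.univ.sup N), fun m hm => ?_⟩
  have hm1 : M₁ ≤ m := (le_max_left _ _).trans ((le_max_left _ _).trans hm)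
  have hm0 : N₀ ≤ m := (le_max_right _ _).trans ((le_max_left _ _).trans hm)
  have hm2 : ∀ j, N j ≤ m := fun j =>
    (Finset.le_sup (f := N) (Finset.mem_univ j)).trans ((le_max_right _ _).trans hm)
  have h1 := hM₁ m hm1
  rw [haQ] at h1
  have hpT0 : (0 : ℝ) ≤ ((pT.eval (m : ℚ) : ℚ) : ℝ) := by exact_mod_cast hN₀ m hm0
  have h2 : (W4swparbununimod.parPolyOne 𝓔 d Q QH H).eval (m : ℝ) ≤
      (W4swparbununimod.parPoly (𝓔.induced σ) QX').eval (m : ℝ) := by
    rw [eval_parPolyOne, eval_parPoly_eq_sub k X L hL hW' (𝓔.induced σ) hcW' (Q + pT) hQ' QX' hQX' K' hK' m]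
    have hj : ∀ j : Fin (𝓔.l + 1), (𝓔.wtX j.succ - 𝓔.wtX j.castSucc) * (((K' j.succ).eval (m : ℚ) : ℚ) : ℝ) ≤
        (𝓔.wtX j.succ - 𝓔.wtX j.castSucc) * ((pT.eval (m : ℚ) : ℚ) : ℝ) +
        (𝓔.wtX j.succ - 𝓔.wtX j.castSucc) *
          (((StabCat.alpha (d - 1) (QH j.succ) / StabCat.alpha (d - 1) (H j.succ) : ℚ) : ℝ) *
            (((H j.succ).eval (m : ℚ) : ℚ) : ℝ)) := by
      intro j
      have := hN j m (hm2 j)
      have h3 : (((K' j.succ).eval (m : ℚ) : ℚ) : ℝ) ≤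
          ((pT.eval (m : ℚ) + (StabCat.alpha (d - 1) (QH j.succ) / StabCat.alpha (d - 1) (H j.succ)) *
            (H j.succ).eval (m : ℚ) : ℚ) : ℝ) := by exact_mod_cast this
      rw [Rat.cast_add, Rat.cast_mul] at h3
      rw [← mul_add]
      exact mul_le_mul_of_nonneg_left h3 (sub_nonneg.2 (wtX_castSucc_le_succ 𝓔 j))
    have hsum := Finset.sum_le_sum (fun j (_ : j ∈ Finset.univ) => hj j)
    rw [Finset.sum_add_distrib, ← Finset.sum_mul] at hsum
    have hle : (∑ j : Fin (𝓔.l + 1), (𝓔.wtX j.succ - 𝓔.wtX j.castSucc)) * ((pT.eval (m : ℚ) : ℚ) : ℝ) ≤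
        ((pT.eval (m : ℚ) : ℚ) : ℝ) := by
      have := mul_le_mul_of_nonneg_right hwsum hpT0
      linarith
    have hQe : (((Q + pT).eval (m : ℚ) : ℚ) : ℝ) = ((Q.eval (m : ℚ) : ℚ) : ℝ) + ((pT.eval (m : ℚ) : ℚ) : ℝ) := by
      rw [Polynomial.eval_add, Rat.cast_add]
    rw [hQe]
    change _ ≤ _ - ∑ j : Fin (𝓔.l + 1), (𝓔.wtX j.succ - 𝓔.wtX j.castSucc) * (((K' j.succ).eval (m : ℚ) : ℚ) : ℝ)
    linarith
  calc (W4swparbununimod.parPolyOne 𝓔 d Q QH H).eval (m : ℝ) * (StabCat.alpha d P : ℝ)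
      ≤ (W4swparbununimod.parPoly (𝓔.induced σ) QX').eval (m : ℝ) * (StabCat.alpha d P : ℝ) :=
        mul_le_mul_of_nonneg_right h2 haP'.le
    _ ≤ _ := h1

end Core

end Groth.Agent.Lib.Helper12.ParE
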