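import Mathlib
import Groth.Agent.Lib.Helper12ParD
set_option backward.isDefEq.respectTransparency.types false

/-!
# The second modified parabolic Hilbert polynomial versus the first (helper12)
-/

set_option autoImplicit false
set_option linter.style.haveILetI false
set_option linter.unusedSectionVars false
set_option linter.unusedVariables false
universe u
open CategoryTheory CategoryTheory.Limits AlgebraicGeometry TopologicalSpace Opposite

namespace Groth.Agent.Lib.Helper12.ParF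

open Groth.Agent.Lib.Helper4.Dev Groth.Agent.Lib.Helper4.CurveChi
  Groth.Agent.Lib.Helper12.Snap Groth.Agent.Lib.Helper12.Pos Groth.Agent.Lib.Helper12.HP
  Groth.Agent.Lib.Helper12.HPC Groth.Agent.Lib.Helper12.SubQF Groth.Agent.Lib.Helper12.SubQC
  Groth.Agent.Lib.Helper12.SubQ Groth.Agent.Lib.Helper12.ParA Groth.Agent.Lib.Helper12.ParB
  Groth.Agent.Lib.Helper12.ParC Groth.Agent.Lib.Helper12.ParD

section Real

open Polynomial Filter Topology

/-- normalised values of a rational polynomial of degree `≤ e` at the naturals tend to its coefficient of degree `e` -/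
theorem tendsto_eval_div_pow (p : ℚ[X]) (e : ℕ) (h : ∀ i, e < i → p.coeff i = 0) :
    Tendsto (fun n : ℕ => ((p.eval (n : ℚ) : ℚ) : ℝ) / (n : ℝ) ^ e) atTop (𝓝 ((p.coeff e : ℚ) : ℝ)) := by
  let P : ℝ[X] := p.map (Rat.castHom ℝ)
  have hPc : ∀ i, P.coeff i = ((p.coeff i : ℚ) : ℝ) := fun i => by
    rw [Polynomial.coeff_map]; rfl
  have hdeg : P.natDegree ≤ e := by
    rw [Polynomial.natDegree_le_iff_coeff_eq_zero]
    intro i hi
    rw [hPc, h i hi, Rat.cast_zero]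
  have hreal : Tendsto (fun x : ℝ => P.eval x / (X ^ e : ℝ[X]).eval x) atTop (𝓝 (P.coeff e)) := by
    by_cases hc : P.coeff e = 0
    · rw [hc]
      apply Polynomial.div_tendsto_atTop_zero_of_degree_lt
      rw [Polynomial.degree_X_pow]
      by_cases hP0 : P = 0
      · rw [hP0, Polynomial.degree_zero]; exact WithBot.bot_lt_coe _
      · rw [Polynomial.degree_eq_natDegree hP0]
        have : P.natDegree ≠ e := fun heq => by
          have := Polynomial.leadingCoeff_ne_zero.2 hP0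
          rw [Polynomial.leadingCoeff, heq] at this
          exact this hc
        exact_mod_cast lt_of_le_of_ne hdeg this
    · have hnat : P.natDegree = e := le_antisymm hdeg (Polynomial.le_natDegree_of_ne_zero hc)
      have hP0 : P ≠ 0 := fun h0 => hc (by rw [h0, Polynomial.coeff_zero])
      have := Polynomial.div_tendsto_atTop_leadingCoeff_div_of_degree_eq P (X ^ e : ℝ[X]) (by
        rw [Polynomial.degree_X_pow, Polynomial.degree_eq_natDegree hP0, hnat])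
      rw [Polynomial.leadingCoeff_X_pow, div_one, Polynomial.leadingCoeff, hnat] at this
      exact this
  have hcomp := hreal.comp tendsto_natCast_atTop_atTop
  rw [hPc] at hcomp
  refine hcomp.congr (fun n => ?_)
  simp only [Function.comp, Polynomial.eval_pow, Polynomial.eval_X, P]
  rw [Polynomial.eval_natCast_map]
  rfl

theorem tendsto_ratio (p q : ℚ[X]) (e : ℕ) (hp : ∀ i, e < i → p.coeff i = 0)
    (hq : ∀ i, e < i → q.coeff i = 0) (hqe : q.coeff e ≠ 0) :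
    Tendsto (fun n : ℕ => ((p.eval (n : ℚ) / q.eval (n : ℚ) : ℚ) : ℝ)) atTop
      (𝓝 ((p.coeff e / q.coeff e : ℚ) : ℝ)) := by
  have h1 := tendsto_eval_div_pow p e hp
  have h2 := tendsto_eval_div_pow q e hq
  have hne : ((q.coeff e : ℚ) : ℝ) ≠ 0 := by exact_mod_cast hqe
  have h3 := h1.div h2 hne
  rw [Rat.cast_div]
  refine h3.congr' ?_
  filter_upwards [eventually_ge_atTop 1] with n hn
  have hn0 : ((n : ℝ) ^ e) ≠ 0 := by positivity
  simp only [Pi.div_apply]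
  rw [div_div_div_cancel_right₀ hn0, Rat.cast_div]

/-- the abstract comparison: `A n → a`, `P(n)/n^d → cP`, `Q(n)/n^d → cQ` -/
theorem limit_compare (A : ℕ → ℝ) (a b : ℝ) (P Q : ℚ[X]) (d : ℕ)
    (hA : Tendsto A atTop (𝓝 a)) (hP : ∀ i, d < i → P.coeff i = 0) (hQ : ∀ i, d < i → Q.coeff i = 0) :
    ((∃ N : ℕ, ∀ n : ℕ, N ≤ n → A n * ((P.eval (n : ℚ) : ℚ) : ℝ) ≤ b * ((Q.eval (n : ℚ) : ℚ) : ℝ)) →
      a * ((P.coeff d : ℚ) : ℝ) ≤ b * ((Q.coeff d : ℚ) : ℝ)) ∧
    (a * ((P.coeff d : ℚ) : ℝ) < b * ((Q.coeff d : ℚ) : ℝ) →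
      ∃ N : ℕ, ∀ n : ℕ, N ≤ n → A n * ((P.eval (n : ℚ) : ℚ) : ℝ) < b * ((Q.eval (n : ℚ) : ℚ) : ℝ)) := by
  have hPn := tendsto_eval_div_pow P d hP
  have hQn := tendsto_eval_div_pow Q d hQ
  have hlim1 := hA.mul hPn
  have hlim2 : Tendsto (fun n : ℕ => b * (((Q.eval (n : ℚ) : ℚ) : ℝ) / (n : ℝ) ^ d)) atTop
      (𝓝 (b * ((Q.coeff d : ℚ) : ℝ))) := tendsto_const_nhds.mul hQn
  constructor
  · rintro ⟨N, hN⟩
    refine le_of_tendsto_of_tendsto hlim1 hlim2 ?_
    filter_upwards [eventually_ge_atTop N] with n hn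
    have := hN n hn
    rw [← mul_div_assoc, ← mul_div_assoc]
    exact div_le_div_of_nonneg_right this (by positivity)
  · intro hlt
    have hlim := hlim2.sub hlim1
    have hpos : 0 < b * ((Q.coeff d : ℚ) : ℝ) - a * ((P.coeff d : ℚ) : ℝ) := by linarith
    have hev := hlim.eventually (lt_mem_nhds hpos)
    obtain ⟨N, hN⟩ := Filter.eventually_atTop.1 hev
    refine ⟨max N 1, fun n hn => ?_⟩
    have h1 := hN n ((le_max_left _ _).trans hn)
    have hn1 : 1 ≤ n := (le_max_right _ _).trans hn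
    have hnpos : (0 : ℝ) < (n : ℝ) ^ d := by positivity
    rw [← mul_div_assoc, ← mul_div_assoc, ← sub_div] at h1
    have h2 := (div_pos_iff_of_pos_right hnpos).1 h1
    linarith

end Real

section Core

open Filter Topology

variable (k : Type u) [Field k] (X : Scheme.{u}) [X.Over (Spec (CommRingCat.of k))]
  [IsProper (X ↘ (Spec (CommRingCat.of k)))] (L : X.Modules) (hL : CohB1.IsAmple L)

include hL in
theorem main_S18532 (I : X.IdealSheafData)
    (E : X.Modules) (hE : Coh.IsCoh E) (𝓔 : ParSh.Str E) (h𝓔 : 𝓔.Along I)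
    (hcoh : ∀ j, Coh.IsCoh ((𝓔.pieceX j : Subobject E) : X.Modules)) (d : ℕ) (hd : 1 ≤ d)
    (hsupp : topologicalKrullDim ↥(CohB1.support E ∩ (I.support : Set X)) < (d : WithBot ℕ∞))
    (h0 : ¬ IsZero E) (hpure : ShStab.IsPure X E d)
    (P : Polynomial ℚ) (hP : ShStab.IsHilbPoly k X L E P) (PX : Fin (𝓔.l + 2) → Polynomial ℚ)
    (H : Fin (𝓔.l + 2) → Polynomial ℚ)
    (hH : ∀ j, ShStab.IsHilbPoly k X L (cokernel (𝓔.pieceX j).arrow) (H j))
    (hHa : ∀ j : Fin (𝓔.l + 1), StabCat.alpha (d - 1) (H j.succ) ≠ 0)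
    {W : X.Modules} (ι : W ⟶ E) [Mono ι] (hW : Coh.IsCoh W)
    (Q : Polynomial ℚ) (hQ : ShStab.IsHilbPoly k X L W Q) (QH : Fin (𝓔.l + 2) → Polynomial ℚ)
    (hQH : ∀ j, ShStab.IsHilbPoly k X L (cokernel ((𝓔.induced ι).pieceX j).arrow) (QH j)) :
    ((∃ M : ℕ, ∀ m : ℕ, M ≤ m → ∃ N : ℕ, ∀ n : ℕ, N ≤ n →
        (((Q.eval (m : ℚ) : ℚ) : ℝ) -
            ∑ j : Fin (𝓔.l + 1), (𝓔.wtX j.succ - 𝓔.wtX j.castSucc) *
              ((((QH j.succ).eval (n : ℚ) / (H j.succ).eval (n : ℚ) : ℚ) : ℝ) * (((H j.succ).eval (m : ℚ) : ℚ) : ℝ))) *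
          ((P.eval (n : ℚ) : ℚ) : ℝ) ≤
        (W4swparbununimod.parPoly 𝓔 PX).eval (m : ℝ) * ((Q.eval (n : ℚ) : ℚ) : ℝ)) →
      ∃ M : ℕ, ∀ m : ℕ, M ≤ m →
        (W4swparbununimod.parPolyOne 𝓔 d Q QH H).eval (m : ℝ) * (StabCat.alpha d P : ℝ) ≤
          (W4swparbununimod.parPoly 𝓔 PX).eval (m : ℝ) * (StabCat.alpha d Q : ℝ)) ∧
    ((∃ M : ℕ, ∀ m : ℕ, M ≤ m →
        (W4swparbununimod.parPolyOne 𝓔 d Q QH H).eval (m : ℝ) * (StabCat.alpha d P : ℝ) <
          (W4swparbununimod.parPoly 𝓔 PX).eval (m : ℝ) * (StabCat.alpha d Q : ℝ)) →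
      ∃ M : ℕ, ∀ m : ℕ, M ≤ m → ∃ N : ℕ, ∀ n : ℕ, N ≤ n →
        (((Q.eval (m : ℚ) : ℚ) : ℝ) -
            ∑ j : Fin (𝓔.l + 1), (𝓔.wtX j.succ - 𝓔.wtX j.castSucc) *
              ((((QH j.succ).eval (n : ℚ) / (H j.succ).eval (n : ℚ) : ℚ) : ℝ) * (((H j.succ).eval (m : ℚ) : ℚ) : ℝ))) *
          ((P.eval (n : ℚ) : ℚ) : ℝ) <
        (W4swparbununimod.parPoly 𝓔 PX).eval (m : ℝ) * ((Q.eval (n : ℚ) : ℚ) : ℝ)) := by
  haveI : IsNoetherian X := Groth.Agent.Lib.Helper4.CurveRR.isNoetherian_of_proper k X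
  haveI : IsLocallyNoetherian X := inferInstance
  have hbot := dim_cokernel_bot_lt X I E 𝓔 h𝓔 d hsupp
  obtain ⟨hcW, hbW⟩ := induced_facts X hE 𝓔 hcoh d hbot ι hW
  -- vanishing in degree `≥ d`
  have hHz : ∀ (j : Fin (𝓔.l + 2)) (n : ℕ), d ≤ n → (H j).coeff n = 0 := by
    intro j n hn
    refine coeff_eq_zero_of_dim_lt k X L hL _ (isCoh_cokernel _ (hcoh j) hE) d ?_ (hH j) n hn
    exact lt_of_le_of_lt (dim_le_of_subset' (support_cokernel_arrow_subset (𝓔.bot_le_pieceX j))) hbot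
  have hQHz : ∀ (j : Fin (𝓔.l + 2)) (n : ℕ), d ≤ n → (QH j).coeff n = 0 := by
    intro j n hn
    refine coeff_eq_zero_of_dim_lt k X L hL _ (isCoh_cokernel _ (hcW j) hW) d ?_ (hQH j) n hn
    refine lt_of_le_of_lt (dim_le_of_subset' ?_) hbot
    rw [pieceX_induced]
    exact (support_cokernel_pullback_subset ι _).trans
      (support_cokernel_arrow_subset (𝓔.bot_le_pieceX j))
  have hdimE := dim_eq_of_isPure hpure hE h0
  have hdimW : topologicalKrullDim ↥(CohB1.support W) ≤ (d : WithBot ℕ∞) :=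
    (dim_le_of_subset' (support_subset_of_mono ι)).trans hdimE.le
  have hPz : ∀ n, d < n → P.coeff n = 0 := fun n hn =>
    coeff_eq_zero_of_dim_lt k X L hL E hE (d + 1)
      (lt_of_le_of_lt hdimE.le (by exact_mod_cast Nat.lt_succ_self d)) hP n hn
  have hQz : ∀ n, d < n → Q.coeff n = 0 := fun n hn =>
    coeff_eq_zero_of_dim_lt k X L hL W hW (d + 1)
      (lt_of_le_of_lt hdimW (by exact_mod_cast Nat.lt_succ_self d)) hQ n hn
  -- the limit in `n` for fixed `m`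
  have hlimA : ∀ m : ℕ, Tendsto (fun n : ℕ => (((Q.eval (m : ℚ) : ℚ) : ℝ) -
      ∑ j : Fin (𝓔.l + 1), (𝓔.wtX j.succ - 𝓔.wtX j.castSucc) *
        ((((QH j.succ).eval (n : ℚ) / (H j.succ).eval (n : ℚ) : ℚ) : ℝ) *
          (((H j.succ).eval (m : ℚ) : ℚ) : ℝ)))) atTop
      (𝓝 ((W4swparbununimod.parPolyOne 𝓔 d Q QH H).eval (m : ℝ))) := by
    intro m
    rw [eval_parPolyOne]
    refine tendsto_const_nhds.sub (tendsto_finsetSum _ (fun j _ => ?_))
    refine tendsto_const_nhds.mul (Tendsto.mul ?_ tendsto_const_nhds)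
    have hne : (H j.succ).coeff (d - 1) ≠ 0 := by
      intro h
      apply hHa j
      unfold StabCat.alpha
      rw [h, mul_zero]
    have hr := tendsto_ratio (QH j.succ) (H j.succ) (d - 1)
      (fun i hi => hQHz j.succ i (by omega)) (fun i hi => hHz j.succ i (by omega)) hne
    have heq : (StabCat.alpha (d - 1) (QH j.succ) / StabCat.alpha (d - 1) (H j.succ) : ℚ) =
        (QH j.succ).coeff (d - 1) / (H j.succ).coeff (d - 1) := by
      unfold StabCat.alpha
      have hfac : ((d - 1).factorial : ℚ) ≠ 0 := by positivity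
      rw [mul_div_mul_left _ _ hfac]
    rw [heq]
    exact hr
  have haP : ((StabCat.alpha d P : ℚ) : ℝ) = (d.factorial : ℝ) * ((P.coeff d : ℚ) : ℝ) := by
    unfold StabCat.alpha; push_cast; ring
  have haQ : ((StabCat.alpha d Q : ℚ) : ℝ) = (d.factorial : ℝ) * ((Q.coeff d : ℚ) : ℝ) := by
    unfold StabCat.alpha; push_cast; ring
  have hfac : (0 : ℝ) < (d.factorial : ℝ) := by positivity
  constructor
  · rintro ⟨M, hM⟩
    refine ⟨M, fun m hm => ?_⟩
    have h1 := (limit_compare _ _ ((W4swparbununimod.parPoly 𝓔 PX).eval (m : ℝ)) P Q d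
      (hlimA m) hPz hQz).1 (hM m hm)
    rw [haP, haQ]
    nlinarith
  · rintro ⟨M, hM⟩
    refine ⟨M, fun m hm => ?_⟩
    have h1 := hM m hm
    rw [haP, haQ] at h1
    have h2 : (W4swparbununimod.parPolyOne 𝓔 d Q QH H).eval (m : ℝ) * ((P.coeff d : ℚ) : ℝ) <
        (W4swparbununimod.parPoly 𝓔 PX).eval (m : ℝ) * ((Q.coeff d : ℚ) : ℝ) := by
      by_contra hcon
      push Not at hcon
      nlinarith
    exact (limit_compare _ _ ((W4swparbununimod.parPoly 𝓔 PX).eval (m : ℝ)) P Q d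
      (hlimA m) hPz hQz).2 h2

end Core

end Groth.Agent.Lib.Helper12.ParF
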