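import Mathlib

set_option autoImplicit false
universe u

open Polynomial

namespace Groth.Agent.Lib.Helper12.Pi0A

/-- idempotents lift along a henselian pair. -/
theorem exists_idempotent_lift {R : Type*} [CommRing R] (J : Ideal R) [HenselianRing R J]
    (e₀ : R) (he₀ : e₀ * e₀ - e₀ ∈ J) :
    ∃ e : R, IsIdempotentElem e ∧ e - e₀ ∈ J := by
  nontriviality R
  let f : R[X] := X ^ 2 - X
  have hf : f.Monic := (monic_X_pow 2).sub_of_left (by rw [degree_X_pow, degree_X]; norm_num)
  have hev : f.eval e₀ ∈ J := by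
    simp only [f, eval_sub, eval_pow, eval_X]
    rwa [pow_two]
  have hder : IsUnit (Ideal.Quotient.mk J (f.derivative.eval e₀)) := by
    have hd : f.derivative.eval e₀ = 2 * e₀ - 1 := by
      simp [f]
      ring
    rw [hd]
    apply IsUnit.of_mul_eq_one (Ideal.Quotient.mk J (2 * e₀ - 1))
    rw [← map_mul, ← map_one (Ideal.Quotient.mk J), Ideal.Quotient.eq]
    have : (2 * e₀ - 1) * (2 * e₀ - 1) - 1 = 4 * (e₀ * e₀ - e₀) := by ring
    rw [this]
    exact J.mul_mem_left _ he₀
  obtain ⟨e, he, hee₀⟩ := HenselianRing.is_henselian f hf e₀ hev hder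
  refine ⟨e, ?_, hee₀⟩
  have h1 : f.eval e = 0 := he
  simp only [f, eval_sub, eval_pow, eval_X] at h1
  change e * e = e
  rw [← pow_two]
  exact sub_eq_zero.1 h1

/-- for a henselian pair `(B, J)`, closed-and-open subsets of `V(J)` extend to clopens of
`Spec B`. -/
theorem exists_isClopen_inter_zeroLocus {B : Type*} [CommRing B] (J : Ideal B) [HenselianRing B J]
    (T : Set (PrimeSpectrum B)) (hT : IsClosed T) (hTJ : T ⊆ PrimeSpectrum.zeroLocus (J : Set B))
    (hT' : IsClosed (PrimeSpectrum.zeroLocus (J : Set B) \ T)) :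
    ∃ T' : Set (PrimeSpectrum B), IsClopen T' ∧ T' ∩ PrimeSpectrum.zeroLocus (J : Set B) = T := by
  let i : PrimeSpectrum (B ⧸ J) → PrimeSpectrum B := PrimeSpectrum.comap (Ideal.Quotient.mk J)
  have hi : Continuous i := PrimeSpectrum.continuous_comap _
  have hrange : Set.range i = PrimeSpectrum.zeroLocus (J : Set B) := by
    have := range_comap_of_surjective (B ⧸ J) (Ideal.Quotient.mk J) Ideal.Quotient.mk_surjective
    rw [Ideal.mk_ker] at this
    exact this
  have hclopen : IsClopen (i ⁻¹' T) := by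
    refine ⟨hT.preimage hi, ?_⟩
    have : i ⁻¹' T = (i ⁻¹' (PrimeSpectrum.zeroLocus (J : Set B) \ T))ᶜ := by
      ext z
      simp only [Set.mem_preimage, Set.mem_compl_iff, Set.mem_diff, not_and, not_not]
      constructor
      · intro h _; exact h
      · intro h; exact h (hrange ▸ Set.mem_range_self z)
    rw [this]
    exact (hT'.preimage hi).isOpen_compl
  obtain ⟨ē, hē, hēT⟩ := PrimeSpectrum.isClopen_iff.1 hclopen
  obtain ⟨e₀, rfl⟩ := Ideal.Quotient.mk_surjective ē
  have he₀ : e₀ * e₀ - e₀ ∈ J := by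
    rw [← Ideal.Quotient.eq_zero_iff_mem, map_sub, map_mul, sub_eq_zero]
    exact hē
  obtain ⟨e, he, hee₀⟩ := exists_idempotent_lift J e₀ he₀
  have hmk : Ideal.Quotient.mk J e = Ideal.Quotient.mk J e₀ := Ideal.Quotient.eq.2 hee₀
  refine ⟨PrimeSpectrum.basicOpen e, PrimeSpectrum.isClopen_iff.2 ⟨e, he, rfl⟩, ?_⟩
  ext y
  constructor
  · rintro ⟨hy1, hy2⟩
    rw [← hrange] at hy2
    obtain ⟨z, rfl⟩ := hy2
    have hz : z ∈ i ⁻¹' T := by
      rw [hēT]
      change Ideal.Quotient.mk J e₀ ∉ z.asIdeal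
      rw [← hmk]
      exact hy1
    exact hz
  · intro hy
    have hy2 := hTJ hy
    refine ⟨?_, hy2⟩
    rw [← hrange] at hy2
    obtain ⟨z, rfl⟩ := hy2
    have hz : z ∈ i ⁻¹' T := hy
    rw [hēT] at hz
    change e ∉ (i z).asIdeal
    change Ideal.Quotient.mk J e ∉ z.asIdeal
    rw [hmk]
    exact hz

/-- the key topological lemma: clopens of `X₀ = g⁻¹(Z)` extend to clopens of `X` when `g` is a
closed map with connected fibres and clopens of `Z` extend to clopens of `Y`. -/
theorem exists_isClopen_preimage_eq {X₀ X Y : Type*} [TopologicalSpace X₀] [TopologicalSpace X]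
    [TopologicalSpace Y] (p : X₀ → X) (hp : Topology.IsClosedEmbedding p) (g : X → Y)
    (hg : Continuous g) (hgc : IsClosedMap g) (hfib : ∀ y, IsConnected (g ⁻¹' {y}))
    (Z : Set Y) (hpZ : Set.range p = g ⁻¹' Z)
    (H : ∀ T : Set Y, IsClosed T → T ⊆ Z → IsClosed (Z \ T) →
      ∃ T' : Set Y, IsClopen T' ∧ T' ∩ Z = T)
    (W : Set X₀) (hW : IsClopen W) :
    ∃ W' : Set X, IsClopen W' ∧ p ⁻¹' W' = W := by
  have hgsurj : Function.Surjective g := fun y => by
    obtain ⟨x, hx⟩ := (hfib y).nonempty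
    exact ⟨x, hx⟩
  have hgpZ : ∀ w : X₀, g (p w) ∈ Z := fun w => by
    have : p w ∈ g ⁻¹' Z := hpZ ▸ Set.mem_range_self w
    exact this
  set T : Set Y := g '' (p '' W) with hTdef
  set Tc : Set Y := g '' (p '' Wᶜ) with hTcdef
  have hTcl : IsClosed T := hgc _ (hp.isClosedMap _ hW.1)
  have hTccl : IsClosed Tc := hgc _ (hp.isClosedMap _ hW.2.isClosed_compl)
  have hdisj : ∀ y, y ∈ T → y ∈ Tc → False := by
    rintro y ⟨_, ⟨w, hw, rfl⟩, rfl⟩ ⟨_, ⟨w', hw', rfl⟩, hyy⟩
    -- the fibre through `p w`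
    set F : Set X := g ⁻¹' {g (p w)} with hF
    have hFsub : F ⊆ Set.range p := by
      intro x hx
      rw [hpZ]
      have : g x = g (p w) := hx
      change g x ∈ Z
      rw [this]
      exact hgpZ w
    have himg : p '' (p ⁻¹' F) = F := by
      rw [Set.image_preimage_eq_inter_range, Set.inter_eq_left.2 hFsub]
    have hpre : IsPreconnected (p ⁻¹' F) := by
      rw [← hp.isInducing.isPreconnected_image, himg]
      exact (hfib _).isPreconnected
    have hsub : p ⁻¹' F ⊆ W := hpre.subset_isClopen hW ⟨w, rfl, hw⟩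
    exact hw' (hsub hyy)
  have hTZ : T ⊆ Z := by
    rintro _ ⟨_, ⟨w, -, rfl⟩, rfl⟩
    exact hgpZ w
  have hZT : Z \ T = Tc := by
    ext y
    constructor
    · rintro ⟨hyZ, hyT⟩
      obtain ⟨x, rfl⟩ := hgsurj y
      have hx : x ∈ Set.range p := by rw [hpZ]; exact hyZ
      obtain ⟨w, rfl⟩ := hx
      by_cases hw : w ∈ W
      · exact absurd ⟨_, ⟨w, hw, rfl⟩, rfl⟩ hyT
      · exact ⟨_, ⟨w, hw, rfl⟩, rfl⟩
    · intro hy
      refine ⟨?_, fun hyT => hdisj y hyT hy⟩
      obtain ⟨_, ⟨w, -, rfl⟩, rfl⟩ := hy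
      exact hgpZ w
  obtain ⟨T', hT'clopen, hT'Z⟩ := H T hTcl hTZ (hZT ▸ hTccl)
  refine ⟨g ⁻¹' T', hT'clopen.preimage hg, ?_⟩
  ext w
  constructor
  · intro hw
    have h1 : g (p w) ∈ T' ∩ Z := ⟨hw, hgpZ w⟩
    rw [hT'Z] at h1
    by_contra hwW
    exact hdisj _ h1 ⟨_, ⟨w, hwW, rfl⟩, rfl⟩
  · intro hw
    have h1 : g (p w) ∈ T := ⟨_, ⟨w, hw, rfl⟩, rfl⟩
    rw [← hT'Z] at h1
    exact h1.1

/-- injectivity on connected components from extension of clopens. -/
theorem connectedComponentsMap_injective {X₀ X : Type*} [TopologicalSpace X₀] [TopologicalSpace X]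
    (p : X₀ → X) (hp : Continuous p)
    (hopen : ∀ a : X₀, IsOpen (connectedComponent a))
    (H : ∀ W : Set X₀, IsClopen W → ∃ W' : Set X, IsClopen W' ∧ p ⁻¹' W' = W) :
    Function.Injective (Continuous.connectedComponentsMap hp) := by
  intro a b hab
  obtain ⟨a, rfl⟩ := ConnectedComponents.surjective_coe a
  obtain ⟨b, rfl⟩ := ConnectedComponents.surjective_coe b
  have hab' : connectedComponent (p a) = connectedComponent (p b) :=
    ConnectedComponents.coe_eq_coe.1 hab
  obtain ⟨W', hW', hW'W⟩ := H (connectedComponent a) ⟨isClosed_connectedComponent, hopen a⟩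
  have ha : p a ∈ W' := by
    have : a ∈ p ⁻¹' W' := hW'W ▸ mem_connectedComponent
    exact this
  have hsub : connectedComponent (p a) ⊆ W' := hW'.connectedComponent_subset ha
  have hb : b ∈ p ⁻¹' W' := hsub (hab' ▸ mem_connectedComponent)
  rw [hW'W] at hb
  rw [ConnectedComponents.coe_eq_coe]
  exact connectedComponent_eq hb

/-- surjectivity on connected components when every point specializes into the range. -/
theorem connectedComponentsMap_surjective {X₀ X : Type*} [TopologicalSpace X₀] [TopologicalSpace X]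
    (p : X₀ → X) (hp : Continuous p)
    (H : ∀ x : X, ∃ x₀ : X₀, x ⤳ p x₀) :
    Function.Surjective (Continuous.connectedComponentsMap hp) := by
  intro c
  obtain ⟨x, rfl⟩ := ConnectedComponents.surjective_coe c
  obtain ⟨x₀, hx₀⟩ := H x
  refine ⟨(x₀ : ConnectedComponents X₀), ?_⟩
  change ((p x₀ : X) : ConnectedComponents X) = x
  rw [ConnectedComponents.coe_eq_coe]
  have h1 : closure {x} ⊆ connectedComponent x :=
    (isPreconnected_singleton.closure).subset_connectedComponent (subset_closure rfl)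
  have h2 : p x₀ ∈ connectedComponent x := h1 (specializes_iff_mem_closure.1 hx₀)
  exact (connectedComponent_eq h2).symm

end Groth.Agent.Lib.Helper12.Pi0A
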