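import Mathlib

set_option autoImplicit false
universe u

open CategoryTheory Limits AlgebraicGeometry TopologicalSpace Opposite

namespace Groth.Agent.Lib.Helper12.Pi0B

/-- a ring map between two localizations covering a ring isomorphism is bijective. -/
theorem bijective_of_isLocalization_away {R P S Q : Type*} [CommRing R] [CommRing P] [CommRing S]
    [CommRing Q] [Algebra R S] [Algebra P Q] (r : R) [IsLocalization.Away r S]
    (e : R ≃+* P) [IsLocalization.Away (e r) Q] (ψ : S →+* Q)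
    (hψ : ∀ x : R, ψ (algebraMap R S x) = algebraMap P Q (e x)) : Function.Bijective ψ := by
  have H : Submonoid.map e.toMonoidHom (Submonoid.powers r) = Submonoid.powers (e r) := by
    rw [Submonoid.map_powers]
    rfl
  let E : S ≃+* Q := IsLocalization.ringEquivOfRingEquiv (M := Submonoid.powers r) S Q e H
  have hE : ψ = E.toRingHom := by
    apply IsLocalization.ringHom_ext (Submonoid.powers r)
    ext x
    simp only [RingHom.coe_comp, Function.comp_apply, hψ]
    exact (IsLocalization.ringEquivOfRingEquiv_eq (M := Submonoid.powers r) (S := S) (Q := Q) H x).symm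
  rw [hE]
  exact E.bijective

theorem isIso_toSpecΓ_app_basicOpen (X : Scheme.{u}) [CompactSpace X] [QuasiSeparatedSpace X]
    (r : Γ(X, ⊤)) : IsIso (X.toSpecΓ.app (PrimeSpectrum.basicOpen r)) := by
  set g : X ⟶ Spec Γ(X, ⊤) := X.toSpecΓ with hg
  let r' : Γ(Spec Γ(X, ⊤), ⊤) := (Scheme.ΓSpecIso Γ(X, ⊤)).inv r
  have hr' : g.appTop r' = r := by
    rw [hg, Scheme.toSpecΓ_appTop]
    exact Iso.inv_hom_id_apply (C := CommRingCat) _ _
  have hD : (Spec Γ(X, ⊤)).basicOpen r' = PrimeSpectrum.basicOpen r := basicOpen_eq_of_affine r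
  have hpre : g ⁻¹ᵁ ((Spec Γ(X, ⊤)).basicOpen r') = X.basicOpen r := by
    rw [Scheme.preimage_basicOpen]
    congr 1
  rw [← hD, Scheme.Hom.app_eq_appLE,
    Scheme.Hom.appLE_congr g le_rfl rfl hpre (fun φ => IsIso φ)]
  haveI h1 : IsLocalization.Away r' Γ(Spec Γ(X, ⊤), (Spec Γ(X, ⊤)).basicOpen r') :=
    (isAffineOpen_top (Spec Γ(X, ⊤))).isLocalization_basicOpen r'
  let e : Γ(Spec Γ(X, ⊤), ⊤) ≃+* Γ(X, ⊤) :=
    (Scheme.ΓSpecIso Γ(X, ⊤)).commRingCatIsoToRingEquiv
  have hex : ∀ x, e x = g.appTop x := fun x => by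
    rw [hg, Scheme.toSpecΓ_appTop]
    rfl
  have her : e r' = r := by rw [hex]; exact hr'
  haveI h2 : IsLocalization.Away (e r') Γ(X, X.basicOpen r) := by
    rw [her]
    exact isLocalization_basicOpen_of_qcqs isCompact_univ isQuasiSeparated_univ r
  rw [ConcreteCategory.isIso_iff_bijective]
  refine bijective_of_isLocalization_away r' e _ ?_
  intro x
  rw [hex]
  change (((Spec Γ(X, ⊤)).presheaf.map
      (homOfLE ((Spec Γ(X, ⊤)).basicOpen_le r')).op) ≫ g.appLE _ _ _) x =
    (g.appTop ≫ X.presheaf.map (homOfLE (X.basicOpen_le r)).op) x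
  rw [Scheme.Hom.map_appLE]
  rfl

end Groth.Agent.Lib.Helper12.Pi0B
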