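import Mathlib.Topology.NoetherianSpace
import Mathlib.Topology.Connected.LocallyConnected
import Mathlib.Topology.Irreducible

/-! Helper14: locally Noetherian topological spaces are locally connected. -/

namespace Groth.Agent.Lib.Helper14

open TopologicalSpace

/-- In a Noetherian space, connected components are open. -/
theorem isOpen_connectedComponent_of_noetherianSpace {β : Type*} [TopologicalSpace β]
    [NoetherianSpace β] (x : β) : IsOpen (connectedComponent x) := by
  rw [← isClosed_compl_iff]
  have hfin : (irreducibleComponents β).Finite := NoetherianSpace.finite_irreducibleComponents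
  have heq : (connectedComponent x)ᶜ =
      ⋃₀ {Z ∈ irreducibleComponents β | Disjoint Z (connectedComponent x)} := by
    ext y
    constructor
    · intro hy
      refine ⟨irreducibleComponent y, ⟨irreducibleComponent_mem_irreducibleComponents y, ?_⟩,
        mem_irreducibleComponent⟩
      rw [Set.disjoint_iff]
      rintro z ⟨hz1, hz2⟩
      apply hy
      have hpre : IsPreconnected (irreducibleComponent y) :=
        isIrreducible_irreducibleComponent.isPreirreducible.isPreconnected
      have h1 : irreducibleComponent y ⊆ connectedComponent z :=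
        hpre.subset_connectedComponent hz1
      rw [connectedComponent_eq hz2]
      exact h1 mem_irreducibleComponent
    · rintro ⟨Z, ⟨-, hZd⟩, hyZ⟩ hy
      exact (Set.disjoint_iff.mp hZd) ⟨hyZ, hy⟩
  rw [heq, Set.sUnion_eq_biUnion]
  exact Set.Finite.isClosed_biUnion (hfin.subset (fun Z hZ => hZ.1))
    (fun Z hZ => isClosed_of_mem_irreducibleComponents Z hZ.1)

/-- A space in which every point has a Noetherian neighbourhood is locally connected. -/
theorem locallyConnectedSpace_of_locally_noetherian (X : Type*) [TopologicalSpace X]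
    (hX : ∀ x : X, ∃ U ∈ nhds x, NoetherianSpace U) : LocallyConnectedSpace X := by
  rw [locallyConnectedSpace_iff_connectedComponentIn_open]
  intro F hF x hxF
  rw [isOpen_iff_mem_nhds]
  intro y hy
  obtain ⟨U, hU, hUN⟩ := hX y
  have hyF : y ∈ F := connectedComponentIn_subset F x hy
  set W : Set X := F ∩ interior U with hW
  have hWopen : IsOpen W := hF.inter isOpen_interior
  have hyW : y ∈ W := ⟨hyF, mem_interior_iff_mem_nhds.mpr hU⟩
  haveI : NoetherianSpace W :=
    NoetherianSpace.of_subset (W := U) (Set.inter_subset_right.trans interior_subset)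
  set C' : Set X := Subtype.val '' connectedComponent (⟨y, hyW⟩ : W) with hC'
  have hC'open : IsOpen C' :=
    hWopen.isOpenEmbedding_subtypeVal.isOpenMap _
      (isOpen_connectedComponent_of_noetherianSpace _)
  have hyC' : y ∈ C' := ⟨⟨y, hyW⟩, mem_connectedComponent, rfl⟩
  have hC'pre : IsPreconnected C' :=
    isPreconnected_connectedComponent.image _ continuous_subtype_val.continuousOn
  have hC'F : C' ⊆ F := by
    rintro _ ⟨z, -, rfl⟩
    exact z.2.1
  have hsub : C' ⊆ connectedComponentIn F x := by
    rw [connectedComponentIn_eq hy]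
    exact hC'pre.subset_connectedComponentIn hyC' hC'F
  exact Filter.mem_of_superset (hC'open.mem_nhds hyC') hsub

/-- Every irreducible set is contained in an irreducible component. -/
theorem exists_mem_irreducibleComponents_superset {X : Type*} [TopologicalSpace X] {s : Set X}
    (hs : IsIrreducible s) : ∃ Z ∈ irreducibleComponents X, s ⊆ Z := by
  obtain ⟨t, ht, hst, hmax⟩ := exists_preirreducible s hs.isPreirreducible
  refine ⟨t, ⟨⟨hs.nonempty.mono hst, ht⟩, ?_⟩, hst⟩
  intro u hu htu
  exact (hmax u hu.isPreirreducible htu).le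

/-- In a space where every point has a Noetherian neighbourhood, if the irreducible components are
pairwise disjoint, then they are open. -/
theorem isOpen_of_mem_irreducibleComponents_of_pairwiseDisjoint (X : Type*) [TopologicalSpace X]
    (hX : ∀ x : X, ∃ U ∈ nhds x, NoetherianSpace U)
    (hd : (irreducibleComponents X).PairwiseDisjoint id) {Z : Set X}
    (hZ : Z ∈ irreducibleComponents X) : IsOpen Z := by
  classical
  rw [isOpen_iff_mem_nhds]
  intro x hxZ
  obtain ⟨U, hU, hUN⟩ := hX x
  set W : Set X := interior U with hW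
  have hWopen : IsOpen W := isOpen_interior
  have hxW : x ∈ W := mem_interior_iff_mem_nhds.mpr hU
  haveI : NoetherianSpace W := NoetherianSpace.of_subset (W := U) interior_subset
  have hfin : (irreducibleComponents W).Finite := NoetherianSpace.finite_irreducibleComponents
  have hex : ∀ T : Set W, T ∈ irreducibleComponents W →
      ∃ Z' ∈ irreducibleComponents X, Subtype.val '' T ⊆ Z' := by
    intro T hT
    exact exists_mem_irreducibleComponents_superset
      (hT.1.image _ continuous_subtype_val.continuousOn)
  choose! Zc hZc hTZc using hex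
  set 𝒵 : Set (Set X) := {Z' | Z' ∈ Zc '' irreducibleComponents W ∧ Z' ≠ Z} with h𝒵
  have h𝒵fin : 𝒵.Finite := (hfin.image Zc).subset (fun _ h => h.1)
  have hclosed : IsClosed (⋃₀ 𝒵) := by
    rw [Set.sUnion_eq_biUnion]
    refine h𝒵fin.isClosed_biUnion ?_
    rintro Z' ⟨⟨T, hT, rfl⟩, -⟩
    exact isClosed_of_mem_irreducibleComponents _ (hZc T hT)
  have hxn : x ∉ ⋃₀ 𝒵 := by
    rintro ⟨Z', ⟨⟨T, hT, rfl⟩, hne⟩, hxZ'⟩
    have := hd (hZc T hT) hZ hne
    exact (Set.disjoint_iff.mp this) ⟨hxZ', hxZ⟩
  have hVopen : IsOpen (W ∩ (⋃₀ 𝒵)ᶜ) := hWopen.inter hclosed.isOpen_compl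
  refine Filter.mem_of_superset (hVopen.mem_nhds ⟨hxW, hxn⟩) ?_
  rintro v ⟨hvW, hvn⟩
  have hcov : (⟨v, hvW⟩ : W) ∈ ⋃₀ irreducibleComponents W := by
    rw [sUnion_irreducibleComponents]; trivial
  obtain ⟨T, hT, hvT⟩ := hcov
  have hvZc : v ∈ Zc T := hTZc T hT ⟨⟨v, hvW⟩, hvT, rfl⟩
  by_contra hvZ
  apply hvn
  refine ⟨Zc T, ⟨⟨T, hT, rfl⟩, ?_⟩, hvZc⟩
  rintro rfl
  exact hvZ hvZc

/-- TFAE for locally Noetherian spaces. -/
theorem irreducibleComponents_tfae (X : Type*) [TopologicalSpace X]
    (hX : ∀ x : X, ∃ U ∈ nhds x, NoetherianSpace U) :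
    List.TFAE [∀ Z ∈ irreducibleComponents X, IsOpen Z,
      irreducibleComponents X = Set.range (connectedComponent : X → Set X),
      ∀ x : X, IsIrreducible (connectedComponent x),
      (irreducibleComponents X).PairwiseDisjoint id] := by
  have key : (∀ Z ∈ irreducibleComponents X, IsOpen Z) → ∀ Z ∈ irreducibleComponents X,
      ∀ x ∈ Z, Z = connectedComponent x := by
    intro ha Z hZ x hx
    have hclopen : IsClopen Z := ⟨isClosed_of_mem_irreducibleComponents Z hZ, ha Z hZ⟩
    exact le_antisymm (hZ.1.isPreirreducible.isPreconnected.subset_connectedComponent hx)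
      (hclopen.connectedComponent_subset hx)
  tfae_have 1 → 2 := by
    intro ha
    ext Z
    constructor
    · intro hZ
      obtain ⟨x, hx⟩ := hZ.1.nonempty
      exact ⟨x, (key ha Z hZ x hx).symm⟩
    · rintro ⟨x, rfl⟩
      rw [← key ha _ (irreducibleComponent_mem_irreducibleComponents x) x
        mem_irreducibleComponent]
      exact irreducibleComponent_mem_irreducibleComponents x
  tfae_have 2 → 3 := by
    intro hb x
    have : connectedComponent x ∈ irreducibleComponents X := by rw [hb]; exact ⟨x, rfl⟩
    exact this.1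
  tfae_have 3 → 4 := by
    intro hc Z1 hZ1 Z2 hZ2 hne
    rw [Function.onFun, Set.disjoint_iff]
    rintro z ⟨hz1, hz2⟩
    apply hne
    have h1 : Z1 ⊆ connectedComponent z :=
      hZ1.1.isPreirreducible.isPreconnected.subset_connectedComponent hz1
    have h2 : Z2 ⊆ connectedComponent z :=
      hZ2.1.isPreirreducible.isPreconnected.subset_connectedComponent hz2
    have e1 : Z1 = connectedComponent z := le_antisymm h1 (hZ1.2 (hc z) h1)
    have e2 : Z2 = connectedComponent z := le_antisymm h2 (hZ2.2 (hc z) h2)
    show Z1 = Z2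
    rw [e1, ← e2]
  tfae_have 4 → 1 := by
    intro hd Z hZ
    exact isOpen_of_mem_irreducibleComponents_of_pairwiseDisjoint X hX hd hZ
  tfae_finish

end Groth.Agent.Lib.Helper14
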