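import Mathlib.RingTheory.AdicCompletion.Noetherian
import Mathlib.RingTheory.AdicCompletion.Functoriality
import Mathlib.RingTheory.AdicCompletion.Exactness
import Groth.Agent.Lib.Helper14InvLim

/-!
# Comparing an adic completion with an inverse limit (helper17)

Abstract form of the passage from the three "Artin–Rees" statements to the theorem on formal
functions: `H` an `A`-module, `π n : H →+ G n` a compatible family of additive maps to an inverse
system of abelian groups with
* `π n` kills `I^(n+1) H`,
* `ker (π n) ⊆ I^(n-c) H` for `n ≥ c`,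
* every compatible family has all its components in the images of the `π n`.
Then `lim H/I^n H ≃+ lim G n`.
-/

set_option autoImplicit false

namespace Groth.Agent.Lib.Helper17.AdicLim

variable {A : Type*} [CommRing A] (I : Ideal A) {H : Type*} [AddCommGroup H] [Module A H]
  {G : ℕ → Type*} [∀ n, AddCommGroup (G n)] (t : ∀ n, G (n + 1) →+ G n) (π : ∀ n, H →+ G n)

/-- the compatible families. -/
def limSub : AddSubgroup (∀ n, G n) where
  carrier := {y | ∀ n, t n (y (n + 1)) = y n}
  zero_mem' := by intro n; simp
  add_mem' := by intro x y hx hy n; simp [hx n, hy n]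
  neg_mem' := by intro x hx n; simp [hx n]

theorem mem_limSub (y : ∀ n, G n) : y ∈ limSub t ↔ ∀ n, t n (y (n + 1)) = y n := Iff.rfl

/-- the hypotheses. -/
structure Hyp (c : ℕ) : Prop where
  compat : ∀ n x, t n (π (n + 1) x) = π n x
  killed : ∀ n x, x ∈ (I ^ (n + 1) • ⊤ : Submodule A H) → π n x = 0
  ker_le : ∀ n, c ≤ n → ∀ x, π n x = 0 → x ∈ (I ^ (n - c) • ⊤ : Submodule A H)
  range : ∀ y ∈ limSub t, ∀ n, ∃ x, π n x = y n

variable {I t π}

/-- the canonical map `H → lim G`. -/
def toLim (hc : ∀ n x, t n (π (n + 1) x) = π n x) : H →+ limSub t where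
  toFun x := ⟨fun n => π n x, fun n => hc n x⟩
  map_zero' := by ext n; simp
  map_add' := by intro x y; ext n; simp

variable {c : ℕ} (h : Hyp I t π c)

include h

theorem ker_mono {n n' : ℕ} (hn : n ≤ n') (x : H) (hx : π n' x = 0) : π n x = 0 := by
  induction n', hn using Nat.le_induction with
  | base => exact hx
  | succ k hk ih =>
    apply ih
    rw [← h.compat k x, hx, map_zero]

/-- the induced map on `H / I^(n+1) H`. -/
def πbar (n : ℕ) : (H ⧸ (I ^ (n + 1) • ⊤ : Submodule A H)) →+ G n :=
  QuotientAddGroup.lift (I ^ (n + 1) • ⊤ : Submodule A H).toAddSubgroup (π n)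
    (fun x hx => h.killed n x hx)

theorem πbar_mk (n : ℕ) (x : H) :
    πbar h n (Submodule.Quotient.mk x) = π n x := rfl

/-- the comparison map. -/
def f : AdicCompletion I H →+ limSub t where
  toFun x := ⟨fun n => πbar h n (x.val (n + 1)), by
    intro n
    change t n (πbar h (n + 1) (x.val (n + 1 + 1))) = πbar h n (x.val (n + 1))
    obtain ⟨z, hz⟩ := Submodule.Quotient.mk_surjective _ (x.val (n + 1 + 1))
    have h1 : x.val (n + 1) = Submodule.Quotient.mk z := by
      rw [← x.2 (Nat.le_succ (n + 1)), ← hz]
      rfl
    rw [h1, ← hz, πbar_mk, πbar_mk, h.compat]⟩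
  map_zero' := by
    ext n
    simp
  map_add' := by
    intro x y
    ext n
    simp

theorem f_apply (x : AdicCompletion I H) (n : ℕ) :
    (f h x : ∀ n, G n) n = πbar h n (x.val (n + 1)) := rfl

theorem f_of (x : H) : f h (AdicCompletion.of I H x) = toLim h.compat x := by
  ext n
  rfl

theorem f_injective : Function.Injective (f h) := by
  rw [injective_iff_map_eq_zero]
  intro x hx
  apply AdicCompletion.ext
  intro m
  have h0 : πbar h (m + c) (x.val (m + c + 1)) = 0 := by
    rw [← f_apply, hx]; rfl
  obtain ⟨z, hz⟩ := Submodule.Quotient.mk_surjective _ (x.val (m + c + 1))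
  rw [← hz, πbar_mk] at h0
  have h1 := h.ker_le (m + c) (Nat.le_add_left c m) z h0
  rw [Nat.add_sub_cancel] at h1
  have h2 : x.val m = Submodule.Quotient.mk z := by
    rw [← x.2 (show m ≤ m + c + 1 by omega), ← hz]
    rfl
  rw [h2, AdicCompletion.val_zero_apply]
  exact (Submodule.Quotient.mk_eq_zero _).2 h1

theorem f_surjective : Function.Surjective (f h) := by
  intro y
  choose x' hx' using h.range y.1 y.2
  have hy : ∀ n, t n (y.1 (n + 1)) = y.1 n := y.2
  -- consecutive differences lie in the kernels
  have hstep : ∀ n, π n (x' (n + 1) - x' n) = 0 := by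
    intro n
    rw [map_sub, ← h.compat n (x' (n + 1)), hx', hx', hy, sub_self]
  have hπ : ∀ n n', n ≤ n' → π n (x' n') = y.1 n := by
    intro n n' hn
    induction n', hn using Nat.le_induction with
    | base => exact hx' n
    | succ k hk ih =>
      have := ker_mono h hk _ (hstep k)
      rw [map_sub, sub_eq_zero] at this
      rw [this, ih]
  have hdiff : ∀ n n', c ≤ n → n ≤ n' → x' n' - x' n ∈ (I ^ (n - c) • ⊤ : Submodule A H) := by
    intro n n' hcn hn
    induction n', hn using Nat.le_induction with
    | base => rw [sub_self]; exact Submodule.zero_mem _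
    | succ k hk ih =>
      have h1 := h.ker_le k (hcn.trans hk) _ (hstep k)
      have h2 : (I ^ (k - c) • ⊤ : Submodule A H) ≤ I ^ (n - c) • ⊤ :=
        Submodule.smul_mono_left (Ideal.pow_le_pow_right (by omega))
      have : x' (k + 1) - x' n = (x' (k + 1) - x' k) + (x' k - x' n) := by abel
      rw [this]
      exact Submodule.add_mem _ (h2 h1) ih
  let z : AdicCompletion I H := ⟨fun m => Submodule.Quotient.mk (x' (m + c)), by
    intro m n hmn
    change Submodule.Quotient.mk (x' (n + c)) = Submodule.Quotient.mk (x' (m + c))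
    rw [Submodule.Quotient.eq]
    have := hdiff (m + c) (n + c) (Nat.le_add_left c m) (by omega)
    rwa [Nat.add_sub_cancel] at this⟩
  refine ⟨z, ?_⟩
  ext n
  rw [f_apply]
  change πbar h n (Submodule.Quotient.mk (x' (n + 1 + c))) = y.1 n
  rw [πbar_mk]
  exact hπ n _ (by omega)

theorem f_bijective : Function.Bijective (f h) := ⟨f_injective h, f_surjective h⟩

/-- the completion is the inverse limit. -/
theorem nonempty_addEquiv : Nonempty (AdicCompletion I H ≃+ limSub t) :=
  ⟨AddEquiv.ofBijective (f h) (f_bijective h)⟩

/-- for a complete module the canonical map to the limit is bijective. -/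
theorem toLim_bijective [IsAdicComplete I H] : Function.Bijective (toLim (π := π) h.compat) := by
  have h1 : (toLim (π := π) h.compat : H → limSub t) = f h ∘ AdicCompletion.of I H := by
    funext x
    exact (f_of h x).symm
  rw [h1]
  exact (f_bijective h).comp (AdicCompletion.of_bijective I H)

omit h

/-- surjective images of precomplete modules are precomplete. -/
theorem isPrecomplete_of_surjective {R : Type*} [CommRing R] (I : Ideal R) {N M : Type*}
    [AddCommGroup N] [Module R N] [AddCommGroup M] [Module R M] (f : N →ₗ[R] M)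
    (hf : Function.Surjective f) [IsPrecomplete I N] : IsPrecomplete I M := by
  rw [← AdicCompletion.of_surjective_iff]
  intro y
  obtain ⟨x, rfl⟩ := AdicCompletion.map_surjective I hf y
  obtain ⟨n, rfl⟩ := AdicCompletion.of_surjective I N x
  exact ⟨f n, (AdicCompletion.map_of I f n).symm⟩

theorem isPrecomplete_of_finite {R : Type*} [CommRing R] (I : Ideal R) [IsPrecomplete I R]
    (M : Type*) [AddCommGroup M] [Module R M] [Module.Finite R M] : IsPrecomplete I M := by
  obtain ⟨n, f, hf⟩ := Module.Finite.exists_fin' R M
  haveI : IsPrecomplete I (Fin n → R) := Groth.Agent.Lib.Helper14.isPrecomplete_pi I n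
  exact isPrecomplete_of_surjective I f hf

/-- finite modules over a complete Noetherian ring are complete. -/
theorem isAdicComplete_of_finite {R : Type*} [CommRing R] [IsNoetherianRing R] (I : Ideal R)
    [IsAdicComplete I R] (M : Type*) [AddCommGroup M] [Module R M] [Module.Finite R M] :
    IsAdicComplete I M :=
  { toIsHausdorff := IsHausdorff.of_le_jacobson I M (IsAdicComplete.le_jacobson_bot I)
    toIsPrecomplete := isPrecomplete_of_finite I M }

end Groth.Agent.Lib.Helper17.AdicLim
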