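import Groth.Agent.Lib.Helper17IAdic2
import Groth.Agent.Lib.Helper17AdicLim

/-!
# The theorem on formal functions (helper17)

For `X` proper over a Noetherian ring `A`, `I ⊆ A` an ideal and `M` coherent on `X`:
* `ker_toHH_le`   : `ker (H^p(M) → H^p(M/I^(n+1)M)) ⊆ I^(n-c) H^p(M)`;
* `ker_succ_iff`  : the filtration by these kernels is `I`-good;
* `range_modPowLE`: uniform Mittag-Leffler (Artin–Rees) for the images;
* `hyp`           : the package needed for `Helper17.AdicLim`.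
-/

set_option autoImplicit false
universe u
open CategoryTheory Limits AlgebraicGeometry TopologicalSpace Opposite

namespace Groth.Agent.Lib.Helper17.FFun

open Groth.Agent.Lib.Helper17.GrSys Groth.Agent.Lib.Helper17.GrSysH
  Groth.Agent.Lib.Helper17.HHLes Groth.Agent.Lib.Helper27CohFin
  Groth.Agent.Lib.Helper17.IAdic

variable {A : Type u} [CommRing A] {X : Scheme.{u}} [X.Over (Spec (CommRingCat.of A))]

section Ses

variable (I : Ideal A) (M : X.Modules)

/-- `0 → I^n M → M → M/I^n M → 0`. -/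
noncomputable abbrev sesP (n : ℕ) : ShortComplex X.Modules :=
  ShortComplex.mk (IMι (I ^ n) M) (Formal.modPowπ I n M)
    (kernel.condition (cokernel.π (Formal.smulFamily (I ^ n) M)))

theorem sesP_shortExact (n : ℕ) : (sesP I M n).ShortExact :=
  { exact := ShortComplex.exact_of_f_is_kernel _
      (kernelIsKernel (cokernel.π (Formal.smulFamily (I ^ n) M)))
    mono_f := inferInstanceAs (Mono (Abelian.image.ι (Formal.smulFamily (I ^ n) M)))
    epi_g := inferInstanceAs (Epi (cokernel.π (Formal.smulFamily (I ^ n) M))) }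

instance (n : ℕ) : Epi (Formal.modPowπ I n M) :=
  inferInstanceAs (Epi (cokernel.π (Formal.smulFamily (I ^ n) M)))

theorem modPowLE_refl (n : ℕ) : Formal2.modPowLE I (le_refl n) M = 𝟙 _ := by
  rw [← cancel_epi (Formal.modPowπ I n M), Formal2.modPowπ_modPowLE, Category.comp_id]

theorem modPowLE_comp {m n k : ℕ} (h : m ≤ n) (h' : n ≤ k) :
    Formal2.modPowLE I h' M ≫ Formal2.modPowLE I h M = Formal2.modPowLE I (h.trans h') M := by
  rw [← cancel_epi (Formal.modPowπ I k M), ← Category.assoc, Formal2.modPowπ_modPowLE,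
    Formal2.modPowπ_modPowLE, Formal2.modPowπ_modPowLE]

theorem modPowTrans_eq (n : ℕ) :
    Formal.modPowTrans I n M = Formal2.modPowLE I (Nat.le_succ n) M := by
  rw [← cancel_epi (Formal.modPowπ I (n + 1) M), Formal.modPowπ_trans, Formal2.modPowπ_modPowLE]

theorem completion_map {n k : ℕ} (h : n ≤ k) :
    (Formal.completion I M).map (homOfLE h).op = Formal2.modPowLE I (Nat.succ_le_succ h) M := by
  induction k, h using Nat.le_induction with
  | base =>
    rw [modPowLE_refl]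
    exact (Formal.completion I M).map_id _
  | succ k hk ih =>
    have e : (homOfLE (hk.trans (Nat.le_succ k))).op =
        (homOfLE (Nat.le_succ k)).op ≫ (homOfLE hk).op := rfl
    have e2 : (Formal.completion I M).map (homOfLE (Nat.le_succ k)).op =
        Formal.modPowTrans I (k + 1) M :=
      Functor.ofOpSequence_map_homOfLE_succ _ k
    rw [e, Functor.map_comp]
    exact (congrArg₂ (· ≫ ·) (e2.trans (modPowTrans_eq I M (k + 1))) ih).trans
      (modPowLE_comp I M _ _)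

/-- the morphism of short exact sequences for `m ≤ n`. -/
noncomputable def sesPMap {m n : ℕ} (h : m ≤ n) : sesP I M n ⟶ sesP I M m where
  τ₁ := incl I M h
  τ₂ := 𝟙 M
  τ₃ := Formal2.modPowLE I h M
  comm₁₂ := by
    change incl I M h ≫ IMι (I ^ m) M = IMι (I ^ n) M ≫ 𝟙 M
    rw [inclTo_ι, Category.comp_id]
  comm₂₃ := by
    change 𝟙 M ≫ Formal.modPowπ I m M = Formal.modPowπ I n M ≫ Formal2.modPowLE I h M
    rw [Formal2.modPowπ_modPowLE, Category.id_comp]

/-- `M/I^n M` is killed by `I^n`. -/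
theorem smulMod_modPow (n : ℕ) (b : A) (hb : b ∈ I ^ n) :
    Formal.smulMod A (Formal.modPow I n M) b = 0 := by
  rw [← cancel_epi (Formal.modPowπ I n M), comp_smulMod, comp_zero]
  have e : Formal.smulMod A M b =
      Sigma.ι (fun _ : (I ^ n : Ideal A) => M) ⟨b, hb⟩ ≫ Formal.smulFamily (I ^ n) M := by
    simp [Formal.smulFamily]
  rw [e, Category.assoc]
  change _ ≫ Formal.smulFamily (I ^ n) M ≫ cokernel.π (Formal.smulFamily (I ^ n) M) = 0
  rw [cokernel.condition, comp_zero]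

/-- `H^p(M/I^n M)` is killed by `I^n`. -/
theorem smul_HH_modPow (n : ℕ) (p : ℕ) (b : A) (hb : b ∈ I ^ n)
    (x : Coh.HH X (Formal.modPow I n M) p) : b • x = 0 := by
  rw [← Hm_smulMod, smulMod_modPow I M n b hb, Hm_zero]

end Ses

section Main

variable [IsNoetherianRing A] [IsProper (X ↘ Spec (CommRingCat.of A))]
  (I : Ideal A) (M : X.Modules) (hM : Coh.IsCoh M)

include hM

/-- `ker (H^p(M) → H^p(M/I^(n+1)M)) ⊆ I^(n-c) H^p(M)`. -/
theorem ker_toHH_le (p : ℕ) : ∃ c, ∀ n, c ≤ n → ∀ x : Coh.HH X M p,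
    Hm (Formal.modPowπ I (n + 1) M) p x = 0 →
      x ∈ (I ^ (n - c) • ⊤ : Submodule A (Coh.HH X M p)) := by
  obtain ⟨r, a, hI, hspan⟩ := exists_gens I
  obtain ⟨n₁, hn₁⟩ := range_incl_le a I hI hspan M hM p
  refine ⟨n₁, fun n hn x hx => ?_⟩
  obtain ⟨y, rfl⟩ := exact₂ (sesP I M (n + 1)) (sesP_shortExact I M (n + 1)) p x hx
  have h1 := hn₁ n₁ le_rfl (n + 1) (hn.trans (Nat.le_succ n)) y
  have e : incl I M (hn.trans (Nat.le_succ n)) ≫ IMι (I ^ n₁) M = IMι (I ^ (n + 1)) M :=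
    inclTo_ι _ M
  change Hm (IMι (I ^ (n + 1)) M) p y ∈ _
  rw [← e, ← Hm_comp]
  have h2 : (I ^ (n + 1 - n₁) • ⊤ : Submodule A (Coh.HH X (IM (I ^ n₁) M) p)) ≤
      I ^ (n - n₁) • ⊤ :=
    Submodule.smul_mono_left (Ideal.pow_le_pow_right (by omega))
  exact map_mem_smul_top (Canon.HHlin A (IMι (I ^ n₁) M) p) _ _ (h2 h1)

/-- the filtration by the kernels `R_k` is `I`-good. -/
theorem ker_succ_iff (p : ℕ) : ∃ k₀, ∀ k, k₀ ≤ k → ∀ x : Coh.HH X M p,
    (Hm (Formal.modPowπ I (k + 1 + 1) M) p x = 0 ↔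
      x ∈ (I • Submodule.span A {z : Coh.HH X M p | Hm (Formal.modPowπ I (k + 1) M) p z = 0} :
        Submodule A (Coh.HH X M p))) := by
  obtain ⟨r, a, hI, hspan⟩ := exists_gens I
  obtain ⟨n₁, hn₁⟩ := hft_adicSys a I hI hspan M hM p
  refine ⟨n₁, fun k hk x => ⟨fun hx => ?_, fun hx => ?_⟩⟩
  · obtain ⟨z, rfl⟩ := exact₂ (sesP I M (k + 1 + 1)) (sesP_shortExact I M (k + 1 + 1)) p x hx
    obtain ⟨y, rfl⟩ := hn₁ (k + 1) (hk.trans (Nat.le_succ k)) z
    change Hm (IMι (I ^ (k + 1 + 1)) M) p _ ∈ _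
    rw [map_sum]
    refine Submodule.sum_mem _ (fun i _ => ?_)
    rw [Hm_comp]
    change Hm ((adicSys a I hI M).T i (k + 1) ≫ IMι (I ^ (k + 1 + 1)) M) p (y i) ∈ _
    rw [T_ι, ← Hm_comp, Hm_smulMod]
    refine Submodule.smul_mem_smul (hI i) (Submodule.subset_span ?_)
    exact Hm_g_f (sesP I M (k + 1)) p (y i)
  · have hle : Submodule.span A {z : Coh.HH X M p | Hm (Formal.modPowπ I (k + 1) M) p z = 0} ≤
        LinearMap.ker (Canon.HHlin A (Formal.modPowπ I (k + 1) M) p) :=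
      Submodule.span_le.2 (fun z hz => LinearMap.mem_ker.2 hz)
    have hker : x ∈ LinearMap.ker (Canon.HHlin A (Formal.modPowπ I (k + 1 + 1) M) p) := by
      refine Submodule.smul_le.2 (fun b hb s hs => ?_) hx
      have hs' : Hm (Formal.modPowπ I (k + 1) M) p s = 0 := LinearMap.mem_ker.1 (hle hs)
      obtain ⟨y, rfl⟩ := exact₂ (sesP I M (k + 1)) (sesP_shortExact I M (k + 1)) p s hs'
      rw [LinearMap.mem_ker]
      change Hm (Formal.modPowπ I (k + 1 + 1) M) p (b • Hm (IMι (I ^ (k + 1)) M) p y) = 0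
      have hmul : ∀ b' ∈ I ^ (k + 1), b * b' ∈ I ^ (k + 1 + 1) := fun b' hb' => by
        rw [pow_succ']
        exact Ideal.mul_mem_mul hb hb'
      have e1 : b • Hm (IMι (I ^ (k + 1)) M) p y =
          Hm (IMι (I ^ (k + 1 + 1)) M) p (Hm (mulTo b hmul M) p y) := by
        rw [Hm_comp, mulTo_ι, ← Hm_comp, Hm_smulMod]
      rw [e1]
      exact Hm_g_f (sesP I M (k + 1 + 1)) p _
    exact LinearMap.mem_ker.1 hker

/-- general form of `ker_ι_le_ker_incl`. -/
theorem ker_ι_le_ker_incl' (p : ℕ) : ∃ c, ∀ (m n : ℕ) (h : m ≤ n), m + c ≤ n →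
    ∀ x : Coh.HH X (IM (I ^ n) M) p, Hm (IMι (I ^ n) M) p x = 0 → Hm (incl I M h) p x = 0 := by
  obtain ⟨r, a, hI, hspan⟩ := exists_gens I
  obtain ⟨c, hc⟩ := ker_ι_le_ker_incl a I hI hspan M hM p
  refine ⟨c, fun m n h hmn x hx => ?_⟩
  obtain ⟨k, rfl⟩ := Nat.exists_eq_add_of_le (show c ≤ n by omega)
  have hmk : m ≤ k := by omega
  rw [← incl_comp I M hmk (Nat.le_add_left k c), ← Hm_comp, hc k x hx, map_zero]

/-- uniform Mittag-Leffler: the image of `H^p(M/I^(k+1)M) → H^p(M/I^(n+1)M)` is the image of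
`H^p(M)` for `k ≥ n + c`. -/
theorem range_modPowLE (p : ℕ) : ∃ c, ∀ (n k : ℕ) (h : n ≤ k), n + c ≤ k →
    ∀ x : Coh.HH X (Formal.modPow I (k + 1) M) p, ∃ y : Coh.HH X M p,
      Hm (Formal.modPowπ I (n + 1) M) p y = Hm (Formal2.modPowLE I (Nat.succ_le_succ h) M) p x := by
  obtain ⟨c, hc⟩ := ker_ι_le_ker_incl' I M hM (p + 1)
  refine ⟨c, fun n k h hnk x => ?_⟩
  have hnat := delta_naturality (sesP_shortExact I M (k + 1)) (sesP_shortExact I M (n + 1))
    (sesPMap I M (Nat.succ_le_succ h)) p x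
  have h0 := Hm_f_delta (sesP I M (k + 1)) (sesP_shortExact I M (k + 1)) p x
  have h1 := hc (n + 1) (k + 1) (Nat.succ_le_succ h) (by omega) _ h0
  have h2 : delta (sesP I M (n + 1)) (sesP_shortExact I M (n + 1)) p
      (Hm (Formal2.modPowLE I (Nat.succ_le_succ h) M) p x) = 0 := hnat.trans h1
  exact exact₃ (sesP I M (n + 1)) (sesP_shortExact I M (n + 1)) p _ h2

/-- the package for `AdicLim`. -/
theorem hyp (p : ℕ) : ∃ c, AdicLim.Hyp I (Formal.HHmodPowTrans I M p)
    (Formal.toHHmodPow I M p) c := by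
  obtain ⟨c₁, h₁⟩ := ker_toHH_le I M hM p
  obtain ⟨c₂, h₂⟩ := range_modPowLE I M hM p
  refine ⟨c₁, ⟨?_, ?_, ?_, ?_⟩⟩
  · intro n x
    exact (Formal.HHmap_comp _ _ p x).trans
      (congrArg (fun φ => Hm φ p x) (Formal.modPowπ_trans I (n + 1) M))
  · intro n x hx
    have h3 : (Canon.HHlin A (Formal.modPowπ I (n + 1) M) p) x ∈
        (I ^ (n + 1) • ⊤ : Submodule A (Coh.HH X (Formal.modPow I (n + 1) M) p)) :=
      map_mem_smul_top _ _ _ hx
    have hbot : (I ^ (n + 1) • ⊤ : Submodule A (Coh.HH X (Formal.modPow I (n + 1) M) p)) = ⊥ := by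
      rw [eq_bot_iff]
      refine Submodule.smul_le.2 (fun b hb s _ => ?_)
      rw [smul_HH_modPow I M (n + 1) p b hb s]
      exact Submodule.zero_mem _
    rw [hbot] at h3
    exact (Submodule.mem_bot A).1 h3
  · intro n hn x hx
    exact h₁ n hn x hx
  · intro y hy n
    have key : ∀ k (h : n ≤ k),
        Hm (Formal2.modPowLE I (Nat.succ_le_succ h) M) p (y k) = y n := by
      intro k h
      induction k, h using Nat.le_induction with
      | base => rw [modPowLE_refl, Hm_id]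
      | succ k hk ih =>
        rw [← ih, ← hy k]
        change _ = Hm _ p (Hm (Formal.modPowTrans I (k + 1) M) p (y (k + 1)))
        rw [Hm_comp, modPowTrans_eq, modPowLE_comp]
    obtain ⟨x, hx⟩ := h₂ n (n + c₂) (Nat.le_add_right n c₂) le_rfl (y (n + c₂))
    exact ⟨x, hx.trans (key (n + c₂) (Nat.le_add_right n c₂))⟩

end Main

end Groth.Agent.Lib.Helper17.FFun
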