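/-
Helper library (helper4): Krull–Akizuki, second half: for a Noetherian domain `R` of dimension at most
one and a ring `S` between `R` and its fraction field, `S / aS` is a finite `R`-module (`a ≠ 0`), so
finitely many primes of `S` contain `a` and their residue rings are finite over `R`.
-/
import Groth.Agent.Lib.Helper4KrullAkizuki

set_option autoImplicit false
set_option linter.style.haveILetI false
universe u

namespace Groth.Agent.Lib.Helper4.KrullAkizuki

section Finite

variable {R : Type*} [CommRing R] [IsDomain R] [IsNoetherianRing R]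
variable {K : Type*} [Field K] [Algebra R K] [IsFractionRing R K]

/-- **Krull–Akizuki**, second half: for a Noetherian domain `R` of dimension at most one, a ring `S`
between `R` and its fraction field and `a ≠ 0` in `R`, the quotient `S / aS` is a finite
`R`-module. -/
theorem finite_quotient_span_singleton (hR : ∀ a : R, a ≠ 0 → IsArtinian R (R ⧸ Ideal.span {a}))
    (S : Subalgebra R K) {a : R} (ha : a ≠ 0) :
    Module.Finite R (S ⧸ Ideal.span {algebraMap R S a}) := by
  obtain ⟨N, hN⟩ := exists_uniform hR S ha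
  let M : Submodule R R :=
    { carrier := {r | algebraMap R K r / algebraMap R K a ^ N ∈ S}
      add_mem' := by
        intro x y hx hy
        show algebraMap R K (x + y) / algebraMap R K a ^ N ∈ S
        rw [map_add, add_div]
        exact S.add_mem hx hy
      zero_mem' := by
        show algebraMap R K 0 / algebraMap R K a ^ N ∈ S
        rw [map_zero, zero_div]
        exact S.zero_mem
      smul_mem' := by
        intro c x hx
        show algebraMap R K (c • x) / algebraMap R K a ^ N ∈ S
        rw [smul_eq_mul, map_mul, mul_div_assoc]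
        exact S.mul_mem (S.algebraMap_mem c) hx }
  let g : M →ₗ[R] S :=
    { toFun := fun r => ⟨algebraMap R K r.1 / algebraMap R K a ^ N, r.2⟩
      map_add' := by
        intro x y
        apply Subtype.ext
        show algebraMap R K (x.1 + y.1) / algebraMap R K a ^ N = _
        rw [map_add, add_div]
        rfl
      map_smul' := by
        intro c x
        apply Subtype.ext
        show algebraMap R K (c • x.1) / algebraMap R K a ^ N =
          c • (algebraMap R K x.1 / algebraMap R K a ^ N)
        rw [smul_eq_mul, map_mul, mul_div_assoc, Algebra.smul_def] }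
  let f : M →ₗ[R] (S ⧸ Ideal.span {algebraMap R S a}) :=
    (Ideal.Quotient.mkₐ R (Ideal.span {algebraMap R S a})).toLinearMap.comp g
  have hf : Function.Surjective f := by
    intro y
    obtain ⟨c, rfl⟩ := Ideal.Quotient.mk_surjective y
    obtain ⟨s, hs, r, hr⟩ := hN c.1 c.2
    have hrM : r ∈ M := by
      show algebraMap R K r / algebraMap R K a ^ N ∈ S
      have : algebraMap R K r / algebraMap R K a ^ N = c.1 - algebraMap R K a * s := by
        rw [hr]; ring
      rw [this]
      exact S.sub_mem c.2 (S.mul_mem (S.algebraMap_mem a) hs)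
    refine ⟨⟨r, hrM⟩, ?_⟩
    show Ideal.Quotient.mk _ (g ⟨r, hrM⟩) = Ideal.Quotient.mk _ c
    rw [Ideal.Quotient.eq, Ideal.mem_span_singleton']
    refine ⟨-⟨s, hs⟩, ?_⟩
    apply Subtype.ext
    show -s * algebraMap R K a = algebraMap R K r / algebraMap R K a ^ N - c.1
    rw [hr]; ring
  haveI : Module.Finite R M := Module.Finite.of_fg (IsNoetherian.noetherian M)
  exact Module.Finite.of_surjective f hf

end Finite

end Groth.Agent.Lib.Helper4.KrullAkizuki

namespace Groth.Agent.Lib.Helper4.KrullAkizuki

section Finite2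

variable {R : Type*} [CommRing R] [IsDomain R] [IsNoetherianRing R]
variable {K : Type*} [Field K] [Algebra R K] [IsFractionRing R K]

theorem finite_quotient_of_mem (hR : ∀ a : R, a ≠ 0 → IsArtinian R (R ⧸ Ideal.span {a}))
    (S : Subalgebra R K) {a : R} (ha : a ≠ 0) (P : Ideal S) (haP : algebraMap R S a ∈ P) :
    Module.Finite R (S ⧸ P) := by
  haveI := finite_quotient_span_singleton hR S ha
  have hle : Ideal.span {algebraMap R S a} ≤ P := by
    rw [Ideal.span_singleton_le_iff_mem]; exact haP
  exact Module.Finite.of_surjective (Ideal.Quotient.factorₐ R hle).toLinearMap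
    (Ideal.Quotient.factor_surjective hle)

theorem isArtinianRing_quotient_span_singleton
    (hR : ∀ a : R, a ≠ 0 → IsArtinian R (R ⧸ Ideal.span {a}))
    (S : Subalgebra R K) {a : R} (ha : a ≠ 0) :
    IsArtinianRing (S ⧸ Ideal.span {algebraMap R S a}) := by
  haveI := finite_quotient_span_singleton hR S ha
  haveI : IsArtinianRing (R ⧸ Ideal.span {a}) := isArtinian_of_tower R (hR a ha)
  have hle : Ideal.span {a} ≤ (Ideal.span {algebraMap R S a}).comap (algebraMap R S) := by
    rw [Ideal.span_singleton_le_iff_mem, Ideal.mem_comap]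
    exact Ideal.mem_span_singleton_self _
  letI : Algebra (R ⧸ Ideal.span {a}) (S ⧸ Ideal.span {algebraMap R S a}) :=
    (Ideal.quotientMap _ (algebraMap R S) hle).toAlgebra
  haveI : IsScalarTower R (R ⧸ Ideal.span {a}) (S ⧸ Ideal.span {algebraMap R S a}) :=
    IsScalarTower.of_algebraMap_eq (fun r => rfl)
  haveI : Module.Finite (R ⧸ Ideal.span {a}) (S ⧸ Ideal.span {algebraMap R S a}) :=
    Module.Finite.of_restrictScalars_finite R _ _
  exact IsArtinianRing.of_finite (R ⧸ Ideal.span {a}) _

theorem finite_primes_of_mem (hR : ∀ a : R, a ≠ 0 → IsArtinian R (R ⧸ Ideal.span {a}))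
    (S : Subalgebra R K) {a : R} (ha : a ≠ 0) :
    Finite {P : PrimeSpectrum S // algebraMap R S a ∈ P.asIdeal} := by
  haveI := isArtinianRing_quotient_span_singleton hR S ha
  let f : PrimeSpectrum (S ⧸ Ideal.span {algebraMap R S a}) →
      {P : PrimeSpectrum S // algebraMap R S a ∈ P.asIdeal} := fun Q =>
    ⟨PrimeSpectrum.comap (Ideal.Quotient.mk _) Q, by
      show Ideal.Quotient.mk _ (algebraMap R S a) ∈ Q.asIdeal
      rw [Ideal.Quotient.eq_zero_iff_mem.mpr (Ideal.mem_span_singleton_self _)]
      exact Q.asIdeal.zero_mem⟩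
  apply Finite.of_surjective f
  rintro ⟨P, hP⟩
  have hle : Ideal.span {algebraMap R S a} ≤ P.asIdeal := by
    rw [Ideal.span_singleton_le_iff_mem]; exact hP
  have h1 : P ∈ Set.range (PrimeSpectrum.comap (Ideal.Quotient.mk (Ideal.span {algebraMap R S a}))) := by
    rw [range_comap_of_surjective _ _ Ideal.Quotient.mk_surjective, Ideal.mk_ker,
      PrimeSpectrum.mem_zeroLocus]
    exact hle
  obtain ⟨Q, hQ⟩ := h1
  exact ⟨Q, Subtype.ext hQ⟩

end Finite2

end Groth.Agent.Lib.Helper4.KrullAkizuki

namespace Groth.Agent.Lib.Helper4.KrullAkizuki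

section Transport

variable {R : Type*} [CommRing R] [IsDomain R] [IsNoetherianRing R]
variable {K : Type*} [Field K] [Algebra R K] [IsFractionRing R K]
variable {B : Type*} [CommRing B] [Algebra R B] (S : Subalgebra R K) (e : B ≃ₐ[R] S)

include e

theorem isNoetherianRing_of_algEquiv (hR : ∀ a : R, a ≠ 0 → IsArtinian R (R ⧸ Ideal.span {a})) :
    IsNoetherianRing B :=
  haveI := isNoetherianRing_subalgebra hR S
  isNoetherianRing_of_ringEquiv S e.symm.toRingEquiv

theorem finite_quotient_span_of_algEquiv (hR : ∀ a : R, a ≠ 0 → IsArtinian R (R ⧸ Ideal.span {a}))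
    {a : R} (ha : a ≠ 0) : Module.Finite R (B ⧸ Ideal.span {algebraMap R B a}) := by
  haveI := finite_quotient_span_singleton hR S ha
  have hle : Ideal.span {algebraMap R S a} ≤
      (Ideal.span {algebraMap R B a}).comap (e.symm : S →ₐ[R] B) := by
    rw [Ideal.span_singleton_le_iff_mem, Ideal.mem_comap]
    have : (e.symm : S →ₐ[R] B) (algebraMap R S a) = algebraMap R B a := e.symm.commutes a
    rw [this]
    exact Ideal.mem_span_singleton_self _
  refine Module.Finite.of_surjective
    (Ideal.quotientMapₐ (Ideal.span {algebraMap R B a}) (e.symm : S →ₐ[R] B) hle).toLinearMap ?_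
  intro y
  obtain ⟨b, rfl⟩ := Ideal.Quotient.mk_surjective y
  exact ⟨Ideal.Quotient.mk _ (e b), by
    show Ideal.Quotient.mk _ (e.symm (e b)) = _
    rw [e.symm_apply_apply]⟩

theorem finite_quotient_of_mem_of_algEquiv
    (hR : ∀ a : R, a ≠ 0 → IsArtinian R (R ⧸ Ideal.span {a}))
    {a : R} (ha : a ≠ 0) (P : Ideal B) (haP : algebraMap R B a ∈ P) :
    Module.Finite R (B ⧸ P) := by
  haveI := finite_quotient_span_of_algEquiv S e hR ha
  have hle : Ideal.span {algebraMap R B a} ≤ P := by
    rw [Ideal.span_singleton_le_iff_mem]; exact haP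
  exact Module.Finite.of_surjective (Ideal.Quotient.factorₐ R hle).toLinearMap
    (Ideal.Quotient.factor_surjective hle)

theorem finite_primes_of_mem_of_algEquiv
    (hR : ∀ a : R, a ≠ 0 → IsArtinian R (R ⧸ Ideal.span {a})) {a : R} (ha : a ≠ 0) :
    Finite {P : PrimeSpectrum B // algebraMap R B a ∈ P.asIdeal} := by
  haveI := finite_primes_of_mem hR S ha
  let f : {P : PrimeSpectrum S // algebraMap R S a ∈ P.asIdeal} →
      {P : PrimeSpectrum B // algebraMap R B a ∈ P.asIdeal} := fun P =>
    ⟨PrimeSpectrum.comap (e : B →ₐ[R] S).toRingHom P.1, by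
      show (e : B →ₐ[R] S) (algebraMap R B a) ∈ P.1.asIdeal
      rw [AlgHom.commutes]
      exact P.2⟩
  apply Finite.of_surjective f
  rintro ⟨Q, hQ⟩
  refine ⟨⟨PrimeSpectrum.comap (e.symm : S →ₐ[R] B).toRingHom Q, ?_⟩, ?_⟩
  · show (e.symm : S →ₐ[R] B) (algebraMap R S a) ∈ Q.asIdeal
    rw [AlgHom.commutes]
    exact hQ
  · apply Subtype.ext
    apply PrimeSpectrum.ext
    ext x
    show e.symm (e x) ∈ Q.asIdeal ↔ _
    rw [e.symm_apply_apply]

end Transport

end Groth.Agent.Lib.Helper4.KrullAkizuki
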