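/-
Helper library (helper4): the normalization of a locally Noetherian integral scheme of dimension at
most one (Krull–Akizuki): finite fibres, finite residue field extensions, locally Noetherian, affine
opens are Dedekind.
-/
import Groth.Agent.Lib.Helper4NormCurve
import Groth.Agent.Lib.Helper4KrullAkizuki2

set_option autoImplicit false
set_option linter.style.haveILetI false
universe u

open CategoryTheory CategoryTheory.Limits AlgebraicGeometry

namespace Groth.Agent.Lib.Helper4.NormDimOne

open Groth.Agent.Lib.Helper4.NormCurve Groth.Agent.Lib.Helper4.KrullAkizuki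

section RingLevel

open IsLocalRing

/-- Local-to-global for "nonzero primes are maximal". -/
theorem dimensionLEOne_of_forall_localization (D : Type*) [CommRing D] [IsDomain D]
    (h : ∀ (m : Ideal D) [m.IsMaximal], Ring.DimensionLEOne (Localization.AtPrime m)) :
    Ring.DimensionLEOne D := by
  refine ⟨fun {p} hp0 hpp => ?_⟩
  obtain ⟨m, hm, hpm⟩ := Ideal.exists_le_maximal p hpp.ne_top
  haveI := hm
  haveI := h m
  have hdisj : Disjoint (m.primeCompl : Set D) (p : Set D) := by
    rw [Set.disjoint_left]
    intro x hx hxp
    exact hx (hpm hxp)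
  have hprime : (p.map (algebraMap D (Localization.AtPrime m))).IsPrime :=
    IsLocalization.isPrime_of_isPrime_disjoint m.primeCompl _ p hpp hdisj
  have hne : p.map (algebraMap D (Localization.AtPrime m)) ≠ ⊥ := by
    intro h0
    apply hp0
    rw [eq_bot_iff]
    intro x hx
    have h1 : algebraMap D (Localization.AtPrime m) x ∈
        p.map (algebraMap D (Localization.AtPrime m)) := Ideal.mem_map_of_mem _ hx
    rw [h0, Ideal.mem_bot] at h1
    have hinj : Function.Injective (algebraMap D (Localization.AtPrime m)) :=
      IsLocalization.injective _ m.primeCompl_le_nonZeroDivisors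
    exact hinj (h1.trans (map_zero _).symm)
  have hmax : (p.map (algebraMap D (Localization.AtPrime m))).IsMaximal :=
    Ring.DimensionLEOne.maximalOfPrime hne hprime
  have h2 : p.map (algebraMap D (Localization.AtPrime m)) =
      maximalIdeal (Localization.AtPrime m) := eq_maximalIdeal hmax
  have h3 : (p.map (algebraMap D (Localization.AtPrime m))).comap
      (algebraMap D (Localization.AtPrime m)) = p :=
    IsLocalization.comap_map_of_isPrime_disjoint m.primeCompl _ hpp hdisj
  have h4 : (maximalIdeal (Localization.AtPrime m)).comap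
      (algebraMap D (Localization.AtPrime m)) = m :=
    IsLocalization.AtPrime.comap_maximalIdeal (Localization.AtPrime m) m
  rw [h2, h4] at h3
  rw [← h3]
  exact hm

end RingLevel

section ResidueFinite

open IsLocalRing

variable {A B R T : Type*} [CommRing A] [CommRing B] [CommRing R] [CommRing T]
  [Algebra A B] [Algebra A R] [Algebra B T] [IsLocalRing R] [IsLocalRing T]
  (φ : R →+* T) [IsLocalHom φ]
  (hφ : ∀ a : A, φ (algebraMap A R a) = algebraMap B T (algebraMap A B a))
  (P : Ideal B) [P.IsPrime] [IsLocalization.AtPrime T P]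

include hφ in
/-- Closed case: if `P` is maximal and `B / P` is a finite `A`-module then the residue field of
`T = B_P` is finite over that of `R`. -/
theorem finite_residueField_of_finite_quotient [hP : P.IsMaximal] [Module.Finite A (B ⧸ P)] :
    letI := (ResidueField.map φ).toAlgebra
    Module.Finite (ResidueField R) (ResidueField T) := by
  letI := (ResidueField.map φ).toAlgebra
  letI algAκT : Algebra A (ResidueField T) :=
    ((residue T).comp ((algebraMap B T).comp (algebraMap A B))).toAlgebra
  letI algAκR : Algebra A (ResidueField R) := ((residue R).comp (algebraMap A R)).toAlgebra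
  haveI : IsScalarTower A (ResidueField R) (ResidueField T) := by
    refine IsScalarTower.of_algebraMap_eq (fun a => ?_)
    show residue T (algebraMap B T (algebraMap A B a)) =
      ResidueField.map φ (residue R (algebraMap A R a))
    rw [ResidueField.map_residue, hφ]
  -- `B / P → κ(T)` is a surjective `A`-linear map
  have hker : ∀ b ∈ P, residue T (algebraMap B T b) = 0 := by
    intro b hb
    rw [residue_eq_zero_iff]
    show b ∈ Ideal.under B (maximalIdeal T)
    rw [IsLocalization.AtPrime.under_maximalIdeal T P]
    exact hb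
  let g : (B ⧸ P) →ₗ[A] ResidueField T :=
    { toFun := Ideal.Quotient.lift P ((residue T).comp (algebraMap B T)) hker
      map_add' := fun x y => map_add _ x y
      map_smul' := by
        intro a x
        obtain ⟨b, rfl⟩ := Ideal.Quotient.mk_surjective x
        rw [RingHom.id_apply, Algebra.smul_def, Algebra.smul_def, ← Ideal.Quotient.mk_algebraMap,
          ← map_mul, Ideal.Quotient.lift_mk, Ideal.Quotient.lift_mk, map_mul]
        rfl }
  have hg : Function.Surjective g := by
    intro y
    obtain ⟨x, rfl⟩ := (IsLocalization.AtPrime.equivQuotMaximalIdeal P T).surjective y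
    obtain ⟨b, rfl⟩ := Ideal.Quotient.mk_surjective x
    exact ⟨Ideal.Quotient.mk P b, rfl⟩
  haveI : Module.Finite A (ResidueField T) := Module.Finite.of_surjective g hg
  exact Module.Finite.of_restrictScalars_finite A (ResidueField R) (ResidueField T)

include hφ in
omit [IsLocalHom φ] [IsLocalRing R] in
/-- Generic case: if `R` is a field and every element of `B` is a fraction of elements of `A` with
denominator invertible in `R`, then `φ` is surjective. -/
theorem surjective_of_isField (P : Ideal B) [P.IsPrime] [IsLocalization.AtPrime T P]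
    (hR : IsField R)
    (hfrac : ∀ b : B, ∃ a a₁ : A, algebraMap A R a ≠ 0 ∧ algebraMap A B a * b = algebraMap A B a₁) :
    Function.Surjective φ := by
  -- every image of `B` lies in the range of `φ`
  have h1 : ∀ b : B, ∃ r : R, φ r = algebraMap B T b := by
    intro b
    obtain ⟨a, a₁, ha, hab⟩ := hfrac b
    obtain ⟨u, hu⟩ := hR.mul_inv_cancel ha
    refine ⟨algebraMap A R a₁ * u, ?_⟩
    have h2 : φ (algebraMap A R a) * algebraMap B T b = φ (algebraMap A R a₁) := by
      rw [hφ, hφ, ← map_mul, hab]
    have h3 : φ (algebraMap A R a) * φ u = 1 := by rw [← map_mul, hu, map_one]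
    calc φ (algebraMap A R a₁ * u) = φ (algebraMap A R a₁) * φ u := map_mul _ _ _
      _ = φ (algebraMap A R a) * algebraMap B T b * φ u := by rw [h2]
      _ = (φ (algebraMap A R a) * φ u) * algebraMap B T b := by ring
      _ = algebraMap B T b := by rw [h3, one_mul]
  intro t
  obtain ⟨b, s, rfl⟩ := IsLocalization.exists_mk'_eq P.primeCompl t
  obtain ⟨rb, hrb⟩ := h1 b
  obtain ⟨rs, hrs⟩ := h1 s
  have hunit : IsUnit (algebraMap B T s) := IsLocalization.map_units T s
  have hrs0 : rs ≠ 0 := by
    rintro rfl
    rw [map_zero] at hrs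
    rw [← hrs] at hunit
    exact not_isUnit_zero hunit
  obtain ⟨v, hv⟩ := hR.mul_inv_cancel hrs0
  refine ⟨rb * v, ?_⟩
  rw [eq_comm, IsLocalization.mk'_eq_iff_eq_mul, map_mul, ← hrb, ← hrs, mul_assoc, ← map_mul φ v,
    mul_comm v, hv, map_one, mul_one]

end ResidueFinite

theorem ringKrullDim_sections_le {X : Scheme.{u}} (U : X.Opens) (hU : IsAffineOpen U) :
    ringKrullDim Γ(X, U) ≤ topologicalKrullDim X := by
  rw [← PrimeSpectrum.topologicalKrullDim_eq_ringKrullDim]
  have h1 : topologicalKrullDim U = topologicalKrullDim (PrimeSpectrum Γ(X, U)) :=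
    IsHomeomorph.topologicalKrullDim_eq _ (Scheme.homeoOfIso hU.isoSpec).isHomeomorph
  rw [← h1]
  exact topologicalKrullDim_subspace_le X U

variable {X : Scheme.{u}} [IsIntegral X] (K : Type u) [Field K] (φ : X.functionField →+* K)
variable [QuasiCompact (gen X K φ)] [QuasiSeparated (gen X K φ)]

/-- Sections of the normalization over the preimage of a nonempty affine open, as an algebra over
the sections of `X`, are the integral closure in `K`. -/
theorem exists_normalizationSectionsAlgEquiv (U : X.Opens) (hU : IsAffineOpen U) [hne : Nonempty U] :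
    letI := (φ.comp (X.germToFunctionField U).hom).toAlgebra
    letI := ((gen X K φ).fromNormalization.app U).hom.toAlgebra
    Nonempty (Γ((gen X K φ).normalization, (gen X K φ).fromNormalization ⁻¹ᵁ U) ≃ₐ[Γ(X, U)]
      integralClosure Γ(X, U) K) := by
  letI := (φ.comp (X.germToFunctionField U).hom).toAlgebra
  letI := ((gen X K φ).fromNormalization.app U).hom.toAlgebra
  letI := ((gen X K φ).app U).hom.toAlgebra
  obtain ⟨ψ⟩ := exists_sectionsAlgEquiv K φ U
  let e₀ := ((gen X K φ).normalizationObjIso hU).commRingCatIsoToRingEquiv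
  have he₀ : ∀ a : Γ(X, U), e₀ (algebraMap Γ(X, U) _ a) = algebraMap Γ(X, U) _ a := by
    intro a
    show e₀ (((gen X K φ).fromNormalization.app U).hom a) = _
    rw [Scheme.Hom.fromNormalization_app _ hU]
    simp only [CommRingCat.hom_comp, RingHom.coe_comp, Function.comp_apply]
    exact e₀.apply_symm_apply _
  exact ⟨(AlgEquiv.ofRingEquiv (f := e₀) he₀).trans ψ.symm.mapIntegralClosure⟩

end Groth.Agent.Lib.Helper4.NormDimOne

namespace Groth.Agent.Lib.Helper4.NormDimOne

open Groth.Agent.Lib.Helper4.NormCurve Groth.Agent.Lib.Helper4.KrullAkizuki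

variable {X : Scheme.{u}} [IsIntegral X]
variable [QuasiCompact (gen X X.functionField (RingHom.id _))]
  [QuasiSeparated (gen X X.functionField (RingHom.id _))]

/-- The Krull–Akizuki facts for the chart of the normalization over a nonempty affine open of a
locally Noetherian integral scheme of dimension at most one. -/
theorem chart_facts [IsLocallyNoetherian X] (hdim : topologicalKrullDim X ≤ 1)
    (U : X.Opens) (hU : IsAffineOpen U) [hne : Nonempty U] :
    letI := ((gen X X.functionField (RingHom.id _)).fromNormalization.app U).hom.toAlgebra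
    IsNoetherianRing Γ((gen X X.functionField (RingHom.id _)).normalization,
      (gen X X.functionField (RingHom.id _)).fromNormalization ⁻¹ᵁ U) ∧
    (∀ a : Γ(X, U), a ≠ 0 → ∀ P : Ideal Γ((gen X X.functionField (RingHom.id _)).normalization,
      (gen X X.functionField (RingHom.id _)).fromNormalization ⁻¹ᵁ U),
      algebraMap Γ(X, U) _ a ∈ P → Module.Finite Γ(X, U) (_ ⧸ P)) ∧
    (∀ a : Γ(X, U), a ≠ 0 → Finite {P : PrimeSpectrum
      Γ((gen X X.functionField (RingHom.id _)).normalization,
        (gen X X.functionField (RingHom.id _)).fromNormalization ⁻¹ᵁ U) //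
      algebraMap Γ(X, U) _ a ∈ P.asIdeal}) ∧
    (∀ b : Γ((gen X X.functionField (RingHom.id _)).normalization,
      (gen X X.functionField (RingHom.id _)).fromNormalization ⁻¹ᵁ U),
      ∃ a a₁ : Γ(X, U), a ≠ 0 ∧ algebraMap Γ(X, U) _ a * b = algebraMap Γ(X, U) _ a₁) := by
  letI algB := ((gen X X.functionField (RingHom.id _)).fromNormalization.app U).hom.toAlgebra
  letI algAK : Algebra Γ(X, U) X.functionField :=
    ((RingHom.id _).comp (X.germToFunctionField U).hom).toAlgebra
  haveI : IsDomain Γ(X, U) := IsIntegral.component_integral U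
  haveI : IsFractionRing Γ(X, U) X.functionField :=
    functionField_isFractionRing_of_isAffineOpen X U hU
  haveI : IsNoetherianRing Γ(X, U) := IsLocallyNoetherian.component_noetherian ⟨U, hU⟩
  have hA1 : ringKrullDim Γ(X, U) ≤ 1 := (ringKrullDim_sections_le U hU).trans hdim
  have hR : ∀ a : Γ(X, U), a ≠ 0 → IsArtinian Γ(X, U) (Γ(X, U) ⧸ Ideal.span {a}) :=
    fun a ha => isArtinian_quotient_of_ringKrullDim_le_one hA1 ha
  obtain ⟨e⟩ := exists_normalizationSectionsAlgEquiv X.functionField (RingHom.id _) U hU
  refine ⟨isNoetherianRing_of_algEquiv _ e hR, fun a ha P haP =>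
    finite_quotient_of_mem_of_algEquiv _ e hR ha P haP,
    fun a ha => finite_primes_of_mem_of_algEquiv _ e hR ha, fun b => ?_⟩
  obtain ⟨⟨a₁, a⟩, hab⟩ := IsLocalization.surj (nonZeroDivisors Γ(X, U)) ((e b : X.functionField))
  refine ⟨a, a₁, nonZeroDivisors.ne_zero a.2, ?_⟩
  apply e.injective
  apply Subtype.ext
  rw [map_mul, e.commutes, e.commutes]
  show algebraMap Γ(X, U) X.functionField a * (e b : X.functionField) = algebraMap _ _ a₁
  rw [mul_comm]
  exact hab

theorem chart_dimensionLEOne (hdim : topologicalKrullDim X ≤ 1)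
    (U : X.Opens) (hU : IsAffineOpen U) [hne : Nonempty U] :
    Ring.DimensionLEOne Γ((gen X X.functionField (RingHom.id _)).normalization,
      (gen X X.functionField (RingHom.id _)).fromNormalization ⁻¹ᵁ U) := by
  letI algB := ((gen X X.functionField (RingHom.id _)).fromNormalization.app U).hom.toAlgebra
  letI algAK : Algebra Γ(X, U) X.functionField :=
    ((RingHom.id _).comp (X.germToFunctionField U).hom).toAlgebra
  haveI : IsDomain Γ(X, U) := IsIntegral.component_integral U
  have hA1 : ringKrullDim Γ(X, U) ≤ 1 := (ringKrullDim_sections_le U hU).trans hdim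
  haveI : Ring.KrullDimLE 1 Γ(X, U) := (Ring.krullDimLE_iff).mpr hA1
  haveI : Ring.DimensionLEOne Γ(X, U) :=
    ⟨fun {p} hp hpp => Ring.krullDimLE_one_iff_of_noZeroDivisors.mp inferInstance p hp hpp⟩
  obtain ⟨e⟩ := exists_normalizationSectionsAlgEquiv X.functionField (RingHom.id _) U hU
  exact Ring.DimensionLEOne.of_ringEquiv e.toRingEquiv

/-- The fibres of the normalization of a locally Noetherian integral scheme of dimension at most one
are finite. -/
theorem finite_fibre [IsLocallyNoetherian X] (hdim : topologicalKrullDim X ≤ 1) (x : X) :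
    Finite {x' : (gen X X.functionField (RingHom.id _)).normalization //
      (gen X X.functionField (RingHom.id _)).fromNormalization x' = x} := by
  set ν := (gen X X.functionField (RingHom.id _)).fromNormalization with hν
  by_cases hx : x = genericPoint X
  · subst hx
    haveI : Subsingleton {x' : (gen X X.functionField (RingHom.id _)).normalization //
        ν x' = genericPoint X} := by
      refine ⟨fun a b => Subtype.ext ?_⟩
      rw [eq_genericPoint_of_fromNormalization_eq _ _ a.1 a.2,
        eq_genericPoint_of_fromNormalization_eq _ _ b.1 b.2]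
    exact Finite.of_subsingleton
  · obtain ⟨_, ⟨U, hU, rfl⟩, hxU, -⟩ := X.isBasis_affineOpens.exists_subset_of_mem_open
      (Set.mem_univ x) isOpen_univ
    haveI : Nonempty U := ⟨⟨x, hxU⟩⟩
    have hW : IsAffineOpen (ν ⁻¹ᵁ U) := hU.preimage ν
    letI algB := (ν.app U).hom.toAlgebra
    obtain ⟨-, -, hfin, -⟩ := chart_facts hdim U hU
    -- the prime of `x` is nonzero
    have hp : (hU.primeIdealOf ⟨x, hxU⟩).asIdeal ≠ ⊥ := by
      intro h0
      apply hx
      have h1 : hU.primeIdealOf ⟨x, hxU⟩ = hU.primeIdealOf ⟨genericPoint X, genericPoint_mem U⟩ := by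
        rw [hU.primeIdealOf_genericPoint, genericPoint_eq_bot_of_affine]
        exact PrimeSpectrum.ext h0
      have h2 := hU.isoSpec.hom.isOpenEmbedding.injective h1
      exact congrArg Subtype.val h2
    obtain ⟨a, haP, ha0⟩ := Submodule.exists_mem_ne_zero_of_ne_bot hp
    haveI := hfin a ha0
    have hmemW : ∀ x' : {x' : (gen X X.functionField (RingHom.id _)).normalization // ν x' = x},
        x'.1 ∈ ν ⁻¹ᵁ U := by
      intro x'
      show ν x'.1 ∈ U
      rw [x'.2]
      exact hxU
    let Φ : {x' : (gen X X.functionField (RingHom.id _)).normalization // ν x' = x} →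
        {P : PrimeSpectrum Γ((gen X X.functionField (RingHom.id _)).normalization, ν ⁻¹ᵁ U) //
          algebraMap Γ(X, U) _ a ∈ P.asIdeal} := fun x' =>
      ⟨hW.primeIdealOf ⟨x'.1, hmemW x'⟩, by
        have hx'W : x'.1 ∈ ν ⁻¹ᵁ U := hmemW x'
        have h1 := IsAffineOpen.comap_primeIdealOf_appLE (f := ν) U hU (ν ⁻¹ᵁ U) hW le_rfl hx'W
        rw [Scheme.Hom.appLE_eq_app] at h1
        have h2 : (⟨ν x'.1, hx'W⟩ : U) = ⟨x, hxU⟩ := Subtype.ext x'.2
        rw [h2] at h1
        have h3 : a ∈ ((hW.primeIdealOf ⟨x'.1, hx'W⟩).asIdeal.comap (ν.app U).hom) := by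
          have := congrArg PrimeSpectrum.asIdeal h1
          rw [PrimeSpectrum.comap_asIdeal] at this
          rw [this]
          exact haP
        exact h3⟩
    apply Finite.of_injective Φ
    intro x₁ x₂ h12
    have h3 := congrArg Subtype.val h12
    have h4 := hW.isoSpec.hom.isOpenEmbedding.injective h3
    exact Subtype.ext (Subtype.mk.inj h4)

/-- The normalization of a locally Noetherian integral scheme of dimension at most one is locally
Noetherian (Krull–Akizuki). -/
theorem isLocallyNoetherian_normalization [IsLocallyNoetherian X]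
    (hdim : topologicalKrullDim X ≤ 1) :
    IsLocallyNoetherian (gen X X.functionField (RingHom.id _)).normalization := by
  set ν := (gen X X.functionField (RingHom.id _)).fromNormalization with hν
  refine isLocallyNoetherian_of_affine_cover
    (S := fun U : X.affineOpens => ⟨ν ⁻¹ᵁ U.1, U.2.preimage ν⟩) ?_ ?_
  · rw [eq_top_iff]
    intro x' _
    obtain ⟨_, ⟨U, hU, rfl⟩, hxU, -⟩ := X.isBasis_affineOpens.exists_subset_of_mem_open
      (Set.mem_univ (ν x')) isOpen_univ
    rw [TopologicalSpace.Opens.mem_iSup]
    exact ⟨⟨U, hU⟩, hxU⟩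
  · rintro ⟨U, hU⟩
    by_cases hne : Nonempty U
    · exact (chart_facts hdim U hU).1
    · have hU0 : U = ⊥ := by
        ext x
        simp only [TopologicalSpace.Opens.coe_bot, Set.mem_empty_iff_false, iff_false]
        exact fun hx => hne ⟨⟨x, hx⟩⟩
      subst hU0
      show IsNoetherianRing Γ((gen X X.functionField (RingHom.id _)).normalization, ν ⁻¹ᵁ ⊥)
      haveI : Subsingleton Γ((gen X X.functionField (RingHom.id _)).normalization, ν ⁻¹ᵁ ⊥) := by
        rw [Scheme.Hom.preimage_bot]
        infer_instance
      infer_instance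

/-- Stalks of the normalization of an integral scheme of dimension at most one have all nonzero
primes maximal. -/
theorem dimensionLEOne_stalk_normalization (hdim : topologicalKrullDim X ≤ 1)
    (x' : (gen X X.functionField (RingHom.id _)).normalization) :
    Ring.DimensionLEOne ((gen X X.functionField (RingHom.id _)).normalization.presheaf.stalk x') := by
  set ν := (gen X X.functionField (RingHom.id _)).fromNormalization with hν
  obtain ⟨_, ⟨U, hU, rfl⟩, hxU, -⟩ := X.isBasis_affineOpens.exists_subset_of_mem_open
    (Set.mem_univ (ν x')) isOpen_univ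
  haveI : Nonempty U := ⟨⟨_, hxU⟩⟩
  have hW : IsAffineOpen (ν ⁻¹ᵁ U) := hU.preimage ν
  haveI := chart_dimensionLEOne hdim U hU
  obtain ⟨hdom, -⟩ := normal_sections_normalization X.functionField (RingHom.id _) U hU
  letI := TopCat.Presheaf.algebra_section_stalk
    (gen X X.functionField (RingHom.id _)).normalization.presheaf (U := ν ⁻¹ᵁ U) ⟨x', hxU⟩
  haveI := hW.isLocalization_stalk ⟨x', hxU⟩
  exact Ring.DimensionLEOne.localization _
    (hW.primeIdealOf ⟨x', hxU⟩).asIdeal.primeCompl_le_nonZeroDivisors

/-- Every nonempty affine open of the normalization of a locally Noetherian integral scheme of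
dimension at most one is the spectrum of a Dedekind domain. -/
theorem isDedekindDomain_sections_normalization [IsLocallyNoetherian X]
    (hdim : topologicalKrullDim X ≤ 1)
    (W : (gen X X.functionField (RingHom.id _)).normalization.Opens) (hW : IsAffineOpen W)
    [hne : Nonempty W] :
    IsDedekindDomain Γ((gen X X.functionField (RingHom.id _)).normalization, W) := by
  haveI := isLocallyNoetherian_normalization (X := X) hdim
  haveI hdom : IsDomain Γ((gen X X.functionField (RingHom.id _)).normalization, W) :=
    IsIntegral.component_integral W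
  haveI : IsNoetherianRing Γ((gen X X.functionField (RingHom.id _)).normalization, W) :=
    IsLocallyNoetherian.component_noetherian ⟨W, hW⟩
  -- localizations at primes are stalks
  have hloc : ∀ (m : Ideal Γ((gen X X.functionField (RingHom.id _)).normalization, W))
      [m.IsPrime], ∃ y : (gen X X.functionField (RingHom.id _)).normalization,
        Nonempty (Localization.AtPrime m ≃+*
          (gen X X.functionField (RingHom.id _)).normalization.presheaf.stalk y) := by
    intro m hm
    let y : PrimeSpectrum Γ((gen X X.functionField (RingHom.id _)).normalization, W) := ⟨m, hm⟩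
    have hy : hW.fromSpec y ∈ (W : Set (gen X X.functionField (RingHom.id _)).normalization) := by
      rw [← hW.range_fromSpec]; exact ⟨y, rfl⟩
    letI := TopCat.Presheaf.algebra_section_stalk
      (gen X X.functionField (RingHom.id _)).normalization.presheaf ⟨hW.fromSpec y, hy⟩
    haveI : IsLocalization.AtPrime
        ((gen X X.functionField (RingHom.id _)).normalization.presheaf.stalk (hW.fromSpec y)) m :=
      hW.isLocalization_stalk' y hy
    exact ⟨hW.fromSpec y, ⟨(IsLocalization.algEquiv m.primeCompl _ _).toRingEquiv⟩⟩
  haveI : Ring.DimensionLEOne Γ((gen X X.functionField (RingHom.id _)).normalization, W) := by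
    apply dimensionLEOne_of_forall_localization
    intro m hm
    obtain ⟨y, ⟨e⟩⟩ := hloc m
    haveI := dimensionLEOne_stalk_normalization hdim y
    exact Ring.DimensionLEOne.of_ringEquiv e
  haveI : IsIntegrallyClosed Γ((gen X X.functionField (RingHom.id _)).normalization, W) := by
    apply IsIntegrallyClosed.of_localization_maximal
    intro m _ hm
    obtain ⟨y, ⟨e⟩⟩ := hloc m
    haveI := (isNormalScheme_normalization X.functionField (RingHom.id _) y).2
    exact IsIntegrallyClosed.of_equiv e.symm
  exact { }

open IsLocalRing in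
/-- The residue field extensions of the normalization of a locally Noetherian integral scheme of
dimension at most one are finite. -/
theorem finite_residueField [IsLocallyNoetherian X] (hdim : topologicalKrullDim X ≤ 1)
    (x' : (gen X X.functionField (RingHom.id _)).normalization) :
    letI := ((gen X X.functionField (RingHom.id _)).fromNormalization.residueFieldMap x').hom.toAlgebra
    Module.Finite (X.residueField ((gen X X.functionField (RingHom.id _)).fromNormalization x'))
      ((gen X X.functionField (RingHom.id _)).normalization.residueField x') := by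
  set ν := (gen X X.functionField (RingHom.id _)).fromNormalization with hν
  obtain ⟨_, ⟨U, hU, rfl⟩, hxU, -⟩ := X.isBasis_affineOpens.exists_subset_of_mem_open
    (Set.mem_univ (ν x')) isOpen_univ
  haveI : Nonempty U := ⟨⟨_, hxU⟩⟩
  have hW : IsAffineOpen (ν ⁻¹ᵁ U) := hU.preimage ν
  haveI : IsDomain Γ(X, U) := IsIntegral.component_integral U
  obtain ⟨hdomB, -⟩ := normal_sections_normalization X.functionField (RingHom.id _) U hU
  letI algB : Algebra Γ(X, U) Γ((gen X X.functionField (RingHom.id _)).normalization, ν ⁻¹ᵁ U) :=
    (ν.app U).hom.toAlgebra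
  haveI : Algebra.IsIntegral Γ(X, U)
      Γ((gen X X.functionField (RingHom.id _)).normalization, ν ⁻¹ᵁ U) :=
    ⟨IsIntegralHom.isIntegral_app ν U hU⟩
  letI algAR := TopCat.Presheaf.algebra_section_stalk X.presheaf (U := U) ⟨ν x', hxU⟩
  letI algBT := TopCat.Presheaf.algebra_section_stalk
    (gen X X.functionField (RingHom.id _)).normalization.presheaf (U := ν ⁻¹ᵁ U) ⟨x', hxU⟩
  haveI locR := hU.isLocalization_stalk ⟨ν x', hxU⟩
  haveI locT := hW.isLocalization_stalk ⟨x', hxU⟩
  obtain ⟨-, hfinq, -, hfrac⟩ := chart_facts hdim U hU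
  have hφ : ∀ a : Γ(X, U), (ν.stalkMap x').hom (algebraMap Γ(X, U) (X.presheaf.stalk (ν x')) a) =
      algebraMap Γ((gen X X.functionField (RingHom.id _)).normalization, ν ⁻¹ᵁ U)
        ((gen X X.functionField (RingHom.id _)).normalization.presheaf.stalk x')
        (algebraMap Γ(X, U) _ a) := fun a => Scheme.Hom.germ_stalkMap_apply ν U x' hxU a
  have hcomap : (hW.primeIdealOf ⟨x', hxU⟩).asIdeal.comap (algebraMap Γ(X, U)
      Γ((gen X X.functionField (RingHom.id _)).normalization, ν ⁻¹ᵁ U)) =
      (hU.primeIdealOf ⟨ν x', hxU⟩).asIdeal := by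
    have := IsAffineOpen.comap_primeIdealOf_appLE (f := ν) U hU (ν ⁻¹ᵁ U) hW le_rfl hxU
    rw [Scheme.Hom.appLE_eq_app] at this
    exact congrArg PrimeSpectrum.asIdeal this
  show @Module.Finite (ResidueField (X.presheaf.stalk (ν x')))
    (ResidueField ((gen X X.functionField (RingHom.id _)).normalization.presheaf.stalk x')) _ _
    (ResidueField.map (ν.stalkMap x').hom).toAlgebra.toModule
  by_cases hp : (hU.primeIdealOf ⟨ν x', hxU⟩).asIdeal = ⊥
  · -- generic case
    have hR : IsField (X.presheaf.stalk (ν x')) := by
      rw [IsLocalRing.isField_iff_maximalIdeal_eq,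
        ← IsLocalization.AtPrime.map_eq_maximalIdeal (hU.primeIdealOf ⟨ν x', hxU⟩).asIdeal, hp,
        Ideal.map_bot]
    have hinj : Function.Injective (algebraMap Γ(X, U) (X.presheaf.stalk (ν x'))) :=
      IsLocalization.injective _
        (hU.primeIdealOf ⟨ν x', hxU⟩).asIdeal.primeCompl_le_nonZeroDivisors
    have hsurj := surjective_of_isField (ν.stalkMap x').hom hφ (hW.primeIdealOf ⟨x', hxU⟩).asIdeal hR
      (fun b => by
        obtain ⟨a, a₁, ha, hab⟩ := hfrac b
        exact ⟨a, a₁, fun h0 => ha (hinj (h0.trans (map_zero _).symm)), hab⟩)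
    letI := (ResidueField.map (ν.stalkMap x').hom).toAlgebra
    refine Module.Finite.of_surjective (Algebra.linearMap _ _) ?_
    intro y
    obtain ⟨t, rfl⟩ := residue_surjective y
    obtain ⟨r, rfl⟩ := hsurj t
    exact ⟨residue _ r, rfl⟩
  · -- closed case
    obtain ⟨a, haP, ha0⟩ := Submodule.exists_mem_ne_zero_of_ne_bot hp
    have hA1 : ringKrullDim Γ(X, U) ≤ 1 := (ringKrullDim_sections_le U hU).trans hdim
    haveI : Ring.KrullDimLE 1 Γ(X, U) := (Ring.krullDimLE_iff).mpr hA1
    have hpmax : (hU.primeIdealOf ⟨ν x', hxU⟩).asIdeal.IsMaximal :=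
      Ring.krullDimLE_one_iff_of_noZeroDivisors.mp inferInstance _ hp inferInstance
    haveI hP'max : (hW.primeIdealOf ⟨x', hxU⟩).asIdeal.IsMaximal := by
      apply Ideal.isMaximal_of_isIntegral_of_isMaximal_comap (R := Γ(X, U))
      rw [hcomap]
      exact hpmax
    haveI : Module.Finite Γ(X, U) (Γ((gen X X.functionField (RingHom.id _)).normalization, ν ⁻¹ᵁ U) ⧸
        (hW.primeIdealOf ⟨x', hxU⟩).asIdeal) := by
      apply hfinq a ha0
      have : a ∈ (hW.primeIdealOf ⟨x', hxU⟩).asIdeal.comap (algebraMap Γ(X, U)
          Γ((gen X X.functionField (RingHom.id _)).normalization, ν ⁻¹ᵁ U)) := by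
        rw [hcomap]; exact haP
      exact this
    exact finite_residueField_of_finite_quotient (ν.stalkMap x').hom hφ
      (hW.primeIdealOf ⟨x', hxU⟩).asIdeal

omit [QuasiCompact (gen X X.functionField (RingHom.id _))]
  [QuasiSeparated (gen X X.functionField (RingHom.id _))] in
/-- All the statements about the normalization of a locally Noetherian integral scheme of dimension
at most one, for a morphism equal to the canonical one from the generic point. -/
theorem normalization_dim_one_of_eq (g : Spec (CommRingCat.of X.functionField) ⟶ X)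
    (hg : g = gen X X.functionField (RingHom.id _)) [QuasiCompact g] [QuasiSeparated g]
    [IsLocallyNoetherian X] (hdim : topologicalKrullDim X ≤ 1) :
    (∀ x : X, Finite {x' : g.normalization // g.fromNormalization x' = x}) ∧
    (∀ x' : g.normalization,
      letI := (g.fromNormalization.residueFieldMap x').hom.toAlgebra
      Module.Finite (X.residueField (g.fromNormalization x')) (g.normalization.residueField x')) ∧
    IsLocallyNoetherian g.normalization ∧
    (∀ U : g.normalization.affineOpens,
      ((U : g.normalization.Opens) : Set g.normalization).Nonempty →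
        IsDedekindDomain Γ(g.normalization, (U : g.normalization.Opens))) := by
  subst hg
  refine ⟨finite_fibre hdim, finite_residueField hdim, isLocallyNoetherian_normalization hdim,
    fun U hU => ?_⟩
  haveI : Nonempty (U : (gen X X.functionField (RingHom.id _)).normalization.Opens) :=
    ⟨⟨hU.some, hU.some_mem⟩⟩
  exact isDedekindDomain_sections_normalization hdim U.1 U.2

end Groth.Agent.Lib.Helper4.NormDimOne
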