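import Groth.Agent.Lib.Helper4ModEpi
import Groth.Agent.Lib.Helper2ModExact
import Groth.Agent.Lib.Helper4NormDimOne
import Groth.Prelude.Def_ClSub2
import Groth.Prelude.Def_FlatMod2
import Groth.Prelude.Def_Curv2

/-!
# The cokernel of `O_X → ν_* O_{X^ν}` for the normalization of an integral scheme (helper4)

* `stalkLin`: the stalk map of a morphism of `O_X`-modules as a linear map over the local ring;
  `stalkLin_surjective` (epis), `exists_germ_of_stalkLin_eq_zero` (left exactness).
* `isLocalizedModule_germLin`: for `F` localizing on an affine open `V ∋ x`, the germ map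
  `Γ(F,V) → F_x` is the localization at the prime of `x`.
* `isLocOn_pushO`: `f_* O_N` is localizing on affine opens for affine `f`.
* `isLocalizedModule_inclIntegralClosure`: integral closure commutes with localization at a prime
  (module form).
* `mono_unitToPush`: `O_X → ν_* O` is a monomorphism.
* `nonempty_stalk_cokernel_equiv`: the stalk at `x` of the cokernel is `A'/A` for `A = O_{X,x}`.
-/

set_option autoImplicit false
set_option linter.style.haveILetI false
universe u
open CategoryTheory CategoryTheory.Limits AlgebraicGeometry Opposite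

namespace Groth.Agent.Lib.Helper4.NormDelta

open Groth.Agent.Lib.Helper2.QCoh Groth.Agent.Lib.Helper2.Push Groth.Agent.Lib.Helper2.ModExact
open Groth.Agent.Lib.Helper4.ModEpi Groth.Agent.Lib.Helper4.NormCurve
open Groth.Agent.Lib.Helper4.NormDimOne

section Stalk

variable {X : Scheme.{u}}

/-- The stalk map of a morphism of `O_X`-modules, as a map of abelian groups. -/
noncomputable abbrev stalkHom {F G : X.Modules} (φ : F ⟶ G) (x : X) :
    F.presheaf.stalk x ⟶ G.presheaf.stalk x :=
  (TopCat.Presheaf.stalkFunctor AddCommGrpCat.{u} x).map (Scheme.Modules.Hom.mapPresheaf φ)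

theorem stalkHom_germ {F G : X.Modules} (φ : F ⟶ G) (x : X) (U : X.Opens) (hx : x ∈ U)
    (m : Γ(F, U)) :
    stalkHom φ x (F.presheaf.germ U x hx m) =
      G.presheaf.germ U x hx (Scheme.Modules.Hom.app φ U m) :=
  (germ_app φ U x hx m).symm

theorem stalkHom_smul {F G : X.Modules} (φ : F ⟶ G) (x : X) (r : X.presheaf.stalk x)
    (y : F.presheaf.stalk x) : stalkHom φ x (r • y) = r • stalkHom φ x y := by
  obtain ⟨V, hxV, t, rfl⟩ := F.presheaf.exists_germ_eq y
  obtain ⟨V', hxV', r', rfl⟩ := X.presheaf.exists_germ_eq r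
  have hxW : x ∈ V ⊓ V' := ⟨hxV, hxV'⟩
  have h1 : F.presheaf.germ V x hxV t = F.presheaf.germ (V ⊓ V') x hxW
      (F.presheaf.map (homOfLE inf_le_left).op t) :=
    (TopCat.Presheaf.germ_res_apply F.presheaf (homOfLE inf_le_left) x hxW t).symm
  have h2 : X.presheaf.germ V' x hxV' r' = X.presheaf.germ (V ⊓ V') x hxW
      (X.presheaf.map (homOfLE inf_le_right).op r') :=
    (TopCat.Presheaf.germ_res_apply X.presheaf (homOfLE inf_le_right) x hxW r').symm
  rw [h1, h2, ← germ_smul, stalkHom_germ, stalkHom_germ, app_smul, germ_smul]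

/-- The stalk map of a morphism of `O_X`-modules, as a linear map over the local ring. -/
noncomputable def stalkLin {F G : X.Modules} (φ : F ⟶ G) (x : X) :
    F.presheaf.stalk x →ₗ[X.presheaf.stalk x] G.presheaf.stalk x where
  toFun := stalkHom φ x
  map_add' := map_add _
  map_smul' := stalkHom_smul φ x

theorem stalkLin_germ {F G : X.Modules} (φ : F ⟶ G) (x : X) (U : X.Opens) (hx : x ∈ U)
    (m : Γ(F, U)) :
    stalkLin φ x (F.presheaf.germ U x hx m) =
      G.presheaf.germ U x hx (Scheme.Modules.Hom.app φ U m) :=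
  stalkHom_germ φ x U hx m

theorem stalkLin_surjective {F G : X.Modules} (φ : F ⟶ G) [Epi φ] (x : X) :
    Function.Surjective (stalkLin φ x) := fun c => exists_germ_eq_of_epi φ x c

/-- Left exactness on stalks: germs killed by `S.g` come from sections of `S.X₁`. -/
theorem exists_germ_of_stalkLin_eq_zero (S : ShortComplex X.Modules) (hS : S.ShortExact) (x : X)
    (y : S.X₂.presheaf.stalk x) (hy : stalkLin S.g x y = 0) :
    ∃ (W : X.Opens) (hxW : x ∈ W) (s : Γ(S.X₁, W)),
      y = S.X₂.presheaf.germ W x hxW (Scheme.Modules.Hom.app S.f W s) := by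
  obtain ⟨V, hxV, t, rfl⟩ := S.X₂.presheaf.exists_germ_eq y
  rw [stalkLin_germ] at hy
  have h0 : S.X₃.presheaf.germ V x hxV (Scheme.Modules.Hom.app S.g V t) =
      S.X₃.presheaf.germ V x hxV 0 := by rw [hy, map_zero]
  obtain ⟨W, hxW, i₁, i₂, hW⟩ := S.X₃.presheaf.germ_eq x hxV hxV _ 0 h0
  rw [map_zero, ← app_map] at hW
  obtain ⟨s, hs⟩ := exists_app_eq_of_shortExact S hS W _ hW
  refine ⟨W, hxW, s, ?_⟩
  rw [hs]
  exact (TopCat.Presheaf.germ_res_apply S.X₂.presheaf i₁ x hxW t).symm

end Stalk

section GermLoc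

variable {X : Scheme.{u}}

/-- The stalk of a module at `x ∈ V` as a module over the sections of `O_X` over `V`. -/
noncomputable abbrev sectionStalkModule (F : X.Modules) (V : X.Opens) (x : X) (hxV : x ∈ V) :
    Module Γ(X, V) (F.presheaf.stalk x) :=
  Module.compHom _ (X.presheaf.germ V x hxV).hom

/-- The germ map as a linear map over the sections of `O_X`. -/
noncomputable def germLin (F : X.Modules) (V : X.Opens) (x : X) (hxV : x ∈ V) :
    letI := sectionStalkModule F V x hxV
    Γ(F, V) →ₗ[Γ(X, V)] F.presheaf.stalk x :=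
  letI := sectionStalkModule F V x hxV
  { toFun := F.presheaf.germ V x hxV
    map_add' := map_add _
    map_smul' := fun r m => germ_smul F x V hxV r m }

theorem isLocalizedModule_germLin {V : X.Opens} (hV : IsAffineOpen V) {F : X.Modules}
    (hF : IsLocOn F V) (x : X) (hxV : x ∈ V) :
    letI := sectionStalkModule F V x hxV
    IsLocalizedModule (hV.primeIdealOf ⟨x, hxV⟩).asIdeal.primeCompl (germLin F V x hxV) := by
  letI := sectionStalkModule F V x hxV
  have hunit : ∀ s : Γ(X, V), s ∉ (hV.primeIdealOf ⟨x, hxV⟩).asIdeal →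
      IsUnit (X.presheaf.germ V x hxV s) := by
    intro s hs
    rw [← Scheme.mem_basicOpen X s x hxV,
      Groth.Agent.Lib.Helper2.mem_basicOpen_iff_notMem_primeIdealOf hV x hxV]
    exact hs
  have hnotmem : ∀ s : Γ(X, V), x ∈ X.basicOpen s →
      s ∈ (hV.primeIdealOf ⟨x, hxV⟩).asIdeal.primeCompl := by
    intro s hs
    rw [Groth.Agent.Lib.Helper2.mem_basicOpen_iff_notMem_primeIdealOf hV x hxV] at hs
    exact hs
  constructor
  · intro s
    rw [Module.End.isUnit_iff]
    have hs : IsUnit (X.presheaf.germ V x hxV s) := hunit s s.2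
    constructor
    · intro a b hab
      have h1 : (X.presheaf.germ V x hxV s) • a = (X.presheaf.germ V x hxV s) • b := hab
      exact hs.smul_left_cancel.mp h1
    · intro b
      obtain ⟨v, hv⟩ := hs
      refine ⟨(↑(v⁻¹) : X.presheaf.stalk x) • b, ?_⟩
      show (X.presheaf.germ V x hxV s) • ((↑(v⁻¹) : X.presheaf.stalk x) • b) = b
      rw [← hv, smul_smul, Units.mul_inv, one_smul]
  · intro y
    obtain ⟨s, m, hs, hsm⟩ := hF.exists_smul_eq_germ hV x hxV y
    exact ⟨(m, ⟨s, hnotmem s hs⟩), hsm⟩
  · intro m₁ m₂ h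
    have h0 : F.presheaf.germ V x hxV (m₁ - m₂) = 0 := by
      rw [map_sub, sub_eq_zero]
      exact h
    obtain ⟨s, hs, hsm⟩ := hF.exists_smul_eq_zero_of_germ_eq_zero hV x hxV _ h0
    refine ⟨⟨s, hnotmem s hs⟩, ?_⟩
    show s • m₁ = s • m₂
    rw [← sub_eq_zero, ← smul_sub]
    exact hsm

end GermLoc

section Push

variable {N X : Scheme.{u}} (f : N ⟶ X)

/-- `f_* O_N`. -/
noncomputable abbrev pushO : X.Modules :=
  (Scheme.Modules.pushforward f).obj (Coh.structureModule N)

/-- a section of `O_N` over `f⁻¹ W`, as a section of `f_* O_N` over `W`. -/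
def toPush (W : X.Opens) (b : Γ(N, f ⁻¹ᵁ W)) : Γ(pushO f, W) := b

/-- a section of `f_* O_N` over `W`, as a section of `O_N` over `f⁻¹ W`. -/
def ofPush (W : X.Opens) (b : Γ(pushO f, W)) : Γ(N, f ⁻¹ᵁ W) := b

theorem unitToPush_app (W : X.Opens) (s : Γ(Coh.structureModule X, W)) :
    Scheme.Modules.Hom.app (ClSub.unitToPush f) W s = toPush f W ((f.app W).hom s) := rfl

theorem pushO_smul (W : X.Opens) (a : Γ(X, W)) (b : Γ(pushO f, W)) :
    a • b = toPush f W ((f.app W).hom a * ofPush f W b) := rfl

theorem exists_extension_structure {W : N.Opens} (hW : IsAffineOpen W) (a : Γ(N, W))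
    (W' : N.Opens) (hW' : W' = N.basicOpen a) (hle : W' ≤ W) (s : Γ(N, W')) :
    ∃ (n : ℕ) (t : Γ(N, W)), N.presheaf.map (homOfLE hle).op t =
      (N.presheaf.map (homOfLE hle).op a) ^ n * s := by
  subst hW'
  haveI := hW.isLocalization_basicOpen a
  obtain ⟨⟨t, ⟨_, n, rfl⟩⟩, h⟩ := IsLocalization.surj (Submonoid.powers a) s
  refine ⟨n, t, ?_⟩
  rw [mul_comm, ← map_pow]
  exact h.symm

theorem exists_pow_mul_eq_zero_structure {W : N.Opens} (hW : IsAffineOpen W) (a : Γ(N, W))
    (W' : N.Opens) (hW' : W' = N.basicOpen a) (hle : W' ≤ W) (t : Γ(N, W))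
    (ht : N.presheaf.map (homOfLE hle).op t = 0) : ∃ n : ℕ, a ^ n * t = 0 := by
  subst hW'
  haveI := hW.isLocalization_basicOpen a
  have h0 : algebraMap Γ(N, W) Γ(N, N.basicOpen a) t = algebraMap Γ(N, W) Γ(N, N.basicOpen a) 0 := by
    rw [map_zero]; exact ht
  obtain ⟨⟨_, n, rfl⟩, hn⟩ := IsLocalization.exists_of_eq (M := Submonoid.powers a) h0
  exact ⟨n, by simpa using hn⟩

theorem isLocOn_pushO [IsAffineHom f] {V : X.Opens} (hV : IsAffineOpen V) :
    IsLocOn (pushO f) V := by
  have hU : IsAffineOpen (f ⁻¹ᵁ V) := hV.preimage f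
  constructor
  · intro g s
    have hW : f ⁻¹ᵁ (X.basicOpen g) = N.basicOpen (f.app V g) := Scheme.preimage_basicOpen f g
    have hle : f ⁻¹ᵁ (X.basicOpen g) ≤ f ⁻¹ᵁ V := fun x hx => X.basicOpen_le g hx
    obtain ⟨n, t, ht⟩ := exists_extension_structure hU (f.app V g) _ hW hle (ofPush f _ s)
    refine ⟨n, toPush f V t, ?_⟩
    rw [pushO_smul]
    refine ht.trans ?_
    show _ = _ * ofPush f _ s
    congr 1
    rw [map_pow]
    congr 1
    have hnat := Scheme.Hom.naturality f (homOfLE (X.basicOpen_le g)).op
    have := congrArg (fun φ => φ g) hnat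
    simp only [ConcreteCategory.comp_apply] at this
    exact this.symm
  · intro g t ht
    have hW : f ⁻¹ᵁ (X.basicOpen g) = N.basicOpen (f.app V g) := Scheme.preimage_basicOpen f g
    have hle : f ⁻¹ᵁ (X.basicOpen g) ≤ f ⁻¹ᵁ V := fun x hx => X.basicOpen_le g hx
    obtain ⟨n, hn⟩ := exists_pow_mul_eq_zero_structure hU (f.app V g) _ hW hle (ofPush f V t) ht
    refine ⟨n, ?_⟩
    rw [pushO_smul, map_pow]
    exact hn

end Push

section Ring

variable {A R K : Type*} [CommRing A] [CommRing R] [Field K] [Algebra A R] [Algebra A K]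
  [Algebra R K] [IsScalarTower A R K] (p : Ideal A) [p.IsPrime] [IsLocalization.AtPrime R p]

/-- The inclusion of the integral closure of `A` in `K` into the integral closure of `A_p`. -/
def inclIntegralClosure : integralClosure A K →ₗ[A] integralClosure R K where
  toFun z := ⟨z.1, z.2.tower_top⟩
  map_add' _ _ := rfl
  map_smul' a z := by
    apply Subtype.ext
    show a • z.1 = a • z.1
    rfl

include p in
theorem isLocalizedModule_inclIntegralClosure :
    IsLocalizedModule p.primeCompl (inclIntegralClosure (A := A) (R := R) (K := K)) := by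
  constructor
  · intro s
    rw [Module.End.isUnit_iff]
    have hs : IsUnit (algebraMap A R s) := IsLocalization.map_units R s
    constructor
    · intro a b hab
      have h1 : (algebraMap A R s) • a = (algebraMap A R s) • b := by
        rw [algebraMap_smul, algebraMap_smul]
        exact hab
      exact hs.smul_left_cancel.mp h1
    · intro b
      obtain ⟨v, hv⟩ := hs
      refine ⟨(↑(v⁻¹) : R) • b, ?_⟩
      show (s : A) • ((↑(v⁻¹) : R) • b) = b
      rw [← algebraMap_smul R (s : A), ← hv, smul_smul, Units.mul_inv, one_smul]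
  · intro z
    obtain ⟨m, hm⟩ := IsIntegral.exists_multiple_integral_of_isLocalization p.primeCompl (z.1 : K) z.2
    refine ⟨(⟨m • z.1, hm⟩, m), ?_⟩
    apply Subtype.ext
    rfl
  · intro x₁ x₂ h
    refine ⟨1, ?_⟩
    rw [one_smul, one_smul]
    apply Subtype.ext
    exact congrArg (fun z : integralClosure R K => (z : K)) h

end Ring

section Mono

variable {X : Scheme.{u}} [IsIntegral X] (K : Type u) [Field K] (φ : X.functionField →+* K)
variable [QuasiCompact (gen X K φ)] [QuasiSeparated (gen X K φ)]

theorem fromNormalization_app_injective' (W : X.Opens) :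
    Function.Injective ((gen X K φ).fromNormalization.app W).hom := by
  by_cases hne : Nonempty W
  · obtain ⟨⟨x, hxW⟩⟩ := hne
    obtain ⟨_, ⟨V, hV, rfl⟩, hxV, hVW⟩ := X.isBasis_affineOpens.exists_subset_of_mem_open
      hxW W.isOpen
    haveI : Nonempty V := ⟨⟨x, hxV⟩⟩
    rw [injective_iff_map_eq_zero]
    intro s hs
    have h1 : ((gen X K φ).fromNormalization.app V).hom (X.presheaf.map (homOfLE hVW).op s) = 0 := by
      have hnat := Scheme.Hom.naturality (gen X K φ).fromNormalization (homOfLE hVW).op
      have h2 := congrArg (fun ψ => ψ s) hnat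
      simp only [ConcreteCategory.comp_apply] at h2
      refine h2.trans ?_
      erw [hs]
      exact map_zero _
    have h3 := fromNormalization_app_injective K φ V hV
      (h1.trans (map_zero ((gen X K φ).fromNormalization.app V).hom).symm)
    exact map_injective_of_isIntegral X (homOfLE hVW) (h3.trans (map_zero _).symm)
  · have hW0 : W = ⊥ := by
      ext x
      simp only [TopologicalSpace.Opens.coe_bot, Set.mem_empty_iff_false, iff_false]
      exact fun hx => hne ⟨⟨x, hx⟩⟩
    subst hW0
    intro a b _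
    exact Subsingleton.elim a b

theorem mono_unitToPush : Mono (ClSub.unitToPush (gen X K φ).fromNormalization) := by
  have h2 : Mono (Scheme.Modules.Hom.mapPresheaf
      (ClSub.unitToPush (gen X K φ).fromNormalization)) := by
    refine (NatTrans.mono_iff_mono_app _).2 (fun W => ?_)
    rw [Scheme.Modules.mapPresheaf_app, AddCommGrpCat.mono_iff_injective]
    exact fromNormalization_app_injective' K φ W.unop
  have h1 : Mono ((Scheme.Modules.toPresheaf X).map
      (ClSub.unitToPush (gen X K φ).fromNormalization)) := by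
    rw [Scheme.Modules.toPresheaf_map]
    exact h2
  exact (Scheme.Modules.toPresheaf X).mono_of_mono_map h1

end Mono

section Delta

variable {X : Scheme.{u}}

/-- the germ of `1` in the stalk of `f_* O_N`. -/
noncomputable def oneStalk {N : Scheme.{u}} (f : N ⟶ X) (x : X) : (pushO f).presheaf.stalk x :=
  (pushO f).presheaf.germ ⊤ x (TopologicalSpace.Opens.mem_top x) (toPush f ⊤ 1)

theorem germ_toPush_one {N : Scheme.{u}} (f : N ⟶ X) (x : X) (W : X.Opens) (hxW : x ∈ W) :
    (pushO f).presheaf.germ W x hxW (toPush f W 1) = oneStalk f x := by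
  have h1 : (pushO f).presheaf.map (homOfLE (le_top : W ≤ ⊤)).op (toPush f ⊤ 1) = toPush f W 1 := by
    show toPush f W (N.presheaf.map (homOfLE _).op 1) = toPush f W 1
    rw [map_one]
  rw [← h1]
  exact TopCat.Presheaf.germ_res_apply (pushO f).presheaf (homOfLE le_top) x hxW _

theorem ker_stalkLin_cokernel_π {N : Scheme.{u}} (f : N ⟶ X) [Mono (ClSub.unitToPush f)] (x : X) :
    LinearMap.ker (stalkLin (cokernel.π (ClSub.unitToPush f)) x) =
      Submodule.span (X.presheaf.stalk x) {oneStalk f x} := by
  let S : ShortComplex X.Modules :=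
    ShortComplex.mk (ClSub.unitToPush f) (cokernel.π (ClSub.unitToPush f)) (cokernel.condition _)
  have hS : S.ShortExact :=
    { exact := S.exact_of_g_is_cokernel (cokernelIsCokernel _)
      mono_f := inferInstanceAs (Mono (ClSub.unitToPush f))
      epi_g := inferInstanceAs (Epi (cokernel.π (ClSub.unitToPush f))) }
  apply le_antisymm
  · intro y hy
    obtain ⟨W, hxW, s, rfl⟩ := exists_germ_of_stalkLin_eq_zero S hS x y (LinearMap.mem_ker.1 hy)
    have h1 : Scheme.Modules.Hom.app S.f W s = (show Γ(X, W) from s) • toPush f W 1 := by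
      show Scheme.Modules.Hom.app (ClSub.unitToPush f) W s = _
      rw [unitToPush_app, pushO_smul]
      show _ = toPush f W ((f.app W).hom s * 1)
      rw [mul_one]
    rw [h1, germ_smul, germ_toPush_one]
    exact Submodule.smul_mem _ _ (Submodule.mem_span_singleton_self _)
  · rw [Submodule.span_le, Set.singleton_subset_iff]
    show stalkLin (cokernel.π (ClSub.unitToPush f)) x (oneStalk f x) = 0
    rw [oneStalk, stalkLin_germ]
    have h1 : toPush f ⊤ 1 = Scheme.Modules.Hom.app (ClSub.unitToPush f) ⊤
        (show Γ(Coh.structureModule X, ⊤) from (1 : Γ(X, ⊤))) := by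
      rw [unitToPush_app]
      show toPush f ⊤ 1 = toPush f ⊤ ((f.app ⊤).hom 1)
      rw [map_one]
    rw [h1]
    have h2 : Scheme.Modules.Hom.app (cokernel.π (ClSub.unitToPush f)) ⊤
        (Scheme.Modules.Hom.app (ClSub.unitToPush f) ⊤
          (show Γ(Coh.structureModule X, ⊤) from (1 : Γ(X, ⊤)))) = 0 := by
      have h3 := cokernel.condition (ClSub.unitToPush f)
      have h4 := congrArg (fun ψ => Scheme.Modules.Hom.app ψ ⊤) h3
      simp only [Scheme.Modules.Hom.comp_app, Scheme.Modules.Hom.zero_app] at h4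
      exact congrArg (fun ψ => ψ (show Γ(Coh.structureModule X, ⊤) from (1 : Γ(X, ⊤)))) h4
    rw [h2, map_zero]

end Delta

section Main

variable {X : Scheme.{u}} [IsIntegral X]
variable [QuasiCompact (gen X X.functionField (RingHom.id _))]
  [QuasiSeparated (gen X X.functionField (RingHom.id _))]

theorem exists_stalk_pushO_equiv (x : X) :
    ∃ E : (pushO (gen X X.functionField (RingHom.id _)).fromNormalization).presheaf.stalk x
        ≃ₗ[X.presheaf.stalk x]
        integralClosure (X.presheaf.stalk x) (FractionRing (X.presheaf.stalk x)),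
      E (oneStalk (gen X X.functionField (RingHom.id _)).fromNormalization x) = 1 := by
  obtain ⟨_, ⟨V, hV, rfl⟩, hxV, -⟩ := X.isBasis_affineOpens.exists_subset_of_mem_open
    (Set.mem_univ x) isOpen_univ
  haveI hne : Nonempty V := ⟨⟨x, hxV⟩⟩
  set ν := (gen X X.functionField (RingHom.id _)).fromNormalization with hν
  have hG : IsLocOn (pushO ν) V := isLocOn_pushO ν hV
  -- instances
  letI algAR : Algebra Γ(X, V) (X.presheaf.stalk x) := (X.presheaf.germ V x hxV).hom.toAlgebra
  haveI hloc : IsLocalization.AtPrime (X.presheaf.stalk x) (hV.primeIdealOf ⟨x, hxV⟩).asIdeal :=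
    hV.isLocalization_stalk ⟨x, hxV⟩
  letI modAG := sectionStalkModule (pushO ν) V x hxV
  haveI : IsScalarTower Γ(X, V) (X.presheaf.stalk x) ((pushO ν).presheaf.stalk x) :=
    IsScalarTower.of_algebraMap_smul (fun r m => rfl)
  haveI loc1 := isLocalizedModule_germLin hV hG x hxV
  haveI : IsScalarTower Γ(X, V) (X.presheaf.stalk x) X.functionField :=
    functionField_isScalarTower X V ⟨x, hxV⟩
  -- the sections of the normalization as the integral closure
  letI algAB : Algebra Γ(X, V) Γ((gen X X.functionField (RingHom.id _)).normalization, ν ⁻¹ᵁ V) :=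
    (ν.app V).hom.toAlgebra
  obtain ⟨e⟩ := exists_normalizationSectionsAlgEquiv X.functionField (RingHom.id _) V hV
  -- `e` as a linear equivalence from sections of the pushforward
  let j₀ : Γ(pushO ν, V) ≃ₗ[Γ(X, V)] integralClosure Γ(X, V) X.functionField :=
    { toFun := fun b => e (ofPush ν V b)
      invFun := fun z => toPush ν V (e.symm z)
      map_add' := fun a b => map_add e _ _
      map_smul' := fun a b => by
        rw [pushO_smul]
        show e ((ν.app V).hom a * ofPush ν V b) = a • e (ofPush ν V b)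
        rw [map_mul, Algebra.smul_def]
        congr 1
        exact e.commutes a
      left_inv := fun b => by
        show toPush ν V (e.symm (e (ofPush ν V b))) = b
        rw [e.symm_apply_apply]
        rfl
      right_inv := fun z => by
        show e (ofPush ν V (toPush ν V (e.symm z))) = z
        exact e.apply_symm_apply z }
  haveI loc0 := isLocalizedModule_inclIntegralClosure (A := Γ(X, V)) (R := X.presheaf.stalk x)
    (K := X.functionField) (hV.primeIdealOf ⟨x, hxV⟩).asIdeal
  haveI loc2 : IsLocalizedModule (hV.primeIdealOf ⟨x, hxV⟩).asIdeal.primeCompl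
      ((inclIntegralClosure (A := Γ(X, V)) (R := X.presheaf.stalk x) (K := X.functionField)) ∘ₗ
        (j₀ : Γ(pushO ν, V) →ₗ[Γ(X, V)] integralClosure Γ(X, V) X.functionField)) :=
    IsLocalizedModule.of_linearEquiv_right _ _ j₀
  let ΘA := IsLocalizedModule.linearEquiv (hV.primeIdealOf ⟨x, hxV⟩).asIdeal.primeCompl
    (germLin (pushO ν) V x hxV)
    ((inclIntegralClosure (A := Γ(X, V)) (R := X.presheaf.stalk x) (K := X.functionField)) ∘ₗ
        (j₀ : Γ(pushO ν, V) →ₗ[Γ(X, V)] integralClosure Γ(X, V) X.functionField))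
  have hΘA : ΘA (oneStalk ν x) = 1 := by
    rw [← germ_toPush_one ν x V hxV]
    have := IsLocalizedModule.linearEquiv_apply (hV.primeIdealOf ⟨x, hxV⟩).asIdeal.primeCompl
      (germLin (pushO ν) V x hxV)
      ((inclIntegralClosure (A := Γ(X, V)) (R := X.presheaf.stalk x) (K := X.functionField)) ∘ₗ
        (j₀ : Γ(pushO ν, V) →ₗ[Γ(X, V)] integralClosure Γ(X, V) X.functionField)) (toPush ν V 1)
    refine this.trans ?_
    show inclIntegralClosure (e (ofPush ν V (toPush ν V 1))) = 1
    have h1 : e (ofPush ν V (toPush ν V 1)) = 1 := map_one e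
    rw [h1]
    rfl
  let ΘR : (pushO ν).presheaf.stalk x ≃ₗ[X.presheaf.stalk x]
      integralClosure (X.presheaf.stalk x) X.functionField :=
    LinearEquiv.extendScalarsOfIsLocalization (hV.primeIdealOf ⟨x, hxV⟩).asIdeal.primeCompl
      (X.presheaf.stalk x) ΘA
  let ψ : X.functionField ≃ₐ[X.presheaf.stalk x] FractionRing (X.presheaf.stalk x) :=
    IsLocalization.algEquiv (nonZeroDivisors (X.presheaf.stalk x)) _ _
  refine ⟨ΘR.trans ψ.mapIntegralClosure.toLinearEquiv, ?_⟩
  show ψ.mapIntegralClosure (ΘA (oneStalk ν x)) = 1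
  rw [hΘA, map_one]

/-- The stalk at `x` of the cokernel of `O_X → ν_* O_{X^ν}` is `A'/A` with `A = O_{X,x}` and `A'`
its integral closure in its fraction field. -/
theorem nonempty_stalk_cokernel_equiv (x : X) :
    Nonempty ((cokernel (ClSub.unitToPush
        (gen X X.functionField (RingHom.id _)).fromNormalization)).presheaf.stalk x
      ≃ₗ[X.presheaf.stalk x]
      (integralClosure (X.presheaf.stalk x) (FractionRing (X.presheaf.stalk x)) ⧸
        LinearMap.range (Algebra.linearMap (X.presheaf.stalk x)
          (integralClosure (X.presheaf.stalk x) (FractionRing (X.presheaf.stalk x)))))) := by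
  set ν := (gen X X.functionField (RingHom.id _)).fromNormalization with hν
  haveI : Mono (ClSub.unitToPush ν) := mono_unitToPush X.functionField (RingHom.id _)
  obtain ⟨E, hE⟩ := exists_stalk_pushO_equiv x
  have hsurj := stalkLin_surjective (cokernel.π (ClSub.unitToPush ν)) x
  have hker := ker_stalkLin_cokernel_π ν x
  have hmap : Submodule.map (E : _ →ₗ[X.presheaf.stalk x] _)
      (LinearMap.ker (stalkLin (cokernel.π (ClSub.unitToPush ν)) x)) =
      LinearMap.range (Algebra.linearMap (X.presheaf.stalk x)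
          (integralClosure (X.presheaf.stalk x) (FractionRing (X.presheaf.stalk x)))) := by
    rw [hker, Submodule.map_span, Set.image_singleton, ← Submodule.one_eq_range,
      Submodule.one_eq_span]
    congr 2
  exact ⟨((stalkLin (cokernel.π (ClSub.unitToPush ν)) x).quotKerEquivOfSurjective hsurj).symm.trans
    (Submodule.Quotient.equiv _ _ E hmap)⟩

theorem length_stalk_cokernel (x : X) :
    Module.length (X.presheaf.stalk x) ((cokernel (ClSub.unitToPush
        (gen X X.functionField (RingHom.id _)).fromNormalization)).presheaf.stalk x) =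
      Curv2.deltaInv (X.presheaf.stalk x) := by
  obtain ⟨e⟩ := nonempty_stalk_cokernel_equiv x
  exact e.length_eq

theorem subsingleton_stalk_cokernel_of_isField (x : X) (hx : IsField (X.presheaf.stalk x)) :
    Subsingleton ((cokernel (ClSub.unitToPush
        (gen X X.functionField (RingHom.id _)).fromNormalization)).presheaf.stalk x) := by
  obtain ⟨e⟩ := nonempty_stalk_cokernel_equiv x
  have hsurj : Function.Surjective (algebraMap (X.presheaf.stalk x)
      (FractionRing (X.presheaf.stalk x))) := by
    exact IsFractionRing.surjective_iff_isField.mpr hx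
  haveI : Subsingleton (integralClosure (X.presheaf.stalk x) (FractionRing (X.presheaf.stalk x)) ⧸
        LinearMap.range (Algebra.linearMap (X.presheaf.stalk x)
          (integralClosure (X.presheaf.stalk x) (FractionRing (X.presheaf.stalk x))))) := by
    rw [Submodule.Quotient.subsingleton_iff, eq_top_iff]
    intro z _
    obtain ⟨r, hr⟩ := hsurj z.1
    exact ⟨r, Subtype.ext hr⟩
  exact e.toEquiv.subsingleton

end Main

/-- In an integral scheme of dimension at most one, the local ring of a non-closed point is a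
field. -/
theorem isField_stalk_of_not_isClosed {X : Scheme.{u}} [IsIntegral X]
    (hdim : topologicalKrullDim X ≤ 1) (x : X) (hx : ¬ IsClosed ({x} : Set X)) :
    IsField (X.presheaf.stalk x) := by
  -- a proper specialization `y` of `x`
  obtain ⟨y, hy, hyx⟩ : ∃ y, y ∈ closure ({x} : Set X) ∧ y ≠ x := by
    by_contra hcon
    push Not at hcon
    apply hx
    have : closure ({x} : Set X) = {x} := by
      apply Set.Subset.antisymm
      · intro y hy
        exact hcon y hy
      · exact subset_closure
    rw [← this]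
    exact isClosed_closure
  have hspec : x ⤳ y := specializes_iff_mem_closure.2 hy
  obtain ⟨_, ⟨V, hV, rfl⟩, hyV, -⟩ := X.isBasis_affineOpens.exists_subset_of_mem_open
    (Set.mem_univ y) isOpen_univ
  have hxV : x ∈ V := hspec.mem_open V.isOpen hyV
  haveI : Nonempty V := ⟨⟨x, hxV⟩⟩
  haveI : IsDomain Γ(X, V) := IsIntegral.component_integral V
  have hA1 : ringKrullDim Γ(X, V) ≤ 1 := (ringKrullDim_sections_le V hV).trans hdim
  haveI : Ring.KrullDimLE 1 Γ(X, V) := (Ring.krullDimLE_iff).mpr hA1
  have hle := primeIdealOf_le_of_specializes hV y x hyV hxV hspec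
  have hne : hV.primeIdealOf ⟨x, hxV⟩ ≠ hV.primeIdealOf ⟨y, hyV⟩ := by
    intro h
    have h1 := congrArg hV.fromSpec h
    rw [hV.fromSpec_primeIdealOf ⟨x, hxV⟩, hV.fromSpec_primeIdealOf ⟨y, hyV⟩] at h1
    exact hyx h1.symm
  have hbot : (hV.primeIdealOf ⟨x, hxV⟩).asIdeal = ⊥ := by
    by_contra hnb
    have hmax : (hV.primeIdealOf ⟨x, hxV⟩).asIdeal.IsMaximal :=
      Ring.krullDimLE_one_iff_of_noZeroDivisors.mp inferInstance _ hnb inferInstance
    apply hne
    apply PrimeSpectrum.ext
    exact hmax.eq_of_le (hV.primeIdealOf ⟨y, hyV⟩).2.ne_top hle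
  letI algAR : Algebra Γ(X, V) (X.presheaf.stalk x) := (X.presheaf.germ V x hxV).hom.toAlgebra
  haveI hloc : IsLocalization.AtPrime (X.presheaf.stalk x) (hV.primeIdealOf ⟨x, hxV⟩).asIdeal :=
    hV.isLocalization_stalk ⟨x, hxV⟩
  rw [IsLocalRing.isField_iff_maximalIdeal_eq,
    ← IsLocalization.AtPrime.map_eq_maximalIdeal (hV.primeIdealOf ⟨x, hxV⟩).asIdeal
      (X.presheaf.stalk x), hbot, Ideal.map_bot]

end Groth.Agent.Lib.Helper4.NormDelta
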