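import Mathlib
import Groth.Agent.S0003
import Groth.Agent.Lib.Helper6QCohQcqs
import Groth.Agent.Lib.Helper17FFun
import Groth.Agent.Lib.Helper27PnSections
import Groth.Agent.Lib.Helper4NormDelta
import Groth.Agent.Lib.Helper4DevI

/-!
# Zariski connectedness (helper23), part 1
`section_eq_zero_of_killed` (sections of a module killed by `J` vanish on opens covered by the `X_a`, `a ∈ J`),
`fromSpecResidueField_app_eq_zero`, `modPowπ_one_ne_zero` (the unit section of `O/IO` is nonzero near points over `V(I)`).
-/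

set_option autoImplicit false
set_option backward.isDefEq.respectTransparency.types false
universe u

namespace Groth.Agent.Lib.Helper23.ZarConnB1
open AlgebraicGeometry CategoryTheory Limits Groth.Agent.Lib.Helper6 TopologicalSpace

variable {A : Type u} [CommRing A] {X : Scheme.{u}} [X.Over (Spec (CommRingCat.of A))]

/-- the structure map `A → Γ(X, ⊤)` -/
noncomputable abbrev gl (a : A) : Γ(X, ⊤) := Coh.toGlobal (X ↘ Spec (CommRingCat.of A)) a

theorem smulMod_app (N : X.Modules) (a : A) (U : X.Opens) (m : Γ(N, U)) :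
    (Formal.smulMod A N a).app U m = resf (le_top : U ≤ ⊤) (gl (X := X) a) • m := rfl

/-- sections of a module killed by `J` vanish over opens covered by the `X_a`, `a ∈ J`. -/
theorem section_eq_zero_of_killed (N : X.Modules) (J : Ideal A) (hN : Formal.KilledBy J N)
    (W : X.Opens) (hW : ∀ x ∈ W, ∃ a ∈ J, x ∈ X.basicOpen (gl (X := X) a)) (t : Γ(N, W)) : t = 0 := by
  refine (modSheaf N).eq_of_locally_eq' (fun a : J => W ⊓ X.basicOpen (gl (X := X) (a : A))) W
    (fun a => homOfLE inf_le_left) ?_ t 0 (fun a => ?_)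
  · intro x hx
    obtain ⟨a, ha, hxa⟩ := hW x hx
    exact Opens.mem_iSup.2 ⟨⟨a, ha⟩, hx, hxa⟩
  · have h1 : (Formal.smulMod A N (a : A)).app (W ⊓ X.basicOpen (gl (X := X) (a : A)))
        (res N (inf_le_left : W ⊓ X.basicOpen (gl (X := X) (a : A)) ≤ W) t) = 0 := by
      rw [hN a a.2]; rfl
    rw [smulMod_app] at h1
    have hu : IsUnit (resf (le_top : W ⊓ X.basicOpen (gl (X := X) (a : A)) ≤ ⊤) (gl (X := X) (a : A))) := by
      have h2 := RingedSpace.isUnit_res_basicOpen X.toRingedSpace (gl (X := X) (a : A))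
      have h3 : resf (le_top : W ⊓ X.basicOpen (gl (X := X) (a : A)) ≤ ⊤) (gl (X := X) (a : A)) =
          resf (inf_le_right : W ⊓ X.basicOpen (gl (X := X) (a : A)) ≤ X.basicOpen (gl (X := X) (a : A)))
            (resf (le_top : X.basicOpen (gl (X := X) (a : A)) ≤ ⊤) (gl (X := X) (a : A))) := by
        rw [resf_resf]
      rw [h3]
      exact h2.map _
    change res N _ t = res N _ 0
    rw [res_zero]
    exact (hu.smul_left_cancel (x := res N _ t) (y := 0)).1 (h1.trans (smul_zero _).symm)

end Groth.Agent.Lib.Helper23.ZarConnB1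

namespace Groth.Agent.Lib.Helper23.ZarConnB1
open AlgebraicGeometry CategoryTheory Limits Groth.Agent.Lib.Helper6 TopologicalSpace
open Groth.Agent.Lib.Helper4.NormDelta

variable {A : Type u} [CommRing A] {X : Scheme.{u}} [X.Over (Spec (CommRingCat.of A))]

/-- a function not invertible at `z` restricts to zero on `Spec κ(z)`. -/
theorem fromSpecResidueField_app_eq_zero (z : X) (U : X.Opens) (r : Γ(X, U))
    (hr : z ∉ X.basicOpen r) : ((X.fromSpecResidueField z).app U).hom r = 0 := by
  rw [← AlgebraicGeometry.basicOpen_eq_bot_iff, ← Scheme.preimage_basicOpen]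
  ext s
  simp only [Opens.coe_bot, Set.mem_empty_iff_false, iff_false]
  intro hs
  change (X.fromSpecResidueField z) s ∈ X.basicOpen r at hs
  rw [Scheme.fromSpecResidueField_apply] at hs
  exact hr hs

theorem basicOpen_resf {U V : X.Opens} (h : V ≤ U) (r : Γ(X, U)) :
    X.basicOpen (resf h r) = V ⊓ X.basicOpen r := Scheme.basicOpen_res X r (homOfLE h).op

/-- the unit section of `O/IO` does not vanish near a point over `V(I)`. -/
theorem modPowπ_one_ne_zero (I : Ideal A) (z : X) (hz : ∀ a ∈ I, z ∉ X.basicOpen (gl (X := X) a))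
    (W : X.Opens) (hzW : z ∈ W) :
    (Formal.modPowπ I 1 (Coh.structureModule X)).app W
      (show Γ(Coh.structureModule X, W) from (1 : Γ(X, W))) ≠ 0 := by
  intro h0
  set g := X.fromSpecResidueField z with hg
  set ψ := ClSub.unitToPush g with hψ
  have hkill : Formal.smulFamily (I ^ 1) (Coh.structureModule X) ≫ ψ = 0 := by
    apply Sigma.hom_ext
    intro a
    have ha : (a : A) ∈ I := by simpa using a.2
    have e : Sigma.ι (fun _ : (I ^ 1 : Ideal A) => Coh.structureModule X) a ≫
        Formal.smulFamily (I ^ 1) (Coh.structureModule X) =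
        Formal.smulMod A (Coh.structureModule X) (a : A) := by
      simp [Formal.smulFamily]
    rw [← Category.assoc, e, comp_zero]
    apply Scheme.Modules.hom_ext
    intro U
    ext s
    change (ψ.app U) ((Formal.smulMod A (Coh.structureModule X) (a : A)).app U s) = 0
    rw [smulMod_app, hψ, unitToPush_app]
    change toPush g U ((g.app U).hom (resf (le_top : U ≤ ⊤) (gl (X := X) (a : A)) * (show Γ(X, U) from s))) = 0
    rw [map_mul, hg, fromSpecResidueField_app_eq_zero z U _ (by
      rw [basicOpen_resf]; exact fun h => hz _ ha h.2), zero_mul]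
    rfl
  let ψ' : Formal.modPow I 1 (Coh.structureModule X) ⟶ pushO g := cokernel.desc _ ψ hkill
  have hψ' : Formal.modPowπ I 1 (Coh.structureModule X) ≫ ψ' = ψ := cokernel.π_desc _ _ _
  have h1 : ψ.app W (show Γ(Coh.structureModule X, W) from (1 : Γ(X, W))) = 0 := by
    rw [← hψ']
    change ψ'.app W ((Formal.modPowπ I 1 (Coh.structureModule X)).app W _) = 0
    rw [h0, map_zero]
  rw [hψ, unitToPush_app, map_one] at h1
  haveI : Nonempty (g ⁻¹ᵁ W) := ⟨⟨default, by
    change g default ∈ W
    rw [hg, Scheme.fromSpecResidueField_apply]; exact hzW⟩⟩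
  exact one_ne_zero (α := Γ(Spec (X.residueField z), g ⁻¹ᵁ W)) h1

end Groth.Agent.Lib.Helper23.ZarConnB1
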