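import Mathlib
import Groth.Agent.Lib.Helper23ZarConnB1

/-!
# Zariski connectedness (helper23), part 2: complete local base
`app_res`, `mem_closedFibre_iff`, `section_eq_zero_off_fibre`, `exists_global_of_compatible` (from S0003: compatible
sections of `O/𝔪^{n+1}O` come from a global function), `false_of_cover`, `isConnected_closedFibre`.
-/

set_option autoImplicit false
set_option backward.isDefEq.respectTransparency.types false
universe u

namespace Groth.Agent.Lib.Helper23.ZarConnB2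
open AlgebraicGeometry CategoryTheory Limits Groth.Agent.Lib.Helper6 TopologicalSpace Groth.Agent.Lib.Helper23.ZarConnB1

variable {X : Scheme.{u}}

theorem app_res {M N : X.Modules} (ψ : M ⟶ N) {U V : X.Opens} (h : V ≤ U) (s : Γ(M, U)) :
    res N h (ψ.app U s) = ψ.app V (res M h s) := by
  have := ψ.mapPresheaf.naturality (homOfLE h).op
  exact (congrArg (fun k => k.hom s) this).symm

section

variable {A : Type u} [CommRing A] [X.Over (Spec (CommRingCat.of A))]

theorem basicOpen_gl (a : A) :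
    X.basicOpen (gl (X := X) a) =
      (X ↘ Spec (CommRingCat.of A)) ⁻¹ᵁ (PrimeSpectrum.basicOpen a) := by
  rw [← basicOpen_eq_of_affine (R := CommRingCat.of A) a, Scheme.preimage_basicOpen]
  rfl

theorem mem_basicOpen_gl_iff (a : A) (x : X) :
    x ∈ X.basicOpen (gl (X := X) a) ↔
      a ∉ ((X ↘ Spec (CommRingCat.of A)).base x).asIdeal := by
  rw [basicOpen_gl]
  rfl

variable [IsLocalRing A]

theorem mem_closedFibre_iff (x : X) :
    x ∈ (X ↘ Spec (CommRingCat.of A)).base ⁻¹' {IsLocalRing.closedPoint A} ↔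
      ∀ a ∈ IsLocalRing.maximalIdeal A, x ∉ X.basicOpen (gl (X := X) a) := by
  simp only [Set.mem_preimage, Set.mem_singleton_iff]
  constructor
  · intro h a ha
    rw [mem_basicOpen_gl_iff, h]
    exact fun h' => h' ha
  · intro h
    apply PrimeSpectrum.ext
    apply le_antisymm
    · exact IsLocalRing.le_maximalIdeal ((X ↘ Spec (CommRingCat.of A)).base x).2.ne_top
    · intro a ha
      have := h a ha
      rw [mem_basicOpen_gl_iff, not_not] at this
      exact this

end

end Groth.Agent.Lib.Helper23.ZarConnB2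

namespace Groth.Agent.Lib.Helper23.ZarConnB2
open AlgebraicGeometry CategoryTheory Limits Groth.Agent.Lib.Helper6 TopologicalSpace Groth.Agent.Lib.Helper23.ZarConnB1

variable (A : Type u) [CommRing A] [IsNoetherianRing A] [IsLocalRing A]
  [IsAdicComplete (IsLocalRing.maximalIdeal A) A]
  (X : Scheme.{u}) [X.Over (Spec (CommRingCat.of A))] [IsProper (X ↘ Spec (CommRingCat.of A))]

local notation "𝔪" => IsLocalRing.maximalIdeal A
local notation "OX" => Coh.structureModule X
local notation "Fn" n => Formal.modPow (IsLocalRing.maximalIdeal A) (n + 1) (Coh.structureModule X)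
local notation "πn" n => Formal.modPowπ (IsLocalRing.maximalIdeal A) (n + 1) (Coh.structureModule X)

/-- sections of `O/𝔪^{n+1}O` vanish away from the closed fibre. -/
theorem section_eq_zero_off_fibre (n : ℕ) (W : X.Opens)
    (hW : ∀ x ∈ W, x ∉ (X ↘ Spec (CommRingCat.of A)).base ⁻¹' {IsLocalRing.closedPoint A})
    (t : Γ(Fn n, W)) : t = 0 := by
  refine section_eq_zero_of_killed (Fn n) (𝔪 ^ (n + 1))
    (fun b hb => Groth.Agent.Lib.Helper17.FFun.smulMod_modPow 𝔪 OX (n + 1) b hb) W ?_ t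
  intro x hx
  have h1 := hW x hx
  rw [mem_closedFibre_iff] at h1
  push_neg at h1
  obtain ⟨a, ha, hxa⟩ := h1
  refine ⟨a ^ (n + 1), Ideal.pow_mem_pow ha _, ?_⟩
  have : gl (X := X) (a ^ (n + 1)) = gl (X := X) a ^ (n + 1) := map_pow _ _ _
  rw [this, Scheme.basicOpen_pow _ _ (Nat.succ_pos n)]
  exact hxa

end Groth.Agent.Lib.Helper23.ZarConnB2

namespace Groth.Agent.Lib.Helper23.ZarConnB2
open AlgebraicGeometry CategoryTheory Limits Groth.Agent.Lib.Helper6 TopologicalSpace Groth.Agent.Lib.Helper23.ZarConnB1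
open Groth.Agent.Lib.Helper27PnSections

variable (A : Type u) [CommRing A] [IsNoetherianRing A] [IsLocalRing A]
  [IsAdicComplete (IsLocalRing.maximalIdeal A) A]
  (X : Scheme.{u}) [X.Over (Spec (CommRingCat.of A))] [IsProper (X ↘ Spec (CommRingCat.of A))]

local notation "𝔪" => IsLocalRing.maximalIdeal A
local notation "OX" => Coh.structureModule X
local notation "Fn" n => Formal.modPow (IsLocalRing.maximalIdeal A) (n + 1) (Coh.structureModule X)
local notation "πn" n => Formal.modPowπ (IsLocalRing.maximalIdeal A) (n + 1) (Coh.structureModule X)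

/-- a compatible family of global sections of `O/𝔪^{n+1}O` comes from a global function. -/
theorem exists_global_of_compatible
    (e : ∀ n : ℕ, Γ(Fn n, ⊤))
    (he : ∀ n, (Formal.modPowTrans 𝔪 (n + 1) OX).app ⊤ (e (n + 1)) = e n) :
    ∃ s : Γ(OX, ⊤), ∀ n, (πn n).app ⊤ s = e n := by
  have hbij := Groth.Agent.S0003.result A 𝔪 X OX
    (Groth.Agent.Lib.Helper4.Dev.isCoh_structureModule X) 0
  let x : Formal.HHlim 𝔪 OX 0 := ⟨fun n => (hh0Equiv X (Fn n)).symm (e n), fun n => by
    change Sheaf.H.map ((SheafOfModules.toSheaf _).map (Formal.modPowTrans 𝔪 (n + 1) OX)) 0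
      ((Sheaf.H.equiv₀ (Coh.toAb (Fn (n + 1))) Limits.isTerminalTop).symm (e (n + 1))) =
      (Sheaf.H.equiv₀ (Coh.toAb (Fn n)) Limits.isTerminalTop).symm (e n)
    rw [Sheaf.H.equiv₀_symm_naturality]
    congr 1
    exact he n⟩
  obtain ⟨s', hs'⟩ := hbij.2 x
  refine ⟨hh0Equiv X OX s', fun n => ?_⟩
  have h1 : Formal.toHHmodPow 𝔪 OX 0 n s' = (hh0Equiv X (Fn n)).symm (e n) :=
    congrArg (fun y : Formal.HHlim 𝔪 OX 0 => y.1 n) hs'
  have h2 := Sheaf.H.equiv₀_naturality Limits.isTerminalTop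
    ((SheafOfModules.toSheaf _).map (πn n)) s'
  have h3 : (πn n).app ⊤ (hh0Equiv X OX s') = hh0Equiv X (Fn n) (Formal.toHHmodPow 𝔪 OX 0 n s') := h2
  rw [h3, h1, AddEquiv.apply_symm_apply]

end Groth.Agent.Lib.Helper23.ZarConnB2

namespace Groth.Agent.Lib.Helper23.ZarConnB2
open AlgebraicGeometry CategoryTheory Limits Groth.Agent.Lib.Helper6 TopologicalSpace Groth.Agent.Lib.Helper23.ZarConnB1
open Groth.Agent.Lib.Helper27PnSections

variable (A : Type u) [CommRing A] [IsNoetherianRing A] [IsLocalRing A]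
  [IsAdicComplete (IsLocalRing.maximalIdeal A) A]
  (X : Scheme.{u}) [X.Over (Spec (CommRingCat.of A))] [IsProper (X ↘ Spec (CommRingCat.of A))]

local notation "𝔪" => IsLocalRing.maximalIdeal A
local notation "OX" => Coh.structureModule X
local notation "Fn" n => Formal.modPow (IsLocalRing.maximalIdeal A) (n + 1) (Coh.structureModule X)
local notation "πn" n => Formal.modPowπ (IsLocalRing.maximalIdeal A) (n + 1) (Coh.structureModule X)

/-- the unit section as a section of the structure module -/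
abbrev one' (U : X.Opens) : Γ(OX, U) := (1 : Γ(X, U))

theorem res_one' {U V : X.Opens} (h : V ≤ U) : res OX h (one' X U) = one' X V :=
  map_one (X.presheaf.map (homOfLE h).op).hom

/-- the key gluing argument: two opens covering `X`, meeting only off the closed fibre, each containing a
point of the closed fibre, cannot exist when `A → Γ(X, O_X)` is bijective. -/
theorem false_of_cover
    (hbij : Function.Bijective (Coh.toGlobal (X ↘ Spec (CommRingCat.of A))))
    (U₁ U₂ : X.Opens) (hcov : (⊤ : X.Opens) ≤ U₁ ⊔ U₂)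
    (hmeet : ∀ x ∈ U₁ ⊓ U₂, x ∉ (X ↘ Spec (CommRingCat.of A)).base ⁻¹' {IsLocalRing.closedPoint A})
    (z₁ z₂ : X) (hz₁ : z₁ ∈ (X ↘ Spec (CommRingCat.of A)).base ⁻¹' {IsLocalRing.closedPoint A})
    (hz₂ : z₂ ∈ (X ↘ Spec (CommRingCat.of A)).base ⁻¹' {IsLocalRing.closedPoint A})
    (hz₁U : z₁ ∈ U₁) (hz₂U : z₂ ∈ U₂) : False := by
  -- the glued sections
  have hex : ∀ n : ℕ, ∃ e : Γ(Fn n, ⊤), res (Fn n) (le_top : U₁ ≤ ⊤) e = (πn n).app U₁ (one' X U₁) ∧
      res (Fn n) (le_top : U₂ ≤ ⊤) e = 0 := fun n =>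
    exists_res_eq₂ (Fn n) le_top le_top hcov (inf_le_left : U₁ ⊓ U₂ ≤ U₁) inf_le_right le_rfl _ _
      ((section_eq_zero_off_fibre A X n _ hmeet _).trans
        (section_eq_zero_off_fibre A X n _ hmeet _).symm)
  choose e he₁ he₂ using hex
  have hcompat : ∀ n, (Formal.modPowTrans 𝔪 (n + 1) OX).app ⊤ (e (n + 1)) = e n := by
    intro n
    apply eq_of_res_eq₂ (Fn n) (le_top : U₁ ≤ ⊤) (le_top : U₂ ≤ ⊤) hcov
    · rw [app_res, he₁, he₁]
      change ((πn (n + 1)) ≫ Formal.modPowTrans 𝔪 (n + 1) OX).app U₁ (one' X U₁) = _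
      rw [Formal.modPowπ_trans]
    · rw [app_res, he₂, he₂, map_zero]
  obtain ⟨s, hs⟩ := exists_global_of_compatible A X e hcompat
  have hs0 := hs 0
  obtain ⟨a, ha⟩ := hbij.2 s
  -- the nonvanishing statements
  have hne₁ : (πn 0).app U₁ (one' X U₁) ≠ 0 :=
    modPowπ_one_ne_zero 𝔪 z₁ ((mem_closedFibre_iff z₁).1 hz₁) U₁ hz₁U
  have hne₂ : (πn 0).app U₂ (one' X U₂) ≠ 0 :=
    modPowπ_one_ne_zero 𝔪 z₂ ((mem_closedFibre_iff z₂).1 hz₂) U₂ hz₂U
  by_cases hau : IsUnit a
  · -- `s` is a unit, but vanishes in `O/𝔪O` over `U₂`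
    apply hne₂
    have hsu : IsUnit (show Γ(X, ⊤) from s) := by rw [← ha]; exact hau.map _
    have hru : IsUnit (resf (le_top : U₂ ≤ ⊤) (show Γ(X, ⊤) from s)) := hsu.map _
    obtain ⟨r, hr⟩ := hru
    have h1 : (πn 0).app U₂ (res OX (le_top : U₂ ≤ ⊤) s) = 0 := by
      rw [← app_res, hs0, he₂]
    have h2 : one' X U₂ = (↑r⁻¹ : Γ(X, U₂)) • res OX (le_top : U₂ ≤ ⊤) s := by
      change (1 : Γ(X, U₂)) = (↑r⁻¹ : Γ(X, U₂)) * resf (le_top : U₂ ≤ ⊤) (show Γ(X, ⊤) from s)
      rw [← hr, Units.inv_mul]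
    rw [h2, Scheme.Modules.Hom.app_smul, h1, smul_zero]
  · -- `a ∈ 𝔪`, so `s` vanishes in `O/𝔪O`, hence so does `1` over `U₁`
    apply hne₁
    have ham : a ∈ 𝔪 := hau
    have hk : Formal.smulMod A (Fn 0) a = 0 :=
      Groth.Agent.Lib.Helper17.FFun.smulMod_modPow 𝔪 OX 1 a (by simpa using ham)
    have h1 : (πn 0).app ⊤ s = 0 := by
      have h2 : s = (show Γ(X, ⊤) from s) • one' X ⊤ := by
        change (show Γ(X, ⊤) from s) = (show Γ(X, ⊤) from s) * 1
        rw [mul_one]
      rw [h2, Scheme.Modules.Hom.app_smul]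
      have h3 := smulMod_app (Fn 0) a ⊤ ((πn 0).app ⊤ (one' X ⊤))
      rw [hk] at h3
      have h4 : resf (le_top : (⊤ : X.Opens) ≤ ⊤) (gl (X := X) a) = (show Γ(X, ⊤) from s) := by
        rw [← ha]
        change (X.presheaf.map (𝟙 _)).hom _ = _
        rw [X.presheaf.map_id]
        rfl
      rw [h4] at h3
      exact h3.symm
    rw [← he₁ 0, ← hs0, h1, res_zero]

end Groth.Agent.Lib.Helper23.ZarConnB2

namespace Groth.Agent.Lib.Helper23.ZarConnB2
open AlgebraicGeometry CategoryTheory Limits Groth.Agent.Lib.Helper6 TopologicalSpace Groth.Agent.Lib.Helper23.ZarConnB1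

variable (A : Type u) [CommRing A] [IsNoetherianRing A] [IsLocalRing A]
  [IsAdicComplete (IsLocalRing.maximalIdeal A) A]
  (X : Scheme.{u}) [X.Over (Spec (CommRingCat.of A))] [IsProper (X ↘ Spec (CommRingCat.of A))]

/-- **Connectedness of the closed fibre** over a complete local Noetherian ring when
`A → Γ(X, O_X)` is bijective. -/
theorem isConnected_closedFibre
    (hbij : Function.Bijective (Coh.toGlobal (X ↘ Spec (CommRingCat.of A)))) :
    _root_.IsConnected ((X ↘ Spec (CommRingCat.of A)).base ⁻¹' {IsLocalRing.closedPoint A}) := by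
  have hZc : IsClosed ((X ↘ Spec (CommRingCat.of A)).base ⁻¹' {IsLocalRing.closedPoint A}) :=
    (IsLocalRing.isClosed_singleton_closedPoint A).preimage (X ↘ Spec (CommRingCat.of A)).continuous
  refine ⟨?_, ?_⟩
  · -- nonempty
    rcases isEmpty_or_nonempty X with hX | ⟨⟨x⟩⟩
    · exfalso
      haveI : Subsingleton Γ(X, ⊤) := inferInstance
      have h1 : (1 : A) = 0 := hbij.1 (Subsingleton.elim (α := Γ(X, ⊤)) _ _)
      exact one_ne_zero h1
    · have h1 : (X ↘ Spec (CommRingCat.of A)).base x ⤳ IsLocalRing.closedPoint A :=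
        IsLocalRing.specializes_closedPoint _
      have h2 : IsClosed (Set.range (X ↘ Spec (CommRingCat.of A)).base) :=
        (X ↘ Spec (CommRingCat.of A)).isClosedMap.isClosed_range
      obtain ⟨z, hz⟩ := h1.mem_closed h2 ⟨x, rfl⟩
      exact ⟨z, hz⟩
  · rw [isPreconnected_closed_iff]
    rintro t t' ht ht' hcov ⟨z₁, hz₁Z, hz₁t⟩ ⟨z₂, hz₂Z, hz₂t'⟩
    by_contra hne
    rw [Set.not_nonempty_iff_eq_empty] at hne
    let U₁ : X.Opens := ⟨_, (hZc.inter ht').isOpen_compl⟩
    let U₂ : X.Opens := ⟨_, (hZc.inter ht).isOpen_compl⟩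
    refine false_of_cover A X hbij U₁ U₂ ?_ ?_ z₁ z₂ hz₁Z hz₂Z ?_ ?_
    · intro x _
      by_contra hx
      have hx' : x ∉ U₁ ∧ x ∉ U₂ := by
        constructor
        · exact fun h => hx (Or.inl h)
        · exact fun h => hx (Or.inr h)
      have h1 : x ∈ (X ↘ Spec (CommRingCat.of A)).base ⁻¹' {IsLocalRing.closedPoint A} ∩ t' :=
        not_not.1 hx'.1
      have h2 : x ∈ (X ↘ Spec (CommRingCat.of A)).base ⁻¹' {IsLocalRing.closedPoint A} ∩ t :=
        not_not.1 hx'.2
      have : x ∈ (∅ : Set X) := by rw [← hne]; exact ⟨h1.1, h2.2, h1.2⟩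
      exact this
    · rintro x ⟨hx₁, hx₂⟩ hxZ
      rcases hcov hxZ with hxt | hxt'
      · exact hx₂ ⟨hxZ, hxt⟩
      · exact hx₁ ⟨hxZ, hxt'⟩
    · intro h
      have : z₁ ∈ (∅ : Set X) := by rw [← hne]; exact ⟨hz₁Z, hz₁t, h.2⟩
      exact this
    · intro h
      have : z₂ ∈ (∅ : Set X) := by rw [← hne]; exact ⟨hz₂Z, h.2, hz₂t'⟩
      exact this

end Groth.Agent.Lib.Helper23.ZarConnB2
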