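import Mathlib

/-!
# Zariski connectedness (helper23), part 3
`isIso_app_of_basis`, `isIso_app_snd_of_flat` (`O_Y = f_* O_X` is stable under flat base change, `f` qcqs; from Mathlib's
`isIso_pushoutSection_of_isQuasiSeparated_of_flat_right`).
-/

set_option autoImplicit false
set_option backward.isDefEq.respectTransparency.types false
universe u

namespace Groth.Agent.Lib.Helper23.ZarConnB3
open AlgebraicGeometry CategoryTheory Limits TopologicalSpace

theorem isIso_app_of_basis {X Y : Scheme.{u}} (f : X ⟶ Y) {ι : Type*} (B : ι → Y.Opens)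
    (hB : Opens.IsBasis (Set.range B)) (h : ∀ i, IsIso (f.app (B i))) :
    ∀ V : Y.Opens, IsIso (f.app V) := by
  let F : TopCat.Sheaf CommRingCat Y := Y.sheaf
  let G : TopCat.Sheaf CommRingCat Y := (TopCat.Sheaf.pushforward CommRingCat f.base).obj X.sheaf
  let φ : F ⟶ G := ⟨f.c⟩
  haveI : IsIso φ := TopCat.Sheaf.isIso_iff_isIso_basis (B := B) hB (fun i => h i)
  intro V
  have h1 : IsIso ((TopCat.Sheaf.forget CommRingCat Y).map φ) := inferInstance
  have h2 : IsIso (((TopCat.Sheaf.forget CommRingCat Y).map φ).app (Opposite.op V)) := inferInstance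
  exact h2

/-- the property `O_Y = f_* O_X` is stable under flat base change (for `f` qcqs). -/
theorem isIso_app_snd_of_flat {X Y T : Scheme.{u}} (f : X ⟶ Y) (g : T ⟶ Y)
    [QuasiCompact f] [QuasiSeparated f] [Flat g]
    (hf : ∀ U : Y.Opens, IsIso (f.app U)) :
    ∀ W : T.Opens, IsIso ((pullback.snd f g).app W) := by
  refine isIso_app_of_basis (pullback.snd f g)
    (fun W : {W : T.Opens // IsAffineOpen W ∧ ∃ V : Y.Opens, IsAffineOpen V ∧ W ≤ g ⁻¹ᵁ V} => W.1)
    ?_ ?_
  · rw [Opens.isBasis_iff_nbhd]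
    intro O t ht
    obtain ⟨V, hV, htV, -⟩ := exists_isAffineOpen_mem_and_subset (x := g t) (U := ⊤) trivial
    obtain ⟨W, hW, htW, hWle⟩ := exists_isAffineOpen_mem_and_subset (x := t) (U := g ⁻¹ᵁ V ⊓ O)
      ⟨htV, ht⟩
    exact ⟨W, ⟨⟨W, hW, V, hV, hWle.trans inf_le_left⟩, rfl⟩, htW, hWle.trans inf_le_right⟩
  · rintro ⟨W, hW, V, hV, hWV⟩
    have H : IsPullback (pullback.fst f g) (pullback.snd f g) f g := IsPullback.of_hasPullback f g
    have hUY : (pullback.snd f g) ⁻¹ᵁ W =
        (pullback.fst f g) ⁻¹ᵁ (f ⁻¹ᵁ V) ⊓ (pullback.snd f g) ⁻¹ᵁ W := by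
      apply le_antisymm
      · refine le_inf ?_ le_rfl
        intro x hx
        change f ((pullback.fst f g) x) ∈ V
        have h1 : f ((pullback.fst f g) x) = g ((pullback.snd f g) x) := by
          have := congrArg (fun k => k x) H.w
          exact this
        rw [h1]
        exact hWV hx
      · exact inf_le_right
    haveI := isIso_pushoutSection_of_isQuasiSeparated_of_flat_right H hWV (le_refl (f ⁻¹ᵁ V)) hUY
      hV hW (f.isCompact_preimage hV.isCompact) (f.isQuasiSeparated_preimage hV.isQuasiSeparated)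
    haveI : IsIso (f.appLE V (f ⁻¹ᵁ V) le_rfl) := by
      rw [← Scheme.Hom.app_eq_appLE]
      exact hf V
    have h2 : pushout.inr (f.appLE V (f ⁻¹ᵁ V) le_rfl) (g.appLE V W hWV) ≫
        pushoutSection H hWV (le_refl (f ⁻¹ᵁ V)) hUY =
        (pullback.snd f g).appLE W ((pullback.snd f g) ⁻¹ᵁ W) (by simp [hUY.symm.le]) :=
      pushout.inr_desc _ _ _
    have h3 : (pullback.snd f g).app W =
        (pullback.snd f g).appLE W ((pullback.snd f g) ⁻¹ᵁ W) le_rfl :=
      Scheme.Hom.app_eq_appLE _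
    change IsIso ((pullback.snd f g).app W)
    rw [h3, ← h2]
    infer_instance

end Groth.Agent.Lib.Helper23.ZarConnB3
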