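import Mathlib
import Groth.Agent.Lib.Helper23ZarConnB2
import Groth.Agent.Lib.Helper23ZarConnB3
import Groth.Agent.Lib.Helper19ComplNoeth
import Groth.Agent.Lib.Helper5FlatPreimm

/-!
# Zariski connectedness (helper23), part 4
`isConnected_preimage_singleton`: `f` proper, `Y` locally Noetherian, `O_Y = f_* O_X` ⇒ every `f⁻¹{y}` is connected
(base change to the completed local ring + `isConnected_closedFibre`).
-/

set_option autoImplicit false
set_option backward.isDefEq.respectTransparency.types false
universe u

namespace Groth.Agent.Lib.Helper23.ZarConnB4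
open AlgebraicGeometry CategoryTheory Limits TopologicalSpace

/-- **Zariski's connectedness theorem**, set-theoretic fibres. -/
theorem isConnected_preimage_singleton {X Y : Scheme.{u}} (f : X ⟶ Y) [IsProper f]
    [IsLocallyNoetherian Y] (hf : ∀ U : Y.Opens, IsIso (f.app U)) (y : Y) :
    _root_.IsConnected (f.base ⁻¹' {y}) := by
  let R : Type u := Y.presheaf.stalk y
  let Ah : Type u := AdicCompletion (IsLocalRing.maximalIdeal R) R
  haveI : IsNoetherianRing Ah :=
    Groth.Agent.Lib.Helper19.isNoetherianRing_adicCompletion (IsLocalRing.maximalIdeal R)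
  let c : CommRingCat.of R ⟶ CommRingCat.of Ah := CommRingCat.ofHom (algebraMap R Ah)
  let g : Spec (CommRingCat.of Ah) ⟶ Y := Spec.map c ≫ Y.fromSpecStalk y
  haveI : Flat (Spec.map c) := by
    rw [Flat.SpecMap_iff]
    change (algebraMap R Ah).Flat
    rw [RingHom.flat_algebraMap_iff]
    infer_instance
  haveI : Flat (Y.fromSpecStalk y) := Groth.Agent.Lib.Helper5.FlatPreimm.flat_fromSpecStalk Y y
  haveI : Flat g := inferInstanceAs (Flat (Spec.map c ≫ Y.fromSpecStalk y))
  let f' : pullback f g ⟶ Spec (CommRingCat.of Ah) := pullback.snd f g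
  letI : (pullback f g).Over (Spec (CommRingCat.of Ah)) := ⟨f'⟩
  haveI : IsProper ((pullback f g) ↘ Spec (CommRingCat.of Ah)) :=
    inferInstanceAs (IsProper (pullback.snd f g))
  have hiso := Groth.Agent.Lib.Helper23.ZarConnB3.isIso_app_snd_of_flat f g hf ⊤
  have hbij : Function.Bijective (Coh.toGlobal ((pullback f g) ↘ Spec (CommRingCat.of Ah))) := by
    change Function.Bijective ((f'.appTop).hom.comp (Scheme.ΓSpecIso (CommRingCat.of Ah)).inv.hom)
    rw [RingHom.coe_comp]
    exact (ConcreteCategory.bijective_of_isIso (f'.app ⊤)).comp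
      (ConcreteCategory.bijective_of_isIso (Scheme.ΓSpecIso (CommRingCat.of Ah)).inv)
  have hconn := Groth.Agent.Lib.Helper23.ZarConnB2.isConnected_closedFibre Ah (pullback f g) hbij
  have hgy : g (IsLocalRing.closedPoint Ah) = y := by
    change (Y.fromSpecStalk y) ((Spec.map c) (IsLocalRing.closedPoint Ah)) = y
    have h1 : (Spec.map c) (IsLocalRing.closedPoint Ah) = IsLocalRing.closedPoint R :=
      IsLocalRing.comap_closedPoint (algebraMap R Ah)
    rw [h1]
    exact Scheme.fromSpecStalk_closedPoint
  have himg : f.base ⁻¹' {y} = (pullback.fst f g).base ''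
      (f'.base ⁻¹' {IsLocalRing.closedPoint Ah}) := by
    ext x
    constructor
    · intro hx
      have hx' : f x = g (IsLocalRing.closedPoint Ah) := by rw [hgy]; exact hx
      obtain ⟨z, hz1, hz2⟩ := Scheme.Pullback.exists_preimage_pullback x _ hx'
      exact ⟨z, hz2, hz1⟩
    · rintro ⟨z, hz, rfl⟩
      change f ((pullback.fst f g) z) = y
      have h1 : f ((pullback.fst f g) z) = g ((pullback.snd f g) z) :=
        congrArg (fun k => k z) (pullback.condition (f := f) (g := g))
      rw [h1]
      have h2 : (pullback.snd f g) z = IsLocalRing.closedPoint Ah := hz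
      rw [h2, hgy]
  rw [himg]
  exact hconn.image _ (pullback.fst f g).continuous.continuousOn

end Groth.Agent.Lib.Helper23.ZarConnB4

namespace Groth.Agent.Lib.Helper23.ZarConnB4
open AlgebraicGeometry CategoryTheory Limits

theorem connectedSpace_fiber {X Y : Scheme.{u}} (f : X ⟶ Y) [IsProper f]
    [IsLocallyNoetherian Y] (hf : ∀ U : Y.Opens, IsIso (f.app U)) (y : Y) :
    ConnectedSpace (f.fiber y) := by
  have h := isConnected_preimage_singleton f hf y
  haveI : ConnectedSpace (f.base ⁻¹' {y}) := isConnected_iff_connectedSpace.1 h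
  exact (f.fiberHomeo y).symm.surjective.connectedSpace (f.fiberHomeo y).symm.continuous

end Groth.Agent.Lib.Helper23.ZarConnB4
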