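import Mathlib
import Groth.Prelude.Def_Coh
import Groth.Agent.S0002
import Groth.Agent.Lib.Helper17GammaA
import Groth.Agent.Lib.Helper4DevI

set_option autoImplicit false
universe u
open CategoryTheory Limits AlgebraicGeometry Opposite TopologicalSpace

namespace Groth.Agent.Lib.Helper6.Stein

open Groth.Agent.Lib.Helper17.GammaA

/-- the global-sections ring map of a proper morphism to a Noetherian affine scheme is finite -/
theorem finite_toGlobal (A : Type u) [CommRing A] [IsNoetherianRing A] (X : Scheme.{u})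
    (g : X ⟶ Spec (CommRingCat.of A)) [IsProper g] :
    ((Scheme.ΓSpecIso (CommRingCat.of A)).inv ≫ g.appTop).hom.Finite := by
  letI : X.Over (Spec (CommRingCat.of A)) := ⟨g⟩
  haveI : IsProper (X ↘ Spec (CommRingCat.of A)) := ‹IsProper g›
  have h0 : Module.Finite A (Coh.HH X (Coh.structureModule X) 0) :=
    Groth.Agent.S0002.result A X _ (Groth.Agent.Lib.Helper4.Dev.isCoh_structureModule X) 0
  have h1 : Module.Finite A ((Γ (X := X) A).obj (Coh.structureModule X)) :=
    Module.Finite.equiv (e0 A (Coh.structureModule X)).symm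
  letI := ((Scheme.ΓSpecIso (CommRingCat.of A)).inv ≫ g.appTop).hom.toAlgebra
  change Module.Finite A Γ(X, ⊤)
  let ℓ : ((Γ (X := X) A).obj (Coh.structureModule X)) →ₗ[A] Γ(X, ⊤) :=
    { toFun := fun s => s
      map_add' := fun _ _ => rfl
      map_smul' := fun a s => by
        rw [smul_eq, Coh.smulAb_app]
        have h1 : Coh.resTop X (op ⊤) (Coh.toGlobal g a) = Coh.toGlobal g a := by
          change (X.ringCatSheaf.obj.map (𝟙 (op ⊤))).hom _ = _
          rw [X.ringCatSheaf.obj.map_id]
          rfl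
        change @HSMul.hSMul (X.ringCatSheaf.obj.obj (op ⊤)) ((Coh.structureModule X).val.obj (op ⊤))
          ((Coh.structureModule X).val.obj (op ⊤)) _ (Coh.resTop X (op ⊤) (Coh.toGlobal g a)) s = _
        rw [h1]
        rfl }
  exact Module.Finite.of_surjective ℓ (fun s => ⟨s, rfl⟩)

end Groth.Agent.Lib.Helper6.Stein

namespace Groth.Agent.Lib.Helper6.Stein

theorem finite_app_of_isProper {X S : Scheme.{u}} (f : X ⟶ S) [IsProper f] [IsLocallyNoetherian S]
    (U : S.Opens) (hU : IsAffineOpen U) : (f.app U).hom.Finite := by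
  haveI : IsNoetherianRing Γ(S, U) := IsLocallyNoetherian.component_noetherian ⟨U, hU⟩
  haveI : IsProper (f.resLE U (f ⁻¹ᵁ U) le_rfl) := by
    rw [Scheme.Hom.resLE_eq_morphismRestrict]
    exact IsZariskiLocalAtTarget.restrict ‹IsProper f› U
  let g : (f ⁻¹ᵁ U).toScheme ⟶ Spec (CommRingCat.of Γ(S, U)) :=
    f.resLE U (f ⁻¹ᵁ U) le_rfl ≫ hU.isoSpec.hom
  haveI : IsProper g := by dsimp only [g]; infer_instance
  have h := finite_toGlobal Γ(S, U) _ g
  have e : (Scheme.ΓSpecIso (CommRingCat.of Γ(S, U))).inv ≫ g.appTop =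
      ((Scheme.ΓSpecIso (CommRingCat.of Γ(S, U))).inv ≫ hU.isoSpec.hom.appTop ≫ U.topIso.hom) ≫
        f.app U ≫ (f ⁻¹ᵁ U).topIso.inv := by
    dsimp only [g]
    rw [Scheme.Hom.comp_appTop, Scheme.Hom.appTop, Scheme.Hom.appTop, Scheme.Hom.resLE_app_top,
      ← Scheme.Hom.app_eq_appLE]
    simp only [Category.assoc]
  rw [e] at h
  haveI : IsIso (hU.isoSpec.hom.appTop) := by
    haveI : IsIso hU.isoSpec.hom := inferInstance
    exact inferInstanceAs (IsIso (hU.isoSpec.hom.app ⊤))
  have h2 := (RingHom.finite_respectsIso.cancel_left_isIso _ _).1 h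
  exact (RingHom.finite_respectsIso.cancel_right_isIso _ _).1 h2

end Groth.Agent.Lib.Helper6.Stein

namespace Groth.Agent.Lib.Helper6.Stein

theorem isFinite_fromNormalization {X S : Scheme.{u}} (f : X ⟶ S) [IsProper f]
    [IsLocallyNoetherian S] : IsFinite f.fromNormalization := by
  refine { finite_app := fun U hU => ?_ }
  rw [f.fromNormalization_app hU]
  letI := (f.app U).hom.toAlgebra
  haveI : IsNoetherianRing Γ(S, U) := IsLocallyNoetherian.component_noetherian ⟨U, hU⟩
  haveI : Module.Finite Γ(S, U) Γ(X, f ⁻¹ᵁ U) := finite_app_of_isProper f U hU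
  refine (RingHom.finite_respectsIso.cancel_right_isIso _ _).2 ?_
  haveI : IsNoetherian Γ(S, U) Γ(X, f ⁻¹ᵁ U) := isNoetherian_of_isNoetherianRing_of_finite _ _
  haveI : Module.Finite Γ(S, U) (integralClosure Γ(S, U) Γ(X, f ⁻¹ᵁ U)) :=
    Module.Finite.of_injective (integralClosure Γ(S, U) Γ(X, f ⁻¹ᵁ U)).val.toLinearMap
      Subtype.val_injective
  exact RingHom.finite_algebraMap.2 inferInstance

end Groth.Agent.Lib.Helper6.Stein
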