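import Mathlib
import Groth.Agent.Lib.Helper12Pi0A
import Groth.Agent.Lib.Helper12Pi0B
import Groth.Agent.Lib.Helper23ZarConnB4
import Groth.Agent.Lib.Helper6Stein
import Groth.Agent.Lib.Helper14LocNoeth
import Groth.Agent.S0526

set_option autoImplicit false
set_option linter.style.haveILetI false
universe u

open CategoryTheory Limits AlgebraicGeometry TopologicalSpace Opposite

namespace Groth.Agent.Lib.Helper12.Pi0C

open Groth.Agent.Lib.Helper12.Pi0A Groth.Agent.Lib.Helper12.Pi0B

/-- `O_Y → g_* O_X` is an isomorphism for `g = X.toSpecΓ`, `X` qcqs. -/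
theorem isIso_toSpecΓ_app (X : Scheme.{u}) [CompactSpace X] [QuasiSeparatedSpace X] :
    ∀ U : (Spec Γ(X, ⊤)).Opens, IsIso (X.toSpecΓ.app U) := by
  refine Groth.Agent.Lib.Helper23.ZarConnB3.isIso_app_of_basis X.toSpecΓ
    (fun r : Γ(X, ⊤) => (PrimeSpectrum.basicOpen r : (Spec Γ(X, ⊤)).Opens)) ?_
    (fun r => isIso_toSpecΓ_app_basicOpen X r)
  exact PrimeSpectrum.isBasis_basic_opens

theorem main (A : Type u) [CommRing A] [IsNoetherianRing A] (I : Ideal A) [IsAdicComplete I A]
    {X : Scheme.{u}} (f : X ⟶ Spec (CommRingCat.of A)) [IsProper f] :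
    Function.Bijective
      (Continuous.connectedComponentsMap
        (pullback.fst f (Spec.map (CommRingCat.ofHom (Ideal.Quotient.mk I)))).continuous) := by
  set j : Spec (CommRingCat.of (A ⧸ I)) ⟶ Spec (CommRingCat.of A) :=
    Spec.map (CommRingCat.ofHom (Ideal.Quotient.mk I)) with hj
  set p : pullback f j ⟶ X := pullback.fst f j with hp
  -- the Stein factorization
  let φc : CommRingCat.of A ⟶ Γ(X, ⊤) := (Scheme.ΓSpecIso (CommRingCat.of A)).inv ≫ f.appTop
  have hfin : φc.hom.Finite := Groth.Agent.Lib.Helper6.Stein.finite_toGlobal A X f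
  have hfac : f = X.toSpecΓ ≫ Spec.map φc := by
    rw [Spec.map_comp, ← Category.assoc, ← Scheme.toSpecΓ_naturality, Category.assoc,
      toSpecΓ_SpecMap_ΓSpecIso_inv, Category.comp_id]
  set g : X ⟶ Spec Γ(X, ⊤) := X.toSpecΓ with hg
  letI : Algebra A Γ(X, ⊤) := φc.hom.toAlgebra
  haveI : Module.Finite A Γ(X, ⊤) := hfin
  haveI : IsNoetherianRing Γ(X, ⊤) := Algebra.FiniteType.isNoetherianRing A Γ(X, ⊤)
  haveI : IsProper g := by
    haveI : IsProper (g ≫ Spec.map φc) := hfac ▸ ‹IsProper f›
    exact IsProper.of_comp g (Spec.map φc)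
  haveI : CompactSpace X := (quasiCompact_iff_compactSpace f).1 inferInstance
  haveI : QuasiSeparatedSpace X := (quasiSeparated_iff_quasiSeparatedSpace f).1 inferInstance
  have hiso := isIso_toSpecΓ_app X
  have hfib : ∀ y, _root_.IsConnected (g.base ⁻¹' {y}) := fun y =>
    Groth.Agent.Lib.Helper23.ZarConnB4.isConnected_preimage_singleton g hiso y
  -- henselian pair
  haveI : Algebra.IsIntegral A Γ(X, ⊤) := Algebra.IsIntegral.of_finite A _
  set J : Ideal Γ(X, ⊤) := I.map (algebraMap A Γ(X, ⊤)) with hJ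
  haveI : HenselianRing Γ(X, ⊤) J := Groth.Agent.S0526.result A I Γ(X, ⊤)
  -- the range of `j`
  have hrj : Set.range j.base = PrimeSpectrum.zeroLocus (I : Set A) := by
    have h := _root_.range_comap_of_surjective _ _ (Ideal.Quotient.mk_surjective (I := I))
    rw [Ideal.mk_ker] at h
    exact h
  have hfg : ∀ y : PrimeSpectrum Γ(X, ⊤),
      PrimeSpectrum.comap φc.hom y ∈ PrimeSpectrum.zeroLocus (I : Set A) ↔
      y ∈ PrimeSpectrum.zeroLocus (J : Set Γ(X, ⊤)) := by
    intro y
    rw [PrimeSpectrum.mem_zeroLocus, PrimeSpectrum.mem_zeroLocus, SetLike.coe_subset_coe,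
      SetLike.coe_subset_coe, hJ, Ideal.map_le_iff_le_comap]
    rfl
  have hfx : ∀ x : X, f.base x = PrimeSpectrum.comap φc.hom (g.base x) := fun x => by
    rw [hfac]
    rfl
  have hrange : Set.range p.base = g.base ⁻¹' (PrimeSpectrum.zeroLocus (J : Set Γ(X, ⊤))) := by
    rw [hp, Scheme.Pullback.range_fst, hrj]
    ext x
    rw [Set.mem_preimage, Set.mem_preimage, hfx]
    exact hfg _
  haveI : IsClosedImmersion j :=
    IsClosedImmersion.spec_of_surjective _ Ideal.Quotient.mk_surjective
  haveI : IsClosedImmersion p := by rw [hp]; infer_instance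
  refine ⟨?_, ?_⟩
  · -- injectivity
    haveI : AlgebraicGeometry.IsNoetherian (pullback f j) := by
      haveI : IsLocallyNoetherian (pullback f j) :=
        LocallyOfFiniteType.isLocallyNoetherian (pullback.snd f j)
      haveI : CompactSpace ((pullback f j : Scheme.{u})) :=
        (quasiCompact_iff_compactSpace (pullback.snd f j)).1 inferInstance
      exact {}
    refine connectedComponentsMap_injective p.base p.continuous
      (fun a => Groth.Agent.Lib.Helper14.isOpen_connectedComponent_of_noetherianSpace a) ?_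
    intro W hW
    exact exists_isClopen_preimage_eq p.base p.isClosedEmbedding g.base g.continuous
      g.isClosedMap hfib _ hrange
      (fun T hT hTZ hT' => exists_isClopen_inter_zeroLocus J T hT hTZ hT') W hW
  · -- surjectivity
    refine connectedComponentsMap_surjective p.base p.continuous ?_
    intro x
    have hcl : IsClosed (f.base '' closure {x}) := f.isClosedMap _ isClosed_closure
    have hmem : f.base x ∈ f.base '' closure {x} := ⟨x, subset_closure rfl, rfl⟩
    obtain ⟨𝔟, h𝔟⟩ := (PrimeSpectrum.isClosed_iff_zeroLocus_ideal (R := A) _).1 hcl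
    have hne : 𝔟 ≠ ⊤ := by
      intro htop
      have hempty : PrimeSpectrum.zeroLocus (𝔟 : Set A) = ∅ :=
        PrimeSpectrum.zeroLocus_empty_iff_eq_top.2 htop
      rw [h𝔟, hempty] at hmem
      exact hmem
    obtain ⟨M, hM, h𝔟M⟩ := Ideal.exists_le_maximal 𝔟 hne
    let pM : PrimeSpectrum A := ⟨M, hM.isPrime⟩
    have hpM : pM ∈ f.base '' closure {x} := by
      rw [h𝔟]
      exact h𝔟M
    obtain ⟨x', hx', hfx'⟩ := hpM
    have hIM : I ≤ M := (IsAdicComplete.le_jacobson_bot I).trans (sInf_le ⟨bot_le, hM⟩)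
    have hx'r : x' ∈ Set.range p.base := by
      rw [hp, Scheme.Pullback.range_fst, hrj, Set.mem_preimage, hfx']
      exact hIM
    obtain ⟨x₀, hx₀⟩ := hx'r
    exact ⟨x₀, hx₀ ▸ specializes_iff_mem_closure.2 hx'⟩

end Groth.Agent.Lib.Helper12.Pi0C
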