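import Mathlib
import Groth.Agent.Lib.Helper12Pi0A
import Groth.Agent.Lib.Helper12Pi0B
import Groth.Agent.Lib.Helper12Pi0C
import Groth.Agent.Lib.Helper23ZarConnB4
import Groth.Agent.Lib.Helper6Stein
import Groth.Agent.Lib.Helper14LocNoeth
import Groth.Agent.S0526

set_option autoImplicit false
set_option linter.style.haveILetI false
universe u

open CategoryTheory Limits AlgebraicGeometry TopologicalSpace Opposite

namespace Groth.Agent.Lib.Helper12.Pi0D

open Groth.Agent.Lib.Helper12.Pi0A Groth.Agent.Lib.Helper12.Pi0B Groth.Agent.Lib.Helper12.Pi0C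

/-- a henselian pair stays henselian when the ideal shrinks. -/
theorem henselianRing_of_le {R : Type*} [CommRing R] (J' J : Ideal R) (hle : J' ≤ J)
    [HenselianRing R J] : HenselianRing R J' := by
  refine ⟨hle.trans HenselianRing.jac, ?_⟩
  intro f hf a₀ h0 hder
  have h0' : f.eval a₀ ∈ J := hle h0
  have hder' : IsUnit (Ideal.Quotient.mk J (f.derivative.eval a₀)) := by
    have := hder.map (Ideal.Quotient.factor hle)
    simpa using this
  obtain ⟨a, ha, haa₀⟩ := HenselianRing.is_henselian f hf a₀ h0' hder'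
  refine ⟨a, ha, ?_⟩
  -- Taylor expansion
  obtain ⟨k, hk⟩ := Polynomial.binomExpansion f a₀ (a - a₀)
  have ha0 : f.eval a = 0 := ha
  rw [add_sub_cancel, ha0] at hk
  set u : R := f.derivative.eval a₀ + k * (a - a₀) with hu
  have huu : IsUnit u := by
    haveI := isLocalHom_of_le_jacobson_bot J (HenselianRing.jac)
    apply isUnit_of_map_unit (Ideal.Quotient.mk J)
    have : Ideal.Quotient.mk J u = Ideal.Quotient.mk J (f.derivative.eval a₀) := by
      rw [hu, map_add, map_mul, Ideal.Quotient.eq_zero_iff_mem.2 haa₀, mul_zero, add_zero]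
    rw [this]
    exact hder'
  have h1 : (a - a₀) * u = - f.eval a₀ := by
    rw [hu]
    linear_combination -hk
  obtain ⟨v, hv⟩ := huu
  have h2 : a - a₀ = - f.eval a₀ * (↑v⁻¹ : R) := by
    rw [← h1, ← hv, mul_assoc, Units.mul_inv, mul_one]
  rw [h2]
  exact J'.mul_mem_right _ (J'.neg_mem h0)


/-- every nonempty closed subset of a prime spectrum contains a point which is a maximal ideal. -/
theorem exists_maximal_mem_of_isClosed {B : Type*} [CommRing B] (T : Set (PrimeSpectrum B))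
    (hT : IsClosed T) (hne : T.Nonempty) : ∃ y ∈ T, y.asIdeal.IsMaximal := by
  obtain ⟨𝔟, h𝔟⟩ := (PrimeSpectrum.isClosed_iff_zeroLocus_ideal (R := B) _).1 hT
  have hne' : 𝔟 ≠ ⊤ := by
    intro htop
    have hempty : PrimeSpectrum.zeroLocus (𝔟 : Set B) = ∅ :=
      PrimeSpectrum.zeroLocus_empty_iff_eq_top.2 htop
    rw [h𝔟, hempty] at hne
    exact Set.not_nonempty_empty hne
  obtain ⟨M, hM, h𝔟M⟩ := Ideal.exists_le_maximal 𝔟 hne'
  refine ⟨⟨M, hM.isPrime⟩, ?_, hM⟩
  rw [h𝔟]
  exact h𝔟M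

/-- **Clopen lifting for a proper scheme over a Noetherian ring whose ring of global sections is
henselian along `I`.** -/
theorem clopen_lift (A : Type u) [CommRing A] [IsNoetherianRing A] (I : Ideal A)
    {X : Scheme.{u}} (f : X ⟶ Spec (CommRingCat.of A)) [IsProper f]
    (hH : HenselianRing Γ(X, ⊤)
      (I.map ((Scheme.ΓSpecIso (CommRingCat.of A)).inv ≫ f.appTop).hom)) :
    ∀ V : Set ↥(pullback f (Spec.map (CommRingCat.ofHom (Ideal.Quotient.mk I)))),
    IsClopen V →
    ∃! U : Set X, IsClopen U ∧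
      (pullback.fst f (Spec.map (CommRingCat.ofHom (Ideal.Quotient.mk I)))).base ⁻¹' U = V := by
  set j : Spec (CommRingCat.of (A ⧸ I)) ⟶ Spec (CommRingCat.of A) :=
    Spec.map (CommRingCat.ofHom (Ideal.Quotient.mk I)) with hj
  set p : pullback f j ⟶ X := pullback.fst f j with hp
  -- the Stein factorization
  set φc : CommRingCat.of A ⟶ Γ(X, ⊤) := (Scheme.ΓSpecIso (CommRingCat.of A)).inv ≫ f.appTop
    with hφc
  have hfin : φc.hom.Finite := Groth.Agent.Lib.Helper6.Stein.finite_toGlobal A X f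
  have hfac : f = X.toSpecΓ ≫ Spec.map φc := by
    rw [Spec.map_comp, ← Category.assoc, ← Scheme.toSpecΓ_naturality, Category.assoc,
      toSpecΓ_SpecMap_ΓSpecIso_inv, Category.comp_id]
  set g : X ⟶ Spec Γ(X, ⊤) := X.toSpecΓ with hg
  letI : Algebra A Γ(X, ⊤) := φc.hom.toAlgebra
  haveI : Module.Finite A Γ(X, ⊤) := hfin
  haveI : IsNoetherianRing Γ(X, ⊤) := Algebra.FiniteType.isNoetherianRing A Γ(X, ⊤)
  haveI : IsProper g := by
    haveI : IsProper (g ≫ Spec.map φc) := hfac ▸ ‹IsProper f›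
    exact IsProper.of_comp g (Spec.map φc)
  haveI : CompactSpace X := (quasiCompact_iff_compactSpace f).1 inferInstance
  haveI : QuasiSeparatedSpace X := (quasiSeparated_iff_quasiSeparatedSpace f).1 inferInstance
  have hiso := isIso_toSpecΓ_app X
  have hfib : ∀ y, _root_.IsConnected (g.base ⁻¹' {y}) := fun y =>
    Groth.Agent.Lib.Helper23.ZarConnB4.isConnected_preimage_singleton g hiso y
  -- henselian pair
  set J : Ideal Γ(X, ⊤) := I.map φc.hom with hJ
  haveI : HenselianRing Γ(X, ⊤) J := hH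
  -- the range of `j`
  have hrj : Set.range j.base = PrimeSpectrum.zeroLocus (I : Set A) := by
    have h := _root_.range_comap_of_surjective _ _ (Ideal.Quotient.mk_surjective (I := I))
    rw [Ideal.mk_ker] at h
    exact h
  have hfg : ∀ y : PrimeSpectrum Γ(X, ⊤),
      PrimeSpectrum.comap φc.hom y ∈ PrimeSpectrum.zeroLocus (I : Set A) ↔
      y ∈ PrimeSpectrum.zeroLocus (J : Set Γ(X, ⊤)) := by
    intro y
    rw [PrimeSpectrum.mem_zeroLocus, PrimeSpectrum.mem_zeroLocus, SetLike.coe_subset_coe,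
      SetLike.coe_subset_coe, hJ, Ideal.map_le_iff_le_comap]
    rfl
  have hfx : ∀ x : X, f.base x = PrimeSpectrum.comap φc.hom (g.base x) := fun x => by
    rw [hfac]
    rfl
  have hrange : Set.range p.base = g.base ⁻¹' (PrimeSpectrum.zeroLocus (J : Set Γ(X, ⊤))) := by
    rw [hp, Scheme.Pullback.range_fst, hrj]
    ext x
    rw [Set.mem_preimage, Set.mem_preimage, hfx]
    exact hfg _
  haveI : IsClosedImmersion j :=
    IsClosedImmersion.spec_of_surjective _ Ideal.Quotient.mk_surjective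
  haveI : IsClosedImmersion p := by rw [hp]; infer_instance
  -- existence
  intro V hV
  obtain ⟨U, hU, hUV⟩ := exists_isClopen_preimage_eq p.base p.isClosedEmbedding g.base g.continuous
      g.isClosedMap hfib _ hrange
      (fun T hT hTZ hT' => exists_isClopen_inter_zeroLocus J T hT hTZ hT') V hV
  -- every nonempty closed subset of `X` meets the range of `p`
  have hmeet : ∀ T : Set X, IsClosed T → T.Nonempty → ∃ x₀, p.base x₀ ∈ T := by
    intro T hT hne
    obtain ⟨y, hyT, hymax⟩ := exists_maximal_mem_of_isClosed (g.base '' T) (g.isClosedMap _ hT)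
      (hne.image _)
    obtain ⟨x', hx'T, hx'y⟩ := hyT
    have hJy : J ≤ y.asIdeal := (HenselianRing.jac (R := Γ(X, ⊤)) (I := J)).trans
      (sInf_le ⟨bot_le, hymax⟩)
    have hx'r : x' ∈ Set.range p.base := by
      rw [hrange, Set.mem_preimage, hx'y]
      exact hJy
    obtain ⟨x₀, hx₀⟩ := hx'r
    exact ⟨x₀, hx₀ ▸ hx'T⟩
  have huniq : ∀ U₁ U₂ : Set X, IsClopen U₁ → IsClopen U₂ → p.base ⁻¹' U₁ = p.base ⁻¹' U₂ →
      U₁ ⊆ U₂ := by
    intro U₁ U₂ h₁ h₂ h12 x hx
    by_contra hx2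
    obtain ⟨x₀, hx₀⟩ := hmeet (U₁ ∩ U₂ᶜ) (h₁.1.inter h₂.2.isClosed_compl) ⟨x, hx, hx2⟩
    have h3 : x₀ ∈ p.base ⁻¹' U₁ := hx₀.1
    rw [h12] at h3
    exact hx₀.2 h3
  refine ⟨U, ⟨hU, hUV⟩, ?_⟩
  rintro U' ⟨hU', hU'V⟩
  exact Set.Subset.antisymm (huniq U' U hU' hU (hU'V.trans hUV.symm))
    (huniq U U' hU hU' (hUV.trans hU'V.symm))


/-- transport of the unique clopen lifting property along an isomorphism of the source. -/
theorem existsUnique_transport {Y P P' : Scheme.{u}} (e : P ≅ P') (q : P ⟶ Y) (q' : P' ⟶ Y)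
    (h : e.hom ≫ q' = q)
    (H : ∀ V' : Set P', IsClopen V' → ∃! U : Set Y, IsClopen U ∧ q'.base ⁻¹' U = V') :
    ∀ V : Set P, IsClopen V → ∃! U : Set Y, IsClopen U ∧ q.base ⁻¹' U = V := by
  intro V hV
  have hhom : ∀ x, e.inv.base (e.hom.base x) = x := fun x => by
    rw [← Scheme.Hom.comp_apply, e.hom_inv_id]; rfl
  have hinv : ∀ x, e.hom.base (e.inv.base x) = x := fun x => by
    rw [← Scheme.Hom.comp_apply, e.inv_hom_id]; rfl
  have hq : ∀ U : Set Y, q.base ⁻¹' U = e.hom.base ⁻¹' (q'.base ⁻¹' U) := by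
    intro U
    rw [← h]
    rfl
  have key : ∀ U : Set Y, q.base ⁻¹' U = V ↔ q'.base ⁻¹' U = e.inv.base ⁻¹' V := by
    intro U
    rw [hq]
    constructor
    · intro hU
      rw [← hU]
      ext x
      simp only [Set.mem_preimage, hinv]
    · intro hU
      rw [hU]
      ext x
      simp only [Set.mem_preimage, hhom]
  obtain ⟨U, ⟨hU, hUV⟩, huniq⟩ := H (e.inv.base ⁻¹' V) (hV.preimage e.inv.continuous)
  refine ⟨U, ⟨hU, (key U).2 hUV⟩, ?_⟩
  rintro U' ⟨hU', hU'V⟩
  exact huniq U' ⟨hU', (key U').1 hU'V⟩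

/-- clopen lifting along finite `Y ⟶ X`, `X` proper over a Noetherian ring `A`, assuming
`Γ(Y, O_Y)` henselian along `I`. -/
theorem clopen_lift_finite (A : Type u) [CommRing A] [IsNoetherianRing A] (I : Ideal A)
    {X : Scheme.{u}} (f : X ⟶ Spec (CommRingCat.of A)) [IsProper f]
    (Y : Scheme.{u}) (g : Y ⟶ X) (hg : IsFinite g)
    (hH : HenselianRing Γ(Y, ⊤)
      (I.map ((Scheme.ΓSpecIso (CommRingCat.of A)).inv ≫ (g ≫ f).appTop).hom)) :
    ∀ V : Set ↥(pullback g (pullback.fst f (Spec.map (CommRingCat.ofHom (Ideal.Quotient.mk I))))),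
      IsClopen V →
        ∃! U : Set ↥Y, IsClopen U ∧ (pullback.fst g (pullback.fst f
          (Spec.map (CommRingCat.ofHom (Ideal.Quotient.mk I))))).base ⁻¹' U = V := by
  haveI : IsProper (g ≫ f) := inferInstance
  exact existsUnique_transport
    (pullbackRightPullbackFstIso f (Spec.map (CommRingCat.ofHom (Ideal.Quotient.mk I))) g) _ _
    (pullbackRightPullbackFstIso_hom_fst _ _ _)
    (clopen_lift A I (g ≫ f) hH)

/-- S17961. -/
theorem clopen_lift_of_henselian (A : Type u) [CommRing A] [IsNoetherianRing A] (I : Ideal A)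
    [HenselianRing A I] {X : Scheme.{u}} (f : X ⟶ Spec (CommRingCat.of A)) [IsProper f] :
    ∀ (Y : Scheme.{u}) (g : Y ⟶ X), IsFinite g →
      ∀ V : Set ↥(pullback g (pullback.fst f
          (Spec.map (CommRingCat.ofHom (Ideal.Quotient.mk I))))), IsClopen V →
        ∃! U : Set ↥Y, IsClopen U ∧ (pullback.fst g (pullback.fst f
          (Spec.map (CommRingCat.ofHom (Ideal.Quotient.mk I))))).base ⁻¹' U = V := by
  intro Y g hg
  refine clopen_lift_finite A I f Y g hg ?_
  haveI : IsProper (g ≫ f) := inferInstance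
  set φc : CommRingCat.of A ⟶ Γ(Y, ⊤) :=
    (Scheme.ΓSpecIso (CommRingCat.of A)).inv ≫ (g ≫ f).appTop with hφc
  have hfin : φc.hom.Finite := Groth.Agent.Lib.Helper6.Stein.finite_toGlobal A Y (g ≫ f)
  letI : Algebra A Γ(Y, ⊤) := φc.hom.toAlgebra
  haveI : Module.Finite A Γ(Y, ⊤) := hfin
  haveI : Algebra.IsIntegral A Γ(Y, ⊤) := Algebra.IsIntegral.of_finite A _
  exact Groth.Agent.S0526.result A I Γ(Y, ⊤)


/-- S17960. -/
theorem clopen_lift_of_henselian_globalSections (A : Type u) [CommRing A] [IsNoetherianRing A]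
    (I : Ideal A) {X : Scheme.{u}} (f : X ⟶ Spec (CommRingCat.of A)) [IsProper f]
    (h : HenselianRing (Γ(X, ⊤) : Type u)
      (RingHom.ker (pullback.fst f
        (Spec.map (CommRingCat.ofHom (Ideal.Quotient.mk I)))).appTop.hom)) :
    ∀ (Y : Scheme.{u}) (g : Y ⟶ X), IsFinite g →
      ∀ V : Set ↥(pullback g (pullback.fst f
          (Spec.map (CommRingCat.ofHom (Ideal.Quotient.mk I))))), IsClopen V →
        ∃! U : Set ↥Y, IsClopen U ∧ (pullback.fst g (pullback.fst f
          (Spec.map (CommRingCat.ofHom (Ideal.Quotient.mk I))))).base ⁻¹' U = V := by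
  intro Y g hg
  refine clopen_lift_finite A I f Y g hg ?_
  haveI : IsProper (g ≫ f) := inferInstance
  set j : Spec (CommRingCat.of (A ⧸ I)) ⟶ Spec (CommRingCat.of A) :=
    Spec.map (CommRingCat.ofHom (Ideal.Quotient.mk I)) with hj
  set p : pullback f j ⟶ X := pullback.fst f j with hp
  set φB : CommRingCat.of A ⟶ Γ(X, ⊤) :=
    (Scheme.ΓSpecIso (CommRingCat.of A)).inv ≫ f.appTop with hφB
  set φC : CommRingCat.of A ⟶ Γ(Y, ⊤) :=
    (Scheme.ΓSpecIso (CommRingCat.of A)).inv ≫ (g ≫ f).appTop with hφC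
  have hφ : φC = φB ≫ g.appTop := by
    rw [hφC, hφB, Scheme.Hom.comp_appTop, Category.assoc]
  -- `I B ≤ ker`
  have hcomp : φB ≫ p.appTop = CommRingCat.ofHom (Ideal.Quotient.mk I) ≫
      (Scheme.ΓSpecIso (CommRingCat.of (A ⧸ I))).inv ≫ (pullback.snd f j).appTop := by
    rw [hφB, Category.assoc, ← Scheme.Hom.comp_appTop, hp, pullback.condition,
      Scheme.Hom.comp_appTop, hj, ← Category.assoc, ← Category.assoc,
      Scheme.ΓSpecIso_inv_naturality]
  have hle : I.map φB.hom ≤ RingHom.ker p.appTop.hom := by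
    rw [Ideal.map_le_iff_le_comap]
    intro a ha
    rw [Ideal.mem_comap, RingHom.mem_ker]
    have h1 : p.appTop.hom (φB.hom a) = (φB ≫ p.appTop).hom a := rfl
    rw [h1, hcomp]
    have h2 : (CommRingCat.ofHom (Ideal.Quotient.mk I) ≫
      (Scheme.ΓSpecIso (CommRingCat.of (A ⧸ I))).inv ≫ (pullback.snd f j).appTop).hom a =
      ((Scheme.ΓSpecIso (CommRingCat.of (A ⧸ I))).inv ≫ (pullback.snd f j).appTop).hom
        (Ideal.Quotient.mk I a) := rfl
    rw [h2, Ideal.Quotient.eq_zero_iff_mem.2 ha, map_zero]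
  haveI : HenselianRing Γ(X, ⊤) (I.map φB.hom) := henselianRing_of_le _ _ hle
  letI : Algebra Γ(X, ⊤) Γ(Y, ⊤) := g.appTop.hom.toAlgebra
  have hfinC : φC.hom.Finite := Groth.Agent.Lib.Helper6.Stein.finite_toGlobal A Y (g ≫ f)
  have hfin : g.appTop.hom.Finite := by
    refine RingHom.Finite.of_comp_finite (f := φB.hom) (g := g.appTop.hom) ?_
    have : g.appTop.hom.comp φB.hom = φC.hom := by rw [hφ]; rfl
    rw [this]
    exact hfinC
  haveI : Module.Finite Γ(X, ⊤) Γ(Y, ⊤) := hfin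
  haveI : Algebra.IsIntegral Γ(X, ⊤) Γ(Y, ⊤) := Algebra.IsIntegral.of_finite _ _
  have key := Groth.Agent.S0526.result Γ(X, ⊤) (I.map φB.hom) Γ(Y, ⊤)
  rw [Ideal.map_map] at key
  have : (algebraMap Γ(X, ⊤) Γ(Y, ⊤)).comp φB.hom = φC.hom := by rw [hφ]; rfl
  rw [this] at key
  exact key

end Groth.Agent.Lib.Helper12.Pi0D
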