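import Mathlib

set_option autoImplicit false
universe u

namespace Groth.Agent.Lib.Helper12.Pi0E

/-- reverse topological lemma: if clopens of `X₀ = g⁻¹(Z)` extend to clopens of `X`, and `g` is a
closed map with connected fibres, then clopens of `Z` extend to clopens of `Y`. -/
theorem exists_isClopen_inter_of_lift {X₀ X Y : Type*} [TopologicalSpace X₀] [TopologicalSpace X]
    [TopologicalSpace Y] (p : X₀ → X) (hp : Continuous p) (g : X → Y)
    (hg : Continuous g) (hgc : IsClosedMap g) (hfib : ∀ y, IsConnected (g ⁻¹' {y}))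
    (Z : Set Y) (hpZ : Set.range p = g ⁻¹' Z)
    (H : ∀ W : Set X₀, IsClopen W → ∃ W' : Set X, IsClopen W' ∧ p ⁻¹' W' = W)
    (T : Set Y) (hT : IsClosed T) (hTZ : T ⊆ Z) (hT' : IsClosed (Z \ T)) :
    ∃ T' : Set Y, IsClopen T' ∧ T' ∩ Z = T := by
  have hgsurj : Function.Surjective g := fun y => by
    obtain ⟨x, hx⟩ := (hfib y).nonempty
    exact ⟨x, hx⟩
  have hgpZ : ∀ w : X₀, g (p w) ∈ Z := fun w => by
    have : p w ∈ g ⁻¹' Z := hpZ ▸ Set.mem_range_self w
    exact this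
  have hgp : Continuous (fun w => g (p w)) := hg.comp hp
  have hW : IsClopen ((fun w => g (p w)) ⁻¹' T) := by
    refine ⟨hT.preimage hgp, ?_⟩
    have : (fun w => g (p w)) ⁻¹' T = ((fun w => g (p w)) ⁻¹' (Z \ T))ᶜ := by
      ext w
      simp only [Set.mem_preimage, Set.mem_compl_iff, Set.mem_diff, not_and, not_not]
      exact ⟨fun h _ => h, fun h => h (hgpZ w)⟩
    rw [this]
    exact (hT'.preimage hgp).isOpen_compl
  obtain ⟨W', hW', hW'W⟩ := H _ hW
  have hsat : ∀ w ∈ W', ∀ w', g w' = g w → w' ∈ W' := by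
    intro w hw w' hw'
    have := (hfib (g w)).isPreconnected.subset_isClopen hW' ⟨w, rfl, hw⟩
    exact this hw'
  have hcompl : (g '' W')ᶜ = g '' W'ᶜ := by
    ext y
    constructor
    · intro hy
      obtain ⟨w, rfl⟩ := hgsurj y
      exact ⟨w, fun hw => hy ⟨w, hw, rfl⟩, rfl⟩
    · rintro ⟨w, hw, rfl⟩ ⟨w', hw', hww'⟩
      exact hw (hsat w' hw' w hww'.symm)
  refine ⟨g '' W', ⟨hgc _ hW'.1, ?_⟩, ?_⟩
  · rw [← isClosed_compl_iff, hcompl]
    exact hgc _ hW'.2.isClosed_compl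
  · ext y
    constructor
    · rintro ⟨⟨w, hw, rfl⟩, hyZ⟩
      have hwr : w ∈ Set.range p := by rw [hpZ]; exact hyZ
      obtain ⟨x₀, rfl⟩ := hwr
      have : x₀ ∈ p ⁻¹' W' := hw
      rw [hW'W] at this
      exact this
    · intro hy
      obtain ⟨w, rfl⟩ := hgsurj y
      have hwr : w ∈ Set.range p := by rw [hpZ]; exact hTZ hy
      obtain ⟨x₀, rfl⟩ := hwr
      have : x₀ ∈ p ⁻¹' W' := by rw [hW'W]; exact hy
      exact ⟨⟨p x₀, this, rfl⟩, hTZ hy⟩

/-- if clopens of `V(J)` extend to clopens of `Spec C`, idempotents lift along `C → C/J`. -/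
theorem idem_surjOn_of_clopen {C : Type*} [CommRing C] (J : Ideal C)
    (H : ∀ T : Set (PrimeSpectrum C), IsClosed T → T ⊆ PrimeSpectrum.zeroLocus (J : Set C) →
      IsClosed (PrimeSpectrum.zeroLocus (J : Set C) \ T) →
      ∃ T' : Set (PrimeSpectrum C), IsClopen T' ∧ T' ∩ PrimeSpectrum.zeroLocus (J : Set C) = T) :
    Set.SurjOn (Ideal.Quotient.mk J) {e : C | IsIdempotentElem e} {e | IsIdempotentElem e} := by
  intro ē hē
  let i : PrimeSpectrum (C ⧸ J) → PrimeSpectrum C := PrimeSpectrum.comap (Ideal.Quotient.mk J)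
  have hi : Topology.IsClosedEmbedding i :=
    PrimeSpectrum.isClosedEmbedding_comap_of_surjective _ _ Ideal.Quotient.mk_surjective
  have hrange : Set.range i = PrimeSpectrum.zeroLocus (J : Set C) := by
    have := range_comap_of_surjective (C ⧸ J) (Ideal.Quotient.mk J) Ideal.Quotient.mk_surjective
    rw [Ideal.mk_ker] at this
    exact this
  have hD : IsClopen ((PrimeSpectrum.basicOpen ē : Set (PrimeSpectrum (C ⧸ J)))) :=
    PrimeSpectrum.isClopen_iff.2 ⟨ē, hē, rfl⟩
  set T : Set (PrimeSpectrum C) := i '' (PrimeSpectrum.basicOpen ē : Set _) with hTdef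
  have hT : IsClosed T := hi.isClosedMap _ hD.1
  have hTJ : T ⊆ PrimeSpectrum.zeroLocus (J : Set C) := by
    rw [← hrange]; exact Set.image_subset_range _ _
  have hT' : IsClosed (PrimeSpectrum.zeroLocus (J : Set C) \ T) := by
    have : PrimeSpectrum.zeroLocus (J : Set C) \ T =
        i '' ((PrimeSpectrum.basicOpen ē : Set _)ᶜ) := by
      rw [← hrange, hTdef, Set.image_compl_eq_range_diff_image hi.injective]
    rw [this]
    exact hi.isClosedMap _ hD.2.isClosed_compl
  obtain ⟨T', hT'c, hT'T⟩ := H T hT hTJ hT'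
  obtain ⟨e, he, hTe⟩ := PrimeSpectrum.isClopen_iff.1 hT'c
  refine ⟨e, he, ?_⟩
  have he' : IsIdempotentElem (Ideal.Quotient.mk J e) := he.map _
  refine PrimeSpectrum.basicOpen_injOn_isIdempotentElem he' hē ?_
  apply SetLike.ext'
  have h1 : ((PrimeSpectrum.basicOpen (Ideal.Quotient.mk J e) : TopologicalSpace.Opens _) :
      Set (PrimeSpectrum (C ⧸ J))) = i ⁻¹' T' := by
    rw [hTe]
    rfl
  rw [h1]
  ext z
  constructor
  · intro hz
    have hz2 : i z ∈ T' ∩ PrimeSpectrum.zeroLocus (J : Set C) :=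
      ⟨hz, hrange ▸ Set.mem_range_self z⟩
    rw [hT'T] at hz2
    obtain ⟨z', hz', hzz'⟩ := hz2
    rw [← hi.injective hzz']
    exact hz'
  · intro hz
    have : i z ∈ T' ∩ PrimeSpectrum.zeroLocus (J : Set C) := by
      rw [hT'T]; exact ⟨z, hz, rfl⟩
    exact this.1

end Groth.Agent.Lib.Helper12.Pi0E
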