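import Mathlib
import Groth.Agent.Lib.Helper12Pi0D
import Groth.Agent.Lib.Helper12Pi0E
import Groth.Agent.S17968

set_option autoImplicit false
set_option linter.style.haveILetI false
universe u

open CategoryTheory Limits AlgebraicGeometry TopologicalSpace Opposite

namespace Groth.Agent.Lib.Helper12.Pi0F

open Groth.Agent.Lib.Helper12.Pi0A Groth.Agent.Lib.Helper12.Pi0B Groth.Agent.Lib.Helper12.Pi0C
  Groth.Agent.Lib.Helper12.Pi0D Groth.Agent.Lib.Helper12.Pi0E

/-- the Stein factorization set-up. -/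
theorem setup (A : Type u) [CommRing A] [IsNoetherianRing A] (I : Ideal A)
    {X : Scheme.{u}} (f : X ⟶ Spec (CommRingCat.of A)) [IsProper f] :
    IsNoetherianRing Γ(X, ⊤) ∧ IsProper X.toSpecΓ ∧ (∀ U, IsIso (X.toSpecΓ.app U)) ∧
    f = X.toSpecΓ ≫ Spec.map ((Scheme.ΓSpecIso (CommRingCat.of A)).inv ≫ f.appTop) ∧
    Set.range (pullback.fst f (Spec.map (CommRingCat.ofHom (Ideal.Quotient.mk I)))).base =
      X.toSpecΓ.base ⁻¹' (PrimeSpectrum.zeroLocus
        ((I.map ((Scheme.ΓSpecIso (CommRingCat.of A)).inv ≫ f.appTop).hom : Ideal Γ(X, ⊤)) :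
          Set Γ(X, ⊤))) := by
  set j : Spec (CommRingCat.of (A ⧸ I)) ⟶ Spec (CommRingCat.of A) :=
    Spec.map (CommRingCat.ofHom (Ideal.Quotient.mk I)) with hj
  set p : pullback f j ⟶ X := pullback.fst f j with hp
  set φc : CommRingCat.of A ⟶ Γ(X, ⊤) := (Scheme.ΓSpecIso (CommRingCat.of A)).inv ≫ f.appTop
    with hφc
  have hfin : φc.hom.Finite := Groth.Agent.Lib.Helper6.Stein.finite_toGlobal A X f
  have hfac : f = X.toSpecΓ ≫ Spec.map φc := by
    rw [Spec.map_comp, ← Category.assoc, ← Scheme.toSpecΓ_naturality, Category.assoc,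
      toSpecΓ_SpecMap_ΓSpecIso_inv, Category.comp_id]
  set g : X ⟶ Spec Γ(X, ⊤) := X.toSpecΓ with hg
  letI : Algebra A Γ(X, ⊤) := φc.hom.toAlgebra
  haveI : Module.Finite A Γ(X, ⊤) := hfin
  haveI hN : IsNoetherianRing Γ(X, ⊤) := Algebra.FiniteType.isNoetherianRing A Γ(X, ⊤)
  haveI hgP : IsProper g := by
    haveI : IsProper (g ≫ Spec.map φc) := hfac ▸ ‹IsProper f›
    exact IsProper.of_comp g (Spec.map φc)
  haveI : CompactSpace X := (quasiCompact_iff_compactSpace f).1 inferInstance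
  haveI : QuasiSeparatedSpace X := (quasiSeparated_iff_quasiSeparatedSpace f).1 inferInstance
  have hiso := isIso_toSpecΓ_app X
  set J : Ideal Γ(X, ⊤) := I.map φc.hom with hJ
  have hrj : Set.range j.base = PrimeSpectrum.zeroLocus (I : Set A) := by
    have h := _root_.range_comap_of_surjective _ _ (Ideal.Quotient.mk_surjective (I := I))
    rw [Ideal.mk_ker] at h
    exact h
  have hfg : ∀ y : PrimeSpectrum Γ(X, ⊤),
      PrimeSpectrum.comap φc.hom y ∈ PrimeSpectrum.zeroLocus (I : Set A) ↔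
      y ∈ PrimeSpectrum.zeroLocus (J : Set Γ(X, ⊤)) := by
    intro y
    rw [PrimeSpectrum.mem_zeroLocus, PrimeSpectrum.mem_zeroLocus, SetLike.coe_subset_coe,
      SetLike.coe_subset_coe, hJ, Ideal.map_le_iff_le_comap]
    rfl
  have hfx : ∀ x : X, f.base x = PrimeSpectrum.comap φc.hom (g.base x) := fun x => by
    rw [hfac]
    rfl
  have hrange : Set.range p.base = g.base ⁻¹' (PrimeSpectrum.zeroLocus (J : Set Γ(X, ⊤))) := by
    rw [hp, Scheme.Pullback.range_fst, hrj]
    ext x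
    rw [Set.mem_preimage, Set.mem_preimage, hfx]
    exact hfg _
  exact ⟨hN, hgP, hiso, hfac, hrange⟩


/-- range of the closed fibre inside a base change `X ×_B Spec C`. -/
theorem range_fst_pullback {X X₀ : Scheme.{u}} {B C : CommRingCat.{u}} (g : X ⟶ Spec B)
    (p : X₀ ⟶ X) (J : Ideal B)
    (hrange : Set.range p.base = g.base ⁻¹' (PrimeSpectrum.zeroLocus (J : Set B)))
    (ψ : B ⟶ C) :
    Set.range (pullback.fst (pullback.fst g (Spec.map ψ)) p).base =
      (pullback.snd g (Spec.map ψ)).base ⁻¹'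
        (PrimeSpectrum.zeroLocus ((J.map ψ.hom : Ideal C) : Set C)) := by
  rw [Scheme.Pullback.range_fst, hrange]
  ext y
  simp only [Set.mem_preimage]
  have h1 : g.base ((pullback.fst g (Spec.map ψ)).base y) =
      (Spec.map ψ).base ((pullback.snd g (Spec.map ψ)).base y) := by
    rw [← Scheme.Hom.comp_apply, ← Scheme.Hom.comp_apply, pullback.condition]
  rw [h1]
  have key : ∀ z : PrimeSpectrum C, PrimeSpectrum.comap ψ.hom z ∈
      PrimeSpectrum.zeroLocus (J : Set B) ↔
      z ∈ PrimeSpectrum.zeroLocus ((J.map ψ.hom : Ideal C) : Set C) := by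
    intro z
    rw [PrimeSpectrum.mem_zeroLocus, PrimeSpectrum.mem_zeroLocus, SetLike.coe_subset_coe,
      SetLike.coe_subset_coe, Ideal.map_le_iff_le_comap]
    rfl
  exact key _


/-- a henselian couple `(X, X₀)`, `X` proper over Noetherian `A`, has `(Γ(X, O_X), I Γ(X, O_X))`
henselian. -/
theorem henselian_of_couple (A : Type u) [CommRing A] [IsNoetherianRing A] (I : Ideal A)
    {X : Scheme.{u}} (f : X ⟶ Spec (CommRingCat.of A)) [IsProper f]
    (hX : ∀ (Y : Scheme.{u}) (g : Y ⟶ X), IsFinite g →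
      ∀ V : Set ↥(pullback g (pullback.fst f
          (Spec.map (CommRingCat.ofHom (Ideal.Quotient.mk I))))), IsClopen V →
        ∃! U : Set ↥Y, IsClopen U ∧ (pullback.fst g (pullback.fst f
          (Spec.map (CommRingCat.ofHom (Ideal.Quotient.mk I))))).base ⁻¹' U = V) :
    HenselianRing Γ(X, ⊤)
      (I.map ((Scheme.ΓSpecIso (CommRingCat.of A)).inv ≫ f.appTop).hom) := by
  obtain ⟨hN, hgP, hiso, hfac, hrange⟩ := setup A I f
  set j : Spec (CommRingCat.of (A ⧸ I)) ⟶ Spec (CommRingCat.of A) :=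
    Spec.map (CommRingCat.ofHom (Ideal.Quotient.mk I)) with hj
  set p : pullback f j ⟶ X := pullback.fst f j with hp
  set φc : CommRingCat.of A ⟶ Γ(X, ⊤) := (Scheme.ΓSpecIso (CommRingCat.of A)).inv ≫ f.appTop
    with hφc
  set g : X ⟶ Spec Γ(X, ⊤) := X.toSpecΓ with hg
  set J : Ideal Γ(X, ⊤) := I.map φc.hom with hJ
  have hfib : ∀ y, _root_.IsConnected (g.base ⁻¹' {y}) := fun y =>
    Groth.Agent.Lib.Helper23.ZarConnB4.isConnected_preimage_singleton g hiso y
  haveI : Surjective g := ⟨fun y => by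
    obtain ⟨x, hx⟩ := (hfib y).nonempty
    exact ⟨x, hx⟩⟩
  -- (a) `J ≤ jac`
  have hjac : J ≤ Ideal.jacobson ⊥ := by
    refine le_sInf ?_
    rintro M ⟨-, hM⟩
    by_contra hJM
    let ψ : Γ(X, ⊤) ⟶ CommRingCat.of (Γ(X, ⊤) ⧸ M) := CommRingCat.ofHom (Ideal.Quotient.mk M)
    have hψ : ψ.hom.Finite := RingHom.Finite.of_surjective _ Ideal.Quotient.mk_surjective
    haveI : IsFinite (Spec.map ψ) := (IsFinite.SpecMap_iff ψ).2 hψ
    have hsup : J ⊔ M = ⊤ := by
      by_contra hne
      have := hM.eq_of_le hne le_sup_right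
      exact hJM (this ▸ le_sup_left)
    have hempty : J.map ψ.hom = ⊤ := by
      have h1 : (J ⊔ M).map (Ideal.Quotient.mk M) = ⊤ := by
        rw [hsup]; exact Ideal.map_top _
      rw [Ideal.map_sup, Ideal.map_quotient_self, sup_bot_eq] at h1
      exact h1
    have hr := range_fst_pullback g p J hrange ψ
    rw [hempty] at hr
    have hz : PrimeSpectrum.zeroLocus (((⊤ : Ideal (Γ(X, ⊤) ⧸ M)) :
        Ideal (Γ(X, ⊤) ⧸ M)) : Set (Γ(X, ⊤) ⧸ M)) = ∅ :=
      PrimeSpectrum.zeroLocus_empty_iff_eq_top.2 rfl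
    rw [hz] at hr
    have hr' : Set.range (pullback.fst (pullback.fst g (Spec.map ψ)) p).base = ∅ := hr
    haveI : IsEmpty ↥(pullback (pullback.fst g (Spec.map ψ)) p) := Set.range_eq_empty_iff.1 hr'
    obtain ⟨U, hU, huniq⟩ := hX _ (pullback.fst g (Spec.map ψ)) inferInstance Set.univ
      isClopen_univ
    have h1 := huniq ∅ ⟨isClopen_empty, Subsingleton.elim _ _⟩
    have h2 := huniq Set.univ ⟨isClopen_univ, Subsingleton.elim _ _⟩
    haveI : Nontrivial (Γ(X, ⊤) ⧸ M) := Ideal.Quotient.nontrivial_iff.2 hM.ne_top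
    obtain ⟨z⟩ : Nonempty ↥(Spec (CommRingCat.of (Γ(X, ⊤) ⧸ M))) :=
      (inferInstance : Nonempty (PrimeSpectrum (Γ(X, ⊤) ⧸ M)))
    obtain ⟨y, -⟩ := (pullback.snd g (Spec.map ψ)).surjective z
    have : y ∈ (∅ : Set ↥(pullback g (Spec.map ψ))) := by
      rw [h1, ← h2]; exact Set.mem_univ y
    exact this
  -- (b) idempotents lift
  refine Groth.Agent.S17968.aux Γ(X, ⊤) J hjac ?_
  intro m pol hpol _
  let ψ : Γ(X, ⊤) ⟶ CommRingCat.of (AdjoinRoot pol) :=
    CommRingCat.ofHom (algebraMap Γ(X, ⊤) (AdjoinRoot pol))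
  haveI : Module.Finite Γ(X, ⊤) (AdjoinRoot pol) := hpol.finite_adjoinRoot
  haveI : Module.Free Γ(X, ⊤) (AdjoinRoot pol) := hpol.free_adjoinRoot
  have hψfin : ψ.hom.Finite := RingHom.finite_algebraMap.2 inferInstance
  have hψflat : ψ.hom.Flat := RingHom.flat_algebraMap_iff.2 inferInstance
  haveI : IsFinite (Spec.map ψ) := (IsFinite.SpecMap_iff ψ).2 hψfin
  haveI : Flat (Spec.map ψ) := Flat.SpecMap_iff.2 hψflat
  haveI : IsNoetherianRing (AdjoinRoot pol) := Algebra.FiniteType.isNoetherianRing Γ(X, ⊤) _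
  set q := pullback.snd g (Spec.map ψ) with hq
  have hqiso := Groth.Agent.Lib.Helper23.ZarConnB3.isIso_app_snd_of_flat g (Spec.map ψ) hiso
  have hqfib : ∀ z, _root_.IsConnected (q.base ⁻¹' {z}) := fun z =>
    Groth.Agent.Lib.Helper23.ZarConnB4.isConnected_preimage_singleton q hqiso z
  apply idem_surjOn_of_clopen (J.map (algebraMap Γ(X, ⊤) (AdjoinRoot pol)))
  intro T hT hTJ hT'
  exact exists_isClopen_inter_of_lift
    (pullback.fst (pullback.fst g (Spec.map ψ)) p).base
    (pullback.fst (pullback.fst g (Spec.map ψ)) p).continuous q.base q.continuous q.isClosedMap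
    hqfib _ (range_fst_pullback g p J hrange ψ)
    (fun W hW => (hX _ (pullback.fst g (Spec.map ψ)) inferInstance W hW).exists) T hT hTJ hT'


/-- `R'/(I R')` is the pushout of `R/I` along `R → R'`. -/
lemma isPushout_quotientMap' {R R' : Type u} [CommRing R] [CommRing R'] (φ : R →+* R')
    (I : Ideal R) :
    IsPushout (CommRingCat.ofHom φ) (CommRingCat.ofHom (Ideal.Quotient.mk I))
      (CommRingCat.ofHom (Ideal.Quotient.mk (I.map φ)))
      (CommRingCat.ofHom (Ideal.quotientMap (I.map φ) φ Ideal.le_comap_map)) := by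
  have hw : CommRingCat.ofHom φ ≫ CommRingCat.ofHom (Ideal.Quotient.mk (I.map φ)) =
      CommRingCat.ofHom (Ideal.Quotient.mk I) ≫
        CommRingCat.ofHom (Ideal.quotientMap (I.map φ) φ Ideal.le_comap_map) := by
    refine CommRingCat.hom_ext (RingHom.ext fun x => ?_)
    simp
  have hcond : ∀ s : PushoutCocone (CommRingCat.ofHom φ) (CommRingCat.ofHom (Ideal.Quotient.mk I)),
      s.inl.hom.comp φ = s.inr.hom.comp (Ideal.Quotient.mk I) := fun s => congr($(s.condition).hom)
  have hker : ∀ s : PushoutCocone (CommRingCat.ofHom φ) (CommRingCat.ofHom (Ideal.Quotient.mk I)),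
      ∀ a ∈ I.map φ, s.inl.hom a = 0 := by
    intro s a ha
    have hle : I.map φ ≤ RingHom.ker s.inl.hom := by
      rw [Ideal.map_le_iff_le_comap]
      intro x hx
      change s.inl.hom (φ x) = 0
      have := congr($(hcond s) x)
      simp only [RingHom.comp_apply] at this
      rw [this, Ideal.Quotient.eq_zero_iff_mem.mpr hx, map_zero]
    exact hle ha
  refine ⟨⟨hw⟩, ⟨PushoutCocone.IsColimit.mk _ (fun s => CommRingCat.ofHom
    (Ideal.Quotient.lift (I.map φ) s.inl.hom (hker s))) ?_ ?_ ?_⟩⟩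
  · intro s
    refine CommRingCat.hom_ext (RingHom.ext fun x => ?_)
    simp
  · intro s
    refine CommRingCat.hom_ext (Ideal.Quotient.ringHom_ext (RingHom.ext fun x => ?_))
    have := congr($(hcond s) x)
    simpa using this
  · intro s m h1 h2
    refine CommRingCat.hom_ext (Ideal.Quotient.ringHom_ext (RingHom.ext fun x => ?_))
    have := congr($(h1).hom x)
    simpa using this

/-- S17965. -/
theorem exists_proper_over_henselian (A : Type u) [CommRing A] [IsNoetherianRing A] (I : Ideal A)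
    {X : Scheme.{u}} (f : X ⟶ Spec (CommRingCat.of A)) [IsProper f]
    (hX : ∀ (Y : Scheme.{u}) (g : Y ⟶ X), IsFinite g →
      ∀ V : Set ↥(pullback g (pullback.fst f
          (Spec.map (CommRingCat.ofHom (Ideal.Quotient.mk I))))), IsClopen V →
        ∃! U : Set ↥Y, IsClopen U ∧ (pullback.fst g (pullback.fst f
          (Spec.map (CommRingCat.ofHom (Ideal.Quotient.mk I))))).base ⁻¹' U = V) :
    ∃ (A' : Type u) (_ : CommRing A') (I' : Ideal A') (_ : HenselianRing A' I')
      (_ : IsNoetherianRing A')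
      (f' : X ⟶ Spec (CommRingCat.of A')) (_ : IsProper f')
      (t : pullback f (Spec.map (CommRingCat.ofHom (Ideal.Quotient.mk I))) ⟶
        Spec (CommRingCat.of (A' ⧸ I'))),
      IsPullback (pullback.fst f (Spec.map (CommRingCat.ofHom (Ideal.Quotient.mk I)))) t f'
        (Spec.map (CommRingCat.ofHom (Ideal.Quotient.mk I'))) := by
  obtain ⟨hN, hgP, hiso, hfac, hrange⟩ := setup A I f
  have hH := henselian_of_couple A I f hX
  set j : Spec (CommRingCat.of (A ⧸ I)) ⟶ Spec (CommRingCat.of A) :=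
    Spec.map (CommRingCat.ofHom (Ideal.Quotient.mk I)) with hj
  set p : pullback f j ⟶ X := pullback.fst f j with hp
  set φc : CommRingCat.of A ⟶ Γ(X, ⊤) := (Scheme.ΓSpecIso (CommRingCat.of A)).inv ≫ f.appTop
    with hφc
  set g : X ⟶ Spec Γ(X, ⊤) := X.toSpecΓ with hg
  set J : Ideal Γ(X, ⊤) := I.map φc.hom with hJ
  have sq := isPushout_quotientMap' φc.hom I
  have pb := isPullback_SpecMap_of_isPushout _ _ _ _ sq
  have hφ : Spec.map (CommRingCat.ofHom φc.hom) = Spec.map φc := rfl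
  rw [hφ] at pb
  have hcomm : (p ≫ g) ≫ Spec.map φc = pullback.snd f j ≫ j := by
    rw [Category.assoc, ← hfac]
    exact pullback.condition
  let t : pullback f j ⟶ Spec (CommRingCat.of (Γ(X, ⊤) ⧸ J)) :=
    pb.lift (p ≫ g) (pullback.snd f j) hcomm
  have ht1 : t ≫ Spec.map (CommRingCat.ofHom (Ideal.Quotient.mk J)) = p ≫ g :=
    pb.lift_fst _ _ _
  have ht2 : t ≫ Spec.map (CommRingCat.ofHom
      (Ideal.quotientMap J φc.hom Ideal.le_comap_map)) = pullback.snd f j := pb.lift_snd _ _ _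
  have big : IsPullback p (t ≫ Spec.map (CommRingCat.ofHom
      (Ideal.quotientMap J φc.hom Ideal.le_comap_map))) (g ≫ Spec.map φc) j := by
    rw [ht2, ← hfac]
    exact IsPullback.of_hasPullback f j
  have res : IsPullback p t g (Spec.map (CommRingCat.ofHom (Ideal.Quotient.mk J))) :=
    IsPullback.of_bot big ht1.symm pb
  exact ⟨Γ(X, ⊤), inferInstance, J, hH, hN, g, hgP, t, res⟩

end Groth.Agent.Lib.Helper12.Pi0F
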