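import Mathlib

set_option autoImplicit false
universe u
open CategoryTheory CategoryTheory.Limits AlgebraicGeometry Opposite

namespace Groth.Agent.Lib.Helper12.PointFactor

/-- a ring map from `A` to a reduced ring `B` all of whose primes contract to `p` factors through
the residue field of `p`. -/
lemma exists_residueField_factor {A B : Type u} [CommRing A] [CommRing B] [IsReduced B]
    (φ : A →+* B) (p : Ideal A) [p.IsPrime]
    (h : ∀ q : PrimeSpectrum B, q.asIdeal.comap φ = p) :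
    ∃ ψ : p.ResidueField →+* B, ψ.comp (algebraMap A p.ResidueField) = φ := by
  have h0 : ∀ a ∈ p, φ a = 0 := by
    intro a ha
    have : IsNilpotent (φ a) := by
      rw [nilpotent_iff_mem_prime]
      intro J hJ
      have := h ⟨J, hJ⟩
      have ha' : a ∈ Ideal.comap φ J := by rw [this]; exact ha
      exact ha'
    exact this.eq_zero
  have h1 : ∀ a : p.primeCompl, IsUnit (φ a) := by
    rintro ⟨a, ha⟩
    by_contra hu
    obtain ⟨M, hM, haM⟩ := exists_max_ideal_of_mem_nonunits hu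
    have := h ⟨M, hM.isPrime⟩
    apply ha
    rw [← this]
    exact haM
  let ψ₀ : Localization.AtPrime p →+* B := IsLocalization.lift (M := p.primeCompl) h1
  have hker : ∀ x ∈ IsLocalRing.maximalIdeal (Localization.AtPrime p), ψ₀ x = 0 := by
    intro x hx
    obtain ⟨a, s, rfl⟩ := IsLocalization.exists_mk'_eq p.primeCompl x
    rw [IsLocalization.AtPrime.mk'_mem_maximal_iff (Localization.AtPrime p) p] at hx
    rw [IsLocalization.lift_mk', h0 a hx, zero_mul]
  refine ⟨Ideal.Quotient.lift _ ψ₀ hker, ?_⟩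
  ext a
  rw [RingHom.comp_apply]
  change (Ideal.Quotient.lift _ ψ₀ hker) (Ideal.Quotient.mk _ (algebraMap A (Localization.AtPrime p) a)) = _
  rw [Ideal.Quotient.lift_mk, IsLocalization.lift_eq]


/-- a morphism from a reduced scheme which is locally constant (on points) near `w` factors near
`w` through the spectrum of a field. -/
theorem exists_field_factor {W U : Scheme.{u}} [IsReduced W] (g : W ⟶ U) (w : W) (O : W.Opens)
    (hwO : w ∈ O) (hO : ∀ w' ∈ O, g w' = g w) :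
    ∃ (W₀ : W.Opens) (_ : w ∈ W₀) (K : Type u) (_ : Field K) (c : Spec (CommRingCat.of K) ⟶ U)
      (m : (W₀ : Scheme.{u}) ⟶ Spec (CommRingCat.of K)), m ≫ c = W₀.ι ≫ g := by
  obtain ⟨V, hV, huV, -⟩ : ∃ V : U.Opens, V ∈ U.affineOpens ∧ g w ∈ V ∧ V ≤ ⊤ :=
    TopologicalSpace.Opens.isBasis_iff_nbhd.1 U.isBasis_affineOpens
      (TopologicalSpace.Opens.mem_top (g w))
  obtain ⟨W₀, hW₀, hwW₀, eW₀⟩ : ∃ W₀ : W.Opens, W₀ ∈ W.affineOpens ∧ w ∈ W₀ ∧ W₀ ≤ O ⊓ g ⁻¹ᵁ V :=
    TopologicalSpace.Opens.isBasis_iff_nbhd.1 W.isBasis_affineOpens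
      (show w ∈ O ⊓ g ⁻¹ᵁ V from ⟨hwO, huV⟩)
  have e : W₀ ≤ g ⁻¹ᵁ V := eW₀.trans inf_le_right
  have hV' : IsAffineOpen V := hV
  have hW₀' : IsAffineOpen W₀ := hW₀
  let p := (hV'.primeIdealOf ⟨g w, huV⟩).asIdeal
  have key : ∀ q : PrimeSpectrum Γ(W, W₀), q.asIdeal.comap (g.appLE V W₀ e).hom = p := by
    intro q
    have h1 : hV'.fromSpec ((Spec.map (g.appLE V W₀ e)) q) = g (hW₀'.fromSpec q) := by
      rw [← Scheme.Hom.comp_apply, ← Scheme.Hom.comp_apply, IsAffineOpen.SpecMap_appLE_fromSpec]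
    have h2 : hW₀'.fromSpec q ∈ W₀ := by
      have : hW₀'.fromSpec q ∈ Set.range hW₀'.fromSpec := ⟨q, rfl⟩
      rw [IsAffineOpen.range_fromSpec] at this
      exact this
    rw [hO _ (eW₀ h2).1] at h1
    have h1' := h1.trans (hV'.fromSpec_primeIdealOf ⟨g w, huV⟩).symm
    have h3 := hV'.fromSpec.isOpenEmbedding.injective h1'
    exact congrArg PrimeSpectrum.asIdeal h3
  obtain ⟨ψ, hψ⟩ := exists_residueField_factor (g.appLE V W₀ e).hom p key
  refine ⟨W₀, hwW₀, p.ResidueField, inferInstance,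
    Spec.map (CommRingCat.ofHom (algebraMap Γ(U, V) p.ResidueField)) ≫ hV'.fromSpec,
    hW₀'.isoSpec.hom ≫ Spec.map (CommRingCat.ofHom ψ), ?_⟩
  rw [Category.assoc, ← Category.assoc (Spec.map _), ← Spec.map_comp, ← CommRingCat.ofHom_comp, hψ,
    CommRingCat.ofHom_hom, IsAffineOpen.SpecMap_appLE_fromSpec _ hV' hW₀', ← Category.assoc,
    IsAffineOpen.isoSpec_hom_fromSpec]

end Groth.Agent.Lib.Helper12.PointFactor
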