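import Mathlib
import Groth.Agent.Lib.Helper12Proper
import Groth.Agent.S9903
import Groth.Agent.S9904
import Groth.Agent.S9906
import Groth.Agent.S9908
import Groth.Agent.S9912
import Groth.Agent.S9913
import Groth.Agent.S9916
import Groth.Agent.S9917
import Groth.Agent.S9922
import Groth.Agent.S9923
import Groth.Agent.S9924
import Groth.Agent.S9949
import Groth.Agent.S10211

/-!
# Proper / finite / integral morphisms of algebraic spaces: locality on the target (helper12)
-/

set_option autoImplicit false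
universe u
open CategoryTheory CategoryTheory.Limits AlgebraicGeometry
open AlgSp

namespace Groth.Agent.Lib.Helper12.ProperLoc

open CategoryTheory.Limits Opposite MorphismProperty Groth.Agent.Lib.Helper12.LocPGen
  Groth.Agent.Lib.Helper12.Proper

variable {S : Scheme.{u}}

/-- two pullbacks of the same cospan: the second projection of one is the base change of the other's
along the identity. -/
lemma isPullback_iso_of_two {E : Type*} [Category E] {P P' X Y Z : E} {fst : P ⟶ X} {snd : P ⟶ Y}
    {fst' : P' ⟶ X} {snd' : P' ⟶ Y} {f : X ⟶ Z} {g : Y ⟶ Z}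
    (h : IsPullback fst snd f g) (h' : IsPullback fst' snd' f g) :
    IsPullback (h.isoIsPullback _ _ h').hom snd snd' (𝟙 Y) :=
  IsPullback.of_horiz_isIso ⟨by rw [IsPullback.isoIsPullback_hom_snd, Category.comp_id]⟩

/-- `LocP P` of a morphism to a scheme can be checked on an affine open cover of the target. -/
lemma locP_of_target_affineOpens (P : MorphismProperty Scheme.{u}) [IsZariskiLocalAtTarget P]
    (hcancel : ∀ {A B C : Scheme.{u}} (u : A ⟶ B) (k : B ⟶ C), Etale k → P (u ≫ k) → P u)
    {F : AlgSp.Sp S} {V : Over S} (s : F ⟶ (AlgSp.yon S).obj V)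
    (h : ∀ (Z : Over S) (j : Z ⟶ V), IsAffine Z.left → IsOpenImmersion j.left →
      ∀ (Q : AlgSp.Sp S) (fstQ : Q ⟶ F) (sndQ : Q ⟶ (AlgSp.yon S).obj Z),
        IsPullback fstQ sndQ s ((AlgSp.yon S).map j) → AlgSp.LocP P sndQ) :
    AlgSp.LocP P s := by
  intro U V' a b hh ha hb hcomm
  obtain ⟨β, rfl⟩ := (AlgSp.yon S).map_surjective b
  have hβ : Etale β.left := (AlgSp.repWith_yon_map_iff _ _).1 hb
  refine hcancel hh.left β.left hβ ?_
  obtain ⟨k, hk⟩ : ∃ k : U ⟶ V, k = hh ≫ β := ⟨_, rfl⟩
  have hcomm' : a ≫ s = (AlgSp.yon S).map k := by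
    rw [hk, Functor.map_comp]; exact hcomm
  suffices key : P k.left by rw [hk] at key; exact key
  refine (IsZariskiLocalAtTarget.iff_of_openCover (P := P) V.left.affineCover).2 (fun i => ?_)
  have hwZ : pullback.snd k.left (V.left.affineCover.f i) ≫ (V.left.affineCover.f i ≫ V.hom) =
      pullback.fst k.left (V.left.affineCover.f i) ≫ U.hom := by
    rw [← Category.assoc, ← pullback.condition, Category.assoc, Over.w k]
  let Z : Over S := Over.mk (V.left.affineCover.f i ≫ V.hom)
  let j : Z ⟶ V := Over.homMk (V.left.affineCover.f i) rfl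
  let U' : Over S := Over.mk (pullback.fst k.left (V.left.affineCover.f i) ≫ U.hom)
  let pU : U' ⟶ U := Over.homMk (pullback.fst k.left (V.left.affineCover.f i)) rfl
  let pZ : U' ⟶ Z := Over.homMk (pullback.snd k.left (V.left.affineCover.f i)) hwZ
  have hZa : IsAffine Z.left := by
    show IsAffine (V.left.affineCover.X i)
    infer_instance
  have hjo : IsOpenImmersion j.left := by
    show IsOpenImmersion (V.left.affineCover.f i)
    infer_instance
  have sqO : IsPullback pU pZ k j :=
    IsPullback.of_map (Over.forget S) (Over.OverMorphism.ext pullback.condition)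
      (IsPullback.of_hasPullback k.left (V.left.affineCover.f i))
  have sqY := sqO.map (AlgSp.yon S)
  have sqQ := IsPullback.of_hasPullback s ((AlgSp.yon S).map j)
  have hLoc := h Z j hZa hjo _ _ _ sqQ
  have hw : ((AlgSp.yon S).map pU ≫ a) ≫ s = (AlgSp.yon S).map pZ ≫ (AlgSp.yon S).map j := by
    rw [Category.assoc, hcomm', ← Functor.map_comp, ← Functor.map_comp, sqO.w]
  obtain ⟨a', ha'⟩ : ∃ a' : (AlgSp.yon S).obj U' ⟶ pullback s ((AlgSp.yon S).map j),
      a' = pullback.lift _ _ hw := ⟨_, rfl⟩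
  have ha'1 : a' ≫ pullback.fst _ _ = (AlgSp.yon S).map pU ≫ a := by rw [ha', pullback.lift_fst]
  have ha'2 : a' ≫ pullback.snd _ _ = (AlgSp.yon S).map pZ := by rw [ha', pullback.lift_snd]
  have left : IsPullback a' ((AlgSp.yon S).map pU) (pullback.fst s ((AlgSp.yon S).map j)) a := by
    refine IsPullback.of_right ?_ ha'1 sqQ.flip
    rw [ha'2, hcomm']
    exact sqY.flip
  have ha'e : AlgSp.RepWith @Etale a' :=
    MorphismProperty.of_isPullback (P := AlgSp.RepWith @Etale) left.flip ha
  exact hLoc a' (𝟙 _) pZ ha'e (AlgSp.repWith_id _ Z) (by rw [ha'2, Category.comp_id])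

/-- A proper morphism of schemes over `S` gives a proper morphism of sheaves. -/
lemma isProperMor_yon_map {W Z : Over S} (i : W ⟶ Z) [IsProper i.left] :
    AlgSp.IsProperMor ((AlgSp.yon S).map i) := by
  refine ⟨(AlgSp.isSeparatedMor_yon_map_iff i).2 inferInstance, ⟨?_, ?_⟩, ?_⟩
  · exact locP_yon_map_of @LocallyOfFiniteType (fun g hg => by haveI := hg; infer_instance)
      (fun u k hk h => lft_hcancel u k hk h) i inferInstance
  · exact Groth.Agent.S9912.isQuasiCompactMor_of_repWith (AlgSp.IsAlgSpace.yon_obj W)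
      (AlgSp.IsAlgSpace.yon_obj Z).diag _ ((AlgSp.repWith_yon_map_iff _ _).2 inferInstance)
  · intro T T' hT g fst snd sq
    exact Groth.Agent.S9922.isClosedMap_map_of_repWith snd
      (MorphismProperty.of_isPullback (P := AlgSp.RepWith @UniversallyClosed) sq
        ((AlgSp.repWith_yon_map_iff _ _).2 inferInstance))

/-- and conversely. -/
lemma isProper_of_isProperMor_yon_map {W Z : Over S} (i : W ⟶ Z)
    (h : AlgSp.IsProperMor ((AlgSp.yon S).map i)) : IsProper i.left := by
  haveI : IsSeparated i.left := (AlgSp.isSeparatedMor_yon_map_iff i).1 h.1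
  haveI : LocallyOfFiniteType i.left := AlgSp.locP_yon_map h.2.1.1
  haveI : UniversallyClosed i.left := (AlgSp.repWith_yon_map_iff _ _).1
    (Groth.Agent.S9922.repWith_universallyClosed_of_isUnivClosedMor _
      (AlgSp.representable_yon_map i) h.2.2)
  exact { }

/-- properness descends along a surjective étale base change from a scheme. -/
lemma isProperMor_of_etale_chart {X Y : AlgSp.Space S} (f : X ⟶ Y) (V : Over S)
    (p : (AlgSp.yon S).obj V ⟶ Y.obj) (hp : AlgSp.RepWith @Etale p)
    (hps : AlgSp.RepWith @Surjective p)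
    {P : AlgSp.Sp S} (fst : P ⟶ X.obj) (snd : P ⟶ (AlgSp.yon S).obj V)
    (sq : IsPullback fst snd f.hom p)
    (h : AlgSp.IsProperMor snd) : AlgSp.IsProperMor f.hom := by
  have hpo : AlgSp.IsUnivOpenMor p := fun Z Z' hZ c fst' snd' sq' =>
    Groth.Agent.S9908.isOpenMap_map_of_repWith _
      (Groth.Agent.S10211.repWith_universallyOpen_of_etale
        (MorphismProperty.of_isPullback (P := AlgSp.RepWith @Etale) sq' hp))
  exact ⟨(Groth.Agent.S9904.result f V p hp hps fst snd sq).1 h.1,
    ⟨Groth.Agent.S9949.result f V p hp hps fst snd sq h.2.1.1,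
     Groth.Agent.S9916.isQuasiCompactMor_of_univOpen_surjective X.property Y.property
      (AlgSp.IsAlgSpace.yon_obj V) f.hom p fst snd sq hpo
      (Groth.Agent.S9906.surjective_map_of_repWith p hps) h.2.1.2⟩,
    Groth.Agent.S9924.result f V p hp hps fst snd sq h.2.2⟩

/-- properness can be tested after base change to affine schemes. -/
lemma isProperMor_of_affine {X Y : AlgSp.Space S} (f : X ⟶ Y)
    (H : ∀ (Z : Over S), IsAffine Z.left → ∀ (g : (AlgSp.yon S).obj Z ⟶ Y.obj) (P : AlgSp.Sp S)
      (fst : P ⟶ X.obj) (snd : P ⟶ (AlgSp.yon S).obj Z), IsPullback fst snd f.hom g →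
      AlgSp.IsProperMor snd) :
    AlgSp.IsProperMor f.hom := by
  refine ⟨(Groth.Agent.S9903.result f).1.2
    (fun Z hZ g P fst snd sq => (H Z hZ g P fst snd sq).1), ⟨?_, ?_⟩, ?_⟩
  · obtain ⟨V, p, hp, hps⟩ := Y.property.atlas
    refine Groth.Agent.S9949.result f V p hp hps (pullback.fst f.hom p) (pullback.snd f.hom p)
      (IsPullback.of_hasPullback _ _) ?_
    refine locP_of_target_affineOpens @LocallyOfFiniteType
      (fun u k hk h => lft_hcancel u k hk h) _ ?_
    intro Z j hZ hj Q fstQ sndQ sqQ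
    exact (H Z hZ ((AlgSp.yon S).map j ≫ p) Q (fstQ ≫ pullback.fst f.hom p) sndQ
      (sqQ.paste_horiz (IsPullback.of_hasPullback f.hom p))).2.1.1
  · refine (Groth.Agent.S9917.result f).2 (fun Z hZ g P fst snd sq => ?_)
    haveI : IsAffine Z.left := hZ
    exact (H Z hZ g P fst snd sq).2.1.2 (AlgSp.IsAlgSpace.yon_obj Z)
      (Groth.Agent.S9913.isQuasiCompactSp_yon_of_compact Z) (𝟙 _) (𝟙 P) snd IsPullback.of_id_fst
  · refine (Groth.Agent.S9923.result f).2 (fun Z hZ g P fst snd sq => ?_)
    exact (H Z hZ g P fst snd sq).2.2 (AlgSp.IsAlgSpace.yon_obj Z) (𝟙 _) (𝟙 P) snd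
      IsPullback.of_id_fst

/-- a finite morphism of algebraic spaces is proper. -/
lemma isProperMor_of_isFiniteMor {X Y : AlgSp.Space S} (f : X ⟶ Y)
    (h : AlgSp.IsFiniteMor f.hom) : AlgSp.IsProperMor f.hom := by
  refine isProperMor_of_affine f (fun Z hZ g P fst snd sq => ?_)
  obtain ⟨W, i, fst', sq', hW, hi⟩ := h hZ g
  haveI : IsFinite i.left := hi
  exact isProperMor_baseChange (AlgSp.IsAlgSpace.yon_obj W) (AlgSp.IsAlgSpace.yon_obj Z)
    (AlgSp.IsAlgSpace.yon_obj Z) (isPullback_iso_of_two sq sq') (isProperMor_yon_map i)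

/-- an integral morphism of algebraic spaces is universally closed. -/
lemma isUnivClosedMor_of_isIntegralMor {X Y : AlgSp.Space S} (f : X ⟶ Y)
    (h : AlgSp.IsIntegralMor f.hom) : AlgSp.IsUnivClosedMor f.hom := by
  refine (Groth.Agent.S9923.result f).2 (fun Z hZ g P fst snd sq => ?_)
  obtain ⟨W, i, fst', sq', hW, hi⟩ := h hZ g
  haveI : UniversallyClosed i.left := (IsIntegralHom.iff_universallyClosed_and_isAffineHom.1 hi).1
  exact Groth.Agent.S9922.isClosedMap_map_of_repWith snd
    (MorphismProperty.of_isPullback (P := AlgSp.RepWith @UniversallyClosed)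
      (isPullback_iso_of_two sq sq') ((AlgSp.repWith_yon_map_iff _ _).2 inferInstance))

end Groth.Agent.Lib.Helper12.ProperLoc
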