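import Mathlib

set_option backward.isDefEq.respectTransparency.types false
set_option autoImplicit false
universe u
open TensorProduct

namespace Groth.Agent.Lib.Helper12.QFBoundA

/-- linear algebra core: a finite-dimensional commutative `K`-algebra `C`, finitely many elements
`ρ j` generating the unit ideal, and subspaces `P j` stable under multiplication by `ρ j` and
absorbing every element after multiplication by a power of `ρ j`: then
`dim C ≤ ∑ dim P j`. -/
lemma finrank_le_sum {K C : Type u} [Field K] [CommRing C] [Algebra K C] [Module.Finite K C]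
    {J : Type u} [Fintype J] (ρ : J → C) (hρ : Ideal.span (Set.range ρ) = ⊤)
    (P : J → Submodule K C) (hP : ∀ j, ∀ p ∈ P j, ρ j * p ∈ P j)
    (habs : ∀ j, ∀ c : C, ∃ N : ℕ, ρ j ^ N * c ∈ P j) (m : J → ℕ)
    (hm : ∀ j, Module.finrank K (P j) ≤ m j) :
    Module.finrank K C ≤ ∑ j, m j := by
  classical
  -- stability under powers
  have hPpow : ∀ j (n : ℕ), ∀ p ∈ P j, ρ j ^ n * p ∈ P j := by
    intro j n
    induction n with
    | zero => intro p hp; simpa using hp
    | succ n ih =>
      intro p hp
      rw [pow_succ', mul_assoc]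
      exact hP j _ (ih p hp)
  -- uniform exponent
  obtain ⟨s, hs⟩ := (Module.Finite.fg_top : (⊤ : Submodule K C).FG)
  choose Nf hNf using habs
  let N : ℕ := (Finset.univ : Finset J).sup fun j => s.sup fun c => Nf j c
  have hN : ∀ j, ∀ c : C, ρ j ^ N * c ∈ P j := by
    intro j c
    have hc : c ∈ Submodule.span K (s : Set C) := by rw [hs]; trivial
    induction hc using Submodule.span_induction with
    | mem x hx =>
      have h1 : Nf j x ≤ N :=
        le_trans (Finset.le_sup (f := fun c => Nf j c) hx)
          (Finset.le_sup (f := fun j => s.sup fun c => Nf j c) (Finset.mem_univ j))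
      obtain ⟨k, hk⟩ := Nat.exists_eq_add_of_le h1
      rw [hk, add_comm, pow_add, mul_assoc]
      exact hPpow j k _ (hNf j x)
    | zero => simp
    | add x y _ _ hx hy => rw [mul_add]; exact (P j).add_mem hx hy
    | smul a x _ hx => rw [mul_smul_comm]; exact (P j).smul_mem a hx
  -- the injective map
  let Ψ : C →ₗ[K] (∀ j, P j) :=
    LinearMap.pi fun j => LinearMap.codRestrict (P j) (LinearMap.mulLeft K (ρ j ^ N))
      (fun c => hN j c)
  have hΨ : Function.Injective Ψ := by
    rw [← LinearMap.ker_eq_bot, LinearMap.ker_eq_bot']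
    intro c hc
    have h0 : ∀ j, ρ j ^ N * c = 0 := by
      intro j
      have := congrArg (fun f => ((f j : P j) : C)) hc
      simpa [Ψ] using this
    have htop : Ideal.span (Set.range fun j => ρ j ^ N) = ⊤ := by
      have := Ideal.span_pow_eq_top _ hρ N
      rwa [← Set.range_comp] at this
    have h1 : (1 : C) ∈ Ideal.span (Set.range fun j => ρ j ^ N) := by rw [htop]; trivial
    have key : ∀ x ∈ Ideal.span (Set.range fun j => ρ j ^ N), x * c = 0 := by
      intro x hx
      induction hx using Submodule.span_induction with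
      | mem x hx => obtain ⟨j, rfl⟩ := hx; exact h0 j
      | zero => simp
      | add x y _ _ hx hy => rw [add_mul, hx, hy, add_zero]
      | smul a x _ hx => rw [smul_eq_mul, mul_assoc, hx, mul_zero]
    simpa using key 1 h1
  calc Module.finrank K C ≤ Module.finrank K (∀ j, P j) :=
        LinearMap.finrank_le_finrank_of_injective hΨ
    _ = ∑ j, Module.finrank K (P j) := Module.finrank_pi_fintype K
    _ ≤ ∑ j, m j := Finset.sum_le_sum fun j _ => hm j

end Groth.Agent.Lib.Helper12.QFBoundA

namespace Groth.Agent.Lib.Helper12.QFBoundA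

open Algebra in
/-- **uniform bound on fibre dimensions of a quasi-finite algebra of finite type** (via Zariski's
main theorem). -/
theorem exists_bound (A B : Type u) [CommRing A] [CommRing B] [Algebra A B]
    [Algebra.FiniteType A B] [Algebra.QuasiFinite A B] :
    ∃ n : ℕ, ∀ (K : Type u) [Field K] [Algebra A K],
      Module.Finite K (K ⊗[A] B) ∧ Module.finrank K (K ⊗[A] B) ≤ n := by
  classical
  have H : ∀ q : PrimeSpectrum B, ∃ S' : Subalgebra A B, S'.toSubmodule.FG ∧ ∃ r : S',
      r.1 ∉ q.asIdeal ∧ Function.Bijective (Localization.awayMap S'.val.toRingHom r) := fun q =>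
    Algebra.QuasiFiniteAt.exists_fg_and_exists_notMem_and_awayMap_bijective (R := A) q.asIdeal
  choose S' hfg r hr hbij using H
  choose gens hgens using hfg
  -- the `r q` generate the unit ideal
  have htop : Ideal.span (Set.range fun q : PrimeSpectrum B => (r q).1) = ⊤ := by
    by_contra hne
    obtain ⟨m, hm, hle⟩ := Ideal.exists_le_maximal _ hne
    exact hr ⟨m, hm.isPrime⟩ (hle (Ideal.subset_span ⟨⟨m, hm.isPrime⟩, rfl⟩))
  obtain ⟨s', hs', hs'top⟩ := (Ideal.span_eq_top_iff_finite _).1 htop
  rw [← Set.image_univ] at hs'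
  obtain ⟨t, -, rfl⟩ := Finset.subset_set_image_iff.1 hs'
  refine ⟨∑ j : {q // q ∈ t}, (gens j.1).card, fun K _ _ => ?_⟩
  haveI : Module.Finite K (K ⊗[A] B) := Module.Finite.of_quasiFinite
  refine ⟨inferInstance, ?_⟩
  let ρ : {q // q ∈ t} → K ⊗[A] B := fun j => (1 : K) ⊗ₜ[A] (r j.1).1
  let P : {q // q ∈ t} → Submodule K (K ⊗[A] B) := fun j =>
    Submodule.span K ((fun b : B => (1 : K) ⊗ₜ[A] b) '' (S' j.1 : Set B))
  refine finrank_le_sum ρ ?_ P ?_ ?_ _ ?_
  · -- unit ideal
    have h1 : Ideal.map (Algebra.TensorProduct.includeRight : B →ₐ[A] K ⊗[A] B).toRingHom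
        (Ideal.span ((t.image fun q : PrimeSpectrum B => (r q).1 : Finset B) : Set B)) = ⊤ := by
      rw [hs'top, Ideal.map_top]
    rw [Ideal.map_span] at h1
    rw [_root_.eq_top_iff, ← h1]
    refine Ideal.span_mono ?_
    rintro _ ⟨b, hb, rfl⟩
    rw [Finset.coe_image] at hb
    obtain ⟨q, hq, rfl⟩ := hb
    exact ⟨⟨q, hq⟩, rfl⟩
  · intro j p hp
    induction hp using Submodule.span_induction with
    | mem x hx =>
      obtain ⟨b, hb, rfl⟩ := hx
      refine Submodule.subset_span ⟨(r j.1).1 * b, (S' j.1).mul_mem (r j.1).2 hb, ?_⟩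
      simp [ρ]
    | zero => simp
    | add x y _ _ hx hy => rw [mul_add]; exact Submodule.add_mem _ hx hy
    | smul a x _ hx => rw [mul_smul_comm]; exact Submodule.smul_mem _ a hx
  · intro j c
    have hPρ : ∀ (n : ℕ), ∀ p ∈ P j, ρ j ^ n * p ∈ P j := by
      intro n
      induction n with
      | zero => intro p hp; simpa using hp
      | succ n ih =>
        intro p hp
        rw [pow_succ', mul_assoc]
        have := ih p hp
        revert this
        generalize ρ j ^ n * p = p'
        intro hp'
        induction hp' using Submodule.span_induction with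
        | mem x hx =>
          obtain ⟨b, hb, rfl⟩ := hx
          refine Submodule.subset_span ⟨(r j.1).1 * b, (S' j.1).mul_mem (r j.1).2 hb, ?_⟩
          simp [ρ]
        | zero => simp
        | add x y _ _ hx hy => rw [mul_add]; exact Submodule.add_mem _ hx hy
        | smul a x _ hx => rw [mul_smul_comm]; exact Submodule.smul_mem _ a hx
    induction c using TensorProduct.induction_on with
    | zero => exact ⟨0, by simp⟩
    | tmul k b =>
      obtain ⟨b', m, hb'⟩ := Localization.awayMap_surjective_iff.1 (hbij j.1).2 b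
      refine ⟨m, ?_⟩
      have h2 : ρ j ^ m * (k ⊗ₜ[A] b) = k • ((1 : K) ⊗ₜ[A] ((r j.1).1 ^ m * b)) := by
        simp [ρ, Algebra.TensorProduct.tmul_pow, TensorProduct.smul_tmul']
      rw [h2]
      refine Submodule.smul_mem _ _ (Submodule.subset_span ⟨_, ?_, rfl⟩)
      have h3 : (r j.1).1 ^ m * b = (b' : B) := hb'.symm
      rw [h3]
      exact b'.2
    | add x y hx hy =>
      obtain ⟨n1, h1⟩ := hx
      obtain ⟨n2, h2⟩ := hy
      refine ⟨n1 + n2, ?_⟩
      rw [mul_add]
      refine Submodule.add_mem _ ?_ ?_
      · rw [add_comm, pow_add, mul_assoc]; exact hPρ n2 _ h1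
      · rw [pow_add, mul_assoc]; exact hPρ n1 _ h2
  · intro j
    have hle : P j ≤ Submodule.span K
        (((gens j.1).image fun b : B => (1 : K) ⊗ₜ[A] b : Finset (K ⊗[A] B)) :
          Set (K ⊗[A] B)) := by
      have key : ∀ b ∈ Submodule.span A (gens j.1 : Set B), (1 : K) ⊗ₜ[A] b ∈ Submodule.span K
          (((gens j.1).image fun b : B => (1 : K) ⊗ₜ[A] b : Finset (K ⊗[A] B)) :
            Set (K ⊗[A] B)) := by
        intro b hb'
        induction hb' using Submodule.span_induction with
        | mem x hx =>
          exact Submodule.subset_span (by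
            rw [Finset.coe_image]; exact ⟨x, hx, rfl⟩)
        | zero => simp
        | add x y _ _ hx hy =>
          rw [TensorProduct.tmul_add]; exact Submodule.add_mem _ hx hy
        | smul a x _ hx =>
          have : (1 : K) ⊗ₜ[A] (a • x) = (algebraMap A K a) • ((1 : K) ⊗ₜ[A] x) := by
            rw [TensorProduct.smul_tmul', Algebra.algebraMap_eq_smul_one, smul_assoc, one_smul,
              TensorProduct.smul_tmul]
          rw [this]
          exact Submodule.smul_mem _ _ hx
      refine Submodule.span_le.2 ?_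
      rintro _ ⟨b, hb, rfl⟩
      exact key b (by rw [hgens j.1]; exact hb)
    calc Module.finrank K (P j) ≤ Module.finrank K (Submodule.span K
        (((gens j.1).image fun b : B => (1 : K) ⊗ₜ[A] b : Finset (K ⊗[A] B)) :
          Set (K ⊗[A] B))) := Submodule.finrank_mono hle
      _ ≤ ((gens j.1).image fun b : B => (1 : K) ⊗ₜ[A] b).card := finrank_span_finset_le_card _
      _ ≤ (gens j.1).card := Finset.card_image_le

end Groth.Agent.Lib.Helper12.QFBoundA
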