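import Mathlib
import Groth.Agent.Lib.Helper12QFBoundA

set_option backward.isDefEq.respectTransparency.types false
set_option autoImplicit false
universe u
open CategoryTheory CategoryTheory.Limits AlgebraicGeometry TensorProduct

namespace Groth.Agent.Lib.Helper12.QFBoundB

/-- Spec case. -/
theorem exists_bound_Spec (A B : Type u) [CommRing A] [CommRing B] [Algebra A B]
    [Algebra.FiniteType A B] [Algebra.QuasiFinite A B] :
    ∃ n : ℕ, ∀ (K : Type u) [Field K] (e : Spec (CommRingCat.of K) ⟶ Spec (CommRingCat.of A)),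
      IsFinite (pullback.snd (Spec.map (CommRingCat.ofHom (algebraMap A B))) e) ∧
      ∀ s, (pullback.snd (Spec.map (CommRingCat.ofHom (algebraMap A B))) e).finrank s ≤ n := by
  obtain ⟨n, hn⟩ := Groth.Agent.Lib.Helper12.QFBoundA.exists_bound A B
  refine ⟨n, fun K _ e => ?_⟩
  obtain ⟨ψ, rfl⟩ := Spec.map_surjective e
  letI : Algebra A K := ψ.hom.toAlgebra
  have hψ : ψ = CommRingCat.ofHom (algebraMap A K) := rfl
  obtain ⟨hfin, hrank⟩ := hn K
  have h1 : pullback.snd (Spec.map (CommRingCat.ofHom (algebraMap A B))) (Spec.map ψ) =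
      (pullbackSymmetry _ _).hom ≫ (pullbackSpecIso A K B).hom ≫
        Spec.map (CommRingCat.ofHom (algebraMap K (K ⊗[A] B))) := by
    show pullback.snd (Spec.map (CommRingCat.ofHom (algebraMap A B)))
      (Spec.map (CommRingCat.ofHom (algebraMap A K))) = _
    rw [pullbackSpecIso_hom_fst', pullbackSymmetry_hom_comp_fst]
  haveI : Module.Flat K (K ⊗[A] B) := inferInstance
  haveI : IsFinite (Spec.map (CommRingCat.ofHom (algebraMap K (K ⊗[A] B)))) := by
    rw [IsFinite.SpecMap_iff]
    simpa [RingHom.finite_algebraMap] using hfin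
  haveI : Flat (Spec.map (CommRingCat.ofHom (algebraMap K (K ⊗[A] B)))) := by
    rw [Flat.SpecMap_iff]
    simpa [RingHom.flat_algebraMap_iff]
  rw [h1]
  refine ⟨inferInstance, fun s => ?_⟩
  rw [← Category.assoc, Scheme.Hom.finrank_comp_left_of_isIso,
    Scheme.Hom.finrank_SpecMap_algebraMap, Module.rankAtStalk_eq_finrank_of_free]
  exact hrank

/-- general affine case. -/
theorem exists_bound_affine {W U : Scheme.{u}} [IsAffine W] [IsAffine U] (g : W ⟶ U)
    [LocallyQuasiFinite g] [LocallyOfFiniteType g] :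
    ∃ n : ℕ, ∀ (K : Type u) [Field K] (e : Spec (CommRingCat.of K) ⟶ U),
      IsFinite (pullback.snd g e) ∧ ∀ s, (pullback.snd g e).finrank s ≤ n := by
  have hqf : g.appTop.hom.QuasiFinite :=
    (HasRingHomProperty.iff_of_isAffine (P := @LocallyQuasiFinite)).1 inferInstance
  have hft : g.appTop.hom.FiniteType :=
    (HasRingHomProperty.iff_of_isAffine (P := @LocallyOfFiniteType)).1 inferInstance
  algebraize [g.appTop.hom]
  obtain ⟨n, hn⟩ := exists_bound_Spec Γ(U, ⊤) Γ(W, ⊤)
  refine ⟨n, fun K _ e => ?_⟩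
  have hnat : W.isoSpec.hom ≫ Spec.map g.appTop = g ≫ U.isoSpec.hom :=
    Scheme.isoSpec_hom_naturality g
  have sq : IsPullback (pullback.fst g e ≫ W.isoSpec.hom) (pullback.snd g e)
      (Spec.map g.appTop) (e ≫ U.isoSpec.hom) := by
    refine IsPullback.of_iso (IsPullback.of_hasPullback g e) (Iso.refl _) W.isoSpec (Iso.refl _)
      U.isoSpec (by simp) (by simp) hnat.symm (by simp)
  obtain ⟨h1, h2⟩ := hn K (e ≫ U.isoSpec.hom)
  have h3 : pullback.snd g e = sq.isoPullback.hom ≫
      pullback.snd (Spec.map g.appTop) (e ≫ U.isoSpec.hom) := sq.isoPullback_hom_snd.symm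
  have h4 : Spec.map g.appTop =
      Spec.map (CommRingCat.ofHom (algebraMap Γ(U, ⊤) Γ(W, ⊤))) := rfl
  rw [h3]
  haveI : IsFinite (pullback.snd (Spec.map g.appTop) (e ≫ U.isoSpec.hom)) := h1
  haveI : Flat (pullback.snd (Spec.map g.appTop) (e ≫ U.isoSpec.hom)) := by
    haveI : IsIntegral (Spec (CommRingCat.of K)) := inferInstance
    infer_instance
  refine ⟨inferInstance, fun s => ?_⟩
  rw [Scheme.Hom.finrank_comp_left_of_isIso]
  exact h2 s

end Groth.Agent.Lib.Helper12.QFBoundB
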