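import Mathlib
import Groth.Prelude.Def_W4decUnivBdd
import Groth.Agent.Lib.Helper12CardPts
import Groth.Agent.S10121
import Groth.Agent.S10176

/-!
# universally bounded fibres: helper lemmas (helper12)
-/

set_option autoImplicit false
universe u
open CategoryTheory CategoryTheory.Limits AlgebraicGeometry Opposite

namespace Groth.Agent.Lib.Helper12.UnivBdd

open Groth.Agent.S13210

variable {S : Scheme.{u}}

/-- the `K`-algebra structure on the global sections of a scheme over `Spec K`. -/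
@[reducible] noncomputable def gammaAlgebra {T : Scheme.{u}} {K : Type u} [Field K]
    (c : T ⟶ Spec (CommRingCat.of K)) : Algebra K Γ(T, ⊤) :=
  ((Scheme.ΓSpecIso (CommRingCat.of K)).inv ≫ c.appTop).hom.toAlgebra

/-- a finite scheme over a field: the rank is the dimension of the algebra of global sections. -/
lemma finrank_eq {T : Scheme.{u}} {K : Type u} [Field K]
    (c : T ⟶ Spec (CommRingCat.of K)) [IsFinite c] (s : ↥(Spec (CommRingCat.of K))) :
    ∃ (_ : Algebra K Γ(T, ⊤)),
      algebraMap K Γ(T, ⊤) = ((Scheme.ΓSpecIso (CommRingCat.of K)).inv ≫ c.appTop).hom ∧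
      Module.Finite K Γ(T, ⊤) ∧ c.finrank s = Module.finrank K Γ(T, ⊤) := by
  haveI : IsAffine T := isAffine_of_isAffineHom c
  let φ : CommRingCat.of K ⟶ Γ(T, ⊤) := (Scheme.ΓSpecIso (CommRingCat.of K)).inv ≫ c.appTop
  have hc : c = T.isoSpec.hom ≫ Spec.map φ := by
    have h1 := Scheme.isoSpec_hom_naturality c
    have h2 : c = (c ≫ (Spec (CommRingCat.of K)).isoSpec.hom) ≫
        (Spec (CommRingCat.of K)).isoSpec.inv := by simp
    rw [h2, ← h1, Category.assoc, Scheme.isoSpec_Spec_inv, ← Spec.map_comp]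
  haveI : IsFinite (Spec.map φ) := by
    have : Spec.map φ = T.isoSpec.inv ≫ c := by rw [hc, Iso.inv_hom_id_assoc]
    rw [this]
    infer_instance
  have hfin : φ.hom.Finite := (IsFinite.SpecMap_iff _).1 inferInstance
  algebraize [φ.hom]
  have hflat : φ.hom.Flat := by
    show Module.Flat K Γ(T, ⊤)
    infer_instance
  haveI : Flat (Spec.map φ) := (Flat.SpecMap_iff).2 hflat
  refine ⟨inferInstance, rfl, hfin, ?_⟩
  rw [hc, Scheme.Hom.finrank_comp_left_of_isIso, Scheme.Hom.finrank_SpecMap_eq_finrank hfin hflat,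
    ← RingHom.algebraMap_toAlgebra φ.hom, RingHom.finrank_algebraMap,
    Module.rankAtStalk_eq_finrank_of_free]
  rfl

/-- the empty scheme is finite of degree `0` over a field. -/
lemma degLE_of_isEmpty {T : Scheme.{u}} {K : Type u} [Field K]
    (c : T ⟶ Spec (CommRingCat.of K)) [IsEmpty ↥T] (n : ℕ) :
    IsFinite c ∧ ∀ s, c.finrank s ≤ n := by
  have hfin : IsFinite c := by
    rw [HasAffineProperty.iff_of_isAffine (P := @IsFinite)]
    refine ⟨inferInstance, ?_⟩
    letI := c.appTop.hom.toAlgebra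
    show Module.Finite _ Γ(T, ⊤)
    infer_instance
  refine ⟨hfin, fun s => ?_⟩
  obtain ⟨_, -, -, h⟩ := finrank_eq c s
  rw [h, Module.finrank_zero_of_subsingleton]
  exact Nat.zero_le _

/-- the field-valued point given by a morphism from the spectrum of a field. -/
noncomputable def fpOf {F : AlgSp.Sp S} {K : Type u} [Field K] (str : Spec (CommRingCat.of K) ⟶ S)
    (a : (AlgSp.yon S).obj (Over.mk str) ⟶ F) : AlgSp.FieldPt F :=
  ⟨K, str, yEquiv _ F a⟩

lemma fpOf_toHom {F : AlgSp.Sp S} {K : Type u} [Field K] (str : Spec (CommRingCat.of K) ⟶ S)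
    (a : (AlgSp.yon S).obj (Over.mk str) ⟶ F) : (fpOf str a).toHom = a :=
  Equiv.symm_apply_apply _ _

lemma mk_fpOf {F : AlgSp.Sp S} {K : Type u} [Field K] (str : Spec (CommRingCat.of K) ⟶ S)
    (a : (AlgSp.yon S).obj (Over.mk str) ⟶ F) :
    AlgSp.Points.mk (fpOf str a) = Groth.Agent.S10121.ptOf str a := rfl

lemma mk_eq_ptOf {F : AlgSp.Sp S} (q : AlgSp.FieldPt F) :
    AlgSp.Points.mk q = Groth.Agent.S10121.ptOf q.str q.toHom := by
  rw [Groth.Agent.S10121.ptOf]
  congr 1
  obtain ⟨K, str, val⟩ := q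
  change (⟨K, str, val⟩ : AlgSp.FieldPt F) = ⟨K, str, _⟩
  congr 1
  exact ((yEquiv (Over.mk str) F).apply_symm_apply val).symm

end Groth.Agent.Lib.Helper12.UnivBdd
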