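import Mathlib
import Groth.Agent.Lib.Helper12UnivBdd

/-!
# universally bounded fibres: descending finiteness over a field along flat surjections (helper12)
-/

set_option autoImplicit false
universe u
open CategoryTheory CategoryTheory.Limits AlgebraicGeometry Opposite

namespace Groth.Agent.Lib.Helper12.UnivBdd

/-- version of `finrank_eq` for a given algebra structure. -/
lemma finrank_eq' {T : Scheme.{u}} {K : Type u} [Field K]
    (c : T ⟶ Spec (CommRingCat.of K)) [IsFinite c] (s : ↥(Spec (CommRingCat.of K)))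
    [alg : Algebra K Γ(T, ⊤)]
    (h : algebraMap K Γ(T, ⊤) = ((Scheme.ΓSpecIso (CommRingCat.of K)).inv ≫ c.appTop).hom) :
    Module.Finite K Γ(T, ⊤) ∧ c.finrank s = Module.finrank K Γ(T, ⊤) := by
  obtain ⟨alg', h1, h2, h3⟩ := finrank_eq c s
  have : alg = alg' := Algebra.algebra_ext _ _ fun r => by rw [h, h1]
  subst this
  exact ⟨h2, h3⟩

/-- a ring map compatible with algebra maps, as a linear map. -/
def linOfRingHom {K A B : Type u} [Field K] [CommRing A] [CommRing B] [Algebra K A] [Algebra K B]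
    (g : B →+* A) (h : ∀ k, g (algebraMap K B k) = algebraMap K A k) : B →ₗ[K] A :=
  ({ g with commutes' := h } : B →ₐ[K] A).toLinearMap

lemma linOfRingHom_apply {K A B : Type u} [Field K] [CommRing A] [CommRing B] [Algebra K A]
    [Algebra K B] (g : B →+* A) (h : ∀ k, g (algebraMap K B k) = algebraMap K A k) (b : B) :
    linOfRingHom g h b = g b := rfl

/-- if `X ⟶ Y` is flat and surjective and `X` is finite over a field, then so is `Y`, of smaller
degree. -/
lemma degLE_of_flat_surjective {X Y : Scheme.{u}} {K : Type u} [Field K] (p : X ⟶ Y)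
    (c : Y ⟶ Spec (CommRingCat.of K)) [Surjective p] [Flat p] [IsFinite (p ≫ c)]
    (s : ↥(Spec (CommRingCat.of K))) :
    IsFinite c ∧ c.finrank s ≤ (p ≫ c).finrank s := by
  haveI : IsLocallyArtinian X := IsLocallyArtinian.of_locallyQuasiFinite (p ≫ c)
  haveI : CompactSpace ↥X := QuasiCompact.compactSpace_of_compactSpace (p ≫ c)
  haveI : Finite ↥X := finite_of_compact_of_discrete
  haveI : Finite ↥Y := Finite.of_surjective p p.surjective
  haveI : T1Space ↥Y := by
    rw [t1Space_iff_specializes_imp_eq]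
    intro y' y hy
    obtain ⟨x, rfl⟩ := p.surjective y
    obtain ⟨x', hx', rfl⟩ := (Flat.generalizingMap p) hy
    rw [specializes_iff_eq.1 hx']
  haveI : DiscreteTopology ↥Y := inferInstance
  haveI : IsAffine Y := inferInstance
  haveI : IsAffine X := isAffine_of_isAffineHom (p ≫ c)
  have hff : p.appTop.hom.FaithfullyFlat :=
    (Flat.flat_and_surjective_iff_faithfullyFlat_of_isAffine p).1 ⟨inferInstance, inferInstance⟩
  have hinj : Function.Injective p.appTop.hom := hff.injective
  obtain ⟨algA, hA1, hA2, hA3⟩ := finrank_eq (p ≫ c) s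
  letI algB : Algebra K Γ(Y, ⊤) :=
    ((Scheme.ΓSpecIso (CommRingCat.of K)).inv ≫ c.appTop).hom.toAlgebra
  have hB : algebraMap K Γ(Y, ⊤) =
      ((Scheme.ΓSpecIso (CommRingCat.of K)).inv ≫ c.appTop).hom := rfl
  have hcompat : ∀ k, p.appTop.hom (algebraMap K Γ(Y, ⊤) k) = algebraMap K Γ(X, ⊤) k := by
    intro k
    rw [hA1, hB, Scheme.Hom.comp_appTop]
    rfl
  let L : Γ(Y, ⊤) →ₗ[K] Γ(X, ⊤) := linOfRingHom p.appTop.hom hcompat
  have hL : Function.Injective L := hinj
  haveI : Module.Finite K Γ(Y, ⊤) := Module.Finite.of_injective L hL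
  have hfinc : IsFinite c := by
    rw [HasAffineProperty.iff_of_isAffine (P := @IsFinite)]
    refine ⟨inferInstance, ?_⟩
    have h1 : ((Scheme.ΓSpecIso (CommRingCat.of K)).inv ≫ c.appTop).hom.Finite :=
      (inferInstance : Module.Finite K Γ(Y, ⊤))
    have h2 : c.appTop = (Scheme.ΓSpecIso (CommRingCat.of K)).hom ≫
        ((Scheme.ΓSpecIso (CommRingCat.of K)).inv ≫ c.appTop) := by
      rw [Iso.hom_inv_id_assoc]
    rw [h2, CommRingCat.hom_comp]
    exact h1.comp (RingHom.Finite.of_surjective _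
      (ConcreteCategory.bijective_of_isIso (Scheme.ΓSpecIso (CommRingCat.of K)).hom).surjective)
  refine ⟨hfinc, ?_⟩
  obtain ⟨-, hB3⟩ := finrank_eq' c s hB
  rw [hB3, hA3]
  exact LinearMap.finrank_le_finrank_of_injective hL

end Groth.Agent.Lib.Helper12.UnivBdd
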