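import Mathlib
import Groth.Agent.Lib.Helper12UnivBdd2

/-!
# universally bounded fibres: composition (helper12)

* `finrank_le_mul`: a dimension bound for modules over finite-dimensional algebras with bounded fibres.
* `isFinite_of_fibres`: a morphism to a finite scheme over a field with finite fibres is finite.
* `finrank_comp_le`: the degree bound for a composition.
-/

set_option autoImplicit false
universe u
open CategoryTheory CategoryTheory.Limits AlgebraicGeometry Opposite TensorProduct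

namespace Groth.Agent.Lib.Helper12.UnivBdd



section
variable {K A M : Type u} [Field K] [CommRing A] [Algebra K A] [Module.Finite K A]
  [AddCommGroup M] [Module A M] [Module K M] [IsScalarTower K A M] [Module.Finite A M]

/-- if all fibres `M ⊗ A/𝔪` of a finite module `M` over a finite-dimensional `K`-algebra `A` have
`K`-dimension at most `n * [A/𝔪 : K]`, then `dim_K (M ⊗ N) ≤ n * dim_K N` for all `N`. -/
lemma finrank_tensor_le (n : ℕ)
    (hfib : ∀ 𝔪 : Ideal A, 𝔪.IsMaximal →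
      Module.finrank K (M ⊗[A] (A ⧸ 𝔪)) ≤ n * Module.finrank K (A ⧸ 𝔪)) :
    ∀ (d : ℕ) (N : Type u) [AddCommGroup N] [Module A N] [Module K N] [IsScalarTower K A N]
      [Module.Finite K N], Module.finrank K N = d →
      Module.finrank K (M ⊗[A] N) ≤ n * Module.finrank K N := by
  intro d
  induction d using Nat.strong_induction_on with
  | _ d ih =>
  intro N _ _ _ _ _ hd
  by_cases hN : Subsingleton N
  · haveI := hN
    rw [Module.finrank_zero_of_subsingleton]
    exact Nat.zero_le _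
  rw [not_subsingleton_iff_nontrivial] at hN
  haveI := hN
  haveI : IsNoetherian K N := inferInstance
  haveI : IsNoetherian A N := isNoetherian_of_tower K inferInstance
  obtain ⟨N', hN'⟩ : ∃ N' : Submodule A N, IsCoatom N' := by
    obtain h | ⟨N', h, -⟩ := eq_top_or_exists_le_coatom (⊥ : Submodule A N)
    · exact absurd h bot_ne_top
    · exact ⟨N', h⟩
  haveI : IsSimpleModule A (N ⧸ N') := isSimpleModule_iff_isCoatom.2 hN'
  obtain ⟨𝔪, h𝔪, ⟨e⟩⟩ := isSimpleModule_iff_quot_maximal.1 ‹IsSimpleModule A (N ⧸ N')›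
  haveI : Module.Finite A N := Module.Finite.of_restrictScalars_finite K A N
  haveI : Module.Finite K (M ⊗[A] N) := Module.Finite.trans A _
  haveI : Module.Finite K ↥N' :=
    Module.Finite.of_injective (N'.subtype.restrictScalars K) N'.injective_subtype
  haveI : Module.Finite A ↥N' := Module.Finite.of_restrictScalars_finite K A ↥N'
  haveI : Module.Finite K (M ⊗[A] ↥N') := Module.Finite.trans A _
  have hdimq : Module.finrank K (N ⧸ N') = Module.finrank K (A ⧸ 𝔪) :=
    LinearEquiv.finrank_eq (e.restrictScalars K)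
  have hdim : Module.finrank K N = Module.finrank K N' + Module.finrank K (A ⧸ 𝔪) := by
    rw [← hdimq]
    have := Submodule.finrank_quotient_add_finrank (N'.restrictScalars K)
    have h2 : Module.finrank K (N ⧸ N'.restrictScalars K) = Module.finrank K (N ⧸ N') :=
      LinearEquiv.finrank_eq (Submodule.Quotient.restrictScalarsEquiv K N')
    rw [h2] at this
    rw [← this, add_comm]
    rfl
  haveI : Nontrivial (A ⧸ 𝔪) := Ideal.Quotient.nontrivial_iff.2 h𝔪.ne_top
  have hpos : 0 < Module.finrank K (A ⧸ 𝔪) := Module.finrank_pos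
  have ih' := ih (Module.finrank K N') (by omega) N' rfl
  have hex : Function.Exact N'.subtype N'.mkQ := LinearMap.exact_subtype_mkQ N'
  have hsurj : Function.Surjective N'.mkQ := N'.mkQ_surjective
  have hex' := lTensor_exact M hex hsurj
  have hsurj' := LinearMap.lTensor_surjective M hsurj
  let f' : M ⊗[A] N' →ₗ[K] M ⊗[A] N := (LinearMap.lTensor M N'.subtype).restrictScalars K
  let g' : M ⊗[A] N →ₗ[K] M ⊗[A] (N ⧸ N') := (LinearMap.lTensor M N'.mkQ).restrictScalars K
  have h1 := LinearMap.finrank_range_add_finrank_ker g'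
  have h2 : Module.finrank K (LinearMap.range g') = Module.finrank K (M ⊗[A] (N ⧸ N')) := by
    have : LinearMap.range g' = ⊤ := LinearMap.range_eq_top.2 hsurj'
    rw [this, finrank_top]
  have h3 : LinearMap.ker g' = LinearMap.range f' := by
    ext x
    exact hex' x
  have h4 : Module.finrank K (LinearMap.range f') ≤ Module.finrank K (M ⊗[A] N') :=
    LinearMap.finrank_range_le f'
  have h5 : Module.finrank K (M ⊗[A] (N ⧸ N')) = Module.finrank K (M ⊗[A] (A ⧸ 𝔪)) :=
    LinearEquiv.finrank_eq ((LinearEquiv.lTensor M e).restrictScalars K)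
  have h6 := hfib 𝔪 h𝔪
  rw [h3] at h1
  rw [hdim, Nat.mul_add]
  omega

/-- the dimension bound for `M` itself. -/
lemma finrank_le_mul (n : ℕ)
    (hfib : ∀ 𝔪 : Ideal A, 𝔪.IsMaximal →
      Module.finrank K (M ⊗[A] (A ⧸ 𝔪)) ≤ n * Module.finrank K (A ⧸ 𝔪)) :
    Module.finrank K M ≤ n * Module.finrank K A := by
  have h := finrank_tensor_le (M := M) n hfib _ A rfl
  rwa [LinearEquiv.finrank_eq ((TensorProduct.rid A M).restrictScalars K)] at h

end



/-- a morphism to a finite scheme over a field, all of whose fibres over field-valued points are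
finite, is finite. -/
lemma isFinite_of_fibres {T T' : Scheme.{u}} {K : Type u} [Field K]
    (c' : T' ⟶ Spec (CommRingCat.of K)) [IsFinite c'] (r : T ⟶ T')
    (hfib : ∀ (L : Type u) [Field L] (e : Spec (CommRingCat.of L) ⟶ T'),
      IsFinite (pullback.snd r e)) : IsFinite r := by
  haveI : IsLocallyArtinian T' := IsLocallyArtinian.of_locallyQuasiFinite c'
  haveI : CompactSpace ↥T' := QuasiCompact.compactSpace_of_compactSpace c'
  haveI : Finite ↥T' := finite_of_compact_of_discrete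
  haveI : IsAffine T' := isAffine_of_isAffineHom c'
  have hfin : ∀ t' : ↥T', IsFinite (r.fiberToSpecResidueField t') := fun t' =>
    hfib (T'.residueField t') (T'.fromSpecResidueField t')
  haveI : LocallyQuasiFinite r :=
    LocallyQuasiFinite.of_fiberToSpecResidueField r fun t' =>
      haveI := hfin t'
      inferInstance
  have hfs : ∀ t' : ↥T', (r ⁻¹' {t'}).Finite := by
    intro t'
    haveI := hfin t'
    obtain ⟨hF, -⟩ := Groth.Agent.Lib.Helper12.CardPts.card_le_of_finrank_le (K := T'.residueField t')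
      (r.fiberToSpecResidueField t') _ (IsLocalRing.closedPoint _ : PrimeSpectrum _) le_rfl
    rw [← Scheme.Hom.range_fiberι]
    exact Set.finite_range _
  haveI : Finite ↥T := by
    have : (r ⁻¹' (Set.univ : Set ↥T')).Finite :=
      Set.finite_univ.preimage' fun t' _ => hfs t'
    rw [Set.preimage_univ] at this
    exact Set.finite_univ_iff.1 this
  haveI : CompactSpace ↥T := Finite.compactSpace
  haveI : QuasiCompact r := (HasAffineProperty.iff_of_isAffine (P := @QuasiCompact)).2 ‹_›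
  exact IsFinite.of_locallyQuasiFinite r



lemma isoSpec_inv_appTop' (X : Scheme.{u}) [IsAffine X] :
    X.isoSpec.inv.appTop = (Scheme.ΓSpecIso Γ(X, ⊤)).inv := by
  have h1 : X.isoSpec.hom.appTop = (Scheme.ΓSpecIso Γ(X, ⊤)).hom := by
    rw [Scheme.isoSpec_hom, Scheme.toSpecΓ_appTop]
  have h2 : X.isoSpec.hom.appTop ≫ X.isoSpec.inv.appTop = 𝟙 _ := by
    rw [← Scheme.Hom.comp_appTop, Iso.inv_hom_id]
    rfl
  rw [h1] at h2
  exact (Iso.eq_inv_comp _).2 h2 |>.trans (Category.comp_id _)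

/-- from the fibre at the closed point `Spec (A/𝔪) ⟶ T'` to the tensor product. -/
lemma finrank_fibre_tensor {T T' : Scheme.{u}} [IsAffine T] [IsAffine T'] (r : T ⟶ T')
    (𝔪 : Ideal Γ(T', ⊤)) [𝔪.IsMaximal] (n : ℕ)
    (hfin : IsFinite (pullback.snd r (Spec.map (CommRingCat.ofHom (Ideal.Quotient.mk 𝔪)) ≫
      T'.isoSpec.inv)))
    (hrank : ∀ s, (pullback.snd r (Spec.map (CommRingCat.ofHom (Ideal.Quotient.mk 𝔪)) ≫
      T'.isoSpec.inv)).finrank s ≤ n) :
    letI := Ideal.Quotient.field 𝔪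
    letI : Algebra Γ(T', ⊤) Γ(T, ⊤) := r.appTop.hom.toAlgebra
    Module.finrank (Γ(T', ⊤) ⧸ 𝔪) ((Γ(T', ⊤) ⧸ 𝔪) ⊗[Γ(T', ⊤)] Γ(T, ⊤)) ≤ n := by
  letI := Ideal.Quotient.field 𝔪
  letI algAB : Algebra Γ(T', ⊤) Γ(T, ⊤) := r.appTop.hom.toAlgebra
  let L := Γ(T', ⊤) ⧸ 𝔪
  let e : Spec (CommRingCat.of L) ⟶ T' :=
    Spec.map (CommRingCat.ofHom (Ideal.Quotient.mk 𝔪)) ≫ T'.isoSpec.inv
  haveI : IsFinite (pullback.snd r e) := hfin
  obtain ⟨algLP, hLP1, hLP2, hLP3⟩ := finrank_eq (pullback.snd r e)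
    (IsLocalRing.closedPoint L : PrimeSpectrum L)
  have hn : Module.finrank L Γ(pullback r e, ⊤) ≤ n := hLP3 ▸ hrank _
  have hpo := isPushout_appTop_of_isPullback (IsPullback.of_hasPullback r e)
  have he : e.appTop ≫ (Scheme.ΓSpecIso (CommRingCat.of L)).hom =
      CommRingCat.ofHom (Ideal.Quotient.mk 𝔪) := by
    simp only [e, Scheme.Hom.comp_appTop, isoSpec_inv_appTop', Category.assoc,
      Scheme.ΓSpecIso_naturality]
    exact Iso.inv_hom_id_assoc _ _
  have he' : e.appTop = CommRingCat.ofHom (Ideal.Quotient.mk 𝔪) ≫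
      (Scheme.ΓSpecIso (CommRingCat.of L)).inv := by
    rw [← he, Category.assoc, Iso.hom_inv_id, Category.comp_id]
  letI algBP : Algebra Γ(T, ⊤) Γ(pullback r e, ⊤) := (pullback.fst r e).appTop.hom.toAlgebra
  letI algAP : Algebra Γ(T', ⊤) Γ(pullback r e, ⊤) :=
    ((algebraMap Γ(T, ⊤) Γ(pullback r e, ⊤)).comp (algebraMap Γ(T', ⊤) Γ(T, ⊤))).toAlgebra
  haveI : IsScalarTower Γ(T', ⊤) Γ(T, ⊤) Γ(pullback r e, ⊤) := .of_algebraMap_eq' rfl
  have hw := hpo.w
  haveI : IsScalarTower Γ(T', ⊤) L Γ(pullback r e, ⊤) := by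
    refine .of_algebraMap_eq' ?_
    rw [hLP1]
    show ((pullback.fst r e).appTop.hom).comp r.appTop.hom = _
    rw [← CommRingCat.hom_comp, hw, he']
    rfl
  have hAP : Algebra.IsPushout Γ(T', ⊤) L Γ(T, ⊤) Γ(pullback r e, ⊤) := by
    rw [← CommRingCat.isPushout_iff_isPushout]
    refine hpo.flip.of_iso (Iso.refl _) (Scheme.ΓSpecIso (CommRingCat.of L)) (Iso.refl _)
      (Iso.refl _) ?_ ?_ ?_ ?_
    · rw [he, Iso.refl_hom, Category.id_comp]
    · rw [Iso.refl_hom, Iso.refl_hom, Category.id_comp, Category.comp_id]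
      rfl
    · rw [Iso.refl_hom, Category.comp_id, hLP1]
      simp
    · rw [Iso.refl_hom, Iso.refl_hom, Category.id_comp, Category.comp_id]
      rfl
  have eqv := Algebra.IsPushout.equiv Γ(T', ⊤) L Γ(T, ⊤) Γ(pullback r e, ⊤)
  rw [LinearEquiv.finrank_eq eqv.toLinearEquiv]
  exact hn


/-- the degree bound for a composition `T ⟶ T' ⟶ Spec K` with `T'` finite over `K` and all fibres
of `T ⟶ T'` over field-valued points of degree at most `n`. -/
lemma finrank_comp_le {T T' : Scheme.{u}} {K : Type u} [Field K]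
    (c' : T' ⟶ Spec (CommRingCat.of K)) [IsFinite c'] (r : T ⟶ T') [IsFinite r] (n : ℕ)
    (hfib : ∀ (L : Type u) [Field L] (e : Spec (CommRingCat.of L) ⟶ T'),
      IsFinite (pullback.snd r e) ∧ ∀ s, (pullback.snd r e).finrank s ≤ n)
    (s : ↥(Spec (CommRingCat.of K))) :
    (r ≫ c').finrank s ≤ n * c'.finrank s := by
  haveI : IsAffine T' := isAffine_of_isAffineHom c'
  haveI : IsAffine T := isAffine_of_isAffineHom r
  letI algKA : Algebra K Γ(T', ⊤) :=
    ((Scheme.ΓSpecIso (CommRingCat.of K)).inv ≫ c'.appTop).hom.toAlgebra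
  letI algAB : Algebra Γ(T', ⊤) Γ(T, ⊤) := r.appTop.hom.toAlgebra
  letI algKB : Algebra K Γ(T, ⊤) :=
    ((algebraMap Γ(T', ⊤) Γ(T, ⊤)).comp (algebraMap K Γ(T', ⊤))).toAlgebra
  haveI : IsScalarTower K Γ(T', ⊤) Γ(T, ⊤) := IsScalarTower.of_algebraMap_eq' rfl
  obtain ⟨hfinA, hA⟩ := finrank_eq' c' s rfl
  obtain ⟨hfinB, hB⟩ := finrank_eq' (r ≫ c') s (by rw [Scheme.Hom.comp_appTop]; rfl)
  haveI : Module.Finite Γ(T', ⊤) Γ(T, ⊤) := r.finite_appTop
  rw [hA, hB]
  refine finrank_le_mul n fun 𝔪 h𝔪 => ?_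
  haveI := h𝔪
  letI := Ideal.Quotient.field 𝔪
  obtain ⟨h1, h2⟩ := hfib (Γ(T', ⊤) ⧸ 𝔪)
    (Spec.map (CommRingCat.ofHom (Ideal.Quotient.mk 𝔪)) ≫ T'.isoSpec.inv)
  have h3 := finrank_fibre_tensor r 𝔪 n h1 h2
  rw [LinearEquiv.finrank_eq
      ((TensorProduct.comm Γ(T', ⊤) Γ(T, ⊤) (Γ(T', ⊤) ⧸ 𝔪)).restrictScalars K),
    ← Module.finrank_mul_finrank K (Γ(T', ⊤) ⧸ 𝔪) ((Γ(T', ⊤) ⧸ 𝔪) ⊗[Γ(T', ⊤)] Γ(T, ⊤)),
    mul_comm]
  exact Nat.mul_le_mul_right _ h3

end Groth.Agent.Lib.Helper12.UnivBdd
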