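import Mathlib
import Groth.Agent.Lib.Helper12QFBoundB
import Groth.Agent.Lib.Helper12UnivBdd3

set_option backward.isDefEq.respectTransparency.types false
set_option autoImplicit false
universe u
open CategoryTheory CategoryTheory.Limits AlgebraicGeometry TensorProduct

namespace Groth.Agent.Lib.Helper12.QFBoundC

variable {S : Scheme.{u}}

/-- scheme-level bound on fibre degrees gives `DegFibresLE` for the Yoneda image. -/
lemma degFibresLE_yonMap {U V : Over S} (f : V ⟶ U) (n : ℕ)
    (h : ∀ (K : Type u) [Field K] (e : Spec (CommRingCat.of K) ⟶ U.left),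
      IsFinite (pullback.snd f.left e) ∧ ∀ s, (pullback.snd f.left e).finrank s ≤ n) :
    W4dec.DegFibresLE n ((AlgSp.yon S).map f) := by
  intro q T c snd sq
  obtain ⟨s, rfl⟩ := (AlgSp.yon S).map_surjective snd
  obtain ⟨e, he⟩ := (AlgSp.yon S).map_surjective q.toHom
  rw [← he] at sq
  have sqO : IsPullback c s e f := IsPullback.of_map (AlgSp.yon S)
    ((AlgSp.yon S).map_injective (by
      rw [Functor.map_comp, Functor.map_comp]; exact sq.w)) sq
  have sqL : IsPullback s.left c.left f.left e.left := (sqO.map (Over.forget S)).flip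
  obtain ⟨h1, h2⟩ := h q.K e.left
  have h3 : c.left = sqL.isoPullback.hom ≫ pullback.snd f.left e.left :=
    sqL.isoPullback_hom_snd.symm
  haveI : IsFinite (pullback.snd f.left e.left) := h1
  haveI : IsIntegral q.pt.left := (inferInstance : IsIntegral (Spec (CommRingCat.of q.K)))
  haveI : Subsingleton ↥q.pt.left := (inferInstance : Subsingleton (PrimeSpectrum q.K))
  haveI : Flat (pullback.snd f.left e.left) := inferInstance
  rw [h3]
  refine ⟨inferInstance, fun s => ?_⟩
  rw [Scheme.Hom.finrank_comp_left_of_isIso]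
  exact h2 s

/-- a quasi-finite morphism of finite type between affine schemes has universally bounded
fibres. -/
lemma hasUnivBddFibres_of_affine {U V : Over S} (f : V ⟶ U) [IsAffine V.left] [IsAffine U.left]
    [LocallyQuasiFinite f.left] [LocallyOfFiniteType f.left] :
    W4dec.HasUnivBddFibres ((AlgSp.yon S).map f) := by
  obtain ⟨n, hn⟩ := Groth.Agent.Lib.Helper12.QFBoundB.exists_bound_affine f.left
  exact ⟨n, degFibresLE_yonMap f n hn⟩

/-- an open immersion has universally bounded fibres. -/
lemma hasUnivBddFibres_of_isOpenImmersion {U V : Over S} (f : V ⟶ U) [IsOpenImmersion f.left] :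
    W4dec.HasUnivBddFibres ((AlgSp.yon S).map f) := by
  refine ⟨1, degFibresLE_yonMap f 1 fun K _ e => ?_⟩
  by_cases hemp : IsEmpty ↥(pullback f.left e)
  · exact Groth.Agent.Lib.Helper12.UnivBdd.degLE_of_isEmpty _ 1
  · rw [not_isEmpty_iff] at hemp
    obtain ⟨x⟩ := hemp
    haveI : Surjective (pullback.snd f.left e) := ⟨fun y => ⟨x, Subsingleton.elim (α := PrimeSpectrum K) _ _⟩⟩
    haveI : IsIso (pullback.snd f.left e) :=
      (isIso_iff_isOpenImmersion_and_surjective _).2 ⟨inferInstance, inferInstance⟩
    refine ⟨inferInstance, fun s => ?_⟩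
    rw [Scheme.Hom.finrank_eq_one_of_isIso]
    rfl

end Groth.Agent.Lib.Helper12.QFBoundC
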