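import Mathlib
import Groth.Agent.Lib.Helper12UnivBdd3

set_option backward.isDefEq.respectTransparency.types false
set_option autoImplicit false
universe u
open CategoryTheory CategoryTheory.Limits AlgebraicGeometry TensorProduct TopologicalSpace

namespace Groth.Agent.Lib.Helper12.QFBoundD

open Groth.Agent.Lib.Helper12.UnivBdd

/-- a scheme over a field covered by finitely many opens, each finite of degree `≤ n j` over the
field, is finite of degree `≤ ∑ n j`. -/
lemma degLE_of_finite_openCover {T : Scheme.{u}} {K : Type u} [Field K]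
    (c : T ⟶ Spec (CommRingCat.of K)) {J : Type u} [Fintype J] (Tj : J → T.Opens)
    (hcov : ⨆ j, Tj j = ⊤) (n : J → ℕ)
    (h : ∀ j, IsFinite ((Tj j).ι ≫ c) ∧ ∀ s, ((Tj j).ι ≫ c).finrank s ≤ n j) :
    IsFinite c ∧ ∀ s, c.finrank s ≤ ∑ j, n j := by
  haveI hfj : ∀ j, IsFinite ((Tj j).ι ≫ c) := fun j => (h j).1
  haveI : LocallyQuasiFinite c :=
    IsZariskiLocalAtSource.of_iSup_eq_top (P := @LocallyQuasiFinite) Tj hcov
      fun j => inferInstance
  haveI hcj : ∀ j, CompactSpace ↥(Tj j) := fun j =>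
    QuasiCompact.compactSpace_of_compactSpace ((Tj j).ι ≫ c)
  haveI : CompactSpace ↥T := by
    rw [← isCompact_univ_iff]
    have h1 : (Set.univ : Set ↥T) = ⋃ j, ((Tj j : T.Opens) : Set ↥T) := by
      have := congrArg (fun U : T.Opens => (U : Set ↥T)) hcov
      simpa using this.symm
    rw [h1]
    exact isCompact_iUnion fun j => isCompact_iff_compactSpace.2 (hcj j)
  haveI : QuasiCompact c :=
    (HasAffineProperty.iff_of_isAffine (P := @QuasiCompact)).2 inferInstance
  haveI hfin : IsFinite c := IsFinite.of_locallyQuasiFinite c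
  refine ⟨hfin, fun s => ?_⟩
  obtain ⟨algT, hT1, hT2, hT3⟩ := finrank_eq c s
  have hj := fun j => finrank_eq ((Tj j).ι ≫ c) s
  choose algj hj1 hj2 hj3 using hj
  have hcompat : ∀ j, ∀ k, (Tj j).ι.appTop.hom (algebraMap K Γ(T, ⊤) k) =
      algebraMap K Γ(↑(Tj j), ⊤) k := by
    intro j k
    rw [hj1 j, hT1, Scheme.Hom.comp_appTop]
    rfl
  let L : Γ(T, ⊤) →ₗ[K] (∀ j, Γ(↑(Tj j), ⊤)) :=
    LinearMap.pi fun j => linOfRingHom (Tj j).ι.appTop.hom (hcompat j)
  have hL : Function.Injective L := by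
    intro a b hab
    refine (T.openCoverOfIsOpenCover Tj hcov).ext_elem a b fun j => ?_
    have := congrFun hab j
    exact this
  rw [hT3]
  calc Module.finrank K Γ(T, ⊤) ≤ Module.finrank K (∀ j, Γ(↑(Tj j), ⊤)) :=
        LinearMap.finrank_le_finrank_of_injective hL
    _ = ∑ j, Module.finrank K Γ(↑(Tj j), ⊤) := Module.finrank_pi_fintype K
    _ ≤ ∑ j, n j := Finset.sum_le_sum fun j _ => by rw [← hj3 j]; exact (h j).2 s

end Groth.Agent.Lib.Helper12.QFBoundD
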