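import Mathlib
import Groth.Agent.Lib.Helper12QFBoundC
import Groth.Agent.Lib.Helper12QFBoundD

set_option backward.isDefEq.respectTransparency.types false
set_option autoImplicit false
universe u
open CategoryTheory CategoryTheory.Limits AlgebraicGeometry TensorProduct TopologicalSpace

namespace Groth.Agent.Lib.Helper12.QFBoundE

variable {S : Scheme.{u}}

/-- the open subscheme of an `S`-scheme as an `S`-scheme. -/
noncomputable abbrev opOver (V : Over S) (U : V.left.Opens) : Over S := Over.mk (U.ι ≫ V.hom)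

/-- the inclusion. -/
noncomputable abbrev opι (V : Over S) (U : V.left.Opens) : opOver V U ⟶ V := Over.homMk U.ι rfl

/-- restriction square in `Over S`. -/
lemma isPullback_restrict {T V : Over S} (s : T ⟶ V) (U : V.left.Opens) :
    ∃ sU : opOver T (s.left ⁻¹ᵁ U) ⟶ opOver V U,
      IsPullback (opι T (s.left ⁻¹ᵁ U)) sU s (opι V U) := by
  have hw : (s.left ∣_ U) ≫ (opOver V U).hom = (opOver T (s.left ⁻¹ᵁ U)).hom := by
    show (s.left ∣_ U) ≫ U.ι ≫ V.hom = (s.left ⁻¹ᵁ U).ι ≫ T.hom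
    rw [← Category.assoc, morphismRestrict_ι, Category.assoc, Over.w s]
  refine ⟨Over.homMk (s.left ∣_ U) hw, ?_⟩
  have hcomm : opι T (s.left ⁻¹ᵁ U) ≫ s = Over.homMk (s.left ∣_ U) hw ≫ opι V U := by
    ext
    simp [morphismRestrict_ι]
  refine IsPullback.of_map (Over.forget S) hcomm ?_
  exact (isPullback_morphismRestrict s.left U).flip

/-- **finite open covers**: if `V` is covered by finitely many opens `V_j` such that each
`V_j ⟶ V ⟶ F` has universally bounded fibres, then so has `V ⟶ F`. -/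
lemma hasUnivBddFibres_of_finite_openCover {F : AlgSp.Sp S} {V : Over S}
    (ψ : (AlgSp.yon S).obj V ⟶ F) {J : Type u} [Fintype J] (Vj : J → V.left.Opens)
    (hcov : ⨆ j, Vj j = ⊤)
    (h : ∀ j, W4dec.HasUnivBddFibres ((AlgSp.yon S).map (opι V (Vj j)) ≫ ψ)) :
    W4dec.HasUnivBddFibres ψ := by
  choose n hn using h
  refine ⟨∑ j, n j, fun q T c snd sq => ?_⟩
  obtain ⟨s, rfl⟩ := (AlgSp.yon S).map_surjective snd
  have key : ∀ j, IsFinite ((s.left ⁻¹ᵁ Vj j).ι ≫ c.left) ∧
      ∀ x, ((s.left ⁻¹ᵁ Vj j).ι ≫ c.left).finrank x ≤ n j := by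
    intro j
    obtain ⟨sU, hsU⟩ := isPullback_restrict s (Vj j)
    have big := (hsU.map (AlgSp.yon S)).paste_horiz sq
    rw [← Functor.map_comp] at big
    exact hn j q _ (opι T (s.left ⁻¹ᵁ Vj j) ≫ c) _ big
  refine Groth.Agent.Lib.Helper12.QFBoundD.degLE_of_finite_openCover (K := q.K) c.left
    (fun j => s.left ⁻¹ᵁ Vj j) ?_ n key
  rw [← Scheme.Hom.preimage_iSup, hcov]
  rfl

end Groth.Agent.Lib.Helper12.QFBoundE
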