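import Mathlib
import Groth.Agent.Lib.Helper12QFBoundE
import Groth.Agent.S10424
import Groth.Agent.S10427
import Groth.Agent.S10176

set_option backward.isDefEq.respectTransparency.types false
set_option autoImplicit false
universe u
open CategoryTheory CategoryTheory.Limits AlgebraicGeometry TensorProduct TopologicalSpace

namespace Groth.Agent.Lib.Helper12.QFBoundF

open Groth.Agent.Lib.Helper12.QFBoundE Groth.Agent.Lib.Helper12.QFBoundC

variable {S : Scheme.{u}}

/-- étale morphisms are locally quasi-finite. -/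
lemma locallyQuasiFinite_of_etale {X Y : Scheme.{u}} (f : X ⟶ Y) [Etale f] :
    LocallyQuasiFinite f := by
  rw [HasRingHomProperty.iff_appLE (P := @LocallyQuasiFinite)]
  intro U V e
  have h : (f.appLE U.1 V.1 e).hom.Etale :=
    HasRingHomProperty.appLE (P := @Etale) f inferInstance U V e
  algebraize [(f.appLE U.1 V.1 e).hom]
  show Algebra.QuasiFinite _ _
  infer_instance

/-- restriction of an `S`-morphism to opens, as an `S`-morphism. -/
noncomputable def resOver {W U : Over S} (pr : W ⟶ U) (U' : U.left.Opens) (W' : W.left.Opens)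
    (hle : W' ≤ pr.left ⁻¹ᵁ U') : opOver W W' ⟶ opOver U U' :=
  Over.homMk (pr.left.resLE U' W' hle) (by
    show pr.left.resLE U' W' hle ≫ U'.ι ≫ U.hom = W'.ι ≫ W.hom
    rw [← Category.assoc, Scheme.Hom.resLE_comp_ι, Category.assoc, Over.w pr])

lemma resOver_comp {W U : Over S} (pr : W ⟶ U) (U' : U.left.Opens) (W' : W.left.Opens)
    (hle : W' ≤ pr.left ⁻¹ᵁ U') : resOver pr U' W' hle ≫ opι U U' = opι W W' ≫ pr := by
  ext
  simp [resOver, Scheme.Hom.resLE_comp_ι]

/-- **local step**: around every point of `V` there is an open `O` such that `O ⟶ V ⟶ X` has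
universally bounded fibres. -/
lemma exists_open_bdd (X : AlgSp.Space S) {ι : Type u} (U : ι → Over S)
    (φ : ∀ i, (AlgSp.yon S).obj (U i) ⟶ X.obj) (hφ : ∀ i, AlgSp.RepWith @Etale (φ i))
    (hsurj : ∀ x : AlgSp.Points X.obj, ∃ (i : ι) (v : ↥(U i).left), AlgSp.Points.ofPt (φ i) v = x)
    (hb : ∀ i, W4dec.HasUnivBddFibres (φ i)) {V : Over S} (ψ : (AlgSp.yon S).obj V ⟶ X.obj)
    (hψ : AlgSp.RepWith @Etale ψ) (v : ↥V.left) :
    ∃ O : V.left.Opens, v ∈ O ∧ W4dec.HasUnivBddFibres ((AlgSp.yon S).map (opι V O) ≫ ψ) := by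
  obtain ⟨i, u, hu⟩ := hsurj (AlgSp.Points.ofPt ψ v)
  obtain ⟨W, w, pr', sq⟩ := (hφ i).1 ψ
  obtain ⟨pr, rfl⟩ := (AlgSp.yon S).map_surjective pr'
  haveI : Etale w.left := (hφ i).2 ψ _ w sq
  haveI : Etale pr.left := hψ.2 (φ i) _ pr sq.flip
  obtain ⟨y, hy1, hy2⟩ := Groth.Agent.S10176.exists_point_of_isPullback_yon sq u v hu
  -- affine opens
  obtain ⟨_, ⟨U', hU', rfl⟩, huU', -⟩ := (U i).left.isBasis_affineOpens.exists_subset_of_mem_open
    (Set.mem_univ u) isOpen_univ
  obtain ⟨_, ⟨W', hW', rfl⟩, hyW', hle : W' ≤ pr.left ⁻¹ᵁ U'⟩ :=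
    W.left.isBasis_affineOpens.exists_subset_of_mem_open
      (show y ∈ ((pr.left ⁻¹ᵁ U' : W.left.Opens) : Set ↥W.left) by
        show pr.left y ∈ U'
        rw [hy1]; exact huU') (pr.left ⁻¹ᵁ U').2
  -- the image open
  let O : V.left.Opens := ⟨w.left '' (W' : Set ↥W.left), w.left.isOpenMap _ W'.2⟩
  have hleO : W' ≤ w.left ⁻¹ᵁ O := fun z hz => ⟨z, hz, rfl⟩
  refine ⟨O, ⟨y, hyW', hy2⟩, ?_⟩
  -- bounded: W' → U' → U i → X
  let r := resOver pr U' W' hle
  haveI : IsAffine (opOver W W').left := hW'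
  haveI : IsAffine (opOver (U i) U').left := hU'
  haveI : Etale r.left := by
    show Etale (pr.left.resLE U' W' hle)
    infer_instance
  haveI : LocallyQuasiFinite r.left := locallyQuasiFinite_of_etale _
  have b1 : W4dec.HasUnivBddFibres ((AlgSp.yon S).map r) := hasUnivBddFibres_of_affine r
  haveI : IsOpenImmersion (opι (U i) U').left := by
    show IsOpenImmersion (Scheme.Opens.ι U')
    infer_instance
  have b2 : W4dec.HasUnivBddFibres ((AlgSp.yon S).map (opι (U i) U')) :=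
    hasUnivBddFibres_of_isOpenImmersion _
  have b3 := Groth.Agent.S10424.result X (opι (U i) U') (φ i) b2 (hb i)
  have b4 := Groth.Agent.S10424.result X r _ b1 b3
  -- rewrite the composite
  let t := resOver w O W' hleO
  have e1 : (AlgSp.yon S).map r ≫ (AlgSp.yon S).map (opι (U i) U') ≫ φ i =
      (AlgSp.yon S).map t ≫ ((AlgSp.yon S).map (opι V O) ≫ ψ) := by
    rw [← Category.assoc, ← Functor.map_comp, resOver_comp, Functor.map_comp, Category.assoc,
      sq.w, ← Category.assoc, ← Functor.map_comp, ← resOver_comp w O W' hleO, Functor.map_comp,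
      Category.assoc]
  rw [e1] at b4
  haveI : Flat t.left := by
    show Flat (w.left.resLE O W' hleO)
    infer_instance
  haveI : Surjective t.left := by
    refine ⟨fun z => ?_⟩
    obtain ⟨z', hz', hz⟩ := z.2
    refine ⟨⟨z', hz'⟩, ?_⟩
    apply O.ι.injective
    show (t.left ≫ O.ι) ⟨z', hz'⟩ = _
    have : t.left ≫ O.ι = Scheme.Opens.ι W' ≫ w.left := Scheme.Hom.resLE_comp_ι _ _
    rw [this]
    exact hz
  exact Groth.Agent.S10427.result X t _ b4

/-- **étale covers by bounded charts**: if `X` has an étale cover by schemes with universally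
bounded fibres, every étale map from a quasi-compact scheme has universally bounded fibres. -/
theorem hasUnivBddFibres_of_cover (X : AlgSp.Space S) {ι : Type u} (U : ι → Over S)
    (φ : ∀ i, (AlgSp.yon S).obj (U i) ⟶ X.obj) (hφ : ∀ i, AlgSp.RepWith @Etale (φ i))
    (hsurj : ∀ x : AlgSp.Points X.obj, ∃ (i : ι) (v : ↥(U i).left), AlgSp.Points.ofPt (φ i) v = x)
    (hb : ∀ i, W4dec.HasUnivBddFibres (φ i)) {V : Over S} [CompactSpace ↥V.left]
    (ψ : (AlgSp.yon S).obj V ⟶ X.obj) (hψ : AlgSp.RepWith @Etale ψ) :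
    W4dec.HasUnivBddFibres ψ := by
  choose O hvO hO using fun v => exists_open_bdd X U φ hφ hsurj hb ψ hψ v
  obtain ⟨t, ht⟩ := isCompact_univ.elim_finite_subcover (fun v => ((O v : V.left.Opens) : Set ↥V.left))
    (fun v => (O v).2) (fun v _ => Set.mem_iUnion.2 ⟨v, hvO v⟩)
  refine hasUnivBddFibres_of_finite_openCover ψ (J := {v // v ∈ t}) (fun j => O j.1) ?_
    (fun j => hO j.1)
  rw [eq_top_iff]
  intro x _
  obtain ⟨v, hv⟩ := Set.mem_iUnion.1 (ht (Set.mem_univ x))
  obtain ⟨hvt, hxv⟩ := Set.mem_iUnion.1 hv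
  exact Opens.mem_iSup.2 ⟨⟨v, hvt⟩, hxv⟩

end Groth.Agent.Lib.Helper12.QFBoundF
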