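import Mathlib
import Groth.Agent.Lib.Helper12QFBoundF
import Groth.Agent.Lib.Helper12DecentPoint
import Groth.Agent.S10175
import Groth.Agent.S10177
import Groth.Agent.S10425
import Groth.Agent.S9928

set_option backward.isDefEq.respectTransparency.types false
set_option autoImplicit false
universe u
open CategoryTheory CategoryTheory.Limits AlgebraicGeometry TensorProduct TopologicalSpace

namespace Groth.Agent.Lib.Helper12.QFBoundG

open Groth.Agent.Lib.Helper12.QFBoundE Groth.Agent.Lib.Helper12.QFBoundC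
  Groth.Agent.Lib.Helper12.QFBoundF

variable {S : Scheme.{u}}

/-- an algebraic space has a jointly surjective family of étale charts from affine schemes,
indexed by a type in the universe of the base. -/
lemma exists_affine_etale_cover {X : AlgSp.Sp S} (hX : AlgSp.IsAlgSpace X) :
    ∃ (ι : Type u) (V : ι → Over S) (b : ∀ k, (AlgSp.yon S).obj (V k) ⟶ X),
      (∀ k, IsAffine (V k).left) ∧ (∀ k, AlgSp.RepWith @Etale (b k)) ∧
      ∀ x : AlgSp.Points X, ∃ (k : ι) (v : ↥(V k).left), AlgSp.Points.ofPt (b k) v = x := by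
  obtain ⟨A, a, hae, has⟩ := hX.atlas
  refine ⟨A.left.affineOpens, fun k => opOver A k.1, fun k => (AlgSp.yon S).map (opι A k.1) ≫ a,
    fun k => k.2, fun k => ?_, fun x => ?_⟩
  · exact (AlgSp.RepWith @Etale).comp_mem _ _
      ((AlgSp.repWith_yon_map_iff _ _).2 (inferInstance : Etale (Scheme.Opens.ι k.1))) hae
  · obtain ⟨u₀, rfl⟩ := Groth.Agent.S10177.surjective_ofPt a has x
    obtain ⟨A₀, hA₀, huA, -⟩ : ∃ V : A.left.Opens, V ∈ A.left.affineOpens ∧ u₀ ∈ V ∧ V ≤ ⊤ :=
      TopologicalSpace.Opens.isBasis_iff_nbhd.1 A.left.isBasis_affineOpens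
        (TopologicalSpace.Opens.mem_top u₀)
    refine ⟨⟨A₀, hA₀⟩, ⟨u₀, huA⟩, ?_⟩
    rw [Groth.Agent.S10176.ofPt_map_comp]
    rfl

/-- points of a fibre product `h_W = h_V ×_Y X`. -/
lemma exists_point_of_isPullback_left {X Y : AlgSp.Sp S} {V W : Over S} {w : W ⟶ V}
    {pr : (AlgSp.yon S).obj W ⟶ X} {b : (AlgSp.yon S).obj V ⟶ Y} {f : X ⟶ Y}
    (sq : IsPullback ((AlgSp.yon S).map w) pr b f) (v : ↥V.left) (x : AlgSp.Points X)
    (e : AlgSp.Points.ofPt b v = AlgSp.Points.map f x) :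
    ∃ y : ↥W.left, w.left y = v ∧ AlgSp.Points.ofPt pr y = x := by
  rw [AlgSp.Points.ofPt_eq_map_ofScheme] at e
  obtain ⟨p, hp1, hp2⟩ := Groth.Agent.S10175.exists_point_of_isPullback sq _ _ e
  obtain ⟨y, rfl⟩ := (AlgSp.Points.schemeHomeo W).surjective p
  refine ⟨y, ?_, ?_⟩
  · apply (AlgSp.Points.schemeHomeo V).injective
    rw [← AlgSp.Points.map_yon_map_apply]
    exact hp1
  · rw [AlgSp.Points.ofPt_eq_map_ofScheme]
    exact hp2

/-- **representable morphisms**: if all affine étale charts of `Y` have universally bounded fibres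
and `X ⟶ Y` is representable, the same holds for `X`. -/
theorem hasUnivBddFibres_of_representable {X Y : AlgSp.Space S} (f : X ⟶ Y)
    (hf : AlgSp.Representable f.hom)
    (hY : ∀ (V : Over S) (ψ : (AlgSp.yon S).obj V ⟶ Y.obj), IsAffine V.left →
      AlgSp.RepWith @Etale ψ → W4dec.HasUnivBddFibres ψ)
    (U : Over S) (φ : (AlgSp.yon S).obj U ⟶ X.obj) [CompactSpace ↥U.left]
    (hφ : AlgSp.RepWith @Etale φ) : W4dec.HasUnivBddFibres φ := by
  obtain ⟨ι, V, b, hVaff, hbet, hbsurj⟩ := exists_affine_etale_cover Y.property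
  have hrep := fun k => hf (b k)
  choose W w pr sq using hrep
  refine hasUnivBddFibres_of_cover X W pr (fun k => ?_) (fun x => ?_) (fun k => ?_) φ hφ
  · exact MorphismProperty.of_isPullback (P := AlgSp.RepWith @Etale) (sq k).flip (hbet k)
  · obtain ⟨k, v, hv⟩ := hbsurj (AlgSp.Points.map f.hom x)
    obtain ⟨y, -, hy⟩ := exists_point_of_isPullback_left (sq k).flip v x hv
    exact ⟨k, y, hy⟩
  · exact Groth.Agent.S10425.result f hf (b k) (hY _ (b k) (hVaff k) (hbet k)) _ _ (sq k).flip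

end Groth.Agent.Lib.Helper12.QFBoundG
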