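import Mathlib
import Groth.Agent.Lib.Helper12QFBoundG
import Groth.Prelude.Def_AlgSpCov

set_option backward.isDefEq.respectTransparency.types false
set_option autoImplicit false
universe u
open CategoryTheory CategoryTheory.Limits AlgebraicGeometry TensorProduct TopologicalSpace

namespace Groth.Agent.Lib.Helper12.QFBoundH

open Groth.Agent.Lib.Helper12.QFBoundE Groth.Agent.Lib.Helper12.QFBoundC
  Groth.Agent.Lib.Helper12.QFBoundF Groth.Agent.Lib.Helper12.QFBoundG

variable {S : Scheme.{u}}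

/-- cancel a monomorphism in a pullback square. -/
lemma isPullback_of_comp_mono {C : Type*} [Category C] {P X Y W Z : C} {fst : P ⟶ X}
    {snd : P ⟶ Y} {f : X ⟶ W} {g : Y ⟶ W} (i : W ⟶ Z) [Mono i]
    (h : IsPullback fst snd (f ≫ i) (g ≫ i)) : IsPullback fst snd f g := by
  have w : fst ≫ f = snd ≫ g := by
    rw [← cancel_mono i, Category.assoc, Category.assoc, h.w]
  refine ⟨⟨w⟩, ⟨PullbackCone.IsLimit.mk _
    (fun s => h.lift s.fst s.snd (by rw [← Category.assoc, s.condition, Category.assoc]))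
    (fun s => h.lift_fst _ _ _) (fun s => h.lift_snd _ _ _)
    (fun s m h1 h2 => h.hom_ext (by simpa using h1) (by simpa using h2))⟩⟩

/-- composing with an open immersion of sheaves preserves universally bounded fibres. -/
lemma hasUnivBddFibres_comp_openImm {Xi X : AlgSp.Sp S} {V : Over S}
    (g : (AlgSp.yon S).obj V ⟶ Xi) (j : Xi ⟶ X) (hj : AlgSp.RepWith @IsOpenImmersion j)
    (hg : W4dec.HasUnivBddFibres g) : W4dec.HasUnivBddFibres (g ≫ j) := by
  obtain ⟨n, hn⟩ := hg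
  refine ⟨n, fun q T c snd sq => ?_⟩
  by_cases hT : IsEmpty ↥T.left
  · exact Groth.Agent.Lib.Helper12.UnivBdd.degLE_of_isEmpty (K := q.K) c.left n
  rw [not_isEmpty_iff] at hT
  obtain ⟨t⟩ := hT
  haveI : Mono j := Groth.Agent.S9928.mono_of_repWith @IsOpenImmersion
    (fun _ _ f hf => by haveI := hf; infer_instance) j hj
  obtain ⟨Kq, κ, pr', sqj⟩ := hj.1 q.toHom
  haveI : IsOpenImmersion κ.left := hj.2 q.toHom _ κ sqj
  obtain ⟨ℓ', hℓ1, hℓ2⟩ : ∃ ℓ' : (AlgSp.yon S).obj T ⟶ (AlgSp.yon S).obj Kq,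
      ℓ' ≫ pr' = snd ≫ g ∧ ℓ' ≫ (AlgSp.yon S).map κ = (AlgSp.yon S).map c :=
    ⟨sqj.lift (snd ≫ g) ((AlgSp.yon S).map c) (by rw [Category.assoc]; exact sq.w.symm),
      sqj.lift_fst _ _ _, sqj.lift_snd _ _ _⟩
  obtain ⟨ℓ, rfl⟩ := (AlgSp.yon S).map_surjective ℓ'
  haveI : Surjective κ.left :=
    ⟨fun y => ⟨ℓ.left t, Subsingleton.elim (α := PrimeSpectrum q.K) _ _⟩⟩
  haveI : IsIso κ.left :=
    (isIso_iff_isOpenImmersion_and_surjective _).2 ⟨inferInstance, inferInstance⟩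
  haveI : IsIso ((Over.forget S).map κ) := (inferInstance : IsIso κ.left)
  haveI : IsIso κ := isIso_of_reflects_iso κ (Over.forget S)
  let q' : (AlgSp.yon S).obj q.pt ⟶ Xi := (AlgSp.yon S).map (inv κ) ≫ pr'
  have hq' : q' ≫ j = q.toHom := by
    show ((AlgSp.yon S).map (inv κ) ≫ pr') ≫ j = q.toHom
    rw [Category.assoc, sqj.w, ← Category.assoc, ← Functor.map_comp, IsIso.inv_hom_id,
      CategoryTheory.Functor.map_id, Category.id_comp]
  let q'' : AlgSp.FieldPt Xi := Groth.Agent.Lib.Helper12.UnivBdd.fpOf q.str q'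
  have hq'' : q''.toHom = q' := Groth.Agent.Lib.Helper12.UnivBdd.fpOf_toHom _ _
  have sq' : IsPullback ((AlgSp.yon S).map c) snd q''.toHom g := by
    rw [hq'']
    refine isPullback_of_comp_mono j ?_
    rw [hq']
    exact sq
  exact hn q'' T c snd sq'

/-- **Zariski coverings**: if all affine étale charts of the members of a Zariski covering have
universally bounded fibres, so have those of `X`. -/
theorem hasUnivBddFibres_of_zarCover (X : AlgSp.Space S) {ι : Type u}
    (Xi : ι → AlgSp.Space S) (j : ∀ i, Xi i ⟶ X)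
    (hj : AlgSp.IsZarCover (fun i => (Xi i).obj) (fun i => (j i).hom))
    (h : ∀ (i : ι) (V : Over S) (ψ : (AlgSp.yon S).obj V ⟶ (Xi i).obj), IsAffine V.left →
      AlgSp.RepWith @Etale ψ → W4dec.HasUnivBddFibres ψ)
    (U : Over S) (φ : (AlgSp.yon S).obj U ⟶ X.obj) [CompactSpace ↥U.left]
    (hφ : AlgSp.RepWith @Etale φ) : W4dec.HasUnivBddFibres φ := by
  have hcov := fun i => exists_affine_etale_cover (Xi i).property
  choose κ V b hVaff hbet hbsurj using hcov
  have hjet : ∀ i, AlgSp.RepWith @Etale (j i).hom := fun i =>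
    ⟨(hj.1 i).1, fun U' V' g fst snd sq => by
      haveI : IsOpenImmersion snd.left := (hj.1 i).2 g fst snd sq
      exact (inferInstance : Etale snd.left)⟩
  refine hasUnivBddFibres_of_cover X (ι := Σ i, κ i) (fun p => V p.1 p.2)
    (fun p => b p.1 p.2 ≫ (j p.1).hom) (fun p => ?_) (fun x => ?_) (fun p => ?_) φ hφ
  · exact (AlgSp.RepWith @Etale).comp_mem _ _ (hbet p.1 p.2) (hjet p.1)
  · obtain ⟨i, xi, rfl⟩ := hj.2 x
    obtain ⟨k, v, rfl⟩ := hbsurj i xi
    exact ⟨⟨i, k⟩, v, rfl⟩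
  · exact hasUnivBddFibres_comp_openImm _ _ (hj.1 p.1)
      (h p.1 _ (b p.1 p.2) (hVaff p.1 p.2) (hbet p.1 p.2))

end Groth.Agent.Lib.Helper12.QFBoundH
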