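import Mathlib
import Groth.Agent.S9874
import Groth.Agent.S13210
import Groth.Agent.S10265
import Groth.Agent.Lib.Helper12EtSrc
import Groth.Agent.Lib.Helper12EtSmST
import Groth.Agent.Lib.Helper12MonoField
import Groth.Prelude.Def_AlgSp4

set_option autoImplicit false
universe u
open CategoryTheory CategoryTheory.Limits AlgebraicGeometry Opposite
open AlgSp

namespace Groth.Agent.Lib.Helper12.QcEtale

open Groth.Agent.S13210

variable {S : Scheme.{u}}

/-- **the self-product of a monomorphic point under a quasi-compact etale morphism.**  Let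
`f : X ⟶ Y` be a quasi-compact etale morphism of algebraic spaces and `p : Spec k ⟶ X` a
monomorphism.  Then `Spec k ×_Y Spec k` is finite over `Spec k`. -/
theorem isFinite_selfProduct_of_mono {X Y : AlgSp.Space S} (f : X ⟶ Y)
    (hq : AlgSp.IsQuasiCompactMor f.hom) (he : AlgSp.IsEtaleMor f.hom)
    (p : AlgSp.FieldPt X.obj) [Mono p.toHom] {E : Over S} (pr1 pr2 : E ⟶ p.pt)
    (sqE : IsPullback ((AlgSp.yon S).map pr1) ((AlgSp.yon S).map pr2) (p.toHom ≫ f.hom)
      (p.toHom ≫ f.hom)) : IsFinite pr2.left := by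
  set q : (AlgSp.yon S).obj p.pt ⟶ Y.obj := p.toHom ≫ f.hom with hqdef
  have sqZ : IsPullback (pullback.fst f.hom q) (pullback.snd f.hom q) f.hom q :=
    IsPullback.of_hasPullback _ _
  have hZ : AlgSp.IsAlgSpace (pullback f.hom q) :=
    Groth.Agent.S9874.isAlgSpace_of_isPullback Y.property.diag X.property
      (AlgSp.IsAlgSpace.yon_obj _) sqZ
  haveI hKc : CompactSpace ↥p.pt.left :=
    (inferInstance : CompactSpace ↥(Spec (CommRingCat.of p.K)))
  have hKqc : AlgSp.IsQuasiCompactSp ((AlgSp.yon S).obj p.pt) :=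
    ⟨p.pt, 𝟙 _, AlgSp.repWith_id _ _, AlgSp.repWith_id _ _, hKc⟩
  obtain ⟨W, w, hwe, hws, hWc⟩ := hq (AlgSp.IsAlgSpace.yon_obj p.pt) hKqc q _ _ sqZ
  haveI := hWc
  have hsnd : AlgSp.IsEtaleMor (pullback.snd f.hom q) :=
    Groth.Agent.Lib.Helper12.EtSmST.isEtaleMor_baseChange X.property Y.property
      (AlgSp.IsAlgSpace.yon_obj _) sqZ he
  obtain ⟨c, hc⟩ := (AlgSp.yon S).map_surjective (w ≫ pullback.snd f.hom q)
  haveI hce : Etale c.left := (AlgSp.repWith_yon_map_iff _ c).1 (hc ▸ hsnd w hwe)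
  -- `N = Spec k ×_X W`
  obtain ⟨N, j, n', sqN⟩ := (X.property.representable_from_yon p.toHom) (w ≫ pullback.fst f.hom q)
  haveI : Mono ((AlgSp.yon S).map j) := sqN.mono_snd_of_mono
  haveI : Mono j := (AlgSp.yon S).mono_of_mono_map inferInstance
  haveI : Mono j.left := (Over.forget S).map_mono j
  haveI hjo : IsOpenImmersion j.left :=
    Groth.Agent.Lib.Helper12.MonoField.isOpenImmersion_of_mono_of_etale_field p.K j.left c.left
  -- the map `E ⟶ Z`
  have hσ : ((AlgSp.yon S).map pr1 ≫ p.toHom) ≫ f.hom = (AlgSp.yon S).map pr2 ≫ q := by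
    rw [Category.assoc]; exact sqE.w
  have sqR : IsPullback (sqZ.lift _ _ hσ) ((AlgSp.yon S).map pr1) (pullback.fst f.hom q)
      p.toHom := by
    refine IsPullback.of_right (h₁₂ := pullback.snd f.hom q) (v₁₃ := q) (h₂₂ := f.hom) ?_
      (sqZ.lift_fst _ _ hσ) sqZ.flip
    rw [sqZ.lift_snd]
    exact sqE.flip
  have hN : n' ≫ p.toHom = ((AlgSp.yon S).map j ≫ w) ≫ pullback.fst f.hom q := by
    rw [Category.assoc]; exact sqN.w
  obtain ⟨ε, hε⟩ := (AlgSp.yon S).map_surjective (sqR.flip.lift _ _ hN)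
  have hε1 : (AlgSp.yon S).map ε ≫ (AlgSp.yon S).map pr1 = n' := by
    rw [hε, sqR.flip.lift_fst]
  have hε2 : (AlgSp.yon S).map ε ≫ sqZ.lift _ _ hσ = (AlgSp.yon S).map j ≫ w := by
    rw [hε, sqR.flip.lift_snd]
  have sqL : IsPullback ((AlgSp.yon S).map ε) ((AlgSp.yon S).map j) (sqZ.lift _ _ hσ) w := by
    refine IsPullback.of_right (h₁₂ := (AlgSp.yon S).map pr1) (v₁₃ := p.toHom)
      (h₂₂ := pullback.fst f.hom q) ?_ hε2 sqR.flip
    rw [hε1]
    exact sqN
  haveI : Etale ε.left := hwe.2 _ _ ε sqL.flip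
  haveI : Surjective ε.left := hws.2 _ _ ε sqL.flip
  have hcomm : ε ≫ pr2 = j ≫ c := by
    apply (AlgSp.yon S).map_injective
    rw [Functor.map_comp, Functor.map_comp, hc, ← Category.assoc, ← hε2, Category.assoc,
      sqZ.lift_snd]
  have hcomm' : ε.left ≫ pr2.left = j.left ≫ c.left := by
    rw [← Over.comp_left, ← Over.comp_left, hcomm]
  haveI : Etale (ε.left ≫ pr2.left) := by
    rw [hcomm']; infer_instance
  haveI hpr2 : Etale pr2.left :=
    Groth.Agent.Lib.Helper12.EtSrc.etale_of_etale_cover_source ε.left pr2.left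
  -- finiteness
  haveI : QuasiSeparatedSpace ↥p.pt.left :=
    (inferInstance : QuasiSeparatedSpace ↥(Spec (CommRingCat.of p.K)))
  haveI : IsLocallyArtinian p.pt.left :=
    (inferInstance : IsLocallyArtinian (Spec (CommRingCat.of p.K)))
  haveI : LocallyQuasiFinite c.left := Groth.Agent.S10265.locallyQuasiFinite_of_unramified _
  haveI : QuasiCompact c.left := quasiCompact_of_compactSpace _
  have hWfin : (Set.univ : Set ↥W.left).Finite := by
    have := c.left.finite_preimage_singleton ((⊥ : PrimeSpectrum p.K) : ↥p.pt.left)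
    refine this.subset (fun y _ => ?_)
    exact (inferInstance : Subsingleton (PrimeSpectrum p.K)).elim _ _
  have hNfin : (Set.univ : Set ↥N.left).Finite := by
    have h1 := hWfin.preimage (j.left.injective.injOn (s := j.left ⁻¹' Set.univ))
    simpa using h1
  have hEfin : (Set.univ : Set ↥E.left).Finite := by
    refine (hNfin.image ε.left).subset (fun e _ => ?_)
    obtain ⟨n, rfl⟩ := ε.left.surjective e
    exact ⟨n, trivial, rfl⟩
  haveI : Finite ↥E.left := Set.finite_univ_iff.1 hEfin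
  haveI : CompactSpace ↥E.left := inferInstance
  haveI : QuasiCompact pr2.left := quasiCompact_of_compactSpace _
  haveI : LocallyQuasiFinite pr2.left := Groth.Agent.S10265.locallyQuasiFinite_of_unramified _
  exact IsFinite.of_locallyQuasiFinite pr2.left

end Groth.Agent.Lib.Helper12.QcEtale
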