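import Groth.Agent.Lib.Helper12Descent
import Groth.Agent.Lib.Helper12FpqcCover
import Mathlib.AlgebraicGeometry.QuasiAffine

/-!
Helper library (helper12): fpqc descent of quasi-affine schemes / morphisms.
-/

set_option autoImplicit false
universe u
open CategoryTheory Limits MorphismProperty AlgebraicGeometry

namespace Groth.Agent.Lib.Helper12

lemma isPullback_Spec_appTop {X Y S T : Scheme.{u}} {f : T ⟶ S} {g : Y ⟶ X} {iX : X ⟶ S}
    {iY : Y ⟶ T} (H : IsPullback g iY iX f) [Flat f] [IsAffine S] [IsAffine T]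
    [CompactSpace X] [QuasiSeparatedSpace X] :
    IsPullback (Spec.map g.appTop) (Spec.map iY.appTop) (Spec.map iX.appTop)
      (Spec.map f.appTop) :=
  ((isPushout_appTop H).op.map Scheme.Spec).flip

lemma isPullback_toSpecΓ_of_flat {X Y S T : Scheme.{u}} {f : T ⟶ S} {g : Y ⟶ X} {iX : X ⟶ S}
    {iY : Y ⟶ T} (H : IsPullback g iY iX f) [Flat f] [IsAffine S] [IsAffine T]
    [CompactSpace X] [QuasiSeparatedSpace X] :
    IsPullback g Y.toSpecΓ X.toSpecΓ (Spec.map g.appTop) := by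
  have bottom := isPullback_Spec_appTop H
  have big : IsPullback g (Y.toSpecΓ ≫ Spec.map iY.appTop) (X.toSpecΓ ≫ Spec.map iX.appTop)
      (Spec.map f.appTop) := by
    rw [← Scheme.toSpecΓ_naturality, ← Scheme.toSpecΓ_naturality]
    exact IsPullback.of_iso H (Iso.refl _) (Iso.refl _) (asIso T.toSpecΓ) (asIso S.toSpecΓ)
      (by simp) (by simp) (by simp) (by simp [Scheme.toSpecΓ_naturality])
  exact IsPullback.of_bot big (Scheme.toSpecΓ_naturality g) bottom

/-- base change stability, in `pullback.snd` form. -/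
lemma pullback_snd_comp_of_isStableUnderBaseChange {P : MorphismProperty Scheme.{u}}
    [P.IsStableUnderBaseChange] {X Y U W : Scheme.{u}} (f : X ⟶ Y) (u : U ⟶ Y) (w : W ⟶ U)
    (H : P (pullback.snd f u)) : P (pullback.snd f (w ≫ u)) := by
  let q : pullback f (w ≫ u) ⟶ pullback f u :=
    pullback.lift (pullback.fst _ _) (pullback.snd _ _ ≫ w)
      (by rw [pullback.condition, Category.assoc])
  have hq1 : q ≫ pullback.fst f u = pullback.fst f (w ≫ u) := pullback.lift_fst _ _ _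
  have hq2 : q ≫ pullback.snd f u = pullback.snd f (w ≫ u) ≫ w := pullback.lift_snd _ _ _
  have hbig : IsPullback (pullback.snd f (w ≫ u)) (q ≫ pullback.fst f u) (w ≫ u) f := by
    rw [hq1]
    exact (IsPullback.of_hasPullback f (w ≫ u)).flip
  have htop : IsPullback (pullback.snd f (w ≫ u)) q w (pullback.snd f u) :=
    IsPullback.of_bot hbig hq2.symm (IsPullback.of_hasPullback f u).flip
  exact MorphismProperty.of_isPullback htop.flip H

/-- Lemma B'. -/
lemma isOpenImmersion_pullback_snd_toSpecΓ {Y Z W Y' T : Scheme.{u}} [IsAffine Z] [IsAffine W]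
    [CompactSpace Y] [QuasiSeparatedSpace Y] {g : Y ⟶ Z} {u : W ⟶ Z} [Flat u]
    {g' : Y' ⟶ Y} {iY' : Y' ⟶ W} (H : IsPullback g' iY' g u) [Y'.IsQuasiAffine]
    (a : T ⟶ W) (b : T ⟶ Spec Γ(Y, ⊤)) (hab : a ≫ u ≫ Z.toSpecΓ = b ≫ Spec.map g.appTop) :
    IsOpenImmersion (pullback.snd Y.toSpecΓ b) := by
  have bottom := isPullback_Spec_appTop H
  have top := isPullback_toSpecΓ_of_flat H
  have hw : b ≫ Spec.map g.appTop = (a ≫ W.toSpecΓ) ≫ Spec.map u.appTop := by
    rw [Category.assoc, ← Scheme.toSpecΓ_naturality, hab]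
  let e : T ⟶ Spec Γ(Y', ⊤) := bottom.lift b (a ≫ W.toSpecΓ) hw
  have he : e ≫ Spec.map g'.appTop = b := bottom.lift_fst _ _ _
  have h1 : IsOpenImmersion (pullback.snd Y.toSpecΓ (Spec.map g'.appTop)) := by
    have : pullback.snd Y.toSpecΓ (Spec.map g'.appTop) =
        (top.isoPullback).inv ≫ Y'.toSpecΓ := by
      rw [Iso.eq_inv_comp]; exact top.isoPullback_hom_snd
    rw [this]
    infer_instance
  rw [← he]
  exact pullback_snd_comp_of_isStableUnderBaseChange (P := @IsOpenImmersion) _ _ _ h1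


set_option backward.isDefEq.respectTransparency.types false in
lemma isQuasiAffine_of_isPullback {A X Y Z : Scheme.{u}} {fst : A ⟶ X} {snd : A ⟶ Y}
    {f : X ⟶ Z} {g : Y ⟶ Z} (h : IsPullback fst snd f g) [IsAffine Z] [Surjective f] [Flat f]
    [QuasiCompact f] [CompactSpace Y] [QuasiSeparatedSpace Y]
    (hfst : ∀ W : X.Opens, IsAffineOpen W → (fst ⁻¹ᵁ W : Scheme.{u}).IsQuasiAffine) :
    Y.IsQuasiAffine := by
  suffices IsOpenImmersion Y.toSpecΓ by constructor
  let c : Spec Γ(Y, ⊤) ⟶ Z := Spec.map g.appTop ≫ inv Z.toSpecΓ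
  have hc : c ≫ Z.toSpecΓ = Spec.map g.appTop := by simp [c]
  let p := pullback.fst f c
  let q := pullback.snd f c
  have hpq : p ≫ f = q ≫ c := pullback.condition
  have hq : (@Surjective ⊓ @Flat ⊓ @QuasiCompact : MorphismProperty Scheme.{u}) q :=
    ⟨⟨inferInstanceAs (Surjective (pullback.snd f c)), inferInstanceAs (Flat (pullback.snd f c))⟩,
      inferInstanceAs (QuasiCompact (pullback.snd f c))⟩
  refine (inferInstance : (@IsOpenImmersion).DescendsAlong
    (@Surjective ⊓ @Flat ⊓ @QuasiCompact : MorphismProperty Scheme.{u})).of_isPullback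
    (IsPullback.of_hasPullback Y.toSpecΓ q).flip hq ?_
  let 𝒲 : X.OpenCover := X.openCoverOfIsOpenCover (fun W : X.affineOpens => W.1)
    (iSup_affineOpens_eq_top X)
  rw [IsZariskiLocalAtTarget.iff_of_openCover (P := @IsOpenImmersion) (𝒲.pullback₁ p)]
  intro i
  obtain ⟨j, rfl⟩ : ∃ j : 𝒲.I₀, j = i := ⟨i, rfl⟩
  change IsOpenImmersion (pullback.snd (pullback.snd Y.toSpecΓ q) (pullback.fst p (𝒲.f j)))
  apply pullback_snd_pullback_snd
  have hiaff : IsAffine (𝒲.X j) := j.2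
  have hqa : (fst ⁻¹ᵁ j.1 : Scheme.{u}).IsQuasiAffine := hfst j.1 j.2
  have H : IsPullback ((fst ⁻¹ᵁ j.1).ι ≫ snd) (fst ∣_ j.1) g (𝒲.f j ≫ f) :=
    ((isPullback_morphismRestrict fst j.1).paste_vert h).flip
  have hoi : IsOpenImmersion (𝒲.f j) := 𝒲.map_prop j
  have hflat1 : Flat (𝒲.f j) := inferInstance
  have hflat : Flat (𝒲.f j ≫ f) := Flat.comp _ _
  refine isOpenImmersion_pullback_snd_toSpecΓ (W := 𝒲.X j) (u := 𝒲.f j ≫ f) H
    (pullback.snd p (𝒲.f j)) _ ?_
  have h1 : pullback.snd p (𝒲.f j) ≫ 𝒲.f j = pullback.fst p (𝒲.f j) ≫ p :=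
    pullback.condition.symm
  rw [← hc]
  simp only [Category.assoc]
  rw [reassoc_of% h1, reassoc_of% hpq]

end Groth.Agent.Lib.Helper12
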