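import Mathlib

set_option autoImplicit false
universe u
open CategoryTheory CategoryTheory.Limits AlgebraicGeometry

namespace Groth.Agent.Lib.Helper12

/-- A quasi-compact scheme covered by quasi-affine basic opens of global sections is
quasi-affine. -/
lemma isQuasiAffine_of_cover (W : Scheme.{u}) [CompactSpace W]
    (H : ∀ x : W, ∃ b : Γ(W, ⊤), x ∈ W.basicOpen b ∧
      (W.basicOpen b : Scheme.{u}).IsQuasiAffine) :
    W.IsQuasiAffine := by
  choose b hb1 hb2 using H
  have hqs : QuasiSeparatedSpace W := by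
    refine .of_isOpenCover (U := fun x => W.basicOpen (b x))
      (eq_top_iff.mpr fun x _ => TopologicalSpace.Opens.mem_iSup.mpr ⟨x, hb1 x⟩)
      (fun _ => isRetrocompact_basicOpen _) (fun x => ?_)
    have := hb2 x
    have : QuasiSeparatedSpace (W.basicOpen (b x) : Scheme.{u}) := inferInstance
    exact (isQuasiSeparated_iff_quasiSeparatedSpace _ (W.basicOpen (b x)).isOpen).mpr this
  refine .of_forall_exists_mem_basicOpen _ fun x => ?_
  have := hb2 x
  set U := W.basicOpen (b x) with hU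
  obtain ⟨_, ⟨_, ⟨r, hr, rfl⟩, rfl⟩, hxr, -⟩ :=
    (Scheme.IsQuasiAffine.isBasis_basicOpen (U : Scheme.{u})).exists_subset_of_mem_open
      (Set.mem_univ (⟨x, hb1 x⟩ : (U : Scheme.{u}))) isOpen_univ
  -- r' : Γ(W, U)
  let r' : Γ(W, U) := U.topIso.hom r
  have himg : U.ι ''ᵁ ((U : Scheme.{u}).basicOpen r) = W.basicOpen r' := by
    have e : W.basicOpen r' = W.basicOpen (show Γ(W, U.ι ''ᵁ ⊤) from r) := by
      simp only [r', Scheme.Opens.topIso_hom]
      exact Scheme.basicOpen_res_eq _ _ _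
    rw [e, Scheme.image_basicOpen]
    simp only [Scheme.Opens.ι_appIso, Iso.refl_inv]
    rfl
  have hr' : IsAffineOpen (W.basicOpen r') := by
    rw [← himg]
    exact (Scheme.Opens.ι _).isAffineOpen_iff_of_isOpenImmersion.mpr hr
  have hxr' : x ∈ W.basicOpen r' := by
    rw [← himg]
    exact ⟨⟨x, hb1 x⟩, hxr, rfl⟩
  obtain ⟨n, y, hy⟩ := exists_eq_pow_mul_of_isCompact_of_isQuasiSeparated W ⊤
    CompactSpace.isCompact_univ isQuasiSeparated_univ (b x) r'
  have hUle : W.basicOpen r' ≤ U := W.basicOpen_le r'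
  have hkey : W.basicOpen (y * b x) = W.basicOpen r' := by
    have h1 : W.basicOpen (y |_ W.basicOpen (b x)) = U ⊓ W.basicOpen y :=
      Scheme.basicOpen_res _ _ _
    have hunit : IsUnit ((b x |_ W.basicOpen (b x)) ^ n) :=
      (RingedSpace.isUnit_res_basicOpen _ (b x)).pow n
    have h2 : W.basicOpen ((b x |_ W.basicOpen (b x)) ^ n * r') = W.basicOpen r' := by
      rw [Scheme.basicOpen_mul, Scheme.basicOpen_of_isUnit _ hunit]
      exact inf_eq_right.mpr hUle
    rw [Scheme.basicOpen_mul, inf_comm, ← hU, ← h1, hy, h2]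
  refine ⟨y * b x, ?_, ?_⟩
  · rw [hkey]; exact hr'
  · rw [hkey]; exact hxr'

/-- transfer along an isomorphism -/
lemma isQuasiAffine_of_iso {X Y : Scheme.{u}} (e : X ≅ Y) [Y.IsQuasiAffine] : X.IsQuasiAffine :=
  Scheme.IsQuasiAffine.of_isAffineHom e.hom

/-- A quasi-compact open subscheme of a quasi-affine open subscheme is quasi-affine. -/
lemma isQuasiAffine_of_le {X : Scheme.{u}} {U T : X.Opens} (h : U ≤ T)
    [(T : Scheme.{u}).IsQuasiAffine] (hU : IsCompact (U : Set X)) :
    (U : Scheme.{u}).IsQuasiAffine := by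
  have : CompactSpace (U : Scheme.{u}) := isCompact_iff_compactSpace.mp hU
  exact Scheme.IsQuasiAffine.of_isImmersion (X.homOfLE h)

/-- A quasi-compact open `W` of a scheme covered by quasi-affine basic opens of sections over `W`
is quasi-affine. -/
lemma isQuasiAffine_opens_of_cover {X : Scheme.{u}} (W : X.Opens) (hW : IsCompact (W : Set X))
    (H : ∀ x ∈ W, ∃ b : Γ(X, W), x ∈ X.basicOpen b ∧
      (X.basicOpen b : Scheme.{u}).IsQuasiAffine) :
    (W : Scheme.{u}).IsQuasiAffine := by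
  have : CompactSpace (W : Scheme.{u}) := isCompact_iff_compactSpace.mp hW
  refine isQuasiAffine_of_cover (W : Scheme.{u}) fun w => ?_
  obtain ⟨b, hxb, hqa⟩ := H w.1 w.2
  let b' : Γ((W : Scheme.{u}), ⊤) := W.topIso.inv b
  have himg : W.ι ''ᵁ ((W : Scheme.{u}).basicOpen b') = X.basicOpen b := by
    have e : X.basicOpen b = X.basicOpen (show Γ(X, W.ι ''ᵁ ⊤) from b') := by
      have : b = W.topIso.hom b' := by
        change b = (W.topIso.inv ≫ W.topIso.hom) b
        rw [Iso.inv_hom_id]; rfl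
      rw [this]
      simp only [Scheme.Opens.topIso_hom]
      exact Scheme.basicOpen_res_eq _ _ _
    rw [e, Scheme.image_basicOpen]
    simp only [Scheme.Opens.ι_appIso, Iso.refl_inv]
    rfl
  refine ⟨b', ?_, ?_⟩
  · have : w.1 ∈ W.ι ''ᵁ ((W : Scheme.{u}).basicOpen b') := by rw [himg]; exact hxb
    obtain ⟨w', hw', hww'⟩ := this
    have : w' = w := Subtype.ext hww'
    rw [← this]; exact hw'
  · let e1 : ((W : Scheme.{u}).basicOpen b' : Scheme.{u}) ≅
        (W.ι ''ᵁ ((W : Scheme.{u}).basicOpen b') : Scheme.{u}) :=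
      W.ι.isoImage _
    let e2 : (W.ι ''ᵁ ((W : Scheme.{u}).basicOpen b') : Scheme.{u}) ≅
        (X.basicOpen b : Scheme.{u}) := X.isoOfEq himg
    exact isQuasiAffine_of_iso (e1 ≪≫ e2)

end Groth.Agent.Lib.Helper12
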