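import Mathlib
import Groth.Agent.Lib.Helper12FrobTowerD

set_option autoImplicit false
universe u
open CategoryTheory CategoryTheory.Limits Polynomial TensorProduct

namespace Groth.Agent.Lib.Helper12.RootTower

variable {p : ℕ} [Fact p.Prime]

lemma charP_of_ringHom {R S : Type*} [CommRing R] [CommRing S] [CharP R p] [Nontrivial S]
    (f : R →+* S) : CharP S p := by
  have hp : p.Prime := Fact.out
  rw [CharP.charP_iff_prime_eq_zero hp]
  rw [← map_natCast f, CharP.cast_eq_zero, map_zero]

/-- `b ↦ b ^ p` from `A[x]/(x^p - a)` to `A`. -/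
noncomputable def rootFrob (A : Type u) [CommRing A] [CharP A p] (a : A) :
    Quiet.RootRing p A a →+* A :=
  AdjoinRoot.lift (frobenius A p) a (by simp [frobenius_def])

lemma rootFrob_comp_of (A : Type u) [CommRing A] [CharP A p] (a : A) :
    (rootFrob (p := p) A a).comp (AdjoinRoot.of _) = frobenius A p :=
  AdjoinRoot.lift_comp_of _

lemma of_comp_rootFrob (A : Type u) [CommRing A] [CharP A p] (a : A)
    [CharP (Quiet.RootRing p A a) p] :
    (AdjoinRoot.of (X ^ p - C a : A[X])).comp (rootFrob (p := p) A a) =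
      frobenius (Quiet.RootRing p A a) p := by
  refine AdjoinRoot.ringHom_ext ?_ ?_
  · rw [RingHom.comp_assoc, rootFrob_comp_of]
    ext x
    simp [frobenius_def]
  · rw [RingHom.comp_apply, frobenius_def, root_pow]
    simp [rootFrob]

/-- Étale algebras descend along an elementary root extraction (characteristic `p`). -/
lemma exists_etale_descent_step (A : Type u) [CommRing A] [CharP A p] (a : A)
    [CharP (Quiet.RootRing p A a) p] (C₁ : Type u) [CommRing C₁] [CharP C₁ p]
    (a₁ : Quiet.RootRing p A a →+* C₁) (h₁ : a₁.Etale) :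
    ∃ (C'' : Type u) (_ : CommRing C'') (α : A →+* C'') (τ : C'' →+* C₁), α.Etale ∧
      IsPushout (CommRingCat.ofHom (AdjoinRoot.of (X ^ p - C a : A[X]))) (CommRingCat.ofHom α)
        (CommRingCat.ofHom a₁) (CommRingCat.ofHom τ) := by
  letI : Algebra (Quiet.RootRing p A a) C₁ := a₁.toAlgebra
  letI : Algebra (Quiet.RootRing p A a) A := (rootFrob (p := p) A a).toAlgebra
  haveI : Algebra.Etale (Quiet.RootRing p A a) C₁ := RingHom.etale_algebraMap.mp h₁
  have left := CommRingCat.isPushout_tensorProduct (Quiet.RootRing p A a) A C₁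
  have outer := isPushout_frobenius_of_etale (p := p) (Quiet.RootRing p A a) C₁
  have hw : CommRingCat.ofHom (algebraMap (Quiet.RootRing p A a) A) ≫
      CommRingCat.ofHom (a₁.comp (AdjoinRoot.of (X ^ p - C a : A[X]))) =
      CommRingCat.ofHom (algebraMap (Quiet.RootRing p A a) C₁) ≫
        CommRingCat.ofHom (frobenius C₁ p) := by
    refine CommRingCat.hom_ext (RingHom.ext fun x => ?_)
    change a₁ ((AdjoinRoot.of (X ^ p - C a : A[X])).comp (rootFrob (p := p) A a) x) =
      frobenius C₁ p (a₁ x)
    rw [of_comp_rootFrob, frobenius_def, frobenius_def, map_pow]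
  let τ := left.desc _ _ hw
  have hτ1 : CommRingCat.ofHom (Algebra.TensorProduct.includeLeftRingHom
      (R := Quiet.RootRing p A a) (A := A) (B := C₁)) ≫ τ =
      CommRingCat.ofHom (a₁.comp (AdjoinRoot.of (X ^ p - C a : A[X]))) := left.inl_desc _ _ hw
  have hτ2 : CommRingCat.ofHom ((Algebra.TensorProduct.includeRight
      (R := Quiet.RootRing p A a) (A := A) (B := C₁)).toRingHom) ≫ τ =
      CommRingCat.ofHom (frobenius C₁ p) := left.inr_desc _ _ hw
  refine ⟨A ⊗[Quiet.RootRing p A a] C₁, inferInstance,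
    Algebra.TensorProduct.includeLeftRingHom, τ.hom, ?_, ?_⟩
  · have : Algebra.Etale A (A ⊗[Quiet.RootRing p A a] C₁) := inferInstance
    exact RingHom.etale_algebraMap.mpr this
  · refine IsPushout.of_left ?_ ?_ left
    · have e1 : CommRingCat.ofHom (algebraMap (Quiet.RootRing p A a) A) ≫
          CommRingCat.ofHom (AdjoinRoot.of (X ^ p - C a : A[X])) =
          CommRingCat.ofHom (frobenius (Quiet.RootRing p A a) p) := by
        rw [← CommRingCat.ofHom_comp]
        exact congrArg CommRingCat.ofHom (of_comp_rootFrob A a)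
      rw [e1]
      change IsPushout _ _ _ (_ ≫ τ)
      rw [hτ2]
      exact outer
    · rw [← CommRingCat.ofHom_comp]
      exact hτ1.symm

/-- **Étale algebras descend along root towers in characteristic `p`.** -/
lemma exists_etale_descent : ∀ (n : ℕ) {A B D : Type u} [CommRing A] [CommRing B] [CommRing D]
    [CharP A p] [Nontrivial D] (t : A →+* B) (ε : B →+* D), IsTowerHom p n t → ε.Etale →
    ∃ (C'' : Type u) (_ : CommRing C'') (α : A →+* C'') (τ : C'' →+* D), α.Etale ∧
      IsPushout (CommRingCat.ofHom t) (CommRingCat.ofHom α) (CommRingCat.ofHom ε)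
        (CommRingCat.ofHom τ)
  | 0, A, B, D, _, _, _, _, _, t, ε, ht, hε => by
    refine ⟨D, inferInstance, ε.comp t, RingHom.id D, ?_, ?_⟩
    · exact RingHom.Etale.stableUnderComposition _ _ (RingHom.Etale.of_bijective ht) hε
    · haveI : IsIso (CommRingCat.ofHom t) := (ConcreteCategory.isIso_iff_bijective _).2 ht
      haveI : IsIso (CommRingCat.ofHom (RingHom.id D)) := by
        change IsIso (𝟙 (CommRingCat.of D))
        infer_instance
      exact IsPushout.of_horiz_isIso ⟨by ext x; rfl⟩
  | n + 1, A, B, D, _, _, _, _, _, t, ε, ht, hε => by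
    obtain ⟨a, t₁, rfl, ht₁⟩ := ht
    haveI : Nontrivial (Quiet.RootRing p A a) := (ε.comp t₁).domain_nontrivial
    haveI : CharP (Quiet.RootRing p A a) p :=
      charP_of_ringHom (AdjoinRoot.of (X ^ p - C a : A[X]))
    obtain ⟨C₁, _, α₁, τ₁, hα₁, sq₁⟩ := exists_etale_descent n t₁ ε ht₁ hε
    haveI : Nontrivial C₁ := τ₁.domain_nontrivial
    haveI : CharP C₁ p := charP_of_ringHom α₁
    obtain ⟨C'', _, α, τ₀, hα, sq₀⟩ := exists_etale_descent_step A a C₁ α₁ hα₁
    refine ⟨C'', inferInstance, α, τ₁.comp τ₀, hα, ?_⟩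
    rw [CommRingCat.ofHom_comp, CommRingCat.ofHom_comp]
    exact sq₀.paste_horiz sq₁

end Groth.Agent.Lib.Helper12.RootTower
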