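import Mathlib
import Groth.Prelude.Def_W4c2gaugesfzipsQuiet
import Groth.Prelude.Def_Frob
import Groth.Agent.Lib.Helper12QuietCompA

set_option autoImplicit false
universe u
open CategoryTheory CategoryTheory.Limits AlgebraicGeometry

namespace Groth.Agent.Lib.Helper12.QuietComp
open Groth.Agent.Lib.Helper12.RootTower

/-- An affine chart of a quasi-etale morphism at a point. -/
structure Chart (p : ℕ) {X Y : Scheme.{u}} (f : Y ⟶ X) (y : Y) where
  D : CommRingCat.{u}
  C : CommRingCat.{u}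
  j : Spec D ⟶ Y
  hj : IsOpenImmersion j
  t : C ⟶ D
  n : ℕ
  ht : IsTowerHom p n t.hom
  e : Spec C ⟶ X
  he : Etale e
  w : Spec.map t ≫ e = j ≫ f
  d₀ : Spec D
  hd : j d₀ = y

variable {p : ℕ} {X Y : Scheme.{u}}

lemma exists_chart (f : Y ⟶ X) (hf : Quiet.IsQuiet p f) (y : Y) : Nonempty (Chart p f y) := by
  obtain ⟨V, Y', r, e, hyV, hr, he, hfac⟩ := hf y
  obtain ⟨U, hyU, hN, n, hn⟩ := hr (r ⟨y, hyV⟩)
  rw [isRootTower_toAlgebra_iff] at hn
  have hy' : (⟨y, hyV⟩ : V) ∈ r ⁻¹ᵁ U.1 := hyU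
  obtain ⟨d₀, hd₀⟩ : ∃ d₀, hN.fromSpec d₀ = ⟨y, hyV⟩ := by
    have h := hN.range_fromSpec
    have : (⟨y, hyV⟩ : V) ∈ Set.range hN.fromSpec := by rw [h]; exact hy'
    exact this
  haveI := he
  refine ⟨{ D := Γ(V, r ⁻¹ᵁ U.1), C := Γ(Y', U.1), j := hN.fromSpec ≫ V.ι, hj := inferInstance,
            t := r.app U.1, n := n, ht := hn, e := U.2.fromSpec ≫ e, he := inferInstance,
            w := ?_, d₀ := d₀, hd := ?_ }⟩
  · rw [Category.assoc, ← hfac, ← Category.assoc, ← Category.assoc]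
    congr 1
    rw [Scheme.Hom.app_eq_appLE]
    exact IsAffineOpen.SpecMap_appLE_fromSpec r U.2 hN le_rfl
  · rw [Scheme.Hom.comp_apply, hd₀]
    rfl

lemma isQuiet_of_charts (f : Y ⟶ X) (H : ∀ y, Nonempty (Chart p f y)) : Quiet.IsQuiet p f := by
  intro y
  obtain ⟨c⟩ := H y
  haveI := c.hj
  haveI := c.he
  refine ⟨c.j.opensRange, Spec c.C, c.j.isoOpensRange.inv ≫ Spec.map c.t, c.e, ?_, ?_, c.he, ?_⟩
  · exact ⟨c.d₀, c.hd⟩
  · exact isPthRoot_iso_comp _ _ (isPthRoot_SpecMap c.t c.ht)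
  · rw [Category.assoc, c.w, ← Category.assoc]
    congr 1
    simp


lemma Chart.refine {f : Y ⟶ X} {y : Y} (c : Chart p f y) (O : X.Opens) (hO : f y ∈ O) :
    ∃ c' : Chart p f y, Set.range c'.e ⊆ (O : Set X) := by
  haveI := c.hj
  haveI := c.he
  let c₀ : PrimeSpectrum c.C := Spec.map c.t c.d₀
  have hc₀ : c.e c₀ ∈ O := by
    have : c.e c₀ = f y := by
      change c.e (Spec.map c.t c.d₀) = f y
      rw [← Scheme.Hom.comp_apply, c.w, Scheme.Hom.comp_apply, c.hd]
    rw [this]
    exact hO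
  obtain ⟨s, hs₀, hsO⟩ : ∃ s : c.C, c₀ ∈ PrimeSpectrum.basicOpen s ∧
      ∀ x : PrimeSpectrum c.C, x ∈ PrimeSpectrum.basicOpen s → c.e x ∈ O := by
    have hb := PrimeSpectrum.isTopologicalBasis_basic_opens (R := c.C)
    obtain ⟨_, ⟨s, rfl⟩, h1, h2⟩ := hb.exists_subset_of_mem_open
      (a := c₀) (u := c.e ⁻¹' (O : Set X)) hc₀ (O.2.preimage c.e.continuous)
    exact ⟨s, h1, fun x hx => h2 hx⟩
  let t' : Localization.Away s →+* Localization.Away (c.t.hom s) := Localization.awayMap c.t.hom s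
  have H : t'.comp (algebraMap c.C (Localization.Away s)) =
      (algebraMap c.D (Localization.Away (c.t.hom s))).comp c.t.hom := IsLocalization.map_comp _
  haveI : IsLocalization ((Submonoid.powers s).map c.t.hom) (Localization.Away (c.t.hom s)) := by
    rw [Submonoid.map_powers]
    infer_instance
  have sq := CommRingCat.isPushout_of_isLocalization c.t.hom t' H (Submonoid.powers s)
  have ht' : IsTowerHom p c.n t' := IsTowerHom.of_isPushout c.n c.ht sq
  haveI : IsOpenImmersion (Spec.map (CommRingCat.ofHom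
      (algebraMap c.D (Localization.Away (c.t.hom s))))) :=
    IsOpenImmersion.of_isLocalization (c.t.hom s)
  haveI : IsOpenImmersion (Spec.map (CommRingCat.ofHom
      (algebraMap c.C (Localization.Away s)))) :=
    IsOpenImmersion.of_isLocalization s
  have hd₀ : c.d₀ ∈ Set.range (Spec.map (CommRingCat.ofHom
      (algebraMap c.D (Localization.Away (c.t.hom s))))) := by
    change c.d₀ ∈ Set.range (PrimeSpectrum.comap (algebraMap c.D (Localization.Away (c.t.hom s))))
    rw [PrimeSpectrum.localization_away_comap_range (Localization.Away (c.t.hom s)) (c.t.hom s)]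
    exact hs₀
  obtain ⟨d₀', hd₀'⟩ := hd₀
  refine ⟨{ D := .of (Localization.Away (c.t.hom s)), C := .of (Localization.Away s),
            j := Spec.map (CommRingCat.ofHom (algebraMap c.D (Localization.Away (c.t.hom s)))) ≫ c.j,
            hj := inferInstance, t := CommRingCat.ofHom t', n := c.n, ht := ht',
            e := Spec.map (CommRingCat.ofHom (algebraMap c.C (Localization.Away s))) ≫ c.e,
            he := inferInstance, w := ?_, d₀ := d₀', hd := ?_ }, ?_⟩
  · rw [← Category.assoc, ← Spec.map_comp, ← sq.w, Category.assoc, ← c.w, Spec.map_comp,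
      Category.assoc]
    rfl
  · rw [Scheme.Hom.comp_apply, hd₀', c.hd]
  · rintro _ ⟨x, rfl⟩
    rw [Scheme.Hom.comp_apply]
    apply hsO
    change _ ∈ (PrimeSpectrum.basicOpen s : Set (PrimeSpectrum c.C))
    have : Spec.map (CommRingCat.ofHom (algebraMap c.C (Localization.Away s))) x ∈
        Set.range (PrimeSpectrum.comap (algebraMap c.C (Localization.Away s))) := ⟨x, rfl⟩
    rw [PrimeSpectrum.localization_away_comap_range (Localization.Away s) s] at this
    exact this

end Groth.Agent.Lib.Helper12.QuietComp
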