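import Mathlib
import Groth.Agent.Lib.Helper12QuietCompB

set_option autoImplicit false
universe u
open CategoryTheory CategoryTheory.Limits AlgebraicGeometry

namespace Groth.Agent.Lib.Helper12.QuietComp
open Groth.Agent.Lib.Helper12.RootTower

variable {p : ℕ} [Fact p.Prime] {X Y Z : Scheme.{u}}

lemma Chart.comp [FrobSch.IsCharP X p] {f : Y ⟶ X} {g : Z ⟶ Y} {z : Z}
    (cf : Chart p f (g z)) (cg : Chart p g z) (hrange : Set.range cg.e ⊆ Set.range cf.j) :
    Nonempty (Chart p (g ≫ f) z) := by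
  haveI := cf.hj
  haveI := cf.he
  haveI := cg.hj
  haveI := cg.he
  let e' : Spec cg.C ⟶ Spec cf.D := IsOpenImmersion.lift cf.j cg.e hrange
  have he' : e' ≫ cf.j = cg.e := IsOpenImmersion.lift_fac _ _ _
  haveI : Etale e' := by
    have h1 : Etale (e' ≫ cf.j) := by rw [he']; infer_instance
    exact MorphismProperty.of_postcomp (W := @Etale) (W' := @IsOpenImmersion) e' cf.j
      inferInstance h1
  let ε : cf.D ⟶ cg.C := Spec.preimage e'
  have hε : Spec.map ε = e' := Spec.map_preimage e'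
  have hεet : ε.hom.Etale := by
    have : Etale (Spec.map ε) := by rw [hε]; infer_instance
    exact (HasRingHomProperty.Spec_iff (P := @Etale)).mp this
  haveI : Nontrivial cg.D := by
    haveI : Nonempty (PrimeSpectrum cg.D) := ⟨cg.d₀⟩
    exact (PrimeSpectrum.nonempty_iff_nontrivial).mp inferInstance
  haveI : Nontrivial cg.C := cg.t.hom.domain_nontrivial
  haveI : Nontrivial cf.D := ε.hom.domain_nontrivial
  haveI : Nontrivial cf.C := cf.t.hom.domain_nontrivial
  haveI : CharP cf.C p := by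
    haveI := FrobSch.IsCharP.of_hom cf.e p
    have h0 : ((p : ℕ) : Γ(Spec cf.C, ⊤)) = 0 := FrobSch.IsCharP.natCast_eq_zero
    have : ((p : ℕ) : cf.C) = 0 := by
      have := congrArg (Scheme.ΓSpecIso cf.C).hom.hom h0
      simpa using this
    exact (CharP.charP_iff_prime_eq_zero Fact.out).mpr this
  obtain ⟨C'', _, α, τ, hα, sq⟩ := exists_etale_descent cf.n cf.t.hom ε.hom cf.ht hεet
  have hτ : IsTowerHom p cf.n τ := IsTowerHom.of_isPushout cf.n cf.ht sq
  have htot : IsTowerHom p (cg.n + cf.n) (cg.t.hom.comp τ) := IsTowerHom.comp cf.n hτ cg.ht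
  haveI : Etale (Spec.map (CommRingCat.ofHom α)) :=
    (HasRingHomProperty.Spec_iff (P := @Etale)).mpr hα
  have sqw : cf.t ≫ ε = CommRingCat.ofHom α ≫ CommRingCat.ofHom τ := sq.w
  refine ⟨{ D := cg.D, C := .of C'', j := cg.j, hj := cg.hj, t := CommRingCat.ofHom τ ≫ cg.t,
            n := cg.n + cf.n, ht := htot, e := Spec.map (CommRingCat.ofHom α) ≫ cf.e,
            he := inferInstance, w := ?_, d₀ := cg.d₀, hd := cg.hd }⟩
  calc Spec.map (CommRingCat.ofHom τ ≫ cg.t) ≫ Spec.map (CommRingCat.ofHom α) ≫ cf.e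
      = Spec.map cg.t ≫ Spec.map (CommRingCat.ofHom α ≫ CommRingCat.ofHom τ) ≫ cf.e := by
        simp only [Spec.map_comp, Category.assoc]
    _ = Spec.map cg.t ≫ Spec.map ε ≫ Spec.map cf.t ≫ cf.e := by
        rw [← sqw]
        simp only [Spec.map_comp, Category.assoc]
    _ = Spec.map cg.t ≫ e' ≫ cf.j ≫ f := by rw [hε, cf.w]
    _ = Spec.map cg.t ≫ cg.e ≫ f := by rw [reassoc_of% he']
    _ = cg.j ≫ g ≫ f := by rw [reassoc_of% cg.w]

/-- **Quasi-etale morphisms compose** (over a base of characteristic `p`). -/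
theorem isQuiet_comp [FrobSch.IsCharP X p] (f : Y ⟶ X) (g : Z ⟶ Y) (hf : Quiet.IsQuiet p f)
    (hg : Quiet.IsQuiet p g) : Quiet.IsQuiet p (g ≫ f) := by
  apply isQuiet_of_charts
  intro z
  obtain ⟨cf⟩ := exists_chart f hf (g z)
  obtain ⟨cg₀⟩ := exists_chart g hg z
  haveI := cf.hj
  obtain ⟨cg, hcg⟩ := cg₀.refine cf.j.opensRange ⟨cf.d₀, cf.hd⟩
  exact Chart.comp cf cg hcg

end Groth.Agent.Lib.Helper12.QuietComp
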