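import Mathlib
import Groth.Agent.Lib.Helper20EtHom
import Groth.Agent.Lib.Helper12EtaleNbhdLiftOI

set_option autoImplicit false
universe u
open CategoryTheory CategoryTheory.Limits AlgebraicGeometry Opposite

namespace Groth.Agent.Lib.Helper12.ThickEt

variable {S S₀ : Scheme.{u}} (i : S₀ ⟶ S)

/-- a lift of the `S₀`-scheme `q : T₀ ⟶ S₀` to an etale `S`-scheme. -/
structure Lift {T₀ : Scheme.{u}} (q : T₀ ⟶ S₀) where
  T : Scheme.{u}
  c : T ⟶ S
  a : T₀ ⟶ T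
  etale : Etale c
  pb : IsPullback a q c i

namespace Lift

variable {i}
variable {T₀ : Scheme.{u}} {q : T₀ ⟶ S₀} (L : Lift i q)

instance : Etale L.c := L.etale

lemma w : L.a ≫ L.c = q ≫ i := L.pb.w

instance [IsClosedImmersion i] : IsClosedImmersion L.a :=
  MorphismProperty.of_isPullback (P := @IsClosedImmersion) L.pb.flip ‹_›

instance [Surjective i] : Surjective L.a :=
  MorphismProperty.of_isPullback (P := @Surjective) L.pb.flip ‹_›

include L in
lemma etale_q : Etale q :=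
  MorphismProperty.of_isPullback (P := @Etale) L.pb inferInstance

/-- change the structure morphism along an equality. -/
def copy (q' : T₀ ⟶ S₀) (h : q' = q) : Lift i q' where
  T := L.T
  c := L.c
  a := L.a
  etale := L.etale
  pb := h ▸ L.pb

/-- restriction of a lift to an open subscheme. -/
noncomputable def restrict (W : L.T.Opens) : Lift i ((L.a ⁻¹ᵁ W).ι ≫ q) where
  T := W
  c := W.ι ≫ L.c
  a := L.a ∣_ W
  etale := inferInstance
  pb := (isPullback_morphismRestrict L.a W).paste_vert L.pb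

/-- transport of a lift along an isomorphism of the source. -/
noncomputable def ofIso {T₀' : Scheme.{u}} (e : T₀' ≅ T₀) : Lift i (e.hom ≫ q) where
  T := L.T
  c := L.c
  a := e.hom ≫ L.a
  etale := inferInstance
  pb := IsPullback.of_iso L.pb e.symm (Iso.refl _) (Iso.refl _) (Iso.refl _)
    (by simp) (by simp) (by simp) (by simp)

end Lift

section homs

variable {i} [IsClosedImmersion i] [Surjective i]
variable {T₁ T₂ : Scheme.{u}} {q₁ : T₁ ⟶ S₀} {q₂ : T₂ ⟶ S₀}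

lemma exists_hom (L₁ : Lift i q₁) (L₂ : Lift i q₂) (φ₀ : T₁ ⟶ T₂) (h : φ₀ ≫ q₂ = q₁) :
    ∃ φ : L₁.T ⟶ L₂.T, φ ≫ L₂.c = L₁.c ∧ L₁.a ≫ φ = φ₀ ≫ L₂.a :=
  Groth.Agent.Lib.Helper20.EtHom.exists_lift L₁.a L₂.c L₁.c (φ₀ ≫ L₂.a)
    (by rw [Category.assoc, L₂.w, reassoc_of% h, L₁.w])

omit [IsClosedImmersion i] in
lemma hom_ext (L₁ : Lift i q₁) (L₂ : Lift i q₂) (φ ψ : L₁.T ⟶ L₂.T)
    (h1 : φ ≫ L₂.c = ψ ≫ L₂.c) (h2 : L₁.a ≫ φ = L₁.a ≫ ψ) : φ = ψ := by
  haveI : Etale (Over.mk L₂.c).hom := L₂.etale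
  have := Groth.Agent.Lib.Helper20.EtHom.over_hom_ext_of_surjective (S := S)
    (X := Over.mk L₂.c) (Y := Over.mk (φ ≫ L₂.c)) (Over.homMk φ rfl) (Over.homMk ψ h1.symm)
    L₁.a h2
  exact congr($(this).left)

/-- a lift is determined up to unique isomorphism: a comparison map over the identity of the
source is an isomorphism. -/
lemma isIso_of_id {T₀ : Scheme.{u}} {q : T₀ ⟶ S₀} (L₁ L₂ : Lift i q) (φ : L₁.T ⟶ L₂.T)
    (h1 : φ ≫ L₂.c = L₁.c) (h2 : L₁.a ≫ φ = L₂.a) : IsIso φ := by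
  obtain ⟨ψ, hψ1, hψ2⟩ := exists_hom L₂ L₁ (𝟙 _) (Category.id_comp _)
  rw [Category.id_comp] at hψ2
  refine ⟨ψ, hom_ext L₁ L₁ _ _ ?_ ?_, hom_ext L₂ L₂ _ _ ?_ ?_⟩
  · rw [Category.assoc, hψ1, h1, Category.id_comp]
  · rw [reassoc_of% h2, hψ2, Category.comp_id]
  · rw [Category.assoc, h1, hψ1, Category.id_comp]
  · rw [reassoc_of% hψ2, h2, Category.comp_id]

end homs

section opens

variable {i} [IsClosedImmersion i] [Surjective i] {X₀ : Scheme.{u}} {p₀ : X₀ ⟶ S₀}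

/-- the open of `L.T` corresponding to the open `U ≤ V` of `X₀`. -/
noncomputable def imageOpen {V : X₀.Opens} (L : Lift i (V.ι ≫ p₀)) (U : X₀.Opens) : L.T.Opens :=
  ⟨L.a '' (V.ι ⁻¹' (U : Set X₀)),
    (Groth.Agent.Lib.Helper20.EtHom.isHomeomorph_of_integral L.a).isOpenMap _
      (U.2.preimage V.ι.continuous)⟩

lemma preimage_imageOpen {V : X₀.Opens} (L : Lift i (V.ι ≫ p₀)) (U : X₀.Opens) :
    L.a ⁻¹ᵁ (imageOpen L U) = V.ι ⁻¹ᵁ U := by
  ext x
  simp only [imageOpen, TopologicalSpace.Opens.map_coe, Set.mem_preimage,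
    TopologicalSpace.Opens.coe_mk, SetLike.mem_coe]
  constructor
  · rintro ⟨y, hy, hxy⟩
    rw [← L.a.injective hxy]
    exact hy
  · intro hx
    exact ⟨x, hx, rfl⟩

end opens

end Groth.Agent.Lib.Helper12.ThickEt
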