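import Mathlib
import Groth.Agent.Lib.Helper12ThickEtA

set_option autoImplicit false
universe u
open CategoryTheory CategoryTheory.Limits AlgebraicGeometry Opposite

namespace Groth.Agent.Lib.Helper12.ThickEt

variable {S S₀ : Scheme.{u}} {i : S₀ ⟶ S}

section opens

variable [IsClosedImmersion i] [Surjective i] {X₀ : Scheme.{u}} {p₀ : X₀ ⟶ S₀}

omit [IsClosedImmersion i] [Surjective i] in
lemma range_homOfLE {U V : X₀.Opens} (hUV : U ≤ V) :
    Set.range (X₀.homOfLE hUV) = V.ι ⁻¹' (U : Set X₀) := by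
  ext x
  constructor
  · rintro ⟨y, rfl⟩
    change ((X₀.homOfLE hUV) y).1 ∈ U
    rw [Scheme.homOfLE_apply]
    exact y.2
  · intro hx
    refine ⟨⟨x.1, hx⟩, ?_⟩
    rw [Scheme.homOfLE_apply']
    rfl

/-- the identification of `U` with the corresponding open subscheme of `V`. -/
noncomputable def isoPreimage {U V : X₀.Opens} (hUV : U ≤ V) (L : Lift i (V.ι ≫ p₀)) :
    (U : Scheme.{u}) ≅ (L.a ⁻¹ᵁ (imageOpen L U) : Scheme.{u}) :=
  IsOpenImmersion.isoOfRangeEq (X₀.homOfLE hUV) (L.a ⁻¹ᵁ (imageOpen L U)).ι (by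
    rw [range_homOfLE, Scheme.Opens.range_ι, preimage_imageOpen]
    rfl)

lemma isoPreimage_hom_ι {U V : X₀.Opens} (hUV : U ≤ V) (L : Lift i (V.ι ≫ p₀)) :
    (isoPreimage hUV L).hom ≫ (L.a ⁻¹ᵁ (imageOpen L U)).ι = X₀.homOfLE hUV :=
  IsOpenImmersion.isoOfRangeEq_hom_fac _ _ _

/-- restriction of a lift of `V` to a smaller open `U`. -/
noncomputable def restrictLE {U V : X₀.Opens} (hUV : U ≤ V) (L : Lift i (V.ι ≫ p₀)) :
    Lift i (U.ι ≫ p₀) :=
  ((L.restrict (imageOpen L U)).ofIso (isoPreimage hUV L)).copy _ (by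
    rw [reassoc_of% isoPreimage_hom_ι hUV L, ← Category.assoc, Scheme.homOfLE_ι])

lemma restrictLE_c {U V : X₀.Opens} (hUV : U ≤ V) (L : Lift i (V.ι ≫ p₀)) :
    (restrictLE hUV L).c = (imageOpen L U).ι ≫ L.c := rfl

lemma restrictLE_a_ι {U V : X₀.Opens} (hUV : U ≤ V) (L : Lift i (V.ι ≫ p₀)) :
    (restrictLE hUV L).a ≫ (imageOpen L U).ι = X₀.homOfLE hUV ≫ L.a := by
  change ((isoPreimage hUV L).hom ≫ (L.a ∣_ (imageOpen L U))) ≫ (imageOpen L U).ι = _
  rw [Category.assoc, morphismRestrict_ι, reassoc_of% isoPreimage_hom_ι hUV L]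

/-- a comparison map between lifts over an inclusion of opens is an open immersion. -/
lemma isOpenImmersion_of_le {U V : X₀.Opens} (hUV : U ≤ V) (LU : Lift i (U.ι ≫ p₀))
    (LV : Lift i (V.ι ≫ p₀)) (φ : LU.T ⟶ LV.T) (h1 : φ ≫ LV.c = LU.c)
    (h2 : LU.a ≫ φ = X₀.homOfLE hUV ≫ LV.a) : IsOpenImmersion φ := by
  obtain ⟨α, hα1, hα2⟩ := exists_hom LU (restrictLE hUV LV) (𝟙 _) (Category.id_comp _)
  rw [Category.id_comp] at hα2
  haveI : IsIso α := isIso_of_id LU (restrictLE hUV LV) α hα1 hα2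
  have hc : α ≫ (imageOpen LV U).ι ≫ LV.c = LU.c := hα1
  have ha : LU.a ≫ α ≫ (imageOpen LV U).ι = X₀.homOfLE hUV ≫ LV.a := by
    rw [← restrictLE_a_ι hUV LV, ← hα2, Category.assoc]
  have : φ = α ≫ (imageOpen LV U).ι := by
    refine hom_ext LU LV _ _ ?_ ?_
    · rw [h1, Category.assoc, hc]
    · rw [h2, ha]
  rw [this]
  haveI : IsIso (show LU.T ⟶ (imageOpen LV U : Scheme.{u}) from α) := ‹IsIso α›
  exact inferInstanceAs (IsOpenImmersion
    ((show LU.T ⟶ (imageOpen LV U : Scheme.{u}) from α) ≫ (imageOpen LV U).ι))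

end opens

end Groth.Agent.Lib.Helper12.ThickEt
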