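import Mathlib
import Groth.Agent.Lib.Helper12ThickEtB

set_option autoImplicit false
universe u
open CategoryTheory CategoryTheory.Limits AlgebraicGeometry Opposite

namespace Groth.Agent.Lib.Helper12.ThickEt

variable {S S₀ : Scheme.{u}} (i : S₀ ⟶ S) {X₀ : Scheme.{u}} (p₀ : X₀ ⟶ S₀)

/-- an open of `X₀` is liftable if it lifts to an etale `S`-scheme. -/
def Liftable (U : X₀.Opens) : Prop := Nonempty (Lift i (U.ι ≫ p₀))

variable {i p₀} in
lemma Liftable.of_le [IsClosedImmersion i] [Surjective i] {U V : X₀.Opens}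
    (hV : Liftable i p₀ V) (hUV : U ≤ V) : Liftable i p₀ U :=
  ⟨restrictLE hUV hV.some⟩

/-- the poset of liftable opens. -/
abbrev J : Type u := {U : X₀.Opens // Liftable i p₀ U}

variable {i p₀}

/-- chosen lifts. -/
noncomputable def chosen (U : J i p₀) : Lift i (U.1.ι ≫ p₀) := U.2.some

variable [IsClosedImmersion i] [Surjective i]

lemma exists_trans {U V : J i p₀} (h : U ≤ V) :
    ∃ φ : (chosen U).T ⟶ (chosen V).T, φ ≫ (chosen V).c = (chosen U).c ∧
      (chosen U).a ≫ φ = X₀.homOfLE h ≫ (chosen V).a :=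
  exists_hom (chosen U) (chosen V) (X₀.homOfLE h) (by rw [← Category.assoc, Scheme.homOfLE_ι])

/-- the transition maps. -/
noncomputable def trans {U V : J i p₀} (h : U ≤ V) : (chosen U).T ⟶ (chosen V).T :=
  (exists_trans h).choose

lemma trans_c {U V : J i p₀} (h : U ≤ V) : trans h ≫ (chosen V).c = (chosen U).c :=
  (exists_trans h).choose_spec.1

lemma a_trans {U V : J i p₀} (h : U ≤ V) :
    (chosen U).a ≫ trans h = X₀.homOfLE h ≫ (chosen V).a :=
  (exists_trans h).choose_spec.2

instance {U V : J i p₀} (h : U ≤ V) : IsOpenImmersion (trans h) :=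
  isOpenImmersion_of_le h (chosen U) (chosen V) (trans h) (trans_c h) (a_trans h)

variable (i p₀) in
/-- the diagram of chosen lifts. -/
noncomputable def F : J i p₀ ⥤ Scheme.{u} where
  obj U := (chosen U).T
  map f := trans (leOfHom f)
  map_id U := by
    refine hom_ext (chosen U) (chosen U) _ _ ?_ ?_
    · rw [trans_c, Category.id_comp]
    · rw [a_trans, Category.comp_id, Scheme.homOfLE_rfl, Category.id_comp]
  map_comp {U V W} f g := by
    refine hom_ext (chosen U) (chosen W) _ _ ?_ ?_
    · rw [trans_c, Category.assoc, trans_c, trans_c]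
    · rw [a_trans, reassoc_of% a_trans (leOfHom f), a_trans (leOfHom g),
        ← Category.assoc, Scheme.homOfLE_homOfLE]

instance {U V : J i p₀} (f : U ⟶ V) : IsOpenImmersion ((F i p₀).map f) :=
  inferInstanceAs (IsOpenImmersion (trans (leOfHom f)))

lemma chosen_a_apply_trans {U V : J i p₀} (h : U ≤ V) (x : (U.1 : Scheme.{u})) :
    (trans h) ((chosen U).a x) = (chosen V).a (X₀.homOfLE h x) := by
  rw [← Scheme.Hom.comp_apply, a_trans, Scheme.Hom.comp_apply]

instance : ((F i p₀) ⋙ Scheme.forget).IsLocallyDirected where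
  cond {U V W} fU fV xU xV heq := by
    obtain ⟨yU, rfl⟩ := (chosen U).a.surjective xU
    obtain ⟨yV, rfl⟩ := (chosen V).a.surjective xV
    have heq' : (trans (leOfHom fU)) ((chosen U).a yU) = (trans (leOfHom fV)) ((chosen V).a yV) :=
      heq
    rw [chosen_a_apply_trans, chosen_a_apply_trans] at heq'
    have h3 := (chosen W).a.injective heq'
    have h4 : yU.1 = yV.1 := by
      have := congr(($h3).1)
      rwa [Scheme.homOfLE_apply, Scheme.homOfLE_apply] at this
    let Z : J i p₀ := ⟨U.1 ⊓ V.1, U.2.of_le inf_le_left⟩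
    have hZU : Z ≤ U := (inf_le_left : U.1 ⊓ V.1 ≤ U.1)
    have hZV : Z ≤ V := (inf_le_right : U.1 ⊓ V.1 ≤ V.1)
    let z : (Z.1 : Scheme.{u}) := ⟨yU.1, ⟨yU.2, h4 ▸ yV.2⟩⟩
    refine ⟨Z, homOfLE hZU, homOfLE hZV, (chosen Z).a z, ?_, ?_⟩
    · change (trans hZU) ((chosen Z).a z) = _
      rw [chosen_a_apply_trans]
      congr 1
      apply Subtype.ext
      rw [Scheme.homOfLE_apply]
    · change (trans hZV) ((chosen Z).a z) = _
      rw [chosen_a_apply_trans]
      congr 1
      apply Subtype.ext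
      rw [Scheme.homOfLE_apply]
      exact h4

end Groth.Agent.Lib.Helper12.ThickEt
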