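import Mathlib
import Groth.Agent.Lib.Helper12ThickEtC

set_option autoImplicit false
universe u
open CategoryTheory CategoryTheory.Limits AlgebraicGeometry Opposite

namespace Groth.Agent.Lib.Helper12.ThickEt

variable {S S₀ : Scheme.{u}} {i : S₀ ⟶ S} {X₀ : Scheme.{u}} {p₀ : X₀ ⟶ S₀}
variable [IsClosedImmersion i] [Surjective i]

open Groth.Agent.Lib.Helper12.EtaleNbhdLiftOI in
omit [Surjective i] in
lemma exists_liftable_nbhd [Etale p₀] (x : X₀) : ∃ U : X₀.Opens, x ∈ U ∧ Liftable i p₀ U := by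
  obtain ⟨V, V₀, c, i₀, r, -, hc, hpb, hx, hr⟩ := exists_lift_etale_nbhd_oi i p₀ x
  refine ⟨r.opensRange, hx, ⟨?_⟩⟩
  let L₀ : Lift i (r ≫ p₀) := ⟨V, c, i₀, hc, hpb⟩
  exact (L₀.ofIso r.isoOpensRange.symm).copy _ (by simp)

variable (i p₀) in
/-- the gluing `X` of the chosen lifts. -/
noncomputable def X : Scheme.{u} := colimit (F i p₀)

/-- the open immersions of the chosen lifts into the gluing. -/
noncomputable def ιX (U : J i p₀) : (chosen U).T ⟶ X i p₀ := colimit.ι (F i p₀) U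

instance (U : J i p₀) : IsOpenImmersion (ιX U) :=
  inferInstanceAs (IsOpenImmersion (colimit.ι (F i p₀) U))

lemma trans_ιX {U V : J i p₀} (h : U ≤ V) : trans h ≫ ιX V = ιX U :=
  colimit.w (F i p₀) (homOfLE h)

lemma ιX_jointly_surjective (x : X i p₀) : ∃ (U : J i p₀) (y : (chosen U).T), ιX U y = x :=
  Scheme.IsLocallyDirected.ι_jointly_surjective (F i p₀) x

lemma ιX_eq_ιX_iff {U V : J i p₀} (x : (chosen U).T) (y : (chosen V).T) :
    ιX U x = ιX V y ↔ ∃ (W : J i p₀) (hU : W ≤ U) (hV : W ≤ V) (z : (chosen W).T),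
      trans hU z = x ∧ trans hV z = y := by
  refine (Scheme.IsLocallyDirected.ι_eq_ι_iff (F i p₀)).trans ?_
  constructor
  · rintro ⟨W, fU, fV, z, h1, h2⟩
    exact ⟨W, leOfHom fU, leOfHom fV, z, h1, h2⟩
  · rintro ⟨W, hU, hV, z, h1, h2⟩
    exact ⟨W, homOfLE hU, homOfLE hV, z, h1, h2⟩

variable (i p₀) in
/-- the cocone over `S`. -/
noncomputable def cCocone : Cocone (F i p₀) where
  pt := S
  ι := { app U := (chosen U).c
         naturality := fun U V f => by
          change trans (leOfHom f) ≫ (chosen V).c = (chosen U).c ≫ 𝟙 _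
          rw [trans_c, Category.comp_id] }

variable (i p₀) in
/-- the structure map of the gluing. -/
noncomputable def c : X i p₀ ⟶ S := colimit.desc (F i p₀) (cCocone i p₀)

lemma ιX_c (U : J i p₀) : ιX U ≫ c i p₀ = (chosen U).c :=
  colimit.ι_desc _ _

instance : Etale (c i p₀) := by
  refine (IsZariskiLocalAtSource.iff_of_openCover (P := @Etale) (f := c i p₀)
    (Scheme.IsLocallyDirected.openCover (F i p₀))).2 ?_
  intro U
  change Etale (ιX U ≫ c i p₀)
  rw [ιX_c]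
  exact (chosen U).etale

section cover

variable [Etale p₀]

variable (i p₀) in
/-- the open cover of `X₀` by the liftable opens. -/
noncomputable def cov : X₀.OpenCover where
  I₀ := J i p₀
  X U := U.1
  f U := U.1.ι
  mem₀ := by
    rw [Scheme.presieve₀_mem_precoverage_iff]
    refine ⟨fun x ↦ ?_, inferInstance⟩
    obtain ⟨U, hxU, hU⟩ := exists_liftable_nbhd (i := i) (p₀ := p₀) x
    exact ⟨⟨U, hU⟩, ⟨x, hxU⟩, rfl⟩

instance : Preorder (cov i p₀).I₀ := inferInstanceAs (Preorder (J i p₀))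

lemma isBasis_liftable :
    TopologicalSpace.Opens.IsBasis (Set.range fun U : (cov i p₀).I₀ ↦ ((cov i p₀).f U).opensRange) := by
  rw [TopologicalSpace.Opens.isBasis_iff_nbhd]
  intro W x hxW
  obtain ⟨U, hxU, hU⟩ := exists_liftable_nbhd (i := i) (p₀ := p₀) x
  refine ⟨U ⊓ W, ⟨⟨U ⊓ W, hU.of_le inf_le_left⟩, ?_⟩, ⟨hxU, hxW⟩, inf_le_right⟩
  simp [cov]

noncomputable instance : Scheme.Cover.LocallyDirected (cov i p₀) :=
  .ofIsBasisOpensRange (by intros; simp [cov]; rfl) isBasis_liftable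

lemma cov_trans {U V : J i p₀} (h : U ⟶ V) :
    (cov i p₀).trans h = X₀.homOfLE (leOfHom h) := by
  apply (cancel_mono V.1.ι).1
  exact ((cov i p₀).trans_map h).trans (Scheme.homOfLE_ι _ _).symm

lemma aMap_compat {U V : J i p₀} (h : U ⟶ V) :
    (cov i p₀).trans h ≫ ((chosen V).a ≫ ιX V) = (chosen U).a ≫ ιX U :=
  calc (cov i p₀).trans h ≫ ((chosen V).a ≫ ιX V)
      = X₀.homOfLE (leOfHom h) ≫ ((chosen V).a ≫ ιX V) :=
        congrArg (· ≫ ((chosen V).a ≫ ιX V)) (cov_trans h)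
    _ = ((chosen U).a ≫ trans (leOfHom h)) ≫ ιX V := by
        rw [a_trans, Category.assoc]
    _ = (chosen U).a ≫ ιX U := by
        rw [Category.assoc, trans_ιX]

variable (i p₀) in
/-- the comparison morphism `X₀ ⟶ X`. -/
noncomputable def aMap : X₀ ⟶ X i p₀ :=
  (cov i p₀).glueMorphismsOfLocallyDirected
    (fun U : J i p₀ ↦ (chosen U).a ≫ ιX U) (fun h ↦ aMap_compat h)

lemma ι_aMap (U : J i p₀) : U.1.ι ≫ aMap i p₀ = (chosen U).a ≫ ιX U :=
  (cov i p₀).map_glueMorphismsOfLocallyDirected _ _ U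

lemma aMap_c : aMap i p₀ ≫ c i p₀ = p₀ ≫ i := by
  refine (cov i p₀).hom_ext _ _ fun U ↦ ?_
  obtain ⟨U', rfl⟩ : ∃ U' : J i p₀, U' = U := ⟨U, rfl⟩
  change U'.1.ι ≫ aMap i p₀ ≫ c i p₀ = U'.1.ι ≫ p₀ ≫ i
  rw [← Category.assoc, ι_aMap, Category.assoc, ιX_c, (chosen U').w, Category.assoc]

end cover

end Groth.Agent.Lib.Helper12.ThickEt
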