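import Mathlib
import Groth.Agent.Lib.Helper12ThickEtD

set_option autoImplicit false
universe u
open CategoryTheory CategoryTheory.Limits AlgebraicGeometry Opposite

namespace Groth.Agent.Lib.Helper12.ThickEt

variable {S S₀ : Scheme.{u}} {i : S₀ ⟶ S} {X₀ : Scheme.{u}} {p₀ : X₀ ⟶ S₀}
variable [IsClosedImmersion i] [Surjective i] [Etale p₀]

lemma aMap_apply (U : J i p₀) (x : (U.1 : Scheme.{u})) :
    aMap i p₀ (U.1.ι x) = ιX U ((chosen U).a x) := by
  rw [← Scheme.Hom.comp_apply, ι_aMap, Scheme.Hom.comp_apply]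

lemma exists_mem_J (x : X₀) : ∃ (U : J i p₀) (x' : (U.1 : Scheme.{u})), U.1.ι x' = x := by
  obtain ⟨U, hxU, hU⟩ := exists_liftable_nbhd (i := i) (p₀ := p₀) x
  exact ⟨⟨U, hU⟩, ⟨x, hxU⟩, rfl⟩

lemma aMap_injective : Function.Injective (aMap i p₀) := by
  intro x y hxy
  obtain ⟨U, x', rfl⟩ := exists_mem_J (i := i) (p₀ := p₀) x
  obtain ⟨V, y', rfl⟩ := exists_mem_J (i := i) (p₀ := p₀) y
  rw [aMap_apply, aMap_apply, ιX_eq_ιX_iff] at hxy
  obtain ⟨W, hU, hV, z, h1, h2⟩ := hxy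
  obtain ⟨z', rfl⟩ := (chosen W).a.surjective z
  rw [chosen_a_apply_trans] at h1 h2
  have e1 := (chosen U).a.injective h1
  have e2 := (chosen V).a.injective h2
  rw [← e1, ← e2]
  change (X₀.homOfLE hU z').1 = (X₀.homOfLE hV z').1
  rw [Scheme.homOfLE_apply, Scheme.homOfLE_apply]

lemma aMap_surjective : Function.Surjective (aMap i p₀) := by
  intro x
  obtain ⟨U, y, rfl⟩ := ιX_jointly_surjective x
  obtain ⟨y', rfl⟩ := (chosen U).a.surjective y
  exact ⟨U.1.ι y', aMap_apply U y'⟩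

variable (i p₀) in
/-- the comparison map to the base change. -/
noncomputable def bMap : X₀ ⟶ pullback (c i p₀) i :=
  pullback.lift (aMap i p₀) p₀ aMap_c

lemma bMap_fst : bMap i p₀ ≫ pullback.fst (c i p₀) i = aMap i p₀ := pullback.lift_fst _ _ _
lemma bMap_snd : bMap i p₀ ≫ pullback.snd (c i p₀) i = p₀ := pullback.lift_snd _ _ _

lemma isPullback_ι_bMap (U : J i p₀) :
    IsPullback (chosen U).a (U.1.ι ≫ bMap i p₀) (ιX U) (pullback.fst (c i p₀) i) := by
  refine IsPullback.of_bot ?_ ?_ (IsPullback.of_hasPullback (c i p₀) i)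
  · have h1 : (U.1.ι ≫ bMap i p₀) ≫ pullback.snd (c i p₀) i = U.1.ι ≫ p₀ := by
      rw [Category.assoc, bMap_snd]
    rw [h1, ιX_c]
    exact (chosen U).pb
  · rw [Category.assoc, bMap_fst, ι_aMap]

instance (U : J i p₀) : IsOpenImmersion (U.1.ι ≫ bMap i p₀) :=
  MorphismProperty.of_isPullback (P := @IsOpenImmersion) (isPullback_ι_bMap U) inferInstance

lemma bMap_injective : Function.Injective (bMap i p₀) := by
  intro x y hxy
  apply aMap_injective (i := i) (p₀ := p₀)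
  rw [← bMap_fst, Scheme.Hom.comp_apply, Scheme.Hom.comp_apply, hxy]

instance : IsOpenImmersion (bMap i p₀) :=
  IsOpenImmersion.of_openCover_source (bMap i p₀) (cov i p₀) bMap_injective
    (fun U ↦ inferInstanceAs (IsOpenImmersion ((U : J i p₀).1.ι ≫ bMap i p₀)))

instance : Surjective (bMap i p₀) := by
  constructor
  intro z
  obtain ⟨x, hx⟩ := aMap_surjective (i := i) (p₀ := p₀) (pullback.fst (c i p₀) i z)
  refine ⟨x, ?_⟩
  have : IsClosedImmersion (pullback.fst (c i p₀) i) :=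
    MorphismProperty.pullback_fst (P := @IsClosedImmersion) _ _ inferInstance
  apply (pullback.fst (c i p₀) i).injective
  rw [← Scheme.Hom.comp_apply, bMap_fst, hx]

instance : IsIso (bMap i p₀) :=
  (isIso_iff_isOpenImmersion_and_surjective _).2 ⟨inferInstance, inferInstance⟩

lemma isPullback_aMap : IsPullback (aMap i p₀) p₀ (c i p₀) i :=
  IsPullback.of_iso_pullback ⟨aMap_c⟩ (asIso (bMap i p₀)) bMap_fst bMap_snd

end Groth.Agent.Lib.Helper12.ThickEt

namespace Groth.Agent.Lib.Helper12.ThickEt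

/-- **Etale schemes lift along surjective closed immersions.** -/
theorem exists_lift {S S₀ X₀ : Scheme.{u}} (i : S₀ ⟶ S) [IsClosedImmersion i] [Surjective i]
    (p₀ : X₀ ⟶ S₀) [Etale p₀] :
    ∃ (X : Scheme.{u}) (c : X ⟶ S) (a : X₀ ⟶ X), Etale c ∧ IsPullback a p₀ c i :=
  ⟨X i p₀, c i p₀, aMap i p₀, inferInstance, isPullback_aMap⟩

end Groth.Agent.Lib.Helper12.ThickEt
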