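import Groth.Prelude.Def_W4c2gaugesfzipsQuiet
import Groth.Agent.S0440
import Groth.Agent.Lib.Helper12RootTowerD
import Groth.Agent.Lib.Helper12ThickEtE

set_option autoImplicit false
open CategoryTheory AlgebraicGeometry
universe u
open Quiet

namespace Groth.Agent.Lib.Helper12.QuietLift
open Groth.Agent.Lib.Helper12.RootTower Groth.Agent.Lib.Helper12 CategoryTheory.Limits

/-- opens of a thickening correspond to opens of the closed subscheme. -/
lemma exists_open_preimage {Y Y' : Scheme.{u}} (a : Y ⟶ Y') [IsClosedImmersion a] [Surjective a]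
    (W : Y.Opens) : ∃ W' : Y'.Opens, a ⁻¹ᵁ W' = W := by
  refine ⟨⟨a '' (W : Set Y),
    (Groth.Agent.Lib.Helper20.EtHom.isHomeomorph_of_integral a).isOpenMap _ W.2⟩, ?_⟩
  ext x
  simp only [TopologicalSpace.Opens.map_coe, Set.mem_preimage, TopologicalSpace.Opens.coe_mk,
    SetLike.mem_coe]
  constructor
  · rintro ⟨y, hy, hxy⟩
    rw [← a.injective hxy]
    exact hy
  · intro hx
    exact ⟨x, hx, rfl⟩

/-- **Quasi-etale morphisms lift locally along surjective closed immersions.** -/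
theorem exists_quiet_lift (p : ℕ) {T U U' : Scheme.{u}}
    (i : U ⟶ T) [IsClosedImmersion i] [Surjective i] (f' : U' ⟶ U)
    (hf' : Quiet.IsQuiet p f') (u : U') :
    ∃ (V : U'.Opens) (T' : Scheme.{u}) (q : T' ⟶ T) (j : (V : Scheme.{u}) ⟶ T'),
      u ∈ V ∧ Quiet.IsQuiet p q ∧ IsPullback j (V.ι ≫ f') q i := by
  obtain ⟨V₁, Y', r, e, huV₁, hr, he, hfac⟩ := hf' u
  haveI := he
  obtain ⟨Yt, et, a, het, hpb⟩ := ThickEt.exists_lift i e
  haveI := het
  haveI : IsClosedImmersion a :=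
    MorphismProperty.of_isPullback (P := @IsClosedImmersion) hpb.flip inferInstance
  haveI : Surjective a :=
    MorphismProperty.of_isPullback (P := @Surjective) hpb.flip inferInstance
  obtain ⟨⟨W0, hW0⟩, hyW, hrW, n, hn⟩ := hr (r ⟨u, huV₁⟩)
  obtain ⟨Wt, rfl⟩ := exists_open_preimage a W0
  -- `Wt` is affine
  have hWt : IsAffineOpen Wt := by
    haveI : IsAffine ((a ⁻¹ᵁ Wt : Y'.Opens) : Scheme.{u}) := hW0
    haveI : Surjective (a ∣_ Wt) :=
      MorphismProperty.of_isPullback (P := @Surjective) (isPullback_morphismRestrict a Wt).flip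
        inferInstance
    exact Groth.Agent.S0440.result (a ∣_ Wt) (a ∣_ Wt).surjective
  -- ring data
  have hπ : Function.Surjective (a.app Wt).hom := a.app_surjective Wt hWt
  rw [isRootTower_toAlgebra_iff] at hn
  obtain ⟨Bt, _, ft, π', hft, sq⟩ := IsTowerHom.exists_lift n (a.app Wt).hom hπ
    (r.app (a ⁻¹ᵁ Wt)).hom hn
  have sq' : IsPushout (CommRingCat.ofHom ft) (a.app Wt) (CommRingCat.ofHom π')
      (r.app (a ⁻¹ᵁ Wt)) := sq
  -- geometric data
  let N : (V₁ : Scheme.{u}).Opens := r ⁻¹ᵁ (a ⁻¹ᵁ Wt)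
  let V : U'.Opens := V₁.ι ''ᵁ N
  let isoN : (N : Scheme.{u}) ≅ (V : Scheme.{u}) := V₁.ι.isoImage N
  have hisoN : isoN.hom ≫ V.ι = N.ι ≫ V₁.ι := V₁.ι.isoImage_hom_ι N
  let q : Spec (.of Bt) ⟶ T := Spec.map (CommRingCat.ofHom ft) ≫ hWt.fromSpec ≫ et
  let j : (V : Scheme.{u}) ⟶ Spec (.of Bt) :=
    isoN.inv ≫ hrW.isoSpec.hom ≫ Spec.map (CommRingCat.ofHom π')
  refine ⟨V, Spec (.of Bt), q, j, ?_, ?_, ?_⟩
  · exact ⟨⟨u, huV₁⟩, hyW, rfl⟩
  · intro y
    refine ⟨⊤, Spec Γ(Yt, Wt), (⊤ : (Spec (.of Bt)).Opens).ι ≫ Spec.map (CommRingCat.ofHom ft),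
      hWt.fromSpec ≫ et, trivial, ?_, inferInstance, ?_⟩
    · haveI : IsIso (⊤ : (Spec (CommRingCat.of Bt)).Opens).ι :=
        inferInstanceAs (IsIso (Spec (CommRingCat.of Bt)).topIso.hom)
      exact isPthRoot_iso_comp _ _ (isPthRoot_SpecMap (CommRingCat.ofHom ft) hft)
    · rw [Category.assoc]
  · have P1 : IsPullback (Spec.map (CommRingCat.ofHom π')) (Spec.map (r.app (a ⁻¹ᵁ Wt)))
        (Spec.map (CommRingCat.ofHom ft)) (Spec.map (a.app Wt)) :=
      isPullback_SpecMap_of_isPushout _ _ _ _ sq'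
    have P2 : IsPullback (Spec.map (a.app Wt)) hW0.fromSpec hWt.fromSpec a := by
      have h1 := isPullback_morphismRestrict a Wt
      refine IsPullback.of_iso h1 hW0.isoSpec hWt.isoSpec (Iso.refl _) (Iso.refl _) ?_ ?_ ?_ ?_
      · rw [← cancel_mono hWt.fromSpec, Category.assoc, Category.assoc,
          IsAffineOpen.isoSpec_hom_fromSpec, morphismRestrict_ι, Scheme.Hom.app_eq_appLE,
          IsAffineOpen.SpecMap_appLE_fromSpec a hWt hW0 le_rfl,
          IsAffineOpen.isoSpec_hom_fromSpec_assoc]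
      · rw [Iso.refl_hom, Category.comp_id, IsAffineOpen.isoSpec_hom_fromSpec]
      · rw [Iso.refl_hom, Category.comp_id, IsAffineOpen.isoSpec_hom_fromSpec]
      · simp
    have P3 := (P1.paste_vert P2).paste_vert hpb
    have hr1 : Spec.map (r.app (a ⁻¹ᵁ Wt)) ≫ hW0.fromSpec = hrW.fromSpec ≫ r := by
      rw [Scheme.Hom.app_eq_appLE]
      exact IsAffineOpen.SpecMap_appLE_fromSpec r hW0 hrW le_rfl
    refine IsPullback.of_iso P3 (hrW.isoSpec.symm ≪≫ isoN) (Iso.refl _) (Iso.refl _) (Iso.refl _)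
      ?_ ?_ ?_ ?_
    · simp only [Iso.refl_hom, Category.comp_id, Iso.trans_hom, Iso.symm_hom, j, Category.assoc,
        Iso.hom_inv_id_assoc, Iso.inv_hom_id_assoc]
      rfl
    · rw [Iso.refl_hom, Category.comp_id, hr1, Iso.trans_hom, Iso.symm_hom, Category.assoc,
        Category.assoc]
      calc hrW.fromSpec ≫ r ≫ e = hrW.isoSpec.inv ≫ N.ι ≫ r ≫ e := by
            rw [← IsAffineOpen.isoSpec_inv_ι, Category.assoc]
        _ = hrW.isoSpec.inv ≫ N.ι ≫ V₁.ι ≫ f' := by rw [hfac]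
        _ = hrW.isoSpec.inv ≫ isoN.hom ≫ V.ι ≫ f' := by rw [reassoc_of% hisoN]
    · simp [q]
    · simp

end Groth.Agent.Lib.Helper12.QuietLift
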