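import Mathlib
import Groth.Prelude.Def_FrobAlg
import Groth.Agent.Lib.Helper6RelFrobFlat
import Groth.Agent.S3191

set_option autoImplicit false
universe u

namespace Groth.Agent.Lib.Helper12.RelFrobRank
open FrobAlg CategoryTheory TensorProduct
open Groth.Agent.Lib.Helper6.RelFrobFlat

section General

variable (p : ℕ) [Fact p.Prime] (A : Type u) [CommRing A] [CharP A p]
  (B : Type u) [CommRing B] [Algebra A B] [CharP B p]

/-- `relFrob` composed with the right inclusion of the twisted copy of `A` is the structure map. -/
theorem relFrob_comp_includeRight :
    (relFrob p A B).comp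
      (Algebra.TensorProduct.includeRight : Twist p A →ₐ[A] BaseChange p A B).toRingHom =
    (algebraMap A B).comp ((toTwist p A).symm : Twist p A →+* A) := by
  ext t
  change relFrob p A B ((1 : B) ⊗ₜ[A] t) = _
  rw [Groth.Agent.Lib.Helper6.FrobEtale.relFrob_tmul, one_pow, one_mul]
  rfl

theorem relFrob_finiteType [Algebra.FiniteType A B] : (relFrob p A B).FiniteType := by
  refine RingHom.FiniteType.of_comp_finiteType
    (f := (Algebra.TensorProduct.includeRight : Twist p A →ₐ[A] BaseChange p A B).toRingHom) ?_
  rw [relFrob_comp_includeRight]
  exact RingHom.FiniteType.comp (RingHom.finiteType_algebraMap.mpr inferInstance)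
    (RingHom.FiniteType.of_surjective _ (toTwist p A).symm.surjective)

theorem relFrob_finite [Algebra.FiniteType A B] : (relFrob p A B).Finite :=
  RingHom.IsIntegral.to_finite (Groth.Agent.S3191.result p A B).1 (relFrob_finiteType p A B)

theorem includeRight_finiteType [Algebra.FiniteType A B] :
    ((Algebra.TensorProduct.includeRight : Twist p A →ₐ[A] BaseChange p A B).toRingHom).FiniteType := by
  change (algebraMap (Twist p A) (BaseChange p A B)).FiniteType
  rw [RingHom.finiteType_algebraMap]
  exact Algebra.FiniteType.equiv (inferInstance : Algebra.FiniteType (Twist p A) (Twist p A ⊗[A] B))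
    (Algebra.TensorProduct.commRight A (Twist p A) B)

theorem relFrob_finitePresentation [Algebra.FinitePresentation A B] :
    (relFrob p A B).FinitePresentation := by
  refine RingHom.FinitePresentation.of_comp_finiteType
    (Algebra.TensorProduct.includeRight : Twist p A →ₐ[A] BaseChange p A B).toRingHom ?_
    (includeRight_finiteType p A B)
  rw [relFrob_comp_includeRight]
  exact RingHom.FinitePresentation.comp (RingHom.finitePresentation_algebraMap.mpr inferInstance)
    (RingHom.FinitePresentation.of_bijective (toTwist p A).symm.bijective)

theorem relFrob_projective [Algebra.Smooth A B] :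
    letI := (relFrob p A B).toAlgebra
    Module.Finite (BaseChange p A B) B ∧ Module.Projective (BaseChange p A B) B := by
  letI := (relFrob p A B).toAlgebra
  haveI hfin : Module.Finite (BaseChange p A B) B := relFrob_finite p A B
  haveI hflat : Module.Flat (BaseChange p A B) B := Groth.Agent.Lib.Helper6.RelFrobFlat.main p A B
  haveI hfp : Algebra.FinitePresentation (BaseChange p A B) B := relFrob_finitePresentation p A B
  haveI : Module.FinitePresentation (BaseChange p A B) B :=
    Module.FinitePresentation.of_finite_of_finitePresentation _ _
  exact ⟨hfin, Module.Flat.projective_of_finitePresentation⟩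

end General

end Groth.Agent.Lib.Helper12.RelFrobRank
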