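import Mathlib
import Groth.Prelude.Def_FrobAlg
import Groth.Agent.Lib.Helper6RelFrobFlat
import Groth.Agent.Lib.Helper12FrobTowerD

set_option autoImplicit false
universe u

namespace Groth.Agent.Lib.Helper12.RelFrobRank
open FrobAlg CategoryTheory TensorProduct
open Groth.Agent.Lib.Helper6.RelFrobFlat

section Pushout

variable (p : ℕ) [Fact p.Prime] (A : Type u) [CommRing A] [CharP A p]
  (B C : Type u) [CommRing B] [CommRing C] [Algebra A B] [Algebra A C]
  [Algebra B C] [IsScalarTower A B C]

/-- The square `B → B^{(p)}`, `B → C`, `C → C^{(p)}`, `B^{(p)} → C^{(p)}` is a pushout. -/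
theorem isPushout_twist :
    IsPushout
      (CommRingCat.ofHom (Algebra.TensorProduct.includeLeftRingHom : B →+* BaseChange p A B))
      (CommRingCat.ofHom (algebraMap B C))
      (CommRingCat.ofHom
        (twistMap p A (IsScalarTower.toAlgHom A B C) : BaseChange p A B →+* BaseChange p A C))
      (CommRingCat.ofHom (Algebra.TensorProduct.includeLeftRingHom : C →+* BaseChange p A C)) := by
  letI alg : Algebra (BaseChange p A B) (BaseChange p A C) :=
    (twistMap p A (IsScalarTower.toAlgHom A B C) : BaseChange p A B →+* BaseChange p A C).toAlgebra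
  haveI tw : IsScalarTower B (BaseChange p A B) (BaseChange p A C) :=
    IsScalarTower.of_algebraMap_eq (fun x => by
      change (algebraMap B C x) ⊗ₜ[A] (1 : Twist p A) =
        twistMap p A (IsScalarTower.toAlgHom A B C) (x ⊗ₜ[A] (1 : Twist p A))
      rw [twistMap_tmul]
      rfl)
  haveI po : Algebra.IsPushout B C (BaseChange p A B) (BaseChange p A C) :=
    Algebra.IsPushout.tensorProduct_tensorProduct A (Twist p A) B C (by
      apply RingHom.ext
      intro t
      change twistMap p A (IsScalarTower.toAlgHom A B C) ((1 : B) ⊗ₜ[A] t) = (1 : C) ⊗ₜ[A] t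
      rw [twistMap_tmul, map_one])
  haveI po' : Algebra.IsPushout B (BaseChange p A B) C (BaseChange p A C) := po.symm
  exact CommRingCat.isPushout_iff_isPushout.mpr po'

variable [CharP B p] [CharP C p] [Algebra.Etale B C]

/-- For `B → C` étale (in characteristic `p`), the relative Frobenius square is a pushout:
`C = B ⊗_{B^{(p)}} C^{(p)}`. -/
theorem isPushout_relFrob_of_etale :
    IsPushout (CommRingCat.ofHom (relFrob p A B))
      (CommRingCat.ofHom
        (twistMap p A (IsScalarTower.toAlgHom A B C) : BaseChange p A B →+* BaseChange p A C))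
      (CommRingCat.ofHom (algebraMap B C)) (CommRingCat.ofHom (relFrob p A C)) := by
  have hB : CommRingCat.ofHom
      (Algebra.TensorProduct.includeLeftRingHom : B →+* BaseChange p A B) ≫
      CommRingCat.ofHom (relFrob p A B) = CommRingCat.ofHom (frobenius B p) := by
    ext b
    change relFrob p A B (b ⊗ₜ[A] (1 : Twist p A)) = b ^ p
    rw [Groth.Agent.Lib.Helper6.FrobEtale.relFrob_tmul, map_one, map_one, mul_one]
  have hC : CommRingCat.ofHom
      (Algebra.TensorProduct.includeLeftRingHom : C →+* BaseChange p A C) ≫
      CommRingCat.ofHom (relFrob p A C) = CommRingCat.ofHom (frobenius C p) := by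
    ext c
    change relFrob p A C (c ⊗ₜ[A] (1 : Twist p A)) = c ^ p
    rw [Groth.Agent.Lib.Helper6.FrobEtale.relFrob_tmul, map_one, map_one, mul_one]
  have s := Groth.Agent.Lib.Helper12.RootTower.isPushout_frobenius_of_etale (p := p) B C
  rw [← hB, ← hC] at s
  refine IsPushout.of_left s ?_ (isPushout_twist p A B C)
  rw [← CommRingCat.ofHom_comp, ← CommRingCat.ofHom_comp]
  congr 1
  exact (relFrob_natural' p A (IsScalarTower.toAlgHom A B C)).symm

end Pushout

section Rank

/-- Rank transfer along a pushout square of rings. -/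
theorem finrank_of_isPushout {R S R' S' : Type u} [CommRing R] [CommRing S] [CommRing R']
    [CommRing S'] (f : R →+* S) (g : R →+* R') (g' : S →+* S') (f' : R' →+* S')
    (h : IsPushout (CommRingCat.ofHom f) (CommRingCat.ofHom g) (CommRingCat.ofHom g')
      (CommRingCat.ofHom f')) (hfin : f.Finite) (hflat : f.Flat) (x : PrimeSpectrum R') :
    f'.finrank x = f.finrank (PrimeSpectrum.comap g x) := by
  have hw : g'.comp f = f'.comp g := by
    have := h.w
    rw [← CommRingCat.ofHom_comp, ← CommRingCat.ofHom_comp] at this
    exact congrArg CommRingCat.Hom.hom this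
  algebraize [f, g, g', f', f'.comp g]
  haveI : IsScalarTower R S S' := .of_algebraMap_eq' hw.symm
  haveI : Algebra.IsPushout R S R' S' := CommRingCat.isPushout_iff_isPushout.mp h
  exact Algebra.rankAtStalk_eq_of_isPushout R S R' S' x

end Rank

end Groth.Agent.Lib.Helper12.RelFrobRank
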