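import Mathlib
import Groth.Prelude.Def_FrobAlg
import Groth.Agent.Lib.Helper6RelFrobFlat
import Groth.Agent.Lib.Helper12RFRankA
import Groth.Agent.Lib.Helper12RFRankB

set_option autoImplicit false
universe u v w

namespace Groth.Agent.Lib.Helper12.RelFrobRank
open FrobAlg CategoryTheory TensorProduct MvPolynomial
open Groth.Agent.Lib.Helper6.RelFrobFlat

section Expand

variable (σ : Type) [Fintype σ] (R : Type u) [CommRing R] (p : ℕ) [NeZero p]

/-- A ring `S` over `R₀ ≅ R[X_σ]` which is `expand p` up to ring isomorphisms is free with basis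
indexed by `σ → Fin p`. -/
theorem nonempty_equiv_of_expand {R₀ : Type v} {S : Type w} [CommRing R₀] [CommRing S]
    [Algebra R₀ S] (φ : R₀ ≃+* MvPolynomial σ R) (ε : S ≃+* MvPolynomial σ R)
    (h : ∀ r, ε (algebraMap R₀ S r) = expand p (φ r)) :
    Nonempty (((σ → Fin p) →₀ R₀) ≃ₗ[R₀] S) := by
  let L : ((σ → Fin p) →₀ R₀) →ₗ[R₀] S :=
    Finsupp.linearCombination R₀ (fun e => ε.symm (mon σ R p e))
  let mφ : ((σ → Fin p) →₀ R₀) ≃+ ((σ → Fin p) →₀ MvPolynomial σ R) :=
    Finsupp.mapRange.addEquiv (φ : R₀ ≃+ MvPolynomial σ R)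
  have hL : ∀ x, ε (L x) = Psi σ R p (mφ x) := by
    intro x
    induction x using Finsupp.induction_linear with
    | zero => simp
    | add x y hx hy => rw [map_add, map_add, map_add, map_add, hx, hy]
    | single e f =>
      have h1 : mφ (Finsupp.single e f) = Finsupp.single e (φ f) := by
        simp [mφ]
      rw [h1, Psi_single, Finsupp.linearCombination_single, Algebra.smul_def, map_mul, h,
        RingEquiv.apply_symm_apply]
  have hbij : Function.Bijective L := by
    have : (L : _ → S) = ε.symm ∘ (Psi σ R p) ∘ mφ := by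
      funext x
      rw [Function.comp_apply, Function.comp_apply, ← hL, RingEquiv.symm_apply_apply]
    rw [this]
    exact ε.symm.bijective.comp ((Psi_bijective σ R p).comp mφ.bijective)
  exact ⟨LinearEquiv.ofBijective L hbij⟩

theorem rankAtStalk_of_expand {R₀ : Type v} {S : Type w} [CommRing R₀] [CommRing S]
    [Algebra R₀ S] (φ : R₀ ≃+* MvPolynomial σ R) (ε : S ≃+* MvPolynomial σ R)
    (h : ∀ r, ε (algebraMap R₀ S r) = expand p (φ r)) (x : PrimeSpectrum R₀) :
    Module.rankAtStalk (R := R₀) S x = p ^ Fintype.card σ := by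
  obtain ⟨e⟩ := nonempty_equiv_of_expand σ R p φ ε h
  haveI : Nontrivial R₀ := x.nontrivial
  rw [← Module.rankAtStalk_eq_of_equiv e, Module.rankAtStalk_eq_finrank_of_free]
  have h1 : Module.finrank R₀ ((σ → Fin p) →₀ R₀) = p ^ Fintype.card σ := by
    classical
    rw [Module.finrank_finsupp_self, Fintype.card_fun, Fintype.card_fin]
  simpa using h1

end Expand

section Poly

variable (p : ℕ) [Fact p.Prime] (A : Type u) [CommRing A] [CharP A p] (σ : Type) [Fintype σ]

theorem relFrob_poly_finrank (y : PrimeSpectrum (BaseChange p A (MvPolynomial σ A))) :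
    (relFrob p A (MvPolynomial σ A)).finrank y = p ^ Fintype.card σ := by
  haveI : NeZero p := ⟨(Fact.out : p.Prime).ne_zero⟩
  letI := (relFrob p A (MvPolynomial σ A)).toAlgebra
  change Module.rankAtStalk (R := BaseChange p A (MvPolynomial σ A)) (MvPolynomial σ A) y = _
  refine rankAtStalk_of_expand σ A p (polyEquiv p A σ) (RingEquiv.refl _) (fun r => ?_) y
  change relFrob p A (MvPolynomial σ A) r = _
  rw [relFrob_poly_eq]
  rfl

end Poly

end Groth.Agent.Lib.Helper12.RelFrobRank
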