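import Mathlib
import Groth.Prelude.Def_FrobAlg
import Groth.Agent.Lib.Helper6RelFrobFlat
import Groth.Agent.Lib.Helper12FrobTowerF
import Groth.Agent.Lib.Helper12RFRankC

set_option autoImplicit false
universe u

namespace Groth.Agent.Lib.Helper12.RelFrobRank
open FrobAlg CategoryTheory TensorProduct MvPolynomial
open Groth.Agent.Lib.Helper6.RelFrobFlat

section Omega

/-- If `C` is étale over `B` and over a polynomial ring `A[X_1..X_n]`, then the rank of `Ω_{B/A}`
at the image of a prime of `C` is `n`. -/
theorem rankAtStalk_kaehler_eq (A B C : Type u) [CommRing A] [CommRing B] [CommRing C]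
    [Algebra A B] [Algebra A C] [Algebra B C] [IsScalarTower A B C] [Algebra.Etale B C]
    [Algebra.Smooth A B]
    (n : ℕ) [Algebra (MvPolynomial (Fin n) A) C] [IsScalarTower A (MvPolynomial (Fin n) A) C]
    [Algebra.Etale (MvPolynomial (Fin n) A) C] (x : PrimeSpectrum C) :
    Module.rankAtStalk (R := B) (KaehlerDifferential A B)
      (PrimeSpectrum.comap (algebraMap B C) x) = n := by
  have e1 := KaehlerDifferential.tensorKaehlerEquivOfFormallyEtale A (MvPolynomial (Fin n) A) C
  have e2 := KaehlerDifferential.tensorKaehlerEquivOfFormallyEtale A B C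
  haveI : Nontrivial (MvPolynomial (Fin n) A) :=
    (PrimeSpectrum.comap (algebraMap (MvPolynomial (Fin n) A) C) x).nontrivial
  rw [← Module.rankAtStalk_baseChange (S := C), Module.rankAtStalk_eq_of_equiv e2,
    ← Module.rankAtStalk_eq_of_equiv e1, Module.rankAtStalk_baseChange,
    Module.rankAtStalk_eq_finrank_of_free,
    Module.finrank_eq_card_basis (KaehlerDifferential.mvPolynomialBasis A (Fin n))]
  simp

end Omega

section Main

variable (p : ℕ) [Fact p.Prime] (A : Type u) [CommRing A] [CharP A p]
  (B : Type u) [CommRing B] [Algebra A B] [CharP B p] [Algebra.Smooth A B]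

theorem exists_prime_over (q : PrimeSpectrum (BaseChange p A B)) :
    ∃ Q : PrimeSpectrum B, PrimeSpectrum.comap (relFrob p A B) Q = q := by
  letI := (relFrob p A B).toAlgebra
  haveI : Algebra.IsIntegral (BaseChange p A B) B :=
    ⟨(Groth.Agent.S3191.result p A B).1⟩
  obtain ⟨Q, -, hQ, hQq⟩ := Ideal.exists_ideal_over_prime_of_isIntegral q.asIdeal (⊥ : Ideal B)
    (by
      intro x hx
      have hx0 : relFrob p A B x = 0 := hx
      have := (Groth.Agent.S3191.result p A B).2 x hx0
      exact q.2.mem_of_pow_mem p (this ▸ q.asIdeal.zero_mem))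
  exact ⟨⟨Q, hQ⟩, PrimeSpectrum.ext hQq⟩

theorem main (r : ℕ)
    (hr : ∀ q : PrimeSpectrum B, Module.rankAtStalk (R := B) (KaehlerDifferential A B) q = r) :
    letI := (relFrob p A B).toAlgebra
    Module.Finite (BaseChange p A B) B ∧ Module.Projective (BaseChange p A B) B ∧
      ∀ q : PrimeSpectrum (BaseChange p A B),
        Module.rankAtStalk (R := BaseChange p A B) B q = p ^ r := by
  obtain ⟨hfin, hproj⟩ := relFrob_projective p A B
  refine ⟨hfin, hproj, fun q => ?_⟩
  change (relFrob p A B).finrank q = p ^ r
  obtain ⟨Q, hQ⟩ := exists_prime_over p A B q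
  haveI : Algebra.IsSmoothAt A Q.asIdeal := by
    have := Algebra.smoothLocus_eq_univ (R := A) (A := B)
    have hmem : Q ∈ Algebra.smoothLocus A B := by
      rw [this]; trivial
    exact hmem
  obtain ⟨f, hf, n, alg, tower, hse⟩ :=
    Algebra.IsSmoothAt.exists_isStandardEtale_mvPolynomial (R := A) (S := B) (p := Q.asIdeal)
  haveI : CharP (Localization.Away f) p :=
    Groth.Agent.Lib.Helper12.RootTower.charP_localizationAway B f Q.asIdeal hf
  haveI : Algebra.Etale B (Localization.Away f) := Algebra.Etale.of_isLocalizationAway f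
  obtain ⟨QC, hQC⟩ : ∃ QC : PrimeSpectrum (Localization.Away f),
      PrimeSpectrum.comap (algebraMap B (Localization.Away f)) QC = Q := by
    have : Q ∈ Set.range (PrimeSpectrum.comap (algebraMap B (Localization.Away f))) := by
      rw [PrimeSpectrum.localization_away_comap_range (Localization.Away f) f]
      exact hf
    exact this
  set x : PrimeSpectrum (BaseChange p A (Localization.Away f)) :=
    PrimeSpectrum.comap (relFrob p A (Localization.Away f)) QC with hx
  have hxq : PrimeSpectrum.comap
      (twistMap p A (IsScalarTower.toAlgHom A B (Localization.Away f)) :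
        BaseChange p A B →+* BaseChange p A (Localization.Away f)) x = q := by
    rw [hx, ← PrimeSpectrum.comap_comp_apply, relFrob_natural', PrimeSpectrum.comap_comp_apply]
    change PrimeSpectrum.comap (relFrob p A B)
      (PrimeSpectrum.comap (algebraMap B (Localization.Away f)) QC) = q
    rw [hQC, hQ]
  have h1 := finrank_of_isPushout (relFrob p A B)
    (twistMap p A (IsScalarTower.toAlgHom A B (Localization.Away f)) :
        BaseChange p A B →+* BaseChange p A (Localization.Away f))
    (algebraMap B (Localization.Away f)) (relFrob p A (Localization.Away f))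
    (isPushout_relFrob_of_etale p A B (Localization.Away f)) (relFrob_finite p A B)
    (Groth.Agent.Lib.Helper6.RelFrobFlat.main p A B) x
  have h2 := finrank_of_isPushout (relFrob p A (MvPolynomial (Fin n) A))
    (twistMap p A (IsScalarTower.toAlgHom A (MvPolynomial (Fin n) A) (Localization.Away f)) :
        BaseChange p A (MvPolynomial (Fin n) A) →+* BaseChange p A (Localization.Away f))
    (algebraMap (MvPolynomial (Fin n) A) (Localization.Away f))
    (relFrob p A (Localization.Away f))
    (isPushout_relFrob_of_etale p A (MvPolynomial (Fin n) A) (Localization.Away f))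
    (relFrob_finite p A (MvPolynomial (Fin n) A))
    (relFrob_poly_flat p A (Fin n)) x
  rw [relFrob_poly_finrank, Fintype.card_fin] at h2
  rw [hxq] at h1
  rw [← h1, h2]
  congr 1
  have := rankAtStalk_kaehler_eq A B (Localization.Away f) n QC
  rw [hQC, hr] at this
  exact this.symm

end Main

end Groth.Agent.Lib.Helper12.RelFrobRank
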