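import Mathlib
set_option backward.isDefEq.respectTransparency.types false

/-!
# Commutative algebra for the relative vanishing theorem along a section (helper12)

* `mem_of_mul_mem`: for `m` maximal, `ε ∉ I'`, `m ε ⊆ I'`, the colon ideal `(I' : ε)` is `m`
* `mem_smul_top_of_smul_mem`: for a flat module, `ε n ∈ I' N → n ∈ m N` when `(I' : ε) = m`
* `mem_map_smul_top_of_smul_mem`: the same statement through a ring map `A → B`
* `eq_zero_of_one_tmul_eq_zero`: for `β : B → B₀` surjective whose kernel kills `G`, `g ↦ 1 ⊗ g` is injective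
* `ideal_induction`: descending induction along small extensions from `⊤` to `m ^ k`
-/

set_option autoImplicit false
set_option linter.style.haveILetI false
universe u v w
open TensorProduct

namespace Groth.Agent.Lib.Helper12.RelXiAlg

section colon

variable {A : Type u} [CommRing A]

theorem mem_of_mul_mem {m I' : Ideal A} [hmax : m.IsMaximal] {ε : A} (hε : ε ∉ I')
    (hm : ∀ a ∈ m, a * ε ∈ I') (a : A) (ha : a * ε ∈ I') : a ∈ m := by
  by_contra hna
  obtain ⟨y, i, hi, hyi⟩ := hmax.exists_inv hna
  apply hε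
  have : ε = y * (a * ε) + i * ε := by
    calc ε = 1 * ε := (one_mul ε).symm
      _ = (y * a + i) * ε := by rw [hyi]
      _ = y * (a * ε) + i * ε := by ring
  rw [this]
  exact I'.add_mem (I'.mul_mem_left y ha) (hm i hi)

end colon

section flat

variable {A : Type u} [CommRing A] {N : Type v} [AddCommGroup N] [Module A N]

theorem mem_smul_top_of_smul_mem [Module.Flat A N] (I' m : Ideal A) (ε : A)
    (hcolon : ∀ a, a * ε ∈ I' → a ∈ m) (hm : ∀ a ∈ m, a * ε ∈ I')
    (n : N) (h : ε • n ∈ I' • (⊤ : Submodule A N)) : n ∈ m • (⊤ : Submodule A N) := by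
  let μ : A ⧸ m →ₗ[A] A ⧸ I' :=
    Submodule.liftQ m ((Submodule.mkQ I').comp (LinearMap.mulRight A ε)) (by
      intro a ha
      rw [LinearMap.mem_ker]
      show Submodule.Quotient.mk (a * ε) = (0 : A ⧸ I')
      rw [Submodule.Quotient.mk_eq_zero]
      exact hm a ha)
  have hμmk : ∀ a : A, μ (Ideal.Quotient.mk m a) = Ideal.Quotient.mk I' (a * ε) := fun a => rfl
  have hμ : Function.Injective μ := by
    rw [← LinearMap.ker_eq_bot, LinearMap.ker_eq_bot']
    intro x hx
    obtain ⟨a, rfl⟩ := Ideal.Quotient.mk_surjective x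
    rw [hμmk, Ideal.Quotient.eq_zero_iff_mem] at hx
    rw [Ideal.Quotient.eq_zero_iff_mem]
    exact hcolon a hx
  have hinj := Module.Flat.lTensor_preserves_injective_linearMap (M := N) μ hμ
  have h1 : (μ.lTensor N) (n ⊗ₜ[A] (Ideal.Quotient.mk m 1)) = 0 := by
    rw [LinearMap.lTensor_tmul, hμmk, one_mul]
    apply (tensorQuotEquivQuotSMul N I').injective
    rw [tensorQuotEquivQuotSMul_tmul_mk, map_zero, Submodule.Quotient.mk_eq_zero]
    exact h
  have h2 : n ⊗ₜ[A] (Ideal.Quotient.mk m (1 : A)) = 0 := hinj (by rw [h1, map_zero])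
  have h3 := congrArg (tensorQuotEquivQuotSMul N m) h2
  rw [tensorQuotEquivQuotSMul_tmul_mk, map_zero, Submodule.Quotient.mk_eq_zero, one_smul] at h3
  exact h3

end flat

section tower

variable {A : Type u} {B : Type v} [CommRing A] [CommRing B] [Algebra A B]
  {N : Type w} [AddCommGroup N] [Module A N] [Module B N] [IsScalarTower A B N]

theorem mem_smul_top_of_mem_map_smul_top (I : Ideal A) (n : N)
    (h : n ∈ (I.map (algebraMap A B)) • (⊤ : Submodule B N)) : n ∈ I • (⊤ : Submodule A N) := by
  refine Submodule.smul_induction_on h ?_ ?_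
  · intro b hb n _
    have key : ∀ n : N, b • n ∈ I • (⊤ : Submodule A N) := by
      unfold Ideal.map at hb
      refine Submodule.span_induction (p := fun b _ => ∀ n : N, b • n ∈ I • (⊤ : Submodule A N))
        ?_ ?_ ?_ ?_ hb
      · rintro _ ⟨a, ha, rfl⟩ n
        rw [algebraMap_smul]
        exact Submodule.smul_mem_smul ha trivial
      · intro n
        rw [zero_smul]
        exact Submodule.zero_mem _
      · intro x y _ _ hx hy n
        rw [add_smul]
        exact add_mem (hx n) (hy n)
      · intro c x _ hx n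
        rw [smul_eq_mul, mul_comm, mul_smul]
        exact hx (c • n)
    exact key n
  · intro x y hx hy
    exact add_mem hx hy

theorem mem_map_smul_top_of_mem_smul_top (I : Ideal A) (n : N)
    (h : n ∈ I • (⊤ : Submodule A N)) : n ∈ (I.map (algebraMap A B)) • (⊤ : Submodule B N) := by
  refine Submodule.smul_induction_on h ?_ ?_
  · intro a ha n _
    rw [← algebraMap_smul B a n]
    exact Submodule.smul_mem_smul (Ideal.mem_map_of_mem _ ha) trivial
  · intro x y hx hy
    exact add_mem hx hy

end tower

section ringhom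

variable {A : Type u} {B : Type v} [CommRing A] [CommRing B] (ρ : A →+* B)
  {N : Type w} [AddCommGroup N] [Module B N]

/-- the flatness consequence through a ring map -/
theorem mem_map_smul_top_of_smul_mem
    (hflat : @Module.Flat A N _ _ (Module.compHom N ρ))
    (I' m : Ideal A) (ε : A)
    (hcolon : ∀ a, a * ε ∈ I' → a ∈ m) (hm : ∀ a ∈ m, a * ε ∈ I')
    (n : N) (h : ρ ε • n ∈ (I'.map ρ) • (⊤ : Submodule B N)) :
    n ∈ (m.map ρ) • (⊤ : Submodule B N) := by
  letI : Algebra A B := ρ.toAlgebra
  letI : Module A N := Module.compHom N ρ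
  haveI : IsScalarTower A B N := IsScalarTower.of_algebraMap_smul (fun a n => rfl)
  haveI : Module.Flat A N := hflat
  have h1 : ε • n ∈ I' • (⊤ : Submodule A N) := mem_smul_top_of_mem_map_smul_top (B := B) I' _ h
  have h2 := mem_smul_top_of_smul_mem I' m ε hcolon hm n h1
  exact mem_map_smul_top_of_mem_smul_top (B := B) m n h2

end ringhom

section tensor

variable {B : Type u} {B₀ : Type v} [CommRing B] [CommRing B₀] [Algebra B B₀]
  {G : Type w} [AddCommGroup G] [Module B G]

theorem eq_zero_of_one_tmul_eq_zero (hβ : Function.Surjective (algebraMap B B₀))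
    (hker : ∀ b : B, algebraMap B B₀ b = 0 → ∀ g : G, b • g = 0)
    (g : G) (h : (1 : B₀) ⊗ₜ[B] g = 0) : g = 0 := by
  let f : B →ₐ[B] B₀ := Algebra.ofId B B₀
  have hf : Function.Surjective f := hβ
  let e : (B ⧸ RingHom.ker f) ≃ₐ[B] B₀ := Ideal.quotientKerAlgEquivOfSurjective hf
  have h1 : (LinearMap.rTensor G e.symm.toLinearMap) ((1 : B₀) ⊗ₜ[B] g) = 0 := by
    rw [h, map_zero]
  rw [LinearMap.rTensor_tmul] at h1
  have h2 : e.symm.toLinearMap (1 : B₀) = (1 : B ⧸ RingHom.ker f) := map_one e.symm
  rw [h2] at h1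
  have h3 := congrArg (quotTensorEquivQuotSMul G (RingHom.ker f)) h1
  rw [quotTensorEquivQuotSMul_mk_one_tmul, map_zero, Submodule.Quotient.mk_eq_zero] at h3
  have hbot : (RingHom.ker f) • (⊤ : Submodule B G) = ⊥ := by
    rw [eq_bot_iff]
    intro x hx
    refine Submodule.smul_induction_on hx ?_ ?_
    · intro b hb g' _
      rw [Submodule.mem_bot]
      exact hker b hb g'
    · intro x y hx hy
      exact add_mem hx hy
  rw [hbot, Submodule.mem_bot] at h3
  exact h3

end tensor

section induction

variable {A : Type u} [CommRing A] [IsNoetherianRing A]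

theorem ideal_induction (m : Ideal A) [m.IsMaximal] (P : Ideal A → Prop) (htop : P ⊤)
    (hstep : ∀ (I' : Ideal A) (ε : A), ε ∉ I' → (∀ a ∈ m, a * ε ∈ I') → (∃ k, m ^ k ≤ I') →
      P (I' ⊔ Ideal.span {ε}) → P I') (k : ℕ) : P (m ^ k) := by
  classical
  induction k with
  | zero => rw [pow_zero, Ideal.one_eq_top]; exact htop
  | succ k ih =>
    obtain ⟨s, hs⟩ := (isNoetherianRing_iff_ideal_fg A).1 inferInstance (m ^ k)
    have key : ∀ (s : Finset A), (↑s : Set A) ⊆ ↑(m ^ k) → P (m ^ (k + 1) ⊔ Ideal.span (↑s : Set A)) →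
        P (m ^ (k + 1)) := by
      intro s
      induction s using Finset.induction_on with
      | empty =>
        intro _ h
        rwa [Finset.coe_empty, Ideal.span_empty, sup_bot_eq] at h
      | insert c s hc ihs =>
        intro hsub h
        have hcs : (↑s : Set A) ⊆ ↑(m ^ k) := fun x hx => hsub (by
          rw [Finset.coe_insert]; exact Set.mem_insert_of_mem _ hx)
        have hcm : c ∈ m ^ k := hsub (by rw [Finset.coe_insert]; exact Set.mem_insert _ _)
        apply ihs hcs
        have hspan : m ^ (k + 1) ⊔ Ideal.span (↑(insert c s) : Set A) =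
            (m ^ (k + 1) ⊔ Ideal.span (↑s : Set A)) ⊔ Ideal.span {c} := by
          rw [Finset.coe_insert, Set.insert_eq, Ideal.span_union, sup_assoc,
            sup_comm (Ideal.span {c}) _]
        rw [hspan] at h
        by_cases hcI : c ∈ m ^ (k + 1) ⊔ Ideal.span (↑s : Set A)
        · have : (m ^ (k + 1) ⊔ Ideal.span (↑s : Set A)) ⊔ Ideal.span {c} =
              m ^ (k + 1) ⊔ Ideal.span (↑s : Set A) := by
            rw [sup_eq_left, Ideal.span_le]
            intro x hx
            rw [Set.mem_singleton_iff] at hx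
            rw [hx]
            exact hcI
          rwa [this] at h
        · refine hstep _ c hcI ?_ ⟨k + 1, le_sup_left⟩ h
          intro a ha
          apply Ideal.mem_sup_left
          rw [pow_succ']
          exact Ideal.mul_mem_mul ha hcm
    apply key s
    · intro x hx
      rw [← hs]
      exact Ideal.subset_span hx
    · rw [hs]
      have : m ^ (k + 1) ⊔ m ^ k = m ^ k := by
        rw [sup_eq_right]
        exact Ideal.pow_le_pow_right (Nat.le_succ k)
      rw [this]
      exact ih

end induction

end Groth.Agent.Lib.Helper12.RelXiAlg
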