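import Groth.Agent.Lib.Helper17FlatDev2
import Groth.Agent.Lib.Helper17HHLes

/-!
# Dévissage for flat modules over a Noetherian local ring (helper17)

For `A` Noetherian local with maximal ideal `m`, `X` over `Spec A`, `M` quasi-coherent and flat over `A`:

* `subsingleton_HH_Q`: if `H^q(X, M/mM) = 0` then `H^q(X, M/JM) = 0` for every `m`-primary `J ≤ m`;
* `surjective_Hm_Qmap`: if `H^{q+1}(X, M/mM) = 0` then `H^q(X, M/JM) → H^q(X, M/J''M)` is surjective whenever
  `m^N J'' ≤ J ≤ J''`.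
-/

set_option autoImplicit false
universe u
open CategoryTheory Limits AlgebraicGeometry TopologicalSpace Opposite

namespace Groth.Agent.Lib.Helper17.FlatDev

open Groth.Agent.Lib.Helper17.HHLes

/-- existence of socle elements. -/
theorem exists_socle {A : Type*} [CommRing A] (m J J'' : Ideal A) (hlt : J < J'') (N : ℕ)
    (hN : m ^ N * J'' ≤ J) : ∃ a ∈ J'', a ∉ J ∧ ∀ b ∈ m, a * b ∈ J := by
  obtain ⟨x, hxJ'', hxJ⟩ := SetLike.exists_of_lt hlt
  classical
  let P : ℕ → Prop := fun j => ∀ b ∈ m ^ j, b * x ∈ J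
  have hPN : P N := fun b hb => hN (Ideal.mul_mem_mul hb hxJ'')
  have hP0 : ¬ P 0 := fun h => hxJ (by simpa using h 1 (by simp))
  have hex : ∃ j, P j := ⟨N, hPN⟩
  have hj := Nat.find_spec hex
  have hj0 : Nat.find hex ≠ 0 := fun h => hP0 (h ▸ hj)
  obtain ⟨j, hjeq⟩ := Nat.exists_eq_succ_of_ne_zero hj0
  have hnot : ¬ P j := Nat.find_min hex (by omega)
  simp only [P, not_forall] at hnot
  obtain ⟨b, hb, hbx⟩ := hnot
  refine ⟨b * x, J''.mul_mem_left b hxJ'', hbx, fun c hc => ?_⟩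
  have h1 : c * b ∈ m ^ (Nat.find hex) := by
    rw [hjeq, pow_succ']
    exact Ideal.mul_mem_mul hc hb
  have h2 := hj (c * b) h1
  have e : b * x * c = c * b * x := by ring
  rw [e]
  exact h2

variable {A : Type u} [CommRing A] [IsNoetherianRing A] [IsLocalRing A]
  {X : Scheme.{u}} [X.Over (Spec (CommRingCat.of A))]
  (M : X.Modules) [M.IsQuasicoherent]
  (hfl : FlatMod.IsFlatOver (X ↘ Spec (CommRingCat.of A)) M)

local notation "𝔪" => IsLocalRing.maximalIdeal A

omit [IsNoetherianRing A] in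
theorem colon_of_not_mem (J : Ideal A) (a : A) (ha : a ∉ J) : ∀ x, x * a ∈ J → x ∈ 𝔪 := by
  intro x hx
  by_contra hxm
  have hu : IsUnit x := by
    by_contra h
    exact hxm ((IsLocalRing.mem_maximalIdeal x).2 h)
  exact ha ((Ideal.unit_mul_mem_iff_mem J hu).1 hx)

include hfl in
/-- the step short exact sequence for a socle element. -/
theorem stepSC_shortExact' (J : Ideal A) (a : A) (ha : a ∉ J) (hm : ∀ b ∈ 𝔪, a * b ∈ J) :
    (stepSC M 𝔪 J a hm).ShortExact :=
  stepSC_shortExact M 𝔪 J a hm hfl (colon_of_not_mem J a ha)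

include hfl in
theorem subsingleton_HH_Q (q : ℕ) (h0 : Subsingleton (Coh.HH X (Q 𝔪 M) q)) :
    ∀ J : Ideal A, J ≤ 𝔪 → (∃ N : ℕ, 𝔪 ^ N ≤ J) → Subsingleton (Coh.HH X (Q J M) q) := by
  intro J
  induction J using IsNoetherian.induction with
  | hgt J ih =>
    intro hJm hN
    obtain ⟨N, hN⟩ := hN
    rcases eq_or_lt_of_le hJm with rfl | hlt
    · exact h0
    · obtain ⟨a, ham, haJ, hm⟩ := exists_socle 𝔪 J 𝔪 hlt N
        ((Ideal.mul_le_left (I := 𝔪 ^ N) (J := 𝔪)).trans hN)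
      have hS := stepSC_shortExact' M hfl J a haJ hm
      have hgt : J < J ⊔ Ideal.span {a} :=
        lt_of_le_of_ne le_sup_left (fun h => haJ (h ▸ mem_sup_span J a))
      have hle : J ⊔ Ideal.span {a} ≤ 𝔪 :=
        sup_le hJm ((Ideal.span_singleton_le_iff_mem _).2 ham)
      haveI := ih _ hgt hle ⟨N, hN.trans le_sup_left⟩
      refine ⟨fun x y => ?_⟩
      suffices H : ∀ z : Coh.HH X (Q J M) q, z = 0 by rw [H x, H y]
      intro z
      obtain ⟨w, hw⟩ := exact₂ (stepSC M 𝔪 J a hm) hS q z (Subsingleton.elim _ _)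
      rw [← hw, Subsingleton.elim w 0, map_zero]

include hfl in
theorem surjective_Hm_Qmap (q : ℕ) (h0 : Subsingleton (Coh.HH X (Q 𝔪 M) (q + 1)))
    (J'' : Ideal A) : ∀ (J : Ideal A) (h : J ≤ J''), (∃ N : ℕ, 𝔪 ^ N * J'' ≤ J) →
      Function.Surjective (Hm (Qmap h M) q) := by
  intro J
  induction J using IsNoetherian.induction with
  | hgt J ih =>
    intro h hN
    obtain ⟨N, hN⟩ := hN
    rcases eq_or_lt_of_le h with rfl | hlt
    · intro x
      exact ⟨x, by rw [Qmap_refl, Hm_id]⟩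
    · obtain ⟨a, haJ'', haJ, hm⟩ := exists_socle 𝔪 J J'' hlt N hN
      have hS := stepSC_shortExact' M hfl J a haJ hm
      have hgt : J < J ⊔ Ideal.span {a} :=
        lt_of_le_of_ne le_sup_left (fun h => haJ (h ▸ mem_sup_span J a))
      have hle : J ⊔ Ideal.span {a} ≤ J'' :=
        sup_le h ((Ideal.span_singleton_le_iff_mem _).2 haJ'')
      have h1 := ih _ hgt hle ⟨N, hN.trans le_sup_left⟩
      intro x
      obtain ⟨y, rfl⟩ := h1 x
      obtain ⟨z, rfl⟩ := exact₃ (stepSC M 𝔪 J a hm) hS q y (Subsingleton.elim _ _)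
      refine ⟨z, ?_⟩
      change _ = Hm (Qmap hle M) q (Hm (Qmap (le_sup_left : J ≤ J ⊔ Ideal.span {a}) M) q z)
      rw [Hm_comp, Qmap_comp]

end Groth.Agent.Lib.Helper17.FlatDev
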