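import Mathlib
import Groth.Prelude.Def_Omega4

set_option autoImplicit false
set_option linter.style.haveILetI false
universe u
open CategoryTheory CategoryTheory.Limits AlgebraicGeometry TopologicalSpace Opposite

namespace Groth.Agent.Helper18Om

variable {X S X' S' : Scheme.{u}}

theorem der_ext {f : X ⟶ S} {F : X.Modules} (D₁ D₂ : OmegaSh.Der f F)
    (h : ∀ (U : X.Opens) (s : Γ(X, U)), D₁.app U s = D₂.app U s) : D₁ = D₂ := by
  apply PresheafOfModules.Derivation.ext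
  funext W
  exact AddMonoidHom.ext fun s => h W.unop s

theorem postcomp_app {f : X ⟶ S} {F G : X.Modules} (D : OmegaSh.Der f F) (α : F ⟶ G) (U : X.Opens)
    (s : Γ(X, U)) : OmegaSh.Der.app (f := f) (F := G) (D.postcomp α.val) U s = α.app U (D.app U s) := rfl

/-- the derivation `O_X → h_* Ω'`, `s ↦ d'(h♯ s)`, attached to a commutative square. -/
noncomputable def pushDer (f : X ⟶ S) (f' : X' ⟶ S') (h : X' ⟶ X) (b : S' ⟶ S)
    (hsq : f' ≫ b = h ≫ f) {Ω' : X'.Modules} (d' : OmegaSh.Der f' Ω') :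
    OmegaSh.Der f ((Scheme.Modules.pushforward h).obj Ω') where
  d {W} := (d'.app (h ⁻¹ᵁ W.unop)).comp (h.app W.unop).hom.toAddMonoidHom
  d_mul {W} a c := by
    change d'.app (h ⁻¹ᵁ W.unop) (h.app W.unop (a * c)) = _
    rw [map_mul]
    exact d'.d_mul _ _
  d_map {W W'} i a := by
    change d'.app (h ⁻¹ᵁ W'.unop) (h.app W'.unop (X.presheaf.map i a)) = _
    have h1 : h.app W'.unop (X.presheaf.map i a) =
        X'.presheaf.map ((Opens.map h.base).map i.unop).op (h.app W.unop a) := by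
      have := h.naturality i
      exact congr($this a)
    rw [h1]
    exact d'.d_map _ _
  d_app {V} a := by
    change d'.app (h ⁻¹ᵁ (f ⁻¹ᵁ V.unop)) (h.app (f ⁻¹ᵁ V.unop) (f.app V.unop a)) = 0
    have h1 : h.app (f ⁻¹ᵁ V.unop) (f.app V.unop a) = (h ≫ f).app V.unop a := by
      rw [Scheme.Hom.comp_app]
      rfl
    have h2 := Scheme.Hom.congr_app hsq.symm V.unop
    rw [h1, h2, Scheme.Hom.comp_app]
    change d'.app _ (X'.presheaf.map _ (f'.app (b ⁻¹ᵁ V.unop) (b.app V.unop a))) = 0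
    have h3 := d'.d_map (X := op (f' ⁻¹ᵁ (b ⁻¹ᵁ V.unop)))
      (Y := op (h ⁻¹ᵁ (f ⁻¹ᵁ V.unop))) (eqToHom (by
        change (h ≫ f) ⁻¹ᵁ V.unop = (f' ≫ b) ⁻¹ᵁ V.unop
        rw [hsq])).op
      (f'.app (b ⁻¹ᵁ V.unop) (b.app V.unop a))
    have h4 : d'.d (X := op (f' ⁻¹ᵁ (b ⁻¹ᵁ V.unop)))
        (f'.app (b ⁻¹ᵁ V.unop) (b.app V.unop a)) = 0 :=
      d'.d_app (X := op (b ⁻¹ᵁ V.unop)) (b.app V.unop a)
    rw [h4, map_zero] at h3
    exact h3


theorem pushDer_app (f : X ⟶ S) (f' : X' ⟶ S') (h : X' ⟶ X) (b : S' ⟶ S)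
    (hsq : f' ≫ b = h ≫ f) {Ω' : X'.Modules} (d' : OmegaSh.Der f' Ω') (U : X.Opens) (s : Γ(X, U)) :
    (pushDer f f' h b hsq d').app U s = d'.app (h ⁻¹ᵁ U) (h.app U s) := rfl

theorem homEquiv_app (h : X' ⟶ X) {Ω : X.Modules} {Ω' : X'.Modules}
    (c : (Scheme.Modules.pullback h).obj Ω ⟶ Ω') (U : X.Opens) (x : Γ(Ω, U)) :
    ((Scheme.Modules.pullbackPushforwardAdjunction h).homEquiv Ω Ω' c).app U x =
      c.app (h ⁻¹ᵁ U) (OmegaSh.pullSect h Ω U x) := by
  rw [Adjunction.homEquiv_unit]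
  rfl

theorem isDiffCompat_iff (f : X ⟶ S) (f' : X' ⟶ S') (h : X' ⟶ X) (b : S' ⟶ S)
    (hsq : f' ≫ b = h ≫ f) {Ω : X.Modules} (d : OmegaSh.Der f Ω) {Ω' : X'.Modules}
    (d' : OmegaSh.Der f' Ω') (c : (Scheme.Modules.pullback h).obj Ω ⟶ Ω') :
    OmegaSh.IsDiffCompat h d d' c ↔
      d.postcomp ((Scheme.Modules.pullbackPushforwardAdjunction h).homEquiv Ω Ω' c).val =
        pushDer f f' h b hsq d' := by
  constructor
  · intro hc
    apply der_ext (f := f)
    intro U s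
    rw [postcomp_app, pushDer_app, homEquiv_app]
    exact hc U s
  · intro hc U s
    have := congrArg (fun D : OmegaSh.Der f ((Scheme.Modules.pushforward h).obj Ω') => D.app U s) hc
    have h2 : OmegaSh.Der.app (f := f) (F := (Scheme.Modules.pushforward h).obj Ω')
        (d.postcomp ((Scheme.Modules.pullbackPushforwardAdjunction h).homEquiv Ω Ω' c).val) U s =
        (pushDer f f' h b hsq d').app U s := this
    rw [postcomp_app, pushDer_app, homEquiv_app] at h2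
    exact h2

theorem main_S9370 (f : X ⟶ S) (f' : X' ⟶ S') (h : X' ⟶ X) (b : S' ⟶ S)
    (hsq : f' ≫ b = h ≫ f) (Ω : X.Modules) (d : OmegaSh.Der f Ω) (hd : OmegaSh.IsUniversal d)
    (Ω' : X'.Modules) (d' : OmegaSh.Der f' Ω') :
    ∃! c : (Scheme.Modules.pullback h).obj Ω ⟶ Ω', OmegaSh.IsDiffCompat h d d' c := by
  obtain ⟨α, hα, huniq⟩ := hd _ (pushDer f f' h b hsq d')
  let e := (Scheme.Modules.pullbackPushforwardAdjunction h).homEquiv Ω Ω'
  refine ⟨e.symm α, ?_, ?_⟩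
  · change OmegaSh.IsDiffCompat h d d' (e.symm α)
    rw [isDiffCompat_iff f f' h b hsq d d']
    change d.postcomp (e (e.symm α)).val = _
    rw [Equiv.apply_symm_apply]
    exact hα
  · intro c hc
    change OmegaSh.IsDiffCompat h d d' c at hc
    rw [isDiffCompat_iff f f' h b hsq d d'] at hc
    have := huniq _ hc
    rw [← this]
    exact (e.symm_apply_apply c).symm

end Groth.Agent.Helper18Om
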