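import Mathlib
import Groth.Prelude.Def_Omega4
import Groth.Agent.Lib.Helper18Om1

set_option autoImplicit false
set_option linter.style.haveILetI false
universe u
open CategoryTheory CategoryTheory.Limits AlgebraicGeometry TopologicalSpace Opposite

namespace Groth.Agent.Helper18OmLS

variable {X Y₁ Y₂ : Scheme.{u}}

/-- the sheaf of abelian groups underlying a module. -/
noncomputable def abSh (P : X.Modules) : TopCat.Sheaf AddCommGrpCat.{u} X.carrier :=
  ⟨P.presheaf, P.isSheaf⟩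

theorem der_map {g : X ⟶ Y₁} {F : X.Modules} (D : OmegaSh.Der g F) {U W : X.Opens} (h : W ≤ U)
    (s : Γ(X, U)) :
    D.app W (X.presheaf.map (homOfLE h).op s) = F.presheaf.map (homOfLE h).op (D.app U s) :=
  D.d_map (X := op U) (Y := op W) (homOfLE h).op s

theorem der_mul {g : X ⟶ Y₁} {F : X.Modules} (D : OmegaSh.Der g F) {U : X.Opens}
    (a b : Γ(X, U)) : D.app U (a * b) = a • D.app U b + b • D.app U a :=
  D.d_mul (X := op U) a b

/-- two derivations which agree on an affine open `U` agree on the basic opens of `U`. -/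
theorem der_eq_basicOpen {g₁ : X ⟶ Y₁} {g₂ : X ⟶ Y₂} {F : X.Modules}
    (D₁ : OmegaSh.Der g₁ F) (D₂ : OmegaSh.Der g₂ F) {U : X.Opens} (hU : IsAffineOpen U)
    (h : ∀ s : Γ(X, U), D₁.app U s = D₂.app U s) (r : Γ(X, U)) (s : Γ(X, X.basicOpen r)) :
    D₁.app (X.basicOpen r) s = D₂.app (X.basicOpen r) s := by
  haveI := hU.isLocalization_basicOpen r
  obtain ⟨⟨a, ⟨_, n, rfl⟩⟩, ha⟩ := IsLocalization.surj (Submonoid.powers r) s
  -- ha : s * algebraMap (r^n) = algebraMap a
  have hle : X.basicOpen r ≤ U := X.basicOpen_le r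
  set ρ : Γ(X, U) → Γ(X, X.basicOpen r) := fun t => X.presheaf.map (homOfLE hle).op t with hρ
  have ha' : s * ρ (r ^ n) = ρ a := ha
  have key : ∀ {Y : Scheme.{u}} {g : X ⟶ Y} (D : OmegaSh.Der g F),
      ρ (r ^ n) • D.app (X.basicOpen r) s =
        F.presheaf.map (homOfLE hle).op (D.app U a) -
          s • F.presheaf.map (homOfLE hle).op (D.app U (r ^ n)) := by
    intro Y g D
    have h1 := der_mul D s (ρ (r ^ n))
    rw [ha'] at h1
    have h2 : D.app (X.basicOpen r) (ρ a) = F.presheaf.map (homOfLE hle).op (D.app U a) :=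
      der_map D hle a
    have h3 : D.app (X.basicOpen r) (ρ (r ^ n)) =
        F.presheaf.map (homOfLE hle).op (D.app U (r ^ n)) := der_map D hle (r ^ n)
    rw [h2, h3] at h1
    rw [h1]
    abel
  have hunit : IsUnit (ρ (r ^ n)) := by
    have : ρ (r ^ n) = (ρ r) ^ n := map_pow _ _ _
    rw [this]
    exact (RingedSpace.isUnit_res_basicOpen _ r).pow n
  have e : ρ (r ^ n) • D₁.app (X.basicOpen r) s = ρ (r ^ n) • D₂.app (X.basicOpen r) s := by
    rw [key D₁, key D₂, h a, h (r ^ n)]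
  obtain ⟨v, hv⟩ := hunit
  have := congrArg (fun m => (↑v⁻¹ : Γ(X, X.basicOpen r)) • m) e
  simp only [← hv, smul_smul, Units.inv_mul, one_smul] at this
  exact this

/-- two derivations which agree on an affine open `U` agree on all opens inside `U`. -/
theorem der_eq_of_affine {g₁ : X ⟶ Y₁} {g₂ : X ⟶ Y₂} {F : X.Modules}
    (D₁ : OmegaSh.Der g₁ F) (D₂ : OmegaSh.Der g₂ F) {U : X.Opens} (hU : IsAffineOpen U)
    (h : ∀ s : Γ(X, U), D₁.app U s = D₂.app U s) {W : X.Opens} (hW : W ≤ U) (s : Γ(X, W)) :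
    D₁.app W s = D₂.app W s := by
  refine TopCat.Sheaf.eq_of_locally_eq' (abSh F)
    (fun r : {r : Γ(X, U) // X.basicOpen r ≤ W} => X.basicOpen r.1) W
    (fun r => homOfLE r.2) ?_ _ _ ?_
  · intro x hx
    obtain ⟨r, hr1, hr2⟩ := hU.exists_basicOpen_le ⟨x, hx⟩ (hW hx)
    exact Opens.mem_iSup.2 ⟨⟨r, hr1⟩, hr2⟩
  · rintro ⟨r, hr⟩
    change F.presheaf.map (homOfLE hr).op (D₁.app W s) = F.presheaf.map (homOfLE hr).op (D₂.app W s)
    rw [← der_map D₁ hr s, ← der_map D₂ hr s]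
    exact der_eq_basicOpen D₁ D₂ hU h r _

end Groth.Agent.Helper18OmLS
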