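import Mathlib
import Groth.Prelude.Def_Omega4
import Groth.Agent.Lib.Helper18OmLS1

set_option autoImplicit false
set_option linter.style.haveILetI false
universe u
open CategoryTheory CategoryTheory.Limits AlgebraicGeometry TopologicalSpace Opposite
open KaehlerDifferential

namespace Groth.Agent.Helper18OmLS

section pointwise
variable (A B : Type u) [CommRing A] [CommRing B] [Algebra A B] (S : Submonoid B)

/-- `Ω[B/A]_S ≃ Ω[B_S/A]`, linear over the localization. -/
noncomputable def locIso : LocalizedModule S Ω[B⁄A] ≃ₗ[Localization S] Ω[Localization S⁄A] :=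
  (IsLocalizedModule.iso S (KaehlerDifferential.map A A B (Localization S))).extendScalarsOfIsLocalization
    S (Localization S)

/-- the derivation `B_S → Ω[B/A]_S` extending `D`. -/
noncomputable def locDer : Derivation A (Localization S) (LocalizedModule S Ω[B⁄A]) :=
  (locIso A B S).symm.toLinearMap.compDer (D A (Localization S))

theorem locDer_algebraMap (b : B) :
    locDer A B S (algebraMap B (Localization S) b) = LocalizedModule.mk (D A B b) 1 := by
  change (IsLocalizedModule.iso S (KaehlerDifferential.map A A B (Localization S))).symm
    (D A (Localization S) (algebraMap B (Localization S) b)) = _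
  rw [← KaehlerDifferential.map_D A A B (Localization S)]
  exact IsLocalizedModule.iso_symm_apply S _ _

theorem locDer_mk (a : B) (s : S) :
    locDer A B S (LocalizedModule.mk a s : Localization S) =
      LocalizedModule.mk ((s : B) • D A B a - a • D A B (s : B)) (s * s) := by
  set t : Localization S := LocalizedModule.mk a s with ht
  have h1 : algebraMap B (Localization S) (s : B) * t = algebraMap B (Localization S) a := by
    rw [ht]
    change algebraMap B (Localization S) (s : B) * Localization.mk a s = _
    rw [Localization.mk_eq_mk', IsLocalization.mk'_spec']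
  have h2 := (locDer A B S).leibniz (algebraMap B (Localization S) (s : B)) t
  rw [h1, locDer_algebraMap, locDer_algebraMap] at h2
  have h3 : t • (LocalizedModule.mk (D A B (s : B)) 1 : LocalizedModule S Ω[B⁄A]) =
      LocalizedModule.mk (a • D A B (s : B)) s := by
    rw [ht]
    change Localization.mk a s • _ = _
    rw [LocalizedModule.mk_smul_mk, mul_one]
  rw [h3, algebraMap_smul] at h2
  -- h2 : mk (D a) 1 = s • locDer t + mk (a • D s) s
  apply (IsLocalizedModule.smul_inj (LocalizedModule.mkLinearMap S Ω[B⁄A]) s _ _).1
  have h4 : (s : B) • locDer A B S t =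
      LocalizedModule.mk (D A B a) 1 - LocalizedModule.mk (a • D A B (s : B)) s := by
    rw [h2]; abel
  rw [Submonoid.smul_def, h4, Submonoid.smul_def, LocalizedModule.smul'_mk, sub_eq_add_neg,
    ← LocalizedModule.mk_neg, LocalizedModule.mk_add_mk, one_smul, one_mul]
  rw [← Submonoid.smul_def, LocalizedModule.mk_cancel_common_left, ← sub_eq_add_neg]
  rfl

theorem locDer_mk_algebraMap (a s : A) (hs : algebraMap A B s ∈ S) :
    locDer A B S (LocalizedModule.mk (algebraMap A B a) ⟨algebraMap A B s, hs⟩ : Localization S) = 0 := by
  rw [locDer_mk]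
  simp

end pointwise


section sheaf
variable (A B : CommRingCat.{u}) [Algebra A B]

open StructureSheaf

set_option backward.isDefEq.respectTransparency.types false in
/-- the pointwise derivation preserves "locally a fraction". -/
theorem isLocallyFraction_locDer (U : Opens (PrimeSpectrum.Top B))
    (s : (structureSheafInType B B).1.obj (op U)) :
    (isLocallyFraction B Ω[B⁄A]).pred
      (fun x : U => locDer A B x.1.asIdeal.primeCompl (s.1 x)) := by
  intro x
  obtain ⟨V, m, i, a, g, w⟩ := s.2 x
  refine ⟨V, m, i, g • D A B a - a • D A B g, g * g, fun y => ?_⟩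
  obtain ⟨hg, hy⟩ := w y
  refine ⟨y.1.asIdeal.primeCompl.mul_mem hg hg, ?_⟩
  have hy' : s.1 (i y) = LocalizedModule.mk a ⟨g, hg⟩ := hy
  change locDer A B _ (s.1 (i y)) = _
  exact (congrArg _ hy').trans (locDer_mk A B _ a ⟨g, hg⟩)

set_option backward.isDefEq.respectTransparency.types false in
/-- the derivation on sections. -/
noncomputable def dtFun (U : Opens (PrimeSpectrum.Top B))
    (s : (structureSheafInType B B).1.obj (op U)) : (structureSheafInType B Ω[B⁄A]).1.obj (op U) :=
  ⟨fun x => locDer A B x.1.asIdeal.primeCompl (s.1 x), isLocallyFraction_locDer A B U s⟩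

set_option backward.isDefEq.respectTransparency.types false in
/-- **The derivation `O_{Spec B} → (Ω[B/A])~`.** -/
noncomputable def dt : OmegaSh.Der (Spec.map (CommRingCat.ofHom (algebraMap A B)))
    (tilde (ModuleCat.of B Ω[B⁄A])) where
  d {U} := AddMonoidHom.mk' (fun s => dtFun A B U.unop s) (fun a b => by
    apply Subtype.ext
    funext x
    exact map_add (locDer A B x.1.asIdeal.primeCompl) _ _)
  d_mul {U} a b := by
    apply Subtype.ext
    funext x
    exact (locDer A B x.1.asIdeal.primeCompl).leibniz _ _
  d_map {U V} i s := rfl
  d_app {V} c := by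
    apply Subtype.ext
    funext x
    change locDer A B _ (Localizations.comapFun (algebraMap A B).toSemilinearMap x.1
      (c.1 ⟨PrimeSpectrum.comap (algebraMap A B) x.1, x.2⟩)) = 0
    generalize c.1 ⟨PrimeSpectrum.comap (algebraMap A B) x.1, x.2⟩ = z
    induction z using LocalizedModule.induction_on with
    | h a s =>
      rw [Localizations.comapFun_mk]
      exact locDer_mk_algebraMap A B _ a s.1 s.2

set_option backward.isDefEq.respectTransparency.types false in
theorem dt_algebraMap (U : (Spec B).Opens) (b : B) :
    (dt A B).app U (algebraMap B Γ(Spec B, U) b) =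
      (tilde.toOpen (ModuleCat.of B Ω[B⁄A]) U).hom (D A B b) := by
  apply Subtype.ext
  funext x
  exact locDer_algebraMap A B _ b

end sheaf

end Groth.Agent.Helper18OmLS
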