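import Mathlib
import Groth.Prelude.Def_Omega4
import Groth.Agent.Lib.Helper18OmLS2
import Groth.Agent.Lib.Helper18Om1

set_option autoImplicit false
set_option linter.style.haveILetI false
universe u
open CategoryTheory CategoryTheory.Limits AlgebraicGeometry TopologicalSpace Opposite
open KaehlerDifferential

namespace Groth.Agent.Helper18OmLS

section restrict
variable {X' X Y : Scheme.{u}} (j : X' ⟶ X) [IsOpenImmersion j] {f : X ⟶ Y} {M : X.Modules}

/-- the restriction of a derivation along an open immersion. -/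
noncomputable def restrictDer (D : OmegaSh.Der f M) : OmegaSh.Der (j ≫ f) (M.restrict j) where
  d {W} := (D.app (j ''ᵁ W.unop)).comp (j.appIso W.unop).inv.hom.toAddMonoidHom
  d_mul {W} a b := by
    change D.app (j ''ᵁ W.unop) ((j.appIso W.unop).inv (a * b)) = _
    rw [map_mul, der_mul]
    rfl
  d_map {W W'} i t := by
    change D.app (j ''ᵁ W'.unop) ((j.appIso W'.unop).inv (X'.presheaf.map i t)) = _
    have h1 : (j.appIso W'.unop).inv (X'.presheaf.map i t) =
        X.presheaf.map (j.opensFunctor.op.map i) ((j.appIso W.unop).inv t) := by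
      have := j.appIso_inv_naturality (U := W.unop) (V := W'.unop) i
      exact congr($this t)
    rw [h1]
    exact D.d_map _ _
  d_app {V} c := by
    change D.app (j ''ᵁ ((j ≫ f) ⁻¹ᵁ V.unop)) ((j.appIso _).inv ((j ≫ f).app V.unop c)) = 0
    have h1 : (j.appIso ((j ≫ f) ⁻¹ᵁ V.unop)).inv ((j ≫ f).app V.unop c) =
        X.presheaf.map (homOfLE (j.image_preimage_le (f ⁻¹ᵁ V.unop))).op (f.app V.unop c) := by
      have h2 : (j ≫ f).app V.unop = f.app V.unop ≫ j.app (f ⁻¹ᵁ V.unop) := Scheme.Hom.comp_app _ _ _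
      have h3 := j.app_appIso_inv (f ⁻¹ᵁ V.unop)
      rw [h2]
      exact congr($h3 (f.app V.unop c))
    rw [h1]
    have h4 := der_map D (j.image_preimage_le (f ⁻¹ᵁ V.unop)) (f.app V.unop c)
    refine h4.trans ?_
    have h5 : D.app (f ⁻¹ᵁ V.unop) (f.app V.unop c) = 0 := D.d_app (X := V) c
    rw [h5, map_zero]
    rfl

theorem restrictDer_app (D : OmegaSh.Der f M) (W : X'.Opens) (t : Γ(X', W)) :
    (restrictDer j D).app W t = D.app (j ''ᵁ W) ((j.appIso W).inv t) := rfl

end restrict

end Groth.Agent.Helper18OmLS
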