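import Mathlib
import Groth.Prelude.Def_Omega4
import Groth.Agent.Lib.Helper18OmLS3
import Groth.Agent.Lib.Helper18Om1

set_option autoImplicit false
set_option linter.style.haveILetI false
universe u
open CategoryTheory CategoryTheory.Limits AlgebraicGeometry TopologicalSpace Opposite
open KaehlerDifferential

namespace Groth.Agent.Helper18OmLS

section tildeAdj
variable {R : CommRingCat.{u}} {M : ModuleCat.{u} R} {N : (Spec R).Modules}

theorem homEquiv_apply_hom (β : tilde M ⟶ N) (m : M) :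
    ((tilde.adjunction.homEquiv M N) β).hom m = β.app ⊤ ((tilde.toOpen M ⊤).hom m) := by
  have h := Adjunction.homEquiv_unit (adj := tilde.adjunction (R := R)) (X := M) (Y := N) (f := β)
  exact congr(($h).hom m)

theorem homEquiv_symm_app (c : M ⟶ moduleSpecΓFunctor.obj N) (m : M) :
    ((tilde.adjunction.homEquiv M N).symm c).app ⊤ ((tilde.toOpen M ⊤).hom m) = c.hom m := by
  have h := homEquiv_apply_hom ((tilde.adjunction.homEquiv M N).symm c) m
  rw [Equiv.apply_symm_apply] at h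
  exact h.symm

theorem tilde_hom_ext (β₁ β₂ : tilde M ⟶ N)
    (h : ∀ m : M, β₁.app ⊤ ((tilde.toOpen M ⊤).hom m) = β₂.app ⊤ ((tilde.toOpen M ⊤).hom m)) :
    β₁ = β₂ := by
  apply (tilde.adjunction.homEquiv M N).injective
  ext m
  exact (homEquiv_apply_hom β₁ m).trans ((h m).trans (homEquiv_apply_hom β₂ m).symm)

theorem tilde_kaehler_hom_ext {A B : CommRingCat.{u}} [Algebra A B] {N : (Spec B).Modules}
    (β₁ β₂ : tilde (ModuleCat.of B Ω[B⁄A]) ⟶ N)
    (h : ∀ b : B, β₁.app ⊤ ((tilde.toOpen (ModuleCat.of B Ω[B⁄A]) ⊤).hom (D A B b)) =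
      β₂.app ⊤ ((tilde.toOpen (ModuleCat.of B Ω[B⁄A]) ⊤).hom (D A B b))) : β₁ = β₂ := by
  apply (tilde.adjunction.homEquiv (ModuleCat.of B Ω[B⁄A]) N).injective
  apply ModuleCat.hom_ext
  apply LinearMap.ext_on (KaehlerDifferential.span_range_derivation A B)
  rintro _ ⟨b, rfl⟩
  exact (homEquiv_apply_hom β₁ _).trans ((h b).trans (homEquiv_apply_hom β₂ _).symm)

end tildeAdj

section der0
variable {A B : CommRingCat.{u}} [Algebra A B] (N : (Spec B).Modules)
  (δ : Γ(Spec B, ⊤) →+ Γ(N, ⊤))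
  (hmul : ∀ a b : Γ(Spec B, ⊤), δ (a * b) = a • δ b + b • δ a)
  (hA : ∀ a : A, δ (algebraMap B Γ(Spec B, ⊤) (algebraMap A B a)) = 0)

/-- the linear map out of `Ω[B/A]` attached to a derivation on global sections. -/
noncomputable def linOfDer : Ω[B⁄A] →ₗ[B] Γ(N, ⊤) :=
  letI : Module A Γ(N, ⊤) := Module.compHom _ (algebraMap A B)
  haveI : IsScalarTower A B Γ(N, ⊤) := IsScalarTower.of_algebraMap_smul fun _ _ => rfl
  Derivation.liftKaehlerDifferential
    { toFun := fun b => δ (algebraMap B Γ(Spec B, ⊤) b)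
      map_add' := fun b b' => by rw [map_add, map_add]
      map_smul' := fun a b => by
        rw [Algebra.smul_def, map_mul, hmul, hA, smul_zero, add_zero]
        rfl
      map_one_eq_zero' := by
        have := hmul 1 1
        rw [mul_one, one_smul] at this
        change δ (algebraMap B Γ(Spec B, ⊤) 1) = 0
        rw [map_one]
        simpa using this
      leibniz' := fun b b' => by
        change δ (algebraMap B Γ(Spec B, ⊤) (b * b')) = _
        rw [map_mul, hmul]
        rfl }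

theorem linOfDer_D (b : B) :
    linOfDer N δ hmul hA (D A B b) = δ (algebraMap B Γ(Spec B, ⊤) b) := by
  letI : Module A Γ(N, ⊤) := Module.compHom _ (algebraMap A B)
  haveI : IsScalarTower A B Γ(N, ⊤) := IsScalarTower.of_algebraMap_smul fun _ _ => rfl
  exact Derivation.liftKaehlerDifferential_comp_D _ b

end der0

section restrictAdj
variable {X' X : Scheme.{u}} (j : X' ⟶ X) [IsOpenImmersion j] {P : X.Modules} {Q : X'.Modules}

theorem restrict_homEquiv_symm_app (α : P ⟶ (Scheme.Modules.pushforward j).obj Q) (W : X'.Opens)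
    (ω : Γ(P, j ''ᵁ W)) :
    (((Scheme.Modules.restrictAdjunction j).homEquiv P Q).symm α).app W ω =
      Q.presheaf.map (eqToHom (j.preimage_image_eq W).symm).op (α.app (j ''ᵁ W) ω) := by
  rw [Adjunction.homEquiv_counit]
  rfl

theorem restrict_homEquiv_app (γ : P.restrict j ⟶ Q) (W : X.Opens) (ω : Γ(P, W)) :
    (((Scheme.Modules.restrictAdjunction j).homEquiv P Q) γ).app W ω =
      γ.app (j ⁻¹ᵁ W) (P.presheaf.map (homOfLE (j.image_preimage_le W)).op ω) := by
  rw [Adjunction.homEquiv_unit]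
  rfl

end restrictAdj


section LS
variable {X Y : Scheme.{u}} (f : X ⟶ Y) {Ω' : X.Modules} (d : OmegaSh.Der f Ω')
  {U : X.Opens} (hU : IsAffineOpen U) {V : Y.Opens} (hV : IsAffineOpen V) (h : U ≤ f ⁻¹ᵁ V)
  [Algebra Γ(Y, V) Γ(X, U)] (halg : algebraMap Γ(Y, V) Γ(X, U) = (f.appLE V U h).hom)

include halg in
theorem chart_comm :
    Spec.map (CommRingCat.ofHom (algebraMap Γ(Y, V) Γ(X, U))) ≫ hV.fromSpec = hU.fromSpec ≫ f := by
  rw [halg]
  exact IsAffineOpen.SpecMap_appLE_fromSpec f hV hU h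

/-- the model sheaf `(Ω[B/A])~`. -/
noncomputable abbrev model : (Spec Γ(X, U)).Modules :=
  tilde (ModuleCat.of Γ(X, U) Ω[Γ(X, U)⁄Γ(Y, V)])

/-- the derivation `O_X → j_* (Ω[B/A])~`. -/
noncomputable def pd : OmegaSh.Der f ((Scheme.Modules.pushforward hU.fromSpec).obj (model (U := U) (V := V))) :=
  Groth.Agent.Helper18Om.pushDer f _ hU.fromSpec hV.fromSpec (chart_comm f hU hV h halg)
    (dt Γ(Y, V) Γ(X, U))

variable (hd : OmegaSh.IsUniversal d)

/-- the comparison map `Ω' → j_* (Ω[B/A])~`. -/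
noncomputable def compA : Ω' ⟶ (Scheme.Modules.pushforward hU.fromSpec).obj (model (U := U) (V := V)) :=
  (hd _ (pd f hU hV h halg)).exists.choose

theorem compA_spec : d.postcomp (compA f d hU hV h halg hd).val = pd f hU hV h halg :=
  (hd _ (pd f hU hV h halg)).exists.choose_spec

theorem compA_app (W : X.Opens) (s : Γ(X, W)) :
    (compA f d hU hV h halg hd).app W (d.app W s) =
      (dt Γ(Y, V) Γ(X, U)).app (hU.fromSpec ⁻¹ᵁ W) (hU.fromSpec.app W s) := by
  have := congrArg (fun D => OmegaSh.Der.app D W s) (compA_spec f d hU hV h halg hd)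
  exact this

/-- the comparison map `Ω'|_U → (Ω[B/A])~`. -/
noncomputable def compFlat : Ω'.restrict hU.fromSpec ⟶ model (U := U) (V := V) :=
  ((Scheme.Modules.restrictAdjunction hU.fromSpec).homEquiv _ _).symm (compA f d hU hV h halg hd)

theorem key1 (W : (Spec Γ(X, U)).Opens) (t : Γ(Spec Γ(X, U), W)) :
    (compFlat f d hU hV h halg hd).app W ((restrictDer hU.fromSpec d).app W t) =
      (dt Γ(Y, V) Γ(X, U)).app W t := by
  refine (restrict_homEquiv_symm_app hU.fromSpec (compA f d hU hV h halg hd) W _).trans ?_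
  rw [restrictDer_app, compA_app]
  set j := hU.fromSpec with hj
  have e : j ⁻¹ᵁ (j ''ᵁ W) = W := j.preimage_image_eq W
  have h1 : (model (U := U) (V := V)).presheaf.map (eqToHom e.symm).op =
      (model (U := U) (V := V)).presheaf.map (homOfLE e.ge).op := rfl
  rw [h1, ← der_map (dt Γ(Y, V) Γ(X, U)) e.ge]
  congr 1
  have h2 := j.appIso_inv_app W
  have h3 := congr($h2 t)
  rw [CommRingCat.comp_apply] at h3
  rw [h3]
  change (Spec Γ(X, U)).presheaf.map (homOfLE e.ge).op ((Spec Γ(X, U)).presheaf.map (homOfLE e.le).op t) = t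
  rw [← CommRingCat.comp_apply, ← Functor.map_comp]
  exact congr($((Spec Γ(X, U)).presheaf.map_id (op W)) t)


include h in
theorem top_le_preimage : (⊤ : (Spec Γ(X, U)).Opens) ≤ (hU.fromSpec ≫ f) ⁻¹ᵁ V := by
  intro x _
  have hx : x ∈ hU.fromSpec ⁻¹ᵁ U := by rw [hU.fromSpec_preimage_self]; trivial
  exact h hx

include halg in
theorem algebraMap_eq_res (a : Γ(Y, V)) :
    algebraMap Γ(X, U) Γ(Spec Γ(X, U), ⊤) (algebraMap Γ(Y, V) Γ(X, U) a) =
      (Spec Γ(X, U)).presheaf.map (homOfLE (top_le_preimage f hU h)).op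
        ((hU.fromSpec ≫ f).app V a) := by
  have h2 := hU.fromSpec_app_of_le (f ⁻¹ᵁ V) h
  have h3 : (hU.fromSpec ≫ f).app V a =
      (Spec Γ(X, U)).presheaf.map (homOfLE (le_top : hU.fromSpec ⁻¹ᵁ f ⁻¹ᵁ V ≤ ⊤)).op
        ((Scheme.ΓSpecIso Γ(X, U)).inv (f.appLE V U h a)) := congr($h2 (f.app V a))
  rw [h3, halg]
  have h4 := OmegaSh.res_res (P := Spec Γ(X, U)) (le_top : hU.fromSpec ⁻¹ᵁ f ⁻¹ᵁ V ≤ ⊤)
    (top_le_preimage f hU h) ((Scheme.ΓSpecIso Γ(X, U)).inv (f.appLE V U h a))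
  exact h4.symm

include halg in
theorem restrictDer_kills (a : Γ(Y, V)) :
    (restrictDer hU.fromSpec d).app ⊤
      (algebraMap Γ(X, U) Γ(Spec Γ(X, U), ⊤) (algebraMap Γ(Y, V) Γ(X, U) a)) = 0 := by
  rw [algebraMap_eq_res f hU h halg a, der_map]
  have h0 : (restrictDer hU.fromSpec d).app ((hU.fromSpec ≫ f) ⁻¹ᵁ V) ((hU.fromSpec ≫ f).app V a) = 0 :=
    (restrictDer hU.fromSpec d).d_app (X := op V) a
  rw [h0, map_zero]

/-- the linear map `Ω[B/A] → Γ(Ω'|_U, ⊤)`. -/
noncomputable def compLin : Ω[Γ(X, U)⁄Γ(Y, V)] →ₗ[Γ(X, U)] Γ(Ω'.restrict hU.fromSpec, ⊤) :=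
  linOfDer (Ω'.restrict hU.fromSpec) ((restrictDer hU.fromSpec d).app ⊤)
    (fun a b => der_mul _ a b) (restrictDer_kills f d hU h halg)

/-- the comparison map `(Ω[B/A])~ → Ω'|_U`. -/
noncomputable def compB : model (U := U) (V := V) ⟶ Ω'.restrict hU.fromSpec :=
  (tilde.adjunction.homEquiv (ModuleCat.of Γ(X, U) Ω[Γ(X, U)⁄Γ(Y, V)]) (Ω'.restrict hU.fromSpec)).symm
    (show ModuleCat.of Γ(X, U) Ω[Γ(X, U)⁄Γ(Y, V)] ⟶
        ModuleCat.of Γ(X, U) Γ(Ω'.restrict hU.fromSpec, ⊤) from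
      ModuleCat.ofHom (compLin f d hU h halg))


theorem compB_toOpen (m : Ω[Γ(X, U)⁄Γ(Y, V)]) :
    (compB f d hU h halg).app ⊤
      ((tilde.toOpen (ModuleCat.of Γ(X, U) Ω[Γ(X, U)⁄Γ(Y, V)]) ⊤).hom m) =
      compLin f d hU h halg m :=
  homEquiv_symm_app (M := ModuleCat.of Γ(X, U) Ω[Γ(X, U)⁄Γ(Y, V)]) (N := Ω'.restrict hU.fromSpec) _ m

theorem exists_algebraMap_eq {R : CommRingCat.{u}} (s : Γ(Spec R, ⊤)) :
    ∃ b : R, algebraMap R Γ(Spec R, ⊤) b = s := by
  refine ⟨(Scheme.ΓSpecIso R).hom s, ?_⟩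
  change (Spec R).presheaf.map (homOfLE le_top).op ((Scheme.ΓSpecIso R).inv ((Scheme.ΓSpecIso R).hom s)) = s
  rw [Iso.hom_inv_id_apply]
  exact congr($((Spec R).presheaf.map_id (op ⊤)) s)

theorem key2 (W : (Spec Γ(X, U)).Opens) (t : Γ(Spec Γ(X, U), W)) :
    (compB f d hU h halg).app W ((dt Γ(Y, V) Γ(X, U)).app W t) =
      (restrictDer hU.fromSpec d).app W t := by
  have hkey := der_eq_of_affine (X := Spec Γ(X, U))
    ((dt Γ(Y, V) Γ(X, U)).postcomp (compB f d hU h halg).val) (restrictDer hU.fromSpec d)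
    (U := ⊤) (isAffineOpen_top _) ?_ (W := W) le_top t
  · exact hkey
  · intro s
    obtain ⟨b, rfl⟩ := exists_algebraMap_eq s
    change (compB f d hU h halg).app ⊤ ((dt Γ(Y, V) Γ(X, U)).app ⊤ _) = _
    rw [dt_algebraMap, compB_toOpen]
    exact linOfDer_D _ _ _ _ b


theorem compB_compFlat :
    compB f d hU h halg ≫ compFlat f d hU hV h halg hd = 𝟙 _ := by
  apply tilde_kaehler_hom_ext
  intro b
  change (compFlat f d hU hV h halg hd).app ⊤ ((compB f d hU h halg).app ⊤ _) = _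
  rw [compB_toOpen]
  have h1 : compLin f d hU h halg (D Γ(Y, V) Γ(X, U) b) =
      (restrictDer hU.fromSpec d).app ⊤ (algebraMap Γ(X, U) Γ(Spec Γ(X, U), ⊤) b) :=
    linOfDer_D _ _ _ _ b
  rw [h1, key1, dt_algebraMap]
  rfl


theorem res_d_eq (W : X.Opens) (s : Γ(X, W)) :
    Ω'.presheaf.map (homOfLE (hU.fromSpec.image_preimage_le W)).op (d.app W s) =
      (restrictDer hU.fromSpec d).app (hU.fromSpec ⁻¹ᵁ W) (hU.fromSpec.app W s) := by
  rw [restrictDer_app, ← der_map]
  congr 1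
  have h3 := hU.fromSpec.app_appIso_inv W
  exact (congr($h3 s)).symm

theorem compFlat_compB_aux (W : X.Opens) (s : Γ(X, W)) :
    (((Scheme.Modules.restrictAdjunction hU.fromSpec).homEquiv Ω' (Ω'.restrict hU.fromSpec))
      (compFlat f d hU hV h halg hd ≫ compB f d hU h halg)).app W (d.app W s) =
    (((Scheme.Modules.restrictAdjunction hU.fromSpec).homEquiv Ω' (Ω'.restrict hU.fromSpec))
      (𝟙 _)).app W (d.app W s) := by
  rw [restrict_homEquiv_app, restrict_homEquiv_app, res_d_eq, Scheme.Modules.Hom.comp_app,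
    Scheme.Modules.Hom.id_app, ConcreteCategory.comp_apply, key1, key2]
  rfl

theorem compFlat_compB :
    compFlat f d hU hV h halg hd ≫ compB f d hU h halg = 𝟙 _ := by
  apply ((Scheme.Modules.restrictAdjunction hU.fromSpec).homEquiv _ _).injective
  have e : d.postcomp (((Scheme.Modules.restrictAdjunction hU.fromSpec).homEquiv Ω'
        (Ω'.restrict hU.fromSpec)) (compFlat f d hU hV h halg hd ≫ compB f d hU h halg)).val =
      d.postcomp (((Scheme.Modules.restrictAdjunction hU.fromSpec).homEquiv Ω'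
        (Ω'.restrict hU.fromSpec)) (𝟙 _)).val :=
    Groth.Agent.Helper18Om.der_ext _ _ (fun W s => compFlat_compB_aux f d hU hV h halg hd W s)
  exact (hd _ _).unique e rfl

/-- **Local structure of a sheaf of differentials**: on an affine chart `U → V`, a receptacle of a universal
derivation is `(Ω[Γ(X,U)/Γ(Y,V)])~`. -/
noncomputable def restrictIso : Ω'.restrict hU.fromSpec ≅ model (U := U) (V := V) where
  hom := compFlat f d hU hV h halg hd
  inv := compB f d hU h halg
  hom_inv_id := compFlat_compB f d hU hV h halg hd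
  inv_hom_id := compB_compFlat f d hU hV h halg hd

theorem restrictIso_hom_app (W : (Spec Γ(X, U)).Opens) (t : Γ(Spec Γ(X, U), W)) :
    (restrictIso f d hU hV h halg hd).hom.app W ((restrictDer hU.fromSpec d).app W t) =
      (dt Γ(Y, V) Γ(X, U)).app W t := key1 f d hU hV h halg hd W t

end LS

end Groth.Agent.Helper18OmLS
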