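import Mathlib
import Groth.Agent.Lib.Helper20OmegaLoc
import Groth.Agent.Lib.Helper23FinType2

/-!
# The sheaf of differentials is quasi-coherent (of finite type) (helper20)

Namespace `Groth.Agent.Lib.Helper20.OmegaQCoh`.

* `isQuasicoherent_omega f` : `Omega.sheaf f` is quasi-coherent (`f` quasi-separated).
* `finite_sections_omega_chart`, `isFiniteType_omega`, `finite_sections_omega` : for `f` locally of finite type
  `Γ(Ω_f, U)` is a finite `Γ(X, U)`-module for every affine open `U`.
-/

set_option autoImplicit false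
set_option linter.style.haveILetI false
universe u
open CategoryTheory AlgebraicGeometry Limits TensorProduct Opposite TopologicalSpace
open Groth.Agent.Lib.Helper23.QCohLocal Groth.Agent.Lib.Helper20.OmegaAff
  Groth.Agent.Lib.Helper20.OmegaLoc Groth.Agent.Lib.Helper23.FinType

namespace Groth.Agent.Lib.Helper20.OmegaQCoh

variable {X S : Scheme.{u}} (f : X ⟶ S)

/-- the affine opens of `X` mapping into an affine open of `S`. -/
abbrev Chart : Type u :=
  {U : X.Opens // IsAffineOpen U ∧ ∃ V : S.Opens, IsAffineOpen V ∧ U ≤ f ⁻¹ᵁ V}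

theorem isOpenCover_chart : IsOpenCover (fun i : Chart f => i.1) := by
  refine IsOpenCover.mk (eq_top_iff.mpr ?_)
  intro x _
  obtain ⟨V, hV, hfxV, -⟩ := exists_isAffineOpen_mem_and_subset (x := f x) (U := ⊤) trivial
  obtain ⟨U, hU, hxU, hUW⟩ := exists_isAffineOpen_mem_and_subset (x := x) (U := f ⁻¹ᵁ V) hfxV
  exact Opens.mem_iSup.mpr ⟨⟨U, hU, V, hV, hUW⟩, hxU⟩

/-- the restriction of `Ω_f` to an affine chart. -/
noncomputable def omegaRestrictIso' [QuasiSeparated f] {U : X.Opens} (hU : IsAffineOpen U)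
    {V : S.Opens} (hV : IsAffineOpen V) (h : U ≤ f ⁻¹ᵁ V) :
    letI := (f.appLE V U h).hom.toAlgebra
    (Omega.sheaf f).restrict hU.fromSpec ≅
      tilde (R := Γ(X, U)) (ModuleCat.of Γ(X, U) (Ω[Γ(X, U)⁄Γ(S, V)])) :=
  letI := (f.appLE V U h).hom.toAlgebra
  (Scheme.Modules.restrictFunctorIsoPullback hU.fromSpec).app (Omega.sheaf f) ≪≫
    omegaRestrictIso f hU hV h rfl

theorem isQuasicoherent_omega [QuasiSeparated f] : (Omega.sheaf f).IsQuasicoherent := by
  refine isQuasicoherent_of_affine_cover _ (fun i : Chart f => i.1) (isOpenCover_chart f)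
    (fun i => i.2.1) ?_
  rintro ⟨U, hU, V, hV, h⟩
  letI := (f.appLE V U h).hom.toAlgebra
  exact (SheafOfModules.isQuasicoherent (Spec Γ(X, U)).ringCatSheaf).prop_of_iso
    (omegaRestrictIso' f hU hV h).symm inferInstance

theorem finite_sections_omega_chart [LocallyOfFiniteType f] [QuasiSeparated f] {U : X.Opens}
    (hU : IsAffineOpen U) {V : S.Opens} (hV : IsAffineOpen V) (h : U ≤ f ⁻¹ᵁ V) :
    Module.Finite Γ(X, U) Γ(Omega.sheaf f, U) := by
  rw [← finite_ΓU_iff _ hU]
  letI : Algebra Γ(S, V) Γ(X, U) := (f.appLE V U h).hom.toAlgebra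
  haveI : Algebra.FiniteType Γ(S, V) Γ(X, U) := f.finiteType_appLE hV hU h
  have e : ΓU (Omega.sheaf f) hU ≅ ModuleCat.of Γ(X, U) (Ω[Γ(X, U)⁄Γ(S, V)]) :=
    (moduleSpecΓFunctor (R := Γ(X, U))).mapIso (omegaRestrictIso' f hU hV h) ≪≫
      ((tilde.toTildeΓNatIso (R := Γ(X, U))).app
        (ModuleCat.of Γ(X, U) (Ω[Γ(X, U)⁄Γ(S, V)]))).symm
  exact Module.Finite.equiv e.toLinearEquiv.symm

theorem isFiniteType_omega [LocallyOfFiniteType f] [QuasiSeparated f] :
    haveI := isQuasicoherent_omega f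
    SheafOfModules.IsFiniteType (R := X.ringCatSheaf) (Omega.sheaf f) := by
  haveI := isQuasicoherent_omega f
  refine isFiniteType_of_finite _ (fun i : Chart f => i.1) (isOpenCover_chart f)
    (fun i => i.2.1) ?_
  rintro ⟨U, hU, V, hV, h⟩
  exact finite_sections_omega_chart f hU hV h

/-- sections of `Ω_f` over any affine open form a finite module (`f` locally of finite type). -/
theorem finite_sections_omega [LocallyOfFiniteType f] [QuasiSeparated f] {U : X.Opens}
    (hU : IsAffineOpen U) : Module.Finite Γ(X, U) Γ(Omega.sheaf f, U) := by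
  haveI := isQuasicoherent_omega f
  haveI := isFiniteType_omega f
  exact finite_of_isFiniteType _ hU

end Groth.Agent.Lib.Helper20.OmegaQCoh
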