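import Mathlib
import Groth.Prelude.Def_Omega4
import Groth.Agent.Lib.Helper18OmLS4
import Groth.Agent.Lib.Helper20OmegaQCoh
import Groth.Agent.Lib.Helper20OmegaUnr
import Groth.Agent.Lib.Helper23FinPres

set_option autoImplicit false
set_option linter.style.haveILetI false
universe u
open CategoryTheory CategoryTheory.Limits AlgebraicGeometry TopologicalSpace Opposite
open KaehlerDifferential
open Groth.Agent.Lib.Helper23.QCohLocal Groth.Agent.Lib.Helper23.FinType
  Groth.Agent.Lib.Helper20.OmegaQCoh Groth.Agent.Lib.Helper20.OmegaUnr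

namespace Groth.Agent.Helper18OmLS

variable {X Y : Scheme.{u}} (f : X ⟶ Y) {Ω' : X.Modules} (d : OmegaSh.Der f Ω')
  (hd : OmegaSh.IsUniversal d)

/-- `restrictIso` for the algebra structure `(f.appLE V U h).hom.toAlgebra`. -/
noncomputable def restrictIso' {U : X.Opens} (hU : IsAffineOpen U) {V : Y.Opens}
    (hV : IsAffineOpen V) (h : U ≤ f ⁻¹ᵁ V) :
    letI := (f.appLE V U h).hom.toAlgebra
    Ω'.restrict hU.fromSpec ≅ tilde (ModuleCat.of Γ(X, U) Ω[Γ(X, U)⁄Γ(Y, V)]) :=
  letI := (f.appLE V U h).hom.toAlgebra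
  restrictIso f d hU hV h rfl hd

include hd in
/-- **A receptacle of a universal derivation is quasi-coherent.** -/
theorem isQuasicoherent_of_isUniversal : Ω'.IsQuasicoherent := by
  refine isQuasicoherent_of_affine_cover _ (fun i : Chart f => i.1) (isOpenCover_chart f)
    (fun i => i.2.1) ?_
  rintro ⟨U, hU, V, hV, h⟩
  letI := (f.appLE V U h).hom.toAlgebra
  exact (SheafOfModules.isQuasicoherent (Spec Γ(X, U)).ringCatSheaf).prop_of_iso
    (restrictIso' f d hd hU hV h).symm inferInstance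

/-- sections over a chart are the Kähler differentials. -/
noncomputable def ΓUIso {U : X.Opens} (hU : IsAffineOpen U) {V : Y.Opens}
    (hV : IsAffineOpen V) (h : U ≤ f ⁻¹ᵁ V) :
    letI := (f.appLE V U h).hom.toAlgebra
    ΓU Ω' hU ≅ ModuleCat.of Γ(X, U) Ω[Γ(X, U)⁄Γ(Y, V)] :=
  letI := (f.appLE V U h).hom.toAlgebra
  (moduleSpecΓFunctor (R := Γ(X, U))).mapIso (restrictIso' f d hd hU hV h) ≪≫
    ((tilde.toTildeΓNatIso (R := Γ(X, U))).app
      (ModuleCat.of Γ(X, U) (Ω[Γ(X, U)⁄Γ(Y, V)]))).symm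

include hd in
/-- **`Ω` is of finite type for `f` locally of finite type.** -/
theorem isFiniteType_of_isUniversal [LocallyOfFiniteType f] :
    haveI := isQuasicoherent_of_isUniversal f d hd
    SheafOfModules.IsFiniteType (R := X.ringCatSheaf) Ω' := by
  haveI := isQuasicoherent_of_isUniversal f d hd
  refine isFiniteType_of_finite_ΓU _ (fun i : Chart f => i.1) (isOpenCover_chart f)
    (fun i => i.2.1) ?_
  rintro ⟨U, hU, V, hV, h⟩
  letI : Algebra Γ(Y, V) Γ(X, U) := (f.appLE V U h).hom.toAlgebra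
  haveI : Algebra.FiniteType Γ(Y, V) Γ(X, U) := f.finiteType_appLE hV hU h
  exact Module.Finite.equiv (ΓUIso f d hd hU hV h).toLinearEquiv.symm

include hd in
/-- **`Ω` is of finite presentation for `f` locally of finite presentation.** -/
theorem isFinitePresentation_of_isUniversal [LocallyOfFinitePresentation f] :
    SheafOfModules.IsFinitePresentation (R := X.ringCatSheaf) Ω' := by
  haveI := isQuasicoherent_of_isUniversal f d hd
  refine isFinitePresentation_of_finitePresentation_ΓU _ (fun i : Chart f => i.1)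
    (isOpenCover_chart f) (fun i => i.2.1) ?_
  rintro ⟨U, hU, V, hV, h⟩
  letI : Algebra Γ(Y, V) Γ(X, U) := (f.appLE V U h).hom.toAlgebra
  haveI : Algebra.FinitePresentation Γ(Y, V) Γ(X, U) := f.finitePresentation_appLE hV hU h
  exact Module.FinitePresentation.of_equiv (ΓUIso f d hd hU hV h).toLinearEquiv.symm

include hd in
theorem subsingleton_sections_iff_formallyUnramified {U : X.Opens}
    (hU : IsAffineOpen U) {V : Y.Opens} (hV : IsAffineOpen V) (h : U ≤ f ⁻¹ᵁ V) :
    Subsingleton Γ(Ω', U) ↔ (f.appLE V U h).hom.FormallyUnramified := by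
  letI : Algebra Γ(Y, V) Γ(X, U) := (f.appLE V U h).hom.toAlgebra
  have e : moduleSpecΓFunctor.obj (tilde (ModuleCat.of Γ(X, U) (Ω[Γ(X, U)⁄Γ(Y, V)]))) ≅
      ModuleCat.of Γ(X, U) (Ω[Γ(X, U)⁄Γ(Y, V)]) :=
    ((tilde.toTildeΓNatIso (R := Γ(X, U))).app
      (ModuleCat.of Γ(X, U) (Ω[Γ(X, U)⁄Γ(Y, V)]))).symm
  have e' : moduleSpecΓFunctor.obj ((Scheme.Modules.pullback hU.fromSpec).obj Ω') ≅
      moduleSpecΓFunctor.obj (Ω'.restrict hU.fromSpec) :=
    moduleSpecΓFunctor.mapIso ((Scheme.Modules.restrictFunctorIsoPullback hU.fromSpec).app Ω').symm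
  rw [subsingleton_sections_iff _ hU, e'.isZero_iff,
    (moduleSpecΓFunctor.mapIso (restrictIso' f d hd hU hV h)).isZero_iff, e.isZero_iff,
    ModuleCat.isZero_of_iff_subsingleton, RingHom.FormallyUnramified]
  exact ⟨fun h => ⟨h⟩, fun h => h.1⟩

include hd in
/-- **`f` formally unramified iff `Ω = 0`.** -/
theorem formallyUnramified_iff_isZero : FormallyUnramified f ↔ IsZero Ω' := by
  constructor
  · intro hf
    let B : Set X.Opens := {U | IsAffineOpen U ∧ ∃ V : Y.Opens, IsAffineOpen V ∧ U ≤ f ⁻¹ᵁ V}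
    have hB : TopologicalSpace.Opens.IsBasis B := by
      rw [TopologicalSpace.Opens.isBasis_iff_nbhd]
      intro W x hx
      obtain ⟨V, hV, hfxV, -⟩ := exists_isAffineOpen_mem_and_subset (x := f x) (U := ⊤) trivial
      obtain ⟨U, hU, hxU, hUW⟩ := exists_isAffineOpen_mem_and_subset (x := x) (U := W ⊓ f ⁻¹ᵁ V)
        ⟨hx, hfxV⟩
      exact ⟨U, ⟨hU, V, hV, fun y hy => (hUW hy).2⟩, hxU, fun y hy => (hUW hy).1⟩
    refine isZero_of_basis _ B hB ?_
    rintro U ⟨hU, V, hV, h⟩
    rw [subsingleton_sections_iff_formallyUnramified f d hd hU hV h]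
    exact hf.formallyUnramified_appLE hV hU h
  · intro hz
    refine ⟨fun {V} hV {U} hU h => ?_⟩
    rw [← subsingleton_sections_iff_formallyUnramified f d hd hU hV h]
    exact subsingleton_sections_of_isZero hz U

end Groth.Agent.Helper18OmLS
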