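import Mathlib
import Groth.Prelude.Def_Omega4
import Groth.Agent.Lib.Helper18OmLS5
import Groth.Agent.Lib.Helper20PullbackAff

set_option autoImplicit false
set_option linter.style.haveILetI false
universe u
open CategoryTheory CategoryTheory.Limits AlgebraicGeometry TopologicalSpace Opposite
open KaehlerDifferential
open Groth.Agent.Lib.Helper23.QCohLocal Groth.Agent.Lib.Helper23.FinType
  Groth.Agent.Lib.Helper20.Thickening Groth.Agent.Lib.Helper20.PullbackAff Groth.Agent.Lib.Helper2.QCoh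

namespace Groth.Agent.Helper18OmLS

section
variable {X Y : Scheme.{u}} (f : X ⟶ Y) {Ω' : X.Modules} (d : OmegaSh.Der f Ω')
  (hd : OmegaSh.IsUniversal d)
  {U : X.Opens} (hU : IsAffineOpen U) {V : Y.Opens} (hV : IsAffineOpen V) (h : U ≤ f ⁻¹ᵁ V)
  [Algebra Γ(Y, V) Γ(X, U)] (halg : algebraMap Γ(Y, V) Γ(X, U) = (f.appLE V U h).hom)

/-- sections over a chart, as a module over `Γ(X,U)` via `Spec`. -/
noncomputable def ΓUFIso : (ΓUF hU).obj Ω' ≅ ModuleCat.of Γ(X, U) Ω[Γ(X, U)⁄Γ(Y, V)] :=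
  (moduleSpecΓFunctor (R := Γ(X, U))).mapIso (restrictIso f d hU hV h halg hd) ≪≫
    ((tilde.toTildeΓNatIso (R := Γ(X, U))).app
      (ModuleCat.of Γ(X, U) (Ω[Γ(X, U)⁄Γ(Y, V)]))).symm

/-- **Sections of a sheaf of differentials over a chart are the Kähler differentials.** -/
noncomputable def sectionsEquiv : Γ(Ω', U) ≃ₗ[Γ(X, U)] Ω[Γ(X, U)⁄Γ(Y, V)] :=
  (ΓUEquiv hU Ω').trans (ΓUFIso f d hd hU hV h halg).toLinearEquiv

theorem ΓUEquiv_d (b : Γ(X, U)) :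
    (ΓUEquiv hU Ω' (d.app U b) : Γ(Ω'.restrict hU.fromSpec, ⊤)) =
      (restrictDer hU.fromSpec d).app ⊤ (algebraMap Γ(X, U) Γ(Spec Γ(X, U), ⊤) b) := by
  rw [restrictDer_app]
  have h1 : (hU.fromSpec.appIso ⊤).inv (algebraMap Γ(X, U) Γ(Spec Γ(X, U), ⊤) b) =
      X.presheaf.map (homOfLE (fromSpec_image_le hU ⊤)).op b :=
    appIso_inv_ΓSpecIso_inv hU ⊤ b
  rw [h1, der_map]
  rfl

theorem sectionsEquiv_d (b : Γ(X, U)) :
    sectionsEquiv f d hd hU hV h halg (d.app U b) = D Γ(Y, V) Γ(X, U) b := by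
  change (tilde.isoTop (ModuleCat.of Γ(X, U) (Ω[Γ(X, U)⁄Γ(Y, V)]))).inv
    ((restrictIso f d hU hV h halg hd).hom.app ⊤ (ΓUEquiv hU Ω' (d.app U b))) = _
  rw [ΓUEquiv_d, restrictIso_hom_app, dt_algebraMap]
  exact Iso.hom_inv_id_apply (tilde.isoTop (ModuleCat.of Γ(X, U) (Ω[Γ(X, U)⁄Γ(Y, V)]))) _

end

end Groth.Agent.Helper18OmLS
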