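import Mathlib
import Groth.Prelude.Def_Omega4
import Groth.Agent.Lib.Helper18OmLS6
import Groth.Agent.Lib.Helper13PullbackUnit

set_option autoImplicit false
set_option linter.style.haveILetI false
universe u
open CategoryTheory CategoryTheory.Limits AlgebraicGeometry TopologicalSpace Opposite
open KaehlerDifferential TensorProduct
open Groth.Agent.Helper13PullbackUnit

namespace Groth.Agent.Helper18OmLS

section alg

/-- a semilinear map with the universal property of base change gives an equivalence with the tensor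
product. -/
theorem exists_baseChangeEquiv {A B : Type u} [CommRing A] [CommRing B] [Algebra A B]
    {M M' : Type u} [AddCommGroup M] [Module A M] [AddCommGroup M'] [Module B M']
    (ι : M →+ M') (hι : ∀ (a : A) (m : M), ι (a • m) = algebraMap A B a • ι m)
    (H : ∀ (N : Type u) [AddCommGroup N] [Module B N] (l : M →+ N),
      (∀ (r : A) (x : M), l (r • x) = algebraMap A B r • l x) →
      ∃! l' : M' →ₗ[B] N, ∀ x : M, l' (ι x) = l x) :
    ∃ e : B ⊗[A] M ≃ₗ[B] M', ∀ (b : B) (m : M), e (b ⊗ₜ m) = b • ι m := by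
  letI : Module A M' := Module.compHom M' (algebraMap A B)
  haveI : IsScalarTower A B M' := IsScalarTower.of_algebraMap_smul fun _ _ => rfl
  let ιl : M →ₗ[A] M' := { toFun := ι, map_add' := map_add ι, map_smul' := fun a m => hι a m }
  let F : B ⊗[A] M →ₗ[B] M' := LinearMap.liftBaseChange B ιl
  have hF : ∀ (b : B) (m : M), F (b ⊗ₜ m) = b • ι m := fun b m =>
    LinearMap.liftBaseChange_tmul _ _ _ _
  obtain ⟨G, hG, -⟩ := H (B ⊗[A] M) ((TensorProduct.mk A B M 1).toAddMonoidHom) (fun r x => by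
    change (1 : B) ⊗ₜ[A] (r • x) = algebraMap A B r • ((1 : B) ⊗ₜ[A] x)
    rw [TensorProduct.tmul_smul, TensorProduct.smul_tmul', TensorProduct.smul_tmul',
      Algebra.smul_def, mul_one, smul_eq_mul, mul_one])
  have hG' : ∀ x : M, G (ι x) = (1 : B) ⊗ₜ[A] x := hG
  have hGF : G.comp F = LinearMap.id := by
    apply TensorProduct.AlgebraTensorModule.ext
    intro b m
    change G (F (b ⊗ₜ m)) = b ⊗ₜ m
    rw [hF, map_smul, hG', TensorProduct.smul_tmul', smul_eq_mul, mul_one]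
  have hFG : F.comp G = LinearMap.id := by
    obtain ⟨l₀, -, hl₀⟩ := H M' ι hι
    have h1 : F.comp G = l₀ := hl₀ _ (fun x => by
      change F (G (ι x)) = ι x
      rw [hG', hF, one_smul])
    have h2 : (LinearMap.id : M' →ₗ[B] M') = l₀ := hl₀ _ (fun x => rfl)
    rw [h1, h2]
  exact ⟨LinearEquiv.ofLinearMap F G hFG hGF, hF⟩

end alg

section ToolT
variable {X Y S S' : Scheme.{u}} (f : X ⟶ Y) (p : Y ⟶ S) (q : X ⟶ S')
  {ΩY : Y.Modules} (dY : OmegaSh.Der p ΩY)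
  {ΩX : X.Modules} (dX : OmegaSh.Der q ΩX)
  (c : (Scheme.Modules.pullback f).obj ΩY ⟶ ΩX) (hc : OmegaSh.IsDiffCompat f dY dX c)
  {U : X.Opens} {V : Y.Opens} (hUV : U ≤ f ⁻¹ᵁ V)

include hc in
/-- the canonical map on the canonical sections. -/
theorem c_unitSec (a : Γ(Y, V)) :
    c.app U (unitSec f ΩY hUV (dY.app V a)) = dX.app U (f.appLE V U hUV a) := by
  rw [unitSec_apply]
  have h1 := hc V a
  have h2 : c.app U (((Scheme.Modules.pullback f).obj ΩY).presheaf.map (homOfLE hUV).op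
      (OmegaSh.pullSect f ΩY V (dY.app V a))) =
      ΩX.presheaf.map (homOfLE hUV).op (c.app (f ⁻¹ᵁ V) (OmegaSh.pullSect f ΩY V (dY.app V a))) := by
    have := c.mapPresheaf.naturality (homOfLE hUV).op
    exact congr($this _)
  refine h2.trans ?_
  rw [h1, ← der_map]
  rfl


variable (hY : OmegaSh.IsUniversal dY) (hX : OmegaSh.IsUniversal dX)
  (hU : IsAffineOpen U) (hV : IsAffineOpen V)
  {W : S.Opens} (hW : IsAffineOpen W) (hVW : V ≤ p ⁻¹ᵁ W)
  {W' : S'.Opens} (hW' : IsAffineOpen W') (hUW' : U ≤ q ⁻¹ᵁ W')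
  [Algebra Γ(S, W) Γ(Y, V)] (halgA : algebraMap Γ(S, W) Γ(Y, V) = (p.appLE W V hVW).hom)
  [Algebra Γ(S', W') Γ(X, U)] (halgB : algebraMap Γ(S', W') Γ(X, U) = (q.appLE W' U hUW').hom)
  [Algebra Γ(Y, V) Γ(X, U)] (halgAB : algebraMap Γ(Y, V) Γ(X, U) = (f.appLE V U hUV).hom)

include hc hY hX hU hV hW hW' halgA halgB halgAB in
/-- **The canonical map of differentials on charts**: over affine charts the map `c : f^*Ω_Y → Ω_X` is the
canonical map `B ⊗_A Ω[A/C] → Ω[B/C']`. -/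
theorem exists_chart_model :
    ∃ (e₁ : Γ(X, U) ⊗[Γ(Y, V)] Ω[Γ(Y, V)⁄Γ(S, W)] ≃ₗ[Γ(X, U)] Γ((Scheme.Modules.pullback f).obj ΩY, U))
      (e₂ : Γ(ΩX, U) ≃ₗ[Γ(X, U)] Ω[Γ(X, U)⁄Γ(S', W')])
      (κ : Γ(X, U) ⊗[Γ(Y, V)] Ω[Γ(Y, V)⁄Γ(S, W)] →ₗ[Γ(X, U)] Ω[Γ(X, U)⁄Γ(S', W')]),
      (∀ t, κ t = e₂ (c.app U (e₁ t))) ∧
      ∀ (b : Γ(X, U)) (a : Γ(Y, V)),
        κ (b ⊗ₜ D Γ(S, W) Γ(Y, V) a) = b • D Γ(S', W') Γ(X, U) (algebraMap Γ(Y, V) Γ(X, U) a) := by
  haveI := isQuasicoherent_of_isUniversal p dY hY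
  obtain ⟨e, he⟩ := exists_baseChangeEquiv (A := Γ(Y, V)) (B := Γ(X, U)) (unitSec f ΩY hUV)
    (fun a m => by rw [unitSec_smul, halgAB])
    (fun N _ _ l hl => existsUnique_lift f ΩY hV hU hUV N l (fun r x => by
      rw [hl, halgAB]))
  let sY := sectionsEquiv p dY hY hV hW hVW halgA
  let e₂ := sectionsEquiv q dX hX hU hW' hUW' halgB
  let e₁ : Γ(X, U) ⊗[Γ(Y, V)] Ω[Γ(Y, V)⁄Γ(S, W)] ≃ₗ[Γ(X, U)]
      Γ((Scheme.Modules.pullback f).obj ΩY, U) :=
    (TensorProduct.AlgebraTensorModule.congr (LinearEquiv.refl Γ(X, U) Γ(X, U)) sY).symm.trans e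
  let cU : Γ((Scheme.Modules.pullback f).obj ΩY, U) →ₗ[Γ(X, U)] Γ(ΩX, U) :=
    { toFun := fun x => c.app U x
      map_add' := fun x y => map_add _ x y
      map_smul' := fun r x => Scheme.Modules.Hom.app_smul c r x }
  refine ⟨e₁, e₂, e₂.toLinearMap ∘ₗ cU ∘ₗ e₁.toLinearMap, fun t => rfl, fun b a => ?_⟩
  change e₂ (c.app U (e ((TensorProduct.AlgebraTensorModule.congr
    (LinearEquiv.refl Γ(X, U) Γ(X, U)) sY).symm (b ⊗ₜ D Γ(S, W) Γ(Y, V) a)))) = _
  have h1 : (TensorProduct.AlgebraTensorModule.congr (LinearEquiv.refl Γ(X, U) Γ(X, U)) sY).symm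
      (b ⊗ₜ D Γ(S, W) Γ(Y, V) a) = b ⊗ₜ (dY.app V a) := by
    rw [LinearEquiv.symm_apply_eq, TensorProduct.AlgebraTensorModule.congr_tmul]
    congr 1
    exact (sectionsEquiv_d p dY hY hV hW hVW halgA a).symm
  rw [h1, he, Scheme.Modules.Hom.app_smul, c_unitSec f p q dY dX c hc hUV, map_smul]
  congr 1
  rw [halgAB]
  exact sectionsEquiv_d q dX hX hU hW' hUW' halgB _

end ToolT

end Groth.Agent.Helper18OmLS
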