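import Mathlib
import Groth.Prelude.Def_Omega4
import Groth.Agent.Lib.Helper18OmLS7
import Groth.Agent.Lib.Helper13AffBC

set_option autoImplicit false
set_option linter.style.haveILetI false
universe u
open CategoryTheory CategoryTheory.Limits AlgebraicGeometry TopologicalSpace Opposite
open KaehlerDifferential TensorProduct

namespace Groth.Agent.Helper18OmLS

section alg
variable {C A B N : Type u} [CommRing C] [CommRing A] [CommRing B] [Algebra C A] [Algebra A B]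
  [AddCommGroup N] [Module B N]

/-- linear maps out of `B ⊗_A Ω[A/C]` are determined by their values on `1 ⊗ D a`. -/
theorem tensor_kaehler_ext (κ₁ κ₂ : B ⊗[A] Ω[A⁄C] →ₗ[B] N)
    (h : ∀ a : A, κ₁ (1 ⊗ₜ D C A a) = κ₂ (1 ⊗ₜ D C A a)) : κ₁ = κ₂ := by
  have key : ∀ m : Ω[A⁄C], κ₁ (1 ⊗ₜ m) = κ₂ (1 ⊗ₜ m) := by
    intro m
    have hm : m ∈ Submodule.span A (Set.range (D C A)) := by
      rw [KaehlerDifferential.span_range_derivation]; trivial
    induction hm using Submodule.span_induction with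
    | mem x hx => obtain ⟨a, rfl⟩ := hx; exact h a
    | zero => rw [TensorProduct.tmul_zero, map_zero, map_zero]
    | add x y _ _ hx hy => rw [TensorProduct.tmul_add, map_add, map_add, hx, hy]
    | smul a x _ hx =>
      have : (1 : B) ⊗ₜ[A] (a • x) = algebraMap A B a • ((1 : B) ⊗ₜ[A] x) := by
        rw [TensorProduct.tmul_smul, TensorProduct.smul_tmul', TensorProduct.smul_tmul',
          Algebra.smul_def, mul_one, smul_eq_mul, mul_one]
      rw [this, map_smul, map_smul, hx]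
  refine LinearMap.ext fun t => ?_
  induction t using TensorProduct.induction_on with
  | zero => rw [map_zero, map_zero]
  | add x y hx hy => rw [map_add, map_add, hx, hy]
  | tmul b m =>
    have hb : b ⊗ₜ[A] m = b • ((1 : B) ⊗ₜ[A] m) := by
      rw [TensorProduct.smul_tmul', smul_eq_mul, mul_one]
    rw [hb, map_smul, map_smul, key]

end alg

section etale
variable {C A C' B : Type u} [CommRing C] [CommRing A] [CommRing C'] [CommRing B]
  [Algebra C A] [Algebra C' B] [Algebra A B] [Algebra C C'] [Algebra C B]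
  [IsScalarTower C A B] [IsScalarTower C C' B]

theorem bijective_of_formallyEtale [Algebra.FormallyEtale A B] [Algebra.FormallyUnramified C C']
    (κ : B ⊗[A] Ω[A⁄C] →ₗ[B] Ω[B⁄C'])
    (hκ : ∀ (b : B) (a : A), κ (b ⊗ₜ D C A a) = b • D C' B (algebraMap A B a)) :
    Function.Bijective κ := by
  have h1 : κ = (KaehlerDifferential.map C C' B B) ∘ₗ (KaehlerDifferential.mapBaseChange C A B) := by
    apply tensor_kaehler_ext
    intro a
    rw [hκ, one_smul, LinearMap.comp_apply, KaehlerDifferential.mapBaseChange_tmul, one_smul,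
      KaehlerDifferential.map_D, KaehlerDifferential.map_D]
    rfl
  have h2 : Function.Bijective (KaehlerDifferential.mapBaseChange C A B) :=
    (KaehlerDifferential.tensorKaehlerEquivOfFormallyEtale C A B).bijective
  have h3 : Function.Bijective (KaehlerDifferential.map C C' B B) := by
    refine ⟨?_, KaehlerDifferential.map_surjective C C' B⟩
    rw [injective_iff_map_eq_zero]
    intro x hx
    obtain ⟨y, rfl⟩ := (KaehlerDifferential.exact_mapBaseChange_map C C' B x).mp hx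
    rw [Subsingleton.elim y 0, map_zero]
  rw [h1]
  exact h3.comp h2

end etale


section S9776
open Groth.Agent.Helper13AffBC

theorem bijective_of_model {B M N M' N' : Type u} [CommRing B] [AddCommGroup M] [AddCommGroup N]
    [AddCommGroup M'] [AddCommGroup N'] [Module B M] [Module B N] [Module B M'] [Module B N']
    (e₁ : M' ≃ₗ[B] M) (e₂ : N ≃ₗ[B] N') (κ : M' →ₗ[B] N') (φ : M → N)
    (h : ∀ t, κ t = e₂ (φ (e₁ t))) (hκ : Function.Bijective κ) : Function.Bijective φ := by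
  have : φ = e₂.symm ∘ κ ∘ e₁.symm := by
    funext t
    simp [h]
  rw [this]
  exact e₂.symm.bijective.comp (hκ.comp e₁.symm.bijective)

theorem main_S9776 {X₁ S₁ X₂ S₂ : Scheme.{u}} (p₁ : X₁ ⟶ S₁) (p₂ : X₂ ⟶ S₂) (f : X₂ ⟶ X₁) (g : S₂ ⟶ S₁)
    [Etale f] [Etale g] (hsq : f ≫ p₁ = p₂ ≫ g)
    (Ω₁ : X₁.Modules) (d₁ : OmegaSh.Der p₁ Ω₁) (hd₁ : OmegaSh.IsUniversal d₁)
    (Ω₂ : X₂.Modules) (d₂ : OmegaSh.Der p₂ Ω₂) (hd₂ : OmegaSh.IsUniversal d₂)
    (c : (Scheme.Modules.pullback f).obj Ω₁ ⟶ Ω₂) (hc : OmegaSh.IsDiffCompat f d₁ d₂ c) : IsIso c := by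
  let ι : Type u := {U : X₂.Opens // IsAffineOpen U ∧ ∃ (V : X₁.Opens) (W : S₁.Opens) (W' : S₂.Opens),
    IsAffineOpen V ∧ IsAffineOpen W ∧ IsAffineOpen W' ∧ U ≤ f ⁻¹ᵁ V ∧ V ≤ p₁ ⁻¹ᵁ W ∧ U ≤ p₂ ⁻¹ᵁ W' ∧
      W' ≤ g ⁻¹ᵁ W}
  refine isIso_of_bijective_on_basis c (fun i : ι => i.1) ?_ ?_
  · rw [Opens.isBasis_iff_nbhd]
    intro O x hx
    obtain ⟨W, hW, hxW, -⟩ := exists_isAffineOpen_mem_and_subset (x := p₁ (f x)) (U := ⊤) trivial
    have hgx : g (p₂ x) = p₁ (f x) := by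
      rw [← Scheme.Hom.comp_apply, ← Scheme.Hom.comp_apply, hsq]
    obtain ⟨W', hW', hxW', hW'W⟩ := exists_isAffineOpen_mem_and_subset (x := p₂ x) (U := g ⁻¹ᵁ W)
      (by change g (p₂ x) ∈ W; rw [hgx]; exact hxW)
    obtain ⟨V, hV, hxV, hVW⟩ := exists_isAffineOpen_mem_and_subset (x := f x) (U := p₁ ⁻¹ᵁ W) hxW
    obtain ⟨U, hU, hxU, hUO⟩ := exists_isAffineOpen_mem_and_subset (x := x)
      (U := O ⊓ f ⁻¹ᵁ V ⊓ p₂ ⁻¹ᵁ W') ⟨⟨hx, hxV⟩, hxW'⟩
    exact ⟨U, ⟨⟨U, hU, V, W, W', hV, hW, hW', fun y hy => (hUO hy).1.2, hVW,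
      fun y hy => (hUO hy).2, hW'W⟩, rfl⟩, hxU, fun y hy => (hUO hy).1.1⟩
  · rintro ⟨U, hU, V, W, W', hV, hW, hW', hUV, hVW, hUW', hW'W⟩
    letI algCA : Algebra Γ(S₁, W) Γ(X₁, V) := (p₁.appLE W V hVW).hom.toAlgebra
    letI algC'B : Algebra Γ(S₂, W') Γ(X₂, U) := (p₂.appLE W' U hUW').hom.toAlgebra
    letI algAB : Algebra Γ(X₁, V) Γ(X₂, U) := (f.appLE V U hUV).hom.toAlgebra
    letI algCC' : Algebra Γ(S₁, W) Γ(S₂, W') := (g.appLE W W' hW'W).hom.toAlgebra
    letI algCB : Algebra Γ(S₁, W) Γ(X₂, U) :=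
      ((f.appLE V U hUV).hom.comp (p₁.appLE W V hVW).hom).toAlgebra
    haveI : IsScalarTower Γ(S₁, W) Γ(X₁, V) Γ(X₂, U) := IsScalarTower.of_algebraMap_eq fun _ => rfl
    haveI : IsScalarTower Γ(S₁, W) Γ(S₂, W') Γ(X₂, U) := by
      refine IsScalarTower.of_algebraMap_eq fun r => ?_
      have h1 : p₁.appLE W V hVW ≫ f.appLE V U hUV = (f ≫ p₁).appLE W U
          (fun y hy => hVW (hUV hy)) := Scheme.Hom.appLE_comp_appLE _ _ _ _ _ _ _
      have h2 : g.appLE W W' hW'W ≫ p₂.appLE W' U hUW' = (p₂ ≫ g).appLE W U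
          (fun y hy => hW'W (hUW' hy)) := Scheme.Hom.appLE_comp_appLE _ _ _ _ _ _ _
      have h3 := OmegaSh.appLE_congr_hom hsq (U := W) (V := U) (fun y hy => hVW (hUV hy))
        (fun y hy => hW'W (hUW' hy))
      have h4 : p₁.appLE W V hVW ≫ f.appLE V U hUV = g.appLE W W' hW'W ≫ p₂.appLE W' U hUW' := by
        rw [h1, h2, h3]
      exact congr($h4 r)
    haveI : Algebra.Etale Γ(X₁, V) Γ(X₂, U) := by
      have := Etale.etale_appLE f hV hU hUV
      exact this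
    haveI : Algebra.Etale Γ(S₁, W) Γ(S₂, W') := by
      have := Etale.etale_appLE g hW hW' hW'W
      exact this
    obtain ⟨e₁, e₂, κ, hκ1, hκ2⟩ := exists_chart_model f p₁ p₂ d₁ d₂ c hc hUV hd₁ hd₂ hU hV hW hVW
      hW' hUW' rfl rfl rfl
    exact bijective_of_model e₁ e₂ κ _ hκ1 (bijective_of_formallyEtale κ hκ2)

end S9776

end Groth.Agent.Helper18OmLS
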