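import Mathlib
import Groth.Prelude.Def_Omega4
import Groth.Agent.Lib.Helper18OmLS8
import Groth.Agent.Lib.Helper23ModLocal

set_option autoImplicit false
set_option linter.style.haveILetI false
universe u
open CategoryTheory CategoryTheory.Limits AlgebraicGeometry TopologicalSpace Opposite
open KaehlerDifferential TensorProduct
open Groth.Agent.Lib.Helper23.ModLocal Groth.Agent.Lib.Helper23.QCohLocal

namespace Groth.Agent.Helper18OmLS

section cover
variable {X : Scheme.{u}}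

theorem bijective_app_of_eq {M N : X.Modules} (φ : M ⟶ N) {A B : X.Opens} (h : A = B)
    (hb : Function.Bijective (φ.app B)) : Function.Bijective (φ.app A) := by
  subst h; exact hb

/-- a morphism of quasi-coherent modules which is bijective on sections over the members of an affine open
cover is an isomorphism. -/
theorem isIso_of_bijective_app_cover {M N : X.Modules} [M.IsQuasicoherent] [N.IsQuasicoherent]
    (φ : M ⟶ N) {ι : Type*} (V : ι → X.Opens) (hV : IsOpenCover V) (hVa : ∀ i, IsAffineOpen (V i))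
    (h : ∀ i, Function.Bijective (φ.app (V i))) : IsIso φ := by
  refine isIso_of_bijective_ΓU φ V hV hVa fun i => ?_
  have h1 : (hVa i).fromSpec ''ᵁ ⊤ = V i :=
    (Scheme.Hom.image_top_eq_opensRange _).trans (hVa i).opensRange_fromSpec
  exact bijective_app_of_eq φ h1 (h i)

end cover


section S9386
open Groth.Agent.Lib.Helper20.PullbackAff

theorem bijective_of_isPushout {C A C' B : Type u} [CommRing C] [CommRing A] [CommRing C'] [CommRing B]
    [Algebra C A] [Algebra C' B] [Algebra A B] [Algebra C C'] [Algebra C B]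
    [IsScalarTower C A B] [IsScalarTower C C' B] [Algebra.IsPushout C C' A B]
    (κ : B ⊗[A] Ω[A⁄C] →ₗ[B] Ω[B⁄C'])
    (hκ : ∀ (b : B) (a : A), κ (b ⊗ₜ D C A a) = b • D C' B (algebraMap A B a)) :
    Function.Bijective κ := by
  have h1 : κ = (KaehlerDifferential.tensorKaehlerEquiv C C' A B).toLinearMap := by
    apply tensor_kaehler_ext
    intro a
    rw [hκ, LinearEquiv.coe_coe, KaehlerDifferential.tensorKaehlerEquiv_tmul_D]
  rw [h1]
  exact (KaehlerDifferential.tensorKaehlerEquiv C C' A B).bijective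

theorem main_S9386 {X S X' S' : Scheme.{u}} (f : X ⟶ S) (g : S' ⟶ S) (g' : X' ⟶ X) (f' : X' ⟶ S')
    (hsq : IsPullback g' f' f g) (Ω : X.Modules) (d : OmegaSh.Der f Ω) (hd : OmegaSh.IsUniversal d)
    (Ω' : X'.Modules) (d' : OmegaSh.Der f' Ω') (hd' : OmegaSh.IsUniversal d')
    (c : (Scheme.Modules.pullback g').obj Ω ⟶ Ω') (hc : OmegaSh.IsDiffCompat g' d d' c) : IsIso c := by
  haveI := isQuasicoherent_of_isUniversal f d hd
  haveI := isQuasicoherent_of_isUniversal f' d' hd'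
  let ι : Type u := {T : S.Opens × S'.Opens × X.Opens // IsAffineOpen T.1 ∧ IsAffineOpen T.2.1 ∧
    IsAffineOpen T.2.2 ∧ T.2.1 ≤ g ⁻¹ᵁ T.1 ∧ T.2.2 ≤ f ⁻¹ᵁ T.1}
  let Uo : ι → X'.Opens := fun T => g' ⁻¹ᵁ T.1.2.2 ⊓ f' ⁻¹ᵁ T.1.2.1
  have hUa : ∀ T : ι, IsAffineOpen (Uo T) := by
    rintro ⟨⟨W, W', V⟩, hW, hW', hV, hW'W, hVW⟩
    have : IsAffine _ := hW
    have : IsAffine _ := hW'
    have : IsAffine _ := hV
    exact .of_isIso (Scheme.Hom.isPullback_resLE hsq hW'W hVW rfl).isoPullback.hom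
  refine isIso_of_bijective_app_cover c Uo ?_ hUa ?_
  · refine IsOpenCover.mk (eq_top_iff.mpr ?_)
    intro x _
    obtain ⟨W, hW, hxW, -⟩ := exists_isAffineOpen_mem_and_subset (x := f (g' x)) (U := ⊤) trivial
    have hgx : g (f' x) = f (g' x) := by
      rw [← Scheme.Hom.comp_apply, ← Scheme.Hom.comp_apply, hsq.w]
    obtain ⟨W', hW', hxW', hW'W⟩ := exists_isAffineOpen_mem_and_subset (x := f' x) (U := g ⁻¹ᵁ W)
      (by change g (f' x) ∈ W; rw [hgx]; exact hxW)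
    obtain ⟨V, hV, hxV, hVW⟩ := exists_isAffineOpen_mem_and_subset (x := g' x) (U := f ⁻¹ᵁ W) hxW
    exact Opens.mem_iSup.mpr ⟨⟨⟨W, W', V⟩, hW, hW', hV, hW'W, hVW⟩, ⟨hxV, hxW'⟩⟩
  · rintro ⟨⟨W, W', V⟩, hW, hW', hV, hW'W, hVW⟩
    have hU := hUa ⟨⟨W, W', V⟩, hW, hW', hV, hW'W, hVW⟩
    change Function.Bijective (c.app (g' ⁻¹ᵁ V ⊓ f' ⁻¹ᵁ W'))
    change IsAffineOpen (g' ⁻¹ᵁ V ⊓ f' ⁻¹ᵁ W') at hU
    set U : X'.Opens := g' ⁻¹ᵁ V ⊓ f' ⁻¹ᵁ W' with hUdef
    have hUV : U ≤ g' ⁻¹ᵁ V := inf_le_left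
    have hUW' : U ≤ f' ⁻¹ᵁ W' := inf_le_right
    letI algCA : Algebra Γ(S, W) Γ(X, V) := (f.appLE W V hVW).hom.toAlgebra
    letI algC'B : Algebra Γ(S', W') Γ(X', U) := (f'.appLE W' U hUW').hom.toAlgebra
    letI algAB : Algebra Γ(X, V) Γ(X', U) := (g'.appLE V U hUV).hom.toAlgebra
    letI algCC' : Algebra Γ(S, W) Γ(S', W') := (g.appLE W W' hW'W).hom.toAlgebra
    letI algCB : Algebra Γ(S, W) Γ(X', U) :=
      ((g'.appLE V U hUV).hom.comp (f.appLE W V hVW).hom).toAlgebra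
    haveI : IsScalarTower Γ(S, W) Γ(X, V) Γ(X', U) := IsScalarTower.of_algebraMap_eq fun _ => rfl
    have hcomm : f.appLE W V hVW ≫ g'.appLE V U hUV = g.appLE W W' hW'W ≫ f'.appLE W' U hUW' := by
      have h1 : f.appLE W V hVW ≫ g'.appLE V U hUV = (g' ≫ f).appLE W U
          (fun y hy => hVW (hUV hy)) := Scheme.Hom.appLE_comp_appLE _ _ _ _ _ _ _
      have h2 : g.appLE W W' hW'W ≫ f'.appLE W' U hUW' = (f' ≫ g).appLE W U
          (fun y hy => hW'W (hUW' hy)) := Scheme.Hom.appLE_comp_appLE _ _ _ _ _ _ _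
      have h3 := OmegaSh.appLE_congr_hom hsq.w (U := W) (V := U) (fun y hy => hVW (hUV hy))
        (fun y hy => hW'W (hUW' hy))
      rw [h1, h2, h3]
    haveI : IsScalarTower Γ(S, W) Γ(S', W') Γ(X', U) :=
      IsScalarTower.of_algebraMap_eq fun r => congr($hcomm r)
    haveI : Algebra.IsPushout Γ(S, W) Γ(S', W') Γ(X, V) Γ(X', U) := by
      have hiso := isIso_pushoutSection_of_isAffineOpen hsq hW'W hVW hUdef hW hW' hV
      have hpo := (isIso_pushoutSection_iff hsq hW'W hVW hUdef).mp hiso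
      exact (CommRingCat.isPushout_iff_isPushout.mp hpo).symm
    obtain ⟨e₁, e₂, κ, hκ1, hκ2⟩ := exists_chart_model g' f f' d d' c hc hUV hd hd' hU hV hW hVW
      hW' hUW' rfl rfl rfl
    exact bijective_of_model e₁ e₂ κ _ hκ1 (bijective_of_isPushout κ hκ2)

end S9386

end Groth.Agent.Helper18OmLS
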