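import Mathlib

/-!
# Morphisms of modules on a scheme from data on a basis of opens (helper13)

Namespace `Groth.Agent.Helper13ModBasis`. Generalizes `Helper13ModAffine` from the affine opens to an
arbitrary basis `B : ι → X.Opens`.

* `section_ext_basis`, `hom_ext_basis`.
* `homOfBasis B hB d nat lin : E ⟶ M` with `homOfBasis_app`.
-/

set_option autoImplicit false
universe u v
open CategoryTheory CategoryTheory.Limits AlgebraicGeometry Opposite TopologicalSpace

namespace Groth.Agent.Helper13ModBasis

noncomputable section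

variable {X : Scheme.{u}} {ι : Type v} (B : ι → X.Opens) (hB : Opens.IsBasis (Set.range B))
  {E M : X.Modules}

include hB in
/-- sections agreeing on all members of the basis inside `U` are equal -/
theorem section_ext_basis (M : X.Modules) {U : X.Opens} (s t : Γ(M, U))
    (h : ∀ (i : ι) (hle : B i ≤ U),
      M.presheaf.map (homOfLE hle).op s = M.presheaf.map (homOfLE hle).op t) : s = t := by
  refine TopCat.Sheaf.eq_of_locally_eq' ⟨M.presheaf, M.isSheaf⟩
    (fun W : {i : ι // B i ≤ U} => B W.1) U
    (fun W => homOfLE W.2) ?_ s t (fun W => h W.1 W.2)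
  intro x hx
  obtain ⟨_, ⟨i, rfl⟩, hxW, hWU⟩ := (Opens.isBasis_iff_nbhd.1 hB) hx
  exact Opens.mem_iSup.mpr ⟨⟨i, hWU⟩, hxW⟩

include hB in
/-- morphisms of modules agreeing on all members of a basis are equal -/
theorem hom_ext_basis (f g : E ⟶ M) (h : ∀ i, f.app (B i) = g.app (B i)) : f = g := by
  apply (Scheme.Modules.toPresheaf X).map_injective
  exact TopCat.Sheaf.hom_ext (F := E.presheaf)
    (F' := (⟨M.presheaf, M.isSheaf⟩ : TopCat.Sheaf Ab X)) hB (fun i => h i)

section Build

variable (d : ∀ i, Γ(E, B i) ⟶ Γ(M, B i))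
  (nat : ∀ (i i' : ι) (h : B i' ≤ B i),
    E.presheaf.map (homOfLE h).op ≫ d i' = d i ≫ M.presheaf.map (homOfLE h).op)

/-- the natural transformation on the basis -/
def basisNat : (inducedFunctor B).op ⋙ E.presheaf ⟶ (inducedFunctor B).op ⋙ M.presheaf where
  app i := d i.unop
  naturality i i' f := nat i.unop i'.unop (leOfHom ((inducedFunctor B).map f.unop))

/-- the extension to all opens -/
def abHom : E.presheaf ⟶ M.presheaf :=
  TopCat.Sheaf.restrictHomEquivHom E.presheaf (⟨M.presheaf, M.isSheaf⟩ : TopCat.Sheaf Ab X) hB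
    (basisNat B d nat)

theorem abHom_app (i : ι) : (abHom B hB d nat).app (op (B i)) = d i :=
  TopCat.Sheaf.extend_hom_app E.presheaf (⟨M.presheaf, M.isSheaf⟩ : TopCat.Sheaf Ab X) hB
    (basisNat B d nat) i

variable (lin : ∀ (i : ι) (a : Γ(X, B i)) (m : Γ(E, B i)), d i (a • m) = a • d i m)

include lin in
theorem abHom_smul (U : X.Opens) (a : Γ(X, U)) (m : Γ(E, U)) :
    (abHom B hB d nat).app (op U) (a • m) = a • (abHom B hB d nat).app (op U) m := by
  refine section_ext_basis B hB M _ _ fun i hle => ?_
  have hn : ∀ x : Γ(E, U), M.presheaf.map (homOfLE hle).op ((abHom B hB d nat).app (op U) x) =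
      d i (E.presheaf.map (homOfLE hle).op x) := by
    intro x
    have := (abHom B hB d nat).naturality (homOfLE hle).op
    rw [abHom_app B hB d nat i] at this
    exact (CategoryTheory.congr_fun this x).symm
  rw [hn, Scheme.Modules.map_smul, Scheme.Modules.map_smul, lin, hn]

/-- the morphism of modules determined by its values on a basis -/
def homOfBasis : E ⟶ M :=
  ⟨PresheafOfModules.homMk (abHom B hB d nat) (fun X r m => abHom_smul B hB d nat lin X.unop r m)⟩

theorem homOfBasis_app (i : ι) : (homOfBasis B hB d nat lin).app (B i) = d i :=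
  abHom_app B hB d nat i

end Build

end

end Groth.Agent.Helper13ModBasis
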