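import Mathlib
import Groth.Agent.Lib.Helper26ModLim2
import Groth.Agent.Lib.Helper13PullbackUnit

/-!
# The comparison `g_* g^* G ⟶ p_* p^* G` for `p = f ≫ g` (helper26)
-/

set_option autoImplicit false
universe u
open CategoryTheory AlgebraicGeometry

namespace Groth.Agent.Lib.Helper26.HomLimA
open Scheme.Modules Groth.Agent.Lib.Helper26.ModLim2 Groth.Agent.Helper13PullbackUnit

variable {X Y Z : Scheme.{u}} (f : X ⟶ Y) (g : Y ⟶ Z)

/-- the comparison `g_* g^* G ⟶ (f ≫ g)_* (f ≫ g)^* G`. -/
noncomputable def kap0 (G : Z.Modules) :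
    (pushforward g).obj ((pullback g).obj G) ⟶
      (pushforward (f ≫ g)).obj ((pullback (f ≫ g)).obj G) :=
  (pushforward g).map ((pullbackPushforwardAdjunction f).unit.app ((pullback g).obj G)) ≫
    (pushforwardComp f g).hom.app _ ≫ (pushforward (f ≫ g)).map ((pullbackComp f g).hom.app G)

theorem unit_kap0 (F : Z.Modules) :
    (pullbackPushforwardAdjunction g).unit.app F ≫ kap0 f g F =
      (pullbackPushforwardAdjunction (f ≫ g)).unit.app F := by
  have h := unit_conjugateEquiv ((pullbackPushforwardAdjunction g).comp (pullbackPushforwardAdjunction f))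
    (pullbackPushforwardAdjunction (f ≫ g)) (pullbackComp f g).inv F
  rw [conjugateEquiv_pullbackComp_inv, Adjunction.comp_unit_app] at h
  unfold kap0
  rw [← Category.assoc, ← Category.assoc, Category.assoc _ _ ((pushforwardComp f g).hom.app _)]
  erw [h]
  rw [Category.assoc, ← Functor.map_comp, Iso.inv_hom_id_app, CategoryTheory.Functor.map_id]
  exact Category.comp_id _

theorem kap0_natural {F G : Z.Modules} (h : (pullback g).obj F ⟶ (pullback g).obj G) :
    kap0 f g F ≫ (pushforward (f ≫ g)).map ((pullbackComp f g).inv.app F ≫ (pullback f).map h ≫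
        (pullbackComp f g).hom.app G) = (pushforward g).map h ≫ kap0 f g G := by
  unfold kap0
  simp only [Category.assoc, ← Functor.map_comp, Iso.hom_inv_id_app_assoc]
  rw [Functor.map_comp, ← Category.assoc ((pushforwardComp f g).hom.app _)]
  have h1 := (pushforwardComp f g).hom.naturality ((pullback f).map h)
  erw [← h1]
  have h2 : h ≫ (pullbackPushforwardAdjunction f).unit.app ((pullback g).obj G) =
      (pullbackPushforwardAdjunction f).unit.app ((pullback g).obj F) ≫
        (pushforward f).map ((pullback f).map h) :=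
    (pullbackPushforwardAdjunction f).unit.naturality h
  have h3 : (pushforward g).map h ≫
        (pushforward g).map ((pullbackPushforwardAdjunction f).unit.app ((pullback g).obj G)) =
      (pushforward g).map ((pullbackPushforwardAdjunction f).unit.app ((pullback g).obj F)) ≫
        (pushforward f ⋙ pushforward g).map ((pullback f).map h) := by
    rw [← Functor.map_comp, h2, Functor.map_comp]
    rfl
  simp only [Category.assoc]
  rw [← Category.assoc ((pushforward g).map h), h3, Category.assoc]

variable (p : X ⟶ Z) (e : f ≫ g = p)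

/-- the comparison `g_* g^* G ⟶ p_* p^* G` for `p = f ≫ g`. -/
noncomputable def kap (G : Z.Modules) :
    (pushforward g).obj ((pullback g).obj G) ⟶ (pushforward p).obj ((pullback p).obj G) :=
  kap0 f g G ≫ eqToHom (by rw [e])

theorem pullbackCongr_rfl : pullbackCongr (rfl : f = f) = Iso.refl _ := rfl

theorem compIso_rfl : compIso f g (f ≫ g) rfl = pullbackComp f g := by
  unfold compIso
  rw [pullbackCongr_rfl, Iso.trans_refl]

theorem unit_kap (F : Z.Modules) :
    (pullbackPushforwardAdjunction g).unit.app F ≫ kap f g p e F =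
      (pullbackPushforwardAdjunction p).unit.app F := by
  subst e
  unfold kap
  rw [eqToHom_refl, Category.comp_id, unit_kap0]

theorem kap_natural {F G : Z.Modules} (h : (pullback g).obj F ⟶ (pullback g).obj G) :
    kap f g p e F ≫ (pushforward p).map ((compIso f g p e).inv.app F ≫ (pullback f).map h ≫
        (compIso f g p e).hom.app G) = (pushforward g).map h ≫ kap f g p e G := by
  subst e
  unfold kap
  rw [eqToHom_refl, eqToHom_refl, Category.comp_id, Category.comp_id, compIso_rfl, kap0_natural]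

/-- **the adjunction step**: the transpose of the pullback of the transpose of `ψ`. -/
theorem homEquiv_kap {F G : Z.Modules} (ψ : F ⟶ (pushforward g).obj ((pullback g).obj G)) :
    (pullbackPushforwardAdjunction p).homEquiv _ _ ((compIso f g p e).inv.app F ≫
      (pullback f).map (((pullbackPushforwardAdjunction g).homEquiv _ _).symm ψ) ≫
        (compIso f g p e).hom.app G) = ψ ≫ kap f g p e G := by
  rw [Adjunction.homEquiv_unit, ← unit_kap f g p e F, Category.assoc, kap_natural,
    ← Category.assoc, ← Adjunction.homEquiv_unit, Equiv.apply_symm_apply]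

include e in
theorem le_of_eq_comp (V : Z.Opens) : p ⁻¹ᵁ V ≤ f ⁻¹ᵁ (g ⁻¹ᵁ V) := by
  subst e
  exact le_rfl

/-- sections of a pushforward, identified with sections upstairs (an explicit cast). -/
noncomputable def pS {Y Z : Scheme.{u}} (g : Y ⟶ Z) (M : Y.Modules) (V : Z.Opens) :
    Γ(M, g ⁻¹ᵁ V) ≃+ Γ((pushforward g).obj M, V) := AddEquiv.refl _

/-- a morphism between pushforwards, on sections upstairs. -/
noncomputable def secMap {Y W Z : Scheme.{u}} (g : Y ⟶ Z) (p : W ⟶ Z) {M : Y.Modules}
    {N : W.Modules} (k : (pushforward g).obj M ⟶ (pushforward p).obj N) (V : Z.Opens) :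
    Γ(M, g ⁻¹ᵁ V) →+ Γ(N, p ⁻¹ᵁ V) :=
  (pS p N V).symm.toAddMonoidHom.comp ((k.app V).hom.comp (pS g M V).toAddMonoidHom)

theorem secMap_eq {Y W Z : Scheme.{u}} (g : Y ⟶ Z) (p : W ⟶ Z) {M : Y.Modules}
    {N : W.Modules} (k : (pushforward g).obj M ⟶ (pushforward p).obj N) (V : Z.Opens)
    (t : Γ(M, g ⁻¹ᵁ V)) : secMap g p k V t = (pS p N V).symm (k.app V (pS g M V t)) := rfl

theorem secMap_symm {Y W Z : Scheme.{u}} (g : Y ⟶ Z) (p : W ⟶ Z) {M : Y.Modules}
    {N : W.Modules} (k : (pushforward g).obj M ⟶ (pushforward p).obj N) (V : Z.Opens)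
    (t : Γ((pushforward g).obj M, V)) :
    secMap g p k V ((pS g M V).symm t) = (pS p N V).symm (k.app V t) := by
  rw [secMap_eq, AddEquiv.apply_symm_apply]

/-- **sections formula** for `kap`. -/
theorem kap_app (G : Z.Modules) (V : Z.Opens) (t : Γ((pullback g).obj G, g ⁻¹ᵁ V)) :
    (kap f g p e G).app V (pS g _ V t) = pS p _ V (((compIso f g p e).hom.app G).app (p ⁻¹ᵁ V)
      (unitSec f ((pullback g).obj G) (le_of_eq_comp f g p e V) t)) := by
  subst e
  unfold kap
  rw [eqToHom_refl, Category.comp_id, compIso_rfl]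
  unfold kap0
  rw [unitSec_apply]
  have h1 : ((pullback f).obj ((pullback g).obj G)).presheaf.map
        (homOfLE (le_of_eq_comp f g (f ≫ g) rfl V)).op = 𝟙 _ :=
    ((pullback f).obj ((pullback g).obj G)).presheaf.map_id _
  rw [h1]
  rfl

theorem unitSec_le_rfl {X Y : Scheme.{u}} (f : Y ⟶ X) (F : X.Modules) (V : X.Opens) (x : Γ(F, V)) :
    unitSec f F (le_refl (f ⁻¹ᵁ V)) x =
      (pS f _ V).symm (((pullbackPushforwardAdjunction f).unit.app F).app V x) := by
  rw [unitSec_apply]
  have h1 : ((pullback f).obj F).presheaf.map (homOfLE (le_refl (f ⁻¹ᵁ V))).op = 𝟙 _ :=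
    ((pullback f).obj F).presheaf.map_id _
  rw [h1]
  rfl

theorem comp_app_apply {T : Scheme.{u}} {A B C : T.Modules} (φ : A ⟶ B) (ψ : B ⟶ C) (V : T.Opens)
    (x : Γ(A, V)) : (φ ≫ ψ).app V x = ψ.app V (φ.app V x) := rfl

/-- `kap` sends the canonical sections to the canonical sections. -/
theorem kap_app_unit (G : Z.Modules) (V : Z.Opens) (x : Γ(G, V)) :
    (kap f g p e G).app V (((pullbackPushforwardAdjunction g).unit.app G).app V x) =
      ((pullbackPushforwardAdjunction p).unit.app G).app V x := by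
  have h3 := comp_app_apply ((pullbackPushforwardAdjunction g).unit.app G) (kap f g p e G) V x
  rw [unit_kap f g p e G] at h3
  exact h3.symm

theorem kapSec_apply (G : Z.Modules) (V : Z.Opens) (t : Γ((pullback g).obj G, g ⁻¹ᵁ V)) :
    secMap g p (kap f g p e G) V t = ((compIso f g p e).hom.app G).app (p ⁻¹ᵁ V)
      (unitSec f ((pullback g).obj G) (le_of_eq_comp f g p e V) t) := by
  rw [secMap_eq, kap_app, AddEquiv.symm_apply_apply]

/-- semilinearity of `kap` on sections. -/
theorem kapSec_smul (G : Z.Modules) (V : Z.Opens) (b : Γ(Y, g ⁻¹ᵁ V))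
    (t : Γ((pullback g).obj G, g ⁻¹ᵁ V)) :
    secMap g p (kap f g p e G) V (b • t) =
      (f.appLE (g ⁻¹ᵁ V) (p ⁻¹ᵁ V) (le_of_eq_comp f g p e V) b) •
        secMap g p (kap f g p e G) V t := by
  rw [kapSec_apply, kapSec_apply, unitSec_smul, Hom.app_smul]

theorem kapSec_unitSec (G : Z.Modules) (V : Z.Opens) (x : Γ(G, V)) :
    secMap g p (kap f g p e G) V (unitSec g G (le_refl (g ⁻¹ᵁ V)) x) =
      unitSec p G (le_refl (p ⁻¹ᵁ V)) x := by
  rw [secMap_eq, unitSec_le_rfl, AddEquiv.apply_symm_apply, kap_app_unit, unitSec_le_rfl]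

end Groth.Agent.Lib.Helper26.HomLimA
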