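import Mathlib
import Groth.Agent.Lib.Helper26HomLimA
import Groth.Agent.Lib.Helper13BCAlg
import Groth.Agent.Lib.Helper13ModBasis

/-!
# Sections of pullbacks as base change; the cocycle identity for `kap` (helper26)
-/

set_option autoImplicit false
set_option linter.style.haveILetI false
universe u
open CategoryTheory AlgebraicGeometry TensorProduct

namespace Groth.Agent.Lib.Helper26.HomLimB
open Scheme.Modules Groth.Agent.Lib.Helper26.ModLim2 Groth.Agent.Helper13PullbackUnit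
  Groth.Agent.Lib.Helper26.HomLimA

section BC
variable {X Y : Scheme.{u}} (f : Y ⟶ X) (F : X.Modules) [F.IsQuasicoherent]
  {V : X.Opens} (hV : IsAffineOpen V) {U : Y.Opens} (hU : IsAffineOpen U) (hle : U ≤ f ⁻¹ᵁ V)

include hV hU in
/-- two semilinear maps out of `Γ(f^*F, U)` agreeing on the canonical sections are equal. -/
theorem hom_ext_unitSec (N : Type u) [AddCommGroup N] [Module Γ(Y, U) N]
    (l₁ l₂ : Γ((pullback f).obj F, U) →+ N)
    (h₁ : ∀ (a : Γ(Y, U)) (s : Γ((pullback f).obj F, U)), l₁ (a • s) = a • l₁ s)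
    (h₂ : ∀ (a : Γ(Y, U)) (s : Γ((pullback f).obj F, U)), l₂ (a • s) = a • l₂ s)
    (h : ∀ x : Γ(F, V), l₁ (unitSec f F hle x) = l₂ (unitSec f F hle x)) : l₁ = l₂ := by
  obtain ⟨l', -, hl'⟩ := existsUnique_lift f F hV hU hle N (l₁.comp (unitSec f F hle))
    (fun r x => by
      rw [AddMonoidHom.comp_apply, AddMonoidHom.comp_apply, unitSec_smul, h₁])
  have e₁ := hl' { toFun := l₁, map_add' := l₁.map_add, map_smul' := fun a s => h₁ a s }
    (fun x => rfl)
  have e₂ := hl' { toFun := l₂, map_add' := l₂.map_add, map_smul' := fun a s => h₂ a s }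
    (fun x => (h x).symm)
  ext s
  have := congrArg (fun k : Γ((pullback f).obj F, U) →ₗ[Γ(Y, U)] N => k s) (e₁.trans e₂.symm)
  exact this

include hV hU in
/-- semilinear version of `hom_ext_unitSec`. -/
theorem hom_ext_unitSec' (S' : Type u) [CommRing S'] (ρ : Γ(Y, U) →+* S') (N : Type u)
    [AddCommGroup N] [Module S' N] (l₁ l₂ : Γ((pullback f).obj F, U) →+ N)
    (h₁ : ∀ (a : Γ(Y, U)) (s : Γ((pullback f).obj F, U)), l₁ (a • s) = ρ a • l₁ s)
    (h₂ : ∀ (a : Γ(Y, U)) (s : Γ((pullback f).obj F, U)), l₂ (a • s) = ρ a • l₂ s)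
    (h : ∀ x : Γ(F, V), l₁ (unitSec f F hle x) = l₂ (unitSec f F hle x)) : l₁ = l₂ := by
  letI := Module.compHom N ρ
  exact hom_ext_unitSec f F hV hU hle N l₁ l₂ h₁ h₂ h

include hV hU in
/-- sections of the pullback over affine opens: the base change property, packaged. -/
theorem bc_package :
    letI := (f.appLE V U hle).hom.toAlgebra
    (∀ t : Γ(F, V), (1 : Γ(Y, U)) ⊗ₜ[Γ(X, V)] t = 0 ↔ unitSec f F hle t = 0) ∧
      ∀ s : Γ((pullback f).obj F, U), ∃ (n : ℕ) (a : Fin n → Γ(Y, U)) (x : Fin n → Γ(F, V)),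
        s = ∑ i, a i • unitSec f F hle (x i) := by
  letI alg : Algebra Γ(X, V) Γ(Y, U) := (f.appLE V U hle).hom.toAlgebra
  letI : Module Γ(X, V) Γ((pullback f).obj F, U) :=
    Module.compHom Γ((pullback f).obj F, U) (f.appLE V U hle).hom
  haveI : IsScalarTower Γ(X, V) Γ(Y, U) Γ((pullback f).obj F, U) := ⟨fun r c m => by
    change ((f.appLE V U hle).hom r * c) • m = (f.appLE V U hle).hom r • (c • m)
    rw [mul_smul]⟩
  let φl : Γ(F, V) →ₗ[Γ(X, V)] Γ((pullback f).obj F, U) :=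
    { toFun := unitSec f F hle
      map_add' := (unitSec f F hle).map_add
      map_smul' := fun r x => unitSec_smul f F hle r x }
  have hbc : IsBaseChange Γ(Y, U) φl :=
    Groth.Agent.Helper13BCAlg.isBaseChange_of_existsUnique φl
      (fun N _ _ l hl => existsUnique_lift f F hV hU hle N l hl)
  refine ⟨fun t => ⟨fun h => ?_, fun h => ?_⟩, fun s => ?_⟩
  · have := congrArg hbc.equiv h
    rw [hbc.equiv_tmul, one_smul, map_zero] at this
    exact this
  · apply hbc.equiv.injective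
    rw [hbc.equiv_tmul, one_smul, map_zero]
    exact h
  · obtain ⟨n, a, x, hz⟩ := TensorProduct.exists_sum_tmul_eq (hbc.equiv.symm s)
    refine ⟨n, a, x, ?_⟩
    have := congrArg hbc.equiv hz
    rw [LinearEquiv.apply_symm_apply, map_sum] at this
    rw [this]
    refine Finset.sum_congr rfl fun i _ => ?_
    rw [hbc.equiv_tmul]
    rfl

end BC

section cocycle
variable {W Y' Y Z : Scheme.{u}} (f' : W ⟶ Y') (a : Y' ⟶ Y) (g : Y ⟶ Z) (g' : Y' ⟶ Z) (f : W ⟶ Y)
  (p : W ⟶ Z) (e₁ : a ≫ g = g') (e₂ : f' ≫ a = f) (e₃ : f ≫ g = p) (e₄ : f' ≫ g' = p)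
  (G : Z.Modules) [G.IsQuasicoherent] {V : Z.Opens} (hV : IsAffineOpen V)
  (hgV : IsAffineOpen (g ⁻¹ᵁ V))

include hV hgV e₂ in
/-- **cocycle identity** for `kap`, on sections over an affine open with affine preimage. -/
theorem kapSec_kapSec (t : Γ((pullback g).obj G, g ⁻¹ᵁ V)) :
    secMap g' p (kap f' g' p e₄ G) V (secMap g g' (kap a g g' e₁ G) V t) =
      secMap g p (kap f g p e₃ G) V t := by
  have key : (secMap g' p (kap f' g' p e₄ G) V).comp (secMap g g' (kap a g g' e₁ G) V) =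
      secMap g p (kap f g p e₃ G) V := by
    refine hom_ext_unitSec' g G hV hgV (le_refl (g ⁻¹ᵁ V)) Γ(W, p ⁻¹ᵁ V)
      (f.appLE (g ⁻¹ᵁ V) (p ⁻¹ᵁ V) (le_of_eq_comp f g p e₃ V)).hom _ _ _ ?_ ?_ ?_
    · intro b s
      rw [AddMonoidHom.comp_apply, AddMonoidHom.comp_apply, kapSec_smul, kapSec_smul]
      have := congrArg (fun k => k.hom b) (Groth.Agent.Lib.Helper26.ModLim.appLE_comp_of_eq f' a f e₂
        (g ⁻¹ᵁ V) (g' ⁻¹ᵁ V) (p ⁻¹ᵁ V) (le_of_eq_comp a g g' e₁ V) (le_of_eq_comp f' g' p e₄ V)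
        (le_of_eq_comp f g p e₃ V))
      simp only [CommRingCat.hom_comp, RingHom.comp_apply] at this
      rw [this]
    · intro b s
      exact kapSec_smul f g p e₃ G V b s
    · intro x
      rw [AddMonoidHom.comp_apply, kapSec_unitSec, kapSec_unitSec, kapSec_unitSec]
  have h := DFunLike.congr_fun key t
  rw [AddMonoidHom.comp_apply] at h
  exact h

include hV hgV e₂ in
/-- the cocycle identity on sections of the pushforwards. -/
theorem kap_kap_app (t : Γ((pushforward g).obj ((pullback g).obj G), V)) :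
    (kap f' g' p e₄ G).app V ((kap a g g' e₁ G).app V t) = (kap f g p e₃ G).app V t := by
  have h := kapSec_kapSec f' a g g' f p e₁ e₂ e₃ e₄ G hV hgV ((pS g _ V).symm t)
  rw [secMap_symm, secMap_symm, secMap_symm] at h
  exact (pS p _ V).symm.injective h

include e₂ in
/-- **cocycle identity** for `kap` (`g` affine, `G` quasi-coherent). -/
theorem kap_comp [IsAffineHom g] :
    kap a g g' e₁ G ≫ kap f' g' p e₄ G = kap f g p e₃ G := by
  refine Groth.Agent.Helper13ModBasis.hom_ext_basis (fun U : Z.affineOpens => U.1) ?_ _ _ ?_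
  · rw [Subtype.range_coe_subtype]
    exact Z.isBasis_affineOpens
  · intro U
    ext t
    exact (comp_app_apply (kap a g g' e₁ G) (kap f' g' p e₄ G) U.1 t).trans
      (kap_kap_app f' a g g' f p e₁ e₂ e₃ e₄ G U.2 (U.2.preimage g) t)

end cocycle

end Groth.Agent.Lib.Helper26.HomLimB
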