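import Mathlib
import Groth.Agent.Lib.Helper13AffBC

/-!
# Maps of quasi-coherent modules bijective over an affine open (helper13)

* `isIso_of_bijective_top`: on `Spec R`, bijective on global sections ⇒ iso.
* `bijective_app_of_le hV F H φ hφ W hW`: bijective over affine `V` ⇒ bijective over every `W ≤ V`.
-/
set_option linter.style.haveILetI false

set_option autoImplicit false
universe u
open CategoryTheory CategoryTheory.Limits AlgebraicGeometry Opposite TopologicalSpace

namespace Groth.Agent.Helper13QCohIso

open Groth.Agent.Helper13PullbackUnit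

section affine
variable {R : CommRingCat.{u}} (F H : (Spec R).Modules) [F.IsQuasicoherent] [H.IsQuasicoherent]

/-- a map of quasi-coherent modules on `Spec R` that is bijective on global sections is an iso -/
theorem isIso_of_bijective_top (φ : F ⟶ H) (hφ : Function.Bijective (φ.app ⊤)) : IsIso φ := by
  haveI : IsIso (tilde.adjunction.counit.app F) := (inferInstance : IsIso F.fromTildeΓ)
  haveI : IsIso (tilde.adjunction.counit.app H) := (inferInstance : IsIso H.fromTildeΓ)
  have n := tilde.adjunction.counit.naturality φ
  simp only [Functor.comp_obj, Functor.id_obj, Functor.comp_map, Functor.id_map] at n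
  haveI : IsIso (moduleSpecΓFunctor.map φ) := by
    rw [ConcreteCategory.isIso_iff_bijective]
    exact hφ
  have h2 : φ = inv (tilde.adjunction.counit.app F) ≫
      (tilde.functor R).map (moduleSpecΓFunctor.map φ) ≫ tilde.adjunction.counit.app H := by
    rw [n, IsIso.inv_hom_id_assoc]
  rw [h2]
  infer_instance

end affine

section scheme
variable {X : Scheme.{u}} {V : X.Opens} (hV : IsAffineOpen V) (F H : X.Modules)
  [F.IsQuasicoherent] [H.IsQuasicoherent]

include hV in
/-- a map of quasi-coherent modules bijective on sections over an affine open `V` is bijective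
on sections over every open inside `V` -/
theorem bijective_app_of_le (φ : F ⟶ H) (hφ : Function.Bijective (φ.app V)) (W : X.Opens)
    (hW : W ≤ V) : Function.Bijective (φ.app W) := by
  have h1 : ∀ (W₁ : X.Opens) (_ : W₁ = V), Function.Bijective (φ.app W₁) := by
    intro W₁ hW₁
    subst hW₁
    exact hφ
  haveI : IsIso ((Scheme.Modules.restrictFunctor hV.fromSpec).map φ) := by
    apply isIso_of_bijective_top
    exact h1 _ (image_top_eq hV)
  have h2 := (Scheme.Modules.Hom.isIso_iff_isIso_app
    (φ := (Scheme.Modules.restrictFunctor hV.fromSpec).map φ)).1 inferInstance (hV.fromSpec ⁻¹ᵁ W)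
  rw [ConcreteCategory.isIso_iff_bijective] at h2
  have h3 : hV.fromSpec ''ᵁ (hV.fromSpec ⁻¹ᵁ W) = W := by
    rw [Scheme.Hom.image_preimage_eq_opensRange_inf, hV.opensRange_fromSpec]
    exact inf_eq_right.2 hW
  have h4 : ∀ (W₁ : X.Opens) (_ : W₁ = W), Function.Bijective (φ.app W₁) →
      Function.Bijective (φ.app W) := by
    intro W₁ hW₁ hb
    subst hW₁
    exact hb
  exact h4 _ h3 h2

end scheme

end Groth.Agent.Helper13QCohIso
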