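import Groth.Agent.Lib.Helper13PullbackUnit
import Groth.Agent.Lib.Helper13ModBasis
import Groth.Agent.Lib.Helper13QCohIso
import Groth.Agent.Lib.Helper13AffBC
import Groth.Agent.Lib.Helper6QCohQcqs

/-!
# Gluing morphisms of modules from local families on an affine open cover (helper13)

* `LocFam V H F`: a natural, linear family of additive maps `H(W) → F(W)` for the opens `W ≤ V`.
* `exists_locFam`: for `V` affine and `H` quasi-coherent, a `Γ(X, V)`-linear map `H(V) → F(V)` extends to a family.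
* `LocFam.eq_of_le`: uniqueness — two families on `V' ≤ V` (`V` affine, `H` quasi-coherent) agreeing on
  restrictions of sections over `V` are equal.
* `exists_hom_of_locFams`: compatible families on an open cover glue to a morphism `H ⟶ F`.
* `isIso_of_bijective_cover`: a morphism of quasi-coherent modules bijective on an affine open cover is an iso.
-/

set_option autoImplicit false
set_option linter.unusedSectionVars false
set_option linter.style.haveILetI false
universe u

open CategoryTheory CategoryTheory.Limits AlgebraicGeometry TopologicalSpace Opposite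

namespace Groth.Agent.Helper13ModGlue

open Groth.Agent.Lib.Helper6 Groth.Agent.Helper13PullbackUnit

variable {X : Scheme.{u}}

theorem res_self (F : X.Modules) {V : X.Opens} (h : V ≤ V) (x : Γ(F, V)) : res F h x = x := by
  have h0 : (homOfLE h).op = 𝟙 (op V) := rfl
  simp only [res]
  rw [h0, F.presheaf.map_id]
  rfl

theorem resf_self {V : X.Opens} (h : V ≤ V) (x : Γ(X, V)) : resf h x = x := by
  have h0 : (homOfLE h).op = 𝟙 (op V) := rfl
  simp only [resf]
  rw [h0, X.presheaf.map_id]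
  rfl

theorem res_add' (F : X.Modules) {U V : X.Opens} (h : V ≤ U) (s t : Γ(F, U)) :
    res F h (s + t) = res F h s + res F h t := map_add _ _ _

/-- a family of additive maps `H(W) → F(W)` for the opens `W ≤ V`, natural and linear -/
structure LocFam (V : X.Opens) (H F : X.Modules) where
  /-- the maps -/
  d : ∀ (W : X.Opens), W ≤ V → (Γ(H, W) →+ Γ(F, W))
  nat : ∀ (W W' : X.Opens) (hW : W ≤ V) (hW' : W' ≤ W) (τ : Γ(H, W)),
    res F hW' (d W hW τ) = d W' (hW'.trans hW) (res H hW' τ)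
  lin : ∀ (W : X.Opens) (hW : W ≤ V) (a : Γ(X, W)) (τ : Γ(H, W)), d W hW (a • τ) = a • d W hW τ

/-- restriction of a family to a smaller open -/
def LocFam.restrict {V V' : X.Opens} {H F : X.Modules} (D : LocFam V H F) (h : V' ≤ V) :
    LocFam V' H F where
  d W hW := D.d W (hW.trans h)
  nat W W' hW hW' τ := D.nat W W' (hW.trans h) hW' τ
  lin W hW a τ := D.lin W (hW.trans h) a τ

section exist
variable {V : X.Opens} (hV : IsAffineOpen V) (H F : X.Modules)

/-- the module `F` restricted to `V` and pushed forward again -/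
noncomputable abbrev GV : X.Modules :=
  (Scheme.Modules.pushforward hV.fromSpec).obj (F.restrict hV.fromSpec)

theorem GV_smul (W : X.Opens) (a : Γ(X, W)) (y : Γ(GV hV F, W)) :
    (a • y : Γ(GV hV F, W)) =
      ((resf (hV.fromSpec.image_preimage_le W) a) •
        (show Γ(F, hV.fromSpec ''ᵁ (hV.fromSpec ⁻¹ᵁ W)) from y) :
          Γ(F, hV.fromSpec ''ᵁ (hV.fromSpec ⁻¹ᵁ W))) := by
  have h1 : (a • y : Γ(GV hV F, W)) =
      (((hV.fromSpec.appIso (hV.fromSpec ⁻¹ᵁ W)).inv (hV.fromSpec.app W a)) •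
        (show Γ(F, hV.fromSpec ''ᵁ (hV.fromSpec ⁻¹ᵁ W)) from y) :
          Γ(F, hV.fromSpec ''ᵁ (hV.fromSpec ⁻¹ᵁ W))) := rfl
  rw [h1]
  have h2 := hV.fromSpec.app_appIso_inv W
  have h3 := CategoryTheory.congr_fun h2 a
  rw [ConcreteCategory.comp_apply] at h3
  rw [h3]
  rfl

include hV in
theorem le_image_preimage {W : X.Opens} (hW : W ≤ V) :
    W ≤ hV.fromSpec ''ᵁ (hV.fromSpec ⁻¹ᵁ W) := by
  rw [hV.fromSpec.image_preimage_eq_opensRange_inf, hV.opensRange_fromSpec]
  exact le_inf hW le_rfl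

/-- transport `G_V(W) = F(img (pre W)) → F(W)` for `W ≤ V` -/
noncomputable def eW {W : X.Opens} (hW : W ≤ V) (y : Γ(GV hV F, W)) : Γ(F, W) :=
  res F (le_image_preimage hV hW) (show Γ(F, hV.fromSpec ''ᵁ (hV.fromSpec ⁻¹ᵁ W)) from y)

/-- transport `F(W) → G_V(W) = F(img (pre W))` -/
noncomputable def eW' (W : X.Opens) (x : Γ(F, W)) : Γ(GV hV F, W) :=
  (show Γ(F, hV.fromSpec ''ᵁ (hV.fromSpec ⁻¹ᵁ W)) from res F (hV.fromSpec.image_preimage_le W) x)

theorem eW_eW' {W : X.Opens} (hW : W ≤ V) (x : Γ(F, W)) : eW hV F hW (eW' hV F W x) = x := by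
  unfold eW eW'
  change res F _ (res F _ x) = x
  rw [res_res, res_self]

theorem eW_add {W : X.Opens} (hW : W ≤ V) (y y' : Γ(GV hV F, W)) :
    eW hV F hW (y + y') = eW hV F hW y + eW hV F hW y' :=
  res_add' F _ _ _

theorem eW_smul {W : X.Opens} (hW : W ≤ V) (a : Γ(X, W)) (y : Γ(GV hV F, W)) :
    eW hV F hW (a • y) = a • eW hV F hW y := by
  unfold eW
  rw [GV_smul]
  change res F _ (_ • _) = _
  rw [res_smul, resf_resf, resf_self]

theorem eW'_smul (W : X.Opens) (a : Γ(X, W)) (x : Γ(F, W)) :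
    eW' hV F W (a • x) = a • eW' hV F W x := by
  rw [GV_smul]
  unfold eW'
  change res F _ (a • x) = _
  rw [res_smul]

theorem eW_map {W W' : X.Opens} (hW : W ≤ V) (hW' : W' ≤ W) (y : Γ(GV hV F, W)) :
    res F hW' (eW hV F hW y) = eW hV F (hW'.trans hW) (res (GV hV F) hW' y) := by
  unfold eW
  have h1 : (show Γ(F, hV.fromSpec ''ᵁ (hV.fromSpec ⁻¹ᵁ W')) from res (GV hV F) hW' y) =
      res F (hV.fromSpec.image_mono (hV.fromSpec.preimage_mono hW'))
        (show Γ(F, hV.fromSpec ''ᵁ (hV.fromSpec ⁻¹ᵁ W)) from y) := rfl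
  rw [h1, res_res, res_res]

include hV in
theorem exists_locFam [H.IsQuasicoherent] (L : Γ(H, V) →+ Γ(F, V))
    (hL : ∀ (r : Γ(X, V)) (x : Γ(H, V)), L (r • x) = r • L x) :
    ∃ D : LocFam V H F, ∀ x, D.d V le_rfl x = L x := by
  obtain ⟨ψ, hψ⟩ := exists_hom_of_app hV H (GV hV F) (bijective_GY hV (F.restrict hV.fromSpec))
    { toFun := fun x => eW' hV F V (L x)
      map_zero' := by rw [map_zero]; exact res_zero F _
      map_add' := fun x y => by rw [map_add]; exact res_add' F _ _ _ }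
    (fun r x => by
      change eW' hV F V (L (r • x)) = r • eW' hV F V (L x)
      rw [hL, eW'_smul])
  let d : ∀ (W : X.Opens), W ≤ V → (Γ(H, W) →+ Γ(F, W)) := fun W hW =>
    { toFun := fun τ => eW hV F hW (ψ.app W τ)
      map_zero' := by rw [map_zero]; exact res_zero F _
      map_add' := fun x y => by rw [map_add]; exact eW_add hV F hW _ _ }
  refine ⟨⟨d, ?_, ?_⟩, ?_⟩
  · intro W W' hW hW' τ
    change res F hW' (eW hV F hW (ψ.app W τ)) = eW hV F (hW'.trans hW) (ψ.app W' (res H hW' τ))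
    rw [eW_map]
    congr 1
    have n := ψ.mapPresheaf.naturality (homOfLE hW').op
    have e := CategoryTheory.congr_fun n τ
    simp only [Scheme.Modules.mapPresheaf_app, ConcreteCategory.comp_apply] at e
    exact e.symm
  · intro W hW a τ
    change eW hV F hW (ψ.app W (a • τ)) = a • eW hV F hW (ψ.app W τ)
    rw [Scheme.Modules.Hom.app_smul, eW_smul]
  · intro x
    change eW hV F le_rfl (ψ.app V x) = L x
    rw [hψ x]
    exact eW_eW' hV F le_rfl (L x)

end exist

section unique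
variable {V : X.Opens} (hV : IsAffineOpen V) (H F : X.Modules) [H.IsQuasicoherent]

include hV in
/-- two families on an open `V'` of the affine open `V` that agree on restrictions of
sections over `V` agree everywhere (`H` quasi-coherent) -/
theorem LocFam.eq_of_le {V' : X.Opens}
    (hle : V' ≤ V) (D D' : LocFam V' H F)
    (h : ∀ σ : Γ(H, V), D.d V' le_rfl (res H hle σ) = D'.d V' le_rfl (res H hle σ))
    (W : X.Opens) (hW : W ≤ V') (τ : Γ(H, W)) : D.d W hW τ = D'.d W hW τ := by
  refine TopCat.Sheaf.eq_of_locally_eq' ⟨F.presheaf, F.isSheaf⟩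
    (fun s : {s : Γ(X, V) // X.basicOpen s ≤ W} => X.basicOpen s.1) W
    (fun s => homOfLE s.2) ?_ _ _ (fun s => ?_)
  · intro x hx
    obtain ⟨s, hs1, hs2⟩ := hV.exists_basicOpen_le ⟨x, hx⟩ (hle (hW hx))
    exact Opens.mem_iSup.mpr ⟨⟨s, hs1⟩, hs2⟩
  · change res F s.2 (D.d W hW τ) = res F s.2 (D'.d W hW τ)
    rw [D.nat, D'.nat]
    obtain ⟨k, σ, hσ⟩ := Groth.Agent.Lib.Helper2.QCoh.exists_extension hV H s.1 (res H s.2 τ)
    have hu : IsUnit (resf (X.basicOpen_le s.1) s.1) := X.toRingedSpace.isUnit_res_basicOpen s.1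
    have hsV' : X.basicOpen s.1 ≤ V' := s.2.trans hW
    have e1 : res H (X.basicOpen_le s.1) σ = res H hsV' (res H hle σ) := by rw [res_res]
    have hσ' : res H hsV' (res H hle σ) = (resf (X.basicOpen_le s.1) s.1) ^ k • res H s.2 τ :=
      e1.symm.trans hσ
    have k1 : D.d _ hsV' (res H hsV' (res H hle σ)) = D'.d _ hsV' (res H hsV' (res H hle σ)) := by
      have a1 := D.nat V' _ le_rfl hsV' (res H hle σ)
      have a2 := D'.nat V' _ le_rfl hsV' (res H hle σ)
      rw [← a1, ← a2, h σ]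
    rw [hσ', D.lin, D'.lin] at k1
    exact (hu.pow k).smul_left_cancel.mp k1

end unique

section glue
variable {κ : Type u} (V : κ → X.Opens) (hcov : ⨆ i, V i = ⊤) (H F : X.Modules)

include hcov in
theorem isBasis_small : Opens.IsBasis (Set.range fun k : (Σ i, {W : X.Opens // W ≤ V i}) => k.2.1) := by
  rw [Opens.isBasis_iff_nbhd]
  intro U x hx
  have hx' : x ∈ (⨆ i, V i : X.Opens) := by rw [hcov]; trivial
  obtain ⟨i, hi⟩ := Opens.mem_iSup.mp hx'
  exact ⟨U ⊓ V i, ⟨⟨i, ⟨U ⊓ V i, inf_le_right⟩⟩, rfl⟩, ⟨hx, hi⟩, inf_le_left⟩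

include hcov in
/-- compatible local families on an open cover glue to a morphism of modules -/
theorem exists_hom_of_locFams (D : ∀ i, LocFam (V i) H F)
    (compat : ∀ (i j : κ) (W : X.Opens) (hi : W ≤ V i) (hj : W ≤ V j) (τ : Γ(H, W)),
      (D i).d W hi τ = (D j).d W hj τ) :
    ∃ ψ : H ⟶ F, ∀ (i : κ) (W : X.Opens) (hW : W ≤ V i) (τ : Γ(H, W)),
      ψ.app W τ = (D i).d W hW τ := by
  let B : (Σ i, {W : X.Opens // W ≤ V i}) → X.Opens := fun k => k.2.1
  have hB : Opens.IsBasis (Set.range B) := isBasis_small V hcov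
  let d : ∀ k, Γ(H, B k) ⟶ Γ(F, B k) := fun k => AddCommGrpCat.ofHom ((D k.1).d k.2.1 k.2.2)
  have nat : ∀ (k k' : Σ i, {W : X.Opens // W ≤ V i}) (h : B k' ≤ B k),
      H.presheaf.map (homOfLE h).op ≫ d k' = d k ≫ F.presheaf.map (homOfLE h).op := by
    intro k k' h
    ext τ
    change (D k'.1).d k'.2.1 k'.2.2 (res H h τ) = res F h ((D k.1).d k.2.1 k.2.2 τ)
    rw [(D k.1).nat _ _ k.2.2 h τ]
    exact compat _ _ _ _ _ _
  have lin : ∀ (k : Σ i, {W : X.Opens // W ≤ V i}) (a : Γ(X, B k)) (m : Γ(H, B k)),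
      d k (a • m) = a • d k m := fun k a m => (D k.1).lin k.2.1 k.2.2 a m
  refine ⟨Groth.Agent.Helper13ModBasis.homOfBasis B hB d nat lin, fun i W hW τ => ?_⟩
  have := Groth.Agent.Helper13ModBasis.homOfBasis_app B hB d nat lin ⟨i, ⟨W, hW⟩⟩
  exact CategoryTheory.congr_fun this τ

include hcov in
/-- a morphism of quasi-coherent modules that is bijective on the members of an affine open cover
is an isomorphism -/
theorem isIso_of_bijective_cover [H.IsQuasicoherent] [F.IsQuasicoherent] (ψ : H ⟶ F)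
    (hV : ∀ i, IsAffineOpen (V i)) (hb : ∀ i, Function.Bijective (ψ.app (V i))) : IsIso ψ := by
  refine Groth.Agent.Helper13AffBC.isIso_of_bijective_on_basis ψ
    (fun k : (Σ i, {W : X.Opens // W ≤ V i}) => k.2.1) (isBasis_small V hcov) fun k => ?_
  exact Groth.Agent.Helper13QCohIso.bijective_app_of_le (hV k.1) H F ψ (hb k.1) k.2.1 k.2.2

end glue

end Groth.Agent.Helper13ModGlue
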