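import Mathlib
import Groth.Agent.Lib.Helper13ModGlue
import Groth.Agent.Lib.Helper2FPAff

/-!
# Compactness of finitely presented quasi-coherent modules against directed systems (helper26)
-/

set_option autoImplicit false
set_option linter.style.haveILetI false
set_option linter.unusedSectionVars false
universe u
open CategoryTheory AlgebraicGeometry Limits TopologicalSpace

namespace Groth.Agent.Lib.Helper26.HomLimC
open Groth.Agent.Lib.Helper6 Groth.Agent.Helper13ModGlue

section cof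
variable {J : Type u} [SmallCategory J] [IsCofiltered J]

/-- finitely many eventually true, stable predicates on the maps into `j` hold simultaneously. -/
theorem exists_common (j : J) {ι : Type*} [Finite ι] (P : ι → ∀ j' : J, (j' ⟶ j) → Prop)
    (hstab : ∀ (i : ι) (j' : J) (c : j' ⟶ j) (j'' : J) (d : j'' ⟶ j'), P i j' c → P i j'' (d ≫ c))
    (hex : ∀ i, ∃ (j' : J) (c : j' ⟶ j), P i j' c) : ∃ (j' : J) (c : j' ⟶ j), ∀ i, P i j' c := by
  classical
  haveI := Fintype.ofFinite ι
  choose j' c hc using hex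
  obtain ⟨S, hS⟩ := IsCofiltered.inf_objs_exists (Finset.univ.image fun i => Over.mk (c i))
  refine ⟨S.left, S.hom, fun i => ?_⟩
  obtain ⟨d⟩ := hS (Finset.mem_image_of_mem _ (Finset.mem_univ i))
  have h := hstab i (j' i) (c i) S.left d.left (hc i)
  have hw : d.left ≫ c i = S.hom := Over.w d
  rw [hw] at h
  exact h

end cof

section alg
variable {R : Type u} [CommRing R] {J : Type u} [SmallCategory J] [IsCofiltered J]
  {N : J → Type u} [∀ j, AddCommGroup (N j)] [∀ j, Module R (N j)] {Ninf : Type u}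
  [AddCommGroup Ninf] [Module R Ninf]
  (k : ∀ j, N j →ₗ[R] Ninf) (τ : ∀ {j j' : J}, (j' ⟶ j) → (N j →ₗ[R] N j'))
  (hτk : ∀ {j j' : J} (a : j' ⟶ j) (x : N j), k j' (τ a x) = k j x)
  (hττ : ∀ {j j' j'' : J} (a : j' ⟶ j) (b : j'' ⟶ j') (x : N j), τ b (τ a x) = τ (b ≫ a) x)
  (hsurj : ∀ s : Ninf, ∃ (j : J) (x : N j), k j x = s)
  (hinj : ∀ (j : J) (x : N j), k j x = 0 → ∃ (j' : J) (a : j' ⟶ j), τ a x = 0)

include hτk hττ hsurj hinj in
/-- maps from a finitely presented module into a "directed colimit" factor through a stage. -/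
theorem exists_lift_of_fp (M : Type u) [AddCommGroup M] [Module R M]
    [Module.FinitePresentation R M] (α : M →ₗ[R] Ninf) :
    ∃ (j : J) (L : M →ₗ[R] N j), ∀ m, k j (L m) = α m := by
  classical
  obtain ⟨n, m, f, g, hf, hfg⟩ := Module.FinitePresentation.exists_fin' R M
  -- lift the images of the generators
  have h1 : ∀ i : Fin n, ∃ (j : J) (x : N j), k j x = α (f (Pi.single i 1)) := fun i => hsurj _
  choose ji xi hxi using h1
  obtain ⟨S, hS⟩ := IsCofiltered.inf_objs_exists (Finset.univ.image ji)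
  have hb : ∀ i, Nonempty (S ⟶ ji i) := fun i => hS (Finset.mem_image_of_mem _ (Finset.mem_univ i))
  let b : ∀ i, S ⟶ ji i := fun i => (hb i).some
  let x' : Fin n → N S := fun i => τ (b i) (xi i)
  let L₀ : (Fin n → R) →ₗ[R] N S := Fintype.linearCombination R x'
  have hL₀ : (k S).comp L₀ = α.comp f := by
    apply LinearMap.pi_ext'
    intro i
    ext
    simp only [LinearMap.coe_comp, LinearMap.coe_single, Function.comp_apply, L₀,
      Fintype.linearCombination_apply_single, one_smul, x']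
    rw [hτk, hxi]
  -- kill the relations
  have h2 : ∀ r : Fin m, ∃ (j' : J) (c : j' ⟶ S), τ c (L₀ (g (Pi.single r 1))) = 0 := by
    intro r
    apply hinj
    have := LinearMap.congr_fun hL₀ (g (Pi.single r 1))
    simp only [LinearMap.coe_comp, Function.comp_apply] at this
    rw [this, hfg.apply_apply_eq_zero, map_zero]
  obtain ⟨j', c, hc⟩ := exists_common S (fun (r : Fin m) j' c => τ c (L₀ (g (Pi.single r 1))) = 0)
    (fun r j' c j'' d h => by
      show τ (d ≫ c) _ = 0
      rw [← hττ, h, map_zero]) h2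
  let L₁ : (Fin n → R) →ₗ[R] N j' := (τ c).comp L₀
  have hL₁g : L₁.comp g = 0 := by
    apply LinearMap.pi_ext'
    intro r
    ext
    simp only [LinearMap.coe_comp, LinearMap.coe_single, Function.comp_apply, LinearMap.zero_apply, L₁]
    exact hc r
  have hker : LinearMap.ker f ≤ LinearMap.ker L₁ := by
    intro v hv
    obtain ⟨w, rfl⟩ := (hfg v).1 hv
    exact LinearMap.congr_fun hL₁g w
  let L : M →ₗ[R] N j' :=
    ((LinearMap.ker f).liftQ L₁ hker).comp (f.quotKerEquivOfSurjective hf).symm.toLinearMap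
  have hLf : ∀ v, L (f v) = L₁ v := by
    intro v
    have : (f.quotKerEquivOfSurjective hf).symm (f v) = Submodule.Quotient.mk v := by
      rw [LinearEquiv.symm_apply_eq]
      rfl
    show ((LinearMap.ker f).liftQ L₁ hker) ((f.quotKerEquivOfSurjective hf).symm (f v)) = _
    rw [this, Submodule.liftQ_apply]
  refine ⟨j', L, fun m' => ?_⟩
  obtain ⟨v, rfl⟩ := hf m'
  rw [hLf]
  show k j' (τ c (L₀ v)) = _
  rw [hτk]
  exact LinearMap.congr_fun hL₀ v

end alg

section sheaf
variable {X : Scheme.{u}}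

theorem app_res {M N : X.Modules} (θ : M ⟶ N) {W W' : X.Opens} (h : W' ≤ W) (y : Γ(M, W)) :
    res N h (θ.app W y) = θ.app W' (res M h y) := by
  have n := θ.mapPresheaf.naturality (homOfLE h).op
  have e := CategoryTheory.congr_fun n y
  simp only [Scheme.Modules.mapPresheaf_app, ConcreteCategory.comp_apply] at e
  exact e.symm

/-- sections of a morphism of modules, as a linear map. -/
noncomputable def appLin {M N : X.Modules} (θ : M ⟶ N) (V : X.Opens) :
    Γ(M, V) →ₗ[Γ(X, V)] Γ(N, V) where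
  toFun := θ.app V
  map_add' := map_add _
  map_smul' := fun r x => Scheme.Modules.Hom.app_smul θ r x

theorem appLin_apply {M N : X.Modules} (θ : M ⟶ N) (V : X.Opens) (x : Γ(M, V)) :
    appLin θ V x = θ.app V x := rfl

/-- postcomposition of a local family with a morphism of modules. -/
noncomputable def postcompFam {V : X.Opens} {H F F' : X.Modules} (D : LocFam V H F)
    (θ : F ⟶ F') : LocFam V H F' where
  d W hW := (θ.app W).hom.comp (D.d W hW)
  nat W W' hW hW' t := by
    show res F' hW' (θ.app W (D.d W hW t)) = θ.app W' (D.d W' (hW'.trans hW) (res H hW' t))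
    rw [app_res, D.nat]
  lin W hW a t := by
    show θ.app W (D.d W hW (a • t)) = a • θ.app W (D.d W hW t)
    rw [D.lin, Scheme.Modules.Hom.app_smul]

theorem postcompFam_d {V : X.Opens} {H F F' : X.Modules} (D : LocFam V H F)
    (θ : F ⟶ F') (W : X.Opens) (hW : W ≤ V) (t : Γ(H, W)) :
    (postcompFam D θ).d W hW t = θ.app W (D.d W hW t) := rfl

/-- the local family of a morphism of modules. -/
noncomputable def famOfHom {H F : X.Modules} (α : H ⟶ F) (V : X.Opens) : LocFam V H F where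
  d W _ := (α.app W).hom
  nat _ _ _ hW' t := app_res α hW' t
  lin _ _ a t := Scheme.Modules.Hom.app_smul α a t

theorem famOfHom_d {H F : X.Modules} (α : H ⟶ F) (V : X.Opens) (W : X.Opens) (hW : W ≤ V)
    (t : Γ(H, W)) : (famOfHom α V).d W hW t = α.app W t := rfl

/-- a section on a quasi-compact open vanishing on an affine cover is zero -/
theorem eq_zero_of_res_affine (M : X.Modules) {U : X.Opens} (t : Γ(M, U))
    (h : ∀ (W : X.affineOpens) (hW : W.1 ≤ U), res M hW t = 0) : t = 0 := by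
  refine Groth.Agent.Helper13ModBasis.section_ext_basis (fun W : X.affineOpens => W.1) ?_ M t 0
    (fun W hW => ?_)
  · rw [Subtype.range_coe_subtype]
    exact X.isBasis_affineOpens
  · rw [map_zero]
    exact h W hW

end sheaf

section main
variable {X : Scheme.{u}} {J : Type u} [SmallCategory J] [IsCofiltered J]
  (H : J → X.Modules) (Hinf : X.Modules) (κ : ∀ j, H j ⟶ Hinf)
  (τ : ∀ {j j' : J}, (j' ⟶ j) → (H j ⟶ H j'))
  (hτκ : ∀ {j j' : J} (a : j' ⟶ j), τ a ≫ κ j' = κ j)
  (hττ : ∀ {j j' j'' : J} (a : j' ⟶ j) (b : j'' ⟶ j'), τ a ≫ τ b = τ (b ≫ a))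
  (hsurj : ∀ (V : X.Opens), IsAffineOpen V → ∀ s : Γ(Hinf, V),
    ∃ (j : J) (t : Γ(H j, V)), (κ j).app V t = s)
  (hinj : ∀ (V : X.Opens), IsAffineOpen V → ∀ (j : J) (t : Γ(H j, V)), (κ j).app V t = 0 →
    ∃ (j' : J) (a : j' ⟶ j), (τ a).app V t = 0)

theorem comp_app' {A B C : X.Modules} (φ : A ⟶ B) (ψ : B ⟶ C) (V : X.Opens)
    (x : Γ(A, V)) : (φ ≫ ψ).app V x = ψ.app V (φ.app V x) := rfl

include hτκ in
theorem hτκ_app {j j' : J} (a : j' ⟶ j) (V : X.Opens) (t : Γ(H j, V)) :
    (κ j').app V ((τ a).app V t) = (κ j).app V t := by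
  rw [← comp_app', hτκ]

include hττ in
theorem hττ_app {j j' j'' : J} (a : j' ⟶ j) (b : j'' ⟶ j') (V : X.Opens) (t : Γ(H j, V)) :
    (τ b).app V ((τ a).app V t) = (τ (b ≫ a)).app V t := by
  rw [← comp_app', hττ]

include hττ hinj in
/-- a section over a quasi-compact open killed in the colimit is killed at a stage. -/
theorem exists_kill (U : X.Opens) (hU : IsCompact (U : Set X)) (j : J) (t : Γ(H j, U))
    (ht : (κ j).app U t = 0) : ∃ (j' : J) (c : j' ⟶ j), (τ c).app U t = 0 := by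
  obtain ⟨S, hSfin, hSU⟩ := isCompact_iff_finite_and_eq_biUnion_affineOpens.mp hU
  haveI : Finite S := hSfin.to_subtype
  have hle : ∀ W : S, W.1.1 ≤ U := fun W => by
    rw [hSU]
    exact le_iSup₂ (f := fun (i : X.affineOpens) (_ : i ∈ S) => (i : X.Opens)) W.1 W.2
  obtain ⟨j', c, hc⟩ := exists_common j
    (fun (W : S) j' c => (τ c).app W.1.1 (res (H j) (hle W) t) = 0)
    (fun W j' c j'' d h => by
      show (τ (d ≫ c)).app W.1.1 _ = 0
      rw [← hττ_app H τ hττ, h, map_zero])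
    (fun W => hinj W.1.1 W.1.2 j _ (by rw [← app_res, ht, res_zero]))
  refine ⟨j', c, ?_⟩
  refine TopCat.Sheaf.eq_of_locally_eq' ⟨(H j').presheaf, (H j').isSheaf⟩
    (fun W : S => W.1.1) U (fun W => homOfLE (hle W)) ?_ _ _ (fun W => ?_)
  · intro x hx
    rw [hSU] at hx
    simp only [Opens.mem_iSup] at hx ⊢
    obtain ⟨W, hW, hxW⟩ := hx
    exact ⟨⟨W, hW⟩, hxW⟩
  · show res (H j') (hle W) ((τ c).app U t) = res (H j') (hle W) 0
    rw [app_res, hc W, res_zero]

variable [CompactSpace X] [QuasiSeparatedSpace X] (F : X.Modules) [F.IsQuasicoherent]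
  (hF : SheafOfModules.IsFinitePresentation (R := X.ringCatSheaf) F)

include hτκ hττ hsurj hinj hF in
/-- **Compactness**: a morphism from a finitely presented quasi-coherent module on a qcqs scheme into
the "colimit" of a directed system of modules factors through a stage. -/
theorem exists_factor (α : F ⟶ Hinf) : ∃ (j : J) (ψ : F ⟶ H j), ψ ≫ κ j = α := by
  classical
  haveI := hF
  obtain ⟨s, hs⟩ := IsOpenCover.exists_finite_of_compactSpace
    (u := fun U : X.affineOpens => (U : X.Opens)) (iSup_affineOpens_eq_top X)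
  have hcov : ⨆ a : s, (a.1.1 : X.Opens) = ⊤ := hs.iSup_eq_top
  -- Step 1: local lifts
  have h1 : ∀ a : s, ∃ (j : J) (L : Γ(F, a.1.1) →ₗ[Γ(X, a.1.1)] Γ(H j, a.1.1)),
      ∀ m, (κ j).app a.1.1 (L m) = α.app a.1.1 m := by
    intro a
    haveI : Module.FinitePresentation Γ(X, a.1.1) Γ(F, a.1.1) :=
      Groth.Agent.Lib.Helper2.FPAff.finitePresentation_sections F a.1.2
    exact exists_lift_of_fp (fun j => appLin (κ j) a.1.1) (fun c => appLin (τ c) a.1.1)
      (fun c x => hτκ_app H Hinf κ τ hτκ c a.1.1 x) (fun c d x => hττ_app H τ hττ c d a.1.1 x)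
      (fun t => hsurj a.1.1 a.1.2 t) (fun j t ht => hinj a.1.1 a.1.2 j t ht) Γ(F, a.1.1)
      (appLin α a.1.1)
  choose ja La hLa using h1
  -- Step 2: common stage
  obtain ⟨j₁, hj₁⟩ := IsCofiltered.inf_objs_exists (Finset.univ.image ja)
  have hb : ∀ a, Nonempty (j₁ ⟶ ja a) := fun a => hj₁ (Finset.mem_image_of_mem _ (Finset.mem_univ a))
  let b : ∀ a, j₁ ⟶ ja a := fun a => (hb a).some
  let L' : ∀ a : s, Γ(F, a.1.1) →ₗ[Γ(X, a.1.1)] Γ(H j₁, a.1.1) := fun a =>
    (appLin (τ (b a)) a.1.1).comp (La a)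
  -- Step 3: local families
  have h3 : ∀ a : s, ∃ D : LocFam a.1.1 F (H j₁), ∀ x, D.d a.1.1 le_rfl x = L' a x := fun a =>
    exists_locFam a.1.2 F (H j₁) (L' a).toAddMonoidHom (fun r x => (L' a).map_smul r x)
  choose D hD using h3
  -- Step 5: the families lift `α`
  have star : ∀ (a : s) (W : X.Opens) (hW : W ≤ a.1.1) (t : Γ(F, W)),
      (κ j₁).app W ((D a).d W hW t) = α.app W t := by
    intro a W hW t
    refine LocFam.eq_of_le a.1.2 F Hinf le_rfl (postcompFam (D a) (κ j₁)) (famOfHom α a.1.1)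
      (fun σ => ?_) W hW t
    rw [res_self, postcompFam_d, famOfHom_d, hD]
    show (κ j₁).app a.1.1 ((τ (b a)).app a.1.1 (La a σ)) = _
    rw [hτκ_app H Hinf κ τ hτκ, hLa]
  -- Step 6: compatibility on overlaps at a later stage
  have h6 : ∀ ab : s × s, ∃ (j' : J) (c : j' ⟶ j₁), ∀ (W : X.Opens) (hWa : W ≤ ab.1.1.1)
      (hWb : W ≤ ab.2.1.1) (t : Γ(F, W)),
      (τ c).app W ((D ab.1).d W hWa t) = (τ c).app W ((D ab.2).d W hWb t) := by
    rintro ⟨a, b'⟩
    have hcomp : IsCompact ((a.1.1 ⊓ b'.1.1 : X.Opens) : Set X) :=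
      QuasiSeparatedSpace.inter_isCompact _ _ a.1.1.isOpen a.1.2.isCompact b'.1.1.isOpen
        b'.1.2.isCompact
    haveI : Module.FinitePresentation Γ(X, a.1.1) Γ(F, a.1.1) :=
      Groth.Agent.Lib.Helper2.FPAff.finitePresentation_sections F a.1.2
    obtain ⟨Sgen, hSgen⟩ := (Module.finite_def (R := Γ(X, a.1.1)) (M := Γ(F, a.1.1))).1 inferInstance
    let δ : Γ(F, a.1.1) → Γ(H j₁, a.1.1 ⊓ b'.1.1) := fun σ =>
      (D a).d (a.1.1 ⊓ b'.1.1) inf_le_left (res F inf_le_left σ) -
        (D b').d (a.1.1 ⊓ b'.1.1) inf_le_right (res F inf_le_left σ)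
    have hδ : ∀ σ, (κ j₁).app (a.1.1 ⊓ b'.1.1) (δ σ) = 0 := by
      intro σ
      show (κ j₁).app _ (_ - _) = 0
      rw [map_sub, star, star, sub_self]
    obtain ⟨j', c, hc⟩ := exists_common j₁
      (fun (σ : Sgen) j' c => (τ c).app (a.1.1 ⊓ b'.1.1) (δ σ.1) = 0)
      (fun σ j' c j'' d h => by
        show (τ (d ≫ c)).app _ _ = 0
        rw [← hττ_app H τ hττ, h, map_zero])
      (fun σ => exists_kill H Hinf κ τ hττ hinj _ hcomp j₁ (δ σ.1) (hδ σ.1))
    refine ⟨j', c, ?_⟩
    have hall : ∀ σ : Γ(F, a.1.1),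
        (τ c).app (a.1.1 ⊓ b'.1.1) ((D a).d (a.1.1 ⊓ b'.1.1) inf_le_left (res F inf_le_left σ)) =
        (τ c).app (a.1.1 ⊓ b'.1.1) ((D b').d (a.1.1 ⊓ b'.1.1) inf_le_right (res F inf_le_left σ)) := by
      intro σ
      have hσ : σ ∈ Submodule.span Γ(X, a.1.1) (Sgen : Set Γ(F, a.1.1)) := by
        rw [hSgen]
        trivial
      induction hσ using Submodule.span_induction with
      | mem x hx =>
        have := hc ⟨x, hx⟩
        show (τ c).app _ _ = (τ c).app _ _
        rw [← sub_eq_zero, ← map_sub]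
        exact this
      | zero => rw [res_zero, map_zero, map_zero, map_zero, map_zero]
      | add x y _ _ hx hy => rw [res_add', map_add, map_add, map_add, map_add, hx, hy]
      | smul r x _ hx =>
        rw [res_smul, (D a).lin, (D b').lin, Scheme.Modules.Hom.app_smul,
          Scheme.Modules.Hom.app_smul, hx]
    intro W hWa hWb t
    have hWab : W ≤ a.1.1 ⊓ b'.1.1 := le_inf hWa hWb
    exact LocFam.eq_of_le a.1.2 F (H j') (inf_le_left : a.1.1 ⊓ b'.1.1 ≤ a.1.1)
      ((postcompFam (D a) (τ c)).restrict inf_le_left)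
      ((postcompFam (D b') (τ c)).restrict inf_le_right) (fun σ => hall σ) W hWab t
  -- Step 7: common stage for all pairs
  obtain ⟨j₂, c₂, hc₂⟩ := exists_common j₁
    (fun (ab : s × s) j' c => ∀ (W : X.Opens) (hWa : W ≤ ab.1.1.1) (hWb : W ≤ ab.2.1.1)
      (t : Γ(F, W)), (τ c).app W ((D ab.1).d W hWa t) = (τ c).app W ((D ab.2).d W hWb t))
    (fun ab j' c j'' d h W hWa hWb t => by
      show (τ (d ≫ c)).app W _ = (τ (d ≫ c)).app W _
      rw [← hττ_app H τ hττ, ← hττ_app H τ hττ, h W hWa hWb t]) h6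
  -- Step 8: glue
  obtain ⟨ψ, hψ⟩ := exists_hom_of_locFams (fun a : s => (a.1.1 : X.Opens)) hcov F (H j₂)
    (fun a => postcompFam (D a) (τ c₂))
    (fun a b' W hWa hWb t => hc₂ (a, b') W hWa hWb t)
  refine ⟨j₂, ψ, ?_⟩
  -- Step 9: check on a basis
  refine Groth.Agent.Helper13ModBasis.hom_ext_basis
    (fun k : (Σ a : s, {W : X.Opens // W ≤ a.1.1}) => k.2.1)
    (isBasis_small (fun a : s => (a.1.1 : X.Opens)) hcov) _ _ (fun k => ?_)
  ext t
  show (ψ ≫ κ j₂).app k.2.1 t = α.app k.2.1 t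
  rw [comp_app', hψ k.1 k.2.1 k.2.2 t, postcompFam_d, hτκ_app H Hinf κ τ hτκ, star]

end main

end Groth.Agent.Lib.Helper26.HomLimC
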