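import Mathlib

/-!
# Base change of the kernel of a linear map with flat cokernel (helper26)

Namespace `Groth.Agent.Lib.Helper26.KerBC`.

* `ker_le_span_of_flat`: let `M →u N →π P → 0` be an exact sequence of `B`-modules with `P` flat over `B`, and
  `u' : M' → N'` the base change of `u` to a `B`-algebra `B'` (in `IsBaseChange` form). Then the kernel of `u'` is
  generated over `B'` by the image of the kernel of `u`.
* `injective_of_flat`: in particular `u'` is injective when `u` is.
-/

set_option autoImplicit false
universe u
open TensorProduct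

namespace Groth.Agent.Lib.Helper26.KerBC

variable {B B' : Type u} [CommRing B] [CommRing B'] [Algebra B B']
  {M N P : Type u} [AddCommGroup M] [Module B M] [AddCommGroup N] [Module B N]
  [AddCommGroup P] [Module B P]
  {M' N' : Type u} [AddCommGroup M'] [Module B M'] [Module B' M'] [IsScalarTower B B' M']
  [AddCommGroup N'] [Module B N'] [Module B' N'] [IsScalarTower B B' N']

/-- the kernel of the base change of a map with flat cokernel is generated by the kernel. -/
theorem ker_le_span_of_flat (ηM : M →ₗ[B] M') (hM : IsBaseChange B' ηM) (ηN : N →ₗ[B] N')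
    (hN : IsBaseChange B' ηN) (u : M →ₗ[B] N) (π : N →ₗ[B] P) (hπ : Function.Surjective π)
    (hex : Function.Exact u π) [Module.Flat B P] (u' : M' →ₗ[B'] N')
    (hu' : ∀ m, u' (ηM m) = ηN (u m)) :
    LinearMap.ker u' ≤ Submodule.span B' (ηM '' (LinearMap.ker u : Set M)) := by
  intro x' hx'
  -- factor `u` through its range
  let I : Submodule B N := LinearMap.range u
  let j : I →ₗ[B] N := I.subtype
  let ub : M →ₗ[B] I := u.rangeRestrict
  have hj : Function.Injective j := Submodule.subtype_injective I
  have hexj : Function.Exact j π := by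
    intro y
    rw [hex y]
    constructor
    · rintro ⟨m, rfl⟩
      exact ⟨⟨u m, m, rfl⟩, rfl⟩
    · rintro ⟨⟨y', m, rfl⟩, rfl⟩
      exact ⟨m, rfl⟩
  have hinj : Function.Injective (j.lTensor B') :=
    LinearMap.lTensor_injective_of_exact_of_flat π hπ j hj hexj B'
  let K : Submodule B M := LinearMap.ker u
  have hexK : Function.Exact K.subtype ub := by
    intro m
    constructor
    · intro hm
      refine ⟨⟨m, ?_⟩, rfl⟩
      have : (ub m : N) = 0 := by rw [hm]; rfl
      exact this
    · rintro ⟨⟨k, hk⟩, rfl⟩
      apply Subtype.ext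
      exact hk
  have hub : Function.Surjective ub := u.surjective_rangeRestrict
  have hexT : Function.Exact (K.subtype.lTensor B') (ub.lTensor B') := lTensor_exact B' hexK hub
  -- transport `x'` to the tensor product
  obtain ⟨t, rfl⟩ := hM.equiv.surjective x'
  have hcomp : ∀ t : B' ⊗[B] M, u' (hM.equiv t) = hN.equiv (u.lTensor B' t) := by
    intro t
    induction t using TensorProduct.induction_on with
    | zero => simp
    | tmul b m =>
      rw [hM.equiv_tmul, LinearMap.lTensor_tmul, hN.equiv_tmul, map_smul, hu']
    | add a b ha hb => simp only [map_add, ha, hb]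
  have h1 : u.lTensor B' t = 0 := by
    apply hN.equiv.injective
    rw [← hcomp, map_zero]
    exact hx'
  have h2 : u.lTensor B' t = j.lTensor B' (ub.lTensor B' t) := by
    rw [← LinearMap.comp_apply, ← LinearMap.lTensor_comp]
    rfl
  have h3 : ub.lTensor B' t = 0 := by
    apply hinj
    rw [← h2, h1, map_zero]
  obtain ⟨z, rfl⟩ := (hexT t).1 h3
  -- now `z ∈ B' ⊗ K`
  have claim : ∀ z : B' ⊗[B] K, hM.equiv (K.subtype.lTensor B' z) ∈
      Submodule.span B' (ηM '' (LinearMap.ker u : Set M)) := by
    intro z
    induction z using TensorProduct.induction_on with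
    | zero => simp
    | tmul b k =>
      rw [LinearMap.lTensor_tmul, hM.equiv_tmul]
      exact Submodule.smul_mem _ _ (Submodule.subset_span ⟨k.1, k.2, rfl⟩)
    | add a b ha hb =>
      rw [map_add, map_add]
      exact Submodule.add_mem _ ha hb
  exact claim z

/-- the base change of an injective map with flat cokernel is injective. -/
theorem injective_of_flat (ηM : M →ₗ[B] M') (hM : IsBaseChange B' ηM) (ηN : N →ₗ[B] N')
    (hN : IsBaseChange B' ηN) (u : M →ₗ[B] N) (π : N →ₗ[B] P) (hπ : Function.Surjective π)
    (hex : Function.Exact u π) [Module.Flat B P] (u' : M' →ₗ[B'] N')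
    (hu' : ∀ m, u' (ηM m) = ηN (u m)) (hinj : Function.Injective u) : Function.Injective u' := by
  rw [← LinearMap.ker_eq_bot, eq_bot_iff]
  refine (ker_le_span_of_flat ηM hM ηN hN u π hπ hex u' hu').trans ?_
  rw [Submodule.span_le]
  rintro _ ⟨k, hk, rfl⟩
  have : k = 0 := hinj (by rw [map_zero]; exact hk)
  rw [this, map_zero]
  exact Submodule.zero_mem _

end Groth.Agent.Lib.Helper26.KerBC
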