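import Mathlib
import Groth.Agent.Lib.Helper2PullbackSec2
/-!
# Flatness over a base and cartesian squares (helper2)

* `isAffineOpen_inf_preimage`: in a cartesian square, `g'⁻¹U ⊓ f'⁻¹V'` is affine for affine `U, V', V`.
* `algebra_isPushout`: `Algebra.IsPushout Γ(S,V) Γ(S',V') Γ(X,U) Γ(X', g'⁻¹U ⊓ f'⁻¹V')`.
* `isFlatOverAt_pullback_of_isPullback`: base change of flatness of a quasi-coherent module.
-/
set_option autoImplicit false
universe u
open CategoryTheory Limits AlgebraicGeometry TopologicalSpace Opposite TensorProduct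

namespace Groth.Agent.Lib.Helper2.PullbackSec

open Groth.Agent.Lib.Helper2.FlatOver Groth.Agent.Lib.Helper2.PullbackFlat

section cartesian
variable {X S X' S' : Scheme.{u}} {f : X ⟶ S} {f' : X' ⟶ S'} {g' : X' ⟶ X} {g : S' ⟶ S}

theorem isAffineOpen_inf_preimage (hc : IsPullback g' f' f g) {V : S.Opens} {V' : S'.Opens}
    {U : X.Opens} (eV' : V' ≤ g ⁻¹ᵁ V) (eU : U ≤ f ⁻¹ᵁ V) (hV : IsAffineOpen V)
    (hV' : IsAffineOpen V') (hU : IsAffineOpen U) :
    IsAffineOpen (g' ⁻¹ᵁ U ⊓ f' ⁻¹ᵁ V') := by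
  have : IsAffine _ := hV
  have : IsAffine _ := hV'
  have : IsAffine _ := hU
  exact .of_isIso (Scheme.Hom.isPullback_resLE hc eV' eU rfl).isoPullback.hom

/-- The sections over the fibre product of affine opens form a pushout of rings
(`Algebra.IsPushout` form). -/
theorem algebra_isPushout (hc : IsPullback g' f' f g) {V : S.Opens} {V' : S'.Opens}
    {U : X.Opens} (eV' : V' ≤ g ⁻¹ᵁ V) (eU : U ≤ f ⁻¹ᵁ V) (hV : IsAffineOpen V)
    (hV' : IsAffineOpen V') (hU : IsAffineOpen U)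
    (e1 : g' ⁻¹ᵁ U ⊓ f' ⁻¹ᵁ V' ≤ g' ⁻¹ᵁ U) (e2 : g' ⁻¹ᵁ U ⊓ f' ⁻¹ᵁ V' ≤ f' ⁻¹ᵁ V') :
    letI : Algebra Γ(S, V) Γ(X, U) := (f.appLE V U eU).hom.toAlgebra
    letI : Algebra Γ(S, V) Γ(S', V') := (g.appLE V V' eV').hom.toAlgebra
    letI : Algebra Γ(X, U) Γ(X', g' ⁻¹ᵁ U ⊓ f' ⁻¹ᵁ V') := (g'.appLE U _ e1).hom.toAlgebra
    letI : Algebra Γ(S', V') Γ(X', g' ⁻¹ᵁ U ⊓ f' ⁻¹ᵁ V') := (f'.appLE V' _ e2).hom.toAlgebra
    letI : Algebra Γ(S, V) Γ(X', g' ⁻¹ᵁ U ⊓ f' ⁻¹ᵁ V') :=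
      ((g'.appLE U _ e1).hom.comp (f.appLE V U eU).hom).toAlgebra
    ∀ [IsScalarTower Γ(S, V) Γ(X, U) Γ(X', g' ⁻¹ᵁ U ⊓ f' ⁻¹ᵁ V')]
      [IsScalarTower Γ(S, V) Γ(S', V') Γ(X', g' ⁻¹ᵁ U ⊓ f' ⁻¹ᵁ V')],
      Algebra.IsPushout Γ(S, V) Γ(S', V') Γ(X, U) Γ(X', g' ⁻¹ᵁ U ⊓ f' ⁻¹ᵁ V') := by
  letI : Algebra Γ(S, V) Γ(X, U) := (f.appLE V U eU).hom.toAlgebra
  letI : Algebra Γ(S, V) Γ(S', V') := (g.appLE V V' eV').hom.toAlgebra
  letI : Algebra Γ(X, U) Γ(X', g' ⁻¹ᵁ U ⊓ f' ⁻¹ᵁ V') := (g'.appLE U _ e1).hom.toAlgebra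
  letI : Algebra Γ(S', V') Γ(X', g' ⁻¹ᵁ U ⊓ f' ⁻¹ᵁ V') := (f'.appLE V' _ e2).hom.toAlgebra
  letI : Algebra Γ(S, V) Γ(X', g' ⁻¹ᵁ U ⊓ f' ⁻¹ᵁ V') :=
    ((g'.appLE U _ e1).hom.comp (f.appLE V U eU).hom).toAlgebra
  intro t1 t2
  have h1 : IsIso (pushoutSection hc eV' eU (rfl : g' ⁻¹ᵁ U ⊓ f' ⁻¹ᵁ V' = _)) :=
    isIso_pushoutSection_of_isAffineOpen hc eV' eU rfl hV hV' hU
  have h2 := (isIso_pushoutSection_iff hc eV' eU rfl).1 h1
  have h3 : Algebra.IsPushout Γ(S, V) Γ(X, U) Γ(S', V') Γ(X', g' ⁻¹ᵁ U ⊓ f' ⁻¹ᵁ V') :=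
    CommRingCat.isPushout_iff_isPushout.1 h2
  exact h3.symm


/-- **Base change of flatness**: in a cartesian square, if `F` is flat over `S` at `g' x'` then
`g'^* F` is flat over `S'` at `x'`. -/
theorem isFlatOverAt_pullback_of_isPullback (hc : IsPullback g' f' f g) (F : X.Modules)
    [F.IsQuasicoherent] (x' : X') (h : FlatMod.IsFlatOverAt f F (g'.base x')) :
    FlatMod.IsFlatOverAt f' ((Scheme.Modules.pullback g').obj F) x' := by
  set H := (Scheme.Modules.pullback g').obj F with hH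
  haveI : H.IsQuasicoherent := isQuasicoherent_pullback g' F
  -- affine opens
  have hw : g.base (f'.base x') = f.base (g'.base x') := by
    have := congrArg (fun φ => φ.base x') hc.w
    simpa using this.symm
  obtain ⟨U, V, hU, hV, hxU, eU⟩ := exists_affine_nhds f (g'.base x')
  obtain ⟨V', hV', hsV', eV'⟩ : ∃ V' : S'.Opens, IsAffineOpen V' ∧ f'.base x' ∈ V' ∧
      V' ≤ g ⁻¹ᵁ V := by
    have hmem : f'.base x' ∈ g ⁻¹ᵁ V := by
      change g.base (f'.base x') ∈ V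
      rw [hw]; exact eU hxU
    obtain ⟨W, hW⟩ := (S'.isBasis_affineOpens).exists_subset_of_mem_open hmem (g ⁻¹ᵁ V).isOpen
    obtain ⟨⟨V', hV', rfl⟩, hxV', hle⟩ := hW
    exact ⟨V', hV', hxV', hle⟩
  set U' : X'.Opens := g' ⁻¹ᵁ U ⊓ f' ⁻¹ᵁ V' with hU'def
  have hU' : IsAffineOpen U' := isAffineOpen_inf_preimage hc eV' eU hV hV' hU
  have e1 : U' ≤ g' ⁻¹ᵁ U := inf_le_left
  have e2 : U' ≤ f' ⁻¹ᵁ V' := inf_le_right
  have hx' : x' ∈ U' := ⟨hxU, hsV'⟩
  -- flatness of the stalk of F over A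
  have hP := (isFlatOverAt_iff_flat_base f F hV (g'.base x') (eU hxU)).1 h
  rw [isFlatOverAt_iff_flat_base f' H hV' x' (e2 hx')]
  -- ring structures
  letI aAB : Algebra Γ(S, V) Γ(X, U) := (f.appLE V U eU).hom.toAlgebra
  letI aAA' : Algebra Γ(S, V) Γ(S', V') := (g.appLE V V' eV').hom.toAlgebra
  letI aBB' : Algebra Γ(X, U) Γ(X', U') := (g'.appLE U U' e1).hom.toAlgebra
  letI aA'B' : Algebra Γ(S', V') Γ(X', U') := (f'.appLE V' U' e2).hom.toAlgebra
  letI aAB' : Algebra Γ(S, V) Γ(X', U') :=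
    ((g'.appLE U U' e1).hom.comp (f.appLE V U eU).hom).toAlgebra
  haveI tABB' : IsScalarTower Γ(S, V) Γ(X, U) Γ(X', U') :=
    IsScalarTower.of_algebraMap_eq (fun a => rfl)
  haveI tAA'B' : IsScalarTower Γ(S, V) Γ(S', V') Γ(X', U') := by
    refine IsScalarTower.of_algebraMap_eq (fun a => ?_)
    change (g'.appLE U U' e1).hom ((f.appLE V U eU).hom a) =
      (f'.appLE V' U' e2).hom ((g.appLE V V' eV').hom a)
    have h1 := Scheme.Hom.appLE_comp_appLE g' f V U U' eU e1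
    have h2 := Scheme.Hom.appLE_comp_appLE f' g V V' U' eV' e2
    have h3 : (f.appLE V U eU ≫ g'.appLE U U' e1) = (g.appLE V V' eV' ≫ f'.appLE V' U' e2) := by
      rw [h1, h2]
      congr 1
      exact hc.w
    exact congrArg (fun φ => φ.hom a) h3
  haveI hPO : Algebra.IsPushout Γ(S, V) Γ(S', V') Γ(X, U) Γ(X', U') :=
    algebra_isPushout hc eV' eU hV hV' hU e1 e2
  -- stalk rings
  letI aBR : Algebra Γ(X, U) (X.presheaf.stalk (g'.base x')) :=
    X.presheaf.algebra_section_stalk ⟨g'.base x', hxU⟩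
  letI aB'R' : Algebra Γ(X', U') (X'.presheaf.stalk x') :=
    X'.presheaf.algebra_section_stalk ⟨x', hx'⟩
  letI aRR' : Algebra (X.presheaf.stalk (g'.base x')) (X'.presheaf.stalk x') :=
    (g'.stalkMap x').hom.toAlgebra
  letI aBR' : Algebra Γ(X, U) (X'.presheaf.stalk x') :=
    ((X'.presheaf.germ U' x' hx').hom.comp (g'.appLE U U' e1).hom).toAlgebra
  letI aA'R' : Algebra Γ(S', V') (X'.presheaf.stalk x') :=
    ((X'.presheaf.germ U' x' hx').hom.comp (f'.appLE V' U' e2).hom).toAlgebra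
  haveI tBB'R' : IsScalarTower Γ(X, U) Γ(X', U') (X'.presheaf.stalk x') :=
    IsScalarTower.of_algebraMap_eq (fun a => rfl)
  haveI tA'B'R' : IsScalarTower Γ(S', V') Γ(X', U') (X'.presheaf.stalk x') :=
    IsScalarTower.of_algebraMap_eq (fun a => rfl)
  haveI tBRR' : IsScalarTower Γ(X, U) (X.presheaf.stalk (g'.base x')) (X'.presheaf.stalk x') :=
    IsScalarTower.of_algebraMap_eq (fun b => (stalkMap_germ_eq g' e1 x' hx' b).symm)
  haveI lR := hU.isLocalization_stalk ⟨g'.base x', hxU⟩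
  haveI lR' := hU'.isLocalization_stalk ⟨x', hx'⟩
  haveI flR' : Module.Flat Γ(X', U') (X'.presheaf.stalk x') :=
    IsLocalization.flat _ (hU'.primeIdealOf ⟨x', hx'⟩).asIdeal.primeCompl
  -- the module P = F_x
  letI mBP : Module Γ(X, U) (F.presheaf.stalk (g'.base x')) :=
    moduleStalkSections F U (g'.base x') hxU
  haveI tBRP : IsScalarTower Γ(X, U) (X.presheaf.stalk (g'.base x')) (F.presheaf.stalk (g'.base x')) :=
    IsScalarTower.of_algebraMap_smul (fun b n => rfl)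
  letI mAP : Module Γ(S, V) (F.presheaf.stalk (g'.base x')) :=
    moduleStalkBase f F V (g'.base x') (eU hxU)
  haveI tABP : IsScalarTower Γ(S, V) Γ(X, U) (F.presheaf.stalk (g'.base x')) := by
    refine IsScalarTower.of_algebraMap_smul (fun a n => ?_)
    change (X.presheaf.germ U (g'.base x') hxU) ((f.appLE V U eU).hom a) • n =
      (f.stalkMap (g'.base x')).hom (S.presheaf.germ V (f.base (g'.base x')) (eU hxU) a) • n
    rw [stalkMap_germ_eq f eU (g'.base x') hxU a]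
  haveI flP : Module.Flat Γ(S, V) (F.presheaf.stalk (g'.base x')) := hP
  -- the module Q = H_x'
  letI mB'Q : Module Γ(X', U') (H.presheaf.stalk x') := moduleStalkSections H U' x' hx'
  letI mRQ : Module (X.presheaf.stalk (g'.base x')) (H.presheaf.stalk x') :=
    FlatMod.moduleStalkOver g' H x'
  letI mBQ : Module Γ(X, U) (H.presheaf.stalk x') :=
    Module.compHom _ ((X'.presheaf.germ U' x' hx').hom.comp (g'.appLE U U' e1).hom)
  letI mA'Q : Module Γ(S', V') (H.presheaf.stalk x') :=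
    Module.compHom _ ((X'.presheaf.germ U' x' hx').hom.comp (f'.appLE V' U' e2).hom)
  haveI q1 : IsScalarTower Γ(X', U') (X'.presheaf.stalk x') (H.presheaf.stalk x') :=
    IsScalarTower.of_algebraMap_smul (fun b n => rfl)
  haveI q2 : IsScalarTower (X.presheaf.stalk (g'.base x')) (X'.presheaf.stalk x') (H.presheaf.stalk x') :=
    IsScalarTower.of_algebraMap_smul (fun b n => rfl)
  haveI q3 : IsScalarTower Γ(X, U) (X'.presheaf.stalk x') (H.presheaf.stalk x') :=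
    IsScalarTower.of_algebraMap_smul (fun b n => rfl)
  haveI q4 : IsScalarTower Γ(X, U) Γ(X', U') (H.presheaf.stalk x') :=
    IsScalarTower.of_algebraMap_smul (fun b n => rfl)
  haveI q5 : IsScalarTower Γ(X, U) (X.presheaf.stalk (g'.base x')) (H.presheaf.stalk x') := by
    refine IsScalarTower.of_algebraMap_smul (fun b n => ?_)
    change (g'.stalkMap x').hom (X.presheaf.germ U (g'.base x') hxU b) • n =
      (X'.presheaf.germ U' x' hx') ((g'.appLE U U' e1).hom b) • n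
    rw [stalkMap_germ_eq g' e1 x' hx' b]
  haveI q6 : IsScalarTower Γ(S', V') (X'.presheaf.stalk x') (H.presheaf.stalk x') :=
    IsScalarTower.of_algebraMap_smul (fun b n => rfl)
  haveI q7 : IsScalarTower Γ(S', V') Γ(X', U') (H.presheaf.stalk x') :=
    IsScalarTower.of_algebraMap_smul (fun b n => rfl)
  -- the stalk of the pullback as a base change
  obtain ⟨T⟩ := nonempty_stalk_linearEquiv g' F x'
  let μ : F.presheaf.stalk (g'.base x') →ₗ[X.presheaf.stalk (g'.base x')] H.presheaf.stalk x' :=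
    (T.toLinearMap.restrictScalars (X.presheaf.stalk (g'.base x'))).comp
      (TensorProduct.mk (X.presheaf.stalk (g'.base x')) (X'.presheaf.stalk x')
        (F.presheaf.stalk (g'.base x')) 1)
  have hμ : IsBaseChange (X'.presheaf.stalk x') μ := IsBaseChange.of_equiv T (fun v => rfl)
  haveI := isLocalizedModule_id (hU.primeIdealOf ⟨g'.base x', hxU⟩).asIdeal.primeCompl
    (F.presheaf.stalk (g'.base x')) (X.presheaf.stalk (g'.base x'))
  have hid : IsBaseChange (X.presheaf.stalk (g'.base x'))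
      (LinearMap.id : F.presheaf.stalk (g'.base x') →ₗ[Γ(X, U)] F.presheaf.stalk (g'.base x')) :=
    (isLocalizedModule_iff_isBaseChange (hU.primeIdealOf ⟨g'.base x', hxU⟩).asIdeal.primeCompl
      (X.presheaf.stalk (g'.base x')) LinearMap.id).1 inferInstance
  have hcomp : IsBaseChange (X'.presheaf.stalk x')
      ((μ.restrictScalars Γ(X, U)).comp LinearMap.id) := hid.comp hμ
  have hι : IsBaseChange Γ(X', U')
      (TensorProduct.mk Γ(X, U) Γ(X', U') (F.presheaf.stalk (g'.base x')) 1) :=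
    TensorProduct.isBaseChange Γ(X, U) (F.presheaf.stalk (g'.base x')) Γ(X', U')
  let hh : Γ(X', U') ⊗[Γ(X, U)] (F.presheaf.stalk (g'.base x')) →ₗ[Γ(X', U')] H.presheaf.stalk x' :=
    hι.lift (μ.restrictScalars Γ(X, U))
  have hhb : IsBaseChange (X'.presheaf.stalk x') hh := by
    apply IsBaseChange.of_comp hι
    rw [IsBaseChange.lift_comp]
    exact hcomp
  haveI flP0 : Module.Flat Γ(S', V') (Γ(X', U') ⊗[Γ(X, U)] (F.presheaf.stalk (g'.base x'))) :=
    Module.Flat.of_linearEquiv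
      (Algebra.IsPushout.cancelBaseChange Γ(S, V) Γ(S', V') Γ(X, U) Γ(X', U')
        (F.presheaf.stalk (g'.base x')))
  have hQ : Module.Flat Γ(S', V') (H.presheaf.stalk x') :=
    flat_of_isBaseChange (Λ := Γ(S', V')) (R := Γ(X', U')) (S := X'.presheaf.stalk x') hhb
  refine (@flat_iff_of_semilinear_equiv Γ(S', V') Γ(S', V') (H.presheaf.stalk x')
    (H.presheaf.stalk x') _ _ _ _ mA'Q (moduleStalkBase f' H V' x' (e2 hx'))
    (RingEquiv.refl _) (AddEquiv.refl _) ?_).1 hQ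
  intro a n
  change (X'.presheaf.germ U' x' hx') ((f'.appLE V' U' e2).hom a) • n =
    (f'.stalkMap x').hom (S'.presheaf.germ V' (f'.base x') (e2 hx') a) • n
  rw [stalkMap_germ_eq f' e2 x' hx' a]

end cartesian

end Groth.Agent.Lib.Helper2.PullbackSec
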