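import Mathlib
import Groth.Agent.Lib.Helper26KerBC
import Groth.Agent.Lib.Helper26HomLimB
import Groth.Agent.Lib.Helper26HomLimC
import Groth.Agent.Lib.Helper2PullbackSec3
import Groth.Agent.Lib.Helper2ModExact

/-!
# Sections of pulled back modules in a cartesian square, over affine charts (helper26)

Namespace `Groth.Agent.Lib.Helper26.SecBC`.  For a cartesian square `X' = X ×_S S'` and affine opens `U ⊆ X`, `V ⊆ S`,
`V' ⊆ S'` with `U → V ← V'`, and `U' = g'⁻¹U ⊓ f'⁻¹V'`: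

* `unitSec_map`: naturality of helper13's `unitSec`.
* `isBaseChange_sections`: `Γ(g'^*F, U') = Γ(S', V') ⊗_{Γ(S, V)} Γ(F, U)` (`IsBaseChange` form).
* `ker_app_pullback_le_span`: if `F →u G →π P → 0` is exact on `U` with `Γ(P, U)` flat over `Γ(S, V)`, the kernel of
  `(g'^*u)(U')` is generated by the image of the kernel of `u(U)` (EGA IV 11.3.7-type base change).
* `exists_tensor_hom`, `exists_sum_mul`: elementwise forms.
-/

set_option autoImplicit false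
set_option linter.style.haveILetI false
universe u
open CategoryTheory AlgebraicGeometry Limits TensorProduct
open Groth.Agent.Helper13PullbackUnit Groth.Agent.Lib.Helper2.ModExact
  Groth.Agent.Lib.Helper2.PullbackFlat Groth.Agent.Lib.Helper2.PullbackSec

namespace Groth.Agent.Lib.Helper26.SecBC

section nat
variable {X Y : Scheme.{u}} (f : Y ⟶ X)

/-- naturality of the canonical sections map `Γ(F, V) → Γ(f^*F, U)`. -/
theorem unitSec_map {F G : X.Modules} (u : F ⟶ G) {V : X.Opens} {U : Y.Opens} (hle : U ≤ f ⁻¹ᵁ V)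
    (x : Γ(F, V)) :
    ((Scheme.Modules.pullback f).map u).app U (unitSec f F hle x) =
      unitSec f G hle (u.app V x) := by
  rw [unitSec_apply, unitSec_apply]
  have h1 := app_map ((Scheme.Modules.pullback f).map u) (homOfLE hle)
    (((Scheme.Modules.pullbackPushforwardAdjunction f).unit.app F).app V x)
  rw [h1]
  congr 1
  have h2 := (Scheme.Modules.pullbackPushforwardAdjunction f).unit.naturality u
  have h3 := congrArg (fun k => Scheme.Modules.Hom.app k V x) h2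
  exact h3.symm

end nat

section cartesian
variable {X S X' S' : Scheme.{u}} {f : X ⟶ S} {f' : X' ⟶ S'} {g' : X' ⟶ X} {g : S' ⟶ S}

/-- **the package**: in a cartesian square, over affine charts `U → V ← V'`, with `U' = g'⁻¹U ⊓ f'⁻¹V'`:
the sections of `g'^*F` over `U'` are the base change `Γ(S', V') ⊗_{Γ(S, V)} Γ(F, U)`. -/
theorem isBaseChange_sections (hc : IsPullback g' f' f g) (F : X.Modules) [F.IsQuasicoherent]
    {V : S.Opens} {V' : S'.Opens} {U : X.Opens} (eV' : V' ≤ g ⁻¹ᵁ V) (eU : U ≤ f ⁻¹ᵁ V)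
    (hV : IsAffineOpen V) (hV' : IsAffineOpen V') (hU : IsAffineOpen U) :
    letI : Algebra Γ(S, V) Γ(S', V') := (g.appLE V V' eV').hom.toAlgebra
    letI : Module Γ(S, V) Γ(F, U) := Module.compHom Γ(F, U) (f.appLE V U eU).hom
    letI : Module Γ(S', V') Γ((Scheme.Modules.pullback g').obj F, g' ⁻¹ᵁ U ⊓ f' ⁻¹ᵁ V') :=
      Module.compHom _ (f'.appLE V' (g' ⁻¹ᵁ U ⊓ f' ⁻¹ᵁ V') inf_le_right).hom
    letI : Module Γ(S, V) Γ((Scheme.Modules.pullback g').obj F, g' ⁻¹ᵁ U ⊓ f' ⁻¹ᵁ V') :=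
      Module.compHom _ ((f'.appLE V' (g' ⁻¹ᵁ U ⊓ f' ⁻¹ᵁ V') inf_le_right).hom.comp
        (g.appLE V V' eV').hom)
    ∃ (_ : IsScalarTower Γ(S, V) Γ(S', V')
        Γ((Scheme.Modules.pullback g').obj F, g' ⁻¹ᵁ U ⊓ f' ⁻¹ᵁ V'))
      (η : Γ(F, U) →ₗ[Γ(S, V)] Γ((Scheme.Modules.pullback g').obj F, g' ⁻¹ᵁ U ⊓ f' ⁻¹ᵁ V')),
      IsBaseChange Γ(S', V') η ∧ ∀ m, η m = unitSec g' F inf_le_left m := by
  set H := (Scheme.Modules.pullback g').obj F with hH
  haveI : H.IsQuasicoherent := isQuasicoherent_pullback g' F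
  set U' : X'.Opens := g' ⁻¹ᵁ U ⊓ f' ⁻¹ᵁ V' with hU'def
  have hU' : IsAffineOpen U' := isAffineOpen_inf_preimage hc eV' eU hV hV' hU
  have e1 : U' ≤ g' ⁻¹ᵁ U := inf_le_left
  have e2 : U' ≤ f' ⁻¹ᵁ V' := inf_le_right
  letI aAB : Algebra Γ(S, V) Γ(X, U) := (f.appLE V U eU).hom.toAlgebra
  letI aAA' : Algebra Γ(S, V) Γ(S', V') := (g.appLE V V' eV').hom.toAlgebra
  letI aBB' : Algebra Γ(X, U) Γ(X', U') := (g'.appLE U U' e1).hom.toAlgebra
  letI aA'B' : Algebra Γ(S', V') Γ(X', U') := (f'.appLE V' U' e2).hom.toAlgebra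
  letI aAB' : Algebra Γ(S, V) Γ(X', U') :=
    ((g'.appLE U U' e1).hom.comp (f.appLE V U eU).hom).toAlgebra
  haveI tABB' : IsScalarTower Γ(S, V) Γ(X, U) Γ(X', U') :=
    IsScalarTower.of_algebraMap_eq (fun a => rfl)
  have hsq : ∀ a : Γ(S, V), (g'.appLE U U' e1).hom ((f.appLE V U eU).hom a) =
      (f'.appLE V' U' e2).hom ((g.appLE V V' eV').hom a) := by
    intro a
    have h1 := Scheme.Hom.appLE_comp_appLE g' f V U U' eU e1
    have h2 := Scheme.Hom.appLE_comp_appLE f' g V V' U' eV' e2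
    have h3 : (f.appLE V U eU ≫ g'.appLE U U' e1) = (g.appLE V V' eV' ≫ f'.appLE V' U' e2) := by
      rw [h1, h2]
      congr 1
      exact hc.w
    exact congrArg (fun φ => φ.hom a) h3
  haveI tAA'B' : IsScalarTower Γ(S, V) Γ(S', V') Γ(X', U') :=
    IsScalarTower.of_algebraMap_eq (fun a => hsq a)
  haveI hPO : Algebra.IsPushout Γ(S, V) Γ(S', V') Γ(X, U) Γ(X', U') :=
    algebra_isPushout hc eV' eU hV hV' hU e1 e2
  letI mAM : Module Γ(S, V) Γ(F, U) := Module.compHom Γ(F, U) (f.appLE V U eU).hom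
  haveI tABM : IsScalarTower Γ(S, V) Γ(X, U) Γ(F, U) :=
    IsScalarTower.of_algebraMap_smul (fun a n => rfl)
  letI mA'Q : Module Γ(S', V') Γ(H, U') := Module.compHom _ (f'.appLE V' U' e2).hom
  haveI tA'B'Q : IsScalarTower Γ(S', V') Γ(X', U') Γ(H, U') :=
    IsScalarTower.of_algebraMap_smul (fun a n => rfl)
  letI mAQ : Module Γ(S, V) Γ(H, U') :=
    Module.compHom _ ((f'.appLE V' U' e2).hom.comp (g.appLE V V' eV').hom)
  haveI tAA'Q : IsScalarTower Γ(S, V) Γ(S', V') Γ(H, U') :=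
    IsScalarTower.of_algebraMap_smul (fun a n => rfl)
  letI mBQ : Module Γ(X, U) Γ(H, U') := Module.compHom _ (g'.appLE U U' e1).hom
  haveI tBB'Q : IsScalarTower Γ(X, U) Γ(X', U') Γ(H, U') :=
    IsScalarTower.of_algebraMap_smul (fun a n => rfl)
  -- the `Γ(X, U)`-linear map and its base change property
  let φl : Γ(F, U) →ₗ[Γ(X, U)] Γ(H, U') :=
    { toFun := unitSec g' F e1
      map_add' := (unitSec g' F e1).map_add
      map_smul' := fun r x => unitSec_smul g' F e1 r x }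
  have hbc : IsBaseChange Γ(X', U') φl :=
    Groth.Agent.Helper13BCAlg.isBaseChange_of_existsUnique φl
      (fun N _ _ l hl => existsUnique_lift g' F hU hU' e1 N l hl)
  haveI tABQ : IsScalarTower Γ(S, V) Γ(X, U) Γ(H, U') := ⟨fun a b n => by
    change (g'.appLE U U' e1).hom ((f.appLE V U eU).hom a * b) • n =
      (f'.appLE V' U' e2).hom ((g.appLE V V' eV').hom a) • ((g'.appLE U U' e1).hom b • n)
    rw [map_mul, mul_smul, hsq]⟩
  -- restrict scalars to `Γ(S, V)` and cancel the base change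
  let η : Γ(F, U) →ₗ[Γ(S, V)] Γ(H, U') := φl.restrictScalars Γ(S, V)
  let E : Γ(S', V') ⊗[Γ(S, V)] Γ(F, U) ≃ₗ[Γ(S', V')] Γ(H, U') :=
    (Algebra.IsPushout.cancelBaseChange Γ(S, V) Γ(S', V') Γ(X, U) Γ(X', U') Γ(F, U)).symm.trans
      (hbc.equiv.restrictScalars Γ(S', V'))
  refine ⟨tAA'Q, η, IsBaseChange.of_equiv E (fun m => ?_), fun m => rfl⟩
  change hbc.equiv ((Algebra.IsPushout.cancelBaseChange Γ(S, V) Γ(S', V') Γ(X, U) Γ(X', U')
    Γ(F, U)).symm ((1 : Γ(S', V')) ⊗ₜ[Γ(S, V)] m)) = φl m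
  rw [Algebra.IsPushout.cancelBaseChange_symm_tmul, map_one, hbc.equiv_tmul, one_smul]


/-- **kernel of a pulled back map with flat cokernel, on sections over affine charts.** -/
theorem ker_app_pullback_le_span (hc : IsPullback g' f' f g) {F G P : X.Modules}
    [F.IsQuasicoherent] [G.IsQuasicoherent] (u : F ⟶ G) (π : G ⟶ P)
    {V : S.Opens} {V' : S'.Opens} {U : X.Opens} (eV' : V' ≤ g ⁻¹ᵁ V) (eU : U ≤ f ⁻¹ᵁ V)
    (hV : IsAffineOpen V) (hV' : IsAffineOpen V') (hU : IsAffineOpen U)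
    (hπ : Function.Surjective (π.app U))
    (hex : ∀ y : Γ(G, U), π.app U y = 0 ↔ ∃ m, u.app U m = y)
    (hflat : @Module.Flat Γ(S, V) Γ(P, U) _ _ (Module.compHom Γ(P, U) (f.appLE V U eU).hom))
    (t' : Γ((Scheme.Modules.pullback g').obj F, g' ⁻¹ᵁ U ⊓ f' ⁻¹ᵁ V'))
    (ht' : ((Scheme.Modules.pullback g').map u).app _ t' = 0) :
    t' ∈ Submodule.span Γ(X', g' ⁻¹ᵁ U ⊓ f' ⁻¹ᵁ V')
      ((unitSec g' F inf_le_left) '' {m : Γ(F, U) | u.app U m = 0}) := by
  let U' : X'.Opens := g' ⁻¹ᵁ U ⊓ f' ⁻¹ᵁ V'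
  have e1 : U' ≤ g' ⁻¹ᵁ U := inf_le_left
  have e2 : U' ≤ f' ⁻¹ᵁ V' := inf_le_right
  letI aAA' : Algebra Γ(S, V) Γ(S', V') := (g.appLE V V' eV').hom.toAlgebra
  letI aA'B' : Algebra Γ(S', V') Γ(X', U') := (f'.appLE V' U' e2).hom.toAlgebra
  letI mAM : Module Γ(S, V) Γ(F, U) := Module.compHom Γ(F, U) (f.appLE V U eU).hom
  letI mAN : Module Γ(S, V) Γ(G, U) := Module.compHom Γ(G, U) (f.appLE V U eU).hom
  letI mAP : Module Γ(S, V) Γ(P, U) := Module.compHom Γ(P, U) (f.appLE V U eU).hom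
  letI mA'M' : Module Γ(S', V') Γ((Scheme.Modules.pullback g').obj F, U') :=
    Module.compHom _ (f'.appLE V' U' e2).hom
  letI mA'N' : Module Γ(S', V') Γ((Scheme.Modules.pullback g').obj G, U') :=
    Module.compHom _ (f'.appLE V' U' e2).hom
  letI mAM' : Module Γ(S, V) Γ((Scheme.Modules.pullback g').obj F, U') :=
    Module.compHom _ ((f'.appLE V' U' e2).hom.comp (g.appLE V V' eV').hom)
  letI mAN' : Module Γ(S, V) Γ((Scheme.Modules.pullback g').obj G, U') :=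
    Module.compHom _ ((f'.appLE V' U' e2).hom.comp (g.appLE V V' eV').hom)
  haveI tA'B'M' : IsScalarTower Γ(S', V') Γ(X', U') Γ((Scheme.Modules.pullback g').obj F, U') :=
    IsScalarTower.of_algebraMap_smul (fun a n => rfl)
  obtain ⟨tM, ηM, hM, hηM⟩ := isBaseChange_sections hc F eV' eU hV hV' hU
  obtain ⟨tN, ηN, hN, hηN⟩ := isBaseChange_sections hc G eV' eU hV hV' hU
  haveI := tM
  haveI := tN
  haveI : Module.Flat Γ(S, V) Γ(P, U) := hflat
  let uB : Γ(F, U) →ₗ[Γ(S, V)] Γ(G, U) :=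
    { toFun := fun m => u.app U m
      map_add' := fun a b => map_add _ a b
      map_smul' := fun a m => app_smul u U ((f.appLE V U eU).hom a) m }
  let πB : Γ(G, U) →ₗ[Γ(S, V)] Γ(P, U) :=
    { toFun := fun m => π.app U m
      map_add' := fun a b => map_add _ a b
      map_smul' := fun a m => app_smul π U ((f.appLE V U eU).hom a) m }
  let u' : Γ((Scheme.Modules.pullback g').obj F, U') →ₗ[Γ(S', V')]
      Γ((Scheme.Modules.pullback g').obj G, U') :=
    { toFun := fun m => ((Scheme.Modules.pullback g').map u).app U' m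
      map_add' := fun a b => map_add _ a b
      map_smul' := fun a m => app_smul ((Scheme.Modules.pullback g').map u) U'
        ((f'.appLE V' U' e2).hom a) m }
  have hexB : Function.Exact uB πB := by
    intro y
    exact hex y
  have hu' : ∀ m, u' (ηM m) = ηN (uB m) := by
    intro m
    rw [hηM, hηN]
    exact unitSec_map g' u e1 m
  have key := Groth.Agent.Lib.Helper26.KerBC.ker_le_span_of_flat ηM hM ηN hN uB πB hπ hexB u' hu'
  have h1 : t' ∈ LinearMap.ker u' := ht'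
  have h2 := key h1
  have h3 : Submodule.span Γ(S', V') (ηM '' (LinearMap.ker uB : Set Γ(F, U))) ≤
      (Submodule.span Γ(X', U') (ηM '' (LinearMap.ker uB : Set Γ(F, U)))).restrictScalars Γ(S', V') :=
    Submodule.span_le_restrictScalars _ _ _
  have h4 := h3 h2
  have h5 : (ηM '' (LinearMap.ker uB : Set Γ(F, U))) =
      (unitSec g' F inf_le_left) '' {m : Γ(F, U) | u.app U m = 0} := by
    ext z
    constructor
    · rintro ⟨m, hm, rfl⟩
      exact ⟨m, hm, (hηM m).symm⟩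
    · rintro ⟨m, hm, rfl⟩
      exact ⟨m, hm, hηM m⟩
  rw [h5] at h4
  exact h4


/-- the comparison `Γ(S', V') ⊗_{Γ(S, V)} Γ(F, U) → Γ(g'^*F, U')` is injective. -/
theorem exists_tensor_hom (hc : IsPullback g' f' f g) (F : X.Modules) [F.IsQuasicoherent]
    {V : S.Opens} {V' : S'.Opens} {U : X.Opens} (eV' : V' ≤ g ⁻¹ᵁ V) (eU : U ≤ f ⁻¹ᵁ V)
    (hV : IsAffineOpen V) (hV' : IsAffineOpen V') (hU : IsAffineOpen U) :
    letI : Algebra Γ(S, V) Γ(S', V') := (g.appLE V V' eV').hom.toAlgebra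
    letI : Module Γ(S, V) Γ(F, U) := Module.compHom Γ(F, U) (f.appLE V U eU).hom
    ∃ T : Γ(S', V') ⊗[Γ(S, V)] Γ(F, U) →+
        Γ((Scheme.Modules.pullback g').obj F, g' ⁻¹ᵁ U ⊓ f' ⁻¹ᵁ V'),
      Function.Injective T ∧ ∀ (b' : Γ(S', V')) (m : Γ(F, U)), T (b' ⊗ₜ m) =
        (f'.appLE V' (g' ⁻¹ᵁ U ⊓ f' ⁻¹ᵁ V') inf_le_right).hom b' • unitSec g' F inf_le_left m := by
  let U' : X'.Opens := g' ⁻¹ᵁ U ⊓ f' ⁻¹ᵁ V'
  have e2 : U' ≤ f' ⁻¹ᵁ V' := inf_le_right
  letI aAA' : Algebra Γ(S, V) Γ(S', V') := (g.appLE V V' eV').hom.toAlgebra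
  letI mAM : Module Γ(S, V) Γ(F, U) := Module.compHom Γ(F, U) (f.appLE V U eU).hom
  letI mA'M' : Module Γ(S', V') Γ((Scheme.Modules.pullback g').obj F, U') :=
    Module.compHom _ (f'.appLE V' U' e2).hom
  letI mAM' : Module Γ(S, V) Γ((Scheme.Modules.pullback g').obj F, U') :=
    Module.compHom _ ((f'.appLE V' U' e2).hom.comp (g.appLE V V' eV').hom)
  obtain ⟨tM, ηM, hM, hηM⟩ := isBaseChange_sections hc F eV' eU hV hV' hU
  haveI := tM
  refine ⟨hM.equiv.toLinearMap.toAddMonoidHom, hM.equiv.injective, fun b' m => ?_⟩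
  change hM.equiv (b' ⊗ₜ m) = _
  rw [hM.equiv_tmul, hηM]
  rfl

/-- every section of `O_{X'}` over `U' = g'⁻¹U ⊓ f'⁻¹V'` is a sum of products. -/
theorem exists_sum_mul (hc : IsPullback g' f' f g)
    {V : S.Opens} {V' : S'.Opens} {U : X.Opens} (eV' : V' ≤ g ⁻¹ᵁ V) (eU : U ≤ f ⁻¹ᵁ V)
    (hV : IsAffineOpen V) (hV' : IsAffineOpen V') (hU : IsAffineOpen U)
    (h : Γ(X', g' ⁻¹ᵁ U ⊓ f' ⁻¹ᵁ V')) :
    ∃ (n : ℕ) (b' : Fin n → Γ(S', V')) (c : Fin n → Γ(X, U)),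
      h = ∑ k, (f'.appLE V' (g' ⁻¹ᵁ U ⊓ f' ⁻¹ᵁ V') inf_le_right).hom (b' k) *
        (g'.appLE U (g' ⁻¹ᵁ U ⊓ f' ⁻¹ᵁ V') inf_le_left).hom (c k) := by
  let U' : X'.Opens := g' ⁻¹ᵁ U ⊓ f' ⁻¹ᵁ V'
  have e1 : U' ≤ g' ⁻¹ᵁ U := inf_le_left
  have e2 : U' ≤ f' ⁻¹ᵁ V' := inf_le_right
  letI aAB : Algebra Γ(S, V) Γ(X, U) := (f.appLE V U eU).hom.toAlgebra
  letI aAA' : Algebra Γ(S, V) Γ(S', V') := (g.appLE V V' eV').hom.toAlgebra
  letI aBB' : Algebra Γ(X, U) Γ(X', U') := (g'.appLE U U' e1).hom.toAlgebra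
  letI aA'B' : Algebra Γ(S', V') Γ(X', U') := (f'.appLE V' U' e2).hom.toAlgebra
  letI aAB' : Algebra Γ(S, V) Γ(X', U') :=
    ((g'.appLE U U' e1).hom.comp (f.appLE V U eU).hom).toAlgebra
  haveI tABB' : IsScalarTower Γ(S, V) Γ(X, U) Γ(X', U') :=
    IsScalarTower.of_algebraMap_eq (fun a => rfl)
  have hsq : ∀ a : Γ(S, V), (g'.appLE U U' e1).hom ((f.appLE V U eU).hom a) =
      (f'.appLE V' U' e2).hom ((g.appLE V V' eV').hom a) := by
    intro a
    have h1 := Scheme.Hom.appLE_comp_appLE g' f V U U' eU e1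
    have h2 := Scheme.Hom.appLE_comp_appLE f' g V V' U' eV' e2
    have h3 : (f.appLE V U eU ≫ g'.appLE U U' e1) = (g.appLE V V' eV' ≫ f'.appLE V' U' e2) := by
      rw [h1, h2]
      congr 1
      exact hc.w
    exact congrArg (fun φ => φ.hom a) h3
  haveI tAA'B' : IsScalarTower Γ(S, V) Γ(S', V') Γ(X', U') :=
    IsScalarTower.of_algebraMap_eq (fun a => hsq a)
  haveI hPO : Algebra.IsPushout Γ(S, V) Γ(S', V') Γ(X, U) Γ(X', U') :=
    algebra_isPushout hc eV' eU hV hV' hU e1 e2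
  have hbc : IsBaseChange Γ(S', V') (IsScalarTower.toAlgHom Γ(S, V) Γ(X, U) Γ(X', U')).toLinearMap :=
    Algebra.IsPushout.out
  obtain ⟨n, b', c, hz⟩ := TensorProduct.exists_sum_tmul_eq (hbc.equiv.symm h)
  refine ⟨n, b', c, ?_⟩
  have := congrArg hbc.equiv hz
  rw [LinearEquiv.apply_symm_apply, map_sum] at this
  rw [this]
  refine Finset.sum_congr rfl fun i _ => ?_
  rw [hbc.equiv_tmul]
  rfl

end cartesian

end Groth.Agent.Lib.Helper26.SecBC
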