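import Groth.Agent.Lib.Helper17FlatDev1
import Groth.Agent.Lib.Helper17HHLes
import Groth.Agent.Lib.Helper26SecBC
import Groth.Agent.Lib.Helper20FormalPull
import Groth.Agent.Lib.Helper20Thickening
import Groth.Agent.Lib.Helper17FinClosed
import Groth.Agent.Lib.Helper18OmLS9
import Groth.Agent.S9530

/-!
# Cohomology of the base change along a closed immersion of affine bases (helper17)

For `X` over `Spec A`, a surjection `φ : A → B` and a cartesian square `Z = X ×_A Spec B` with projection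
`j : Z ⟶ X`, and `M` quasi-coherent on `X`:

* `quotIso`: `M / (ker φ) M ≅ j_* j^* M`;
* `subsingleton_HH_Q_of_fibre`: `H^q(Z, j^*M) = 0 → H^q(X, M/(ker φ)M) = 0`.
-/

set_option autoImplicit false
universe u
open CategoryTheory Limits AlgebraicGeometry TopologicalSpace Opposite TensorProduct

namespace Groth.Agent.Lib.Helper17.FlatDev

open Groth.Agent.Lib.Helper17.HHLes Groth.Agent.Helper13PullbackUnit

section alg

theorem surjective_of_isBaseChange {A₀ B₀ P P' : Type*} [CommRing A₀] [CommRing B₀]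
    [Algebra A₀ B₀] [AddCommGroup P] [Module A₀ P] [AddCommGroup P'] [Module A₀ P'] [Module B₀ P']
    [IsScalarTower A₀ B₀ P'] (η : P →ₗ[A₀] P') (hbc : IsBaseChange B₀ η)
    (hs : Function.Surjective (algebraMap A₀ B₀)) : Function.Surjective η := by
  intro x
  refine hbc.inductionOn x (motive := fun x => ∃ p, η p = x) ⟨0, map_zero _⟩ (fun m => ⟨m, rfl⟩) ?_ ?_
  · rintro s n ⟨p, rfl⟩
    obtain ⟨a, rfl⟩ := hs s
    exact ⟨a • p, by rw [map_smul, algebraMap_smul]⟩
  · rintro n n' ⟨p, rfl⟩ ⟨p', rfl⟩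
    exact ⟨p + p', map_add _ _ _⟩

theorem mem_ker_smul_top_of_isBaseChange {A₀ B₀ P P' : Type*} [CommRing A₀] [CommRing B₀]
    [Algebra A₀ B₀] [AddCommGroup P] [Module A₀ P] [AddCommGroup P'] [Module A₀ P'] [Module B₀ P']
    [IsScalarTower A₀ B₀ P'] (η : P →ₗ[A₀] P') (hbc : IsBaseChange B₀ η)
    (hs : Function.Surjective (algebraMap A₀ B₀)) (p : P) (hp : η p = 0) :
    p ∈ (RingHom.ker (algebraMap A₀ B₀) • ⊤ : Submodule A₀ P) := by
  set J : Ideal A₀ := RingHom.ker (algebraMap A₀ B₀) with hJ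
  let g : A₀ →ₗ[A₀] B₀ := Algebra.linearMap A₀ B₀
  have hex : Function.Exact J.subtype g := by
    intro x
    constructor
    · intro hx
      exact ⟨⟨x, hx⟩, rfl⟩
    · rintro ⟨y, rfl⟩
      exact y.2
  have hex' := rTensor_exact P hex hs
  have h0 : (g.rTensor P) (1 ⊗ₜ p) = 0 := by
    rw [LinearMap.rTensor_tmul]
    have h1 : hbc.equiv (g 1 ⊗ₜ[A₀] p) = 0 := by
      rw [IsBaseChange.equiv_tmul]
      change (algebraMap A₀ B₀ 1) • η p = 0
      rw [hp, smul_zero]
    exact hbc.equiv.injective (h1.trans (map_zero _).symm)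
  obtain ⟨t, ht⟩ := (hex' (1 ⊗ₜ p)).1 h0
  have key : ∀ t : J ⊗[A₀] P,
      TensorProduct.lid A₀ P ((J.subtype.rTensor P) t) ∈ (J • ⊤ : Submodule A₀ P) := by
    intro t
    induction t using TensorProduct.induction_on with
    | zero => simp
    | tmul k q =>
      rw [LinearMap.rTensor_tmul, TensorProduct.lid_tmul]
      exact Submodule.smul_mem_smul k.2 trivial
    | add x y hx hy =>
      rw [map_add, map_add]
      exact add_mem hx hy
  have h3 := key t
  rw [ht, TensorProduct.lid_tmul, one_smul] at h3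
  exact h3

end alg

theorem smulModΓ_zero {X : Scheme.{u}} (N : X.Modules) : Formal.smulModΓ N 0 = 0 := by
  apply Scheme.Modules.hom_ext
  intro U
  ext m
  change (show Γ(X, U) from Coh.resTop X (op U) 0) • (show Γ(N, U) from m) = 0
  have : (show Γ(X, U) from Coh.resTop X (op U) 0) = 0 := map_zero _
  rw [this, zero_smul]

theorem subsingleton_HH_of_iso' {X : Scheme.{u}} {M M' : X.Modules} (e : M ≅ M') (q : ℕ)
    (h : Subsingleton (Coh.HH X M q)) : Subsingleton (Coh.HH X M' q) := by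
  refine ⟨fun x y => ?_⟩
  have hx : ∀ w : Coh.HH X M' q, w = Hm e.hom q (Hm e.inv q w) := fun w => by
    rw [Hm_comp, e.inv_hom_id, Hm_id]
  rw [hx x, hx y, Subsingleton.elim (Hm e.inv q x) (Hm e.inv q y)]

variable {A B : Type u} [CommRing A] [CommRing B] (φ : A →+* B)
  {X Z : Scheme.{u}} [X.Over (Spec (CommRingCat.of A))] (j : Z ⟶ X)
  (z : Z ⟶ Spec (CommRingCat.of B))
  (hsq : IsPullback j z (X ↘ Spec (CommRingCat.of A)) (Spec.map (CommRingCat.ofHom φ)))
  (M : X.Modules)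

include hsq in
theorem appTop_toGlobal (c : A) :
    j.appTop.hom (Coh.toGlobal (X ↘ Spec (CommRingCat.of A)) c) =
      z.appTop.hom ((Scheme.ΓSpecIso (CommRingCat.of B)).inv.hom (φ c)) := by
  have h1 : (X ↘ Spec (CommRingCat.of A)).appTop ≫ j.appTop =
      (Spec.map (CommRingCat.ofHom φ)).appTop ≫ z.appTop := by
    rw [← Scheme.Hom.comp_appTop, ← Scheme.Hom.comp_appTop, hsq.w]
  have h2 := Scheme.ΓSpecIso_inv_naturality (CommRingCat.ofHom φ)
  have h3 : (Scheme.ΓSpecIso (CommRingCat.of A)).inv ≫ (X ↘ Spec (CommRingCat.of A)).appTop ≫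
      j.appTop = CommRingCat.ofHom φ ≫ (Scheme.ΓSpecIso (CommRingCat.of B)).inv ≫ z.appTop := by
    rw [h1, ← Category.assoc, ← h2, Category.assoc]
  exact congrArg (fun ψ => ψ.hom c) h3

include hsq in
theorem smulMod_unit (c : A) (hc : φ c = 0) :
    Formal.smulMod A M c ≫ (Scheme.Modules.pullbackPushforwardAdjunction j).unit.app M = 0 := by
  have h1 := Groth.Agent.Lib.Helper20.FormalPull.pushforward_map_smulModΓ j
    ((Scheme.Modules.pullback j).obj M) (Coh.toGlobal (X ↘ Spec (CommRingCat.of A)) c)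
  have e : j.appTop.hom (Coh.toGlobal (X ↘ Spec (CommRingCat.of A)) c) = 0 := by
    rw [appTop_toGlobal φ j z hsq c, hc, map_zero, map_zero]
  have e' : (j.appTop.hom (Coh.toGlobal (X ↘ Spec (CommRingCat.of A)) c) : Coh.Γtop Z) =
      (0 : Coh.Γtop Z) := e
  have h2 : Formal.smulModΓ ((Scheme.Modules.pullback j).obj M)
      (j.appTop.hom (Coh.toGlobal (X ↘ Spec (CommRingCat.of A)) c)) = 0 :=
    (congrArg (Formal.smulModΓ ((Scheme.Modules.pullback j).obj M)) e').trans (smulModΓ_zero _)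
  rw [h2, Functor.map_zero] at h1
  change Formal.smulModΓ M _ ≫ _ = 0
  rw [Groth.Agent.S9530.smulModΓ_comp]
  exact (congrArg (fun t => _ ≫ t) h1.symm).trans comp_zero

/-- the comparison `M / (ker φ) M ⟶ j_* j^* M`. -/
noncomputable def quotMap : Q (RingHom.ker φ) M ⟶
    (Scheme.Modules.pushforward j).obj ((Scheme.Modules.pullback j).obj M) :=
  cokernel.desc _ ((Scheme.Modules.pullbackPushforwardAdjunction j).unit.app M) (by
    apply Sigma.hom_ext
    intro b
    rw [comp_zero, ← Category.assoc, ι_smulFamily]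
    exact smulMod_unit φ j z hsq M b.1 b.2)

theorem πQ_quotMap : πQ (RingHom.ker φ) M ≫ quotMap φ j z hsq M =
    (Scheme.Modules.pullbackPushforwardAdjunction j).unit.app M :=
  cokernel.π_desc _ _ _

section bij

variable [M.IsQuasicoherent] (hφ : Function.Surjective φ)

theorem appLE_top_top {X Y : Scheme.{u}} (g : X ⟶ Y) (e : (⊤ : X.Opens) ≤ g ⁻¹ᵁ ⊤) :
    g.appLE ⊤ ⊤ e = g.appTop := by
  have : g.appLE ⊤ (g ⁻¹ᵁ ⊤) le_rfl = g.app ⊤ := Scheme.Hom.appLE_eq_app g
  exact this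

theorem ρ_ΓSpecIso_hom (U : X.Opens) (e : U ≤ (X ↘ Spec (CommRingCat.of A)) ⁻¹ᵁ ⊤)
    (x : Γ(Spec (CommRingCat.of A), ⊤)) :
    ρ (A := A) U ((Scheme.ΓSpecIso (CommRingCat.of A)).hom.hom x) =
      ((X ↘ Spec (CommRingCat.of A)).appLE ⊤ U e).hom x := by
  change Coh.resTop X (op U) ((X ↘ Spec (CommRingCat.of A)).appTop.hom
    ((Scheme.ΓSpecIso (CommRingCat.of A)).inv.hom
      ((Scheme.ΓSpecIso (CommRingCat.of A)).hom.hom x))) = _
  have h1 : (Scheme.ΓSpecIso (CommRingCat.of A)).inv.hom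
      ((Scheme.ΓSpecIso (CommRingCat.of A)).hom.hom x) = x := by
    rw [← CommRingCat.comp_apply, Iso.hom_inv_id]
    rfl
  rw [h1]
  rfl

include hsq hφ in
theorem quotMap_app_bijective {U : X.Opens} (hU : IsAffineOpen U) :
    Function.Bijective ((quotMap φ j z hsq M).app U) := by
  have eV' : (⊤ : (Spec (CommRingCat.of B)).Opens) ≤
      (Spec.map (CommRingCat.ofHom φ)) ⁻¹ᵁ ⊤ := fun _ _ => trivial
  have eU : U ≤ (X ↘ Spec (CommRingCat.of A)) ⁻¹ᵁ ⊤ := fun _ _ => trivial
  have hU'eq : j ⁻¹ᵁ U ⊓ z ⁻¹ᵁ ⊤ = j ⁻¹ᵁ U := inf_eq_left.2 (fun _ _ => trivial)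
  letI : Algebra Γ(Spec (CommRingCat.of A), ⊤) Γ(Spec (CommRingCat.of B), ⊤) :=
    ((Spec.map (CommRingCat.ofHom φ)).appLE ⊤ ⊤ eV').hom.toAlgebra
  letI : Module Γ(Spec (CommRingCat.of A), ⊤) Γ(M, U) :=
    Module.compHom Γ(M, U) ((X ↘ Spec (CommRingCat.of A)).appLE ⊤ U eU).hom
  letI : Module Γ(Spec (CommRingCat.of B), ⊤)
      Γ((Scheme.Modules.pullback j).obj M, j ⁻¹ᵁ U ⊓ z ⁻¹ᵁ ⊤) :=
    Module.compHom _ (z.appLE ⊤ (j ⁻¹ᵁ U ⊓ z ⁻¹ᵁ ⊤) inf_le_right).hom
  letI : Module Γ(Spec (CommRingCat.of A), ⊤)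
      Γ((Scheme.Modules.pullback j).obj M, j ⁻¹ᵁ U ⊓ z ⁻¹ᵁ ⊤) :=
    Module.compHom _ ((z.appLE ⊤ (j ⁻¹ᵁ U ⊓ z ⁻¹ᵁ ⊤) inf_le_right).hom.comp
      ((Spec.map (CommRingCat.ofHom φ)).appLE ⊤ ⊤ eV').hom)
  obtain ⟨hST, η', hbc, hη'⟩ := Groth.Agent.Lib.Helper26.SecBC.isBaseChange_sections hsq M eV' eU
    (isAffineOpen_top _) (isAffineOpen_top _) hU
  have hnat := Scheme.ΓSpecIso_naturality (CommRingCat.ofHom φ)
  have hnat' : ∀ x : Γ(Spec (CommRingCat.of A), ⊤),
      (Scheme.ΓSpecIso (CommRingCat.of B)).hom.hom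
        (((Spec.map (CommRingCat.ofHom φ)).appLE ⊤ ⊤ eV').hom x) =
      φ ((Scheme.ΓSpecIso (CommRingCat.of A)).hom.hom x) := by
    intro x
    rw [appLE_top_top]
    exact congrArg (fun ψ => ψ.hom x) hnat
  have hs : Function.Surjective
      (algebraMap Γ(Spec (CommRingCat.of A), ⊤) Γ(Spec (CommRingCat.of B), ⊤)) := by
    intro b
    obtain ⟨a, ha⟩ := hφ ((Scheme.ΓSpecIso (CommRingCat.of B)).hom.hom b)
    refine ⟨(Scheme.ΓSpecIso (CommRingCat.of A)).inv.hom a, ?_⟩
    have hinj : Function.Injective (Scheme.ΓSpecIso (CommRingCat.of B)).hom.hom :=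
      (ConcreteCategory.bijective_of_isIso (Scheme.ΓSpecIso (CommRingCat.of B)).hom).1
    apply hinj
    change (Scheme.ΓSpecIso (CommRingCat.of B)).hom.hom
      (((Spec.map (CommRingCat.ofHom φ)).appLE ⊤ ⊤ eV').hom _) = _
    rw [hnat', ← ha]
    congr 1
    rw [← CommRingCat.comp_apply, Iso.inv_hom_id]
    rfl
  have hker : ∀ x ∈ RingHom.ker
      (algebraMap Γ(Spec (CommRingCat.of A), ⊤) Γ(Spec (CommRingCat.of B), ⊤)),
      (Scheme.ΓSpecIso (CommRingCat.of A)).hom.hom x ∈ RingHom.ker φ := by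
    intro x hx
    rw [RingHom.mem_ker, ← hnat']
    have hx' : ((Spec.map (CommRingCat.ofHom φ)).appLE ⊤ ⊤ eV').hom x = 0 := hx
    rw [hx', map_zero]
  have hunit : ∀ m : Γ(M, U), η' m =
      ((Scheme.Modules.pullback j).obj M).presheaf.map (homOfLE inf_le_left).op
        (((Scheme.Modules.pullbackPushforwardAdjunction j).unit.app M).app U m) := fun m =>
    (hη' m).trans (unitSec_apply j M inf_le_left m)
  have hq : ∀ m : Γ(M, U), (quotMap φ j z hsq M).app U ((πQ (RingHom.ker φ) M).app U m) =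
      ((Scheme.Modules.pullbackPushforwardAdjunction j).unit.app M).app U m := fun m => by
    rw [← comp_app_apply, πQ_quotMap]
  constructor
  · rw [injective_iff_map_eq_zero]
    intro w hw
    obtain ⟨s, rfl⟩ := πQ_app_surjective (RingHom.ker φ) M hU w
    rw [hq] at hw
    have h1 : η' s = 0 := by
      rw [hunit, hw]
      exact map_zero _
    have h2 := mem_ker_smul_top_of_isBaseChange η' hbc hs s h1
    refine Submodule.smul_induction_on h2 (fun x hx n _ => ?_) (fun x y hx hy => ?_)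
    · have h3 := πQ_app_smul (RingHom.ker φ) M _ (hker x hx) U n
      rw [ρ_ΓSpecIso_hom U eU] at h3
      exact h3
    · rw [map_add, hx, hy, add_zero]
  · intro t
    obtain ⟨m, hm⟩ := surjective_of_isBaseChange η' hbc hs
      (((Scheme.Modules.pullback j).obj M).presheaf.map (homOfLE inf_le_left).op
        (show Γ((Scheme.Modules.pullback j).obj M, j ⁻¹ᵁ U) from t))
    refine ⟨(πQ (RingHom.ker φ) M).app U m, ?_⟩
    rw [hq]
    rw [hunit] at hm
    have h4 := Groth.Agent.Lib.Helper20.Thickening.eq_zero_of_map_eq_zero_of_eq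
      ((Scheme.Modules.pullback j).obj M) hU'eq inf_le_left
      ((show Γ((Scheme.Modules.pullback j).obj M, j ⁻¹ᵁ U) from
        ((Scheme.Modules.pullbackPushforwardAdjunction j).unit.app M).app U m) -
        (show Γ((Scheme.Modules.pullback j).obj M, j ⁻¹ᵁ U) from t))
      (by rw [map_sub, hm, sub_self])
    exact sub_eq_zero.1 h4

end bij

section main

variable [M.IsQuasicoherent] (hφ : Function.Surjective φ)

include hsq hφ in
theorem isClosedImmersion_of_surjective : IsClosedImmersion j := by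
  haveI : IsClosedImmersion (Spec.map (CommRingCat.ofHom φ)) :=
    IsClosedImmersion.spec_of_surjective _ hφ
  exact MorphismProperty.of_isPullback (P := @IsClosedImmersion) hsq.flip inferInstance

include hφ in
theorem isIso_quotMap : IsIso (quotMap φ j z hsq M) := by
  haveI := isClosedImmersion_of_surjective φ j z hsq hφ
  haveI : ((Scheme.Modules.pullback j).obj M).IsQuasicoherent :=
    Groth.Agent.Lib.Helper2.PullbackSec.isQuasicoherent_pullback j M
  haveI : ((Scheme.Modules.pushforward j).obj ((Scheme.Modules.pullback j).obj M)).IsQuasicoherent :=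
    Groth.Agent.Lib.Helper23.QCohLocal.isQuasicoherent_pushforward j _
  exact Groth.Agent.Helper18OmLS.isIso_of_bijective_app_cover _
    (fun i : X.affineOpens => (i : X.Opens)) (iSup_affineOpens_eq_top X) (fun i => i.2)
    (fun i => quotMap_app_bijective φ j z hsq M hφ i.2)

/-- `M / (ker φ) M ≅ j_* j^* M`. -/
noncomputable def quotIso : Q (RingHom.ker φ) M ≅
    (Scheme.Modules.pushforward j).obj ((Scheme.Modules.pullback j).obj M) :=
  haveI := isIso_quotMap φ j z hsq M hφ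
  asIso (quotMap φ j z hsq M)

include hsq hφ in
/-- vanishing of the cohomology of the base change gives vanishing of `H^q(X, M/(ker φ)M)`. -/
theorem subsingleton_HH_Q_of_fibre (q : ℕ)
    (h : Subsingleton (Coh.HH Z ((Scheme.Modules.pullback j).obj M) q)) :
    Subsingleton (Coh.HH X (Q (RingHom.ker φ) M) q) := by
  haveI := isClosedImmersion_of_surjective φ j z hsq hφ
  have h1 := Groth.Agent.Lib.Helper17.FinClosed.subsingleton_HH_push_of_closedImmersion j
    ((Scheme.Modules.pullback j).obj M) q h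
  exact subsingleton_HH_of_iso' (quotIso φ j z hsq M hφ).symm q h1

end main

end Groth.Agent.Lib.Helper17.FlatDev
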