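import Mathlib

/-!
# Helper17: `lim Hom(P, Q)/𝔞^{n+1} ≃ lim Hom(P, Q/𝔞^{n+1}Q)` for finite modules over a Noetherian ring
-/

set_option autoImplicit false
universe u v w

namespace Groth.Agent.Lib.Helper17.AdicHom

variable {R : Type u} [CommRing R]

section pi

variable {κ : Type*} [Fintype κ] [DecidableEq κ] {Q : Type v} [AddCommGroup Q] [Module R Q]

theorem pi_mem_smul_top (J : Ideal R) (y : κ → Q) (hy : ∀ i, y i ∈ J • (⊤ : Submodule R Q)) :
    y ∈ J • (⊤ : Submodule R (κ → Q)) := by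
  have h0 : y = ∑ i, LinearMap.single R (fun _ => Q) i (y i) := by
    ext j
    simp [Finset.sum_apply, Pi.single_apply]
  rw [h0]
  refine Submodule.sum_mem _ fun i _ => ?_
  have h1 : (J • (⊤ : Submodule R Q)).map (LinearMap.single R (fun _ => Q) i) ≤ J • ⊤ := by
    rw [Submodule.map_smul'']
    exact Submodule.smul_mono le_rfl le_top
  exact h1 (Submodule.mem_map_of_mem (hy i))

theorem apply_mem_smul_top (J : Ideal R) (y : κ → Q) (hy : y ∈ J • (⊤ : Submodule R (κ → Q)))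
    (i : κ) : y i ∈ J • (⊤ : Submodule R Q) := by
  have h1 : (J • (⊤ : Submodule R (κ → Q))).map (LinearMap.proj (φ := fun _ => Q) i) ≤ J • ⊤ := by
    rw [Submodule.map_smul'']
    exact Submodule.smul_mono le_rfl le_top
  exact h1 (Submodule.mem_map_of_mem hy)

end pi

section AR

variable [IsNoetherianRing R] (𝔞 : Ideal R) {M : Type v} [AddCommGroup M] [Module R M]
  [Module.Finite R M]

/-- Artin–Rees, in the form used here. -/
theorem exists_ar (N : Submodule R M) :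
    ∃ c : ℕ, ∀ n : ℕ, 𝔞 ^ (n + c) • (⊤ : Submodule R M) ⊓ N ≤ 𝔞 ^ n • N := by
  obtain ⟨k, hk⟩ := 𝔞.exists_pow_inf_eq_pow_smul N
  refine ⟨k, fun n => ?_⟩
  rw [hk (n + k) (Nat.le_add_left _ _), Nat.add_sub_cancel]
  exact Submodule.smul_mono le_rfl inf_le_right

end AR

section pres

/-- a finite presentation of `P` by generators and relations. -/
structure Pres (R : Type u) [CommRing R] (P : Type v) [AddCommGroup P] [Module R P] where
  b : ℕ
  a : ℕ
  e : (Fin b → R) →ₗ[R] P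
  k : Fin a → (Fin b → R)
  he : Function.Surjective e
  hk : Submodule.span R (Set.range k) = LinearMap.ker e

variable {P : Type v} [AddCommGroup P] [Module R P]

theorem nonempty_pres [IsNoetherianRing R] [Module.Finite R P] : Nonempty (Pres R P) := by
  obtain ⟨b, e, he⟩ := Module.Finite.exists_fin' R P
  have hfg : (LinearMap.ker e).FG := IsNoetherian.noetherian _
  obtain ⟨a, k, hk⟩ := Submodule.fg_iff_exists_fin_generating_family.1 hfg
  exact ⟨⟨b, a, e, k, he, hk⟩⟩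

variable (pr : Pres R P)

/-- the standard generators of `R^b`. -/
def Pres.δ (i : Fin pr.b) : Fin pr.b → R := Pi.single i 1

theorem Pres.eq_sum (r : Fin pr.b → R) : r = ∑ i, r i • pr.δ i := by
  ext j
  simp [Pres.δ, Finset.sum_apply, Pi.single_apply]

theorem Pres.map_eq_sum {Q : Type w} [AddCommGroup Q] [Module R Q] (g : (Fin pr.b → R) →ₗ[R] Q)
    (r : Fin pr.b → R) : g r = ∑ i, r i • g (pr.δ i) := by
  conv_lhs => rw [pr.eq_sum r]
  rw [map_sum]
  exact Finset.sum_congr rfl fun i _ => map_smul g _ _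

variable (Q : Type w) [AddCommGroup Q] [Module R Q]

/-- values on the generators. -/
def Pres.ι : (P →ₗ[R] Q) →ₗ[R] (Fin pr.b → Q) where
  toFun h i := h (pr.e (pr.δ i))
  map_add' _ _ := rfl
  map_smul' _ _ := rfl

/-- the relations. -/
def Pres.d : (Fin pr.b → Q) →ₗ[R] (Fin pr.a → Q) where
  toFun y j := ∑ i, pr.k j i • y i
  map_add' y y' := by
    ext j
    simp [smul_add, Finset.sum_add_distrib]
  map_smul' r y := by
    ext j
    simp only [Pi.smul_apply, RingHom.id_apply, Finset.smul_sum]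
    exact Finset.sum_congr rfl fun i _ => smul_comm _ _ _

variable {Q}

theorem Pres.ι_apply (h : P →ₗ[R] Q) (i : Fin pr.b) : pr.ι Q h i = h (pr.e (pr.δ i)) := rfl

theorem Pres.d_apply (y : Fin pr.b → Q) (j : Fin pr.a) : pr.d Q y j = ∑ i, pr.k j i • y i := rfl

theorem Pres.comp_e_apply (h : P →ₗ[R] Q) (r : Fin pr.b → R) :
    h (pr.e r) = ∑ i, r i • pr.ι Q h i :=
  pr.map_eq_sum (h ∘ₗ pr.e) r

theorem Pres.ι_injective : Function.Injective (pr.ι Q) := by
  intro h h' hh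
  apply LinearMap.ext
  intro x
  obtain ⟨r, rfl⟩ := pr.he x
  rw [pr.comp_e_apply, pr.comp_e_apply, hh]

theorem Pres.k_mem (j : Fin pr.a) : pr.e (pr.k j) = 0 := by
  have h : pr.k j ∈ LinearMap.ker pr.e := by
    rw [← pr.hk]
    exact Submodule.subset_span ⟨j, rfl⟩
  exact h

theorem Pres.d_ι (h : P →ₗ[R] Q) : pr.d Q (pr.ι Q h) = 0 := by
  ext j
  rw [pr.d_apply, ← pr.comp_e_apply, pr.k_mem, map_zero]
  rfl

/-- the linear map `R^b → Q` with prescribed values on the generators. -/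
def Pres.ofVals (y : Fin pr.b → Q) : (Fin pr.b → R) →ₗ[R] Q where
  toFun r := ∑ i, r i • y i
  map_add' r r' := by simp [add_smul, Finset.sum_add_distrib]
  map_smul' c r := by simp [Finset.smul_sum, mul_smul]

theorem Pres.exists_of_d_eq_zero (y : Fin pr.b → Q) (hy : pr.d Q y = 0) :
    ∃ h : P →ₗ[R] Q, pr.ι Q h = y := by
  have hK : LinearMap.ker pr.e ≤ LinearMap.ker (pr.ofVals y) := by
    rw [← pr.hk, Submodule.span_le]
    rintro _ ⟨j, rfl⟩
    exact congrFun hy j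
  refine ⟨(LinearMap.ker pr.e).liftQ (pr.ofVals y) hK ∘ₗ
    (pr.e.quotKerEquivOfSurjective pr.he).symm.toLinearMap, ?_⟩
  ext i
  have h1 : (pr.e.quotKerEquivOfSurjective pr.he).symm (pr.e (pr.δ i)) =
      Submodule.Quotient.mk (pr.δ i) := by
    rw [LinearEquiv.symm_apply_eq]
    rfl
  change (LinearMap.ker pr.e).liftQ (pr.ofVals y) hK
    ((pr.e.quotKerEquivOfSurjective pr.he).symm (pr.e (pr.δ i))) = y i
  rw [h1, Submodule.liftQ_apply]
  change ∑ i', pr.δ i i' • y i' = y i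
  simp [Pres.δ, Pi.single_apply]

theorem Pres.ι_comp {Q' : Type w} [AddCommGroup Q'] [Module R Q'] (q : Q →ₗ[R] Q')
    (h : P →ₗ[R] Q) (i : Fin pr.b) : pr.ι Q' (q ∘ₗ h) i = q (pr.ι Q h i) := rfl

theorem Pres.d_comp {Q' : Type w} [AddCommGroup Q'] [Module R Q'] (q : Q →ₗ[R] Q')
    (y : Fin pr.b → Q) (j : Fin pr.a) : pr.d Q' (fun i => q (y i)) j = q (pr.d Q y j) := by
  rw [pr.d_apply, pr.d_apply, map_sum]
  exact Finset.sum_congr rfl fun i _ => (map_smul q _ _).symm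

end pres

section main

variable [IsNoetherianRing R] (𝔞 : Ideal R)
  {P : Type v} [AddCommGroup P] [Module R P] [Module.Finite R P]
  {Qm : Type w} [AddCommGroup Qm] [Module R Qm] [Module.Finite R Qm]

theorem existsUnique_lim
    (T : ℕ → Type*) [∀ n, AddCommGroup (T n)]
    (p : ∀ n, (P →ₗ[R] Qm) →+ T n) (hp : ∀ n, Function.Surjective (p n))
    (hpk : ∀ n h, h ∈ 𝔞 ^ (n + 1) • (⊤ : Submodule R (P →ₗ[R] Qm)) → p n h = 0)
    (u : ∀ n, T (n + 1) → T n) (hu : ∀ n h, u n (p (n + 1) h) = p n h)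
    (Qn : ℕ → Type w) [∀ n, AddCommGroup (Qn n)] [∀ n, Module R (Qn n)]
    (q : ∀ n, Qm →ₗ[R] Qn n) (hq : ∀ n, Function.Surjective (q n))
    (hqk : ∀ n x, q n x = 0 ↔ x ∈ 𝔞 ^ (n + 1) • (⊤ : Submodule R Qm))
    (v : ∀ n, Qn (n + 1) →ₗ[R] Qn n) (hv : ∀ n x, v n (q (n + 1) x) = q n x)
    (θ : ∀ n, T n → (P →ₗ[R] Qn n)) (hθ : ∀ n h, θ n (p n h) = q n ∘ₗ h)
    (s : ∀ n, P →ₗ[R] Qn n) (hs : ∀ n, v n ∘ₗ s (n + 1) = s n) :
    ∃! t : ∀ n, T n, (∀ n, u n (t (n + 1)) = t n) ∧ ∀ n, θ n (t n) = s n := by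
  obtain ⟨pr⟩ := nonempty_pres (R := R) (P := P)
  obtain ⟨c₁, hc₁⟩ := exists_ar 𝔞 (LinearMap.range (pr.ι Qm))
  obtain ⟨c₂, hc₂⟩ := exists_ar 𝔞 (LinearMap.range (pr.d Qm))
  -- A1
  have A1 : ∀ (n : ℕ) (h : P →ₗ[R] Qm), (∀ x, h x ∈ 𝔞 ^ (n + c₁) • (⊤ : Submodule R Qm)) →
      h ∈ 𝔞 ^ n • (⊤ : Submodule R (P →ₗ[R] Qm)) := by
    intro n h hh
    have h1 : pr.ι Qm h ∈ 𝔞 ^ (n + c₁) • (⊤ : Submodule R (Fin pr.b → Qm)) ⊓
        LinearMap.range (pr.ι Qm) :=
      ⟨pi_mem_smul_top _ _ (fun i => hh _), ⟨h, rfl⟩⟩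
    have h2 := hc₁ n h1
    rw [LinearMap.range_eq_map, ← Submodule.map_smul''] at h2
    obtain ⟨h', hh', e⟩ := h2
    have := pr.ι_injective e
    rw [← this]
    exact hh'
  -- A2
  have A2 : ∀ (n : ℕ) (y : Fin pr.b → Qm),
      pr.d Qm y ∈ 𝔞 ^ (n + c₂) • (⊤ : Submodule R (Fin pr.a → Qm)) →
      ∃ h : P →ₗ[R] Qm, pr.ι Qm h - y ∈ 𝔞 ^ n • (⊤ : Submodule R (Fin pr.b → Qm)) := by
    intro n y hy
    have h1 : pr.d Qm y ∈ 𝔞 ^ (n + c₂) • (⊤ : Submodule R (Fin pr.a → Qm)) ⊓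
        LinearMap.range (pr.d Qm) := ⟨hy, ⟨y, rfl⟩⟩
    have h2 := hc₂ n h1
    rw [LinearMap.range_eq_map, ← Submodule.map_smul''] at h2
    obtain ⟨z, hz, e⟩ := h2
    have h3 : pr.d Qm (y - z) = 0 := by rw [map_sub, e, sub_self]
    obtain ⟨h, hh⟩ := pr.exists_of_d_eq_zero (y - z) h3
    refine ⟨h, ?_⟩
    rw [hh, sub_sub_cancel_left]
    exact Submodule.neg_mem _ hz
  -- transport along the transition maps
  have Lq : ∀ (k n : ℕ) (x : Qm) (z : P), q (n + k) x = s (n + k) z → q n x = s n z := by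
    intro k
    induction k with
    | zero => intro n x z h; exact h
    | succ k ih =>
      intro n x z h
      apply ih
      have h0 : q (n + k + 1) x = s (n + k + 1) z := h
      have h1 := congrArg (v (n + k)) h0
      rw [hv] at h1
      rw [h1, ← hs (n + k)]
      rfl
  have Lt : ∀ (k n : ℕ) (t : ∀ n, T n), (∀ n, u n (t (n + 1)) = t n) → ∀ h : P →ₗ[R] Qm,
      t (n + k) = p (n + k) h → t n = p n h := by
    intro k
    induction k with
    | zero => intro n t _ h e; exact e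
    | succ k ih =>
      intro n t ht h e
      apply ih n t ht
      rw [← ht (n + k)]
      have e' : t (n + k + 1) = p (n + k + 1) h := e
      rw [e', hu]
  -- A3
  have A3 : ∀ n : ℕ, ∃ h : P →ₗ[R] Qm, q n ∘ₗ h = s n := by
    intro n
    choose y hy using fun i => hq (n + c₂) (s (n + c₂) (pr.e (pr.δ i)))
    have hd : ∀ j, pr.d Qm y j ∈ 𝔞 ^ (n + c₂ + 1) • (⊤ : Submodule R Qm) := by
      intro j
      rw [← hqk, ← pr.d_comp (q (n + c₂)) y j]
      have h1 : (fun i => q (n + c₂) (y i)) = pr.ι (Qn (n + c₂)) (s (n + c₂)) := by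
        funext i
        exact hy i
      rw [h1]
      exact congrFun (pr.d_ι (s (n + c₂))) j
    have hd' : pr.d Qm y ∈ 𝔞 ^ (n + 1 + c₂) • (⊤ : Submodule R (Fin pr.a → Qm)) := by
      have e : n + 1 + c₂ = n + c₂ + 1 := by omega
      rw [e]
      exact pi_mem_smul_top _ _ hd
    obtain ⟨h, hh⟩ := A2 (n + 1) y hd'
    refine ⟨h, ?_⟩
    apply LinearMap.ext
    intro x
    obtain ⟨r, rfl⟩ := pr.he x
    rw [LinearMap.comp_apply, pr.comp_e_apply h r, map_sum, pr.comp_e_apply (s n) r]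
    refine Finset.sum_congr rfl fun i _ => ?_
    rw [map_smul]
    congr 1
    have h3 : pr.ι Qm h i - y i ∈ 𝔞 ^ (n + 1) • (⊤ : Submodule R Qm) :=
      apply_mem_smul_top _ _ hh i
    have h4 : q n (pr.ι Qm h i) = q n (y i) := by
      rw [← sub_eq_zero, ← map_sub, hqk]
      exact h3
    rw [h4]
    exact Lq c₂ n (y i) (pr.e (pr.δ i)) (hy i)
  -- the difference of two lifts
  have A4 : ∀ (n : ℕ) (h h' : P →ₗ[R] Qm), q (n + c₁) ∘ₗ h = q (n + c₁) ∘ₗ h' →
      p n h = p n h' := by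
    intro n h h' e
    have h1 : h - h' ∈ 𝔞 ^ (n + 1) • (⊤ : Submodule R (P →ₗ[R] Qm)) := by
      apply A1
      intro x
      have e1 : n + 1 + c₁ = n + c₁ + 1 := by omega
      rw [e1, ← hqk, LinearMap.sub_apply, map_sub, sub_eq_zero]
      exact LinearMap.congr_fun e x
    have h2 := hpk n _ h1
    rw [map_sub, sub_eq_zero] at h2
    exact h2
  have Lhom : ∀ (k n : ℕ) (h : P →ₗ[R] Qm), q (n + k) ∘ₗ h = s (n + k) → q n ∘ₗ h = s n := by
    intro k n h e
    apply LinearMap.ext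
    intro z
    exact Lq k n (h z) z (LinearMap.congr_fun e z)
  choose hl hhl using fun n => A3 (n + c₁)
  refine ⟨fun n => p n (hl n), ⟨fun n => ?_, fun n => ?_⟩, ?_⟩
  · rw [hu]
    apply A4
    rw [hhl n]
    exact Lhom 1 (n + c₁) (hl (n + 1)) (by
      have e : n + c₁ + 1 = n + 1 + c₁ := by omega
      rw [e]
      exact hhl (n + 1))
  · rw [hθ]
    exact Lhom c₁ n (hl n) (hhl n)
  · rintro t ⟨ht1, ht2⟩
    funext n
    obtain ⟨h, hh⟩ := hp (n + c₁) (t (n + c₁))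
    have e1 : t n = p n h := Lt c₁ n t ht1 h hh.symm
    rw [e1]
    apply A4
    rw [hhl n, ← ht2 (n + c₁), ← hh, hθ]

end main

end Groth.Agent.Lib.Helper17.AdicHom
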