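import Mathlib

/-!
# Helper21: the presheaf `W ↦ Hom(yU × yW, T)` of families, and its sheaf property
(for the ModSite pull rows S9098 ff.)
-/

set_option autoImplicit false
universe u
open CategoryTheory CategoryTheory.Limits Opposite

namespace Groth.Agent.Lib.Helper21.HomU

variable {C : Type u} [SmallCategory C]

/-- families `(V, b : V ⟶ U, a : V ⟶ W) ↦ T(V)` compatible with restriction: the elements of
`Hom(yU × yW, T)`. -/
@[ext]
structure Fam (U : C) (T : Cᵒᵖ ⥤ Type u) (W : C) where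
  val : ∀ (V : C), (V ⟶ U) → (V ⟶ W) → T.obj (op V)
  compat : ∀ {V' V : C} (g : V' ⟶ V) (b : V ⟶ U) (a : V ⟶ W),
    T.map g.op (val V b a) = val V' (g ≫ b) (g ≫ a)

/-- restriction of families along `h : W' ⟶ W`. -/
def Fam.res {U : C} {T : Cᵒᵖ ⥤ Type u} {W W' : C} (h : W' ⟶ W) (m : Fam U T W) : Fam U T W' where
  val V b a := m.val V b (a ≫ h)
  compat g b a := by
    rw [m.compat g b (a ≫ h), Category.assoc]

/-- the presheaf of families. -/
def famT (U : C) (T : Cᵒᵖ ⥤ Type u) : Cᵒᵖ ⥤ Type u where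
  obj W := Fam U T W.unop
  map h := ↾(Fam.res h.unop)
  map_id W := by
    ext m V b a
    change m.val V b (a ≫ 𝟙 _) = m.val V b a
    rw [Category.comp_id]
  map_comp h k := by
    ext m V b a
    change m.val V b (a ≫ (k.unop ≫ h.unop)) = m.val V b ((a ≫ k.unop) ≫ h.unop)
    rw [Category.assoc]

theorem famT_map_val (U : C) (T : Cᵒᵖ ⥤ Type u) {W W' : Cᵒᵖ} (h : W ⟶ W') (m : Fam U T W.unop)
    (V : C) (b : V ⟶ U) (a : V ⟶ W'.unop) :
    ((famT U T).map h m : Fam U T W'.unop).val V b a = m.val V b (a ≫ h.unop) := rfl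

variable (J : GrothendieckTopology C)

/-- the presheaf of families of a sheaf is a sheaf. -/
theorem famT_isSheaf (U : C) (T : Cᵒᵖ ⥤ Type u) (hT : Presieve.IsSheaf J T) :
    Presieve.IsSheaf J (famT U T) := by
  intro W S hS x hx
  have hval : ∀ {Y V : C} (f f' : Y ⟶ W) (hf : S f) (hf' : S f') (_ : f = f')
      (b b' : V ⟶ U) (_ : b = b') (a a' : V ⟶ Y) (_ : a = a'),
      (x f hf).val V b a = (x f' hf').val V b' a' := by
    intro Y V f f' hf hf' e b b' eb a a' ea
    subst e eb ea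
    rfl
  have xres : ∀ {Y Y' : C} (f : Y ⟶ W) (hf : S f) (g : Y' ⟶ Y),
      x (g ≫ f) (S.downward_closed hf g) = Fam.res g (x f hf) :=
    fun f hf g => Presieve.FamilyOfElements.comp_of_compatible S hx hf g
  have xres' : ∀ {Y Y' V : C} (f : Y ⟶ W) (hf : S f) (g : Y' ⟶ Y) (b : V ⟶ U) (a : V ⟶ Y'),
      (x (g ≫ f) (S.downward_closed hf g)).val V b a = (x f hf).val V b (a ≫ g) := by
    intro Y Y' V f hf g b a
    rw [xres f hf g]
    rfl
  let y : ∀ (V : C) (b : V ⟶ U) (a : V ⟶ W),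
      Presieve.FamilyOfElements T (S.pullback a).arrows :=
    fun V b a V' g hg => (x (g ≫ a) hg).val V' (g ≫ b) (𝟙 V')
  have hy : ∀ V b a, (y V b a).Compatible := by
    intro V b a Y₁ Y₂ Z g₁ g₂ f₁ f₂ h₁ h₂ e
    change T.map g₁.op ((x (f₁ ≫ a) h₁).val Y₁ (f₁ ≫ b) (𝟙 Y₁)) =
      T.map g₂.op ((x (f₂ ≫ a) h₂).val Y₂ (f₂ ≫ b) (𝟙 Y₂))
    rw [(x (f₁ ≫ a) h₁).compat, (x (f₂ ≫ a) h₂).compat]
    have e1 := xres' (f₁ ≫ a) h₁ g₁ (g₁ ≫ f₁ ≫ b) (𝟙 Z)
    have e2 := xres' (f₂ ≫ a) h₂ g₂ (g₂ ≫ f₂ ≫ b) (𝟙 Z)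
    rw [Category.id_comp] at e1 e2
    rw [Category.comp_id, Category.comp_id, ← e1, ← e2]
    apply hval
    · rw [← Category.assoc, e, Category.assoc]
    · rw [← Category.assoc, e, Category.assoc]
    · rfl
  have hpb : ∀ {V : C} (a : V ⟶ W), Presieve.IsSheafFor T (S.pullback a).arrows :=
    fun a => hT _ (J.pullback_stable a hS)
  let m : Fam U T W :=
    { val := fun V b a => (hpb a).amalgamate (y V b a) (hy V b a)
      compat := by
        intro V' V g b a
        apply (hpb (g ≫ a)).isSeparatedFor.ext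
        intro V'' k hk
        have hk' : (S.pullback a).arrows (k ≫ g) := by
          change S ((k ≫ g) ≫ a)
          rw [Category.assoc]
          exact hk
        rw [← Functor.map_comp_apply, ← op_comp,
          (hpb a).valid_glue (hy V b a) (k ≫ g) hk',
          (hpb (g ≫ a)).valid_glue (hy V' (g ≫ b) (g ≫ a)) k hk]
        change (x ((k ≫ g) ≫ a) _).val V'' ((k ≫ g) ≫ b) (𝟙 V'') =
          (x (k ≫ g ≫ a) _).val V'' (k ≫ g ≫ b) (𝟙 V'')
        apply hval
        · rw [Category.assoc]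
        · rw [Category.assoc]
        · rfl }
  refine ⟨m, ?_, ?_⟩
  · intro Y f hf
    change (famT U T).map f.op m = x f hf
    apply Fam.ext
    funext V b a
    change m.val V b (a ≫ f) = (x f hf).val V b a
    have h1 : (S.pullback (a ≫ f)).arrows (𝟙 V) := by
      change S (𝟙 V ≫ a ≫ f)
      rw [Category.id_comp]
      exact S.downward_closed hf a
    have h2 := (hpb (a ≫ f)).valid_glue (hy V b (a ≫ f)) (𝟙 V) h1
    rw [op_id, Functor.map_id_apply] at h2
    change m.val V b (a ≫ f) = _ at h2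
    rw [h2]
    change (x (𝟙 V ≫ a ≫ f) _).val V (𝟙 V ≫ b) (𝟙 V) = _
    have h3 := xres' f hf a b (𝟙 V)
    rw [Category.id_comp] at h3
    rw [← h3]
    apply hval
    · rw [Category.id_comp]
    · rw [Category.id_comp]
    · rfl
  · intro m' hm'
    apply Fam.ext
    funext V b a
    apply (hpb a).isSeparatedFor.ext
    intro V' k hk
    have h1 : T.map k.op (m.val V b a) = (x (k ≫ a) hk).val V' (k ≫ b) (𝟙 V') :=
      (hpb a).valid_glue (hy V b a) k hk
    rw [h1, m'.compat]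
    have h2 : (famT U T).map (k ≫ a).op m' = x (k ≫ a) hk := hm' (k ≫ a) hk
    have h3 := congrArg (fun z : Fam U T V' => z.val V' (k ≫ b) (𝟙 V')) h2
    change m'.val V' (k ≫ b) (𝟙 V' ≫ k ≫ a) = _ at h3
    rw [Category.id_comp] at h3
    exact h3

end Groth.Agent.Lib.Helper21.HomU
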