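import Mathlib
import Groth.Agent.Lib.Helper21HomU1

/-!
# Helper21: the sheaf of modules `W ↦ Hom(yU × yW, G)` (`= Hom(j_! O_U, G)`)
(for the ModSite pull rows S9098 ff.)
-/

set_option autoImplicit false
universe u
open CategoryTheory CategoryTheory.Limits Opposite

namespace Groth.Agent.Lib.Helper21.HomU

noncomputable section

variable {C : Type u} [SmallCategory C] {J : GrothendieckTopology C} {R : Sheaf J RingCat.{u}}

/-- module-valued families. -/
@[ext]
structure FamM (U : C) (G : SheafOfModules.{u} R) (W : C) where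
  val : ∀ (V : C), (V ⟶ U) → (V ⟶ W) → G.val.obj (op V)
  compat : ∀ {V' V : C} (g : V' ⟶ V) (b : V ⟶ U) (a : V ⟶ W),
    G.val.map g.op (val V b a) = val V' (g ≫ b) (g ≫ a)

namespace FamM

variable {U : C} {G : SheafOfModules.{u} R} {W : C}

instance : Zero (FamM U G W) := ⟨⟨fun _ _ _ => 0, fun g _ _ => map_zero _⟩⟩

instance : Add (FamM U G W) :=
  ⟨fun m n => ⟨fun V b a => m.val V b a + n.val V b a, fun g b a => by
    rw [map_add, m.compat, n.compat]
    rfl⟩⟩

instance : Neg (FamM U G W) :=
  ⟨fun m => ⟨fun V b a => -m.val V b a, fun g b a => by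
    rw [map_neg, m.compat]
    rfl⟩⟩

instance : Sub (FamM U G W) :=
  ⟨fun m n => ⟨fun V b a => m.val V b a - n.val V b a, fun g b a => by
    rw [map_sub, m.compat, n.compat]
    rfl⟩⟩

instance : SMul ℕ (FamM U G W) :=
  ⟨fun k m => ⟨fun V b a => k • m.val V b a, fun g b a => by
    rw [map_nsmul, m.compat]
    rfl⟩⟩

instance : SMul ℤ (FamM U G W) :=
  ⟨fun k m => ⟨fun V b a => k • m.val V b a, fun g b a => by
    rw [map_zsmul, m.compat]
    rfl⟩⟩

theorem val_injective : Function.Injective (fun m : FamM U G W => m.val) :=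
  fun _ _ h => FamM.ext h

instance : AddCommGroup (FamM U G W) :=
  Function.Injective.addCommGroup (fun m : FamM U G W => m.val) val_injective rfl
    (fun _ _ => rfl) (fun _ => rfl) (fun _ _ => rfl) (fun _ _ => rfl) (fun _ _ => rfl)

@[simp] theorem zero_val (V : C) (b : V ⟶ U) (a : V ⟶ W) : (0 : FamM U G W).val V b a = 0 := rfl
@[simp] theorem add_val (m n : FamM U G W) (V : C) (b : V ⟶ U) (a : V ⟶ W) :
    (m + n).val V b a = m.val V b a + n.val V b a := rfl

instance : SMul (R.obj.obj (op W)) (FamM U G W) :=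
  ⟨fun r m => ⟨fun V b a => (R.obj.map a.op r : R.obj.obj (op V)) • m.val V b a, fun g b a => by
    rw [PresheafOfModules.map_smul, m.compat]
    congr 1
    rw [op_comp, Functor.map_comp]
    rfl⟩⟩

@[simp] theorem smul_val (r : R.obj.obj (op W)) (m : FamM U G W) (V : C) (b : V ⟶ U)
    (a : V ⟶ W) : (r • m).val V b a = (R.obj.map a.op r : R.obj.obj (op V)) • m.val V b a := rfl

instance : Module (R.obj.obj (op W)) (FamM U G W) where
  one_smul m := by
    ext V b a
    rw [smul_val, map_one, one_smul]
  mul_smul r s m := by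
    ext V b a
    rw [smul_val, smul_val, smul_val, map_mul, mul_smul]
  smul_zero r := by
    ext V b a
    rw [smul_val, zero_val, smul_zero]
  smul_add r m n := by
    ext V b a
    rw [smul_val, add_val, add_val, smul_val, smul_val, smul_add]
  add_smul r s m := by
    ext V b a
    rw [smul_val, add_val, smul_val, smul_val, map_add, add_smul]
  zero_smul m := by
    ext V b a
    rw [smul_val, zero_val, map_zero, zero_smul]

/-- restriction along `h : W' ⟶ W`. -/
def res {W' : C} (h : W' ⟶ W) (m : FamM U G W) : FamM U G W' where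
  val V b a := m.val V b (a ≫ h)
  compat g b a := by
    rw [m.compat g b (a ≫ h), Category.assoc]

@[simp] theorem res_val {W' : C} (h : W' ⟶ W) (m : FamM U G W) (V : C) (b : V ⟶ U)
    (a : V ⟶ W') : (res h m).val V b a = m.val V b (a ≫ h) := rfl

/-- restriction as an additive map. -/
def resHom {W' : C} (h : W' ⟶ W) : FamM U G W →+ FamM U G W' where
  toFun := res h
  map_zero' := rfl
  map_add' _ _ := rfl

end FamM

section sheaf

variable (U : C) (G : SheafOfModules.{u} R)

/-- underlying presheaf of abelian groups of `W ↦ Hom(yU × yW, G)`. -/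
def homUPre : Cᵒᵖ ⥤ AddCommGrpCat.{u} where
  obj W := AddCommGrpCat.of (FamM U G W.unop)
  map h := AddCommGrpCat.ofHom (FamM.resHom h.unop)
  map_id W := by
    ext m V b a
    change m.val V b (a ≫ 𝟙 _) = m.val V b a
    rw [Category.comp_id]
  map_comp h k := by
    ext m V b a
    change m.val V b (a ≫ (k.unop ≫ h.unop)) = m.val V b ((a ≫ k.unop) ≫ h.unop)
    rw [Category.assoc]

instance (X : Cᵒᵖ) : Module (R.obj.obj X) ((homUPre U G).obj X) :=
  inferInstanceAs (Module (R.obj.obj (op X.unop)) (FamM U G X.unop))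

/-- the presheaf of modules `W ↦ Hom(yU × yW, G)`. -/
noncomputable def homUPM : PresheafOfModules.{u} R.obj :=
  PresheafOfModules.ofPresheaf (homUPre U G) (fun X Y f r m => by
    apply FamM.ext
    funext V b a
    change (R.obj.map (a ≫ f.unop).op r : R.obj.obj (op V)) • FamM.val m V b (a ≫ f.unop) =
      (R.obj.map a.op (R.obj.map f r) : R.obj.obj (op V)) • FamM.val m V b (a ≫ f.unop)
    congr 1
    rw [op_comp, Functor.map_comp]
    rfl)

/-- underlying presheaf of types of a sheaf of modules -/
abbrev tP (G : SheafOfModules.{u} R) : Cᵒᵖ ⥤ Type u :=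
  G.val.presheaf ⋙ forget AddCommGrpCat.{u}

theorem tP_isSheaf (G : SheafOfModules.{u} R) : Presieve.IsSheaf J (tP G) :=
  (isSheaf_iff_isSheaf_of_type _ _).1
    ((Presheaf.isSheaf_iff_isSheaf_forget J G.val.presheaf (forget AddCommGrpCat.{u})).1 G.isSheaf)

/-- families with values in `G` as families with values in the underlying presheaf of types. -/
def famEquiv (W : C) : FamM U G W ≃ Fam U (tP G) W where
  toFun m := ⟨m.val, m.compat⟩
  invFun m := ⟨m.val, m.compat⟩
  left_inv _ := rfl
  right_inv _ := rfl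

/-- `homUPre ⋙ forget ≅ famT`. -/
def homUPreForgetIso : homUPre U G ⋙ forget AddCommGrpCat.{u} ≅ famT U (tP G) :=
  NatIso.ofComponents (fun W => (famEquiv U G W.unop).toIso) (fun f => by
    ext m
    rfl)

theorem homUPre_isSheaf : Presheaf.IsSheaf J (homUPre U G) := by
  rw [Presheaf.isSheaf_iff_isSheaf_forget J (homUPre U G) (forget AddCommGrpCat.{u}),
    isSheaf_iff_isSheaf_of_type]
  exact Presieve.isSheaf_iso J (homUPreForgetIso U G).symm (famT_isSheaf J U (tP G) (tP_isSheaf G))

/-- the sheaf of modules `Hom(j_! O_U, G)`. -/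
noncomputable def homU : SheafOfModules.{u} R where
  val := homUPM U G
  isSheaf := homUPre_isSheaf U G

end sheaf

end

end Groth.Agent.Lib.Helper21.HomU
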