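import Mathlib
import Groth.Agent.Lib.Helper21HomU2

/-!
# Helper21: `Hom(A|_U, G|_U) ≃ Hom(A, Hom(j_! O_U, G))`
(for the ModSite pull rows S9098 ff.)
-/

set_option autoImplicit false
universe u
open CategoryTheory CategoryTheory.Limits Opposite

namespace Groth.Agent.Lib.Helper21.HomU

noncomputable section

variable {C : Type u} [SmallCategory C] {J : GrothendieckTopology C} {R : Sheaf J RingCat.{u}}

/-- restriction of sections as a plain function. -/
def rs (A : SheafOfModules.{u} R) {V V' : C} (g : V' ⟶ V) (x : A.val.obj (op V)) :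
    A.val.obj (op V') := (A.val.map g.op).hom x

/-- restriction of functions as a plain function. -/
def rsO (R : Sheaf J RingCat.{u}) {V V' : C} (g : V' ⟶ V) (r : R.obj.obj (op V)) :
    R.obj.obj (op V') := (R.obj.map g.op).hom r

section rs

variable (A : SheafOfModules.{u} R) {V V' V'' : C} (g : V' ⟶ V)

theorem rs_add (x y : A.val.obj (op V)) : rs A g (x + y) = rs A g x + rs A g y :=
  map_add (A.val.map g.op).hom x y

theorem rs_zero : rs A g (0 : A.val.obj (op V)) = 0 := map_zero (A.val.map g.op).hom

theorem rs_smul (r : R.obj.obj (op V)) (x : A.val.obj (op V)) :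
    rs A g (r • x) = rsO R g r • rs A g x := PresheafOfModules.map_smul A.val g.op r x

theorem rs_comp (h : V'' ⟶ V') (x : A.val.obj (op V)) : rs A (h ≫ g) x = rs A h (rs A g x) := by
  unfold rs
  rw [op_comp]
  exact PresheafOfModules.map_comp_apply A.val g.op h.op x

theorem rs_id (x : A.val.obj (op V)) : rs A (𝟙 V) x = x := by
  change (A.val.presheaf.map (𝟙 (op V))) x = x
  rw [A.val.presheaf.map_id]
  rfl

theorem rs_nat {A B : SheafOfModules.{u} R} (φ : A ⟶ B) (x : A.val.obj (op V)) :
    rs B g ((φ.val.app (op V)).hom x) = (φ.val.app (op V')).hom (rs A g x) :=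
  (PresheafOfModules.naturality_apply φ.val g.op x).symm

theorem rsO_comp (h : V'' ⟶ V') (r : R.obj.obj (op V)) : rsO R (h ≫ g) r = rsO R h (rsO R g r) := by
  unfold rsO
  rw [op_comp, R.obj.map_comp]
  rfl

theorem rsO_id (r : R.obj.obj (op V)) : rsO R (𝟙 V) r = r := by
  unfold rsO
  rw [op_id, R.obj.map_id]
  rfl

end rs

theorem FamM.compat' {U : C} {G : SheafOfModules.{u} R} {W : C} (m : FamM U G W) {V' V : C}
    (g : V' ⟶ V) (b : V ⟶ U) (a : V ⟶ W) : rs G g (m.val V b a) = m.val V' (g ≫ b) (g ≫ a) :=
  m.compat g b a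

theorem FamM.smul_val' {U : C} {G : SheafOfModules.{u} R} {W : C} (r : R.obj.obj (op W))
    (m : FamM U G W) (V : C) (b : V ⟶ U) (a : V ⟶ W) :
    (r • m).val V b a = rsO R a r • m.val V b a := rfl

variable (U : C) {A G : SheafOfModules.{u} R}

/-- a map `A|_U ⟶ G|_U` at the object `T` of `C/U`, as a plain function. -/
def appT (h : (SheafOfModules.overFunctor R U).obj A ⟶ (SheafOfModules.overFunctor R U).obj G)
    (T : Over U) (x : A.val.obj (op T.left)) : G.val.obj (op T.left) :=
  (h.val.app (op T)).hom x

variable {U}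

section appT

variable (h : (SheafOfModules.overFunctor R U).obj A ⟶ (SheafOfModules.overFunctor R U).obj G)
  (T : Over U)

theorem appT_add (x y : A.val.obj (op T.left)) : appT U h T (x + y) = appT U h T x + appT U h T y :=
  map_add (h.val.app (op T)).hom x y

theorem appT_zero : appT U h T (0 : A.val.obj (op T.left)) = 0 := map_zero (h.val.app (op T)).hom

theorem appT_smul (r : R.obj.obj (op T.left)) (x : A.val.obj (op T.left)) :
    appT U h T (r • x) = r • appT U h T x :=
  map_smul (h.val.app (op T)).hom (show (R.over U).obj.obj (op T) from r)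
    (show ((SheafOfModules.overFunctor R U).obj A).val.obj (op T) from x)

theorem appT_nat {T' : Over U} (φ : T' ⟶ T) (x : A.val.obj (op T.left)) :
    rs G φ.left (appT U h T x) = appT U h T' (rs A φ.left x) :=
  (PresheafOfModules.naturality_apply h.val φ.op x).symm

end appT

section equiv

variable (h : (SheafOfModules.overFunctor R U).obj A ⟶ (SheafOfModules.overFunctor R U).obj G)

/-- the family attached to a section `x` of `A` over `W` and a map `h : A|_U ⟶ G|_U`. -/
def famOfHom (W : C) (x : A.val.obj (op W)) : FamM U G W where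
  val V b a := appT U h (Over.mk b) (rs A a x)
  compat {V' V} g b a := by
    have h1 := appT_nat h (Over.mk b) (Over.homMk g : Over.mk (g ≫ b) ⟶ Over.mk b) (rs A a x)
    rw [rs_comp]
    exact h1

theorem famOfHom_val (W : C) (x : A.val.obj (op W)) (V : C) (b : V ⟶ U) (a : V ⟶ W) :
    (famOfHom h W x).val V b a = appT U h (Over.mk b) (rs A a x) := rfl

/-- `famOfHom` as an additive map. -/
def famAdd (W : C) : A.val.obj (op W) →+ FamM U G W where
  toFun := famOfHom h W
  map_zero' := by
    apply FamM.ext
    funext V b a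
    rw [famOfHom_val, rs_zero, appT_zero]
    rfl
  map_add' x y := by
    apply FamM.ext
    funext V b a
    rw [famOfHom_val, rs_add, appT_add]
    rfl

/-- `A ⟶ Hom(j_! O_U, G)` from `A|_U ⟶ G|_U`. -/
def toHomU : A ⟶ homU U G where
  val := PresheafOfModules.homMk (M₁ := A.val) (M₂ := homUPM U G)
    { app := fun W => AddCommGrpCat.ofHom (famAdd h W.unop)
      naturality := fun W W' k => by
        ext x
        apply FamM.ext
        funext V b a
        change appT U h (Over.mk b) (rs A a (rs A k.unop x)) =
          appT U h (Over.mk b) (rs A (a ≫ k.unop) x)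
        rw [rs_comp] }
    (fun W r x => by
      apply FamM.ext
      funext V b a
      change appT U h (Over.mk b) (rs A a (r • x)) = rsO R a r • appT U h (Over.mk b) (rs A a x)
      rw [rs_smul, appT_smul])

end equiv

/-- a map `A ⟶ Hom(j_! O_U, G)` on sections, as a plain function. -/
def kap (k : A ⟶ homU U G) (W : C) (x : A.val.obj (op W)) : FamM U G W :=
  (k.val.app (op W)).hom x

section kap

variable (k : A ⟶ homU U G) (W : C)

theorem kap_add (x y : A.val.obj (op W)) : kap k W (x + y) = kap k W x + kap k W y :=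
  map_add (k.val.app (op W)).hom x y

theorem kap_zero : kap k W (0 : A.val.obj (op W)) = 0 := map_zero (k.val.app (op W)).hom

theorem kap_smul (r : R.obj.obj (op W)) (x : A.val.obj (op W)) :
    kap k W (r • x) = r • kap k W x :=
  map_smul (k.val.app (op W)).hom r x

theorem kap_nat {W' : C} (g : W' ⟶ W) (x : A.val.obj (op W)) :
    kap k W' (rs A g x) = FamM.res g (kap k W x) :=
  PresheafOfModules.naturality_apply k.val g.op x

end kap

section inv

variable (k : A ⟶ homU U G)

/-- the map `A|_U ⟶ G|_U` on sections attached to `k : A ⟶ Hom(j_! O_U, G)`. -/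
def ofHomUFun (T : Over U) (x : A.val.obj (op T.left)) : G.val.obj (op T.left) :=
  (kap k T.left x).val T.left T.hom (𝟙 T.left)

theorem ofHomUFun_add (T : Over U) (x y : A.val.obj (op T.left)) :
    ofHomUFun k T (x + y) = ofHomUFun k T x + ofHomUFun k T y := by
  unfold ofHomUFun
  rw [kap_add]
  rfl

theorem ofHomUFun_zero (T : Over U) : ofHomUFun k T 0 = 0 := by
  unfold ofHomUFun
  rw [kap_zero]
  rfl

theorem ofHomUFun_smul (T : Over U) (r : R.obj.obj (op T.left)) (x : A.val.obj (op T.left)) :
    ofHomUFun k T (r • x) = r • ofHomUFun k T x := by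
  unfold ofHomUFun
  rw [kap_smul, FamM.smul_val', rsO_id]

theorem ofHomUFun_nat {T T' : Over U} (φ : T' ⟶ T) (x : A.val.obj (op T.left)) :
    ofHomUFun k T' (rs A φ.left x) = rs G φ.left (ofHomUFun k T x) := by
  unfold ofHomUFun
  rw [kap_nat, FamM.compat', FamM.res_val, Category.id_comp, Category.comp_id, Over.w]

/-- `A|_U ⟶ G|_U` from `A ⟶ Hom(j_! O_U, G)`. -/
def ofHomU : (SheafOfModules.overFunctor R U).obj A ⟶ (SheafOfModules.overFunctor R U).obj G where
  val := PresheafOfModules.homMk (M₁ := ((SheafOfModules.overFunctor R U).obj A).val)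
      (M₂ := ((SheafOfModules.overFunctor R U).obj G).val)
    { app := fun T => AddCommGrpCat.ofHom
        { toFun := fun x => ofHomUFun k T.unop x
          map_zero' := ofHomUFun_zero k T.unop
          map_add' := ofHomUFun_add k T.unop }
      naturality := fun T T' φ => by
        ext x
        exact ofHomUFun_nat k φ.unop x }
    (fun T r x => ofHomUFun_smul k T.unop r x)

theorem appT_ofHomU (T : Over U) (x : A.val.obj (op T.left)) :
    appT U (ofHomU k) T x = ofHomUFun k T x := rfl

end inv

theorem kap_toHomU (h : (SheafOfModules.overFunctor R U).obj A ⟶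
    (SheafOfModules.overFunctor R U).obj G) (W : C) (x : A.val.obj (op W)) :
    kap (toHomU h) W x = famOfHom h W x := rfl

/-- `Hom(A|_U, G|_U) ≃ Hom(A, Hom(j_! O_U, G))`. -/
def homUEquiv : ((SheafOfModules.overFunctor R U).obj A ⟶ (SheafOfModules.overFunctor R U).obj G) ≃
    (A ⟶ homU U G) where
  toFun := toHomU
  invFun := ofHomU
  left_inv h := by
    apply SheafOfModules.hom_ext
    apply PresheafOfModules.hom_ext
    intro T
    ext x
    change ofHomUFun (toHomU h) T.unop x = appT U h T.unop x
    unfold ofHomUFun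
    rw [kap_toHomU, famOfHom_val, rs_id]
    rfl
  right_inv k := by
    apply SheafOfModules.hom_ext
    apply PresheafOfModules.hom_ext
    intro W
    ext x
    change famOfHom (ofHomU k) W.unop x = kap k W.unop x
    apply FamM.ext
    funext V b a
    rw [famOfHom_val, appT_ofHomU]
    unfold ofHomUFun
    change (kap k V (rs A a x)).val V b (𝟙 V) = _
    rw [kap_nat, FamM.res_val, Category.id_comp]

end

end Groth.Agent.Lib.Helper21.HomU
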