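import Mathlib
import Groth.Prelude.Def_ModSite
import Groth.Agent.Lib.Helper21HomU3

/-!
# Helper21: the explicit internal hom `iHom F G` of sheaves of modules on a ringed site:
sections over `W` are the compatible families of linear maps `F(V) → G(V)`, `V → W`
(for the ModSite rows S6157, S6158, S6853)
-/

set_option autoImplicit false
universe u
open CategoryTheory CategoryTheory.Limits Opposite

namespace Groth.Agent.Lib.Helper21.HomI

open Groth.Agent.Lib.Helper21.HomU

noncomputable section

variable {C : Type u} [SmallCategory C] {J : GrothendieckTopology C} {O : Sheaf J CommRingCat.{u}}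

theorem rmul_comm (V : C) (r s : (ModSite.ringSh O).obj.obj (op V)) : r * s = s * r :=
  mul_comm (G := O.obj.obj (op V)) r s

theorem rs_neg (A : ModSite.Mod O) {V V' : C} (g : V' ⟶ V) (x : A.val.obj (op V)) :
    rs A g (-x) = -rs A g x := map_neg (A.val.map g.op).hom x

theorem rs_sub (A : ModSite.Mod O) {V V' : C} (g : V' ⟶ V) (x y : A.val.obj (op V)) :
    rs A g (x - y) = rs A g x - rs A g y := map_sub (A.val.map g.op).hom x y

theorem rs_nsmul (A : ModSite.Mod O) {V V' : C} (g : V' ⟶ V) (n : ℕ) (x : A.val.obj (op V)) :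
    rs A g (n • x) = n • rs A g x := map_nsmul (A.val.map g.op).hom n x

theorem rs_zsmul (A : ModSite.Mod O) {V V' : C} (g : V' ⟶ V) (n : ℤ) (x : A.val.obj (op V)) :
    rs A g (n • x) = n • rs A g x := map_zsmul (A.val.map g.op).hom n x

/-- compatible families of linear maps `F(V) → G(V)` for `V → W`: the sections of the internal hom
over `W`. -/
@[ext]
structure HomFam (F G : ModSite.Mod O) (W : C) where
  val : ∀ (V : C), (V ⟶ W) → F.val.obj (op V) → G.val.obj (op V)
  add : ∀ (V : C) (b : V ⟶ W) (x y : F.val.obj (op V)), val V b (x + y) = val V b x + val V b y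
  smul : ∀ (V : C) (b : V ⟶ W) (r : (ModSite.ringSh O).obj.obj (op V)) (x : F.val.obj (op V)),
    val V b (r • x) = r • val V b x
  compat : ∀ {V' V : C} (g : V' ⟶ V) (b : V ⟶ W) (x : F.val.obj (op V)),
    rs G g (val V b x) = val V' (g ≫ b) (rs F g x)

namespace HomFam

variable {F G : ModSite.Mod O} {W : C}

theorem zero' (h : HomFam F G W) (V : C) (b : V ⟶ W) : h.val V b 0 = 0 := by
  have := h.add V b 0 0
  rw [add_zero] at this
  exact left_eq_add.mp this

theorem neg' (h : HomFam F G W) (V : C) (b : V ⟶ W) (x : F.val.obj (op V)) :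
    h.val V b (-x) = -h.val V b x := by
  have := h.add V b x (-x)
  rw [add_neg_cancel, h.zero'] at this
  exact eq_neg_of_add_eq_zero_right this.symm

instance : Zero (HomFam F G W) :=
  ⟨⟨fun _ _ _ => 0, fun _ _ _ _ => (add_zero _).symm, fun _ _ _ _ => (smul_zero _).symm,
    fun g _ _ => rs_zero G g⟩⟩

instance : Add (HomFam F G W) :=
  ⟨fun h k => ⟨fun V b x => h.val V b x + k.val V b x,
    fun V b x y => by rw [h.add, k.add, add_add_add_comm],
    fun V b r x => by rw [h.smul, k.smul, smul_add],
    fun g b x => by rw [rs_add, h.compat, k.compat]⟩⟩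

instance : Neg (HomFam F G W) :=
  ⟨fun h => ⟨fun V b x => -h.val V b x,
    fun V b x y => by rw [h.add, neg_add],
    fun V b r x => by rw [h.smul, smul_neg],
    fun g b x => by rw [rs_neg, h.compat]⟩⟩

instance : Sub (HomFam F G W) :=
  ⟨fun h k => ⟨fun V b x => h.val V b x - k.val V b x,
    fun V b x y => by rw [h.add, k.add, add_sub_add_comm],
    fun V b r x => by rw [h.smul, k.smul, smul_sub],
    fun g b x => by rw [rs_sub, h.compat, k.compat]⟩⟩

instance : SMul ℕ (HomFam F G W) :=
  ⟨fun n h => ⟨fun V b x => n • h.val V b x,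
    fun V b x y => by rw [h.add, smul_add],
    fun V b r x => by rw [h.smul, smul_comm],
    fun g b x => by rw [rs_nsmul, h.compat]⟩⟩

instance : SMul ℤ (HomFam F G W) :=
  ⟨fun n h => ⟨fun V b x => n • h.val V b x,
    fun V b x y => by rw [h.add, smul_add],
    fun V b r x => by rw [h.smul, smul_comm],
    fun g b x => by rw [rs_zsmul, h.compat]⟩⟩

theorem val_injective : Function.Injective (fun h : HomFam F G W => h.val) :=
  fun _ _ e => HomFam.ext e

instance : AddCommGroup (HomFam F G W) :=
  Function.Injective.addCommGroup (fun h : HomFam F G W => h.val) val_injective rfl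
    (fun _ _ => rfl) (fun _ => rfl) (fun _ _ => rfl) (fun _ _ => rfl) (fun _ _ => rfl)

@[simp] theorem zero_val (V : C) (b : V ⟶ W) (x : F.val.obj (op V)) :
    (0 : HomFam F G W).val V b x = 0 := rfl
@[simp] theorem add_val (h k : HomFam F G W) (V : C) (b : V ⟶ W) (x : F.val.obj (op V)) :
    (h + k).val V b x = h.val V b x + k.val V b x := rfl

instance : SMul ((ModSite.ringSh O).obj.obj (op W)) (HomFam F G W) :=
  ⟨fun r h => ⟨fun V b x => rsO (ModSite.ringSh O) b r • h.val V b x,
    fun V b x y => by rw [h.add, smul_add],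
    fun V b s x => by rw [h.smul, ← mul_smul, ← mul_smul, rmul_comm],
    fun {V' V} g b x => by rw [rs_smul, h.compat, rsO_comp]⟩⟩

@[simp] theorem smul_val (r : (ModSite.ringSh O).obj.obj (op W)) (h : HomFam F G W) (V : C)
    (b : V ⟶ W) (x : F.val.obj (op V)) :
    (r • h).val V b x = rsO (ModSite.ringSh O) b r • h.val V b x := rfl

theorem rsO_one {V V' : C} (g : V' ⟶ V) : rsO (ModSite.ringSh O) g 1 = 1 :=
  map_one ((ModSite.ringSh O).obj.map g.op).hom

theorem rsO_mul {V V' : C} (g : V' ⟶ V) (r s : (ModSite.ringSh O).obj.obj (op V)) :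
    rsO (ModSite.ringSh O) g (r * s) = rsO (ModSite.ringSh O) g r * rsO (ModSite.ringSh O) g s :=
  map_mul ((ModSite.ringSh O).obj.map g.op).hom r s

theorem rsO_add {V V' : C} (g : V' ⟶ V) (r s : (ModSite.ringSh O).obj.obj (op V)) :
    rsO (ModSite.ringSh O) g (r + s) = rsO (ModSite.ringSh O) g r + rsO (ModSite.ringSh O) g s :=
  map_add ((ModSite.ringSh O).obj.map g.op).hom r s

theorem rsO_zero {V V' : C} (g : V' ⟶ V) : rsO (ModSite.ringSh O) g 0 = 0 :=
  map_zero ((ModSite.ringSh O).obj.map g.op).hom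

instance : Module ((ModSite.ringSh O).obj.obj (op W)) (HomFam F G W) where
  one_smul h := by
    ext V b x
    rw [smul_val, rsO_one, one_smul]
  mul_smul r s h := by
    ext V b x
    rw [smul_val, smul_val, smul_val, rsO_mul, mul_smul]
  smul_zero r := by
    ext V b x
    rw [smul_val, zero_val, smul_zero]
  smul_add r h k := by
    ext V b x
    rw [smul_val, add_val, add_val, smul_val, smul_val, smul_add]
  add_smul r s h := by
    ext V b x
    rw [smul_val, add_val, smul_val, smul_val, rsO_add, add_smul]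
  zero_smul h := by
    ext V b x
    rw [smul_val, zero_val, rsO_zero, zero_smul]

/-- restriction along `a : W' ⟶ W`. -/
def res {W' : C} (a : W' ⟶ W) (h : HomFam F G W) : HomFam F G W' where
  val V b x := h.val V (b ≫ a) x
  add V b x y := h.add V (b ≫ a) x y
  smul V b r x := h.smul V (b ≫ a) r x
  compat g b x := by
    rw [h.compat g (b ≫ a) x, Category.assoc]

@[simp] theorem res_val {W' : C} (a : W' ⟶ W) (h : HomFam F G W) (V : C) (b : V ⟶ W')
    (x : F.val.obj (op V)) : (res a h).val V b x = h.val V (b ≫ a) x := rfl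

/-- restriction as an additive map. -/
def resHom {W' : C} (a : W' ⟶ W) : HomFam F G W →+ HomFam F G W' where
  toFun := res a
  map_zero' := rfl
  map_add' _ _ := rfl

end HomFam

section sheaf

variable (F G : ModSite.Mod O)

/-- the presheaf of types `W ↦ HomFam F G W`. -/
def homIT : Cᵒᵖ ⥤ Type u where
  obj W := HomFam F G W.unop
  map a := ↾(HomFam.res a.unop)
  map_id W := by
    ext h V b x
    change h.val V (b ≫ 𝟙 _) x = h.val V b x
    rw [Category.comp_id]
  map_comp a c := by
    ext h V b x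
    change h.val V (b ≫ (c.unop ≫ a.unop)) x = h.val V ((b ≫ c.unop) ≫ a.unop) x
    rw [Category.assoc]

theorem homIT_isSheaf : Presieve.IsSheaf J (homIT F G) := by
  intro W S hS x hx
  have hT := tP_isSheaf G
  have hval : ∀ {Y V : C} (f f' : Y ⟶ W) (hf : S f) (hf' : S f') (_ : f = f')
      (b b' : V ⟶ Y) (_ : b = b') (z z' : F.val.obj (op V)) (_ : z = z'),
      (x f hf).val V b z = (x f' hf').val V b' z' := by
    intro Y V f f' hf hf' e b b' eb z z' ez
    subst e eb ez
    rfl
  have xres : ∀ {Y Y' : C} (f : Y ⟶ W) (hf : S f) (g : Y' ⟶ Y),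
      x (g ≫ f) (S.downward_closed hf g) = HomFam.res g (x f hf) :=
    fun f hf g => Presieve.FamilyOfElements.comp_of_compatible S hx hf g
  have xres' : ∀ {Y Y' V : C} (f : Y ⟶ W) (hf : S f) (g : Y' ⟶ Y) (b : V ⟶ Y')
      (z : F.val.obj (op V)),
      (x (g ≫ f) (S.downward_closed hf g)).val V b z = (x f hf).val V (b ≫ g) z := by
    intro Y Y' V f hf g b z
    rw [xres f hf g]
    rfl
  -- the family to be glued in `G`
  let y : ∀ (V : C) (b : V ⟶ W) (z : F.val.obj (op V)),
      Presieve.FamilyOfElements (tP G) (S.pullback b).arrows :=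
    fun V b z V' g hg => (x (g ≫ b) hg).val V' (𝟙 V') (rs F g z)
  have hy : ∀ V b z, (y V b z).Compatible := by
    intro V b z Y₁ Y₂ Z g₁ g₂ f₁ f₂ h₁ h₂ e
    change rs G g₁ ((x (f₁ ≫ b) h₁).val Y₁ (𝟙 Y₁) (rs F f₁ z)) =
      rs G g₂ ((x (f₂ ≫ b) h₂).val Y₂ (𝟙 Y₂) (rs F f₂ z))
    rw [(x (f₁ ≫ b) h₁).compat, (x (f₂ ≫ b) h₂).compat, ← rs_comp, ← rs_comp]
    have e1 := xres' (f₁ ≫ b) h₁ g₁ (𝟙 Z) (rs F (g₁ ≫ f₁) z)
    have e2 := xres' (f₂ ≫ b) h₂ g₂ (𝟙 Z) (rs F (g₂ ≫ f₂) z)
    rw [Category.id_comp] at e1 e2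
    rw [Category.comp_id, Category.comp_id, ← e1, ← e2]
    apply hval
    · rw [← Category.assoc, e, Category.assoc]
    · rfl
    · rw [e]
  have hpb : ∀ {V : C} (b : V ⟶ W), Presieve.IsSheafFor (tP G) (S.pullback b).arrows :=
    fun b => hT _ (J.pullback_stable b hS)
  let mv : ∀ (V : C) (b : V ⟶ W) (z : F.val.obj (op V)), G.val.obj (op V) :=
    fun V b z => (hpb b).amalgamate (y V b z) (hy V b z)
  have hmv : ∀ (V : C) (b : V ⟶ W) (z : F.val.obj (op V)) {V' : C} (k : V' ⟶ V)
      (hk : S (k ≫ b)), rs G k (mv V b z) = (x (k ≫ b) hk).val V' (𝟙 V') (rs F k z) :=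
    fun V b z V' k hk => (hpb b).valid_glue (hy V b z) k hk
  have hsep : ∀ (V : C) (b : V ⟶ W) (t t' : G.val.obj (op V)),
      (∀ {V' : C} (k : V' ⟶ V) (_ : S (k ≫ b)), rs G k t = rs G k t') → t = t' := by
    intro V b t t' h
    apply (hpb b).isSeparatedFor.ext
    intro V' k hk
    exact h k hk
  let m : HomFam F G W :=
    { val := mv
      add := by
        intro V b z z'
        apply hsep V b
        intro V' k hk
        rw [rs_add, hmv V b _ k hk, hmv V b _ k hk, hmv V b _ k hk, rs_add, (x (k ≫ b) hk).add]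
      smul := by
        intro V b r z
        apply hsep V b
        intro V' k hk
        rw [rs_smul, hmv V b _ k hk, hmv V b _ k hk, rs_smul, (x (k ≫ b) hk).smul]
      compat := by
        intro V' V g b z
        apply hsep V' (g ≫ b)
        intro V'' k hk
        have hk' : S ((k ≫ g) ≫ b) := by
          rw [Category.assoc]
          exact hk
        rw [← rs_comp, hmv V b z (k ≫ g) hk', hmv V' (g ≫ b) _ k hk, ← rs_comp]
        apply hval
        · rw [Category.assoc]
        · rfl
        · rfl }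
  refine ⟨m, ?_, ?_⟩
  · intro Y f hf
    change (homIT F G).map f.op m = x f hf
    apply HomFam.ext
    funext V b z
    change mv V (b ≫ f) z = (x f hf).val V b z
    have h1 : S (𝟙 V ≫ b ≫ f) := by
      rw [Category.id_comp]
      exact S.downward_closed hf b
    have h2 := hmv V (b ≫ f) z (𝟙 V) h1
    rw [rs_id, rs_id] at h2
    rw [h2]
    have h3 := xres' f hf b (𝟙 V) z
    rw [Category.id_comp] at h3
    rw [← h3]
    apply hval
    · rw [Category.id_comp]
    · rfl
    · rfl
  · intro m' hm'
    apply HomFam.ext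
    funext V b z
    apply hsep V b
    intro V' k hk
    rw [hmv V b z k hk, m'.compat]
    have h2 : (homIT F G).map (k ≫ b).op m' = x (k ≫ b) hk := hm' (k ≫ b) hk
    have h3 := congrArg (fun t : HomFam F G V' => t.val V' (𝟙 V') (rs F k z)) h2
    change m'.val V' (𝟙 V' ≫ k ≫ b) (rs F k z) = _ at h3
    rw [Category.id_comp] at h3
    exact h3

/-- underlying presheaf of abelian groups of the internal hom. -/
def homIPre : Cᵒᵖ ⥤ AddCommGrpCat.{u} where
  obj W := AddCommGrpCat.of (HomFam F G W.unop)
  map a := AddCommGrpCat.ofHom (HomFam.resHom a.unop)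
  map_id W := by
    ext h V b x
    change h.val V (b ≫ 𝟙 _) x = h.val V b x
    rw [Category.comp_id]
  map_comp a c := by
    ext h V b x
    change h.val V (b ≫ (c.unop ≫ a.unop)) x = h.val V ((b ≫ c.unop) ≫ a.unop) x
    rw [Category.assoc]

instance (X : Cᵒᵖ) : Module ((ModSite.ringSh O).obj.obj X) ((homIPre F G).obj X) :=
  inferInstanceAs (Module ((ModSite.ringSh O).obj.obj (op X.unop)) (HomFam F G X.unop))

/-- the presheaf of modules underlying the internal hom. -/
def homIPM : PresheafOfModules.{u} (ModSite.ringSh O).obj :=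
  PresheafOfModules.ofPresheaf (homIPre F G) (fun X Y f r h => by
    apply HomFam.ext
    funext V b x
    change rsO (ModSite.ringSh O) (b ≫ f.unop) r • HomFam.val h V (b ≫ f.unop) x =
      rsO (ModSite.ringSh O) b ((ModSite.ringSh O).obj.map f r) • HomFam.val h V (b ≫ f.unop) x
    congr 1
    exact rsO_comp (R := ModSite.ringSh O) f.unop b r)

/-- `homIPre ⋙ forget ≅ homIT`. -/
def homIPreForgetIso : homIPre F G ⋙ forget AddCommGrpCat.{u} ≅ homIT F G :=
  NatIso.ofComponents (fun W => Iso.refl _) (fun f => by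
    ext h
    rfl)

theorem homIPre_isSheaf : Presheaf.IsSheaf J (homIPre F G) := by
  rw [Presheaf.isSheaf_iff_isSheaf_forget J (homIPre F G) (forget AddCommGrpCat.{u}),
    isSheaf_iff_isSheaf_of_type]
  exact Presieve.isSheaf_iso J (homIPreForgetIso F G).symm (homIT_isSheaf F G)

/-- the internal hom `ℋom(F, G)`, explicitly. -/
def iHom : ModSite.Mod O where
  val := homIPM F G
  isSheaf := homIPre_isSheaf F G

end sheaf

/-- a section of `iHom F G` over `W`, as a family. -/
def iOut {F G : ModSite.Mod O} (W : C) (h : (iHom F G).val.obj (op W)) : HomFam F G W := h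

/-- a family as a section of `iHom F G` over `W`. -/
def iIn {F G : ModSite.Mod O} (W : C) (h : HomFam F G W) : (iHom F G).val.obj (op W) := h

section iOut

variable {F G : ModSite.Mod O} (W : C)

@[simp] theorem iOut_iIn (h : HomFam F G W) : iOut W (iIn W h) = h := rfl
@[simp] theorem iIn_iOut (h : (iHom F G).val.obj (op W)) : iIn W (iOut W h) = h := rfl

theorem iOut_add (h k : (iHom F G).val.obj (op W)) : iOut W (h + k) = iOut W h + iOut W k := rfl
theorem iOut_zero : iOut W (0 : (iHom F G).val.obj (op W)) = 0 := rfl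
theorem iOut_smul (r : (ModSite.ringSh O).obj.obj (op W)) (h : (iHom F G).val.obj (op W)) :
    iOut W (r • h) = r • iOut W h := rfl
theorem iOut_rs {W' : C} (a : W' ⟶ W) (h : (iHom F G).val.obj (op W)) :
    iOut W' (rs (iHom F G) a h) = HomFam.res a (iOut W h) := rfl

theorem iIn_add (h k : HomFam F G W) : iIn W (h + k) = iIn W h + iIn W k := rfl
theorem iIn_zero : iIn W (0 : HomFam F G W) = 0 := rfl
theorem iIn_smul (r : (ModSite.ringSh O).obj.obj (op W)) (h : HomFam F G W) :
    iIn W (r • h) = r • iIn W h := rfl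
theorem iIn_rs {W' : C} (a : W' ⟶ W) (h : HomFam F G W) :
    iIn W' (HomFam.res a h) = rs (iHom F G) a (iIn W h) := rfl

end iOut

end

end Groth.Agent.Lib.Helper21.HomI
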