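import Mathlib
import Groth.Agent.Lib.Helper21HomU1

/-!
# Helper21: `Hom(y(uX) × y(uY), T) ≃ Hom(yX × yY, u^p T)` for a sheaf `T`, when the sheaf pullback
along the continuous functor `u` preserves binary products
(for the ModSite pull rows S9098 ff.)
-/

set_option autoImplicit false
universe u
open CategoryTheory CategoryTheory.Limits Opposite

namespace Groth.Agent.Lib.Helper21.HomU

noncomputable section

/-- the element `(b, a)` of `(yU × yW)(V)`. -/
def pr {E : Type u} [SmallCategory E] {U W V : E} (b : V ⟶ U) (a : V ⟶ W) :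
    (FunctorToTypes.prod (yoneda.obj U) (yoneda.obj W)).obj (op V) := (b, a)

theorem prod_map_pr {E : Type u} [SmallCategory E] {U W V V' : E} (g : V' ⟶ V) (b : V ⟶ U)
    (a : V ⟶ W) :
    (FunctorToTypes.prod (yoneda.obj U) (yoneda.obj W)).map g.op (pr b a) = pr (g ≫ b) (g ≫ a) :=
  rfl

/-- `Hom(yU × yW, T) ≃ Fam U T W`. -/
def famEquivHom {E : Type u} [SmallCategory E] (U W : E) (T : Eᵒᵖ ⥤ Type u) :
    (FunctorToTypes.prod (yoneda.obj U) (yoneda.obj W) ⟶ T) ≃ Fam U T W where
  toFun α := ⟨fun V b a => α.app (op V) (pr b a), fun {V' V} g b a =>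
    (ConcreteCategory.congr_hom (α.naturality g.op) (pr b a)).symm⟩
  invFun m :=
    { app := fun V => ↾(fun p => m.val V.unop p.1 p.2)
      naturality := fun V V' g => by
        ext p
        exact (m.compat g.unop p.1 p.2).symm }
  left_inv α := by
    ext V p
    rfl
  right_inv m := rfl

theorem famEquivHom_val {E : Type u} [SmallCategory E] (U W : E) (T : Eᵒᵖ ⥤ Type u)
    (α : FunctorToTypes.prod (yoneda.obj U) (yoneda.obj W) ⟶ T) (V : E) (b : V ⟶ U) (a : V ⟶ W) :
    (famEquivHom U W T α).val V b a = α.app (op V) (pr b a) := rfl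

variable {C D : Type u} [SmallCategory C] [SmallCategory D]
  {J : GrothendieckTopology C} {K : GrothendieckTopology D} (u : D ⥤ C)

/-- restriction of families along `u`. -/
def famPush (T : Cᵒᵖ ⥤ Type u) (X Y : D) (m : Fam (u.obj X) T (u.obj Y)) : Fam X (u.op ⋙ T) Y where
  val Z q p := m.val (u.obj Z) (u.map q) (u.map p)
  compat {Z' Z} g q p := by
    change T.map (u.map g).op (m.val (u.obj Z) (u.map q) (u.map p)) = _
    rw [m.compat, ← u.map_comp, ← u.map_comp]

section main

variable [u.IsContinuous K J]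

variable (J K) in
/-- sheafify, then pull back along `u`. -/
abbrev Lf : (Dᵒᵖ ⥤ Type u) ⥤ Sheaf J (Type u) :=
  presheafToSheaf K (Type u) ⋙ u.sheafPullback (Type u) K J

variable (J K) in
/-- push forward along `u`, then forget the sheaf property. -/
abbrev Rf : Sheaf J (Type u) ⥤ (Dᵒᵖ ⥤ Type u) :=
  u.sheafPushforwardContinuous (Type u) K J ⋙ sheafToPresheaf K (Type u)

variable (J K) in
/-- the composite adjunction. -/
def adjLf : Lf J K u ⊣ Rf J K u :=
  (sheafificationAdjunction K (Type u)).comp (u.sheafAdjunctionContinuous (Type u) K J)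

variable (J K) in
/-- the universal element of `L(yX)` over `uX`. -/
def eps (X : D) : ((Lf J K u).obj (yoneda.obj X)).obj.obj (op (u.obj X)) :=
  ((adjLf J K u).unit.app (yoneda.obj X)).app (op X) (𝟙 X)

variable (J K) in
/-- `y(uX) ⟶ L(yX)`. -/
def eX (X : D) : yoneda.obj (u.obj X) ⟶ ((Lf J K u).obj (yoneda.obj X)).obj :=
  yonedaEquiv.symm (eps J K u X)

variable (J K) in
/-- `y(uX)^# ⟶ L(yX)`. -/
def eBar (X : D) : (presheafToSheaf J (Type u)).obj (yoneda.obj (u.obj X)) ⟶
    (Lf J K u).obj (yoneda.obj X) :=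
  ((sheafificationAdjunction J (Type u)).homEquiv _ _).symm (eX J K u X)

theorem homEquiv_eBar (X : D) :
    (sheafificationAdjunction J (Type u)).homEquiv _ _ (eBar J K u X) = eX J K u X :=
  Equiv.apply_symm_apply _ _

theorem key1 (X : D) (T : Sheaf J (Type u)) (g : (Lf J K u).obj (yoneda.obj X) ⟶ T) :
    yonedaEquiv ((sheafificationAdjunction J (Type u)).homEquiv _ _ (eBar J K u X ≫ g)) =
      yonedaEquiv ((adjLf J K u).homEquiv _ _ g) := by
  rw [Adjunction.homEquiv_naturality_right, homEquiv_eBar, Adjunction.homEquiv_unit]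
  unfold eX
  rw [yonedaEquiv_comp, Equiv.apply_symm_apply, yonedaEquiv_apply]
  rfl

instance isIso_eBar (X : D) : IsIso (eBar J K u X) := by
  rw [isIso_iff_coyoneda_map_bijective]
  intro T
  have h1 : Function.Bijective (fun g : (Lf J K u).obj (yoneda.obj X) ⟶ T =>
      yonedaEquiv ((adjLf J K u).homEquiv _ _ g)) :=
    (yonedaEquiv.bijective).comp ((adjLf J K u).homEquiv _ _).bijective
  have h2 : (fun g : (Lf J K u).obj (yoneda.obj X) ⟶ T =>
      yonedaEquiv ((adjLf J K u).homEquiv _ _ g)) =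
      (fun h : (presheafToSheaf J (Type u)).obj (yoneda.obj (u.obj X)) ⟶ T =>
        yonedaEquiv ((sheafificationAdjunction J (Type u)).homEquiv _ _ h)) ∘
        (fun g => eBar J K u X ≫ g) := by
    funext g
    exact (key1 u X T g).symm
  rw [h2] at h1
  exact (Function.Bijective.of_comp_iff'
    ((yonedaEquiv.bijective).comp (Equiv.bijective _)) _).mp h1

end main

theorem sheaf_binaryFan_ext {A B : Sheaf J (Type u)} (c : BinaryFan A B) (hc : IsLimit c) (V : C)
    (x x' : c.pt.obj.obj (op V)) (h1 : c.fst.hom.app (op V) x = c.fst.hom.app (op V) x')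
    (h2 : c.snd.hom.app (op V) x = c.snd.hom.app (op V) x') : x = x' := by
  let F := sheafToPresheaf J (Type u) ⋙ (evaluation Cᵒᵖ (Type u)).obj (op V)
  have hF : IsLimit (F.mapCone c) := isLimitOfPreserves F hc
  refine Concrete.isLimit_ext _ hF x x' ?_
  rintro ⟨j | j⟩
  · exact h1
  · exact h2

section prodsec

variable [u.IsContinuous K J]
  [PreservesLimitsOfShape (Discrete WalkingPair) (u.sheafPullback (Type u) K J)]

/-- `yX × yY`. -/
abbrev PD {E : Type u} [SmallCategory E] (X Y : E) : Eᵒᵖ ⥤ Type u :=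
  FunctorToTypes.prod (yoneda.obj X) (yoneda.obj Y)

variable (J K) in
/-- the fan `L(yX) ← L(yX × yY) → L(yY)`. -/
def fanD (X Y : D) :
    BinaryFan ((Lf J K u).obj (yoneda.obj X)) ((Lf J K u).obj (yoneda.obj Y)) :=
  BinaryFan.mk ((Lf J K u).map (FunctorToTypes.prod.fst (F := yoneda.obj X) (G := yoneda.obj Y)))
    ((Lf J K u).map FunctorToTypes.prod.snd)

variable (J K) in
/-- it is a limit. -/
def fanDIsLimit (X Y : D) : IsLimit (fanD J K u X Y) :=
  mapIsLimitOfPreservesOfIsLimit (Lf J K u) _ _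
    (FunctorToTypes.binaryProductLimit (yoneda.obj X) (yoneda.obj Y))

variable (J K) in
/-- the fan `L(yX) ← (y(uX) × y(uY))^# → L(yY)`. -/
def fanC (X Y : D) :
    BinaryFan ((Lf J K u).obj (yoneda.obj X)) ((Lf J K u).obj (yoneda.obj Y)) :=
  BinaryFan.mk
    ((presheafToSheaf J (Type u)).map
      (FunctorToTypes.prod.fst (F := yoneda.obj (u.obj X)) (G := yoneda.obj (u.obj Y))) ≫
        eBar J K u X)
    ((presheafToSheaf J (Type u)).map
      (FunctorToTypes.prod.snd (F := yoneda.obj (u.obj X)) (G := yoneda.obj (u.obj Y))) ≫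
        eBar J K u Y)

variable (J K) in
/-- it is a limit. -/
def fanCIsLimit (X Y : D) : IsLimit (fanC J K u X Y) :=
  BinaryFan.isLimitCompRightIso
    (BinaryFan.mk ((presheafToSheaf J (Type u)).map
      (FunctorToTypes.prod.fst (F := yoneda.obj (u.obj X)) (G := yoneda.obj (u.obj Y))) ≫
        eBar J K u X)
      ((presheafToSheaf J (Type u)).map
      (FunctorToTypes.prod.snd (F := yoneda.obj (u.obj X)) (G := yoneda.obj (u.obj Y)))))
    (eBar J K u Y)
    (BinaryFan.isLimitCompLeftIso
      (BinaryFan.mk ((presheafToSheaf J (Type u)).map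
        (FunctorToTypes.prod.fst (F := yoneda.obj (u.obj X)) (G := yoneda.obj (u.obj Y))))
        ((presheafToSheaf J (Type u)).map
        (FunctorToTypes.prod.snd (F := yoneda.obj (u.obj X)) (G := yoneda.obj (u.obj Y)))))
      (eBar J K u X)
      (mapIsLimitOfPreservesOfIsLimit (presheafToSheaf J (Type u)) _ _
        (FunctorToTypes.binaryProductLimit (yoneda.obj (u.obj X)) (yoneda.obj (u.obj Y)))))

variable (J K) in
/-- `(y(uX) × y(uY))^# ≅ L(yX × yY)`. -/
def mBar (X Y : D) :
    (presheafToSheaf J (Type u)).obj (PD (u.obj X) (u.obj Y)) ≅ (Lf J K u).obj (PD X Y) :=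
  IsLimit.conePointUniqueUpToIso (fanCIsLimit J K u X Y) (fanDIsLimit J K u X Y)

theorem mBar_hom_fst (X Y : D) :
    (mBar J K u X Y).hom ≫ (Lf J K u).map (FunctorToTypes.prod.fst) =
      (presheafToSheaf J (Type u)).map FunctorToTypes.prod.fst ≫ eBar J K u X :=
  IsLimit.conePointUniqueUpToIso_hom_comp (fanCIsLimit J K u X Y) (fanDIsLimit J K u X Y)
    ⟨WalkingPair.left⟩

theorem mBar_hom_snd (X Y : D) :
    (mBar J K u X Y).hom ≫ (Lf J K u).map (FunctorToTypes.prod.snd) =
      (presheafToSheaf J (Type u)).map FunctorToTypes.prod.snd ≫ eBar J K u Y :=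
  IsLimit.conePointUniqueUpToIso_hom_comp (fanCIsLimit J K u X Y) (fanDIsLimit J K u X Y)
    ⟨WalkingPair.right⟩

theorem eBar_unit_apply (X : D) (V : C) (b : V ⟶ u.obj X) :
    (eBar J K u X).hom.app (op V)
      (((sheafificationAdjunction J (Type u)).unit.app (yoneda.obj (u.obj X))).app (op V) b) =
    ((Lf J K u).obj (yoneda.obj X)).obj.map b.op (eps J K u X) := by
  have h := homEquiv_eBar (J := J) (K := K) u X
  rw [Adjunction.homEquiv_unit] at h
  have h2 := congrArg (fun α => α.app (op V) b) h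
  refine h2.trans ?_
  exact yonedaEquiv_symm_app_apply _ _ _

theorem adjLf_unit_apply (X Z : D) (q : Z ⟶ X) :
    ((adjLf J K u).unit.app (yoneda.obj X)).app (op Z) q =
    ((Lf J K u).obj (yoneda.obj X)).obj.map (u.map q).op (eps J K u X) := by
  have h := ConcreteCategory.congr_hom
    (((adjLf J K u).unit.app (yoneda.obj X)).naturality q.op) (𝟙 X)
  have h3 : (yoneda.obj X).map q.op (𝟙 X) = q := by
    simp
  have h4 : ((adjLf J K u).unit.app (yoneda.obj X)).app (op Z)
      ((yoneda.obj X).map q.op (𝟙 X)) =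
      ((Lf J K u).obj (yoneda.obj X)).obj.map (u.map q).op (eps J K u X) := h
  rw [h3] at h4
  exact h4

theorem shUnit_fst_apply {E : Type u} [SmallCategory E] (L : GrothendieckTopology E)
    (A B : Eᵒᵖ ⥤ Type u) (V : E) (w : (FunctorToTypes.prod A B).obj (op V)) :
    ((presheafToSheaf L (Type u)).map (FunctorToTypes.prod.fst (F := A) (G := B))).hom.app (op V)
      (((sheafificationAdjunction L (Type u)).unit.app (FunctorToTypes.prod A B)).app (op V) w) =
    ((sheafificationAdjunction L (Type u)).unit.app A).app (op V) w.1 := by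
  have h := (sheafificationAdjunction L (Type u)).unit.naturality
    (FunctorToTypes.prod.fst (F := A) (G := B))
  exact (ConcreteCategory.congr_hom (NatTrans.congr_app h (op V)) w).symm

theorem shUnit_snd_apply {E : Type u} [SmallCategory E] (L : GrothendieckTopology E)
    (A B : Eᵒᵖ ⥤ Type u) (V : E) (w : (FunctorToTypes.prod A B).obj (op V)) :
    ((presheafToSheaf L (Type u)).map (FunctorToTypes.prod.snd (F := A) (G := B))).hom.app (op V)
      (((sheafificationAdjunction L (Type u)).unit.app (FunctorToTypes.prod A B)).app (op V) w) =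
    ((sheafificationAdjunction L (Type u)).unit.app B).app (op V) w.2 := by
  have h := (sheafificationAdjunction L (Type u)).unit.naturality
    (FunctorToTypes.prod.snd (F := A) (G := B))
  exact (ConcreteCategory.congr_hom (NatTrans.congr_app h (op V)) w).symm

theorem adjLfUnit_fst_apply (A B : Dᵒᵖ ⥤ Type u) (Z : D)
    (w : (FunctorToTypes.prod A B).obj (op Z)) :
    ((Lf J K u).map (FunctorToTypes.prod.fst (F := A) (G := B))).hom.app (op (u.obj Z))
      (((adjLf J K u).unit.app (FunctorToTypes.prod A B)).app (op Z) w) =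
    ((adjLf J K u).unit.app A).app (op Z) w.1 := by
  have h := (adjLf J K u).unit.naturality (FunctorToTypes.prod.fst (F := A) (G := B))
  exact (ConcreteCategory.congr_hom (NatTrans.congr_app h (op Z)) w).symm

theorem adjLfUnit_snd_apply (A B : Dᵒᵖ ⥤ Type u) (Z : D)
    (w : (FunctorToTypes.prod A B).obj (op Z)) :
    ((Lf J K u).map (FunctorToTypes.prod.snd (F := A) (G := B))).hom.app (op (u.obj Z))
      (((adjLf J K u).unit.app (FunctorToTypes.prod A B)).app (op Z) w) =
    ((adjLf J K u).unit.app B).app (op Z) w.2 := by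
  have h := (adjLf J K u).unit.naturality (FunctorToTypes.prod.snd (F := A) (G := B))
  exact (ConcreteCategory.congr_hom (NatTrans.congr_app h (op Z)) w).symm

theorem key2 (X Y Z : D) (q : Z ⟶ X) (p : Z ⟶ Y) :
    (mBar J K u X Y).hom.hom.app (op (u.obj Z))
      (((sheafificationAdjunction J (Type u)).unit.app (PD (u.obj X) (u.obj Y))).app
        (op (u.obj Z)) (pr (u.map q) (u.map p))) =
    ((adjLf J K u).unit.app (PD X Y)).app (op Z) (pr q p) := by
  refine sheaf_binaryFan_ext (fanD J K u X Y) (fanDIsLimit J K u X Y) (u.obj Z) _ _ ?_ ?_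
  · have e1 := congrArg (fun φ => φ.hom.app (op (u.obj Z))
      (((sheafificationAdjunction J (Type u)).unit.app (PD (u.obj X) (u.obj Y))).app
        (op (u.obj Z)) (pr (u.map q) (u.map p)))) (mBar_hom_fst (J := J) (K := K) u X Y)
    refine e1.trans ?_
    refine (congrArg ((eBar J K u X).hom.app (op (u.obj Z)))
      (shUnit_fst_apply J _ _ (u.obj Z) (pr (u.map q) (u.map p)))).trans ?_
    refine (eBar_unit_apply u X (u.obj Z) (u.map q)).trans ?_
    refine Eq.trans ?_ (adjLfUnit_fst_apply u _ _ Z (pr q p)).symm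
    exact (adjLf_unit_apply u X Z q).symm
  · have e1 := congrArg (fun φ => φ.hom.app (op (u.obj Z))
      (((sheafificationAdjunction J (Type u)).unit.app (PD (u.obj X) (u.obj Y))).app
        (op (u.obj Z)) (pr (u.map q) (u.map p)))) (mBar_hom_snd (J := J) (K := K) u X Y)
    refine e1.trans ?_
    refine (congrArg ((eBar J K u Y).hom.app (op (u.obj Z)))
      (shUnit_snd_apply J _ _ (u.obj Z) (pr (u.map q) (u.map p)))).trans ?_
    refine (eBar_unit_apply u Y (u.obj Z) (u.map p)).trans ?_
    refine Eq.trans ?_ (adjLfUnit_snd_apply u _ _ Z (pr q p)).symm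
    exact (adjLf_unit_apply u Y Z p).symm

variable (J K) in
/-- `Hom(L(yX × yY), T) ≃ Fam (uX) T (uY)`. -/
def gamC (X Y : D) (T : Sheaf J (Type u)) :
    ((Lf J K u).obj (PD X Y) ⟶ T) ≃ Fam (u.obj X) T.obj (u.obj Y) :=
  ((mBar J K u X Y).homFromEquiv (Z := T)).symm.trans
    (((sheafificationAdjunction J (Type u)).homEquiv _ _).trans
      (famEquivHom (u.obj X) (u.obj Y) T.obj))

variable (J K) in
/-- `Hom(L(yX × yY), T) ≃ Fam X (u^p T) Y`. -/
def gamD (X Y : D) (T : Sheaf J (Type u)) :
    ((Lf J K u).obj (PD X Y) ⟶ T) ≃ Fam X (u.op ⋙ T.obj) Y :=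
  ((adjLf J K u).homEquiv (PD X Y) T).trans (famEquivHom X Y (u.op ⋙ T.obj))

theorem famPush_gamC (X Y : D) (T : Sheaf J (Type u)) (g : (Lf J K u).obj (PD X Y) ⟶ T) :
    famPush u T.obj X Y (gamC J K u X Y T g) = gamD J K u X Y T g := by
  ext Z q p
  have h := congrArg (g.hom.app (op (u.obj Z))) (key2 (J := J) (K := K) u X Y Z q p)
  have hC : (famPush u T.obj X Y (gamC J K u X Y T g)).val Z q p =
      g.hom.app (op (u.obj Z)) ((mBar J K u X Y).hom.hom.app (op (u.obj Z))
      (((sheafificationAdjunction J (Type u)).unit.app (PD (u.obj X) (u.obj Y))).app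
        (op (u.obj Z)) (pr (u.map q) (u.map p)))) := by
    change ((sheafificationAdjunction J (Type u)).homEquiv _ _
      ((mBar J K u X Y).hom ≫ g)).app (op (u.obj Z)) (pr (u.map q) (u.map p)) = _
    rw [Adjunction.homEquiv_unit]
    rfl
  have hD : (gamD J K u X Y T g).val Z q p =
      g.hom.app (op (u.obj Z)) (((adjLf J K u).unit.app (PD X Y)).app (op Z) (pr q p)) := by
    change ((adjLf J K u).homEquiv _ _ g).app (op Z) (pr q p) = _
    rw [Adjunction.homEquiv_unit]
    rfl
  rw [hC, hD]
  exact h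

variable (K) in
include K in
theorem famPush_bijective (X Y : D) (T : Sheaf J (Type u)) :
    Function.Bijective (famPush u T.obj X Y) := by
  have h : famPush u T.obj X Y = (gamD J K u X Y T) ∘ (gamC J K u X Y T).symm := by
    funext m
    have := famPush_gamC (J := J) (K := K) u X Y T ((gamC J K u X Y T).symm m)
    rw [Equiv.apply_symm_apply] at this
    exact this
  rw [h]
  exact (gamD J K u X Y T).bijective.comp (gamC J K u X Y T).symm.bijective

end prodsec

end

end Groth.Agent.Lib.Helper21.HomU
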