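import Mathlib
import Groth.Agent.Lib.Helper21HomU3
import Groth.Agent.Lib.Helper21HomU4

/-!
# Helper21: `f_* Hom(j_! O_{uX}, G) ≅ Hom(j_! O_X, f_* G)` and the bijection
`Hom((f^*F)|_{uX}, G|_{uX}) ≃ Hom(F|_X, (f_*G)|_X)`
(for the ModSite pull rows S9098 ff.)
-/

set_option autoImplicit false
universe u
open CategoryTheory CategoryTheory.Limits Opposite

namespace Groth.Agent.Lib.Helper21.HomU

noncomputable section

variable {C D : Type u} [SmallCategory C] [SmallCategory D]
  {J : GrothendieckTopology C} {K : GrothendieckTopology D} {u : D ⥤ C}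
  {R : Sheaf J RingCat.{u}} {S : Sheaf K RingCat.{u}} [u.IsContinuous K J]
  (φ : S ⟶ (u.sheafPushforwardContinuous RingCat.{u} K J).obj R)

/-- the ring map on sections. -/
def phiApp (Z : D) (s : S.obj.obj (op Z)) : R.obj.obj (op (u.obj Z)) := (φ.hom.app (op Z)).hom s

theorem phiApp_nat {Z Z' : D} (g : Z' ⟶ Z) (s : S.obj.obj (op Z)) :
    phiApp φ Z' (rsO S g s) = rsO R (u.map g) (phiApp φ Z s) :=
  ConcreteCategory.congr_hom (φ.hom.naturality g.op) s

/-- sections of the pushforward are sections. -/
def pOut (G : SheafOfModules.{u} R) (Z : D)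
    (x : ((SheafOfModules.pushforward.{u} φ).obj G).val.obj (op Z)) : G.val.obj (op (u.obj Z)) := x

/-- sections are sections of the pushforward. -/
def pIn (G : SheafOfModules.{u} R) (Z : D) (x : G.val.obj (op (u.obj Z))) :
    ((SheafOfModules.pushforward.{u} φ).obj G).val.obj (op Z) := x

section pOut

variable (G : SheafOfModules.{u} R) (Z : D)

@[simp] theorem pOut_pIn (x : G.val.obj (op (u.obj Z))) : pOut φ G Z (pIn φ G Z x) = x := rfl
@[simp] theorem pIn_pOut (x : ((SheafOfModules.pushforward.{u} φ).obj G).val.obj (op Z)) :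
    pIn φ G Z (pOut φ G Z x) = x := rfl

theorem pOut_add (x y : ((SheafOfModules.pushforward.{u} φ).obj G).val.obj (op Z)) :
    pOut φ G Z (x + y) = pOut φ G Z x + pOut φ G Z y := rfl

theorem pOut_zero : pOut φ G Z 0 = 0 := rfl

theorem pIn_add (x y : G.val.obj (op (u.obj Z))) :
    pIn φ G Z (x + y) = pIn φ G Z x + pIn φ G Z y := rfl

theorem pIn_zero : pIn φ G Z 0 = 0 := rfl

theorem pOut_smul (s : S.obj.obj (op Z))
    (x : ((SheafOfModules.pushforward.{u} φ).obj G).val.obj (op Z)) :
    pOut φ G Z (s • x) = phiApp φ Z s • pOut φ G Z x := rfl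

theorem pIn_smul (s : S.obj.obj (op Z)) (x : G.val.obj (op (u.obj Z))) :
    pIn φ G Z (phiApp φ Z s • x) = s • pIn φ G Z x := rfl

theorem pOut_rs {Z' : D} (g : Z' ⟶ Z)
    (x : ((SheafOfModules.pushforward.{u} φ).obj G).val.obj (op Z)) :
    pOut φ G Z' (rs ((SheafOfModules.pushforward.{u} φ).obj G) g x) =
      rs G (u.map g) (pOut φ G Z x) := rfl

theorem pIn_rs {Z' : D} (g : Z' ⟶ Z) (x : G.val.obj (op (u.obj Z))) :
    pIn φ G Z' (rs G (u.map g) x) =
      rs ((SheafOfModules.pushforward.{u} φ).obj G) g (pIn φ G Z x) := rfl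

theorem pOut_map {G' : SheafOfModules.{u} R} (k : G ⟶ G')
    (x : ((SheafOfModules.pushforward.{u} φ).obj G).val.obj (op Z)) :
    pOut φ G' Z ((((SheafOfModules.pushforward.{u} φ).map k).val.app (op Z)).hom x) =
      (k.val.app (op (u.obj Z))).hom (pOut φ G Z x) := rfl

end pOut

/-- restriction of module-valued families along `u`. -/
def famPushM (X : D) (G : SheafOfModules.{u} R) (Y : D) (m : FamM (u.obj X) G (u.obj Y)) :
    FamM X ((SheafOfModules.pushforward.{u} φ).obj G) Y where
  val Z q p := pIn φ G Z (m.val (u.obj Z) (u.map q) (u.map p))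
  compat {Z' Z} g q p := by
    change pIn φ G Z' (rs G (u.map g) (m.val (u.obj Z) (u.map q) (u.map p))) = _
    rw [FamM.compat', ← u.map_comp, ← u.map_comp]

theorem famPushM_val (X : D) (G : SheafOfModules.{u} R) (Y : D) (m : FamM (u.obj X) G (u.obj Y))
    (Z : D) (q : Z ⟶ X) (p : Z ⟶ Y) :
    (famPushM φ X G Y m).val Z q p = pIn φ G Z (m.val (u.obj Z) (u.map q) (u.map p)) := rfl

/-- sections of `f_* Hom(j_! O_{uX}, G)` over `Y` are families. -/
def hOut (X : D) (G : SheafOfModules.{u} R) (Y : D)
    (m : ((SheafOfModules.pushforward.{u} φ).obj (homU (u.obj X) G)).val.obj (op Y)) :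
    FamM (u.obj X) G (u.obj Y) := m

/-- `f_* Hom(j_! O_{uX}, G) ⟶ Hom(j_! O_X, f_* G)`. -/
def pushHomU (X : D) (G : SheafOfModules.{u} R) :
    (SheafOfModules.pushforward.{u} φ).obj (homU (u.obj X) G) ⟶
      homU X ((SheafOfModules.pushforward.{u} φ).obj G) where
  val := PresheafOfModules.homMk
      (M₁ := ((SheafOfModules.pushforward.{u} φ).obj (homU (u.obj X) G)).val)
      (M₂ := homUPM X ((SheafOfModules.pushforward.{u} φ).obj G))
    { app := fun Y => AddCommGrpCat.ofHom
        { toFun := fun m => famPushM φ X G Y.unop (hOut φ X G Y.unop m)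
          map_zero' := rfl
          map_add' := fun _ _ => rfl }
      naturality := fun Y Y' k => by
        ext m
        apply FamM.ext
        funext Z q p
        change pIn φ G Z ((hOut φ X G Y.unop m).val (u.obj Z) (u.map q) (u.map p ≫ u.map k.unop)) =
          pIn φ G Z ((hOut φ X G Y.unop m).val (u.obj Z) (u.map q) (u.map (p ≫ k.unop)))
        rw [u.map_comp] }
    (fun Y s m => by
      apply FamM.ext
      funext Z q p
      change pIn φ G Z (rsO R (u.map p) (phiApp φ Y.unop s) •
        (hOut φ X G Y.unop m).val (u.obj Z) (u.map q) (u.map p)) =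
        rsO S p s • pIn φ G Z ((hOut φ X G Y.unop m).val (u.obj Z) (u.map q) (u.map p))
      rw [← phiApp_nat, pIn_smul])

theorem kap_pushHomU (X : D) (G : SheafOfModules.{u} R) (Y : D)
    (m : ((SheafOfModules.pushforward.{u} φ).obj (homU (u.obj X) G)).val.obj (op Y)) :
    (((pushHomU φ X G).val.app (op Y)).hom m : FamM X _ Y) =
      famPushM φ X G Y (hOut φ X G Y m) := rfl

/-- the underlying sheaf of types of a sheaf of modules. -/
def tShG (G : SheafOfModules.{u} R) : Sheaf J (Type u) :=
  ⟨tP G, (isSheaf_iff_isSheaf_of_type _ _).2 (tP_isSheaf G)⟩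

/-- families with values in `f_* G` as families with values in the restricted presheaf of types. -/
def famEquivPush (X : D) (G : SheafOfModules.{u} R) (Y : D) :
    FamM X ((SheafOfModules.pushforward.{u} φ).obj G) Y ≃ Fam X (u.op ⋙ tP G) Y where
  toFun m := ⟨fun Z q p => pOut φ G Z (m.val Z q p), fun {Z' Z} g q p => m.compat g q p⟩
  invFun m := ⟨fun Z q p => pIn φ G Z (m.val Z q p), fun {Z' Z} g q p => m.compat g q p⟩
  left_inv _ := rfl
  right_inv _ := rfl

theorem famPushM_eq (X : D) (G : SheafOfModules.{u} R) (Y : D) :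
    famPushM φ X G Y = (famEquivPush φ X G Y).symm ∘ famPush u (tP G) X Y ∘
      (famEquiv (u.obj X) G (u.obj Y)) := by
  funext m
  apply FamM.ext
  rfl

section iso

variable [PreservesLimitsOfShape (Discrete WalkingPair) (u.sheafPullback (Type u) K J)]

theorem famPushM_bijective (X : D) (G : SheafOfModules.{u} R) (Y : D) :
    Function.Bijective (famPushM φ X G Y) := by
  rw [famPushM_eq]
  exact (famEquivPush φ X G Y).symm.bijective.comp
    ((famPush_bijective K u X Y (tShG G)).comp (famEquiv (u.obj X) G (u.obj Y)).bijective)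

theorem isIso_of_bijective_app {E : Type u} [SmallCategory E] {L : GrothendieckTopology E}
    {T : Sheaf L RingCat.{u}} {M N : SheafOfModules.{u} T} (f : M ⟶ N)
    (h : ∀ V : Eᵒᵖ, Function.Bijective (f.val.app V).hom) : IsIso f := by
  haveI : Mono f := by
    haveI : Mono ((SheafOfModules.forget T).map f) :=
      PresheafOfModules.mono_of_injective (f := f.val) (fun V => (h V).1)
    exact (SheafOfModules.forget T).mono_of_mono_map inferInstance
  haveI : Epi f := by
    have h1 : Presheaf.IsLocallySurjective L ((PresheafOfModules.toPresheaf T.obj).map f.val) := by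
      apply Presheaf.isLocallySurjective_of_surjective
      intro V s
      exact (h V).2 s
    haveI : Sheaf.IsLocallySurjective ((SheafOfModules.toSheaf T).map f) := h1
    haveI : Epi ((SheafOfModules.toSheaf T).map f) :=
      (Sheaf.isLocallySurjective_iff_epi' AddCommGrpCat.{u} _).1 inferInstance
    exact (SheafOfModules.toSheaf T).epi_of_epi_map inferInstance
  exact isIso_of_mono_of_epi f

instance isIso_pushHomU (X : D) (G : SheafOfModules.{u} R) : IsIso (pushHomU φ X G) :=
  isIso_of_bijective_app _ (fun Y => famPushM_bijective φ X G Y.unop)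

variable [(SheafOfModules.pushforward.{u} φ).IsRightAdjoint]

/-- the unit `F ⟶ f_* f^* F` on sections. -/
def etaApp (F : SheafOfModules.{u} S) (Z : D) (s : F.val.obj (op Z)) :
    ((SheafOfModules.pullback.{u} φ).obj F).val.obj (op (u.obj Z)) :=
  pOut φ _ Z ((((SheafOfModules.pullbackPushforwardAdjunction.{u} φ).unit.app F).val.app
    (op Z)).hom s)

/-- `Hom((f^*F)|_{uX}, G|_{uX}) ≃ Hom(F|_X, (f_*G)|_X)`. -/
def Theta (X : D) (F : SheafOfModules.{u} S) (G : SheafOfModules.{u} R) :
    ((SheafOfModules.overFunctor R (u.obj X)).obj ((SheafOfModules.pullback.{u} φ).obj F) ⟶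
      (SheafOfModules.overFunctor R (u.obj X)).obj G) ≃
    ((SheafOfModules.overFunctor S X).obj F ⟶
      (SheafOfModules.overFunctor S X).obj ((SheafOfModules.pushforward.{u} φ).obj G)) :=
  homUEquiv.trans (((SheafOfModules.pullbackPushforwardAdjunction.{u} φ).homEquiv F
    (homU (u.obj X) G)).trans ((asIso (pushHomU φ X G)).homToEquiv.trans homUEquiv.symm))

theorem Theta_apply (X : D) (F : SheafOfModules.{u} S) (G : SheafOfModules.{u} R)
    (h : (SheafOfModules.overFunctor R (u.obj X)).obj ((SheafOfModules.pullback.{u} φ).obj F) ⟶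
      (SheafOfModules.overFunctor R (u.obj X)).obj G) (T : Over X) (s : F.val.obj (op T.left)) :
    appT X (Theta φ X F G h) T s =
      pIn φ G T.left (appT (u.obj X) h (Over.mk (u.map T.hom)) (etaApp φ F T.left s)) := by
  change ofHomUFun (((SheafOfModules.pullbackPushforwardAdjunction.{u} φ).homEquiv F
    (homU (u.obj X) G) (toHomU h)) ≫ pushHomU φ X G) T s = _
  rw [Adjunction.homEquiv_unit]
  change pIn φ G T.left (appT (u.obj X) h (Over.mk (u.map T.hom))
    (rs _ (u.map (𝟙 T.left)) (etaApp φ F T.left s))) = _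
  rw [u.map_id, rs_id]

end iso

section appTlemmas

variable {E : Type u} [SmallCategory E] {L : GrothendieckTopology E} {T : Sheaf L RingCat.{u}}
  {U : E} {A B G : SheafOfModules.{u} T}

theorem hom_ext_appT
    {h h' : (SheafOfModules.overFunctor T U).obj A ⟶ (SheafOfModules.overFunctor T U).obj G}
    (w : ∀ (V : Over U) (x : A.val.obj (op V.left)), appT U h V x = appT U h' V x) : h = h' := by
  apply SheafOfModules.hom_ext
  apply PresheafOfModules.hom_ext
  intro V
  ext x
  exact w V.unop x

theorem appT_comp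
    (h : (SheafOfModules.overFunctor T U).obj A ⟶ (SheafOfModules.overFunctor T U).obj B)
    (h' : (SheafOfModules.overFunctor T U).obj B ⟶ (SheafOfModules.overFunctor T U).obj G)
    (V : Over U) (x : A.val.obj (op V.left)) :
    appT U (h ≫ h') V x = appT U h' V (appT U h V x) := rfl

theorem appT_zero_hom (V : Over U) (x : A.val.obj (op V.left)) :
    appT U (0 : (SheafOfModules.overFunctor T U).obj A ⟶ (SheafOfModules.overFunctor T U).obj G)
      V x = 0 := rfl

theorem appT_map (k : A ⟶ G) (V : Over U) (x : A.val.obj (op V.left)) :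
    appT U ((SheafOfModules.overFunctor T U).map k) V x = (k.val.app (op V.left)).hom x := rfl

end appTlemmas

section sharp

variable [PreservesLimitsOfShape (Discrete WalkingPair) (u.sheafPullback (Type u) K J)]
  [(SheafOfModules.pushforward.{u} φ).IsRightAdjoint]

variable {X : D} {A B F : SheafOfModules.{u} S} {G : SheafOfModules.{u} R}

theorem Theta_zero : Theta φ X F G 0 = 0 := by
  apply hom_ext_appT
  intro T s
  rw [Theta_apply, appT_zero_hom, appT_zero_hom]
  rfl

/-- `f^♯ μ : (f^*A)|_{uX} ⟶ (f^*B)|_{uX}` for `μ : A|_X ⟶ B|_X`. -/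
def fSharp (μ : (SheafOfModules.overFunctor S X).obj A ⟶ (SheafOfModules.overFunctor S X).obj B) :
    (SheafOfModules.overFunctor R (u.obj X)).obj ((SheafOfModules.pullback.{u} φ).obj A) ⟶
      (SheafOfModules.overFunctor R (u.obj X)).obj ((SheafOfModules.pullback.{u} φ).obj B) :=
  (Theta φ X A ((SheafOfModules.pullback.{u} φ).obj B)).symm
    (μ ≫ (SheafOfModules.overFunctor S X).map
      ((SheafOfModules.pullbackPushforwardAdjunction.{u} φ).unit.app B))

theorem Theta_fSharp
    (μ : (SheafOfModules.overFunctor S X).obj A ⟶ (SheafOfModules.overFunctor S X).obj B) :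
    Theta φ X A ((SheafOfModules.pullback.{u} φ).obj B) (fSharp φ μ) =
      μ ≫ (SheafOfModules.overFunctor S X).map
        ((SheafOfModules.pullbackPushforwardAdjunction.{u} φ).unit.app B) :=
  Equiv.apply_symm_apply _ _

theorem fSharp_etaApp
    (μ : (SheafOfModules.overFunctor S X).obj A ⟶ (SheafOfModules.overFunctor S X).obj B)
    (T : Over X) (s : A.val.obj (op T.left)) :
    appT (u.obj X) (fSharp φ μ) (Over.mk (u.map T.hom)) (etaApp φ A T.left s) =
      etaApp φ B T.left (appT X μ T s) := by
  have h1 := Theta_apply φ X A ((SheafOfModules.pullback.{u} φ).obj B) (fSharp φ μ) T s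
  rw [Theta_fSharp, appT_comp, appT_map] at h1
  have h2 := congrArg (pOut φ _ T.left) h1
  rw [pOut_pIn] at h2
  exact h2.symm

/-- the key compatibility `Θ(f^♯μ ≫ h) = μ ≫ Θ(h)`. -/
theorem Theta_fSharp_comp
    (μ : (SheafOfModules.overFunctor S X).obj A ⟶ (SheafOfModules.overFunctor S X).obj B)
    (h : (SheafOfModules.overFunctor R (u.obj X)).obj ((SheafOfModules.pullback.{u} φ).obj B) ⟶
      (SheafOfModules.overFunctor R (u.obj X)).obj G) :
    Theta φ X A G (fSharp φ μ ≫ h) = μ ≫ Theta φ X B G h := by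
  apply hom_ext_appT
  intro T s
  rw [Theta_apply, appT_comp, appT_comp, Theta_apply, fSharp_etaApp]

theorem fSharp_comp {B' : SheafOfModules.{u} S}
    (μ : (SheafOfModules.overFunctor S X).obj A ⟶ (SheafOfModules.overFunctor S X).obj B)
    (ν : (SheafOfModules.overFunctor S X).obj B ⟶ (SheafOfModules.overFunctor S X).obj B') :
    fSharp φ (μ ≫ ν) = fSharp φ μ ≫ fSharp φ ν := by
  apply (Theta φ X A ((SheafOfModules.pullback.{u} φ).obj B')).injective
  rw [Theta_fSharp_comp, Theta_fSharp, Theta_fSharp, Category.assoc]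

theorem fSharp_zero :
    fSharp φ (0 : (SheafOfModules.overFunctor S X).obj A ⟶ (SheafOfModules.overFunctor S X).obj B) =
      0 := by
  apply (Theta φ X A ((SheafOfModules.pullback.{u} φ).obj B)).injective
  rw [Theta_fSharp, Theta_zero, zero_comp]

theorem fSharp_id :
    fSharp φ (𝟙 ((SheafOfModules.overFunctor S X).obj A)) = 𝟙 _ := by
  apply (Theta φ X A ((SheafOfModules.pullback.{u} φ).obj A)).injective
  rw [Theta_fSharp, Category.id_comp]
  apply hom_ext_appT
  intro T s
  rw [Theta_apply, appT_map]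
  rfl

end sharp

end

end Groth.Agent.Lib.Helper21.HomU
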