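import Mathlib
import Groth.Prelude.Def_ModSite
import Groth.Agent.Lib.Helper21HomI1
import Groth.Agent.Lib.Helper21HomU5

/-!
# Helper21: sections of the internal hom are morphisms of restrictions; morphisms into the internal
hom are bilinear families
(for the ModSite rows S6157, S6158, S6853)
-/

set_option autoImplicit false
universe u
open CategoryTheory CategoryTheory.Limits Opposite

namespace Groth.Agent.Lib.Helper21.HomI

open Groth.Agent.Lib.Helper21.HomU

noncomputable section

variable {C : Type u} [SmallCategory C] {J : GrothendieckTopology C} {O : Sheaf J CommRingCat.{u}}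

section mor

variable {F G : ModSite.Mod O} {W : C}

/-- the family of a morphism `F|_W ⟶ G|_W`. -/
def famOfMor (κ : (ModSite.restr O W).obj F ⟶ (ModSite.restr O W).obj G) : HomFam F G W where
  val V b x := appT W κ (Over.mk b) x
  add V b x y := appT_add κ (Over.mk b) x y
  smul V b r x := appT_smul κ (Over.mk b) r x
  compat {V' V} g b x :=
    appT_nat κ (Over.mk b) (Over.homMk g : Over.mk (g ≫ b) ⟶ Over.mk b) x

theorem famOfMor_val (κ : (ModSite.restr O W).obj F ⟶ (ModSite.restr O W).obj G) (V : C)
    (b : V ⟶ W) (x : F.val.obj (op V)) : (famOfMor κ).val V b x = appT W κ (Over.mk b) x := rfl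

/-- the morphism `F|_W ⟶ G|_W` of a family. -/
def morOfFam (h : HomFam F G W) : (ModSite.restr O W).obj F ⟶ (ModSite.restr O W).obj G where
  val := PresheafOfModules.homMk (M₁ := ((ModSite.restr O W).obj F).val)
      (M₂ := ((ModSite.restr O W).obj G).val)
    { app := fun T => AddCommGrpCat.ofHom
        { toFun := fun x => h.val T.unop.left T.unop.hom x
          map_zero' := h.zero' _ _
          map_add' := h.add _ _ }
      naturality := fun T T' φ => by
        ext x
        have h1 := h.compat φ.unop.left T.unop.hom x
        rw [Over.w] at h1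
        exact h1.symm }
    (fun T r x => h.smul T.unop.left T.unop.hom r x)

theorem appT_morOfFam (h : HomFam F G W) (T : Over W) (x : F.val.obj (op T.left)) :
    appT W (morOfFam h) T x = h.val T.left T.hom x := rfl

/-- `HomFam F G W ≃ Hom(F|_W, G|_W)`. -/
def famEquivMor : HomFam F G W ≃ ((ModSite.restr O W).obj F ⟶ (ModSite.restr O W).obj G) where
  toFun := morOfFam
  invFun := famOfMor
  left_inv h := by
    apply HomFam.ext
    funext V b x
    rfl
  right_inv κ := by
    apply hom_ext_appT
    intro T x
    rfl

end mor

/-- bilinear families `A × F → G`. -/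
@[ext]
structure Bil (A F G : ModSite.Mod O) where
  val : ∀ (V : C), A.val.obj (op V) → F.val.obj (op V) → G.val.obj (op V)
  add_left : ∀ (V : C) (a a' : A.val.obj (op V)) (x : F.val.obj (op V)),
    val V (a + a') x = val V a x + val V a' x
  add_right : ∀ (V : C) (a : A.val.obj (op V)) (x y : F.val.obj (op V)),
    val V a (x + y) = val V a x + val V a y
  smul_left : ∀ (V : C) (r : (ModSite.ringSh O).obj.obj (op V)) (a : A.val.obj (op V))
    (x : F.val.obj (op V)), val V (r • a) x = r • val V a x
  smul_right : ∀ (V : C) (r : (ModSite.ringSh O).obj.obj (op V)) (a : A.val.obj (op V))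
    (x : F.val.obj (op V)), val V a (r • x) = r • val V a x
  compat : ∀ {V' V : C} (g : V' ⟶ V) (a : A.val.obj (op V)) (x : F.val.obj (op V)),
    rs G g (val V a x) = val V' (rs A g a) (rs F g x)

namespace Bil

variable {A F G : ModSite.Mod O}

theorem zero_left (β : Bil A F G) (V : C) (x : F.val.obj (op V)) : β.val V 0 x = 0 := by
  have := β.add_left V 0 0 x
  rw [add_zero] at this
  exact left_eq_add.mp this

/-- post-composition with `g : G ⟶ G'`. -/
def postcomp {G' : ModSite.Mod O} (β : Bil A F G) (g : G ⟶ G') : Bil A F G' where
  val V a x := (g.val.app (op V)).hom (β.val V a x)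
  add_left V a a' x := by rw [β.add_left, map_add]
  add_right V a x y := by rw [β.add_right, map_add]
  smul_left V r a x := by rw [β.smul_left, map_smul]
  smul_right V r a x := by rw [β.smul_right, map_smul]
  compat {V' V} k a x := by rw [rs_nat, β.compat]

/-- pre-composition with `u : A' ⟶ A` in the first variable. -/
def precomp {A' : ModSite.Mod O} (β : Bil A F G) (u : A' ⟶ A) : Bil A' F G where
  val V a x := β.val V ((u.val.app (op V)).hom a) x
  add_left V a a' x := by rw [map_add, β.add_left]
  add_right V a x y := β.add_right _ _ _ _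
  smul_left V r a x := by rw [map_smul, β.smul_left]
  smul_right V r a x := β.smul_right _ _ _ _
  compat {V' V} k a x := by rw [β.compat, rs_nat]

end Bil

section curry

variable {A F G : ModSite.Mod O}

/-- the family `x ↦ β(a|_V, x)` attached to a bilinear family and a section `a` over `W`. -/
def Bil.fam (β : Bil A F G) (W : C) (a : A.val.obj (op W)) : HomFam F G W where
  val V b x := β.val V (rs A b a) x
  add V b x y := β.add_right _ _ _ _
  smul V b r x := β.smul_right _ _ _ _
  compat {V' V} g b x := by rw [β.compat, ← rs_comp]

theorem Bil.fam_val (β : Bil A F G) (W : C) (a : A.val.obj (op W)) (V : C) (b : V ⟶ W)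
    (x : F.val.obj (op V)) : (β.fam W a).val V b x = β.val V (rs A b a) x := rfl

/-- `A ⟶ ℋom(F, G)` from a bilinear family. -/
def Bil.curry (β : Bil A F G) : A ⟶ iHom F G where
  val := PresheafOfModules.homMk (M₁ := A.val) (M₂ := homIPM F G)
    { app := fun W => AddCommGrpCat.ofHom
        { toFun := fun a => β.fam W.unop a
          map_zero' := by
            apply HomFam.ext
            funext V b x
            rw [Bil.fam_val, rs_zero, β.zero_left]
            rfl
          map_add' := fun a a' => by
            apply HomFam.ext
            funext V b x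
            rw [Bil.fam_val, rs_add, β.add_left]
            rfl }
      naturality := fun W W' k => by
        ext a
        apply HomFam.ext
        funext V b x
        change β.val V (rs A b (rs A k.unop a)) x = β.val V (rs A (b ≫ k.unop) a) x
        rw [rs_comp] }
    (fun W r a => by
      apply HomFam.ext
      funext V b x
      change β.val V (rs A b (r • a)) x = rsO (ModSite.ringSh O) b r • β.val V (rs A b a) x
      rw [rs_smul, β.smul_left])

/-- a morphism `A ⟶ ℋom(F, G)` on sections, as a plain function. -/
def kapI (κ : A ⟶ iHom F G) (W : C) (a : A.val.obj (op W)) : HomFam F G W :=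
  iOut W ((κ.val.app (op W)).hom a)

theorem kapI_add (κ : A ⟶ iHom F G) (W : C) (a a' : A.val.obj (op W)) :
    kapI κ W (a + a') = kapI κ W a + kapI κ W a' :=
  map_add (κ.val.app (op W)).hom a a'

theorem kapI_smul (κ : A ⟶ iHom F G) (W : C) (r : (ModSite.ringSh O).obj.obj (op W))
    (a : A.val.obj (op W)) : kapI κ W (r • a) = r • kapI κ W a :=
  map_smul (κ.val.app (op W)).hom r a

theorem kapI_nat (κ : A ⟶ iHom F G) {W W' : C} (g : W' ⟶ W) (a : A.val.obj (op W)) :
    kapI κ W' (rs A g a) = HomFam.res g (kapI κ W a) :=
  PresheafOfModules.naturality_apply κ.val g.op a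

theorem kapI_curry (β : Bil A F G) (W : C) (a : A.val.obj (op W)) :
    kapI β.curry W a = β.fam W a := rfl

/-- the bilinear family of a morphism `A ⟶ ℋom(F, G)`. -/
def uncurry (κ : A ⟶ iHom F G) : Bil A F G where
  val V a x := (kapI κ V a).val V (𝟙 V) x
  add_left V a a' x := by rw [kapI_add]; rfl
  add_right V a x y := (kapI κ V a).add _ _ _ _
  smul_left V r a x := by rw [kapI_smul, HomFam.smul_val, rsO_id]
  smul_right V r a x := (kapI κ V a).smul _ _ _ _
  compat {V' V} g a x := by
    rw [(kapI κ V a).compat, kapI_nat, HomFam.res_val, Category.id_comp, Category.comp_id]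

theorem uncurry_val (κ : A ⟶ iHom F G) (V : C) (a : A.val.obj (op V)) (x : F.val.obj (op V)) :
    (uncurry κ).val V a x = (kapI κ V a).val V (𝟙 V) x := rfl

/-- `Bil(A, F; G) ≃ Hom(A, ℋom(F, G))`. -/
def curryEquiv : Bil A F G ≃ (A ⟶ iHom F G) where
  toFun := Bil.curry
  invFun := uncurry
  left_inv β := by
    apply Bil.ext
    funext V a x
    rw [uncurry_val, kapI_curry, Bil.fam_val, rs_id]
  right_inv κ := by
    apply SheafOfModules.hom_ext
    apply PresheafOfModules.hom_ext
    intro W
    ext a
    change (uncurry κ).fam W.unop a = kapI κ W.unop a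
    apply HomFam.ext
    funext V b x
    rw [Bil.fam_val, uncurry_val, kapI_nat, HomFam.res_val, Category.id_comp]

theorem curryEquiv_precomp {A' : ModSite.Mod O} (β : Bil A F G) (u : A' ⟶ A) :
    curryEquiv (β.precomp u) = u ≫ curryEquiv β := by
  apply SheafOfModules.hom_ext
  apply PresheafOfModules.hom_ext
  intro W
  ext a
  change (β.precomp u).fam W.unop a = β.fam W.unop ((u.val.app W).hom a)
  apply HomFam.ext
  funext V b x
  change β.val V ((u.val.app (op V)).hom (rs A' b a)) x = β.val V (rs A b ((u.val.app W).hom a)) x
  rw [rs_nat]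

end curry

section functorial

variable {F G G' : ModSite.Mod O}

/-- post-composition of a family with `g : G ⟶ G'`. -/
def HomFam.postcomp {W : C} (h : HomFam F G W) (g : G ⟶ G') : HomFam F G' W where
  val V b x := (g.val.app (op V)).hom (h.val V b x)
  add V b x y := by rw [h.add, map_add]
  smul V b r x := by rw [h.smul, map_smul]
  compat {V' V} k b x := by rw [rs_nat, h.compat]

theorem HomFam.postcomp_val {W : C} (h : HomFam F G W) (g : G ⟶ G') (V : C) (b : V ⟶ W)
    (x : F.val.obj (op V)) : (h.postcomp g).val V b x = (g.val.app (op V)).hom (h.val V b x) := rfl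

/-- `ℋom(F, G) ⟶ ℋom(F, G')`. -/
def iHomMap (F : ModSite.Mod O) {G G' : ModSite.Mod O} (g : G ⟶ G') : iHom F G ⟶ iHom F G' where
  val := PresheafOfModules.homMk (M₁ := homIPM F G) (M₂ := homIPM F G')
    { app := fun W => AddCommGrpCat.ofHom
        { toFun := fun h => HomFam.postcomp (W := W.unop) h g
          map_zero' := by
            apply HomFam.ext
            funext V b x
            exact map_zero (g.val.app (op V)).hom
          map_add' := fun h k => by
            apply HomFam.ext
            funext V b x
            exact map_add (g.val.app (op V)).hom _ _ }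
      naturality := fun W W' k => by
        ext h
        rfl }
    (fun W r h => by
      apply HomFam.ext
      funext V b x
      exact map_smul (g.val.app (op V)).hom _ _)

theorem kapI_comp_iHomMap {A : ModSite.Mod O} (κ : A ⟶ iHom F G) (g : G ⟶ G') (W : C)
    (a : A.val.obj (op W)) : kapI (κ ≫ iHomMap F g) W a = (kapI κ W a).postcomp g := rfl

theorem curryEquiv_postcomp {A : ModSite.Mod O} (β : Bil A F G) (g : G ⟶ G') :
    curryEquiv (β.postcomp g) = curryEquiv β ≫ iHomMap F g := by
  apply SheafOfModules.hom_ext
  apply PresheafOfModules.hom_ext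
  intro W
  ext a
  rfl

end functorial

end

end Groth.Agent.Lib.Helper21.HomI
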