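import Mathlib
import Groth.Prelude.Def_Formal
import Groth.Agent.Lib.Helper21HomI2

/-!
# Helper17: the internal Hom `ℋom(M, N)` of `O_X`-modules on a scheme (helper21's explicit `iHom`),
its global sections `= Hom(M, N)`, functoriality in `N`
-/

set_option autoImplicit false
universe u
open CategoryTheory CategoryTheory.Limits AlgebraicGeometry TopologicalSpace Opposite

namespace Groth.Agent.Lib.Helper17.FFaith

open Groth.Agent.Lib.Helper21.HomI Groth.Agent.Lib.Helper21.HomU

noncomputable section

variable {X : Scheme.{u}}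

/-- the internal Hom `ℋom(M, N)` of `O_X`-modules. -/
abbrev sHom (M N : X.Modules) : X.Modules := iHom (O := X.sheaf) M N

/-- families of linear maps over the opens contained in `W`. -/
abbrev Fam (M N : X.Modules) (W : X.Opens) : Type u := HomFam (O := X.sheaf) M N W

/-- the family of a morphism, over any open. -/
def famOfHom {M N : X.Modules} (φ : M ⟶ N) (W : X.Opens) : Fam M N W where
  val V _ x := (φ.val.app (op V)).hom x
  add V _ x y := map_add (φ.val.app (op V)).hom x y
  smul V _ r x := map_smul (φ.val.app (op V)).hom r x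
  compat {V' V} g _ x := rs_nat (R := X.ringCatSheaf) g φ x

theorem famOfHom_val {M N : X.Modules} (φ : M ⟶ N) (W V : X.Opens) (b : V ⟶ W)
    (x : M.val.obj (op V)) : (famOfHom φ W).val V b x = (φ.val.app (op V)).hom x := rfl

/-- the morphism of a family over the whole space. -/
def homOfFam {M N : X.Modules} (h : Fam M N ⊤) : M ⟶ N where
  val := PresheafOfModules.homMk (M₁ := M.val) (M₂ := N.val)
    { app := fun V => AddCommGrpCat.ofHom
        { toFun := fun x => h.val V.unop (homOfLE le_top) x
          map_zero' := h.zero' _ _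
          map_add' := h.add _ _ }
      naturality := fun V V' g => by
        ext x
        have h1 := h.compat g.unop (homOfLE le_top) x
        exact h1.symm }
    (fun V r x => h.smul V.unop (homOfLE le_top) r x)

theorem homOfFam_app {M N : X.Modules} (h : Fam M N ⊤) (V : X.Opens) (x : M.val.obj (op V)) :
    ((homOfFam h).val.app (op V)).hom x = h.val V (homOfLE le_top) x := rfl

theorem famOfHom_homOfFam {M N : X.Modules} (h : Fam M N ⊤) : famOfHom (homOfFam h) ⊤ = h := by
  apply HomFam.ext
  funext V b x
  have : b = homOfLE le_top := Subsingleton.elim _ _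
  subst this
  rfl

theorem homOfFam_famOfHom {M N : X.Modules} (φ : M ⟶ N) : homOfFam (famOfHom φ ⊤) = φ := by
  apply SheafOfModules.hom_ext
  apply PresheafOfModules.hom_ext
  intro V
  ext x
  rfl

/-- global sections of `ℋom(M, N)` are the morphisms `M ⟶ N`. -/
def topEquiv (M N : X.Modules) : Fam M N ⊤ ≃ (M ⟶ N) where
  toFun := homOfFam
  invFun φ := famOfHom φ ⊤
  left_inv := famOfHom_homOfFam
  right_inv := homOfFam_famOfHom

theorem famOfHom_comp {M N N' : X.Modules} (φ : M ⟶ N) (g : N ⟶ N') (W : X.Opens) :
    famOfHom (φ ≫ g) W = (famOfHom φ W).postcomp g := by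
  apply HomFam.ext
  funext V b x
  rfl

theorem homOfFam_postcomp {M N N' : X.Modules} (h : Fam M N ⊤) (g : N ⟶ N') :
    homOfFam (h.postcomp g) = homOfFam h ≫ g := by
  apply SheafOfModules.hom_ext
  apply PresheafOfModules.hom_ext
  intro V
  ext x
  rfl

theorem famOfHom_add {M N : X.Modules} (φ φ' : M ⟶ N) (W : X.Opens) :
    famOfHom (φ + φ') W = famOfHom φ W + famOfHom φ' W := by
  apply HomFam.ext
  funext V b x
  rfl

/-- `ℋom(M, -)` on morphisms. -/
abbrev sHomMap (M : X.Modules) {N N' : X.Modules} (g : N ⟶ N') : sHom M N ⟶ sHom M N' :=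
  iHomMap (O := X.sheaf) M g

theorem sHomMap_id (M N : X.Modules) : sHomMap M (𝟙 N) = 𝟙 (sHom M N) := by
  apply SheafOfModules.hom_ext
  apply PresheafOfModules.hom_ext
  intro W
  ext h
  rfl

theorem sHomMap_comp (M : X.Modules) {N N' N'' : X.Modules} (g : N ⟶ N') (g' : N' ⟶ N'') :
    sHomMap M (g ≫ g') = sHomMap M g ≫ sHomMap M g' := by
  apply SheafOfModules.hom_ext
  apply PresheafOfModules.hom_ext
  intro W
  ext h
  rfl

/-- the functor `ℋom(M, -)`. -/
def sHomF (M : X.Modules) : X.Modules ⥤ X.Modules where
  obj N := sHom M N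
  map g := sHomMap M g
  map_id N := sHomMap_id M N
  map_comp g g' := sHomMap_comp M g g'

/-- sections of `ℋom(M, N)` over `W`, as families. -/
def secOut {M N : X.Modules} (W : X.Opens) (s : (sHom M N).val.obj (op W)) : Fam M N W := s

/-- families over `W` as sections of `ℋom(M, N)`. -/
def secIn {M N : X.Modules} (W : X.Opens) (h : Fam M N W) : (sHom M N).val.obj (op W) := h

theorem sHomMap_app {M N N' : X.Modules} (g : N ⟶ N') (W : X.Opens)
    (s : (sHom M N).val.obj (op W)) :
    secOut W (((sHomMap M g).val.app (op W)).hom s) = (secOut W s).postcomp g := rfl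

end

end Groth.Agent.Lib.Helper17.FFaith
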