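import Mathlib

/-!
# A Hilbert basis theorem for graded systems of modules (helper17)

A *graded system* is a sequence of `A`-modules `M n` with commuting `A`-linear operators
`t i n : M n → M (n+1)`, `i : Fin r`.  It is *of finite type* if `M (n+1) = ∑ t_i (M n)` for
`n ≫ 0`.  Over a Noetherian ring, with all `M n` finite, every graded subsystem stable under the
operators is again of finite type (`hilbert_basis`).
-/

set_option autoImplicit false
universe u w
open DirectSum

namespace Groth.Agent.Lib.Helper17.GrHB

variable {A : Type u} [CommRing A] {r : ℕ} (M : ℕ → Type w) [∀ n, AddCommGroup (M n)]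
  [∀ n, Module A (M n)] (t : Fin r → ∀ n, M n →ₗ[A] M (n + 1))

/-- the operator `t i` on the direct sum. -/
noncomputable def Tt (i : Fin r) : (⨁ n, M n) →ₗ[A] (⨁ n, M n) :=
  DirectSum.toModule A ℕ (⨁ n, M n) (fun n => (DirectSum.lof A ℕ M (n + 1)).comp (t i n))

theorem Tt_lof (i : Fin r) (n : ℕ) (x : M n) :
    Tt M t i (lof A ℕ M n x) = lof A ℕ M (n + 1) (t i n x) := by
  simp [Tt]

theorem component_succ_comp_Tt (i : Fin r) (n : ℕ) :
    (component A ℕ M (n + 1)).comp (Tt M t i) = (t i n).comp (component A ℕ M n) := by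
  apply DirectSum.linearMap_ext
  intro n'
  ext x
  simp only [LinearMap.comp_apply, Tt_lof]
  by_cases h : n' = n
  · subst h
    rw [component.lof_self, component.lof_self]
  · rw [component.of, component.of, dif_neg h, dif_neg (by omega), map_zero]

theorem component_zero_comp_Tt (i : Fin r) :
    (component A ℕ M 0).comp (Tt M t i) = 0 := by
  apply DirectSum.linearMap_ext
  intro n'
  ext x
  simp only [LinearMap.comp_apply, Tt_lof, LinearMap.zero_apply]
  rw [component.of, dif_neg (by omega)]

theorem Tt_apply_succ (i : Fin r) (d : ⨁ n, M n) (n : ℕ) : (Tt M t i d) (n + 1) = t i n (d n) :=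
  LinearMap.congr_fun (component_succ_comp_Tt M t i n) d

theorem Tt_comm (comm : ∀ i j n x, t j (n + 1) (t i n x) = t i (n + 1) (t j n x)) (i j : Fin r) :
    Tt M t i * Tt M t j = Tt M t j * Tt M t i := by
  apply DirectSum.linearMap_ext
  intro n
  ext x
  simp only [LinearMap.comp_apply, Module.End.mul_apply, Tt_lof]
  rw [comm]

/-- a submodule of the direct sum stable under the operators is stable under the algebra they
generate. -/
theorem adjoin_apply_mem (W : Submodule A (⨁ n, M n))
    (hW : ∀ i d, d ∈ W → Tt M t i d ∈ W) (σ : Module.End A (⨁ n, M n))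
    (hσ : σ ∈ Algebra.adjoin A (Set.range (Tt M t))) (d : ⨁ n, M n) (hd : d ∈ W) : σ d ∈ W := by
  induction hσ using Algebra.adjoin_induction generalizing d with
  | mem x hx =>
    obtain ⟨i, rfl⟩ := hx
    exact hW i d hd
  | algebraMap a =>
    rw [Module.algebraMap_end_apply]
    exact W.smul_mem a hd
  | add x y _ _ hx hy =>
    rw [LinearMap.add_apply]
    exact W.add_mem (hx d hd) (hy d hd)
  | mul x y _ _ hx hy =>
    rw [Module.End.mul_apply]
    exact hx _ (hy d hd)

section HB

variable [IsNoetherianRing A] [∀ n, Module.Finite A (M n)]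

/-- **Hilbert basis theorem for graded systems**. -/
theorem hilbert_basis
    (comm : ∀ i j n x, t j (n + 1) (t i n x) = t i (n + 1) (t j n x))
    (hft : ∃ n₀, ∀ n, n₀ ≤ n → ∀ x : M (n + 1), ∃ y : Fin r → M n, x = ∑ i, t i n (y i))
    (N : ∀ n, Submodule A (M n)) (hN : ∀ i n x, x ∈ N n → t i n x ∈ N (n + 1)) :
    ∃ n₁, ∀ n, n₁ ≤ n → ∀ x ∈ N (n + 1),
      ∃ y : Fin r → M n, (∀ i, y i ∈ N n) ∧ x = ∑ i, t i n (y i) := by
  classical
  obtain ⟨n₀, hn₀⟩ := hft
  have hcomm : ∀ a ∈ Set.range (Tt M t), ∀ b ∈ Set.range (Tt M t), a * b = b * a := by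
    rintro _ ⟨i, rfl⟩ _ ⟨j, rfl⟩
    exact Tt_comm M t comm i j
  letI : CommRing (Algebra.adjoin A (Set.range (Tt M t))) := Algebra.adjoinCommRingOfComm A hcomm
  haveI : Algebra.FiniteType A (Algebra.adjoin A (Set.range (Tt M t))) := by
    rw [← Subalgebra.fg_iff_finiteType]
    exact Subalgebra.fg_def.2 ⟨_, Set.finite_range _, rfl⟩
  haveI : IsNoetherianRing (Algebra.adjoin A (Set.range (Tt M t))) :=
    Algebra.FiniteType.isNoetherianRing A _
  -- the direct sum is a finite module
  choose G hG using fun n => (Module.Finite.fg_top (R := A) (M := M n))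
  have hfin : Module.Finite (Algebra.adjoin A (Set.range (Tt M t))) (⨁ n, M n) := by
    refine ⟨⟨(Finset.range (n₀ + 1)).biUnion (fun n => (G n).image (lof A ℕ M n)), ?_⟩⟩
    rw [eq_top_iff]
    rintro d -
    have key : ∀ n (x : M n), lof A ℕ M n x ∈ Submodule.span
        (Algebra.adjoin A (Set.range (Tt M t)))
        (((Finset.range (n₀ + 1)).biUnion (fun n => (G n).image (lof A ℕ M n)) : Finset _) :
          Set (⨁ n, M n)) := by
      intro n
      induction n with
      | zero =>
        intro x
        have hx : x ∈ Submodule.span A (G 0 : Set (M 0)) := by rw [hG 0]; trivial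
        induction hx using Submodule.span_induction with
        | mem g hg =>
          apply Submodule.subset_span
          simp only [Finset.coe_biUnion, Finset.coe_range, Set.mem_Iio, Finset.coe_image,
            Set.mem_iUnion, Set.mem_image, Finset.mem_coe, exists_prop]
          exact ⟨0, by omega, g, hg, rfl⟩
        | zero => rw [map_zero]; exact zero_mem _
        | add a b _ _ ha hb => rw [map_add]; exact add_mem ha hb
        | smul a x _ hx =>
          rw [map_smul]
          have := Submodule.smul_mem _ (algebraMap A (Algebra.adjoin A (Set.range (Tt M t))) a) hx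
          convert this using 1
          rfl
      | succ m ih =>
        intro x
        by_cases hm : m + 1 ≤ n₀
        · have hx : x ∈ Submodule.span A (G (m + 1) : Set (M (m + 1))) := by
            rw [hG (m + 1)]; trivial
          induction hx using Submodule.span_induction with
          | mem g hg =>
            apply Submodule.subset_span
            simp only [Finset.coe_biUnion, Finset.coe_range, Set.mem_Iio, Finset.coe_image,
              Set.mem_iUnion, Set.mem_image, Finset.mem_coe, exists_prop]
            exact ⟨m + 1, by omega, g, hg, rfl⟩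
          | zero => rw [map_zero]; exact zero_mem _
          | add a b _ _ ha hb => rw [map_add]; exact add_mem ha hb
          | smul a x _ hx =>
            rw [map_smul]
            have := Submodule.smul_mem _
              (algebraMap A (Algebra.adjoin A (Set.range (Tt M t))) a) hx
            convert this using 1
            rfl
        · obtain ⟨y, rfl⟩ := hn₀ m (by omega) x
          rw [map_sum]
          refine Submodule.sum_mem _ (fun i _ => ?_)
          rw [← Tt_lof]
          exact Submodule.smul_mem _
            (⟨Tt M t i, Algebra.subset_adjoin ⟨i, rfl⟩⟩ : Algebra.adjoin A (Set.range (Tt M t)))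
            (ih (y i))
    induction d using DirectSum.induction_on with
    | zero => exact zero_mem _
    | of n x => exact key n x
    | add x y hx hy => exact add_mem hx hy
  haveI : IsNoetherian (Algebra.adjoin A (Set.range (Tt M t))) (⨁ n, M n) :=
    isNoetherian_of_isNoetherianRing_of_finite _ _
  -- the graded submodule
  let PA : Submodule A (⨁ n, M n) :=
    { carrier := {d | ∀ n, d n ∈ N n}
      add_mem' := fun {a b} ha hb n => by
        rw [DirectSum.add_apply]; exact (N n).add_mem (ha n) (hb n)
      zero_mem' := fun n => by rw [DirectSum.zero_apply]; exact (N n).zero_mem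
      smul_mem' := fun a d hd n => by
        rw [DirectSum.smul_apply]; exact (N n).smul_mem a (hd n) }
  have hPA : ∀ i d, d ∈ PA → Tt M t i d ∈ PA := by
    intro i d hd n
    rcases n with _ | n
    · have := LinearMap.congr_fun (component_zero_comp_Tt M t i) d
      change (Tt M t i d) 0 = 0 at this
      rw [this]; exact (N 0).zero_mem
    · rw [Tt_apply_succ]
      exact hN i n _ (hd n)
  let P : Submodule (Algebra.adjoin A (Set.range (Tt M t))) (⨁ n, M n) :=
    { carrier := PA
      add_mem' := fun ha hb => PA.add_mem ha hb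
      zero_mem' := PA.zero_mem
      smul_mem' := fun σ d hd => adjoin_apply_mem M t PA hPA σ.1 σ.2 d hd }
  obtain ⟨Gp, hGp⟩ := (IsNoetherian.noetherian P : P.FG)
  let n₁ : ℕ := Gp.sup (fun g => (DFinsupp.support g).sup id)
  have hn₁ : ∀ g ∈ Gp, ∀ n, n₁ ≤ n → g (n + 1) = 0 := by
    intro g hg n hn
    by_contra h
    have h1 : n + 1 ∈ DFinsupp.support g := DFinsupp.mem_support_iff.2 h
    have h2 : n + 1 ≤ (DFinsupp.support g).sup id := Finset.le_sup (f := id) h1
    have h3 : (DFinsupp.support g).sup id ≤ n₁ :=
      Finset.le_sup (f := fun g => (DFinsupp.support g).sup id) hg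
    omega
  let QA : Submodule A (⨁ n, M n) :=
    { carrier := {d | d ∈ PA ∧ ∀ n, n₁ ≤ n →
        ∃ y : Fin r → M n, (∀ i, y i ∈ N n) ∧ d (n + 1) = ∑ i, t i n (y i)}
      add_mem' := by
        rintro a b ⟨ha, ha'⟩ ⟨hb, hb'⟩
        refine ⟨PA.add_mem ha hb, fun n hn => ?_⟩
        obtain ⟨y, hy, e⟩ := ha' n hn
        obtain ⟨y', hy', e'⟩ := hb' n hn
        refine ⟨y + y', fun i => (N n).add_mem (hy i) (hy' i), ?_⟩
        rw [DirectSum.add_apply, e, e', ← Finset.sum_add_distrib]
        simp
      zero_mem' := ⟨PA.zero_mem, fun n _ => ⟨0, fun i => (N n).zero_mem, by simp⟩⟩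
      smul_mem' := by
        rintro a d ⟨hd, hd'⟩
        refine ⟨PA.smul_mem a hd, fun n hn => ?_⟩
        obtain ⟨y, hy, e⟩ := hd' n hn
        refine ⟨a • y, fun i => (N n).smul_mem a (hy i), ?_⟩
        rw [DirectSum.smul_apply, e, Finset.smul_sum]
        simp }
  have hQA : ∀ i d, d ∈ QA → Tt M t i d ∈ QA := by
    rintro i d ⟨hd, -⟩
    refine ⟨hPA i d hd, fun n _ => ⟨Pi.single i (d n), fun j => ?_, ?_⟩⟩
    · by_cases hji : j = i
      · subst hji; rw [Pi.single_eq_same]; exact hd n
      · rw [Pi.single_eq_of_ne hji]; exact (N n).zero_mem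
    · rw [Tt_apply_succ, Finset.sum_eq_single i]
      · rw [Pi.single_eq_same]
      · intro j _ hji
        rw [Pi.single_eq_of_ne hji, map_zero]
      · intro h; exact absurd (Finset.mem_univ i) h
  let Q : Submodule (Algebra.adjoin A (Set.range (Tt M t))) (⨁ n, M n) :=
    { carrier := QA
      add_mem' := fun ha hb => QA.add_mem ha hb
      zero_mem' := QA.zero_mem
      smul_mem' := fun σ d hd => adjoin_apply_mem M t QA hQA σ.1 σ.2 d hd }
  have hPQ : P ≤ Q := by
    rw [← hGp, Submodule.span_le]
    intro g hg
    have hgP : g ∈ P := by rw [← hGp]; exact Submodule.subset_span hg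
    exact ⟨hgP, fun n hn => ⟨0, fun i => (N n).zero_mem, by
      rw [hn₁ g hg n hn]; simp⟩⟩
  refine ⟨n₁, fun n hn x hx => ?_⟩
  have hd : lof A ℕ M (n + 1) x ∈ P := by
    intro m
    by_cases hm : n + 1 = m
    · subst hm; rw [lof_apply]; exact hx
    · have : (lof A ℕ M (n + 1) x) m = 0 := by
        rw [lof_eq_of, DirectSum.of_eq_of_ne _ _ _ (Ne.symm hm)]
      rw [this]; exact (N m).zero_mem
  obtain ⟨y, hy, e⟩ := (hPQ hd).2 n hn
  rw [lof_apply] at e
  exact ⟨y, hy, e⟩

end HB

end Groth.Agent.Lib.Helper17.GrHB
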