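import Mathlib
import Groth.Prelude.Def_Omega4
import Groth.Agent.Lib.Helper18OmLS9
import Groth.Agent.Lib.Helper23FinTypeLocal

set_option autoImplicit false
set_option linter.style.haveILetI false
universe u
open CategoryTheory CategoryTheory.Limits AlgebraicGeometry TopologicalSpace Opposite
open KaehlerDifferential TensorProduct
open Groth.Agent.Lib.Helper23.ModLocal Groth.Agent.Lib.Helper23.QCohLocal Groth.Agent.Lib.Helper23.FinType
  Groth.Agent.Lib.Helper20.PullbackAff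

namespace Groth.Agent.Helper18OmLS

section cover
variable {X : Scheme.{u}}

theorem surjective_app_of_eq {M N : X.Modules} (φ : M ⟶ N) {A B : X.Opens} (h : A = B)
    (hb : Function.Surjective (φ.app B)) : Function.Surjective (φ.app A) := by
  subst h; exact hb

/-- a morphism of quasi-coherent modules which is surjective on sections over the members of an affine open
cover is an epimorphism. -/
theorem epi_of_surjective_app_cover {M N : X.Modules} [M.IsQuasicoherent] [N.IsQuasicoherent]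
    (φ : M ⟶ N) {ι : Type*} (V : ι → X.Opens) (hV : IsOpenCover V) (hVa : ∀ i, IsAffineOpen (V i))
    (h : ∀ i, Function.Surjective (φ.app (V i))) : Epi φ := by
  refine epi_of_surjective_ΓU φ V hV hVa fun i => ?_
  have h1 : (hVa i).fromSpec ''ᵁ ⊤ = V i :=
    (Scheme.Hom.image_top_eq_opensRange _).trans (hVa i).opensRange_fromSpec
  exact surjective_app_of_eq φ h1 (h i)

end cover

section S5015

theorem surjective_iff_formallyUnramified {C A B : Type u} [CommRing C] [CommRing A] [CommRing B]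
    [Algebra C A] [Algebra A B] [Algebra C B] [IsScalarTower C A B]
    (κ : B ⊗[A] Ω[A⁄C] →ₗ[B] Ω[B⁄C])
    (hκ : ∀ (b : B) (a : A), κ (b ⊗ₜ D C A a) = b • D C B (algebraMap A B a)) :
    Function.Surjective κ ↔ Algebra.FormallyUnramified A B := by
  have h1 : κ = KaehlerDifferential.mapBaseChange C A B := by
    apply tensor_kaehler_ext
    intro a
    rw [hκ, KaehlerDifferential.mapBaseChange_tmul, KaehlerDifferential.map_D]
  rw [h1]
  constructor
  · intro hs
    refine ⟨⟨fun x y => ?_⟩⟩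
    have key : ∀ z : Ω[B⁄A], z = 0 := by
      intro z
      obtain ⟨w, rfl⟩ := KaehlerDifferential.map_surjective C A B z
      obtain ⟨t, rfl⟩ := hs w
      exact (KaehlerDifferential.exact_mapBaseChange_map C A B _).mpr ⟨t, rfl⟩
    rw [key x, key y]
  · intro hu w
    have : KaehlerDifferential.map C A B B w = 0 := Subsingleton.elim _ _
    exact (KaehlerDifferential.exact_mapBaseChange_map C A B w).mp this


theorem surjective_iff_of_model {B M N M' N' : Type u} [CommRing B] [AddCommGroup M] [AddCommGroup N]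
    [AddCommGroup M'] [AddCommGroup N'] [Module B M] [Module B N] [Module B M'] [Module B N']
    (e₁ : M' ≃ₗ[B] M) (e₂ : N ≃ₗ[B] N') (κ : M' →ₗ[B] N') (φ : M → N)
    (h : ∀ t, κ t = e₂ (φ (e₁ t))) : Function.Surjective φ ↔ Function.Surjective κ := by
  have h1 : φ = e₂.symm ∘ κ ∘ e₁.symm := by
    funext t
    simp [h]
  have h2 : ⇑κ = e₂ ∘ φ ∘ e₁ := by
    funext t
    simp [h]
  constructor
  · intro hs
    rw [h2]
    exact e₂.surjective.comp (hs.comp e₁.surjective)
  · intro hs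
    rw [h1]
    exact e₂.symm.surjective.comp (hs.comp e₁.symm.surjective)

theorem chart_S5015 {X Y S : Scheme.{u}} (g : Y ⟶ S) (h : X ⟶ S)
    (f : X ⟶ Y) (w : f ≫ g = h)
    (ΩY : Y.Modules) (dY : OmegaSh.Der g ΩY) (hY : OmegaSh.IsUniversal dY)
    (ΩX : X.Modules) (dX : OmegaSh.Der h ΩX) (hX : OmegaSh.IsUniversal dX)
    (c : (Scheme.Modules.pullback f).obj ΩY ⟶ ΩX) (hc : OmegaSh.IsDiffCompat f dY dX c)
    {W : S.Opens} (hW : IsAffineOpen W) {V : Y.Opens} (hV : IsAffineOpen V) {U : X.Opens}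
    (hU : IsAffineOpen U) (hVW : V ≤ g ⁻¹ᵁ W) (hUV : U ≤ f ⁻¹ᵁ V) :
    Function.Surjective (c.app U) ↔ (f.appLE V U hUV).hom.FormallyUnramified := by
  have hUW : U ≤ h ⁻¹ᵁ W := by
    intro y hy
    have h1 : g (f y) ∈ W := hVW (hUV hy)
    have h2 : h y = g (f y) := by rw [← w]; rfl
    change h y ∈ W
    rw [h2]; exact h1
  letI algCA : Algebra Γ(S, W) Γ(Y, V) := (g.appLE W V hVW).hom.toAlgebra
  letI algCB : Algebra Γ(S, W) Γ(X, U) := (h.appLE W U hUW).hom.toAlgebra
  letI algAB : Algebra Γ(Y, V) Γ(X, U) := (f.appLE V U hUV).hom.toAlgebra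
  haveI : IsScalarTower Γ(S, W) Γ(Y, V) Γ(X, U) := by
    refine IsScalarTower.of_algebraMap_eq fun r => ?_
    have h1 : g.appLE W V hVW ≫ f.appLE V U hUV = (f ≫ g).appLE W U
        (fun y hy => hVW (hUV hy)) := Scheme.Hom.appLE_comp_appLE _ _ _ _ _ _ _
    have h3 := OmegaSh.appLE_congr_hom w (U := W) (V := U) (fun y hy => hVW (hUV hy)) hUW
    have h4 : h.appLE W U hUW = g.appLE W V hVW ≫ f.appLE V U hUV := by rw [h1, h3]
    exact congr($h4 r)
  obtain ⟨e₁, e₂, κ, hκ1, hκ2⟩ := exists_chart_model f g h dY dX c hc hUV hY hX hU hV hW hVW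
    hW hUW rfl rfl rfl
  rw [surjective_iff_of_model e₁ e₂ κ _ hκ1, surjective_iff_formallyUnramified κ hκ2]
  rfl

theorem main_S5015 {X Y S : Scheme.{u}} (g : Y ⟶ S) (h : X ⟶ S)
    (f : X ⟶ Y) (w : f ≫ g = h)
    (ΩY : Y.Modules) (dY : OmegaSh.Der g ΩY) (hY : OmegaSh.IsUniversal dY)
    (ΩX : X.Modules) (dX : OmegaSh.Der h ΩX) (hX : OmegaSh.IsUniversal dX)
    (c : (Scheme.Modules.pullback f).obj ΩY ⟶ ΩX) (hc : OmegaSh.IsDiffCompat f dY dX c) :
    FormallyUnramified f ↔ Epi c := by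
  haveI := isQuasicoherent_of_isUniversal g dY hY
  haveI := isQuasicoherent_of_isUniversal h dX hX
  have hchart : ∀ x : X, ∃ (W : S.Opens) (V : Y.Opens) (U : X.Opens), IsAffineOpen W ∧
      IsAffineOpen V ∧ IsAffineOpen U ∧ V ≤ g ⁻¹ᵁ W ∧ U ≤ f ⁻¹ᵁ V ∧ x ∈ U := by
    intro x
    obtain ⟨W, hW, hxW, -⟩ := exists_isAffineOpen_mem_and_subset (x := g (f x)) (U := ⊤) trivial
    obtain ⟨V, hV, hxV, hVW⟩ := exists_isAffineOpen_mem_and_subset (x := f x) (U := g ⁻¹ᵁ W) hxW
    obtain ⟨U, hU, hxU, hUV⟩ := exists_isAffineOpen_mem_and_subset (x := x) (U := f ⁻¹ᵁ V) hxV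
    exact ⟨W, V, U, hW, hV, hU, hVW, hUV, hxU⟩
  constructor
  · intro hf
    let ι : Type u := {T : S.Opens × Y.Opens × X.Opens // IsAffineOpen T.1 ∧ IsAffineOpen T.2.1 ∧
      IsAffineOpen T.2.2 ∧ T.2.1 ≤ g ⁻¹ᵁ T.1 ∧ T.2.2 ≤ f ⁻¹ᵁ T.2.1}
    refine epi_of_surjective_app_cover c (fun T : ι => T.1.2.2) ?_ (fun T => T.2.2.2.1) ?_
    · refine IsOpenCover.mk (eq_top_iff.mpr ?_)
      intro x _
      obtain ⟨W, V, U, hW, hV, hU, hVW, hUV, hxU⟩ := hchart x
      exact Opens.mem_iSup.mpr ⟨⟨⟨W, V, U⟩, hW, hV, hU, hVW, hUV⟩, hxU⟩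
    · rintro ⟨⟨W, V, U⟩, hW, hV, hU, hVW, hUV⟩
      exact (chart_S5015 g h f w ΩY dY hY ΩX dX hX c hc hW hV hU hVW hUV).mpr
        (hf.formallyUnramified_appLE hV hU hUV)
  · intro hepi
    rw [HasRingHomProperty.iff_exists_appLE (P := @FormallyUnramified)
      (RingHom.FormallyUnramified.stableUnderComposition.stableUnderCompositionWithLocalizationAway
        RingHom.FormallyUnramified.holdsForLocalizationAway).1]
    intro x
    obtain ⟨W, V, U, hW, hV, hU, hVW, hUV, hxU⟩ := hchart x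
    exact ⟨⟨V, hV⟩, ⟨U, hU⟩, hxU, hUV,
      (chart_S5015 g h f w ΩY dY hY ΩX dX hX c hc hW hV hU hVW hUV).mp
        (surjective_app_of_epi c hU)⟩

end S5015

end Groth.Agent.Helper18OmLS
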