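import Groth.Agent.Lib.Helper17GrSys
import Groth.Agent.Lib.Helper17GrHB
import Groth.Agent.Lib.Helper4DevG
import Groth.Agent.Lib.Helper18OmLS10

/-!
# Graded systems of coherent modules on a Noetherian scheme (helper17)

* `exists_sections_of_JE`, `je_of_sections`: joint epimorphy of morphisms of quasi-coherent modules
  in terms of sections over affine opens;
* `ker_FT`: for a system of finite type of coherent modules on a Noetherian scheme, the kernel
  system of the last operator is of finite type (Hilbert's basis theorem).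
-/

set_option autoImplicit false
universe u
open CategoryTheory Limits AlgebraicGeometry TopologicalSpace Opposite

namespace Groth.Agent.Lib.Helper17.GrSysCoh

open Groth.Agent.Lib.Helper17.GrSys Groth.Agent.Lib.Helper23.QCohLocal
  Groth.Agent.Lib.Helper23.FinType Groth.Agent.Lib.Helper23.Extend Groth.Agent.Lib.Helper4.Dev

attribute [local instance] Abelian.hasFiniteBiproducts

variable {X : Scheme.{u}}

/-- the morphism on sections as a linear map -/
noncomputable def appL {A B : X.Modules} (m : A ⟶ B) (W : X.Opens) :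
    Γ(A, W) →ₗ[Γ(X, W)] Γ(B, W) where
  toFun := fun x => m.app W x
  map_add' := fun x y => map_add _ x y
  map_smul' := fun r x => Scheme.Modules.Hom.app_smul m r x

@[simp] theorem appL_apply {A B : X.Modules} (m : A ⟶ B) (W : X.Opens) (x : Γ(A, W)) :
    appL m W x = m.app W x := rfl

/-- left exactness of sections, for kernels. -/
theorem exists_app_kernel_ι {A B : X.Modules} (m : A ⟶ B) (W : X.Opens) (s : Γ(A, W))
    (hs : m.app W s = 0) : ∃ t : Γ(kernel m, W), (kernel.ι m).app W t = s := by
  let F : X.Modules ⥤ Ab.{u} := Scheme.Modules.toPresheaf X ⋙ (evaluation _ _).obj (op W)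
  haveI : PreservesFiniteLimits F := by
    have h1 : PreservesFiniteLimits (Scheme.Modules.toPresheaf X) := inferInstance
    have h2 : PreservesFiniteLimits ((evaluation (Opens ↥X)ᵒᵖ Ab.{u}).obj (op W)) := inferInstance
    exact @comp_preservesFiniteLimits _ _ _ _ _ _ (Scheme.Modules.toPresheaf X)
      ((evaluation (Opens ↥X)ᵒᵖ Ab.{u}).obj (op W)) h1 h2
  haveI : F.PreservesZeroMorphisms := ⟨fun _ _ => rfl⟩
  let S : ShortComplex X.Modules := ShortComplex.mk (kernel.ι m) m (kernel.condition m)
  have hS : S.Exact := ShortComplex.exact_kernel m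
  haveI : Mono S.f := inferInstanceAs (Mono (kernel.ι m))
  have h := hS.map_of_mono_of_preservesKernel F inferInstance inferInstance
  exact (ShortComplex.ab_exact_iff _).1 h s hs

section JE

variable {r : ℕ} {A : Fin r → X.Modules} {B : X.Modules} (f : ∀ i, A i ⟶ B)

theorem exists_sections_of_JE (hA : ∀ i, (A i).IsQuasicoherent) [B.IsQuasicoherent] (h : JE f)
    {U : X.Opens} (hU : IsAffineOpen U) (s : Γ(B, U)) :
    ∃ y : ∀ i, Γ(A i, U), s = ∑ i, (f i).app U (y i) := by
  haveI : Epi (biproduct.desc f) := (je_iff_epi_desc f).1 h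
  haveI : (⨁ A).IsQuasicoherent := isQuasicoherent_biproduct A hA
  obtain ⟨t, rfl⟩ := surjective_app_of_epi (biproduct.desc f) hU s
  refine ⟨fun i => (biproduct.π A i).app U t, ?_⟩
  have h1 : (∑ i, biproduct.π A i ≫ f i) = biproduct.desc f := by
    have : ∀ i, biproduct.π A i ≫ f i = (biproduct.π A i ≫ biproduct.ι A i) ≫ biproduct.desc f := by
      intro i; rw [Category.assoc, biproduct.ι_desc]
    simp_rw [this]
    rw [← Preadditive.sum_comp, biproduct.total, Category.id_comp]
  rw [← h1, sum_app]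
  rfl

theorem je_of_sections (hA : ∀ i, (A i).IsQuasicoherent) [B.IsQuasicoherent] {ι : Type*}
    (V : ι → X.Opens) (hV : IsOpenCover V) (hVa : ∀ k, IsAffineOpen (V k))
    (h : ∀ k (s : Γ(B, V k)), ∃ y : ∀ i, Γ(A i, V k), s = ∑ i, (f i).app (V k) (y i)) : JE f := by
  rw [je_iff_epi_desc]
  haveI : (⨁ A).IsQuasicoherent := isQuasicoherent_biproduct A hA
  refine Groth.Agent.Helper18OmLS.epi_of_surjective_app_cover (biproduct.desc f) V hV hVa
    (fun k s => ?_)
  obtain ⟨y, rfl⟩ := h k s
  refine ⟨∑ i, (biproduct.ι A i).app (V k) (y i), ?_⟩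
  rw [map_sum]
  refine Finset.sum_congr rfl (fun i _ => ?_)
  have := congrArg (fun φ => Scheme.Modules.Hom.app φ (V k) (y i)) (biproduct.ι_desc f i)
  exact this

end JE

section KerFT

variable [IsNoetherian X] {r : ℕ} (F : Sys X.Modules (r + 1))

theorem app_comp_apply {A B C : X.Modules} (f : A ⟶ B) (g : B ⟶ C) (U : X.Opens) (x : Γ(A, U)) :
    (f ≫ g).app U x = g.app U (f.app U x) := by
  rw [Scheme.Modules.Hom.comp_app]
  rfl

/-- **Hilbert's basis theorem for systems of coherent modules**: the kernel system of the last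
operator of a system of finite type is of finite type. -/
theorem ker_FT (hF : ∀ n, Coh.IsCoh (F.obj n)) (h : F.FT) : F.ker.FT := by
  obtain ⟨n₀, hn₀⟩ := h
  haveI hq : ∀ n, (F.obj n).IsQuasicoherent := fun n => (hF n).1
  haveI hqk : ∀ n, (F.ker.obj n).IsQuasicoherent := fun n => isQuasicoherent_kernel (F.L n)
  have hcov : IsOpenCover (fun V : X.affineOpens => (V : X.Opens)) := iSup_affineOpens_eq_top X
  obtain ⟨s, hs⟩ := hcov.exists_finite_of_compactSpace
  have key : ∀ V : X.affineOpens, ∃ n₁, ∀ n, n₁ ≤ n → ∀ σ : Γ(F.ker.obj (n + 1), V.1),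
      ∃ y : ∀ i : Fin r, Γ(F.ker.obj n, V.1), σ = ∑ i, (F.ker.T i n).app V.1 (y i) := by
    intro V
    haveI : IsNoetherianRing Γ(X, V.1) := IsLocallyNoetherian.component_noetherian V
    haveI : ∀ n, Module.Finite Γ(X, V.1) Γ(F.obj n, V.1) := fun n => by
      haveI := (hF n).2
      exact finite_of_isFiniteType (F.obj n) V.2
    obtain ⟨n₁, hn₁⟩ := Groth.Agent.Lib.Helper17.GrHB.hilbert_basis (A := Γ(X, V.1))
      (fun n => Γ(F.obj n, V.1)) (fun j n => appL (F.T j n) V.1)
      (fun i j n x => by
        simp only [appL_apply]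
        rw [← app_comp_apply, ← app_comp_apply, F.comm])
      ⟨n₀, fun n hn x => exists_sections_of_JE (fun j => F.T j n) (fun _ => hq n) (hn₀ n hn) V.2 x⟩
      (fun n => LinearMap.ker (appL (F.L n) V.1))
      (fun j n x hx => by
        rw [LinearMap.mem_ker] at hx ⊢
        simp only [appL_apply] at hx ⊢
        rw [← app_comp_apply, ← F.comm, app_comp_apply, hx, map_zero])
    refine ⟨n₁, fun n hn σ => ?_⟩
    have hx : (kernel.ι (F.L (n + 1))).app V.1 σ ∈ LinearMap.ker (appL (F.L (n + 1)) V.1) := by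
      rw [LinearMap.mem_ker, appL_apply, ← app_comp_apply, kernel.condition]
      rfl
    obtain ⟨y, hy, e⟩ := hn₁ n hn _ hx
    have hz : ∀ i : Fin r, ∃ z : Γ(F.ker.obj n, V.1),
        (kernel.ι (F.L n)).app V.1 z = y i.castSucc := fun i => by
      have h0 : appL (F.L n) V.1 (y i.castSucc) = 0 := LinearMap.mem_ker.1 (hy i.castSucc)
      exact exists_app_kernel_ι (F.L n) V.1 (y i.castSucc) h0
    choose z hz using hz
    refine ⟨z, ?_⟩
    apply injective_app_of_mono (kernel.ι (F.L (n + 1))) V.1
    rw [e, Fin.sum_univ_castSucc, map_sum]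
    have hlast : (appL (F.T (Fin.last r) n) V.1) (y (Fin.last r)) = 0 :=
      LinearMap.mem_ker.1 (hy (Fin.last r))
    rw [hlast, add_zero]
    refine Finset.sum_congr rfl (fun i _ => ?_)
    rw [appL_apply, ← hz i, ← app_comp_apply, ← app_comp_apply, F.kerT_ι]
  choose n₁ hn₁ using key
  refine ⟨s.sup n₁, fun n hn => ?_⟩
  refine je_of_sections (fun i => F.ker.T i n) (fun _ => hqk n) (fun V : s => (V.1 : X.Opens)) hs
    (fun V => V.1.2) (fun V σ => hn₁ V.1 n ((Finset.le_sup V.2).trans hn) σ)

end KerFT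

end Groth.Agent.Lib.Helper17.GrSysCoh
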