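import Mathlib
import Groth.Prelude.Def_Omega4
import Groth.Agent.Lib.Helper18OmLS10
import Groth.Agent.Lib.Helper23QCohAbelian

set_option autoImplicit false
set_option linter.style.haveILetI false
universe u
open CategoryTheory CategoryTheory.Limits AlgebraicGeometry TopologicalSpace Opposite
open KaehlerDifferential TensorProduct
open Groth.Agent.Helper13PullbackUnit
open Groth.Agent.Lib.Helper23.ModLocal Groth.Agent.Lib.Helper23.QCohLocal Groth.Agent.Lib.Helper23.FinType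
  Groth.Agent.Lib.Helper20.PullbackAff

namespace Groth.Agent.Helper18OmLS

section pullbackId

theorem pullbackId_hom_pullSect {X : Scheme.{u}} (M : X.Modules) (U : X.Opens) (m : Γ(M, U)) :
    ((Scheme.Modules.pullbackId X).hom.app M).app U (OmegaSh.pullSect (𝟙 X) M U m) = m := by
  have h1 := unit_conjugateEquiv Adjunction.id (Scheme.Modules.pullbackPushforwardAdjunction (𝟙 X))
    (Scheme.Modules.pullbackId X).hom M
  rw [Scheme.Modules.conjugateEquiv_pullbackId_hom] at h1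
  have h2 := congrArg (fun φ => Scheme.Modules.Hom.app φ U) h1
  exact (congr($h2 m)).symm

theorem pullbackId_inv_app {X : Scheme.{u}} (M : X.Modules) (U : X.Opens) (m : Γ(M, U)) :
    ((Scheme.Modules.pullbackId X).inv.app M).app U m = OmegaSh.pullSect (𝟙 X) M U m := by
  have h := pullbackId_hom_pullSect M U m
  have h2 := congrArg (((Scheme.Modules.pullbackId X).inv.app M).app U) h
  rw [← h2]
  have h3 : (Scheme.Modules.pullbackId X).hom.app M ≫ (Scheme.Modules.pullbackId X).inv.app M = 𝟙 _ :=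
    (Scheme.Modules.pullbackId X).hom_inv_id_app M
  have h4 := congrArg (fun φ => Scheme.Modules.Hom.app φ U) h3
  exact (congr($h4 (OmegaSh.pullSect (𝟙 X) M U m)))

end pullbackId

section basis
variable {X : Scheme.{u}}

/-- morphisms of modules agreeing on a basis of opens are equal. -/
theorem hom_ext_basis {M N : X.Modules} (φ ψ : M ⟶ N) (B : Set X.Opens)
    (hB : TopologicalSpace.Opens.IsBasis B)
    (h : ∀ U ∈ B, ∀ s : Γ(M, U), φ.app U s = ψ.app U s) : φ = ψ := by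
  apply Scheme.Modules.hom_ext
  intro O
  ext s
  refine N.isSheaf.section_ext (U := op O) fun x hx => ?_
  obtain ⟨V, hVB, hxV, hVO⟩ := TopologicalSpace.Opens.isBasis_iff_nbhd.mp hB hx
  refine ⟨V, hVO, hxV, ?_⟩
  have n1 := congr($(φ.mapPresheaf.naturality (homOfLE hVO).op) s)
  have n2 := congr($(ψ.mapPresheaf.naturality (homOfLE hVO).op) s)
  exact n1.symm.trans ((h V hVB _).trans n2)

end basis


section ToolT'
variable {X Y S S' : Scheme.{u}} (f : X ⟶ Y) (p : Y ⟶ S) (q : X ⟶ S')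
  {ΩY : Y.Modules} (dY : OmegaSh.Der p ΩY)
  {ΩX : X.Modules} (dX : OmegaSh.Der q ΩX)
  (c : (Scheme.Modules.pullback f).obj ΩY ⟶ ΩX) (hc : OmegaSh.IsDiffCompat f dY dX c)
  {U : X.Opens} {V : Y.Opens} (hUV : U ≤ f ⁻¹ᵁ V)
  (hY : OmegaSh.IsUniversal dY) (hX : OmegaSh.IsUniversal dX)
  (hU : IsAffineOpen U) (hV : IsAffineOpen V)
  {W : S.Opens} (hW : IsAffineOpen W) (hVW : V ≤ p ⁻¹ᵁ W)
  {W' : S'.Opens} (hW' : IsAffineOpen W') (hUW' : U ≤ q ⁻¹ᵁ W')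
  [Algebra Γ(S, W) Γ(Y, V)] (halgA : algebraMap Γ(S, W) Γ(Y, V) = (p.appLE W V hVW).hom)
  [Algebra Γ(S', W') Γ(X, U)] (halgB : algebraMap Γ(S', W') Γ(X, U) = (q.appLE W' U hUW').hom)
  [Algebra Γ(Y, V) Γ(X, U)] (halgAB : algebraMap Γ(Y, V) Γ(X, U) = (f.appLE V U hUV).hom)

include hc hY hX hU hV hW hW' halgA halgB halgAB in
/-- `exists_chart_model` with the target identification made explicit. -/
theorem exists_chart_model' :
    ∃ (e₁ : Γ(X, U) ⊗[Γ(Y, V)] Ω[Γ(Y, V)⁄Γ(S, W)] ≃ₗ[Γ(X, U)] Γ((Scheme.Modules.pullback f).obj ΩY, U))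
      (κ : Γ(X, U) ⊗[Γ(Y, V)] Ω[Γ(Y, V)⁄Γ(S, W)] →ₗ[Γ(X, U)] Ω[Γ(X, U)⁄Γ(S', W')]),
      (∀ t, κ t = sectionsEquiv q dX hX hU hW' hUW' halgB (c.app U (e₁ t))) ∧
      ∀ (b : Γ(X, U)) (a : Γ(Y, V)),
        κ (b ⊗ₜ D Γ(S, W) Γ(Y, V) a) = b • D Γ(S', W') Γ(X, U) (algebraMap Γ(Y, V) Γ(X, U) a) := by
  haveI := isQuasicoherent_of_isUniversal p dY hY
  obtain ⟨e, he⟩ := exists_baseChangeEquiv (A := Γ(Y, V)) (B := Γ(X, U)) (unitSec f ΩY hUV)
    (fun a m => by rw [unitSec_smul, halgAB])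
    (fun N _ _ l hl => existsUnique_lift f ΩY hV hU hUV N l (fun r x => by
      rw [hl, halgAB]))
  let sY := sectionsEquiv p dY hY hV hW hVW halgA
  let e₂ := sectionsEquiv q dX hX hU hW' hUW' halgB
  let e₁ : Γ(X, U) ⊗[Γ(Y, V)] Ω[Γ(Y, V)⁄Γ(S, W)] ≃ₗ[Γ(X, U)]
      Γ((Scheme.Modules.pullback f).obj ΩY, U) :=
    (TensorProduct.AlgebraTensorModule.congr (LinearEquiv.refl Γ(X, U) Γ(X, U)) sY).symm.trans e
  let cU : Γ((Scheme.Modules.pullback f).obj ΩY, U) →ₗ[Γ(X, U)] Γ(ΩX, U) :=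
    { toFun := fun x => c.app U x
      map_add' := fun x y => map_add _ x y
      map_smul' := fun r x => Scheme.Modules.Hom.app_smul c r x }
  refine ⟨e₁, e₂.toLinearMap ∘ₗ cU ∘ₗ e₁.toLinearMap, fun t => rfl, fun b a => ?_⟩
  change e₂ (c.app U (e ((TensorProduct.AlgebraTensorModule.congr
    (LinearEquiv.refl Γ(X, U) Γ(X, U)) sY).symm (b ⊗ₜ D Γ(S, W) Γ(Y, V) a)))) = _
  have h1 : (TensorProduct.AlgebraTensorModule.congr (LinearEquiv.refl Γ(X, U) Γ(X, U)) sY).symm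
      (b ⊗ₜ D Γ(S, W) Γ(Y, V) a) = b ⊗ₜ (dY.app V a) := by
    rw [LinearEquiv.symm_apply_eq, TensorProduct.AlgebraTensorModule.congr_tmul]
    congr 1
    exact (sectionsEquiv_d p dY hY hV hW hVW halgA a).symm
  rw [h1, he, Scheme.Modules.Hom.app_smul, c_unitSec f p q dY dX c hc hUV, map_smul]
  congr 1
  rw [halgAB]
  exact sectionsEquiv_d q dX hX hU hW' hUW' halgB _

end ToolT'

section S5975
variable {X Y Z : Scheme.{u}} (f : X ⟶ Y) (g : Y ⟶ Z)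
  {ΩX : X.Modules} (dX : OmegaSh.Der (f ≫ g) ΩX)
  {ΩXY : X.Modules} (dXY : OmegaSh.Der f ΩXY)
  (c₂ : (Scheme.Modules.pullback (𝟙 X)).obj ΩX ⟶ ΩXY) (hc₂ : OmegaSh.IsDiffCompat (𝟙 X) dX dXY c₂)

include hc₂ in
theorem c₂'_d (U : X.Opens) (b : Γ(X, U)) :
    ((Scheme.Modules.pullbackId X).inv.app ΩX ≫ c₂).app U (dX.app U b) = dXY.app U b := by
  rw [Scheme.Modules.Hom.comp_app, ConcreteCategory.comp_apply, pullbackId_inv_app]
  have h := hc₂ U b
  rw [Scheme.Hom.id_app] at h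
  exact h

end S5975

section S5975main
variable {X Y Z : Scheme.{u}} (f : X ⟶ Y) (g : Y ⟶ Z)
    (ΩY : Y.Modules) (dY : OmegaSh.Der g ΩY) (hY : OmegaSh.IsUniversal dY)
    (ΩX : X.Modules) (dX : OmegaSh.Der (f ≫ g) ΩX) (hX : OmegaSh.IsUniversal dX)
    (ΩXY : X.Modules) (dXY : OmegaSh.Der f ΩXY) (hXY : OmegaSh.IsUniversal dXY)
    (c₁ : (Scheme.Modules.pullback f).obj ΩY ⟶ ΩX) (hc₁ : OmegaSh.IsDiffCompat f dY dX c₁)
    (c₂ : (Scheme.Modules.pullback (𝟙 X)).obj ΩX ⟶ ΩXY) (hc₂ : OmegaSh.IsDiffCompat (𝟙 X) dX dXY c₂)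

include hY hX hXY hc₁ hc₂ in
theorem chart_S5975 {W : Z.Opens} (hW : IsAffineOpen W) {V : Y.Opens} (hV : IsAffineOpen V) {U : X.Opens}
    (hU : IsAffineOpen U) (hVW : V ≤ g ⁻¹ᵁ W) (hUV : U ≤ f ⁻¹ᵁ V) :
    Function.Surjective (((Scheme.Modules.pullbackId X).inv.app ΩX ≫ c₂).app U) ∧
    ∀ m : Γ(ΩX, U), ((Scheme.Modules.pullbackId X).inv.app ΩX ≫ c₂).app U m = 0 ↔
      ∃ t, c₁.app U t = m := by
  have hUW : U ≤ (f ≫ g) ⁻¹ᵁ W := fun y hy => hVW (hUV hy)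
  letI algCA : Algebra Γ(Z, W) Γ(Y, V) := (g.appLE W V hVW).hom.toAlgebra
  letI algCB : Algebra Γ(Z, W) Γ(X, U) := ((f ≫ g).appLE W U hUW).hom.toAlgebra
  letI algAB : Algebra Γ(Y, V) Γ(X, U) := (f.appLE V U hUV).hom.toAlgebra
  haveI : IsScalarTower Γ(Z, W) Γ(Y, V) Γ(X, U) := by
    refine IsScalarTower.of_algebraMap_eq fun r => ?_
    have h1 : g.appLE W V hVW ≫ f.appLE V U hUV = (f ≫ g).appLE W U hUW :=
      Scheme.Hom.appLE_comp_appLE _ _ _ _ _ _ _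
    exact congr($h1.symm r)
  obtain ⟨e₁, κ, hκ1, hκ2⟩ := exists_chart_model' f g (f ≫ g) dY dX c₁ hc₁ hUV hY hX hU hV hW hVW
    hW hUW rfl rfl rfl
  set eX := sectionsEquiv (f ≫ g) dX hX hU hW hUW rfl with heX
  set eXY := sectionsEquiv f dXY hXY hU hV hUV rfl with heXY
  have hκ : κ = KaehlerDifferential.mapBaseChange Γ(Z, W) Γ(Y, V) Γ(X, U) := by
    apply tensor_kaehler_ext
    intro a
    rw [hκ2, KaehlerDifferential.mapBaseChange_tmul, KaehlerDifferential.map_D]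
  let c₂U : Γ(ΩX, U) →ₗ[Γ(X, U)] Γ(ΩXY, U) :=
    { toFun := fun x => ((Scheme.Modules.pullbackId X).inv.app ΩX ≫ c₂).app U x
      map_add' := fun x y => map_add _ x y
      map_smul' := fun r x => Scheme.Modules.Hom.app_smul _ r x }
  have key0 : eXY.toLinearMap ∘ₗ c₂U ∘ₗ eX.symm.toLinearMap =
      KaehlerDifferential.map Γ(Z, W) Γ(Y, V) Γ(X, U) Γ(X, U) := by
    apply LinearMap.ext_on (KaehlerDifferential.span_range_derivation Γ(Z, W) Γ(X, U))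
    rintro _ ⟨b, rfl⟩
    change eXY (((Scheme.Modules.pullbackId X).inv.app ΩX ≫ c₂).app U (eX.symm (D Γ(Z, W) Γ(X, U) b))) = _
    have h1 : eX.symm (D Γ(Z, W) Γ(X, U) b) = dX.app U b := by
      rw [LinearEquiv.symm_apply_eq]
      exact (sectionsEquiv_d (f ≫ g) dX hX hU hW hUW rfl b).symm
    rw [h1, c₂'_d f g dX dXY c₂ hc₂, KaehlerDifferential.map_D]
    exact sectionsEquiv_d f dXY hXY hU hV hUV rfl b
  have key : ∀ m : Γ(ΩX, U), eXY (((Scheme.Modules.pullbackId X).inv.app ΩX ≫ c₂).app U m) =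
      KaehlerDifferential.map Γ(Z, W) Γ(Y, V) Γ(X, U) Γ(X, U) (eX m) := by
    intro m
    have := congr($key0 (eX m))
    rw [← this]
    change _ = eXY (((Scheme.Modules.pullbackId X).inv.app ΩX ≫ c₂).app U (eX.symm (eX m)))
    rw [LinearEquiv.symm_apply_apply]
  have hex := KaehlerDifferential.exact_mapBaseChange_map Γ(Z, W) Γ(Y, V) Γ(X, U)
  constructor
  · intro n
    obtain ⟨w, hw⟩ := KaehlerDifferential.map_surjective Γ(Z, W) Γ(Y, V) Γ(X, U) (eXY n)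
    refine ⟨eX.symm w, ?_⟩
    apply eXY.injective
    rw [key, LinearEquiv.apply_symm_apply, hw]
  · intro m
    constructor
    · intro hm
      have h0 : KaehlerDifferential.map Γ(Z, W) Γ(Y, V) Γ(X, U) Γ(X, U) (eX m) = 0 := by
        rw [← key, hm, map_zero]
      obtain ⟨t', ht'⟩ := (hex (eX m)).mp h0
      refine ⟨e₁ t', ?_⟩
      apply eX.injective
      rw [← hκ1, hκ, ht']
    · rintro ⟨t, rfl⟩
      obtain ⟨t', rfl⟩ := e₁.surjective t
      apply eXY.injective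
      rw [key, map_zero, ← hκ1, hκ]
      exact (hex _).mpr ⟨t', rfl⟩

include hY hX hXY hc₁ hc₂ in
theorem main_S5975 :
    Epi c₂ ∧
      imageSubobject c₁ = kernelSubobject ((Scheme.Modules.pullbackId X).inv.app ΩX ≫ c₂) := by
  haveI := isQuasicoherent_of_isUniversal g dY hY
  haveI := isQuasicoherent_of_isUniversal (f ≫ g) dX hX
  haveI := isQuasicoherent_of_isUniversal f dXY hXY
  haveI : ((𝟭 X.Modules).obj ΩX).IsQuasicoherent := isQuasicoherent_of_isUniversal (f ≫ g) dX hX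
  have hchart : ∀ x : X, ∃ (W : Z.Opens) (V : Y.Opens) (U : X.Opens), IsAffineOpen W ∧
      IsAffineOpen V ∧ IsAffineOpen U ∧ V ≤ g ⁻¹ᵁ W ∧ U ≤ f ⁻¹ᵁ V ∧ x ∈ U := by
    intro x
    obtain ⟨W, hW, hxW, -⟩ := exists_isAffineOpen_mem_and_subset (x := g (f x)) (U := ⊤) trivial
    obtain ⟨V, hV, hxV, hVW⟩ := exists_isAffineOpen_mem_and_subset (x := f x) (U := g ⁻¹ᵁ W) hxW
    obtain ⟨U, hU, hxU, hUV⟩ := exists_isAffineOpen_mem_and_subset (x := x) (U := f ⁻¹ᵁ V) hxV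
    exact ⟨W, V, U, hW, hV, hU, hVW, hUV, hxU⟩
  let ι : Type u := {T : Z.Opens × Y.Opens × X.Opens // IsAffineOpen T.1 ∧ IsAffineOpen T.2.1 ∧
    IsAffineOpen T.2.2 ∧ T.2.1 ≤ g ⁻¹ᵁ T.1 ∧ T.2.2 ≤ f ⁻¹ᵁ T.2.1}
  have hcover : IsOpenCover (fun T : ι => T.1.2.2) := by
    refine IsOpenCover.mk (eq_top_iff.mpr ?_)
    intro x _
    obtain ⟨W, V, U, hW, hV, hU, hVW, hUV, hxU⟩ := hchart x
    exact Opens.mem_iSup.mpr ⟨⟨⟨W, V, U⟩, hW, hV, hU, hVW, hUV⟩, hxU⟩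
  have hch : ∀ T : ι, _ := fun T : ι =>
    chart_S5975 f g ΩY dY hY ΩX dX hX ΩXY dXY hXY c₁ hc₁ c₂ hc₂ T.2.1 T.2.2.1 T.2.2.2.1 T.2.2.2.2.1
      T.2.2.2.2.2
  set c₂' := (Scheme.Modules.pullbackId X).inv.app ΩX ≫ c₂ with hc₂'
  haveI hepi' : Epi c₂' :=
    epi_of_surjective_app_cover c₂' (fun T : ι => T.1.2.2) hcover (fun T => T.2.2.2.1)
      (fun T => (hch T).1)
  have hc2 : c₂ = (Scheme.Modules.pullbackId X).hom.app ΩX ≫ c₂' := by
    rw [hc₂', ← Category.assoc, Iso.hom_inv_id_app, Category.id_comp]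
  refine ⟨by rw [hc2]; exact epi_comp _ _, ?_⟩
  have w : c₁ ≫ c₂' = 0 := by
    refine hom_ext_basis _ _ {U | ∃ T : ι, T.1.2.2 = U} ?_ ?_
    · refine TopologicalSpace.Opens.isBasis_iff_nbhd.mpr ?_
      intro O x hx
      obtain ⟨W, hW, hxW, -⟩ := exists_isAffineOpen_mem_and_subset (x := g (f x)) (U := ⊤) trivial
      obtain ⟨V, hV, hxV, hVW⟩ := exists_isAffineOpen_mem_and_subset (x := f x) (U := g ⁻¹ᵁ W) hxW
      obtain ⟨U, hU, hxU, hUV⟩ := exists_isAffineOpen_mem_and_subset (x := x) (U := f ⁻¹ᵁ V ⊓ O)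
        ⟨hxV, hx⟩
      exact ⟨U, ⟨⟨⟨W, V, U⟩, hW, hV, hU, hVW, hUV.trans inf_le_left⟩, rfl⟩, hxU,
        hUV.trans inf_le_right⟩
    · rintro U ⟨T, rfl⟩ s
      rw [Scheme.Modules.Hom.comp_app, ConcreteCategory.comp_apply]
      refine (((hch T).2 _).mpr ⟨s, rfl⟩).trans ?_
      rfl
  have hex : (ShortComplex.mk c₁ c₂' w).Exact := by
    rw [ShortComplex.exact_iff_epi_kernel_lift]
    haveI := isQuasicoherent_kernel c₂'
    refine epi_of_surjective_app_cover _ (fun T : ι => T.1.2.2) hcover (fun T => T.2.2.2.1) ?_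
    intro T k
    have hk : c₂'.app T.1.2.2 ((kernel.ι c₂').app T.1.2.2 k) = 0 := by
      rw [← ConcreteCategory.comp_apply, ← Scheme.Modules.Hom.comp_app, kernel.condition]
      rfl
    obtain ⟨t, ht⟩ := ((hch T).2 _).mp hk
    refine ⟨t, ?_⟩
    apply OmegaSh.ι_app_injective
    rw [← ConcreteCategory.comp_apply, ← Scheme.Modules.Hom.comp_app]
    change (kernel.lift c₂' c₁ w ≫ kernel.ι c₂').app T.1.2.2 t = _
    rw [kernel.lift_ι]
    exact ht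
  exact (ShortComplex.exact_iff_image_eq_kernel _).mp hex

end S5975main

end Groth.Agent.Helper18OmLS
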