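import Mathlib
import Groth.Agent.Lib.Helper20OmegaLoc
import Groth.Agent.Lib.Helper20EtLocalSch

/-!
# Stalks of the sheaf of differentials (helper20)

Namespace `Groth.Agent.Lib.Helper20.OmegaStalk`.

* `subsingleton_stalk_congr`, `subsingleton_stalk_pullback_fromSpec`, `subsingleton_stalk_tilde`.
* `subsingleton_stalk_omega_iff` : for `f` quasi-separated, affine `U ≤ f⁻¹ V`, `x ∈ U`:
  `Ω_{f,x} = 0 ↔ Γ(X,U)` is unramified over `Γ(S,V)` at the prime of `x`.
* `omega_stalk_zero_iff` : `Ω_{f,x} = 0 ↔ 𝔪_s O_x = 𝔪_x ∧ κ(x)/κ(s)` finite separable (f l.f.t.).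
-/

set_option autoImplicit false
universe u
open CategoryTheory AlgebraicGeometry Limits TensorProduct Opposite
open Groth.Agent.Lib.Helper20.OmegaAff Groth.Agent.Lib.Helper20.OmegaLoc

namespace Groth.Agent.Lib.Helper20.OmegaStalk


variable {X S : Scheme.{u}}

theorem subsingleton_congr_of_iso {A B : Ab.{u}} (e : A ≅ B) : Subsingleton A ↔ Subsingleton B :=
  (ConcreteCategory.bijective_of_isIso e.hom) |> fun h => (Equiv.ofBijective _ h).subsingleton_congr

/-- stalks of isomorphic modules -/
theorem subsingleton_stalk_congr {M N : X.Modules} (e : M ≅ N) (x : X) :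
    Subsingleton (M.presheaf.stalk x) ↔ Subsingleton (N.presheaf.stalk x) :=
  subsingleton_congr_of_iso
    ((TopCat.Presheaf.stalkFunctor Ab x).mapIso ((Scheme.Modules.toPresheaf X).mapIso e))

/-- stalk of a module at a point of an affine open vs stalk of the pullback to `Spec`. -/
theorem subsingleton_stalk_pullback_fromSpec (M : X.Modules) {U : X.Opens} (hU : IsAffineOpen U)
    (q : Spec Γ(X, U)) :
    Subsingleton (((Scheme.Modules.pullback hU.fromSpec).obj M).presheaf.stalk q) ↔
      Subsingleton (M.presheaf.stalk (hU.fromSpec q)) := by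
  rw [subsingleton_stalk_congr
    ((Scheme.Modules.restrictFunctorIsoPullback hU.fromSpec).app M).symm q]
  exact subsingleton_congr_of_iso ((Scheme.Modules.restrictStalkNatIso hU.fromSpec q).app M)

set_option backward.isDefEq.respectTransparency.types false in
/-- stalk of `tilde M`. -/
theorem subsingleton_stalk_tilde {R : CommRingCat.{u}} (M : ModuleCat.{u} R)
    (q : PrimeSpectrum.Top R) :
    Subsingleton ((tilde M).presheaf.stalk q) ↔
      Subsingleton (LocalizedModule (PrimeSpectrum.asIdeal q).primeCompl M) := by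
  have e := IsLocalizedModule.iso (PrimeSpectrum.asIdeal q).primeCompl (tilde.toStalk M q).hom
  exact e.subsingleton_congr.symm

/-- the stalk of the sheaf of differentials vanishes iff the chart algebra is unramified there. -/
theorem subsingleton_stalk_omega_iff (f : X ⟶ S) [QuasiSeparated f] {U : X.Opens}
    (hU : IsAffineOpen U) {V : S.Opens} (hV : IsAffineOpen V) (h : U ≤ f ⁻¹ᵁ V) (x : X) (hx : x ∈ U) :
    letI := (f.appLE V U h).hom.toAlgebra
    Subsingleton ((Omega.sheaf f).presheaf.stalk x) ↔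
      Algebra.IsUnramifiedAt Γ(S, V) (hU.primeIdealOf ⟨x, hx⟩).asIdeal := by
  letI : Algebra Γ(S, V) Γ(X, U) := (f.appLE V U h).hom.toAlgebra
  have key : ∀ y : X, y = x → (Subsingleton ((Omega.sheaf f).presheaf.stalk y) ↔
      Subsingleton ((Omega.sheaf f).presheaf.stalk x)) := by
    rintro y rfl; exact Iff.rfl
  refine (key _ (hU.fromSpec_primeIdealOf ⟨x, hx⟩)).symm.trans ?_
  refine (subsingleton_stalk_pullback_fromSpec (Omega.sheaf f) hU
    (hU.primeIdealOf ⟨x, hx⟩)).symm.trans ?_
  refine (subsingleton_stalk_congr (omegaRestrictIso f hU hV h rfl) _).trans ?_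
  refine (subsingleton_stalk_tilde _ _).trans ?_
  have h1 := Algebra.unramifiedLocus_eq_compl_support (R := Γ(S, V)) (A := Γ(X, U))
  have h2 : hU.primeIdealOf ⟨x, hx⟩ ∈ Algebra.unramifiedLocus Γ(S, V) Γ(X, U) ↔
      Algebra.IsUnramifiedAt Γ(S, V) (hU.primeIdealOf ⟨x, hx⟩).asIdeal := Iff.rfl
  rw [← h2, h1, Set.mem_compl_iff, Module.notMem_support_iff]


theorem omega_stalk_zero_iff (f : X ⟶ S) [LocallyOfFiniteType f] [QuasiSeparated f] (x : X) :
    Subsingleton ((Omega.sheaf f).presheaf.stalk x) ↔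
      ((IsLocalRing.maximalIdeal (S.presheaf.stalk (f.base x))).map (f.stalkMap x).hom =
          IsLocalRing.maximalIdeal (X.presheaf.stalk x) ∧
        (f.residueFieldMap x).hom.Finite ∧
        @Algebra.IsSeparable (S.residueField (f.base x)) (X.residueField x) _ _
          (f.residueFieldMap x).hom.toAlgebra) := by
  obtain ⟨V, hV, hfxV, -⟩ := exists_isAffineOpen_mem_and_subset (x := f x) (U := ⊤) trivial
  obtain ⟨U, hU, hxU, hUW⟩ := exists_isAffineOpen_mem_and_subset (x := x) (U := f ⁻¹ᵁ V) hfxV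
  rw [subsingleton_stalk_omega_iff f hU hV hUW x hxU,
    ← Groth.Agent.Lib.Helper20.EtLocal.formallyUnramified_stalkMap_iff_chart V hV U hU hUW hxU,
    Groth.Agent.Lib.Helper20.EtLocal.formallyUnramified_stalkMap_iff_local]
  rfl

end Groth.Agent.Lib.Helper20.OmegaStalk
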