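import Mathlib
import Groth.Agent.Lib.Helper20OmegaStalk

/-!
# Stalks of the conormal sheaf of an immersion (helper20)

Namespace `Groth.Agent.Lib.Helper20.ConormalStalk`.

* `isClosedImmersion_morphismRestrict`, `isAffineOpen_preimage`, `app_surjective` : an immersion `j`
  restricted over an (affine) open `W` inside `j.coborderRange` is a closed immersion.
* `isPullback_chart`, `subsingleton_stalk_conormal_iff` : the stalk of `Omega.conormal j` at `y` in an
  affine chart is the localisation of `A ⊗_B I`.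
* `exists_smul_eq_zero_of_subsingleton` : Nakayama for the conormal module.
* `isOpenImmersion_of_smul_eq_zero` : if `b` kills `ker (j.app W)` then `j` is an open immersion over `D(b)`.
-/

set_option autoImplicit false
set_option linter.style.haveILetI false
universe u
open CategoryTheory AlgebraicGeometry Limits TensorProduct Opposite
open Groth.Agent.Lib.Helper20.OmegaAff Groth.Agent.Lib.Helper20.OmegaLoc
  Groth.Agent.Lib.Helper20.OmegaStalk

namespace Groth.Agent.Lib.Helper20.ConormalStalk

section alg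
variable (B A : Type u) [CommRing B] [CommRing A] [Algebra B A]
  (hs : Function.Surjective (algebraMap B A)) (I : Ideal B) (hI : I = RingHom.ker (algebraMap B A))

include hs hI in
/-- if `1 ⊗ x = 0` in `A ⊗[B] I` (with `A = B/I`) then `x ∈ I • ⊤`. -/
theorem mem_smul_top_of_one_tmul_eq_zero (x : I) (hx : (1 : A) ⊗ₜ[B] x = 0) :
    x ∈ (I • ⊤ : Submodule B I) := by
  let φ : (B ⧸ I) →ₗ[B] A := Submodule.liftQ I (Algebra.linearMap B A) (by
    intro b hb
    rw [hI] at hb
    exact hb)
  have hφ : Function.Bijective φ := by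
    constructor
    · rw [← LinearMap.ker_eq_bot, Submodule.eq_bot_iff]
      intro z hz
      obtain ⟨b, rfl⟩ := Submodule.Quotient.mk_surjective _ z
      rw [LinearMap.mem_ker] at hz
      have : algebraMap B A b = 0 := hz
      rw [Submodule.Quotient.mk_eq_zero, hI]
      exact this
    · intro a
      obtain ⟨b, rfl⟩ := hs a
      exact ⟨Submodule.Quotient.mk b, rfl⟩
  let e : (B ⧸ I) ≃ₗ[B] A := LinearEquiv.ofBijective φ hφ
  have he1 : e.symm 1 = (1 : B ⧸ I) := by
    rw [LinearEquiv.symm_apply_eq]
    show (1 : A) = algebraMap B A 1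
    rw [map_one]
  let E := TensorProduct.congr e.symm (LinearEquiv.refl B I) ≪≫ₗ
    TensorProduct.quotTensorEquivQuotSMul I I
  have h1 : E ((1 : A) ⊗ₜ[B] x) = Submodule.Quotient.mk x := by
    show TensorProduct.quotTensorEquivQuotSMul I I
      (TensorProduct.congr e.symm (LinearEquiv.refl B I) ((1 : A) ⊗ₜ[B] x)) = _
    rw [TensorProduct.congr_tmul, he1]
    exact TensorProduct.quotTensorEquivQuotSMul_mk_one_tmul I x
  rw [hx, map_zero] at h1
  exact (Submodule.Quotient.mk_eq_zero _).mp h1.symm

/-- Cayley–Hamilton: if `b • I ⊆ I • I` for a f.g. ideal `I ⊆ p` and `b ∉ p` then some `c ∉ p`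
kills `I`. -/
theorem exists_smul_eq_zero_of_smul_le (hfg : I.FG) (p : Ideal B) [p.IsPrime] (hIp : I ≤ p)
    (b : B) (hb : b ∉ p) (h : ∀ x : I, b • x ∈ (I • ⊤ : Submodule B I)) :
    ∃ c : B, c ∉ p ∧ ∀ x ∈ I, c * x = 0 := by
  haveI : Module.Finite B I := Module.Finite.iff_fg.mpr hfg
  let f : Module.End B I := LinearMap.lsmul B I b
  have hf : LinearMap.range f ≤ I • ⊤ := by
    rintro _ ⟨x, rfl⟩
    exact h x
  obtain ⟨P, hmon, -, hcoeff, hP⟩ :=
    LinearMap.exists_monic_and_natDegree_eq_and_coeff_mem_pow_and_aeval_eq_zero B f I hf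
  refine ⟨P.eval b, ?_, ?_⟩
  · -- P.eval b ≡ b ^ n mod I
    intro hc
    have h2 : P.eval b - b ^ P.natDegree ∈ I := by
      rw [Polynomial.eval_eq_sum_range, Finset.sum_range_succ, hmon.coeff_natDegree, one_mul,
        add_sub_cancel_right]
      refine Ideal.sum_mem _ fun k hk => ?_
      refine Ideal.mul_mem_right _ _ ?_
      have hk' : k < P.natDegree := Finset.mem_range.mp hk
      have := hcoeff k
      refine Ideal.pow_le_self ?_ this
      omega
    have h3 : b ^ P.natDegree ∈ p := by
      have := p.sub_mem hc (hIp h2)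
      rwa [sub_sub_cancel] at this
    exact hb (Ideal.IsPrime.mem_of_pow_mem inferInstance _ h3)
  · intro x hx
    have h4 : (Polynomial.aeval f P) ⟨x, hx⟩ = 0 := by rw [hP]; rfl
    have h5 : Polynomial.aeval f P = LinearMap.lsmul B I (P.eval b) := by
      have : f = algebraMap B (Module.End B I) b := rfl
      rw [this, Polynomial.aeval_algebraMap_apply]
      rfl
    rw [h5] at h4
    have := congrArg Subtype.val h4
    simpa using this

include hs hI in
/-- **Nakayama for the conormal module**: if `(A ⊗[B] I)_q = 0` for `A = B/I`, `I` f.g.,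
then `I` is killed by some `c` with image outside `q`. -/
theorem exists_smul_eq_zero_of_subsingleton (hfg : I.FG) (q : Ideal A) [q.IsPrime]
    (h : Subsingleton (LocalizedModule q.primeCompl (A ⊗[B] I))) :
    ∃ c : B, algebraMap B A c ∉ q ∧ ∀ x ∈ I, c * x = 0 := by
  classical
  have hIp : I ≤ q.comap (algebraMap B A) := by
    intro x hx
    rw [hI, RingHom.mem_ker] at hx
    rw [Ideal.mem_comap, hx]
    exact q.zero_mem
  obtain ⟨s, hsI⟩ := hfg
  have hsub : ∀ g ∈ s, g ∈ I := fun g hg => hsI ▸ Ideal.subset_span hg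
  rw [LocalizedModule.subsingleton_iff] at h
  have h1 : ∀ g : s, ∃ b : B, algebraMap B A b ∉ q ∧
      (algebraMap B A b) • ((1 : A) ⊗ₜ[B] (⟨g.1, hsub g.1 g.2⟩ : I)) = 0 := by
    intro g
    obtain ⟨r, hr, hr0⟩ := h ((1 : A) ⊗ₜ[B] (⟨g.1, hsub g.1 g.2⟩ : I))
    obtain ⟨b, rfl⟩ := hs r
    exact ⟨b, hr, hr0⟩
  choose β hβq hβ0 using h1
  let b : B := ∏ g : s, β g
  have hbq : algebraMap B A b ∉ q := by
    show algebraMap B A (∏ g : s, β g) ∉ q
    rw [map_prod]
    intro hmem
    obtain ⟨g, -, hg⟩ := (Ideal.IsPrime.prod_mem_iff (hp := inferInstance)).mp hmem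
    exact hβq g hg
  have hb0 : ∀ g : s, b • (⟨g.1, hsub g.1 g.2⟩ : I) ∈ (I • ⊤ : Submodule B I) := by
    intro g
    apply mem_smul_top_of_one_tmul_eq_zero B A hs I hI
    have : b = (∏ g' ∈ Finset.univ.erase g, β g') * β g := by
      show ∏ g : s, β g = _
      rw [Finset.prod_erase_mul _ _ (Finset.mem_univ g)]
    rw [TensorProduct.tmul_smul, this, mul_smul]
    have h2 : β g • ((1 : A) ⊗ₜ[B] (⟨g.1, hsub g.1 g.2⟩ : I)) = 0 := by
      rw [← hβ0 g, algebraMap_smul]
    rw [h2, smul_zero]
  have hall : ∀ x : I, b • x ∈ (I • ⊤ : Submodule B I) := by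
    let N : Submodule B I := (I • ⊤ : Submodule B I).comap (LinearMap.lsmul B I b)
    have hN : I ≤ Submodule.map I.subtype N := by
      have hsI' : I ≤ Ideal.span (s : Set B) := hsI.ge
      refine hsI'.trans ?_
      rw [Ideal.span, Submodule.span_le]
      intro g hg
      exact ⟨⟨g, hsub g hg⟩, hb0 ⟨g, hg⟩, rfl⟩
    intro x
    obtain ⟨x', hx', hxx⟩ := hN x.2
    have : x' = x := Subtype.ext hxx
    rw [← this]
    exact hx'
  obtain ⟨c, hc, hc0⟩ := exists_smul_eq_zero_of_smul_le B I ⟨s, hsI⟩ (q.comap (algebraMap B A))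
    hIp b hbq hall
  exact ⟨c, hc, hc0⟩

end alg


section geom
variable {Y X : Scheme.{u}} (j : Y ⟶ X) [IsImmersion j]

/-- Over an open inside the coborder of the range, an immersion restricts to a closed immersion. -/
theorem isClosedImmersion_morphismRestrict (W : X.Opens) (hW : W ≤ j.coborderRange) :
    IsClosedImmersion (j ∣_ W) := by
  refine IsClosedImmersion.of_isPreimmersion _ ?_
  have h1 : Set.range (j ∣_ W) = W.ι ⁻¹' (closure (Set.range j)) := by
    ext w
    simp only [Set.mem_preimage, Set.mem_range]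
    constructor
    · rintro ⟨z, rfl⟩
      apply subset_closure
      exact ⟨z.1, (morphismRestrict_base_coe j W z).symm⟩
    · intro h
      have : W.ι w ∈ closure (Set.range j) ∩ coborder (Set.range j) := ⟨h, hW w.2⟩
      rw [closure_inter_coborder] at this
      obtain ⟨z, hz⟩ := this
      refine ⟨⟨z, ?_⟩, ?_⟩
      · show j z ∈ W
        rw [hz]; exact w.2
      · apply Subtype.ext
        exact (morphismRestrict_base_coe j W _).trans hz
  rw [h1]
  exact isClosed_closure.preimage W.ι.continuous

theorem isAffineOpen_preimage {W : X.Opens} (hWa : IsAffineOpen W) (hW : W ≤ j.coborderRange) :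
    IsAffineOpen (j ⁻¹ᵁ W) := by
  have := isClosedImmersion_morphismRestrict j W hW
  have : IsAffine W.toScheme := hWa
  exact (IsClosedImmersion.isAffine_surjective_of_isAffine (j ∣_ W)).1

theorem app_surjective {W : X.Opens} (hWa : IsAffineOpen W) (hW : W ≤ j.coborderRange) :
    Function.Surjective (j.app W) := by
  have := isClosedImmersion_morphismRestrict j W hW
  have : IsAffine W.toScheme := hWa
  have h := (IsClosedImmersion.isAffine_surjective_of_isAffine (j ∣_ W)).2
  rw [morphismRestrict_appTop] at h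
  have key : ∀ W' : X.Opens, W' = W → Function.Surjective (j.app W') →
      Function.Surjective (j.app W) := by
    rintro W' rfl h; exact h
  refine key _ W.ι_image_top ?_
  intro a
  obtain ⟨b, hb⟩ := h ((Y.presheaf.map
    (eqToHom (image_morphismRestrict_preimage j W ⊤)).op).hom a)
  refine ⟨b, ?_⟩
  have hinj : Function.Injective (Y.presheaf.map
      (eqToHom (image_morphismRestrict_preimage j W ⊤)).op).hom :=
    (ConcreteCategory.bijective_of_isIso (Y.presheaf.map
      (eqToHom (image_morphismRestrict_preimage j W ⊤)).op)).1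
  exact hinj hb

variable [QuasiCompact j]

theorem isPullback_chart {W : X.Opens} (hW : IsAffineOpen W) (hU : IsAffineOpen (j ⁻¹ᵁ W)) :
    IsPullback (Spec.map (j.app W)) hU.fromSpec hW.fromSpec j := by
  apply IsOpenImmersion.isPullback
  · rw [Scheme.Hom.app_eq_appLE]
    exact (IsAffineOpen.SpecMap_appLE_fromSpec j hW hU le_rfl).symm
  · rw [hW.opensRange_fromSpec, hU.opensRange_fromSpec]

/-- the stalk of the conormal sheaf on an affine chart. -/
theorem subsingleton_stalk_conormal_iff {W : X.Opens} (hW : IsAffineOpen W)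
    (hU : IsAffineOpen (j ⁻¹ᵁ W)) (y : Y) (hy : y ∈ j ⁻¹ᵁ W) :
    Subsingleton ((Omega.conormal j).presheaf.stalk y) ↔
      Subsingleton (LocalizedModule (hU.primeIdealOf ⟨y, hy⟩).asIdeal.primeCompl
        ((ModuleCat.extendScalars (j.app W).hom).obj
          (ModuleCat.of Γ(X, W) (RingHom.ker (j.app W).hom)))) := by
  have key : ∀ z : Y, z = y → (Subsingleton ((Omega.conormal j).presheaf.stalk z) ↔
      Subsingleton ((Omega.conormal j).presheaf.stalk y)) := by
    rintro z rfl; exact Iff.rfl
  refine (key _ (hU.fromSpec_primeIdealOf ⟨y, hy⟩)).symm.trans ?_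
  refine (subsingleton_stalk_pullback_fromSpec (Omega.conormal j) hU
    (hU.primeIdealOf ⟨y, hy⟩)).symm.trans ?_
  refine (subsingleton_stalk_congr (conormalRestrictIso hW.fromSpec j hU.fromSpec (j.app W)
    (isPullback_chart j hW hU)) _).trans ?_
  exact subsingleton_stalk_tilde _ _


/-- if `b` kills the kernel of `j.app W` then `j` is an open immersion over `D(b)`. -/
theorem isOpenImmersion_of_smul_eq_zero {W : X.Opens} (hWa : IsAffineOpen W)
    (hW : W ≤ j.coborderRange) (b : Γ(X, W))
    (hb : ∀ x ∈ RingHom.ker (j.app W).hom, b * x = 0) :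
    IsOpenImmersion ((j ⁻¹ᵁ (X.basicOpen b)).ι ≫ j) := by
  have hWb : IsAffineOpen (X.basicOpen b) := hWa.basicOpen b
  have hle : X.basicOpen b ≤ j.coborderRange := (X.basicOpen_le b).trans hW
  have := isClosedImmersion_morphismRestrict j (X.basicOpen b) hle
  have : IsAffine (X.basicOpen b).toScheme := hWb
  -- injectivity of `j.app D(b)`
  have hinj : Function.Injective (j.app (X.basicOpen b)).hom := by
    rw [RingHom.injective_iff_ker_eq_bot, ← Scheme.Hom.ker_apply j ⟨X.basicOpen b, hWb⟩]
    have h1 : (j.ker.ideal ⟨W, hWa⟩).map (X.presheaf.map (homOfLE (X.basicOpen_le b)).op).hom =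
        j.ker.ideal ⟨X.basicOpen b, hWb⟩ := j.ker.map_ideal_basicOpen ⟨W, hWa⟩ b
    rw [← h1, Scheme.Hom.ker_apply, eq_bot_iff, Ideal.map_le_iff_le_comap]
    intro x hx
    rw [Ideal.mem_comap, Ideal.mem_bot]
    have hu : IsUnit ((X.presheaf.map (homOfLE (X.basicOpen_le b)).op).hom b) :=
      X.toRingedSpace.isUnit_res_basicOpen b
    have h3 : (X.presheaf.map (homOfLE (X.basicOpen_le b)).op).hom b *
        (X.presheaf.map (homOfLE (X.basicOpen_le b)).op).hom x = 0 := by
      rw [← map_mul, hb x hx, map_zero]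
    exact (hu.mul_right_eq_zero).mp h3
  have hinj2 : Function.Injective (j ∣_ (X.basicOpen b)).appTop := by
    rw [morphismRestrict_appTop]
    have key : ∀ W' : X.Opens, W' = X.basicOpen b → Function.Injective (j.app W') := by
      rintro W' rfl; exact hinj
    have h5 := key _ (X.basicOpen b).ι_image_top
    have hinj3 : Function.Injective (Y.presheaf.map
        (eqToHom (image_morphismRestrict_preimage j (X.basicOpen b) ⊤)).op).hom :=
      (ConcreteCategory.bijective_of_isIso (Y.presheaf.map
        (eqToHom (image_morphismRestrict_preimage j (X.basicOpen b) ⊤)).op)).1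
    exact hinj3.comp h5
  have hiso : IsIso (j ∣_ (X.basicOpen b)) :=
    IsClosedImmersion.isIso_of_injective_of_isAffine hinj2
  rw [← morphismRestrict_ι]
  infer_instance


end geom

end Groth.Agent.Lib.Helper20.ConormalStalk
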