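import Mathlib
import Groth.Prelude.Def_Omega4
import Groth.Agent.Lib.Helper18OmLS11
import Groth.Agent.Lib.Helper20ConormalStalk
import Groth.Agent.Lib.Helper20IdealModSec

set_option autoImplicit false
set_option linter.style.haveILetI false
universe u
open CategoryTheory CategoryTheory.Limits AlgebraicGeometry TopologicalSpace Opposite
open KaehlerDifferential TensorProduct
open Groth.Agent.Helper13PullbackUnit
open Groth.Agent.Lib.Helper23.ModLocal Groth.Agent.Lib.Helper23.QCohLocal Groth.Agent.Lib.Helper23.FinType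
  Groth.Agent.Lib.Helper20.PullbackAff

namespace Groth.Agent.Helper18OmLS

section pullbackExt

theorem pullback_hom_ext {X Y : Scheme.{u}} (h : X ⟶ Y) {M : Y.Modules} {N : X.Modules}
    (ψ₁ ψ₂ : (Scheme.Modules.pullback h).obj M ⟶ N)
    (H : ∀ (V : Y.Opens) (s : Γ(M, V)),
      ψ₁.app (h ⁻¹ᵁ V) (OmegaSh.pullSect h M V s) = ψ₂.app (h ⁻¹ᵁ V) (OmegaSh.pullSect h M V s)) :
    ψ₁ = ψ₂ := by
  apply ((Scheme.Modules.pullbackPushforwardAdjunction h).homEquiv M N).injective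
  rw [Adjunction.homEquiv_unit, Adjunction.homEquiv_unit]
  apply Scheme.Modules.hom_ext
  intro V
  ext s
  exact H V s

theorem app_idealSect_eq_zero {X Y : Scheme.{u}} (j : X ⟶ Y) (V : Y.Opens)
    (s : Γ(ClSub.idealMod j.ker, V)) : j.app V (OmegaSh.idealSect j.ker V s) = 0 := by
  have h1 := Groth.Agent.Lib.Helper20.IdealModSec.ι_toSubscheme j.ker V s
  have h2 : (j.ker.subschemeι.app V).hom (OmegaSh.idealSect j.ker V s) = 0 := h1
  have h3 := Scheme.Hom.congr_app j.toImage_imageι V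
  rw [Scheme.Hom.comp_app] at h3
  have h4 := congr($h3 (OmegaSh.idealSect j.ker V s))
  rw [ConcreteCategory.comp_apply, ConcreteCategory.comp_apply] at h4
  have h5 : (j.imageι.app V) (OmegaSh.idealSect j.ker V s) = 0 := h2
  rw [h5, map_zero] at h4
  have hinj := (ConcreteCategory.bijective_of_isIso (X.presheaf.map
    (eqToHom (by rw [← Scheme.Hom.comp_preimage, j.toImage_imageι] :
      j ⁻¹ᵁ V = j.toImage ⁻¹ᵁ (j.imageι ⁻¹ᵁ V))).op)).1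
  apply hinj
  exact h4.symm.trans (map_zero _).symm

end pullbackExt

section ToolT''
variable {X Y S S' : Scheme.{u}} (f : X ⟶ Y) (p : Y ⟶ S) (q : X ⟶ S')
  {ΩY : Y.Modules} (dY : OmegaSh.Der p ΩY)
  {ΩX : X.Modules} (dX : OmegaSh.Der q ΩX)
  (c : (Scheme.Modules.pullback f).obj ΩY ⟶ ΩX) (hc : OmegaSh.IsDiffCompat f dY dX c)
  {U : X.Opens} {V : Y.Opens} (hUV : U ≤ f ⁻¹ᵁ V)
  (hY : OmegaSh.IsUniversal dY) (hX : OmegaSh.IsUniversal dX)
  (hU : IsAffineOpen U) (hV : IsAffineOpen V)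
  {W : S.Opens} (hW : IsAffineOpen W) (hVW : V ≤ p ⁻¹ᵁ W)
  {W' : S'.Opens} (hW' : IsAffineOpen W') (hUW' : U ≤ q ⁻¹ᵁ W')
  [Algebra Γ(S, W) Γ(Y, V)] (halgA : algebraMap Γ(S, W) Γ(Y, V) = (p.appLE W V hVW).hom)
  [Algebra Γ(S', W') Γ(X, U)] (halgB : algebraMap Γ(S', W') Γ(X, U) = (q.appLE W' U hUW').hom)
  [Algebra Γ(Y, V) Γ(X, U)] (halgAB : algebraMap Γ(Y, V) Γ(X, U) = (f.appLE V U hUV).hom)

include hc hY hX hU hV hW hW' halgA halgB halgAB in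
/-- `exists_chart_model'` remembering also the values of `e₁`. -/
theorem exists_chart_model'' :
    ∃ (e₁ : Γ(X, U) ⊗[Γ(Y, V)] Ω[Γ(Y, V)⁄Γ(S, W)] ≃ₗ[Γ(X, U)] Γ((Scheme.Modules.pullback f).obj ΩY, U))
      (κ : Γ(X, U) ⊗[Γ(Y, V)] Ω[Γ(Y, V)⁄Γ(S, W)] →ₗ[Γ(X, U)] Ω[Γ(X, U)⁄Γ(S', W')]),
      (∀ t, κ t = sectionsEquiv q dX hX hU hW' hUW' halgB (c.app U (e₁ t))) ∧
      (∀ (b : Γ(X, U)) (a : Γ(Y, V)),
        κ (b ⊗ₜ D Γ(S, W) Γ(Y, V) a) = b • D Γ(S', W') Γ(X, U) (algebraMap Γ(Y, V) Γ(X, U) a)) ∧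
      ∀ (b : Γ(X, U)) (a : Γ(Y, V)),
        e₁ (b ⊗ₜ D Γ(S, W) Γ(Y, V) a) = b • unitSec f ΩY hUV (dY.app V a) := by
  haveI := isQuasicoherent_of_isUniversal p dY hY
  obtain ⟨e, he⟩ := exists_baseChangeEquiv (A := Γ(Y, V)) (B := Γ(X, U)) (unitSec f ΩY hUV)
    (fun a m => by rw [unitSec_smul, halgAB])
    (fun N _ _ l hl => existsUnique_lift f ΩY hV hU hUV N l (fun r x => by
      rw [hl, halgAB]))
  let sY := sectionsEquiv p dY hY hV hW hVW halgA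
  let e₂ := sectionsEquiv q dX hX hU hW' hUW' halgB
  let e₁ : Γ(X, U) ⊗[Γ(Y, V)] Ω[Γ(Y, V)⁄Γ(S, W)] ≃ₗ[Γ(X, U)]
      Γ((Scheme.Modules.pullback f).obj ΩY, U) :=
    (TensorProduct.AlgebraTensorModule.congr (LinearEquiv.refl Γ(X, U) Γ(X, U)) sY).symm.trans e
  let cU : Γ((Scheme.Modules.pullback f).obj ΩY, U) →ₗ[Γ(X, U)] Γ(ΩX, U) :=
    { toFun := fun x => c.app U x
      map_add' := fun x y => map_add _ x y
      map_smul' := fun r x => Scheme.Modules.Hom.app_smul c r x }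
  have h1 : ∀ (b : Γ(X, U)) (a : Γ(Y, V)),
      (TensorProduct.AlgebraTensorModule.congr (LinearEquiv.refl Γ(X, U) Γ(X, U)) sY).symm
      (b ⊗ₜ D Γ(S, W) Γ(Y, V) a) = b ⊗ₜ (dY.app V a) := by
    intro b a
    rw [LinearEquiv.symm_apply_eq, TensorProduct.AlgebraTensorModule.congr_tmul]
    congr 1
    exact (sectionsEquiv_d p dY hY hV hW hVW halgA a).symm
  refine ⟨e₁, e₂.toLinearMap ∘ₗ cU ∘ₗ e₁.toLinearMap, fun t => rfl, fun b a => ?_, fun b a => ?_⟩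
  · change e₂ (c.app U (e ((TensorProduct.AlgebraTensorModule.congr
      (LinearEquiv.refl Γ(X, U) Γ(X, U)) sY).symm (b ⊗ₜ D Γ(S, W) Γ(Y, V) a)))) = _
    rw [h1, he, Scheme.Modules.Hom.app_smul, c_unitSec f p q dY dX c hc hUV, map_smul]
    congr 1
    rw [halgAB]
    exact sectionsEquiv_d q dX hX hU hW' hUW' halgB _
  · change e ((TensorProduct.AlgebraTensorModule.congr
      (LinearEquiv.refl Γ(X, U) Γ(X, U)) sY).symm (b ⊗ₜ D Γ(S, W) Γ(Y, V) a)) = _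
    rw [h1, he]

end ToolT''

section conormalDiff
variable {Z X Y : Scheme.{u}} (i : Z ⟶ X) {f : X ⟶ Y} {Ω' : X.Modules} (d : OmegaSh.Der f Ω')
  (φ : Omega.conormal i ⟶ (Scheme.Modules.pullback i).obj Ω') (hφ : OmegaSh.IsConormalDiff i d φ)
  {U : Z.Opens} {V : X.Opens} (hUV : U ≤ i ⁻¹ᵁ V)

include hφ in
theorem phi_unitSec (s : Γ(ClSub.idealMod i.ker, V)) :
    φ.app U (unitSec i (ClSub.idealMod i.ker) hUV s) =
      unitSec i Ω' hUV (d.app V (OmegaSh.idealSect i.ker V s)) := by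
  rw [unitSec_apply, unitSec_apply]
  have h1 := hφ V s
  have h2 : φ.app U ((Omega.conormal i).presheaf.map (homOfLE hUV).op
      (OmegaSh.conormalSect i V s)) =
      ((Scheme.Modules.pullback i).obj Ω').presheaf.map (homOfLE hUV).op
        (φ.app (i ⁻¹ᵁ V) (OmegaSh.conormalSect i V s)) := by
    have := φ.mapPresheaf.naturality (homOfLE hUV).op
    exact congr($this _)
  refine h2.trans ?_
  rw [h1]
  rfl

end conormalDiff

section S5976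
variable {X Y Z : Scheme.{u}} (f : Y ⟶ Z) (j : X ⟶ Y)
    [IsImmersion j] [QuasiCompact j]
    (ΩY : Y.Modules) (dY : OmegaSh.Der f ΩY) (hY : OmegaSh.IsUniversal dY)
    (ΩX : X.Modules) (dX : OmegaSh.Der (j ≫ f) ΩX) (hX : OmegaSh.IsUniversal dX)
    (φ : Omega.conormal j ⟶ (Scheme.Modules.pullback j).obj ΩY) (hφ : OmegaSh.IsConormalDiff j dY φ)
    (c : (Scheme.Modules.pullback j).obj ΩY ⟶ ΩX) (hc : OmegaSh.IsDiffCompat j dY dX c)

include hY hX hφ hc in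
theorem chart_S5976 {W : Z.Opens} (hW : IsAffineOpen W) {V : Y.Opens} (hV : IsAffineOpen V)
    (hVW : V ≤ f ⁻¹ᵁ W) (hVj : V ≤ j.coborderRange) :
    Function.Surjective (c.app (j ⁻¹ᵁ V)) ∧
    ∀ t : Γ((Scheme.Modules.pullback j).obj ΩY, j ⁻¹ᵁ V), c.app (j ⁻¹ᵁ V) t = 0 →
      ∃ n, φ.app (j ⁻¹ᵁ V) n = t := by
  have hU : IsAffineOpen (j ⁻¹ᵁ V) :=
    Groth.Agent.Lib.Helper20.ConormalStalk.isAffineOpen_preimage j hV hVj
  have hsurj : Function.Surjective (j.app V) :=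
    Groth.Agent.Lib.Helper20.ConormalStalk.app_surjective j hV hVj
  have hUV : j ⁻¹ᵁ V ≤ j ⁻¹ᵁ V := le_refl _
  have hUW : j ⁻¹ᵁ V ≤ (j ≫ f) ⁻¹ᵁ W := fun y hy => hVW hy
  letI algCA : Algebra Γ(Z, W) Γ(Y, V) := (f.appLE W V hVW).hom.toAlgebra
  letI algCB : Algebra Γ(Z, W) Γ(X, j ⁻¹ᵁ V) := ((j ≫ f).appLE W (j ⁻¹ᵁ V) hUW).hom.toAlgebra
  letI algAB : Algebra Γ(Y, V) Γ(X, j ⁻¹ᵁ V) := (j.appLE V (j ⁻¹ᵁ V) hUV).hom.toAlgebra
  haveI : IsScalarTower Γ(Z, W) Γ(Y, V) Γ(X, j ⁻¹ᵁ V) := by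
    refine IsScalarTower.of_algebraMap_eq fun r => ?_
    have h1 : f.appLE W V hVW ≫ j.appLE V (j ⁻¹ᵁ V) hUV = (j ≫ f).appLE W (j ⁻¹ᵁ V) hUW :=
      Scheme.Hom.appLE_comp_appLE _ _ _ _ _ _ _
    exact congr($h1.symm r)
  have hsurjAB : Function.Surjective (algebraMap Γ(Y, V) Γ(X, j ⁻¹ᵁ V)) := by
    intro b
    obtain ⟨a, ha⟩ := hsurj b
    refine ⟨a, ?_⟩
    rw [← ha]
    change (j.appLE V (j ⁻¹ᵁ V) hUV) a = _
    rw [← Scheme.Hom.app_eq_appLE]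
  obtain ⟨e₁, κ, hκ1, hκ2, he₁⟩ := exists_chart_model'' j f (j ≫ f) dY dX c hc hUV hY hX hU hV hW hVW
    hW hUW rfl rfl rfl
  set eX := sectionsEquiv (j ≫ f) dX hX hU hW hUW rfl with heX
  have hκ : κ = KaehlerDifferential.mapBaseChange Γ(Z, W) Γ(Y, V) Γ(X, j ⁻¹ᵁ V) := by
    apply tensor_kaehler_ext
    intro a
    rw [hκ2, KaehlerDifferential.mapBaseChange_tmul, KaehlerDifferential.map_D]
  constructor
  · intro m
    obtain ⟨t', ht'⟩ := KaehlerDifferential.mapBaseChange_surjective Γ(Z, W) Γ(Y, V) Γ(X, j ⁻¹ᵁ V)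
      hsurjAB (eX m)
    refine ⟨e₁ t', ?_⟩
    apply eX.injective
    rw [← hκ1, hκ, ht']
  · intro t ht
    obtain ⟨t', rfl⟩ := e₁.surjective t
    have h0 : KaehlerDifferential.mapBaseChange Γ(Z, W) Γ(Y, V) Γ(X, j ⁻¹ᵁ V) t' = 0 := by
      rw [← hκ, hκ1, ht, map_zero]
    obtain ⟨y, hy⟩ := (KaehlerDifferential.exact_kerCotangentToTensor_mapBaseChange
      Γ(Z, W) Γ(Y, V) Γ(X, j ⁻¹ᵁ V) hsurjAB t').mp h0
    obtain ⟨x, rfl⟩ := Ideal.toCotangent_surjective _ y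
    rw [KaehlerDifferential.kerCotangentToTensor_toCotangent] at hy
    have hx0 : (j.app V) x.1 = 0 := by
      have := x.2
      rw [RingHom.mem_ker] at this
      rw [Scheme.Hom.app_eq_appLE]
      exact this
    have hx1 : (ClSub.toSubscheme j.ker).app V (x.1 : Γ(Coh.structureModule Y, V)) = 0 := by
      rw [Groth.Agent.Lib.Helper20.IdealModSec.toSubscheme_app]
      have h2 : x.1 ∈ j.ker.ideal ⟨V, hV⟩ := by
        rw [Scheme.Hom.ker_apply, RingHom.mem_ker]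
        exact hx0
      rw [← j.ker.ker_subschemeι_app ⟨V, hV⟩, RingHom.mem_ker] at h2
      exact h2
    obtain ⟨s, hs⟩ := Groth.Agent.Lib.Helper20.IdealModSec.exists_eq_ι j.ker V _ hx1
    refine ⟨unitSec j (ClSub.idealMod j.ker) hUV s, ?_⟩
    rw [phi_unitSec j dY φ hφ hUV s, ← hy, he₁, one_smul]
    congr 2

theorem isOpenCover_S5976 :
    IsOpenCover (fun T : {T : Z.Opens × Y.Opens // IsAffineOpen T.1 ∧ IsAffineOpen T.2 ∧
      T.2 ≤ f ⁻¹ᵁ T.1 ∧ T.2 ≤ j.coborderRange} => j ⁻¹ᵁ T.1.2) := by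
  refine IsOpenCover.mk (eq_top_iff.mpr ?_)
  intro x _
  obtain ⟨W, hW, hxW, -⟩ := exists_isAffineOpen_mem_and_subset (x := f (j x)) (U := ⊤) trivial
  have hx2 : j x ∈ f ⁻¹ᵁ W ⊓ j.coborderRange := ⟨hxW, subset_coborder ⟨x, rfl⟩⟩
  obtain ⟨V, hV, hxV, hVW⟩ := exists_isAffineOpen_mem_and_subset (x := j x) hx2
  exact Opens.mem_iSup.mpr ⟨⟨⟨W, V⟩, hW, hV, hVW.trans inf_le_left, hVW.trans inf_le_right⟩, hxV⟩

include hY hX hφ hc in
theorem main_S5976 : Epi c ∧ imageSubobject φ = kernelSubobject c := by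
  haveI := isQuasicoherent_of_isUniversal f dY hY
  haveI := isQuasicoherent_of_isUniversal (j ≫ f) dX hX
  haveI : (Omega.conormal j).IsQuasicoherent :=
    inferInstanceAs ((Scheme.Modules.pullback j).obj (ClSub.idealMod j.ker)).IsQuasicoherent
  let ι : Type u := {T : Z.Opens × Y.Opens // IsAffineOpen T.1 ∧ IsAffineOpen T.2 ∧
      T.2 ≤ f ⁻¹ᵁ T.1 ∧ T.2 ≤ j.coborderRange}
  have hcover : IsOpenCover (fun T : ι => j ⁻¹ᵁ T.1.2) := isOpenCover_S5976 f j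
  have haff : ∀ T : ι, IsAffineOpen (j ⁻¹ᵁ T.1.2) := fun T =>
    Groth.Agent.Lib.Helper20.ConormalStalk.isAffineOpen_preimage j T.2.2.1 T.2.2.2.2
  have hch : ∀ T : ι, _ := fun T : ι =>
    chart_S5976 f j ΩY dY hY ΩX dX hX φ hφ c hc T.2.1 T.2.2.1 T.2.2.2.1 T.2.2.2.2
  refine ⟨epi_of_surjective_app_cover c _ hcover haff (fun T => (hch T).1), ?_⟩
  have w : φ ≫ c = 0 := by
    refine pullback_hom_ext j (M := ClSub.idealMod j.ker) (φ ≫ c) 0 fun V s => ?_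
    change c.app (j ⁻¹ᵁ V) (φ.app (j ⁻¹ᵁ V) (OmegaSh.conormalSect j V s)) = 0
    rw [hφ V s, hc V, app_idealSect_eq_zero, map_zero]
  have hex : (ShortComplex.mk φ c w).Exact := by
    rw [ShortComplex.exact_iff_epi_kernel_lift]
    haveI := isQuasicoherent_kernel c
    refine epi_of_surjective_app_cover _ _ hcover haff ?_
    intro T k
    have hk : c.app (j ⁻¹ᵁ T.1.2) ((kernel.ι c).app (j ⁻¹ᵁ T.1.2) k) = 0 := by
      rw [← ConcreteCategory.comp_apply, ← Scheme.Modules.Hom.comp_app, kernel.condition]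
      rfl
    obtain ⟨n, hn⟩ := (hch T).2 _ hk
    refine ⟨n, ?_⟩
    apply OmegaSh.ι_app_injective
    rw [← ConcreteCategory.comp_apply, ← Scheme.Modules.Hom.comp_app]
    change (kernel.lift c φ w ≫ kernel.ι c).app (j ⁻¹ᵁ T.1.2) n = _
    rw [kernel.lift_ι]
    exact hn
  exact (ShortComplex.exact_iff_image_eq_kernel _).mp hex

end S5976

end Groth.Agent.Helper18OmLS
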