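import Mathlib
import Groth.Prelude.Def_Omega4
import Groth.Agent.Lib.Helper18OmLS12

set_option autoImplicit false
set_option linter.style.haveILetI false
universe u
open CategoryTheory CategoryTheory.Limits AlgebraicGeometry TopologicalSpace Opposite
open KaehlerDifferential TensorProduct
open Groth.Agent.Helper13PullbackUnit
open Groth.Agent.Lib.Helper23.ModLocal Groth.Agent.Lib.Helper23.QCohLocal Groth.Agent.Lib.Helper23.FinType
  Groth.Agent.Lib.Helper20.PullbackAff

namespace Groth.Agent.Helper18OmLS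

section pullbackSections
variable {X Y : Scheme.{u}} (f : Y ⟶ X) (F : X.Modules)
  {V : X.Opens} {U : Y.Opens} (hle : U ≤ f ⁻¹ᵁ V)

/-- `unitSec` is compatible with restriction on the base. -/
theorem unitSec_res {V' : X.Opens} (hVV' : V' ≤ V) (hle' : U ≤ f ⁻¹ᵁ V') (s : Γ(F, V)) :
    unitSec f F hle' (F.presheaf.map (homOfLE hVV').op s) =
      unitSec f F (hle'.trans (f.preimage_mono hVV')) s := by
  rw [unitSec_apply, unitSec_apply]
  have h1 := ((Scheme.Modules.pullbackPushforwardAdjunction f).unit.app F).mapPresheaf.naturality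
    (homOfLE hVV').op
  have h2 := congr($h1 s)
  rw [ConcreteCategory.comp_apply, ConcreteCategory.comp_apply] at h2
  refine (congrArg _ h2).trans ?_
  rw [← ConcreteCategory.comp_apply]
  change (((Scheme.Modules.pullback f).obj F).presheaf.map _ ≫
    ((Scheme.Modules.pullback f).obj F).presheaf.map _) _ = _
  rw [← Functor.map_comp]
  rfl

variable [F.IsQuasicoherent] (hV : IsAffineOpen V) (hU : IsAffineOpen U)
  [Algebra Γ(X, V) Γ(Y, U)] (halg : algebraMap Γ(X, V) Γ(Y, U) = (f.appLE V U hle).hom)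

include hV hU halg in
theorem exists_pullback_equiv :
    ∃ e : Γ(Y, U) ⊗[Γ(X, V)] Γ(F, V) ≃ₗ[Γ(Y, U)] Γ((Scheme.Modules.pullback f).obj F, U),
      ∀ (b : Γ(Y, U)) (m : Γ(F, V)), e (b ⊗ₜ m) = b • unitSec f F hle m :=
  exists_baseChangeEquiv (A := Γ(X, V)) (B := Γ(Y, U)) (unitSec f F hle)
    (fun a m => by rw [unitSec_smul, halg])
    (fun N _ _ l hl => existsUnique_lift f F hV hU hle N l (fun r x => by rw [hl, halg]))

include hV hU halg in
/-- when `Γ(X, V) → Γ(Y, U)` is surjective, every section of the pullback over `U` is a pulled back section. -/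
theorem exists_unitSec_eq (hsurj : Function.Surjective (algebraMap Γ(X, V) Γ(Y, U)))
    (n : Γ((Scheme.Modules.pullback f).obj F, U)) : ∃ s : Γ(F, V), unitSec f F hle s = n := by
  obtain ⟨e, he⟩ := exists_pullback_equiv f F hle hV hU halg
  obtain ⟨t, rfl⟩ := e.surjective n
  induction t using TensorProduct.induction_on with
  | zero => exact ⟨0, by rw [map_zero, map_zero]⟩
  | tmul b m =>
    obtain ⟨a, rfl⟩ := hsurj b
    refine ⟨a • m, ?_⟩
    rw [he, unitSec_smul, halg]
  | add x y hx hy =>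
    obtain ⟨s₁, h₁⟩ := hx
    obtain ⟨s₂, h₂⟩ := hy
    exact ⟨s₁ + s₂, by rw [map_add, map_add, h₁, h₂]⟩

include halg in
/-- pulled back sections of `I • M` vanish, `I` the kernel of `Γ(X, V) → Γ(Y, U)`. -/
theorem unitSec_eq_zero_of_mem_smul_top {m : Γ(F, V)}
    (hm : m ∈ (RingHom.ker (algebraMap Γ(X, V) Γ(Y, U)) • ⊤ : Submodule Γ(X, V) Γ(F, V))) :
    unitSec f F hle m = 0 := by
  refine Submodule.smul_induction_on hm ?_ ?_
  · intro x hx m' _
    rw [unitSec_smul]
    have h0 : (f.appLE V U hle) x = 0 := by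
      rw [RingHom.mem_ker, halg] at hx
      exact hx
    rw [h0, zero_smul]
  · intro x y hx hy
    rw [map_add, hx, hy, add_zero]

end pullbackSections

section idealSect
variable {X : Scheme.{u}} (K : X.IdealSheafData)

theorem idealSect_injective (W : X.Opens) : Function.Injective (OmegaSh.idealSect K W) :=
  Groth.Agent.Lib.Helper20.IdealModSec.ι_injective K W

theorem idealSect_smul (W : X.Opens) (b : Γ(X, W)) (s : Γ(ClSub.idealMod K, W)) :
    OmegaSh.idealSect K W (b • s) = b * OmegaSh.idealSect K W s := by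
  rw [OmegaSh.idealSect_apply, Scheme.Modules.Hom.app_smul]
  rfl

theorem idealSect_res {W' W : X.Opens} (h : W' ≤ W) (s : Γ(ClSub.idealMod K, W)) :
    OmegaSh.idealSect K W' ((ClSub.idealMod K).presheaf.map (homOfLE h).op s) =
      X.presheaf.map (homOfLE h).op (OmegaSh.idealSect K W s) := by
  rw [OmegaSh.idealSect_apply, OmegaSh.idealModι_app_map]
  rfl

end idealSect

section kerSections
variable {Z X : Scheme.{u}} (i : Z ⟶ X) [QuasiCompact i]

theorem subschemeι_app_eq_zero (W : X.Opens) (x : Γ(X, W)) (hx : i.app W x = 0) :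
    (i.ker.subschemeι.app W) x = 0 := by
  refine (i.ker.subscheme).IsSheaf.section_ext fun y hy => ?_
  obtain ⟨_, ⟨W', hW', rfl⟩, hyW', hW'W : W' ≤ W⟩ :=
    X.isBasis_affineOpens.exists_subset_of_mem_open hy W.isOpen
  refine ⟨i.ker.subschemeι ⁻¹ᵁ W', i.ker.subschemeι.preimage_mono hW'W, hyW', ?_⟩
  rw [map_zero]
  have hn := i.ker.subschemeι.naturality (homOfLE hW'W).op
  have hn' := congr($hn x)
  rw [ConcreteCategory.comp_apply, ConcreteCategory.comp_apply] at hn'
  refine hn'.symm.trans ?_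
  have h1 : X.presheaf.map (homOfLE hW'W).op x ∈ i.ker.ideal ⟨W', hW'⟩ := by
    rw [Scheme.Hom.ker_apply, RingHom.mem_ker]
    have hn2 := congr($(i.naturality (homOfLE hW'W).op) x)
    rw [ConcreteCategory.comp_apply, ConcreteCategory.comp_apply] at hn2
    refine hn2.trans ?_
    rw [hx, map_zero]
  rw [← i.ker.ker_subschemeι_app ⟨W', hW'⟩, RingHom.mem_ker] at h1
  exact h1

/-- a function killed by `i♯` is a section of the ideal of `i` (any open, `i` quasi-compact). -/
theorem exists_idealSect_eq (W : X.Opens) (x : Γ(X, W)) (hx : i.app W x = 0) :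
    ∃ s : Γ(ClSub.idealMod i.ker, W), OmegaSh.idealSect i.ker W s = x :=
  Groth.Agent.Lib.Helper20.IdealModSec.exists_eq_ι i.ker W x (by
    rw [Groth.Agent.Lib.Helper20.IdealModSec.toSubscheme_app]
    exact subschemeι_app_eq_zero i W x hx)


/-- sections of the ideal whose function lies in `I²` lie in `I • ⊤`. -/
theorem mem_smul_top_of_idealSect_mem_sq (U : X.Opens) (t : Γ(ClSub.idealMod i.ker, U))
    (ht : OmegaSh.idealSect i.ker U t ∈ (RingHom.ker (i.app U).hom) ^ 2) :
    t ∈ (RingHom.ker (i.app U).hom • ⊤ : Submodule Γ(X, U) Γ(ClSub.idealMod i.ker, U)) := by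
  rw [pow_two] at ht
  have key : ∀ (r : Γ(X, U)) (hr : r ∈ RingHom.ker (i.app U).hom * RingHom.ker (i.app U).hom)
      (t : Γ(ClSub.idealMod i.ker, U)), OmegaSh.idealSect i.ker U t = r →
      t ∈ (RingHom.ker (i.app U).hom • ⊤ : Submodule Γ(X, U) Γ(ClSub.idealMod i.ker, U)) := by
    intro r hr
    refine Submodule.mul_induction_on' (C := fun r _ => ∀ (t : Γ(ClSub.idealMod i.ker, U)),
      OmegaSh.idealSect i.ker U t = r →
      t ∈ (RingHom.ker (i.app U).hom • ⊤ : Submodule Γ(X, U) Γ(ClSub.idealMod i.ker, U))) ?_ ?_ hr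
    · intro m hm n hn t ht
      obtain ⟨tn, htn⟩ := exists_idealSect_eq i U n (RingHom.mem_ker.mp hn)
      have : t = m • tn := by
        apply idealSect_injective
        rw [ht, idealSect_smul, htn]
      rw [this]
      exact Submodule.smul_mem_smul hm Submodule.mem_top
    · intro x hx y hy ihx ihy t ht
      have hxI : x ∈ RingHom.ker (i.app U).hom := Ideal.mul_le_left hx
      have hyI : y ∈ RingHom.ker (i.app U).hom := Ideal.mul_le_left hy
      obtain ⟨tx, htx⟩ := exists_idealSect_eq i U x (RingHom.mem_ker.mp hxI)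
      obtain ⟨ty, hty⟩ := exists_idealSect_eq i U y (RingHom.mem_ker.mp hyI)
      have : t = tx + ty := by
        apply idealSect_injective
        rw [ht, map_add, htx, hty]
      rw [this]
      exact Submodule.add_mem _ (ihx tx htx) (ihy ty hty)
  exact key _ ht t rfl

end kerSections

section ring
variable {A B R : Type u} [CommRing A] [CommRing B] [CommRing R] [Algebra A B] [Algebra B R]
  [Algebra A R] [IsScalarTower A B R]

/-- if `1 ⊗ x = 0` in `R ⊗[B] M` with `B → R` surjective then `x ∈ ker • ⊤`. -/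
theorem mem_smul_top_of_one_tmul_eq_zero' (hs : Function.Surjective (algebraMap B R))
    {M : Type u} [AddCommGroup M] [Module B M] (x : M) (hx : (1 : R) ⊗ₜ[B] x = 0) :
    x ∈ (RingHom.ker (algebraMap B R) • ⊤ : Submodule B M) := by
  set I := RingHom.ker (algebraMap B R) with hI
  let φ : (B ⧸ I) →ₗ[B] R := Submodule.liftQ I (Algebra.linearMap B R) (by
    intro b hb
    exact hb)
  have hφ : Function.Bijective φ := by
    constructor
    · rw [← LinearMap.ker_eq_bot, Submodule.eq_bot_iff]
      intro z hz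
      obtain ⟨b, rfl⟩ := Submodule.Quotient.mk_surjective _ z
      rw [LinearMap.mem_ker] at hz
      have : algebraMap B R b = 0 := hz
      rw [Submodule.Quotient.mk_eq_zero]
      exact this
    · intro a
      obtain ⟨b, rfl⟩ := hs a
      exact ⟨Submodule.Quotient.mk b, rfl⟩
  let e : (B ⧸ I) ≃ₗ[B] R := LinearEquiv.ofBijective φ hφ
  have he1 : e.symm 1 = (1 : B ⧸ I) := by
    rw [LinearEquiv.symm_apply_eq]
    show (1 : R) = algebraMap B R 1
    rw [map_one]
  let E := TensorProduct.congr e.symm (LinearEquiv.refl B M) ≪≫ₗ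
    TensorProduct.quotTensorEquivQuotSMul M I
  have h1 : E ((1 : R) ⊗ₜ[B] x) = Submodule.Quotient.mk x := by
    show TensorProduct.quotTensorEquivQuotSMul M I
      (TensorProduct.congr e.symm (LinearEquiv.refl B M) ((1 : R) ⊗ₜ[B] x)) = _
    rw [TensorProduct.congr_tmul, he1]
    exact TensorProduct.quotTensorEquivQuotSMul_mk_one_tmul I x
  rw [hx, map_zero] at h1
  exact (Submodule.Quotient.mk_eq_zero _).mp h1.symm


variable (A B R) in
/-- the ideal `I² ⊔ (p(J))` of `B` where `I = ker (B → R)`, `J = ker (A → R)`. -/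
def I2 : Ideal B :=
  (RingHom.ker (algebraMap B R)) ^ 2 ⊔
    Ideal.span ((algebraMap A B) '' (RingHom.ker (algebraMap A R) : Set A))

theorem algebraMap_mem_ker {a : A} (ha : a ∈ RingHom.ker (algebraMap A R)) :
    algebraMap A B a ∈ RingHom.ker (algebraMap B R) := by
  rw [RingHom.mem_ker, ← IsScalarTower.algebraMap_apply]
  exact ha

theorem I2_le : I2 A B R ≤ RingHom.ker (algebraMap B R) := by
  refine sup_le (Ideal.pow_le_self two_ne_zero) (Ideal.span_le.mpr ?_)
  rintro _ ⟨a, ha, rfl⟩
  exact algebraMap_mem_ker ha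

/-- extraction: elements of `I2` are congruent mod `I²` to the image of an element of `J`. -/
theorem exists_of_mem_I2 (hAR : Function.Surjective (algebraMap A R)) {s : B} (hs : s ∈ I2 A B R) :
    ∃ a ∈ RingHom.ker (algebraMap A R), s - algebraMap A B a ∈ (RingHom.ker (algebraMap B R)) ^ 2 := by
  set I := RingHom.ker (algebraMap B R) with hI
  set J := RingHom.ker (algebraMap A R) with hJ
  let T : Ideal B :=
    { carrier := {s | ∃ a ∈ J, s - algebraMap A B a ∈ I ^ 2}
      add_mem' := by
        rintro x y ⟨a, ha, hxa⟩ ⟨b, hb, hyb⟩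
        refine ⟨a + b, J.add_mem ha hb, ?_⟩
        have : x + y - algebraMap A B (a + b) = (x - algebraMap A B a) + (y - algebraMap A B b) := by
          rw [map_add]; ring
        rw [this]
        exact (I ^ 2).add_mem hxa hyb
      zero_mem' := ⟨0, J.zero_mem, by simp⟩
      smul_mem' := by
        rintro c x ⟨a, ha, hxa⟩
        obtain ⟨a', ha'⟩ := hAR (algebraMap B R c)
        refine ⟨a' * a, J.mul_mem_left a' ha, ?_⟩
        have hc : c - algebraMap A B a' ∈ I := by
          rw [hI, RingHom.mem_ker, map_sub, ← IsScalarTower.algebraMap_apply, ha', sub_self]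
        have : c • x - algebraMap A B (a' * a) =
            c * (x - algebraMap A B a) + (c - algebraMap A B a') * algebraMap A B a := by
          rw [map_mul, smul_eq_mul]; ring
        rw [this]
        refine (I ^ 2).add_mem ((I ^ 2).mul_mem_left c hxa) ?_
        rw [pow_two]
        exact Ideal.mul_mem_mul hc (algebraMap_mem_ker ha) }
  have hle : I2 A B R ≤ T := by
    refine sup_le ?_ (Ideal.span_le.mpr ?_)
    · intro x hx
      exact ⟨0, J.zero_mem, by simpa using hx⟩
    · rintro _ ⟨a, ha, rfl⟩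
      exact ⟨a, ha, by simp⟩
  exact hle hs

/-- **Key ring lemma**: `A → B → R` with `B → R` and `A → R` surjective. If `s ∈ I = ker (B → R)` and
`1 ⊗ ds = 0` in `R ⊗[B] Ω[B/A]`, then `s` is congruent mod `I²` to the image of an element of
`J = ker (A → R)`. -/
theorem exists_sub_mem_sq_of_one_tmul_D_eq_zero (hBR : Function.Surjective (algebraMap B R))
    (hAR : Function.Surjective (algebraMap A R)) (s : B) (hs : s ∈ RingHom.ker (algebraMap B R))
    (h0 : (1 : R) ⊗ₜ[B] D A B s = 0) :
    ∃ a ∈ RingHom.ker (algebraMap A R), s - algebraMap A B a ∈ (RingHom.ker (algebraMap B R)) ^ 2 := by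
  apply exists_of_mem_I2 hAR
  set I := RingHom.ker (algebraMap B R) with hI
  set J := RingHom.ker (algebraMap A R) with hJ
  have hDs : D A B s ∈ (I • ⊤ : Submodule B Ω[B⁄A]) := mem_smul_top_of_one_tmul_eq_zero' hBR _ h0
  -- the quotient `Q = B / I2` and the maps `f : Q → R`, `g : R → Q`
  let f : (B ⧸ I2 A B R) →ₐ[A] R := Ideal.Quotient.liftₐ (I2 A B R) (IsScalarTower.toAlgHom A B R)
    (fun b hb => I2_le hb)
  have hf_mk : ∀ b : B, f (Ideal.Quotient.mk _ b) = algebraMap B R b := fun b => rfl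
  have hker : RingHom.ker (algebraMap A R) ≤ RingHom.ker (algebraMap A (B ⧸ I2 A B R)) := by
    intro a ha
    rw [RingHom.mem_ker, IsScalarTower.algebraMap_apply A B (B ⧸ I2 A B R),
      Ideal.Quotient.algebraMap_eq, Ideal.Quotient.eq_zero_iff_mem]
    exact Ideal.mem_sup_right (Ideal.subset_span ⟨a, ha, rfl⟩)
  let g₀ : R →+* (B ⧸ I2 A B R) :=
    (algebraMap A R).liftOfSurjective hAR ⟨algebraMap A (B ⧸ I2 A B R), hker⟩
  have hg₀ : ∀ a : A, g₀ (algebraMap A R a) = algebraMap A (B ⧸ I2 A B R) a := fun a =>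
    RingHom.liftOfSurjective_comp_apply (algebraMap A R) hAR ⟨_, hker⟩ a
  let g : R →ₐ[A] (B ⧸ I2 A B R) := { g₀ with commutes' := hg₀ }
  have hg : f.comp g = AlgHom.id A R := by
    ext r
    obtain ⟨a, rfl⟩ := hAR r
    change f (g₀ (algebraMap A R a)) = _
    rw [hg₀, AlgHom.commutes]
    rfl
  have hkerf : RingHom.ker f ≤ I.map (Ideal.Quotient.mk (I2 A B R)) := by
    intro x hx
    obtain ⟨b, rfl⟩ := Ideal.Quotient.mk_surjective x
    rw [RingHom.mem_ker, hf_mk] at hx
    exact Ideal.mem_map_of_mem _ hx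
  have hf' : (RingHom.ker f) ^ 2 = ⊥ := by
    rw [eq_bot_iff]
    refine (Ideal.pow_right_mono hkerf 2).trans ?_
    rw [← Ideal.map_pow, Ideal.map_le_iff_le_comap]
    intro x hx
    rw [Ideal.mem_comap, Ideal.mem_bot, Ideal.Quotient.eq_zero_iff_mem]
    exact Ideal.mem_sup_left hx
  let δ₀ := derivationOfSectionOfKerSqZero f hf' g hg
  let δ : Derivation A B (RingHom.ker f) := δ₀.compAlgebraMap B
  let L : Ω[B⁄A] →ₗ[B] (RingHom.ker f) := δ.liftKaehlerDifferential
  have hL : ∀ b, L (D A B b) = δ b := fun b => Derivation.liftKaehlerDifferential_comp_D δ b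
  have hkill : ∀ x ∈ I, ∀ n : RingHom.ker f, x • n = 0 := by
    intro x hx n
    apply Subtype.ext
    change Ideal.Quotient.mk (I2 A B R) x * (n : B ⧸ I2 A B R) = 0
    rw [← Ideal.mem_bot, ← hf', pow_two]
    refine Ideal.mul_mem_mul ?_ n.2
    rw [RingHom.mem_ker, hf_mk]
    exact hx
  have hLkill : ∀ ω ∈ (I • ⊤ : Submodule B Ω[B⁄A]), L ω = 0 := by
    intro ω hω
    refine Submodule.smul_induction_on hω ?_ ?_
    · intro x hx ω' _
      rw [map_smul]
      exact hkill x hx _
    · intro x y hx hy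
      rw [map_add, hx, hy, add_zero]
  have h1 := hLkill _ hDs
  rw [hL] at h1
  have h2 : ((δ s : RingHom.ker f) : B ⧸ I2 A B R) = Ideal.Quotient.mk _ s := by
    change Ideal.Quotient.mk _ s - g (f (Ideal.Quotient.mk _ s)) = _
    rw [hf_mk, RingHom.mem_ker.mp hs, map_zero, sub_zero]
  rw [h1] at h2
  exact Ideal.Quotient.eq_zero_iff_mem.mp h2.symm

/-- `Ω[B/A]` is generated modulo `I • ⊤` by the `D s`, `s ∈ I`, when `A → R` is surjective. -/
theorem exists_D_sub_mem_smul_top (hAR : Function.Surjective (algebraMap A R)) (ω : Ω[B⁄A]) :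
    ∃ s ∈ RingHom.ker (algebraMap B R),
      ω - D A B s ∈ (RingHom.ker (algebraMap B R) • ⊤ : Submodule B Ω[B⁄A]) := by
  set I := RingHom.ker (algebraMap B R) with hI
  have hω : ω ∈ Submodule.span B (Set.range (D A B)) := by
    rw [KaehlerDifferential.span_range_derivation]; trivial
  refine Submodule.span_induction ?_ ?_ ?_ ?_ hω
  · rintro _ ⟨b, rfl⟩
    obtain ⟨a, ha⟩ := hAR (algebraMap B R b)
    refine ⟨b - algebraMap A B a, ?_, ?_⟩
    · rw [hI, RingHom.mem_ker, map_sub, ← IsScalarTower.algebraMap_apply, ha, sub_self]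
    · rw [map_sub, Derivation.map_algebraMap, sub_zero, sub_self]
      exact Submodule.zero_mem _
  · exact ⟨0, I.zero_mem, by simp⟩
  · rintro x y _ _ ⟨s, hs, hxs⟩ ⟨t, ht, hyt⟩
    refine ⟨s + t, I.add_mem hs ht, ?_⟩
    have : x + y - D A B (s + t) = (x - D A B s) + (y - D A B t) := by
      rw [map_add]; abel
    rw [this]
    exact Submodule.add_mem _ hxs hyt
  · rintro c x _ ⟨s, hs, hxs⟩
    refine ⟨c * s, I.mul_mem_left c hs, ?_⟩
    have : c • x - D A B (c * s) = c • (x - D A B s) - s • D A B c := by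
      rw [Derivation.leibniz, smul_sub]; abel
    rw [this]
    exact Submodule.sub_mem _ (Submodule.smul_mem _ c hxs)
      (Submodule.smul_mem_smul hs Submodule.mem_top)

end ring

end Groth.Agent.Helper18OmLS
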