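import Mathlib
import Groth.Prelude.Def_Omega4
import Groth.Agent.Lib.Helper18OmLS13

set_option autoImplicit false
set_option linter.style.haveILetI false
set_option linter.unusedSectionVars false
universe u
open CategoryTheory CategoryTheory.Limits AlgebraicGeometry TopologicalSpace Opposite
open KaehlerDifferential TensorProduct
open Groth.Agent.Helper13PullbackUnit
open Groth.Agent.Lib.Helper23.ModLocal Groth.Agent.Lib.Helper23.QCohLocal Groth.Agent.Lib.Helper23.FinType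
  Groth.Agent.Lib.Helper20.PullbackAff

namespace Groth.Agent.Helper18OmLS

theorem presheaf_map_bijective_of_eq {Z : Scheme.{u}} {A B : Z.Opens} (h : A = B) (k : A ⟶ B) :
    Function.Bijective (Z.presheaf.map k.op) := by
  subst h
  have : k = 𝟙 _ := Subsingleton.elim _ _
  rw [this, op_id, Z.presheaf.map_id]
  exact Function.bijective_id

theorem presheaf_map_homOfLE_refl {Z : Scheme.{u}} (M : Z.Modules) {A : Z.Opens} (h : A ≤ A)
    (x : Γ(M, A)) : M.presheaf.map (homOfLE h).op x = x := by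
  have : (homOfLE h).op = 𝟙 (op A) := rfl
  rw [this, M.presheaf.map_id]
  rfl

section S9375
variable {Z X Y : Scheme.{u}} (p : X ⟶ Y) (i : Z ⟶ X) (j : Z ⟶ Y) [IsImmersion i] [IsImmersion j]
    [QuasiCompact i] [QuasiCompact j] (hij : i ≫ p = j)
    (Ω : X.Modules) (d : OmegaSh.Der p Ω) (hd : OmegaSh.IsUniversal d)
    (ψ : (Scheme.Modules.pullback (𝟙 Z)).obj (Omega.conormal j) ⟶ Omega.conormal i)
    (hψ : OmegaSh.IsConormalMap i j p (𝟙 Z) ψ)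
    (φ : Omega.conormal i ⟶ (Scheme.Modules.pullback i).obj Ω) (hφ : OmegaSh.IsConormalDiff i d φ)

include hij in
theorem app_app_eq_zero (V' : Y.Opens) (a : Γ(Y, V')) (ha : j.app V' a = 0) :
    i.app (p ⁻¹ᵁ V') (p.app V' a) = 0 := by
  have h1 := Scheme.Hom.congr_app hij V'
  rw [Scheme.Hom.comp_app] at h1
  have h2 := congr($h1 a)
  rw [ConcreteCategory.comp_apply, ConcreteCategory.comp_apply] at h2
  refine h2.trans ?_
  rw [ha, map_zero]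
  rfl

include hij in
theorem exists_idealSect_app (V' : Y.Opens) (s' : Γ(ClSub.idealMod j.ker, V')) :
    ∃ s'' : Γ(ClSub.idealMod i.ker, p ⁻¹ᵁ V'),
      OmegaSh.idealSect i.ker (p ⁻¹ᵁ V') s'' = p.app V' (OmegaSh.idealSect j.ker V' s') :=
  exists_idealSect_eq i _ _ (app_app_eq_zero p i j hij V' _ (app_idealSect_eq_zero j V' s'))

include hψ in
theorem psi_conormalSect (V' : Y.Opens) (s' : Γ(ClSub.idealMod j.ker, V'))
    (s'' : Γ(ClSub.idealMod i.ker, p ⁻¹ᵁ V'))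
    (h : OmegaSh.idealSect i.ker (p ⁻¹ᵁ V') s'' = p.app V' (OmegaSh.idealSect j.ker V' s'))
    (T : Z.Opens) (h₁ : T ≤ (𝟙 Z) ⁻¹ᵁ (j ⁻¹ᵁ V')) (h₂ : T ≤ i ⁻¹ᵁ (p ⁻¹ᵁ V')) :
    ψ.app T (((Scheme.Modules.pullback (𝟙 Z)).obj (Omega.conormal j)).presheaf.map (homOfLE h₁).op
      (OmegaSh.pullSect (𝟙 Z) (Omega.conormal j) (j ⁻¹ᵁ V') (OmegaSh.conormalSect j V' s'))) =
      unitSec i (ClSub.idealMod i.ker) h₂ s'' := by
  have h3 := hψ.2 V' s' s'' h T h₁ h₂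
  have h4 := congr($(ψ.mapPresheaf.naturality (homOfLE h₁).op)
    (OmegaSh.pullSect (𝟙 Z) (Omega.conormal j) (j ⁻¹ᵁ V') (OmegaSh.conormalSect j V' s')))
  exact h4.trans h3


include hij hd hψ hφ in
theorem chart_S9375 {V : Y.Opens} (hV : IsAffineOpen V) {U : X.Opens} (hU : IsAffineOpen U)
    (hUV : U ≤ p ⁻¹ᵁ V) (hVj : V ≤ j.coborderRange) (hUi : U ≤ i.coborderRange)
    (hT : i ⁻¹ᵁ U = j ⁻¹ᵁ V) :
    Function.Surjective (φ.app (i ⁻¹ᵁ U)) ∧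
    ∀ n : Γ(Omega.conormal i, i ⁻¹ᵁ U), φ.app (i ⁻¹ᵁ U) n = 0 → ∃ m, ψ.app (i ⁻¹ᵁ U) m = n := by
  haveI := isQuasicoherent_of_isUniversal p d hd
  have hTaff : IsAffineOpen (i ⁻¹ᵁ U) :=
    Groth.Agent.Lib.Helper20.ConormalStalk.isAffineOpen_preimage i hU hUi
  have hTU : i ⁻¹ᵁ U ≤ i ⁻¹ᵁ U := le_refl _
  have hTV : i ⁻¹ᵁ U ≤ j ⁻¹ᵁ V := hT.le
  have hTV' : i ⁻¹ᵁ U ≤ (i ≫ p) ⁻¹ᵁ V := fun z hz => hUV hz
  letI algAB : Algebra Γ(Y, V) Γ(X, U) := (p.appLE V U hUV).hom.toAlgebra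
  letI algBR : Algebra Γ(X, U) Γ(Z, i ⁻¹ᵁ U) := (i.appLE U (i ⁻¹ᵁ U) hTU).hom.toAlgebra
  letI algAR : Algebra Γ(Y, V) Γ(Z, i ⁻¹ᵁ U) := (j.appLE V (i ⁻¹ᵁ U) hTV).hom.toAlgebra
  haveI : IsScalarTower Γ(Y, V) Γ(X, U) Γ(Z, i ⁻¹ᵁ U) := by
    refine IsScalarTower.of_algebraMap_eq fun r => ?_
    have h1 : p.appLE V U hUV ≫ i.appLE U (i ⁻¹ᵁ U) hTU = (i ≫ p).appLE V (i ⁻¹ᵁ U) hTV' :=
      Scheme.Hom.appLE_comp_appLE _ _ _ _ _ _ _
    have h3 := OmegaSh.appLE_congr_hom hij (U := V) (V := i ⁻¹ᵁ U) hTV' hTV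
    have h4 : j.appLE V (i ⁻¹ᵁ U) hTV = p.appLE V U hUV ≫ i.appLE U (i ⁻¹ᵁ U) hTU := by
      rw [h1, h3]
    exact congr($h4 r)
  have hBR : Function.Surjective (algebraMap Γ(X, U) Γ(Z, i ⁻¹ᵁ U)) := by
    intro b
    obtain ⟨a, ha⟩ := Groth.Agent.Lib.Helper20.ConormalStalk.app_surjective i hU hUi b
    refine ⟨a, ?_⟩
    rw [← ha]
    change (i.appLE U (i ⁻¹ᵁ U) hTU) a = _
    rw [← Scheme.Hom.app_eq_appLE]
  have hjapp : ∀ a : Γ(Y, V), algebraMap Γ(Y, V) Γ(Z, i ⁻¹ᵁ U) a =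
      Z.presheaf.map (homOfLE hTV).op (j.app V a) := fun a => rfl
  have hres := presheaf_map_bijective_of_eq hT (homOfLE hTV)
  have hAR : Function.Surjective (algebraMap Γ(Y, V) Γ(Z, i ⁻¹ᵁ U)) := by
    intro r
    obtain ⟨r', hr'⟩ := hres.2 r
    obtain ⟨a, ha⟩ := Groth.Agent.Lib.Helper20.ConormalStalk.app_surjective j hV hVj r'
    refine ⟨a, ?_⟩
    rw [hjapp, ha, hr']
  have hkerI : ∀ b : Γ(X, U), b ∈ RingHom.ker (algebraMap Γ(X, U) Γ(Z, i ⁻¹ᵁ U)) ↔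
      i.app U b = 0 := by
    intro b
    rw [RingHom.mem_ker]
    change (i.appLE U (i ⁻¹ᵁ U) hTU) b = 0 ↔ _
    rw [← Scheme.Hom.app_eq_appLE]
  have hkerEq : RingHom.ker (algebraMap Γ(X, U) Γ(Z, i ⁻¹ᵁ U)) = RingHom.ker (i.app U).hom := by
    ext b
    rw [hkerI, RingHom.mem_ker]
  let sE := sectionsEquiv p d hd hU hV hUV rfl
  have hsE : ∀ b, sE (d.app U b) = D Γ(Y, V) Γ(X, U) b := sectionsEquiv_d p d hd hU hV hUV rfl
  constructor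
  · -- surjectivity
    intro t
    obtain ⟨m, rfl⟩ := exists_unitSec_eq i Ω hTU hU hTaff rfl hBR t
    obtain ⟨s₁, hs₁, hω⟩ := exists_D_sub_mem_smul_top (A := Γ(Y, V)) (B := Γ(X, U))
      (R := Γ(Z, i ⁻¹ᵁ U)) hAR (sE m)
    have hv : ∀ ω ∈ (RingHom.ker (algebraMap Γ(X, U) Γ(Z, i ⁻¹ᵁ U)) • ⊤ :
        Submodule Γ(X, U) Ω[Γ(X, U)⁄Γ(Y, V)]), unitSec i Ω hTU (sE.symm ω) = 0 := by
      intro ω hω
      refine Submodule.smul_induction_on hω ?_ ?_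
      · intro x hx ω' _
        rw [map_smul, unitSec_smul]
        have h0 : (i.appLE U (i ⁻¹ᵁ U) hTU) x = 0 := hx
        rw [h0, zero_smul]
      · intro x y hx hy
        rw [map_add, map_add, hx, hy, add_zero]
    have h1 := hv _ hω
    rw [map_sub, LinearEquiv.symm_apply_apply, ← hsE, LinearEquiv.symm_apply_apply, map_sub,
      sub_eq_zero] at h1
    obtain ⟨st, hst⟩ := exists_idealSect_eq i U s₁ ((hkerI s₁).mp hs₁)
    refine ⟨unitSec i (ClSub.idealMod i.ker) hTU st, ?_⟩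
    rw [phi_unitSec i d φ hφ hTU st, hst, h1]
  · intro n hn
    obtain ⟨s, rfl⟩ := exists_unitSec_eq i (ClSub.idealMod i.ker) hTU hU hTaff rfl hBR n
    have hs₀ : OmegaSh.idealSect i.ker U s ∈ RingHom.ker (algebraMap Γ(X, U) Γ(Z, i ⁻¹ᵁ U)) :=
      (hkerI _).mpr (app_idealSect_eq_zero i U s)
    rw [phi_unitSec i d φ hφ hTU s] at hn
    obtain ⟨e, he⟩ := exists_pullback_equiv i Ω hTU hU hTaff rfl
    have h1 : (1 : Γ(Z, i ⁻¹ᵁ U)) ⊗ₜ[Γ(X, U)] (d.app U (OmegaSh.idealSect i.ker U s)) = 0 := by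
      apply e.injective
      rw [he, one_smul, hn, map_zero]
    have h2 : (1 : Γ(Z, i ⁻¹ᵁ U)) ⊗ₜ[Γ(X, U)]
        D Γ(Y, V) Γ(X, U) (OmegaSh.idealSect i.ker U s) = 0 := by
      have := congrArg (LinearMap.lTensor Γ(Z, i ⁻¹ᵁ U) sE.toLinearMap) h1
      rw [LinearMap.lTensor_tmul, map_zero] at this
      rw [← hsE]
      exact this
    obtain ⟨a, ha, hsa⟩ := exists_sub_mem_sq_of_one_tmul_D_eq_zero hBR hAR _ hs₀ h2
    have hja : j.app V a = 0 := by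
      rw [RingHom.mem_ker, hjapp] at ha
      apply hres.1
      rw [ha, map_zero]
    obtain ⟨s', hs'⟩ := exists_idealSect_eq j V a hja
    obtain ⟨s'', hs''⟩ := exists_idealSect_app p i j hij V s'
    have h₂ : i ⁻¹ᵁ U ≤ i ⁻¹ᵁ (p ⁻¹ᵁ V) := i.preimage_mono hUV
    refine ⟨_, (psi_conormalSect p i j ψ hψ V s' s'' hs'' (i ⁻¹ᵁ U) hTV h₂).trans ?_⟩
    rw [← unitSec_res i (ClSub.idealMod i.ker) hUV hTU s'']
    -- compare the two sections of the ideal over `U`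
    set sa := (ClSub.idealMod i.ker).presheaf.map (homOfLE hUV).op s'' with hsa_def
    have hsa0 : OmegaSh.idealSect i.ker U sa = algebraMap Γ(Y, V) Γ(X, U) a := by
      rw [hsa_def, idealSect_res, hs'', hs']
      rfl
    have hdiff : s - sa ∈ (RingHom.ker (algebraMap Γ(X, U) Γ(Z, i ⁻¹ᵁ U)) • ⊤ :
        Submodule Γ(X, U) Γ(ClSub.idealMod i.ker, U)) := by
      rw [hkerEq]
      apply mem_smul_top_of_idealSect_mem_sq
      rw [map_sub, hsa0, ← hkerEq]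
      exact hsa
    have h0 := unitSec_eq_zero_of_mem_smul_top i (ClSub.idealMod i.ker) hTU rfl hdiff
    rw [map_sub, sub_eq_zero] at h0
    exact h0.symm


include hij in
theorem exists_chart_S9375 (z : Z) : ∃ (V : Y.Opens) (U : X.Opens), IsAffineOpen V ∧ IsAffineOpen U ∧
    U ≤ p ⁻¹ᵁ V ∧ V ≤ j.coborderRange ∧ U ≤ i.coborderRange ∧ i ⁻¹ᵁ U = j ⁻¹ᵁ V ∧ z ∈ i ⁻¹ᵁ U := by
  have hpt : ∀ z' : Z, p (i z') = j z' := fun z' => by rw [← hij]; rfl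
  obtain ⟨V₀, hV₀, hzV₀, hV₀j⟩ := exists_isAffineOpen_mem_and_subset (x := j z)
    (U := j.coborderRange) (subset_coborder ⟨z, rfl⟩)
  have hiz : i z ∈ p ⁻¹ᵁ V₀ ⊓ i.coborderRange := by
    refine ⟨?_, subset_coborder ⟨z, rfl⟩⟩
    change p (i z) ∈ V₀
    rw [hpt]; exact hzV₀
  obtain ⟨U₀, hU₀, hzU₀, hU₀le⟩ := exists_isAffineOpen_mem_and_subset (x := i z) hiz
  have hU₀V₀ : U₀ ≤ p ⁻¹ᵁ V₀ := hU₀le.trans inf_le_left
  have hT₀' : IsAffineOpen (j ⁻¹ᵁ V₀) :=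
    Groth.Agent.Lib.Helper20.ConormalStalk.isAffineOpen_preimage j hV₀ hV₀j
  obtain ⟨h, hh1, hh2⟩ := hT₀'.exists_basicOpen_le (V := i ⁻¹ᵁ U₀) ⟨z, hzU₀⟩ hzV₀
  obtain ⟨g, rfl⟩ := Groth.Agent.Lib.Helper20.ConormalStalk.app_surjective j hV₀ hV₀j h
  have hjV : j ⁻¹ᵁ (Y.basicOpen g) = Z.basicOpen (j.app V₀ g) := Scheme.preimage_basicOpen j g
  have hUeq : X.basicOpen (p.appLE V₀ U₀ hU₀V₀ g) = U₀ ⊓ p ⁻¹ᵁ (Y.basicOpen g) :=
    Scheme.basicOpen_appLE p U₀ V₀ hU₀V₀ g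
  refine ⟨Y.basicOpen g, X.basicOpen (p.appLE V₀ U₀ hU₀V₀ g), hV₀.basicOpen g, hU₀.basicOpen _,
    ?_, (Y.basicOpen_le g).trans hV₀j, (X.basicOpen_le _).trans (hU₀le.trans inf_le_right), ?_, ?_⟩
  · rw [hUeq]; exact inf_le_right
  · rw [hUeq]
    apply le_antisymm
    · intro z' hz'
      have h2 : p (i z') ∈ Y.basicOpen g := hz'.2
      change j z' ∈ Y.basicOpen g
      rw [← hpt]; exact h2
    · intro z' hz'
      have h3 : z' ∈ Z.basicOpen (j.app V₀ g) := by rw [← hjV]; exact hz'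
      refine ⟨hh1 h3, ?_⟩
      change p (i z') ∈ Y.basicOpen g
      rw [hpt]; exact hz'
  · rw [hUeq]
    refine ⟨hzU₀, ?_⟩
    change p (i z) ∈ Y.basicOpen g
    rw [hpt]
    have : z ∈ j ⁻¹ᵁ (Y.basicOpen g) := by rw [hjV]; exact hh2
    exact this

include hij hd hψ hφ in
theorem main_S9375 : ∃ w : ψ ≫ φ = 0, (ShortComplex.mk ψ φ w).Exact ∧ Epi φ := by
  haveI := isQuasicoherent_of_isUniversal p d hd
  haveI : (Omega.conormal i).IsQuasicoherent :=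
    inferInstanceAs ((Scheme.Modules.pullback i).obj (ClSub.idealMod i.ker)).IsQuasicoherent
  haveI : (Omega.conormal j).IsQuasicoherent :=
    inferInstanceAs ((Scheme.Modules.pullback j).obj (ClSub.idealMod j.ker)).IsQuasicoherent
  let ι : Type u := {T : Y.Opens × X.Opens // IsAffineOpen T.1 ∧ IsAffineOpen T.2 ∧
      T.2 ≤ p ⁻¹ᵁ T.1 ∧ T.1 ≤ j.coborderRange ∧ T.2 ≤ i.coborderRange ∧ i ⁻¹ᵁ T.2 = j ⁻¹ᵁ T.1}
  have hcover : IsOpenCover (fun T : ι => i ⁻¹ᵁ T.1.2) := by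
    refine IsOpenCover.mk (eq_top_iff.mpr ?_)
    intro z _
    obtain ⟨V, U, hV, hU, hUV, hVj, hUi, hT, hz⟩ := exists_chart_S9375 p i j hij z
    exact Opens.mem_iSup.mpr ⟨⟨⟨V, U⟩, hV, hU, hUV, hVj, hUi, hT⟩, hz⟩
  have haff : ∀ T : ι, IsAffineOpen (i ⁻¹ᵁ T.1.2) := fun T =>
    Groth.Agent.Lib.Helper20.ConormalStalk.isAffineOpen_preimage i T.2.2.1 T.2.2.2.2.2.1
  have hch : ∀ T : ι, _ := fun T : ι =>
    chart_S9375 p i j hij Ω d hd ψ hψ φ hφ T.2.1 T.2.2.1 T.2.2.2.1 T.2.2.2.2.1 T.2.2.2.2.2.1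
      T.2.2.2.2.2.2
  -- the composite vanishes
  set ψ' : Omega.conormal j ⟶ Omega.conormal i :=
    (Scheme.Modules.pullbackId Z).inv.app (Omega.conormal j) ≫ ψ with hψ'
  have hψψ' : ψ = (Scheme.Modules.pullbackId Z).hom.app (Omega.conormal j) ≫ ψ' := by
    rw [hψ', ← Category.assoc, Iso.hom_inv_id_app, Category.id_comp]
  have w' : ψ' ≫ φ = 0 := by
    refine pullback_hom_ext j (M := ClSub.idealMod j.ker) (ψ' ≫ φ) 0 fun V' s' => ?_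
    obtain ⟨s'', hs''⟩ := exists_idealSect_app p i j hij V' s'
    have h₂ : j ⁻¹ᵁ V' ≤ i ⁻¹ᵁ (p ⁻¹ᵁ V') := by
      intro z' hz'
      change p (i z') ∈ V'
      have : p (i z') = j z' := by rw [← hij]; rfl
      rw [this]; exact hz'
    have h3 := psi_conormalSect p i j ψ hψ V' s' s'' hs'' (j ⁻¹ᵁ V') (le_refl _) h₂
    have h4 : ψ'.app (j ⁻¹ᵁ V') (OmegaSh.conormalSect j V' s') =
        unitSec i (ClSub.idealMod i.ker) h₂ s'' := by
      rw [hψ', Scheme.Modules.Hom.comp_app, ConcreteCategory.comp_apply, pullbackId_inv_app]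
      refine Eq.trans ?_ h3
      congr 1
      exact (presheaf_map_homOfLE_refl _ _ _).symm
    change φ.app (j ⁻¹ᵁ V') (ψ'.app (j ⁻¹ᵁ V') (OmegaSh.conormalSect j V' s')) = 0
    rw [h4, phi_unitSec i d φ hφ h₂ s'', hs'']
    have h5 : d.app (p ⁻¹ᵁ V') (p.app V' (OmegaSh.idealSect j.ker V' s')) = 0 :=
      d.d_app (X := op V') _
    rw [h5, map_zero]
  have w : ψ ≫ φ = 0 := by rw [hψψ', Category.assoc, w', comp_zero]
  refine ⟨w, ?_, epi_of_surjective_app_cover φ _ hcover haff (fun T => (hch T).1)⟩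
  rw [ShortComplex.exact_iff_epi_kernel_lift]
  haveI := isQuasicoherent_kernel φ
  haveI : ((Scheme.Modules.pullback (𝟙 Z)).obj (Omega.conormal j)).IsQuasicoherent := inferInstance
  refine epi_of_surjective_app_cover _ _ hcover haff ?_
  intro T k
  have hk : φ.app (i ⁻¹ᵁ T.1.2) ((kernel.ι φ).app (i ⁻¹ᵁ T.1.2) k) = 0 := by
    rw [← ConcreteCategory.comp_apply, ← Scheme.Modules.Hom.comp_app, kernel.condition]
    rfl
  obtain ⟨m, hm⟩ := (hch T).2 _ hk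
  refine ⟨m, ?_⟩
  apply OmegaSh.ι_app_injective
  rw [← ConcreteCategory.comp_apply, ← Scheme.Modules.Hom.comp_app]
  change (kernel.lift φ ψ w ≫ kernel.ι φ).app (i ⁻¹ᵁ T.1.2) m = _
  rw [kernel.lift_ι]
  exact hm

end S9375

end Groth.Agent.Helper18OmLS
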