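import Mathlib
import Groth.Prelude.Def_Omega4
import Groth.Agent.Lib.Helper18OmLS14

set_option autoImplicit false
set_option linter.style.haveILetI false
set_option linter.unusedSectionVars false
set_option linter.unusedVariables false
universe u
open CategoryTheory CategoryTheory.Limits AlgebraicGeometry TopologicalSpace Opposite
open KaehlerDifferential TensorProduct
open Groth.Agent.Helper13PullbackUnit
open Groth.Agent.Lib.Helper23.ModLocal Groth.Agent.Lib.Helper23.QCohLocal Groth.Agent.Lib.Helper23.FinType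
  Groth.Agent.Lib.Helper20.PullbackAff

namespace Groth.Agent.Helper18OmLS

section ring3
variable {A B R : Type u} [CommRing A] [CommRing B] [CommRing R] [Algebra A B] [Algebra B R]
  [Algebra A R] [IsScalarTower A B R]

/-- `A → B` formally smooth, `A → R` surjective with kernel `J`, `I = ker (B → R)`: an element of `J`
whose image in `B` lies in `I²` lies in `J²`. (Injectivity of `J/J² → I/I²`.) -/
theorem mem_sq_of_algebraMap_mem_sq [Algebra.FormallySmooth A B]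
    (hAR : Function.Surjective (algebraMap A R)) (a : A) (ha : a ∈ RingHom.ker (algebraMap A R))
    (h : algebraMap A B a ∈ (RingHom.ker (algebraMap B R)) ^ 2) :
    a ∈ (RingHom.ker (algebraMap A R)) ^ 2 := by
  set J := RingHom.ker (algebraMap A R) with hJ
  set I := RingHom.ker (algebraMap B R) with hI
  -- the square-zero ideal `J̄` of `A / J²`
  let Jb : Ideal (A ⧸ J ^ 2) := J.map (Ideal.Quotient.mk (J ^ 2))
  have hJb : Jb ^ 2 = ⊥ := by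
    rw [← Ideal.map_pow, Ideal.map_eq_bot_iff_le_ker, Ideal.mk_ker]
  have hker : RingHom.ker (algebraMap A R) ≤ RingHom.ker (algebraMap A ((A ⧸ J ^ 2) ⧸ Jb)) := by
    intro x hx
    rw [RingHom.mem_ker, IsScalarTower.algebraMap_apply A (A ⧸ J ^ 2) ((A ⧸ J ^ 2) ⧸ Jb),
      Ideal.Quotient.algebraMap_eq, Ideal.Quotient.algebraMap_eq, Ideal.Quotient.eq_zero_iff_mem]
    exact Ideal.mem_map_of_mem _ hx
  let γ₀ : R →+* ((A ⧸ J ^ 2) ⧸ Jb) :=
    (algebraMap A R).liftOfSurjective hAR ⟨algebraMap A ((A ⧸ J ^ 2) ⧸ Jb), hker⟩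
  have hγ₀ : ∀ x : A, γ₀ (algebraMap A R x) = algebraMap A ((A ⧸ J ^ 2) ⧸ Jb) x := fun x =>
    RingHom.liftOfSurjective_comp_apply (algebraMap A R) hAR ⟨_, hker⟩ x
  let γ : R →ₐ[A] ((A ⧸ J ^ 2) ⧸ Jb) := { γ₀ with commutes' := hγ₀ }
  let g : B →ₐ[A] ((A ⧸ J ^ 2) ⧸ Jb) := γ.comp (IsScalarTower.toAlgHom A B R)
  let hl : B →ₐ[A] (A ⧸ J ^ 2) := Algebra.FormallySmooth.lift Jb ⟨2, hJb⟩ g
  have hl1 : ∀ b : B, Ideal.Quotient.mk Jb (hl b) = g b := fun b =>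
    Algebra.FormallySmooth.mk_lift Jb ⟨2, hJb⟩ g b
  have hlI : ∀ b ∈ I, hl b ∈ Jb := by
    intro b hb
    rw [← Ideal.Quotient.eq_zero_iff_mem, hl1]
    change γ₀ (algebraMap B R b) = 0
    rw [RingHom.mem_ker.mp hb, map_zero]
  have hlI2 : ∀ x ∈ I ^ 2, hl x = 0 := by
    intro x hx
    have : hl x ∈ Jb ^ 2 := by
      have h1 : I * I ≤ (Jb * Jb).comap hl.toRingHom := by
        rw [Ideal.mul_le]
        intro r hr s hs
        rw [Ideal.mem_comap, map_mul]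
        exact Ideal.mul_mem_mul (hlI r hr) (hlI s hs)
      rw [pow_two I] at hx
      rw [pow_two Jb]
      exact h1 hx
    rw [hJb] at this
    exact this
  have h2 := hlI2 _ h
  rw [AlgHom.commutes, Ideal.Quotient.algebraMap_eq, Ideal.Quotient.eq_zero_iff_mem] at h2
  exact h2

end ring3

theorem presheaf_map_map {Z : Scheme.{u}} (M : Z.Modules) {A B C : Z.Opens} (h1 : B ≤ A) (h2 : C ≤ B)
    (x : Γ(M, A)) : M.presheaf.map (homOfLE h2).op (M.presheaf.map (homOfLE h1).op x) =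
      M.presheaf.map (homOfLE (h2.trans h1)).op x := by
  rw [← ConcreteCategory.comp_apply, ← Functor.map_comp]
  rfl

section basis
variable {X : Scheme.{u}}

/-- a morphism of modules injective on sections over a basis of opens is a monomorphism. -/
theorem mono_of_injective_app_basis {M N : X.Modules} (φ : M ⟶ N) (B : Set X.Opens)
    (hB : TopologicalSpace.Opens.IsBasis B)
    (h : ∀ U ∈ B, Function.Injective (φ.app U)) : Mono φ := by
  refine Preadditive.mono_of_cancel_zero _ fun {P} g hg => ?_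
  refine hom_ext_basis g 0 B hB fun U hU s => ?_
  apply h U hU
  have h1 := congr($((congrArg (fun θ => Scheme.Modules.Hom.app θ U) hg)) s)
  refine h1.trans ?_
  exact (map_zero _).symm

end basis

section S9711
variable {Z X Y : Scheme.{u}} (p : X ⟶ Y) (i : Z ⟶ X) (j : Z ⟶ Y) [IsImmersion i] [IsImmersion j]
    [QuasiCompact i] [QuasiCompact j] (hij : i ≫ p = j)
    (Ω : X.Modules) (d : OmegaSh.Der p Ω) (hd : OmegaSh.IsUniversal d)
    (ψ : (Scheme.Modules.pullback (𝟙 Z)).obj (Omega.conormal j) ⟶ Omega.conormal i)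
    (hψ : OmegaSh.IsConormalMap i j p (𝟙 Z) ψ)
    (φ : Omega.conormal i ⟶ (Scheme.Modules.pullback i).obj Ω) (hφ : OmegaSh.IsConormalDiff i d φ)

include hij in
theorem exists_chart_S9375' (O : Z.Opens) (z : Z) (hzO : z ∈ O) :
    ∃ (V : Y.Opens) (U : X.Opens), IsAffineOpen V ∧ IsAffineOpen U ∧
    U ≤ p ⁻¹ᵁ V ∧ V ≤ j.coborderRange ∧ U ≤ i.coborderRange ∧ i ⁻¹ᵁ U = j ⁻¹ᵁ V ∧ z ∈ i ⁻¹ᵁ U ∧
    i ⁻¹ᵁ U ≤ O := by
  have hpt : ∀ z' : Z, p (i z') = j z' := fun z' => by rw [← hij]; rfl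
  obtain ⟨O'set, hO'open, hO'eq⟩ := i.isEmbedding.isInducing.isOpen_iff.mp O.isOpen
  let O' : X.Opens := ⟨O'set, hO'open⟩
  have hO' : ∀ z' : Z, i z' ∈ O' ↔ z' ∈ O := by
    intro z'
    have : z' ∈ (i ⁻¹' O'set) ↔ z' ∈ (O : Set Z) := by rw [hO'eq]
    exact this
  obtain ⟨V₀, hV₀, hzV₀, hV₀j⟩ := exists_isAffineOpen_mem_and_subset (x := j z)
    (U := j.coborderRange) (subset_coborder ⟨z, rfl⟩)
  have hiz : i z ∈ (p ⁻¹ᵁ V₀ ⊓ i.coborderRange) ⊓ O' := by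
    refine ⟨⟨?_, subset_coborder ⟨z, rfl⟩⟩, (hO' z).mpr hzO⟩
    change p (i z) ∈ V₀
    rw [hpt]; exact hzV₀
  obtain ⟨U₀, hU₀, hzU₀, hU₀le'⟩ := exists_isAffineOpen_mem_and_subset (x := i z) hiz
  have hU₀le : U₀ ≤ p ⁻¹ᵁ V₀ ⊓ i.coborderRange := hU₀le'.trans inf_le_left
  have hU₀O : U₀ ≤ O' := hU₀le'.trans inf_le_right
  have hU₀V₀ : U₀ ≤ p ⁻¹ᵁ V₀ := hU₀le.trans inf_le_left
  have hT₀' : IsAffineOpen (j ⁻¹ᵁ V₀) :=
    Groth.Agent.Lib.Helper20.ConormalStalk.isAffineOpen_preimage j hV₀ hV₀j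
  obtain ⟨h, hh1, hh2⟩ := hT₀'.exists_basicOpen_le (V := i ⁻¹ᵁ U₀) ⟨z, hzU₀⟩ hzV₀
  obtain ⟨g, rfl⟩ := Groth.Agent.Lib.Helper20.ConormalStalk.app_surjective j hV₀ hV₀j h
  have hjV : j ⁻¹ᵁ (Y.basicOpen g) = Z.basicOpen (j.app V₀ g) := Scheme.preimage_basicOpen j g
  have hUeq : X.basicOpen (p.appLE V₀ U₀ hU₀V₀ g) = U₀ ⊓ p ⁻¹ᵁ (Y.basicOpen g) :=
    Scheme.basicOpen_appLE p U₀ V₀ hU₀V₀ g
  refine ⟨Y.basicOpen g, X.basicOpen (p.appLE V₀ U₀ hU₀V₀ g), hV₀.basicOpen g, hU₀.basicOpen _,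
    ?_, (Y.basicOpen_le g).trans hV₀j, (X.basicOpen_le _).trans (hU₀le.trans inf_le_right), ?_, ?_, ?_⟩
  · rw [hUeq]; exact inf_le_right
  · rw [hUeq]
    apply le_antisymm
    · intro z' hz'
      have h2 : p (i z') ∈ Y.basicOpen g := hz'.2
      change j z' ∈ Y.basicOpen g
      rw [← hpt]; exact h2
    · intro z' hz'
      have h3 : z' ∈ Z.basicOpen (j.app V₀ g) := by rw [← hjV]; exact hz'
      refine ⟨hh1 h3, ?_⟩
      change p (i z') ∈ Y.basicOpen g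
      rw [hpt]; exact hz'
  · rw [hUeq]
    refine ⟨hzU₀, ?_⟩
    change p (i z) ∈ Y.basicOpen g
    rw [hpt]
    have : z ∈ j ⁻¹ᵁ (Y.basicOpen g) := by rw [hjV]; exact hh2
    exact this
  · intro z' hz'
    rw [hUeq] at hz'
    exact (hO' z').mp (hU₀O hz'.1)

include hij hψ in
theorem psi'_conormalSect (V' : Y.Opens) (s' : Γ(ClSub.idealMod j.ker, V'))
    (s'' : Γ(ClSub.idealMod i.ker, p ⁻¹ᵁ V'))
    (hs'' : OmegaSh.idealSect i.ker (p ⁻¹ᵁ V') s'' = p.app V' (OmegaSh.idealSect j.ker V' s'))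
    (h₂ : j ⁻¹ᵁ V' ≤ i ⁻¹ᵁ (p ⁻¹ᵁ V')) :
    ((Scheme.Modules.pullbackId Z).inv.app (Omega.conormal j) ≫ ψ).app (j ⁻¹ᵁ V')
      (OmegaSh.conormalSect j V' s') = unitSec i (ClSub.idealMod i.ker) h₂ s'' := by
  have h3 := psi_conormalSect p i j ψ hψ V' s' s'' hs'' (j ⁻¹ᵁ V') (le_refl _) h₂
  rw [Scheme.Modules.Hom.comp_app, ConcreteCategory.comp_apply, pullbackId_inv_app]
  refine Eq.trans ?_ h3
  congr 1
  exact (presheaf_map_homOfLE_refl _ _ _).symm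

include hij hψ in
theorem chart_S9711 [Smooth p] {V : Y.Opens} (hV : IsAffineOpen V) {U : X.Opens} (hU : IsAffineOpen U)
    (hUV : U ≤ p ⁻¹ᵁ V) (hVj : V ≤ j.coborderRange) (hUi : U ≤ i.coborderRange)
    (hT : i ⁻¹ᵁ U = j ⁻¹ᵁ V) :
    Function.Injective (((Scheme.Modules.pullbackId Z).inv.app (Omega.conormal j) ≫ ψ).app (i ⁻¹ᵁ U)) := by
  set ψ' : Omega.conormal j ⟶ Omega.conormal i :=
    (Scheme.Modules.pullbackId Z).inv.app (Omega.conormal j) ≫ ψ with hψ'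
  have hTaff : IsAffineOpen (i ⁻¹ᵁ U) :=
    Groth.Agent.Lib.Helper20.ConormalStalk.isAffineOpen_preimage i hU hUi
  have hTU : i ⁻¹ᵁ U ≤ i ⁻¹ᵁ U := le_refl _
  have hTV : i ⁻¹ᵁ U ≤ j ⁻¹ᵁ V := hT.le
  have hTV' : i ⁻¹ᵁ U ≤ (i ≫ p) ⁻¹ᵁ V := fun z hz => hUV hz
  letI algAB : Algebra Γ(Y, V) Γ(X, U) := (p.appLE V U hUV).hom.toAlgebra
  letI algBR : Algebra Γ(X, U) Γ(Z, i ⁻¹ᵁ U) := (i.appLE U (i ⁻¹ᵁ U) hTU).hom.toAlgebra
  letI algAR : Algebra Γ(Y, V) Γ(Z, i ⁻¹ᵁ U) := (j.appLE V (i ⁻¹ᵁ U) hTV).hom.toAlgebra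
  haveI : IsScalarTower Γ(Y, V) Γ(X, U) Γ(Z, i ⁻¹ᵁ U) := by
    refine IsScalarTower.of_algebraMap_eq fun r => ?_
    have h1 : p.appLE V U hUV ≫ i.appLE U (i ⁻¹ᵁ U) hTU = (i ≫ p).appLE V (i ⁻¹ᵁ U) hTV' :=
      Scheme.Hom.appLE_comp_appLE _ _ _ _ _ _ _
    have h3 := OmegaSh.appLE_congr_hom hij (U := V) (V := i ⁻¹ᵁ U) hTV' hTV
    have h4 : j.appLE V (i ⁻¹ᵁ U) hTV = p.appLE V U hUV ≫ i.appLE U (i ⁻¹ᵁ U) hTU := by
      rw [h1, h3]
    exact congr($h4 r)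
  haveI : Algebra.Smooth Γ(Y, V) Γ(X, U) := Smooth.smooth_appLE p hV hU hUV
  have hBR : Function.Surjective (algebraMap Γ(X, U) Γ(Z, i ⁻¹ᵁ U)) := by
    intro b
    obtain ⟨a, ha⟩ := Groth.Agent.Lib.Helper20.ConormalStalk.app_surjective i hU hUi b
    refine ⟨a, ?_⟩
    rw [← ha]
    change (i.appLE U (i ⁻¹ᵁ U) hTU) a = _
    rw [← Scheme.Hom.app_eq_appLE]
  have hjapp : ∀ a : Γ(Y, V), algebraMap Γ(Y, V) Γ(Z, i ⁻¹ᵁ U) a =
      Z.presheaf.map (homOfLE hTV).op (j.app V a) := fun a => rfl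
  have hres := presheaf_map_bijective_of_eq hT (homOfLE hTV)
  have hAR : Function.Surjective (algebraMap Γ(Y, V) Γ(Z, i ⁻¹ᵁ U)) := by
    intro r
    obtain ⟨r', hr'⟩ := hres.2 r
    obtain ⟨a, ha⟩ := Groth.Agent.Lib.Helper20.ConormalStalk.app_surjective j hV hVj r'
    refine ⟨a, ?_⟩
    rw [hjapp, ha, hr']
  have hkerI : ∀ b : Γ(X, U), b ∈ RingHom.ker (algebraMap Γ(X, U) Γ(Z, i ⁻¹ᵁ U)) ↔
      i.app U b = 0 := by
    intro b
    rw [RingHom.mem_ker]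
    change (i.appLE U (i ⁻¹ᵁ U) hTU) b = 0 ↔ _
    rw [← Scheme.Hom.app_eq_appLE]
  have hkerJ : ∀ a : Γ(Y, V), a ∈ RingHom.ker (algebraMap Γ(Y, V) Γ(Z, i ⁻¹ᵁ U)) ↔
      j.app V a = 0 := by
    intro a
    rw [RingHom.mem_ker, hjapp]
    constructor
    · intro h
      apply hres.1
      rw [h, map_zero]
    · intro h
      rw [h, map_zero]
  have hkerJEq : RingHom.ker (algebraMap Γ(Y, V) Γ(Z, i ⁻¹ᵁ U)) = RingHom.ker (j.app V).hom := by
    ext a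
    rw [hkerJ, RingHom.mem_ker]
  rw [injective_iff_map_eq_zero]
  intro n' hn'
  obtain ⟨s', rfl⟩ := exists_unitSec_eq j (ClSub.idealMod j.ker) hTV hV hTaff rfl hAR n'
  obtain ⟨s'', hs''⟩ := exists_idealSect_app p i j hij V s'
  have h₂ : j ⁻¹ᵁ V ≤ i ⁻¹ᵁ (p ⁻¹ᵁ V) := by
    intro z' hz'
    change p (i z') ∈ V
    have : p (i z') = j z' := by rw [← hij]; rfl
    rw [this]; exact hz'
  have h4 := psi'_conormalSect p i j hij ψ hψ V s' s'' hs'' h₂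
  -- transport along restriction to `i⁻¹U`
  have h5 : ψ'.app (i ⁻¹ᵁ U) (unitSec j (ClSub.idealMod j.ker) hTV s') =
      unitSec i (ClSub.idealMod i.ker) hTU
        ((ClSub.idealMod i.ker).presheaf.map (homOfLE hUV).op s'') := by
    rw [unitSec_res i (ClSub.idealMod i.ker) hUV hTU s'', unitSec_apply, unitSec_apply]
    have hn := congr($(ψ'.mapPresheaf.naturality (homOfLE hTV).op)
      (OmegaSh.conormalSect j V s'))
    refine hn.trans ?_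
    rw [ConcreteCategory.comp_apply]
    refine (congrArg _ h4).trans ?_
    rw [unitSec_apply]
    exact presheaf_map_map ((Scheme.Modules.pullback i).obj (ClSub.idealMod i.ker)) h₂ hTV _
  rw [h5] at hn'
  set sa := (ClSub.idealMod i.ker).presheaf.map (homOfLE hUV).op s'' with hsa_def
  have hsa0 : OmegaSh.idealSect i.ker U sa =
      algebraMap Γ(Y, V) Γ(X, U) (OmegaSh.idealSect j.ker V s') := by
    rw [hsa_def, idealSect_res, hs'']
    rfl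
  -- `1 ⊗ sa = 0`, so `sa ∈ I • ⊤`, so its function lies in `I²`
  obtain ⟨e, he⟩ := exists_pullback_equiv i (ClSub.idealMod i.ker) hTU hU hTaff rfl
  have h1 : (1 : Γ(Z, i ⁻¹ᵁ U)) ⊗ₜ[Γ(X, U)] sa = 0 := by
    apply e.injective
    rw [he, one_smul, hn', map_zero]
    rfl
  have h6 := mem_smul_top_of_one_tmul_eq_zero' hBR sa h1
  have h7 : ∀ t ∈ (RingHom.ker (algebraMap Γ(X, U) Γ(Z, i ⁻¹ᵁ U)) • ⊤ :
      Submodule Γ(X, U) Γ(ClSub.idealMod i.ker, U)),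
      OmegaSh.idealSect i.ker U t ∈ (RingHom.ker (algebraMap Γ(X, U) Γ(Z, i ⁻¹ᵁ U))) ^ 2 := by
    intro t ht
    refine Submodule.smul_induction_on ht ?_ ?_
    · intro x hx t' _
      rw [idealSect_smul, pow_two]
      exact Ideal.mul_mem_mul hx ((hkerI _).mpr (app_idealSect_eq_zero i U t'))
    · intro x y hx hy
      rw [map_add]
      exact Ideal.add_mem _ hx hy
  have h8 := h7 sa h6
  rw [hsa0] at h8
  have ha : OmegaSh.idealSect j.ker V s' ∈ RingHom.ker (algebraMap Γ(Y, V) Γ(Z, i ⁻¹ᵁ U)) :=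
    (hkerJ _).mpr (app_idealSect_eq_zero j V s')
  have h9 := mem_sq_of_algebraMap_mem_sq hAR _ ha h8
  rw [hkerJEq] at h9
  have h10 := mem_smul_top_of_idealSect_mem_sq j V s' h9
  rw [← hkerJEq] at h10
  exact unitSec_eq_zero_of_mem_smul_top j (ClSub.idealMod j.ker) hTV rfl h10

include hij hd hψ hφ in
theorem main_S9711 [Smooth p] : ∃ w : ψ ≫ φ = 0, (ShortComplex.mk ψ φ w).ShortExact := by
  obtain ⟨w, hex, hepi⟩ := main_S9375 p i j hij Ω d hd ψ hψ φ hφ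
  refine ⟨w, ?_⟩
  set ψ' : Omega.conormal j ⟶ Omega.conormal i :=
    (Scheme.Modules.pullbackId Z).inv.app (Omega.conormal j) ≫ ψ with hψ'
  have hψψ' : ψ = (Scheme.Modules.pullbackId Z).hom.app (Omega.conormal j) ≫ ψ' := by
    rw [hψ', ← Category.assoc, Iso.hom_inv_id_app, Category.id_comp]
  haveI hmono' : Mono ψ' := by
    refine mono_of_injective_app_basis ψ' {T | ∃ (V : Y.Opens) (U : X.Opens), IsAffineOpen V ∧
      IsAffineOpen U ∧ U ≤ p ⁻¹ᵁ V ∧ V ≤ j.coborderRange ∧ U ≤ i.coborderRange ∧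
      i ⁻¹ᵁ U = j ⁻¹ᵁ V ∧ T = i ⁻¹ᵁ U} ?_ ?_
    · refine TopologicalSpace.Opens.isBasis_iff_nbhd.mpr ?_
      intro O z hz
      obtain ⟨V, U, hV, hU, hUV, hVj, hUi, hT, hzT, hTO⟩ := exists_chart_S9375' p i j hij O z hz
      exact ⟨i ⁻¹ᵁ U, ⟨V, U, hV, hU, hUV, hVj, hUi, hT, rfl⟩, hzT, hTO⟩
    · rintro T ⟨V, U, hV, hU, hUV, hVj, hUi, hT, rfl⟩
      exact chart_S9711 p i j hij ψ hψ hV hU hUV hVj hUi hT
  haveI : Mono ψ := by rw [hψψ']; exact mono_comp _ _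
  haveI := hepi
  exact ShortComplex.ShortExact.mk' hex inferInstance inferInstance

end S9711

end Groth.Agent.Helper18OmLS
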