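import Groth.Agent.Lib.Helper17IAdic2
import Groth.Agent.Lib.Helper17GrSysCoh
import Groth.Agent.Lib.Helper18OmLS15

/-!
# Quotients `M / J M` of quasi-coherent modules over `Spec A` and their sections (helper17)

* `Q J M = M / J M`, `πQ`, `Qmap` (for `J ≤ J'`), `μ a` (multiplication by `a`, `M/KM ⟶ M/JM` when `aK ⊆ J`);
* `ρ U : A →+* Γ(X, U)`; `smulMod_app`;
* `πQ_app_surjective`, `ker_πQ_app`, `πQ_app_smul`: sections of `M/JM` over affine opens.
-/

set_option autoImplicit false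
universe u
open CategoryTheory Limits AlgebraicGeometry TopologicalSpace Opposite

namespace Groth.Agent.Lib.Helper17.FlatDev

open Groth.Agent.Lib.Helper17.IAdic Groth.Agent.Lib.Helper17.GrSys
  Groth.Agent.Lib.Helper17.GrSysCoh Groth.Agent.Lib.Helper23.QCohLocal
  Groth.Agent.Lib.Helper23.FinType

variable {A : Type u} [CommRing A] {X : Scheme.{u}} [X.Over (Spec (CommRingCat.of A))]

/-- `M / J M`. -/
noncomputable abbrev Q (J : Ideal A) (M : X.Modules) : X.Modules :=
  cokernel (Formal.smulFamily J M)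

/-- the projection `M ⟶ M / J M`. -/
noncomputable abbrev πQ (J : Ideal A) (M : X.Modules) : M ⟶ Q J M :=
  cokernel.π (Formal.smulFamily J M)

theorem ι_smulFamily (J : Ideal A) (M : X.Modules) (b : J) :
    Sigma.ι (fun _ : J => M) b ≫ Formal.smulFamily J M = Formal.smulMod A M (b : A) := by
  simp [Formal.smulFamily]

theorem smulMod_πQ (J : Ideal A) (M : X.Modules) (c : A) (hc : c ∈ J) :
    Formal.smulMod A M c ≫ πQ J M = 0 := by
  rw [← ι_smulFamily J M ⟨c, hc⟩, Category.assoc, cokernel.condition, comp_zero]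

/-- `M / J M ⟶ M / J' M` for `J ≤ J'`. -/
noncomputable def Qmap {J J' : Ideal A} (h : J ≤ J') (M : X.Modules) : Q J M ⟶ Q J' M :=
  cokernel.desc _ (πQ J' M) (Formal.smulFamily_π_of_le h M)

@[reassoc (attr := simp)]
theorem πQ_Qmap {J J' : Ideal A} (h : J ≤ J') (M : X.Modules) :
    πQ J M ≫ Qmap h M = πQ J' M :=
  cokernel.π_desc _ _ _

instance {J J' : Ideal A} (h : J ≤ J') (M : X.Modules) : Epi (Qmap h M) :=
  epi_of_epi_fac (πQ_Qmap h M)

theorem Qmap_refl (J : Ideal A) (M : X.Modules) : Qmap (le_refl J) M = 𝟙 _ := by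
  rw [← cancel_epi (πQ J M), πQ_Qmap, Category.comp_id]

theorem Qmap_comp {J J' J'' : Ideal A} (h : J ≤ J') (h' : J' ≤ J'') (M : X.Modules) :
    Qmap h M ≫ Qmap h' M = Qmap (h.trans h') M := by
  rw [← cancel_epi (πQ J M), πQ_Qmap_assoc, πQ_Qmap, πQ_Qmap]

/-- multiplication by `a`, as a morphism `M / K M ⟶ M / J M` when `a K ⊆ J`. -/
noncomputable def μ (a : A) {K J : Ideal A} (h : ∀ b ∈ K, a * b ∈ J) (M : X.Modules) :
    Q K M ⟶ Q J M :=
  cokernel.desc _ (Formal.smulMod A M a ≫ πQ J M) (by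
    apply Sigma.hom_ext
    intro b
    rw [comp_zero, ← Category.assoc, ι_smulFamily, ← Category.assoc, ← smulMod_mul,
      smulMod_πQ J M _ (h b b.2)])

@[reassoc (attr := simp)]
theorem πQ_μ (a : A) {K J : Ideal A} (h : ∀ b ∈ K, a * b ∈ J) (M : X.Modules) :
    πQ K M ≫ μ a h M = Formal.smulMod A M a ≫ πQ J M :=
  cokernel.π_desc _ _ _

theorem μ_Qmap (a : A) {K J J' : Ideal A} (h : ∀ b ∈ K, a * b ∈ J) (hJ : J ≤ J') (ha : a ∈ J')
    (M : X.Modules) : μ a h M ≫ Qmap hJ M = 0 := by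
  rw [← cancel_epi (πQ K M), πQ_μ_assoc, πQ_Qmap, smulMod_πQ J' M a ha, comp_zero]

/-! ### sections -/

/-- the structure map `A → Γ(X, U)`. -/
noncomputable def ρ (U : X.Opens) : A →+* Γ(X, U) :=
  (Coh.resTop X (op U)).comp (Coh.toGlobal (X ↘ Spec (CommRingCat.of A)))

theorem comp_app_apply {M N P : X.Modules} (f : M ⟶ N) (g : N ⟶ P) (U : X.Opens) (x : Γ(M, U)) :
    (f ≫ g).app U x = g.app U (f.app U x) := by
  rw [Scheme.Modules.Hom.comp_app]
  rfl

theorem smulMod_app (M : X.Modules) (c : A) (U : X.Opens) (s : Γ(M, U)) :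
    (Formal.smulMod A M c).app U s = (ρ U c : Γ(X, U)) • s := rfl

theorem πQ_app_smul (J : Ideal A) (M : X.Modules) (c : A) (hc : c ∈ J) (U : X.Opens)
    (s : Γ(M, U)) : (πQ J M).app U ((ρ U c : Γ(X, U)) • s) = 0 := by
  rw [← smulMod_app, ← comp_app_apply, smulMod_πQ J M c hc]
  rfl

instance isQuasicoherent_sigma (J : Ideal A) (M : X.Modules) [M.IsQuasicoherent] :
    (∐ fun _ : J => M).IsQuasicoherent :=
  isQuasicoherent_colimit (Discrete.functor fun _ : J => M) (fun _ => ‹M.IsQuasicoherent›)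

instance isQuasicoherent_Q (J : Ideal A) (M : X.Modules) [M.IsQuasicoherent] :
    (Q J M).IsQuasicoherent :=
  isQuasicoherent_cokernel (Formal.smulFamily J M)

instance isQuasicoherent_IM (J : Ideal A) (M : X.Modules) [M.IsQuasicoherent] :
    (IM J M).IsQuasicoherent :=
  isQuasicoherent_kernel (cokernel.π (Formal.smulFamily J M))

theorem πQ_app_surjective (J : Ideal A) (M : X.Modules) [M.IsQuasicoherent] {U : X.Opens}
    (hU : IsAffineOpen U) : Function.Surjective ((πQ J M).app U) :=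
  surjective_app_of_epi (πQ J M) hU

theorem toIM_mul (J : Ideal A) (M : X.Modules) (a x : A) (hx : x ∈ J) :
    toIM J M (a * x) (J.mul_mem_left a hx) = Formal.smulMod A M a ≫ toIM J M x hx := by
  rw [← cancel_mono (IMι J M), Category.assoc, toIM_ι, toIM_ι, smulMod_mul']

/-- generators of `J` give a jointly epimorphic family onto `J M`. -/
theorem je_toIM {r : ℕ} (c : Fin r → A) (J : Ideal A) (hJ : J = Ideal.span (Set.range c))
    (M : X.Modules) :
    JE (fun i => toIM J M (c i) (hJ ▸ Ideal.subset_span ⟨i, rfl⟩)) := by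
  intro Z g hg
  apply IM_hom_ext
  intro x hx
  rw [comp_zero]
  have H : ∀ x, x ∈ Ideal.span (Set.range c) → ∃ hx : x ∈ J, toIM J M x hx ≫ g = 0 := by
    intro x hx
    induction hx using Submodule.span_induction with
    | mem x hx =>
      obtain ⟨i, rfl⟩ := hx
      exact ⟨_, hg i⟩
    | zero => exact ⟨J.zero_mem, by rw [toIM_zero, zero_comp]⟩
    | add x y _ _ ihx ihy =>
      obtain ⟨hx, ex⟩ := ihx
      obtain ⟨hy, ey⟩ := ihy
      exact ⟨J.add_mem hx hy, by rw [toIM_add _ _ hx hy, Preadditive.add_comp, ex, ey, add_zero]⟩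
    | smul a x _ ih =>
      obtain ⟨hx, ex⟩ := ih
      refine ⟨J.mul_mem_left a hx, ?_⟩
      rw [toIM_congr (show a • x = a * x from rfl), toIM_mul J M a x hx, Category.assoc, ex,
        comp_zero]
  obtain ⟨_, e⟩ := H x (hJ ▸ hx)
  exact e

/-- the kernel of `Γ(M, U) → Γ(M/JM, U)` is `J Γ(M, U)`, for `U` affine. -/
theorem ker_πQ_app {r : ℕ} (c : Fin r → A) (J : Ideal A) (hJ : J = Ideal.span (Set.range c))
    (M : X.Modules) [M.IsQuasicoherent] {U : X.Opens} (hU : IsAffineOpen U) (s : Γ(M, U))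
    (hs : (πQ J M).app U s = 0) :
    ∃ y : Fin r → Γ(M, U), s = ∑ i, (ρ U (c i) : Γ(X, U)) • y i := by
  obtain ⟨t, ht⟩ := exists_app_kernel_ι (πQ J M) U s hs
  obtain ⟨y, hy⟩ := exists_sections_of_JE
    (f := fun i => toIM J M (c i) (hJ ▸ Ideal.subset_span ⟨i, rfl⟩))
    (fun _ => inferInstance) (je_toIM c J hJ M) hU (t : Γ(IM J M, U))
  refine ⟨y, ?_⟩
  rw [← ht]
  change (IMι J M).app U t = _
  rw [hy, map_sum]
  refine Finset.sum_congr rfl (fun i _ => ?_)
  rw [← comp_app_apply, toIM_ι]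
  rfl

end Groth.Agent.Lib.Helper17.FlatDev
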