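import Mathlib
import Groth.Prelude.Def_Formal
import Groth.Agent.Lib.Helper17FFaith1
import Groth.Agent.Lib.Helper17FlatDev1

/-!
# Helper17: full faithfulness of completion, the abstract reduction

`Hom(M, N) → lim_n Hom(M, N/I^{n+1}N)` bijective implies that every morphism of the completion systems
comes from a unique morphism `M ⟶ N`; and that bijectivity follows from formal functions in degree 0
for `ℋ = ℋom(M, N)` together with a comparison of `(ℋ/I^{n+1}ℋ)_n` with `(ℋom(M, N/I^{n+1}N))_n`.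
-/

set_option autoImplicit false
universe u
open CategoryTheory CategoryTheory.Limits AlgebraicGeometry TopologicalSpace Opposite

namespace Groth.Agent.Lib.Helper17.FFaith

open Groth.Agent.Lib.Helper21.HomI Groth.Agent.Lib.Helper21.HomU
  Groth.Agent.Lib.Helper17.FlatDev

noncomputable section

variable {A : Type u} [CommRing A] {X : Scheme.{u}} [X.Over (Spec (CommRingCat.of A))]
  (I : Ideal A)

/-- the condition `Hom(M, N) ≃ lim_n Hom(M, N/I^{n+1}N)`. -/
def HomLim (M N : X.Modules) : Prop :=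
  ∀ g : ∀ n : ℕ, M ⟶ Formal.modPow I (n + 1) N,
    (∀ n, g (n + 1) ≫ Formal.modPowTrans I (n + 1) N = g n) →
      ∃! φ : M ⟶ N, ∀ n, φ ≫ Formal.modPowπ I (n + 1) N = g n

theorem completion_map_succ (M : X.Modules) (n : ℕ) :
    (Formal.completion I M).map (homOfLE (Nat.le_succ n)).op = Formal.modPowTrans I (n + 1) M := by
  unfold Formal.completion
  exact Functor.ofOpSequence_map_homOfLE_succ _ n

/-- **Lemma A.** -/
theorem existsUnique_of_homLim (M N : X.Modules) (H : HomLim I M N)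
    (ψ : Formal.completion I M ⟶ Formal.completion I N) :
    ∃! φ : M ⟶ N, ∀ n : ℕ,
      Formal.modPowπ I (n + 1) M ≫ ψ.app (op n) = φ ≫ Formal.modPowπ I (n + 1) N := by
  have hg : ∀ n, (Formal.modPowπ I (n + 1 + 1) M ≫ ψ.app (op (n + 1))) ≫
      Formal.modPowTrans I (n + 1) N = Formal.modPowπ I (n + 1) M ≫ ψ.app (op n) := by
    intro n
    have h1 := ψ.naturality (homOfLE (Nat.le_succ n)).op
    rw [completion_map_succ, completion_map_succ] at h1
    calc (Formal.modPowπ I (n + 1 + 1) M ≫ ψ.app (op (n + 1))) ≫ Formal.modPowTrans I (n + 1) N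
        = Formal.modPowπ I (n + 1 + 1) M ≫
            (ψ.app (op (n + 1)) ≫ Formal.modPowTrans I (n + 1) N) := Category.assoc _ _ _
      _ = Formal.modPowπ I (n + 1 + 1) M ≫
            (Formal.modPowTrans I (n + 1) M ≫ ψ.app (op n)) :=
          congrArg (fun t => Formal.modPowπ I (n + 1 + 1) M ≫ t) h1.symm
      _ = (Formal.modPowπ I (n + 1 + 1) M ≫ Formal.modPowTrans I (n + 1) M) ≫ ψ.app (op n) :=
          (Category.assoc _ _ _).symm
      _ = Formal.modPowπ I (n + 1) M ≫ ψ.app (op n) :=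
          congrArg (fun t => t ≫ ψ.app (op n)) (Formal.modPowπ_trans I (n + 1) M)
  obtain ⟨φ, hφ, huniq⟩ := H (fun n => Formal.modPowπ I (n + 1) M ≫ ψ.app (op n)) hg
  refine ⟨φ, fun n => (hφ n).symm, fun φ' hφ' => huniq φ' fun n => (hφ' n).symm⟩

/-! ### the comparison maps `θ_n` -/

variable (M N : X.Modules)

theorem smulMod_sHomMap {N N' : X.Modules} (a : A) (g : N ⟶ N') :
    Formal.smulMod A (sHom M N) a ≫ sHomMap M g = sHomMap M (Formal.smulMod A N a ≫ g) := by
  apply SheafOfModules.hom_ext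
  apply PresheafOfModules.hom_ext
  intro W
  ext h
  apply HomFam.ext
  funext V b x
  change (g.val.app (op V)).hom
      ((X.ringCatSheaf.obj.map b.op).hom
        (Coh.resTop X W (Coh.toGlobal (X ↘ Spec (CommRingCat.of A)) a)) •
          HomFam.val (secOut W.unop h) V b x) =
    (g.val.app (op V)).hom
      (Coh.resTop X (op V) (Coh.toGlobal (X ↘ Spec (CommRingCat.of A)) a) •
        HomFam.val (secOut W.unop h) V b x)
  rw [Coh.resTop_comp]

theorem sHomMap_zero (N N' : X.Modules) : sHomMap M (0 : N ⟶ N') = 0 := by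
  apply SheafOfModules.hom_ext
  apply PresheafOfModules.hom_ext
  intro W
  ext h
  apply HomFam.ext
  funext V b x
  rfl

/-- the comparison `ℋ/I^nℋ ⟶ ℋom(M, N/I^nN)`, `ℋ = ℋom(M, N)`. -/
def θ (n : ℕ) : Formal.modPow I n (sHom M N) ⟶ sHom M (Formal.modPow I n N) :=
  cokernel.desc _ (sHomMap M (Formal.modPowπ I n N)) (by
    apply Sigma.hom_ext
    intro a
    rw [comp_zero, ← Category.assoc, ι_smulFamily, smulMod_sHomMap]
    have h0 : Formal.smulMod A N (a : A) ≫ Formal.modPowπ I n N = 0 :=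
      smulMod_πQ (I ^ n) N (a : A) a.2
    rw [h0, sHomMap_zero])

theorem modPowπ_θ (n : ℕ) :
    Formal.modPowπ I n (sHom M N) ≫ θ I M N n = sHomMap M (Formal.modPowπ I n N) :=
  cokernel.π_desc _ _ _

theorem θ_trans (n : ℕ) :
    θ I M N (n + 1) ≫ sHomMap M (Formal.modPowTrans I n N) =
      Formal.modPowTrans I n (sHom M N) ≫ θ I M N n := by
  have : Epi (Formal.modPowπ I (n + 1) (sHom M N)) :=
    inferInstanceAs (Epi (cokernel.π (Formal.smulFamily (I ^ (n + 1)) (sHom M N))))
  rw [← cancel_epi (Formal.modPowπ I (n + 1) (sHom M N)), ← Category.assoc, modPowπ_θ,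
    ← sHomMap_comp, Formal.modPowπ_trans, ← Category.assoc, Formal.modPowπ_trans, modPowπ_θ]

/-- global sections. -/
abbrev Gs (P : X.Modules) : Type u := P.val.obj (op (⊤ : X.Opens))

/-- a morphism on global sections. -/
abbrev gmap {P P' : X.Modules} (φ : P ⟶ P') : Gs P → Gs P' := (φ.val.app (op ⊤)).hom

/-- the comparison of the two systems induces a bijection on inverse limits of global sections. -/
def CompIso : Prop :=
  ∀ s : ∀ n : ℕ, Gs (sHom M (Formal.modPow I (n + 1) N)),
    (∀ n, gmap (sHomMap M (Formal.modPowTrans I (n + 1) N)) (s (n + 1)) = s n) →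
    ∃! t : ∀ n : ℕ, Gs (Formal.modPow I (n + 1) (sHom M N)),
      (∀ n, gmap (Formal.modPowTrans I (n + 1) (sHom M N)) (t (n + 1)) = t n) ∧
      ∀ n, gmap (θ I M N (n + 1)) (t n) = s n

/-- `Γ(X, P) ≃ H⁰(X, P)`. -/
def gz (P : X.Modules) : Gs P ≃+ Coh.HH X P 0 :=
  (Sheaf.H.equiv₀ (Coh.toAb P) isTerminalTop).symm

theorem gz_naturality {P P' : X.Modules} (φ : P ⟶ P') (s : Gs P) :
    Sheaf.H.map ((SheafOfModules.toSheaf _).map φ) 0 (gz P s) = gz P' (gmap φ s) :=
  Sheaf.H.equiv₀_symm_naturality _ _ _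

/-- **Lemma B.** -/
theorem homLim_of (H1 : Function.Bijective (Formal.toHHlim I (sHom M N) 0))
    (H2 : CompIso I M N) : HomLim I M N := by
  intro g hg
  -- the sections `s_n` of `ℋom(M, N_n)`
  let s : ∀ n : ℕ, Gs (sHom M (Formal.modPow I (n + 1) N)) := fun n => secIn ⊤ (famOfHom (g n) ⊤)
  have hs : ∀ n, gmap (sHomMap M (Formal.modPowTrans I (n + 1) N)) (s (n + 1)) = s n := by
    intro n
    change secIn ⊤ ((famOfHom (g (n + 1)) ⊤).postcomp (Formal.modPowTrans I (n + 1) N)) = _
    rw [← famOfHom_comp, hg n]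
  obtain ⟨t, ⟨ht1, ht2⟩, htu⟩ := H2 s hs
  -- the class in the limit
  let x : Formal.HHlim I (sHom M N) 0 := ⟨fun n => gz _ (t n), fun n => by
    change Sheaf.H.map ((SheafOfModules.toSheaf _).map
      (Formal.modPowTrans I (n + 1) (sHom M N))) 0 (gz _ (t (n + 1))) = gz _ (t n)
    rw [gz_naturality, ht1 n]⟩
  obtain ⟨y, hy⟩ := H1.2 x
  have hy' : ∀ n, gmap (Formal.modPowπ I (n + 1) (sHom M N)) ((gz (sHom M N)).symm y) = t n := by
    intro n
    apply (gz _).injective
    rw [← gz_naturality, AddEquiv.apply_symm_apply]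
    exact congrArg (fun z : Formal.HHlim I (sHom M N) 0 => z.1 n) hy
  -- key: sections of `ℋ` are determined by their images
  have key : ∀ (h : Gs (sHom M N)) (n : ℕ),
      gmap (θ I M N (n + 1)) (gmap (Formal.modPowπ I (n + 1) (sHom M N)) h) =
        secIn ⊤ ((secOut ⊤ h).postcomp (Formal.modPowπ I (n + 1) N)) := by
    intro h n
    change gmap (Formal.modPowπ I (n + 1) (sHom M N) ≫ θ I M N (n + 1)) h = _
    rw [modPowπ_θ]
    rfl
  refine ⟨homOfFam (secOut ⊤ ((gz (sHom M N)).symm y)), ?_, ?_⟩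
  · intro n
    rw [← homOfFam_postcomp]
    have h1 := key ((gz (sHom M N)).symm y) n
    rw [hy' n, ht2 n] at h1
    have h2 : famOfHom (g n) ⊤ = (secOut ⊤ ((gz (sHom M N)).symm y)).postcomp
        (Formal.modPowπ I (n + 1) N) := h1
    rw [← h2, homOfFam_famOfHom]
  · intro φ' hφ'
    let h' : Gs (sHom M N) := secIn ⊤ (famOfHom φ' ⊤)
    let t' : ∀ n : ℕ, Gs (Formal.modPow I (n + 1) (sHom M N)) := fun n =>
      gmap (Formal.modPowπ I (n + 1) (sHom M N)) h'
    have ht'1 : ∀ n, gmap (Formal.modPowTrans I (n + 1) (sHom M N)) (t' (n + 1)) = t' n := by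
      intro n
      change gmap (Formal.modPowπ I (n + 1 + 1) (sHom M N) ≫
        Formal.modPowTrans I (n + 1) (sHom M N)) h' = _
      rw [Formal.modPowπ_trans]
    have ht'2 : ∀ n, gmap (θ I M N (n + 1)) (t' n) = s n := by
      intro n
      rw [key h' n]
      change secIn ⊤ ((famOfHom φ' ⊤).postcomp (Formal.modPowπ I (n + 1) N)) = _
      rw [← famOfHom_comp, hφ' n]
    have ht' : t' = t := htu t' ⟨ht'1, ht'2⟩
    have hx : Formal.toHHlim I (sHom M N) 0 (gz _ h') = x := by
      apply Subtype.ext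
      funext n
      change Sheaf.H.map ((SheafOfModules.toSheaf _).map
        (Formal.modPowπ I (n + 1) (sHom M N))) 0 (gz _ h') = gz _ (t n)
      rw [gz_naturality, ← ht']
    have hyy : gz _ h' = y := H1.1 (hx.trans hy.symm)
    have : h' = (gz (sHom M N)).symm y := by rw [← hyy, AddEquiv.symm_apply_apply]
    rw [← this]
    exact (homOfFam_famOfHom φ').symm

end

end Groth.Agent.Lib.Helper17.FFaith
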