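import Mathlib
import Groth.Prelude.Def_Formal
import Groth.Agent.Lib.Helper17FFaith1
import Groth.Agent.Lib.Helper2QCoh

/-!
# Helper17: families of linear maps over an open `V` and morphisms of the restrictions along an
open immersion `j` with range `V`
-/

set_option autoImplicit false
universe u
open CategoryTheory CategoryTheory.Limits AlgebraicGeometry TopologicalSpace Opposite

namespace Groth.Agent.Lib.Helper17.FFaith

open Groth.Agent.Lib.Helper21.HomI Groth.Agent.Lib.Helper21.HomU Groth.Agent.Lib.Helper2.QCoh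

noncomputable section

section restr

variable {X U : Scheme.{u}} (j : U ⟶ X) [IsOpenImmersion j] {V : X.Opens}
  (hj : j.opensRange = V) {M N : X.Modules}

include hj in
theorem image_le_of_range (W' : U.Opens) : j ''ᵁ W' ≤ V := by
  rw [← hj]
  exact Scheme.Hom.image_le_opensRange j W'

include hj in
theorem image_preimage_of_le {W : X.Opens} (hW : W ≤ V) : j ''ᵁ (j ⁻¹ᵁ W) = W := by
  rw [Scheme.Hom.image_preimage_eq_opensRange_inf, hj]
  exact inf_eq_right.2 hW

/-- abbreviation: restriction of sections of an `O_X`-module. -/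
abbrev rsX (F : X.Modules) {W W' : X.Opens} (g : W' ⟶ W) (x : F.val.obj (op W)) :
    F.val.obj (op W') := rs (R := X.ringCatSheaf) F g x

theorem rsX_rsX (F : X.Modules) {W W' W'' : X.Opens} (g : W' ⟶ W) (g' : W'' ⟶ W')
    (g'' : W'' ⟶ W) (x : F.val.obj (op W)) : rsX F g' (rsX F g x) = rsX F g'' x := by
  have : g'' = g' ≫ g := Subsingleton.elim _ _
  rw [this]
  exact (rs_comp (R := X.ringCatSheaf) F g g' x).symm

theorem rsX_self (F : X.Modules) {W : X.Opens} (g : W ⟶ W) (x : F.val.obj (op W)) :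
    rsX F g x = x := by
  have : g = 𝟙 W := Subsingleton.elim _ _
  rw [this]
  exact rs_id (R := X.ringCatSheaf) F x

/-- the restriction of a family over `V` to a morphism `M|_U ⟶ N|_U`. -/
def restrOfFam (h : Fam M N V) : M.restrict j ⟶ N.restrict j where
  val := PresheafOfModules.homMk (M₁ := (M.restrict j).val) (M₂ := (N.restrict j).val)
    { app := fun W' => AddCommGrpCat.ofHom
        { toFun := fun x => h.val (j ''ᵁ W'.unop) (homOfLE (image_le_of_range j hj W'.unop)) x
          map_zero' := h.zero' _ _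
          map_add' := h.add _ _ }
      naturality := fun W' W'' g => by
        ext x
        exact (h.compat (j.opensFunctor.map g.unop) (homOfLE (image_le_of_range j hj W'.unop))
          x).symm }
    (fun W' r x => h.smul _ _ _ x)

theorem restrOfFam_app (h : Fam M N V) (W' : U.Opens) (x : M.val.obj (op (j ''ᵁ W'))) :
    ((restrOfFam j hj h).val.app (op W')).hom x =
      h.val (j ''ᵁ W') (homOfLE (image_le_of_range j hj W')) x := rfl

/-- the component of a morphism of restrictions, as a map between sections over `X`. -/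
def appX (κ : M.restrict j ⟶ N.restrict j) (W' : U.Opens) (y : M.val.obj (op (j ''ᵁ W'))) :
    N.val.obj (op (j ''ᵁ W')) := (κ.val.app (op W')).hom y

theorem appX_smul_aux (κ : M.restrict j ⟶ N.restrict j) (W' : U.Opens)
    (r' : U.ringCatSheaf.obj.obj (op W'))
    (s : X.ringCatSheaf.obj.obj (op (j ''ᵁ W'))) (hs : (j.appIso W').inv.hom r' = s)
    (y : M.val.obj (op (j ''ᵁ W'))) :
    appX j κ W' (s • y) = s • appX j κ W' y := by
  subst hs
  exact (κ.val.app (op W')).hom.map_smul r' y

theorem appX_smul (κ : M.restrict j ⟶ N.restrict j) (W' : U.Opens)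
    (s : X.ringCatSheaf.obj.obj (op (j ''ᵁ W'))) (y : M.val.obj (op (j ''ᵁ W'))) :
    appX j κ W' (s • y) = s • appX j κ W' y :=
  appX_smul_aux j κ W' ((j.appIso W').hom.hom s) s (Iso.hom_inv_id_apply (j.appIso W') s) y

theorem appX_add (κ : M.restrict j ⟶ N.restrict j) (W' : U.Opens)
    (y y' : M.val.obj (op (j ''ᵁ W'))) :
    appX j κ W' (y + y') = appX j κ W' y + appX j κ W' y' :=
  (κ.val.app (op W')).hom.map_add y y'

theorem appX_nat (κ : M.restrict j ⟶ N.restrict j) {W₁' W₂' : U.Opens} (i : W₂' ⟶ W₁')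
    (y : M.val.obj (op (j ''ᵁ W₁'))) :
    rsX N (j.opensFunctor.map i) (appX j κ W₁' y) = appX j κ W₂' (rsX M (j.opensFunctor.map i) y) :=
  rs_nat (R := U.ringCatSheaf) i κ y

/-- the family over `V` of a morphism `M|_U ⟶ N|_U`. -/
def famOfRestr (κ : M.restrict j ⟶ N.restrict j) : Fam M N V where
  val W b x := rsX N (homOfLE (image_preimage_of_le j hj (leOfHom b)).ge)
    (appX j κ (j ⁻¹ᵁ W) (rsX M (homOfLE (image_preimage_of_le j hj (leOfHom b)).le) x))
  add W b x y := by
    have e1 : rsX M (homOfLE (image_preimage_of_le j hj (leOfHom b)).le) (x + y) = _ :=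
      rs_add (R := X.ringCatSheaf) M _ x y
    rw [e1, appX_add]
    exact rs_add (R := X.ringCatSheaf) N _ _ _
  smul W b r x := by
    have hW := leOfHom b
    have e1 : rsX M (homOfLE (image_preimage_of_le j hj hW).le) (r • x) =
        rsO X.ringCatSheaf (homOfLE (image_preimage_of_le j hj hW).le) r •
          rsX M (homOfLE (image_preimage_of_le j hj hW).le) x :=
      rs_smul (R := X.ringCatSheaf) M _ r x
    have e3 := rs_smul (R := X.ringCatSheaf) N (homOfLE (image_preimage_of_le j hj hW).ge)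
      (rsO X.ringCatSheaf (homOfLE (image_preimage_of_le j hj hW).le) r)
      (appX j κ (j ⁻¹ᵁ W) (rsX M (homOfLE (image_preimage_of_le j hj hW).le) x))
    have e4 : rsO X.ringCatSheaf (homOfLE (image_preimage_of_le j hj hW).ge)
        (rsO X.ringCatSheaf (homOfLE (image_preimage_of_le j hj hW).le) r) = r := by
      rw [← rsO_comp]
      have : (homOfLE (image_preimage_of_le j hj hW).ge ≫
          homOfLE (image_preimage_of_le j hj hW).le) = 𝟙 W := Subsingleton.elim _ _
      rw [this]
      exact rsO_id (R := X.ringCatSheaf) r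
    rw [e4] at e3
    rw [e1, appX_smul]
    exact e3
  compat {W₂ W₁} g b x := by
    have h1 := leOfHom b
    have h2 := leOfHom (g ≫ b)
    let i : j ⁻¹ᵁ W₂ ⟶ j ⁻¹ᵁ W₁ := homOfLE (fun _ hx => leOfHom g hx)
    let z := rsX M (homOfLE (image_preimage_of_le j hj h1).le) x
    have hn := appX_nat j κ i z
    have e1 : rsX M (homOfLE (image_preimage_of_le j hj h2).le) (rsX M g x) =
        rsX M (j.opensFunctor.map i) z :=
      (rsX_rsX M g _ (homOfLE ((image_preimage_of_le j hj h2).le.trans (leOfHom g))) x).trans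
        (rsX_rsX M _ (j.opensFunctor.map i) _ x).symm
    calc rsX N g (rsX N (homOfLE (image_preimage_of_le j hj h1).ge) (appX j κ (j ⁻¹ᵁ W₁) z))
        = rsX N (homOfLE ((leOfHom g).trans (image_preimage_of_le j hj h1).ge))
            (appX j κ (j ⁻¹ᵁ W₁) z) := rsX_rsX N _ g _ _
      _ = rsX N (homOfLE (image_preimage_of_le j hj h2).ge)
            (rsX N (j.opensFunctor.map i) (appX j κ (j ⁻¹ᵁ W₁) z)) :=
          (rsX_rsX N (j.opensFunctor.map i) _ _ _).symm
      _ = rsX N (homOfLE (image_preimage_of_le j hj h2).ge)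
            (appX j κ (j ⁻¹ᵁ W₂) (rsX M (j.opensFunctor.map i) z)) :=
          congrArg (rsX N (homOfLE (image_preimage_of_le j hj h2).ge)) hn
      _ = rsX N (homOfLE (image_preimage_of_le j hj h2).ge)
            (appX j κ (j ⁻¹ᵁ W₂) (rsX M (homOfLE (image_preimage_of_le j hj h2).le) (rsX M g x))) :=
          congrArg (fun t => rsX N (homOfLE (image_preimage_of_le j hj h2).ge)
            (appX j κ (j ⁻¹ᵁ W₂) t)) e1.symm

theorem famOfRestr_val (κ : M.restrict j ⟶ N.restrict j) (W : X.Opens) (b : W ⟶ V)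
    (x : M.val.obj (op W)) :
    (famOfRestr j hj κ).val W b x = rsX N (homOfLE (image_preimage_of_le j hj (leOfHom b)).ge)
      (appX j κ (j ⁻¹ᵁ W) (rsX M (homOfLE (image_preimage_of_le j hj (leOfHom b)).le) x)) := rfl

theorem famOfRestr_restrOfFam (h : Fam M N V) : famOfRestr j hj (restrOfFam j hj h) = h := by
  apply HomFam.ext
  funext W b x
  have hW := leOfHom b
  have h1 := h.compat (homOfLE (image_preimage_of_le j hj hW).ge)
    (homOfLE (image_le_of_range j hj (j ⁻¹ᵁ W)))
    (rsX M (homOfLE (image_preimage_of_le j hj hW).le) x)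
  have h2 : rs (R := X.ringCatSheaf) M (homOfLE (image_preimage_of_le j hj hW).ge)
      (rsX M (homOfLE (image_preimage_of_le j hj hW).le) x) = x :=
    (rsX_rsX M _ _ (𝟙 W) x).trans (rsX_self M _ x)
  rw [h2] at h1
  have h3 : (homOfLE (image_preimage_of_le j hj hW).ge ≫
      homOfLE (image_le_of_range j hj (j ⁻¹ᵁ W))) = b := Subsingleton.elim _ _
  rw [h3] at h1
  exact h1

theorem restrOfFam_famOfRestr (κ : M.restrict j ⟶ N.restrict j) :
    restrOfFam j hj (famOfRestr j hj κ) = κ := by
  apply SheafOfModules.hom_ext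
  apply PresheafOfModules.hom_ext
  intro W'
  ext x
  have hW : j ''ᵁ W'.unop ≤ V := image_le_of_range j hj W'.unop
  let i : W'.unop ⟶ j ⁻¹ᵁ (j ''ᵁ W'.unop) := homOfLE (j.preimage_image_eq W'.unop).ge
  have hn := appX_nat j κ i (rsX M (homOfLE (image_preimage_of_le j hj hW).le) x)
  have h2 : rsX M (j.opensFunctor.map i) (rsX M (homOfLE (image_preimage_of_le j hj hW).le) x) = x :=
    (rsX_rsX M _ _ (𝟙 _) x).trans (rsX_self M _ x)
  rw [h2] at hn
  have h3 : (homOfLE (image_preimage_of_le j hj hW).ge : j ''ᵁ W'.unop ⟶ _) =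
      j.opensFunctor.map i := Subsingleton.elim _ _
  change rsX N (homOfLE (image_preimage_of_le j hj hW).ge) _ = appX j κ W'.unop x
  rw [h3]
  exact hn

/-- families over `V` are morphisms between the restrictions to `U`. -/
def famEquivRestr : Fam M N V ≃ (M.restrict j ⟶ N.restrict j) where
  toFun := restrOfFam j hj
  invFun := famOfRestr j hj
  left_inv := famOfRestr_restrOfFam j hj
  right_inv := restrOfFam_famOfRestr j hj

end restr

section adj

variable {𝒞 𝒟 : Type*} [Category 𝒞] [Category 𝒟] {L : 𝒞 ⥤ 𝒟} {G : 𝒟 ⥤ 𝒞} (adj : L ⊣ G)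

theorem map_eq_homEquiv_counit_comp {Y Z : 𝒟} (κ : Y ⟶ Z) :
    G.map κ = adj.homEquiv _ _ (adj.counit.app Y ≫ κ) := by
  rw [Adjunction.homEquiv_unit, Functor.map_comp, ← Category.assoc,
    adj.right_triangle_components, Category.id_comp]

theorem map_bijective_of_isIso_counit (Y Z : 𝒟) [IsIso (adj.counit.app Y)] :
    Function.Bijective (fun κ : Y ⟶ Z => G.map κ) := by
  have h1 : (fun κ : Y ⟶ Z => G.map κ) =
      (fun t => adj.homEquiv _ _ t) ∘ (fun κ => adj.counit.app Y ≫ κ) := by
    funext κ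
    exact map_eq_homEquiv_counit_comp adj κ
  rw [h1]
  refine Function.Bijective.comp (Equiv.bijective _) ⟨fun a b hab => ?_, fun t => ?_⟩
  · exact (cancel_epi (adj.counit.app Y)).1 hab
  · exact ⟨inv (adj.counit.app Y) ≫ t, IsIso.hom_inv_id_assoc _ _⟩

end adj

section spec

variable {R : CommRingCat.{u}} (M' N' : (Spec R).Modules)

theorem ΓMap_bijective [M'.IsQuasicoherent] :
    Function.Bijective (fun κ : M' ⟶ N' => (moduleSpecΓFunctor (R := R)).map κ) := by
  have : IsIso ((tilde.adjunction (R := R)).counit.app M') :=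
    inferInstanceAs (IsIso M'.fromTildeΓ)
  exact map_bijective_of_isIso_counit (tilde.adjunction (R := R)) M' N'

end spec


section affine

variable {X : Scheme.{u}} {V : X.Opens} (hV : IsAffineOpen V) (M N : X.Modules)

/-- the value of a family on the top open, as a linear map. -/
def evTop (h : Fam M N V) :
    M.val.obj (op V) →ₗ[X.ringCatSheaf.obj.obj (op V)] N.val.obj (op V) where
  toFun := h.val V (𝟙 V)
  map_add' := h.add V (𝟙 V)
  map_smul' := h.smul V (𝟙 V)

theorem evTop_apply (h : Fam M N V) (x : M.val.obj (op V)) : evTop M N h x = h.val V (𝟙 V) x := rfl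

include hV in
theorem image_top_eq : hV.fromSpec ''ᵁ ⊤ = V := by
  rw [Scheme.Hom.image_top_eq_opensRange, hV.opensRange_fromSpec]

theorem Γmap_apply (κ : M.restrict hV.fromSpec ⟶ N.restrict hV.fromSpec)
    (x : M.val.obj (op (hV.fromSpec ''ᵁ ⊤))) :
    ((moduleSpecΓFunctor (R := Γ(X, V))).map κ).hom x = appX hV.fromSpec κ ⊤ x := rfl

/-- the `Γ(X, V)`-module of global sections of the restriction to `Spec Γ(X, V)`. -/
def ΓM (F : X.Modules) : ModuleCat Γ(X, V) :=
  (moduleSpecΓFunctor (R := Γ(X, V))).obj (F.restrict hV.fromSpec)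

/-- global sections of the restriction to `Spec Γ(X, V)`, as sections over `X`. -/
def ofΓ (F : X.Modules) (x : ΓM hV F) : F.val.obj (op (hV.fromSpec ''ᵁ ⊤)) := x

/-- sections over `X` as global sections of the restriction to `Spec Γ(X, V)`. -/
def toΓ (F : X.Modules) (x : F.val.obj (op (hV.fromSpec ''ᵁ ⊤))) : ΓM hV F := x

/-- the action of `Γ(X, V)` on the global sections of the restriction to `Spec Γ(X, V)`. -/
theorem ofΓ_smul (F : X.Modules) (r : X.ringCatSheaf.obj.obj (op V)) (x : ΓM hV F) :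
    ofΓ hV F ((id r : Γ(X, V)) • x) =
      rsO X.ringCatSheaf (homOfLE (image_top_eq hV).le) r • ofΓ hV F x :=
  restrict_fromSpec_smul hV F ⊤ r x

theorem val_image_top (k : Fam M N V) (x : M.val.obj (op (hV.fromSpec ''ᵁ ⊤))) :
    k.val (hV.fromSpec ''ᵁ ⊤) (homOfLE (image_top_eq hV).le) x =
      rsX N (homOfLE (image_top_eq hV).le)
        (k.val V (𝟙 V) (rsX M (homOfLE (image_top_eq hV).ge) x)) := by
  have h1 := k.compat (homOfLE (image_top_eq hV).le) (𝟙 V) (rsX M (homOfLE (image_top_eq hV).ge) x)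
  have h2 : rs (R := X.ringCatSheaf) M (homOfLE (image_top_eq hV).le)
      (rsX M (homOfLE (image_top_eq hV).ge) x) = x :=
    (rsX_rsX M _ _ (𝟙 _) x).trans (rsX_self M _ x)
  rw [h2] at h1
  have h3 : (homOfLE (image_top_eq hV).le ≫ 𝟙 V) = homOfLE (image_top_eq hV).le :=
    Subsingleton.elim _ _
  rw [h3] at h1
  exact h1.symm

theorem val_top_of_image (k : Fam M N V) (y : M.val.obj (op V)) :
    k.val V (𝟙 V) y = rsX N (homOfLE (image_top_eq hV).ge)
      (k.val (hV.fromSpec ''ᵁ ⊤) (homOfLE (image_top_eq hV).le)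
        (rsX M (homOfLE (image_top_eq hV).le) y)) := by
  have h1 := k.compat (homOfLE (image_top_eq hV).ge) (homOfLE (image_top_eq hV).le)
    (rsX M (homOfLE (image_top_eq hV).le) y)
  have h2 : rs (R := X.ringCatSheaf) M (homOfLE (image_top_eq hV).ge)
      (rsX M (homOfLE (image_top_eq hV).le) y) = y :=
    (rsX_rsX M _ _ (𝟙 _) y).trans (rsX_self M _ y)
  rw [h2] at h1
  have h3 : (homOfLE (image_top_eq hV).ge ≫ homOfLE (image_top_eq hV).le) = 𝟙 V :=
    Subsingleton.elim _ _
  rw [h3] at h1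
  exact h1.symm

include hV in
theorem evTop_injective [M.IsQuasicoherent] : Function.Injective (evTop M N (V := V)) := by
  intro h h' hh
  have hj := hV.opensRange_fromSpec
  apply (famEquivRestr hV.fromSpec hj).injective
  apply (ΓMap_bijective (M.restrict hV.fromSpec) (N.restrict hV.fromSpec)).1
  apply ModuleCat.hom_ext
  apply LinearMap.ext
  intro x
  have e1 := val_image_top hV M N h (ofΓ hV M x)
  have e2 := val_image_top hV M N h' (ofΓ hV M x)
  have e3 : h.val V (𝟙 V) (rsX M (homOfLE (image_top_eq hV).ge) (ofΓ hV M x)) =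
      h'.val V (𝟙 V) (rsX M (homOfLE (image_top_eq hV).ge) (ofΓ hV M x)) :=
    LinearMap.congr_fun hh _
  exact e1.trans ((congrArg (rsX N (homOfLE (image_top_eq hV).le)) e3).trans e2.symm)

/-- the underlying function of `liftΓ`. -/
def liftFun (φ : M.val.obj (op V) →ₗ[X.ringCatSheaf.obj.obj (op V)] N.val.obj (op V))
    (x : ΓM hV M) : ΓM hV N :=
  toΓ hV N (rsX N (homOfLE (image_top_eq hV).le)
    (φ (rsX M (homOfLE (image_top_eq hV).ge) (ofΓ hV M x))))

theorem liftFun_add (φ : M.val.obj (op V) →ₗ[X.ringCatSheaf.obj.obj (op V)] N.val.obj (op V))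
    (x y : ΓM hV M) : liftFun hV M N φ (x + y) = liftFun hV M N φ x + liftFun hV M N φ y := by
  have e1 : rsX M (homOfLE (image_top_eq hV).ge) (ofΓ hV M (x + y)) =
      rsX M (homOfLE (image_top_eq hV).ge) (ofΓ hV M x) +
        rsX M (homOfLE (image_top_eq hV).ge) (ofΓ hV M y) :=
    rs_add (R := X.ringCatSheaf) M _ _ _
  unfold liftFun
  rw [e1, map_add]
  exact rs_add (R := X.ringCatSheaf) N _ _ _

theorem liftFun_smul (φ : M.val.obj (op V) →ₗ[X.ringCatSheaf.obj.obj (op V)] N.val.obj (op V))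
    (r : X.ringCatSheaf.obj.obj (op V)) (x : ΓM hV M) :
    liftFun hV M N φ ((id r : Γ(X, V)) • x) = (id r : Γ(X, V)) • liftFun hV M N φ x := by
  apply (show Function.Injective (ofΓ hV N) from fun _ _ h => h)
  have e0 := ofΓ_smul hV N r (liftFun hV M N φ x)
  have eM := ofΓ_smul hV M r x
  have e1 : rsX M (homOfLE (image_top_eq hV).ge)
      (rsO X.ringCatSheaf (homOfLE (image_top_eq hV).le) r • ofΓ hV M x) =
      rsO X.ringCatSheaf (homOfLE (image_top_eq hV).ge)
        (rsO X.ringCatSheaf (homOfLE (image_top_eq hV).le) r) •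
        rsX M (homOfLE (image_top_eq hV).ge) (ofΓ hV M x) :=
    rs_smul (R := X.ringCatSheaf) M _ _ _
  have e2 : rsO X.ringCatSheaf (homOfLE (image_top_eq hV).ge)
      (rsO X.ringCatSheaf (homOfLE (image_top_eq hV).le) r) = r := by
    rw [← rsO_comp]
    have : (homOfLE (image_top_eq hV).ge ≫ homOfLE (image_top_eq hV).le) = 𝟙 V :=
      Subsingleton.elim _ _
    rw [this]
    exact rsO_id (R := X.ringCatSheaf) r
  rw [e2] at e1
  have e3 : φ (r • rsX M (homOfLE (image_top_eq hV).ge) (ofΓ hV M x)) =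
      r • φ (rsX M (homOfLE (image_top_eq hV).ge) (ofΓ hV M x)) := map_smul φ r _
  have e4 : rsX N (homOfLE (image_top_eq hV).le)
      (r • φ (rsX M (homOfLE (image_top_eq hV).ge) (ofΓ hV M x))) =
      rsO X.ringCatSheaf (homOfLE (image_top_eq hV).le) r •
        rsX N (homOfLE (image_top_eq hV).le)
          (φ (rsX M (homOfLE (image_top_eq hV).ge) (ofΓ hV M x))) :=
    rs_smul (R := X.ringCatSheaf) N _ _ _
  refine Eq.trans ?_ e0.symm
  calc rsX N (homOfLE (image_top_eq hV).le)
        (φ (rsX M (homOfLE (image_top_eq hV).ge) (ofΓ hV M ((id r : Γ(X, V)) • x))))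
      = rsX N (homOfLE (image_top_eq hV).le) (φ (rsX M (homOfLE (image_top_eq hV).ge)
          (rsO X.ringCatSheaf (homOfLE (image_top_eq hV).le) r • ofΓ hV M x))) :=
        congrArg (fun t => rsX N (homOfLE (image_top_eq hV).le)
          (φ (rsX M (homOfLE (image_top_eq hV).ge) t))) eM
    _ = rsX N (homOfLE (image_top_eq hV).le)
          (φ (r • rsX M (homOfLE (image_top_eq hV).ge) (ofΓ hV M x))) :=
        congrArg (fun t => rsX N (homOfLE (image_top_eq hV).le) (φ t)) e1
    _ = rsX N (homOfLE (image_top_eq hV).le)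
          (r • φ (rsX M (homOfLE (image_top_eq hV).ge) (ofΓ hV M x))) :=
        congrArg (rsX N (homOfLE (image_top_eq hV).le)) e3
    _ = _ := e4

/-- the `Γ(X, V)`-linear map on global sections over `Spec Γ(X, V)` induced by a linear map on
sections over `V`. -/
def liftΓ (φ : M.val.obj (op V) →ₗ[X.ringCatSheaf.obj.obj (op V)] N.val.obj (op V)) :
    ΓM hV M ⟶ ΓM hV N :=
  ModuleCat.ofHom (X := ΓM hV M) (Y := ΓM hV N)
    { toFun := liftFun hV M N φ
      map_add' := liftFun_add hV M N φ
      map_smul' := fun r x => liftFun_smul hV M N φ r x }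

theorem liftΓ_apply (φ : M.val.obj (op V) →ₗ[X.ringCatSheaf.obj.obj (op V)] N.val.obj (op V))
    (x : ΓM hV M) :
    ofΓ hV N ((liftΓ hV M N φ).hom x) = rsX N (homOfLE (image_top_eq hV).le)
        (φ (rsX M (homOfLE (image_top_eq hV).ge) (ofΓ hV M x))) := rfl

include hV in
theorem evTop_surjective [M.IsQuasicoherent] : Function.Surjective (evTop M N (V := V)) := by
  intro φ
  have hj := hV.opensRange_fromSpec
  obtain ⟨κ, hκ⟩ := (ΓMap_bijective (M.restrict hV.fromSpec) (N.restrict hV.fromSpec)).2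
    (liftΓ hV M N φ)
  refine ⟨famOfRestr hV.fromSpec hj κ, ?_⟩
  apply LinearMap.ext
  intro y
  have h0 : restrOfFam hV.fromSpec hj (famOfRestr hV.fromSpec hj κ) = κ :=
    restrOfFam_famOfRestr hV.fromSpec hj κ
  have h1 : ∀ x : M.val.obj (op (hV.fromSpec ''ᵁ ⊤)),
      (famOfRestr hV.fromSpec hj κ).val (hV.fromSpec ''ᵁ ⊤) (homOfLE (image_top_eq hV).le) x =
        rsX N (homOfLE (image_top_eq hV).le)
          (φ (rsX M (homOfLE (image_top_eq hV).ge) x)) := by
    intro x
    have e1 : (famOfRestr hV.fromSpec hj κ).val (hV.fromSpec ''ᵁ ⊤)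
        (homOfLE (image_top_eq hV).le) x =
        appX hV.fromSpec (restrOfFam hV.fromSpec hj (famOfRestr hV.fromSpec hj κ)) ⊤ x := rfl
    rw [e1, h0]
    have e2 : ((moduleSpecΓFunctor (R := Γ(X, V))).map κ).hom (toΓ hV M x) =
        (liftΓ hV M N φ).hom (toΓ hV M x) := by
      have : (moduleSpecΓFunctor (R := Γ(X, V))).map κ = liftΓ hV M N φ := hκ
      exact congrArg (fun t => ModuleCat.Hom.hom t (toΓ hV M x)) this
    exact e2
  rw [evTop_apply, val_top_of_image hV M N, h1]
  have e3 : rsX M (homOfLE (image_top_eq hV).ge) (rsX M (homOfLE (image_top_eq hV).le) y) = y :=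
    (rsX_rsX M _ _ (𝟙 _) y).trans (rsX_self M _ y)
  rw [e3]
  exact (rsX_rsX N _ _ (𝟙 _) _).trans (rsX_self N _ _)

end affine
end

end Groth.Agent.Lib.Helper17.FFaith
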