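import Mathlib
import Groth.Prelude.Def_Formal
import Groth.Agent.Lib.Helper17FFaith4
import Groth.Agent.Lib.Helper2Push
import Groth.Agent.Lib.Helper23QCohLocal
import Groth.Agent.Lib.Helper23FinType2

set_option autoImplicit false
universe u
open CategoryTheory CategoryTheory.Limits AlgebraicGeometry TopologicalSpace Opposite

/-!
# Helper17: the internal Hom of coherent modules on a locally Noetherian scheme is coherent

* `RS`, `resLin`, `isLocalizedModule_resLin`: the restriction `Γ(F, V) → Γ(F, D(f))` of a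
  quasi-coherent module on an affine open is a localization at `f`;
* `evΓEquiv`: `Γ(V, ℋom(M, N)) ≃ Hom_{Γ(X,V)}(Γ(M,V), Γ(N,V))` for `V` affine, `M` quasi-coherent;
* `isLocOn_sHom`, `isCoh_sHom`.
-/

namespace Groth.Agent.Lib.Helper17.FFaith

open Groth.Agent.Lib.Helper21.HomI Groth.Agent.Lib.Helper21.HomU Groth.Agent.Lib.Helper2.QCoh

noncomputable section

section resmod

variable {X : Scheme.{u}} {V D : X.Opens}

/-- sections over `D ≤ V`, as a module over `Γ(X, V)`. -/
def RS (F : X.Modules) (_ : D ≤ V) : Type u := Γ(F, D)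

instance (F : X.Modules) (h : D ≤ V) : AddCommGroup (RS F h) :=
  inferInstanceAs (AddCommGroup Γ(F, D))

instance (F : X.Modules) (h : D ≤ V) : Module Γ(X, V) (RS F h) :=
  Module.compHom Γ(F, D) (X.presheaf.map (homOfLE h).op).hom

/-- the identity `RS F h → Γ(F, D)`. -/
def RS.out {F : X.Modules} {h : D ≤ V} (x : RS F h) : Γ(F, D) := x

/-- the identity `Γ(F, D) → RS F h`. -/
def RS.in {F : X.Modules} (h : D ≤ V) (x : Γ(F, D)) : RS F h := x

theorem RS.out_smul {F : X.Modules} {h : D ≤ V} (r : Γ(X, V)) (x : RS F h) :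
    (r • x).out = (X.presheaf.map (homOfLE h).op).hom r • x.out := rfl

theorem RS.out_add {F : X.Modules} {h : D ≤ V} (x y : RS F h) : (x + y).out = x.out + y.out := rfl

/-- restriction as a linear map. -/
def resLin (F : X.Modules) (h : D ≤ V) : Γ(F, V) →ₗ[Γ(X, V)] RS F h where
  toFun x := RS.in h ((F.presheaf.map (homOfLE h).op).hom x)
  map_add' x y := map_add (F.presheaf.map (homOfLE h).op).hom x y
  map_smul' r x := Scheme.Modules.map_smul F (homOfLE h) r x

theorem resLin_out (F : X.Modules) (h : D ≤ V) (x : Γ(F, V)) :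
    (resLin F h x).out = (F.presheaf.map (homOfLE h).op).hom x := rfl

theorem isLocalizedModule_resLin (hV : IsAffineOpen V) (F : X.Modules) [F.IsQuasicoherent]
    (f : Γ(X, V)) : IsLocalizedModule.Away f (resLin F (X.basicOpen_le f)) := by
  have hF := Groth.Agent.Lib.Helper2.Push.IsLocOn.of_isQuasicoherent hV F
  have hu : IsUnit ((X.presheaf.map (homOfLE (X.basicOpen_le f)).op).hom f) :=
    X.toRingedSpace.isUnit_res_basicOpen f
  refine IsLocalizedModule.Away.mk_of_addCommGroup ?_ ?_ ?_
  · rw [Module.End.isUnit_iff]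
    obtain ⟨u, hu'⟩ := hu
    constructor
    · intro x y hxy
      have h1 : (X.presheaf.map (homOfLE (X.basicOpen_le f)).op).hom f • x.out =
          (X.presheaf.map (homOfLE (X.basicOpen_le f)).op).hom f • y.out := hxy
      rw [← hu'] at h1
      have h2 := congrArg (fun z => (↑u⁻¹ : Γ(X, X.basicOpen f)) • z) h1
      simp only [smul_smul, Units.inv_mul, one_smul] at h2
      exact h2
    · intro y
      refine ⟨RS.in _ ((↑u⁻¹ : Γ(X, X.basicOpen f)) • y.out), ?_⟩
      change (X.presheaf.map (homOfLE (X.basicOpen_le f)).op).hom f •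
        ((↑u⁻¹ : Γ(X, X.basicOpen f)) • y.out) = y.out
      rw [← hu', smul_smul, Units.mul_inv, one_smul]
  · intro x
    obtain ⟨n, t, ht⟩ := hF.exists_extension f x.out
    refine ⟨n, t, ?_⟩
    change (X.presheaf.map (homOfLE (X.basicOpen_le f)).op).hom (f ^ n) • x.out = _
    rw [map_pow]
    exact ht.symm
  · intro t ht
    exact hF.exists_pow_smul_eq_zero f t ht

end resmod

section locOn

variable {X : Scheme.{u}} {V : X.Opens} (M N : X.Modules)

instance famAddCommGroup (W : X.Opens) : AddCommGroup (Fam M N W) :=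
  @HomFam.instAddCommGroup _ _ _ X.sheaf M N W

instance famModule (W : X.Opens) :
    Module ((ModSite.ringSh X.sheaf).obj.obj (op W)) (Fam M N W) :=
  @HomFam.instModuleCarrierObjOppositeRingCatObjFunctorIsSheafRingShOp _ _ _ X.sheaf M N W

/-- `evTop` with values in linear maps over `Γ(X, W)`. -/
def evΓ {W : X.Opens} (h : Fam M N W) : Γ(M, W) →ₗ[Γ(X, W)] Γ(N, W) := evTop M N h

theorem evΓ_apply {W : X.Opens} (h : Fam M N W) (x : Γ(M, W)) :
    evΓ M N h x = h.val W (𝟙 W) x := rfl

theorem evΓ_injective {W : X.Opens} (hW : IsAffineOpen W) [M.IsQuasicoherent] :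
    Function.Injective (evΓ M N (W := W)) := evTop_injective hW M N

theorem evΓ_surjective {W : X.Opens} (hW : IsAffineOpen W) [M.IsQuasicoherent] :
    Function.Surjective (evΓ M N (W := W)) := evTop_surjective hW M N

/-- scalars over `W`, in the form used by `HomFam`. -/
def toRS {W : X.Opens} (r : Γ(X, W)) : (ModSite.ringSh X.sheaf).obj.obj (op W) := r

theorem evΓ_smul {W : X.Opens} (r : Γ(X, W)) (h : Fam M N W) :
    evΓ M N (toRS r • h) = r • evΓ M N h := by
  apply LinearMap.ext
  intro x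
  have h1 : (toRS r • h).val W (𝟙 W) x =
      rsO (ModSite.ringSh X.sheaf) (𝟙 W) (toRS r) • h.val W (𝟙 W) x := rfl
  have h2 : rsO (ModSite.ringSh X.sheaf) (𝟙 W) (toRS r) = toRS r := rsO_id _
  rw [h2] at h1
  exact h1

theorem evΓ_zero {W : X.Opens} : evΓ M N (0 : Fam M N W) = 0 := rfl

variable {D : X.Opens} (hle : D ≤ V)

/-- the component over `D` of a family over `V`, as a `Γ(X, V)`-linear map. -/
def compD (t : Fam M N V) : RS M hle →ₗ[Γ(X, V)] RS N hle where
  toFun x := RS.in hle (t.val D (homOfLE hle) x.out)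
  map_add' x y := t.add D (homOfLE hle) x.out y.out
  map_smul' r x := t.smul D (homOfLE hle) (toRS ((X.presheaf.map (homOfLE hle).op).hom r)) x.out

theorem compD_comp_resLin (t : Fam M N V) :
    compD M N hle t ∘ₗ resLin M hle = resLin N hle ∘ₗ evΓ M N t := by
  apply LinearMap.ext
  intro y
  have h1 := t.compat (homOfLE hle) (𝟙 V) y
  have h2 : (homOfLE hle ≫ 𝟙 V) = homOfLE hle := Category.comp_id _
  rw [h2] at h1
  exact h1.symm

section basic

variable (hV : IsAffineOpen V) [M.IsQuasicoherent] [N.IsQuasicoherent]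
  [Module.FinitePresentation Γ(X, V) Γ(M, V)] (f : Γ(X, V))

/-- localization of homomorphisms: `Hom(M(V), N(V)) → Hom(M(D(f)), N(D(f)))`. -/
def locHom : (Γ(M, V) →ₗ[Γ(X, V)] Γ(N, V)) →ₗ[Γ(X, V)]
    (RS M (X.basicOpen_le f) →ₗ[Γ(X, V)] RS N (X.basicOpen_le f)) :=
  haveI : IsLocalizedModule (.powers f) (resLin M (X.basicOpen_le f)) :=
    isLocalizedModule_resLin hV M f
  haveI : IsLocalizedModule (.powers f) (resLin N (X.basicOpen_le f)) :=
    isLocalizedModule_resLin hV N f
  IsLocalizedModule.map (.powers f) (resLin M (X.basicOpen_le f)) (resLin N (X.basicOpen_le f))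

theorem isLocalizedModule_locHom : IsLocalizedModule (.powers f) (locHom M N hV f) := by
  haveI : IsLocalizedModule (.powers f) (resLin M (X.basicOpen_le f)) :=
    isLocalizedModule_resLin hV M f
  haveI : IsLocalizedModule (.powers f) (resLin N (X.basicOpen_le f)) :=
    isLocalizedModule_resLin hV N f
  unfold locHom
  infer_instance

theorem locHom_evΓ (t : Fam M N V) :
    locHom M N hV f (evΓ M N t) = compD M N (X.basicOpen_le f) t := by
  haveI : IsLocalizedModule (.powers f) (resLin M (X.basicOpen_le f)) :=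
    isLocalizedModule_resLin hV M f
  haveI : IsLocalizedModule (.powers f) (resLin N (X.basicOpen_le f)) :=
    isLocalizedModule_resLin hV N f
  apply IsLocalizedModule.linearMap_ext (.powers f) (resLin M (X.basicOpen_le f))
    (resLin N (X.basicOpen_le f))
  rw [compD_comp_resLin]
  exact IsLocalizedModule.map_comp (.powers f) (resLin M (X.basicOpen_le f))
    (resLin N (X.basicOpen_le f)) (evΓ M N t)

/-- a family over `D(f)`, as a `Γ(X, V)`-linear map. -/
def famLin (s : Fam M N (X.basicOpen f)) :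
    RS M (X.basicOpen_le f) →ₗ[Γ(X, V)] RS N (X.basicOpen_le f) where
  toFun x := RS.in (X.basicOpen_le f) (s.val (X.basicOpen f) (𝟙 _) x.out)
  map_add' x y := s.add _ (𝟙 _) x.out y.out
  map_smul' r x := s.smul _ (𝟙 _)
    (toRS ((X.presheaf.map (homOfLE (X.basicOpen_le f)).op).hom r)) x.out

theorem famLin_apply (s : Fam M N (X.basicOpen f)) (x : RS M (X.basicOpen_le f)) :
    (famLin M N f s x).out = s.val (X.basicOpen f) (𝟙 _) x.out := rfl

theorem compD_eq_famLin_res (t : Fam M N V) :
    compD M N (X.basicOpen_le f) t = famLin M N f (HomFam.res (homOfLE (X.basicOpen_le f)) t) := by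
  apply LinearMap.ext
  intro x
  change RS.in _ (t.val _ (homOfLE (X.basicOpen_le f)) x.out) =
    RS.in _ (t.val _ (𝟙 _ ≫ homOfLE (X.basicOpen_le f)) x.out)
  rw [Category.id_comp]

include hV in
theorem famLin_injective : Function.Injective (famLin M N (V := V) f) := by
  intro s s' h
  apply evΓ_injective M N (hV.basicOpen f)
  apply LinearMap.ext
  intro x
  exact LinearMap.congr_fun h (RS.in _ x)

theorem famLin_smul (n : ℕ) (s : Fam M N (X.basicOpen f)) :
    famLin M N f (toRS ((X.presheaf.map (homOfLE (X.basicOpen_le f)).op).hom f ^ n) • s) =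
      f ^ n • famLin M N f s := by
  apply LinearMap.ext
  intro x
  have h1 : (toRS ((X.presheaf.map (homOfLE (X.basicOpen_le f)).op).hom f ^ n) • s).val
      (X.basicOpen f) (𝟙 _) x.out =
      rsO (ModSite.ringSh X.sheaf) (𝟙 _)
        (toRS ((X.presheaf.map (homOfLE (X.basicOpen_le f)).op).hom f ^ n)) •
        s.val (X.basicOpen f) (𝟙 _) x.out := rfl
  rw [rsO_id] at h1
  have h2 : ((f ^ n • famLin M N f s) x).out =
      toRS ((X.presheaf.map (homOfLE (X.basicOpen_le f)).op).hom (f ^ n)) •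
        s.val (X.basicOpen f) (𝟙 _) x.out := rfl
  rw [map_pow] at h2
  exact h1.trans h2.symm

include hV in
theorem exists_extension_fam (s : Fam M N (X.basicOpen f)) :
    ∃ (n : ℕ) (t : Fam M N V), HomFam.res (homOfLE (X.basicOpen_le f)) t =
      toRS ((X.presheaf.map (homOfLE (X.basicOpen_le f)).op).hom f ^ n) • s := by
  have hΛ := isLocalizedModule_locHom M N hV f
  obtain ⟨⟨τ, ⟨_, n, rfl⟩⟩, hτ⟩ := hΛ.surj (famLin M N f s)
  obtain ⟨t, ht⟩ := evΓ_surjective M N hV τ
  refine ⟨n, t, ?_⟩
  apply famLin_injective M N hV f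
  rw [← compD_eq_famLin_res, ← locHom_evΓ M N hV f, ht, famLin_smul]
  exact hτ.symm

include hV in
theorem exists_pow_smul_eq_zero_fam (t : Fam M N V)
    (ht : HomFam.res (homOfLE (X.basicOpen_le f)) t = 0) : ∃ n : ℕ, toRS (f ^ n) • t = 0 := by
  have hΛ := isLocalizedModule_locHom M N hV f
  have h1 : locHom M N hV f (evΓ M N t) = locHom M N hV f 0 := by
    rw [locHom_evΓ, compD_eq_famLin_res, ht, map_zero]
    rfl
  obtain ⟨⟨_, n, rfl⟩, hn⟩ := hΛ.exists_of_eq h1
  refine ⟨n, ?_⟩
  apply evΓ_injective M N hV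
  rw [evΓ_smul]
  have hn' : f ^ n • evΓ M N t = f ^ n • (0 : Γ(M, V) →ₗ[Γ(X, V)] Γ(N, V)) := hn
  rw [smul_zero] at hn'
  exact hn'

include hV in
theorem isLocOn_sHom : Groth.Agent.Lib.Helper2.Push.IsLocOn (sHom M N) V := by
  constructor
  · intro f s
    obtain ⟨n, t, ht⟩ := exists_extension_fam M N hV f (secOut _ s)
    exact ⟨n, secIn _ t, ht⟩
  · intro f t ht
    obtain ⟨n, hn⟩ := exists_pow_smul_eq_zero_fam M N hV f (secOut _ t) ht
    exact ⟨n, hn⟩

end basic

section alg

theorem finite_linearMap {R P Q : Type*} [CommRing R] [IsNoetherianRing R] [AddCommGroup P]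
    [Module R P] [AddCommGroup Q] [Module R Q] [Module.Finite R P] [Module.Finite R Q] :
    Module.Finite R (P →ₗ[R] Q) := by
  obtain ⟨n, e, he⟩ := Module.Finite.exists_fin' R P
  have hinj := LinearMap.lcomp_injective_of_surjective (S := R) (N := Q) e he
  exact Module.Finite.of_injective (LinearMap.lcomp R Q e) hinj

end alg

/-- `evΓ` as a linear equivalence. -/
def evΓEquiv {W : X.Opens} (hW : IsAffineOpen W) [M.IsQuasicoherent] :
    Γ(sHom M N, W) ≃ₗ[Γ(X, W)] (Γ(M, W) →ₗ[Γ(X, W)] Γ(N, W)) :=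
  LinearEquiv.ofBijective
    { toFun := fun (s : Γ(sHom M N, W)) => evΓ M N (secOut W s)
      map_add' := fun s s' => rfl
      map_smul' := fun r s => by
        have := evΓ_smul M N r (secOut W s)
        exact this }
    ⟨fun s s' h => evΓ_injective M N hW h, fun φ => evΓ_surjective M N hW φ⟩

theorem isCoh_sHom [IsLocallyNoetherian X] (hM : Coh.IsCoh M) (hN : Coh.IsCoh N) :
    Coh.IsCoh (sHom M N) := by
  haveI := hM.1
  haveI := hM.2
  haveI := hN.1
  haveI := hN.2
  have hfin : ∀ (W : X.Opens) (hW : IsAffineOpen W), IsNoetherianRing Γ(X, W) ∧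
      Module.Finite Γ(X, W) Γ(M, W) ∧ Module.Finite Γ(X, W) Γ(N, W) := fun W hW =>
    ⟨IsLocallyNoetherian.component_noetherian ⟨W, hW⟩,
      Groth.Agent.Lib.Helper23.FinType.finite_of_isFiniteType M hW,
      Groth.Agent.Lib.Helper23.FinType.finite_of_isFiniteType N hW⟩
  haveI hq : (sHom M N).IsQuasicoherent := by
    apply Groth.Agent.Lib.Helper23.QCohLocal.isQuasicoherent_of_isLocOn
    intro W hW
    obtain ⟨h1, h2, h3⟩ := hfin W hW
    haveI : Module.FinitePresentation Γ(X, W) Γ(M, W) := Module.finitePresentation_of_finite _ _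
    exact isLocOn_sHom M N hW
  refine ⟨hq, ?_⟩
  rw [Groth.Agent.Lib.Helper23.FinType.isFiniteType_iff_forall_affine]
  intro W hW
  obtain ⟨h1, h2, h3⟩ := hfin W hW
  haveI := finite_linearMap (R := Γ(X, W)) (P := Γ(M, W)) (Q := Γ(N, W))
  exact Module.Finite.equiv (evΓEquiv M N hW).symm

end locOn

end
end Groth.Agent.Lib.Helper17.FFaith
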