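import Groth.Agent.Lib.Helper17FinLoc
import Groth.Agent.Lib.Helper27ProjOverBC
import Groth.Agent.Lib.Helper27ProjSpaceFibres

/-!
# Coherence of higher direct images for projective morphisms (helper17)

* `isCoh_Rpush_comp_iso`: transport of coherence of `R^n h_*` along an isomorphism of the base;
* `isCoh_Rpush_of_closedImmersion_projSpaceOver_of_isAffine`: `R^n h_* G` is coherent for `h`
  factoring through a closed immersion into `P^N_Y`, `Y` affine Noetherian;
* `isCoh_Rpush_of_closedImmersion_projSpaceOver`: the same for `Y` locally Noetherian.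
-/

set_option autoImplicit false

universe u
open CategoryTheory Limits AlgebraicGeometry Opposite TopologicalSpace

namespace Groth.Agent.Lib.Helper17.FinLoc

open Groth.Agent.Lib.Helper17.GammaA Groth.Agent.Lib.Helper17.FinClosed
  Groth.Agent.Lib.Helper17.FinAff Groth.Agent.Lib.Helper17.FinProj
  Groth.Agent.Lib.Helper17.FinMod Groth.Agent.Lib.Helper23.FinType
  Groth.Agent.Lib.Helper23.Extend Groth.Agent.Lib.Helper27ProjOverBC

local instance (X : Scheme.{u}) : EnoughInjectives X.Modules :=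
  Groth.Agent.Lib.Helper17.QCPush.enoughInjectives X

/-- the pushforward along a closed immersion is exact. -/
theorem preservesHomology_pushforward_of_isClosedImmersion {Z X : Scheme.{u}} (i : Z ⟶ X)
    [IsClosedImmersion i] : (Scheme.Modules.pushforward i).PreservesHomology := by
  haveI : (Scheme.Modules.pushforward i).PreservesEpimorphisms :=
    ⟨fun v _ => Groth.Agent.Lib.Helper18.PushHomeo.pushforward_map_epi_of_isClosedEmbedding i
      i.isClosedEmbedding v⟩
  exact Functor.preservesHomology_of_preservesEpis_and_kernels _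

/-- `R^n (h ≫ i)_* G ≅ i_* R^n h_* G` for a closed immersion `i`. -/
theorem nonempty_Rpush_comp_closedImmersion {W Y' Y : Scheme.{u}} (h : W ⟶ Y') (i : Y' ⟶ Y)
    [IsClosedImmersion i] (G : W.Modules) (n : ℕ) :
    Nonempty ((Coh.Rpush (h ≫ i) n).obj G ≅
      (Scheme.Modules.pushforward i).obj ((Coh.Rpush h n).obj G)) := by
  haveI := preservesHomology_pushforward_of_isClosedImmersion i
  have e1 := (Groth.Agent.Lib.Helper21.DerPost.natIsoRightDerived
    (Scheme.Modules.pushforwardComp h i).symm n).app G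
  have e2 := (Groth.Agent.Lib.Helper21.DerPost.postIso (Scheme.Modules.pushforward h)
    (Scheme.Modules.pushforward i) n).app G
  exact ⟨e1 ≪≫ e2⟩

/-- transport of coherence of `R^n h_*` along a finite closed immersion of the base. -/
theorem isCoh_Rpush_comp_closedImmersion {W Y' Y : Scheme.{u}} (h : W ⟶ Y') (i : Y' ⟶ Y)
    [IsClosedImmersion i] [IsLocallyNoetherian Y] (G : W.Modules) (n : ℕ)
    (hc : Coh.IsCoh ((Coh.Rpush h n).obj G)) : Coh.IsCoh ((Coh.Rpush (h ≫ i) n).obj G) := by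
  obtain ⟨e⟩ := nonempty_Rpush_comp_closedImmersion h i G n
  have h1 : Coh.IsCoh ((Scheme.Modules.pushforward i).obj ((Coh.Rpush h n).obj G)) :=
    Groth.Agent.S0019.result i _ hc
  haveI := h1.1
  haveI := h1.2
  exact ⟨Groth.Agent.Lib.Helper17.QCPush.isQuasicoherent_of_iso e.symm h1.1,
    isFiniteType_of_iso e.symm⟩

/-- a morphism factoring through a closed immersion into `P^N_Y` is proper. -/
theorem isProper_of_closedImmersion_projSpaceOver (N : ℕ) {W Y : Scheme.{u}}
    (k : W ⟶ CohB1.ProjSpaceOver N Y) [IsClosedImmersion k]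
    (h : W ⟶ Y) (hh : k ≫ CohB1.ProjSpaceOver.toBase N Y = h) : IsProper h := by
  haveI := Groth.Agent.Lib.Helper27ProjSpaceFibres.isProper_toBase N Y
  rw [← hh]
  infer_instance

/-- projective morphisms to an affine Noetherian scheme have coherent higher direct images. -/
theorem isCoh_Rpush_of_closedImmersion_projSpaceOver_of_isAffine (N : ℕ) {W Y : Scheme.{u}}
    [IsAffine Y] [IsNoetherian Y] (k : W ⟶ CohB1.ProjSpaceOver N Y) [IsClosedImmersion k]
    (h : W ⟶ Y) (hh : k ≫ CohB1.ProjSpaceOver.toBase N Y = h) (G : W.Modules)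
    (hG : Coh.IsCoh G) (n : ℕ) : Coh.IsCoh ((Coh.Rpush h n).obj G) := by
  haveI := isProper_of_closedImmersion_projSpaceOver N k h hh
  haveI : IsNoetherianRing Γ(Y, ⊤) :=
    IsLocallyNoetherian.component_noetherian (X := Y) ⟨⊤, isAffineOpen_top Y⟩
  haveI : IsIso (bcOver N Y.isoSpec.hom) := (isPullback_bcOver N Y.isoSpec.hom).isIso_fst_of_isIso
  have hk' : (k ≫ bcOver N Y.isoSpec.hom) ≫ CohB1.ProjSpaceOver.toBase N (Spec Γ(Y, ⊤)) =
      h ≫ Y.isoSpec.hom := by
    rw [Category.assoc, bcOver_toBase, ← Category.assoc, hh]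
  have hfin : FinH (A := Γ(Y, ⊤)) (h ≫ Y.isoSpec.hom) G :=
    finH_of_closedImmersion_projSpaceOver (A := Γ(Y, ⊤)) N (k ≫ bcOver N Y.isoSpec.hom)
      (h ≫ Y.isoSpec.hom) hk' G hG
  haveI : Coh.IsQCoh G := hG.1
  have hc := isCoh_Rpush_of_finH (B := Γ(Y, ⊤)) (h ≫ Y.isoSpec.hom) G hfin n
  have h2 := isCoh_Rpush_comp_closedImmersion (h ≫ Y.isoSpec.hom) Y.isoSpec.inv G n hc
  have h3 : (h ≫ Y.isoSpec.hom) ≫ Y.isoSpec.inv = h := by
    rw [Category.assoc, Iso.hom_inv_id, Category.comp_id]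
  rw [h3] at h2
  exact h2

/-- a proper immersion is a closed immersion. -/
theorem isClosedImmersion_of_isImmersion_of_isProper {X Y : Scheme.{u}} (f : X ⟶ Y)
    [IsImmersion f] [IsProper f] : IsClosedImmersion f :=
  IsClosedImmersion.of_isPreimmersion f f.isClosedMap.isClosed_range

/-- an immersion into `P^N_S` whose composite to `S` is proper is a closed immersion. -/
theorem isClosedImmersion_of_isImmersion_projSpaceOver (N : ℕ) {W S : Scheme.{u}}
    (j : W ⟶ CohB1.ProjSpaceOver N S) [IsImmersion j] (h : W ⟶ S) [IsProper h]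
    (hh : j ≫ CohB1.ProjSpaceOver.toBase N S = h) : IsClosedImmersion j := by
  haveI := Groth.Agent.Lib.Helper27ProjSpaceFibres.isProper_toBase N S
  haveI : IsProper (j ≫ CohB1.ProjSpaceOver.toBase N S) := by rw [hh]; infer_instance
  haveI : IsProper j := IsProper.of_comp j (CohB1.ProjSpaceOver.toBase N S)
  exact isClosedImmersion_of_isImmersion_of_isProper j

/-- **Coherence of higher direct images for (locally) projective morphisms**: if `π : Z' ⟶ Z` is
proper, `Z` is locally Noetherian, and `Z'` is immersed in `P^N_S` compatibly with some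
`g : Z ⟶ S`, then `R^q π_* G` is coherent for coherent `G`. -/
theorem isCoh_Rpush_of_immersion_projSpaceOver (N : ℕ) {Z' Z S : Scheme.{u}}
    [IsLocallyNoetherian Z] (π : Z' ⟶ Z) [IsProper π] (g : Z ⟶ S)
    (j : Z' ⟶ CohB1.ProjSpaceOver N S) [IsImmersion j]
    (hj : j ≫ CohB1.ProjSpaceOver.toBase N S = π ≫ g) (G : Z'.Modules) (hG : Coh.IsCoh G)
    (q : ℕ) : Coh.IsCoh ((Coh.Rpush π q).obj G) := by
  haveI : Coh.IsQCoh G := hG.1
  refine isCoh_Rpush_of_forall_affine π G q (fun V hV => ?_)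
  haveI : IsAffine (V : Scheme.{u}) := hV
  haveI : IsNoetherian (V : Scheme.{u}) := { }
  have hw : ((π ⁻¹ᵁ V).ι ≫ j) ≫ CohB1.ProjSpaceOver.toBase N S = (π ∣_ V) ≫ V.ι ≫ g := by
    rw [Category.assoc, hj, ← Category.assoc, ← morphismRestrict_ι, Category.assoc]
  let k : (π ⁻¹ᵁ V : Scheme.{u}) ⟶ CohB1.ProjSpaceOver N V :=
    (isPullback_bcOver N (V.ι ≫ g)).lift ((π ⁻¹ᵁ V).ι ≫ j) (π ∣_ V) hw
  have hk1 : k ≫ bcOver N (V.ι ≫ g) = (π ⁻¹ᵁ V).ι ≫ j := IsPullback.lift_fst _ _ _ _
  have hk2 : k ≫ CohB1.ProjSpaceOver.toBase N V = π ∣_ V := IsPullback.lift_snd _ _ _ _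
  haveI : IsImmersion (k ≫ bcOver N (V.ι ≫ g)) := by rw [hk1]; infer_instance
  haveI : IsImmersion k := IsImmersion.of_comp k (bcOver N (V.ι ≫ g))
  haveI : IsClosedImmersion k := isClosedImmersion_of_isImmersion_projSpaceOver N k (π ∣_ V) hk2
  exact isCoh_Rpush_of_closedImmersion_projSpaceOver_of_isAffine N k (π ∣_ V) hk2 _
    (isCoh_restrict (π ⁻¹ᵁ V).ι G hG) q

end Groth.Agent.Lib.Helper17.FinLoc
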