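import Mathlib

/-!
# Helper21: contravariant cohomological δ-functors and acyclic left resolutions
-/

open CategoryTheory Limits

namespace Groth.Agent.Lib.Helper21.CoDeltaLib

universe v v' u u'

variable (𝒜 : Type u) [Category.{v} 𝒜] [Abelian 𝒜] (𝒟 : Type u') [Category.{v'} 𝒟] [Abelian 𝒟]

/-- A contravariant cohomological δ-functor (only what is needed). -/
structure CoDelta where
  E : ℕ → 𝒜 → 𝒟
  map : ∀ (p : ℕ) {M M' : 𝒜} (_ : M' ⟶ M), E p M ⟶ E p M'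
  map_comp : ∀ (p : ℕ) {M M' M'' : 𝒜} (u : M'' ⟶ M') (v : M' ⟶ M),
    map p (u ≫ v) = map p v ≫ map p u
  mono_zero : ∀ (S : ShortComplex 𝒜), S.ShortExact → Mono (map 0 S.g)
  exact₂ : ∀ (S : ShortComplex 𝒜), S.ShortExact → ∀ p : ℕ,
    ∃ w : map p S.g ≫ map p S.f = 0, (ShortComplex.mk _ _ w).Exact
  δ : ∀ (S : ShortComplex 𝒜), S.ShortExact → ∀ p : ℕ, E p S.X₁ ⟶ E (p + 1) S.X₃
  exact₃ : ∀ (S : ShortComplex 𝒜) (hS : S.ShortExact) (p : ℕ),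
    ∃ w : map p S.f ≫ δ S hS p = 0, (ShortComplex.mk _ _ w).Exact
  exact₁ : ∀ (S : ShortComplex 𝒜) (hS : S.ShortExact) (p : ℕ),
    ∃ w : δ S hS p ≫ map (p + 1) S.g = 0, (ShortComplex.mk _ _ w).Exact

variable {𝒜 𝒟}

/-- A left resolution `⋯ → X 1 → X 0 → F → 0`. -/
structure Resn (F : 𝒜) where
  X : ℕ → 𝒜
  d : ∀ j : ℕ, X (j + 1) ⟶ X j
  π : X 0 ⟶ F
  epi : Epi π
  w₀ : d 0 ≫ π = 0
  ex₀ : (ShortComplex.mk _ _ w₀).Exact
  w : ∀ j : ℕ, d (j + 1) ≫ d j = 0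
  ex : ∀ j : ℕ, (ShortComplex.mk _ _ (w j)).Exact

namespace Resn

variable {F : 𝒜} (R : Resn F)

/-- `X 1 ⟶ ker π`. -/
noncomputable def π' : R.X 1 ⟶ kernel R.π := kernel.lift R.π (R.d 0) R.w₀

@[reassoc]
theorem π'_ι : R.π' ≫ kernel.ι R.π = R.d 0 := kernel.lift_ι _ _ _

theorem epi_π' : Epi R.π' :=
  (ShortComplex.exact_iff_epi_kernel_lift _).1 R.ex₀

/-- the short exact sequence `0 → ker π → X 0 → F → 0`. -/
noncomputable def S₀ : ShortComplex 𝒜 := ShortComplex.mk (kernel.ι R.π) R.π (kernel.condition _)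

theorem S₀_shortExact : R.S₀.ShortExact := by
  haveI := R.epi
  exact ShortComplex.ShortExact.mk' (ShortComplex.exact_of_f_is_kernel _ (kernelIsKernel R.π))
    (inferInstanceAs (Mono (kernel.ι R.π))) (inferInstanceAs (Epi R.π))

theorem shift_w₀ : R.d 1 ≫ R.π' = 0 := by
  rw [← cancel_mono (kernel.ι R.π), Category.assoc, π'_ι, R.w 0, zero_comp]

theorem shift_ex₀ : (ShortComplex.mk _ _ R.shift_w₀).Exact := by
  let φ : ShortComplex.mk _ _ R.shift_w₀ ⟶ ShortComplex.mk _ _ (R.w 0) :=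
    { τ₁ := 𝟙 _
      τ₂ := 𝟙 _
      τ₃ := kernel.ι R.π
      comm₁₂ := by simp
      comm₂₃ := by
        dsimp only
        rw [π'_ι, Category.id_comp] }
  haveI : Epi φ.τ₁ := inferInstanceAs (Epi (𝟙 _))
  haveI : IsIso φ.τ₂ := inferInstanceAs (IsIso (𝟙 _))
  haveI : Mono φ.τ₃ := inferInstanceAs (Mono (kernel.ι R.π))
  exact (ShortComplex.exact_iff_of_epi_of_isIso_of_mono φ).2 (R.ex 0)

/-- the shifted resolution of `ker π`. -/
noncomputable def shift : Resn (kernel R.π) where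
  X j := R.X (j + 1)
  d j := R.d (j + 1)
  π := R.π'
  epi := R.epi_π'
  w₀ := R.shift_w₀
  ex₀ := R.shift_ex₀
  w j := R.w (j + 1)
  ex j := R.ex (j + 1)

end Resn

namespace CoDelta

variable (Δ : CoDelta 𝒜 𝒟)

theorem mono_of_epi {M M' : 𝒜} (g : M ⟶ M') [Epi g] : Mono (Δ.map 0 g) := by
  have hS : (ShortComplex.mk (kernel.ι g) g (kernel.condition g)).ShortExact :=
    ShortComplex.ShortExact.mk' (ShortComplex.exact_of_f_is_kernel _ (kernelIsKernel g))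
      (inferInstanceAs (Mono (kernel.ι g))) (inferInstanceAs (Epi g))
  exact Δ.mono_zero _ hS

variable {F : 𝒜} (R : Resn F)

theorem map_d0 : Δ.map 0 (R.d 0) = Δ.map 0 (kernel.ι R.π) ≫ Δ.map 0 R.π' := by
  rw [← Δ.map_comp, R.π'_ι]

theorem mono_map_π : Mono (Δ.map 0 R.π) := by
  haveI := R.epi
  exact Δ.mono_of_epi R.π

theorem map_π_d0 : Δ.map 0 R.π ≫ Δ.map 0 (R.d 0) = 0 := by
  obtain ⟨w, -⟩ := Δ.exact₂ R.S₀ R.S₀_shortExact 0
  rw [map_d0, ← Category.assoc]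
  have : Δ.map 0 R.π ≫ Δ.map 0 (kernel.ι R.π) = 0 := w
  rw [this, zero_comp]

theorem exact_map_π_d0 : (ShortComplex.mk _ _ (Δ.map_π_d0 R)).Exact := by
  obtain ⟨w, hw⟩ := Δ.exact₂ R.S₀ R.S₀_shortExact 0
  haveI := R.epi_π'
  haveI : Mono (Δ.map 0 R.π') := Δ.mono_of_epi R.π'
  let φ : ShortComplex.mk _ _ w ⟶ ShortComplex.mk _ _ (Δ.map_π_d0 R) :=
    { τ₁ := 𝟙 _
      τ₂ := 𝟙 _
      τ₃ := Δ.map 0 R.π'
      comm₁₂ := by
        dsimp only [Resn.S₀]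
        simp
      comm₂₃ := by
        dsimp only [Resn.S₀]
        rw [Category.id_comp, map_d0] }
  haveI : Epi φ.τ₁ := inferInstanceAs (Epi (𝟙 _))
  haveI : IsIso φ.τ₂ := inferInstanceAs (IsIso (𝟙 _))
  haveI : Mono φ.τ₃ := inferInstanceAs (Mono (Δ.map 0 R.π'))
  exact (ShortComplex.exact_iff_of_epi_of_isIso_of_mono φ).1 hw

/-- `E⁰ F` is the kernel of `E⁰ (X 0) ⟶ E⁰ (X 1)`. -/
noncomputable def isKernel : IsLimit (KernelFork.ofι (Δ.map 0 R.π) (Δ.map_π_d0 R)) := by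
  haveI : Mono (ShortComplex.mk _ _ (Δ.map_π_d0 R)).f := Δ.mono_map_π R
  exact (Δ.exact_map_π_d0 R).fIsKernel

theorem isIso_δ (S : ShortComplex 𝒜) (hS : S.ShortExact) (p : ℕ) (h₁ : IsZero (Δ.E p S.X₂))
    (h₂ : IsZero (Δ.E (p + 1) S.X₂)) : IsIso (Δ.δ S hS p) := by
  obtain ⟨w₃, h₃⟩ := Δ.exact₃ S hS p
  obtain ⟨w₁, h₁'⟩ := Δ.exact₁ S hS p
  haveI : Mono (Δ.δ S hS p) := (ShortComplex.exact_iff_mono _ (h₁.eq_of_src _ _)).1 h₃
  haveI : Epi (Δ.δ S hS p) := (ShortComplex.exact_iff_epi _ (h₂.eq_of_tgt _ _)).1 h₁'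
  exact isIso_of_mono_of_epi _

theorem epi_δ (S : ShortComplex 𝒜) (hS : S.ShortExact) (p : ℕ)
    (h₂ : IsZero (Δ.E (p + 1) S.X₂)) : Epi (Δ.δ S hS p) := by
  obtain ⟨w₁, h₁'⟩ := Δ.exact₁ S hS p
  exact (ShortComplex.exact_iff_epi _ (h₂.eq_of_tgt _ _)).1 h₁'

def isColimit_of_eq {X Y Z : 𝒟} {f f' : X ⟶ Y} (h : f = f') {π : Y ⟶ Z} (w : f ≫ π = 0)
    (w' : f' ≫ π = 0) (hc : IsColimit (CokernelCofork.ofπ π w)) :
    IsColimit (CokernelCofork.ofπ π w') := by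
  subst h
  exact hc

theorem map_d0_d1 : Δ.map 0 (R.d 0) ≫ Δ.map 0 (R.d 1) = 0 := by
  rw [map_d0, Category.assoc]
  have : Δ.map 0 R.π' ≫ Δ.map 0 (R.d 1) = 0 := Δ.map_π_d0 R.shift
  rw [this, comp_zero]

/-- the first cohomology. -/
theorem homology_one (h : IsZero (Δ.E 1 (R.X 0)))
    (w : Δ.map 0 (R.d 0) ≫ Δ.map 0 (R.d 1) = 0) :
    Nonempty ((ShortComplex.mk _ _ w).homology ≅ Δ.E 1 F) := by
  let S := ShortComplex.mk _ _ w
  have hi : IsLimit (KernelFork.ofι (Δ.map 0 R.π') (Δ.map_π_d0 R.shift)) := Δ.isKernel R.shift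
  have hlift : hi.lift (KernelFork.ofι S.f S.zero) = Δ.map 0 (kernel.ι R.π) := by
    apply Fork.IsLimit.hom_ext hi
    rw [Fork.IsLimit.lift_ι]
    exact Δ.map_d0 R
  obtain ⟨w₃, h₃⟩ := Δ.exact₃ R.S₀ R.S₀_shortExact 0
  haveI : Epi (Δ.δ R.S₀ R.S₀_shortExact 0) := Δ.epi_δ R.S₀ R.S₀_shortExact 0 h
  have wπ : hi.lift (KernelFork.ofι S.f S.zero) ≫ Δ.δ R.S₀ R.S₀_shortExact 0 = 0 := by
    rw [hlift]
    exact w₃
  haveI : Epi (ShortComplex.mk _ _ w₃).g := inferInstanceAs (Epi (Δ.δ R.S₀ R.S₀_shortExact 0))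
  have hπ : IsColimit (CokernelCofork.ofπ (Δ.δ R.S₀ R.S₀_shortExact 0) wπ) :=
    isColimit_of_eq hlift.symm w₃ wπ h₃.gIsCokernel
  let hd : S.LeftHomologyData :=
    { K := Δ.E 0 (kernel R.π)
      H := Δ.E 1 F
      i := Δ.map 0 R.π'
      π := Δ.δ R.S₀ R.S₀_shortExact 0
      wi := Δ.map_π_d0 R.shift
      hi := hi
      wπ := wπ
      hπ := hπ }
  exact ⟨hd.homologyIso⟩

/-- the higher cohomology of `E⁰` of an acyclic resolution computes `Eⁱ⁺¹ F`. -/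
theorem homology_succ (i : ℕ) : ∀ {F : 𝒜} (R : Resn F)
    (_ : ∀ (j p : ℕ), 1 ≤ p → IsZero (Δ.E p (R.X j)))
    (w : Δ.map 0 (R.d i) ≫ Δ.map 0 (R.d (i + 1)) = 0),
    Nonempty ((ShortComplex.mk _ _ w).homology ≅ Δ.E (i + 1) F) := by
  induction i with
  | zero =>
    intro F R h w
    exact Δ.homology_one R (h 0 1 le_rfl) w
  | succ i ih =>
    intro F R h w
    obtain ⟨e⟩ := ih R.shift (fun j p hp => h (j + 1) p hp) w
    have hiso := Δ.isIso_δ R.S₀ R.S₀_shortExact (i + 1) (h 0 (i + 1) (by omega))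
      (h 0 (i + 1 + 1) (by omega))
    exact ⟨e ≪≫ @asIso _ _ _ _ (Δ.δ R.S₀ R.S₀_shortExact (i + 1)) hiso⟩

end CoDelta

/-! ### resolutions from chain complexes, comparison with a cochain complex -/

section complexes

variable {F : 𝒜}

/-- the resolution attached to an augmented exact chain complex. -/
noncomputable def Resn.ofChainComplex (L : ChainComplex 𝒜 ℕ) (π : L.X 0 ⟶ F) [Epi π]
    (hπ : L.d 1 0 ≫ π = 0) (hex0 : (ShortComplex.mk (L.d 1 0) π hπ).Exact)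
    (hex : ∀ j : ℕ, L.ExactAt (j + 1)) : Resn F where
  X j := L.X j
  d j := L.d (j + 1) j
  π := π
  epi := inferInstance
  w₀ := hπ
  ex₀ := hex0
  w j := L.d_comp_d _ _ _
  ex j := (L.exactAt_iff' (j + 2) (j + 1) j (by simp) (by simp)).1 (hex j)

namespace CoDelta

variable (Δ : CoDelta 𝒜 𝒟) (R : Resn F)
  (C : CochainComplex 𝒟 ℕ) (e : ∀ j : ℕ, C.X j ≅ Δ.E 0 (R.X j))
  (hC : ∀ j : ℕ, C.d j (j + 1) ≫ (e (j + 1)).hom = (e j).hom ≫ Δ.map 0 (R.d j))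

include hC in
theorem map_d_d (i : ℕ) : Δ.map 0 (R.d i) ≫ Δ.map 0 (R.d (i + 1)) = 0 := by
  have h1 : Δ.map 0 (R.d i) = (e i).inv ≫ C.d i (i + 1) ≫ (e (i + 1)).hom := by
    rw [hC, Iso.inv_hom_id_assoc]
  have h2 : Δ.map 0 (R.d (i + 1)) = (e (i + 1)).inv ≫ C.d (i + 1) (i + 2) ≫ (e (i + 2)).hom := by
    rw [hC, Iso.inv_hom_id_assoc]
  rw [h1, h2]
  simp

include hC in
theorem homology_iso_succ (hacyc : ∀ (j p : ℕ), 1 ≤ p → IsZero (Δ.E p (R.X j))) (i : ℕ) :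
    Nonempty (C.homology (i + 1) ≅ Δ.E (i + 1) F) := by
  obtain ⟨e₂⟩ := Δ.homology_succ i R hacyc (map_d_d Δ R C e hC i)
  let e₀ : C.sc (i + 1) ≅ C.sc' i (i + 1) (i + 2) := C.isoSc' i (i + 1) (i + 2) (by simp) (by simp)
  let e₁ : C.sc' i (i + 1) (i + 2) ≅ ShortComplex.mk _ _ (map_d_d Δ R C e hC i) :=
    ShortComplex.isoMk (e i) (e (i + 1)) (e (i + 2)) (hC i).symm (hC (i + 1)).symm
  exact ⟨ShortComplex.homologyMapIso e₀ ≪≫ ShortComplex.homologyMapIso e₁ ≪≫ e₂⟩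

include hC in
theorem homology_iso_zero : Nonempty (C.homology 0 ≅ Δ.E 0 F) := by
  let S' : ShortComplex 𝒟 := ShortComplex.mk (0 : Δ.E 0 (R.X 0) ⟶ Δ.E 0 (R.X 0))
    (Δ.map 0 (R.d 0)) zero_comp
  let hd : S'.LeftHomologyData :=
    ShortComplex.LeftHomologyData.ofIsLimitKernelFork S' rfl _ (Δ.isKernel R)
  let e₀ : C.sc 0 ≅ C.sc' 0 0 1 := C.isoSc' 0 0 1 (by simp) (by simp)
  let e₁ : C.sc' 0 0 1 ≅ S' :=
    ShortComplex.isoMk (e 0) (e 0) (e 1) (by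
      dsimp only [HomologicalComplex.sc', HomologicalComplex.shortComplexFunctor']
      rw [C.shape 0 0 (by simp), zero_comp, comp_zero]) (hC 0).symm
  exact ⟨ShortComplex.homologyMapIso e₀ ≪≫ ShortComplex.homologyMapIso e₁ ≪≫ hd.homologyIso⟩

include hC in
/-- The cohomology of `E⁰` of an acyclic resolution computes `Eⁱ F`. -/
theorem homology_iso (hacyc : ∀ (j p : ℕ), 1 ≤ p → IsZero (Δ.E p (R.X j))) (i : ℕ) :
    Nonempty (C.homology i ≅ Δ.E i F) := by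
  cases i with
  | zero => exact homology_iso_zero Δ R C e hC
  | succ i => exact homology_iso_succ Δ R C e hC hacyc i

end CoDelta

end complexes

/-! ### closure properties of `E q`-acyclic objects -/

section closure

open ZeroObject

namespace CoDelta

variable (Δ : CoDelta 𝒜 𝒟)

theorem isZero_E_of_shortExact (S : ShortComplex 𝒜) (hS : S.ShortExact) (q : ℕ)
    (h₁ : IsZero (Δ.E q S.X₁)) (h₃ : IsZero (Δ.E q S.X₃)) : IsZero (Δ.E q S.X₂) := by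
  obtain ⟨w, hw⟩ := Δ.exact₂ S hS q
  exact hw.isZero_of_both_zeros (h₃.eq_of_src _ _) (h₁.eq_of_tgt _ _)

theorem isZero_E_of_isZero (Z : 𝒜) (hZ : IsZero Z) (q : ℕ) : IsZero (Δ.E q Z) := by
  have hS : (ShortComplex.mk (𝟙 Z) (𝟙 Z) (hZ.eq_of_src _ _)).ShortExact := by
    refine ShortComplex.ShortExact.mk' ?_ (inferInstanceAs (Mono (𝟙 Z)))
      (inferInstanceAs (Epi (𝟙 Z)))
    exact ShortComplex.exact_of_isZero_X₂ _ hZ
  obtain ⟨w, hw⟩ := Δ.exact₂ _ hS q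
  have h1 : Δ.map q (𝟙 Z) ≫ Δ.map q (𝟙 Z) = 0 := w
  have h2 : Δ.map q (𝟙 Z) = Δ.map q (𝟙 Z) ≫ Δ.map q (𝟙 Z) := by
    rw [← Δ.map_comp, Category.comp_id]
  have h3 : Δ.map q (𝟙 Z) = 0 := h2.trans h1
  exact hw.isZero_of_both_zeros h3 h3

theorem isZero_E_of_iso {M M' : 𝒜} (e : M ≅ M') (q : ℕ) (h : IsZero (Δ.E q M)) :
    IsZero (Δ.E q M') := by
  have hS : (ShortComplex.mk e.hom (0 : M' ⟶ 0) comp_zero).ShortExact := by
    refine ShortComplex.ShortExact.mk' ?_ (inferInstanceAs (Mono e.hom)) ?_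
    · exact (ShortComplex.exact_iff_epi _ rfl).2 (inferInstanceAs (Epi e.hom))
    · constructor
      intro W a b _
      exact (isZero_zero 𝒜).eq_of_src a b
  exact Δ.isZero_E_of_shortExact _ hS q h (Δ.isZero_E_of_isZero _ (isZero_zero 𝒜) q)

theorem isZero_E_biprod (A B : 𝒜) (q : ℕ) (hA : IsZero (Δ.E q A)) (hB : IsZero (Δ.E q B)) :
    IsZero (Δ.E q (A ⊞ B)) :=
  Δ.isZero_E_of_shortExact _ (ShortComplex.Splitting.ofHasBinaryBiproduct A B).shortExact q hA hB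

theorem isZero_sigma_of_isEmpty {ι : Type*} [IsEmpty ι] (f : ι → 𝒜) [HasCoproduct f] :
    IsZero (∐ f) := by
  rw [IsZero.iff_id_eq_zero]
  apply Sigma.hom_ext
  intro i
  exact isEmptyElim i

theorem isZero_E_sigma (q : ℕ) : ∀ (n : ℕ) (f : Fin n → 𝒜), (∀ i, IsZero (Δ.E q (f i))) →
    IsZero (Δ.E q (∐ f)) := by
  intro n
  induction n with
  | zero =>
    intro f _
    exact Δ.isZero_E_of_isZero _ (isZero_sigma_of_isEmpty f) q
  | succ n ih =>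
    intro f hf
    have h1 : IsZero (Δ.E q (∐ fun i : Fin n => f i.succ)) := ih _ (fun i => hf i.succ)
    have h2 : IsZero (Δ.E q (f 0 ⊞ ∐ fun i : Fin n => f i.succ)) :=
      Δ.isZero_E_biprod _ _ q (hf 0) h1
    have hc := extendCofanIsColimit f (colimit.isColimit (Discrete.functor fun i : Fin n => f i.succ))
      (coprodIsCoprod (f 0) (∐ fun i : Fin n => f i.succ))
    let e : (f 0 ⨿ ∐ fun i : Fin n => f i.succ) ≅ ∐ f :=
      hc.coconePointUniqueUpToIso (colimit.isColimit _)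
    exact Δ.isZero_E_of_iso ((biprod.isoCoprod _ _).symm.symm ≪≫ e) q h2

end CoDelta

end closure

end Groth.Agent.Lib.Helper21.CoDeltaLib
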