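import Mathlib

/-!
# The long exact sequence of right derived functors attached to a sequence of functors
which is short exact on injective objects (helper23)
-/

open CategoryTheory Limits

namespace Groth.Agent.Lib.Helper23DerLES

universe v v' u u'

variable {C : Type u} [Category.{v} C] [Abelian C]
  {D : Type u'} [Category.{v'} D] [Abelian D]
  {T' T T'' : C ⥤ D} [T'.Additive] [T.Additive] [T''.Additive]
  (α : T' ⟶ T) (β : T ⟶ T'') (w : α ≫ β = 0)

include w in
/-- the short complex of complexes `T' K ⟶ T K ⟶ T'' K`. -/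
@[simps]
noncomputable def scObj (K : CochainComplex C ℕ) : ShortComplex (CochainComplex D ℕ) :=
  ShortComplex.mk ((NatTrans.mapHomologicalComplex α (ComplexShape.up ℕ)).app K)
    ((NatTrans.mapHomologicalComplex β (ComplexShape.up ℕ)).app K) (by
      ext n
      have : α.app (K.X n) ≫ β.app (K.X n) = 0 := by
        rw [← NatTrans.comp_app, w]; rfl
      exact this)

/-- functoriality of `scObj`. -/
@[simps]
noncomputable def scMap {K L : CochainComplex C ℕ} (g : K ⟶ L) : scObj α β w K ⟶ scObj α β w L where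
  τ₁ := (T'.mapHomologicalComplex _).map g
  τ₂ := (T.mapHomologicalComplex _).map g
  τ₃ := (T''.mapHomologicalComplex _).map g
  comm₁₂ := (NatTrans.mapHomologicalComplex α (ComplexShape.up ℕ)).naturality g
  comm₂₃ := (NatTrans.mapHomologicalComplex β (ComplexShape.up ℕ)).naturality g

variable (hex : ∀ Q : C, Injective Q → (ShortComplex.mk (α.app Q) (β.app Q) (by
  rw [← NatTrans.comp_app, w]; rfl)).ShortExact)

include hex in
theorem scObj_shortExact (K : CochainComplex C ℕ) (hK : ∀ n, Injective (K.X n)) :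
    (scObj α β w K).ShortExact := by
  apply HomologicalComplex.shortExact_of_degreewise_shortExact
  intro n
  exact hex (K.X n) (hK n)

variable [HasInjectiveResolutions C]

theorem comp_aux2 {𝒞 : Type*} [Category 𝒞] {A B P Q R : 𝒞} (a : A ⟶ B) (b : B ⟶ P) (i : Q ≅ P)
    (d : P ⟶ R) : (a ≫ b ≫ i.inv) ≫ i.hom ≫ d = (a ≫ b) ≫ d := by
  simp

theorem comp_aux3 {𝒞 : Type*} [Category 𝒞] {A P Q R : 𝒞} (a : A ⟶ P) (d : P ⟶ R) (i : Q ≅ R) :
    (a ≫ d ≫ i.inv) ≫ i.hom = a ≫ d := by
  simp

theorem comp_aux4 {𝒞 : Type*} [Category 𝒞] [Limits.HasZeroMorphisms 𝒞] {A A' B B' P Q : 𝒞}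
    (z : A ⟶ A') (m : A' ⟶ B') (b : A ⟶ B) (z'' : B ⟶ B') (d : B' ⟶ P) (j : P ⟶ Q)
    (h1 : z ≫ m = b ≫ z'') (h2 : m ≫ d = 0) : b ≫ z'' ≫ d ≫ j = 0 := by
  rw [← reassoc_of% h1, reassoc_of% h2, zero_comp, comp_zero]

theorem comp_aux {𝒞 : Type*} [Category 𝒞] {A A' B B' P P' Q Q' : 𝒞} (a : A ⟶ A') (iJ : A' ⟶ P')
    (iI : A ⟶ P) (m'' : P ⟶ P') (δJ : P' ⟶ Q') (δI : P ⟶ Q) (m' : Q ⟶ Q') (jI : Q ⟶ B)
    (jJ : Q' ⟶ B') (b : B ⟶ B') (h1 : a ≫ iJ = iI ≫ m'') (h2 : jI ≫ b = m' ≫ jJ)
    (h3 : δI ≫ m' = m'' ≫ δJ) : a ≫ iJ ≫ δJ ≫ jJ = (iI ≫ δI ≫ jI) ≫ b := by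
  rw [reassoc_of% h1, Category.assoc, Category.assoc, h2, reassoc_of% h3]

include hex in
/-- the short exact sequence of complexes attached to an injective resolution. -/
theorem shortExact_of_resolution {X : C} (I : InjectiveResolution X) :
    (scObj α β w I.cocomplex).ShortExact :=
  scObj_shortExact α β w hex I.cocomplex (fun n => I.injective n)

/-- the connecting morphism for a given injective resolution. -/
noncomputable def δRes {X : C} (I : InjectiveResolution X) (n : ℕ) :
    (T''.rightDerived n).obj X ⟶ (T'.rightDerived (n + 1)).obj X :=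
  (I.isoRightDerivedObj T'' n).hom ≫
    (shortExact_of_resolution α β w hex I).δ n (n + 1) (by simp) ≫
    (I.isoRightDerivedObj T' (n + 1)).inv

theorem δRes_naturality {X Y : C} (f : X ⟶ Y) (I : InjectiveResolution X)
    (J : InjectiveResolution Y) (n : ℕ) :
    (T''.rightDerived n).map f ≫ δRes α β w hex J n =
      δRes α β w hex I n ≫ (T'.rightDerived (n + 1)).map f := by
  let φ : I.cocomplex ⟶ J.cocomplex := InjectiveResolution.desc f J I
  have comm : I.ι.f 0 ≫ φ.f 0 = f ≫ J.ι.f 0 := InjectiveResolution.desc_commutes_zero f J I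
  have h1 := InjectiveResolution.isoRightDerivedObj_hom_naturality f I J φ comm T'' n
  have h2 := InjectiveResolution.isoRightDerivedObj_inv_naturality f I J φ comm T' (n + 1)
  have h3 : (shortExact_of_resolution α β w hex I).δ n (n + 1) (by simp) ≫
      HomologicalComplex.homologyMap ((T'.mapHomologicalComplex _).map φ) (n + 1) =
      HomologicalComplex.homologyMap ((T''.mapHomologicalComplex _).map φ) n ≫
        (shortExact_of_resolution α β w hex J).δ n (n + 1) (by simp) :=
    HomologicalComplex.HomologySequence.δ_naturality (scMap α β w φ)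
      (shortExact_of_resolution α β w hex I) (shortExact_of_resolution α β w hex J) n (n + 1)
      (by simp)
  exact comp_aux _ _ _ _ _ _ _ _ _ _ h1 h2 h3

/-- the connecting natural transformation `Rⁿ T'' ⟶ Rⁿ⁺¹ T'`. -/
noncomputable def δ (n : ℕ) : T''.rightDerived n ⟶ T'.rightDerived (n + 1) where
  app X := δRes α β w hex (injectiveResolution X) n
  naturality _ _ f := δRes_naturality α β w hex f _ _ n

theorem isIso_δRes {X : C} (I : InjectiveResolution X) (n : ℕ)
    (h₁ : IsZero ((T.rightDerived n).obj X)) (h₂ : IsZero ((T.rightDerived (n + 1)).obj X)) :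
    IsIso (δRes α β w hex I n) := by
  have hi : IsZero ((scObj α β w I.cocomplex).X₂.homology n) :=
    IsZero.of_iso h₁ (I.isoRightDerivedObj T n).symm
  have hj : IsZero ((scObj α β w I.cocomplex).X₂.homology (n + 1)) :=
    IsZero.of_iso h₂ (I.isoRightDerivedObj T (n + 1)).symm
  have h := (shortExact_of_resolution α β w hex I).isIso_δ n (n + 1) (by simp) hi hj
  exact @IsIso.comp_isIso _ _ _ _ _ _ _ (Iso.isIso_hom _)
    (@IsIso.comp_isIso _ _ _ _ _ _ _ h (Iso.isIso_inv _))

/-- if `Rⁿ T` and `Rⁿ⁺¹ T` vanish, the connecting map `Rⁿ T'' ⟶ Rⁿ⁺¹ T'` is an isomorphism. -/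
theorem isIso_δ (n : ℕ) (h₁ : ∀ X, IsZero ((T.rightDerived n).obj X))
    (h₂ : ∀ X, IsZero ((T.rightDerived (n + 1)).obj X)) : IsIso (δ α β w hex n) := by
  have : ∀ X, IsIso ((δ α β w hex n).app X) := fun X =>
    isIso_δRes α β w hex (injectiveResolution X) n (h₁ X) (h₂ X)
  exact NatIso.isIso_of_isIso_app _

section Zero

/-- the isomorphism `F X ≅ H⁰(F I)` for a left exact functor `F`. -/
noncomputable def zeroIso (F : C ⥤ D) [F.Additive] [PreservesFiniteLimits F] {X : C}
    (I : InjectiveResolution X) :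
    F.obj X ≅ ((F.mapHomologicalComplex (ComplexShape.up ℕ)).obj I.cocomplex).homology 0 :=
  asIso (I.toRightDerivedZero' F) ≪≫ CochainComplex.isoHomologyπ₀ _

theorem toRightDerivedZero'_nat {F G : C ⥤ D} [F.Additive] [G.Additive] (θ : F ⟶ G) {X : C}
    (I : InjectiveResolution X) :
    I.toRightDerivedZero' F ≫ HomologicalComplex.cyclesMap
        ((NatTrans.mapHomologicalComplex θ (ComplexShape.up ℕ)).app I.cocomplex) 0 =
      θ.app X ≫ I.toRightDerivedZero' G := by
  rw [← cancel_mono (HomologicalComplex.iCycles _ _), Category.assoc, Category.assoc,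
    HomologicalComplex.cyclesMap_i, InjectiveResolution.toRightDerivedZero'_comp_iCycles_assoc,
    InjectiveResolution.toRightDerivedZero'_comp_iCycles]
  exact θ.naturality (I.ι.f 0)

@[reassoc]
theorem zeroIso_naturality {F G : C ⥤ D} [F.Additive] [G.Additive] [PreservesFiniteLimits F]
    [PreservesFiniteLimits G] (θ : F ⟶ G) {X : C} (I : InjectiveResolution X) :
    (zeroIso F I).hom ≫ HomologicalComplex.homologyMap
        ((NatTrans.mapHomologicalComplex θ (ComplexShape.up ℕ)).app I.cocomplex) 0 =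
      θ.app X ≫ (zeroIso G I).hom := by
  dsimp only [zeroIso, Iso.trans_hom, asIso_hom]
  rw [Category.assoc]
  erw [HomologicalComplex.homologyπ_naturality]
  rw [← Category.assoc, toRightDerivedZero'_nat, Category.assoc]
  rfl

variable [PreservesFiniteLimits T] [PreservesFiniteLimits T'']

/-- the map `T'' ⟶ R¹ T'`. -/
noncomputable def γ : T'' ⟶ T'.rightDerived 1 := T''.toRightDerivedZero ≫ δ α β w hex 0

theorem γ_app (X : C) : (γ α β w hex).app X =
    (zeroIso T'' (injectiveResolution X)).hom ≫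
      (shortExact_of_resolution α β w hex (injectiveResolution X)).δ 0 1 (by simp) ≫
      ((injectiveResolution X).isoRightDerivedObj T' 1).inv := by
  dsimp only [γ, NatTrans.comp_app, δ, δRes, zeroIso, Iso.trans_hom, asIso_hom]
  rw [(injectiveResolution X).toRightDerivedZero_eq T'']
  exact comp_aux2 _ _ _ _

theorem β_γ_app (X : C) : β.app X ≫ (γ α β w hex).app X = 0 := by
  rw [γ_app]
  exact comp_aux4 _ _ _ _ _ _ (zeroIso_naturality β (injectiveResolution X))
    ((shortExact_of_resolution α β w hex (injectiveResolution X)).comp_δ 0 1 (by simp))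

theorem β_γ : β ≫ γ α β w hex = 0 := by
  ext X
  exact β_γ_app α β w hex X

theorem exact_β_γ_app (X : C) :
    (ShortComplex.mk (β.app X) ((γ α β w hex).app X) (β_γ_app α β w hex X)).Exact := by
  let I := injectiveResolution X
  have hS := shortExact_of_resolution α β w hex I
  have h := hS.homology_exact₃ 0 1 (by simp)
  refine (ShortComplex.exact_iff_of_iso ?_).2 h
  refine ShortComplex.isoMk (zeroIso T I) (zeroIso T'' I) (I.isoRightDerivedObj T' 1) ?_ ?_
  · exact zeroIso_naturality β I
  · dsimp only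
    rw [γ_app]
    exact (comp_aux3 _ _ _).symm

theorem epi_γ_app (X : C) (h : IsZero ((T.rightDerived 1).obj X)) :
    Epi ((γ α β w hex).app X) := by
  let I := injectiveResolution X
  have hS := shortExact_of_resolution α β w hex I
  have hj : IsZero ((scObj α β w I.cocomplex).X₂.homology 1) :=
    IsZero.of_iso h (I.isoRightDerivedObj T 1).symm
  have h1 : Epi (hS.δ 0 1 (by simp)) := hS.epi_δ 0 1 (by simp) hj
  rw [γ_app]
  exact @epi_comp _ _ _ _ _ _ inferInstance _
    (@epi_comp _ _ _ _ _ _ h1 _ (@IsIso.epi_of_iso _ _ _ _ _ (Iso.isIso_inv _)))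

theorem isIso_cokernel_desc_app (X : C) (h : IsZero ((T.rightDerived 1).obj X)) :
    IsIso ((cokernel.desc β (γ α β w hex) (β_γ α β w hex)).app X) := by
  let G := (evaluation C D).obj X
  have hc₁ : IsColimit ((CokernelCofork.ofπ (cokernel.π β) (cokernel.condition β)).map G) :=
    CokernelCofork.mapIsColimit _ (cokernelIsCokernel β) G
  have : Epi ((γ α β w hex).app X) := epi_γ_app α β w hex X h
  have hc₂ : IsColimit (CokernelCofork.ofπ ((γ α β w hex).app X) (β_γ_app α β w hex X)) :=
    (exact_β_γ_app α β w hex X).gIsCokernel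
  let e := hc₁.coconePointUniqueUpToIso hc₂
  have he : e.hom = (cokernel.desc β (γ α β w hex) (β_γ α β w hex)).app X := by
    apply Cofork.IsColimit.hom_ext hc₁
    have h1 := IsColimit.comp_coconePointUniqueUpToIso_hom hc₁ hc₂ WalkingParallelPair.one
    refine h1.trans ?_
    have h2 : (cokernel.π β ≫ cokernel.desc β (γ α β w hex) (β_γ α β w hex)).app X =
        (γ α β w hex).app X := by rw [cokernel.π_desc]
    exact h2.symm
  rw [← he]
  exact Iso.isIso_hom e

/-- `R¹ T'` is the cokernel of `T ⟶ T''` when `T`, `T''` are left exact and `R¹ T = 0`. -/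
theorem isIso_cokernel_desc (h : ∀ X, IsZero ((T.rightDerived 1).obj X)) :
    IsIso (cokernel.desc β (γ α β w hex) (β_γ α β w hex)) := by
  have : ∀ X, IsIso ((cokernel.desc β (γ α β w hex) (β_γ α β w hex)).app X) := fun X =>
    isIso_cokernel_desc_app α β w hex X (h X)
  exact NatIso.isIso_of_isIso_app _

end Zero

end Groth.Agent.Lib.Helper23DerLES
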