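import Mathlib
import Groth.Agent.Lib.Helper23DerLES

/-!
# The full long exact sequence of right derived functors attached to a sequence of functors
which is short exact on injective objects, and conjugates of right exact sequences of left
adjoints (helper21)
-/

open CategoryTheory Limits

namespace Groth.Agent.Lib.Helper21.DerLES2

open Groth.Agent.Lib.Helper23DerLES

universe v v' u u'

section transport

variable {D : Type u'} [Category.{v'} D] [Abelian D]

theorem exact_conj {A₁ A₂ A₃ B₁ B₂ B₃ : D} (f : A₁ ⟶ A₂) (g : A₂ ⟶ A₃) (f' : B₁ ⟶ B₂)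
    (g' : B₂ ⟶ B₃) (e₁ : B₁ ≅ A₁) (e₂ : B₂ ≅ A₂) (e₃ : B₃ ≅ A₃)
    (hf : f' = e₁.hom ≫ f ≫ e₂.inv) (hg : g' = e₂.hom ≫ g ≫ e₃.inv) (w : f ≫ g = 0)
    (h : (ShortComplex.mk f g w).Exact) :
    ∃ w' : f' ≫ g' = 0, (ShortComplex.mk f' g' w').Exact := by
  have w' : f' ≫ g' = 0 := by
    rw [hf, hg]
    simp only [Category.assoc, Iso.inv_hom_id_assoc]
    rw [reassoc_of% w]
    simp
  refine ⟨w', (ShortComplex.exact_iff_of_iso ?_).2 h⟩
  refine ShortComplex.isoMk e₁ e₂ e₃ ?_ ?_
  · dsimp only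
    rw [hf]
    simp
  · dsimp only
    rw [hg]
    simp

end transport

variable {C : Type u} [Category.{v} C] [Abelian C]
  {D : Type u'} [Category.{v'} D] [Abelian D]
  {T' T T'' : C ⥤ D} [T'.Additive] [T.Additive] [T''.Additive]
  (α : T' ⟶ T) (β : T ⟶ T'') (w : α ≫ β = 0)
  (hex : ∀ Q : C, Injective Q → (ShortComplex.mk (α.app Q) (β.app Q) (by
    rw [← NatTrans.comp_app, w]; rfl)).ShortExact)
  [HasInjectiveResolutions C]

include hex in
theorem exact₂ (p : ℕ) (X : C) :
    ∃ w' : (NatTrans.rightDerived α p).app X ≫ (NatTrans.rightDerived β p).app X = 0,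
      (ShortComplex.mk _ _ w').Exact := by
  let I := injectiveResolution X
  have hS := shortExact_of_resolution α β w hex I
  exact exact_conj _ _ _ _ (I.isoRightDerivedObj T' p) (I.isoRightDerivedObj T p)
    (I.isoRightDerivedObj T'' p) (I.rightDerived_app_eq α p) (I.rightDerived_app_eq β p) _
    (hS.homology_exact₂ p)

theorem exact₃ (p : ℕ) (X : C) :
    ∃ w' : (NatTrans.rightDerived β p).app X ≫ δRes α β w hex (injectiveResolution X) p = 0,
      (ShortComplex.mk _ _ w').Exact := by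
  let I := injectiveResolution X
  have hS := shortExact_of_resolution α β w hex I
  exact exact_conj _ _ _ _ (I.isoRightDerivedObj T p) (I.isoRightDerivedObj T'' p)
    (I.isoRightDerivedObj T' (p + 1)) (I.rightDerived_app_eq β p) rfl _
    (hS.homology_exact₃ p (p + 1) (by simp))

theorem exact₁ (p : ℕ) (X : C) :
    ∃ w' : δRes α β w hex (injectiveResolution X) p ≫
        (NatTrans.rightDerived α (p + 1)).app X = 0,
      (ShortComplex.mk _ _ w').Exact := by
  let I := injectiveResolution X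
  have hS := shortExact_of_resolution α β w hex I
  exact exact_conj _ _ _ _ (I.isoRightDerivedObj T'' p) (I.isoRightDerivedObj T' (p + 1))
    (I.isoRightDerivedObj T (p + 1)) rfl (I.rightDerived_app_eq α (p + 1)) _
    (hS.homology_exact₁ p (p + 1) (by simp))

theorem mono_homologyMap_zero [PreservesFiniteLimits T'] [PreservesFiniteLimits T] {X : C}
    (I : InjectiveResolution X) (hα : Mono (α.app X)) :
    Mono (HomologicalComplex.homologyMap
      ((NatTrans.mapHomologicalComplex α (ComplexShape.up ℕ)).app I.cocomplex) 0) := by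
  have h := zeroIso_naturality α I
  have h2 : HomologicalComplex.homologyMap
      ((NatTrans.mapHomologicalComplex α (ComplexShape.up ℕ)).app I.cocomplex) 0 =
      (zeroIso T' I).inv ≫ α.app X ≫ (zeroIso T I).hom := by
    rw [← h, Iso.inv_hom_id_assoc]
  rw [h2]
  infer_instance

theorem mono_rightDerived_zero [PreservesFiniteLimits T'] [PreservesFiniteLimits T] (X : C)
    (hα : Mono (α.app X)) : Mono ((NatTrans.rightDerived α 0).app X) := by
  let I := injectiveResolution X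
  rw [I.rightDerived_app_eq α 0]
  haveI := mono_homologyMap_zero α I hα
  have : Mono ((HomologicalComplex.homologyFunctor D (ComplexShape.up ℕ) 0).map
      ((NatTrans.mapHomologicalComplex α (ComplexShape.up ℕ)).app I.cocomplex)) :=
    mono_homologyMap_zero α I hα
  infer_instance

include hex in
/-- The whole long exact sequence. -/
theorem les [PreservesFiniteLimits T'] [PreservesFiniteLimits T] (X : C)
    (hα : Mono (α.app X)) :
    Mono ((NatTrans.rightDerived α 0).app X) ∧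
    (∀ p : ℕ, ∃ w' : (NatTrans.rightDerived α p).app X ≫ (NatTrans.rightDerived β p).app X = 0,
      (ShortComplex.mk _ _ w').Exact) ∧
    ∃ δ : ∀ p : ℕ, (T''.rightDerived p).obj X ⟶ (T'.rightDerived (p + 1)).obj X,
      ∀ p : ℕ,
        (∃ w' : (NatTrans.rightDerived β p).app X ≫ δ p = 0, (ShortComplex.mk _ _ w').Exact) ∧
        (∃ w' : δ p ≫ (NatTrans.rightDerived α (p + 1)).app X = 0,
          (ShortComplex.mk _ _ w').Exact) :=
  ⟨mono_rightDerived_zero α X hα, fun p => exact₂ α β w hex p X,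
    fun p => δRes α β w hex (injectiveResolution X) p,
    fun p => ⟨exact₃ α β w hex p X, exact₁ α β w hex p X⟩⟩

/-! ### Conjugates -/

section conj

variable {𝒜 : Type*} {ℬ : Type*} [Category 𝒜] [Category ℬ]
  {L₁ L₂ : 𝒜 ⥤ ℬ} {R₁ R₂ : ℬ ⥤ 𝒜} (adj₁ : L₁ ⊣ R₁) (adj₂ : L₂ ⊣ R₂) (t : L₂ ⟶ L₁)

theorem homEquiv_symm_comp_conj {P : 𝒜} {Q : ℬ} (x : P ⟶ R₁.obj Q) :
    (adj₂.homEquiv P Q).symm (x ≫ (conjugateEquiv adj₁ adj₂ t).app Q) =
      t.app P ≫ (adj₁.homEquiv P Q).symm x := by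
  rw [Adjunction.homEquiv_symm_apply, Adjunction.homEquiv_symm_apply, Functor.map_comp,
    Category.assoc, conjugateEquiv_counit, ← Category.assoc, t.naturality, Category.assoc]

theorem comp_conj_eq {P : 𝒜} {Q : ℬ} (x : P ⟶ R₁.obj Q) :
    x ≫ (conjugateEquiv adj₁ adj₂ t).app Q =
      adj₂.homEquiv P Q (t.app P ≫ (adj₁.homEquiv P Q).symm x) := by
  rw [← homEquiv_symm_comp_conj, Equiv.apply_symm_apply]

end conj

section kernel

variable {𝒜 : Type*} {ℬ : Type*} [Category 𝒜] [Category ℬ] [Abelian 𝒜] [Abelian ℬ]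
  {L₁ L₂ L₃ : 𝒜 ⥤ ℬ} {R₁ R₂ R₃ : ℬ ⥤ 𝒜} (adj₁ : L₁ ⊣ R₁) (adj₂ : L₂ ⊣ R₂) (adj₃ : L₃ ⊣ R₃)
  (a : L₁ ⟶ L₂) (b : L₂ ⟶ L₃)

include adj₂ adj₃ in
theorem mono_conj_app (Q : ℬ) (hb : ∀ P : 𝒜, Epi (b.app P)) :
    Mono ((conjugateEquiv adj₃ adj₂ b).app Q) := by
  constructor
  intro P y₁ y₂ h
  have h1 := congrArg (adj₂.homEquiv P Q).symm h
  rw [homEquiv_symm_comp_conj, homEquiv_symm_comp_conj] at h1
  haveI := hb P
  rw [cancel_epi] at h1
  exact (adj₃.homEquiv P Q).symm.injective h1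

include adj₁ in
theorem symm_zero (P : 𝒜) (Q : ℬ) : (adj₁.homEquiv P Q).symm 0 = 0 := by
  haveI : L₁.IsLeftAdjoint := adj₁.isLeftAdjoint
  haveI : L₁.PreservesZeroMorphisms := Functor.preservesZeroMorphisms_of_isLeftAdjoint L₁
  simp [Adjunction.homEquiv_symm_apply]

theorem conj_comp_conj_app (Q : ℬ) (hab : ∀ P : 𝒜, a.app P ≫ b.app P = 0) :
    (conjugateEquiv adj₃ adj₂ b).app Q ≫ (conjugateEquiv adj₂ adj₁ a).app Q = 0 := by
  apply (adj₁.homEquiv _ Q).symm.injective
  rw [homEquiv_symm_comp_conj, Adjunction.homEquiv_symm_apply, conjugateEquiv_counit,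
    ← Category.assoc, hab, zero_comp, symm_zero]

theorem exact_conj_app (Q : ℬ) (hab : ∀ P : 𝒜, a.app P ≫ b.app P = 0)
    (hex : ∀ P : 𝒜, (ShortComplex.mk (a.app P) (b.app P) (hab P)).Exact)
    (hb : ∀ P : 𝒜, Epi (b.app P)) :
    (ShortComplex.mk ((conjugateEquiv adj₃ adj₂ b).app Q) ((conjugateEquiv adj₂ adj₁ a).app Q)
      (conj_comp_conj_app adj₁ adj₂ adj₃ a b Q hab)).Exact := by
  haveI := mono_conj_app adj₂ adj₃ b Q hb
  apply ShortComplex.exact_of_f_is_kernel
  refine KernelFork.IsLimit.ofι _ _ (fun {P} x hx => ?_) (fun {P} x hx => ?_)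
    (fun {P} x hx m hm => ?_)
  · haveI := hb P
    have h1 : a.app P ≫ (adj₂.homEquiv P Q).symm x = 0 := by
      rw [← homEquiv_symm_comp_conj]
      exact (congrArg _ hx).trans (symm_zero adj₁ P Q)
    exact adj₃.homEquiv P Q ((hex P).desc _ h1)
  · haveI := hb P
    apply (adj₂.homEquiv P Q).symm.injective
    rw [homEquiv_symm_comp_conj, Equiv.symm_apply_apply]
    exact (hex P).g_desc _ _
  · rw [← cancel_mono ((conjugateEquiv adj₃ adj₂ b).app Q), hm]
    haveI := hb P
    apply (adj₂.homEquiv P Q).symm.injective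
    rw [homEquiv_symm_comp_conj, Equiv.symm_apply_apply]
    exact ((hex P).g_desc _ _).symm

end kernel

end Groth.Agent.Lib.Helper21.DerLES2
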