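import Mathlib
import Groth.Prelude.Def_ModSite2
import Groth.Prelude.Def_ExtSupp
import Groth.Agent.Lib.Helper21GammaZNat0
import Groth.Agent.Lib.Helper21DerLES2

/-!
# Helper21: `ℋom(-, Q)` on short exact sequences (ringed sites)
-/

open CategoryTheory Opposite Limits

universe u

namespace Groth.Agent.Lib.Helper21.SheafHomLES

open Groth.Agent.Lib.Helper21.ModTensor2 Groth.Agent.Lib.Helper21.ModTensor3
  Groth.Agent.Lib.Helper21.ModTensor5 Groth.Agent.Lib.Helper21.FreeAb
  Groth.Agent.Lib.Helper21.GammaZ Groth.Agent.Lib.Helper21.DerLES2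
  Groth.Agent.Lib.Helper21.NullOn

variable {C : Type u} [SmallCategory C] {J : GrothendieckTopology C} (O : Sheaf J CommRingCat.{u})

theorem isFlat_OV (V : C) : ModSite.IsFlat (OV (O := O) V) := by
  apply isFlat_shf_of_flat
  intro X
  haveI : Module.Flat ℤ ((P₀ V).obj X) := by
    haveI : Module.Free ℤ (FreeAbelianGroup (X.unop ⟶ V)) :=
      Module.Free.of_basis (FreeAbelianGroup.basis _)
    exact inferInstanceAs (Module.Flat ℤ (FreeAbelianGroup (X.unop ⟶ V)))
  exact Module.Flat.baseChange ℤ (O.obj.obj X) ((P₀ V).obj X)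

theorem mono_tL_map_of_isFlat (P : ModSite.Mod O) (hP : ModSite.IsFlat P) {A B : ModSite.Mod O}
    (f : A ⟶ B) [Mono f] : Mono ((tL O P).map f) := by
  haveI : PreservesFiniteLimits (tR O P) := (isFlat_iff O P).1 hP
  haveI : Mono ((tR O P).map f) := inferInstance
  have h := (brd O).hom.app P |>.naturality f
  -- (tL P).map f ≫ brd_B = brd_A ≫ (tR P).map f
  have h2 : (tL O P).map f = ((brd O).hom.app P).app A ≫ (tR O P).map f ≫
      ((brd O).inv.app P).app B := by
    have h3 : ((brd O).hom.app P).app B ≫ ((brd O).inv.app P).app B = 𝟙 _ := by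
      rw [← NatTrans.comp_app, ← NatTrans.comp_app, Iso.hom_inv_id]
      rfl
    rw [← Category.assoc, ← h, Category.assoc, h3, Category.comp_id]
  rw [h2]
  haveI : IsIso (((brd O).hom.app P).app A) := inferInstance
  haveI : IsIso (((brd O).inv.app P).app B) := inferInstance
  infer_instance

variable {O}

section

variable (S : ShortComplex (ModSite.Mod O)) (hS : S.ShortExact)
  [ModSite.HasSheafHom S.X₁] [ModSite.HasSheafHom S.X₂] [ModSite.HasSheafHom S.X₃]

theorem flip_map_comp (P : ModSite.Mod O) :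
    ((ModSite.tensorBi O).flip.map S.f).app P ≫ ((ModSite.tensorBi O).flip.map S.g).app P = 0 := by
  rw [← NatTrans.comp_app, ← Functor.map_comp, S.zero, Functor.map_zero]
  rfl

include hS in
theorem flip_exact (P : ModSite.Mod O) :
    (ShortComplex.mk _ _ (flip_map_comp S P)).Exact ∧
      Epi (((ModSite.tensorBi O).flip.map S.g).app P) :=
  FlatCalc.exact_and_epi_of_rightExact (tL O P) S hS

include hS in
theorem mono_sheafHomMap_g (Q : ModSite.Mod O) : Mono ((ExtSupp.sheafHomMap S.g).app Q) :=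
  mono_conj_app (ModSite.sheafHomAdj S.X₂) (ModSite.sheafHomAdj S.X₃) _ Q
    (fun P => (flip_exact S hS P).2)

theorem sheafHomMap_comp (Q : ModSite.Mod O) :
    (ExtSupp.sheafHomMap S.g).app Q ≫ (ExtSupp.sheafHomMap S.f).app Q = 0 :=
  conj_comp_conj_app (ModSite.sheafHomAdj S.X₁) (ModSite.sheafHomAdj S.X₂)
    (ModSite.sheafHomAdj S.X₃) _ _ Q (flip_map_comp S)

include hS in
theorem sheafHomMap_exact (Q : ModSite.Mod O) :
    (ShortComplex.mk _ _ (sheafHomMap_comp S Q)).Exact :=
  exact_conj_app (ModSite.sheafHomAdj S.X₁) (ModSite.sheafHomAdj S.X₂)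
    (ModSite.sheafHomAdj S.X₃) _ _ Q (flip_map_comp S) (fun P => (flip_exact S hS P).1)
    (fun P => (flip_exact S hS P).2)

include hS in
theorem sheafHomMap_f_surjective (Q : ModSite.Mod O) [Injective Q] (V : C) :
    Function.Surjective (((ExtSupp.sheafHomMap S.f).app Q).val.app (op V)).hom := by
  intro σ
  haveI := hS.mono_f
  let P := OV (O := O) V
  let x : P ⟶ (ModSite.sheafHom S.X₁).obj Q := gσ _ V σ
  let x' := ((ModSite.sheafHomAdj S.X₁).homEquiv P Q).symm x
  haveI : Mono (((ModSite.tensorBi O).flip.map S.f).app P) :=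
    mono_tL_map_of_isFlat O P (isFlat_OV O V) S.f
  let y' := Injective.factorThru x' (((ModSite.tensorBi O).flip.map S.f).app P)
  have hy' : ((ModSite.tensorBi O).flip.map S.f).app P ≫ y' = x' := Injective.comp_factorThru _ _
  let y := (ModSite.sheafHomAdj S.X₂).homEquiv P Q y'
  have hy : y ≫ (ExtSupp.sheafHomMap S.f).app Q = x := by
    apply ((ModSite.sheafHomAdj S.X₁).homEquiv P Q).symm.injective
    rw [homEquiv_symm_comp_conj, Equiv.symm_apply_apply]
    exact hy'
  refine ⟨sec V y, ?_⟩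
  rw [← sec_comp, hy]
  exact sec_gσ _ V σ

end

end Groth.Agent.Lib.Helper21.SheafHomLES
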