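import Mathlib
import Groth.Agent.Lib.Helper21SheafHomLES
import Groth.Agent.Lib.Helper21CoDelta

/-!
# Helper21: relative Ext sheaves `Ext^p_f(M, G) = R^p(f_* ℋom(M, -))(G)` as a contravariant
δ-functor in `M`
-/

set_option autoImplicit false

universe u

open CategoryTheory CategoryTheory.Limits AlgebraicGeometry

namespace Groth.Agent.Lib.Helper21.RelExt

open Groth.Agent.Lib.Helper21.SheafHomLES Groth.Agent.Lib.Helper21.DerLES2
  Groth.Agent.Lib.Helper21.GammaZ Groth.Agent.Lib.Helper21.CoDeltaLib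
  Groth.Agent.Lib.Helper21.ModTensor3 Groth.Agent.Lib.Helper23DerLES

/-- the pushforward, typed on `ModSite.Mod`. -/
noncomputable abbrev pf {X Y : Scheme.{u}} (f : X ⟶ Y) : ModSite.Mod X.sheaf ⥤ Y.Modules :=
  Scheme.Modules.pushforward f

/-- the pullback, typed on `ModSite.Mod`. -/
noncomputable abbrev pb {X Y : Scheme.{u}} (f : X ⟶ Y) : Y.Modules ⥤ ModSite.Mod X.sheaf :=
  Scheme.Modules.pullback f

noncomputable def pbpfAdj {X Y : Scheme.{u}} (f : X ⟶ Y) : pb f ⊣ pf f :=
  Scheme.Modules.pullbackPushforwardAdjunction f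

theorem pf_preservesFiniteLimits {X Y : Scheme.{u}} (f : X ⟶ Y) :
    PreservesFiniteLimits (pf f) := by
  haveI : PreservesLimitsOfSize.{0, 0} (pf f) := (pbpfAdj f).rightAdjoint_preservesLimits
  exact PreservesLimitsOfSize.preservesFiniteLimits.{0, 0} _

theorem pf_additive {X Y : Scheme.{u}} (f : X ⟶ Y) : (pf f).Additive := by
  haveI := pf_preservesFiniteLimits f
  haveI : (pf f).IsRightAdjoint := (pbpfAdj f).isRightAdjoint
  haveI : (pf f).PreservesZeroMorphisms := Functor.preservesZeroMorphisms_of_isRightAdjoint (pf f)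
  exact Functor.additive_of_preserves_binary_products _

theorem sheafHom_preservesFiniteLimits {X : Scheme.{u}} (M : ModSite.Mod X.sheaf)
    [ModSite.HasSheafHom (O := X.sheaf) M] :
    PreservesFiniteLimits (ModSite.sheafHom (O := X.sheaf) M) := by
  haveI : PreservesLimitsOfSize.{0, 0} (ModSite.sheafHom (O := X.sheaf) M) :=
    (ModSite.sheafHomAdj (O := X.sheaf) M).rightAdjoint_preservesLimits
  exact PreservesLimitsOfSize.preservesFiniteLimits.{0, 0} _

theorem epi_pf_map {X Y : Scheme.{u}} (f : X ⟶ Y) {M N : ModSite.Mod X.sheaf} (φ : M ⟶ N)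
    (h : ∀ V : X.Opens, Function.Surjective (φ.val.app (Opposite.op V)).hom) :
    Epi ((pf f).map φ) := by
  apply epi_of_surjective_app (R := Y.ringCatSheaf)
  intro W
  exact h (f ⁻¹ᵁ W.unop)

theorem map_comp_eq_zero {C D : Type*} [Category C] [Category D] [Limits.HasZeroMorphisms C]
    [Limits.HasZeroMorphisms D] (F : C ⥤ D) [F.PreservesZeroMorphisms] {A B E : C} (a : A ⟶ B)
    (b : B ⟶ E) (h : a ≫ b = 0) : F.map a ≫ F.map b = 0 := by
  rw [← Functor.map_comp, h, Functor.map_zero]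

theorem main {X Y : Scheme.{u}} (f : X ⟶ Y) (S : ShortComplex (ModSite.Mod X.sheaf))
    (hS : S.ShortExact) (G : ModSite.Mod X.sheaf)
    [ModSite.HasSheafHom (O := X.sheaf) S.X₁] [ModSite.HasSheafHom (O := X.sheaf) S.X₂]
    [ModSite.HasSheafHom (O := X.sheaf) S.X₃]
    [HasInjectiveResolutions (ModSite.Mod X.sheaf)]
    [(ModSite.sheafHom (O := X.sheaf) S.X₁ ⋙ pf f).Additive]
    [(ModSite.sheafHom (O := X.sheaf) S.X₂ ⋙ pf f).Additive]
    [(ModSite.sheafHom (O := X.sheaf) S.X₃ ⋙ pf f).Additive] :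
    Mono ((NatTrans.rightDerived (Functor.whiskerRight (ExtSupp.sheafHomMap (O := X.sheaf) S.g) (pf f)) 0).app G) ∧
    (∀ p : ℕ, ∃ w : (NatTrans.rightDerived (Functor.whiskerRight (ExtSupp.sheafHomMap (O := X.sheaf) S.g) (pf f)) p).app G ≫ (NatTrans.rightDerived (Functor.whiskerRight (ExtSupp.sheafHomMap (O := X.sheaf) S.f) (pf f)) p).app G = 0,
      (ShortComplex.mk _ _ w).Exact) ∧
    ∃ δ : ∀ p : ℕ, ((ModSite.sheafHom (O := X.sheaf) S.X₁ ⋙ pf f).rightDerived p).obj G ⟶ ((ModSite.sheafHom (O := X.sheaf) S.X₃ ⋙ pf f).rightDerived (p + 1)).obj G,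
      ∀ p : ℕ,
        (∃ w : (NatTrans.rightDerived (Functor.whiskerRight (ExtSupp.sheafHomMap (O := X.sheaf) S.f) (pf f)) p).app G ≫ δ p = 0, (ShortComplex.mk _ _ w).Exact) ∧
        (∃ w : δ p ≫ (NatTrans.rightDerived (Functor.whiskerRight (ExtSupp.sheafHomMap (O := X.sheaf) S.g) (pf f)) (p + 1)).app G = 0, (ShortComplex.mk _ _ w).Exact) := by
  haveI := pf_preservesFiniteLimits f
  haveI := sheafHom_preservesFiniteLimits S.X₃
  haveI := sheafHom_preservesFiniteLimits S.X₂
  haveI : (pf f).PreservesZeroMorphisms := by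
    haveI : (pf f).IsRightAdjoint := (pbpfAdj f).isRightAdjoint
    exact Functor.preservesZeroMorphisms_of_isRightAdjoint (pf f)
  let α := Functor.whiskerRight (ExtSupp.sheafHomMap (O := X.sheaf) S.g) (pf f)
  let β := Functor.whiskerRight (ExtSupp.sheafHomMap (O := X.sheaf) S.f) (pf f)
  have w : α ≫ β = 0 := by
    ext Q : 2
    exact map_comp_eq_zero (pf f) _ _ (sheafHomMap_comp (O := X.sheaf) S Q)
  have hmono : ∀ Q : ModSite.Mod X.sheaf, Mono (α.app Q) := by
    intro Q
    haveI := mono_sheafHomMap_g (O := X.sheaf) S hS Q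
    change Mono ((pf f).map ((ExtSupp.sheafHomMap (O := X.sheaf) S.g).app Q))
    infer_instance
  have hex : ∀ Q : ModSite.Mod X.sheaf, Injective Q → (ShortComplex.mk (α.app Q) (β.app Q) (by
      rw [← NatTrans.comp_app, w]; rfl)).ShortExact := by
    intro Q hQ
    haveI := mono_sheafHomMap_g (O := X.sheaf) S hS Q
    refine ShortComplex.ShortExact.mk' ?_ (hmono Q) ?_
    · exact (sheafHomMap_exact (O := X.sheaf) S hS Q).map_of_mono_of_preservesKernel
        (pf f) inferInstance inferInstance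
    · exact epi_pf_map f _ (fun V => sheafHomMap_f_surjective (O := X.sheaf) S hS Q V)
  exact les α β w hex G (hmono G)

/-! ### the δ-functor -/

section delta

variable {X Y : Scheme.{u}} (f : X ⟶ Y)

theorem hasSheafHom (M : ModSite.Mod X.sheaf) : ModSite.HasSheafHom (O := X.sheaf) M :=
  tR_isLeftAdjoint X.sheaf M

attribute [local instance] hasSheafHom

/-- `f_* ℋom(M, -)`. -/
noncomputable abbrev T (M : ModSite.Mod X.sheaf) : ModSite.Mod X.sheaf ⥤ Y.Modules :=
  ModSite.sheafHom (O := X.sheaf) M ⋙ pf f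

theorem T_preservesFiniteLimits (M : ModSite.Mod X.sheaf) : PreservesFiniteLimits (T f M) := by
  haveI := pf_preservesFiniteLimits f
  haveI := sheafHom_preservesFiniteLimits M
  exact comp_preservesFiniteLimits _ _

theorem T_additive (M : ModSite.Mod X.sheaf) : (T f M).Additive := by
  haveI := pf_additive f
  infer_instance

attribute [local instance] T_preservesFiniteLimits T_additive

/-- contravariance of `T`. -/
noncomputable abbrev Tmap {M M' : ModSite.Mod X.sheaf} (u : M' ⟶ M) : T f M ⟶ T f M' :=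
  Functor.whiskerRight (ExtSupp.sheafHomMap (O := X.sheaf) u) (pf f)

theorem sheafHomMap_comp' {M M' M'' : ModSite.Mod X.sheaf} (u : M'' ⟶ M') (v : M' ⟶ M) :
    ExtSupp.sheafHomMap (O := X.sheaf) (u ≫ v) =
      ExtSupp.sheafHomMap (O := X.sheaf) v ≫ ExtSupp.sheafHomMap (O := X.sheaf) u := by
  unfold ExtSupp.sheafHomMap
  rw [conjugateEquiv_comp, Functor.map_comp]

theorem Tmap_comp {M M' M'' : ModSite.Mod X.sheaf} (u : M'' ⟶ M') (v : M' ⟶ M) :
    Tmap f (u ≫ v) = Tmap f v ≫ Tmap f u := by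
  unfold Tmap
  rw [sheafHomMap_comp', Functor.whiskerRight_comp]

variable [HasInjectiveResolutions (ModSite.Mod X.sheaf)] (G : ModSite.Mod X.sheaf)

/-- the relative Ext sheaves as a contravariant δ-functor. -/
noncomputable def relExtDelta : CoDelta (ModSite.Mod X.sheaf) Y.Modules where
  E p M := ((T f M).rightDerived p).obj G
  map p {_ _} u := (NatTrans.rightDerived (Tmap f u) p).app G
  map_comp p {_ _ _} u v := by
    rw [Tmap_comp, NatTrans.rightDerived_comp, NatTrans.comp_app]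
  mono_zero S hS := (main f S hS G).1
  exact₂ S hS := (main f S hS G).2.1
  δ S hS := Classical.choose (main f S hS G).2.2
  exact₃ S hS p := ((Classical.choose_spec (main f S hS G).2.2) p).1
  exact₁ S hS p := ((Classical.choose_spec (main f S hS G).2.2) p).2

theorem cancel_aux {𝒞 : Type*} [Category 𝒞] {A B P Q R : 𝒞} (z : A ⟶ B) (i : P ≅ B) (m : B ⟶ Q)
    (j : Q ⟶ R) : z ≫ m ≫ j = z ≫ i.inv ≫ i.hom ≫ m ≫ j := by
  simp

theorem toRightDerivedZero_nat {C D : Type*} [Category C] [Category D] [Abelian C] [Abelian D]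
    [HasInjectiveResolutions C] {F F' : C ⥤ D} [F.Additive] [F'.Additive]
    [PreservesFiniteLimits F] [PreservesFiniteLimits F'] (θ : F ⟶ F') (A : C) :
    θ.app A ≫ F'.toRightDerivedZero.app A =
      F.toRightDerivedZero.app A ≫ (NatTrans.rightDerived θ 0).app A := by
  let I := injectiveResolution A
  have h1 : F.toRightDerivedZero.app A = (zeroIso F I).hom ≫ (I.isoRightDerivedObj F 0).inv := by
    rw [I.toRightDerivedZero_eq F]
    simp [zeroIso]
  have h2 : F'.toRightDerivedZero.app A = (zeroIso F' I).hom ≫ (I.isoRightDerivedObj F' 0).inv := by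
    rw [I.toRightDerivedZero_eq F']
    simp [zeroIso]
  rw [h1, h2, I.rightDerived_app_eq θ 0, ← zeroIso_naturality_assoc]
  simp only [Category.assoc]
  exact cancel_aux _ _ _ _

/-- Acyclic left resolutions compute the relative Ext sheaves (S16286). -/
theorem homology_iso (F : ModSite.Mod X.sheaf)
    (L : ChainComplex (ModSite.Mod X.sheaf) ℕ) (π : L.X 0 ⟶ F) [Epi π] (hπ : L.d 1 0 ≫ π = 0)
    (hex0 : (ShortComplex.mk (L.d 1 0) π hπ).Exact) (hex : ∀ j : ℕ, L.ExactAt (j + 1))
    (hL : ∀ (j : ℕ) (p : ℕ), 1 ≤ p → IsZero (((T f (L.X j)).rightDerived p).obj G))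
    (C : CochainComplex Y.Modules ℕ)
    (e : ∀ j : ℕ, C.X j ≅ (T f (L.X j)).obj G)
    (hC : ∀ j : ℕ, C.d j (j + 1) ≫ (e (j + 1)).hom =
      (e j).hom ≫ (Tmap f (L.d (j + 1) j)).app G)
    (i : ℕ) :
    Nonempty (C.homology i ≅ ((T f F).rightDerived i).obj G) := by
  let R : Resn F := Resn.ofChainComplex L π hπ hex0 hex
  let Δ := relExtDelta f G
  have hiso : ∀ j : ℕ, IsIso ((T f (L.X j)).toRightDerivedZero.app G) := fun j => by
    haveI := T_preservesFiniteLimits f (L.X j)
    infer_instance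
  let e' : ∀ j : ℕ, C.X j ≅ Δ.E 0 (R.X j) := fun j =>
    e j ≪≫ @asIso _ _ _ _ ((T f (L.X j)).toRightDerivedZero.app G) (hiso j)
  have hC' : ∀ j : ℕ, C.d j (j + 1) ≫ (e' (j + 1)).hom = (e' j).hom ≫ Δ.map 0 (R.d j) := by
    intro j
    dsimp only [e', Iso.trans_hom, asIso_hom]
    rw [← Category.assoc, hC j, Category.assoc, Category.assoc]
    congr 1
    exact toRightDerivedZero_nat (Tmap f (L.d (j + 1) j)) G
  exact CoDelta.homology_iso Δ R C e' hC' (fun j p hp => hL j p hp) i

end delta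

end Groth.Agent.Lib.Helper21.RelExt
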