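import Mathlib
import Groth.Agent.Lib.Helper21RelExt
import Groth.Agent.Lib.Helper21Flasque
import Groth.Agent.Lib.Helper23ModAbBridge
import Groth.Agent.Lib.Helper16Flasque
import Groth.Agent.S6150

/-!
# Helper21: `f_* ℋom(F, Q)` is `g_*`-acyclic for injective `Q`
-/

set_option autoImplicit false

universe u

open CategoryTheory CategoryTheory.Limits AlgebraicGeometry Opposite TopologicalSpace

namespace Groth.Agent.Lib.Helper21.RelExtSS

open Groth.Agent.Lib.Helper21.RelExt Groth.Agent.Lib.Helper21.Flasque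
  Groth.Agent.Lib.Helper23.ModAbBridge Groth.Agent.Lib.Helper23.AffVanish

/-- totally acyclic sheaves on a space are flasque. -/
theorem isFlasque_of_isTotallyAcyclic {X : TopCat.{u}} (B : CohTop.Ab X)
    (hB : CohCx.IsTotallyAcyclic B) : TopCat.Sheaf.IsFlasque B := by
  constructor
  intro U V i
  rw [AddCommGrpCat.epi_iff_surjective]
  intro s
  have h : V.unop ≤ U.unop := i.unop.le
  let S : Sieve U.unop :=
    { arrows := fun W _ => W ≤ V.unop
      downward_closed := fun hf g => le_trans g.le hf }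
  let x : S.functor ⟶ B.obj ⋙ forget AddCommGrpCat.{u} :=
    { app := fun W => TypeCat.ofHom (fun p => B.obj.map (homOfLE p.2).op s)
      naturality := by
        intro W W' g
        ext p
        change B.obj.map (homOfLE _).op s = B.obj.map g (B.obj.map (homOfLE _).op s)
        rw [← ConcreteCategory.comp_apply, ← Functor.map_comp]
        rfl }
  obtain ⟨ρ, hρ⟩ := exists_section_extending B hB S x
  refine ⟨ρ, ?_⟩
  have h1 := hρ V.unop (homOfLE h) (le_refl _)
  have h2 : B.obj.map (homOfLE h).op ρ = s := by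
    rw [h1]
    change B.obj.map (homOfLE _).op s = s
    have : (homOfLE (le_refl V.unop)).op = 𝟙 V := rfl
    rw [this, B.obj.map_id]
    rfl
  have h3 : i = (homOfLE h).op := Subsingleton.elim _ _
  rw [h3]
  exact h2

theorem isZero_of_isZero_toAb {Z : Scheme.{u}} (M : Z.Modules) (h : IsZero (Coh.toAb M)) :
    IsZero M := by
  rw [IsZero.iff_id_eq_zero]
  have h2 : (SheafOfModules.toSheaf Z.ringCatSheaf).map (𝟙 M) =
      (SheafOfModules.toSheaf Z.ringCatSheaf).map 0 := h.eq_of_src _ _
  exact (SheafOfModules.toSheaf Z.ringCatSheaf).map_injective h2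

/-- flasque modules are acyclic for direct images. -/
theorem isZero_Rpush_of_isFlasque {Y Z : Scheme.{u}} (g : Y ⟶ Z) [HasInjectiveResolutions Y.Modules]
    (M : Y.Modules) (hM : TopCat.Sheaf.IsFlasque (Coh.toAb M)) (q : ℕ) :
    IsZero ((Coh.Rpush g (q + 1)).obj M) := by
  apply isZero_of_isZero_toAb
  obtain ⟨e⟩ := nonempty_toAb_Rpush_iso g M (q + 1)
  refine IsZero.of_iso ?_ e
  refine isZero_Rpush_of_basis g.base Set.univ ?_ (Coh.toAb M) ?_ q
  · rw [Opens.isBasis_iff_nbhd]
    intro U x hx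
    exact ⟨U, trivial, hx, le_rfl⟩
  · intro V _ i
    exact Groth.Agent.Lib.Helper16.Flasque.HU_subsingleton (Coh.toAb M) _ i

/-- `f_* ℋom(F, Q)` is flasque for injective `Q`. -/
theorem isFlasque_T {X Y : Scheme.{u}} (f : X ⟶ Y) (F Q : ModSite.Mod X.sheaf)
    [ModSite.HasSheafHom (O := X.sheaf) F] [Injective Q] :
    TopCat.Sheaf.IsFlasque (Coh.toAb ((pf f).obj ((ModSite.sheafHom (O := X.sheaf) F).obj Q))) := by
  have h1 : CohCx.IsTotallyAcyclic
      (ModSite.toAb ((ModSite.sheafHom (O := X.sheaf) F).obj Q)) :=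
    Groth.Agent.S6150.result X.sheaf F Q
  haveI := isFlasque_of_isTotallyAcyclic _ h1
  exact TopCat.Sheaf.IsFlasque.pushforward_isFlasque
    (ModSite.toAb ((ModSite.sheafHom (O := X.sheaf) F).obj Q)) f.base

end Groth.Agent.Lib.Helper21.RelExtSS
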