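import Mathlib
import Groth.Agent.Lib.Helper17FinCore
import Groth.Agent.Lib.Helper17FinProjLoc
import Groth.Agent.Lib.Helper18Ann2
import Groth.Agent.Lib.Helper1ProperOver
import Groth.Agent.Lib.Helper23ModAbBridge
import Groth.Agent.Lib.Helper23DerComp
import Groth.Agent.Lib.Helper16ClosedEmb
import Groth.Agent.Lib.Helper21RelExtSS
import Groth.Agent.S0786

set_option backward.isDefEq.respectTransparency.types false
set_option linter.style.haveILetI false
set_option maxHeartbeats 400000
set_option autoImplicit false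

universe u
open CategoryTheory Limits AlgebraicGeometry Opposite TopologicalSpace

namespace Groth.Agent.Lib.Helper1.RpushCl

local instance (X : Scheme.{u}) : EnoughInjectives X.Modules :=
  Groth.Agent.Lib.Helper17.QCPush.enoughInjectives X

open Groth.Agent.Lib.Helper21 Groth.Agent.Lib.Helper16.ClosedEmb

/-- `i_*` of an injective module along a closed immersion is acyclic for `f_*`. -/
theorem isZero_Rpush_push_injective {Z X S : Scheme.{u}} (i : Z ⟶ X) [IsClosedImmersion i]
    (f : X ⟶ S) (I : Z.Modules) [hI : Injective I] (q : ℕ) :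
    IsZero ((Coh.Rpush f (q + 1)).obj ((Scheme.Modules.pushforward i).obj I)) := by
  apply Groth.Agent.Lib.Helper21.RelExtSS.isZero_of_isZero_toAb
  obtain ⟨e⟩ := Groth.Agent.Lib.Helper23.ModAbBridge.nonempty_toAb_Rpush_iso f
    ((Scheme.Modules.pushforward i).obj I) (q + 1)
  refine IsZero.of_iso ?_ e
  haveI : PreservesFiniteColimits (Coh.pushAb i) :=
    push_preservesFiniteColimits i.base i.isClosedEmbedding
  haveI : PreservesFiniteLimits (Coh.pushAb i) := push_preservesFiniteLimits i.base
  haveI : (Coh.pushAb i).PreservesInjectiveObjects := push_preservesInjectiveObjects i.base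
  haveI : (Coh.pushAb i).PreservesHomology := inferInstance
  have e1 := (Groth.Agent.Lib.Helper23DerComp.compIso (Coh.pushAb i) (Coh.pushAb f) (q + 1)).app
    (Coh.toAb I)
  let e0 : Coh.pushAb i ⋙ Coh.pushAb f ≅ Coh.pushAb (i ≫ f) := Iso.refl _
  have e2 := (DerPost.natIsoRightDerived e0 (q + 1)).app (Coh.toAb I)
  have hz := @Groth.Agent.Lib.Helper23.ModAbBridge.isZero_RpushAb_of_injective _ _ (i ≫ f) I hI q
  exact IsZero.of_iso hz (e1.symm ≪≫ e2)

/-- `R^n (i ≫ f)_* G ≅ R^n f_* (i_* G)` for a closed immersion `i`. -/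
theorem nonempty_Rpush_push_iso {Z X S : Scheme.{u}} (i : Z ⟶ X) [IsClosedImmersion i]
    (f : X ⟶ S) (G : Z.Modules) (n : ℕ) :
    Nonempty ((Coh.Rpush (i ≫ f) n).obj G ≅
      (Coh.Rpush f n).obj ((Scheme.Modules.pushforward i).obj G)) := by
  haveI := Groth.Agent.Lib.Helper17.FinLoc.preservesHomology_pushforward_of_isClosedImmersion i
  have hE : ∀ I : Z.Modules, Injective I → ∀ q : ℕ, 0 < q →
      IsZero (((Scheme.Modules.pushforward f).rightDerived q).obj
        ((Scheme.Modules.pushforward i).obj I)) := by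
    intro I hI q hq
    obtain ⟨q, rfl⟩ : ∃ k, q = k + 1 := ⟨q - 1, by omega⟩
    exact isZero_Rpush_push_injective i f I q
  obtain ⟨e⟩ := DerAcyc.nonempty_rightDerived_comp_iso (Scheme.Modules.pushforward i)
    (Scheme.Modules.pushforward f) hE G n
  have e1 := (DerPost.natIsoRightDerived (Scheme.Modules.pushforwardComp i f).symm n).app G
  exact ⟨e1 ≪≫ e⟩

/-- **Coherence of higher direct images with proper support**. -/
theorem isCoh_Rpush_of_proper_support {X S : Scheme.{u}} (f : X ⟶ S)
    [LocallyOfFiniteType f] [IsLocallyNoetherian S]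
    (F : X.Modules) (hF : Coh.IsCoh F) (hs : ClSub.IsProperOver f (CohB1.support F)) (p : ℕ) :
    Coh.IsCoh ((Coh.Rpush f p).obj F) := by
  haveI : IsLocallyNoetherian X := LocallyOfFiniteType.isLocallyNoetherian f
  haveI : F.IsQuasicoherent := hF.1
  obtain ⟨J, hJ, -, -, hsupp⟩ := Groth.Agent.Helper18Ann.main_S9377 F hF.2
  have hk : ClSub.KilledByIdeal J.subschemeι.ker F := by
    intro U a ha m
    rw [Scheme.IdealSheafData.ker_subschemeι, hJ U] at ha
    exact Module.mem_annihilator.1 ha m
  obtain ⟨G, hG, ⟨e⟩⟩ := Groth.Agent.S0786.result J.subschemeι F hF hk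
  have hrange : Set.range J.subschemeι = CohB1.support F := by
    rw [Scheme.IdealSheafData.range_subschemeι, hsupp]
  haveI : IsProper (J.subschemeι ≫ f) :=
    (Groth.Agent.Lib.Helper1.isProperOver_iff_isProper_comp f J.subschemeι _ hrange).1 hs
  have h1 := Groth.Agent.Lib.Helper17.FinCore.isCoh_Rpush_of_isProper (J.subschemeι ≫ f) G hG p
  obtain ⟨e2⟩ := nonempty_Rpush_push_iso J.subschemeι f G p
  exact Groth.Agent.Lib.Helper4.Dev.isCoh_of_iso (e2 ≪≫ (Coh.Rpush f p).mapIso e) h1

end Groth.Agent.Lib.Helper1.RpushCl
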