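import Groth.Agent.Lib.Helper17FFunP
import Groth.Agent.Lib.Helper17FinLoc
import Groth.Agent.S0795
import Groth.Agent.S0796

/-!
# Coherent modules with proper support over a Noetherian affine base: finiteness of cohomology
and the theorem on formal functions (helper17)
-/

set_option autoImplicit false
universe u
open CategoryTheory Limits AlgebraicGeometry TopologicalSpace Opposite

namespace Groth.Agent.Lib.Helper17.PropSupp

open Groth.Agent.Lib.Helper17.GammaA Groth.Agent.Lib.Helper17.FinAff
  Groth.Agent.Lib.Helper17.FinLoc Groth.Agent.Lib.Helper23.FinType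
  Groth.Agent.Lib.Helper17.GrSysHP Groth.Agent.Lib.Helper4.Dev

local instance (X : Scheme.{u}) : EnoughInjectives X.Modules :=
  Groth.Agent.Lib.Helper17.QCPush.enoughInjectives X

variable (A : Type u) [CommRing A] [IsNoetherianRing A] (X : Scheme.{u})
  [X.Over (Spec (CommRingCat.of A))] [LocallyOfFiniteType (X ↘ Spec (CommRingCat.of A))]
  [QuasiCompact (X ↘ Spec (CommRingCat.of A))]

/-- coherent modules whose support is proper over `Spec A`. -/
def Pps (N : X.Modules) : Prop :=
  Coh.IsCoh N ∧ ClSub.IsProperOver (X ↘ Spec (CommRingCat.of A)) (CohB1.support N)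

include A in
theorem isNoetherian : IsNoetherian X := by
  haveI : IsLocallyNoetherian X :=
    LocallyOfFiniteType.isLocallyNoetherian (X ↘ Spec (CommRingCat.of A))
  haveI : CompactSpace X := QuasiCompact.compactSpace_of_compactSpace (X ↘ Spec (CommRingCat.of A))
  exact { }

variable {X}

/-- global sections of a coherent module on `Spec A` form a finite `A`-module. -/
theorem finite_gS_of_isCoh (N : (Spec (CommRingCat.of A)).Modules) (hN : Coh.IsCoh N) :
    Module.Finite A ((gS A).obj N) := by
  haveI := hN.1
  haveI := hN.2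
  have hρ : Function.Surjective (Scheme.ΓSpecIso (CommRingCat.of A)).inv.hom :=
    (ConcreteCategory.bijective_of_isIso (Scheme.ΓSpecIso (CommRingCat.of A)).inv).2
  exact (finite_iff_of_semilinear (R := A) (N := (gS A).obj N)
    (R' := Γ(Spec (CommRingCat.of A), ⊤)) (N' := Γ(N, ⊤))
    (Scheme.ΓSpecIso (CommRingCat.of A)).inv.hom hρ
    (AddEquiv.refl Γ(N, ⊤)) (fun r x => rfl)).2 (finite_of_isFiniteType N (isAffineOpen_top _))

/-- **finiteness of cohomology** of coherent modules with proper support. -/
theorem finite_HH (N : X.Modules) (hN : Pps A X N) (q : ℕ) :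
    Module.Finite A (Coh.HH X N q) := by
  haveI := isNoetherian A X
  haveI : Coh.IsQCoh N := hN.1.1
  have hc : Coh.IsCoh ((Coh.Rpush (X ↘ Spec (CommRingCat.of A)) q).obj N) :=
    Groth.Agent.S0795.result (X ↘ Spec (CommRingCat.of A)) N hN.1 hN.2 q
  obtain ⟨e⟩ := nonempty_gS_Rpush_iso (X ↘ Spec (CommRingCat.of A)) N q
  obtain ⟨e'⟩ := nonempty_lb A q N
  haveI := finite_gS_of_isCoh A _ hc
  haveI : Module.Finite A (((gammaA (X ↘ Spec (CommRingCat.of A))).rightDerived q).obj N) :=
    Module.Finite.equiv e.toLinearEquiv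
  exact Module.Finite.equiv e'

theorem finClass : FinClass A (Pps A X) := by
  haveI := isNoetherian A X
  refine ⟨fun h => h.1, fun h q => finite_HH A _ h q, ?_, ?_⟩
  · intro M N ι _ hM hN
    refine ⟨hM, ?_⟩
    let E : ShortComplex X.Modules := ShortComplex.mk ι (cokernel.π ι) (cokernel.condition ι)
    have hE : E.ShortExact :=
      { exact := ShortComplex.exact_cokernel ι
        mono_f := inferInstanceAs (Mono ι)
        epi_g := inferInstanceAs (Epi (cokernel.π ι)) }
    exact ((Groth.Agent.S0796.result (X ↘ Spec (CommRingCat.of A)) E hE hM hN.1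
      (isCoh_cokernel ι hM hN.1)).1 hN.2).1
  · intro M N π _ hM hN
    refine ⟨hN, ?_⟩
    let E : ShortComplex X.Modules := ShortComplex.mk (kernel.ι π) π (kernel.condition π)
    have hE : E.ShortExact :=
      { exact := ShortComplex.exact_kernel π
        mono_f := inferInstanceAs (Mono (kernel.ι π))
        epi_g := inferInstanceAs (Epi π) }
    exact ((Groth.Agent.S0796.result (X ↘ Spec (CommRingCat.of A)) E hE
      (isCoh_kernel π hM.1 hN) hM.1 hN).1 hM.2).2

end Groth.Agent.Lib.Helper17.PropSupp
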