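import Mathlib
import Groth.Prelude.Def_Formal
import Groth.Agent.Lib.Helper17FFaith5
import Groth.Agent.Lib.Helper1ProperOver
import Groth.Agent.Lib.Helper23Support
import Groth.Agent.Lib.Helper4DevE
import Groth.Agent.S4460

set_option autoImplicit false
universe u
open CategoryTheory CategoryTheory.Limits AlgebraicGeometry TopologicalSpace Opposite

namespace Groth.Agent.Lib.Helper17.FFaith

open Groth.Agent.Lib.Helper21.HomI Groth.Agent.Lib.Helper21.HomU Groth.Agent.Lib.Helper1

noncomputable section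

section support

variable {X : Scheme.{u}} (M N : X.Modules)

theorem fam_eq_zero_of_left (W : X.Opens) (hW : ∀ x ∈ W, x ∉ CohB1.support M) (t : Fam M N W) :
    t = 0 := by
  apply HomFam.ext
  funext V b z
  have hz : z = 0 := Groth.Agent.Lib.Helper23.Support.eq_zero_of_disjoint_support M V
    (fun x hx => hW x (leOfHom b hx)) z
  rw [hz]
  exact t.zero' V b

theorem fam_eq_zero_of_right (W : X.Opens) (hW : ∀ x ∈ W, x ∉ CohB1.support N) (t : Fam M N W) :
    t = 0 := by
  apply HomFam.ext
  funext V b z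
  exact Groth.Agent.Lib.Helper23.Support.eq_zero_of_disjoint_support N V
    (fun x hx => hW x (leOfHom b hx)) _

theorem subsingleton_stalk_of_sections_zero (F : X.Modules) (x : X) (W : X.Opens) (hxW : x ∈ W)
    (h : ∀ W' : X.Opens, W' ≤ W → ∀ s : Γ(F, W'), s = 0) :
    Subsingleton (F.presheaf.stalk x) := by
  have key : ∀ a : F.presheaf.stalk x, a = 0 := by
    intro a
    obtain ⟨U, hxU, s, rfl⟩ := F.presheaf.exists_germ_eq a
    have hx' : x ∈ U ⊓ W := ⟨hxU, hxW⟩
    have h1 : F.presheaf.germ U x hxU s = F.presheaf.germ (U ⊓ W) x hx'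
        (F.presheaf.map (homOfLE (inf_le_left : U ⊓ W ≤ U)).op s) :=
      (TopCat.Presheaf.germ_res_apply F.presheaf (homOfLE inf_le_left) x hx' s).symm
    have h2 : F.presheaf.map (homOfLE (inf_le_left : U ⊓ W ≤ U)).op s = 0 :=
      h (U ⊓ W) inf_le_right _
    rw [h1, h2, map_zero]
  exact ⟨fun a b => (key a).trans (key b).symm⟩

theorem support_sHom_subset (hM : IsClosed (CohB1.support M)) (hN : IsClosed (CohB1.support N)) :
    CohB1.support (sHom M N) ⊆ CohB1.support M ∩ CohB1.support N := by
  intro x hx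
  by_contra hcon
  apply hx
  rw [Set.mem_inter_iff, not_and_or] at hcon
  rcases hcon with hcon | hcon
  · refine subsingleton_stalk_of_sections_zero (sHom M N) x ⟨_, hM.isOpen_compl⟩ hcon ?_
    intro W' hW' s
    exact fam_eq_zero_of_left M N W' (fun y hy => hW' hy) (secOut W' s)
  · refine subsingleton_stalk_of_sections_zero (sHom M N) x ⟨_, hN.isOpen_compl⟩ hcon ?_
    intro W' hW' s
    exact fam_eq_zero_of_right M N W' (fun y hy => hW' hy) (secOut W' s)

end support

section proper

theorem isProperOver_of_subset {X S : Scheme.{u}} (f : X ⟶ S) {Z Z' : Set X}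
    (hZ : ClSub.IsProperOver f Z) (h' : IsClosed Z') (hsub : Z' ⊆ Z) :
    ClSub.IsProperOver f Z' := by
  obtain ⟨h, hp⟩ := hZ
  refine ⟨h', ?_⟩
  have hsub' : Z' ⊆ Set.range (redι Z h) := by
    rw [range_redι]
    exact hsub
  have e : (Scheme.IdealSheafData.vanishingIdeal ⟨Z', h'⟩).subschemeι ≫ f =
      redLift (redι Z h) Z' h' hsub' ≫ redι Z h ≫ f := by
    rw [redLift_fac_assoc]
  rw [e]
  haveI : IsProper (redι Z h ≫ f) := hp
  infer_instance

end proper

end
end Groth.Agent.Lib.Helper17.FFaith
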