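import Mathlib
import Groth.Prelude.Def_Formal
import Groth.Agent.Lib.Helper18PBUnit1

set_option autoImplicit false
universe u
open CategoryTheory CategoryTheory.Limits AlgebraicGeometry TopologicalSpace Opposite

namespace Groth.Agent.Lib.Helper17.FFaith

open Groth.Agent.Helper18PBUnit

noncomputable section

section glue

variable {X : Scheme.{u}}

theorem app_res {M N : X.Modules} (φ : M ⟶ N) {U V : X.Opens} (h : U ≤ V) (x : Γ(M, V)) :
    φ.app U (M.presheaf.map (homOfLE h).op x) = N.presheaf.map (homOfLE h).op (φ.app V x) := by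
  have h1 := φ.mapPresheaf.naturality (homOfLE h).op
  exact congr($h1 x)

theorem comp_app' {M N P : X.Modules} (φ : M ⟶ N) (ψ : N ⟶ P) (U : X.Opens) (x : Γ(M, U)) :
    (φ ≫ ψ).app U x = ψ.app U (φ.app U x) := rfl

variable (F G : ℕ → X.Modules) (a : ∀ n, F (n + 1) ⟶ F n) (b : ∀ n, G (n + 1) ⟶ G n)
  (θ : ∀ n, F n ⟶ G n)

/-- bijectivity of `lim θ` on sections over `U`. -/
def BijOn (U : X.Opens) : Prop :=
  ∀ s : ∀ n, Γ(G n, U), (∀ n, (b n).app U (s (n + 1)) = s n) →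
    ∃! t : ∀ n, Γ(F n, U), (∀ n, (a n).app U (t (n + 1)) = t n) ∧ ∀ n, (θ n).app U (t n) = s n

variable {F G a b θ}

theorem inj_of_affine (hθ' : ∀ n, a n ≫ θ n = θ (n + 1) ≫ b n)
    (h : ∀ U : X.Opens, IsAffineOpen U → BijOn F G a b θ U) (W : X.Opens)
    (t t' : ∀ n, Γ(F n, W)) (ht : ∀ n, (a n).app W (t (n + 1)) = t n)
    (ht' : ∀ n, (a n).app W (t' (n + 1)) = t' n)
    (hθ : ∀ n, (θ n).app W (t n) = (θ n).app W (t' n)) : t = t' := by
  funext n
  refine eqP_of_affine (F n) _ _ fun U hU hUW => ?_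
  let r : ∀ n, Γ(F n, U) := fun n => (F n).presheaf.map (homOfLE hUW).op (t n)
  let r' : ∀ n, Γ(F n, U) := fun n => (F n).presheaf.map (homOfLE hUW).op (t' n)
  have hr : ∀ n, (a n).app U (r (n + 1)) = r n := fun n => by
    change (a n).app U ((F (n + 1)).presheaf.map (homOfLE hUW).op (t (n + 1))) = _
    rw [app_res, ht]
  have hr' : ∀ n, (a n).app U (r' (n + 1)) = r' n := fun n => by
    change (a n).app U ((F (n + 1)).presheaf.map (homOfLE hUW).op (t' (n + 1))) = _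
    rw [app_res, ht']
  let s : ∀ n, Γ(G n, U) := fun n => (θ n).app U (r n)
  have hs : ∀ n, (θ n).app U (r' n) = s n := fun n => by
    change (θ n).app U ((F n).presheaf.map (homOfLE hUW).op (t' n)) =
      (θ n).app U ((F n).presheaf.map (homOfLE hUW).op (t n))
    rw [app_res, app_res, hθ]
  have hsb : ∀ n, (b n).app U (s (n + 1)) = s n := fun n => by
    change (b n).app U ((θ (n + 1)).app U (r (n + 1))) = (θ n).app U (r n)
    rw [← comp_app', ← hθ' n, comp_app', hr]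
  obtain ⟨t₀, -, huniq⟩ := h U hU s hsb
  have e1 := huniq r ⟨hr, fun n => rfl⟩
  have e2 := huniq r' ⟨hr', hs⟩
  exact congrFun (e1.trans e2.symm) n

theorem bijOn_of_affine (hθ' : ∀ n, a n ≫ θ n = θ (n + 1) ≫ b n)
    (h : ∀ U : X.Opens, IsAffineOpen U → BijOn F G a b θ U) (W : X.Opens) :
    BijOn F G a b θ W := by
  intro s hs
  -- local solutions
  have hex : ∀ U : AffLE W, ∃ t : ∀ n, Γ(F n, U.1), (∀ n, (a n).app U.1 (t (n + 1)) = t n) ∧
      ∀ n, (θ n).app U.1 (t n) = (G n).presheaf.map (homOfLE U.2.2).op (s n) := by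
    intro U
    obtain ⟨t, ht, -⟩ := h U.1 U.2.1 (fun n => (G n).presheaf.map (homOfLE U.2.2).op (s n))
      (fun n => by rw [app_res, hs])
    exact ⟨t, ht⟩
  choose tU htU1 htU2 using hex
  have hR : ∀ (U U' : AffLE W) (h' : U'.1 ≤ U.1) (n : ℕ),
      (F n).presheaf.map (homOfLE h').op (tU U n) = tU U' n := by
    intro U U' h' n
    have := inj_of_affine hθ' h U'.1 (fun n => (F n).presheaf.map (homOfLE h').op (tU U n)) (tU U')
      (fun n => by rw [app_res, htU1]) (htU1 U')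
      (fun n => by rw [app_res, htU2, htU2, res_res])
    exact congrFun this n
  have hglue : ∀ n : ℕ, ∃ t : Γ(F n, W), ∀ U : AffLE W,
      (F n).presheaf.map (homOfLE U.2.2).op t = tU U n := by
    intro n
    obtain ⟨c, hc, -⟩ := TopCat.Sheaf.existsUnique_gluing' (abSheaf (F n)) (fun U : AffLE W => U.1) W
      (fun U => homOfLE U.2.2) (le_iSup_affLE W) (fun U => tU U n) (by
        intro U₁ U₂
        refine eqP_of_affine (F n) _ _ fun U₃ hU₃ h₃ => ?_
        have e1 := hR U₁ ⟨U₃, hU₃, (h₃.trans inf_le_left).trans U₁.2.2⟩ (h₃.trans inf_le_left) n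
        have e2 := hR U₂ ⟨U₃, hU₃, (h₃.trans inf_le_left).trans U₁.2.2⟩ (h₃.trans inf_le_right) n
        exact (res_res _ _ _ _).trans (e1.trans (e2.symm.trans (res_res _ _ _ _).symm)))
    exact ⟨c, hc⟩
  choose t ht using hglue
  refine ⟨t, ⟨fun n => ?_, fun n => ?_⟩, ?_⟩
  · refine eqP_of_affine (F n) _ _ fun U hU hUW => ?_
    rw [← app_res, ht (n + 1) ⟨U, hU, hUW⟩, ht n ⟨U, hU, hUW⟩]
    exact htU1 ⟨U, hU, hUW⟩ n
  · refine eqP_of_affine (G n) _ _ fun U hU hUW => ?_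
    rw [← app_res, ht n ⟨U, hU, hUW⟩]
    exact htU2 ⟨U, hU, hUW⟩ n
  · intro t' ht'
    exact inj_of_affine hθ' h W t' t ht'.1
      (fun n => by
        refine eqP_of_affine (F n) _ _ fun U hU hUW => ?_
        rw [← app_res, ht (n + 1) ⟨U, hU, hUW⟩, ht n ⟨U, hU, hUW⟩]
        exact htU1 ⟨U, hU, hUW⟩ n)
      (fun n => by
        rw [ht'.2 n]
        refine eqP_of_affine (G n) _ _ fun U hU hUW => ?_
        rw [← app_res, ht n ⟨U, hU, hUW⟩]
        exact (htU2 ⟨U, hU, hUW⟩ n).symm)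

end glue

end
end Groth.Agent.Lib.Helper17.FFaith
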