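import Mathlib
import Groth.Prelude.Def_Formal
import Groth.Agent.Lib.Helper17FFaith2
import Groth.Agent.Lib.Helper17FFaith5
import Groth.Agent.Lib.Helper17FlatDev1
import Groth.Agent.Lib.Helper17FFaith7
import Groth.Agent.Lib.Helper17FFaith8
import Groth.Agent.Lib.Helper17AdicHom

set_option autoImplicit false
universe u
open CategoryTheory CategoryTheory.Limits AlgebraicGeometry TopologicalSpace Opposite

namespace Groth.Agent.Lib.Helper17.FFaith

open Groth.Agent.Lib.Helper21.HomI Groth.Agent.Lib.Helper21.HomU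
  Groth.Agent.Lib.Helper17.FlatDev Groth.Agent.Lib.Helper17.GrSysCoh

noncomputable section

section alg

theorem map_eq_zero_of_mem_map_smul {A R H T : Type*} [CommRing A] [CommRing R] [AddCommGroup H]
    [Module R H] [AddCommGroup T] [Module R T] (ρ : A →+* R) (J : Ideal A) (f : H →ₗ[R] T)
    (hf : ∀ c ∈ J, ∀ h : H, f (ρ c • h) = 0) (h : H)
    (hh : h ∈ (J.map ρ) • (⊤ : Submodule R H)) : f h = 0 := by
  have hle : (J.map ρ) • (⊤ : Submodule R H) ≤ LinearMap.ker f := by
    rw [Submodule.smul_le]
    intro r hr n _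
    rw [LinearMap.mem_ker, map_smul]
    have h2 : J.map ρ ≤ (LinearMap.ker f).colon (⊤ : Submodule R H) := by
      rw [Ideal.map_le_iff_le_comap]
      intro c hc
      rw [Ideal.mem_comap, Submodule.mem_colon]
      intro h' _
      rw [LinearMap.mem_ker]
      exact hf c hc h'
    have h3 := h2 hr
    rw [Submodule.mem_colon] at h3
    have := h3 n Submodule.mem_top
    rw [LinearMap.mem_ker, map_smul] at this
    exact this
  exact hle hh

end alg

section affine

variable {A : Type u} [CommRing A] {X : Scheme.{u}} [X.Over (Spec (CommRingCat.of A))]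
  (I : Ideal A) (M N : X.Modules) {U : X.Opens} (hU : IsAffineOpen U)

theorem evΓEquiv_sHomMap [M.IsQuasicoherent] {N' : X.Modules} (g : N ⟶ N') (s : Γ(sHom M N, U)) :
    evΓEquiv M N' hU ((sHomMap M g).app U s) = (appL g U) ∘ₗ evΓEquiv M N hU s := by
  apply LinearMap.ext
  intro x
  rfl

end affine

section main

variable {A : Type u} [CommRing A] [IsNoetherianRing A] {X : Scheme.{u}}
  [X.Over (Spec (CommRingCat.of A))] [IsLocallyNoetherian X]
  (I : Ideal A) (M N : X.Modules) {U : X.Opens} (hU : IsAffineOpen U)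

omit [IsLocallyNoetherian X] in
include hU in
theorem mem_smul_top_iff (J : Ideal A) (P : X.Modules) [P.IsQuasicoherent] (x : Γ(P, U)) :
    (πQ J P).app U x = 0 ↔ x ∈ (J.map (ρ U)) • (⊤ : Submodule Γ(X, U) Γ(P, U)) := by
  constructor
  · intro hx
    obtain ⟨r, c, hc⟩ : ∃ (r : ℕ) (c : Fin r → A), J = Ideal.span (Set.range c) := by
      obtain ⟨S, hS⟩ := (isNoetherianRing_iff_ideal_fg A).1 inferInstance J
      refine ⟨S.card, fun i => (S.equivFin.symm i : A), ?_⟩
      rw [← hS]
      congr 1
      ext a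
      constructor
      · intro ha
        exact ⟨S.equivFin ⟨a, ha⟩, by simp⟩
      · rintro ⟨i, rfl⟩
        exact (S.equivFin.symm i).2
    obtain ⟨y, hy⟩ := ker_πQ_app c J hc P hU x hx
    rw [hy]
    refine Submodule.sum_mem _ fun i _ => Submodule.smul_mem_smul ?_ Submodule.mem_top
    exact Ideal.mem_map_of_mem _ (hc ▸ Ideal.subset_span ⟨i, rfl⟩)
  · intro hx
    exact map_eq_zero_of_mem_map_smul (ρ U) J (appL (πQ J P) U)
      (fun c hc h => πQ_app_smul J P c hc U h) x hx


include hU in
theorem bijOn_affine (hM : Coh.IsCoh M) (hN : Coh.IsCoh N) :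
    BijOn (fun n => Formal.modPow I (n + 1) (sHom M N))
      (fun n => sHom M (Formal.modPow I (n + 1) N))
      (fun n => Formal.modPowTrans I (n + 1) (sHom M N))
      (fun n => sHomMap M (Formal.modPowTrans I (n + 1) N))
      (fun n => θ I M N (n + 1)) U := by
  have := hM.1
  have := hM.2
  have := hN.1
  have := hN.2
  have : IsNoetherianRing Γ(X, U) := IsLocallyNoetherian.component_noetherian ⟨U, hU⟩
  have : Module.Finite Γ(X, U) Γ(M, U) :=
    Groth.Agent.Lib.Helper23.FinType.finite_of_isFiniteType M hU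
  have : Module.Finite Γ(X, U) Γ(N, U) :=
    Groth.Agent.Lib.Helper23.FinType.finite_of_isFiniteType N hU
  have : (sHom M N).IsQuasicoherent := (isCoh_sHom M N hM hN).1
  intro s hs
  have key := AdicHom.existsUnique_lim (R := Γ(X, U)) (P := Γ(M, U)) (Qm := Γ(N, U))
    (I.map (ρ U))
    (fun n => Γ(Formal.modPow I (n + 1) (sHom M N), U))
    (fun n => ((appL (Formal.modPowπ I (n + 1) (sHom M N)) U).comp
      (evΓEquiv M N hU).symm.toLinearMap).toAddMonoidHom)
    (fun n t => by
      obtain ⟨h, hh⟩ := πQ_app_surjective (I ^ (n + 1)) (sHom M N) hU t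
      exact ⟨evΓEquiv M N hU h, by
        change (Formal.modPowπ I (n + 1) (sHom M N)).app U
          ((evΓEquiv M N hU).symm (evΓEquiv M N hU h)) = t
        rw [LinearEquiv.symm_apply_apply]
        exact hh⟩)
    (fun n h hh => by
      rw [← Ideal.map_pow] at hh
      exact map_eq_zero_of_mem_map_smul (ρ U) (I ^ (n + 1))
        ((appL (Formal.modPowπ I (n + 1) (sHom M N)) U).comp
          (evΓEquiv M N hU).symm.toLinearMap)
        (fun c hc h' => by
          change (πQ (I ^ (n + 1)) (sHom M N)).app U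
            ((evΓEquiv M N hU).symm ((ρ U c : Γ(X, U)) • h')) = 0
          rw [map_smul]
          exact πQ_app_smul (I ^ (n + 1)) (sHom M N) c hc U _) h hh)
    (fun n t => (Formal.modPowTrans I (n + 1) (sHom M N)).app U t)
    (fun n h => by
      change (Formal.modPowTrans I (n + 1) (sHom M N)).app U
        ((Formal.modPowπ I (n + 1 + 1) (sHom M N)).app U ((evΓEquiv M N hU).symm h)) =
        (Formal.modPowπ I (n + 1) (sHom M N)).app U ((evΓEquiv M N hU).symm h)
      rw [← comp_app_apply, Formal.modPowπ_trans])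
    (fun n => Γ(Formal.modPow I (n + 1) N, U))
    (fun n => appL (Formal.modPowπ I (n + 1) N) U)
    (fun n => πQ_app_surjective (I ^ (n + 1)) N hU)
    (fun n x => by
      rw [← Ideal.map_pow]
      exact mem_smul_top_iff hU (I ^ (n + 1)) N x)
    (fun n => appL (Formal.modPowTrans I (n + 1) N) U)
    (fun n x => by
      change (Formal.modPowTrans I (n + 1) N).app U
        ((Formal.modPowπ I (n + 1 + 1) N).app U x) = (Formal.modPowπ I (n + 1) N).app U x
      rw [← comp_app_apply, Formal.modPowπ_trans])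
    (fun n t => evΓEquiv M (Formal.modPow I (n + 1) N) hU ((θ I M N (n + 1)).app U t))
    (fun n h => by
      change evΓEquiv M (Formal.modPow I (n + 1) N) hU ((θ I M N (n + 1)).app U
        ((Formal.modPowπ I (n + 1) (sHom M N)).app U ((evΓEquiv M N hU).symm h))) = _
      rw [← comp_app_apply, modPowπ_θ, evΓEquiv_sHomMap, LinearEquiv.apply_symm_apply])
    (fun n => evΓEquiv M (Formal.modPow I (n + 1) N) hU (s n))
    (fun n => by
      rw [← hs n]
      exact (evΓEquiv_sHomMap M (Formal.modPow I (n + 1 + 1) N) hU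
        (Formal.modPowTrans I (n + 1) N) (s (n + 1))).symm)
  obtain ⟨t, ⟨h1, h2⟩, h3⟩ := key
  refine ⟨t, ⟨h1, fun n => (evΓEquiv M (Formal.modPow I (n + 1) N) hU).injective (h2 n)⟩,
    fun t' ht' => h3 t' ⟨ht'.1, fun n => ?_⟩⟩
  exact congrArg (evΓEquiv M (Formal.modPow I (n + 1) N) hU) (ht'.2 n)


theorem compIso_of_coh (hM : Coh.IsCoh M) (hN : Coh.IsCoh N) : CompIso I M N := by
  have h := bijOn_of_affine (F := fun n => Formal.modPow I (n + 1) (sHom M N))
    (G := fun n => sHom M (Formal.modPow I (n + 1) N))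
    (a := fun n => Formal.modPowTrans I (n + 1) (sHom M N))
    (b := fun n => sHomMap M (Formal.modPowTrans I (n + 1) N))
    (θ := fun n => θ I M N (n + 1))
    (fun n => (θ_trans I M N (n + 1)).symm)
    (fun U hU => bijOn_affine I M N hU hM hN) ⊤
  exact h

theorem homLim_of_coh (hM : Coh.IsCoh M) (hN : Coh.IsCoh N)
    (H1 : Function.Bijective (Formal.toHHlim I (sHom M N) 0)) : HomLim I M N :=
  homLim_of I M N H1 (compIso_of_coh I M N hM hN)

end main

section final

variable {A : Type u} [CommRing A] [IsNoetherianRing A] {X : Scheme.{u}}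
  [X.Over (Spec (CommRingCat.of A))]
  (I : Ideal A) [IsAdicComplete I A]
  [LocallyOfFiniteType (X ↘ Spec (CommRingCat.of A))] [QuasiCompact (X ↘ Spec (CommRingCat.of A))]
  [IsLocallyNoetherian X]
  (M N : X.Modules)

open Groth.Agent.Lib.Helper1 in
/-- full faithfulness of completion for coherent modules whose supports meet in a proper subset. -/
theorem existsUnique_of_properInter (hM : Coh.IsCoh M) (hN : Coh.IsCoh N)
    (hs : ClSub.IsProperOver (X ↘ Spec (CommRingCat.of A)) (CohB1.support M ∩ CohB1.support N))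
    (ψ : Formal.completion I M ⟶ Formal.completion I N) :
    ∃! φ : M ⟶ N, ∀ n : ℕ,
      Formal.modPowπ I (n + 1) M ≫ ψ.app (op n) = φ ≫ Formal.modPowπ I (n + 1) N := by
  have hcoh := isCoh_sHom M N hM hN
  have hsupp : ClSub.IsProperOver (X ↘ Spec (CommRingCat.of A)) (CohB1.support (sHom M N)) :=
    isProperOver_of_subset _ hs (Groth.Agent.Lib.Helper4.Dev.isClosed_support _ hcoh)
      (support_sHom_subset M N (Groth.Agent.Lib.Helper4.Dev.isClosed_support M hM)
        (Groth.Agent.Lib.Helper4.Dev.isClosed_support N hN))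
  have H1 := Groth.Agent.S4460.result A I X (sHom M N) hcoh hsupp 0
  exact existsUnique_of_homLim I M N (homLim_of_coh I M N hM hN H1) ψ

end final

end
end Groth.Agent.Lib.Helper17.FFaith
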