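import Mathlib
import Groth.Prelude.Def_Formal
import Groth.Agent.Lib.Helper17FFaith9

set_option autoImplicit false
universe u
open CategoryTheory CategoryTheory.Limits AlgebraicGeometry TopologicalSpace Opposite

namespace Groth.Agent.Lib.Helper17.FFaith

open Groth.Agent.Lib.Helper21.HomI Groth.Agent.Lib.Helper21.HomU
  Groth.Agent.Lib.Helper17.FlatDev Groth.Agent.Lib.Helper17.GrSysCoh
  Groth.Agent.Helper18PBUnit

noncomputable section

section gen

variable {A : Type u} [CommRing A] {X : Scheme.{u}} [X.Over (Spec (CommRingCat.of A))]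

theorem ρ_res {U V : X.Opens} (h : V ≤ U) (a : A) :
    X.presheaf.map (homOfLE h).op (ρ U a) = ρ V a :=
  Coh.resTop_comp (op U) (op V) (homOfLE h).op _

theorem map_ρ_res {U V : X.Opens} (h : V ≤ U) (J : Ideal A) :
    (J.map (ρ U)).map (X.presheaf.map (homOfLE h).op).hom = J.map (ρ V) := by
  rw [Ideal.map_map]
  congr 1
  ext a
  exact ρ_res h a

/-- a finitely generated subideal with the same extension to `Γ(X, U)`. -/
theorem exists_fin_gen {U : X.Opens} [IsNoetherianRing Γ(X, U)] (J : Ideal A) :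
    ∃ (r : ℕ) (c : Fin r → A), (∀ i, c i ∈ J) ∧
      (Ideal.span (Set.range c)).map (ρ U) = J.map (ρ U) := by
  have hfg : (J.map (ρ U)).FG := (isNoetherianRing_iff_ideal_fg _).1 inferInstance _
  have h1 : J.map (ρ U) = Ideal.span ((ρ U) '' (J : Set A)) := rfl
  rw [h1] at hfg
  obtain ⟨T, hT, hT'⟩ := (Submodule.fg_span_iff_fg_span_finset_subset _).1 hfg
  have hch : ∀ t : T, ∃ a : A, a ∈ J ∧ ρ U a = (t : Γ(X, U)) := fun t => hT t.2
  choose a ha ha' using hch
  refine ⟨T.card, fun i => a (T.equivFin.symm i), fun i => ha _, ?_⟩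
  apply le_antisymm
  · apply Ideal.map_mono
    rw [Ideal.span_le]
    rintro _ ⟨i, rfl⟩
    exact ha _
  · rw [h1]
    change Submodule.span _ _ ≤ _
    rw [hT']
    apply Submodule.span_le.2
    intro t ht
    have : t = ρ U (a ⟨t, ht⟩) := (ha' ⟨t, ht⟩).symm
    rw [this]
    apply Ideal.mem_map_of_mem
    apply Ideal.subset_span
    exact ⟨T.equivFin ⟨t, ht⟩, by simp⟩


/-- `a • (−)` followed by the projection to `M / J' M` vanishes on sections over opens inside `U`,
when `a` lies in an ideal with the same extension to `Γ(X, U)` as `J'`. -/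
theorem smul_πQ_app_eq_zero {U : X.Opens} (J J' : Ideal A)
    (hJJ : J'.map (ρ U) = J.map (ρ U)) (M : X.Modules) (a : A) (ha : a ∈ J)
    {V : X.Opens} (hV : V ≤ U) (y : Γ(M, V)) :
    (Formal.smulMod A M a ≫ πQ J' M).app V y = 0 := by
  refine eqP_of_affine (Q J' M) _ _ fun W hW hWV => ?_
  rw [map_zero, ← app_res, comp_app_apply, smulMod_app]
  have h1 : (ρ W a : Γ(X, W)) ∈ J'.map (ρ W) := by
    rw [← map_ρ_res (hWV.trans hV), hJJ, map_ρ_res (hWV.trans hV)]
    exact Ideal.mem_map_of_mem _ ha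
  exact map_eq_zero_of_mem_map_smul (ρ W) J' (appL (πQ J' M) W)
    (fun c hc h => πQ_app_smul J' M c hc W h) _
    (Submodule.smul_mem_smul h1 Submodule.mem_top)


/-- the kernel of `Γ(M, U) → Γ(M/JM, U)` is `J Γ(M, U)` for `U` affine with Noetherian ring of
sections, for an arbitrary ideal `J` of an arbitrary base ring. -/
theorem ker_πQ_app_gen (J : Ideal A) (M : X.Modules) [M.IsQuasicoherent] {U : X.Opens}
    (hU : IsAffineOpen U) [IsNoetherianRing Γ(X, U)] (s : Γ(M, U))
    (hs : (πQ J M).app U s = 0) :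
    s ∈ (J.map (ρ U)) • (⊤ : Submodule Γ(X, U) Γ(M, U)) := by
  obtain ⟨r, c, hc, hJJ⟩ := exists_fin_gen (U := U) J
  set J' : Ideal A := Ideal.span (Set.range c) with hJ'
  let C : X.Modules := Q J' M
  let η : C ⟶ (Scheme.Modules.pushforward U.ι).obj (C.restrict U.ι) :=
    (Scheme.Modules.restrictAdjunction U.ι).unit.app C
  have hη : ∀ (W : X.Opens) (z : Γ(C, W)), η.app W z =
      C.presheaf.map (homOfLE (U.ι.image_preimage_le W)).op z := fun W z => rfl
  have hkill : ∀ a ∈ J, Formal.smulMod A M a ≫ (πQ J' M ≫ η) = 0 := by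
    intro a ha
    apply Scheme.Modules.hom_ext
    intro W
    ext x
    rw [← Category.assoc, comp_app_apply, hη, ← app_res]
    exact smul_πQ_app_eq_zero J J' hJJ M a ha ((U.ι.image_mono le_top).trans (by rw [U.ι_image_top])) _
  have hfam : Formal.smulFamily J M ≫ (πQ J' M ≫ η) = 0 := by
    apply Sigma.hom_ext
    intro a
    rw [comp_zero, ← Category.assoc, ι_smulFamily]
    exact hkill a a.2
  let d : Q J M ⟶ (Scheme.Modules.pushforward U.ι).obj (C.restrict U.ι) :=
    cokernel.desc _ _ hfam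
  have hd : πQ J M ≫ d = πQ J' M ≫ η := cokernel.π_desc _ _ _
  have h1 : (πQ J' M ≫ η).app U s = 0 := by
    rw [← hd, comp_app_apply, hs, map_zero]
  rw [comp_app_apply, hη] at h1
  have hUU : U ≤ U.ι ''ᵁ U.ι ⁻¹ᵁ U := by
    have : U.ι ⁻¹ᵁ U = ⊤ := by
      ext x
      simp
    rw [this, U.ι_image_top]
  have h1' : C.presheaf.map (homOfLE (U.ι.image_preimage_le U)).op ((πQ J' M).app U s) =
      (0 : Γ(C, U.ι ''ᵁ U.ι ⁻¹ᵁ U)) := h1
  have h2 := congrArg (C.presheaf.map (homOfLE hUU).op) h1'
  rw [res_res, map_zero] at h2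
  have h3 : (πQ J' M).app U s = 0 := by
    have : C.presheaf.map (homOfLE (le_refl U)).op ((πQ J' M).app U s) = (πQ J' M).app U s := by
      change C.presheaf.map (𝟙 _) _ = _
      rw [C.presheaf.map_id]
      rfl
    rw [← this]
    exact h2
  obtain ⟨y, hy⟩ := ker_πQ_app c J' rfl M hU s h3
  rw [hy, ← hJJ]
  refine Submodule.sum_mem _ fun i _ => Submodule.smul_mem_smul ?_ Submodule.mem_top
  exact Ideal.mem_map_of_mem _ (Ideal.subset_span ⟨i, rfl⟩)

end gen

section main

variable {A : Type u} [CommRing A] {X : Scheme.{u}}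
  [X.Over (Spec (CommRingCat.of A))] [IsLocallyNoetherian X]
  (I : Ideal A) (M N : X.Modules) {U : X.Opens} (hU : IsAffineOpen U)

include hU in
theorem mem_smul_top_iff_gen (J : Ideal A) (P : X.Modules) [P.IsQuasicoherent] (x : Γ(P, U)) :
    (πQ J P).app U x = 0 ↔ x ∈ (J.map (ρ U)) • (⊤ : Submodule Γ(X, U) Γ(P, U)) := by
  haveI : IsNoetherianRing Γ(X, U) := IsLocallyNoetherian.component_noetherian ⟨U, hU⟩
  constructor
  · intro hx
    exact ker_πQ_app_gen J P hU x hx
  · intro hx
    exact map_eq_zero_of_mem_map_smul (ρ U) J (appL (πQ J P) U)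
      (fun c hc h => πQ_app_smul J P c hc U h) x hx

include hU in
theorem bijOn_affine_gen (hM : Coh.IsCoh M) (hN : Coh.IsCoh N) :
    BijOn (fun n => Formal.modPow I (n + 1) (sHom M N))
      (fun n => sHom M (Formal.modPow I (n + 1) N))
      (fun n => Formal.modPowTrans I (n + 1) (sHom M N))
      (fun n => sHomMap M (Formal.modPowTrans I (n + 1) N))
      (fun n => θ I M N (n + 1)) U := by
  have := hM.1
  have := hM.2
  have := hN.1
  have := hN.2
  have : IsNoetherianRing Γ(X, U) := IsLocallyNoetherian.component_noetherian ⟨U, hU⟩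
  have : Module.Finite Γ(X, U) Γ(M, U) :=
    Groth.Agent.Lib.Helper23.FinType.finite_of_isFiniteType M hU
  have : Module.Finite Γ(X, U) Γ(N, U) :=
    Groth.Agent.Lib.Helper23.FinType.finite_of_isFiniteType N hU
  have : (sHom M N).IsQuasicoherent := (isCoh_sHom M N hM hN).1
  intro s hs
  have key := AdicHom.existsUnique_lim (R := Γ(X, U)) (P := Γ(M, U)) (Qm := Γ(N, U))
    (I.map (ρ U))
    (fun n => Γ(Formal.modPow I (n + 1) (sHom M N), U))
    (fun n => ((appL (Formal.modPowπ I (n + 1) (sHom M N)) U).comp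
      (evΓEquiv M N hU).symm.toLinearMap).toAddMonoidHom)
    (fun n t => by
      obtain ⟨h, hh⟩ := πQ_app_surjective (I ^ (n + 1)) (sHom M N) hU t
      exact ⟨evΓEquiv M N hU h, by
        change (Formal.modPowπ I (n + 1) (sHom M N)).app U
          ((evΓEquiv M N hU).symm (evΓEquiv M N hU h)) = t
        rw [LinearEquiv.symm_apply_apply]
        exact hh⟩)
    (fun n h hh => by
      rw [← Ideal.map_pow] at hh
      exact map_eq_zero_of_mem_map_smul (ρ U) (I ^ (n + 1))
        ((appL (Formal.modPowπ I (n + 1) (sHom M N)) U).comp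
          (evΓEquiv M N hU).symm.toLinearMap)
        (fun c hc h' => by
          change (πQ (I ^ (n + 1)) (sHom M N)).app U
            ((evΓEquiv M N hU).symm ((ρ U c : Γ(X, U)) • h')) = 0
          rw [map_smul]
          exact πQ_app_smul (I ^ (n + 1)) (sHom M N) c hc U _) h hh)
    (fun n t => (Formal.modPowTrans I (n + 1) (sHom M N)).app U t)
    (fun n h => by
      change (Formal.modPowTrans I (n + 1) (sHom M N)).app U
        ((Formal.modPowπ I (n + 1 + 1) (sHom M N)).app U ((evΓEquiv M N hU).symm h)) =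
        (Formal.modPowπ I (n + 1) (sHom M N)).app U ((evΓEquiv M N hU).symm h)
      rw [← comp_app_apply, Formal.modPowπ_trans])
    (fun n => Γ(Formal.modPow I (n + 1) N, U))
    (fun n => appL (Formal.modPowπ I (n + 1) N) U)
    (fun n => πQ_app_surjective (I ^ (n + 1)) N hU)
    (fun n x => by
      rw [← Ideal.map_pow]
      exact mem_smul_top_iff_gen hU (I ^ (n + 1)) N x)
    (fun n => appL (Formal.modPowTrans I (n + 1) N) U)
    (fun n x => by
      change (Formal.modPowTrans I (n + 1) N).app U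
        ((Formal.modPowπ I (n + 1 + 1) N).app U x) = (Formal.modPowπ I (n + 1) N).app U x
      rw [← comp_app_apply, Formal.modPowπ_trans])
    (fun n t => evΓEquiv M (Formal.modPow I (n + 1) N) hU ((θ I M N (n + 1)).app U t))
    (fun n h => by
      change evΓEquiv M (Formal.modPow I (n + 1) N) hU ((θ I M N (n + 1)).app U
        ((Formal.modPowπ I (n + 1) (sHom M N)).app U ((evΓEquiv M N hU).symm h))) = _
      rw [← comp_app_apply, modPowπ_θ, evΓEquiv_sHomMap, LinearEquiv.apply_symm_apply])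
    (fun n => evΓEquiv M (Formal.modPow I (n + 1) N) hU (s n))
    (fun n => by
      rw [← hs n]
      exact (evΓEquiv_sHomMap M (Formal.modPow I (n + 1 + 1) N) hU
        (Formal.modPowTrans I (n + 1) N) (s (n + 1))).symm)
  obtain ⟨t, ⟨h1, h2⟩, h3⟩ := key
  refine ⟨t, ⟨h1, fun n => (evΓEquiv M (Formal.modPow I (n + 1) N) hU).injective (h2 n)⟩,
    fun t' ht' => h3 t' ⟨ht'.1, fun n => ?_⟩⟩
  exact congrArg (evΓEquiv M (Formal.modPow I (n + 1) N) hU) (ht'.2 n)


theorem compIso_of_coh_gen (hM : Coh.IsCoh M) (hN : Coh.IsCoh N) : CompIso I M N := by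
  have h := bijOn_of_affine (F := fun n => Formal.modPow I (n + 1) (sHom M N))
    (G := fun n => sHom M (Formal.modPow I (n + 1) N))
    (a := fun n => Formal.modPowTrans I (n + 1) (sHom M N))
    (b := fun n => sHomMap M (Formal.modPowTrans I (n + 1) N))
    (θ := fun n => θ I M N (n + 1))
    (fun n => (θ_trans I M N (n + 1)).symm)
    (fun U hU => bijOn_affine_gen I M N hU hM hN) ⊤
  exact h

theorem homLim_of_coh_gen (hM : Coh.IsCoh M) (hN : Coh.IsCoh N)
    (H1 : Function.Bijective (Formal.toHHlim I (sHom M N) 0)) : HomLim I M N :=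
  homLim_of I M N H1 (compIso_of_coh_gen I M N hM hN)


end main

end
end Groth.Agent.Lib.Helper17.FFaith
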