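import Mathlib
import Groth.Prelude.Def_Formal
import Groth.Agent.Lib.Helper17FFaith10

set_option autoImplicit false
universe u
open CategoryTheory CategoryTheory.Limits AlgebraicGeometry TopologicalSpace Opposite

namespace Groth.Agent.Lib.Helper17.FFaith

open Groth.Agent.Lib.Helper21.HomI Groth.Agent.Lib.Helper21.HomU
  Groth.Agent.Lib.Helper17.FlatDev Groth.Agent.Lib.Helper17.GrSysCoh
  Groth.Agent.Helper18PBUnit

noncomputable section

section killed

variable {A : Type u} [CommRing A] {X : Scheme.{u}} [X.Over (Spec (CommRingCat.of A))]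
  (M N : X.Modules)

theorem smulMod_sHom_eq (a : A) :
    Formal.smulMod A (sHom M N) a = sHomMap M (Formal.smulMod A N a) := by
  have := smulMod_sHomMap M a (𝟙 N)
  rw [sHomMap_id, Category.comp_id, Category.comp_id] at this
  exact this

theorem killedBy_sHom_of_right (J : Ideal A) (h : Formal.KilledBy J N) :
    Formal.KilledBy J (sHom M N) := by
  intro a ha
  rw [smulMod_sHom_eq, h a ha, sHomMap_zero]

theorem killedBy_sHom_of_left (J : Ideal A) (h : Formal.KilledBy J M) :
    Formal.KilledBy J (sHom M N) := by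
  intro a ha
  apply SheafOfModules.hom_ext
  apply PresheafOfModules.hom_ext
  intro W
  ext t
  apply HomFam.ext
  funext V b x
  have h1 : ((Formal.smulMod A M a).val.app (op V)).hom x = 0 := by
    rw [h a ha]
    rfl
  change (X.ringCatSheaf.obj.map b.op).hom
        (Coh.resTop X W (Coh.toGlobal (X ↘ Spec (CommRingCat.of A)) a)) •
          HomFam.val (secOut W.unop t) V b x = 0
  rw [Coh.resTop_comp, ← (secOut W.unop t).smul V b]
  have h2 : (Coh.resTop X (op V) (Coh.toGlobal (X ↘ Spec (CommRingCat.of A)) a)) • x = 0 := h1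
  have h3 : (secOut (unop W) t).val V b
      ((Coh.resTop X (op V)) ((Coh.toGlobal (X ↘ Spec (CommRingCat.of A))) a) • x) =
      (secOut (unop W) t).val V b 0 := congrArg _ h2
  exact h3.trans ((secOut (unop W) t).zero' V b)

end killed

section tower

theorem tower_bijective {H : Type*} [AddCommGroup H] (Hn : ℕ → Type*) [∀ n, AddCommGroup (Hn n)]
    (π : ∀ n, H →+ Hn n) (t : ∀ n, Hn (n + 1) →+ Hn n) (ht : ∀ n x, t n (π (n + 1) x) = π n x)
    (c : ℕ) (hπ : ∀ n, c ≤ n → Function.Bijective (π n)) :
    (∀ x, (∀ n, π n x = 0) → x = 0) ∧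
    (∀ y : ∀ n, Hn n, (∀ n, t n (y (n + 1)) = y n) → ∃ x, ∀ n, π n x = y n) := by
  have htinj : ∀ n, c ≤ n → Function.Injective (t n) := by
    intro n hn a b hab
    obtain ⟨a', rfl⟩ := (hπ (n + 1) (hn.trans (Nat.le_succ n))).2 a
    obtain ⟨b', rfl⟩ := (hπ (n + 1) (hn.trans (Nat.le_succ n))).2 b
    rw [ht, ht] at hab
    rw [(hπ n hn).1 hab]
  constructor
  · intro x hx
    apply (hπ c le_rfl).1
    rw [hx c, map_zero]
  · intro y hy
    obtain ⟨x, hx⟩ := (hπ c le_rfl).2 (y c)
    refine ⟨x, ?_⟩
    have hup : ∀ n, c ≤ n → π n x = y n := by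
      intro n hn
      induction n, hn using Nat.le_induction with
      | base => exact hx
      | succ n hn ih =>
        apply htinj n hn
        rw [ht, hy, ih]
    have hdown : ∀ k n, n + k = c → π n x = y n := by
      intro k
      induction k with
      | zero =>
        intro n hn
        rw [Nat.add_zero] at hn
        rw [hn]
        exact hx
      | succ k ih =>
        intro n hn
        have h1 := ih (n + 1) (by omega)
        rw [← ht n x, h1, hy]
    intro n
    rcases le_total c n with h | h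
    · exact hup n h
    · exact hdown (c - n) n (by omega)

end tower

section formal

variable {A : Type u} [CommRing A] {X : Scheme.{u}} [X.Over (Spec (CommRingCat.of A))]
  (I : Ideal A) (M : X.Modules)

theorem isIso_cokernel_π_of_eq_zero {C : Type*} [Category C] [Abelian C] {P Q : C} (f : P ⟶ Q)
    (hf : f = 0) : IsIso (cokernel.π f) := by
  subst hf
  exact cokernel.π_zero_isIso

theorem isIso_modPowπ_of_killedBy (c n : ℕ) (hc : c ≤ n) (h : Formal.KilledBy (I ^ c) M) :
    IsIso (Formal.modPowπ I n M) := by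
  apply isIso_cokernel_π_of_eq_zero
  apply Sigma.hom_ext
  intro a
  rw [comp_zero, ι_smulFamily]
  exact h _ (Ideal.pow_le_pow_right hc a.2)

theorem HHmap_bijective_of_isIso {M N : X.Modules} (φ : M ⟶ N) [IsIso φ] (p : ℕ) :
    Function.Bijective (Sheaf.H.map ((SheafOfModules.toSheaf _).map φ) p) := by
  rw [Function.bijective_iff_has_inverse]
  let ψ : N ⟶ M := inv φ
  have h1 : φ ≫ ψ = 𝟙 M := IsIso.hom_inv_id φ
  have h2 : ψ ≫ φ = 𝟙 N := IsIso.inv_hom_id φ
  refine ⟨Sheaf.H.map ((SheafOfModules.toSheaf _).map ψ) p, fun x => ?_, fun x => ?_⟩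
  · refine (Formal.HHmap_comp φ ψ p x).trans ((congrArg (fun f : M ⟶ M =>
      Sheaf.H.map ((SheafOfModules.toSheaf _).map f) p x) h1).trans ?_)
    exact (congrArg (fun f => Sheaf.H.map f p x) (CategoryTheory.Functor.map_id _ _)).trans
      (Sheaf.H.map_id_apply x)
  · refine (Formal.HHmap_comp ψ φ p x).trans ((congrArg (fun f : N ⟶ N =>
      Sheaf.H.map ((SheafOfModules.toSheaf _).map f) p x) h2).trans ?_)
    exact (congrArg (fun f => Sheaf.H.map f p x) (CategoryTheory.Functor.map_id _ _)).trans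
      (Sheaf.H.map_id_apply x)

theorem toHHmodPow_trans (p n : ℕ) (x : Coh.HH X M p) :
    Formal.HHmodPowTrans I M p n (Formal.toHHmodPow I M p (n + 1) x) =
      Formal.toHHmodPow I M p n x :=
  (Formal.toHHlim I M p x).2 n

theorem toHHmodPow_bijective_of_killedBy (c : ℕ) (h : Formal.KilledBy (I ^ c) M) (p n : ℕ)
    (hn : c ≤ n) : Function.Bijective (Formal.toHHmodPow I M p n) := by
  haveI := isIso_modPowπ_of_killedBy I M c (n + 1) (hn.trans (Nat.le_succ n)) h
  exact HHmap_bijective_of_isIso (Formal.modPowπ I (n + 1) M) p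

theorem toHHlim_key (c : ℕ) (h : Formal.KilledBy (I ^ c) M) (p : ℕ) :
    (∀ x, (∀ n, Formal.toHHmodPow I M p n x = 0) → x = 0) ∧
    (∀ y : ∀ n, Formal.HHmodPow I M p n, (∀ n, Formal.HHmodPowTrans I M p n (y (n + 1)) = y n) →
      ∃ x, ∀ n, Formal.toHHmodPow I M p n x = y n) :=
  tower_bijective (H := Coh.HH X M p) (fun n => Formal.HHmodPow I M p n)
    (fun n => Formal.toHHmodPow I M p n) (fun n => Formal.HHmodPowTrans I M p n)
    (toHHmodPow_trans I M p) c (toHHmodPow_bijective_of_killedBy I M c h p)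

theorem toHHlim_apply (p n : ℕ) (x : Coh.HH X M p) :
    (Formal.toHHlim I M p x).1 n = Formal.toHHmodPow I M p n x := rfl

theorem toHHlim_bijective_of_killedBy (c : ℕ) (h : Formal.KilledBy (I ^ c) M) (p : ℕ) :
    Function.Bijective (Formal.toHHlim I M p) := by
  have key := toHHlim_key I M c h p
  constructor
  · rw [injective_iff_map_eq_zero]
    intro x hx
    apply key.1 x
    intro n
    rw [← toHHlim_apply, hx]
    rfl
  · intro y
    obtain ⟨x, hx⟩ := key.2 y.1 y.2
    refine ⟨x, ?_⟩
    apply Subtype.ext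
    funext n
    rw [toHHlim_apply]
    exact hx n


/-- completion is fully faithful on a pair of coherent modules one of which is `I`-power torsion. -/
theorem existsUnique_of_killedBy [IsLocallyNoetherian X] (F G : X.Modules) (hF : Coh.IsCoh F)
    (hG : Coh.IsCoh G)
    (hc : ∃ c : ℕ, Formal.KilledBy (I ^ c) F ∨ Formal.KilledBy (I ^ c) G)
    (ψ : Formal.completion I F ⟶ Formal.completion I G) :
    ∃! φ : F ⟶ G, ∀ n : ℕ,
      Formal.modPowπ I (n + 1) F ≫ ψ.app (op n) = φ ≫ Formal.modPowπ I (n + 1) G := by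
  obtain ⟨c, hc⟩ := hc
  have hk : Formal.KilledBy (I ^ c) (sHom F G) :=
    hc.elim (killedBy_sHom_of_left F G _) (killedBy_sHom_of_right F G _)
  have H1 := toHHlim_bijective_of_killedBy I (sHom F G) c hk 0
  exact existsUnique_of_homLim I F G (homLim_of_coh_gen I F G hF hG H1) ψ

end formal

end
end Groth.Agent.Lib.Helper17.FFaith
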