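import Mathlib
import Groth.Prelude.Def_ModSite
import Groth.Agent.Lib.Helper21HomI2
import Groth.Agent.Lib.Helper21ModTensor3

/-!
# Helper21: morphisms out of a tensor product of sheaves of modules are bilinear families
(for the ModSite rows S6157, S6158, S6853)
-/

set_option autoImplicit false
universe u
open CategoryTheory CategoryTheory.Limits Opposite MonoidalCategory

namespace Groth.Agent.Lib.Helper21.HomI

open Groth.Agent.Lib.Helper21.HomU Groth.Agent.Lib.Helper21.ModTensor2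
  Groth.Agent.Lib.Helper21.ModTensor3

noncomputable section

variable {C : Type u} [SmallCategory C] {J : GrothendieckTopology C} {O : Sheaf J CommRingCat.{u}}
  {A F G : ModSite.Mod O}

/-- the morphism of presheaves of modules `A ⊗ F ⟶ G` of a bilinear family. -/
def Bil.toPM (β : Bil A F G) : ((fgt O).obj A ⊗ (fgt O).obj F : PM O) ⟶ (fgt O).obj G where
  app X := ModuleCat.MonoidalCategory.tensorLift
    (M₁ := ((fgt O).obj A).obj X) (M₂ := ((fgt O).obj F).obj X) (M₃ := ((fgt O).obj G).obj X)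
    (fun a x => β.val X.unop a x)
    (fun a a' x => β.add_left X.unop a a' x) (fun r a x => β.smul_left X.unop r a x)
    (fun a x y => β.add_right X.unop a x y) (fun r a x => β.smul_right X.unop r a x)
  naturality {X Y} φ := ModuleCat.MonoidalCategory.tensor_ext (fun a x => by
    exact (β.compat φ.unop a x).symm)

/-- evaluation of a morphism `A ⊗ F ⟶ G` on a pure tensor, as a plain function. -/
def pmApp (t : ((fgt O).obj A ⊗ (fgt O).obj F : PM O) ⟶ (fgt O).obj G) (V : C)
    (a : A.val.obj (op V)) (x : F.val.obj (op V)) : G.val.obj (op V) :=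
  (t.app (op V)).hom (a ⊗ₜ x)

theorem pmApp_toPM (β : Bil A F G) (V : C) (a : A.val.obj (op V)) (x : F.val.obj (op V)) :
    pmApp β.toPM V a x = β.val V a x := rfl

section pm

variable (t : ((fgt O).obj A ⊗ (fgt O).obj F : PM O) ⟶ (fgt O).obj G) (X : Cᵒᵖ)

theorem pm_add_left (a a' : ((fgt O).obj A).obj X) (x : ((fgt O).obj F).obj X) :
    (t.app X).hom ((a + a') ⊗ₜ x) = (t.app X).hom (a ⊗ₜ x) + (t.app X).hom (a' ⊗ₜ x) := by
  have h := map_add (t.app X).hom (a ⊗ₜ x) (a' ⊗ₜ x)
  rw [TensorProduct.add_tmul]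
  exact h

theorem pm_add_right (a : ((fgt O).obj A).obj X) (x y : ((fgt O).obj F).obj X) :
    (t.app X).hom (a ⊗ₜ (x + y)) = (t.app X).hom (a ⊗ₜ x) + (t.app X).hom (a ⊗ₜ y) := by
  have h := map_add (t.app X).hom (a ⊗ₜ x) (a ⊗ₜ y)
  rw [TensorProduct.tmul_add]
  exact h

theorem pm_smul_left (r : (O.obj ⋙ forget₂ CommRingCat.{u} RingCat.{u}).obj X)
    (a : ((fgt O).obj A).obj X) (x : ((fgt O).obj F).obj X) :
    (t.app X).hom ((r • a) ⊗ₜ x) = r • (t.app X).hom (a ⊗ₜ x) := by
  have h := map_smul (t.app X).hom r (a ⊗ₜ x)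
  rw [← TensorProduct.smul_tmul']
  exact h

theorem pm_smul_right (r : (O.obj ⋙ forget₂ CommRingCat.{u} RingCat.{u}).obj X)
    (a : ((fgt O).obj A).obj X) (x : ((fgt O).obj F).obj X) :
    (t.app X).hom (a ⊗ₜ (r • x)) = r • (t.app X).hom (a ⊗ₜ x) := by
  have h := map_smul (t.app X).hom r (a ⊗ₜ x)
  rw [TensorProduct.tmul_smul]
  exact h

end pm

/-- the bilinear family of a morphism `A ⊗ F ⟶ G` of presheaves of modules. -/
def Bil.ofPM (t : ((fgt O).obj A ⊗ (fgt O).obj F : PM O) ⟶ (fgt O).obj G) : Bil A F G where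
  val V a x := pmApp t V a x
  add_left V a a' x := pm_add_left t (op V) a a' x
  add_right V a x y := pm_add_right t (op V) a x y
  smul_left V r a x := pm_smul_left t (op V) r a x
  smul_right V r a x := pm_smul_right t (op V) r a x
  compat {V' V} g a x := by
    exact (PresheafOfModules.naturality_apply t g.op (a ⊗ₜ x)).symm

theorem Bil.ofPM_val (t : ((fgt O).obj A ⊗ (fgt O).obj F : PM O) ⟶ (fgt O).obj G) (V : C)
    (a : A.val.obj (op V)) (x : F.val.obj (op V)) : (Bil.ofPM t).val V a x = pmApp t V a x := rfl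

/-- `Bil(A, F; G) ≃ Hom(A ⊗ F, G)` on presheaves of modules. -/
def bilEquivPM : Bil A F G ≃ (((fgt O).obj A ⊗ (fgt O).obj F : PM O) ⟶ (fgt O).obj G) where
  toFun := Bil.toPM
  invFun := Bil.ofPM
  left_inv β := by
    apply Bil.ext
    funext V a x
    rfl
  right_inv t := by
    apply PresheafOfModules.hom_ext
    intro X
    apply ModuleCat.MonoidalCategory.tensor_ext
    intro a x
    rfl

/-- `Hom(A ⊗_O F, G) ≃ Bil(A, F; G)`. -/
def tensorEquiv : (((ModSite.tensorBi O).obj A).obj F ⟶ G) ≃ Bil A F G :=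
  ((adj O).homEquiv ((fgt O).obj A ⊗ (fgt O).obj F : PM O) G).trans bilEquivPM.symm

theorem tensorEquiv_comp {G' : ModSite.Mod O} (h : ((ModSite.tensorBi O).obj A).obj F ⟶ G)
    (g : G ⟶ G') : tensorEquiv (h ≫ g) = (tensorEquiv h).postcomp g := by
  change Bil.ofPM ((adj O).homEquiv _ _ (h ≫ g)) = (Bil.ofPM ((adj O).homEquiv _ _ h)).postcomp g
  rw [Adjunction.homEquiv_naturality_right]
  rfl

theorem tensorEquiv_precomp {A' : ModSite.Mod O} (u : A' ⟶ A)
    (h : ((ModSite.tensorBi O).obj A).obj F ⟶ G) :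
    tensorEquiv ((tR O F).map u ≫ h) = (tensorEquiv h).precomp u := by
  change Bil.ofPM ((adj O).homEquiv _ _ ((shf O).map ((fgt O).map u ▷ (fgt O).obj F) ≫ h)) =
    (Bil.ofPM ((adj O).homEquiv _ _ h)).precomp u
  rw [Adjunction.homEquiv_naturality_left]
  rfl

end

end Groth.Agent.Lib.Helper21.HomI
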