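import Mathlib
import Groth.Prelude.Def_ModSite
import Groth.Agent.Lib.Helper21HomI3

set_option autoImplicit false
universe u
open CategoryTheory CategoryTheory.Limits Opposite

/-!
# Helper17: the adjunction `- ⊗ F ⊣ ℋom(F, -)` on a ringed site, for helper21's explicit internal Hom
-/

namespace Groth.Agent.Lib.Helper17.FFaith

open Groth.Agent.Lib.Helper21.HomI Groth.Agent.Lib.Helper21.HomU Groth.Agent.Lib.Helper21.ModTensor2
  Groth.Agent.Lib.Helper21.ModTensor3

noncomputable section

variable {C : Type u} [SmallCategory C] {J : GrothendieckTopology C} {O : Sheaf J CommRingCat.{u}}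

theorem iHomMap_id (F G : ModSite.Mod O) : iHomMap F (𝟙 G) = 𝟙 (iHom F G) := by
  apply SheafOfModules.hom_ext
  apply PresheafOfModules.hom_ext
  intro W
  ext h
  rfl

theorem iHomMap_comp (F : ModSite.Mod O) {G G' G'' : ModSite.Mod O} (g : G ⟶ G') (g' : G' ⟶ G'') :
    iHomMap F (g ≫ g') = iHomMap F g ≫ iHomMap F g' := by
  apply SheafOfModules.hom_ext
  apply PresheafOfModules.hom_ext
  intro W
  ext h
  rfl

/-- the functor `ℋom(F, -)` on a ringed site. -/
def iHomF (F : ModSite.Mod O) : ModSite.Mod O ⥤ ModSite.Mod O where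
  obj G := iHom F G
  map g := iHomMap F g
  map_id G := iHomMap_id F G
  map_comp g g' := iHomMap_comp F g g'

/-- `Hom(A ⊗ F, G) ≃ Hom(A, ℋom(F, G))`. -/
def thEquiv (F A G : ModSite.Mod O) :
    (((ModSite.tensorBi O).obj A).obj F ⟶ G) ≃ (A ⟶ iHom F G) :=
  (tensorEquiv (A := A) (F := F) (G := G)).trans (curryEquiv (A := A) (F := F) (G := G))

theorem thEquiv_apply (F A G : ModSite.Mod O) (h : ((ModSite.tensorBi O).obj A).obj F ⟶ G) :
    thEquiv F A G h = curryEquiv (A := A) (F := F) (G := G)
      (tensorEquiv (A := A) (F := F) (G := G) h) := rfl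

theorem thEquiv_precomp (F : ModSite.Mod O) {A A' G : ModSite.Mod O} (u : A' ⟶ A)
    (h : ((ModSite.tensorBi O).obj A).obj F ⟶ G) :
    thEquiv F A' G ((tR O F).map u ≫ h) = u ≫ thEquiv F A G h := by
  rw [thEquiv_apply, thEquiv_apply, tensorEquiv_precomp, curryEquiv_precomp]

theorem thEquiv_postcomp (F : ModSite.Mod O) {A G G' : ModSite.Mod O}
    (h : ((ModSite.tensorBi O).obj A).obj F ⟶ G)
    (g : G ⟶ G') : thEquiv F A G' (h ≫ g) = thEquiv F A G h ≫ iHomMap F g := by
  rw [thEquiv_apply, thEquiv_apply, tensorEquiv_comp, curryEquiv_postcomp]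



theorem thEquiv_postcomp' (F : ModSite.Mod O) {A G G' : ModSite.Mod O}
    (h : (tR O F).obj A ⟶ G)
    (g : G ⟶ G') : thEquiv F A G' (h ≫ g) = thEquiv F A G h ≫ (iHomF F).map g := by
  have := thEquiv_postcomp F (A := A) (G := G) (G' := G') h g
  exact this

theorem thEquiv_precomp' (F : ModSite.Mod O) {A A' G : ModSite.Mod O} (u : A' ⟶ A)
    (g : A ⟶ (iHomF F).obj G) :
    (thEquiv F A' G).symm (u ≫ g) = (tR O F).map u ≫ (thEquiv F A G).symm g := by
  rw [Equiv.symm_apply_eq]
  have h1 := thEquiv_precomp F (A := A) (A' := A') (G := G) u ((thEquiv F A G).symm g)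
  have h2 := Equiv.apply_symm_apply (thEquiv F A G) g
  rw [h2] at h1
  exact h1.symm

/-- the adjunction `- ⊗ F ⊣ ℋom(F, -)`. -/
def tensorHomAdjSite (F : ModSite.Mod O) : tR O F ⊣ iHomF F :=
  Adjunction.mkOfHomEquiv
    { homEquiv := fun A G => thEquiv F A G
      homEquiv_naturality_left_symm := fun {A' A G} u g => by
        have := thEquiv_precomp' F (A := A) (A' := A') (G := G) u g
        exact this
      homEquiv_naturality_right := fun {A G G'} h g => by
        have := thEquiv_postcomp' F (A := A) (G := G) (G' := G') h g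
        exact this }

end

end Groth.Agent.Lib.Helper17.FFaith
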