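import Mathlib
import Groth.Agent.Lib.Helper18PBUnit1

set_option autoImplicit false
set_option linter.style.haveILetI false
universe u
open CategoryTheory CategoryTheory.Limits AlgebraicGeometry TopologicalSpace Opposite

namespace Groth.Agent.Helper18PBUnit

variable {X S : Scheme.{u}} (f : X ⟶ S)

theorem main_S3222 (hf : ∀ U : S.Opens, Function.Bijective (f.app U))
    (N N' : S.Modules) (hN' : FlatMod.IsFinLocFree N') :
    Function.Bijective (fun φ : N ⟶ N' => (Scheme.Modules.pullback f).map φ) := by
  haveI := isIso_unit f hf N' hN'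
  let adj := Scheme.Modules.pullbackPushforwardAdjunction f
  have h1 : ∀ φ : N ⟶ N', adj.homEquiv N ((Scheme.Modules.pullback f).obj N')
      ((Scheme.Modules.pullback f).map φ) = φ ≫ η f N' := by
    intro φ
    rw [Adjunction.homEquiv_unit]
    exact (adj.unit.naturality φ).symm
  constructor
  · intro φ ψ h
    have h2 : φ ≫ η f N' = ψ ≫ η f N' := by
      rw [← h1, ← h1]
      exact congrArg _ h
    exact (cancel_mono (η f N')).1 h2
  · intro g
    refine ⟨adj.homEquiv N _ g ≫ inv (η f N'), ?_⟩
    apply (adj.homEquiv N _).injective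
    rw [h1, Category.assoc, IsIso.inv_hom_id, Category.comp_id]


theorem isFinLocFree_of_iso {Y : Scheme.{u}} {M M' : Y.Modules} (e : M ≅ M')
    (h : FlatMod.IsFinLocFree M) : FlatMod.IsFinLocFree M' := by
  intro x
  obtain ⟨U, n, hxU, ⟨e'⟩⟩ := h x
  exact ⟨U, n, hxU, ⟨(Scheme.Modules.restrictFunctor U.ι).mapIso e.symm ≪≫ e'⟩⟩

theorem isFinLocFree_of_isInvertible {Y : Scheme.{u}} {L : Y.Modules} (h : PicF.IsInvertible L) :
    FlatMod.IsFinLocFree L := by
  intro x
  obtain ⟨U, hxU, ⟨e⟩⟩ := h x
  exact ⟨U, 1, hxU,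
    ⟨e ≪≫ (coproductUniqueIso (fun _ : Fin 1 => Coh.structureModule (U : Scheme.{u}))).symm⟩⟩

theorem main_S7816 (hf : ∀ U : S.Opens, IsIso (f.app U)) (E : X.Modules) :
    (∃ M : S.Modules, FlatMod.IsFinLocFree M ∧ Nonempty (E ≅ (Scheme.Modules.pullback f).obj M)) ↔
      (FlatMod.IsFinLocFree ((Scheme.Modules.pushforward f).obj E) ∧
        IsIso ((Scheme.Modules.pullbackPushforwardAdjunction f).counit.app E)) := by
  have hf' : ∀ U : S.Opens, Function.Bijective (f.app U) := fun U =>
    ConcreteCategory.bijective_of_isIso (f.app U)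
  let adj := Scheme.Modules.pullbackPushforwardAdjunction f
  constructor
  · rintro ⟨M, hM, ⟨e⟩⟩
    haveI := isIso_unit f hf' M hM
    refine ⟨isFinLocFree_of_iso
      ((Scheme.Modules.pushforward f).mapIso e ≪≫ (asIso (η f M)).symm).symm hM, ?_⟩
    have h1 : (Scheme.Modules.pullback f).map (η f M) ≫
        adj.counit.app ((Scheme.Modules.pullback f).obj M) = 𝟙 _ := adj.left_triangle_components M
    haveI h2 : IsIso (adj.counit.app ((Scheme.Modules.pullback f).obj M)) := by
      have : IsIso ((Scheme.Modules.pullback f).map (η f M) ≫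
        adj.counit.app ((Scheme.Modules.pullback f).obj M)) := by rw [h1]; infer_instance
      exact IsIso.of_isIso_comp_left ((Scheme.Modules.pullback f).map (η f M)) _
    have h3 := adj.counit.naturality e.hom
    have h4 : adj.counit.app E = (Scheme.Modules.pushforward f ⋙ Scheme.Modules.pullback f).map e.hom ≫
        adj.counit.app ((Scheme.Modules.pullback f).obj M) ≫ e.inv := by
      rw [← Category.assoc, h3]
      simp
    rw [h4]
    infer_instance
  · rintro ⟨h1, h2⟩
    exact ⟨_, h1, ⟨(asIso (adj.counit.app E)).symm⟩⟩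

/-- the canonical map `O_S → f_* O_X` of `O_S`-modules. -/
noncomputable def strToPush :
    Coh.structureModule S ⟶ (Scheme.Modules.pushforward f).obj (Coh.structureModule X) :=
  SheafOfModules.unitToPushforwardObjUnit f.toRingCatSheafHom

theorem strToPush_app (U : S.Opens) (a : Γ(S, U)) :
    (strToPush f).app U a = f.app U a := rfl

theorem isIso_strToPush (hf : ∀ U : S.Opens, Function.Bijective (f.app U)) : IsIso (strToPush f) := by
  rw [Scheme.Modules.Hom.isIso_iff_isIso_app]
  intro W
  exact (ConcreteCategory.isIso_iff_bijective _).2 (hf W)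

theorem main_S5683 (hf : ∀ U : S.Opens, Function.Bijective (f.app U)) (L : S.Modules)
    (hL : PicF.IsInvertible L)
    (htriv : Nonempty ((Scheme.Modules.pullback f).obj L ≅ Coh.structureModule X)) :
    Nonempty (L ≅ Coh.structureModule S) := by
  obtain ⟨e⟩ := htriv
  haveI := isIso_unit f hf L (isFinLocFree_of_isInvertible hL)
  haveI := isIso_strToPush f hf
  exact ⟨asIso (η f L) ≪≫ (Scheme.Modules.pushforward f).mapIso e ≪≫ (asIso (strToPush f)).symm⟩

end Groth.Agent.Helper18PBUnit
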