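import Mathlib
import Groth.Prelude.Def_ModSite
import Groth.Agent.Lib.Helper21ExtZero5
import Groth.Agent.Lib.Helper21RestrExact

open CategoryTheory MonoidalCategory Opposite Limits

universe u

namespace Groth.Agent.Lib.Helper21.ExtZero

variable {C : Type u} [SmallCategory C] {R : Cᵒᵖ ⥤ RingCat.{u}} {U : C}

theorem EAdj_homEquiv (G : PresheafOfModules.{u} (RU R U)) (M : PresheafOfModules.{u} R)
    (β : (EFunctor R U).obj G ⟶ M) : (EAdj R U).homEquiv G M β = adjTo G M β := by
  unfold EAdj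
  rw [Adjunction.mkOfHomEquiv_homEquiv]
  rfl

theorem EAdj_unit_app (G : PresheafOfModules.{u} (RU R U)) :
    (EAdj R U).unit.app G = adjTo G (E G) (𝟙 _) := by
  rw [← EAdj_homEquiv]
  exact ((EAdj R U).homEquiv_id G).symm

end Groth.Agent.Lib.Helper21.ExtZero

namespace Groth.Agent.Lib.Helper21.Dual

open Groth.Agent.Lib.Helper21.ModTensor Groth.Agent.Lib.Helper21.ModTensor2
  Groth.Agent.Lib.Helper21.ModTensor3 Groth.Agent.Lib.Helper21.ModTensor4
  Groth.Agent.Lib.Helper21.ModTensor5
  Groth.Agent.Lib.Helper21.ModTensor6 Groth.Agent.Lib.Helper21.ModRestr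
  Groth.Agent.Lib.Helper21.ExtZero Groth.Agent.Lib.Helper21.ExtZeroS

variable {C : Type u} [SmallCategory C] {J : GrothendieckTopology C} (O : Sheaf J CommRingCat.{u})
  (U : C)

/-- maps out of a sheafification are determined by the underlying presheaf maps. -/
theorem shf_hom_ext {P : PM O} {M : ModSite.Mod O} (a b : (shf O).obj P ⟶ M)
    (h : eta O P ≫ (fgt O).map a = eta O P ≫ (fgt O).map b) : a = b := by
  apply ((adj O).homEquiv P M).injective
  rw [Adjunction.homEquiv_unit, Adjunction.homEquiv_unit]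
  exact h

theorem eta_fgt_counit (M : ModSite.Mod O) :
    eta O ((fgt O).obj M) ≫ (fgt O).map ((adj O).counit.app M) = 𝟙 _ :=
  (adj O).right_triangle_components M

/-- (N3) -/
theorem eta_shfResIso (Q : PM O) :
    eta (O.over U) ((resP O U).obj Q) ≫ (fgt (O.over U)).map (shfResIso O U Q).hom =
      (resP O U).map (eta O Q) := by
  have h1 : (shfResIso O U Q).hom = (shf (O.over U)).map ((resP O U).map (eta O Q)) ≫
      (adj (O.over U)).counit.app ((ModSite.restr O U).obj ((shf O).obj Q)) := rfl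
  rw [h1, Functor.map_comp, ← Category.assoc]
  have h2 := eta_nat (O.over U) ((resP O U).map (eta O Q))
  have h3 : eta (O.over U) ((resP O U).obj Q) ≫
      (fgt (O.over U)).map ((shf (O.over U)).map ((resP O U).map (eta O Q))) =
      (resP O U).map (eta O Q) ≫ eta (O.over U) _ := h2.symm
  rw [h3, Category.assoc]
  have h4 := eta_fgt_counit (O.over U) ((ModSite.restr O U).obj ((shf O).obj Q))
  exact (congrArg ((resP O U).map (eta O Q) ≫ ·) h4).trans (Category.comp_id _)

/-- (N1) -/
theorem shfResIso_nat {Q₁ Q₂ : PM O} (f : Q₁ ⟶ Q₂) :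
    (shf (O.over U)).map ((resP O U).map f) ≫ (shfResIso O U Q₂).hom =
      (shfResIso O U Q₁).hom ≫ (ModSite.restr O U).map ((shf O).map f) := by
  apply shf_hom_ext
  rw [Functor.map_comp, Functor.map_comp, ← Category.assoc, ← Category.assoc,
    eta_shfResIso]
  have h2 : eta (O.over U) ((resP O U).obj Q₁) ≫
      (fgt (O.over U)).map ((shf (O.over U)).map ((resP O U).map f)) =
      (resP O U).map f ≫ eta (O.over U) _ := (eta_nat (O.over U) ((resP O U).map f)).symm
  rw [h2, Category.assoc, eta_shfResIso]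
  change (resP O U).map f ≫ (resP O U).map (eta O Q₂) =
    (resP O U).map (eta O Q₁) ≫ (resP O U).map ((fgt O).map ((shf O).map f))
  rw [← Functor.map_comp, ← Functor.map_comp, eta_nat]

/-- (N2) -/
theorem shfResIso_counit (G : ModSite.Mod O) :
    (shfResIso O U ((fgt O).obj G)).hom ≫ (ModSite.restr O U).map ((adj O).counit.app G) =
      (adj (O.over U)).counit.app ((ModSite.restr O U).obj G) := by
  apply shf_hom_ext
  rw [Functor.map_comp, ← Category.assoc, eta_shfResIso]
  change (resP O U).map (eta O ((fgt O).obj G)) ≫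
    (resP O U).map ((fgt O).map ((adj O).counit.app G)) = _
  rw [← Functor.map_comp, eta_fgt_counit]
  exact ((resP O U).map_id _).trans (eta_fgt_counit (O.over U) ((ModSite.restr O U).obj G)).symm

/-- presheaf-parametrized version of `restrTensorIso`. -/
noncomputable def μP (P Q : PM O) :
    (ModSite.restr O U).obj ((shf O).obj (P ⊗ Q)) ≅
      (shf (O.over U)).obj ((resP O U).obj P ⊗ (resP O U).obj Q : PM (O.over U)) :=
  (shfResIso O U (P ⊗ Q)).symm ≪≫ (shf (O.over U)).mapIso (resTensorIso O U P Q)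

theorem restrTensorIso_eq (M N : ModSite.Mod O) :
    restrTensorIso O U M N = μP O U ((fgt O).obj M) ((fgt O).obj N) := rfl

theorem μP_nat {P P' Q Q' : PM O} (a : P ⟶ P') (b : Q ⟶ Q') :
    (ModSite.restr O U).map ((shf O).map (a ⊗ₘ b)) ≫ (μP O U P' Q').hom =
      (μP O U P Q).hom ≫ (shf (O.over U)).map ((resP O U).map a ⊗ₘ (resP O U).map b) := by
  have h1 := shfResIso_nat O U (a ⊗ₘ b)
  have h2 := resTensorIso_nat O U a b
  have h1' : (ModSite.restr O U).map ((shf O).map (a ⊗ₘ b)) ≫ (shfResIso O U (P' ⊗ Q')).inv =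
      (shfResIso O U (P ⊗ Q)).inv ≫ (shf (O.over U)).map ((resP O U).map (a ⊗ₘ b)) := by
    rw [Iso.comp_inv_eq, Category.assoc, Iso.eq_inv_comp]
    exact h1.symm
  have h2' : (shf (O.over U)).map ((resP O U).map (a ⊗ₘ b)) ≫
      (shf (O.over U)).map (resTensorIso O U P' Q').hom =
      (shf (O.over U)).map (resTensorIso O U P Q).hom ≫
        (shf (O.over U)).map ((resP O U).map a ⊗ₘ (resP O U).map b) := by
    rw [← Functor.map_comp, ← Functor.map_comp, h2]
  calc (ModSite.restr O U).map ((shf O).map (a ⊗ₘ b)) ≫ ((shfResIso O U (P' ⊗ Q')).inv ≫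
        (shf (O.over U)).map (resTensorIso O U P' Q').hom)
      = ((ModSite.restr O U).map ((shf O).map (a ⊗ₘ b)) ≫ (shfResIso O U (P' ⊗ Q')).inv) ≫
        (shf (O.over U)).map (resTensorIso O U P' Q').hom := (Category.assoc _ _ _).symm
    _ = ((shfResIso O U (P ⊗ Q)).inv ≫ (shf (O.over U)).map ((resP O U).map (a ⊗ₘ b))) ≫
        (shf (O.over U)).map (resTensorIso O U P' Q').hom :=
      congrArg (· ≫ (shf (O.over U)).map (resTensorIso O U P' Q').hom) h1'
    _ = (shfResIso O U (P ⊗ Q)).inv ≫ ((shf (O.over U)).map ((resP O U).map (a ⊗ₘ b)) ≫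
        (shf (O.over U)).map (resTensorIso O U P' Q').hom) := Category.assoc _ _ _
    _ = (shfResIso O U (P ⊗ Q)).inv ≫ ((shf (O.over U)).map (resTensorIso O U P Q).hom ≫
        (shf (O.over U)).map ((resP O U).map a ⊗ₘ (resP O U).map b)) :=
      congrArg ((shfResIso O U (P ⊗ Q)).inv ≫ ·) h2'
    _ = _ := (Category.assoc _ _ _).symm

/-- the key relation between `μP` and the units. -/
theorem resP_eta_μP (P Q : PM O) :
    (resP O U).map (eta O (P ⊗ Q)) ≫ (fgt (O.over U)).map (μP O U P Q).hom =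
      (resTensorIso O U P Q).hom ≫ eta (O.over U) _ := by
  have h0 : eta (O.over U) ((resP O U).obj (P ⊗ Q)) ≫
      (fgt (O.over U)).map (shfResIso O U (P ⊗ Q)).hom = (resP O U).map (eta O (P ⊗ Q)) :=
    eta_shfResIso O U (P ⊗ Q)
  have h1 : (resP O U).map (eta O (P ⊗ Q)) ≫ (fgt (O.over U)).map (shfResIso O U (P ⊗ Q)).inv =
      eta (O.over U) ((resP O U).obj (P ⊗ Q)) := by
    have h3 : (fgt (O.over U)).map (shfResIso O U (P ⊗ Q)).hom ≫
        (fgt (O.over U)).map (shfResIso O U (P ⊗ Q)).inv = 𝟙 _ := by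
      rw [← Functor.map_comp, Iso.hom_inv_id]
      exact (fgt (O.over U)).map_id _
    calc (resP O U).map (eta O (P ⊗ Q)) ≫ (fgt (O.over U)).map (shfResIso O U (P ⊗ Q)).inv
        = (eta (O.over U) ((resP O U).obj (P ⊗ Q)) ≫
          (fgt (O.over U)).map (shfResIso O U (P ⊗ Q)).hom) ≫
          (fgt (O.over U)).map (shfResIso O U (P ⊗ Q)).inv :=
          congrArg (· ≫ (fgt (O.over U)).map (shfResIso O U (P ⊗ Q)).inv) h0.symm
      _ = eta (O.over U) ((resP O U).obj (P ⊗ Q)) ≫
          ((fgt (O.over U)).map (shfResIso O U (P ⊗ Q)).hom ≫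
          (fgt (O.over U)).map (shfResIso O U (P ⊗ Q)).inv) := Category.assoc _ _ _
      _ = eta (O.over U) ((resP O U).obj (P ⊗ Q)) ≫ 𝟙 _ :=
          congrArg (eta (O.over U) ((resP O U).obj (P ⊗ Q)) ≫ ·) h3
      _ = _ := Category.comp_id _
  have h2 := eta_nat (O.over U) (resTensorIso O U P Q).hom
  calc (resP O U).map (eta O (P ⊗ Q)) ≫ (fgt (O.over U)).map
        ((shfResIso O U (P ⊗ Q)).inv ≫ (shf (O.over U)).map (resTensorIso O U P Q).hom)
      = ((resP O U).map (eta O (P ⊗ Q)) ≫ (fgt (O.over U)).map (shfResIso O U (P ⊗ Q)).inv) ≫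
        (fgt (O.over U)).map ((shf (O.over U)).map (resTensorIso O U P Q).hom) := by
          rw [Functor.map_comp]
          exact (Category.assoc _ _ _).symm
    _ = eta (O.over U) ((resP O U).obj (P ⊗ Q)) ≫
        (fgt (O.over U)).map ((shf (O.over U)).map (resTensorIso O U P Q).hom) :=
      congrArg (· ≫ (fgt (O.over U)).map ((shf (O.over U)).map (resTensorIso O U P Q).hom)) h1
    _ = _ := h2.symm

theorem fgt_jShriekAdj_unit (B : ModSite.Mod (O.over U)) :
    (fgt (O.over U)).map ((jShriekAdj O U).unit.app B) =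
      (EsAdj O U).unit.app ((fgt (O.over U)).obj B) ≫
        (resP O U).map (eta O ((Es O U).obj ((fgt (O.over U)).obj B))) := by
  unfold jShriekAdj
  have h := Adjunction.map_restrictFullyFaithful_unit_app
    ((EsAdj O U).comp (adj O))
    (SheafOfModules.fullyFaithfulForget (ModSite.ringSh (O.over U))) (Functor.FullyFaithful.id _)
    (L := jShriek O U) (R := ModSite.restr O U)
    (Functor.rightUnitor _).symm (Functor.leftUnitor _ ≪≫ fgtResIso O U) B
  refine h.trans ?_
  rw [Adjunction.comp_unit_app]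
  simp only [Iso.symm_hom, Functor.rightUnitor_inv_app, Iso.trans_hom, NatTrans.comp_app,
    Functor.leftUnitor_hom_app]
  have e1 : (fgtResIso O U).hom.app ((jShriek O U).obj B) = 𝟙 _ := rfl
  simp only [e1, CategoryTheory.Functor.map_id, Category.id_comp, Category.comp_id]
  rfl

/-- characterization of `shfJShriekIso`. -/
theorem shfJShriekIso_char (Q : PM (O.over U)) :
    eta (O.over U) Q ≫ (fgt (O.over U)).map ((jShriekAdj O U).unit.app ((shf (O.over U)).obj Q)) ≫
      (fgt (O.over U)).map ((ModSite.restr O U).map ((shfJShriekIso O U).hom.app Q)) =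
    (EsAdj O U).unit.app Q ≫ (resP O U).map (eta O ((Es O U).obj Q)) := by
  have h := Adjunction.unit_leftAdjointUniq_hom_app ((adj (O.over U)).comp (jShriekAdj O U))
    (((EsAdj O U).comp (adj O)).ofNatIsoRight (fgtResIso O U)) Q
  rw [Adjunction.comp_unit_app] at h
  have h2 : (((EsAdj O U).comp (adj O)).ofNatIsoRight (fgtResIso O U)).unit.app Q =
      (EsAdj O U).unit.app Q ≫ (resP O U).map (eta O ((Es O U).obj Q)) := by
    rw [Adjunction.ofNatIsoRight_unit, NatTrans.comp_app, Adjunction.comp_unit_app]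
    have e1 : (Functor.whiskerLeft (Es O U ⋙ shf O) (fgtResIso O U).hom).app Q = 𝟙 _ := rfl
    rw [e1]
    exact Category.comp_id _
  rw [h2] at h
  rw [← h]
  simp only [Category.assoc]
  rfl

theorem μP_inv_eta (P Q : PM O) :
    eta (O.over U) ((resP O U).obj P ⊗ (resP O U).obj Q : PM (O.over U)) ≫
        (fgt (O.over U)).map (μP O U P Q).inv =
      (resTensorIso O U P Q).inv ≫ (resP O U).map (eta O (P ⊗ Q)) := by
  have h := resP_eta_μP O U P Q
  have h3 : (fgt (O.over U)).map (μP O U P Q).hom ≫ (fgt (O.over U)).map (μP O U P Q).inv =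
      𝟙 _ := by
    rw [← Functor.map_comp, Iso.hom_inv_id]
    exact (fgt (O.over U)).map_id _
  calc eta (O.over U) ((resP O U).obj P ⊗ (resP O U).obj Q : PM (O.over U)) ≫
        (fgt (O.over U)).map (μP O U P Q).inv
      = ((resTensorIso O U P Q).inv ≫ (resTensorIso O U P Q).hom) ≫
          eta (O.over U) ((resP O U).obj P ⊗ (resP O U).obj Q : PM (O.over U)) ≫
          (fgt (O.over U)).map (μP O U P Q).inv := by
        rw [Iso.inv_hom_id, Category.id_comp]
    _ = (resTensorIso O U P Q).inv ≫ ((resTensorIso O U P Q).hom ≫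
          eta (O.over U) ((resP O U).obj P ⊗ (resP O U).obj Q : PM (O.over U))) ≫
          (fgt (O.over U)).map (μP O U P Q).inv := by
        simp only [Category.assoc]
    _ = (resTensorIso O U P Q).inv ≫ ((resP O U).map (eta O (P ⊗ Q)) ≫
          (fgt (O.over U)).map (μP O U P Q).hom) ≫
          (fgt (O.over U)).map (μP O U P Q).inv := by rw [h]
    _ = (resTensorIso O U P Q).inv ≫ (resP O U).map (eta O (P ⊗ Q)) ≫
          ((fgt (O.over U)).map (μP O U P Q).hom ≫
          (fgt (O.over U)).map (μP O U P Q).inv) := by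
        simp only [Category.assoc]
    _ = _ := congrArg ((resTensorIso O U P Q).inv ≫ ·)
        ((congrArg ((resP O U).map (eta O (P ⊗ Q)) ≫ ·) h3).trans (Category.comp_id _))

theorem resTensorIso_inv_nat_left {P P' : PM O} (f : P ⟶ P') (Q : PM O) :
    ((resP O U).map f ▷ (resP O U).obj Q) ≫ (resTensorIso O U P' Q).inv =
      (resTensorIso O U P Q).inv ≫ (resP O U).map (f ▷ Q) := by
  have h := resTensorIso_nat O U f (𝟙 Q)
  rw [(resP O U).map_id, tensorHom_id, tensorHom_id] at h
  rw [Iso.comp_inv_eq, Category.assoc, Iso.eq_inv_comp]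
  exact h.symm

/-- (P₀): the presheaf projection iso is the mate of `resTensorIso`. -/
theorem P0 (G : PM (O.over U)) (Q : PM O) :
    (EsAdj O U).homEquiv _ _ (projIso (R₀ := O.obj) (U := U) G Q).hom =
      ((EsAdj O U).unit.app G ▷ (resP O U).obj Q) ≫
        (resTensorIso O U ((Es O U).obj G) Q).inv := by
  have hL : (EsAdj O U).homEquiv _ _ (projIso (R₀ := O.obj) (U := U) G Q).hom =
      adjTo (R := O.obj ⋙ forget₂ CommRingCat.{u} RingCat.{u}) (U := U) _ _
        (projIso (R₀ := O.obj) (U := U) G Q).hom :=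
    EAdj_homEquiv (R := O.obj ⋙ forget₂ CommRingCat.{u} RingCat.{u}) (U := U) _ _ _
  have hU : (EsAdj O U).unit.app G =
      adjTo (R := O.obj ⋙ forget₂ CommRingCat.{u} RingCat.{u}) (U := U) G _ (𝟙 _) :=
    EAdj_unit_app (R := O.obj ⋙ forget₂ CommRingCat.{u} RingCat.{u}) (U := U) _
  rw [hL, hU]
  ext A : 1
  apply ModuleCat.MonoidalCategory.tensor_ext
  intro p q
  refine (projIso_hom_app_ιc_tm G Q (op A.unop.left) A.unop.hom p q).trans ?_
  rfl


/-- (P): the projection iso `projIsoS` is the mate of `restrTensorIso`. -/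
theorem P_sheaf (B : ModSite.Mod (O.over U)) (N : ModSite.Mod O) :
    (jShriekAdj O U).homEquiv _ _ (projIsoS O U B N).hom =
      (shf (O.over U)).map ((fgt (O.over U)).map ((jShriekAdj O U).unit.app B) ▷
        (resP O U).obj ((fgt O).obj N)) ≫
      (μP O U ((fgt O).obj ((jShriek O U).obj B)) ((fgt O).obj N)).inv := by
  set B₀ := (fgt (O.over U)).obj B with hB₀
  set N₀ := (fgt O).obj N with hN₀
  refine shf_hom_ext (O.over U) (P := (B₀ ⊗ (resP O U).obj N₀ : PM (O.over U))) _ _ ?_
  -- RHS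
  have hR1 := eta_nat (O.over U) ((fgt (O.over U)).map ((jShriekAdj O U).unit.app B) ▷
        (resP O U).obj N₀)
  have hR2 := μP_inv_eta O U ((fgt O).obj ((jShriek O U).obj B)) N₀
  have hu := fgt_jShriekAdj_unit O U B
  have hR3 := resTensorIso_inv_nat_left O U (eta O ((Es O U).obj B₀)) N₀
  -- LHS
  have hL1 := shfJShriekIso_char O U (B₀ ⊗ (resP O U).obj N₀ : PM (O.over U))
  have hP0 := P0 O U B₀ N₀
  have hL2 := eta_nat O ((projIso (R₀ := O.obj) (U := U) B₀ N₀).hom ≫ (eta O ((Es O U).obj B₀) ▷ N₀))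
  have hA : (fgt (O.over U)).map ((jShriekAdj O U).homEquiv _ _ (projIsoS O U B N).hom) =
      (fgt (O.over U)).map ((jShriekAdj O U).unit.app
        ((shf (O.over U)).obj (B₀ ⊗ (resP O U).obj N₀ : PM (O.over U)))) ≫
      (fgt (O.over U)).map ((ModSite.restr O U).map
        ((shfJShriekIso O U).hom.app (B₀ ⊗ (resP O U).obj N₀ : PM (O.over U)))) ≫
      (resP O U).map ((fgt O).map (θ₀ O U B₀ N₀).hom) := by
    rw [Adjunction.homEquiv_unit]
    exact ((fgt (O.over U)).map_comp _ _).trans (congrArg (_ ≫ ·)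
      (((fgt (O.over U)).congr_map ((ModSite.restr O U).map_comp
        ((shfJShriekIso O U).hom.app (B₀ ⊗ (resP O U).obj N₀ : PM (O.over U)))
        (θ₀ O U B₀ N₀).hom)).trans ((fgt (O.over U)).map_comp _ _)))
  have hθ : (θ₀ O U B₀ N₀).hom = (shf O).map ((projIso (R₀ := O.obj) (U := U) B₀ N₀).hom ≫
      (eta O ((Es O U).obj B₀) ▷ N₀)) := by
    rw [Functor.map_comp]
    rfl
  have hP0' : (EsAdj O U).unit.app (B₀ ⊗ (resP O U).obj N₀ : PM (O.over U)) ≫
      (resP O U).map (projIso (R₀ := O.obj) (U := U) B₀ N₀).hom =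
      (EsAdj O U).unit.app B₀ ▷ (resP O U).obj N₀ ≫
        (resTensorIso O U ((Es O U).obj B₀) N₀).inv := by
    rw [← hP0, Adjunction.homEquiv_unit]
    rfl
  have hLHS : eta (O.over U) (B₀ ⊗ (resP O U).obj N₀ : PM (O.over U)) ≫
      (fgt (O.over U)).map ((jShriekAdj O U).homEquiv _ _ (projIsoS O U B N).hom) =
      (EsAdj O U).unit.app B₀ ▷ (resP O U).obj N₀ ≫
        (resTensorIso O U ((Es O U).obj B₀) N₀).inv ≫
        (resP O U).map (eta O ((Es O U).obj B₀) ▷ N₀) ≫
        (resP O U).map (eta O (aa O ((Es O U).obj B₀) ⊗ N₀)) := by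
    have h5 : eta O ((Es O U).obj (B₀ ⊗ (resP O U).obj N₀ : PM (O.over U))) ≫
        (fgt O).map (θ₀ O U B₀ N₀).hom =
        ((projIso (R₀ := O.obj) (U := U) B₀ N₀).hom ≫ eta O ((Es O U).obj B₀) ▷ N₀) ≫
          eta O (aa O ((Es O U).obj B₀) ⊗ N₀) := by
      rw [hθ]
      exact hL2.symm
    calc eta (O.over U) (B₀ ⊗ (resP O U).obj N₀ : PM (O.over U)) ≫
          (fgt (O.over U)).map ((jShriekAdj O U).homEquiv _ _ (projIsoS O U B N).hom)
        = eta (O.over U) (B₀ ⊗ (resP O U).obj N₀ : PM (O.over U)) ≫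
          ((fgt (O.over U)).map ((jShriekAdj O U).unit.app
            ((shf (O.over U)).obj (B₀ ⊗ (resP O U).obj N₀ : PM (O.over U)))) ≫
          (fgt (O.over U)).map ((ModSite.restr O U).map
            ((shfJShriekIso O U).hom.app (B₀ ⊗ (resP O U).obj N₀ : PM (O.over U)))) ≫
          (resP O U).map ((fgt O).map (θ₀ O U B₀ N₀).hom)) :=
          congrArg (eta (O.over U) (B₀ ⊗ (resP O U).obj N₀ : PM (O.over U)) ≫ ·) hA
      _ = (eta (O.over U) (B₀ ⊗ (resP O U).obj N₀ : PM (O.over U)) ≫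
          (fgt (O.over U)).map ((jShriekAdj O U).unit.app
            ((shf (O.over U)).obj (B₀ ⊗ (resP O U).obj N₀ : PM (O.over U)))) ≫
          (fgt (O.over U)).map ((ModSite.restr O U).map
            ((shfJShriekIso O U).hom.app (B₀ ⊗ (resP O U).obj N₀ : PM (O.over U))))) ≫
          (resP O U).map ((fgt O).map (θ₀ O U B₀ N₀).hom) := by
          simp only [Category.assoc]
      _ = ((EsAdj O U).unit.app (B₀ ⊗ (resP O U).obj N₀ : PM (O.over U)) ≫
          (resP O U).map (eta O ((Es O U).obj (B₀ ⊗ (resP O U).obj N₀ : PM (O.over U))))) ≫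
          (resP O U).map ((fgt O).map (θ₀ O U B₀ N₀).hom) :=
          congrArg (· ≫ (resP O U).map ((fgt O).map (θ₀ O U B₀ N₀).hom)) hL1
      _ = (EsAdj O U).unit.app (B₀ ⊗ (resP O U).obj N₀ : PM (O.over U)) ≫
          (resP O U).map (eta O ((Es O U).obj (B₀ ⊗ (resP O U).obj N₀ : PM (O.over U))) ≫
            (fgt O).map (θ₀ O U B₀ N₀).hom) := by
          rw [Functor.map_comp, Category.assoc]
      _ = (EsAdj O U).unit.app (B₀ ⊗ (resP O U).obj N₀ : PM (O.over U)) ≫
          (resP O U).map (((projIso (R₀ := O.obj) (U := U) B₀ N₀).hom ≫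
            eta O ((Es O U).obj B₀) ▷ N₀) ≫ eta O (aa O ((Es O U).obj B₀) ⊗ N₀)) :=
          congrArg (fun x => (EsAdj O U).unit.app (B₀ ⊗ (resP O U).obj N₀ : PM (O.over U)) ≫
            (resP O U).map x) h5
      _ = ((EsAdj O U).unit.app (B₀ ⊗ (resP O U).obj N₀ : PM (O.over U)) ≫
          (resP O U).map (projIso (R₀ := O.obj) (U := U) B₀ N₀).hom) ≫
          (resP O U).map (eta O ((Es O U).obj B₀) ▷ N₀) ≫
          (resP O U).map (eta O (aa O ((Es O U).obj B₀) ⊗ N₀)) := by
          rw [Functor.map_comp, Functor.map_comp]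
          simp only [Category.assoc]
      _ = ((EsAdj O U).unit.app B₀ ▷ (resP O U).obj N₀ ≫
          (resTensorIso O U ((Es O U).obj B₀) N₀).inv) ≫
          (resP O U).map (eta O ((Es O U).obj B₀) ▷ N₀) ≫
          (resP O U).map (eta O (aa O ((Es O U).obj B₀) ⊗ N₀)) :=
          congrArg (· ≫ (resP O U).map (eta O ((Es O U).obj B₀) ▷ N₀) ≫
            (resP O U).map (eta O (aa O ((Es O U).obj B₀) ⊗ N₀))) hP0'
      _ = _ := Category.assoc _ _ _
  have hRHS : eta (O.over U) (B₀ ⊗ (resP O U).obj N₀ : PM (O.over U)) ≫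
      (fgt (O.over U)).map ((shf (O.over U)).map
        ((fgt (O.over U)).map ((jShriekAdj O U).unit.app B) ▷ (resP O U).obj N₀) ≫
        (μP O U ((fgt O).obj ((jShriek O U).obj B)) N₀).inv) =
      (EsAdj O U).unit.app B₀ ▷ (resP O U).obj N₀ ≫
        (resTensorIso O U ((Es O U).obj B₀) N₀).inv ≫
        (resP O U).map (eta O ((Es O U).obj B₀) ▷ N₀) ≫
        (resP O U).map (eta O (aa O ((Es O U).obj B₀) ⊗ N₀)) := by
    have hw : (fgt (O.over U)).map ((jShriekAdj O U).unit.app B) ▷ (resP O U).obj N₀ =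
        (EsAdj O U).unit.app B₀ ▷ (resP O U).obj N₀ ≫
          (resP O U).map (eta O ((Es O U).obj B₀)) ▷ (resP O U).obj N₀ := by
      exact (congrArg (fun x => x ▷ (resP O U).obj N₀) hu).trans (comp_whiskerRight _ _ _)
    have hR_a : eta (O.over U) (B₀ ⊗ (resP O U).obj N₀ : PM (O.over U)) ≫
          (fgt (O.over U)).map ((shf (O.over U)).map
            ((fgt (O.over U)).map ((jShriekAdj O U).unit.app B) ▷ (resP O U).obj N₀) ≫
            (μP O U ((fgt O).obj ((jShriek O U).obj B)) N₀).inv) =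
        (fgt (O.over U)).map ((jShriekAdj O U).unit.app B) ▷ (resP O U).obj N₀ ≫
          ((resTensorIso O U ((fgt O).obj ((jShriek O U).obj B)) N₀).inv ≫
            (resP O U).map (eta O ((fgt O).obj ((jShriek O U).obj B) ⊗ N₀))) := by
      calc eta (O.over U) (B₀ ⊗ (resP O U).obj N₀ : PM (O.over U)) ≫
              (fgt (O.over U)).map ((shf (O.over U)).map
                ((fgt (O.over U)).map ((jShriekAdj O U).unit.app B) ▷ (resP O U).obj N₀) ≫
                (μP O U ((fgt O).obj ((jShriek O U).obj B)) N₀).inv)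
            = (eta (O.over U) (B₀ ⊗ (resP O U).obj N₀ : PM (O.over U)) ≫
              aaMap (O.over U) ((fgt (O.over U)).map ((jShriekAdj O U).unit.app B) ▷
                (resP O U).obj N₀)) ≫
              (fgt (O.over U)).map (μP O U ((fgt O).obj ((jShriek O U).obj B)) N₀).inv := by
              rw [Functor.map_comp]
              exact (Category.assoc _ _ _).symm
          _ = ((fgt (O.over U)).map ((jShriekAdj O U).unit.app B) ▷ (resP O U).obj N₀ ≫
              eta (O.over U) ((resP O U).obj ((fgt O).obj ((jShriek O U).obj B)) ⊗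
                (resP O U).obj N₀ : PM (O.over U))) ≫
              (fgt (O.over U)).map (μP O U ((fgt O).obj ((jShriek O U).obj B)) N₀).inv :=
              congrArg (· ≫ (fgt (O.over U)).map
                (μP O U ((fgt O).obj ((jShriek O U).obj B)) N₀).inv) hR1.symm
          _ = (fgt (O.over U)).map ((jShriekAdj O U).unit.app B) ▷ (resP O U).obj N₀ ≫
              (eta (O.over U) ((resP O U).obj ((fgt O).obj ((jShriek O U).obj B)) ⊗
                (resP O U).obj N₀ : PM (O.over U)) ≫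
              (fgt (O.over U)).map (μP O U ((fgt O).obj ((jShriek O U).obj B)) N₀).inv) :=
              Category.assoc _ _ _
          _ = _ :=
              congrArg ((fgt (O.over U)).map ((jShriekAdj O U).unit.app B) ▷ (resP O U).obj N₀ ≫ ·) hR2
    have hR_b : ((EsAdj O U).unit.app B₀ ▷ (resP O U).obj N₀ ≫
          (resP O U).map (eta O ((Es O U).obj B₀)) ▷ (resP O U).obj N₀) ≫
          ((resTensorIso O U (aa O ((Es O U).obj B₀)) N₀).inv ≫
            (resP O U).map (eta O (aa O ((Es O U).obj B₀) ⊗ N₀))) =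
        (EsAdj O U).unit.app B₀ ▷ (resP O U).obj N₀ ≫
        (resTensorIso O U ((Es O U).obj B₀) N₀).inv ≫
        (resP O U).map (eta O ((Es O U).obj B₀) ▷ N₀) ≫
        (resP O U).map (eta O (aa O ((Es O U).obj B₀) ⊗ N₀)) := by
      calc ((EsAdj O U).unit.app B₀ ▷ (resP O U).obj N₀ ≫
              (resP O U).map (eta O ((Es O U).obj B₀)) ▷ (resP O U).obj N₀) ≫
              ((resTensorIso O U (aa O ((Es O U).obj B₀)) N₀).inv ≫
                (resP O U).map (eta O (aa O ((Es O U).obj B₀) ⊗ N₀)))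
            = (EsAdj O U).unit.app B₀ ▷ (resP O U).obj N₀ ≫
              ((resP O U).map (eta O ((Es O U).obj B₀)) ▷ (resP O U).obj N₀ ≫
              (resTensorIso O U (aa O ((Es O U).obj B₀)) N₀).inv) ≫
                (resP O U).map (eta O (aa O ((Es O U).obj B₀) ⊗ N₀)) := by
              simp only [Category.assoc]
          _ = (EsAdj O U).unit.app B₀ ▷ (resP O U).obj N₀ ≫
              ((resTensorIso O U ((Es O U).obj B₀) N₀).inv ≫
                (resP O U).map (eta O ((Es O U).obj B₀) ▷ N₀)) ≫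
                (resP O U).map (eta O (aa O ((Es O U).obj B₀) ⊗ N₀)) :=
              congrArg (fun x => (EsAdj O U).unit.app B₀ ▷ (resP O U).obj N₀ ≫ x ≫
                (resP O U).map (eta O (aa O ((Es O U).obj B₀) ⊗ N₀))) hR3
          _ = _ := by simp only [Category.assoc]
    exact hR_a.trans ((congrArg (· ≫ ((resTensorIso O U (aa O ((Es O U).obj B₀)) N₀).inv ≫
            (resP O U).map (eta O (aa O ((Es O U).obj B₀) ⊗ N₀)))) hw).trans hR_b)
  exact hLHS.trans hRHS.symm

end Groth.Agent.Lib.Helper21.Dual
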