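import Mathlib
import Groth.Agent.Lib.Helper21SheafHomLES
import Groth.Agent.Lib.Helper21CoDelta
import Groth.Agent.Lib.Helper21ModTensor7
import Groth.Agent.Lib.Helper21DerPost

/-!
# Helper21: the local Ext sheaves `ℰxt^p(M, G)` as a contravariant δ-functor in `M` (ringed sites);
vanishing for finite free `M`
-/

set_option autoImplicit false

universe u

open CategoryTheory CategoryTheory.Limits Opposite

namespace Groth.Agent.Lib.Helper21.ExtShDelta

open Groth.Agent.Lib.Helper21.SheafHomLES Groth.Agent.Lib.Helper21.DerLES2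
  Groth.Agent.Lib.Helper21.GammaZ Groth.Agent.Lib.Helper21.CoDeltaLib
  Groth.Agent.Lib.Helper21.ModTensor3 Groth.Agent.Lib.Helper21.ModTensor5
  Groth.Agent.Lib.Helper21.ModTensor7 Groth.Agent.Lib.Helper21.DerPost

variable {C : Type u} [SmallCategory C] {J : GrothendieckTopology C} (O : Sheaf J CommRingCat.{u})

theorem hasSheafHom (M : ModSite.Mod O) : ModSite.HasSheafHom M := tR_isLeftAdjoint O M

attribute [local instance] hasSheafHom

theorem sheafHom_preservesFiniteLimits (M : ModSite.Mod O) [ModSite.HasSheafHom M] :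
    PreservesFiniteLimits (ModSite.sheafHom M) := by
  haveI : PreservesLimitsOfSize.{0, 0} (ModSite.sheafHom M) :=
    (ModSite.sheafHomAdj M).rightAdjoint_preservesLimits
  exact PreservesLimitsOfSize.preservesFiniteLimits.{0, 0} _

variable {O}

theorem main (S : ShortComplex (ModSite.Mod O)) (hS : S.ShortExact) (G : ModSite.Mod O)
    [ModSite.HasSheafHom S.X₁] [ModSite.HasSheafHom S.X₂] [ModSite.HasSheafHom S.X₃]
    [HasInjectiveResolutions (ModSite.Mod O)] :
    Mono ((NatTrans.rightDerived (ExtSupp.sheafHomMap S.g) 0).app G) ∧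
    (∀ p : ℕ, ∃ w : (NatTrans.rightDerived (ExtSupp.sheafHomMap S.g) p).app G ≫
        (NatTrans.rightDerived (ExtSupp.sheafHomMap S.f) p).app G = 0,
      (ShortComplex.mk _ _ w).Exact) ∧
    ∃ δ : ∀ p : ℕ, ((ModSite.sheafHom S.X₁).rightDerived p).obj G ⟶
        ((ModSite.sheafHom S.X₃).rightDerived (p + 1)).obj G,
      ∀ p : ℕ,
        (∃ w : (NatTrans.rightDerived (ExtSupp.sheafHomMap S.f) p).app G ≫ δ p = 0,
          (ShortComplex.mk _ _ w).Exact) ∧
        (∃ w : δ p ≫ (NatTrans.rightDerived (ExtSupp.sheafHomMap S.g) (p + 1)).app G = 0,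
          (ShortComplex.mk _ _ w).Exact) := by
  haveI := sheafHom_preservesFiniteLimits O S.X₃
  haveI := sheafHom_preservesFiniteLimits O S.X₂
  let α := ExtSupp.sheafHomMap S.g
  let β := ExtSupp.sheafHomMap S.f
  have w : α ≫ β = 0 := by
    ext Q : 2
    exact sheafHomMap_comp S Q
  have hmono : ∀ Q : ModSite.Mod O, Mono (α.app Q) := fun Q => mono_sheafHomMap_g S hS Q
  have hex : ∀ Q : ModSite.Mod O, Injective Q → (ShortComplex.mk (α.app Q) (β.app Q) (by
      rw [← NatTrans.comp_app, w]; rfl)).ShortExact := by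
    intro Q hQ
    refine ShortComplex.ShortExact.mk' (sheafHomMap_exact S hS Q) (hmono Q) ?_
    exact epi_of_surjective_app _ (fun V => sheafHomMap_f_surjective S hS Q V.unop)
  exact les α β w hex G (hmono G)

theorem sheafHomMap_comp' {M M' M'' : ModSite.Mod O} [ModSite.HasSheafHom M]
    [ModSite.HasSheafHom M'] [ModSite.HasSheafHom M''] (u : M'' ⟶ M') (v : M' ⟶ M) :
    ExtSupp.sheafHomMap (u ≫ v) = ExtSupp.sheafHomMap v ≫ ExtSupp.sheafHomMap u := by
  unfold ExtSupp.sheafHomMap
  rw [conjugateEquiv_comp, Functor.map_comp]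

variable [HasInjectiveResolutions (ModSite.Mod O)] (G : ModSite.Mod O)

/-- the local Ext sheaves as a contravariant δ-functor. -/
noncomputable def extShDelta : CoDelta (ModSite.Mod O) (ModSite.Mod O) where
  E p M := ((ModSite.sheafHom M).rightDerived p).obj G
  map p {_ _} u := (NatTrans.rightDerived (ExtSupp.sheafHomMap u) p).app G
  map_comp p {_ _ _} u v := by
    rw [sheafHomMap_comp', NatTrans.rightDerived_comp, NatTrans.comp_app]
  mono_zero S hS := (main S hS G).1
  exact₂ S hS := (main S hS G).2.1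
  δ S hS := Classical.choose (main S hS G).2.2
  exact₃ S hS p := ((Classical.choose_spec (main S hS G).2.2) p).1
  exact₁ S hS p := ((Classical.choose_spec (main S hS G).2.2) p).2

/-- the higher right derived functors of an exact functor vanish. -/
theorem isZero_rightDerived_succ_of_preservesHomology {𝒞 𝒟 : Type*} [Category 𝒞] [Category 𝒟]
    [Abelian 𝒞] [Abelian 𝒟] [HasInjectiveResolutions 𝒞] (F : 𝒞 ⥤ 𝒟) [F.Additive]
    [F.PreservesHomology] (X : 𝒞) (n : ℕ) : IsZero ((F.rightDerived (n + 1)).obj X) := by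
  let I := injectiveResolution X
  refine IsZero.of_iso ?_ (I.isoRightDerivedObj F (n + 1))
  have h : (I.cocomplex).ExactAt (n + 1) := I.cocomplex_exactAt_succ n
  have h' : ((F.mapHomologicalComplex _).obj I.cocomplex).ExactAt (n + 1) :=
    ShortComplex.Exact.map h F
  exact (HomologicalComplex.exactAt_iff_isZero_homology _ _).1 h'

variable (O) in
/-- `ℋom(O, -) ≅ 𝟭`. -/
noncomputable def sheafHomUnitIso : ModSite.sheafHom (ModSite.unit O) ≅ 𝟭 (ModSite.Mod O) :=
  let e : tR O (ModSite.unit O) ≅ 𝟭 (ModSite.Mod O) :=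
    ((brd O).app (ModSite.unit O)).symm ≪≫ tLUnitIso O
  (ModSite.sheafHomAdj (ModSite.unit O)).rightAdjointUniq (Adjunction.id.ofNatIsoLeft e.symm)

theorem isZero_extSh_unit (q : ℕ) :
    IsZero (((ModSite.sheafHom (ModSite.unit O)).rightDerived (q + 1)).obj G) := by
  haveI : PreservesFiniteColimits (ModSite.sheafHom (ModSite.unit O)) :=
    preservesFiniteColimits_of_natIso (sheafHomUnitIso O).symm
  haveI := sheafHom_preservesFiniteLimits O (ModSite.unit O)
  exact isZero_rightDerived_succ_of_preservesHomology _ G q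

/-- `ℰxt^{q+1}(M, G) = 0` for `M` finite free. -/
theorem isZero_extSh_free {n : ℕ} (M : ModSite.Mod O)
    (e : M ≅ ∐ fun _ : Fin n => ModSite.unit O) (q : ℕ) :
    IsZero (((ModSite.sheafHom M).rightDerived (q + 1)).obj G) :=
  (extShDelta G).isZero_E_of_iso e.symm (q + 1)
    ((extShDelta G).isZero_E_sigma (q + 1) n _ (fun _ => isZero_extSh_unit G q))

end Groth.Agent.Lib.Helper21.ExtShDelta
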