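import Mathlib
import Groth.Prelude.Def_ModSite
import Groth.Agent.Lib.Helper21Dual1
import Groth.Agent.Lib.Helper21ExtShDelta

open CategoryTheory MonoidalCategory Opposite Limits

universe u

namespace Groth.Agent.Lib.Helper21.Dual

open Groth.Agent.Lib.Helper21.ModTensor Groth.Agent.Lib.Helper21.ModTensor2
  Groth.Agent.Lib.Helper21.ModTensor3 Groth.Agent.Lib.Helper21.ModTensor4
  Groth.Agent.Lib.Helper21.ModTensor5
  Groth.Agent.Lib.Helper21.ModTensor6 Groth.Agent.Lib.Helper21.ModRestr
  Groth.Agent.Lib.Helper21.ExtZero Groth.Agent.Lib.Helper21.ExtZeroS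
  Groth.Agent.Lib.Helper21.RestrExact

variable {C : Type u} [SmallCategory C] {J : GrothendieckTopology C} (O : Sheaf J CommRingCat.{u})
  (U : C)

theorem μP_inv_nat {P P' Q Q' : PM O} (a : P ⟶ P') (b : Q ⟶ Q') :
    (μP O U P Q).inv ≫ (ModSite.restr O U).map ((shf O).map (a ⊗ₘ b)) =
      (shf (O.over U)).map ((resP O U).map a ⊗ₘ (resP O U).map b) ≫ (μP O U P' Q').inv := by
  have h := μP_nat O U a b
  rw [Iso.inv_comp_eq, ← Category.assoc, Iso.eq_comp_inv]
  exact h

/-- (T) -/
theorem restrTensorIso_inv_eq (A E : ModSite.Mod O) :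
    (μP O U ((fgt O).obj A) ((fgt O).obj E)).inv =
      (jShriekAdj O U).homEquiv _ _ ((projIsoS O U ((ModSite.restr O U).obj A) E).hom ≫
        (tR O E).map ((jShriekAdj O U).counit.app A)) := by
  rw [Adjunction.homEquiv_naturality_right, P_sheaf]
  have h1 := μP_inv_nat O U ((fgt O).map ((jShriekAdj O U).counit.app A)) (𝟙 ((fgt O).obj E))
  have h2 := (jShriekAdj O U).right_triangle_components A
  have h1' : (μP O U ((fgt O).obj ((jShriek O U).obj ((ModSite.restr O U).obj A)))
        ((fgt O).obj E)).inv ≫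
      (ModSite.restr O U).map ((tR O E).map ((jShriekAdj O U).counit.app A)) =
      (shf (O.over U)).map
        ((fgt (O.over U)).map ((ModSite.restr O U).map ((jShriekAdj O U).counit.app A)) ▷
          (resP O U).obj ((fgt O).obj E)) ≫ (μP O U ((fgt O).obj A) ((fgt O).obj E)).inv := by
    rw [(resP O U).map_id, tensorHom_id, tensorHom_id] at h1
    exact h1
  have h3 : (shf (O.over U)).map
          ((fgt (O.over U)).map ((jShriekAdj O U).unit.app ((ModSite.restr O U).obj A)) ▷
            (resP O U).obj ((fgt O).obj E)) ≫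
      (shf (O.over U)).map
        ((fgt (O.over U)).map ((ModSite.restr O U).map ((jShriekAdj O U).counit.app A)) ▷
          (resP O U).obj ((fgt O).obj E)) = 𝟙 _ := by
    rw [← Functor.map_comp, ← comp_whiskerRight, ← Functor.map_comp, h2]
    have e1 : (fgt (O.over U)).map (𝟙 ((ModSite.restr O U).obj A)) = 𝟙 _ :=
      (fgt (O.over U)).map_id _
    rw [e1]
    exact ((shf (O.over U)).congr_map (MonoidalCategory.id_whiskerRight _ _)).trans
      ((shf (O.over U)).map_id _)
  symm
  exact (Category.assoc _ _ _).trans ((congrArg (_ ≫ ·) h1').trans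
    ((Category.assoc _ _ _).symm.trans
      ((congrArg (· ≫ (μP O U ((fgt O).obj A) ((fgt O).obj E)).inv) h3).trans
        (Category.id_comp _))))

attribute [local instance] Groth.Agent.Lib.Helper21.ExtShDelta.hasSheafHom

theorem restrSheafHomIso_eq (M : ModSite.Mod O) :
    restrSheafHomIso O U M =
      (((jShriekAdj O U).comp (ModSite.sheafHomAdj M)).ofNatIsoLeft
        (projR O U M).symm).rightAdjointUniq
        ((ModSite.sheafHomAdj ((ModSite.restr O U).obj M)).comp (jShriekAdj O U)) := rfl

/-- (K₀) -/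
theorem adjunct_restrSheafHomIso (E G : ModSite.Mod O) :
    ((ModSite.sheafHomAdj ((ModSite.restr O U).obj E)).homEquiv _ _).symm
        ((restrSheafHomIso O U E).hom.app G) =
      (μP O U ((fgt O).obj ((ModSite.sheafHom E).obj G)) ((fgt O).obj E)).inv ≫
        (ModSite.restr O U).map ((ModSite.sheafHomAdj E).counit.app G) := by
  apply ((jShriekAdj O U).homEquiv _ _).symm.injective
  have h1 := Adjunction.homEquiv_symm_rightAdjointUniq_hom_app
    (((jShriekAdj O U).comp (ModSite.sheafHomAdj E)).ofNatIsoLeft (projR O U E).symm)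
    ((ModSite.sheafHomAdj ((ModSite.restr O U).obj E)).comp (jShriekAdj O U)) G
  rw [← restrSheafHomIso_eq] at h1
  rw [Adjunction.comp_homEquiv] at h1
  have hR : ((jShriekAdj O U).homEquiv _ _).symm
      ((μP O U ((fgt O).obj ((ModSite.sheafHom E).obj G)) ((fgt O).obj E)).inv ≫
        (ModSite.restr O U).map ((ModSite.sheafHomAdj E).counit.app G)) =
      ((projIsoS O U ((ModSite.restr O U).obj ((ModSite.sheafHom E).obj G)) E).hom ≫
        (tR O E).map ((jShriekAdj O U).counit.app ((ModSite.sheafHom E).obj G))) ≫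
        (ModSite.sheafHomAdj E).counit.app G := by
    have h2 := (jShriekAdj O U).homEquiv_naturality_right_symm
      (μP O U ((fgt O).obj ((ModSite.sheafHom E).obj G)) ((fgt O).obj E)).inv
      ((ModSite.sheafHomAdj E).counit.app G)
    refine h2.trans ?_
    have h3 := congrArg ((jShriekAdj O U).homEquiv _ _).symm
      (restrTensorIso_inv_eq O U ((ModSite.sheafHom E).obj G) E)
    have h3' := h3.trans (Equiv.symm_apply_apply ((jShriekAdj O U).homEquiv _ _) _)
    exact congrArg (· ≫ (ModSite.sheafHomAdj E).counit.app G) h3'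
  refine Eq.trans ?_ hR.symm
  refine h1.trans ?_
  rw [Adjunction.ofNatIsoLeft_counit, NatTrans.comp_app, Adjunction.comp_counit_app]
  exact (Category.assoc _ _ _).symm

end Groth.Agent.Lib.Helper21.Dual
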