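import Mathlib
import Groth.Prelude.Def_ModSite
import Groth.Agent.Lib.Helper21Dual2

open CategoryTheory MonoidalCategory Opposite Limits

universe u

namespace Groth.Agent.Lib.Helper21.Dual

open Groth.Agent.Lib.Helper21.ModTensor Groth.Agent.Lib.Helper21.ModTensor2
  Groth.Agent.Lib.Helper21.ModTensor3 Groth.Agent.Lib.Helper21.ModTensor4
  Groth.Agent.Lib.Helper21.ModTensor5
  Groth.Agent.Lib.Helper21.ModTensor6 Groth.Agent.Lib.Helper21.ModRestr
  Groth.Agent.Lib.Helper21.ExtZero Groth.Agent.Lib.Helper21.ExtZeroS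
  Groth.Agent.Lib.Helper21.RestrExact

variable {C : Type u} [SmallCategory C] {J : GrothendieckTopology C} (O : Sheaf J CommRingCat.{u})

/-- presheaf-level map `(G₀ ⊗ D₀) ⊗ E₀ → G₀` induced by a pairing. -/
noncomputable def m₀ (G₀ D₀ E₀ : PM O) (e : D₀ ⊗ E₀ ⟶ 𝟙_ (PM O)) : (G₀ ⊗ D₀) ⊗ E₀ ⟶ G₀ :=
  (α_ G₀ D₀ E₀).hom ≫ (G₀ ◁ e) ≫ (ρ_ G₀).hom

variable (U : C)

/-- (M): `m₀` commutes with restriction. -/
theorem resP_m₀ (G₀ D₀ E₀ : PM O) (e : D₀ ⊗ E₀ ⟶ 𝟙_ (PM O)) :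
    ((resTensorIso O U G₀ D₀).inv ▷ (resP O U).obj E₀) ≫ (resTensorIso O U (G₀ ⊗ D₀) E₀).inv ≫
      (resP O U).map (m₀ O G₀ D₀ E₀ e) =
    m₀ (O.over U) ((resP O U).obj G₀) ((resP O U).obj D₀) ((resP O U).obj E₀)
      ((resTensorIso O U D₀ E₀).inv ≫ (resP O U).map e) := by
  ext A : 1
  apply ModuleCat.MonoidalCategory.tensor_ext₃'
  intro g d x
  rfl

variable {O}

/-- presheaf-level pairing induced by `ev : D ⊗ E ⟶ O`. -/
noncomputable def ev₀ {D E : ModSite.Mod O}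
    (ev : ((ModSite.tensorBi O).obj D).obj E ⟶ ModSite.unit O) :
    ((fgt O).obj D ⊗ (fgt O).obj E : PM O) ⟶ 𝟙_ (PM O) :=
  eta O ((fgt O).obj D ⊗ (fgt O).obj E) ≫ (fgt O).map ev

/-- the contraction `a(a(G ⊗ D₀) ⊗ E₀) ⟶ G` induced by a presheaf pairing `e : D₀ ⊗ E₀ ⟶ O`. -/
noncomputable def cflatP (G : ModSite.Mod O) (D₀ E₀ : PM O) (e : D₀ ⊗ E₀ ⟶ 𝟙_ (PM O)) :
    (shf O).obj (aa O ((fgt O).obj G ⊗ D₀) ⊗ E₀) ⟶ G :=
  @inv _ _ _ _ ((shf O).map (eta O ((fgt O).obj G ⊗ D₀) ▷ E₀))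
      (isIso_shf_map_eta_whiskerRight _ _) ≫
    (shf O).map (m₀ O ((fgt O).obj G) D₀ E₀ e) ≫ (adj O).counit.app G

theorem shf_eta_cflatP (G : ModSite.Mod O) (D₀ E₀ : PM O) (e : D₀ ⊗ E₀ ⟶ 𝟙_ (PM O)) :
    (shf O).map (eta O ((fgt O).obj G ⊗ D₀) ▷ E₀) ≫ cflatP G D₀ E₀ e =
      (shf O).map (m₀ O ((fgt O).obj G) D₀ E₀ e) ≫ (adj O).counit.app G := by
  haveI := isIso_shf_map_eta_whiskerRight (O := O) ((fgt O).obj G ⊗ D₀) E₀
  unfold cflatP
  exact IsIso.hom_inv_id_assoc _ _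

/-- the contraction `(G ⊗ D) ⊗ E ⟶ G` induced by a pairing `ev : D ⊗ E ⟶ O`. -/
noncomputable def cflat (G : ModSite.Mod O) {D E : ModSite.Mod O}
    (ev : ((ModSite.tensorBi O).obj D).obj E ⟶ ModSite.unit O) :
    (tR O E).obj ((tR O D).obj G) ⟶ G :=
  cflatP G ((fgt O).obj D) ((fgt O).obj E) (ev₀ ev)

variable (O)

/-- the restricted pairing. -/
noncomputable def evRes {D E : ModSite.Mod O}
    (ev : ((ModSite.tensorBi O).obj D).obj E ⟶ ModSite.unit O) :
    ((ModSite.tensorBi (O.over U)).obj ((ModSite.restr O U).obj D)).obj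
      ((ModSite.restr O U).obj E) ⟶ ModSite.unit (O.over U) :=
  (μP O U ((fgt O).obj D) ((fgt O).obj E)).inv ≫ (ModSite.restr O U).map ev

theorem ev₀_evRes {D E : ModSite.Mod O}
    (ev : ((ModSite.tensorBi O).obj D).obj E ⟶ ModSite.unit O) :
    ev₀ (evRes O U ev) =
      (resTensorIso O U ((fgt O).obj D) ((fgt O).obj E)).inv ≫ (resP O U).map (ev₀ ev) := by
  unfold ev₀ evRes
  have h := μP_inv_eta O U ((fgt O).obj D) ((fgt O).obj E)
  exact (congrArg (eta (O.over U) _ ≫ ·) ((fgt (O.over U)).map_comp _ _)).trans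
    ((Category.assoc _ _ _).symm.trans
      ((congrArg (· ≫ (fgt (O.over U)).map ((ModSite.restr O U).map ev)) h).trans
        ((Category.assoc _ _ _).trans
          (congrArg ((resTensorIso O U ((fgt O).obj D) ((fgt O).obj E)).inv ≫ ·)
            ((resP O U).map_comp _ _).symm))))

/-- (L1♭): the contraction commutes with restriction. -/
theorem cflatP_restr (G : ModSite.Mod O) (D₀ E₀ : PM O) (e : D₀ ⊗ E₀ ⟶ 𝟙_ (PM O)) :
    (μP O U (aa O ((fgt O).obj G ⊗ D₀)) E₀).inv ≫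
        (ModSite.restr O U).map (cflatP G D₀ E₀ e) =
      (shf (O.over U)).map ((fgt (O.over U)).map (μP O U ((fgt O).obj G) D₀).hom ▷
        (resP O U).obj E₀) ≫
      cflatP ((ModSite.restr O U).obj G) ((resP O U).obj D₀) ((resP O U).obj E₀)
        ((resTensorIso O U D₀ E₀).inv ≫ (resP O U).map e) := by
  set G₀ := (fgt O).obj G with hG₀
  set G₀' := (resP O U).obj G₀ with hG₀'
  set D₀' := (resP O U).obj D₀ with hD₀'
  set E₀' := (resP O U).obj E₀ with hE₀'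
  -- the isos a, b, b'
  let a := (shf (O.over U)).map (eta (O.over U) (G₀' ⊗ D₀' : PM (O.over U)) ▷ E₀')
  let b := (shf (O.over U)).map ((fgt (O.over U)).map (μP O U G₀ D₀).inv ▷ E₀')
  let b' := (shf (O.over U)).map ((fgt (O.over U)).map (μP O U G₀ D₀).hom ▷ E₀')
  haveI ha : IsIso a := isIso_shf_map_eta_whiskerRight _ _
  have hb'b : b' ≫ b = 𝟙 _ := by
    show (shf (O.over U)).map _ ≫ (shf (O.over U)).map _ = _
    rw [← Functor.map_comp, ← comp_whiskerRight, ← Functor.map_comp, Iso.hom_inv_id]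
    have e1 : (fgt (O.over U)).map (𝟙 ((ModSite.restr O U).obj ((shf O).obj (G₀ ⊗ D₀)))) = 𝟙 _ :=
      (fgt (O.over U)).map_id _
    rw [e1]
    exact ((shf (O.over U)).congr_map (MonoidalCategory.id_whiskerRight _ _)).trans
      ((shf (O.over U)).map_id _)
  -- a ≫ b = ι'
  have hab : a ≫ b = (shf (O.over U)).map
      (((resTensorIso O U G₀ D₀).inv ≫ (resP O U).map (eta O (G₀ ⊗ D₀))) ▷ E₀') := by
    show (shf (O.over U)).map _ ≫ (shf (O.over U)).map _ = _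
    rw [← Functor.map_comp, ← comp_whiskerRight]
    exact (shf (O.over U)).congr_map (congrArg (· ▷ E₀') (μP_inv_eta O U G₀ D₀))
  set X := aa O (G₀ ⊗ D₀) with hX
  have step1 : (((resTensorIso O U G₀ D₀).inv ≫ (resP O U).map (eta O (G₀ ⊗ D₀))) ▷ E₀') ≫
      (resTensorIso O U X E₀).inv =
      ((resTensorIso O U G₀ D₀).inv ▷ E₀') ≫ (resTensorIso O U (G₀ ⊗ D₀) E₀).inv ≫
        (resP O U).map (eta O (G₀ ⊗ D₀) ▷ E₀) := by
    rw [comp_whiskerRight, Category.assoc]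
    exact congrArg (((resTensorIso O U G₀ D₀).inv ▷ E₀') ≫ ·)
      (resTensorIso_inv_nat_left O U (eta O (G₀ ⊗ D₀)) E₀)
  have step2 := shfResIso_nat O U (eta O (G₀ ⊗ D₀) ▷ E₀)
  have step3 : (ModSite.restr O U).map ((shf O).map (eta O (G₀ ⊗ D₀) ▷ E₀)) ≫
      (ModSite.restr O U).map (cflatP G D₀ E₀ e) =
      (ModSite.restr O U).map ((shf O).map (m₀ O G₀ D₀ E₀ e)) ≫
        (ModSite.restr O U).map ((adj O).counit.app G) := by
    rw [← Functor.map_comp, ← Functor.map_comp]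
    exact congrArg (ModSite.restr O U).map (shf_eta_cflatP G D₀ E₀ e)
  have step4 := (shfResIso_nat O U (m₀ O G₀ D₀ E₀ e)).symm
  have step5 := shfResIso_counit O U G
  have step6 := resP_m₀ O U G₀ D₀ E₀ e
  have key : (a ≫ b) ≫ ((μP O U X E₀).inv ≫ (ModSite.restr O U).map (cflatP G D₀ E₀ e)) =
      (shf (O.over U)).map (m₀ (O.over U) G₀' D₀' E₀'
        ((resTensorIso O U D₀ E₀).inv ≫ (resP O U).map e)) ≫
        (adj (O.over U)).counit.app ((ModSite.restr O U).obj G) := by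
    rw [hab]
    have hμ : (μP O U X E₀).inv = (shf (O.over U)).map (resTensorIso O U X E₀).inv ≫
        (shfResIso O U (X ⊗ E₀)).hom := rfl
    rw [hμ]
    calc (shf (O.over U)).map
          (((resTensorIso O U G₀ D₀).inv ≫ (resP O U).map (eta O (G₀ ⊗ D₀))) ▷ E₀') ≫
        (((shf (O.over U)).map (resTensorIso O U X E₀).inv ≫ (shfResIso O U (X ⊗ E₀)).hom) ≫
          (ModSite.restr O U).map (cflatP G D₀ E₀ e))
        = (shf (O.over U)).map ((((resTensorIso O U G₀ D₀).inv ≫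
            (resP O U).map (eta O (G₀ ⊗ D₀))) ▷ E₀') ≫ (resTensorIso O U X E₀).inv) ≫
          (shfResIso O U (X ⊗ E₀)).hom ≫ (ModSite.restr O U).map (cflatP G D₀ E₀ e) := by
          rw [Functor.map_comp]
          simp only [Category.assoc]
      _ = ((shf (O.over U)).map (((resTensorIso O U G₀ D₀).inv ▷ E₀') ≫
            (resTensorIso O U (G₀ ⊗ D₀) E₀).inv) ≫
          (shf (O.over U)).map ((resP O U).map (eta O (G₀ ⊗ D₀) ▷ E₀))) ≫
          (shfResIso O U (X ⊗ E₀)).hom ≫ (ModSite.restr O U).map (cflatP G D₀ E₀ e) := by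
          rw [step1, ← Functor.map_comp, Category.assoc]
      _ = (shf (O.over U)).map (((resTensorIso O U G₀ D₀).inv ▷ E₀') ≫
            (resTensorIso O U (G₀ ⊗ D₀) E₀).inv) ≫
          ((shf (O.over U)).map ((resP O U).map (eta O (G₀ ⊗ D₀) ▷ E₀)) ≫
          (shfResIso O U (X ⊗ E₀)).hom) ≫ (ModSite.restr O U).map (cflatP G D₀ E₀ e) := by
          simp only [Category.assoc]
      _ = (shf (O.over U)).map (((resTensorIso O U G₀ D₀).inv ▷ E₀') ≫
            (resTensorIso O U (G₀ ⊗ D₀) E₀).inv) ≫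
          ((shfResIso O U ((G₀ ⊗ D₀) ⊗ E₀)).hom ≫
            (ModSite.restr O U).map ((shf O).map (eta O (G₀ ⊗ D₀) ▷ E₀))) ≫
          (ModSite.restr O U).map (cflatP G D₀ E₀ e) := by rw [step2]
      _ = (shf (O.over U)).map (((resTensorIso O U G₀ D₀).inv ▷ E₀') ≫
            (resTensorIso O U (G₀ ⊗ D₀) E₀).inv) ≫
          (shfResIso O U ((G₀ ⊗ D₀) ⊗ E₀)).hom ≫
            ((ModSite.restr O U).map ((shf O).map (eta O (G₀ ⊗ D₀) ▷ E₀)) ≫
          (ModSite.restr O U).map (cflatP G D₀ E₀ e)) := by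
          simp only [Category.assoc]
      _ = (shf (O.over U)).map (((resTensorIso O U G₀ D₀).inv ▷ E₀') ≫
            (resTensorIso O U (G₀ ⊗ D₀) E₀).inv) ≫
          (shfResIso O U ((G₀ ⊗ D₀) ⊗ E₀)).hom ≫
            ((ModSite.restr O U).map ((shf O).map (m₀ O G₀ D₀ E₀ e)) ≫
        (ModSite.restr O U).map ((adj O).counit.app G)) := by rw [step3]
      _ = (shf (O.over U)).map (((resTensorIso O U G₀ D₀).inv ▷ E₀') ≫
            (resTensorIso O U (G₀ ⊗ D₀) E₀).inv) ≫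
          ((shfResIso O U ((G₀ ⊗ D₀) ⊗ E₀)).hom ≫
            (ModSite.restr O U).map ((shf O).map (m₀ O G₀ D₀ E₀ e))) ≫
        (ModSite.restr O U).map ((adj O).counit.app G) := by
          simp only [Category.assoc]
      _ = (shf (O.over U)).map (((resTensorIso O U G₀ D₀).inv ▷ E₀') ≫
            (resTensorIso O U (G₀ ⊗ D₀) E₀).inv) ≫
          ((shf (O.over U)).map ((resP O U).map (m₀ O G₀ D₀ E₀ e)) ≫
            (shfResIso O U G₀).hom) ≫
        (ModSite.restr O U).map ((adj O).counit.app G) := by rw [step4]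
      _ = (shf (O.over U)).map (((resTensorIso O U G₀ D₀).inv ▷ E₀') ≫
            (resTensorIso O U (G₀ ⊗ D₀) E₀).inv) ≫
          (shf (O.over U)).map ((resP O U).map (m₀ O G₀ D₀ E₀ e)) ≫
            ((shfResIso O U G₀).hom ≫
        (ModSite.restr O U).map ((adj O).counit.app G)) := by
          simp only [Category.assoc]
      _ = (shf (O.over U)).map (((resTensorIso O U G₀ D₀).inv ▷ E₀') ≫
            (resTensorIso O U (G₀ ⊗ D₀) E₀).inv) ≫
          (shf (O.over U)).map ((resP O U).map (m₀ O G₀ D₀ E₀ e)) ≫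
            (adj (O.over U)).counit.app ((ModSite.restr O U).obj G) := by rw [step5]
      _ = _ := by
          rw [← step6, Functor.map_comp, Functor.map_comp, Functor.map_comp]
          simp only [Category.assoc]
          rfl
  have h1 : b ≫ ((μP O U X E₀).inv ≫ (ModSite.restr O U).map (cflatP G D₀ E₀ e)) =
      cflatP ((ModSite.restr O U).obj G) D₀' E₀'
        ((resTensorIso O U D₀ E₀).inv ≫ (resP O U).map e) :=
    (IsIso.eq_inv_comp a).2 ((Category.assoc _ _ _).symm.trans key)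
  calc (μP O U X E₀).inv ≫ (ModSite.restr O U).map (cflatP G D₀ E₀ e)
      = 𝟙 _ ≫ ((μP O U X E₀).inv ≫ (ModSite.restr O U).map (cflatP G D₀ E₀ e)) :=
        (Category.id_comp _).symm
    _ = (b' ≫ b) ≫ ((μP O U X E₀).inv ≫ (ModSite.restr O U).map (cflatP G D₀ E₀ e)) :=
        congrArg (· ≫ ((μP O U X E₀).inv ≫ (ModSite.restr O U).map (cflatP G D₀ E₀ e)))
          hb'b.symm
    _ = b' ≫ (b ≫ ((μP O U X E₀).inv ≫ (ModSite.restr O U).map (cflatP G D₀ E₀ e))) :=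
        Category.assoc _ _ _
    _ = _ := congrArg (b' ≫ ·) h1

end Groth.Agent.Lib.Helper21.Dual
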