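import Mathlib
import Groth.Prelude.Def_ModSite
import Groth.Agent.Lib.Helper21Dual3

open CategoryTheory MonoidalCategory Opposite Limits

universe u

namespace Groth.Agent.Lib.Helper21.Dual

open Groth.Agent.Lib.Helper21.ModTensor Groth.Agent.Lib.Helper21.ModTensor2
  Groth.Agent.Lib.Helper21.ModTensor3 Groth.Agent.Lib.Helper21.ModTensor4
  Groth.Agent.Lib.Helper21.ModTensor5
  Groth.Agent.Lib.Helper21.ModTensor6 Groth.Agent.Lib.Helper21.ModRestr
  Groth.Agent.Lib.Helper21.ExtZero Groth.Agent.Lib.Helper21.ExtZeroS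
  Groth.Agent.Lib.Helper21.RestrExact

attribute [local instance] Groth.Agent.Lib.Helper21.ExtShDelta.hasSheafHom

variable {C : Type u} [SmallCategory C] {J : GrothendieckTopology C} (O : Sheaf J CommRingCat.{u})
  (U : C)

/-- (K) -/
theorem adjunct_restr_comp (E A G : ModSite.Mod O) (φ : A ⟶ (ModSite.sheafHom E).obj G) :
    ((ModSite.sheafHomAdj ((ModSite.restr O U).obj E)).homEquiv _ _).symm
        ((ModSite.restr O U).map φ ≫ (restrSheafHomIso O U E).hom.app G) =
      (μP O U ((fgt O).obj A) ((fgt O).obj E)).inv ≫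
        (ModSite.restr O U).map (((ModSite.sheafHomAdj E).homEquiv _ _).symm φ) := by
  have h0 := (ModSite.sheafHomAdj ((ModSite.restr O U).obj E)).homEquiv_naturality_left_symm
    ((ModSite.restr O U).map φ) ((restrSheafHomIso O U E).hom.app G)
  refine h0.trans ?_
  have h1 := adjunct_restrSheafHomIso O U E G
  have h2 := μP_inv_nat O U ((fgt O).map φ) (𝟙 ((fgt O).obj E))
  rw [(resP O U).map_id, tensorHom_id, tensorHom_id] at h2
  have h3 : ((ModSite.sheafHomAdj E).homEquiv _ _).symm φ =
      (shf O).map ((fgt O).map φ ▷ (fgt O).obj E) ≫ (ModSite.sheafHomAdj E).counit.app G :=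
    Adjunction.homEquiv_counit _ _ _ _
  have h4 : (ModSite.restr O U).map (((ModSite.sheafHomAdj E).homEquiv _ _).symm φ) =
      (ModSite.restr O U).map ((shf O).map ((fgt O).map φ ▷ (fgt O).obj E)) ≫
        (ModSite.restr O U).map ((ModSite.sheafHomAdj E).counit.app G) :=
    ((ModSite.restr O U).congr_map h3).trans ((ModSite.restr O U).map_comp _ _)
  calc (tR (O.over U) ((ModSite.restr O U).obj E)).map ((ModSite.restr O U).map φ) ≫
        ((ModSite.sheafHomAdj ((ModSite.restr O U).obj E)).homEquiv _ _).symm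
          ((restrSheafHomIso O U E).hom.app G)
      = (shf (O.over U)).map ((resP O U).map ((fgt O).map φ) ▷ (resP O U).obj ((fgt O).obj E)) ≫
        ((μP O U ((fgt O).obj ((ModSite.sheafHom E).obj G)) ((fgt O).obj E)).inv ≫
        (ModSite.restr O U).map ((ModSite.sheafHomAdj E).counit.app G)) :=
        congrArg ((tR (O.over U) ((ModSite.restr O U).obj E)).map ((ModSite.restr O U).map φ) ≫ ·) h1
    _ = ((shf (O.over U)).map ((resP O U).map ((fgt O).map φ) ▷ (resP O U).obj ((fgt O).obj E)) ≫
        (μP O U ((fgt O).obj ((ModSite.sheafHom E).obj G)) ((fgt O).obj E)).inv) ≫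
        (ModSite.restr O U).map ((ModSite.sheafHomAdj E).counit.app G) :=
        (Category.assoc _ _ _).symm
    _ = ((μP O U ((fgt O).obj A) ((fgt O).obj E)).inv ≫
        (ModSite.restr O U).map ((shf O).map ((fgt O).map φ ▷ (fgt O).obj E))) ≫
        (ModSite.restr O U).map ((ModSite.sheafHomAdj E).counit.app G) :=
        congrArg (· ≫ (ModSite.restr O U).map ((ModSite.sheafHomAdj E).counit.app G)) h2.symm
    _ = (μP O U ((fgt O).obj A) ((fgt O).obj E)).inv ≫
        ((ModSite.restr O U).map ((shf O).map ((fgt O).map φ ▷ (fgt O).obj E)) ≫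
        (ModSite.restr O U).map ((ModSite.sheafHomAdj E).counit.app G)) := Category.assoc _ _ _
    _ = _ := congrArg ((μP O U ((fgt O).obj A) ((fgt O).obj E)).inv ≫ ·) h4.symm

variable {O}

/-- the canonical map `G ⊗ D ⟶ Hom(E, G)` induced by a pairing `ev : D ⊗ E ⟶ O`. -/
noncomputable def cmap (G : ModSite.Mod O) {D E : ModSite.Mod O}
    (ev : ((ModSite.tensorBi O).obj D).obj E ⟶ ModSite.unit O) :
    (tR O D).obj G ⟶ (ModSite.sheafHom E).obj G :=
  (ModSite.sheafHomAdj E).homEquiv _ _ (cflat G ev)

variable (O)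

theorem cflat_restr (G : ModSite.Mod O) {D E : ModSite.Mod O}
    (ev : ((ModSite.tensorBi O).obj D).obj E ⟶ ModSite.unit O) :
    (μP O U ((fgt O).obj ((tR O D).obj G)) ((fgt O).obj E)).inv ≫
        (ModSite.restr O U).map (cflat G ev) =
      (tR (O.over U) ((ModSite.restr O U).obj E)).map
        (μP O U ((fgt O).obj G) ((fgt O).obj D)).hom ≫
      cflat ((ModSite.restr O U).obj G) (D := (ModSite.restr O U).obj D)
        (E := (ModSite.restr O U).obj E) (evRes O U ev) := by
  have h := cflatP_restr O U G ((fgt O).obj D) ((fgt O).obj E) (ev₀ ev)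
  exact h.trans (congrArg (fun e => (shf (O.over U)).map
    ((fgt (O.over U)).map (μP O U ((fgt O).obj G) ((fgt O).obj D)).hom ▷
      (resP O U).obj ((fgt O).obj E)) ≫
    cflatP ((ModSite.restr O U).obj G) ((resP O U).obj ((fgt O).obj D))
      ((resP O U).obj ((fgt O).obj E)) e) (ev₀_evRes O U ev).symm)

/-- (L1): the canonical map commutes with restriction. -/
theorem cmap_restr (G : ModSite.Mod O) {D E : ModSite.Mod O}
    (ev : ((ModSite.tensorBi O).obj D).obj E ⟶ ModSite.unit O) :
    (ModSite.restr O U).map (cmap G ev) ≫ (restrSheafHomIso O U E).hom.app G =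
      (μP O U ((fgt O).obj G) ((fgt O).obj D)).hom ≫
        cmap ((ModSite.restr O U).obj G) (D := (ModSite.restr O U).obj D)
        (E := (ModSite.restr O U).obj E) (evRes O U ev) := by
  apply ((ModSite.sheafHomAdj ((ModSite.restr O U).obj E)).homEquiv _ _).symm.injective
  have h1 := adjunct_restr_comp O U E _ G (cmap G ev)
  have h2 : ((ModSite.sheafHomAdj E).homEquiv _ _).symm (cmap G ev) = cflat G ev :=
    Equiv.symm_apply_apply _ _
  rw [h2] at h1
  refine h1.trans ?_
  have h3 := (ModSite.sheafHomAdj ((ModSite.restr O U).obj E)).homEquiv_naturality_left_symm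
    (μP O U ((fgt O).obj G) ((fgt O).obj D)).hom
    (cmap ((ModSite.restr O U).obj G) (D := (ModSite.restr O U).obj D)
        (E := (ModSite.restr O U).obj E) (evRes O U ev))
  have h4 : ((ModSite.sheafHomAdj ((ModSite.restr O U).obj E)).homEquiv _ _).symm
      (cmap ((ModSite.restr O U).obj G) (D := (ModSite.restr O U).obj D)
        (E := (ModSite.restr O U).obj E) (evRes O U ev)) =
      cflat ((ModSite.restr O U).obj G) (D := (ModSite.restr O U).obj D)
        (E := (ModSite.restr O U).obj E) (evRes O U ev) := Equiv.symm_apply_apply _ _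
  exact (cflat_restr O U G ev).trans ((congrArg
    ((tR (O.over U) ((ModSite.restr O U).obj E)).map
        (μP O U ((fgt O).obj G) ((fgt O).obj D)).hom ≫ ·) h4.symm).trans h3.symm)

end Groth.Agent.Lib.Helper21.Dual
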