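import Mathlib
import Groth.Prelude.Def_ModSite
import Groth.Agent.Lib.Helper21ModTensor7

set_option autoImplicit false
universe u
open CategoryTheory CategoryTheory.Limits Opposite MonoidalCategory

namespace Groth.Agent.Lib.Helper21.EqCrit

open Groth.Agent.Lib.Helper21.ModTensor Groth.Agent.Lib.Helper21.ModTensor2
  Groth.Agent.Lib.Helper21.ModTensor3 Groth.Agent.Lib.Helper21.ModTensor5
  Groth.Agent.Lib.Helper21.ModTensor6 Groth.Agent.Lib.Helper21.ModTensor7

variable {C : Type u} [SmallCategory C] {J : GrothendieckTopology C} (O : Sheaf J CommRingCat.{u})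

/-- presheaf tensor of two sheaves of modules -/
noncomputable abbrev PT (X F : ModSite.Mod O) : PM O := ((fgt O).obj X ⊗ (fgt O).obj F : PM O)

/-- the sheaf tensor -/
noncomputable abbrev ST (X F : ModSite.Mod O) : ModSite.Mod O := ((ModSite.tensorBi O).obj X).obj F

/-- `η : X(V) ⊗ F(V) → (X ⊗ F)(V)` -/
noncomputable def etaV (X F : ModSite.Mod O) (V : C) :
    (PT O X F).obj (op V) →ₗ[O.obj.obj (op V)] (ST O X F).val.obj (op V) :=
  ((eta O (PT O X F)).app (op V)).hom

/-- pure tensors -/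
noncomputable def pt (X F : ModSite.Mod O) (V : C) (x : X.val.obj (op V)) (t : F.val.obj (op V)) :
    (PT O X F).obj (op V) := x ⊗ₜ[O.obj.obj (op V)] t

theorem etaV_nat_left {X X' : ModSite.Mod O} (F : ModSite.Mod O) (u : X ⟶ X') (V : C)
    (z : (PT O X F).obj (op V)) :
    ((tR O F).map u).val.app (op V) (etaV O X F V z) =
      etaV O X' F V (((fgt O).map u ▷ (fgt O).obj F).app (op V) z) := by
  have h := eta_nat O ((fgt O).map u ▷ (fgt O).obj F)
  have h2 := congrArg (fun ψ => ψ.app (op V) z) h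
  exact h2.symm

theorem whisker_pt {X X' : ModSite.Mod O} (F : ModSite.Mod O) (u : X ⟶ X') (V : C)
    (x : X.val.obj (op V)) (t : F.val.obj (op V)) :
    ((fgt O).map u ▷ (fgt O).obj F).app (op V) (pt O X F V x t) =
      pt O X' F V (u.val.app (op V) x) t := rfl


theorem etaV_restrict (X F : ModSite.Mod O) {V V' : C} (g : V' ⟶ V)
    (z : (PT O X F).obj (op V)) :
    (ST O X F).val.map g.op (etaV O X F V z) = etaV O X F V' ((PT O X F).map g.op z) :=
  (PresheafOfModules.naturality_apply (eta O (PT O X F)) g.op z).symm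

theorem PT_map_pt (X F : ModSite.Mod O) {V V' : C} (g : V' ⟶ V)
    (x : X.val.obj (op V)) (t : F.val.obj (op V)) :
    (PT O X F).map g.op (pt O X F V x t) =
      pt O X F V' (X.val.map g.op x) (F.val.map g.op t) := rfl

/-- `O ⊗ F → F` on `η(r ⊗ t)`. -/
theorem tLUnit_etaV (F : ModSite.Mod O) (V : C)
    (z : (PT O (ModSite.unit O) F).obj (op V)) :
    ((tLUnitIso O).hom.app F).val.app (op V) (etaV O (ModSite.unit O) F V z) =
      (λ_ ((fgt O).obj F : PM O)).hom.app (op V) z := by
  have e2 : eta O (PT O (ModSite.unit O) F) ≫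
      (fgt O).map ((shf O).map (λ_ ((fgt O).obj F : PM O)).hom) =
      (λ_ ((fgt O).obj F : PM O)).hom ≫ eta O ((fgt O).obj F) :=
    (eta_nat O (λ_ ((fgt O).obj F : PM O)).hom).symm
  have e4 : eta O ((fgt O).obj F) ≫ (fgt O).map ((adj O).counit.app F) = 𝟙 _ :=
    (adj O).right_triangle_components F
  have h1 : eta O (PT O (ModSite.unit O) F) ≫ (fgt O).map ((tLUnitIso O).hom.app F) =
      (λ_ ((fgt O).obj F : PM O)).hom :=
    calc eta O (PT O (ModSite.unit O) F) ≫ (fgt O).map ((tLUnitIso O).hom.app F)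
        = eta O (PT O (ModSite.unit O) F) ≫
          ((fgt O).map ((shf O).map (λ_ ((fgt O).obj F : PM O)).hom) ≫
            (fgt O).map ((adj O).counit.app F)) :=
          congrArg (eta O (PT O (ModSite.unit O) F) ≫ ·) ((fgt O).map_comp _ _)
      _ = (eta O (PT O (ModSite.unit O) F) ≫
          (fgt O).map ((shf O).map (λ_ ((fgt O).obj F : PM O)).hom)) ≫
            (fgt O).map ((adj O).counit.app F) := (Category.assoc _ _ _).symm
      _ = ((λ_ ((fgt O).obj F : PM O)).hom ≫ eta O ((fgt O).obj F)) ≫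
            (fgt O).map ((adj O).counit.app F) := congrArg (· ≫ _) e2
      _ = (λ_ ((fgt O).obj F : PM O)).hom ≫ (eta O ((fgt O).obj F) ≫
            (fgt O).map ((adj O).counit.app F)) := Category.assoc _ _ _
      _ = (λ_ ((fgt O).obj F : PM O)).hom ≫ 𝟙 _ := congrArg (_ ≫ ·) e4
      _ = _ := Category.comp_id _
  exact congrArg (fun ψ => ψ.app (op V) z) h1

theorem lunit_pt (F : ModSite.Mod O) (V : C) (r : O.obj.obj (op V)) (t : F.val.obj (op V)) :
    (λ_ ((fgt O).obj F : PM O)).hom.app (op V) (pt O (ModSite.unit O) F V r t) = r • t :=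
  TensorProduct.lid_tmul t r

/-- local surjectivity of `η`. -/
theorem imageSieve_eta_mem (X F : ModSite.Mod O) (V : C) (σ : (ST O X F).val.obj (op V)) :
    Presheaf.imageSieve ((PresheafOfModules.toPresheaf _).map (eta O (PT O X F))) σ ∈ J V := by
  haveI : Presheaf.IsLocallySurjective J ((PresheafOfModules.toPresheaf _).map (eta O (PT O X F))) :=
    ((J.W_iff_isLocallyBijective _).1 (W_eta (PT O X F))).2
  exact Presheaf.imageSieve_mem J ((PresheafOfModules.toPresheaf _).map (eta O (PT O X F)))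
    (U := op V) σ

theorem exists_etaV_eq_of_imageSieve (X F : ModSite.Mod O) {V V' : C} (g : V' ⟶ V)
    (σ : (ST O X F).val.obj (op V))
    (hg : (Presheaf.imageSieve ((PresheafOfModules.toPresheaf _).map (eta O (PT O X F))) σ).arrows g) :
    ∃ z : (PT O X F).obj (op V'), etaV O X F V' z = (ST O X F).val.map g.op σ := by
  obtain ⟨z, hz⟩ := hg
  exact ⟨z, hz⟩

/-- every element of a tensor product is a finite sum of pure tensors, `Fin`-indexed. -/
theorem exists_fin_sum_pt (X F : ModSite.Mod O) (V : C) (z : (PT O X F).obj (op V)) :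
    ∃ (l : ℕ) (x : Fin l → X.val.obj (op V)) (t : Fin l → F.val.obj (op V)),
      z = ∑ k, pt O X F V (x k) (t k) := by
  induction z using TensorProduct.induction_on with
  | zero => exact ⟨0, Fin.elim0, Fin.elim0, (Fin.sum_univ_zero _).symm⟩
  | tmul x t => exact ⟨1, fun _ => x, fun _ => t, by simp [pt]⟩
  | add a b ha hb =>
    obtain ⟨l₁, x₁, t₁, rfl⟩ := ha
    obtain ⟨l₂, x₂, t₂, rfl⟩ := hb
    refine ⟨l₁ + l₂, Fin.append x₁ x₂, Fin.append t₁ t₂, ?_⟩
    rw [Fin.sum_univ_add]
    simp only [Fin.append_left, Fin.append_right]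
    rfl

end Groth.Agent.Lib.Helper21.EqCrit
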