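import Mathlib
import Groth.Prelude.Def_ModSite
import Groth.Agent.Lib.Helper21UnitHom

/-!
# Helper21: sections at a terminal object on retracts of finite free modules on a ringed site
(Karoubi argument, site version of `Helper21RetractFree`)
-/

set_option autoImplicit false
universe u
open CategoryTheory CategoryTheory.Limits Opposite

namespace Groth.Agent.Lib.Helper21.RetractFreeSite

variable {C : Type u} [SmallCategory C] {J : GrothendieckTopology C} (R : Sheaf J RingCat.{u})
  [HasSheafify J AddCommGrpCat.{u}] [J.WEqualsLocallyBijective AddCommGrpCat.{u}]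
  {T : C} (hT : IsTerminal T)

/-- the ring of global sections -/
abbrev Γr (T : C) : Type u := R.obj.obj (op T)

/-- sections at `T` with values in `R(T)`-modules -/
noncomputable def G (T : C) : SheafOfModules.{u} R ⥤ ModuleCat.{u} (R.obj.obj (op T)) :=
  SheafOfModules.forget R ⋙ PresheafOfModules.evaluation R.obj (op T)

theorem G_map_apply {M N : SheafOfModules.{u} R} (φ : M ⟶ N) (x : M.val.obj (op T)) :
    ((G R T).map φ).hom x = φ.val.app (op T) x := rfl

instance : (G R T).Additive := by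
  unfold G
  infer_instance

noncomputable abbrev O : SheafOfModules.{u} R := SheafOfModules.unit R

/-- `Hom(O, M) ≃+ M(T)`. -/
noncomputable def unitEquiv (M : SheafOfModules.{u} R) : (O R ⟶ M) ≃+ M.val.obj (op T) :=
  Groth.Agent.Lib.Helper21.UnitHom.unitHomAddEquiv (R := R) hT M

theorem unitEquiv_apply (M : SheafOfModules.{u} R) (f : O R ⟶ M) :
    unitEquiv R hT M f = f.val.app (op T) (1 : R.obj.obj (op T)) := rfl

theorem unitEquiv_comp {M N : SheafOfModules.{u} R} (f : O R ⟶ M) (g : M ⟶ N) :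
    unitEquiv R hT N (f ≫ g) = g.val.app (op T) (unitEquiv R hT M f) := rfl

noncomputable abbrev F (n : ℕ) : SheafOfModules.{u} R :=
  ∐ fun _ : ULift.{u} (Fin n) => SheafOfModules.unit R

theorem F_eq (n : ℕ) : F R n = SheafOfModules.free (R := R) (ULift.{u} (Fin n)) := rfl

noncomputable abbrev ι (n : ℕ) (j : ULift.{u} (Fin n)) : O R ⟶ F R n :=
  Sigma.ι (fun _ : ULift.{u} (Fin n) => SheafOfModules.unit R) j

/-- `Hom(O^n, M) ≃ M(T)^n`. -/
noncomputable def homEquiv (n : ℕ) (M : SheafOfModules.{u} R) :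
    (F R n ⟶ M) ≃ (ULift.{u} (Fin n) → M.val.obj (op T)) where
  toFun g := fun j => unitEquiv R hT M (ι R n j ≫ g)
  invFun s := Sigma.desc (fun j => (unitEquiv R hT M).symm (s j))
  left_inv g := by
    apply Sigma.hom_ext
    intro j
    rw [Sigma.ι_desc]
    exact (unitEquiv R hT M).symm_apply_apply _
  right_inv s := by
    funext j
    dsimp only
    rw [Sigma.ι_desc]
    exact (unitEquiv R hT M).apply_symm_apply _

theorem homEquiv_apply (n : ℕ) (M : SheafOfModules.{u} R) (g : F R n ⟶ M)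
    (j : ULift.{u} (Fin n)) :
    homEquiv R hT n M g j = (ι R n j ≫ g).val.app (op T) (1 : R.obj.obj (op T)) := rfl

/-- the standard generators of `O^n(T)`. -/
noncomputable def e (T : C) (n : ℕ) (j : ULift.{u} (Fin n)) : (F R n).val.obj (op T) :=
  (ι R n j).val.app (op T) (1 : R.obj.obj (op T))

theorem homEquiv_apply' (n : ℕ) (M : SheafOfModules.{u} R) (g : F R n ⟶ M)
    (j : ULift.{u} (Fin n)) :
    homEquiv R hT n M g j = g.val.app (op T) (e R T n j) := rfl

/-- projections -/
noncomputable def π (n : ℕ) (j : ULift.{u} (Fin n)) : F R n ⟶ O R :=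
  (homEquiv R hT n (O R)).symm (fun k => if k = j then (1 : R.obj.obj (op T)) else 0)

theorem ι_π (n : ℕ) (k j : ULift.{u} (Fin n)) :
    ι R n k ≫ π R hT n j = if k = j then 𝟙 (O R) else 0 := by
  apply (unitEquiv R hT (O R)).injective
  have h := congrFun ((homEquiv R hT n (O R)).apply_symm_apply
    (fun k => if k = j then (1 : R.obj.obj (op T)) else 0)) k
  change unitEquiv R hT (O R) (ι R n k ≫ π R hT n j) = _ at h
  rw [h]
  split_ifs
  · rfl
  · exact (map_zero _).symm

theorem sum_π_ι (n : ℕ) : ∑ j : ULift.{u} (Fin n), π R hT n j ≫ ι R n j = 𝟙 (F R n) := by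
  apply Sigma.hom_ext
  intro k
  change ι R n k ≫ _ = ι R n k ≫ _
  rw [Preadditive.comp_sum, Category.comp_id]
  rw [Finset.sum_eq_single k]
  · rw [← Category.assoc, ι_π, if_pos rfl, Category.id_comp]
  · intro j _ hj
    rw [← Category.assoc, ι_π, if_neg (Ne.symm hj), zero_comp]
  · intro h
    exact absurd (Finset.mem_univ k) h

/-- `O(T) = R(T)`. -/
def toR (T : C) (x : (O R).val.obj (op T)) : R.obj.obj (op T) := x

def ofR (T : C) (r : R.obj.obj (op T)) : (O R).val.obj (op T) := r

theorem toR_ofR (r : R.obj.obj (op T)) : toR R T (ofR R T r) = r := rfl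
theorem ofR_toR (x : (O R).val.obj (op T)) : ofR R T (toR R T x) = x := rfl

theorem unitEquiv_apply' (M : SheafOfModules.{u} R) (f : O R ⟶ M) :
    unitEquiv R hT M f = f.val.app (op T) (ofR R T 1) := rfl

theorem e_eq (n : ℕ) (j : ULift.{u} (Fin n)) :
    e R T n j = (ι R n j).val.app (op T) (ofR R T 1) := rfl

/-- `O(T) ≃ R(T)` as `R(T)`-modules. -/
noncomputable def toRLin (T : C) : (G R T).obj (O R) ≃ₗ[R.obj.obj (op T)] R.obj.obj (op T) where
  toFun := toR R T
  map_add' _ _ := rfl
  map_smul' _ _ := rfl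
  invFun := ofR R T
  left_inv _ := rfl
  right_inv _ := rfl

/-- coordinate functionals on `O^n(T)`. -/
noncomputable def pr (n : ℕ) (j : ULift.{u} (Fin n)) :
    (G R T).obj (F R n) →ₗ[R.obj.obj (op T)] R.obj.obj (op T) :=
  (toRLin R T).toLinearMap ∘ₗ ((G R T).map (π R hT n j)).hom

/-- the standard generators, typed in `G`. -/
noncomputable def eG (T : C) (n : ℕ) (j : ULift.{u} (Fin n)) : (G R T).obj (F R n) := e R T n j

theorem G_ι_smul (n : ℕ) (j : ULift.{u} (Fin n)) (y : (G R T).obj (O R)) :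
    ((G R T).map (ι R n j)).hom y = toRLin R T y • eG R T n j := by
  have h : y = toRLin R T y • (toRLin R T).symm 1 := by
    apply (toRLin R T).injective
    rw [map_smul, LinearEquiv.apply_symm_apply, smul_eq_mul, mul_one]
  conv_lhs => rw [h]
  rw [map_smul]
  rfl

theorem decomp (n : ℕ) (x : (G R T).obj (F R n)) :
    x = ∑ j : ULift.{u} (Fin n), pr R hT n j x • eG R T n j := by
  have h := congrArg (fun ψ : F R n ⟶ F R n => ((G R T).map ψ).hom x) (sum_π_ι R hT n)
  simp only [Functor.map_sum, ModuleCat.hom_sum, LinearMap.sum_apply,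
    CategoryTheory.Functor.map_id, ModuleCat.hom_id, LinearMap.id_apply] at h
  refine h.symm.trans (Finset.sum_congr rfl (fun j _ => ?_))
  rw [Functor.map_comp, ModuleCat.hom_comp, LinearMap.comp_apply, G_ι_smul]
  rfl

theorem pr_eG (n : ℕ) (k j : ULift.{u} (Fin n)) :
    pr R hT n k (eG R T n j) = if j = k then 1 else 0 := by
  change toR R T ((ι R n j ≫ π R hT n k).val.app (op T) (ofR R T 1)) = _
  rw [ι_π]
  split_ifs
  · rfl
  · rfl

/-- `O^n(T) ≃ R(T)^n`. -/
noncomputable def lam (n : ℕ) :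
    (G R T).obj (F R n) ≃ₗ[R.obj.obj (op T)] (ULift.{u} (Fin n) → R.obj.obj (op T)) :=
  { LinearMap.pi (fun j => pr R hT n j) with
    invFun := fun c => ∑ j : ULift.{u} (Fin n), c j • eG R T n j
    left_inv := fun x => (decomp R hT n x).symm
    right_inv := fun c => by
      funext k
      change pr R hT n k (∑ j : ULift.{u} (Fin n), c j • eG R T n j) = c k
      rw [map_sum]
      simp only [map_smul, pr_eG, smul_eq_mul, mul_ite, mul_one, mul_zero]
      simp }

include hT in
theorem ext_of_e {n : ℕ} {N : ModuleCat.{u} (R.obj.obj (op T))} (a b : (G R T).obj (F R n) ⟶ N)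
    (h : ∀ j, a.hom (eG R T n j) = b.hom (eG R T n j)) : a = b := by
  ext x
  rw [decomp R hT n x]
  simp only [map_sum, map_smul, h]

theorem homEquiv_apply'' (n : ℕ) (M : SheafOfModules.{u} R) (g : F R n ⟶ M)
    (j : ULift.{u} (Fin n)) :
    homEquiv R hT n M g j = ((G R T).map g).hom (eG R T n j) := rfl

include hT in
theorem map_injective_of_retract {M M' : SheafOfModules.{u} R} {n : ℕ} (i : M ⟶ F R n)
    (r : F R n ⟶ M)
    (hir : i ≫ r = 𝟙 M) (φ φ' : M ⟶ M') (h : (G R T).map φ = (G R T).map φ') : φ = φ' := by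
  have h1 : r ≫ φ = r ≫ φ' := by
    apply (homEquiv R hT n M').injective
    funext j
    rw [homEquiv_apply'', homEquiv_apply'', Functor.map_comp, Functor.map_comp, h]
  calc φ = (i ≫ r) ≫ φ := by rw [hir, Category.id_comp]
    _ = i ≫ r ≫ φ := Category.assoc _ _ _
    _ = i ≫ r ≫ φ' := by rw [h1]
    _ = φ' := by rw [← Category.assoc, hir, Category.id_comp]

include hT in
theorem map_surjective_of_retract {M M' : SheafOfModules.{u} R} {n : ℕ} (i : M ⟶ F R n)
    (r : F R n ⟶ M)
    (hir : i ≫ r = 𝟙 M) (ψ : (G R T).obj M ⟶ (G R T).obj M') :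
    ∃ φ : M ⟶ M', (G R T).map φ = ψ := by
  let g : F R n ⟶ M' :=
    (homEquiv R hT n M').symm (fun j => ψ.hom (((G R T).map r).hom (eG R T n j)))
  have hg : (G R T).map g = (G R T).map r ≫ ψ := by
    apply ext_of_e R hT
    intro j
    have := congrFun ((homEquiv R hT n M').apply_symm_apply
      (fun j => ψ.hom (((G R T).map r).hom (eG R T n j)))) j
    rw [homEquiv_apply''] at this
    exact this
  refine ⟨i ≫ g, ?_⟩
  rw [Functor.map_comp, hg, ← Category.assoc, ← Functor.map_comp, hir,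
    CategoryTheory.Functor.map_id, Category.id_comp]

include hT in
theorem finite_projective_of_retract {M : SheafOfModules.{u} R} {n : ℕ} (i : M ⟶ F R n)
    (r : F R n ⟶ M) (hir : i ≫ r = 𝟙 M) :
    Module.Finite (R.obj.obj (op T)) ((G R T).obj M) ∧
      Module.Projective (R.obj.obj (op T)) ((G R T).obj M) := by
  let a : (G R T).obj M →ₗ[R.obj.obj (op T)] (ULift.{u} (Fin n) → R.obj.obj (op T)) :=
    (lam R hT n).toLinearMap ∘ₗ ((G R T).map i).hom
  let b : (ULift.{u} (Fin n) → R.obj.obj (op T)) →ₗ[R.obj.obj (op T)] (G R T).obj M :=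
    ((G R T).map r).hom ∘ₗ (lam R hT n).symm.toLinearMap
  have hba : b ∘ₗ a = LinearMap.id := by
    ext x
    change ((G R T).map r).hom ((lam R hT n).symm ((lam R hT n) (((G R T).map i).hom x))) = x
    rw [LinearEquiv.symm_apply_apply]
    change ((G R T).map i ≫ (G R T).map r).hom x = x
    rw [← Functor.map_comp, hir, CategoryTheory.Functor.map_id]
    rfl
  have hsurj : Function.Surjective b := fun x => ⟨a x, congrArg (fun f => f x) hba⟩
  exact ⟨Module.Finite.of_surjective b hsurj, Module.Projective.of_split a b hba⟩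

include hT in
theorem essSurj_aux (N : ModuleCat.{u} (R.obj.obj (op T))) [Module.Finite (R.obj.obj (op T)) N]
    [Module.Projective (R.obj.obj (op T)) N] :
    ∃ (M : SheafOfModules.{u} R) (n : ℕ) (i : M ⟶ F R n) (r : F R n ⟶ M), i ≫ r = 𝟙 M ∧
      Nonempty ((G R T).obj M ≅ N) := by
  obtain ⟨n, f₀, g₀, -, -, hfg₀⟩ :=
    Module.Finite.exists_comp_eq_id_of_projective (R.obj.obj (op T)) N
  let eU : (ULift.{u} (Fin n) → R.obj.obj (op T)) ≃ₗ[R.obj.obj (op T)]
      (Fin n → R.obj.obj (op T)) :=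
    LinearEquiv.funCongrLeft (R.obj.obj (op T)) (R.obj.obj (op T)) Equiv.ulift.symm
  let f : (ULift.{u} (Fin n) → R.obj.obj (op T)) →ₗ[R.obj.obj (op T)] N := f₀ ∘ₗ eU.toLinearMap
  let g : N →ₗ[R.obj.obj (op T)] (ULift.{u} (Fin n) → R.obj.obj (op T)) :=
    eU.symm.toLinearMap ∘ₗ g₀
  have hfg' : ∀ x, f (g x) = x := fun x => by
    change f₀ (eU (eU.symm (g₀ x))) = x
    rw [LinearEquiv.apply_symm_apply]
    exact congrArg (fun h => h x) hfg₀
  let ψ : (G R T).obj (F R n) ⟶ (G R T).obj (F R n) :=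
    ModuleCat.ofHom ((lam R hT n).symm.toLinearMap ∘ₗ g ∘ₗ f ∘ₗ (lam R hT n).toLinearMap)
  have hψ_apply : ∀ x, ψ.hom x = (lam R hT n).symm (g (f (lam R hT n x))) := fun x => rfl
  have hψ : ψ ≫ ψ = ψ := by
    ext x
    change ψ.hom (ψ.hom x) = ψ.hom x
    rw [hψ_apply, hψ_apply, LinearEquiv.apply_symm_apply, hfg']
  obtain ⟨ε, hε⟩ :=
    map_surjective_of_retract R hT (𝟙 (F R n)) (𝟙 (F R n)) (Category.id_comp _) ψ
  have hεε : ε ≫ ε = ε :=
    map_injective_of_retract R hT (𝟙 (F R n)) (𝟙 (F R n)) (Category.id_comp _) _ _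
      (by rw [Functor.map_comp, hε, hψ])
  obtain ⟨M, i, r, hir, hri⟩ := IsIdempotentComplete.idempotents_split (F R n) ε hεε
  refine ⟨M, n, i, r, hir, ⟨?_⟩⟩
  have hGri : (G R T).map r ≫ (G R T).map i = ψ := by
    rw [← Functor.map_comp, hri, hε]
  have hGir : (G R T).map i ≫ (G R T).map r = 𝟙 _ := by
    rw [← Functor.map_comp, hir, CategoryTheory.Functor.map_id]
  refine
    { hom := (G R T).map i ≫ ModuleCat.ofHom (f ∘ₗ (lam R hT n).toLinearMap)
      inv := ModuleCat.ofHom ((lam R hT n).symm.toLinearMap ∘ₗ g) ≫ (G R T).map r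
      hom_inv_id := ?_
      inv_hom_id := ?_ }
  · ext x
    have h3 : ∀ y, ψ.hom y = ((G R T).map i).hom (((G R T).map r).hom y) := fun y => by
      rw [← hGri]
      rfl
    have h4 : ∀ y, ((G R T).map r).hom (((G R T).map i).hom y) = y := fun y =>
      congrArg (fun a => a.hom y) hGir
    change ((G R T).map r).hom ((lam R hT n).symm (g (f (lam R hT n (((G R T).map i).hom x))))) = x
    rw [← hψ_apply, h3, h4, h4]
  · ext x
    have h2 : ((G R T).map i).hom (((G R T).map r).hom ((lam R hT n).symm (g x))) =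
        ψ.hom ((lam R hT n).symm (g x)) := by
      rw [← hGri]
      rfl
    change f (lam R hT n (((G R T).map i).hom (((G R T).map r).hom ((lam R hT n).symm (g x))))) = x
    rw [h2, hψ_apply, LinearEquiv.apply_symm_apply, LinearEquiv.apply_symm_apply, hfg', hfg']

end Groth.Agent.Lib.Helper21.RetractFreeSite
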