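import Mathlib
import Groth.Prelude.Def_ModSite
import Groth.Agent.Lib.Helper21EqCrit1
import Groth.Agent.Lib.Helper21RetractFreeSite

set_option autoImplicit false
universe u
open CategoryTheory CategoryTheory.Limits Opposite MonoidalCategory

namespace Groth.Agent.Lib.Helper21.EqCrit

open Groth.Agent.Lib.Helper21.ModTensor Groth.Agent.Lib.Helper21.ModTensor2
  Groth.Agent.Lib.Helper21.ModTensor3 Groth.Agent.Lib.Helper21.ModTensor5
  Groth.Agent.Lib.Helper21.ModTensor6 Groth.Agent.Lib.Helper21.ModTensor7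

namespace RS
export Groth.Agent.Lib.Helper21.RetractFreeSite (F ι π unitEquiv homEquiv toR ofR ι_π sum_π_ι
  unitEquiv_apply unitEquiv_comp G toRLin pr eG pr_eG G_ι_smul decomp G_map_apply e)
end RS

variable {C : Type u} [SmallCategory C] {J : GrothendieckTopology C} (O : Sheaf J CommRingCat.{u})
  {T : C} (hT : IsTerminal T)

/-- `O^n` -/
noncomputable abbrev Fr (n : ℕ) : ModSite.Mod O := RS.F (ModSite.ringSh O) n

/-- multiplication by a global section of `O`. -/
noncomputable def mR (r : (ModSite.ringSh O).obj.obj (op T)) : ModSite.unit O ⟶ ModSite.unit O :=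
  (RS.unitEquiv (ModSite.ringSh O) hT (ModSite.unit O)).symm (RS.ofR (ModSite.ringSh O) T r)

theorem mR_one (r : (ModSite.ringSh O).obj.obj (op T)) :
    (mR O hT r).val.app (op T) (RS.ofR (ModSite.ringSh O) T 1) = RS.ofR (ModSite.ringSh O) T r :=
  (RS.unitEquiv (ModSite.ringSh O) hT (ModSite.unit O)).apply_symm_apply _

theorem mR_app (r : (ModSite.ringSh O).obj.obj (op T)) {V : C} (g : V ⟶ T) (y : (ModSite.unit O).val.obj (op V)) :
    RS.toR (ModSite.ringSh O) V ((mR O hT r).val.app (op V) y) =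
      RS.toR (ModSite.ringSh O) V y * ((ModSite.ringSh O).obj.map g.op).hom r := by
  have h0 : y = RS.toR (ModSite.ringSh O) V y • RS.ofR (ModSite.ringSh O) V 1 :=
    (mul_one (RS.toR (ModSite.ringSh O) V y)).symm
  have h2 : RS.ofR (ModSite.ringSh O) V 1 =
      (ModSite.unit O).val.map g.op (RS.ofR (ModSite.ringSh O) T 1) :=
    (PresheafOfModules.unit_map_one (R := (ModSite.ringSh O).obj) g.op).symm
  have h3 := PresheafOfModules.naturality_apply (mR O hT r).val g.op
    (RS.ofR (ModSite.ringSh O) T 1)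
  rw [mR_one] at h3
  conv_lhs => rw [h0]
  rw [map_smul, h2, h3]
  rfl


section matrix

variable {m n : ℕ}
  (f : ULift.{u} (Fin m) → ULift.{u} (Fin n) → (ModSite.ringSh O).obj.obj (op T))

/-- the matrix map `O^n → O^m`. -/
noncomputable def φ : Fr O n ⟶ Fr O m :=
  ∑ i : ULift.{u} (Fin m), ∑ j : ULift.{u} (Fin n),
    RS.π (ModSite.ringSh O) hT n j ≫ mR O hT (f i j) ≫ RS.ι (ModSite.ringSh O) m i

theorem φ_π (i : ULift.{u} (Fin m)) :
    φ O hT f ≫ RS.π (ModSite.ringSh O) hT m i =
      ∑ j : ULift.{u} (Fin n), RS.π (ModSite.ringSh O) hT n j ≫ mR O hT (f i j) := by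
  unfold φ
  rw [Preadditive.sum_comp, Finset.sum_eq_single i]
  · rw [Preadditive.sum_comp]
    refine Finset.sum_congr rfl (fun j _ => ?_)
    rw [Category.assoc, Category.assoc, RS.ι_π, if_pos rfl, Category.comp_id]
  · intro i' _ hi'
    rw [Preadditive.sum_comp]
    apply Finset.sum_eq_zero
    intro j _
    rw [Category.assoc, Category.assoc, RS.ι_π, if_neg hi', comp_zero, comp_zero]
  · intro h
    exact absurd (Finset.mem_univ i) h

theorem ι_φ (j : ULift.{u} (Fin n)) :
    RS.ι (ModSite.ringSh O) n j ≫ φ O hT f =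
      ∑ i : ULift.{u} (Fin m), mR O hT (f i j) ≫ RS.ι (ModSite.ringSh O) m i := by
  unfold φ
  rw [Preadditive.comp_sum]
  refine Finset.sum_congr rfl (fun i _ => ?_)
  rw [Preadditive.comp_sum, Finset.sum_eq_single j]
  · rw [← Category.assoc, RS.ι_π, if_pos rfl, Category.id_comp]
  · intro j' _ hj'
    rw [← Category.assoc, RS.ι_π, if_neg (Ne.symm hj'), zero_comp]
  · intro h
    exact absurd (Finset.mem_univ j) h

/-- value of a sum of morphisms on a section. -/
theorem sum_val_app {ι : Type*} (s : Finset ι) {M N : ModSite.Mod O} (ψ : ι → (M ⟶ N)) (V : C)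
    (x : M.val.obj (op V)) :
    (∑ k ∈ s, ψ k).val.app (op V) x = ∑ k ∈ s, (ψ k).val.app (op V) x := by
  have h := congrArg (fun a => a.hom x) ((RS.G (ModSite.ringSh O) V).map_sum ψ s)
  simp only [ModuleCat.hom_sum, LinearMap.sum_apply] at h
  exact h

theorem φ_π_app (i : ULift.{u} (Fin m)) {V : C} (g : V ⟶ T) (x : (Fr O n).val.obj (op V)) :
    RS.toR (ModSite.ringSh O) V ((RS.π (ModSite.ringSh O) hT m i).val.app (op V)
        ((φ O hT f).val.app (op V) x)) =
      ∑ j : ULift.{u} (Fin n),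
        RS.toR (ModSite.ringSh O) V ((RS.π (ModSite.ringSh O) hT n j).val.app (op V) x) *
          ((ModSite.ringSh O).obj.map g.op).hom (f i j) := by
  have h1 : (RS.π (ModSite.ringSh O) hT m i).val.app (op V) ((φ O hT f).val.app (op V) x) =
      (φ O hT f ≫ RS.π (ModSite.ringSh O) hT m i).val.app (op V) x := rfl
  rw [h1, φ_π, sum_val_app]
  have h2 : RS.toR (ModSite.ringSh O) V
      (∑ j : ULift.{u} (Fin n),
        (RS.π (ModSite.ringSh O) hT n j ≫ mR O hT (f i j)).val.app (op V) x) =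
      ∑ j : ULift.{u} (Fin n), RS.toR (ModSite.ringSh O) V
        ((RS.π (ModSite.ringSh O) hT n j ≫ mR O hT (f i j)).val.app (op V) x) := by
    show (RS.toRLin (ModSite.ringSh O) V) (∑ j : ULift.{u} (Fin n), _) =
      ∑ j : ULift.{u} (Fin n), (RS.toRLin (ModSite.ringSh O) V) _
    exact map_sum _ _ _
  rw [h2]
  refine Finset.sum_congr rfl (fun j _ => ?_)
  exact mR_app O hT (f i j) g _

/-- `φ(e_j) = Σ_i f_{ij} e_i`. -/
theorem φ_eG (j : ULift.{u} (Fin n)) :
    (φ O hT f).val.app (op T) (RS.eG (ModSite.ringSh O) T n j) =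
      ∑ i : ULift.{u} (Fin m), f i j • RS.eG (ModSite.ringSh O) T m i := by
  have h1 : (φ O hT f).val.app (op T) (RS.eG (ModSite.ringSh O) T n j) =
      (RS.ι (ModSite.ringSh O) n j ≫ φ O hT f).val.app (op T)
        (RS.ofR (ModSite.ringSh O) T 1) := rfl
  rw [h1, ι_φ, sum_val_app]
  refine Finset.sum_congr rfl (fun i _ => ?_)
  have h2 : (mR O hT (f i j) ≫ RS.ι (ModSite.ringSh O) m i).val.app (op T)
      (RS.ofR (ModSite.ringSh O) T 1) =
      (RS.ι (ModSite.ringSh O) m i).val.app (op T)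
        ((mR O hT (f i j)).val.app (op T) (RS.ofR (ModSite.ringSh O) T 1)) := rfl
  rw [h2, mR_one]
  exact RS.G_ι_smul (ModSite.ringSh O) m i (RS.ofR (ModSite.ringSh O) T (f i j))

end matrix


section ptlemmas

variable (X F : ModSite.Mod O) (V : C)

theorem pt_sum_left {ι : Type*} (s : Finset ι) (x : ι → X.val.obj (op V)) (t : F.val.obj (op V)) :
    pt O X F V (∑ i ∈ s, x i) t = ∑ i ∈ s, pt O X F V (x i) t :=
  TensorProduct.sum_tmul _ _ _

theorem pt_sum_right {ι : Type*} (s : Finset ι) (x : X.val.obj (op V)) (t : ι → F.val.obj (op V)) :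
    pt O X F V x (∑ i ∈ s, t i) = ∑ i ∈ s, pt O X F V x (t i) :=
  TensorProduct.tmul_sum _ _ _

theorem pt_smul_left (r : O.obj.obj (op V)) (x : X.val.obj (op V)) (t : F.val.obj (op V)) :
    pt O X F V (r • x) t = pt O X F V x (r • t) :=
  Quotient.sound' (AddConGen.Rel.of _ _ (TensorProduct.Eqv.of_smul r x t))

theorem pt_zero_right (x : X.val.obj (op V)) : pt O X F V x 0 = 0 :=
  TensorProduct.tmul_zero _ _

end ptlemmas

section main

variable (F : ModSite.Mod O) {m n : ℕ}
  (f : ULift.{u} (Fin m) → ULift.{u} (Fin n) → (ModSite.ringSh O).obj.obj (op T))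
  (s : ULift.{u} (Fin n) → F.val.obj (op T))

/-- the element `Σ_j e_j ⊗ s_j` of `O^n(T) ⊗ F(T)` -/
noncomputable def z₀ : (PT O (Fr O n) F).obj (op T) :=
  ∑ j : ULift.{u} (Fin n), pt O (Fr O n) F T (RS.eG (ModSite.ringSh O) T n j) (s j)

/-- the section `Σ_j e_j ⊗ s_j` of `O^n ⊗ F` -/
noncomputable def sec' : (ST O (Fr O n) F).val.obj (op T) := etaV O (Fr O n) F T (z₀ O F s)

theorem whisker_z₀ (hrel : ∀ i, ∑ j, f i j • s j = 0) :
    ((fgt O).map (φ O hT f) ▷ (fgt O).obj F).app (op T) (z₀ O F s) = 0 := by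
  unfold z₀
  rw [map_sum]
  have h1 : ∀ j : ULift.{u} (Fin n),
      ((fgt O).map (φ O hT f) ▷ (fgt O).obj F).app (op T)
        (pt O (Fr O n) F T (RS.eG (ModSite.ringSh O) T n j) (s j)) =
      ∑ i : ULift.{u} (Fin m), pt O (Fr O m) F T (RS.eG (ModSite.ringSh O) T m i) (f i j • s j) := by
    intro j
    calc ((fgt O).map (φ O hT f) ▷ (fgt O).obj F).app (op T)
          (pt O (Fr O n) F T (RS.eG (ModSite.ringSh O) T n j) (s j))
        = pt O (Fr O m) F T ((φ O hT f).val.app (op T) (RS.eG (ModSite.ringSh O) T n j)) (s j) :=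
          whisker_pt O F (φ O hT f) T _ _
      _ = pt O (Fr O m) F T
            (∑ i : ULift.{u} (Fin m), f i j • RS.eG (ModSite.ringSh O) T m i) (s j) :=
          congrArg (fun y => pt O (Fr O m) F T y (s j)) (φ_eG O hT f j)
      _ = ∑ i : ULift.{u} (Fin m),
            pt O (Fr O m) F T (f i j • RS.eG (ModSite.ringSh O) T m i) (s j) :=
          pt_sum_left O (Fr O m) F T Finset.univ _ (s j)
      _ = _ := Finset.sum_congr rfl (fun i _ => pt_smul_left O (Fr O m) F T (f i j) _ _)
  rw [Finset.sum_congr rfl (fun j _ => h1 j), Finset.sum_comm]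
  apply Finset.sum_eq_zero
  intro i _
  rw [← pt_sum_right, hrel i, pt_zero_right]

theorem tR_φ_sec' (hrel : ∀ i, ∑ j, f i j • s j = 0) :
    ((tR O F).map (φ O hT f)).val.app (op T) (sec' O F s) = 0 := by
  unfold sec'
  rw [etaV_nat_left, whisker_z₀ O hT F f s hrel, map_zero]


theorem exists_lift_kernel (hF : ModSite.IsFlat F) (hrel : ∀ i, ∑ j, f i j • s j = 0) :
    ∃ σ' : (ST O (kernel (φ O hT f)) F).val.obj (op T),
      ((tR O F).map (kernel.ι (φ O hT f))).val.app (op T) σ' = sec' O F s := by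
  haveI : PreservesFiniteLimits (tR O F) := hF.1
  let u : ModSite.unit O ⟶ ST O (Fr O n) F :=
    (RS.unitEquiv (ModSite.ringSh O) hT (ST O (Fr O n) F)).symm (sec' O F s)
  have hu0 : RS.unitEquiv (ModSite.ringSh O) hT (ST O (Fr O n) F) u = sec' O F s :=
    (RS.unitEquiv (ModSite.ringSh O) hT (ST O (Fr O n) F)).apply_symm_apply _
  have hu : u ≫ (tR O F).map (φ O hT f) = 0 := by
    apply (RS.unitEquiv (ModSite.ringSh O) hT (ST O (Fr O m) F)).injective
    rw [map_zero]
    have h1 : RS.unitEquiv (ModSite.ringSh O) hT (ST O (Fr O m) F) (u ≫ (tR O F).map (φ O hT f)) =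
        ((tR O F).map (φ O hT f)).val.app (op T)
          (RS.unitEquiv (ModSite.ringSh O) hT (ST O (Fr O n) F) u) := rfl
    rw [h1, hu0]
    exact tR_φ_sec' O hT F f s hrel
  have hK : IsLimit ((KernelFork.ofι (kernel.ι (φ O hT f)) (kernel.condition (φ O hT f))).map
      (tR O F)) :=
    KernelFork.mapIsLimit _ (kernelIsKernel (φ O hT f)) (tR O F)
  let v : ModSite.unit O ⟶ ST O (kernel (φ O hT f)) F := hK.lift (KernelFork.ofι u hu)
  have hv : v ≫ (tR O F).map (kernel.ι (φ O hT f)) = u :=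
    hK.fac (KernelFork.ofι u hu) WalkingParallelPair.zero
  refine ⟨RS.unitEquiv (ModSite.ringSh O) hT _ v, ?_⟩
  have h2 : ((tR O F).map (kernel.ι (φ O hT f))).val.app (op T)
      (RS.unitEquiv (ModSite.ringSh O) hT _ v) =
      RS.unitEquiv (ModSite.ringSh O) hT _ (v ≫ (tR O F).map (kernel.ι (φ O hT f))) := rfl
  exact h2.trans ((congrArg (RS.unitEquiv (ModSite.ringSh O) hT (ST O (Fr O n) F)) hv).trans hu0)

/-- the `j`-th coordinate `O^n ⊗ F → F`. -/
noncomputable def coord (j : ULift.{u} (Fin n)) : ST O (Fr O n) F ⟶ F :=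
  (tR O F).map (RS.π (ModSite.ringSh O) hT n j) ≫ (tLUnitIso O).hom.app F

theorem coord_etaV_pt (j : ULift.{u} (Fin n)) (V : C) (x : (Fr O n).val.obj (op V))
    (t : F.val.obj (op V)) :
    (coord O hT F j).val.app (op V) (etaV O (Fr O n) F V (pt O (Fr O n) F V x t)) =
      RS.toR (ModSite.ringSh O) V ((RS.π (ModSite.ringSh O) hT n j).val.app (op V) x) • t := by
  have h1 : (coord O hT F j).val.app (op V) (etaV O (Fr O n) F V (pt O (Fr O n) F V x t)) =
      ((tLUnitIso O).hom.app F).val.app (op V)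
        (((tR O F).map (RS.π (ModSite.ringSh O) hT n j)).val.app (op V)
          (etaV O (Fr O n) F V (pt O (Fr O n) F V x t))) := rfl
  rw [h1, etaV_nat_left, whisker_pt, tLUnit_etaV]
  exact lunit_pt O F V _ t

theorem coord_etaV_sum (j : ULift.{u} (Fin n)) (V : C) {ι : Type*} (S : Finset ι)
    (x : ι → (Fr O n).val.obj (op V)) (t : ι → F.val.obj (op V)) :
    (coord O hT F j).val.app (op V)
        (etaV O (Fr O n) F V (∑ k ∈ S, pt O (Fr O n) F V (x k) (t k))) =
      ∑ k ∈ S, RS.toR (ModSite.ringSh O) V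
        ((RS.π (ModSite.ringSh O) hT n j).val.app (op V) (x k)) • t k := by
  rw [map_sum, map_sum]
  exact Finset.sum_congr rfl (fun k _ => coord_etaV_pt O hT F j V (x k) (t k))

theorem coord_sec' (j : ULift.{u} (Fin n)) :
    (coord O hT F j).val.app (op T) (sec' O F s) = s j := by
  unfold sec' z₀
  rw [coord_etaV_sum, Finset.sum_eq_single j]
  · have h := RS.pr_eG (ModSite.ringSh O) hT n j j
    rw [if_pos rfl] at h
    have h' : RS.toR (ModSite.ringSh O) T ((RS.π (ModSite.ringSh O) hT n j).val.app (op T)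
        (RS.eG (ModSite.ringSh O) T n j)) = 1 := h
    rw [h', one_smul]
  · intro j' _ hj'
    have h := RS.pr_eG (ModSite.ringSh O) hT n j j'
    rw [if_neg hj'] at h
    have h' : RS.toR (ModSite.ringSh O) T ((RS.π (ModSite.ringSh O) hT n j).val.app (op T)
        (RS.eG (ModSite.ringSh O) T n j')) = 0 := h
    rw [h', zero_smul]
  · intro h
    exact absurd (Finset.mem_univ j) h


include hT in
theorem eq_crit_terminal (hF : ModSite.IsFlat F) (hrel : ∀ i, ∑ j, f i j • s j = 0) :
    ∃ S ∈ J T, ∀ ⦃V : C⦄ (g : V ⟶ T), S g →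
      ∃ (l : ℕ) (t : Fin l → F.val.obj (op V))
        (a : ULift.{u} (Fin n) → Fin l → (ModSite.ringSh O).obj.obj (op V)),
        (∀ j, F.val.map g.op (s j) = ∑ k, a j k • t k) ∧
        (∀ i k, ∑ j, a j k * ((ModSite.ringSh O).obj.map g.op).hom (f i j) = 0) := by
  obtain ⟨σ', hσ'⟩ := exists_lift_kernel O hT F f s hF hrel
  refine ⟨Presheaf.imageSieve ((PresheafOfModules.toPresheaf _).map
    (eta O (PT O (kernel (φ O hT f)) F))) σ', imageSieve_eta_mem O (kernel (φ O hT f)) F T σ', ?_⟩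
  intro V g hg
  obtain ⟨z, hz⟩ := exists_etaV_eq_of_imageSieve O (kernel (φ O hT f)) F g σ' hg
  obtain ⟨l, κ, t, rfl⟩ := exists_fin_sum_pt O (kernel (φ O hT f)) F V z
  refine ⟨l, t, fun j k => RS.toR (ModSite.ringSh O) V
    ((RS.π (ModSite.ringSh O) hT n j).val.app (op V)
      ((kernel.ι (φ O hT f)).val.app (op V) (κ k))), ?_, ?_⟩
  · intro j
    have e1 : F.val.map g.op (s j) = (coord O hT F j).val.app (op V)
        ((ST O (Fr O n) F).val.map g.op (sec' O F s)) := by
      have h := PresheafOfModules.naturality_apply (coord O hT F j).val g.op (sec' O F s)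
      rw [coord_sec' O hT F s j] at h
      exact h.symm
    have e2 : (ST O (Fr O n) F).val.map g.op (sec' O F s) =
        etaV O (Fr O n) F V (∑ k, pt O (Fr O n) F V
          ((kernel.ι (φ O hT f)).val.app (op V) (κ k)) (t k)) := by
      have h := PresheafOfModules.naturality_apply ((tR O F).map (kernel.ι (φ O hT f))).val g.op σ'
      rw [hσ'] at h
      have h3 : ((tR O F).map (kernel.ι (φ O hT f))).val.app (op V)
          ((ST O (kernel (φ O hT f)) F).val.map g.op σ') =
          ((tR O F).map (kernel.ι (φ O hT f))).val.app (op V)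
            (etaV O (kernel (φ O hT f)) F V
              (∑ k, pt O (kernel (φ O hT f)) F V (κ k) (t k))) := by
        rw [hz]
      have h4 : ((tR O F).map (kernel.ι (φ O hT f))).val.app (op V)
            (etaV O (kernel (φ O hT f)) F V
              (∑ k, pt O (kernel (φ O hT f)) F V (κ k) (t k))) =
          etaV O (Fr O n) F V (∑ k, pt O (Fr O n) F V
            ((kernel.ι (φ O hT f)).val.app (op V) (κ k)) (t k)) := by
        rw [etaV_nat_left, map_sum]
        rfl
      exact h.symm.trans (h3.trans h4)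
    rw [e1, e2, coord_etaV_sum]
  · intro i k
    have h := φ_π_app O hT f i g ((kernel.ι (φ O hT f)).val.app (op V) (κ k))
    rw [← h]
    have h0 : (φ O hT f).val.app (op V) ((kernel.ι (φ O hT f)).val.app (op V) (κ k)) = 0 := by
      have h1 : (kernel.ι (φ O hT f) ≫ φ O hT f).val.app (op V) (κ k) = 0 := by
        rw [kernel.condition]
        rfl
      exact h1
    rw [h0, map_zero]
    rfl

end main

end Groth.Agent.Lib.Helper21.EqCrit
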