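import Mathlib
import Groth.Prelude.Def_ModSite
import Groth.Agent.Lib.Helper21EqCrit2
import Groth.Agent.Lib.Helper21ExtZero6

set_option autoImplicit false
universe u
open CategoryTheory CategoryTheory.Limits Opposite MonoidalCategory

namespace Groth.Agent.Lib.Helper21.EqCrit

variable {C : Type u} [SmallCategory C] {J : GrothendieckTopology C} (O : Sheaf J CommRingCat.{u})

/-- the equational criterion of flatness on a ringed site (flat ⇒ relations are locally trivial),
matrix version. -/
theorem eq_crit (F : ModSite.Mod O) (hF : ModSite.IsFlat F) (U : C) {m n : ℕ}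
    (f : Fin m → Fin n → (ModSite.ringSh O).obj.obj (op U)) (s : Fin n → F.val.obj (op U))
    (hrel : ∀ i, ∑ j, f i j • s j = 0) :
    ∃ S ∈ J U, ∀ ⦃V : C⦄ (g : V ⟶ U), S g →
      ∃ (l : ℕ) (t : Fin l → F.val.obj (op V))
        (a : Fin n → Fin l → (ModSite.ringSh O).obj.obj (op V)),
        (∀ j, F.val.map g.op (s j) = ∑ k, a j k • t k) ∧
        (∀ i k, ∑ j, a j k * ((ModSite.ringSh O).obj.map g.op).hom (f i j) = 0) := by
  have hT : IsTerminal (Over.mk (𝟙 U)) := Over.mkIdTerminal
  have hFU := Groth.Agent.Lib.Helper21.ExtZeroS.isFlat_restr O U F hF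
  let f' : ULift.{u} (Fin m) → ULift.{u} (Fin n) →
      (ModSite.ringSh (O.over U)).obj.obj (op (Over.mk (𝟙 U))) := fun i j => f i.down j.down
  let s' : ULift.{u} (Fin n) → ((ModSite.restr O U).obj F).val.obj (op (Over.mk (𝟙 U))) :=
    fun j => s j.down
  have hrel' : ∀ i, ∑ j, f' i j • s' j = 0 := by
    intro i
    have h := hrel i.down
    rw [← Equiv.ulift.{u}.sum_comp] at h
    exact h
  obtain ⟨S', hS', H⟩ := eq_crit_terminal (O.over U) hT ((ModSite.restr O U).obj F) f' s' hFU hrel'
  refine ⟨Sieve.overEquiv _ S', (GrothendieckTopology.mem_over_iff (J := J) S').1 hS', ?_⟩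
  intro V g hg
  rw [Sieve.overEquiv_iff] at hg
  obtain ⟨l, t, a, h1, h2⟩ := H _ hg
  refine ⟨l, t, fun j k => a (ULift.up j) k, ?_, ?_⟩
  · intro j
    exact h1 (ULift.up j)
  · intro i k
    have h := h2 (ULift.up i) k
    rw [← Equiv.ulift.{u}.sum_comp]
    exact h

end Groth.Agent.Lib.Helper21.EqCrit
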