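import Mathlib
import Groth.Prelude.Def_ModSite
import Groth.Agent.Lib.Helper21RestrExact
import Groth.Agent.Lib.Helper21EqCrit3

/-!
# Helper21: finite free structures, restriction `C/X ⥤ C/V` along `g : V ⟶ X` is exact
-/

set_option autoImplicit false
universe u
open CategoryTheory CategoryTheory.Limits Opposite

namespace Groth.Agent.Lib.Helper21.LocFact

noncomputable section

section FFsec

universe v' u' v'' u'' w

variable {A : Type u'} [Category.{v'} A] [Preadditive A]

/-- a "finite free" structure on `Q` over `U`: `Q ≅ U^I` (as a biproduct). -/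
structure FF (U Q : A) (I : Type w) [Fintype I] where
  /-- inclusions -/
  ι : I → (U ⟶ Q)
  /-- projections -/
  π : I → (Q ⟶ U)
  ι_π_self : ∀ i, ι i ≫ π i = 𝟙 U
  ι_π_ne : ∀ i j, i ≠ j → ι i ≫ π j = 0
  sum : ∑ i, π i ≫ ι i = 𝟙 Q

namespace FF

variable {U Q : A} {I : Type w} [Fintype I] (ff : FF U Q I)

theorem eq_sum {M : A} (f : Q ⟶ M) : f = ∑ i, ff.π i ≫ ff.ι i ≫ f := by
  calc f = 𝟙 Q ≫ f := (Category.id_comp f).symm
    _ = (∑ i, ff.π i ≫ ff.ι i) ≫ f := by rw [ff.sum]
    _ = ∑ i, ff.π i ≫ ff.ι i ≫ f := by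
      rw [Preadditive.sum_comp]
      exact Finset.sum_congr rfl (fun i _ => Category.assoc _ _ _)

theorem hom_ext {M : A} {f g : Q ⟶ M} (h : ∀ i, ff.ι i ≫ f = ff.ι i ≫ g) : f = g := by
  rw [ff.eq_sum f, ff.eq_sum g]
  exact Finset.sum_congr rfl (fun i _ => by rw [h i])

/-- the map out of `Q` with given components. -/
def desc {M : A} (f : I → (U ⟶ M)) : Q ⟶ M := ∑ i, ff.π i ≫ f i

theorem ι_desc {M : A} (f : I → (U ⟶ M)) (j : I) : ff.ι j ≫ ff.desc f = f j := by
  unfold desc
  rw [Preadditive.comp_sum, Finset.sum_eq_single j]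
  · rw [← Category.assoc, ff.ι_π_self, Category.id_comp]
  · intro i _ hi
    rw [← Category.assoc, ff.ι_π_ne j i (Ne.symm hi), zero_comp]
  · intro h
    exact absurd (Finset.mem_univ j) h

/-- the map into `Q` with given components. -/
def lift {M : A} (f : I → (M ⟶ U)) : M ⟶ Q := ∑ i, f i ≫ ff.ι i

theorem lift_π {M : A} (f : I → (M ⟶ U)) (j : I) : ff.lift f ≫ ff.π j = f j := by
  unfold lift
  rw [Preadditive.sum_comp, Finset.sum_eq_single j]
  · rw [Category.assoc, ff.ι_π_self, Category.comp_id]
  · intro i _ hi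
    rw [Category.assoc, ff.ι_π_ne i j hi, comp_zero]
  · intro h
    exact absurd (Finset.mem_univ j) h

theorem lift_desc {M N : A} (f : I → (M ⟶ U)) (g : I → (U ⟶ N)) :
    ff.lift f ≫ ff.desc g = ∑ i, f i ≫ g i := by
  unfold lift
  rw [Preadditive.sum_comp]
  refine Finset.sum_congr rfl (fun i _ => ?_)
  rw [Category.assoc, ff.ι_desc]

theorem decomp {M : A} (f : M ⟶ Q) : f = ∑ i, (f ≫ ff.π i) ≫ ff.ι i := by
  calc f = f ≫ 𝟙 Q := (Category.comp_id f).symm
    _ = f ≫ ∑ i, ff.π i ≫ ff.ι i := by rw [ff.sum]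
    _ = ∑ i, (f ≫ ff.π i) ≫ ff.ι i := by
      rw [Preadditive.comp_sum]
      exact Finset.sum_congr rfl (fun i _ => (Category.assoc _ _ _).symm)

theorem hom_ext' {M : A} {f g : M ⟶ Q} (h : ∀ i, f ≫ ff.π i = g ≫ ff.π i) : f = g := by
  rw [ff.decomp f, ff.decomp g]
  exact Finset.sum_congr rfl (fun i _ => by rw [h i])

/-- transport of a finite free structure along an additive functor. -/
def map {B : Type u''} [Category.{v''} B] [Preadditive B] (G : A ⥤ B) [G.Additive] {U' : B}
    (e : G.obj U ≅ U') : FF U' (G.obj Q) I where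
  ι i := e.inv ≫ G.map (ff.ι i)
  π i := G.map (ff.π i) ≫ e.hom
  ι_π_self i := by
    rw [Category.assoc, ← G.map_comp_assoc, ff.ι_π_self, G.map_id, Category.id_comp, e.inv_hom_id]
  ι_π_ne i j h := by
    rw [Category.assoc, ← G.map_comp_assoc, ff.ι_π_ne i j h, G.map_zero, zero_comp, comp_zero]
  sum := by
    have h : ∀ i, (G.map (ff.π i) ≫ e.hom) ≫ e.inv ≫ G.map (ff.ι i) =
        G.map (ff.π i ≫ ff.ι i) := by
      intro i
      rw [Category.assoc, e.hom_inv_id_assoc, G.map_comp]
    rw [Finset.sum_congr rfl (fun i _ => h i), ← G.map_sum, ff.sum, G.map_id]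

end FF

end FFsec

section free

variable {C : Type u} [SmallCategory C] {J : GrothendieckTopology C} (R : Sheaf J RingCat.{u})
  [HasSheafify J AddCommGrpCat.{u}] [J.WEqualsLocallyBijective AddCommGrpCat.{u}]

/-- projections of `free I`. -/
def πFree {I : Type u} (j : I) : SheafOfModules.free (R := R) I ⟶ SheafOfModules.unit R :=
  open Classical in
  Cofan.IsColimit.desc (SheafOfModules.isColimitFreeCofan I)
    (fun i => if i = j then 𝟙 (SheafOfModules.unit R) else 0)

open Classical in
theorem ιFree_πFree {I : Type u} (i j : I) :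
    SheafOfModules.ιFree i ≫ πFree R j = if i = j then 𝟙 (SheafOfModules.unit R) else 0 :=
  Cofan.IsColimit.fac (SheafOfModules.isColimitFreeCofan (R := R) I)
      (fun k => if k = j then 𝟙 (SheafOfModules.unit R) else 0) i

/-- the finite free structure of `free I`. -/
def ffFree (I : Type u) [Fintype I] :
    FF (SheafOfModules.unit R) (SheafOfModules.free (R := R) I) I where
  ι i := SheafOfModules.ιFree i
  π j := πFree R j
  ι_π_self i := (ιFree_πFree R i i).trans (if_pos rfl)
  ι_π_ne i j hij := (ιFree_πFree R i j).trans (if_neg hij)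
  sum := by
    apply Cofan.IsColimit.hom_ext (SheafOfModules.isColimitFreeCofan (R := R) I)
    intro k
    show SheafOfModules.ιFree k ≫ _ = SheafOfModules.ιFree k ≫ _
    rw [Preadditive.comp_sum, Category.comp_id, Finset.sum_eq_single k]
    · rw [← Category.assoc, ιFree_πFree, if_pos rfl, Category.id_comp]
    · intro j _ hj
      rw [← Category.assoc, ιFree_πFree, if_neg (Ne.symm hj), zero_comp]
    · intro h
      exact absurd (Finset.mem_univ k) h

end free

section overMap

variable {C : Type u} [SmallCategory C] {J : GrothendieckTopology C} (O : Sheaf J CommRingCat.{u})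
  {X V : C} (g : V ⟶ X)

/-- restriction from `C/X` to `C/V` along `g : V ⟶ X`. -/
abbrev Gg : ModSite.Mod (O.over X) ⥤ ModSite.Mod (O.over V) :=
  SheafOfModules.overMap (ModSite.ringSh O) g

instance : (PresheafOfModules.pushforward.{u} (F := Over.map g)
    (R := ((ModSite.ringSh O).over X).obj) (S := ((ModSite.ringSh O).over V).obj)
    ((ModSite.ringSh O).pushforwardOverMapIso g).inv.hom).IsRightAdjoint :=
  inferInstance

instance Gg_isRightAdjoint : (Gg O g).IsRightAdjoint := by
  unfold Gg SheafOfModules.overMap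
  exact (SheafOfModules.PullbackConstruction.adjunction.{u}
    ((ModSite.ringSh O).pushforwardOverMapIso g).inv).isRightAdjoint

instance Gg_additive : (Gg O g).Additive :=
  haveI := preservesBinaryBiproducts_of_preservesBinaryProducts (Gg O g)
  Functor.additive_of_preservesBinaryBiproducts _

instance Gg_preservesEpimorphisms : (Gg O g).PreservesEpimorphisms where
  preserves {M N} f hf := by
    have h1 := Groth.Agent.Lib.Helper4.ModEpi.isLocallySurjective_of_epi f
    apply Groth.Agent.Lib.Helper21.RestrExact.epi_of_isLocallySurjective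
    haveI := h1
    exact Presheaf.isLocallySurjective_whisker (J.over V) (J.over X) (Over.map g)
      ((PresheafOfModules.toPresheaf _).map f.val)

instance Gg_preservesHomology : (Gg O g).PreservesHomology :=
  Functor.preservesHomology_of_preservesEpis_and_kernels _

instance Gg_preservesFiniteColimits : PreservesFiniteColimits (Gg O g) :=
  Functor.preservesFiniteColimits_of_preservesHomology _

end overMap

end

end Groth.Agent.Lib.Helper21.LocFact
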