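import Mathlib
import Groth.Prelude.Def_ModSite
import Groth.Agent.Lib.Helper21Dual4
import Groth.Agent.Lib.Helper21LocFact1

open CategoryTheory MonoidalCategory Opposite Limits

universe u

namespace Groth.Agent.Lib.Helper21.Dual

open Groth.Agent.Lib.Helper21.ModTensor Groth.Agent.Lib.Helper21.ModTensor2
  Groth.Agent.Lib.Helper21.ModTensor3 Groth.Agent.Lib.Helper21.ModTensor4
  Groth.Agent.Lib.Helper21.ModTensor5
  Groth.Agent.Lib.Helper21.ModTensor6 Groth.Agent.Lib.Helper21.ModRestr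
  Groth.Agent.Lib.Helper21.LocFact

attribute [local instance] Groth.Agent.Lib.Helper21.ExtShDelta.hasSheafHom

variable {C : Type u} [SmallCategory C] {J : GrothendieckTopology C} (O : Sheaf J CommRingCat.{u})

/-- `A ⊗ O ≅ A`. -/
noncomputable def rU (A : ModSite.Mod O) : (tL O A).obj (ModSite.unit O) ≅ A :=
  (shf O).mapIso (ρ_ ((fgt O).obj A : PM O)) ≪≫ (asIso (adj O).counit).app A

theorem rU_hom (A : ModSite.Mod O) :
    (rU O A).hom = (shf O).map (ρ_ ((fgt O).obj A : PM O)).hom ≫ (adj O).counit.app A := rfl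

theorem rU_nat {A B : ModSite.Mod O} (f : A ⟶ B) :
    (tR O (ModSite.unit O)).map f ≫ (rU O B).hom = (rU O A).hom ≫ f := by
  have h1 : (shf O).map ((fgt O).map f ▷ (𝟙_ (PM O))) ≫ (shf O).map (ρ_ ((fgt O).obj B : PM O)).hom =
      (shf O).map (ρ_ ((fgt O).obj A : PM O)).hom ≫ (shf O).map ((fgt O).map f) := by
    rw [← Functor.map_comp, ← Functor.map_comp, rightUnitor_naturality]
  have h2 : (shf O).map ((fgt O).map f) ≫ (adj O).counit.app B = (adj O).counit.app A ≫ f :=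
    (adj O).counit.naturality f
  calc (tR O (ModSite.unit O)).map f ≫ (rU O B).hom
      = ((shf O).map ((fgt O).map f ▷ (𝟙_ (PM O))) ≫
          (shf O).map (ρ_ ((fgt O).obj B : PM O)).hom) ≫ (adj O).counit.app B :=
        (Category.assoc _ _ _).symm
    _ = ((shf O).map (ρ_ ((fgt O).obj A : PM O)).hom ≫ (shf O).map ((fgt O).map f)) ≫
          (adj O).counit.app B := congrArg (· ≫ (adj O).counit.app B) h1
    _ = (shf O).map (ρ_ ((fgt O).obj A : PM O)).hom ≫ ((shf O).map ((fgt O).map f) ≫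
          (adj O).counit.app B) := Category.assoc _ _ _
    _ = (shf O).map (ρ_ ((fgt O).obj A : PM O)).hom ≫ ((adj O).counit.app A ≫ f) :=
        congrArg ((shf O).map (ρ_ ((fgt O).obj A : PM O)).hom ≫ ·) h2
    _ = _ := (Category.assoc _ _ _).symm

/-- exchange law for the tensor bifunctor. -/
theorem tensor_exchange {A B X Y : ModSite.Mod O} (t : A ⟶ B) (ι : X ⟶ Y) :
    (tL O A).map ι ≫ (tR O Y).map t = (tR O X).map t ≫ (tL O B).map ι := by
  show (shf O).map ((fgt O).obj A ◁ (fgt O).map ι) ≫ (shf O).map ((fgt O).map t ▷ (fgt O).obj Y) =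
    (shf O).map ((fgt O).map t ▷ (fgt O).obj X) ≫ (shf O).map ((fgt O).obj B ◁ (fgt O).map ι)
  rw [← Functor.map_comp, ← Functor.map_comp, whisker_exchange]

/-- presheaf-level coherence (C₀). -/
theorem m₀_unit (G₀ D₀ E₀ : PM O) (e : D₀ ⊗ E₀ ⟶ 𝟙_ (PM O)) (ι₀ : 𝟙_ (PM O) ⟶ E₀)
    (θ₀ : D₀ ⟶ 𝟙_ (PM O)) (hθ : (ρ_ D₀).hom ≫ θ₀ = (D₀ ◁ ι₀) ≫ e) :
    ((G₀ ⊗ D₀) ◁ ι₀) ≫ m₀ O G₀ D₀ E₀ e = (ρ_ (G₀ ⊗ D₀)).hom ≫ (G₀ ◁ θ₀) ≫ (ρ_ G₀).hom := by
  unfold m₀
  rw [← Category.assoc, associator_naturality_right, Category.assoc, ← Category.assoc (G₀ ◁ _),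
    ← MonoidalCategory.whiskerLeft_comp, ← hθ, MonoidalCategory.whiskerLeft_comp,
    rightUnitor_tensor_hom]
  simp only [Category.assoc]

variable {O}

theorem ev₀_unit {D E : ModSite.Mod O}
    (ev : ((ModSite.tensorBi O).obj D).obj E ⟶ ModSite.unit O) (ι : ModSite.unit O ⟶ E)
    (θ : D ⟶ ModSite.unit O) (hθ : (rU O D).hom ≫ θ = (tL O D).map ι ≫ ev) :
    (ρ_ ((fgt O).obj D : PM O)).hom ≫ (fgt O).map θ =
      ((fgt O).obj D ◁ (fgt O).map ι) ≫ ev₀ ev := by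
  have h : eta O ((fgt O).obj D ⊗ 𝟙_ (PM O)) ≫ (fgt O).map ((rU O D).hom ≫ θ) =
      eta O ((fgt O).obj D ⊗ 𝟙_ (PM O)) ≫ (fgt O).map ((tL O D).map ι ≫ ev) :=
    congrArg (fun x => eta O ((fgt O).obj D ⊗ 𝟙_ (PM O)) ≫ (fgt O).map x) hθ
  have hL : eta O ((fgt O).obj D ⊗ 𝟙_ (PM O)) ≫ (fgt O).map ((rU O D).hom ≫ θ) =
      (ρ_ ((fgt O).obj D : PM O)).hom ≫ (fgt O).map θ := by
    rw [rU_hom, Functor.map_comp, Functor.map_comp, ← Category.assoc, ← Category.assoc]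
    have h1 := eta_nat O (ρ_ ((fgt O).obj D : PM O)).hom
    have h2 := eta_fgt_counit O D
    calc ((eta O ((fgt O).obj D ⊗ 𝟙_ (PM O)) ≫
          (fgt O).map ((shf O).map (ρ_ ((fgt O).obj D : PM O)).hom)) ≫
          (fgt O).map ((adj O).counit.app D)) ≫ (fgt O).map θ
        = (((ρ_ ((fgt O).obj D : PM O)).hom ≫ eta O ((fgt O).obj D)) ≫
          (fgt O).map ((adj O).counit.app D)) ≫ (fgt O).map θ := by rw [h1]
      _ = ((ρ_ ((fgt O).obj D : PM O)).hom ≫ (eta O ((fgt O).obj D) ≫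
          (fgt O).map ((adj O).counit.app D))) ≫ (fgt O).map θ := by
          simp only [Category.assoc]
      _ = _ := by rw [h2, Category.comp_id]
  have hR : eta O ((fgt O).obj D ⊗ 𝟙_ (PM O)) ≫ (fgt O).map ((tL O D).map ι ≫ ev) =
      ((fgt O).obj D ◁ (fgt O).map ι) ≫ ev₀ ev := by
    rw [Functor.map_comp, ← Category.assoc]
    have h1 := eta_nat O ((fgt O).obj D ◁ (fgt O).map ι)
    unfold ev₀
    rw [← Category.assoc, h1]
    rfl
  exact hL.symm.trans (h.trans hR)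

/-- (C'): contraction against a section `ι : O ⟶ E`. -/
theorem cflat_unit (G : ModSite.Mod O) {D E : ModSite.Mod O}
    (ev : ((ModSite.tensorBi O).obj D).obj E ⟶ ModSite.unit O) (ι : ModSite.unit O ⟶ E)
    (θ : D ⟶ ModSite.unit O) (hθ : (rU O D).hom ≫ θ = (tL O D).map ι ≫ ev) :
    (tL O ((tR O D).obj G)).map ι ≫ cflat G ev =
      (rU O ((tR O D).obj G)).hom ≫ (tL O G).map θ ≫ (rU O G).hom := by
  set G₀ := (fgt O).obj G with hG₀
  set D₀ := (fgt O).obj D with hD₀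
  set E₀ := (fgt O).obj E with hE₀
  set P : PM O := G₀ ⊗ D₀ with hP
  haveI hj : IsIso ((shf O).map (eta O P ▷ (𝟙_ (PM O)))) := isIso_shf_map_eta_whiskerRight _ _
  refine (cancel_epi ((shf O).map (eta O P ▷ (𝟙_ (PM O))))).1 ?_
  have hθ₀ := ev₀_unit ev ι θ hθ
  have hC₀ := m₀_unit O G₀ D₀ E₀ (ev₀ ev) ((fgt O).map ι) ((fgt O).map θ) hθ₀
  show (shf O).map (eta O P ▷ (𝟙_ (PM O))) ≫ (shf O).map (aa O P ◁ (fgt O).map ι) ≫
      cflatP G D₀ E₀ (ev₀ ev) =
    (shf O).map (eta O P ▷ (𝟙_ (PM O))) ≫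
      ((shf O).map (ρ_ (aa O P)).hom ≫ (adj O).counit.app ((shf O).obj P)) ≫
      (shf O).map (G₀ ◁ (fgt O).map θ) ≫ (shf O).map (ρ_ G₀).hom ≫ (adj O).counit.app G
  -- LHS
  have hL : (shf O).map (eta O P ▷ (𝟙_ (PM O))) ≫ (shf O).map (aa O P ◁ (fgt O).map ι) ≫
      cflatP G D₀ E₀ (ev₀ ev) =
      (shf O).map ((P ◁ (fgt O).map ι) ≫ m₀ O G₀ D₀ E₀ (ev₀ ev)) ≫ (adj O).counit.app G := by
    have h1 : (shf O).map (eta O P ▷ (𝟙_ (PM O))) ≫ (shf O).map (aa O P ◁ (fgt O).map ι) =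
        (shf O).map (P ◁ (fgt O).map ι) ≫ (shf O).map (eta O P ▷ E₀) := by
      rw [← Functor.map_comp, ← Functor.map_comp, whisker_exchange]
      rfl
    have h2 := shf_eta_cflatP G D₀ E₀ (ev₀ ev)
    exact (Category.assoc _ _ _).symm.trans ((congrArg (· ≫ cflatP G D₀ E₀ (ev₀ ev)) h1).trans
      ((Category.assoc _ _ _).trans ((congrArg ((shf O).map (P ◁ (fgt O).map ι) ≫ ·) h2).trans
        ((Category.assoc _ _ _).symm.trans
          (congrArg (· ≫ (adj O).counit.app G) ((shf O).map_comp _ _).symm)))))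
  -- RHS
  have hR : (shf O).map (eta O P ▷ (𝟙_ (PM O))) ≫
      ((shf O).map (ρ_ (aa O P)).hom ≫ (adj O).counit.app ((shf O).obj P)) ≫
      (shf O).map (G₀ ◁ (fgt O).map θ) ≫ (shf O).map (ρ_ G₀).hom ≫ (adj O).counit.app G =
      (shf O).map ((ρ_ P).hom ≫ (G₀ ◁ (fgt O).map θ) ≫ (ρ_ G₀).hom) ≫ (adj O).counit.app G := by
    have h1 : (shf O).map (eta O P ▷ (𝟙_ (PM O))) ≫ (shf O).map (ρ_ (aa O P)).hom =
        (shf O).map (ρ_ P).hom ≫ (shf O).map (eta O P) := by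
      rw [← Functor.map_comp, ← Functor.map_comp, rightUnitor_naturality]
    have h2 : (shf O).map (eta O P) ≫ (adj O).counit.app ((shf O).obj P) = 𝟙 _ :=
      (adj O).left_triangle_components P
    have h3 : (shf O).map (eta O P ▷ (𝟙_ (PM O))) ≫
        ((shf O).map (ρ_ (aa O P)).hom ≫ (adj O).counit.app ((shf O).obj P)) =
        (shf O).map (ρ_ P).hom :=
      (Category.assoc _ _ _).symm.trans ((congrArg (· ≫ (adj O).counit.app ((shf O).obj P)) h1).trans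
        ((Category.assoc _ _ _).trans ((congrArg ((shf O).map (ρ_ P).hom ≫ ·) h2).trans
          (Category.comp_id _))))
    refine (Category.assoc _ _ _).symm.trans ((congrArg (· ≫ (shf O).map (G₀ ◁ (fgt O).map θ) ≫
      (shf O).map (ρ_ G₀).hom ≫ (adj O).counit.app G) h3).trans ?_)
    rw [Functor.map_comp, Functor.map_comp]
    simp only [Category.assoc]
  exact hL.trans ((congrArg (fun x => (shf O).map x ≫ (adj O).counit.app G) hC₀).trans hR.symm)

end Groth.Agent.Lib.Helper21.Dual
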