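import Mathlib
import Groth.Prelude.Def_ModSite
import Groth.Agent.Lib.Helper21Dual5

open CategoryTheory MonoidalCategory Opposite Limits

universe u

namespace Groth.Agent.Lib.Helper21.Dual

open Groth.Agent.Lib.Helper21.ModTensor Groth.Agent.Lib.Helper21.ModTensor2
  Groth.Agent.Lib.Helper21.ModTensor3 Groth.Agent.Lib.Helper21.ModTensor4
  Groth.Agent.Lib.Helper21.ModTensor5
  Groth.Agent.Lib.Helper21.ModTensor6 Groth.Agent.Lib.Helper21.ModRestr
  Groth.Agent.Lib.Helper21.LocFact

attribute [local instance] Groth.Agent.Lib.Helper21.ExtShDelta.hasSheafHom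

section abstract

universe v' u' w

variable {A : Type u'} [Category.{v'} A] [Preadditive A]

open Classical in
theorem exists_ff_of_bijective {U Q : A} {I : Type w} [Fintype I]
    (θ : I → (Q ⟶ U))
    (h : ∀ T : A, Function.Bijective (fun (s : T ⟶ Q) => (fun i => s ≫ θ i))) :
    ∃ ff : FF U Q I, ff.π = θ := by
  have hδ : ∀ i : I, ∃ δ : U ⟶ Q, (fun j => δ ≫ θ j) = fun j => if j = i then 𝟙 U else 0 :=
    fun i => (h U).2 _
  choose δ hδ using hδ
  have hδ' : ∀ i j, δ i ≫ θ j = if j = i then 𝟙 U else 0 := fun i j => congrFun (hδ i) j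
  refine ⟨{ ι := δ, π := θ, ι_π_self := fun i => (hδ' i i).trans (if_pos rfl),
            ι_π_ne := fun i j hij => (hδ' i j).trans (if_neg (Ne.symm hij)),
            sum := ?_ }, rfl⟩
  apply (h Q).1
  funext j
  show (∑ i, θ i ≫ δ i) ≫ θ j = 𝟙 Q ≫ θ j
  rw [Preadditive.sum_comp, Category.id_comp, Finset.sum_eq_single j]
  · rw [Category.assoc, hδ', if_pos rfl, Category.comp_id]
  · intro i _ hi
    rw [Category.assoc, hδ', if_neg (Ne.symm hi), comp_zero]
  · intro hj
    exact absurd (Finset.mem_univ j) hj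

theorem _root_.Groth.Agent.Lib.Helper21.LocFact.FF.bijective_ι_comp {U Q : A} {I : Type w} [Fintype I] (ff : FF U Q I) (M : A) :
    Function.Bijective (fun (x : Q ⟶ M) => (fun i => ff.ι i ≫ x)) := by
  constructor
  · intro x y hxy
    exact ff.hom_ext (fun i => congrFun hxy i)
  · intro f
    exact ⟨ff.desc f, funext (fun j => ff.ι_desc f j)⟩

theorem _root_.Groth.Agent.Lib.Helper21.LocFact.FF.bijective_comp_π {U Q : A} {I : Type w} [Fintype I] (ff : FF U Q I) (M : A) :
    Function.Bijective (fun (x : M ⟶ Q) => (fun i => x ≫ ff.π i)) := by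
  constructor
  · intro x y hxy
    exact ff.hom_ext' (fun i => congrFun hxy i)
  · intro f
    exact ⟨ff.lift f, funext (fun j => ff.lift_π f j)⟩

end abstract

variable {C : Type u} [SmallCategory C] {J : GrothendieckTopology C} {O : Sheaf J CommRingCat.{u}}

theorem rU_inv_nat {A B : ModSite.Mod O} (f : A ⟶ B) :
    (rU O A).inv ≫ (tR O (ModSite.unit O)).map f = f ≫ (rU O B).inv := by
  rw [Iso.inv_comp_eq, ← Category.assoc, Iso.eq_comp_inv]
  exact rU_nat O f

section L2

variable {I : Type} [Fintype I] {E : ModSite.Mod O} (ff : FF (ModSite.unit O) E I)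

/-- coordinates of maps out of `A ⊗ E`. -/
noncomputable def ffTL (A : ModSite.Mod O) : FF A ((tL O A).obj E) I :=
  ff.map (tL O A) (rU O A)

theorem ffTL_ι (A : ModSite.Mod O) (i : I) :
    (ffTL ff A).ι i = (rU O A).inv ≫ (tL O A).map (ff.ι i) := rfl

theorem ffTL_π (A : ModSite.Mod O) (i : I) :
    (ffTL ff A).π i = (tL O A).map (ff.π i) ≫ (rU O A).hom := rfl

/-- key computation: coordinates of the adjunct of `t ≫ (adjunct of x)`. -/
theorem coord_comp {T M : ModSite.Mod O} (t : T ⟶ M) (G : ModSite.Mod O)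
    (x : (tR O E).obj M ⟶ G) (i : I) :
    (ffTL ff T).ι i ≫ (tR O E).map t ≫ x = t ≫ (ffTL ff M).ι i ≫ x := by
  rw [ffTL_ι, ffTL_ι]
  have h1 := tensor_exchange O t (ff.ι i)
  have h2 := rU_inv_nat t
  calc ((rU O T).inv ≫ (tL O T).map (ff.ι i)) ≫ (tR O E).map t ≫ x
      = (rU O T).inv ≫ ((tL O T).map (ff.ι i) ≫ (tR O E).map t) ≫ x := by
        simp only [Category.assoc]
    _ = (rU O T).inv ≫ ((tR O (ModSite.unit O)).map t ≫ (tL O M).map (ff.ι i)) ≫ x := by rw [h1]
    _ = ((rU O T).inv ≫ (tR O (ModSite.unit O)).map t) ≫ (tL O M).map (ff.ι i) ≫ x := by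
        simp only [Category.assoc]
    _ = (t ≫ (rU O M).inv) ≫ (tL O M).map (ff.ι i) ≫ x := by rw [h2]
    _ = _ := by simp only [Category.assoc]

/-- the functionals `θ_i : D ⟶ O` dual to the basis of `E` via the pairing. -/
noncomputable def thetaOf {D : ModSite.Mod O}
    (ev : ((ModSite.tensorBi O).obj D).obj E ⟶ ModSite.unit O) (i : I) : D ⟶ ModSite.unit O :=
  (ffTL ff D).ι i ≫ ev

theorem rU_thetaOf {D : ModSite.Mod O}
    (ev : ((ModSite.tensorBi O).obj D).obj E ⟶ ModSite.unit O) (i : I) :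
    (rU O D).hom ≫ thetaOf ff ev i = (tL O D).map (ff.ι i) ≫ ev := by
  unfold thetaOf
  rw [ffTL_ι, Category.assoc, Iso.hom_inv_id_assoc]

/-- a perfect pairing with a finite free module gives a finite free structure on `D`. -/
theorem bijective_thetaOf {D : ModSite.Mod O}
    (ev : ((ModSite.tensorBi O).obj D).obj E ⟶ ModSite.unit O)
    (hperf : IsIso ((ModSite.sheafHomAdj E).homEquiv D (ModSite.unit O) ev)) (T : ModSite.Mod O) :
    Function.Bijective (fun (s : T ⟶ D) => (fun i => s ≫ thetaOf ff ev i)) := by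
  set ê := (ModSite.sheafHomAdj E).homEquiv D (ModSite.unit O) ev with hê
  have h1 : Function.Bijective (fun (s : T ⟶ D) => s ≫ ê) :=
    ⟨fun s s' h => (cancel_mono ê).1 h, fun y => ⟨y ≫ inv ê, by simp⟩⟩
  have h2 : Function.Bijective
      ((ModSite.sheafHomAdj E).homEquiv T (ModSite.unit O)).symm := Equiv.bijective _
  have h3 := (ffTL ff T).bijective_ι_comp (ModSite.unit O)
  have hcomp : (fun (s : T ⟶ D) => (fun i => s ≫ thetaOf ff ev i)) =
      (fun (x : (tL O T).obj E ⟶ ModSite.unit O) => (fun i => (ffTL ff T).ι i ≫ x)) ∘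
        ((ModSite.sheafHomAdj E).homEquiv T (ModSite.unit O)).symm ∘
          (fun (s : T ⟶ D) => s ≫ ê) := by
    funext s i
    show s ≫ thetaOf ff ev i = (ffTL ff T).ι i ≫
      ((ModSite.sheafHomAdj E).homEquiv T (ModSite.unit O)).symm (s ≫ ê)
    have h4 := (ModSite.sheafHomAdj E).homEquiv_naturality_left_symm s ê
    have h5 : ((ModSite.sheafHomAdj E).homEquiv D (ModSite.unit O)).symm ê = ev :=
      Equiv.symm_apply_apply _ _
    rw [h4, h5]
    exact (coord_comp ff s (ModSite.unit O) ev i).symm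
  rw [hcomp]
  exact h3.comp (h2.comp h1)

include ff in
/-- (L2): for `E` finite free and a perfect pairing, the canonical map is an isomorphism. -/
theorem isIso_cmap_of_ff {D : ModSite.Mod O}
    (ev : ((ModSite.tensorBi O).obj D).obj E ⟶ ModSite.unit O)
    (hperf : IsIso ((ModSite.sheafHomAdj E).homEquiv D (ModSite.unit O) ev)) (G : ModSite.Mod O) :
    IsIso (cmap G ev) := by
  obtain ⟨ffD, hffD⟩ := exists_ff_of_bijective (thetaOf ff ev) (bijective_thetaOf ff ev hperf)
  -- finite free structure on G ⊗ D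
  let ffGD : FF G ((tL O G).obj D) I := ffD.map (tL O G) (rU O G)
  have hπ : ∀ i, ffGD.π i = (tL O G).map (thetaOf ff ev i) ≫ (rU O G).hom := fun i => by
    show (tL O G).map (ffD.π i) ≫ (rU O G).hom = _
    rw [hffD]
  apply isIso_of_yoneda_map_bijective
  intro T
  have h2 : Function.Bijective
      ((ModSite.sheafHomAdj E).homEquiv T G).symm := Equiv.bijective _
  have h3 := (ffTL ff T).bijective_ι_comp G
  have hΨ := ffGD.bijective_comp_π T
  have hcomp : (fun (x : T ⟶ (tL O G).obj D) => (fun i => x ≫ ffGD.π i)) =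
      ((fun (x : (tL O T).obj E ⟶ G) => (fun i => (ffTL ff T).ι i ≫ x)) ∘
        ((ModSite.sheafHomAdj E).homEquiv T G).symm) ∘
          (fun (t : T ⟶ (tR O D).obj G) => t ≫ cmap G ev) := by
    funext t i
    show t ≫ ffGD.π i = (ffTL ff T).ι i ≫
      ((ModSite.sheafHomAdj E).homEquiv T G).symm (t ≫ cmap G ev)
    have h4 := (ModSite.sheafHomAdj E).homEquiv_naturality_left_symm t (cmap G ev)
    have h5 : ((ModSite.sheafHomAdj E).homEquiv ((tL O G).obj D) G).symm (cmap G ev) =
        cflat G ev := Equiv.symm_apply_apply _ _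
    rw [h4, h5, coord_comp ff t G (cflat G ev) i, hπ, ffTL_ι, Category.assoc]
    have h6 := cflat_unit G ev (ff.ι i) (thetaOf ff ev i) (rU_thetaOf ff ev i)
    have h7 : (rU O ((tL O G).obj D)).inv ≫ (tL O ((tL O G).obj D)).map (ff.ι i) ≫ cflat G ev =
        (tL O G).map (thetaOf ff ev i) ≫ (rU O G).hom :=
      (congrArg ((rU O ((tL O G).obj D)).inv ≫ ·) h6).trans (Iso.inv_hom_id_assoc _ _)
    exact congrArg (t ≫ ·) h7.symm
  rw [hcomp] at hΨ
  exact (Function.Bijective.of_comp_iff' (h3.comp h2) _).1 hΨ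

end L2

end Groth.Agent.Lib.Helper21.Dual
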