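import Mathlib
import Groth.Prelude.Def_ModSite
import Groth.Agent.Lib.Helper21RestrExact

set_option autoImplicit false
universe u
open CategoryTheory CategoryTheory.Limits Opposite

namespace Groth.Agent.Lib.Helper21.ModLocalIso

variable {C : Type u} [SmallCategory C] {J : GrothendieckTopology C} (O : Sheaf J CommRingCat.{u})

theorem eq_zero_of_isZero (M : ModSite.Mod O) (hM : IsZero M) (A : Cᵒᵖ) (x : M.val.obj A) :
    x = 0 := by
  have h : (𝟙 M : M ⟶ M) = 0 := hM.eq_of_src _ _
  have h2 := congrArg (fun φ : M ⟶ M => φ.val.app A x) h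
  exact h2

theorem isZero_of_forall_eq_zero (M : ModSite.Mod O) (h : ∀ (A : Cᵒᵖ) (x : M.val.obj A), x = 0) :
    IsZero M := by
  rw [IsZero.iff_id_eq_zero]
  apply SheafOfModules.hom_ext
  ext A x
  exact (h A _).trans (h A _).symm

theorem isZero_of_isZero_restr {I : Type*} (X : I → C) (hX : J.CoversTop X) (M : ModSite.Mod O)
    (h : ∀ i, IsZero ((ModSite.restr O (X i)).obj M)) : IsZero M := by
  refine isZero_of_forall_eq_zero O M fun A x => ?_
  have hsep : Presheaf.IsSeparated J M.val.presheaf := Presheaf.IsSheaf.isSeparated M.isSheaf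
  refine hsep A.unop _ (hX A.unop) x 0 ?_
  intro V f hf
  obtain ⟨i, ⟨g⟩⟩ := hf
  have h1 := eq_zero_of_isZero (O.over (X i)) _ (h i) (op (Over.mk g)) (M.val.map f.op x)
  rw [map_zero]
  exact h1

open Groth.Agent.Lib.Helper21.RestrExact

theorem isIso_of_isIso_restr {I : Type*} (X : I → C) (hX : J.CoversTop X) {A B : ModSite.Mod O}
    (φ : A ⟶ B) (h : ∀ i, IsIso ((ModSite.restr O (X i)).map φ)) : IsIso φ := by
  haveI : Mono φ := by
    have hz : IsZero (kernel φ) := by
      refine isZero_of_isZero_restr O X hX _ fun i => ?_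
      haveI := h i
      have e : (ModSite.restr O (X i)).obj (kernel φ) ≅ kernel ((ModSite.restr O (X i)).map φ) :=
        PreservesKernel.iso (ModSite.restr O (X i)) φ
      exact (isZero_kernel_of_mono _).of_iso e
    exact Preadditive.mono_of_isZero_kernel φ hz
  haveI : Epi φ := by
    have hz : IsZero (cokernel φ) := by
      refine isZero_of_isZero_restr O X hX _ fun i => ?_
      haveI := h i
      have e : (ModSite.restr O (X i)).obj (cokernel φ) ≅
          cokernel ((ModSite.restr O (X i)).map φ) :=
        PreservesCokernel.iso (ModSite.restr O (X i)) φ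
      exact (isZero_cokernel_of_epi _).of_iso e
    exact Preadditive.epi_of_isZero_cokernel φ hz
  exact isIso_of_mono_of_epi φ

end Groth.Agent.Lib.Helper21.ModLocalIso
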