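import Mathlib
import Groth.Prelude.Def_ModSite
import Groth.Agent.Lib.Helper21Dual6
import Groth.Agent.Lib.Helper21ModLocalIso

open CategoryTheory MonoidalCategory Opposite Limits

universe u

namespace Groth.Agent.Lib.Helper21.Dual

open Groth.Agent.Lib.Helper21.ModTensor Groth.Agent.Lib.Helper21.ModTensor2
  Groth.Agent.Lib.Helper21.ModTensor3 Groth.Agent.Lib.Helper21.ModTensor4
  Groth.Agent.Lib.Helper21.ModTensor5
  Groth.Agent.Lib.Helper21.ModTensor6 Groth.Agent.Lib.Helper21.ModRestr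
  Groth.Agent.Lib.Helper21.LocFact Groth.Agent.Lib.Helper21.RestrExact

attribute [local instance] Groth.Agent.Lib.Helper21.ExtShDelta.hasSheafHom

variable {C : Type u} [SmallCategory C] {J : GrothendieckTopology C} (O : Sheaf J CommRingCat.{u})

/-- restriction of a perfect pairing is perfect. -/
theorem isIso_adjunct_evRes (U : C) {D E : ModSite.Mod O}
    (ev : ((ModSite.tensorBi O).obj D).obj E ⟶ ModSite.unit O)
    (hperf : IsIso ((ModSite.sheafHomAdj E).homEquiv D (ModSite.unit O) ev)) :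
    IsIso ((ModSite.sheafHomAdj ((ModSite.restr O U).obj E)).homEquiv
      ((ModSite.restr O U).obj D) (ModSite.unit (O.over U)) (evRes O U (D := D) (E := E) ev)) := by
  set ê := (ModSite.sheafHomAdj E).homEquiv D (ModSite.unit O) ev with hê
  have h := adjunct_restr_comp O U E D (ModSite.unit O) ê
  have h5 : ((ModSite.sheafHomAdj E).homEquiv D (ModSite.unit O)).symm ê = ev :=
    Equiv.symm_apply_apply _ _
  rw [h5] at h
  have h6 : (ModSite.sheafHomAdj ((ModSite.restr O U).obj E)).homEquiv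
      ((ModSite.restr O U).obj D) (ModSite.unit (O.over U)) (evRes O U (D := D) (E := E) ev) =
      (ModSite.restr O U).map ê ≫ (restrSheafHomIso O U E).hom.app (ModSite.unit O) := by
    have := congrArg ((ModSite.sheafHomAdj ((ModSite.restr O U).obj E)).homEquiv
      ((ModSite.restr O U).obj D) (ModSite.unit (O.over U))) h
    exact this.symm.trans (Equiv.apply_symm_apply _ _)
  rw [h6]
  haveI h7 : IsIso ((ModSite.restr O U).map ê) := inferInstance
  haveI h8 : IsIso ((restrSheafHomIso O U E).hom.app (ModSite.unit O)) := inferInstance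
  exact IsIso.comp_isIso' h7 h8

/-- (L3): a perfect pairing with a locally finite free module induces isomorphisms
`G ⊗ D ≅ Hom(E, G)`. -/
theorem isIso_cmap_of_locally_ff {K : Type*} (X : K → C) (hX : J.CoversTop X)
    {D E : ModSite.Mod O} (ev : ((ModSite.tensorBi O).obj D).obj E ⟶ ModSite.unit O)
    (hperf : IsIso ((ModSite.sheafHomAdj E).homEquiv D (ModSite.unit O) ev))
    (hE : ∀ k, ∃ (I : Type) (_ : Fintype I),
      Nonempty (FF (ModSite.unit (O.over (X k))) ((ModSite.restr O (X k)).obj E) I))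
    (G : ModSite.Mod O) : IsIso (cmap G ev) := by
  refine Groth.Agent.Lib.Helper21.ModLocalIso.isIso_of_isIso_restr O X hX _ (fun k => ?_)
  obtain ⟨I, hI, ⟨ff⟩⟩ := hE k
  have h1 := cmap_restr O (X k) G ev
  haveI h2 : IsIso (cmap ((ModSite.restr O (X k)).obj G) (D := (ModSite.restr O (X k)).obj D)
      (E := (ModSite.restr O (X k)).obj E) (evRes O (X k) (D := D) (E := E) ev)) :=
    isIso_cmap_of_ff ff _ (isIso_adjunct_evRes O (X k) ev hperf) _
  have h3 : (ModSite.restr O (X k)).map (cmap G ev) =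
      ((μP O (X k) ((fgt O).obj G) ((fgt O).obj D)).hom ≫
        cmap ((ModSite.restr O (X k)).obj G) (D := (ModSite.restr O (X k)).obj D)
        (E := (ModSite.restr O (X k)).obj E) (evRes O (X k) (D := D) (E := E) ev)) ≫
      ((restrSheafHomIso O (X k) E).app G).inv := by
    refine (Iso.eq_comp_inv ((restrSheafHomIso O (X k) E).app G)).2 ?_
    exact h1
  rw [h3]
  haveI : IsIso ((μP O (X k) ((fgt O).obj G) ((fgt O).obj D)).hom ≫
        cmap ((ModSite.restr O (X k)).obj G) (D := (ModSite.restr O (X k)).obj D)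
        (E := (ModSite.restr O (X k)).obj E) (evRes O (X k) (D := D) (E := E) ev)) :=
    IsIso.comp_isIso' (Iso.isIso_hom _) h2
  exact IsIso.comp_isIso' this (Iso.isIso_inv _)

theorem m₀_nat {G₀ G₀' : PM O} (g₀ : G₀ ⟶ G₀') (D₀ E₀ : PM O) (e : D₀ ⊗ E₀ ⟶ 𝟙_ (PM O)) :
    ((g₀ ▷ D₀) ▷ E₀) ≫ m₀ O G₀' D₀ E₀ e = m₀ O G₀ D₀ E₀ e ≫ g₀ := by
  unfold m₀
  rw [associator_naturality_left_assoc, ← whisker_exchange_assoc, rightUnitor_naturality]
  simp only [Category.assoc]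

variable {O}

theorem cflat_nat {G G' : ModSite.Mod O} (g : G ⟶ G') {D E : ModSite.Mod O}
    (ev : ((ModSite.tensorBi O).obj D).obj E ⟶ ModSite.unit O) :
    (tR O E).map ((tR O D).map g) ≫ cflat G' ev = cflat G ev ≫ g := by
  set G₀ := (fgt O).obj G with hG₀
  set G₀' := (fgt O).obj G' with hG₀'
  set D₀ := (fgt O).obj D with hD₀
  set E₀ := (fgt O).obj E with hE₀
  haveI hj : IsIso ((shf O).map (eta O (G₀ ⊗ D₀) ▷ E₀)) := isIso_shf_map_eta_whiskerRight _ _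
  refine (cancel_epi ((shf O).map (eta O (G₀ ⊗ D₀) ▷ E₀))).1 ?_
  show (shf O).map (eta O (G₀ ⊗ D₀) ▷ E₀) ≫
      (shf O).map (aaMap O ((fgt O).map g ▷ D₀) ▷ E₀) ≫ cflatP G' D₀ E₀ (ev₀ ev) =
    (shf O).map (eta O (G₀ ⊗ D₀) ▷ E₀) ≫ cflatP G D₀ E₀ (ev₀ ev) ≫ g
  have h1 : (shf O).map (eta O (G₀ ⊗ D₀) ▷ E₀) ≫
      (shf O).map (aaMap O ((fgt O).map g ▷ D₀) ▷ E₀) =
      (shf O).map (((fgt O).map g ▷ D₀) ▷ E₀) ≫ (shf O).map (eta O (G₀' ⊗ D₀) ▷ E₀) := by
    rw [← Functor.map_comp, ← Functor.map_comp, ← comp_whiskerRight, ← comp_whiskerRight,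
      eta_nat]
  have h2 := shf_eta_cflatP G' D₀ E₀ (ev₀ ev)
  have h3 := shf_eta_cflatP G D₀ E₀ (ev₀ ev)
  have h4 := m₀_nat O ((fgt O).map g) D₀ E₀ (ev₀ ev)
  have h5 : (shf O).map ((fgt O).map g) ≫ (adj O).counit.app G' = (adj O).counit.app G ≫ g :=
    (adj O).counit.naturality g
  calc (shf O).map (eta O (G₀ ⊗ D₀) ▷ E₀) ≫
      (shf O).map (aaMap O ((fgt O).map g ▷ D₀) ▷ E₀) ≫ cflatP G' D₀ E₀ (ev₀ ev)
      = ((shf O).map (eta O (G₀ ⊗ D₀) ▷ E₀) ≫
      (shf O).map (aaMap O ((fgt O).map g ▷ D₀) ▷ E₀)) ≫ cflatP G' D₀ E₀ (ev₀ ev) :=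
        (Category.assoc _ _ _).symm
    _ = ((shf O).map (((fgt O).map g ▷ D₀) ▷ E₀) ≫ (shf O).map (eta O (G₀' ⊗ D₀) ▷ E₀)) ≫
        cflatP G' D₀ E₀ (ev₀ ev) := congrArg (· ≫ cflatP G' D₀ E₀ (ev₀ ev)) h1
    _ = (shf O).map (((fgt O).map g ▷ D₀) ▷ E₀) ≫ ((shf O).map (eta O (G₀' ⊗ D₀) ▷ E₀) ≫
        cflatP G' D₀ E₀ (ev₀ ev)) := Category.assoc _ _ _
    _ = (shf O).map (((fgt O).map g ▷ D₀) ▷ E₀) ≫ ((shf O).map (m₀ O G₀' D₀ E₀ (ev₀ ev)) ≫
        (adj O).counit.app G') := congrArg ((shf O).map (((fgt O).map g ▷ D₀) ▷ E₀) ≫ ·) h2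
    _ = (shf O).map ((((fgt O).map g ▷ D₀) ▷ E₀) ≫ m₀ O G₀' D₀ E₀ (ev₀ ev)) ≫
        (adj O).counit.app G' := by rw [Functor.map_comp, Category.assoc]
    _ = (shf O).map (m₀ O G₀ D₀ E₀ (ev₀ ev) ≫ (fgt O).map g) ≫ (adj O).counit.app G' := by
        rw [h4]
    _ = (shf O).map (m₀ O G₀ D₀ E₀ (ev₀ ev)) ≫ ((shf O).map ((fgt O).map g) ≫
        (adj O).counit.app G') := by rw [Functor.map_comp, Category.assoc]
    _ = (shf O).map (m₀ O G₀ D₀ E₀ (ev₀ ev)) ≫ ((adj O).counit.app G ≫ g) :=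
        congrArg ((shf O).map (m₀ O G₀ D₀ E₀ (ev₀ ev)) ≫ ·) h5
    _ = ((shf O).map (m₀ O G₀ D₀ E₀ (ev₀ ev)) ≫ (adj O).counit.app G) ≫ g :=
        (Category.assoc _ _ _).symm
    _ = ((shf O).map (eta O (G₀ ⊗ D₀) ▷ E₀) ≫ cflatP G D₀ E₀ (ev₀ ev)) ≫ g :=
        congrArg (· ≫ g) h3.symm
    _ = _ := Category.assoc _ _ _

theorem cmap_nat {G G' : ModSite.Mod O} (g : G ⟶ G') {D E : ModSite.Mod O}
    (ev : ((ModSite.tensorBi O).obj D).obj E ⟶ ModSite.unit O) :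
    (tR O D).map g ≫ cmap G' ev = cmap G ev ≫ (ModSite.sheafHom E).map g := by
  unfold cmap
  rw [← Adjunction.homEquiv_naturality_left, ← Adjunction.homEquiv_naturality_right]
  exact congrArg _ (cflat_nat g ev)

end Groth.Agent.Lib.Helper21.Dual
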