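import Mathlib
import Groth.Prelude.Def_ModSite
import Groth.Agent.Lib.Helper21Dual7

open CategoryTheory MonoidalCategory Opposite Limits

universe u

namespace Groth.Agent.Lib.Helper21.Dual

open Groth.Agent.Lib.Helper21.ModTensor Groth.Agent.Lib.Helper21.ModTensor2
  Groth.Agent.Lib.Helper21.ModTensor3 Groth.Agent.Lib.Helper21.ModTensor4
  Groth.Agent.Lib.Helper21.ModTensor5
  Groth.Agent.Lib.Helper21.ModTensor6 Groth.Agent.Lib.Helper21.ModRestr
  Groth.Agent.Lib.Helper21.LocFact Groth.Agent.Lib.Helper21.RestrExact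

attribute [local instance] Groth.Agent.Lib.Helper21.ExtShDelta.hasSheafHom

section ffgen

universe v' u' w

variable {A : Type u'} [Category.{v'} A] [Preadditive A]

/-- transport of a finite free structure along an isomorphism. -/
def ffOfIso {U Q Q' : A} {I : Type w} [Fintype I] (ff : FF U Q I) (e : Q ≅ Q') : FF U Q' I where
  ι i := ff.ι i ≫ e.hom
  π i := e.inv ≫ ff.π i
  ι_π_self i := by rw [Category.assoc, e.hom_inv_id_assoc, ff.ι_π_self]
  ι_π_ne i j h := by rw [Category.assoc, e.hom_inv_id_assoc, ff.ι_π_ne i j h]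
  sum := by
    have h : ∀ i, (e.inv ≫ ff.π i) ≫ ff.ι i ≫ e.hom = e.inv ≫ (ff.π i ≫ ff.ι i) ≫ e.hom := by
      intro i; simp only [Category.assoc]
    rw [Finset.sum_congr rfl (fun i _ => h i), ← Preadditive.comp_sum, ← Preadditive.sum_comp,
      ff.sum, Category.id_comp, e.inv_hom_id]

open Classical in
/-- the finite free structure of a finite coproduct of copies of `U`. -/
noncomputable def ffSigma (U : A) (I : Type w) [Fintype I] [HasCoproduct (fun _ : I => U)] :
    FF U (∐ fun _ : I => U) I where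
  ι i := Sigma.ι (fun _ : I => U) i
  π j := Sigma.desc (fun i => if i = j then 𝟙 U else 0)
  ι_π_self i := by rw [Sigma.ι_desc]; exact if_pos rfl
  ι_π_ne i j h := by rw [Sigma.ι_desc]; exact if_neg h
  sum := by
    apply Sigma.hom_ext
    intro k
    rw [Preadditive.comp_sum, Category.comp_id, Finset.sum_eq_single k]
    · rw [← Category.assoc, Sigma.ι_desc, if_pos rfl, Category.id_comp]
    · intro j _ hj
      rw [← Category.assoc, Sigma.ι_desc, if_neg (Ne.symm hj), zero_comp]
    · intro h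
      exact absurd (Finset.mem_univ k) h

end ffgen

variable {C : Type u} [SmallCategory C] {J : GrothendieckTopology C} {O : Sheaf J CommRingCat.{u}}

/-- `E` is locally finite free. -/
def IsLocFF (E : ModSite.Mod O) : Prop :=
  ∃ (K : Type u) (X : K → C), J.CoversTop X ∧ ∀ k, ∃ (I : Type) (_ : Fintype I),
      Nonempty (FF (ModSite.unit (O.over (X k))) ((ModSite.restr O (X k)).obj E) I)

/-- the dual `Hom(E, O)`. -/
noncomputable def dual (E : ModSite.Mod O) : ModSite.Mod O :=
  (ModSite.sheafHom E).obj (ModSite.unit O)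

/-- the evaluation pairing `Hom(E, O) ⊗ E ⟶ O`. -/
noncomputable def evStd (E : ModSite.Mod O) :
    ((ModSite.tensorBi O).obj (dual E)).obj E ⟶ ModSite.unit O :=
  (ModSite.sheafHomAdj E).counit.app (ModSite.unit O)

theorem adjunct_evStd (E : ModSite.Mod O) :
    (ModSite.sheafHomAdj E).homEquiv (dual E) (ModSite.unit O) (evStd E) = 𝟙 _ := by
  rw [Adjunction.homEquiv_unit]
  exact (ModSite.sheafHomAdj E).right_triangle_components _

theorem hperf_std (E : ModSite.Mod O) :
    IsIso ((ModSite.sheafHomAdj E).homEquiv (dual E) (ModSite.unit O) (evStd E)) := by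
  rw [adjunct_evStd]
  exact IsIso.id _

theorem isIso_cmap_std (E : ModSite.Mod O) (hE : IsLocFF E) (G : ModSite.Mod O) :
    IsIso (cmap G (evStd E)) := by
  obtain ⟨K, X, hX, h⟩ := hE
  exact isIso_cmap_of_locally_ff O X hX (evStd E) (hperf_std E) h G

/-- for a perfect pairing with `E` locally finite free: `- ⊗ D ≅ Hom(E, -)`. -/
noncomputable def cIsoOf {D E : ModSite.Mod O}
    (ev : ((ModSite.tensorBi O).obj D).obj E ⟶ ModSite.unit O)
    (hperf : IsIso ((ModSite.sheafHomAdj E).homEquiv D (ModSite.unit O) ev))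
    (hE : IsLocFF E) : tR O D ≅ ModSite.sheafHom E :=
  haveI : ∀ G, IsIso (cmap G ev) := fun G => by
    obtain ⟨K, X, hX, h⟩ := hE
    exact isIso_cmap_of_locally_ff O X hX ev hperf h G
  NatIso.ofComponents (fun G => asIso (cmap G ev)) (fun g => cmap_nat g ev)

/-- `- ⊗ E^∨ ≅ Hom(E, -)` for `E` locally finite free. -/
noncomputable def cIso (E : ModSite.Mod O) (hE : IsLocFF E) :
    tR O (dual E) ≅ ModSite.sheafHom E :=
  cIsoOf (evStd E) (hperf_std E) hE

/-- `- ⊗ E ⊣ - ⊗ D` for a perfect pairing. -/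
noncomputable def dualAdjOf {D E : ModSite.Mod O}
    (ev : ((ModSite.tensorBi O).obj D).obj E ⟶ ModSite.unit O)
    (hperf : IsIso ((ModSite.sheafHomAdj E).homEquiv D (ModSite.unit O) ev))
    (hE : IsLocFF E) : tR O E ⊣ tR O D :=
  (ModSite.sheafHomAdj E).ofNatIsoRight (cIsoOf ev hperf hE).symm

/-- `- ⊗ E ⊣ - ⊗ E^∨`. -/
noncomputable def dualAdj (E : ModSite.Mod O) (hE : IsLocFF E) : tR O E ⊣ tR O (dual E) :=
  dualAdjOf (evStd E) (hperf_std E) hE

theorem preservesFiniteLimits_tR_of {D E : ModSite.Mod O}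
    (ev : ((ModSite.tensorBi O).obj D).obj E ⟶ ModSite.unit O)
    (hperf : IsIso ((ModSite.sheafHomAdj E).homEquiv D (ModSite.unit O) ev))
    (hE : IsLocFF E) : PreservesFiniteLimits (tR O D) :=
  haveI : PreservesLimitsOfSize.{0, 0} (tR O D) :=
    (dualAdjOf ev hperf hE).rightAdjoint_preservesLimits
  PreservesLimitsOfSize.preservesFiniteLimits.{0, 0} _

theorem preservesFiniteLimits_tR_dual (E : ModSite.Mod O) (hE : IsLocFF E) :
    PreservesFiniteLimits (tR O (dual E)) :=
  preservesFiniteLimits_tR_of (evStd E) (hperf_std E) hE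

theorem isFlat_dual (E : ModSite.Mod O) (hE : IsLocFF E) : ModSite.IsFlat (dual E) :=
  (isFlat_iff O _).2 (preservesFiniteLimits_tR_dual E hE)

end Groth.Agent.Lib.Helper21.Dual
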