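import Mathlib
import Groth.Prelude.Def_ModSite
import Groth.Agent.Lib.Helper21Dual8

open CategoryTheory MonoidalCategory Opposite Limits

universe u

namespace Groth.Agent.Lib.Helper21.Dual

open Groth.Agent.Lib.Helper21.ModTensor Groth.Agent.Lib.Helper21.ModTensor2
  Groth.Agent.Lib.Helper21.ModTensor3 Groth.Agent.Lib.Helper21.ModTensor4
  Groth.Agent.Lib.Helper21.ModTensor5
  Groth.Agent.Lib.Helper21.ModTensor6 Groth.Agent.Lib.Helper21.ModRestr
  Groth.Agent.Lib.Helper21.LocFact Groth.Agent.Lib.Helper21.RestrExact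

attribute [local instance] Groth.Agent.Lib.Helper21.ExtShDelta.hasSheafHom

variable {C : Type u} [SmallCategory C] {J : GrothendieckTopology C} (O : Sheaf J CommRingCat.{u})
  (U : C)

theorem resTensorIso_braid (P Q : PM O) :
    (resTensorIso O U P Q).inv ≫ (resP O U).map (β_ P Q).hom =
      (β_ ((resP O U).obj P) ((resP O U).obj Q)).hom ≫ (resTensorIso O U Q P).inv := by
  ext A : 1
  apply ModuleCat.MonoidalCategory.tensor_ext
  intro m n
  rfl

theorem μP_braid (P Q : PM O) :
    (μP O U P Q).inv ≫ (ModSite.restr O U).map ((shf O).map (β_ P Q).hom) =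
      (shf (O.over U)).map (β_ ((resP O U).obj P) ((resP O U).obj Q)).hom ≫
        (μP O U Q P).inv := by
  have h1 := shfResIso_nat O U (β_ P Q).hom
  have h2 := resTensorIso_braid O U P Q
  have h3 : (shf (O.over U)).map (resTensorIso O U P Q).inv ≫
      (shf (O.over U)).map ((resP O U).map (β_ P Q).hom) =
      (shf (O.over U)).map (β_ ((resP O U).obj P) ((resP O U).obj Q)).hom ≫
        (shf (O.over U)).map (resTensorIso O U Q P).inv := by
    rw [← Functor.map_comp, ← Functor.map_comp, h2]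
  calc (μP O U P Q).inv ≫ (ModSite.restr O U).map ((shf O).map (β_ P Q).hom)
      = (shf (O.over U)).map (resTensorIso O U P Q).inv ≫ ((shfResIso O U (P ⊗ Q)).hom ≫
          (ModSite.restr O U).map ((shf O).map (β_ P Q).hom)) := Category.assoc _ _ _
    _ = (shf (O.over U)).map (resTensorIso O U P Q).inv ≫
          ((shf (O.over U)).map ((resP O U).map (β_ P Q).hom) ≫ (shfResIso O U (Q ⊗ P)).hom) :=
        congrArg ((shf (O.over U)).map (resTensorIso O U P Q).inv ≫ ·) h1.symm
    _ = ((shf (O.over U)).map (resTensorIso O U P Q).inv ≫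
          (shf (O.over U)).map ((resP O U).map (β_ P Q).hom)) ≫ (shfResIso O U (Q ⊗ P)).hom :=
        (Category.assoc _ _ _).symm
    _ = ((shf (O.over U)).map (β_ ((resP O U).obj P) ((resP O U).obj Q)).hom ≫
        (shf (O.over U)).map (resTensorIso O U Q P).inv) ≫ (shfResIso O U (Q ⊗ P)).hom :=
        congrArg (· ≫ (shfResIso O U (Q ⊗ P)).hom) h3
    _ = _ := Category.assoc _ _ _

variable {O}

/-- the swapped pairing. -/
noncomputable def evSw {D E : ModSite.Mod O}
    (ev : ((ModSite.tensorBi O).obj D).obj E ⟶ ModSite.unit O) :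
    ((ModSite.tensorBi O).obj E).obj D ⟶ ModSite.unit O :=
  (brdApp O E D).hom ≫ ev

variable (O)

theorem evRes_evSw {D E : ModSite.Mod O}
    (ev : ((ModSite.tensorBi O).obj D).obj E ⟶ ModSite.unit O) :
    evRes O U (D := E) (E := D) (evSw ev) =
      evSw (D := (ModSite.restr O U).obj D) (E := (ModSite.restr O U).obj E)
        (evRes O U (D := D) (E := E) ev) := by
  have h := μP_braid O U ((fgt O).obj E) ((fgt O).obj D)
  have h1 : (ModSite.restr O U).map ((brdApp O E D).hom ≫ ev) =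
      (ModSite.restr O U).map ((shf O).map (β_ ((fgt O).obj E) ((fgt O).obj D)).hom) ≫
        (ModSite.restr O U).map ev := (ModSite.restr O U).map_comp _ _
  calc (μP O U ((fgt O).obj E) ((fgt O).obj D)).inv ≫
        (ModSite.restr O U).map ((brdApp O E D).hom ≫ ev)
      = (μP O U ((fgt O).obj E) ((fgt O).obj D)).inv ≫
        ((ModSite.restr O U).map ((shf O).map (β_ ((fgt O).obj E) ((fgt O).obj D)).hom) ≫
        (ModSite.restr O U).map ev) :=
        congrArg ((μP O U ((fgt O).obj E) ((fgt O).obj D)).inv ≫ ·) h1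
    _ = ((μP O U ((fgt O).obj E) ((fgt O).obj D)).inv ≫
        (ModSite.restr O U).map ((shf O).map (β_ ((fgt O).obj E) ((fgt O).obj D)).hom)) ≫
        (ModSite.restr O U).map ev := (Category.assoc _ _ _).symm
    _ = ((shf (O.over U)).map (β_ ((resP O U).obj ((fgt O).obj E))
          ((resP O U).obj ((fgt O).obj D))).hom ≫
        (μP O U ((fgt O).obj D) ((fgt O).obj E)).inv) ≫ (ModSite.restr O U).map ev :=
        congrArg (· ≫ (ModSite.restr O U).map ev) h
    _ = _ := Category.assoc _ _ _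

variable {O}

/-! ### the free case -/

theorem brdApp_unit_rU :
    (brdApp O (ModSite.unit O) (ModSite.unit O)).hom ≫ (rU O (ModSite.unit O)).hom =
      (rU O (ModSite.unit O)).hom := by
  have h : (β_ (𝟙_ (PM O)) (𝟙_ (PM O))).hom ≫ (ρ_ (𝟙_ (PM O))).hom = (ρ_ (𝟙_ (PM O))).hom := by
    rw [braiding_rightUnitor, unitors_equal]
  have h' : (shf O).map (β_ (𝟙_ (PM O)) (𝟙_ (PM O))).hom ≫ (shf O).map (ρ_ (𝟙_ (PM O))).hom =
      (shf O).map (ρ_ (𝟙_ (PM O))).hom := by
    rw [← Functor.map_comp, h]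
  exact ((Category.assoc _ _ _).symm.trans
    (congrArg (· ≫ (adj O).counit.app (ModSite.unit O)) h'))

section free

variable {I : Type} [Fintype I] {D E : ModSite.Mod O} (ff : FF (ModSite.unit O) E I)
  (ffD : FF (ModSite.unit O) D I)
  (ev : ((ModSite.tensorBi O).obj D).obj E ⟶ ModSite.unit O)

theorem brdApp_nat_left {A A' : ModSite.Mod O} (f : A ⟶ A') (B : ModSite.Mod O) :
    (tR O B).map f ≫ (brdApp O A' B).hom = (brdApp O A B).hom ≫ (tL O B).map f :=
  brd_nat_left O ((fgt O).obj B) ((fgt O).map f)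

theorem brdApp_nat_right (A : ModSite.Mod O) {B B' : ModSite.Mod O} (g : B ⟶ B') :
    (tL O A).map g ≫ (brdApp O A B').hom = (brdApp O A B).hom ≫ (tR O A).map g :=
  brd_nat_right O ((fgt O).obj A) ((fgt O).map g)

theorem ι_thetaOf_evSw (hπ : ffD.π = thetaOf ff ev) (i j : I) :
    ff.ι j ≫ thetaOf ffD (evSw ev) i = ffD.ι i ≫ ffD.π j := by
  unfold thetaOf evSw
  rw [ffTL_ι]
  have ha := rU_inv_nat (ff.ι j)
  have hb := tensor_exchange O (ff.ι j) (ffD.ι i)
  have hc := brdApp_nat_left (ff.ι j) D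
  have hd := rU_thetaOf ff ev j
  have he := brdApp_nat_right (ModSite.unit O) (ffD.ι i)
  have hf := rU_nat O (ffD.ι i)
  have hg := brdApp_unit_rU (O := O)
  calc ff.ι j ≫ ((rU O E).inv ≫ (tL O E).map (ffD.ι i)) ≫ (brdApp O E D).hom ≫ ev
      = (ff.ι j ≫ (rU O E).inv) ≫ (tL O E).map (ffD.ι i) ≫ (brdApp O E D).hom ≫ ev := by
        simp only [Category.assoc]
    _ = ((rU O (ModSite.unit O)).inv ≫ (tR O (ModSite.unit O)).map (ff.ι j)) ≫
          (tL O E).map (ffD.ι i) ≫ (brdApp O E D).hom ≫ ev := by rw [ha]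
    _ = (rU O (ModSite.unit O)).inv ≫ ((tR O (ModSite.unit O)).map (ff.ι j) ≫
          (tL O E).map (ffD.ι i)) ≫ (brdApp O E D).hom ≫ ev := by
        simp only [Category.assoc]
    _ = (rU O (ModSite.unit O)).inv ≫ ((tL O (ModSite.unit O)).map (ffD.ι i) ≫
          (tR O D).map (ff.ι j)) ≫ (brdApp O E D).hom ≫ ev := by rw [hb]
    _ = (rU O (ModSite.unit O)).inv ≫ (tL O (ModSite.unit O)).map (ffD.ι i) ≫
          ((tR O D).map (ff.ι j) ≫ (brdApp O E D).hom) ≫ ev := by
        simp only [Category.assoc]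
    _ = (rU O (ModSite.unit O)).inv ≫ (tL O (ModSite.unit O)).map (ffD.ι i) ≫
          ((brdApp O (ModSite.unit O) D).hom ≫ (tL O D).map (ff.ι j)) ≫ ev := by rw [hc]
    _ = (rU O (ModSite.unit O)).inv ≫ (tL O (ModSite.unit O)).map (ffD.ι i) ≫
          (brdApp O (ModSite.unit O) D).hom ≫ ((tL O D).map (ff.ι j) ≫ ev) := by
        simp only [Category.assoc]
    _ = (rU O (ModSite.unit O)).inv ≫ (tL O (ModSite.unit O)).map (ffD.ι i) ≫
          (brdApp O (ModSite.unit O) D).hom ≫ ((rU O D).hom ≫ thetaOf ff ev j) := by rw [hd]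
    _ = (rU O (ModSite.unit O)).inv ≫ ((tL O (ModSite.unit O)).map (ffD.ι i) ≫
          (brdApp O (ModSite.unit O) D).hom) ≫ (rU O D).hom ≫ thetaOf ff ev j := by
        simp only [Category.assoc]
    _ = (rU O (ModSite.unit O)).inv ≫ ((brdApp O (ModSite.unit O) (ModSite.unit O)).hom ≫
          (tR O (ModSite.unit O)).map (ffD.ι i)) ≫ (rU O D).hom ≫ thetaOf ff ev j := by rw [he]
    _ = (rU O (ModSite.unit O)).inv ≫ (brdApp O (ModSite.unit O) (ModSite.unit O)).hom ≫
          ((tR O (ModSite.unit O)).map (ffD.ι i) ≫ (rU O D).hom) ≫ thetaOf ff ev j := by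
        simp only [Category.assoc]
    _ = (rU O (ModSite.unit O)).inv ≫ (brdApp O (ModSite.unit O) (ModSite.unit O)).hom ≫
          ((rU O (ModSite.unit O)).hom ≫ ffD.ι i) ≫ thetaOf ff ev j := by rw [hf]
    _ = (rU O (ModSite.unit O)).inv ≫ ((brdApp O (ModSite.unit O) (ModSite.unit O)).hom ≫
          (rU O (ModSite.unit O)).hom) ≫ ffD.ι i ≫ thetaOf ff ev j := by
        simp only [Category.assoc]
    _ = (rU O (ModSite.unit O)).inv ≫ (rU O (ModSite.unit O)).hom ≫ ffD.ι i ≫
          thetaOf ff ev j := by rw [hg]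
    _ = ffD.ι i ≫ thetaOf ff ev j := Iso.inv_hom_id_assoc _ _
    _ = _ := by rw [hπ]

open Classical in
theorem thetaOf_evSw (hπ : ffD.π = thetaOf ff ev) (i : I) :
    thetaOf ffD (evSw ev) i = ff.π i := by
  apply ff.hom_ext
  intro j
  rw [ι_thetaOf_evSw ff ffD ev hπ i j]
  by_cases h : i = j
  · subst h
    rw [ffD.ι_π_self, ff.ι_π_self]
  · rw [ffD.ι_π_ne i j h, ff.ι_π_ne j i (Ne.symm h)]

end free

/-- converse of `bijective_thetaOf`. -/
theorem isIso_adjunct_of_bijective_thetaOf {I : Type} [Fintype I] {D E : ModSite.Mod O}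
    (ff : FF (ModSite.unit O) E I)
    (ev : ((ModSite.tensorBi O).obj D).obj E ⟶ ModSite.unit O)
    (h : ∀ T : ModSite.Mod O,
      Function.Bijective (fun (s : T ⟶ D) => (fun i => s ≫ thetaOf ff ev i))) :
    IsIso ((ModSite.sheafHomAdj E).homEquiv D (ModSite.unit O) ev) := by
  set ê := (ModSite.sheafHomAdj E).homEquiv D (ModSite.unit O) ev with hê
  apply isIso_of_yoneda_map_bijective
  intro T
  have h2 : Function.Bijective
      ((ModSite.sheafHomAdj E).homEquiv T (ModSite.unit O)).symm := Equiv.bijective _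
  have h3 := (ffTL ff T).bijective_ι_comp (ModSite.unit O)
  have hcomp : (fun (s : T ⟶ D) => (fun i => s ≫ thetaOf ff ev i)) =
      ((fun (x : (tL O T).obj E ⟶ ModSite.unit O) => (fun i => (ffTL ff T).ι i ≫ x)) ∘
        ((ModSite.sheafHomAdj E).homEquiv T (ModSite.unit O)).symm) ∘
          (fun (s : T ⟶ D) => s ≫ ê) := by
    funext s i
    show s ≫ thetaOf ff ev i = (ffTL ff T).ι i ≫
      ((ModSite.sheafHomAdj E).homEquiv T (ModSite.unit O)).symm (s ≫ ê)
    have h4 := (ModSite.sheafHomAdj E).homEquiv_naturality_left_symm s ê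
    have h5 : ((ModSite.sheafHomAdj E).homEquiv D (ModSite.unit O)).symm ê = ev :=
      Equiv.symm_apply_apply _ _
    rw [h4, h5]
    exact (coord_comp ff s (ModSite.unit O) ev i).symm
  have hT := h T
  rw [hcomp] at hT
  exact (Function.Bijective.of_comp_iff' (h3.comp h2) _).1 hT

/-- free case: the swapped pairing of a perfect pairing is perfect. -/
theorem isIso_adjunct_evSw_of_ff {I : Type} [Fintype I] {D E : ModSite.Mod O}
    (ff : FF (ModSite.unit O) E I)
    (ev : ((ModSite.tensorBi O).obj D).obj E ⟶ ModSite.unit O)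
    (hperf : IsIso ((ModSite.sheafHomAdj E).homEquiv D (ModSite.unit O) ev)) :
    IsIso ((ModSite.sheafHomAdj D).homEquiv E (ModSite.unit O) (evSw ev)) := by
  obtain ⟨ffD, hffD⟩ := exists_ff_of_bijective (thetaOf ff ev) (bijective_thetaOf ff ev hperf)
  refine isIso_adjunct_of_bijective_thetaOf ffD (evSw ev) (fun T => ?_)
  have h : (fun (s : T ⟶ E) => (fun i => s ≫ thetaOf ffD (evSw ev) i)) =
      (fun (s : T ⟶ E) => (fun i => s ≫ ff.π i)) := by
    funext s i
    rw [thetaOf_evSw ff ffD ev hffD i]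
  rw [h]
  exact ff.bijective_comp_π T

end Groth.Agent.Lib.Helper21.Dual
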