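import Mathlib
import Groth.Prelude.Def_ModSite
import Groth.Agent.Lib.Helper21Dual11

open CategoryTheory MonoidalCategory Opposite Limits

universe u

namespace Groth.Agent.Lib.Helper21.Dual

open Groth.Agent.Lib.Helper21.ModTensor Groth.Agent.Lib.Helper21.ModTensor2
  Groth.Agent.Lib.Helper21.ModTensor3 Groth.Agent.Lib.Helper21.ModTensor4
  Groth.Agent.Lib.Helper21.ModTensor5
  Groth.Agent.Lib.Helper21.ModTensor6 Groth.Agent.Lib.Helper21.ModRestr
  Groth.Agent.Lib.Helper21.LocFact Groth.Agent.Lib.Helper21.RestrExact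

attribute [local instance] Groth.Agent.Lib.Helper21.ExtShDelta.hasSheafHom

variable {C : Type u} [SmallCategory C] {J : GrothendieckTopology C} {O : Sheaf J CommRingCat.{u}}

/-- the swapped pairing of a perfect pairing with a locally finite free module is perfect. -/
theorem isIso_adjunct_evSw {D E : ModSite.Mod O}
    (ev : ((ModSite.tensorBi O).obj D).obj E ⟶ ModSite.unit O)
    (hperf : IsIso ((ModSite.sheafHomAdj E).homEquiv D (ModSite.unit O) ev))
    (hE : IsLocFF E) :
    IsIso ((ModSite.sheafHomAdj D).homEquiv E (ModSite.unit O) (evSw ev)) := by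
  obtain ⟨K, X, hX, hloc⟩ := hE
  set ê' := (ModSite.sheafHomAdj D).homEquiv E (ModSite.unit O) (evSw ev) with hê'
  refine Groth.Agent.Lib.Helper21.ModLocalIso.isIso_of_isIso_restr O X hX ê' (fun k => ?_)
  obtain ⟨I, hI, ⟨ff⟩⟩ := hloc k
  have h := adjunct_restr_comp O (X k) D E (ModSite.unit O) ê'
  have h5 : ((ModSite.sheafHomAdj D).homEquiv E (ModSite.unit O)).symm ê' = evSw ev :=
    Equiv.symm_apply_apply _ _
  rw [h5] at h
  have h6 : (ModSite.sheafHomAdj ((ModSite.restr O (X k)).obj D)).homEquiv
      ((ModSite.restr O (X k)).obj E) (ModSite.unit (O.over (X k)))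
        (evSw (D := (ModSite.restr O (X k)).obj D) (E := (ModSite.restr O (X k)).obj E)
          (evRes O (X k) (D := D) (E := E) ev)) =
      (ModSite.restr O (X k)).map ê' ≫ (restrSheafHomIso O (X k) D).hom.app (ModSite.unit O) := by
    have h7 : ((ModSite.sheafHomAdj ((ModSite.restr O (X k)).obj D)).homEquiv _ _).symm
        ((ModSite.restr O (X k)).map ê' ≫
          (restrSheafHomIso O (X k) D).hom.app (ModSite.unit O)) =
        evSw (D := (ModSite.restr O (X k)).obj D) (E := (ModSite.restr O (X k)).obj E)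
          (evRes O (X k) (D := D) (E := E) ev) :=
      h.trans (evRes_evSw O (X k) (D := D) (E := E) ev)
    have := congrArg ((ModSite.sheafHomAdj ((ModSite.restr O (X k)).obj D)).homEquiv
      ((ModSite.restr O (X k)).obj E) (ModSite.unit (O.over (X k)))) h7
    exact this.symm.trans (Equiv.apply_symm_apply _ _)
  haveI h8 : IsIso ((ModSite.sheafHomAdj ((ModSite.restr O (X k)).obj D)).homEquiv
      ((ModSite.restr O (X k)).obj E) (ModSite.unit (O.over (X k)))
        (evSw (D := (ModSite.restr O (X k)).obj D) (E := (ModSite.restr O (X k)).obj E)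
          (evRes O (X k) (D := D) (E := E) ev))) :=
    isIso_adjunct_evSw_of_ff ff _ (isIso_adjunct_evRes O (X k) ev hperf)
  have h9 : (ModSite.restr O (X k)).map ê' =
      (ModSite.sheafHomAdj ((ModSite.restr O (X k)).obj D)).homEquiv
      ((ModSite.restr O (X k)).obj E) (ModSite.unit (O.over (X k)))
        (evSw (D := (ModSite.restr O (X k)).obj D) (E := (ModSite.restr O (X k)).obj E)
          (evRes O (X k) (D := D) (E := E) ev)) ≫
      ((restrSheafHomIso O (X k) D).app (ModSite.unit O)).inv := by
    refine (Iso.eq_comp_inv ((restrSheafHomIso O (X k) D).app (ModSite.unit O))).2 ?_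
    exact h6.symm
  rw [h9]
  exact IsIso.comp_isIso' h8 (Iso.isIso_inv _)

/-- the other side of a perfect pairing with a locally finite free module is locally finite
free. -/
theorem isLocFF_of_perfect {D E : ModSite.Mod O}
    (ev : ((ModSite.tensorBi O).obj D).obj E ⟶ ModSite.unit O)
    (hperf : IsIso ((ModSite.sheafHomAdj E).homEquiv D (ModSite.unit O) ev))
    (hE : IsLocFF E) : IsLocFF D := by
  obtain ⟨K, X, hX, hloc⟩ := hE
  refine ⟨K, X, hX, fun k => ?_⟩
  obtain ⟨I, hI, ⟨ff⟩⟩ := hloc k
  obtain ⟨ffD, -⟩ := exists_ff_of_bijective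
    (thetaOf ff (evRes O (X k) (D := D) (E := E) ev))
    (bijective_thetaOf ff (evRes O (X k) (D := D) (E := E) ev)
      (isIso_adjunct_evRes O (X k) ev hperf))
  exact ⟨I, hI, ⟨ffD⟩⟩

theorem isLocFF_dual (E : ModSite.Mod O) (hE : IsLocFF E) : IsLocFF (dual E) :=
  isLocFF_of_perfect (evStd E) (hperf_std E) hE

/-- `- ⊗ E ≅ Hom(E^∨, -)` for `E` locally finite free. -/
noncomputable def cIsoSw (E : ModSite.Mod O) (hE : IsLocFF E) :
    tR O E ≅ ModSite.sheafHom (dual E) :=
  cIsoOf (evSw (evStd E)) (isIso_adjunct_evSw (evStd E) (hperf_std E) hE) (isLocFF_dual E hE)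

/-- `- ⊗ E^∨ ⊣ - ⊗ E`. -/
noncomputable def dualAdjSw (E : ModSite.Mod O) (hE : IsLocFF E) : tR O (dual E) ⊣ tR O E :=
  dualAdjOf (evSw (evStd E)) (isIso_adjunct_evSw (evStd E) (hperf_std E) hE) (isLocFF_dual E hE)

theorem preservesFiniteLimits_tR_of_isLocFF (E : ModSite.Mod O) (hE : IsLocFF E) :
    PreservesFiniteLimits (tR O E) :=
  preservesFiniteLimits_tR_of (evSw (evStd E))
    (isIso_adjunct_evSw (evStd E) (hperf_std E) hE) (isLocFF_dual E hE)

theorem isFlat_of_isLocFF (E : ModSite.Mod O) (hE : IsLocFF E) : ModSite.IsFlat E :=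
  (isFlat_iff O _).2 (preservesFiniteLimits_tR_of_isLocFF E hE)

/-- `I ⊗ E` is injective for `I` injective and `E` locally finite free. -/
theorem injective_tR_obj (E : ModSite.Mod O) (hE : IsLocFF E) (I : ModSite.Mod O) [Injective I] :
    Injective ((tR O E).obj I) := by
  haveI : PreservesFiniteLimits (tR O (dual E)) := preservesFiniteLimits_tR_dual E hE
  haveI : (tR O (dual E)).PreservesMonomorphisms := inferInstance
  haveI : (tR O E).PreservesInjectiveObjects :=
    Functor.preservesInjectiveObjects_of_adjunction_of_preservesMonomorphisms (dualAdjSw E hE)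
  exact (tR O E).injective_obj I

/-- `E ⊗ I` is injective for `I` injective and `E` locally finite free. -/
theorem injective_tL_obj (E : ModSite.Mod O) (hE : IsLocFF E) (I : ModSite.Mod O) [Injective I] :
    Injective ((tL O E).obj I) := by
  have h : Injective (((ModSite.tensorBi O).obj I).obj E) := injective_tR_obj E hE I
  exact Injective.of_iso (brdApp O I E) h

/-- `- ⊗ E^∨` preserves injectives. -/
theorem preservesInjectiveObjects_tR_dual (E : ModSite.Mod O) (hE : IsLocFF E) :
    (tR O (dual E)).PreservesInjectiveObjects := by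
  haveI : PreservesFiniteLimits (tR O E) := preservesFiniteLimits_tR_of_isLocFF E hE
  haveI : (tR O E).PreservesMonomorphisms := inferInstance
  exact Functor.preservesInjectiveObjects_of_adjunction_of_preservesMonomorphisms (dualAdj E hE)

end Groth.Agent.Lib.Helper21.Dual
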