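import Mathlib
import Groth.Prelude.Def_FlatMod2
import Groth.Agent.Lib.Helper21ExtShDelta
import Groth.Agent.Lib.Helper23ModLocal
import Groth.Agent.S12887
import Groth.Agent.S0485

/-!
# Helper21: `ℰxt^{q+1}(L, G) = 0` for `L` finite locally free on a scheme
-/

set_option autoImplicit false

universe u

open CategoryTheory CategoryTheory.Limits Opposite AlgebraicGeometry

namespace Groth.Agent.Lib.Helper21.ExtShLocFree

open Groth.Agent.Lib.Helper21.ExtShDelta Groth.Agent.Lib.Helper23.ModLocal

attribute [local instance] hasSheafHom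

variable {X : Scheme.{u}}

/-- a trivialization of `L` on `U` gives one of `L.over U`. -/
noncomputable def overIsoFree (L : X.Modules) (U : X.Opens) (n : ℕ)
    (e : L.restrict U.ι ≅ FlatMod.freeMod (↑U) n) :
    (SheafOfModules.overFunctor X.ringCatSheaf U).obj L ≅
      ∐ fun _ : Fin n => SheafOfModules.unit.{u} (X.ringCatSheaf.over U) := by
  let Φ : SheafOfModules.{u} (X.ringCatSheaf.over U) ⥤ (↑U : Scheme.{u}).Modules :=
    (Scheme.Modules.overEquiv U).functor
  let i1 : Φ.obj ((SheafOfModules.overFunctor X.ringCatSheaf U).obj L) ≅ L.restrict U.ι :=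
    (Scheme.Modules.overFunctorEquiv U).app L
  let i3 : Φ.obj (∐ fun _ : Fin n => SheafOfModules.unit.{u} (X.ringCatSheaf.over U)) ≅
      ∐ fun _ : Fin n => Φ.obj (SheafOfModules.unit.{u} (X.ringCatSheaf.over U)) :=
    PreservesCoproduct.iso Φ _
  let i4 : (∐ fun _ : Fin n => Φ.obj (SheafOfModules.unit.{u} (X.ringCatSheaf.over U))) ≅
      FlatMod.freeMod (↑U) n :=
    Sigma.mapIso (fun _ => Iso.refl _)
  exact Φ.preimageIso (i1 ≪≫ e ≪≫ i4.symm ≪≫ i3.symm)

theorem isZero_restrict_of_isZero_over (K : X.Modules) (U : X.Opens)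
    (h : IsZero ((SheafOfModules.overFunctor X.ringCatSheaf U).obj K)) :
    IsZero (K.restrict U.ι) := by
  refine IsZero.of_iso ?_ ((Scheme.Modules.overFunctorEquiv U).app K).symm
  exact (Scheme.Modules.overEquiv U).functor.map_isZero h

/-- `ℰxt^{q+1}(L, G) = 0` for `L` finite locally free. -/
theorem isZero_extSh_of_isFinLocFree (L G : ModSite.Mod X.sheaf) (hL : FlatMod.IsFinLocFree L)
    [HasInjectiveResolutions (ModSite.Mod X.sheaf)] (q : ℕ) :
    IsZero (((ModSite.sheafHom (O := X.sheaf) L).rightDerived (q + 1)).obj G) := by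
  choose U n hxU he using hL
  refine isZero_of_isZero_restrict (fun x : X => (↑(U x) : Scheme.{u})) (fun x => (U x).ι)
    (fun x => ⟨x, ⟨x, hxU x⟩, rfl⟩) (fun x => ?_)
  apply isZero_restrict_of_isZero_over
  haveI : EnoughInjectives (ModSite.Mod (X.sheaf.over (U x))) :=
    Groth.Agent.S0485.result ((Opens.grothendieckTopology X).over (U x)) _
  obtain ⟨φ⟩ := Groth.Agent.S12887.result X.sheaf (U x) L (q + 1)
  refine IsZero.of_iso ?_ (φ.app G)
  exact isZero_extSh_free (O := X.sheaf.over (U x)) ((ModSite.restr X.sheaf (U x)).obj G)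
    ((ModSite.restr X.sheaf (U x)).obj L) (overIsoFree L (U x) (n x) (he x).some) q

end Groth.Agent.Lib.Helper21.ExtShLocFree
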