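import Mathlib
import Groth.Prelude.Def_ModSite
import Groth.Prelude.Def_FlatMod2
import Groth.Prelude.Def_CohB1
import Groth.Agent.Lib.Helper21Dual8
import Groth.Agent.Lib.Helper21ExtShLocFree

open CategoryTheory MonoidalCategory Opposite Limits AlgebraicGeometry

universe u

namespace Groth.Agent.Lib.Helper21.Dual

open Groth.Agent.Lib.Helper21.ModTensor Groth.Agent.Lib.Helper21.ModTensor2
  Groth.Agent.Lib.Helper21.ModTensor3 Groth.Agent.Lib.Helper21.ModTensor4
  Groth.Agent.Lib.Helper21.ModTensor5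
  Groth.Agent.Lib.Helper21.ModTensor6 Groth.Agent.Lib.Helper21.ModRestr
  Groth.Agent.Lib.Helper21.LocFact Groth.Agent.Lib.Helper21.RestrExact
  Groth.Agent.Lib.Helper21.ExtShLocFree

attribute [local instance] Groth.Agent.Lib.Helper21.ExtShDelta.hasSheafHom

variable {X : Scheme.{u}}

theorem coversTop_of_mem (U : X → X.Opens) (hxU : ∀ x, x ∈ U x) :
    (Opens.grothendieckTopology X).CoversTop U := by
  intro W
  rw [Opens.mem_grothendieckTopology]
  intro x hx
  refine ⟨W ⊓ U x, homOfLE inf_le_left, ⟨x, ⟨homOfLE inf_le_right⟩⟩, ⟨hx, hxU x⟩⟩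

theorem isLocFF_of_isFinLocFree (L : ModSite.Mod X.sheaf) (hL : FlatMod.IsFinLocFree L) :
    IsLocFF (O := X.sheaf) L := by
  choose U n hxU he using hL
  refine ⟨X, U, coversTop_of_mem U hxU, fun x => ⟨Fin (n x), inferInstance, ⟨?_⟩⟩⟩
  have e : (ModSite.restr X.sheaf (U x)).obj L ≅
      ∐ fun _ : Fin (n x) => ModSite.unit (X.sheaf.over (U x)) :=
    overIsoFree L (U x) (n x) (he x).some
  exact ffOfIso (ffSigma (ModSite.unit (X.sheaf.over (U x))) (Fin (n x))) e.symm

end Groth.Agent.Lib.Helper21.Dual
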