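import Mathlib
import Groth.Agent.Lib.Helper21Dual12
import Groth.Agent.Lib.Helper21Dual9

/-!
# Helper27: locally finite free (site version) ⇒ finite locally free (scheme version)
-/

set_option autoImplicit false
universe u
open CategoryTheory CategoryTheory.Limits Opposite AlgebraicGeometry

namespace Groth.Agent.Lib.Helper27LocFF

open Groth.Agent.Lib.Helper21.Dual Groth.Agent.Lib.Helper21.LocFact

attribute [local instance] Groth.Agent.Lib.Helper21.ExtShDelta.hasSheafHom

section FFiso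
universe v' u' w
variable {A : Type u'} [Category.{v'} A] [Preadditive A]

/-- a finite free structure gives an isomorphism with a coproduct. -/
noncomputable def isoOfFF {U Q : A} {I : Type w} [Fintype I] (ff : FF U Q I)
    [HasCoproduct (fun _ : I => U)] : Q ≅ ∐ fun _ : I => U where
  hom := ∑ i, ff.π i ≫ Sigma.ι (fun _ : I => U) i
  inv := Sigma.desc ff.ι
  hom_inv_id := by
    rw [Preadditive.sum_comp]
    have h : ∀ i, (ff.π i ≫ Sigma.ι (fun _ : I => U) i) ≫ Sigma.desc ff.ι = ff.π i ≫ ff.ι i := by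
      intro i
      rw [Category.assoc, Sigma.ι_desc]
    rw [Finset.sum_congr rfl (fun i _ => h i), ff.sum]
  inv_hom_id := by
    apply Sigma.hom_ext
    intro j
    rw [← Category.assoc, Sigma.ι_desc, Category.comp_id, Preadditive.comp_sum,
      Finset.sum_eq_single j]
    · rw [← Category.assoc, ff.ι_π_self, Category.id_comp]
    · intro i _ hi
      rw [← Category.assoc, ff.ι_π_ne j i (Ne.symm hi), zero_comp]
    · intro h
      exact absurd (Finset.mem_univ j) h

end FFiso

variable {X : Scheme.{u}}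

theorem exists_mem_of_coversTop {K : Type u} (U : K → X.Opens)
    (hU : (Opens.grothendieckTopology X).CoversTop U) (x : X) : ∃ k, x ∈ U k := by
  have h := hU ⊤
  rw [Opens.mem_grothendieckTopology] at h
  obtain ⟨V, f, ⟨k, ⟨g⟩⟩, hxV⟩ := h x trivial
  exact ⟨k, leOfHom g hxV⟩

/-- a trivialization of `L.over U` gives one of `L|_U`. -/
noncomputable def restrictIsoFree (L : X.Modules) (U : X.Opens) (n : ℕ)
    (e : (SheafOfModules.overFunctor X.ringCatSheaf U).obj L ≅
      ∐ fun _ : Fin n => SheafOfModules.unit.{u} (X.ringCatSheaf.over U)) :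
    L.restrict U.ι ≅ FlatMod.freeMod (↑U) n := by
  let Φ : SheafOfModules.{u} (X.ringCatSheaf.over U) ⥤ (↑U : Scheme.{u}).Modules :=
    (Scheme.Modules.overEquiv U).functor
  let i1 : Φ.obj ((SheafOfModules.overFunctor X.ringCatSheaf U).obj L) ≅ L.restrict U.ι :=
    (Scheme.Modules.overFunctorEquiv U).app L
  let i3 : Φ.obj (∐ fun _ : Fin n => SheafOfModules.unit.{u} (X.ringCatSheaf.over U)) ≅
      ∐ fun _ : Fin n => Φ.obj (SheafOfModules.unit.{u} (X.ringCatSheaf.over U)) :=
    PreservesCoproduct.iso Φ _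
  let i4 : (∐ fun _ : Fin n => Φ.obj (SheafOfModules.unit.{u} (X.ringCatSheaf.over U))) ≅
      FlatMod.freeMod (↑U) n :=
    Sigma.mapIso (fun _ => Iso.refl _)
  exact i1.symm ≪≫ Φ.mapIso e ≪≫ i3 ≪≫ i4

theorem isFinLocFree_of_isLocFF (L : ModSite.Mod X.sheaf) (hL : IsLocFF (O := X.sheaf) L) :
    FlatMod.IsFinLocFree L := by
  obtain ⟨K, U, hU, h⟩ := hL
  intro x
  obtain ⟨k, hxk⟩ := exists_mem_of_coversTop U hU x
  obtain ⟨I, hI, ⟨ff⟩⟩ := h k
  refine ⟨U k, Fintype.card I, hxk, ⟨?_⟩⟩
  let e0 : (ModSite.restr X.sheaf (U k)).obj L ≅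
      ∐ fun _ : I => ModSite.unit (X.sheaf.over (U k)) := isoOfFF ff
  let e1 : (∐ fun _ : I => ModSite.unit (X.sheaf.over (U k))) ≅
      ∐ fun _ : Fin (Fintype.card I) => ModSite.unit (X.sheaf.over (U k)) :=
    Sigma.whiskerEquiv (f := fun _ : I => ModSite.unit (X.sheaf.over (U k)))
      (g := fun _ : Fin (Fintype.card I) => ModSite.unit (X.sheaf.over (U k)))
      (Fintype.equivFin I) (fun _ => Iso.refl _)
  exact restrictIsoFree L (U k) (Fintype.card I) (e0 ≪≫ e1)

theorem isFinLocFree_dual (E : X.Modules) (hE : FlatMod.IsFinLocFree E) :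
    FlatMod.IsFinLocFree (dual (O := X.sheaf) E) :=
  isFinLocFree_of_isLocFF _ (isLocFF_dual E (isLocFF_of_isFinLocFree E hE))

end Groth.Agent.Lib.Helper27LocFF
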