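import Mathlib
import Groth.Prelude.Def_Formal
import Groth.Agent.Lib.Helper17FFaith2
import Groth.Agent.Lib.Helper21HomI3
import Groth.Agent.Lib.Helper17FFaith3a
import Groth.Agent.Lib.Helper21Dual12
import Groth.Agent.Lib.Helper21Dual9
import Groth.Agent.Lib.Helper27LocFF
import Groth.Agent.Lib.Helper1FLF1
import Groth.Agent.Lib.Helper18PBUnit2

/-!
# Helper17: full faithfulness of completion, the locally free case

* `tensorHomAdj M : - ⊗ M ⊣ ℋom(M, -)` (from helper21's `tensorEquiv`, `curryEquiv`);
* for `E` finite locally free, `ℋom(E, -) ≅ - ⊗ E^∨` preserves colimits, hence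
  `ℋom(E, N)/I^n ≅ ℋom(E, N/I^n N)`;
* `ℋom(E, E')` is finite locally free.
-/

set_option autoImplicit false
universe u
open CategoryTheory CategoryTheory.Limits AlgebraicGeometry TopologicalSpace Opposite

namespace Groth.Agent.Lib.Helper17.FFaith

open Groth.Agent.Lib.Helper21.HomI Groth.Agent.Lib.Helper21.HomU
  Groth.Agent.Lib.Helper17.FlatDev Groth.Agent.Lib.Helper21.ModTensor3
  Groth.Agent.Lib.Helper21.Dual

noncomputable section

variable {X : Scheme.{u}}

/-- the adjunction `- ⊗ M ⊣ ℋom(M, -)`. -/
def tensorHomAdj (M : X.Modules) : tR X.sheaf M ⊣ sHomF M :=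
  tensorHomAdjSite (O := X.sheaf) M

instance (M : X.Modules) : (sHomF M).PreservesZeroMorphisms where
  map_zero N N' := sHomMap_zero M N N'

/-- `ℋom(E, -) ≅ - ⊗ E^∨` for `E` finite locally free. -/
def sHomFIso (E : X.Modules) (hE : FlatMod.IsFinLocFree E) :
    sHomF E ≅ tR X.sheaf (dual (O := X.sheaf) E) :=
  (tensorHomAdj E).rightAdjointUniq (dualAdj (O := X.sheaf) E (isLocFF_of_isFinLocFree E hE))

theorem preservesColimits_sHomF (E : X.Modules) (hE : FlatMod.IsFinLocFree E) :
    PreservesColimitsOfSize.{u, u} (sHomF E) := by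
  have h1 : PreservesColimitsOfSize.{u, u}
      (tR X.sheaf (dual (O := X.sheaf) E) : ModSite.Mod X.sheaf ⥤ ModSite.Mod X.sheaf) :=
    tR_preservesColimits X.sheaf _
  exact @preservesColimits_of_natIso _ _ _ _ _ _ (sHomFIso E hE).symm h1

/-! ### colimit preserving functors commuting with multiplications commute with `- / J` -/

section general

variable {A : Type u} [CommRing A] [X.Over (Spec (CommRingCat.of A))]

theorem isIso_cokernelDesc_of_preserves (G : X.Modules ⥤ X.Modules) [G.PreservesZeroMorphisms]
    (J : Ideal A) (N : X.Modules)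
    [PreservesColimit (parallelPair (Formal.smulFamily J N) 0) G]
    [PreservesColimit (Discrete.functor fun _ : J => N) G]
    (hG : ∀ a : A, G.map (Formal.smulMod A N a) = Formal.smulMod A (G.obj N) a)
    (w : Formal.smulFamily J (G.obj N) ≫ G.map (cokernel.π (Formal.smulFamily J N)) = 0) :
    IsIso (cokernel.desc (Formal.smulFamily J (G.obj N))
      (G.map (cokernel.π (Formal.smulFamily J N))) w) := by
  have hfam : Formal.smulFamily J (G.obj N) =
      sigmaComparison G (fun _ : J => N) ≫ G.map (Formal.smulFamily J N) := by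
    unfold Formal.smulFamily
    rw [sigmaComparison_map_desc]
    congr 1
    funext a
    exact (hG a).symm
  have hc1 := isColimitCoforkMapOfIsColimit' G (cokernel.condition (Formal.smulFamily J N))
    (cokernelIsCokernel (Formal.smulFamily J N))
  have hc2 := isCokernelEpiComp hc1 (sigmaComparison G (fun _ : J => N)) hfam
  let e := (cokernelIsCokernel (Formal.smulFamily J (G.obj N))).coconePointUniqueUpToIso hc2
  have he : e.hom = cokernel.desc (Formal.smulFamily J (G.obj N))
      (G.map (cokernel.π (Formal.smulFamily J N))) w := by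
    apply coequalizer.hom_ext
    rw [cokernel.π_desc]
    exact (cokernelIsCokernel (Formal.smulFamily J (G.obj N))).comp_coconePointUniqueUpToIso_hom
      hc2 WalkingParallelPair.one
  rw [← he]
  infer_instance

variable (I : Ideal A)

theorem sHomMap_smulMod (M N : X.Modules) (a : A) :
    sHomMap M (Formal.smulMod A N a) = Formal.smulMod A (sHom M N) a := by
  have h := smulMod_sHomMap (A := A) M a (𝟙 N)
  rw [sHomMap_id, Category.comp_id, Category.comp_id] at h
  exact h.symm

theorem isIso_θ (E : X.Modules) (hE : FlatMod.IsFinLocFree E) (N : X.Modules) (n : ℕ) :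
    IsIso (θ I E N n) := by
  haveI := preservesColimits_sHomF E hE
  exact isIso_cokernelDesc_of_preserves (sHomF E) (I ^ n) N
    (fun a => sHomMap_smulMod E N a) _

theorem compIso_of_isIso (M N : X.Modules) (h : ∀ n, IsIso (θ I M N n)) : CompIso I M N := by
  intro s hs
  have hinv : ∀ n (y : Gs (sHom M (Formal.modPow I n N))),
      gmap (θ I M N n) (gmap (inv (θ I M N n)) y) = y := by
    intro n y
    change gmap (inv (θ I M N n) ≫ θ I M N n) y = y
    rw [IsIso.inv_hom_id]
    rfl
  have hinj : ∀ n, Function.Injective (gmap (θ I M N n)) := by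
    intro n x y hxy
    have h1 : gmap (θ I M N n ≫ inv (θ I M N n)) x = gmap (θ I M N n ≫ inv (θ I M N n)) y :=
      congrArg (gmap (inv (θ I M N n))) hxy
    rw [IsIso.hom_inv_id] at h1
    exact h1
  have htr : ∀ n (t : Gs (Formal.modPow I (n + 1) (sHom M N))),
      gmap (θ I M N n) (gmap (Formal.modPowTrans I n (sHom M N)) t) =
        gmap (sHomMap M (Formal.modPowTrans I n N)) (gmap (θ I M N (n + 1)) t) := by
    intro n t
    change gmap (Formal.modPowTrans I n (sHom M N) ≫ θ I M N n) t =
      gmap (θ I M N (n + 1) ≫ sHomMap M (Formal.modPowTrans I n N)) t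
    rw [θ_trans]
  refine ⟨fun n => gmap (inv (θ I M N (n + 1))) (s n), ⟨fun n => ?_, fun n => hinv _ _⟩, ?_⟩
  · apply hinj (n + 1)
    rw [htr, hinv, hinv, hs]
  · rintro t' ⟨-, ht'2⟩
    funext n
    apply hinj (n + 1)
    rw [ht'2 n, hinv]

end general

/-- `ℋom(E, E')` is finite locally free for `E`, `E'` finite locally free. -/
theorem isFinLocFree_sHom (E E' : X.Modules) (hE : FlatMod.IsFinLocFree E)
    (hE' : FlatMod.IsFinLocFree E') : FlatMod.IsFinLocFree (sHom E E') := by
  have h1 : FlatMod.IsFinLocFree (((DCoh.tensorBi (X := X)).obj E').obj (dual (O := X.sheaf) E)) :=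
    Groth.Agent.Lib.Helper1.FLF.isFinLocFree_tensor E' _ hE'
      (Groth.Agent.Lib.Helper27LocFF.isFinLocFree_dual E hE)
  exact Groth.Agent.Helper18PBUnit.isFinLocFree_of_iso ((sHomFIso E hE).app E').symm h1

end

end Groth.Agent.Lib.Helper17.FFaith
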