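import Mathlib
import Groth.Prelude.Def_Formal
import Groth.Prelude.Def_DCoh4
import Groth.Agent.Lib.Helper17FFaith3a
import Groth.Agent.Lib.Helper17FFaith5
import Groth.Agent.Lib.Helper21ModTensor5
import Groth.Agent.Lib.Helper4DevD

/-!
# Helper17: the prelude's `DCoh.sheafHom F` (right adjoint of `F ⊗ -`) is the explicit internal Hom
-/

set_option autoImplicit false
universe u
open CategoryTheory CategoryTheory.Limits AlgebraicGeometry TopologicalSpace Opposite

namespace Groth.Agent.Lib.Helper17.FFaith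

open Groth.Agent.Lib.Helper21.HomI Groth.Agent.Lib.Helper21.HomU
  Groth.Agent.Lib.Helper21.ModTensor3 Groth.Agent.Lib.Helper21.ModTensor5

noncomputable section

variable {X : Scheme.{u}}

/-- the adjunction `F ⊗ - ⊣ ℋom(F, -)`. -/
def tensorLHomAdj (F : X.Modules) : (ModSite.tensorBi X.sheaf).obj F ⊣ iHomF (O := X.sheaf) F :=
  (tensorHomAdjSite (O := X.sheaf) F).ofNatIsoLeft ((brd X.sheaf).app F).symm

/-- the prelude's internal Hom is the explicit one. -/
def dcohSheafHomIso (F : X.Modules) [DCoh.HasSheafHom F] (G : X.Modules) :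
    (DCoh.sheafHom F).obj G ≅ sHom F G :=
  ((DCoh.sheafHomAdj F).rightAdjointUniq (tensorLHomAdj F)).app G

theorem isCoh_dcohSheafHom [IsLocallyNoetherian X] (F G : X.Modules) (hF : Coh.IsCoh F)
    (hG : Coh.IsCoh G) [DCoh.HasSheafHom F] : Coh.IsCoh ((DCoh.sheafHom F).obj G) :=
  Groth.Agent.Lib.Helper4.Dev.isCoh_of_iso (dcohSheafHomIso F G).symm (isCoh_sHom F G hF hG)

end

end Groth.Agent.Lib.Helper17.FFaith
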