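import Mathlib
import Groth.Prelude.Def_Formal
import Groth.Agent.Lib.Helper17FFaith6
import Groth.Agent.Lib.Helper1PT3

set_option autoImplicit false
universe u
open CategoryTheory CategoryTheory.Limits AlgebraicGeometry TopologicalSpace Opposite

namespace Groth.Agent.Lib.Helper17.HomLift

open Groth.Agent.Lib.Helper17.FFaith Groth.Agent.Lib.Helper1.PT
  Groth.Agent.Lib.Helper21.HomI Groth.Agent.Lib.Helper21.HomU

noncomputable section

variable {Z X : Scheme.{u}} (j : Z ⟶ X) (F : X.Modules)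

/-- `j^*(F ⊗ T) ≅ j^*F ⊗ j^*T`, naturally in `T`. -/
def deltaIso : DCoh.tensorBi.obj F ⋙ plb j ≅ plb j ⋙ DCoh.tensorBi.obj ((plb j).obj F) :=
  NatIso.ofComponents (fun T => @asIso _ _ _ _ (delta j F T) (isIso_delta j F T))
    (fun φ => delta_naturality_right j F φ)

/-- `ℋom(F, j_* N) ≅ j_* ℋom(j^* F, N)`, naturally in `N`. -/
def pushSHomIso : psh j ⋙ sHomF F ≅ sHomF ((plb j).obj F) ⋙ psh j :=
  (((tensorLHomAdj F).comp (ppAdj j)).ofNatIsoLeft (deltaIso j F)).rightAdjointUniq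
    ((ppAdj j).comp (tensorLHomAdj ((plb j).obj F)))

end
end Groth.Agent.Lib.Helper17.HomLift
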