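import Mathlib
import Groth.Prelude.Def_Formal
import Groth.Agent.Lib.Helper17HomLift1
import Groth.Agent.Lib.Helper17FFaith11
import Groth.Agent.Lib.Helper17FFaith3
import Groth.Agent.Lib.Helper17FlatDev3
import Groth.Agent.Lib.Helper17FlatDev4
import Groth.Agent.Lib.Helper17FFun

set_option autoImplicit false
universe u
open CategoryTheory CategoryTheory.Limits AlgebraicGeometry TopologicalSpace Opposite

namespace Groth.Agent.Lib.Helper17.HomLift

open Groth.Agent.Lib.Helper17.FFaith Groth.Agent.Lib.Helper1.PT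
  Groth.Agent.Lib.Helper21.HomI Groth.Agent.Lib.Helper21.HomU
  Groth.Agent.Lib.Helper17.FlatDev Groth.Agent.Lib.Helper17.HHLes

noncomputable section

section surj

variable {A : Type u} [CommRing A] [IsNoetherianRing A] [IsLocalRing A]
  {X : Scheme.{u}} [X.Over (Spec (CommRingCat.of A))]
  [IsProper (X ↘ Spec (CommRingCat.of A))]

local notation "𝔪" => IsLocalRing.maximalIdeal A

/-- S4462 with the hypothesis on `M/𝔪M` instead of the fibre. -/
theorem surjective_toHHmodPow_of_HH_Q (F : X.Modules) (hF : Coh.IsCoh F)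
    (hfl : FlatMod.IsFlatOver (X ↘ Spec (CommRingCat.of A)) F) (n : ℕ)
    (h1 : Subsingleton (Coh.HH X (Q 𝔪 F) (n + 1))) (p : ℕ) :
    Function.Surjective (Formal.toHHmodPow 𝔪 F n p) := by
  haveI : Coh.IsQCoh F := hF.1
  obtain ⟨c, hc⟩ := Groth.Agent.Lib.Helper17.FFun.range_modPowLE 𝔪 F hF n
  intro zt
  have hle : p ≤ p + c := Nat.le_add_right p c
  have hsur := Groth.Agent.Lib.Helper17.FlatDev.surjective_Hm_Qmap F hfl n h1
    (𝔪 ^ (p + 1)) (𝔪 ^ (p + c + 1))
    (Ideal.pow_le_pow_right (Nat.succ_le_succ hle))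
    ⟨c, by rw [← pow_add]; exact Ideal.pow_le_pow_right (by omega)⟩
  obtain ⟨x, hx⟩ := hsur zt
  obtain ⟨w, hw⟩ := hc p (p + c) hle le_rfl x
  exact ⟨w, hw.trans hx⟩

end surj

section thetaJ

variable {A : Type u} [CommRing A] {X : Scheme.{u}} [X.Over (Spec (CommRingCat.of A))]
  (J : Ideal A) (M N : X.Modules)

/-- the comparison `ℋ/Jℋ ⟶ ℋom(M, N/JN)`, `ℋ = ℋom(M, N)`. -/
def θJ : Q J (sHom M N) ⟶ sHom M (Q J N) :=
  cokernel.desc _ (sHomMap M (πQ J N)) (by
    apply Sigma.hom_ext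
    intro a
    rw [comp_zero, ← Category.assoc, ι_smulFamily, smulMod_sHomMap]
    have h0 : Formal.smulMod A N (a : A) ≫ πQ J N = 0 := smulMod_πQ J N (a : A) a.2
    rw [h0, sHomMap_zero])

theorem πQ_θJ : πQ J (sHom M N) ≫ θJ J M N = sHomMap M (πQ J N) :=
  cokernel.π_desc _ _ _

theorem isIso_θJ (hM : FlatMod.IsFinLocFree M) : IsIso (θJ J M N) := by
  haveI := preservesColimits_sHomF M hM
  exact isIso_cokernelDesc_of_preserves (sHomF M) J N
    (fun a => sHomMap_smulMod M N a) _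

end thetaJ

section van

variable {A B : Type u} [CommRing A] [CommRing B] (φ : A →+* B)
  {X Z : Scheme.{u}} [X.Over (Spec (CommRingCat.of A))] (j : Z ⟶ X)
  (z : Z ⟶ Spec (CommRingCat.of B))
  (hsq : IsPullback j z (X ↘ Spec (CommRingCat.of A)) (Spec.map (CommRingCat.ofHom φ)))
  (F G : X.Modules) [G.IsQuasicoherent] (hφ : Function.Surjective φ)

/-- `ℋom(F,G)/(ker φ) ≅ j_* ℋom(j^*F, j^*G)` for `F` finite locally free. -/
def quotSHomIso (hF : FlatMod.IsFinLocFree F) :
    Q (RingHom.ker φ) (sHom F G) ≅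
      (psh j).obj (sHom ((plb j).obj F) ((plb j).obj G)) :=
  haveI := isIso_θJ (RingHom.ker φ) F G hF
  asIso (θJ (RingHom.ker φ) F G) ≪≫ (sHomF F).mapIso (quotIso φ j z hsq G hφ) ≪≫
    (pushSHomIso j F).app ((plb j).obj G)

include hsq hφ in
theorem subsingleton_HH_Q_sHom (hF : FlatMod.IsFinLocFree F) (q : ℕ)
    (h : Subsingleton (Coh.HH Z (sHom ((plb j).obj F) ((plb j).obj G)) q)) :
    Subsingleton (Coh.HH X (Q (RingHom.ker φ) (sHom F G)) q) := by
  haveI := isClosedImmersion_of_surjective φ j z hsq hφ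
  have h1 := Groth.Agent.Lib.Helper17.FinClosed.subsingleton_HH_push_of_closedImmersion j
    (sHom ((plb j).obj F) ((plb j).obj G)) q h
  exact subsingleton_HH_of_iso' (quotSHomIso φ j z hsq F G hφ hF).symm q h1

end van

end
end Groth.Agent.Lib.Helper17.HomLift
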