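import Mathlib
import Groth.Prelude.Def_Formal
import Groth.Agent.Lib.Helper17HomLift2

set_option autoImplicit false
universe u
open CategoryTheory CategoryTheory.Limits AlgebraicGeometry TopologicalSpace Opposite

namespace Groth.Agent.Lib.Helper17.HomLift

open Groth.Agent.Lib.Helper17.FFaith Groth.Agent.Lib.Helper1.PT
  Groth.Agent.Lib.Helper21.HomI Groth.Agent.Lib.Helper21.HomU
  Groth.Agent.Lib.Helper17.FlatDev Groth.Agent.Lib.Helper17.HHLes

noncomputable section

section lift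

variable {A : Type u} [CommRing A] {X : Scheme.{u}} [X.Over (Spec (CommRingCat.of A))]
  (I : Ideal A) (F G : X.Modules)

/-- surjectivity of `H⁰(ℋ) → H⁰(ℋ/I^{n+1}ℋ)` lifts morphisms `F ⟶ G/I^{n+1}G`, for `F` finite locally
free. -/
theorem exists_lift_of_surjective (hF : FlatMod.IsFinLocFree F) (n : ℕ)
    (hs : Function.Surjective (Formal.toHHmodPow I (sHom F G) 0 n))
    (g : F ⟶ Formal.modPow I (n + 1) G) :
    ∃ u : F ⟶ G, u ≫ Formal.modPowπ I (n + 1) G = g := by
  haveI := isIso_θ I F hF G (n + 1)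
  let s : Gs (sHom F (Formal.modPow I (n + 1) G)) := secIn ⊤ (famOfHom g ⊤)
  let t : Gs (Formal.modPow I (n + 1) (sHom F G)) := gmap (inv (θ I F G (n + 1))) s
  obtain ⟨y, hy⟩ := hs (gz _ t)
  let h : Gs (sHom F G) := (gz (sHom F G)).symm y
  have hh : gmap (Formal.modPowπ I (n + 1) (sHom F G)) h = t := by
    apply (gz _).injective
    rw [← gz_naturality, AddEquiv.apply_symm_apply]
    exact hy
  have key : gmap (θ I F G (n + 1)) (gmap (Formal.modPowπ I (n + 1) (sHom F G)) h) =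
      secIn ⊤ ((secOut ⊤ h).postcomp (Formal.modPowπ I (n + 1) G)) := by
    change gmap (Formal.modPowπ I (n + 1) (sHom F G) ≫ θ I F G (n + 1)) h = _
    rw [modPowπ_θ]
    rfl
  have h2 : gmap (θ I F G (n + 1)) t = s := by
    change gmap (inv (θ I F G (n + 1)) ≫ θ I F G (n + 1)) s = s
    rw [IsIso.inv_hom_id]
    rfl
  rw [hh, h2] at key
  have h3 : famOfHom g ⊤ = (secOut ⊤ h).postcomp (Formal.modPowπ I (n + 1) G) := key
  refine ⟨homOfFam (secOut ⊤ h), ?_⟩
  rw [← homOfFam_postcomp, ← h3, homOfFam_famOfHom]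

end lift

section partA

variable {A B : Type u} [CommRing A] [IsNoetherianRing A] [IsLocalRing A] [CommRing B]
  (φ : A →+* B)
  {X Z : Scheme.{u}} [X.Over (Spec (CommRingCat.of A))]
  [IsProper (X ↘ Spec (CommRingCat.of A))]
  (j : Z ⟶ X) (z : Z ⟶ Spec (CommRingCat.of B))
  (hsq : IsPullback j z (X ↘ Spec (CommRingCat.of A)) (Spec.map (CommRingCat.ofHom φ)))
  (hφ : Function.Surjective φ)
  (F G : X.Modules)

omit [IsNoetherianRing A] [IsLocalRing A] [IsProper (X ↘ Spec (CommRingCat.of A))] in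
include hsq hφ in
/-- `G/JG ≅ j_* j^* G` compatibly with the unit, for any `J = ker φ`. -/
theorem exists_quotIso [G.IsQuasicoherent] (J : Ideal A) (hJ : RingHom.ker φ = J) :
    ∃ e : Q J G ≅ (psh j).obj ((plb j).obj G),
      πQ J G ≫ e.hom = (ppAdj j).unit.app G := by
  subst hJ
  exact ⟨quotIso φ j z hsq G hφ, πQ_quotMap φ j z hsq G⟩

include hsq hφ in
theorem exists_lift_fibre (hker : RingHom.ker φ = IsLocalRing.maximalIdeal A)
    (hF : FlatMod.IsFinLocFree F) [G.IsQuasicoherent]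
    (hcoh : Coh.IsCoh (sHom F G))
    (hfl : FlatMod.IsFlatOver (X ↘ Spec (CommRingCat.of A)) (sHom F G))
    (h1 : Subsingleton (Coh.HH Z (sHom ((plb j).obj F) ((plb j).obj G)) 1))
    (u₀ : (plb j).obj F ⟶ (plb j).obj G) :
    ∃ u : F ⟶ G, (plb j).map u = u₀ := by
  have h2 := subsingleton_HH_Q_sHom φ j z hsq F G hφ hF 1 h1
  rw [hker] at h2
  have hs := surjective_toHHmodPow_of_HH_Q (sHom F G) hcoh hfl 0 h2 0
  obtain ⟨e, he⟩ : ∃ e : Formal.modPow (IsLocalRing.maximalIdeal A) (0 + 1) G ≅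
      (psh j).obj ((plb j).obj G),
      Formal.modPowπ (IsLocalRing.maximalIdeal A) (0 + 1) G ≫ e.hom = (ppAdj j).unit.app G :=
    exists_quotIso φ j z hsq hφ G (IsLocalRing.maximalIdeal A ^ (0 + 1))
      (hker.trans (pow_one _).symm)
  obtain ⟨u, hu⟩ := exists_lift_of_surjective (IsLocalRing.maximalIdeal A) F G hF 0 hs
    ((ppAdj j).homEquiv F ((plb j).obj G) u₀ ≫ e.inv)
  refine ⟨u, ?_⟩
  apply ((ppAdj j).homEquiv F ((plb j).obj G)).injective
  rw [Adjunction.homEquiv_unit]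
  have hnat := (ppAdj j).unit.naturality u
  have h3 : u ≫ (ppAdj j).unit.app G = (ppAdj j).homEquiv F ((plb j).obj G) u₀ := by
    rw [← he, ← Category.assoc, hu, Category.assoc, Iso.inv_hom_id, Category.comp_id]
  rw [← h3]
  exact hnat.symm

end partA

end
end Groth.Agent.Lib.Helper17.HomLift
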