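import Mathlib
import Groth.Prelude.Def_FlatMod2

/-!
# Modules faithfully flat relative to a base, and composition (helper2)

* `flat_of_flat_of_faithfullyFlat_module`: if `M` is a faithfully flat `S`-module which is flat
  over `R`, then `S` is flat over `R`.
* `isFlatOverAt_comp`, `ne_top_comp`, `flat_stalkMap_of_comp`: the scheme-level consequences for
  `FlatMod.IsFlatOverAt`.
-/

set_option autoImplicit false
set_option linter.style.haveILetI false
universe u v w
open CategoryTheory Limits AlgebraicGeometry TopologicalSpace Opposite TensorProduct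

namespace Groth.Agent.Lib.Helper2.FFComp

section algebra

open TensorProduct.AlgebraTensorModule in
/-- If `M` is a faithfully flat `S`-module which is flat over `R`, then `S` is flat over `R`. -/
theorem flat_of_flat_of_faithfullyFlat_module (R : Type u) (S : Type v) (M : Type w) [CommRing R]
    [CommRing S] [Algebra R S] [AddCommGroup M] [Module R M] [Module S M] [IsScalarTower R S M]
    [Module.FaithfullyFlat S M] [Module.Flat R M] : Module.Flat R S := by
  rw [Module.Flat.iff_lTensor_preserves_injective_linearMap]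
  intro N N' _ _ _ _ f hf
  have key := lTensor_comp_cancelBaseChange (R := R) (A := S) (B := S) (M := M) f
  have hinj : Function.Injective (lTensor S M f ∘ₗ
      (cancelBaseChange R S S M N).toLinearMap) := by
    rw [LinearMap.coe_comp]
    exact (Module.Flat.lTensor_preserves_injective_linearMap (M := M) f hf).comp
      (LinearEquiv.injective _)
  rw [key, LinearMap.coe_comp] at hinj
  have h2 : Function.Injective (lTensor S M (lTensor S S f)) := Function.Injective.of_comp hinj
  exact (Module.FaithfullyFlat.lTensor_injective_iff_injective S M (lTensor S S f)).1 h2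

variable {A B M : Type*} [CommRing A] [CommRing B] [AddCommGroup M] [Module A M] [Module B M]

theorem isScalarTower_of_compat (α : A →+* B) (hc : ∀ (a : A) (m : M), a • m = α a • m) :
    letI := α.toAlgebra
    IsScalarTower A B M := by
  letI := α.toAlgebra
  exact ⟨fun a b m => by
    rw [Algebra.smul_def, mul_smul, hc]
    rfl⟩

theorem flat_trans_of_compat (α : A →+* B) (hc : ∀ (a : A) (m : M), a • m = α a • m)
    (hα : α.Flat) [Module.Flat B M] : Module.Flat A M := by
  letI := α.toAlgebra
  haveI := isScalarTower_of_compat α hc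
  haveI : Module.Flat A B := hα
  exact Module.Flat.trans A B M

theorem flat_of_compat_of_faithfullyFlat (α : A →+* B) (hc : ∀ (a : A) (m : M), a • m = α a • m)
    [Module.FaithfullyFlat B M] [Module.Flat A M] : α.Flat := by
  letI := α.toAlgebra
  haveI := isScalarTower_of_compat α hc
  exact flat_of_flat_of_faithfullyFlat_module A B M

theorem faithfullyFlat_of_local [IsLocalRing B] [Module.Flat B M]
    (h : IsLocalRing.maximalIdeal B • (⊤ : Submodule B M) ≠ ⊤) : Module.FaithfullyFlat B M :=
  { submodule_ne_top := fun m hm => by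
      rw [IsLocalRing.eq_maximalIdeal hm]
      exact h }

theorem smul_top_ne_top_of_compat [IsLocalRing A] [IsLocalRing B] (α : A →+* B) (hα : IsLocalHom α)
    (hc : ∀ (a : A) (m : M), a • m = α a • m)
    (h : IsLocalRing.maximalIdeal B • (⊤ : Submodule B M) ≠ ⊤) :
    IsLocalRing.maximalIdeal A • (⊤ : Submodule A M) ≠ ⊤ := by
  intro h2
  apply h
  rw [eq_top_iff]
  intro m _
  have hm : m ∈ IsLocalRing.maximalIdeal A • (⊤ : Submodule A M) := by
    rw [h2]
    trivial
  refine Submodule.smul_induction_on hm ?_ ?_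
  · intro a ha n _
    rw [hc]
    refine Submodule.smul_mem_smul ?_ trivial
    rw [IsLocalRing.mem_maximalIdeal, mem_nonunits_iff] at ha ⊢
    exact fun hu => ha (IsUnit.of_map α a hu)
  · intro x y hx hy
    exact add_mem hx hy

end algebra

variable {X Y Z : Scheme.{u}}

theorem smul_compat (f : X ⟶ Y) (g : Y ⟶ Z) (F : X.Modules) (x : X) :
    letI := FlatMod.moduleStalkOver (f ≫ g) F x
    letI := FlatMod.moduleStalkOver f F x
    ∀ (a : Z.presheaf.stalk ((f ≫ g).base x)) (m : F.presheaf.stalk x),
      a • m = (g.stalkMap (f.base x)).hom a • m := by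
  intro a m
  change ((f ≫ g).stalkMap x).hom a • m = (f.stalkMap x).hom ((g.stalkMap (f.base x)).hom a) • m
  rw [Scheme.Hom.stalkMap_comp]
  rfl

theorem isFlatOverAt_comp (f : X ⟶ Y) (g : Y ⟶ Z) (F : X.Modules) (x : X)
    (hg : (g.stalkMap (f.base x)).hom.Flat) (h : FlatMod.IsFlatOverAt f F x) :
    FlatMod.IsFlatOverAt (f ≫ g) F x := by
  unfold FlatMod.IsFlatOverAt at h ⊢
  letI mA := FlatMod.moduleStalkOver (f ≫ g) F x
  letI mB := FlatMod.moduleStalkOver f F x
  haveI : Module.Flat (Y.presheaf.stalk (f.base x)) (F.presheaf.stalk x) := h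
  exact flat_trans_of_compat (A := Z.presheaf.stalk ((f ≫ g).base x))
    (B := Y.presheaf.stalk (f.base x)) (M := F.presheaf.stalk x) (g.stalkMap (f.base x)).hom
    (smul_compat f g F x) hg

theorem ne_top_comp (f : X ⟶ Y) (g : Y ⟶ Z) (F : X.Modules) (x : X)
    (h : letI := FlatMod.moduleStalkOver f F x
      IsLocalRing.maximalIdeal (Y.presheaf.stalk (f.base x)) •
        (⊤ : Submodule (Y.presheaf.stalk (f.base x)) (F.presheaf.stalk x)) ≠ ⊤) :
    letI := FlatMod.moduleStalkOver (f ≫ g) F x
    IsLocalRing.maximalIdeal (Z.presheaf.stalk ((f ≫ g).base x)) •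
      (⊤ : Submodule (Z.presheaf.stalk ((f ≫ g).base x)) (F.presheaf.stalk x)) ≠ ⊤ := by
  haveI hloc : IsLocalHom (g.stalkMap (f.base x)).hom := inferInstance
  letI mA := FlatMod.moduleStalkOver (f ≫ g) F x
  letI mB := FlatMod.moduleStalkOver f F x
  exact smul_top_ne_top_of_compat (A := Z.presheaf.stalk ((f ≫ g).base x))
    (B := Y.presheaf.stalk (f.base x)) (M := F.presheaf.stalk x) (g.stalkMap (f.base x)).hom hloc
    (smul_compat f g F x) h

theorem flat_stalkMap_of_comp (f : X ⟶ Y) (g : Y ⟶ Z) (F : X.Modules) (x : X)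
    (h1 : FlatMod.IsFlatOverAt f F x)
    (h2 : letI := FlatMod.moduleStalkOver f F x
      IsLocalRing.maximalIdeal (Y.presheaf.stalk (f.base x)) •
        (⊤ : Submodule (Y.presheaf.stalk (f.base x)) (F.presheaf.stalk x)) ≠ ⊤)
    (h3 : FlatMod.IsFlatOverAt (f ≫ g) F x) : (g.stalkMap (f.base x)).hom.Flat := by
  unfold FlatMod.IsFlatOverAt at h1 h3
  letI mA := FlatMod.moduleStalkOver (f ≫ g) F x
  letI mB := FlatMod.moduleStalkOver f F x
  haveI : Module.Flat (Y.presheaf.stalk (f.base x)) (F.presheaf.stalk x) := h1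
  haveI : Module.FaithfullyFlat (Y.presheaf.stalk (f.base x)) (F.presheaf.stalk x) :=
    faithfullyFlat_of_local h2
  haveI : Module.Flat (Z.presheaf.stalk ((f ≫ g).base x)) (F.presheaf.stalk x) := h3
  exact flat_of_compat_of_faithfullyFlat (A := Z.presheaf.stalk ((f ≫ g).base x))
    (B := Y.presheaf.stalk (f.base x)) (M := F.presheaf.stalk x) (g.stalkMap (f.base x)).hom
    (smul_compat f g F x)

/-- `g` is flat and surjective iff `F` (faithfully flat relative to `Y`) is faithfully flat relative to `Z`. -/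
theorem main (f : X ⟶ Y) (g : Y ⟶ Z) (F : X.Modules) (hFfl : FlatMod.IsFlatOver f F)
    (hFff : (∀ y : ↥Y, ∃ x : ↥X, f x = y ∧
      letI := FlatMod.moduleStalkOver f F x
      IsLocalRing.maximalIdeal (Y.presheaf.stalk (f x)) •
        (⊤ : Submodule (Y.presheaf.stalk (f x)) (F.presheaf.stalk x)) ≠ ⊤)) :
    (Flat g ∧ Surjective g) ↔
      (FlatMod.IsFlatOver (f ≫ g) F ∧
        (∀ z : ↥Z, ∃ x : ↥X, (f ≫ g) x = z ∧
      letI := FlatMod.moduleStalkOver (f ≫ g) F x
      IsLocalRing.maximalIdeal (Z.presheaf.stalk ((f ≫ g) x)) •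
        (⊤ : Submodule (Z.presheaf.stalk ((f ≫ g) x)) (F.presheaf.stalk x)) ≠ ⊤)) := by
  constructor
  · rintro ⟨hfl, hsurj⟩
    haveI := hfl
    haveI := hsurj
    refine ⟨fun x => isFlatOverAt_comp f g F x (Flat.stalkMap g (f.base x)) (hFfl x), fun z => ?_⟩
    obtain ⟨y, rfl⟩ := g.surjective z
    obtain ⟨x, rfl, hx⟩ := hFff y
    exact ⟨x, rfl, ne_top_comp f g F x hx⟩
  · rintro ⟨hfl, hff⟩
    refine ⟨?_, ⟨fun z => ?_⟩⟩
    · rw [Flat.iff_flat_stalkMap]
      intro y
      obtain ⟨x, rfl, hx⟩ := hFff y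
      exact flat_stalkMap_of_comp f g F x (hFfl x) hx (hfl x)
    · obtain ⟨x, rfl, -⟩ := hff z
      exact ⟨f x, rfl⟩

end Groth.Agent.Lib.Helper2.FFComp
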