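import Mathlib
import Groth.Prelude.Def_Formal
import Groth.Prelude.Def_ega3
import Groth.Agent.Lib.Helper17HomLift3
import Groth.Agent.Lib.Helper1Sky9
import Groth.Agent.Lib.Helper2FFComp
import Groth.Agent.Lib.Helper21HZB9

set_option autoImplicit false
universe u
open CategoryTheory CategoryTheory.Limits AlgebraicGeometry TopologicalSpace Opposite

namespace Groth.Agent.Lib.Helper17.HomLift

open Groth.Agent.Lib.Helper17.FFaith Groth.Agent.Lib.Helper1.PT
  Groth.Agent.Lib.Helper21.HomI Groth.Agent.Lib.Helper21.HomU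
  Groth.Agent.Lib.Helper17.FlatDev Groth.Agent.Lib.Helper17.HHLes

noncomputable section

theorem isFlatOver_of_isFlat {X S : Scheme.{u}} (f : X ⟶ S) [Flat f] (M : X.Modules)
    (h : FlatMod.IsFlat M) : FlatMod.IsFlatOver f M := by
  intro x
  unfold FlatMod.IsFlatOverAt
  letI := FlatMod.moduleStalkOver f M x
  haveI : Module.Flat (X.presheaf.stalk x) (M.presheaf.stalk x) := h x
  exact Groth.Agent.Lib.Helper2.FFComp.flat_trans_of_compat (A := S.presheaf.stalk (f.base x))
    (B := X.presheaf.stalk x) (M := M.presheaf.stalk x) (f.stalkMap x).hom (fun a m => rfl)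
    (Flat.stalkMap f x)

section partA

variable {A B : Type u} [CommRing A] [IsNoetherianRing A] [IsLocalRing A] [CommRing B]
  (φ : A →+* B)
  {X Z : Scheme.{u}} [X.Over (Spec (CommRingCat.of A))]
  [IsProper (X ↘ Spec (CommRingCat.of A))] [Flat (X ↘ Spec (CommRingCat.of A))]
  (j : Z ⟶ X) (z : Z ⟶ Spec (CommRingCat.of B))
  (hsq : IsPullback j z (X ↘ Spec (CommRingCat.of A)) (Spec.map (CommRingCat.ofHom φ)))
  (hφ : Function.Surjective φ)
  (F G : X.Modules)

include hsq hφ in
theorem exists_lift_fibre' (hker : RingHom.ker φ = IsLocalRing.maximalIdeal A)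
    (hF : FlatMod.IsFinLocFree F) (hG : FlatMod.IsFinLocFree G)
    [DCoh.HasSheafHom ((plb j).obj F)]
    (h1 : Subsingleton (Coh.HH Z ((DCoh.sheafHom ((plb j).obj F)).obj ((plb j).obj G)) 1))
    (u₀ : (plb j).obj F ⟶ (plb j).obj G) :
    ∃ u : F ⟶ G, (plb j).map u = u₀ := by
  haveI : LocallyOfFiniteType (X ↘ Spec (CommRingCat.of A)) := inferInstance
  haveI : IsLocallyNoetherian X :=
    LocallyOfFiniteType.isLocallyNoetherian (X ↘ Spec (CommRingCat.of A))
  have hFc := Groth.Agent.Lib.Helper21.HZB.isCoh_of_isFinLocFree F hF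
  have hGc := Groth.Agent.Lib.Helper21.HZB.isCoh_of_isFinLocFree G hG
  haveI : G.IsQuasicoherent := hGc.1
  have hH := isFinLocFree_sHom F G hF hG
  have hHc := Groth.Agent.Lib.Helper21.HZB.isCoh_of_isFinLocFree _ hH
  haveI : (sHom F G).IsQuasicoherent := hHc.1
  have hfl : FlatMod.IsFlatOver (X ↘ Spec (CommRingCat.of A)) (sHom F G) :=
    isFlatOver_of_isFlat _ _ (Groth.Agent.Lib.Helper1.Sky.isFlat_of_isFinLocFree' _ hH)
  have h1' := subsingleton_HH_of_iso' (dcohSheafHomIso ((plb j).obj F) ((plb j).obj G)) 1 h1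
  exact exists_lift_fibre φ j z hsq hφ F G hker hF hHc hfl h1' u₀

end partA

end

end Groth.Agent.Lib.Helper17.HomLift
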