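import Mathlib

set_option autoImplicit false
open IsLocalRing

namespace Groth.Agent.Lib.Helper17.HomLiftAlg

variable {A P P' : Type*} [CommRing A] [IsLocalRing A] [AddCommGroup P] [Module A P]
  [AddCommGroup P'] [Module A P'] [Module.Flat A P'] (u : P →ₗ[A] P')
  (H : ∀ t, u t ∈ (maximalIdeal A) • (⊤ : Submodule A P') →
    t ∈ (maximalIdeal A) • (⊤ : Submodule A P))

include H in
theorem sum_smul_mem (I : Ideal A) : ∀ (n : ℕ) (a : Fin n → A) (t : Fin n → P),
    (∀ i, a i ∈ I) → ∑ i, a i • u (t i) = 0 →
      ∑ i, a i • t i ∈ (maximalIdeal A * I) • (⊤ : Submodule A P) := by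
  intro n
  induction n with
  | zero =>
    intro a t _ _
    simp
  | succ n ih =>
    intro a t ha hsum
    obtain ⟨k, c, y, hy, hc⟩ := Module.Flat.isTrivialRelation_of_sum_smul_eq_zero hsum
    by_cases hall : ∀ i j, c i j ∈ maximalIdeal A
    · refine Submodule.sum_mem _ fun i _ => ?_
      have h1 : u (t i) ∈ (maximalIdeal A) • (⊤ : Submodule A P') := by
        have hyi : u (t i) = ∑ j, c i j • y j := hy i
        rw [hyi]
        exact Submodule.sum_mem _ fun j _ => Submodule.smul_mem_smul (hall i j) Submodule.mem_top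
      have h2 := H _ h1
      rw [mul_comm, Submodule.mul_smul]
      exact Submodule.smul_mem_smul (ha i) h2
    · push Not at hall
      obtain ⟨i₀, j₀, hu⟩ := hall
      have hunit : IsUnit (c i₀ j₀) := by
        by_contra h
        exact hu ((IsLocalRing.mem_maximalIdeal _).2 h)
      obtain ⟨v, hv⟩ := hunit
      have hrel := hc j₀
      rw [Fin.sum_univ_succAbove _ i₀] at hrel
      let d : Fin n → A := fun k => - (↑v⁻¹ : A) * c (i₀.succAbove k) j₀
      have ha0 : a i₀ = ∑ k, a (i₀.succAbove k) * d k := by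
        have h1 : a i₀ * (v : A) = - ∑ k, a (i₀.succAbove k) * c (i₀.succAbove k) j₀ := by
          rw [hv]
          exact eq_neg_of_add_eq_zero_left hrel
        have h2 : a i₀ = (a i₀ * (v : A)) * (↑v⁻¹ : A) := by
          rw [mul_assoc, Units.mul_inv, mul_one]
        rw [h2, h1, neg_mul, Finset.sum_mul, ← Finset.sum_neg_distrib]
        refine Finset.sum_congr rfl fun k _ => ?_
        simp only [d]
        ring
      let t' : Fin n → P := fun k => t (i₀.succAbove k) + d k • t i₀
      have hsum' : ∑ k, a (i₀.succAbove k) • t' k = ∑ i, a i • t i := by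
        rw [Fin.sum_univ_succAbove (fun i => a i • t i) i₀]
        simp only [t', smul_add, Finset.sum_add_distrib, smul_smul]
        rw [← Finset.sum_smul, ← ha0, add_comm]
      have hsumu : ∑ k, a (i₀.succAbove k) • u (t' k) = 0 := by
        rw [← hsum, Fin.sum_univ_succAbove (fun i => a i • u (t i)) i₀]
        simp only [t', map_add, map_smul, smul_add, Finset.sum_add_distrib, smul_smul]
        rw [← Finset.sum_smul, ← ha0, add_comm]
      rw [← hsum']
      exact ih _ t' (fun k => ha _) hsumu

include H in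
theorem mem_pow_smul_top_of_map_eq_zero (s : P) (hs : u s = 0) (n : ℕ) :
    s ∈ (maximalIdeal A ^ n) • (⊤ : Submodule A P) := by
  induction n with
  | zero => simp
  | succ n ih =>
    have h1 : (⊤ : Submodule A P) = Submodule.span A (Set.range (id : P → P)) := by
      rw [Set.range_id, Submodule.span_univ]
    rw [h1, Submodule.mem_ideal_smul_span_iff_exists_sum] at ih
    obtain ⟨a, ha, hsum⟩ := ih
    rw [Finsupp.sum] at hsum
    let e := a.support.equivFin
    have hsum2 : ∑ k : Fin a.support.card, a (e.symm k : P) • ((e.symm k : P)) = s := by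
      rw [← hsum, ← Finset.sum_coe_sort a.support (fun i => a i • id i)]
      exact Equiv.sum_comp e.symm (fun i : a.support => a (i : P) • (i : P))
    have hu0 : ∑ k : Fin a.support.card, a (e.symm k : P) • u ((e.symm k : P)) = 0 := by
      rw [← hs, ← hsum2, map_sum]
      simp only [map_smul]
    have := sum_smul_mem u H (maximalIdeal A ^ n) _ (fun k => a (e.symm k : P))
      (fun k => (e.symm k : P)) (fun k => ha _) hu0
    rw [hsum2, ← pow_succ'] at this
    exact this

section overB

variable {A B P P' : Type*} [CommRing A] [IsLocalRing A] [CommRing B] [IsNoetherianRing B]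
  [Algebra A B] [AddCommGroup P] [Module B P] [Module.Finite B P] [Module A P]
  [IsScalarTower A B P] [AddCommGroup P'] [Module B P'] [Module A P'] [IsScalarTower A B P']
  [Module.Flat A P']

omit [IsLocalRing A] [IsNoetherianRing B] [Module.Finite B P] in
theorem mem_smul_top_iff_map (I : Ideal A) (x : P) :
    x ∈ I • (⊤ : Submodule A P) ↔ x ∈ I.map (algebraMap A B) • (⊤ : Submodule B P) := by
  have h := Ideal.smul_restrictScalars I (⊤ : Submodule B P)
  rw [Submodule.restrictScalars_top] at h
  rw [← h, Submodule.restrictScalars_mem]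

theorem exists_kill (u : P →ₗ[B] P')
    (H : ∀ t, u t ∈ ((maximalIdeal A).map (algebraMap A B)) • (⊤ : Submodule B P') →
      t ∈ ((maximalIdeal A).map (algebraMap A B)) • (⊤ : Submodule B P))
    (s : P) (hs : u s = 0) :
    ∃ b : B, b - 1 ∈ (maximalIdeal A).map (algebraMap A B) ∧ b • s = 0 := by
  have H' : ∀ t, (u.restrictScalars A) t ∈ (maximalIdeal A) • (⊤ : Submodule A P') →
      t ∈ (maximalIdeal A) • (⊤ : Submodule A P) := by
    intro t ht
    rw [mem_smul_top_iff_map (B := B)] at ht ⊢
    exact H t ht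
  have h1 : ∀ n : ℕ, s ∈ ((maximalIdeal A).map (algebraMap A B)) ^ n • (⊤ : Submodule B P) := by
    intro n
    rw [← Ideal.map_pow, ← mem_smul_top_iff_map]
    exact mem_pow_smul_top_of_map_eq_zero (u.restrictScalars A) H' s hs n
  have h2 : s ∈ (⨅ i : ℕ, ((maximalIdeal A).map (algebraMap A B)) ^ i • ⊤ : Submodule B P) :=
    (Submodule.mem_iInf _).2 h1
  rw [Ideal.mem_iInf_smul_pow_eq_bot_iff] at h2
  obtain ⟨r, hr⟩ := h2
  refine ⟨1 - r, ?_, ?_⟩
  · have : (1 - (r : B)) - 1 = - (r : B) := by ring
    rw [this]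
    exact Ideal.neg_mem_iff _ |>.2 r.2
  · rw [sub_smul, one_smul, hr, sub_self]

end overB

end Groth.Agent.Lib.Helper17.HomLiftAlg
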