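import Mathlib
import Groth.Prelude.Def_Formal
import Groth.Prelude.Def_ega3
import Groth.Agent.Lib.Helper17HomLift4
import Groth.Agent.Lib.Helper17HomLiftAlg
import Groth.Agent.Lib.Helper4DevE
import Groth.Agent.Lib.Helper2ModExact

set_option autoImplicit false
universe u
open CategoryTheory CategoryTheory.Limits AlgebraicGeometry TopologicalSpace Opposite

namespace Groth.Agent.Lib.Helper17.HomLift

open Groth.Agent.Lib.Helper17.FFaith Groth.Agent.Lib.Helper1.PT
  Groth.Agent.Lib.Helper17.FlatDev Groth.Agent.Lib.Helper17.GrSysCoh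

noncomputable section

section lemS

variable {A : Type u} [CommRing A] [IsLocalRing A] {X : Scheme.{u}}
  [X.Over (Spec (CommRingCat.of A))]

/-- for `x` over the closed point, `ρ U a` is not invertible at `x` for `a ∈ 𝔪`. -/
theorem not_mem_basicOpen_ρ (x : X)
    (hx : (X ↘ Spec (CommRingCat.of A)).base x = IsLocalRing.closedPoint A)
    (U : X.Opens) (a : A) (ha : a ∈ IsLocalRing.maximalIdeal A) :
    x ∉ X.basicOpen (ρ U a) := by
  intro hmem
  have h1 : X.basicOpen (ρ U a) = U ⊓ X.basicOpen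
      ((X ↘ Spec (CommRingCat.of A)).appTop ((Scheme.ΓSpecIso (CommRingCat.of A)).inv a)) :=
    Scheme.basicOpen_res _ _ _
  rw [h1, ← Scheme.preimage_basicOpen_top, basicOpen_eq_of_affine] at hmem
  have h2 : (X ↘ Spec (CommRingCat.of A)).base x ∈ PrimeSpectrum.basicOpen a := hmem.2
  rw [hx] at h2
  exact h2 ha

theorem mem_basicOpen_of_sub_one_mem (x : X)
    (hx : (X ↘ Spec (CommRingCat.of A)).base x = IsLocalRing.closedPoint A)
    (U : X.Opens) (hxU : x ∈ U) (b : Γ(X, U))
    (hb : b - 1 ∈ (IsLocalRing.maximalIdeal A).map (ρ U)) : x ∈ X.basicOpen b := by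
  rw [Scheme.mem_basicOpen _ _ x hxU]
  have hle : (IsLocalRing.maximalIdeal A).map (ρ U) ≤
      (IsLocalRing.maximalIdeal (X.presheaf.stalk x)).comap (X.presheaf.germ U x hxU).hom := by
    rw [Ideal.map_le_iff_le_comap]
    intro a ha
    rw [Ideal.mem_comap, Ideal.mem_comap, IsLocalRing.mem_maximalIdeal, mem_nonunits_iff,
      ← Scheme.mem_basicOpen _ _ x hxU]
    exact not_mem_basicOpen_ρ x hx U a ha
  have h1 := hle hb
  rw [Ideal.mem_comap, map_sub, map_one] at h1
  have h2 := IsLocalRing.isUnit_one_sub_self_of_mem_nonunits _ ((IsLocalRing.mem_maximalIdeal _).1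
    (Ideal.neg_mem_iff _ |>.2 h1))
  simpa using h2

theorem germ_eq_zero_of_kill (C : X.Modules) (x : X)
    (hx : (X ↘ Spec (CommRingCat.of A)).base x = IsLocalRing.closedPoint A)
    (U : X.Opens) (hxU : x ∈ U) (s : Γ(C, U)) (b : Γ(X, U))
    (hb : b - 1 ∈ (IsLocalRing.maximalIdeal A).map (ρ U)) (hbs : b • s = 0) :
    C.presheaf.germ U x hxU s = 0 := by
  have hxb := mem_basicOpen_of_sub_one_mem x hx U hxU b hb
  have hle : X.basicOpen b ≤ U := X.basicOpen_le b
  have hu : IsUnit (X.presheaf.map (homOfLE hle).op b) := RingedSpace.isUnit_res_basicOpen _ b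
  have h1 := congrArg (C.presheaf.map (homOfLE hle).op) hbs
  rw [Scheme.Modules.map_smul, map_zero] at h1
  have h2 : C.presheaf.map (homOfLE hle).op s = 0 := by
    obtain ⟨v, hv⟩ := hu
    have := congrArg (fun t => (↑v⁻¹ : Γ(X, X.basicOpen b)) • t) h1
    simp only [smul_zero] at this
    rw [← hv, smul_smul, Units.inv_mul, one_smul] at this
    exact this
  rw [← TopCat.Presheaf.germ_res_apply C.presheaf (homOfLE hle) x hxb s, h2, map_zero]

theorem isZero_of_local_kill [IsProper (X ↘ Spec (CommRingCat.of A))] (C : X.Modules)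
    (hC : Coh.IsCoh C)
    (h : ∀ (U : X.Opens), IsAffineOpen U → ∀ s : Γ(C, U), ∃ b : Γ(X, U),
      b - 1 ∈ (IsLocalRing.maximalIdeal A).map (ρ U) ∧ b • s = 0) : IsZero C := by
  have hfib : ∀ x : X, (X ↘ Spec (CommRingCat.of A)).base x = IsLocalRing.closedPoint A →
      Subsingleton (C.presheaf.stalk x) := by
    intro x hx
    suffices H : ∀ t : C.presheaf.stalk x, t = 0 from ⟨fun a b => (H a).trans (H b).symm⟩
    intro t
    obtain ⟨U, hxU, s, rfl⟩ := TopCat.Presheaf.exists_germ_eq C.presheaf t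
    obtain ⟨W, hW, hxW, hWU⟩ := (Opens.isBasis_iff_nbhd.1 X.isBasis_affineOpens) hxU
    obtain ⟨b, hb, hbs⟩ := h W hW (C.presheaf.map (homOfLE hWU).op s)
    rw [← TopCat.Presheaf.germ_res_apply C.presheaf (homOfLE hWU) x hxW s]
    exact germ_eq_zero_of_kill C x hx W hxW _ b hb hbs
  apply Groth.Agent.Lib.Helper4.Dev.isZero_of_support_eq_empty
  rw [Set.eq_empty_iff_forall_notMem]
  intro x hxs
  have hcl := Groth.Agent.Lib.Helper4.Dev.isClosed_support C hC
  have hcm : IsClosedMap (X ↘ Spec (CommRingCat.of A)).base :=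
    (X ↘ Spec (CommRingCat.of A)).isClosedMap
  have h1 : IsClosed ((X ↘ Spec (CommRingCat.of A)).base '' closure {x}) :=
    hcm _ isClosed_closure
  have h2 : (X ↘ Spec (CommRingCat.of A)).base x ∈
      (X ↘ Spec (CommRingCat.of A)).base '' closure {x} :=
    ⟨x, subset_closure rfl, rfl⟩
  have h3 : (X ↘ Spec (CommRingCat.of A)).base x ⤳ IsLocalRing.closedPoint A :=
    IsLocalRing.specializes_closedPoint (R := A) _
  obtain ⟨x', hx', hfx'⟩ := h3.mem_closed h1 h2
  have hx's : x' ∈ CohB1.support C := (closure_minimal (Set.singleton_subset_iff.2 hxs) hcl) hx'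
  exact hx's (hfib x' hfx')


end lemS

section partB

variable {A B : Type u} [CommRing A] [IsNoetherianRing A] [IsLocalRing A] [CommRing B]
  (φ : A →+* B)
  {X Z : Scheme.{u}} [X.Over (Spec (CommRingCat.of A))]
  [IsProper (X ↘ Spec (CommRingCat.of A))]
  (j : Z ⟶ X) (z : Z ⟶ Spec (CommRingCat.of B))
  (hsq : IsPullback j z (X ↘ Spec (CommRingCat.of A)) (Spec.map (CommRingCat.ofHom φ)))
  (hφ : Function.Surjective φ)
  (F G : X.Modules)

omit [IsNoetherianRing A] [IsProper (X ↘ Spec (CommRingCat.of A))] in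
include hsq hφ in
/-- (H): on affine sections, `u t ∈ 𝔪 Γ(G, U)` forces `t ∈ 𝔪 Γ(F, U)`, when `j^* u` is mono. -/
theorem mem_smul_top_of_mono_fibre [IsLocallyNoetherian X]
    (hker : RingHom.ker φ = IsLocalRing.maximalIdeal A)
    [F.IsQuasicoherent] [G.IsQuasicoherent] (u : F ⟶ G) (hm : Mono ((plb j).map u))
    {U : X.Opens} (hU : IsAffineOpen U) (t : Γ(F, U))
    (ht : u.app U t ∈ ((IsLocalRing.maximalIdeal A).map (ρ U)) •
      (⊤ : Submodule Γ(X, U) Γ(G, U))) :
    t ∈ ((IsLocalRing.maximalIdeal A).map (ρ U)) • (⊤ : Submodule Γ(X, U) Γ(F, U)) := by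
  obtain ⟨eF, heF⟩ := exists_quotIso φ j z hsq hφ F _ hker
  obtain ⟨eG, heG⟩ := exists_quotIso φ j z hsq hφ G _ hker
  rw [← mem_smul_top_iff_gen hU] at ht ⊢
  haveI : Mono ((psh j).map ((plb j).map u)) := inferInstance
  have hnat : u ≫ (ppAdj j).unit.app G = (ppAdj j).unit.app F ≫ (psh j).map ((plb j).map u) :=
    (ppAdj j).unit.naturality u
  have h1 : ((ppAdj j).unit.app G).app U (u.app U t) = 0 := by
    rw [← heG, comp_app_apply, ht, map_zero]
  rw [← comp_app_apply, hnat, comp_app_apply] at h1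
  have h2 : ((ppAdj j).unit.app F).app U t = 0 := by
    apply Groth.Agent.Lib.Helper2.ModExact.app_injective_of_mono ((psh j).map ((plb j).map u)) U
    rw [h1, map_zero]
  rw [← heF, comp_app_apply] at h2
  have h3 := congrArg (eF.inv.app U) h2
  rw [← comp_app_apply, eF.hom_inv_id, map_zero] at h3
  exact h3

include hsq hφ in
theorem mono_of_mono_fibre (hker : RingHom.ker φ = IsLocalRing.maximalIdeal A)
    (hF : Coh.IsCoh F) (hG : Coh.IsCoh G)
    (hfl : FlatMod.IsFlatOver (X ↘ Spec (CommRingCat.of A)) G) (u : F ⟶ G)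
    (hm : Mono ((plb j).map u)) : Mono u := by
  haveI : LocallyOfFiniteType (X ↘ Spec (CommRingCat.of A)) := inferInstance
  haveI : IsLocallyNoetherian X :=
    LocallyOfFiniteType.isLocallyNoetherian (X ↘ Spec (CommRingCat.of A))
  haveI : F.IsQuasicoherent := hF.1
  haveI : G.IsQuasicoherent := hG.1
  haveI : SheafOfModules.IsFiniteType (R := X.ringCatSheaf) F := hF.2
  apply Preadditive.mono_of_isZero_kernel
  apply isZero_of_local_kill (A := A) (kernel u)
    (Groth.Agent.Lib.Helper4.Dev.isCoh_kernel u hF hG)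
  intro U hU s
  haveI : IsNoetherianRing Γ(X, U) := IsLocallyNoetherian.component_noetherian ⟨U, hU⟩
  haveI : Module.Finite Γ(X, U) Γ(F, U) :=
    Groth.Agent.Lib.Helper23.FinType.finite_of_isFiniteType F hU
  letI : Algebra A Γ(X, U) := (ρ (A := A) U).toAlgebra
  letI : Module A Γ(F, U) := Module.compHom Γ(F, U) (ρ (A := A) U)
  letI : Module A Γ(G, U) := Module.compHom Γ(G, U) (ρ (A := A) U)
  haveI : IsScalarTower A Γ(X, U) Γ(F, U) := ⟨fun a b m => by
    change (ρ U a * b) • m = ρ U a • (b • m)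
    rw [mul_smul]⟩
  haveI : IsScalarTower A Γ(X, U) Γ(G, U) := ⟨fun a b m => by
    change (ρ U a * b) • m = ρ U a • (b • m)
    rw [mul_smul]⟩
  haveI : Module.Flat A Γ(G, U) := flat_sections G hfl hU
  have h0 : appL u U ((kernel.ι u).app U s) = 0 := by
    rw [appL_apply, ← comp_app_apply, kernel.condition]
    rfl
  obtain ⟨b, hb, hbs⟩ := Groth.Agent.Lib.Helper17.HomLiftAlg.exists_kill (A := A) (B := Γ(X, U))
    (appL u U) (fun t ht => mem_smul_top_of_mono_fibre φ j z hsq hφ F G hker u hm hU t ht)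
    ((kernel.ι u).app U s) h0
  refine ⟨b, hb, ?_⟩
  apply Groth.Agent.Lib.Helper2.ModExact.app_injective_of_mono (kernel.ι u) U
  rw [Scheme.Modules.Hom.app_smul, hbs, map_zero]

include hsq hφ in
theorem epi_of_epi_fibre (hker : RingHom.ker φ = IsLocalRing.maximalIdeal A)
    (hF : Coh.IsCoh F) (hG : Coh.IsCoh G) (u : F ⟶ G)
    (he : Epi ((plb j).map u)) : Epi u := by
  haveI : LocallyOfFiniteType (X ↘ Spec (CommRingCat.of A)) := inferInstance
  haveI : IsLocallyNoetherian X :=
    LocallyOfFiniteType.isLocallyNoetherian (X ↘ Spec (CommRingCat.of A))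
  apply Preadditive.epi_of_isZero_cokernel
  have hC : Coh.IsCoh (cokernel u) := Groth.Agent.Lib.Helper4.Dev.isCoh_cokernel u hF hG
  haveI : (cokernel u).IsQuasicoherent := hC.1
  haveI : SheafOfModules.IsFiniteType (R := X.ringCatSheaf) (cokernel u) := hC.2
  haveI : PreservesColimitsOfSize.{0, 0} (plb j) := (ppAdj j).leftAdjoint_preservesColimits
  have hz : IsZero ((plb j).obj (cokernel u)) :=
    IsZero.of_iso (isZero_cokernel_of_epi ((plb j).map u)) (PreservesCokernel.iso (plb j) u)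
  have hz2 : IsZero ((psh j).obj ((plb j).obj (cokernel u))) := Functor.map_isZero _ hz
  obtain ⟨eC, heC⟩ := exists_quotIso φ j z hsq hφ (cokernel u) _ hker
  have hz3 : IsZero (Q (IsLocalRing.maximalIdeal A) (cokernel u)) := IsZero.of_iso hz2 eC
  apply isZero_of_local_kill (A := A) (cokernel u) hC
  intro U hU s
  have hall : ∀ t : Γ(cokernel u, U), t ∈ ((IsLocalRing.maximalIdeal A).map (ρ U)) •
      (⊤ : Submodule Γ(X, U) Γ(cokernel u, U)) := by
    intro t
    rw [← mem_smul_top_iff_gen hU, hz3.eq_of_tgt (πQ (IsLocalRing.maximalIdeal A) (cokernel u)) 0]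
    rfl
  haveI : Module.Finite Γ(X, U) Γ(cokernel u, U) :=
    Groth.Agent.Lib.Helper23.FinType.finite_of_isFiniteType (hM := hC.2) (cokernel u) hU
  obtain ⟨r, hr, hr'⟩ := Submodule.exists_sub_one_mem_and_smul_eq_zero_of_fg_of_le_smul
    ((IsLocalRing.maximalIdeal A).map (ρ U)) (⊤ : Submodule Γ(X, U) Γ(cokernel u, U))
    Module.Finite.fg_top (fun t _ => hall t)
  exact ⟨r, hr, hr' s trivial⟩

end partB

end

end Groth.Agent.Lib.Helper17.HomLift
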