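import Mathlib
import Groth.Prelude.Def_Formal
import Groth.Prelude.Def_ega3
import Groth.Agent.Lib.Helper17HomLift5
import Groth.Agent.Lib.Helper21ModTensor7
import Groth.Agent.Lib.Helper23PB

set_option autoImplicit false
universe u
open CategoryTheory CategoryTheory.Limits AlgebraicGeometry TopologicalSpace Opposite

namespace Groth.Agent.Lib.Helper17.HomLift

open Groth.Agent.Lib.Helper17.FFaith Groth.Agent.Lib.Helper1.PT
  Groth.Agent.Lib.Helper17.FlatDev Groth.Agent.Lib.Helper17.GrSysCoh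

noncomputable section

section sHomIso

variable {X : Scheme.{u}}

/-- `ℋom(-, N)` respects isomorphisms in the first variable. -/
def sHomFIsoOfIso {F F' : X.Modules} (e : F ≅ F') : sHomF F ≅ sHomF F' :=
  (tensorLHomAdj F).rightAdjointUniq
    ((tensorLHomAdj F').ofNatIsoLeft ((ModSite.tensorBi X.sheaf).mapIso e).symm)

/-- `ℋom(O, -) ≅ 𝟭`. -/
def sHomFUnitIso : sHomF (Coh.structureModule X) ≅ 𝟭 X.Modules :=
  (tensorLHomAdj (Coh.structureModule X)).rightAdjointUniq
    ((Adjunction.id).ofNatIsoLeft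
      (Groth.Agent.Lib.Helper21.ModTensor7.tLUnitIso X.sheaf).symm)

/-- `ℋom(F, G) ≅ O` when `F ≅ O` and `G ≅ O`. -/
def sHomIsoUnit {F G : X.Modules} (e : F ≅ Coh.structureModule X)
    (e' : G ≅ Coh.structureModule X) : sHom F G ≅ Coh.structureModule X :=
  (sHomFIsoOfIso e).app G ≪≫ sHomFUnitIso.app G ≪≫ e'

end sHomIso

section iso

variable {A B : Type u} [CommRing A] [IsNoetherianRing A] [IsLocalRing A] [CommRing B]
  (φ : A →+* B)
  {X Z : Scheme.{u}} [X.Over (Spec (CommRingCat.of A))]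
  [IsProper (X ↘ Spec (CommRingCat.of A))] [Flat (X ↘ Spec (CommRingCat.of A))]
  (j : Z ⟶ X) (z : Z ⟶ Spec (CommRingCat.of B))
  (hsq : IsPullback j z (X ↘ Spec (CommRingCat.of A)) (Spec.map (CommRingCat.ofHom φ)))
  (hφ : Function.Surjective φ)
  (F G : X.Modules)

include hsq hφ in
theorem exists_lift_fibre'' (hker : RingHom.ker φ = IsLocalRing.maximalIdeal A)
    (hF : FlatMod.IsFinLocFree F) (hG : FlatMod.IsFinLocFree G)
    (h1 : Subsingleton (Coh.HH Z (sHom ((plb j).obj F) ((plb j).obj G)) 1))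
    (u₀ : (plb j).obj F ⟶ (plb j).obj G) :
    ∃ u : F ⟶ G, (plb j).map u = u₀ := by
  haveI : LocallyOfFiniteType (X ↘ Spec (CommRingCat.of A)) := inferInstance
  haveI : IsLocallyNoetherian X :=
    LocallyOfFiniteType.isLocallyNoetherian (X ↘ Spec (CommRingCat.of A))
  have hGc := Groth.Agent.Lib.Helper21.HZB.isCoh_of_isFinLocFree G hG
  haveI : G.IsQuasicoherent := hGc.1
  have hH := isFinLocFree_sHom F G hF hG
  have hHc := Groth.Agent.Lib.Helper21.HZB.isCoh_of_isFinLocFree _ hH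
  have hfl : FlatMod.IsFlatOver (X ↘ Spec (CommRingCat.of A)) (sHom F G) :=
    isFlatOver_of_isFlat _ _ (Groth.Agent.Lib.Helper1.Sky.isFlat_of_isFinLocFree' _ hH)
  exact exists_lift_fibre φ j z hsq hφ F G hker hF hHc hfl h1 u₀

include hsq hφ in
/-- finite locally free modules on `X` proper flat over a Noetherian local ring, isomorphic on the
closed fibre with `H¹(X₀, ℋom(F₀, G₀)) = 0`, are isomorphic. -/
theorem nonempty_iso_of_fibre_iso (hker : RingHom.ker φ = IsLocalRing.maximalIdeal A)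
    (hF : FlatMod.IsFinLocFree F) (hG : FlatMod.IsFinLocFree G)
    (h1 : Subsingleton (Coh.HH Z (sHom ((plb j).obj F) ((plb j).obj G)) 1))
    (e₀ : (plb j).obj F ≅ (plb j).obj G) : Nonempty (F ≅ G) := by
  obtain ⟨u, hu⟩ := exists_lift_fibre'' φ j z hsq hφ F G hker hF hG h1 e₀.hom
  have hFc := Groth.Agent.Lib.Helper21.HZB.isCoh_of_isFinLocFree F hF
  have hGc := Groth.Agent.Lib.Helper21.HZB.isCoh_of_isFinLocFree G hG
  haveI : G.IsQuasicoherent := hGc.1
  have hflG : FlatMod.IsFlatOver (X ↘ Spec (CommRingCat.of A)) G :=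
    isFlatOver_of_isFlat _ _ (Groth.Agent.Lib.Helper1.Sky.isFlat_of_isFinLocFree' _ hG)
  haveI : Mono u := mono_of_mono_fibre φ j z hsq hφ F G hker hFc hGc hflG u (by
    rw [hu]; infer_instance)
  haveI : Epi u := epi_of_epi_fibre φ j z hsq hφ F G hker hFc hGc u (by
    rw [hu]; infer_instance)
  haveI : IsIso u := isIso_of_mono_of_epi u
  exact ⟨asIso u⟩

end iso

end

end Groth.Agent.Lib.Helper17.HomLift
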