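import Mathlib
import Groth.Agent.Lib.Helper17FlatDev3
import Groth.Agent.Lib.Helper17FlatDev4
import Groth.Agent.Lib.Helper17NilLift1
import Groth.Agent.Lib.Helper20FormalPull
import Groth.Agent.Lib.Helper12RelXiAlg
import Groth.Agent.Lib.Helper1Sky4
import Groth.Agent.Lib.Helper2FibreCrit2
set_option backward.isDefEq.respectTransparency.types false

/-!
# Vanishing of a morphism along a section, over a Noetherian base ring: the dévissage (helper12)
-/

set_option autoImplicit false
set_option linter.style.haveILetI false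
set_option linter.unusedSectionVars false
set_option linter.unusedVariables false
universe u
open CategoryTheory CategoryTheory.Limits AlgebraicGeometry TopologicalSpace Opposite

namespace Groth.Agent.Lib.Helper12.RelXiCore

open Groth.Agent.Lib.Helper17.FlatDev Groth.Agent.Lib.Helper17.IAdic
  Groth.Agent.Lib.Helper12.RelXiAlg

noncomputable section

section pull

variable {A : Type u} [CommRing A] [IsNoetherianRing A]
  {Y T : Scheme.{u}} [Y.Over (Spec (CommRingCat.of A))] [T.Over (Spec (CommRingCat.of A))]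
  (σ : T ⟶ Y) (hσ : σ ≫ (Y ↘ Spec (CommRingCat.of A)) = T ↘ Spec (CommRingCat.of A))
  (F : Y.Modules) [F.IsQuasicoherent]

include hσ in
/-- the pullback of `M/KM ⟶ M/JM` (multiplication by `a`) along a morphism over `Spec A` is a
monomorphism as soon as the pullback of `M` is flat over `A`. -/
theorem mono_pullback_μ
    (hσF : FlatMod.IsFlatOver (T ↘ Spec (CommRingCat.of A)) ((Scheme.Modules.pullback σ).obj F))
    (K J : Ideal A) (a : A) (hK : ∀ b ∈ K, a * b ∈ J) (hcolon : ∀ x, x * a ∈ J → x ∈ K) :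
    Mono ((Scheme.Modules.pullback σ).map (μ a hK F)) := by
  haveI : ((Scheme.Modules.pullback σ).obj F).IsQuasicoherent :=
    Groth.Agent.Lib.Helper2.PullbackSec.isQuasicoherent_pullback σ F
  set F' := (Scheme.Modules.pullback σ).obj F with hF'
  -- comparison isomorphisms
  have hidK : IsIso (cokernel.desc (Formal.smulFamily K F) (πQ K F) (cokernel.condition _)) := by
    have : cokernel.desc (Formal.smulFamily K F) (πQ K F) (cokernel.condition _) = 𝟙 _ := by
      apply coequalizer.hom_ext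
      rw [cokernel.π_desc, Category.comp_id]
    rw [this]; infer_instance
  have hidJ : IsIso (cokernel.desc (Formal.smulFamily J F) (πQ J F) (cokernel.condition _)) := by
    have : cokernel.desc (Formal.smulFamily J F) (πQ J F) (cokernel.condition _) = 𝟙 _ := by
      apply coequalizer.hom_ext
      rw [cokernel.π_desc, Category.comp_id]
    rw [this]; infer_instance
  obtain ⟨hK', hisoK⟩ := Groth.Agent.Lib.Helper20.FormalPull.isIso_cokernelDesc_pullback σ hσ K
    (πQ K F) (cokernel.condition _) hidK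
  obtain ⟨hJ', hisoJ⟩ := Groth.Agent.Lib.Helper20.FormalPull.isIso_cokernelDesc_pullback σ hσ J
    (πQ J F) (cokernel.condition _) hidJ
  let cK : Q K F' ⟶ (Scheme.Modules.pullback σ).obj (Q K F) :=
    cokernel.desc _ ((Scheme.Modules.pullback σ).map (πQ K F)) hK'
  let cJ : Q J F' ⟶ (Scheme.Modules.pullback σ).obj (Q J F) :=
    cokernel.desc _ ((Scheme.Modules.pullback σ).map (πQ J F)) hJ'
  haveI : IsIso cK := hisoK
  haveI : IsIso cJ := hisoJ
  have hcK : πQ K F' ≫ cK = (Scheme.Modules.pullback σ).map (πQ K F) := cokernel.π_desc _ _ _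
  have hcJ : πQ J F' ≫ cJ = (Scheme.Modules.pullback σ).map (πQ J F) := cokernel.π_desc _ _ _
  have hsq : cK ≫ (Scheme.Modules.pullback σ).map (μ a hK F) = μ a hK F' ≫ cJ := by
    rw [← cancel_epi (πQ K F'), ← Category.assoc, hcK, ← Functor.map_comp, πQ_μ, Functor.map_comp,
      Groth.Agent.Lib.Helper20.FormalPull.pullback_map_smulMod σ hσ, ← Category.assoc, πQ_μ,
      Category.assoc, hcJ]
  haveI : Mono (μ a hK F') := mono_μ F' hσF K J a hK hcolon
  have e : (Scheme.Modules.pullback σ).map (μ a hK F) = inv cK ≫ μ a hK F' ≫ cJ := by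
    rw [IsIso.eq_inv_comp, hsq]
  rw [e]
  infer_instance

end pull

section core

variable {A B : Type u} [CommRing A] [IsNoetherianRing A] [Field B] (φ₀ : A →+* B)
  (hφ₀ : Function.Surjective φ₀)
  {Y Z : Scheme.{u}} [Y.Over (Spec (CommRingCat.of A))]
  (j : Z ⟶ Y) (z : Z ⟶ Spec (CommRingCat.of B))
  (hsq : IsPullback j z (Y ↘ Spec (CommRingCat.of A)) (Spec.map (CommRingCat.ofHom φ₀)))
  (σ : Spec (CommRingCat.of A) ⟶ Y)
  (hσ : σ ≫ (Y ↘ Spec (CommRingCat.of A)) = 𝟙 (Spec (CommRingCat.of A)))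
  (ξ₀ : Spec (CommRingCat.of B) ⟶ Z) (hξ₀ : ξ₀ ≫ j = Spec.map (CommRingCat.ofHom φ₀) ≫ σ)
  {E F : Y.Modules} [F.IsQuasicoherent]
  (hfl : FlatMod.IsFlatOver (Y ↘ Spec (CommRingCat.of A)) F)
  (hσF : FlatMod.IsFlatOver (𝟙 (Spec (CommRingCat.of A)))
    ((Scheme.Modules.pullback σ).obj F))
  (φ : E ⟶ F) (hσφ : (Scheme.Modules.pullback σ).map φ = 0)
  (Hfib : ∀ ψ : (Scheme.Modules.pullback j).obj E ⟶ (Scheme.Modules.pullback j).obj F,
    (Scheme.Modules.pullback ξ₀).map ψ = 0 → ψ = 0)

include hφ₀ hsq hσ hξ₀ hfl hσF hσφ Hfib in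
/-- **the dévissage**: `φ` vanishes modulo every ideal containing a power of the kernel of `A → B`. -/
theorem comp_πQ_eq_zero :
    ∀ J : Ideal A, (∃ N : ℕ, (RingHom.ker φ₀) ^ N ≤ J) → φ ≫ πQ J F = 0 := by
  intro J
  induction J using IsNoetherian.induction with
  | hgt J ih =>
    intro hN
    obtain ⟨N, hN⟩ := hN
    haveI hKmax : (RingHom.ker φ₀).IsMaximal := RingHom.ker_isMaximal_of_surjective φ₀ hφ₀
    rcases eq_or_lt_of_le (le_top : J ≤ ⊤) with rfl | hlt
    · have h1 := smulMod_πQ (⊤ : Ideal A) F 1 trivial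
      rw [smulMod_one, Category.id_comp] at h1
      rw [h1, comp_zero]
    · obtain ⟨a, -, haJ, hm⟩ := exists_socle (RingHom.ker φ₀) J ⊤ hlt N
        (by rw [Ideal.mul_top]; exact hN)
      have hcolon : ∀ x, x * a ∈ J → x ∈ RingHom.ker φ₀ := fun x hx =>
        mem_of_mul_mem haJ (fun b hb => by rw [mul_comm]; exact hm b hb) x hx
      have hS := stepSC_shortExact F (RingHom.ker φ₀) J a hm hfl hcolon
      have hgt : J < J ⊔ Ideal.span {a} :=
        lt_of_le_of_ne le_sup_left (fun h => haJ (h ▸ mem_sup_span J a))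
      have hIH := ih _ hgt ⟨N, hN.trans le_sup_left⟩
      haveI : Mono (stepSC F (RingHom.ker φ₀) J a hm).f := hS.mono_f
      have hv : (φ ≫ πQ J F) ≫ (stepSC F (RingHom.ker φ₀) J a hm).g = 0 := by
        show (φ ≫ πQ J F) ≫ Qmap (le_sup_left : J ≤ J ⊔ Ideal.span {a}) F = 0
        rw [Category.assoc, πQ_Qmap]
        exact hIH
      set θ := hS.exact.lift (φ ≫ πQ J F) hv with hθdef
      have hθ : θ ≫ μ a hm F = φ ≫ πQ J F := hS.exact.lift_f (φ ≫ πQ J F) hv
      suffices hθ0 : θ = 0 by rw [← hθ, hθ0, zero_comp]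
      -- (α) the pullback of θ along the section vanishes
      have hσθ : (Scheme.Modules.pullback σ).map θ = 0 := by
        haveI : Mono ((Scheme.Modules.pullback σ).map (μ a hm F)) := by
          letI : (Spec (CommRingCat.of A)).Over (Spec (CommRingCat.of A)) := ⟨𝟙 _⟩
          exact mono_pullback_μ σ hσ F hσF (RingHom.ker φ₀) J a hm hcolon
        rw [← cancel_mono ((Scheme.Modules.pullback σ).map (μ a hm F)), ← Functor.map_comp, hθ,
          Functor.map_comp, hσφ, zero_comp, zero_comp]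
      -- (β) the induced morphism on the fibre
      let adj := Scheme.Modules.pullbackPushforwardAdjunction j
      let ψ : (Scheme.Modules.pullback j).obj E ⟶ (Scheme.Modules.pullback j).obj F :=
        (adj.homEquiv _ _).symm (θ ≫ quotMap φ₀ j z hsq F)
      have hψ : (Scheme.Modules.pullback ξ₀).map ψ = 0 := by
        have h1 : ψ = (Scheme.Modules.pullback j).map θ ≫
            ((Scheme.Modules.pullback j).map (quotMap φ₀ j z hsq F) ≫ adj.counit.app _) := by
          show (adj.homEquiv _ _).symm (θ ≫ quotMap φ₀ j z hsq F) = _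
          rw [Adjunction.homEquiv_counit, Functor.map_comp, Category.assoc]
        have h2 : (Scheme.Modules.pullback ξ₀).map ((Scheme.Modules.pullback j).map θ) = 0 := by
          have e1 := (Scheme.Modules.pullbackComp ξ₀ j).hom.naturality θ
          have e2 := (Scheme.Modules.pullbackCongr hξ₀).hom.naturality θ
          have e3 := (Scheme.Modules.pullbackComp (Spec.map (CommRingCat.ofHom φ₀)) σ).hom.naturality θ
          simp only [Functor.comp_map] at e1 e3
          have h3 : (Scheme.Modules.pullback (Spec.map (CommRingCat.ofHom φ₀) ≫ σ)).map θ = 0 := by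
            rw [← cancel_epi ((Scheme.Modules.pullbackComp (Spec.map (CommRingCat.ofHom φ₀)) σ).hom.app E),
              ← e3, hσθ, Functor.map_zero, zero_comp, comp_zero]
          have h4 : (Scheme.Modules.pullback (ξ₀ ≫ j)).map θ = 0 := by
            rw [← cancel_mono ((Scheme.Modules.pullbackCongr hξ₀).hom.app _), e2, h3, comp_zero,
              zero_comp]
          rw [← cancel_mono ((Scheme.Modules.pullbackComp ξ₀ j).hom.app _), e1, h4, comp_zero,
            zero_comp]
        rw [h1, Functor.map_comp, h2, zero_comp]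
      have hψ0 := Hfib ψ hψ
      have h5 : θ ≫ quotMap φ₀ j z hsq F = 0 := by
        apply (adj.homEquiv _ _).symm.injective
        show ψ = _
        rw [hψ0, Adjunction.homEquiv_counit, Functor.map_zero, zero_comp]
      haveI := isIso_quotMap φ₀ j z hsq F hφ₀
      rw [← cancel_mono (quotMap φ₀ j z hsq F), h5, zero_comp]

end core

section krull

open Groth.Agent.Lib.Helper1.StalkTensor Groth.Agent.Lib.Helper1.Sky

variable {A : Type u} [CommRing A] [IsNoetherianRing A] (K : Ideal A)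
  {Y : Scheme.{u}} [Y.Over (Spec (CommRingCat.of A))] [IsLocallyNoetherian Y]
  {E F : Y.Modules} [F.IsQuasicoherent] [SheafOfModules.IsFiniteType (R := Y.ringCatSheaf) F]
  (φ : E ⟶ F)

/-- the structure map `A → O_{Y,y}` -/
def ρst (A : Type u) [CommRing A] (Y : Scheme.{u}) [Y.Over (Spec (CommRingCat.of A))] (y : Y) :
    A →+* Rx Y.presheaf y :=
  (gr Y.presheaf y ⊤ trivial).comp (Coh.toGlobal (Y ↘ Spec (CommRingCat.of A)))

theorem gr_ρ (y : Y) (W : Y.Opens) (hyW : y ∈ W) (a : A) :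
    gr Y.presheaf y W hyW (ρ W a) = ρst A Y y a :=
  gr_rr (homOfLE (le_top : W ≤ ⊤)) hyW (Coh.toGlobal (Y ↘ Spec (CommRingCat.of A)) a)

theorem gm_mem_map_smul_top (M : Y.Modules) (y : Y) (W : Y.Opens) (hyW : y ∈ W) (I : Ideal A)
    (n : Γ(M, W)) (hn : n ∈ (I.map (ρ W)) • (⊤ : Submodule Γ(Y, W) Γ(M, W))) :
    gm (toPM M) y W hyW n ∈
      (I.map (ρst A Y y)) • (⊤ : Submodule (Rx Y.presheaf y) (St (toPM M) y)) := by
  refine Submodule.smul_induction_on hn ?_ ?_
  · intro r hr p _
    have h1 : gm (toPM M) y W hyW (r • p) = gr Y.presheaf y W hyW r • gm (toPM M) y W hyW p :=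
      gm_smul hyW r p
    rw [h1]
    refine Submodule.smul_mem_smul ?_ trivial
    have h2 : (I.map (ρ W)).map (gr Y.presheaf y W hyW) = I.map (ρst A Y y) := by
      rw [Ideal.map_map]
      congr 1
      ext a
      exact gr_ρ y W hyW a
    rw [← h2]
    exact Ideal.mem_map_of_mem _ hr
  · intro p q hp hq
    have h3 : gm (toPM M) y W hyW (p + q) = gm (toPM M) y W hyW p + gm (toPM M) y W hyW q :=
      map_add (gm (toPM M) y W hyW) p q
    have h4 := add_mem hp hq
    rw [← h3] at h4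
    exact h4

/-- **Krull**: a morphism into a coherent module which vanishes modulo all powers of `K` has zero
stalk at every point where `K` lies in the maximal ideal. -/
theorem sm_eq_zero_of_forall_pow (h : ∀ N : ℕ, φ ≫ πQ (K ^ N) F = 0) (y : Y)
    (hy : ∀ a ∈ K, ¬ IsUnit (ρst A Y y a)) (a : St (toPM E) y) :
    sm (toPMMap φ) y a = 0 := by
  obtain ⟨U, hyU, e, rfl⟩ := exists_gm_eq a
  obtain ⟨W, hW, hyW, hWU⟩ := exists_isAffineOpen_mem_and_subset (x := y) (U := U) hyU
  let i : W ⟶ U := homOfLE hWU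
  rw [← gm_rs i hyW e, sm_gm]
  set e' := rs (toPM E) i e with he'
  have hmem : ∀ N : ℕ, (toPMMap φ).app (op W) e' ∈
      ((K ^ N).map (ρ W)) • (⊤ : Submodule Γ(Y, W) Γ(F, W)) := by
    intro N
    have h1 := (Groth.Agent.Lib.Helper17.NilLift.mem_smul_top_iff_fg (K ^ N) F hW
      ((toPMMap φ).app (op W) e')).1
    apply h1
    have h2 : (φ ≫ πQ (K ^ N) F).app W e' = 0 := by
      rw [h N]; rfl
    rw [comp_app_apply] at h2
    exact h2
  haveI : Module.Finite (Rx Y.presheaf y) (St (toPM F) y) :=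
    Groth.Agent.Lib.Helper2.FibreCrit.finite_stalk F y
  have hne : K.map (ρst A Y y) ≠ ⊤ := by
    intro htop
    have hle : K.map (ρst A Y y) ≤ IsLocalRing.maximalIdeal (Rx Y.presheaf y) := by
      rw [Ideal.map_le_iff_le_comap]
      intro a ha
      rw [Ideal.mem_comap, IsLocalRing.mem_maximalIdeal, mem_nonunits_iff]
      exact hy a ha
    rw [htop, top_le_iff] at hle
    exact (IsLocalRing.maximalIdeal.isMaximal _).ne_top hle
  have hk := Ideal.iInf_pow_smul_eq_bot_of_isLocalRing (M := St (toPM F) y) (K.map (ρst A Y y)) hne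
  have hin : gm (toPM F) y W hyW ((toPMMap φ).app (op W) e') ∈
      ⨅ i : ℕ, (K.map (ρst A Y y)) ^ i • (⊤ : Submodule (Rx Y.presheaf y) (St (toPM F) y)) := by
    rw [Submodule.mem_iInf]
    intro N
    rw [← Ideal.map_pow]
    exact gm_mem_map_smul_top F y W hyW (K ^ N) _ (hmem N)
  rw [hk, Submodule.mem_bot] at hin
  exact hin

end krull

section fibre

open Groth.Agent.Lib.Helper1.StalkTensor Groth.Agent.Lib.Helper1.Sky

variable {A B : Type u} [CommRing A] [IsNoetherianRing A] [Field B] (φ₀ : A →+* B)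
  (hφ₀ : Function.Surjective φ₀)
  {Y Z : Scheme.{u}} [Y.Over (Spec (CommRingCat.of A))] [IsLocallyNoetherian Y]
  (j : Z ⟶ Y) (z : Z ⟶ Spec (CommRingCat.of B))
  (hsq : IsPullback j z (Y ↘ Spec (CommRingCat.of A)) (Spec.map (CommRingCat.ofHom φ₀)))

include hsq in
theorem not_isUnit_ρst (z' : Z) (a : A) (ha : a ∈ RingHom.ker φ₀) :
    ¬ IsUnit (ρst A Y (j z') a) := by
  intro hu
  have h1 : (j.stalkMap z').hom (ρst A Y (j z') a) =
      Z.presheaf.germ (j ⁻¹ᵁ ⊤) z' trivial
        (j.app ⊤ (Coh.toGlobal (Y ↘ Spec (CommRingCat.of A)) a)) :=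
    Scheme.Hom.germ_stalkMap_apply j ⊤ z' trivial _
  have h2 : j.app ⊤ (Coh.toGlobal (Y ↘ Spec (CommRingCat.of A)) a) = 0 := by
    have h3 := appTop_toGlobal φ₀ j z hsq a
    rw [(RingHom.mem_ker).1 ha, map_zero, map_zero] at h3
    exact h3
  rw [h2, map_zero] at h1
  have h4 := hu.map (j.stalkMap z').hom
  rw [h1] at h4
  exact not_isUnit_zero h4

variable (σ : Spec (CommRingCat.of A) ⟶ Y)
  (hσ : σ ≫ (Y ↘ Spec (CommRingCat.of A)) = 𝟙 (Spec (CommRingCat.of A)))
  (ξ₀ : Spec (CommRingCat.of B) ⟶ Z) (hξ₀ : ξ₀ ≫ j = Spec.map (CommRingCat.ofHom φ₀) ≫ σ)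
  {E F : Y.Modules} [F.IsQuasicoherent] [SheafOfModules.IsFiniteType (R := Y.ringCatSheaf) F]
  (hfl : FlatMod.IsFlatOver (Y ↘ Spec (CommRingCat.of A)) F)
  (hσF : FlatMod.IsFlatOver (𝟙 (Spec (CommRingCat.of A)))
    ((Scheme.Modules.pullback σ).obj F))
  (φ : E ⟶ F) (hσφ : (Scheme.Modules.pullback σ).map φ = 0)
  (Hfib : ∀ ψ : (Scheme.Modules.pullback j).obj E ⟶ (Scheme.Modules.pullback j).obj F,
    (Scheme.Modules.pullback ξ₀).map ψ = 0 → ψ = 0)

include hφ₀ hsq hσ hξ₀ hfl hσF hσφ Hfib in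
/-- the stalks of `φ` at the points of the closed fibre vanish -/
theorem sm_eq_zero_of_fibre (z' : Z) (a : St (toPM E) (j z')) :
    sm (toPMMap φ) (j z') a = 0 :=
  sm_eq_zero_of_forall_pow (RingHom.ker φ₀) φ
    (fun N => comp_πQ_eq_zero φ₀ hφ₀ j z hsq σ hσ ξ₀ hξ₀ hfl hσF φ hσφ Hfib _ ⟨N, le_rfl⟩)
    (j z') (fun a ha => not_isUnit_ρst φ₀ j z hsq z' a ha) a

end fibre

end

end Groth.Agent.Lib.Helper12.RelXiCore
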