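import Mathlib
import Groth.Agent.Lib.Helper1PC15
import Groth.Agent.Lib.Helper23QCohAbelian
import Groth.Agent.Lib.Helper23FinTypeLocal
import Groth.Agent.Lib.Helper23TensorQCoh
set_option backward.isDefEq.respectTransparency.types false

/-!
# Perfect objects on Noetherian schemes are bounded with coherent cohomology (helper1)
-/

set_option autoImplicit false
set_option linter.style.haveILetI false
universe u
open CategoryTheory CategoryTheory.Limits AlgebraicGeometry

attribute [local instance] HasDerivedCategory.standard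

namespace Groth.Agent.Lib.Helper1.SPL

open Groth.Agent.Lib.Helper1.Sky Groth.Agent.Lib.Helper1.CI Groth.Agent.Lib.Helper1.StalkTensor
open Groth.Agent.Lib.Helper1.FLF Groth.Agent.Lib.Helper23.QCohLocal Groth.Agent.Lib.Helper23.FinType
open Groth.Agent.Lib.Helper23.ModLocal

variable {X : Scheme.{u}}

/-- the cycles of a complex as a kernel -/
noncomputable def cyclesIsoKernel' (P : CochainComplex X.Modules ℤ) (i : ℤ) :
    P.cycles i ≅ kernel (P.d i (i + 1)) :=
  (IsLimit.conePointUniqueUpToIso (kernelIsKernel (P.d i (i + 1)))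
    (P.cyclesIsKernel i (i + 1) (by simp))).symm

/-- the homology of a complex as a cokernel -/
noncomputable def homologyIsoCokernel' (P : CochainComplex X.Modules ℤ) (i : ℤ) :
    P.homology i ≅ cokernel (P.toCycles (i - 1) i) :=
  (IsColimit.coconePointUniqueUpToIso (cokernelIsCokernel (P.toCycles (i - 1) i))
    (P.homologyIsCokernel (i - 1) i (by simp))).symm

lemma isQuasicoherent_cycles (P : CochainComplex X.Modules ℤ) (h : ∀ i, (P.X i).IsQuasicoherent)
    (i : ℤ) : (P.cycles i).IsQuasicoherent := by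
  haveI := h i
  haveI := h (i + 1)
  haveI : (kernel (P.d i (i + 1))).IsQuasicoherent := isQuasicoherent_kernel _
  exact Groth.Agent.Lib.Helper23.TensorQCoh.isQuasicoherent_of_iso (cyclesIsoKernel' P i).symm

lemma isQuasicoherent_homology (P : CochainComplex X.Modules ℤ)
    (h : ∀ i, (P.X i).IsQuasicoherent) (i : ℤ) : (P.homology i).IsQuasicoherent := by
  haveI := h (i - 1)
  haveI := isQuasicoherent_cycles P h i
  haveI : (cokernel (P.toCycles (i - 1) i)).IsQuasicoherent := isQuasicoherent_cokernel _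
  exact Groth.Agent.Lib.Helper23.TensorQCoh.isQuasicoherent_of_iso (homologyIsoCokernel' P i).symm

lemma isFiniteType_homology [IsLocallyNoetherian X] (P : CochainComplex X.Modules ℤ)
    (h : ∀ i, (P.X i).IsQuasicoherent)
    (hft : ∀ i, SheafOfModules.IsFiniteType (R := X.ringCatSheaf) (P.X i)) (i : ℤ) :
    SheafOfModules.IsFiniteType (R := X.ringCatSheaf) (P.homology i) := by
  haveI := h i
  haveI := hft i
  haveI := isQuasicoherent_cycles P h i
  haveI := isQuasicoherent_homology P h i
  haveI : SheafOfModules.IsFiniteType (R := X.ringCatSheaf) (P.cycles i) :=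
    isFiniteType_of_mono (P.iCycles i)
  exact isFiniteType_of_epi (P.homologyπ i)


/-- local presentations of the cohomology sheaves of a perfect object -/
lemma exists_opens_homology_iso (E : DCoh.D X) (hE : DCoh.IsPerfect E) (x : X) :
    ∃ V : X.Opens, x ∈ V ∧ ∃ P : CochainComplex (V : Scheme.{u}).Modules ℤ,
      DCoh.IsStrictlyPerfect P ∧ ∀ k : ℤ, Nonempty ((DCoh.HD E k).restrict V.ι ≅ P.homology k) := by
  obtain ⟨V, hxV, P, hP, ⟨a⟩⟩ := ((isPerfect_iff_hasPres E).1 hE x).exists_opens
  exact ⟨V, hxV, P, hP, fun k => ⟨(homologyResDIso V.ι E k).symm ≪≫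
    (DerivedCategory.homologyFunctor (V : Scheme.{u}).Modules k).mapIso a ≪≫
      (DerivedCategory.homologyFunctorFactors (V : Scheme.{u}).Modules k).app P⟩⟩

open Groth.Agent.Helper18Strict Groth.Agent.Lib.Helper2.LocFree in
/-- S1006, first part -/
theorem isCohD_of_isPerfect [IsNoetherian X] (E : DCoh.D X) (hE : DCoh.IsPerfect E) :
    DCoh.IsCohD E := by
  intro i
  choose V hxV P hP hiso using fun x => exists_opens_homology_iso E hE x
  have hcov : TopologicalSpace.IsOpenCover V := by
    rw [TopologicalSpace.IsOpenCover, eq_top_iff]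
    intro x _
    exact TopologicalSpace.Opens.mem_iSup.2 ⟨x, hxV x⟩
  have hPq : ∀ x k, ((P x).X k).IsQuasicoherent := fun x k =>
    isQCoh_of_isFP _ (isFP_of_isFinLocFree _ ((hP x).2 k))
  have hPft : ∀ x k, SheafOfModules.IsFiniteType (R := (V x : Scheme.{u}).ringCatSheaf) ((P x).X k) :=
    fun x k => isFT_of_isFP _ (isFP_of_isFinLocFree _ ((hP x).2 k))
  have hq : ∀ x, ((DCoh.HD E i).restrict (V x).ι).IsQuasicoherent := fun x => by
    obtain ⟨e⟩ := hiso x i
    haveI := isQuasicoherent_homology (P x) (hPq x) i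
    exact Groth.Agent.Lib.Helper23.TensorQCoh.isQuasicoherent_of_iso e.symm
  haveI : (DCoh.HD E i).IsQuasicoherent := isQuasicoherent_of_open_cover _ V hcov hq
  refine ⟨inferInstance, isFiniteType_of_open_cover _ V hcov (fun x => ?_)⟩
  obtain ⟨e⟩ := hiso x i
  haveI := isFiniteType_homology (P x) (hPq x) (hPft x) i
  exact isFiniteType_of_iso e.symm

/-- S1006, second part -/
theorem exists_isGE_isLE_of_isPerfect [CompactSpace X] (E : DCoh.D X) (hE : DCoh.IsPerfect E) :
    ∃ a b : ℤ, E.IsGE a ∧ E.IsLE b := by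
  choose V hxV P hP hiso using fun x => exists_opens_homology_iso E hE x
  choose a b hab using fun x => (hP x).1
  obtain ⟨t, ht⟩ := isCompact_univ.elim_finite_subcover (fun x => (V x : Set X))
    (fun x => (V x).isOpen) (fun x _ => Set.mem_iUnion.2 ⟨x, hxV x⟩)
  obtain ⟨a₁, ha₁⟩ := (t.image (fun x => - a x)).exists_le
  obtain ⟨a₀, ha₀⟩ : ∃ a₀ : ℤ, ∀ i ∈ t.image a, a₀ ≤ i := ⟨-a₁, fun i hi => by
    obtain ⟨x, hx, rfl⟩ := Finset.mem_image.1 hi
    have := ha₁ _ (Finset.mem_image_of_mem (fun x => - a x) hx)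
    omega⟩
  obtain ⟨b₀, hb₀⟩ := (t.image b).exists_le
  have hz : ∀ k : ℤ, (k < a₀ ∨ b₀ < k) → IsZero (DCoh.HD E k) := by
    intro k hk
    refine isZero_of_isZero_restrict (fun x : t => ((V x.1 : X.Opens) : Scheme.{u}))
      (fun x => (V x.1).ι) (fun y => ?_) (fun x => ?_)
    · have hy := ht (Set.mem_univ y)
      simp only [Set.mem_iUnion] at hy
      obtain ⟨x, hxt, hyx⟩ := hy
      exact ⟨⟨x, hxt⟩, ⟨y, hyx⟩, rfl⟩
    · obtain ⟨e⟩ := hiso x.1 k
      have h1 : a₀ ≤ a x.1 := ha₀ _ (Finset.mem_image_of_mem a x.2)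
      have h2 : b x.1 ≤ b₀ := hb₀ _ (Finset.mem_image_of_mem b x.2)
      have hzX : IsZero ((P x.1).X k) := hab x.1 k (by omega)
      exact IsZero.of_iso (IsZero.of_epi ((P x.1).homologyπ k)
        (IsZero.of_mono ((P x.1).iCycles k) hzX)) e
  exact ⟨a₀, b₀, (DerivedCategory.isGE_iff E a₀).2 (fun k hk => hz k (Or.inl hk)),
    (DerivedCategory.isLE_iff E b₀).2 (fun k hk => hz k (Or.inr hk))⟩

end Groth.Agent.Lib.Helper1.SPL
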