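import Mathlib
import Groth.Agent.Lib.Helper1PC16
set_option backward.isDefEq.respectTransparency.types false

/-!
# Global sections on a scheme with a point whose only neighbourhood is the whole space (helper1)
-/

set_option autoImplicit false
set_option linter.style.haveILetI false
universe u
open CategoryTheory CategoryTheory.Limits AlgebraicGeometry TopologicalSpace Opposite

namespace Groth.Agent.Lib.Helper1.Fib

open Groth.Agent.Lib.Helper1.Sky Groth.Agent.Lib.Helper1.StalkTensor

variable {S : Scheme.{u}}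

/-- the global sections functor, with values in modules over the ring of global functions -/
noncomputable abbrev ΓT (S : Scheme.{u}) : S.Modules ⥤ ModuleCat.{u} (Coh.Γtop S) :=
  SheafOfModules.evaluation S.ringCatSheaf (op ⊤)

example (M : S.Modules) : (ΓT S).obj M = M.val.obj (op ⊤) := rfl

instance additive_ΓT : (ΓT S).Additive :=
  Functor.instAdditiveComp (F := SheafOfModules.forget S.ringCatSheaf)
    (G := PresheafOfModules.evaluation.{u} S.ringCatSheaf.obj (op (⊤ : S.Opens)))

variable (pt : S) (hpt : ∀ W : S.Opens, pt ∈ W → W = ⊤)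

include hpt in
lemma gm_top_injective (M : S.Modules) :
    Function.Injective (gm (toPM M) pt ⊤ trivial) := by
  intro s s' h
  obtain ⟨W, hW, i₁, i₂, h'⟩ := gm_eq (U := ⊤) (V := ⊤) trivial trivial s s' h
  obtain rfl := hpt W hW
  have e1 : i₁ = 𝟙 _ := Subsingleton.elim _ _
  have e2 : i₂ = 𝟙 _ := Subsingleton.elim _ _
  subst e1 e2
  have hid : ∀ t : (toPM M).obj (op ⊤), rs (toPM M) (𝟙 (⊤ : Opens S)) t = t := fun t => by
    change ((toPM M).presheaf.map (𝟙 (⊤ : Opens S)).op).hom t = t
    rw [op_id, CategoryTheory.Functor.map_id]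
    rfl
  rw [hid, hid] at h'
  exact h'

include hpt in
lemma gm_top_surjective (M : S.Modules) :
    Function.Surjective (gm (toPM M) pt ⊤ trivial) := by
  intro a
  obtain ⟨W, hW, p, rfl⟩ := exists_gm_eq a
  obtain rfl := hpt W hW
  exact ⟨p, rfl⟩

include hpt in
/-- global sections are exact -/
theorem shortExact_map_ΓT (T : ShortComplex S.Modules) (hT : T.ShortExact) :
    (T.map (ΓT S)).ShortExact := by
  obtain ⟨h1, h2, h3⟩ := stalk_shortExact pt T hT
  have hf : ∀ s, sm (toPMMap T.f) pt (gm (toPM T.X₁) pt ⊤ trivial s) =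
      gm (toPM T.X₂) pt ⊤ trivial (T.f.val.app (op ⊤) s) := fun s => sm_gm _ _ _
  have hg : ∀ s, sm (toPMMap T.g) pt (gm (toPM T.X₂) pt ⊤ trivial s) =
      gm (toPM T.X₃) pt ⊤ trivial (T.g.val.app (op ⊤) s) := fun s => sm_gm _ _ _
  have hmono : Function.Injective ((ΓT S).map T.f).hom := by
    intro s s' h
    apply gm_top_injective pt hpt
    apply h1
    rw [hf, hf]
    exact congrArg _ h
  have hepi : Function.Surjective ((ΓT S).map T.g).hom := by
    intro t
    obtain ⟨a, ha⟩ := h2 (gm (toPM T.X₃) pt ⊤ trivial t)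
    obtain ⟨s, rfl⟩ := gm_top_surjective pt hpt _ a
    refine ⟨s, gm_top_injective pt hpt _ ?_⟩
    rw [← ha, hg]
    rfl
  have hex : Function.Exact ((ΓT S).map T.f).hom ((ΓT S).map T.g).hom := by
    intro s
    constructor
    · intro hs
      have h4 : sm (toPMMap T.g) pt (gm (toPM T.X₂) pt ⊤ trivial s) = 0 := by
        rw [hg]
        have : T.g.val.app (op ⊤) s = 0 := hs
        rw [this, map_zero]
      obtain ⟨a, ha⟩ := (h3 _).1 h4
      obtain ⟨r, rfl⟩ := gm_top_surjective pt hpt _ a
      refine ⟨r, gm_top_injective pt hpt _ ?_⟩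
      rw [← ha, hf]
      rfl
    · rintro ⟨r, rfl⟩
      have := T.zero
      have h5 : (ΓT S).map T.f ≫ (ΓT S).map T.g = 0 := by
        rw [← Functor.map_comp, T.zero, Functor.map_zero]
      exact congrArg (fun φ => φ.hom r) h5
  haveI : Mono (T.map (ΓT S)).f := (ModuleCat.mono_iff_injective _).2 hmono
  haveI : Epi (T.map (ΓT S)).g := (ModuleCat.epi_iff_surjective _).2 hepi
  exact ⟨(ShortComplex.ShortExact.moduleCat_exact_iff_function_exact _).2 hex⟩

include hpt in
theorem preservesHomology_ΓT : (ΓT S).PreservesHomology :=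
  ((Functor.exact_tfae (ΓT S)).out 0 2).1 (fun T hT => shortExact_map_ΓT pt hpt T hT)


include hpt in
/-- global sections commute with homology -/
lemma nonempty_homology_ΓT_iso (K : CochainComplex S.Modules ℤ) (i : ℤ) :
    Nonempty ((((ΓT S).mapHomologicalComplex (ComplexShape.up ℤ)).obj K).homology i ≅
      (ΓT S).obj (K.homology i)) := by
  haveI := preservesHomology_ΓT pt hpt
  exact ⟨(K.sc i).mapHomologyIso (ΓT S)⟩

/-- on the spectrum of a field, the only open containing the point is the whole space -/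
lemma opens_eq_top_of_mem_of_subsingleton [Subsingleton S] (pt : S) (W : S.Opens) (h : pt ∈ W) :
    W = ⊤ := by
  ext y
  have hy : y = pt := Subsingleton.elim _ _
  subst hy
  simp [h]

end Groth.Agent.Lib.Helper1.Fib
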