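import Mathlib
set_option backward.isDefEq.respectTransparency.types false

/-!
# The Euler–Poincaré formula for bounded complexes of finite dimensional vector spaces (helper1)
-/

set_option autoImplicit false
set_option linter.style.haveILetI false
universe u
open CategoryTheory CategoryTheory.Limits

namespace Groth.Agent.Lib.Helper1.Fib

section

variable {k : Type u} [Field k]

lemma finrank_eq_zero_of_isZero (M : ModuleCat.{u} k) (h : IsZero M) : Module.finrank k M = 0 := by
  haveI : Subsingleton M := ModuleCat.subsingleton_of_isZero h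
  exact Module.finrank_zero_of_subsingleton

lemma finrank_add_of_shortExact (T : ShortComplex (ModuleCat.{u} k)) (hT : T.ShortExact)
    [Module.Finite k T.X₁] [Module.Finite k T.X₃] :
    Module.finrank k T.X₂ = Module.finrank k T.X₁ + Module.finrank k T.X₃ :=
  ModuleCat.free_shortExact_finrank_add hT rfl rfl

lemma finite_of_mono {M N : ModuleCat.{u} k} (f : M ⟶ N) [Mono f] [Module.Finite k N] :
    Module.Finite k M :=
  Module.Finite.of_injective f.hom ((ModuleCat.mono_iff_injective f).1 inferInstance)

lemma finite_of_epi {M N : ModuleCat.{u} k} (f : M ⟶ N) [Epi f] [Module.Finite k M] :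
    Module.Finite k N :=
  Module.Finite.of_surjective f.hom ((ModuleCat.epi_iff_surjective f).1 inferInstance)

/-- the Euler–Poincaré formula -/
theorem euler_poincare (C : CochainComplex (ModuleCat.{u} k) ℤ) (a b : ℤ)
    (hC : ∀ i, (i < a ∨ b < i) → IsZero (C.X i)) (hfin : ∀ i, Module.Finite k (C.X i)) :
    ∑ᶠ i : ℤ, (i.negOnePow : ℤ) * (Module.finrank k (C.homology i) : ℤ) =
      ∑ᶠ i : ℤ, (i.negOnePow : ℤ) * (Module.finrank k (C.X i) : ℤ) := by
  -- finiteness
  haveI := hfin
  haveI hZ : ∀ i, Module.Finite k (C.cycles i) := fun i => finite_of_mono (C.iCycles i)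
  haveI hH : ∀ i, Module.Finite k (C.homology i) := fun i => finite_of_epi (C.homologyπ i)
  haveI hB : ∀ i, Module.Finite k (kernel (C.homologyπ i) : ModuleCat.{u} k) := fun i =>
    finite_of_mono (kernel.ι (C.homologyπ i))
  -- first short exact sequence
  have ses1 : ∀ i, Module.finrank k (C.cycles i) =
      Module.finrank k (kernel (C.homologyπ i) : ModuleCat.{u} k) +
        Module.finrank k (C.homology i) := fun i => by
    let T := ShortComplex.mk (kernel.ι (C.homologyπ i)) (C.homologyπ i) (kernel.condition _)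
    have hT : T.ShortExact :=
      { exact := ShortComplex.exact_kernel (C.homologyπ i)
        mono_f := inferInstanceAs (Mono (kernel.ι (C.homologyπ i)))
        epi_g := inferInstanceAs (Epi (C.homologyπ i)) }
    exact finrank_add_of_shortExact T hT
  -- second short exact sequence
  have ses2 : ∀ i, Module.finrank k (C.X i) = Module.finrank k (C.cycles i) +
      Module.finrank k (kernel (C.homologyπ (i + 1)) : ModuleCat.{u} k) := fun i => by
    have w : C.toCycles i (i + 1) ≫ C.homologyπ (i + 1) = 0 := C.toCycles_comp_homologyπ i (i + 1)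
    let S₀ := ShortComplex.mk _ _ w
    have hS₀ : S₀.Exact := ShortComplex.exact_of_g_is_cokernel S₀
      (C.homologyIsCokernel i (i + 1) (by simp))
    let l : C.X i ⟶ kernel (C.homologyπ (i + 1)) := kernel.lift S₀.g S₀.f S₀.zero
    haveI : Epi l := S₀.exact_iff_epi_kernel_lift.1 hS₀
    have hl : l ≫ kernel.ι (C.homologyπ (i + 1)) = C.toCycles i (i + 1) := kernel.lift_ι _ _ _
    have e1 : kernel l ≅ kernel (C.d i (i + 1)) := by
      have h3 : (l ≫ kernel.ι (C.homologyπ (i + 1))) ≫ C.iCycles (i + 1) = C.d i (i + 1) := by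
        rw [hl]
        exact C.toCycles_i i (i + 1)
      exact (kernelCompMono l (kernel.ι (C.homologyπ (i + 1)))).symm ≪≫
        (kernelCompMono (l ≫ kernel.ι (C.homologyπ (i + 1))) (C.iCycles (i + 1))).symm ≪≫
        kernelIsoOfEq h3
    have e2 : kernel (C.d i (i + 1)) ≅ C.cycles i :=
      IsLimit.conePointUniqueUpToIso (kernelIsKernel (C.d i (i + 1)))
        (C.cyclesIsKernel i (i + 1) (by simp))
    have e : kernel l ≅ C.cycles i := e1 ≪≫ e2
    haveI : Module.Finite k (kernel l : ModuleCat.{u} k) := finite_of_mono (kernel.ι l)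
    let T := ShortComplex.mk (kernel.ι l) l (kernel.condition _)
    have hT : T.ShortExact :=
      { exact := ShortComplex.exact_kernel l
        mono_f := inferInstanceAs (Mono (kernel.ι l))
        epi_g := inferInstanceAs (Epi l) }
    have h4 := finrank_add_of_shortExact T hT
    have h5 : Module.finrank k (kernel l : ModuleCat.{u} k) = Module.finrank k (C.cycles i) :=
      LinearEquiv.finrank_eq e.toLinearEquiv
    rw [← h5]
    exact h4
  -- vanishing
  have vX : ∀ i, (i < a ∨ b < i) → Module.finrank k (C.X i) = 0 := fun i hi =>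
    finrank_eq_zero_of_isZero _ (hC i hi)
  have vZ : ∀ i, (i < a ∨ b < i) → IsZero (C.cycles i) := fun i hi =>
    IsZero.of_mono (C.iCycles i) (hC i hi)
  have vH : ∀ i, (i < a ∨ b < i) → Module.finrank k (C.homology i) = 0 := fun i hi =>
    finrank_eq_zero_of_isZero _ (IsZero.of_epi (C.homologyπ i) (vZ i hi))
  have vB : ∀ i, (i < a ∨ b < i) →
      Module.finrank k (kernel (C.homologyπ i) : ModuleCat.{u} k) = 0 := fun i hi =>
    finrank_eq_zero_of_isZero _ (IsZero.of_mono (kernel.ι (C.homologyπ i)) (vZ i hi))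
  -- the computation
  let β : ℤ → ℤ := fun i => (Module.finrank k (kernel (C.homologyπ i) : ModuleCat.{u} k) : ℤ)
  let g : ℤ → ℤ := fun i => (i.negOnePow : ℤ) * β i
  let hh : ℤ → ℤ := fun i => (i.negOnePow : ℤ) * (Module.finrank k (C.homology i) : ℤ)
  have key : ∀ i : ℤ, (i.negOnePow : ℤ) * (Module.finrank k (C.X i) : ℤ) =
      hh i + (g i - g (i + 1)) := fun i => by
    have h1 := ses1 i
    have h2 := ses2 i
    have h3 : ((i + 1).negOnePow : ℤ) = - (i.negOnePow : ℤ) := by
      rw [Int.negOnePow_succ]
      simp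
    simp only [hh, g, β, h3]
    rw [h2, h1]
    push_cast
    ring
  have fin_hh : (Function.support hh).Finite := by
    refine (Set.finite_Icc a b).subset (fun i hi => ?_)
    by_contra hcon
    simp only [Set.mem_Icc, not_and_or, not_le] at hcon
    exact hi (by simp only [hh]; rw [vH i hcon]; simp)
  have fin_g : (Function.support g).Finite := by
    refine (Set.finite_Icc a b).subset (fun i hi => ?_)
    by_contra hcon
    simp only [Set.mem_Icc, not_and_or, not_le] at hcon
    exact hi (by simp only [g, β]; rw [vB i hcon]; simp)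
  have fin_g' : (Function.support (fun i => g (i + 1))).Finite := by
    refine (Set.finite_Icc (a - 1) (b - 1)).subset (fun i hi => ?_)
    by_contra hcon
    simp only [Set.mem_Icc, not_and_or, not_le] at hcon
    exact hi (by
      simp only [g, β]
      rw [vB (i + 1) (by omega)]
      simp)
  have hshift : ∑ᶠ i : ℤ, g (i + 1) = ∑ᶠ i : ℤ, g i :=
    finsum_comp_equiv (Equiv.addRight (1 : ℤ)) (f := g)
  calc ∑ᶠ i : ℤ, (i.negOnePow : ℤ) * (Module.finrank k (C.homology i) : ℤ)
      = ∑ᶠ i : ℤ, hh i := rfl
    _ = ∑ᶠ i : ℤ, hh i + (∑ᶠ i : ℤ, g i - ∑ᶠ i : ℤ, g (i + 1)) := by rw [hshift]; ring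
    _ = ∑ᶠ i : ℤ, hh i + ∑ᶠ i : ℤ, (g i - g (i + 1)) := by
        rw [finsum_sub_distrib fin_g fin_g']
    _ = ∑ᶠ i : ℤ, (hh i + (g i - g (i + 1))) := by
        rw [finsum_add_distrib fin_hh]
        exact (fin_g.union fin_g').subset (Function.support_sub _ _)
    _ = ∑ᶠ i : ℤ, (i.negOnePow : ℤ) * (Module.finrank k (C.X i) : ℤ) :=
        finsum_congr (fun i => (key i).symm)

end

end Groth.Agent.Lib.Helper1.Fib

namespace Groth.Agent.Lib.Helper1.Fib

/-- the Euler–Poincaré formula over a ring which is a field -/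
theorem euler_poincare' {k : Type u} [Ring k] (hk : IsField k)
    (C : CochainComplex (ModuleCat.{u} k) ℤ) (a b : ℤ)
    (hC : ∀ i, (i < a ∨ b < i) → IsZero (C.X i)) (hfin : ∀ i, Module.Finite k (C.X i)) :
    ∑ᶠ i : ℤ, (i.negOnePow : ℤ) * (Module.finrank k (C.homology i) : ℤ) =
      ∑ᶠ i : ℤ, (i.negOnePow : ℤ) * (Module.finrank k (C.X i) : ℤ) := by
  letI := hk.toField
  exact euler_poincare C a b hC hfin

end Groth.Agent.Lib.Helper1.Fib
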