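import Mathlib
import Groth.Agent.Lib.Helper1PC16
import Groth.Agent.Lib.Helper1Fib1
import Groth.Agent.Lib.Helper1Fib2
set_option backward.isDefEq.respectTransparency.types false

set_option autoImplicit false
set_option linter.style.haveILetI false
universe u
open CategoryTheory CategoryTheory.Limits AlgebraicGeometry TopologicalSpace Opposite

attribute [local instance] HasDerivedCategory.standard

namespace Groth.Agent.Lib.Helper1.Fib

open Groth.Agent.Lib.Helper1.Sky Groth.Agent.Lib.Helper1.StalkTensor Groth.Agent.Lib.Helper1.SPL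

section pb

variable {X Y : Scheme.{u}} (f : X ⟶ Y)

instance final_opensMap' : (TopologicalSpace.Opens.map f.base).Final := by
  apply Functor.final_of_exists_of_isFiltered
  · intro U
    exact ⟨⊤, ⟨homOfLE le_top⟩⟩
  · intro U V s s'
    exact ⟨V, 𝟙 V, Subsingleton.elim _ _⟩

instance isRightAdjoint_pushforward' :
    (SheafOfModules.pushforward.{u} f.toRingCatSheafHom).IsRightAdjoint :=
  inferInstanceAs ((Scheme.Modules.pushforward f).IsRightAdjoint)

theorem isIso_pullbackObjUnitToUnit' {X Y : Scheme.{u}} (f : X ⟶ Y) :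
    IsIso (SheafOfModules.pullbackObjUnitToUnit.{u} f.toRingCatSheafHom) := by
  infer_instance

/-- the canonical map `f^* O_Y ⟶ O_X` -/
noncomputable def pullbackUnitHom' :
    (Scheme.Modules.pullback f).obj (Coh.structureModule Y) ⟶ Coh.structureModule X :=
  SheafOfModules.pullbackObjUnitToUnit.{u} f.toRingCatSheafHom

instance isIso_pullbackUnitHom' : IsIso (pullbackUnitHom' f) := isIso_pullbackObjUnitToUnit' f

/-- `f^* O_Y ≅ O_X` -/
noncomputable def pullbackUnitIso' :
    (Scheme.Modules.pullback f).obj (Coh.structureModule Y) ≅ Coh.structureModule X :=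
  asIso (pullbackUnitHom' f)

/-- `f^* O_Y^n ≅ O_X^n` -/
noncomputable def pullbackFreeModIso (n : ℕ) :
    (Scheme.Modules.pullback f).obj (FlatMod.freeMod Y n) ≅ FlatMod.freeMod X n :=
  PreservesCoproduct.iso (Scheme.Modules.pullback f) (fun _ : Fin n => Coh.structureModule Y) ≪≫
    Sigma.mapIso (fun _ => pullbackUnitIso' f)

end pb


section free

open Groth.Agent.Lib.Helper20.LocFree Groth.Agent.Lib.Helper20.PullbackAff Groth.Agent.Lib.Helper20.Thickening

/-- global sections of a free module of rank `n` on an affine scheme -/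
lemma finrank_sections_of_iso_freeMod {S : Scheme.{u}} [IsAffine S] [Nontrivial Γ(S, ⊤)]
    (N : S.Modules) (n : ℕ) (e : N ≅ FlatMod.freeMod S n) :
    Module.Finite Γ(S, ⊤) Γ(N, ⊤) ∧ Module.finrank Γ(S, ⊤) Γ(N, ⊤) = n := by
  have hV : IsAffineOpen (⊤ : S.Opens) := isAffineOpen_top S
  let e1 : Γ(N, ⊤) ≃ₗ[Γ(S, ⊤)] (ΓUF hV).obj N := ΓUEquiv hV N
  let e2 : (ΓUF hV).obj N ≃ₗ[Γ(S, ⊤)] (ΓUF hV).obj (FlatMod.freeMod S n) :=
    ((ΓUF hV).mapIso e).toLinearEquiv
  let e3 : (ΓUF hV).obj (FlatMod.freeMod S n) ≃ₗ[Γ(S, ⊤)] (Fin n →₀ Γ(S, ⊤)) :=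
    (ΓUFFreeModIso n hV).toLinearEquiv
  let E := e1.trans (e2.trans e3)
  refine ⟨Module.Finite.equiv E.symm, ?_⟩
  rw [LinearEquiv.finrank_eq E, Module.finrank_finsupp_self, Fintype.card_fin]

end free


section lpull

variable {X : Scheme.{u}}

/-- restriction of complexes along an open immersion is the termwise pullback -/
noncomputable def resCIsoPullC {U : Scheme.{u}} (j : U ⟶ X) [IsOpenImmersion j] : resC j ≅ pullC j :=
  NatIso.mapHomologicalComplex (Scheme.Modules.restrictFunctorIsoPullback j) (ComplexShape.up ℤ)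

attribute [local instance] Groth.Agent.Lib.Helper23.QCohLocal.restrictFunctor_isRightAdjoint in
instance preservesFiniteLimits_pullback_of_isOpenImmersion {U : Scheme.{u}} (j : U ⟶ X)
    [IsOpenImmersion j] : PreservesFiniteLimits (Scheme.Modules.pullback j) :=
  Limits.preservesFiniteLimits_of_natIso (Scheme.Modules.restrictFunctorIsoPullback j)

/-- the derived pullback along an open immersion is the restriction -/
lemma nonempty_lpull_iso_resD {U : Scheme.{u}} (j : U ⟶ X) [IsOpenImmersion j] [DCoh.HasLpull j]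
    (E : DCoh.D X) : Nonempty ((DCoh.Lpull j).obj E ≅ (resD j).obj E) := by
  let F₀ : CochainComplex X.Modules ℤ := DerivedCategory.Q.objPreimage E
  let e₀ : DCoh.toD X F₀ ≅ E := DerivedCategory.Q.objObjPreimageIso E
  exact ⟨(DCoh.Lpull j).mapIso e₀.symm ≪≫ lpullIsoOfExact j F₀ ≪≫
    DerivedCategory.Q.mapIso ((resCIsoPullC j).app F₀).symm ≪≫ ((facD j).app F₀).symm ≪≫
      (resD j).mapIso e₀⟩

/-- the derived pullback of an object which is locally a strictly perfect complex `P`, along a
morphism factoring through the open where `P` is defined, is the termwise pullback of `P` -/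
theorem nonempty_lpull_iso_of_factor (E : DCoh.D X) {U : Scheme.{u}} (j : U ⟶ X)
    [IsOpenImmersion j] (P : CochainComplex U.Modules ℤ) (hP : DCoh.IsStrictlyPerfect P)
    (a : (resD j).obj E ≅ DerivedCategory.Q.obj P)
    {T : Scheme.{u}} (g : T ⟶ X) (g' : T ⟶ U) (hg : g' ≫ j = g) [DCoh.HasLpull g] :
    Nonempty ((DCoh.Lpull g).obj E ≅ DerivedCategory.Q.obj ((pullC g').obj P)) := by
  subst hg
  haveI : DCoh.HasLpull g' := hasLpull _
  haveI : DCoh.HasLpull j := hasLpull _
  obtain ⟨c⟩ := nonempty_lpull_comp_iso g' j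
  obtain ⟨b⟩ := nonempty_lpull_iso_resD j E
  exact ⟨(c.app E).symm ≪≫ (DCoh.Lpull g').mapIso (b ≪≫ a) ≪≫
    lpullIso g' P (kffs_of_isStrictlyPerfect P hP)⟩

end lpull


section betti

variable {X : Scheme.{u}}

/-- the Betti numbers of `E` at `x` computed from a complex representing `L i_x^* E` -/
theorem betti_eq_finrank (E : DCoh.D X) (x : X) [DCoh.HasLpull (X.fromSpecResidueField x)]
    (K : CochainComplex (Spec (X.residueField x)).Modules ℤ)
    (e : (DCoh.Lpull (X.fromSpecResidueField x)).obj E ≅ DerivedCategory.Q.obj K) (i : ℤ) :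
    PerfD.betti E x i = Module.finrank (Coh.Γtop (Spec (X.residueField x)))
      ((((ΓT (Spec (X.residueField x))).mapHomologicalComplex (ComplexShape.up ℤ)).obj K).homology i) := by
  have hpt : ∀ W : (Spec (X.residueField x)).Opens,
      (default : Spec (X.residueField x)) ∈ W → W = ⊤ :=
    fun W h => opens_eq_top_of_mem_of_subsingleton _ W h
  obtain ⟨e1⟩ := nonempty_homology_ΓT_iso default hpt K i
  let e2 : DCoh.HD ((DCoh.Lpull (X.fromSpecResidueField x)).obj E) i ≅ K.homology i :=
    (DerivedCategory.homologyFunctor (Spec (X.residueField x)).Modules i).mapIso e ≪≫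
      (DerivedCategory.homologyFunctorFactors (Spec (X.residueField x)).Modules i).app K
  exact LinearEquiv.finrank_eq ((ΓT (Spec (X.residueField x))).mapIso e2 ≪≫ e1.symm).toLinearEquiv

/-- the ring of global functions on the spectrum of a residue field is a field -/
lemma isField_Γtop_residueField (x : X) : IsField (Coh.Γtop (Spec (X.residueField x))) :=
  MulEquiv.isField (Field.toIsField (X.residueField x))
    (Scheme.ΓSpecIso (X.residueField x)).commRingCatIsoToRingEquiv.toMulEquiv

end betti

end Groth.Agent.Lib.Helper1.Fib
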