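import Mathlib
import Groth.Agent.Lib.Helper1SPL1
import Groth.Agent.Lib.Helper1Fib3
import Groth.Agent.Lib.Helper12JHD
import Groth.Agent.Lib.Helper12PosE
import Groth.Agent.Lib.Helper12HilbPolyE
import Groth.Agent.Lib.Helper20CohLoc
import Groth.Agent.Lib.Helper19GVE
set_option backward.isDefEq.respectTransparency.types false

/-!
# Fibres of modules which are finite locally free near a point (helper12)

* `LFnear M x`: `M` is finite locally free on an open neighbourhood of `x`
* `mono_pullback_of_lfnear_cokernel`: the fibre functor at a point keeps a monomorphism whose cokernel is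
  locally free near the point injective
* `mono_pullback_arrow_of_chain`: same for the members of a chain with locally free factors
* `exists_isZero_restrict_of_isZero_pullback`: a module locally free near `x` with zero fibre vanishes near `x`
-/

set_option autoImplicit false
set_option linter.style.haveILetI false
set_option linter.unusedSectionVars false
set_option linter.unusedVariables false
universe u
open CategoryTheory CategoryTheory.Limits AlgebraicGeometry TopologicalSpace Opposite

namespace Groth.Agent.Lib.Helper12.XiA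

open StabCat

variable {X : Scheme.{u}}

/-- `M` is finite locally free on an open neighbourhood of `x` -/
def LFnear (M : X.Modules) (x : X) : Prop :=
  ∃ U : X.Opens, x ∈ U ∧ FlatMod.IsFinLocFree (M.restrict U.ι)

theorem LFnear.of_retract {M P : X.Modules} {x : X} (s : M ⟶ P) (r : P ⟶ M) (h : s ≫ r = 𝟙 M)
    (hP : LFnear P x) : LFnear M x := by
  obtain ⟨U, hxU, hU⟩ := hP
  refine ⟨U, hxU, ?_⟩
  refine Groth.Agent.Lib.Helper12.JHD.isFinLocFree_of_retract'
    ((Scheme.Modules.restrictFunctor U.ι).map s) ((Scheme.Modules.restrictFunctor U.ι).map r) ?_ hU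
  rw [← Functor.map_comp, h, CategoryTheory.Functor.map_id]

theorem LFnear.of_iso {M P : X.Modules} {x : X} (e : M ≅ P) (hP : LFnear P x) : LFnear M x :=
  LFnear.of_retract e.hom e.inv e.hom_inv_id hP

/-- the factors of a chain are retracts of the graded object -/
theorem LFnear.factor {E : X.Modules} (s : LTSeries (Subobject E)) {x : X} (h : LFnear (grObj s) x)
    (i : Fin s.length) : LFnear (factor s i) x := by
  classical
  let p : grObj s ⟶ StabCat.factor s i :=
    Sigma.desc (fun j => if hji : j = i then eqToHom (by rw [hji]) else 0)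
  refine LFnear.of_retract (Sigma.ι (fun j : Fin s.length => StabCat.factor s j) i) p ?_ h
  show Sigma.ι _ i ≫ Sigma.desc _ = _
  rw [Sigma.ι_desc, dif_pos rfl, eqToHom_refl]

section pull

variable {T : Scheme.{u}} (ξ : T ⟶ X) (x : X) (hξ : ∀ t : T, ξ.base t = x)

/-- a natural isomorphism between the fibre functor and restriction to an open followed by pullback -/
noncomputable def pullIso {W : Scheme.{u}} (j : W ⟶ X) [IsOpenImmersion j]
    (hj : Set.range ξ.base ⊆ Set.range j.base) :
    Scheme.Modules.pullback ξ ≅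
      Scheme.Modules.restrictFunctor j ⋙ Scheme.Modules.pullback (IsOpenImmersion.lift j ξ hj) :=
  Scheme.Modules.pullbackCongr (IsOpenImmersion.lift_fac j ξ hj).symm ≪≫
    (Scheme.Modules.pullbackComp (IsOpenImmersion.lift j ξ hj) j).symm ≪≫
    Functor.isoWhiskerRight (Scheme.Modules.restrictFunctorIsoPullback j).symm _

include hξ in
theorem range_subset {W : Scheme.{u}} (j : W ⟶ X) (hx : x ∈ Set.range j.base) :
    Set.range ξ.base ⊆ Set.range j.base := by
  rintro _ ⟨t, rfl⟩
  rw [hξ t]
  exact hx

include hξ in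
/-- the fibre functor keeps a monomorphism with cokernel locally free near the point injective -/
theorem mono_pullback_of_lfnear_cokernel {A B : X.Modules} (ι : A ⟶ B) [Mono ι]
    (hC : LFnear (cokernel ι) x) : Mono ((Scheme.Modules.pullback ξ).map ι) := by
  obtain ⟨U, hxU, hU⟩ := hC
  let R := Scheme.Modules.restrictFunctor U.ι
  haveI : Epi (R.map (cokernel.π ι)) := inferInstance
  obtain ⟨W, j, hj, hxW, ψ, hψ⟩ := Groth.Agent.Lib.Helper1.SPL.exists_lift_of_isFinLocFree hU
    (R.map (cokernel.π ι)) (𝟙 _) (⟨x, hxU⟩ : (U : Scheme.{u}))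
  haveI := hj
  let R' : X.Modules ⥤ W.Modules := R ⋙ Scheme.Modules.restrictFunctor j
  rw [CategoryTheory.Functor.map_id] at hψ
  let S : ShortComplex X.Modules := ShortComplex.mk ι (cokernel.π ι) (cokernel.condition ι)
  have hS : S.ShortExact :=
    { exact := ShortComplex.exact_cokernel ι
      mono_f := inferInstanceAs (Mono ι)
      epi_g := inferInstanceAs (Epi (cokernel.π ι)) }
  have hS' : (S.map R').ShortExact := hS.map_of_exact R'
  haveI := hS'.mono_f
  let spl : (S.map R').Splitting :=
    ShortComplex.Splitting.ofExactOfSection _ hS'.exact ψ hψ hS'.mono_f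
  have hr : R'.map ι ≫ spl.r = 𝟙 (R'.obj A) := spl.f_r
  -- the open immersion `W ⟶ X`
  let j' : W ⟶ X := j ≫ U.ι
  have hxj' : x ∈ Set.range j'.base := by
    obtain ⟨w, hw⟩ := hxW
    refine ⟨w, ?_⟩
    show U.ι.base (j.base w) = x
    have : j.base w = ⟨x, hxU⟩ := hw
    rw [this]
    rfl
  have hsub := range_subset ξ x hξ j' hxj'
  let ξ' := IsOpenImmersion.lift j' ξ hsub
  let τ := Scheme.Modules.restrictFunctorComp j U.ι
  let α : Scheme.Modules.pullback ξ ≅ R' ⋙ Scheme.Modules.pullback ξ' :=
    pullIso ξ j' hsub ≪≫ Functor.isoWhiskerRight τ _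
  haveI : Mono ((R' ⋙ Scheme.Modules.pullback ξ').map ι) := by
    refine (SplitMono.mk ((Scheme.Modules.pullback ξ').map spl.r) ?_).mono
    show (Scheme.Modules.pullback ξ').map (R'.map ι) ≫ (Scheme.Modules.pullback ξ').map spl.r = _
    rw [← Functor.map_comp, hr]
    exact CategoryTheory.Functor.map_id _ _
  have hnat : (Scheme.Modules.pullback ξ).map ι =
      α.hom.app A ≫ (R' ⋙ Scheme.Modules.pullback ξ').map ι ≫ α.inv.app B := by
    rw [← Category.assoc, ← α.hom.naturality ι, Category.assoc, Iso.hom_inv_id_app, Category.comp_id]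
  rw [hnat]
  infer_instance

include hξ in
/-- the members of a chain ending at `⊤` with factors locally free near the point have injective fibres -/
theorem mono_pullback_arrow_of_chain {F : X.Modules} (s : LTSeries (Subobject F)) (hlast : s.last = ⊤)
    (hs : ∀ i : Fin s.length, LFnear (factor s i) x) (i : Fin (s.length + 1)) :
    Mono ((Scheme.Modules.pullback ξ).map (s i).arrow) := by
  induction i using Fin.reverseInduction with
  | last =>
    have h : s (Fin.last s.length) = ⊤ := hlast
    rw [h]
    infer_instance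
  | cast i ih =>
    have hle : s i.castSucc ≤ s i.succ := le_of_lt (s.step i)
    have h1 : (s i.castSucc).arrow = Subobject.ofLE _ _ hle ≫ (s i.succ).arrow :=
      (Subobject.ofLE_arrow hle).symm
    rw [h1, Functor.map_comp]
    haveI := ih
    haveI : Mono ((Scheme.Modules.pullback ξ).map (Subobject.ofLE _ _ hle)) :=
      mono_pullback_of_lfnear_cokernel ξ x hξ (Subobject.ofLE _ _ hle) (hs i)
    exact mono_comp _ _

theorem isZero_freeMod_zero (Y : Scheme.{u}) : IsZero (FlatMod.freeMod Y 0) := by
  rw [IsZero.iff_id_eq_zero]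
  apply Sigma.hom_ext
  intro i
  exact i.elim0

theorem eq_zero_of_isZero_freeMod [Nonempty T] (n : ℕ) (h : IsZero (FlatMod.freeMod T n)) : n = 0 := by
  by_contra hn
  have hpos : 0 < n := Nat.pos_of_ne_zero hn
  classical
  let i0 : Fin n := ⟨0, hpos⟩
  let p : FlatMod.freeMod T n ⟶ Coh.structureModule T :=
    Sigma.desc (fun j => 𝟙 _)
  have hid : Sigma.ι (fun _ : Fin n => Coh.structureModule T) i0 ≫ p = 𝟙 _ := by
    show Sigma.ι _ i0 ≫ Sigma.desc _ = _
    rw [Sigma.ι_desc]
  have h0 : IsZero (Coh.structureModule T) := by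
    rw [IsZero.iff_id_eq_zero, ← hid, h.eq_of_tgt (Sigma.ι _ i0) 0, zero_comp]
  have h1 := Groth.Agent.Lib.Helper12.HPE.support_eq_empty_of_isZero h0
  rw [Groth.Agent.Lib.Helper12.Pos.support_structureModule] at h1
  obtain ⟨t⟩ := ‹Nonempty T›
  exact (Set.eq_empty_iff_forall_notMem.1 h1 t) trivial

include hξ in
/-- a module locally free near `x` whose fibre at `x` vanishes is zero near `x` -/
theorem exists_isZero_restrict_of_isZero_pullback [Nonempty T] {M : X.Modules} (hM : LFnear M x)
    (h0 : IsZero ((Scheme.Modules.pullback ξ).obj M)) :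
    ∃ (W : Scheme.{u}) (j : W ⟶ X) (_ : IsOpenImmersion j), Nonempty W ∧
      IsZero ((Scheme.Modules.restrictFunctor j).obj M) := by
  obtain ⟨U, hxU, hU⟩ := hM
  obtain ⟨V, n, hxV, ⟨e⟩⟩ := hU ⟨x, hxU⟩
  let j' : (V : Scheme.{u}) ⟶ X := V.ι ≫ U.ι
  have hxj' : x ∈ Set.range j'.base := ⟨⟨⟨x, hxU⟩, hxV⟩, rfl⟩
  have hsub := range_subset ξ x hξ j' hxj'
  let ξ' := IsOpenImmersion.lift j' ξ hsub
  let τ := Scheme.Modules.restrictFunctorComp V.ι U.ι
  let e' : (Scheme.Modules.restrictFunctor j').obj M ≅ FlatMod.freeMod (V : Scheme.{u}) n :=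
    τ.app M ≪≫ e
  let α := pullIso ξ j' hsub
  let β : (Scheme.Modules.pullback ξ).obj M ≅ FlatMod.freeMod T n :=
    α.app M ≪≫ (Scheme.Modules.pullback ξ').mapIso e' ≪≫
      Groth.Agent.Lib.Helper1.Fib.pullbackFreeModIso ξ' n
  have hn : n = 0 := eq_zero_of_isZero_freeMod n (IsZero.of_iso h0 β.symm)
  subst hn
  exact ⟨V, j', inferInstance, ⟨⟨⟨x, hxU⟩, hxV⟩⟩, IsZero.of_iso (isZero_freeMod_zero _) e'⟩

end pull

/-- on an irreducible scheme of dimension `d`, a module with support of dimension `d` is not zero on any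
nonempty open -/
theorem false_of_isZero_restrict [IrreducibleSpace X] (d : ℕ)
    (hX : topologicalKrullDim X = (d : WithBot ℕ∞)) {M : X.Modules}
    (hdim : topologicalKrullDim (CohB1.support M) = (d : WithBot ℕ∞))
    {W : Scheme.{u}} (j : W ⟶ X) [IsOpenImmersion j] [Nonempty W]
    (h0 : IsZero ((Scheme.Modules.restrictFunctor j).obj M)) : False := by
  have hsupp : CohB1.support M ⊆ (Set.range j.base)ᶜ :=
    (Groth.Agent.Lib.Helper20.CohLoc.isZero_restrict_iff j M).1 h0
  have hW : j.opensRange ≠ ⊥ := by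
    intro hbot
    obtain ⟨w⟩ := ‹Nonempty W›
    have : j.base w ∈ (j.opensRange : Set X) := ⟨w, rfl⟩
    rw [hbot] at this
    exact this
  have h1 := Groth.Agent.Lib.Helper19GV.dim_compl_lt j.opensRange hW d (by
    rw [hX]
    exact_mod_cast Nat.lt_succ_self d)
  have h2 : topologicalKrullDim (CohB1.support M) ≤
      topologicalKrullDim ((j.opensRange : Set X)ᶜ : Set X) :=
    Groth.Agent.Lib.Helper12.Pos.dim_le_of_subset' hsupp
  rw [hdim] at h2
  exact absurd (lt_of_le_of_lt h2 h1) (lt_irrefl _)

end Groth.Agent.Lib.Helper12.XiA
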