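import Mathlib
import Groth.Agent.Lib.Helper12XiFibreA
set_option backward.isDefEq.respectTransparency.types false

/-!
# A morphism of semistable sheaves with locally free graded objects which vanishes at a point is zero (helper12)
-/

set_option autoImplicit false
set_option linter.style.haveILetI false
set_option linter.unusedSectionVars false
set_option linter.unusedVariables false
universe u
open CategoryTheory CategoryTheory.Limits AlgebraicGeometry TopologicalSpace Opposite Polynomial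

namespace Groth.Agent.Lib.Helper12.XiB

open Groth.Agent.Lib.Helper4.Dev Groth.Agent.Lib.Helper4.CurveChi
  Groth.Agent.Lib.Helper12.Snap Groth.Agent.Lib.Helper12.Pos Groth.Agent.Lib.Helper12.HP
  Groth.Agent.Lib.Helper12.HPB Groth.Agent.Lib.Helper12.HPC Groth.Agent.Lib.Helper12.HPD
  Groth.Agent.Lib.Helper12.HPE Groth.Agent.Lib.Helper12.HPF Groth.Agent.Lib.Helper12.SubQ
  Groth.Agent.Lib.Helper12.SubQB Groth.Agent.Lib.Helper12.SubQC Groth.Agent.Lib.Helper12.SubQD
  Groth.Agent.Lib.Helper12.SubQE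
  Groth.Agent.Lib.Helper12.JHA Groth.Agent.Lib.Helper12.MDA Groth.Agent.Lib.Helper12.HNA
  Groth.Agent.Lib.Helper12.JHB Groth.Agent.Lib.Helper12.JHC Groth.Agent.Lib.Helper12.JHD
  Groth.Agent.Lib.Helper12.XiA StabCat

section cat

variable {C : Type*} [Category C] [Abelian C]

theorem isZero_of_eq_bot {E : C} (B : Subobject E) (hB : B = ⊥) : IsZero (B : C) := by
  subst hB
  exact IsZero.of_iso (isZero_zero C) Subobject.botCoeIsoZero

theorem isIso_cokernel_π_of_isZero {Z Y : C} (f : Z ⟶ Y) (hZ : IsZero Z) : IsIso (cokernel.π f) := by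
  have : f = 0 := hZ.eq_of_src _ _
  subst this
  infer_instance

theorem isZero_of_length_eq_zero {E : C} (s : LTSeries (Subobject E)) (h0 : s.head = ⊥) (h1 : s.last = ⊤)
    (hlen : s.length = 0) : IsZero E := by
  have h2 : s.head = s.last := by
    unfold RelSeries.head RelSeries.last
    congr 1
    apply Fin.ext
    simp [hlen]
  have h3 : (⊥ : Subobject E) = ⊤ := by rw [← h0, ← h1, h2]
  have h4 : IsZero ((⊤ : Subobject E) : C) := isZero_of_eq_bot _ h3.symm
  exact IsZero.of_iso h4 (asIso (⊤ : Subobject E).arrow).symm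

end cat

variable (k : Type u) [Field k] (X : Scheme.{u}) [X.Over (Spec (CommRingCat.of k))]
  [IsProper (X ↘ (Spec (CommRingCat.of k)))] (L : X.Modules) (hL : CohB1.IsAmple L) (d : ℕ)

include hL in
/-- variant of `jh_sub_quot` recording the concatenated filtration -/
theorem jh_sub_quot2 {E : X.Modules} (hE : ShStab.IsSemistable k X L E d) (sE : LTSeries (Subobject E))
    (hsE : ShStab.IsJHFiltration k X L E d sE) {G : X.Modules} (ι : G ⟶ E) [Mono ι] (hG : Coh.IsCoh G)
    {pG pE : ℚ[X]} (hpG : ShStab.IsHilbPoly k X L G pG) (hpE : ShStab.IsHilbPoly k X L E pE)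
    (hred : RedEq d pG pE) :
    ∃ (sG : LTSeries (Subobject G)) (sQ : LTSeries (Subobject (cokernel ι)))
      (h1 : sG.last = ⊤) (h0 : sQ.head = ⊥),
      ShStab.IsJHFiltration k X L G d sG ∧ ShStab.IsJHFiltration k X L (cokernel ι) d sQ ∧
      ShStab.IsJHFiltration k X L E d (concat ι sG sQ h1 h0) ∧
      sG.length + sQ.length = sE.length ∧
      Nonempty (grObj (concat ι sG sQ h1 h0) ≅ grObj sE) ∧
      (∃ (a : grObj sQ ⟶ grObj sE) (b : grObj sE ⟶ grObj sQ), a ≫ b = 𝟙 _) := by
  have hpE0 := alpha_pos_of_isSemistable k X L hL d hE hpE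
  have hGC : InC k X L d pE G := by
    by_cases hG0 : IsZero G
    · exact Or.inl hG0
    · exact Or.inr ⟨isSemistable_of_sub k X L hL d hpE0 hE hpE (redEq_refl d pE) ι hG hG0 hpG hred,
        fun p hp => by rw [hilbPoly_unique k X hp hpG]; exact hred⟩
  have hQC : InC k X L d pE (cokernel ι) :=
    inC_cokernel_of_mono k X L hL d hpE0 hE hpE (redEq_refl d pE) ι hG hpG hred
  obtain ⟨sG, hsG⟩ := exists_jh_of_inC k X L hL d hGC
  obtain ⟨sQ, hsQ⟩ := exists_jh_of_inC k X L hL d hQC
  obtain ⟨pQ, hpQ⟩ := exists_hilbPoly k X L hL.1 _ (hQC.coh k X L hL d)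
  have hu : ShStab.IsJHFiltration k X L E d (concat ι sG sQ hsG.2.1 hsQ.1) := by
    refine ⟨concat_head ι sG sQ _ _ hsG.1, concat_last ι sG sQ _ _ hsQ.2.1, fun i => ?_⟩
    refine Fin.addCases (motive := fun i =>
      ShStab.IsStable k X L (factor (concat ι sG sQ hsG.2.1 hsQ.1) i) d ∧
        ∀ p q : ℚ[X], ShStab.IsHilbPoly k X L (factor (concat ι sG sQ hsG.2.1 hsQ.1) i) p →
          ShStab.IsHilbPoly k X L E q → RedEq d p q) ?_ ?_ i
    · intro i'
      obtain ⟨e⟩ := nonempty_factor_concat_left ι sG sQ hsG.2.1 hsQ.1 i'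
      have hst := (hsG.2.2 i').1
      refine ⟨isStable_of_iso k X L hL d e.symm hst, fun p q hp hq => ?_⟩
      have hp' : ShStab.IsHilbPoly k X L (factor sG i') p := hilbPoly_of_iso k X L hL.1 e hp
      have h1 := (hsG.2.2 i').2 p pG hp' hpG
      rw [hilbPoly_unique k X hq hpE]
      have hG0 : ¬ IsZero G := fun h0 => hst.2.1 (isZero_factor_of_isZero h0 sG i')
      have h2 : 0 < alpha d pG :=
        alpha_pos_of_isSemistable k X L hL d (hGC.isSemistable k X L d hG0) hpG
      exact redEq_trans h2.ne' h1 hred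
    · intro j
      obtain ⟨e⟩ := nonempty_factor_concat_right ι sG sQ hsG.2.1 hsQ.1 j
      have hst := (hsQ.2.2 j).1
      refine ⟨isStable_of_iso k X L hL d e.symm hst, fun p q hp hq => ?_⟩
      have hp' : ShStab.IsHilbPoly k X L (factor sQ j) p := hilbPoly_of_iso k X L hL.1 e hp
      have h1 := (hsQ.2.2 j).2 p pQ hp' hpQ
      rw [hilbPoly_unique k X hq hpE]
      have hQ0 : ¬ IsZero (cokernel ι) := fun h0 => hst.2.1 (isZero_factor_of_isZero h0 sQ j)
      have h2 : 0 < alpha d pQ :=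
        alpha_pos_of_isSemistable k X L hL d (hQC.isSemistable k X L d hQ0) hpQ
      exact redEq_trans h2.ne' h1 (hQC.redEq k X L hL d hpQ)
  obtain ⟨hlen, ⟨φ⟩⟩ := jh_unique k X L d hL hE _ sE hu hsE
  obtain ⟨a', b', hab'⟩ := exists_retract_right ι sG sQ hsG.2.1 hsQ.1
  refine ⟨sG, sQ, hsG.2.1, hsQ.1, hsG, hsQ, hu, ?_, ⟨φ⟩, ⟨a' ≫ φ.hom, φ.inv ≫ b', ?_⟩⟩
  · rw [← hlen]
    rfl
  · rw [Category.assoc, Iso.hom_inv_id_assoc, hab']

variable [IrreducibleSpace X] (hX : topologicalKrullDim X = (d : WithBot ℕ∞))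
variable {T : Scheme.{u}} [Nonempty T] (ξ : T ⟶ X) (x : X) (hξ : ∀ t : T, ξ.base t = x)

include hL hX hξ in
/-- the stable case -/
theorem eq_zero_of_stable {E₁ F : X.Modules} (hE₁ : ShStab.IsStable k X L E₁ d) (hlf : LFnear E₁ x)
    (hF : ShStab.IsSemistable k X L F d) {p₁ pF : ℚ[X]} (hp₁ : ShStab.IsHilbPoly k X L E₁ p₁)
    (hpF : ShStab.IsHilbPoly k X L F pF) (hred : RedEq d p₁ pF)
    (sF : LTSeries (Subobject F)) (hsF : ShStab.IsJHFiltration k X L F d sF)
    (hgrF : LFnear (grObj sF) x) (g : E₁ ⟶ F) (hg : (Scheme.Modules.pullback ξ).map g = 0) : g = 0 := by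
  by_contra hg0
  haveI : Mono g := mono_of_stable k X L hL d hE₁ hF hp₁ hpF hred g hg0
  obtain ⟨sG, sQ, h1, h0, hsG, hsQ, hu, hlen, ⟨φ⟩, -⟩ :=
    jh_sub_quot2 k X L hL d hF sF hsF g hE₁.1 hp₁ hpF hred
  have hgru : LFnear (grObj (concat g sG sQ h1 h0)) x := LFnear.of_iso φ hgrF
  have hfac := LFnear.factor (concat g sG sQ h1 h0) hgru
  have hmono := mono_pullback_arrow_of_chain ξ x hξ (concat g sG sQ h1 h0) hu.2.1 hfac
    ((Fin.last sG.length).castLE (by rw [concat_length]; omega))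
  have hmem : (concat g sG sQ h1 h0) ((Fin.last sG.length).castLE (by rw [concat_length]; omega)) =
      Subobject.mk g := by
    have h2 := RelSeries.smash_castLE (junction g sG sQ h1 h0) (Fin.last sG.length)
    have h3 : (sG.map (Subobject.map g).obj (strictMono_map g)) (Fin.last sG.length) =
        (Subobject.map g).obj sG.last := rfl
    rw [h3, h1, Subobject.map_top] at h2
    exact h2
  rw [hmem] at hmono
  haveI := hmono
  haveI : Mono ((Scheme.Modules.pullback ξ).map g) := by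
    rw [← Subobject.underlyingIso_arrow g, Functor.map_comp]
    exact mono_comp _ _
  have hz : IsZero ((Scheme.Modules.pullback ξ).obj E₁) := IsZero.of_mono_eq_zero _ hg
  obtain ⟨W, j, hj, hWne, hzW⟩ := exists_isZero_restrict_of_isZero_pullback ξ x hξ hlf hz
  haveI := hj
  haveI := hWne
  exact false_of_isZero_restrict d hX (dim_eq_of_isPure hE₁.2.2.1 hE₁.1 hE₁.2.1) j hzW

include hL hX hξ in
theorem eq_zero_aux : ∀ (n : ℕ) (E F : X.Modules), ShStab.IsSemistable k X L E d →
    ShStab.IsSemistable k X L F d → ∀ (pE pF : ℚ[X]), ShStab.IsHilbPoly k X L E pE →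
    ShStab.IsHilbPoly k X L F pF → RedEq d pE pF → ∀ (sE : LTSeries (Subobject E)),
    ShStab.IsJHFiltration k X L E d sE → sE.length ≤ n → LFnear (grObj sE) x →
    ∀ (sF : LTSeries (Subobject F)), ShStab.IsJHFiltration k X L F d sF → LFnear (grObj sF) x →
    ∀ f : E ⟶ F, (Scheme.Modules.pullback ξ).map f = 0 → f = 0 := by
  intro n
  induction n with
  | zero =>
    intro E F hE hF pE pF hpE hpF hred sE hsE hlen hgrE sF hsF hgrF f hf
    exact absurd (isZero_of_length_eq_zero sE hsE.1 hsE.2.1 (Nat.le_zero.1 hlen)) hE.2.1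
  | succ n ih =>
    intro E F hE hF pE pF hpE hpF hred sE hsE hlen hgrE sF hsF hgrF f hf
    have hpos : 0 < sE.length := by
      rcases Nat.eq_zero_or_pos sE.length with h | h
      · exact absurd (isZero_of_length_eq_zero sE hsE.1 hsE.2.1 h) hE.2.1
      · exact h
    let i0 : Fin sE.length := ⟨0, hpos⟩
    have hbot : sE i0.castSucc = ⊥ := by
      have : i0.castSucc = 0 := Fin.ext (by simp [i0])
      rw [this]
      exact hsE.1
    have hz0 : IsZero ((sE i0.castSucc : Subobject E) : X.Modules) := isZero_of_eq_bot _ hbot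
    let e₁ : ((sE i0.succ : Subobject E) : X.Modules) ≅ factor sE i0 :=
      @asIso _ _ _ _ (cokernel.π (Subobject.ofLE (sE i0.castSucc) (sE i0.succ) (le_of_lt (sE.step i0))))
        (isIso_cokernel_π_of_isZero _ hz0)
    have hst : ShStab.IsStable k X L ((sE i0.succ : Subobject E) : X.Modules) d :=
      isStable_of_iso k X L hL d e₁.symm (hsE.2.2 i0).1
    obtain ⟨p₁, hp₁⟩ := exists_hilbPoly k X L hL.1 _ hst.1
    have hpE0 := alpha_pos_of_isSemistable k X L hL d hE hpE
    have hred₁ : RedEq d p₁ pE :=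
      (hsE.2.2 i0).2 p₁ pE (hilbPoly_of_iso k X L hL.1 e₁ hp₁) hpE
    have hred₁F : RedEq d p₁ pF := redEq_trans hpE0.ne' hred₁ hred
    have hlf₁ : LFnear ((sE i0.succ : Subobject E) : X.Modules) x :=
      LFnear.of_iso e₁ (LFnear.factor sE hgrE i0)
    let ι₁ := (sE i0.succ).arrow
    have hg : (Scheme.Modules.pullback ξ).map (ι₁ ≫ f) = 0 := by
      rw [Functor.map_comp, hf, Limits.comp_zero]
    have hg0 : ι₁ ≫ f = 0 :=
      eq_zero_of_stable k X L hL d hX ξ x hξ hst hlf₁ hF hp₁ hpF hred₁F sF hsF hgrF _ hg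
    let fbar : cokernel ι₁ ⟶ F := cokernel.desc ι₁ f hg0
    have hfac : cokernel.π ι₁ ≫ fbar = f := cokernel.π_desc _ _ _
    have hfbar : (Scheme.Modules.pullback ξ).map fbar = 0 := by
      haveI : Epi ((Scheme.Modules.pullback ξ).map (cokernel.π ι₁)) := inferInstance
      rw [← cancel_epi ((Scheme.Modules.pullback ξ).map (cokernel.π ι₁)), ← Functor.map_comp, hfac,
        hf, Limits.comp_zero]
    obtain ⟨sG, sQ, h1, h0, hsG, hsQ, hu, hlen', -, ⟨a, b, hab⟩⟩ :=
      jh_sub_quot2 k X L hL d hE sE hsE ι₁ hst.1 hp₁ hpE hred₁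
    have hsGpos : 0 < sG.length := by
      rcases Nat.eq_zero_or_pos sG.length with h | h
      · exact absurd (isZero_of_length_eq_zero sG hsG.1 hsG.2.1 h) hst.2.1
      · exact h
    have hQlen : sQ.length ≤ n := by omega
    by_cases hQ0 : IsZero (cokernel ι₁)
    · rw [← hfac, hQ0.eq_of_src fbar 0, Limits.comp_zero]
    · have hQC : InC k X L d pE (cokernel ι₁) :=
        inC_cokernel_of_mono k X L hL d hpE0 hE hpE (redEq_refl d pE) ι₁ hst.1 hp₁ hred₁
      have hQss := hQC.isSemistable k X L d hQ0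
      obtain ⟨pQ, hpQ⟩ := exists_hilbPoly k X L hL.1 _ hQss.1
      have hredQ : RedEq d pQ pF := redEq_trans hpE0.ne' (hQC.redEq k X L hL d hpQ) hred
      have := ih (cokernel ι₁) F hQss hF pQ pF hpQ hpF hredQ sQ hsQ hQlen
        (LFnear.of_retract a b hab hgrE) sF hsF hgrF fbar hfbar
      rw [← hfac, this, Limits.comp_zero]

include hL hX hξ in
/-- a morphism of semistable sheaves with the same reduced Hilbert polynomial and with Jordan–Hölder
filtrations whose graded objects are locally free near `x`, vanishing on the fibre at `x`, is zero -/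
theorem eq_zero_of_pullback_eq_zero {E F : X.Modules} (hE : ShStab.IsSemistable k X L E d)
    (hF : ShStab.IsSemistable k X L F d) {pE pF : ℚ[X]} (hpE : ShStab.IsHilbPoly k X L E pE)
    (hpF : ShStab.IsHilbPoly k X L F pF) (hred : RedEq d pE pF) (sE : LTSeries (Subobject E))
    (hsE : ShStab.IsJHFiltration k X L E d sE) (hgrE : LFnear (grObj sE) x)
    (sF : LTSeries (Subobject F)) (hsF : ShStab.IsJHFiltration k X L F d sF) (hgrF : LFnear (grObj sF) x)
    (f : E ⟶ F) (hf : (Scheme.Modules.pullback ξ).map f = 0) : f = 0 :=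
  eq_zero_aux k X L hL d hX ξ x hξ sE.length E F hE hF pE pF hpE hpF hred sE hsE le_rfl hgrE sF hsF hgrF
    f hf

end Groth.Agent.Lib.Helper12.XiB
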