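import Mathlib
import Groth.Agent.S0391

/-!
# The fibre criterion of flatness, special case `X = Y` (helper26)

`flat_of_flat_fibre`: `A → B` a local homomorphism of local rings, `B` Noetherian, `M` a finite `B`-module which is
flat over `A`; `B → B'` a surjection with kernel `𝔪_A B` (so `B' = B ⊗_A κ(A)`).  If `B' ⊗_B M` is flat over `B'`,
then `M` is flat over `B`.  (EGA IV 11.3.10 for `g = id`; via the local criterion S0391.)
-/

set_option autoImplicit false
universe u
open TensorProduct

namespace Groth.Agent.Lib.Helper26.FibFlat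

section alg
variable {A B : Type u} [CommRing A] [CommRing B] [Algebra A B]
  {M : Type u} [AddCommGroup M] [Module A M] [Module B M] [IsScalarTower A B M]

/-- the comparison map `𝔞 ⊗_A M → (𝔞B) ⊗_B M`. -/
noncomputable def theta (𝔞 : Ideal A) : 𝔞 ⊗[A] M →+ ↥(𝔞.map (algebraMap A B)) ⊗[B] M :=
  TensorProduct.liftAddHom
    { toFun := fun a =>
        { toFun := fun m =>
            (⟨algebraMap A B a.1, Ideal.mem_map_of_mem _ a.2⟩ : ↥(𝔞.map (algebraMap A B))) ⊗ₜ[B] m
          map_zero' := TensorProduct.tmul_zero _ _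
          map_add' := fun m n => TensorProduct.tmul_add _ m n }
      map_zero' := by
        ext m
        change (⟨algebraMap A B ((0 : 𝔞) : A), _⟩ : ↥(𝔞.map (algebraMap A B))) ⊗ₜ[B] m = 0
        have : (⟨algebraMap A B ((0 : 𝔞) : A), Ideal.mem_map_of_mem _ (0 : 𝔞).2⟩ :
            ↥(𝔞.map (algebraMap A B))) = 0 := Subtype.ext (by simp)
        rw [this, TensorProduct.zero_tmul]
      map_add' := fun a b => by
        ext m
        change (⟨algebraMap A B ((a + b : 𝔞) : A), _⟩ : ↥(𝔞.map (algebraMap A B))) ⊗ₜ[B] m =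
          (⟨algebraMap A B a.1, _⟩ : ↥(𝔞.map (algebraMap A B))) ⊗ₜ[B] m +
            (⟨algebraMap A B b.1, _⟩ : ↥(𝔞.map (algebraMap A B))) ⊗ₜ[B] m
        rw [← TensorProduct.add_tmul]
        congr 1
        exact Subtype.ext (by simp) }
    (fun r a m => by
      change (⟨algebraMap A B ((r • a : 𝔞) : A), _⟩ : ↥(𝔞.map (algebraMap A B))) ⊗ₜ[B] m =
        (⟨algebraMap A B a.1, _⟩ : ↥(𝔞.map (algebraMap A B))) ⊗ₜ[B] (r • m)
      rw [← algebraMap_smul B r m, ← TensorProduct.smul_tmul]
      congr 1
      exact Subtype.ext (by simp [Algebra.smul_def]))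

theorem theta_tmul (𝔞 : Ideal A) (a : 𝔞) (m : M) :
    theta (B := B) 𝔞 (a ⊗ₜ[A] m) =
      (⟨algebraMap A B a.1, Ideal.mem_map_of_mem _ a.2⟩ : ↥(𝔞.map (algebraMap A B))) ⊗ₜ[B] m := rfl

theorem theta_surjective (𝔞 : Ideal A) : Function.Surjective (theta (B := B) (M := M) 𝔞) := by
  intro w
  induction w using TensorProduct.induction_on with
  | zero => exact ⟨0, map_zero _⟩
  | add x y hx hy =>
    obtain ⟨x', rfl⟩ := hx
    obtain ⟨y', rfl⟩ := hy
    exact ⟨x' + y', map_add _ _ _⟩
  | tmul i m =>
    obtain ⟨b, hb⟩ := i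
    revert m
    change b ∈ Submodule.span B (algebraMap A B '' (𝔞 : Set A)) at hb
    induction hb using Submodule.span_induction with
    | mem x hx =>
      intro m
      obtain ⟨a, ha, rfl⟩ := hx
      exact ⟨(⟨a, ha⟩ : 𝔞) ⊗ₜ[A] m, rfl⟩
    | zero =>
      intro m
      refine ⟨0, ?_⟩
      rw [map_zero]
      have : (⟨0, (𝔞.map (algebraMap A B)).zero_mem⟩ : ↥(𝔞.map (algebraMap A B))) = 0 := rfl
      rw [this, TensorProduct.zero_tmul]
    | add x y hx hy ihx ihy =>
      intro m
      obtain ⟨x', hx'⟩ := ihx m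
      obtain ⟨y', hy'⟩ := ihy m
      refine ⟨x' + y', ?_⟩
      rw [map_add, hx', hy', ← TensorProduct.add_tmul]
      rfl
    | smul c x hx ih =>
      intro m
      obtain ⟨x', hx'⟩ := ih (c • m)
      refine ⟨x', ?_⟩
      rw [hx', ← TensorProduct.smul_tmul]
      rfl

theorem lid_rTensor_theta (𝔞 : Ideal A) (z : 𝔞 ⊗[A] M) :
    TensorProduct.lid B M (LinearMap.rTensor M (𝔞.map (algebraMap A B)).subtype (theta 𝔞 z)) =
      TensorProduct.lid A M (LinearMap.rTensor M 𝔞.subtype z) := by
  induction z using TensorProduct.induction_on with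
  | zero => simp
  | add x y hx hy => simp only [map_add, hx, hy]
  | tmul a m =>
    rw [theta_tmul]
    simp only [LinearMap.rTensor_tmul, Submodule.subtype_apply, TensorProduct.lid_tmul]
    exact algebraMap_smul B a.1 m

/-- flatness over `A` gives `Tor_1^B(B/𝔞B, M) = 0`. -/
theorem rTensor_injective_of_flat [Module.Flat A M] (𝔞 : Ideal A) :
    Function.Injective (LinearMap.rTensor M (𝔞.map (algebraMap A B)).subtype) := by
  rw [injective_iff_map_eq_zero]
  intro w hw
  obtain ⟨z, rfl⟩ := theta_surjective (B := B) (M := M) 𝔞 w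
  have h1 := lid_rTensor_theta (B := B) 𝔞 z
  rw [hw, map_zero] at h1
  have h2 : LinearMap.rTensor M 𝔞.subtype z = 0 :=
    (TensorProduct.lid A M).injective (h1.symm.trans (map_zero _).symm)
  have h3 : z = 0 :=
    Module.Flat.rTensor_preserves_injective_linearMap (M := M) 𝔞.subtype Subtype.val_injective
      (h2.trans (map_zero _).symm)
  rw [h3, map_zero]

end alg

section main
variable {A B B' : Type u} [CommRing A] [CommRing B] [CommRing B'] [IsLocalRing A] [IsLocalRing B]
  [IsNoetherianRing B] [Algebra A B] [IsLocalHom (algebraMap A B)] [Algebra B B']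
  {M : Type u} [AddCommGroup M] [Module A M] [Module B M] [IsScalarTower A B M] [Module.Finite B M]

/-- **fibre criterion of flatness** (`X = Y`). -/
theorem flat_of_flat_fibre [Module.Flat A M] (hsurj : Function.Surjective (algebraMap B B'))
    (hker : RingHom.ker (algebraMap B B') = (IsLocalRing.maximalIdeal A).map (algebraMap A B))
    (h : Module.Flat B' (B' ⊗[B] M)) : Module.Flat B M := by
  set I : Ideal B := (IsLocalRing.maximalIdeal A).map (algebraMap A B) with hI
  have hItop : I ≠ ⊤ := (IsLocalRing.map_maximalIdeal_lt_top (algebraMap A B)).ne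
  refine Groth.Agent.S0391.result (R := B) (S := B) (M := M) I hItop
    (rTensor_injective_of_flat (B := B) (M := M) (IsLocalRing.maximalIdeal A)) ?_
  -- transport flatness from `B'` to `B ⧸ I`
  let e : (B ⧸ I) ≃+* B' :=
    (Ideal.quotEquivOfEq hker.symm).trans (RingHom.quotientKerEquivOfSurjective hsurj)
  letI : Algebra B' (B ⧸ I) := e.symm.toRingHom.toAlgebra
  haveI : IsScalarTower B B' (B ⧸ I) := IsScalarTower.of_algebraMap_eq fun b => by
    change Ideal.Quotient.mk I b = e.symm (algebraMap B B' b)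
    rw [RingEquiv.eq_symm_apply]
    rfl
  haveI := h
  exact Module.Flat.of_linearEquiv
    (TensorProduct.AlgebraTensorModule.cancelBaseChange B B' (B ⧸ I) (B ⧸ I) M).symm

end main

end Groth.Agent.Lib.Helper26.FibFlat
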