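import Mathlib
import Groth.Agent.Lib.Helper26FibFlat
import Groth.Agent.Lib.Helper2FibreCrit2
import Groth.Agent.Lib.Helper2PullbackSec2
import Groth.Agent.Lib.Helper5FiberStalk

/-!
# Flatness of a module on a fibre versus flatness on the total space (helper26)

For `u : X ⟶ S`, `s : S`, `z` a point of the fibre `X_s` with image `x` in `X`, and `F` a quasi-coherent module of
finite type on the locally Noetherian `X`:

* `ker_stalkMap_fiberι`: the kernel of `O_{X,x} → O_{X_s,z}` is `𝔪_s O_{X,x}` (from helper5's `FiberStalk`);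
* `isFlatAt_pullback`: flatness of stalks is preserved by pullback;
* `isFlatAt_of_isFlatAt_fibre`: if `F_x` is flat over `O_{S,s}` and `(F|X_s)_z` is flat over `O_{X_s,z}` then `F_x` is flat
  over `O_{X,x}` (fibre criterion).
-/

set_option autoImplicit false
set_option linter.style.haveILetI false
universe u
open CategoryTheory AlgebraicGeometry TensorProduct IsLocalRing

namespace Groth.Agent.Lib.Helper26.FibFlatSch

open Groth.Agent.Lib.Helper5.FiberStalk Groth.Agent.Lib.Helper26.FibFlat Groth.Agent.Lib.Helper2.FibreCrit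
  Groth.Agent.Lib.Helper2.PullbackSec

variable {X S : Scheme.{u}} (u : X ⟶ S)

theorem ker_stalkMap_fiberι_le_aux (x : X) :
    RingHom.ker ((u.fiberι (u x)).stalkMap (toFiber u x (closedPoint (Q u x)))).hom ≤
      fibIdeal u (u.fiberι (u x) (toFiber u x (closedPoint (Q u x)))) := by
  intro a ha
  rw [RingHom.mem_ker] at ha
  obtain ⟨U, hU, t, rfl⟩ := X.presheaf.exists_germ_eq a
  have hxU : x ∈ U := by
    rw [← fiberι_toFiber_closedPoint u x]
    exact hU
  have e1 : ((u.fiberι (u x)).stalkMap (toFiber u x (closedPoint (Q u x))))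
      (X.presheaf.germ U _ hU t) =
      (u.fiber (u x)).presheaf.germ ((u.fiberι (u x)) ⁻¹ᵁ U) _ hU ((u.fiberι (u x)).app U t) :=
    Scheme.Hom.germ_stalkMap_apply (u.fiberι (u x)) U _ hU t
  have ha' : (u.fiber (u x)).presheaf.germ ((u.fiberι (u x)) ⁻¹ᵁ U) _ hU
      ((u.fiberι (u x)).app U t) = 0 := e1.symm.trans ha
  have h2 := stalkClosedPointTo_toFiber_germ u x U hxU t hU
  rw [ha', map_zero] at h2
  have h3 : X.presheaf.germ U x hxU t ∈ fibIdeal u x := Ideal.Quotient.eq_zero_iff_mem.mp h2.symm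
  exact (germ_mem_fibIdeal_congr u (fiberι_toFiber_closedPoint u x) U hU t).mpr h3

theorem map_fiberι (s : S) (z : u.fiber s) : u (u.fiberι s z) = s := by
  have h : u.fiberι s z ∈ u ⁻¹' {s} := u.range_fiberι s ▸ Set.mem_range_self z
  exact h

/-- the kernel of `O_{X,x} → O_{X_s,z}` is `𝔪_s O_{X,x}`. -/
theorem ker_stalkMap_fiberι (s : S) (z : u.fiber s) :
    RingHom.ker ((u.fiberι s).stalkMap z).hom =
      (maximalIdeal (S.presheaf.stalk (u (u.fiberι s z)))).map (u.stalkMap (u.fiberι s z)).hom := by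
  apply le_antisymm
  · have key : ∀ (s : S) (z : u.fiber s) (x : X) (_ : u.fiberι s z = x) (_ : u x = s),
        RingHom.ker ((u.fiberι s).stalkMap z).hom ≤
          (maximalIdeal (S.presheaf.stalk (u (u.fiberι s z)))).map
            (u.stalkMap (u.fiberι s z)).hom := by
      intro s z x hx hs
      subst hs
      obtain rfl : z = toFiber u x (closedPoint (Q u x)) :=
        (u.fiberι (u x)).isEmbedding.injective (hx.trans (fiberι_toFiber_closedPoint u x).symm)
      exact ker_stalkMap_fiberι_le_aux u x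
    exact key s z _ rfl (map_fiberι u s z)
  · exact map_maximalIdeal_le_ker u s z

/-- flatness of stalks is preserved by pullback. -/
theorem isFlatAt_pullback {X' : Scheme.{u}} (g : X' ⟶ X) (F : X.Modules) [F.IsQuasicoherent] (x' : X')
    (h : FlatMod.IsFlatAt F (g x')) : FlatMod.IsFlatAt ((Scheme.Modules.pullback g).obj F) x' := by
  unfold FlatMod.IsFlatAt at h ⊢
  letI : Algebra (X.presheaf.stalk (g x')) (X'.presheaf.stalk x') := (g.stalkMap x').hom.toAlgebra
  obtain ⟨T⟩ := nonempty_stalk_linearEquiv g F x'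
  haveI := h
  exact Module.Flat.of_linearEquiv T.symm

/-- **fibre criterion**: flat over the base and flat on the fibre implies flat. -/
theorem isFlatAt_of_isFlatAt_fibre [IsLocallyNoetherian X] (F : X.Modules) [F.IsQuasicoherent]
    [SheafOfModules.IsFiniteType (R := X.ringCatSheaf) F] (s : S) (z : u.fiber s)
    (hfl : FlatMod.IsFlatOverAt u F (u.fiberι s z))
    (h : FlatMod.IsFlatAt ((Scheme.Modules.pullback (u.fiberι s)).obj F) z) :
    FlatMod.IsFlatAt F (u.fiberι s z) := by
  unfold FlatMod.IsFlatAt at h ⊢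
  unfold FlatMod.IsFlatOverAt at hfl
  letI aAB : Algebra (S.presheaf.stalk (u (u.fiberι s z))) (X.presheaf.stalk (u.fiberι s z)) :=
    (u.stalkMap (u.fiberι s z)).hom.toAlgebra
  letI aBB' : Algebra (X.presheaf.stalk (u.fiberι s z)) ((u.fiber s).presheaf.stalk z) :=
    ((u.fiberι s).stalkMap z).hom.toAlgebra
  letI mAM : Module (S.presheaf.stalk (u (u.fiberι s z))) (F.presheaf.stalk (u.fiberι s z)) :=
    FlatMod.moduleStalkOver u F (u.fiberι s z)
  haveI : IsScalarTower (S.presheaf.stalk (u (u.fiberι s z))) (X.presheaf.stalk (u.fiberι s z))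
      (F.presheaf.stalk (u.fiberι s z)) := IsScalarTower.of_algebraMap_smul (fun b n => rfl)
  haveI : IsLocalHom (algebraMap (S.presheaf.stalk (u (u.fiberι s z)))
      (X.presheaf.stalk (u.fiberι s z))) :=
    inferInstanceAs (IsLocalHom (u.stalkMap (u.fiberι s z)).hom)
  haveI := finite_stalk F (u.fiberι s z)
  haveI : Module.Flat (S.presheaf.stalk (u (u.fiberι s z))) (F.presheaf.stalk (u.fiberι s z)) := hfl
  obtain ⟨T⟩ := nonempty_stalk_linearEquiv (u.fiberι s) F z
  haveI := h
  have hB' : Module.Flat ((u.fiber s).presheaf.stalk z)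
      (((u.fiber s).presheaf.stalk z) ⊗[X.presheaf.stalk (u.fiberι s z)]
        (F.presheaf.stalk (u.fiberι s z))) := Module.Flat.of_linearEquiv T
  exact flat_of_flat_fibre (A := S.presheaf.stalk (u (u.fiberι s z)))
    (B := X.presheaf.stalk (u.fiberι s z)) (B' := (u.fiber s).presheaf.stalk z)
    (M := F.presheaf.stalk (u.fiberι s z)) ((u.fiberι s).stalkMap_surjective z)
    (ker_stalkMap_fiberι u s z) hB'

end Groth.Agent.Lib.Helper26.FibFlatSch
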