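import Mathlib
import Groth.Prelude.Def_FlatMod2
import Groth.Agent.Lib.Helper2FinPushFP
import Groth.Agent.Lib.Helper2PullbackSec2

/-!
# Descent of finiteness along finite jointly surjective flat families; fpqc descent of finite locally free modules
(helper2)

Namespace `Groth.Agent.Lib.Helper2.FamDesc`.

* `JointlySurjective B`: the family of algebras `A → B j` is jointly surjective on prime spectra.
* `eq_top_of_forall_map_eq_top`, `subsingleton_of_forall_subsingleton_tensor`,
  **`finite_of_forall_finite_tensor`**, **`finitePresentation_of_forall_finitePresentation_tensor`**: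
  descent of `Module.Finite` / `Module.FinitePresentation` along a finite flat jointly surjective family.
* `finitePresentation_sections_of_pullback`: `g` fpqc, `g^*F` of finite presentation gives f.p. sections of `F`.
* `isFlatAt_of_pullback`: flatness of stalks descends along flat morphisms.
* **`isFinLocFree_of_pullback`**: fpqc descent of finite locally free quasi-coherent modules.
-/

set_option autoImplicit false
set_option linter.style.haveILetI false
universe u
open CategoryTheory Limits AlgebraicGeometry TopologicalSpace Opposite TensorProduct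

namespace Groth.Agent.Lib.Helper2.FamDesc

open Groth.Agent.Lib.Helper2.FPAff Groth.Agent.Lib.Helper2.QCoh Groth.Agent.Lib.Helper2.PullbackSec
  Groth.Agent.Lib.Helper2.LocFree Groth.Agent.Lib.Helper2.FinPushFP

section alg
variable {A : Type*} [CommRing A] {ι : Type*} (B : ι → Type*) [∀ j, CommRing (B j)]
  [∀ j, Algebra A (B j)]

/-- the family `A → B j` is jointly surjective on spectra. -/
def JointlySurjective : Prop :=
  ∀ p : PrimeSpectrum A, ∃ j, ∃ q : PrimeSpectrum (B j), q.comap (algebraMap A (B j)) = p

variable {B}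

theorem eq_top_of_forall_map_eq_top (hs : JointlySurjective (A := A) B) (I : Ideal A)
    (h : ∀ j, I.map (algebraMap A (B j)) = ⊤) : I = ⊤ := by
  by_contra hne
  obtain ⟨P, hP, hle⟩ := Ideal.exists_le_maximal I hne
  obtain ⟨j, q, hq⟩ := hs ⟨P, hP.isPrime⟩
  have h1 : I.map (algebraMap A (B j)) ≤ q.asIdeal := by
    rw [Ideal.map_le_iff_le_comap]
    have : q.asIdeal.comap (algebraMap A (B j)) = P := congrArg PrimeSpectrum.asIdeal hq
    rw [this]
    exact hle
  rw [h j] at h1
  exact q.isPrime.ne_top (top_le_iff.1 h1)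

theorem subsingleton_of_forall_subsingleton_tensor [∀ j, Module.Flat A (B j)]
    (hs : JointlySurjective (A := A) B) (Q : Type*) [AddCommGroup Q] [Module A Q]
    (h : ∀ j, Subsingleton (B j ⊗[A] Q)) : Subsingleton Q := by
  refine ⟨fun a b => ?_⟩
  suffices H : ∀ q₀ : Q, q₀ = 0 by rw [H a, H b]
  intro q₀
  set I := Ideal.torsionOf A Q q₀ with hI
  have htop : I = ⊤ := by
    refine eq_top_of_forall_map_eq_top hs I (fun j => ?_)
    -- `A ⧸ I ↪ Q`
    let φ : (A ⧸ I) →ₗ[A] Q :=
      (Submodule.subtype _).comp (Ideal.quotTorsionOfEquivSpanSingleton A Q q₀).toLinearMap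
    have hφ : Function.Injective φ :=
      (Submodule.injective_subtype _).comp (Ideal.quotTorsionOfEquivSpanSingleton A Q q₀).injective
    have hinj : Function.Injective (φ.lTensor (B j)) := Module.Flat.lTensor_preserves_injective_linearMap φ hφ
    haveI : Subsingleton (B j ⊗[A] (A ⧸ I)) := hinj.subsingleton
    haveI : Subsingleton (B j ⧸ (I • ⊤ : Submodule A (B j))) :=
      (TensorProduct.tensorQuotEquivQuotSMul (B j) I).symm.subsingleton
    have h2 : (I • ⊤ : Submodule A (B j)) = ⊤ := Submodule.Quotient.subsingleton_iff.1 inferInstance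
    rw [Ideal.smul_top_eq_map] at h2
    exact (Submodule.restrictScalars_eq_top_iff _ _ _).1 h2
  have h1 : (1 : A) ∈ I := by rw [htop]; trivial
  rw [hI, Ideal.mem_torsionOf_iff, one_smul] at h1
  exact h1

/-- descent of finiteness along a finite jointly surjective flat family. -/
theorem finite_of_forall_finite_tensor [Finite ι] [∀ j, Module.Flat A (B j)]
    (hs : JointlySurjective (A := A) B) (N : Type*) [AddCommGroup N] [Module A N]
    (h : ∀ j, Module.Finite (B j) (B j ⊗[A] N)) : Module.Finite A N := by
  classical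
  -- for each `j`, finitely many elements of `N` whose images generate `B j ⊗ N`
  have key : ∀ j, ∃ T : Finset N, Submodule.span (B j) ((TensorProduct.mk A (B j) N 1) '' (T : Set N)) = ⊤ := by
    intro j
    obtain ⟨n, s, hs'⟩ := Module.Finite.exists_fin (R := B j) (M := B j ⊗[A] N)
    choose k t m hm using fun i : Fin n ↦ TensorProduct.exists_sum_tmul_eq (s i)
    refine ⟨Finset.univ.biUnion (fun i : Fin n => Finset.univ.image (m i)), ?_⟩
    rw [eq_top_iff, ← hs', Submodule.span_le]
    rintro _ ⟨i, rfl⟩
    rw [hm i]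
    refine Submodule.sum_mem _ (fun l _ => ?_)
    have : t i l ⊗ₜ[A] m i l = t i l • ((1 : B j) ⊗ₜ[A] m i l) := by
      rw [TensorProduct.smul_tmul', smul_eq_mul, mul_one]
    rw [this]
    refine Submodule.smul_mem _ _ (Submodule.subset_span ⟨m i l, ?_, rfl⟩)
    simp only [Finset.coe_biUnion, Finset.coe_univ, Set.mem_univ, Finset.coe_image, Set.image_univ,
      Set.iUnion_true, Set.mem_iUnion, Set.mem_range]
    exact ⟨i, l, rfl⟩
  choose T hT using key
  haveI : Fintype ι := Fintype.ofFinite ι
  let T₀ : Finset N := Finset.univ.biUnion T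
  let N' : Submodule A N := Submodule.span A (T₀ : Set N)
  have hsub : ∀ j, Subsingleton (B j ⊗[A] (N ⧸ N')) := by
    intro j
    let π : B j ⊗[A] N →ₗ[B j] B j ⊗[A] (N ⧸ N') := N'.mkQ.baseChange (B j)
    have hπ : Function.Surjective π := by
      have : (π : B j ⊗[A] N → B j ⊗[A] (N ⧸ N')) = N'.mkQ.lTensor (B j) := by
        ext x; rfl
      rw [this]
      exact LinearMap.lTensor_surjective _ N'.mkQ_surjective
    have hzero : ∀ w : B j ⊗[A] N, π w = 0 := by
      intro w
      have hw : w ∈ Submodule.span (B j) ((TensorProduct.mk A (B j) N 1) '' (T j : Set N)) := by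
        rw [hT j]; trivial
      induction hw using Submodule.span_induction with
      | mem z hz =>
        obtain ⟨n, hn, rfl⟩ := hz
        have hnN' : n ∈ N' := Submodule.subset_span (by
          simp only [T₀, Finset.coe_biUnion, Finset.coe_univ, Set.mem_univ, Set.iUnion_true, Set.mem_iUnion]
          exact ⟨j, hn⟩)
        change π ((1 : B j) ⊗ₜ[A] n) = 0
        rw [LinearMap.baseChange_tmul, Submodule.mkQ_apply, (Submodule.Quotient.mk_eq_zero N').2 hnN',
          TensorProduct.tmul_zero]
      | zero => exact map_zero _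
      | add a b _ _ ha hb => rw [map_add, ha, hb, add_zero]
      | smul c a _ ha => rw [map_smul, ha, smul_zero]
    refine ⟨fun a b => ?_⟩
    obtain ⟨a', rfl⟩ := hπ a
    obtain ⟨b', rfl⟩ := hπ b
    rw [hzero a', hzero b']
  haveI := subsingleton_of_forall_subsingleton_tensor hs (N ⧸ N') hsub
  have htop : N' = ⊤ := Submodule.Quotient.subsingleton_iff.1 inferInstance
  exact ⟨⟨T₀, htop⟩⟩

/-- descent of finite presentation along a finite jointly surjective flat family. -/
theorem finitePresentation_of_forall_finitePresentation_tensor [Finite ι] [∀ j, Module.Flat A (B j)]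
    (hs : JointlySurjective (A := A) B) (N : Type*) [AddCommGroup N] [Module A N]
    (h : ∀ j, Module.FinitePresentation (B j) (B j ⊗[A] N)) : Module.FinitePresentation A N := by
  haveI : Module.Finite A N := finite_of_forall_finite_tensor hs N (fun j => inferInstance)
  obtain ⟨n, g, hg⟩ := Module.Finite.exists_fin' A N
  refine Module.finitePresentation_of_free_of_surjective g hg ?_
  rw [← Module.Finite.iff_fg]
  refine finite_of_forall_finite_tensor hs (LinearMap.ker g) (fun j => ?_)
  have hex : Function.Exact ((LinearMap.ker g).subtype.baseChange (B j)) (g.baseChange (B j)) :=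
    lTensor_exact (B j) g.exact_subtype_ker_map hg
  have hsurj : Function.Surjective (g.baseChange (B j)) := LinearMap.lTensor_surjective (B j) hg
  have hfg : (LinearMap.ker (g.baseChange (B j))).FG :=
    Module.FinitePresentation.fg_ker (g.baseChange (B j)) hsurj
  rw [LinearMap.exact_iff] at hex
  rw [hex] at hfg
  have hinj : Function.Injective ((LinearMap.ker g).subtype.baseChange (B j)) :=
    Module.Flat.lTensor_preserves_injective_linearMap _ (Submodule.injective_subtype _)
  haveI : Module.Finite (B j) (LinearMap.range ((LinearMap.ker g).subtype.baseChange (B j))) :=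
    Module.Finite.iff_fg.2 hfg
  exact Module.Finite.equiv (LinearEquiv.ofInjective _ hinj).symm

end alg

section geom
variable {X X' : Scheme.{u}} (g : X' ⟶ X) [QuasiCompact g] [Flat g] [Surjective g]
  (F : X.Modules) [F.IsQuasicoherent]

/-- fpqc descent of finite presentation, on affine opens. -/
theorem finitePresentation_sections_of_pullback
    [SheafOfModules.IsFinitePresentation (R := X'.ringCatSheaf) ((Scheme.Modules.pullback g).obj F)]
    {U : X.Opens} (hU : IsAffineOpen U) : Module.FinitePresentation Γ(X, U) Γ(F, U) := by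
  have hc : IsCompact (g ⁻¹ᵁ U : Set X') := g.isCompact_preimage hU.isCompact
  obtain ⟨s, hs, e⟩ := isCompact_iff_finite_and_eq_biUnion_affineOpens.mp hc
  haveI : Finite s := hs.to_subtype
  have hle : ∀ j : s, (j.1 : X'.Opens) ≤ g ⁻¹ᵁ U := fun j => by
    rw [e]; exact le_iSup₂ (f := fun (i : X'.affineOpens) (_ : i ∈ s) => (i : X'.Opens)) j.1 j.2
  letI : ∀ j : s, Algebra Γ(X, U) Γ(X', j.1.1) := fun j => (g.appLE U j.1.1 (hle j)).hom.toAlgebra
  haveI : ∀ j : s, Module.Flat Γ(X, U) Γ(X', j.1.1) := fun j =>
    HasRingHomProperty.appLE @Flat g inferInstance ⟨U, hU⟩ j.1 (hle j)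
  haveI : ((Scheme.Modules.pullback g).obj F).IsQuasicoherent := isQuasicoherent_pullback g F
  refine finitePresentation_of_forall_finitePresentation_tensor (B := fun j : s => Γ(X', j.1.1))
    ?_ Γ(F, U) (fun j => ?_)
  · intro p
    let x : X := hU.fromSpec p
    have hxU : x ∈ U := fromSpec_mem hU p
    obtain ⟨x', hx'⟩ := g.surjective x
    have hx'U : x' ∈ g ⁻¹ᵁ U := by
      show g x' ∈ U
      rw [hx']; exact hxU
    rw [e] at hx'U
    obtain ⟨V, hx'V⟩ := Opens.mem_iSup.1 hx'U
    obtain ⟨hVs, hx'V⟩ := Opens.mem_iSup.1 hx'V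
    refine ⟨⟨V, hVs⟩, V.2.primeIdealOf ⟨x', hx'V⟩, ?_⟩
    have h1 := IsAffineOpen.comap_primeIdealOf_appLE (f := g) U hU V.1 V.2 (hle ⟨V, hVs⟩) hx'V
    refine h1.trans ?_
    have h2 : hU.primeIdealOf ⟨x, hxU⟩ = p := primeIdealOf_fromSpec hU p
    rw [← h2]
    congr 1
    exact Subtype.ext hx'
  · obtain ⟨T⟩ := nonempty_sections_linearEquiv g F j.1.2 hU (hle j)
    haveI := finitePresentation_sections ((Scheme.Modules.pullback g).obj F) j.1.2
    exact Module.FinitePresentation.of_equiv T.symm

end geom

section geom2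
variable {X X' : Scheme.{u}} (g : X' ⟶ X)
  (F : X.Modules) [F.IsQuasicoherent]

/-- flatness of stalks descends along flat morphisms. -/
theorem isFlatAt_of_pullback [Flat g] (x' : X')
    (h : FlatMod.IsFlatAt ((Scheme.Modules.pullback g).obj F) x') : FlatMod.IsFlatAt F (g x') := by
  unfold FlatMod.IsFlatAt at h ⊢
  letI : Algebra (X.presheaf.stalk (g x')) (X'.presheaf.stalk x') := (g.stalkMap x').hom.toAlgebra
  obtain ⟨T⟩ := nonempty_stalk_linearEquiv g F x'
  haveI : Module.Flat (X.presheaf.stalk (g x')) (X'.presheaf.stalk x') :=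
    ((Flat.iff_flat_stalkMap g).1 inferInstance x')
  haveI : IsLocalHom (algebraMap (X.presheaf.stalk (g x')) (X'.presheaf.stalk x')) :=
    inferInstanceAs (IsLocalHom (g.stalkMap x').hom)
  haveI : Module.FaithfullyFlat (X.presheaf.stalk (g x')) (X'.presheaf.stalk x') :=
    Module.FaithfullyFlat.of_flat_of_isLocalHom
  haveI : Module.Flat (X'.presheaf.stalk x')
      ((X'.presheaf.stalk x') ⊗[X.presheaf.stalk (g x')] (F.presheaf.stalk (g x'))) :=
    Module.Flat.of_linearEquiv T
  exact Module.Flat.of_flat_tensorProduct _ _ (X'.presheaf.stalk x')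

/-- fpqc descent of finite locally free modules. -/
theorem isFinLocFree_of_pullback [QuasiCompact g] [Flat g] [Surjective g]
    (h : FlatMod.IsFinLocFree ((Scheme.Modules.pullback g).obj F)) : FlatMod.IsFinLocFree F := by
  haveI : ((Scheme.Modules.pullback g).obj F).IsQuasicoherent := isQuasicoherent_pullback g F
  haveI : SheafOfModules.IsFinitePresentation (R := X'.ringCatSheaf)
      ((Scheme.Modules.pullback g).obj F) := isFP_of_isFinLocFree _ h
  have hflat := isFlat_of_isFinLocFree _ h
  haveI : SheafOfModules.IsFinitePresentation (R := X.ringCatSheaf) F :=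
    isFinitePresentation_of_finitePresentation_sections F (fun V : X.affineOpens => V.1)
      (iSup_affineOpens_eq_top X) (fun V => V.2)
      (fun V => finitePresentation_sections_of_pullback g F V.2)
  intro x
  obtain ⟨x', rfl⟩ := g.surjective x
  obtain ⟨D, m, hxD, hiso⟩ :=
    exists_restrict_iso_freeMod_of_isFlatAt F (g x') (isFlatAt_of_pullback g F x' (hflat x'))
  exact ⟨D, m, hxD, hiso⟩

end geom2

end Groth.Agent.Lib.Helper2.FamDesc
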