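import Mathlib
import Groth.Agent.Lib.Helper12XiFibreB
import Groth.Agent.Lib.Helper26LocFreeCons
import Groth.Agent.Lib.Helper1FLF1
import Groth.Agent.Lib.Helper1PC5
import Groth.Agent.Lib.Helper1PC15
import Groth.Agent.Lib.Helper2LocFree
import Groth.Agent.Lib.Helper2PullbackSec
import Groth.Agent.Lib.Helper23ResProp
set_option backward.isDefEq.respectTransparency.types false

/-!
# Local freeness along a section from local freeness of the graded objects on the fibres (helper12)

* `isFinLocFree_of_shortExact`: an extension of finite locally free modules is finite locally free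
* `LFnear.of_chain`: a module with a finite filtration whose factors are locally free near `x` is
  locally free near `x`
* `lfnear_of_fibre`: for `F` coherent on `X`, flat over `S`, whose restriction to the fibre over a
  rational point is locally free near a point, `F` is locally free near the image point
-/

set_option autoImplicit false
set_option linter.style.haveILetI false
set_option linter.unusedSectionVars false
set_option linter.unusedVariables false
universe u
open CategoryTheory CategoryTheory.Limits AlgebraicGeometry TopologicalSpace Opposite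

namespace Groth.Agent.Lib.Helper12.XiC

open Groth.Agent.Lib.Helper12.XiA StabCat

section ext

variable {Y : Scheme.{u}}

/-- an extension of finite locally free modules is finite locally free -/
theorem isFinLocFree_of_shortExact (S : ShortComplex Y.Modules) (hS : S.ShortExact)
    (h1 : FlatMod.IsFinLocFree S.X₁) (h3 : FlatMod.IsFinLocFree S.X₃) : FlatMod.IsFinLocFree S.X₂ := by
  refine Groth.Agent.Lib.Helper1.SPL.isFinLocFree_of_local _ (fun x => ?_)
  haveI := hS.epi_g
  haveI := hS.mono_f
  obtain ⟨W, j, hj, hxW, ψ, hψ⟩ :=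
    Groth.Agent.Lib.Helper1.SPL.exists_lift_of_isFinLocFree h3 S.g (𝟙 _) x
  haveI := hj
  refine ⟨W, j, hj, hxW, ?_⟩
  let R := Scheme.Modules.restrictFunctor j
  rw [CategoryTheory.Functor.map_id] at hψ
  have hS' : (S.map R).ShortExact := hS.map_of_exact R
  let spl : (S.map R).Splitting :=
    ShortComplex.Splitting.ofExactOfSection _ hS'.exact ψ hψ hS'.mono_f
  have e : (S.map R).X₂ ≅ (S.map R).X₁ ⊞ (S.map R).X₃ := spl.isoBinaryBiproduct
  have hA : FlatMod.IsFinLocFree (R.obj S.X₁) := Groth.Agent.Lib.Helper1.SPL.isFinLocFree_restrict j _ h1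
  have hC : FlatMod.IsFinLocFree (R.obj S.X₃) := Groth.Agent.Lib.Helper1.SPL.isFinLocFree_restrict j _ h3
  -- the binary biproduct as a coproduct over `WalkingPair`
  have hbi : FlatMod.IsFinLocFree ((R.obj S.X₁) ⊞ (R.obj S.X₃)) := by
    refine Groth.Agent.Lib.Helper1.FLF.isFinLocFree_of_isColimit_cofan
      (pairFunction (R.obj S.X₁) (R.obj S.X₃))
      (BinaryBiproduct.bicone (R.obj S.X₁) (R.obj S.X₃)).toCocone
      (BinaryBiproduct.isColimit (R.obj S.X₁) (R.obj S.X₃)) Finset.univ
      (fun i hi => absurd (Finset.mem_univ i) hi) (fun i => ?_)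
    cases i
    · exact hA
    · exact hC
  exact Groth.Agent.Lib.Helper1.FLF.isFinLocFree_of_iso e.symm hbi

end ext

variable {X : Scheme.{u}}

theorem LFnear.of_isZero {M : X.Modules} (x : X) (h : IsZero M) : LFnear M x :=
  ⟨⊤, trivial, Groth.Agent.Lib.Helper1.SPL.isFinLocFree_of_isZero _
    ((Scheme.Modules.restrictFunctor (⊤ : X.Opens).ι).map_isZero h)⟩

/-- shrink the neighbourhood -/
theorem isFinLocFree_restrict_of_le {M : X.Modules} {U U' : X.Opens} (h : U' ≤ U)
    (hU : FlatMod.IsFinLocFree (M.restrict U.ι)) : FlatMod.IsFinLocFree (M.restrict U'.ι) := by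
  let j : (U' : Scheme.{u}) ⟶ U := X.homOfLE h
  have hj : j ≫ U.ι = U'.ι := X.homOfLE_ι h
  refine Groth.Agent.Lib.Helper1.FLF.isFinLocFree_of_iso
    ((Scheme.Modules.restrictFunctorCongr hj.symm).app M ≪≫
      (Scheme.Modules.restrictFunctorComp j U.ι).app M).symm ?_
  exact Groth.Agent.Lib.Helper1.SPL.isFinLocFree_restrict j _ hU

/-- extensions of modules locally free near `x` are locally free near `x` -/
theorem LFnear.of_shortExact (S : ShortComplex X.Modules) (hS : S.ShortExact) {x : X}
    (h1 : LFnear S.X₁ x) (h3 : LFnear S.X₃ x) : LFnear S.X₂ x := by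
  obtain ⟨U₁, hx₁, hU₁⟩ := h1
  obtain ⟨U₃, hx₃, hU₃⟩ := h3
  refine ⟨U₁ ⊓ U₃, ⟨hx₁, hx₃⟩, ?_⟩
  let R := Scheme.Modules.restrictFunctor (U₁ ⊓ U₃).ι
  exact isFinLocFree_of_shortExact (S.map R) (hS.map_of_exact R)
    (isFinLocFree_restrict_of_le inf_le_left hU₁) (isFinLocFree_restrict_of_le inf_le_right hU₃)

/-- a module with a finite filtration whose factors are locally free near `x` is locally free near `x` -/
theorem LFnear.of_chain {M : X.Modules} (s : LTSeries (Subobject M)) (h0 : s.head = ⊥) (h1 : s.last = ⊤)
    {x : X} (hs : ∀ i : Fin s.length, LFnear (factor s i) x) : LFnear M x := by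
  have key : ∀ i : Fin (s.length + 1), LFnear ((s i : Subobject M) : X.Modules) x := by
    intro i
    induction i using Fin.induction with
    | zero =>
      have hb : s 0 = ⊥ := h0
      exact LFnear.of_isZero x (Groth.Agent.Lib.Helper12.XiB.isZero_of_eq_bot _ hb)
    | succ i ih =>
      have hle : s i.castSucc ≤ s i.succ := le_of_lt (s.step i)
      let S : ShortComplex X.Modules :=
        ShortComplex.mk (Subobject.ofLE _ _ hle) (cokernel.π (Subobject.ofLE _ _ hle))
          (cokernel.condition _)
      have hS : S.ShortExact :=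
        { exact := ShortComplex.exact_cokernel _
          mono_f := inferInstanceAs (Mono (Subobject.ofLE _ _ hle))
          epi_g := inferInstanceAs (Epi (cokernel.π (Subobject.ofLE _ _ hle))) }
      exact LFnear.of_shortExact S hS ih (hs i)
  have hl : s (Fin.last s.length) = ⊤ := h1
  have := key (Fin.last s.length)
  rw [hl] at this
  exact LFnear.of_iso (asIso (⊤ : Subobject M).arrow).symm this

section fibre

/-- flatness at a point from local freeness near the point -/
theorem isFlatAt_of_lfnear (M : X.Modules) [M.IsQuasicoherent] {x : X} (h : LFnear M x) :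
    FlatMod.IsFlatAt M x := by
  obtain ⟨U, hxU, hU⟩ := h
  obtain ⟨V, n, hxV, ⟨e⟩⟩ := hU ⟨x, hxU⟩
  let j' : (V : Scheme.{u}) ⟶ X := V.ι ≫ U.ι
  let e' : M.restrict j' ≅ FlatMod.freeMod (V : Scheme.{u}) n :=
    (Scheme.Modules.restrictFunctorComp V.ι U.ι).app M ≪≫ e
  exact Groth.Agent.Lib.Helper2.LocFree.isFlatAt_of_restrict_iso_freeMod j' M e' ⟨⟨x, hxU⟩, hxV⟩

/-- local freeness near a point from flatness at the point -/
theorem lfnear_of_isFlatAt (M : X.Modules) [M.IsQuasicoherent]
    [SheafOfModules.IsFinitePresentation (R := X.ringCatSheaf) M] {x : X}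
    (h : FlatMod.IsFlatAt M x) : LFnear M x := by
  obtain ⟨D, m, hxD, ⟨e⟩⟩ :=
    Groth.Agent.Lib.Helper2.LocFree.exists_restrict_iso_freeMod_of_isFlatAt M x h
  exact ⟨D, hxD, Groth.Agent.Lib.Helper1.FLF.isFinLocFree_of_iso e.symm
    (Groth.Agent.Lib.Helper23.ResProp.isFinLocFree_freeMod _ m)⟩

variable {S : Scheme.{u}} (f : X ⟶ S)

/-- Let `F` be coherent on `X` and flat over `S`, and let `t : Spec K ⟶ S` be a point whose residue field
maps isomorphically to `K`.  If the restriction of `F` to `X ×_S Spec K` is locally free near `x'`, then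
`F` is locally free near the image of `x'`. -/
theorem lfnear_of_fibre [IsLocallyNoetherian X] (F : X.Modules) (hF : Coh.IsCoh F)
    (hfl : FlatMod.IsFlatOver f F) {K : Type u} [Field K] (t : Spec (CommRingCat.of K) ⟶ S)
    (s : S) (τ : S.residueField s ⟶ CommRingCat.of K) [IsIso τ]
    (ht : Spec.map τ ≫ S.fromSpecResidueField s = t)
    (x' : ↥(pullback f t))
    (h : LFnear ((Scheme.Modules.pullback (pullback.fst f t)).obj F) x') :
    LFnear F ((pullback.fst f t).base x') := by
  haveI : F.IsQuasicoherent := hF.1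
  haveI : SheafOfModules.IsFiniteType (R := X.ringCatSheaf) F := hF.2
  haveI hfp : SheafOfModules.IsFinitePresentation (R := X.ringCatSheaf) F :=
    Groth.Agent.Lib.Helper23.FinType.isFinitePresentation_of_isFiniteType F
  let g' := pullback.fst f t
  let Ft := (Scheme.Modules.pullback g').obj F
  haveI : Ft.IsQuasicoherent := Groth.Agent.Lib.Helper2.PullbackSec.isQuasicoherent_pullback g' F
  have hflatFt : FlatMod.IsFlatAt Ft x' := isFlatAt_of_lfnear Ft h
  -- comparison with the scheme-theoretic fibre
  let hh : pullback f t ⟶ pullback f (S.fromSpecResidueField s) :=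
    pullback.map f t f (S.fromSpecResidueField s) (𝟙 X) (Spec.map τ) (𝟙 S)
      (by rw [Category.id_comp, Category.comp_id]) (by rw [Category.comp_id, ht])
  haveI : IsIso hh := pullback.map_isIso _ _ _ _ _ _ _ _ _
  have hfst : hh ≫ pullback.fst f (S.fromSpecResidueField s) = g' := by
    show pullback.lift _ _ _ ≫ _ = _
    rw [pullback.lift_fst, Category.comp_id]
  have hinv : inv hh ≫ g' = pullback.fst f (S.fromSpecResidueField s) := by
    rw [IsIso.inv_comp_eq, hfst]
  let z : ↥(pullback f (S.fromSpecResidueField s)) := hh.base x'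
  have hzx' : (inv hh).base z = x' := by
    show (inv hh).base (hh.base x') = x'
    rw [← Scheme.Hom.comp_apply, IsIso.hom_inv_id]
    rfl
  let G := (Scheme.Modules.pullback (pullback.fst f (S.fromSpecResidueField s))).obj F
  let eG : (Scheme.Modules.pullback (inv hh)).obj Ft ≅ G :=
    (Scheme.Modules.pullbackComp (inv hh) g').app F ≪≫ (Scheme.Modules.pullbackCongr hinv).app F
  have hflatG : FlatMod.IsFlatAt G z := by
    refine Groth.Agent.Lib.Helper1.SPL.isFlatAt_of_iso eG z ?_
    refine Groth.Agent.Lib.Helper1.SPL.isFlatAt_pullback (inv hh) Ft z ?_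
    rw [hzx']
    exact hflatFt
  have hpt : (pullback.fst f (S.fromSpecResidueField s)).base z = g'.base x' := by
    show (pullback.fst f (S.fromSpecResidueField s)).base (hh.base x') = g'.base x'
    rw [← Scheme.Hom.comp_apply, hfst]
  have hflatF : FlatMod.IsFlatAt F ((pullback.fst f (S.fromSpecResidueField s)).base z) :=
    Groth.Agent.Lib.Helper26.FibFlatSch.isFlatAt_of_isFlatAt_fibre f F s z (hfl _) hflatG
  rw [hpt] at hflatF
  exact lfnear_of_isFlatAt F hflatF

end fibre

end Groth.Agent.Lib.Helper12.XiC
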