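import Mathlib
import Groth.Agent.Lib.Helper1PC16
import Groth.Agent.Lib.Helper1TQ6
import Groth.Prelude.Def_DerSch2
set_option backward.isDefEq.respectTransparency.types false

/-!
# Relative pseudo-coherence in chart form: boundedness (helper1)
-/

set_option autoImplicit false
set_option linter.style.haveILetI false
universe u
open CategoryTheory CategoryTheory.Limits AlgebraicGeometry HomologicalComplex Opposite
  TopologicalSpace

attribute [local instance] HasDerivedCategory.standard

namespace Groth.Agent.Lib.Helper1.ChartPC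

open Groth.Agent.Lib.Helper1.Sky Groth.Agent.Lib.Helper1.StalkTensor Groth.Agent.Lib.Helper1.KBC
  Groth.Agent.Lib.Helper1.SPL Groth.Agent.Lib.Helper1.TQ Groth.Agent.Lib.Helper1.Restrict
  Groth.Agent.Lib.Helper23.ModLocal

variable {X Y : Scheme.{u}}

/-- the cohomology of an `m`-pseudo-coherent object on a quasi-compact scheme is bounded above -/
theorem exists_isZero_HD_of_isPseudoCoherentD [CompactSpace X] (m : ℤ) (K : DCoh.D X)
    (hK : DCoh.IsPseudoCoherentD m K) : ∃ b : ℤ, ∀ i : ℤ, b < i → IsZero (DCoh.HD K i) := by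
  have h := (isPseudoCoherentD_iff_hasPresM m K).1 hK
  choose U j hj N hx hmN hN using fun x => (h x).exists_isZero_homology
  obtain ⟨t, ht⟩ := isCompact_univ.elim_finite_subcover (fun x => ((j x).opensRange : Set X))
    (fun x => (j x).opensRange.isOpen) (fun x _ => Set.mem_iUnion.2 ⟨x, hx x⟩)
  obtain ⟨b₀, hb₀⟩ := (t.image N).exists_le
  refine ⟨b₀, fun k hk => ?_⟩
  haveI : ∀ x : t, IsOpenImmersion (j x.1) := fun x => hj x.1
  refine isZero_of_isZero_restrict (fun x : t => U x.1) (fun x => j x.1) (fun y => ?_)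
    (fun x => ?_)
  · have hy := ht (Set.mem_univ y)
    simp only [Set.mem_iUnion] at hy
    obtain ⟨x, hxt, y', hy'⟩ := hy
    exact ⟨⟨x, hxt⟩, y', hy'⟩
  · have h1 : N x.1 ≤ b₀ := hb₀ _ (Finset.mem_image_of_mem N x.2)
    exact IsZero.of_iso (hN x.1 k (by omega)) (homologyResDIso (j x.1) K k).symm

/-- the termwise direct image along an embedding detects vanishing of cohomology -/
theorem isZero_homology_of_pushCx {U A : Scheme.{u}} (i : U ⟶ A)
    (hi : Topology.IsInducing i.base) (F : CochainComplex U.Modules ℤ) (q : ℤ)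
    (h : IsZero (((DerSch.pushCx i).obj F).homology q)) : IsZero (F.homology q) := by
  apply isZero_of_forall_isZero_stalk
  intro u
  have hC : IsZero (((stalkC (i.base u)).obj ((DerSch.pushCx i).obj F)).homology q) :=
    IsZero.of_iso ((stalkFun (i.base u)).map_isZero h)
      ((((DerSch.pushCx i).obj F).sc q).mapHomologyIso (stalkFun (i.base u)))
  have h2 : IsZero (((DRing.restrictCx (i.stalkMap u).hom).obj ((stalkC u).obj F)).homology q) :=
    IsZero.of_iso hC
      ((HomologicalComplex.homologyFunctor _ _ q).mapIso (pushStalkCIso i u hi F)).symm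
  have h3 : ((stalkC u).obj F).ExactAt q :=
    (exactAt_restrict_iff _ _ q).1 ((exactAt_iff_isZero_homology _ _).2 h2)
  exact IsZero.of_iso ((exactAt_iff_isZero_homology _ _).1 h3)
    ((F.sc q).mapHomologyIso (stalkFun u)).symm

/-- a chart immersion of an affine open is a closed immersion -/
theorem isClosedImmersion_chartImm (U : X.Opens) (hU : IsAffineOpen U) {R : Type u} [CommRing R]
    {n : ℕ} (φ : MvPolynomial (Fin n) R →+* Γ(X, U)) (hφ : Function.Surjective φ) :
    IsClosedImmersion (DerSch.chartImm U φ) := by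
  unfold DerSch.chartImm
  haveI : IsIso U.toSpecΓ := by
    rw [← hU.isoSpec_hom]
    infer_instance
  haveI : IsClosedImmersion (Spec.map (CommRingCat.ofHom φ)) :=
    IsClosedImmersion.spec_of_surjective _ hφ
  infer_instance

/-- restriction of the cohomology of `Q G` to an open in terms of the restricted complex -/
noncomputable def homologyRestrictIso (G : CochainComplex X.Modules ℤ) (U : X.Opens) (q : ℤ) :
    (DCoh.HD (DCoh.toD X G) q).restrict U.ι ≅ ((DCoh.restrictCx U).obj G).homology q :=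
  (homologyResDIso U.ι (DCoh.toD X G) q).symm ≪≫
    (DerivedCategory.homologyFunctor _ q).mapIso ((facD U.ι).app G) ≪≫
    (DerivedCategory.homologyFunctorFactors _ q).app _

/-- S6236 -/
theorem exists_isLE_of_isPseudoCoherentRel [CompactSpace X] (f : X ⟶ Y) (n : ℤ) (E : DCoh.D X)
    (hE : DerSch.IsPseudoCoherentRel f n E) : ∃ b : ℤ, E.IsLE b := by
  obtain ⟨-, 𝒱, h𝒱, hV⟩ := hE
  let G := DerivedCategory.Q.objPreimage E
  have eG : DCoh.toD X G ≅ E := DerivedCategory.Q.objObjPreimageIso E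
  -- local bounds
  have hloc : ∀ x : X, ∃ (U : X.Opens) (b : ℤ), x ∈ U ∧
      ∀ q : ℤ, b < q → IsZero ((DCoh.HD E q).restrict U.ι) := by
    intro x
    have hx : f.base x ∈ (⨆ V ∈ 𝒱, (V : Y.Opens)) := by rw [h𝒱]; trivial
    simp only [Opens.mem_iSup] at hx
    obtain ⟨V, hV𝒱, hxV⟩ := hx
    obtain ⟨𝒰, h𝒰, hU⟩ := hV V hV𝒱
    have hx' : x ∈ (⨆ U ∈ 𝒰, (U : X.Opens)) := by rw [h𝒰]; exact hxV
    simp only [Opens.mem_iSup] at hx'
    obtain ⟨U, hU𝒰, hxU⟩ := hx'
    have hle : (U : X.Opens) ≤ f ⁻¹ᵁ (V : Y.Opens) := by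
      rw [← h𝒰]
      exact le_iSup₂ (f := fun (U : X.affineOpens) (_ : U ∈ 𝒰) => (U : X.Opens)) U hU𝒰
    obtain ⟨k, φ, hφ, hpc⟩ := hU U hU𝒰 hle
    have hcl := isClosedImmersion_chartImm (U : X.Opens) U.2 φ hφ.1
    have hind : Topology.IsInducing (DerSch.chartImm (U : X.Opens) φ).base :=
      (DerSch.chartImm (U : X.Opens) φ).isEmbedding.isInducing
    obtain ⟨b, hb⟩ := exists_isZero_HD_of_isPseudoCoherentD n _ (hpc G ⟨eG⟩)
    refine ⟨U, b, hxU, fun q hq => ?_⟩
    have h1 : IsZero (((DerSch.pushCx (DerSch.chartImm (U : X.Opens) φ)).obj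
        ((DCoh.restrictCx (U : X.Opens)).obj G)).homology q) :=
      IsZero.of_iso (hb q hq) ((DerivedCategory.homologyFunctorFactors _ q).app _).symm
    have h2 := isZero_homology_of_pushCx _ hind _ q h1
    have e : (DCoh.HD E q).restrict (U : X.Opens).ι ≅
        ((DCoh.restrictCx (U : X.Opens)).obj G).homology q :=
      (Scheme.Modules.restrictFunctor (U : X.Opens).ι).mapIso
        ((DerivedCategory.homologyFunctor _ q).mapIso eG.symm) ≪≫
        homologyRestrictIso G (U : X.Opens) q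
    exact IsZero.of_iso h2 e
  choose U b hxU hb using hloc
  obtain ⟨t, ht⟩ := isCompact_univ.elim_finite_subcover (fun x => ((U x : X.Opens) : Set X))
    (fun x => (U x).isOpen) (fun x _ => Set.mem_iUnion.2 ⟨x, hxU x⟩)
  obtain ⟨b₀, hb₀⟩ := (t.image b).exists_le
  refine ⟨b₀, (DerivedCategory.isLE_iff E b₀).2 (fun k hk => ?_)⟩
  refine isZero_of_isZero_restrict (fun x : t => ((U x.1 : X.Opens) : Scheme.{u}))
    (fun x => (U x.1).ι) (fun y => ?_) (fun x => ?_)
  · have hy := ht (Set.mem_univ y)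
    simp only [Set.mem_iUnion] at hy
    obtain ⟨x, hxt, hyx⟩ := hy
    exact ⟨⟨x, hxt⟩, ⟨y, hyx⟩, rfl⟩
  · have h1 : b x.1 ≤ b₀ := hb₀ _ (Finset.mem_image_of_mem b x.2)
    exact hb x.1 k (by omega)

end Groth.Agent.Lib.Helper1.ChartPC
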