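import Mathlib
import Groth.Agent.Lib.Helper1PC16
import Groth.Agent.Lib.Helper1Devissage
set_option backward.isDefEq.respectTransparency.types false

/-!
# Pseudo-coherence on Noetherian schemes in terms of coherent cohomology (helper1)
-/

set_option autoImplicit false
set_option linter.style.haveILetI false
set_option linter.unusedSectionVars false
universe u
open CategoryTheory CategoryTheory.Limits AlgebraicGeometry

attribute [local instance] HasDerivedCategory.standard

namespace Groth.Agent.Lib.Helper1.SPL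

open Groth.Agent.Lib.Helper1.Sky Groth.Agent.Lib.Helper1.CI Groth.Agent.Lib.Helper1.StalkTensor
open Groth.Agent.Lib.Helper1.FLF Groth.Agent.Lib.Helper23.QCohLocal Groth.Agent.Lib.Helper23.FinType
open Groth.Agent.Lib.Helper23.ModLocal Groth.Agent.Helper18Strict Groth.Agent.Lib.Helper2.LocFree
open Groth.Agent.S14388 Groth.Agent.Lib.Helper1.Devissage Pretriangulated

/-- a coherent module on a locally Noetherian scheme is `(-k)`-pseudo-coherent -/
theorem hasPresM_single_of_isCoh_aux (k : ℕ) : ∀ {X : Scheme.{u}} [IsLocallyNoetherian X]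
    (F : X.Modules) [F.IsQuasicoherent] (_ : CohB1.IsFT F) (x : X),
    HasPresM (-(k : ℤ)) (DCoh.inD X F) x := by
  induction k with
  | zero =>
    intro X _ F _ hF x
    simpa using hasPresM_zero_of_isFT F hF x
  | succ k ih =>
    intro X _ F _ hF x
    haveI := hF
    obtain ⟨ι, U, G, hG, hU, -⟩ := exists_isOpenCover_generatingSections F
    have hx : x ∈ (⨆ i, U i : X.Opens) := by rw [hU.iSup_eq_top]; trivial
    obtain ⟨i, hxi⟩ := TopologicalSpace.Opens.mem_iSup.1 hx
    haveI := (hG i).finite
    let Fr : ((U i : X.Opens) : Scheme.{u}).Modules :=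
      SheafOfModules.free (R := ((U i : X.Opens) : Scheme.{u}).ringCatSheaf) (G i).I
    let π : Fr ⟶ F.restrict (U i).ι := (G i).π
    have hπ : Epi π := (G i).epi
    have hFr : FlatMod.IsFinLocFree Fr := isFinLocFree_free (G i).I
    haveI : Fr.IsQuasicoherent := isQCoh_of_isFP _ (isFP_of_isFinLocFree _ hFr)
    haveI : SheafOfModules.IsFiniteType (R := ((U i : X.Opens) : Scheme.{u}).ringCatSheaf) Fr :=
      isFT_of_isFP _ (isFP_of_isFinLocFree _ hFr)
    haveI : (F.restrict (U i).ι).IsQuasicoherent := inferInstance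
    haveI : (kernel π).IsQuasicoherent := isQuasicoherent_kernel π
    have hKft : CohB1.IsFT (kernel π) := isFiniteType_of_mono (kernel.ι π)
    let S : ShortComplex ((U i : X.Opens) : Scheme.{u}).Modules :=
      ShortComplex.mk (kernel.ι π) π (kernel.condition π)
    have hS : S.ShortExact :=
      { exact := ShortComplex.exact_of_f_is_kernel S (kernelIsKernel π)
        mono_f := inferInstanceAs (Mono (kernel.ι π))
        epi_g := hπ }
    have hT := hS.singleTriangle_distinguished
    have h₁ : HasPresM (-(k : ℤ)) (DCoh.inD _ (kernel π))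
        (⟨x, hxi⟩ : ((U i : X.Opens) : Scheme.{u})) := ih (kernel π) hKft _
    have h₁' : HasPresM (-((k + 1 : ℕ) : ℤ) + 1) (DCoh.inD _ (kernel π))
        (⟨x, hxi⟩ : ((U i : X.Opens) : Scheme.{u})) := by
      have he : -((k + 1 : ℕ) : ℤ) + 1 = -(k : ℤ) := by push_cast; ring
      rw [he]
      exact h₁
    have h₂ : HasPresM (-((k + 1 : ℕ) : ℤ)) (DCoh.inD _ Fr)
        (⟨x, hxi⟩ : ((U i : X.Opens) : Scheme.{u})) :=
      hasPresM_single_of_isFinLocFree' _ hFr _ _
    have h₃ : HasPresM (-((k + 1 : ℕ) : ℤ)) (DCoh.inD _ (F.restrict (U i).ι))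
        (⟨x, hxi⟩ : ((U i : X.Opens) : Scheme.{u})) :=
      hasPresM_obj₃ _ hS.singleTriangle hT _ h₁' h₂
    exact hasPresM_of_resD (U i).ι _ (DCoh.inD X F) ⟨x, hxi⟩
      (HasPresM.of_iso (resDSingleIso (U i).ι F).symm h₃)

variable {X : Scheme.{u}}

/-- a coherent module on a locally Noetherian scheme, placed in degree zero, is pseudo-coherent -/
theorem hasPresM_single_of_isCoh [IsLocallyNoetherian X] (F : X.Modules) [F.IsQuasicoherent]
    (hF : CohB1.IsFT F) (m : ℤ) (x : X) : HasPresM m (DCoh.inD X F) x := by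
  by_cases hm : 0 ≤ m
  · exact (hasPresM_zero_of_isFT F hF x).of_le hm
  · have h := hasPresM_single_of_isCoh_aux (-m).toNat F hF x
    rwa [Int.toNat_of_nonneg (by omega), neg_neg] at h

/-- objects all of whose restrictions have vanishing cohomology are pseudo-coherent -/
lemma isPseudoCoherentD_of_isZero_homology (K : DCoh.D X) (m : ℤ)
    (h : ∀ i : ℤ, m ≤ i → IsZero (DCoh.HD K i)) : DCoh.IsPseudoCoherentD m K := by
  rw [isPseudoCoherentD_iff_hasPresM]
  intro x
  have h1 := hasPresM_of_isZero_homology K x (⊤ : X.Opens).ι (by simp) (m - 1) (fun i hi =>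
    IsZero.of_iso ((Scheme.Modules.restrictFunctor (⊤ : X.Opens).ι).map_isZero (h i (by omega)))
      (homologyResDIso (⊤ : X.Opens).ι K i))
  rwa [show m - 1 + 1 = m by ring] at h1

/-- a bounded above object with coherent cohomology in degrees `≥ m` on a locally Noetherian
scheme is `m`-pseudo-coherent -/
theorem isPseudoCoherentD_of_coherent_homology [IsLocallyNoetherian X] (E : DCoh.D X) (m b : ℤ)
    [E.IsLE b] (hcoh : ∀ i : ℤ, m ≤ i → Coh.IsCoh (DCoh.HD E i)) :
    DCoh.IsPseudoCoherentD m E := by
  have hT := (tt (C := X.Modules)).triangleLTGE_distinguished m E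
  -- the left part
  have h₁ : DCoh.IsPseudoCoherentD m ((tt.truncLT m).obj E) :=
    isPseudoCoherentD_of_isZero_homology _ m (fun i hi =>
      DerivedCategory.isZero_of_isLE ((tt.truncLT m).obj E) (m - 1) i (by omega))
  -- the right part
  let P : ObjectProperty (DCoh.D X) := fun K => ∀ n : ℤ, DCoh.IsPseudoCoherentD n K
  haveI : P.IsClosedUnderIsomorphisms := ⟨fun {K K'} e hK n => by
    rw [isPseudoCoherentD_iff_hasPresM]
    intro x
    exact ((isPseudoCoherentD_iff_hasPresM n K).1 (hK n) x).of_iso e⟩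
  have h₃ : P ((tt.truncGE m).obj E) := by
    refine induction_homology' P (fun K hK n => ?_) (fun T hT h1 h3 n => ?_)
      ((tt.truncGE m).obj E) m b ?_ ?_
    · exact isPseudoCoherentD_of_isZero_homology K n (fun i _ =>
        (DerivedCategory.homologyFunctor _ i).map_isZero hK)
    · exact (isPseudoCoherentD_triangle n T hT).2.1 (h1 n) (h3 n)
    · rintro i (hi | hi)
      · exact DerivedCategory.isZero_of_isGE ((tt.truncGE m).obj E) m i hi
      · by_cases him : m ≤ i
        · haveI := isIso_homology_truncGEπ m i him E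
          exact IsZero.of_iso (DerivedCategory.isZero_of_isLE E b i hi)
            (asIso ((DerivedCategory.homologyFunctor X.Modules i).map
              ((tt.truncGEπ m).app E))).symm
        · exact DerivedCategory.isZero_of_isGE ((tt.truncGE m).obj E) m i (by omega)
    · intro j hj _ n
      haveI := isIso_homology_truncGEπ m j hj E
      let F := (DerivedCategory.homologyFunctor X.Modules j).obj ((tt.truncGE m).obj E)
      let eF : DCoh.HD E j ≅ F :=
        asIso ((DerivedCategory.homologyFunctor X.Modules j).map ((tt.truncGEπ m).app E))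
      obtain ⟨hq, hft⟩ := hcoh j hj
      haveI : F.IsQuasicoherent :=
        Groth.Agent.Lib.Helper23.TensorQCoh.isQuasicoherent_of_iso eF
      have hFft : CohB1.IsFT F := isFT_of_iso' eF hft
      rw [isPseudoCoherentD_iff_hasPresM]
      intro x
      have h2 := hasPresM_shift (-j + n) (-j) n rfl (DCoh.inD X F) x
        (hasPresM_single_of_isCoh F hFft _ x)
      exact h2.of_iso (((DerivedCategory.singleFunctors X.Modules).shiftIso (-j) j 0
        (by omega)).app F)
  exact (isPseudoCoherentD_triangle m _ hT).2.1 h₁ (h₃ m)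

/-- local description of the cohomology sheaves of an `m`-pseudo-coherent object -/
lemma HasPresM.exists_opens_homology {m : ℤ} {E : DCoh.D X} {x : X} (h : HasPresM m E x) :
    ∃ V : X.Opens, x ∈ V ∧ ∃ P : CochainComplex (V : Scheme.{u}).Modules ℤ,
      DCoh.IsStrictlyPerfect P ∧
      (∀ k : ℤ, m < k → Nonempty ((DCoh.HD E k).restrict V.ι ≅ P.homology k)) ∧
      ∃ π : P.homology m ⟶ (DCoh.HD E m).restrict V.ι, Epi π := by
  obtain ⟨V, hxV, P, α, hP, hα⟩ := h.exists_opens
  refine ⟨V, hxV, P, hP, fun k hk => ?_, ?_⟩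
  · haveI := hα.1 k hk
    exact ⟨(homologyResDIso V.ι E k).symm ≪≫
      (asIso ((DerivedCategory.homologyFunctor (V : Scheme.{u}).Modules k).map α)).symm ≪≫
      (DerivedCategory.homologyFunctorFactors (V : Scheme.{u}).Modules k).app P⟩
  · haveI := hα.2
    exact ⟨((DerivedCategory.homologyFunctorFactors (V : Scheme.{u}).Modules m).app P).inv ≫
      (DerivedCategory.homologyFunctor (V : Scheme.{u}).Modules m).map α ≫
      (homologyResDIso V.ι E m).hom, inferInstance⟩

/-- S1039, forward direction -/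
theorem coherent_homology_of_isPseudoCoherentD [IsNoetherian X] (E : DCoh.D X)
    (hE : DCoh.IsQCohD E) (m : ℤ) (h : DCoh.IsPseudoCoherentD m E) :
    (∀ i : ℤ, m ≤ i → Coh.IsCoh (DCoh.HD E i)) ∧ ∃ b : ℤ, E.IsLE b := by
  rw [isPseudoCoherentD_iff_hasPresM] at h
  choose V hxV P hP hiso hepi using fun x => (h x).exists_opens_homology
  have hcov : TopologicalSpace.IsOpenCover V := by
    rw [TopologicalSpace.IsOpenCover, eq_top_iff]
    intro x _
    exact TopologicalSpace.Opens.mem_iSup.2 ⟨x, hxV x⟩
  have hPq : ∀ x k, ((P x).X k).IsQuasicoherent := fun x k =>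
    isQCoh_of_isFP _ (isFP_of_isFinLocFree _ ((hP x).2 k))
  have hPft : ∀ x k, SheafOfModules.IsFiniteType (R := (V x : Scheme.{u}).ringCatSheaf)
      ((P x).X k) := fun x k => isFT_of_isFP _ (isFP_of_isFinLocFree _ ((hP x).2 k))
  refine ⟨fun i hi => ?_, ?_⟩
  · haveI : (DCoh.HD E i).IsQuasicoherent := hE i
    refine ⟨inferInstance, isFiniteType_of_open_cover _ V hcov (fun x => ?_)⟩
    haveI := isFiniteType_homology (P x) (hPq x) (hPft x) i
    haveI := isQuasicoherent_homology (P x) (hPq x) i
    by_cases him : m = i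
    · subst him
      obtain ⟨π, hπ⟩ := hepi x
      haveI : ((DCoh.HD E m).restrict (V x).ι).IsQuasicoherent := inferInstance
      exact isFiniteType_of_epi π
    · obtain ⟨e⟩ := hiso x i (by omega)
      exact isFiniteType_of_iso e.symm
  · choose a b hab using fun x => (hP x).1
    obtain ⟨t, ht⟩ := isCompact_univ.elim_finite_subcover (fun x => (V x : Set X))
      (fun x => (V x).isOpen) (fun x _ => Set.mem_iUnion.2 ⟨x, hxV x⟩)
    obtain ⟨b₀, hb₀⟩ := (t.image b).exists_le
    refine ⟨max b₀ m, (DerivedCategory.isLE_iff E (max b₀ m)).2 (fun k hk => ?_)⟩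
    refine isZero_of_isZero_restrict (fun x : t => ((V x.1 : X.Opens) : Scheme.{u}))
      (fun x => (V x.1).ι) (fun y => ?_) (fun x => ?_)
    · have hy := ht (Set.mem_univ y)
      simp only [Set.mem_iUnion] at hy
      obtain ⟨x, hxt, hyx⟩ := hy
      exact ⟨⟨x, hxt⟩, ⟨y, hyx⟩, rfl⟩
    · obtain ⟨e⟩ := hiso x.1 k (lt_of_le_of_lt (le_max_right _ _) hk)
      have h2 : b x.1 ≤ b₀ := hb₀ _ (Finset.mem_image_of_mem b x.2)
      have hzX : IsZero ((P x.1).X k) := hab x.1 k (Or.inr (by
        have := lt_of_le_of_lt (le_max_left b₀ m) hk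
        omega))
      exact IsZero.of_iso (IsZero.of_epi ((P x.1).homologyπ k)
        (IsZero.of_mono ((P x.1).iCycles k) hzX)) e

end Groth.Agent.Lib.Helper1.SPL
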