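import Mathlib
import Groth.Agent.Lib.Helper1PC17
import Groth.Agent.Lib.Helper1Devissage
import Groth.Agent.Lib.Helper1RpushRes
import Groth.Agent.Lib.Helper17FinProjLoc
import Groth.Agent.Lib.Helper27ClosedTransfer
import Groth.Agent.Lib.Helper23Support
import Groth.Agent.Lib.Helper23ModLocal
import Groth.Agent.Lib.Helper17Hyp19
set_option backward.isDefEq.respectTransparency.types false
set_option autoImplicit false
set_option linter.style.haveILetI false
set_option maxHeartbeats 400000
universe u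
open CategoryTheory CategoryTheory.Limits AlgebraicGeometry Opposite TopologicalSpace Pretriangulated

attribute [local instance] HasDerivedCategory.standard

namespace Groth.Agent.Lib.Helper1.ClosedPC

open Groth.Agent.Lib.Helper1.SPL Groth.Agent.Lib.Helper1.Sky ZeroObject

variable {X : Scheme.{u}}

/-- pseudo-coherent in every degree, pointwise local presentation form -/
def PCAll (X : Scheme.{u}) : ObjectProperty (DCoh.D X) := fun K => ∀ (m : ℤ) (x : X), HasPresM m K x

instance : (PCAll X).IsClosedUnderIsomorphisms where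
  of_iso e h := fun m x => (h m x).of_iso e

lemma pcAll_of_isZero (K : DCoh.D X) (hK : IsZero K) : PCAll X K := by
  intro m x
  have h1 := hasPresM_of_isZero_homology K x (⊤ : X.Opens).ι (by simp) (m - 1) (fun i _ =>
    (DerivedCategory.homologyFunctor _ i).map_isZero ((resD _).map_isZero hK))
  rwa [show m - 1 + 1 = m by ring] at h1

instance : (PCAll X).ContainsZero where
  exists_zero := ⟨0, isZero_zero _, pcAll_of_isZero _ (isZero_zero _)⟩

instance : (PCAll X).IsStableUnderShift ℤ where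
  isStableUnderShiftBy n :=
    { le_shift := fun K hK m x => hasPresM_shift (n + m) n m rfl K x (hK (n + m) x) }

instance : (PCAll X).IsTriangulatedClosed₂ := .mk' (fun T hT h₁ h₃ m x =>
  hasPresM_obj₃ m T.invRotate (inv_rot_of_distTriang _ hT) x
    (hasPresM_shift m (-1) (m + 1) (by ring) T.obj₃ x (h₃ m x)) (h₁ m x))

instance : (PCAll X).IsTriangulated where

lemma pcAll_iff (K : DCoh.D X) : PCAll X K ↔ ∀ m : ℤ, DCoh.IsPseudoCoherentD m K := by
  simp only [isPseudoCoherentD_iff_hasPresM]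
  rfl

section abstract

universe w₁ w₂ w₃ w₄ v₁ v₂ v₃ v₄ u₁ u₂ u₃ u₄

variable {A : Type u₁} [Category.{v₁} A] [Abelian A]
  {B : Type u₂} [Category.{v₂} B] [Abelian B]
  {A' : Type u₃} [Category.{v₃} A'] [Abelian A']
  {B' : Type u₄} [Category.{v₄} B'] [Abelian B']
  [HasDerivedCategory.{w₁} A] [HasDerivedCategory.{w₂} B] [HasDerivedCategory.{w₃} A']
  [HasDerivedCategory.{w₄} B']
  (G : A ⥤ B) [G.Additive] [PreservesFiniteLimits G] [PreservesFiniteColimits G]
  (G' : A' ⥤ B') [G'.Additive] [PreservesFiniteLimits G'] [PreservesFiniteColimits G']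
  (E : B ⥤ B') [E.Additive] [PreservesFiniteLimits E] [PreservesFiniteColimits E]
  (E' : A ⥤ A') [E'.Additive] [PreservesFiniteLimits E'] [PreservesFiniteColimits E']
  (θ : G ⋙ E ≅ E' ⋙ G')

open DerivedCategory in
/-- a commutative square of exact functors induces a commutative square of derived functors -/
noncomputable def mapDCompIso :
    G.mapDerivedCategory ⋙ E.mapDerivedCategory ≅
      E'.mapDerivedCategory ⋙ G'.mapDerivedCategory :=
  Localization.liftNatIso Q (HomologicalComplex.quasiIso A (ComplexShape.up ℤ))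
    (Q ⋙ G.mapDerivedCategory ⋙ E.mapDerivedCategory)
    (Q ⋙ E'.mapDerivedCategory ⋙ G'.mapDerivedCategory) _ _
    ((Functor.associator _ _ _).symm ≪≫
      Functor.isoWhiskerRight G.mapDerivedCategoryFactors E.mapDerivedCategory ≪≫
      Functor.associator _ _ _ ≪≫
      Functor.isoWhiskerLeft _ E.mapDerivedCategoryFactors ≪≫
      (Functor.associator _ _ _).symm ≪≫
      Functor.isoWhiskerRight (Groth.Agent.Lib.Helper1.RpushRes.cIso G G' E E' θ) Q ≪≫
      Functor.associator _ _ _ ≪≫
      Functor.isoWhiskerLeft _ G'.mapDerivedCategoryFactors.symm ≪≫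
      (Functor.associator _ _ _).symm ≪≫
      Functor.isoWhiskerRight E'.mapDerivedCategoryFactors.symm G'.mapDerivedCategory ≪≫
      Functor.associator _ _ _)

end abstract

section push

variable {Z : Scheme.{u}} (i : Z ⟶ X) [IsClosedImmersion i]

instance preservesHomology_push : (Scheme.Modules.pushforward i).PreservesHomology :=
  Groth.Agent.Lib.Helper17.FinLoc.preservesHomology_pushforward_of_isClosedImmersion i

instance preservesFiniteLimits_push : PreservesFiniteLimits (Scheme.Modules.pushforward i) :=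
  Functor.preservesFiniteLimits_of_preservesHomology _

instance preservesFiniteColimits_push : PreservesFiniteColimits (Scheme.Modules.pushforward i) :=
  Functor.preservesFiniteColimits_of_preservesHomology _

/-- the (exact) derived pushforward along a closed immersion -/
noncomputable abbrev pushD : DCoh.D Z ⥤ DCoh.D X :=
  (Scheme.Modules.pushforward i).mapDerivedCategory

/-- cohomology commutes with pushforward along a closed immersion -/
noncomputable def homologyPushIso (K : DCoh.D Z) (n : ℤ) :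
    DCoh.HD ((pushD i).obj K) n ≅ (Scheme.Modules.pushforward i).obj (DCoh.HD K n) :=
  (Groth.Agent.Lib.Helper17.Hyp.homologyNatIso (Scheme.Modules.pushforward i) n).app K

/-- restriction to an open commutes with pushforward along a closed immersion -/
noncomputable def pushResIso (W : X.Opens) :
    pushD i ⋙ resD W.ι ≅ resD (i ⁻¹ᵁ W).ι ⋙ pushD (i ∣_ W) :=
  mapDCompIso _ _ _ _ (Groth.Agent.Lib.Helper1.RpushRes.pushRestrictIso i W)

lemma isZero_of_isZero_push (M : Z.Modules)
    (h : IsZero ((Scheme.Modules.pushforward i).obj M)) : IsZero M := by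
  haveI := Groth.Agent.Lib.Helper27ClosedTransfer.faithful_pushforward i
  rw [IsZero.iff_id_eq_zero] at h ⊢
  apply (Scheme.Modules.pushforward i).map_injective
  rw [CategoryTheory.Functor.map_id, CategoryTheory.Functor.map_zero]
  exact h

lemma isZero_of_isEmpty [IsEmpty X] (M : X.Modules) : IsZero M :=
  Groth.Agent.Lib.Helper23.ModLocal.isZero_of_forall_eq_zero (fun U s =>
    Groth.Agent.Lib.Helper23.Support.eq_zero_of_disjoint_support M U
      (fun x _ => (IsEmpty.false x).elim) s)

/-- everything vanishes on the empty scheme -/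
lemma isZero_D_of_isEmpty [IsEmpty X] (K : DCoh.D X) : IsZero K := by
  have hz : IsZero (DerivedCategory.Q.objPreimage K : CochainComplex X.Modules ℤ) := by
    rw [IsZero.iff_id_eq_zero]
    ext n : 1
    exact (isZero_of_isEmpty _).eq_of_src _ _
  exact IsZero.of_iso (DerivedCategory.Q.map_isZero hz) (DerivedCategory.Q.objObjPreimageIso K).symm

lemma pcAll_resD (K : DCoh.D X) (h : PCAll X K) {U : Scheme.{u}} (j : U ⟶ X) [IsOpenImmersion j] :
    PCAll U ((resD j).obj K) := fun m y => hasPresM_resD j m K y (h m (j y))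

lemma pcAll_of_resD (K : DCoh.D X)
    (h : ∀ x : X, ∃ W : X.Opens, x ∈ W ∧ PCAll W ((resD W.ι).obj K)) : PCAll X K := by
  intro m x
  obtain ⟨W, hxW, hW⟩ := h x
  exact hasPresM_of_resD W.ι m K ⟨x, hxW⟩ (hW m ⟨x, hxW⟩)

/-- hypothesis: `i_* O_Z` is pseudo-coherent -/
def HO : Prop :=
  PCAll X (DCoh.inD X ((Scheme.Modules.pushforward i).obj (Coh.structureModule Z)))

/-- `(i_* M)|_W` as an object of `D(O_W)` -/
noncomputable def resPushSingleIso (W : X.Opens) (M : Z.Modules) :
    (resD W.ι).obj (DCoh.inD X ((Scheme.Modules.pushforward i).obj M)) ≅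
      DCoh.inD W ((Scheme.Modules.pushforward (i ∣_ W)).obj (M.restrict (i ⁻¹ᵁ W).ι)) :=
  resDSingleIso W.ι _ ≪≫ (DerivedCategory.singleFunctor _ 0).mapIso
    ((Groth.Agent.Lib.Helper1.RpushRes.pushRestrictIso i W).app M)

variable {i} in
lemma HO.restrict (hO : HO i) (W : X.Opens) : HO (i ∣_ W) := by
  have h1 := pcAll_resD _ hO W.ι
  exact (PCAll _).prop_of_iso (resPushSingleIso i W (Coh.structureModule Z) ≪≫
    (DerivedCategory.singleFunctor _ 0).mapIso ((Scheme.Modules.pushforward (i ∣_ W)).mapIso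
      (Scheme.Modules.restrictUnitIso (i ⁻¹ᵁ W).ι))) h1

lemma pcAll_sigma {n : ℕ} (f : Fin n → DCoh.D X) (h : ∀ j, PCAll X (f j)) : PCAll X (∐ f) :=
  (PCAll X).prop_of_iso ((biproduct.isoProduct f).symm ≪≫ biproduct.isoCoproduct f)
    ((PCAll X).prop_product h)

variable {i} in
/-- `i_*` of a free module of finite rank is pseudo-coherent -/
lemma pcAll_push_freeMod (hO : HO i) (n : ℕ) :
    PCAll X (DCoh.inD X ((Scheme.Modules.pushforward i).obj (FlatMod.freeMod Z n))) := by
  let Φ : Z.Modules ⥤ DCoh.D X :=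
    Scheme.Modules.pushforward i ⋙ DerivedCategory.singleFunctor X.Modules 0
  have e : Φ.obj (FlatMod.freeMod Z n) ≅ ∐ fun _ : Fin n => Φ.obj (Coh.structureModule Z) :=
    PreservesCoproduct.iso Φ _
  exact (PCAll X).prop_of_iso e.symm (pcAll_sigma _ (fun _ => hO))

/-- near every point of `X`, a finite locally free module on `Z` is free over the preimage -/
lemma exists_opens_free (P : Z.Modules) (hP : FlatMod.IsFinLocFree P) (x : X) :
    ∃ W : X.Opens, x ∈ W ∧ ∃ n : ℕ,
      Nonempty (P.restrict (i ⁻¹ᵁ W).ι ≅ FlatMod.freeMod (↑(i ⁻¹ᵁ W)) n) := by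
  by_cases hx : x ∈ Set.range i.base
  · obtain ⟨z, rfl⟩ := hx
    obtain ⟨U, n, hzU, ⟨e⟩⟩ := hP z
    obtain ⟨V, rfl⟩ := Groth.Agent.Lib.Helper27ClosedTransfer.exists_preimage_eq i U
    exact ⟨V, hzU, n, ⟨e⟩⟩
  · let W : X.Opens := ⟨(Set.range i.base)ᶜ, i.isClosedEmbedding.isClosed_range.isOpen_compl⟩
    haveI : IsEmpty ↥(i ⁻¹ᵁ W) := ⟨fun z => z.2 ⟨z.1, rfl⟩⟩
    haveI : IsEmpty (↑(i ⁻¹ᵁ W) : Scheme.{u}) := this
    exact ⟨W, hx, 0, ⟨(isZero_of_isEmpty _).iso (isZero_of_isEmpty _)⟩⟩

variable {i} in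
/-- `i_*` of a finite locally free module is pseudo-coherent -/
lemma pcAll_push_of_isFinLocFree (hO : HO i) (P : Z.Modules) (hP : FlatMod.IsFinLocFree P) :
    PCAll X (DCoh.inD X ((Scheme.Modules.pushforward i).obj P)) := by
  refine pcAll_of_resD _ (fun x => ?_)
  obtain ⟨W, hxW, n, ⟨e⟩⟩ := exists_opens_free i P hP x
  refine ⟨W, hxW, ?_⟩
  exact (PCAll _).prop_of_iso ((resPushSingleIso i W P ≪≫
    (DerivedCategory.singleFunctor _ 0).mapIso
      ((Scheme.Modules.pushforward (i ∣_ W)).mapIso e)).symm)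
    (pcAll_push_freeMod (hO.restrict W) n)

lemma pcAll_single_shift (N : X.Modules) (h : PCAll X (DCoh.inD X N)) (j : ℤ) :
    PCAll X ((DerivedCategory.singleFunctor X.Modules j).obj N) := by
  have e := ((DerivedCategory.singleFunctors X.Modules).shiftIso (-j) j 0 (by omega)).app N
  exact (PCAll X).prop_of_iso e ((PCAll X).le_shift (-j) _ h)

variable {i} in
/-- `i_*` of a strictly perfect complex is pseudo-coherent -/
lemma pcAll_pushD_of_isStrictlyPerfect (hO : HO i) (P : CochainComplex Z.Modules ℤ)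
    (hP : DCoh.IsStrictlyPerfect P) : PCAll X ((pushD i).obj (DerivedCategory.Q.obj P)) := by
  obtain ⟨⟨a, b, hv⟩, hfl⟩ := hP
  let P' : ObjectProperty (DCoh.D Z) := fun K => PCAll X ((pushD i).obj K)
  haveI : P'.IsClosedUnderIsomorphisms :=
    ⟨fun e h => (PCAll X).prop_of_iso ((pushD i).mapIso e) h⟩
  refine Groth.Agent.Lib.Helper1.Devissage.induction_terms' P'
    (fun K hK => pcAll_of_isZero _ ((pushD i).map_isZero hK))
    (fun T hT h₁ h₃ => (PCAll X).ext_of_isTriangulatedClosed₂ _
      ((pushD i).map_distinguished _ hT) h₁ h₃)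
    (fun j M N ⟨e⟩ h => (PCAll X).prop_of_iso
      ((pushD i).mapIso ((DerivedCategory.singleFunctor _ j).mapIso e)) h)
    P a b hv (fun j _ _ => ?_)
  have e := ((Scheme.Modules.pushforward i).mapDerivedCategorySingleFunctor j).app (P.X j)
  exact (PCAll X).prop_of_iso e.symm
    (pcAll_single_shift _ (pcAll_push_of_isFinLocFree hO _ (hfl j)) j)

omit [IsClosedImmersion i] in
lemma hasPresM_of_propM {m : ℤ} {L' L : DCoh.D X} (β : L' ⟶ L) (hβ : PropM m β) (x : X)
    (h : HasPresM m L' x) : HasPresM m L x := by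
  obtain ⟨U, j, hj, hx, E₀, α₀, hE₀, hα₀⟩ := h
  haveI := hj
  exact ⟨U, j, hj, hx, E₀, α₀ ≫ (resD j).map β, hE₀,
    propM_comp m hα₀ (propM_mapDerivedCategory _ m β hβ)⟩

variable {i} in
/-- (⇒) of S1102, pointwise -/
theorem hasPresM_pushD (hO : HO i) (E : DCoh.D Z) (m : ℤ) (h : ∀ z, HasPresM m E z) (x : X) :
    HasPresM m ((pushD i).obj E) x := by
  by_cases hx : x ∈ Set.range i.base
  · obtain ⟨z, rfl⟩ := hx
    obtain ⟨V, hzV, hV⟩ := (h z).exists_opens_le
    obtain ⟨W, rfl⟩ := Groth.Agent.Lib.Helper27ClosedTransfer.exists_preimage_eq i V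
    obtain ⟨P, α, hP, hα⟩ := hV _ le_rfl
    have h1 : HasPresM m ((pushD (i ∣_ W)).obj ((resD (i ⁻¹ᵁ W).ι).obj E)) ⟨i.base z, hzV⟩ :=
      hasPresM_of_propM _ (propM_mapDerivedCategory _ m α hα) _
        (pcAll_pushD_of_isStrictlyPerfect (hO.restrict W) P hP m _)
    exact hasPresM_of_resD W.ι m _ ⟨i.base z, hzV⟩ (h1.of_iso ((pushResIso i W).app E).symm)
  · let W : X.Opens := ⟨(Set.range i.base)ᶜ, i.isClosedEmbedding.isClosed_range.isOpen_compl⟩
    haveI : IsEmpty ↥(i ⁻¹ᵁ W) := ⟨fun z => z.2 ⟨z.1, rfl⟩⟩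
    haveI : IsEmpty (↑(i ⁻¹ᵁ W) : Scheme.{u}) := this
    have hz : IsZero ((resD W.ι).obj ((pushD i).obj E)) :=
      IsZero.of_iso ((pushD (i ∣_ W)).map_isZero (isZero_D_of_isEmpty _)) ((pushResIso i W).app E)
    exact hasPresM_of_resD W.ι m _ ⟨x, hx⟩ (pcAll_of_isZero _ hz m _)

end push

end Groth.Agent.Lib.Helper1.ClosedPC
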