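import Mathlib
import Groth.Agent.Lib.Helper1ClosedPC
set_option backward.isDefEq.respectTransparency.types false
set_option autoImplicit false
set_option linter.style.haveILetI false
set_option maxHeartbeats 400000
universe u
open CategoryTheory CategoryTheory.Limits AlgebraicGeometry Opposite TopologicalSpace Pretriangulated

attribute [local instance] HasDerivedCategory.standard

namespace Groth.Agent.Lib.Helper1.ClosedPC

open Groth.Agent.Lib.Helper1.SPL Groth.Agent.Lib.Helper1.Sky ZeroObject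
open Groth.Agent.S14388 DerivedCategory

variable {X : Scheme.{u}}

/-- an object with vanishing cohomology above `n` and top cohomology of finite type is
`n`-pseudo-coherent -/
lemma hasPresM_of_isFT_top (E : DCoh.D X) (n : ℤ) (hv : ∀ j : ℤ, n < j → IsZero (DCoh.HD E j))
    (hF : CohB1.IsFT (DCoh.HD E n)) (x : X) : HasPresM n E x := by
  haveI hLE : E.IsLE n := (DerivedCategory.isLE_iff E n).2 hv
  have hT := tt.triangleLTGE_distinguished n E
  have hQGE : ((tt.truncGE n).obj E).IsGE n := inferInstance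
  have hQLE : ((tt.truncGE n).obj E).IsLE n := inferInstance
  obtain ⟨eQ⟩ := Groth.Agent.S0973.iso_single_of_amp ((tt.truncGE n).obj E) n
  have hπiso := isIso_homology_truncGEπ n n le_rfl E
  let eH : (homologyFunctor X.Modules n).obj ((tt.truncGE n).obj E) ≅
      (homologyFunctor X.Modules n).obj E :=
    (asIso ((homologyFunctor X.Modules n).map ((tt.truncGEπ n).app E))).symm
  let e : (tt.truncGE n).obj E ≅ (singleFunctor X.Modules n).obj (DCoh.HD E n) :=
    eQ ≪≫ (singleFunctor X.Modules n).mapIso eH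
  have eS := ((DerivedCategory.singleFunctors X.Modules).shiftIso (-n) n 0 (by omega)).app
    (DCoh.HD E n)
  have h3 : HasPresM n ((tt.truncGE n).obj E) x :=
    ((hasPresM_shift 0 (-n) n (by omega) _ x (hasPresM_zero_of_isFT _ hF x)).of_iso eS).of_iso
      e.symm
  have h1 : HasPresM n ((tt.truncLT n).obj E) x := by
    have hle : ((tt.truncLT n).obj E).IsLE (n - 1) := inferInstance
    exact (isPseudoCoherentD_iff_hasPresM n _).1
      (isPseudoCoherentD_of_isZero_homology _ n (fun i hi =>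
        (DerivedCategory.isLE_iff _ (n - 1)).1 hle i (by omega))) x
  exact hasPresM_obj₃ n ((tt.triangleLTGE n).obj E).invRotate (inv_rot_of_distTriang _ hT) x
    (hasPresM_shift n (-1) (n + 1) (by ring) _ x h3) h1

lemma hasPresM_Q_of_isStrictlyPerfect (P : CochainComplex X.Modules ℤ)
    (hP : DCoh.IsStrictlyPerfect P) (m : ℤ) (x : X) : HasPresM m (DerivedCategory.Q.obj P) x :=
  ⟨X, 𝟙 X, inferInstance, by simp, (resC (𝟙 X)).obj P, ((facD (𝟙 X)).app P).inv,
    isStrictlyPerfect_resC _ P hP, propM_of_isIso m _⟩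

section push

variable {Z : Scheme.{u}} (i : Z ⟶ X) [IsClosedImmersion i]

open Groth.Agent.Lib.Helper23.FinType in
/-- finite type descends along a closed immersion -/
lemma isFT_of_isFT_push (N : Z.Modules) (h : CohB1.IsFT ((Scheme.Modules.pushforward i).obj N)) :
    CohB1.IsFT N := by
  refine isFT_of_local_epi N (fun z => ?_)
  haveI := h
  obtain ⟨ι, U, G, hG, hU, -⟩ :=
    exists_isOpenCover_generatingSections ((Scheme.Modules.pushforward i).obj N)
  have hx : i.base z ∈ (⨆ k, U k : X.Opens) := by rw [hU.iSup_eq_top]; trivial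
  obtain ⟨k, hxk⟩ := TopologicalSpace.Opens.mem_iSup.1 hx
  haveI := (hG k).finite
  let W : X.Opens := U k
  let π : (SheafOfModules.free (R := (W : Scheme.{u}).ringCatSheaf) (G k).I :
      (W : Scheme.{u}).Modules) ⟶ ((Scheme.Modules.pushforward i).obj N).restrict W.ι := (G k).π
  have hπ : Epi π := (G k).epi
  let θ := (Groth.Agent.Lib.Helper1.RpushRes.pushRestrictIso i W).app N
  let adj := Scheme.Modules.pullbackPushforwardAdjunction (i ∣_ W)
  let π₂ : (Scheme.Modules.pullback (i ∣_ W)).obj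
      (SheafOfModules.free (R := (W : Scheme.{u}).ringCatSheaf) (G k).I) ⟶
      N.restrict (i ⁻¹ᵁ W).ι :=
    (Scheme.Modules.pullback (i ∣_ W)).map (π ≫ θ.hom) ≫ adj.counit.app _
  have hpe : (Scheme.Modules.pullback (i ∣_ W)).PreservesEpimorphisms :=
    Functor.preservesEpimorphisms_of_adjunction adj
  have h0 : Epi (π ≫ θ.hom) := epi_comp _ _
  haveI h2 : Epi ((Scheme.Modules.pullback (i ∣_ W)).map (π ≫ θ.hom)) :=
    @Functor.map_epi _ _ _ _ (Scheme.Modules.pullback (i ∣_ W)) hpe _ _ (π ≫ θ.hom) h0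
  haveI h1 := Groth.Agent.Lib.Helper27ClosedTransfer.epi_counit (i ∣_ W) (N.restrict (i ⁻¹ᵁ W).ι)
  haveI : Epi π₂ := epi_comp _ _
  refine ⟨_, (i ⁻¹ᵁ W).ι, inferInstance, ⟨⟨z, hxk⟩, rfl⟩, _, π₂, ?_, inferInstance⟩
  exact Groth.Agent.Lib.Helper1.FLF.isFinLocFree_of_iso
    (Groth.Agent.Lib.Helper27ClosedTransfer.pullbackFreeIso (i ∣_ W) (G k).I).symm
    (isFinLocFree_free (G k).I)

end push

/-- (⇐) of S1102, by descending induction on the top degree -/
theorem hasPresM_of_pushD_aux (k : ℕ) : ∀ {Z X : Scheme.{u}} (i : Z ⟶ X) [IsClosedImmersion i]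
    (_ : HO i) (E : DCoh.D Z) (n m : ℤ), n - m < k →
    (∀ j : ℤ, n < j → IsZero (DCoh.HD E j)) →
    (∀ x, HasPresM m ((pushD i).obj E) x) → ∀ z, HasPresM m E z := by
  induction k with
  | zero =>
    intro Z X i _ hO E n m hk hv h z
    exact (isPseudoCoherentD_iff_hasPresM m _).1
      (isPseudoCoherentD_of_isZero_homology _ m (fun j hj => hv j (by omega))) z
  | succ k ih =>
    intro Z X i _ hO E n m hk hv h z
    by_cases hnm : n < m
    · exact (isPseudoCoherentD_iff_hasPresM m _).1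
        (isPseudoCoherentD_of_isZero_homology _ m (fun j hj => hv j (by omega))) z
    · have hmn : m ≤ n := by omega
      have hv' : ∀ j : ℤ, n < j → IsZero (DCoh.HD ((pushD i).obj E) j) := fun j hj =>
        IsZero.of_iso ((Scheme.Modules.pushforward i).map_isZero (hv j hj)) (homologyPushIso i E j)
      have hFT := isFT_HD_of_hasPresM n _ (fun x => (h x).of_le hmn) hv'
      have hFT' : CohB1.IsFT (DCoh.HD E n) :=
        isFT_of_isFT_push i _ (isFT_of_iso' (homologyPushIso i E n) hFT)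
      obtain ⟨V, hzV, P', α, hP', hα⟩ := (hasPresM_of_isFT_top E n hv hFT' z).exists_opens
      obtain ⟨W, rfl⟩ := Groth.Agent.Lib.Helper27ClosedTransfer.exists_preimage_eq i V
      obtain ⟨C, g, δ, hT⟩ := distinguished_cocone_triangle α
      have hC := (propM_iff_of_distTriang n _ hT).1 hα
      have hT' := (pushD (i ∣_ W)).map_distinguished _ hT
      have h2 : ∀ y : W, HasPresM m
          ((pushD (i ∣_ W)).obj ((resD (i ⁻¹ᵁ W).ι).obj E)) y := fun y =>
        (hasPresM_resD W.ι m _ y (h (W.ι y))).of_iso ((pushResIso i W).app E)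
      have h3 : ∀ y : W, HasPresM m ((pushD (i ∣_ W)).obj C) y := fun y =>
        hasPresM_obj₃ m _ hT' y
          (pcAll_pushD_of_isStrictlyPerfect (hO.restrict W) P' hP' (m + 1) y) (h2 y)
      have h4 := ih (i ∣_ W) (hO.restrict W) C (n - 1) m (by omega)
        (fun j hj => hC j (by omega)) h3
      have h5 : HasPresM m ((resD (i ⁻¹ᵁ W).ι).obj E) ⟨z, hzV⟩ :=
        hasPresM_obj₃ m (Triangle.mk α g δ).invRotate (inv_rot_of_distTriang _ hT) _
          (hasPresM_shift m (-1) (m + 1) (by ring) _ _ (h4 _))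
          (hasPresM_Q_of_isStrictlyPerfect P' hP' m _)
      exact hasPresM_of_resD (i ⁻¹ᵁ W).ι m E ⟨z, hzV⟩ h5

/-- the cohomology of an `m`-pseudo-coherent object is locally bounded above (opens version) -/
lemma exists_opens_isZero_homology {m : ℤ} {K : DCoh.D X} {x : X} (h : HasPresM m K x) :
    ∃ (V : X.Opens) (N : ℤ), x ∈ V ∧ m ≤ N ∧
      ∀ q : ℤ, N < q → IsZero (DCoh.HD ((resD V.ι).obj K) q) := by
  obtain ⟨V, hxV, P, α, ⟨⟨a, b, hv⟩, _⟩, hα⟩ := h.exists_opens
  refine ⟨V, max m b, hxV, le_max_left _ _, fun q hq => ?_⟩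
  haveI := hα.1 q (lt_of_le_of_lt (le_max_left _ _) hq)
  have h1 : IsZero (P.homology q) := by
    have hzero : IsZero (P.X q) := hv q (Or.inr (lt_of_le_of_lt (le_max_right _ _) hq))
    exact (ShortComplex.exact_iff_isZero_homology _).1
      (ShortComplex.exact_of_isZero_X₂ (P.sc q) hzero)
  have h2 : IsZero ((DerivedCategory.homologyFunctor _ q).obj (DerivedCategory.Q.obj P)) :=
    IsZero.of_iso h1 ((DerivedCategory.homologyFunctorFactors _ q).app P)
  exact IsZero.of_iso h2 (asIso ((DerivedCategory.homologyFunctor _ q).map α)).symm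

section main

variable {Z : Scheme.{u}} (i : Z ⟶ X) [IsClosedImmersion i]

/-- **S1102** -/
theorem isPseudoCoherentD_pushD_iff (hO : HO i) (E : DCoh.D Z) (m : ℤ) :
    DCoh.IsPseudoCoherentD m E ↔ DCoh.IsPseudoCoherentD m ((pushD i).obj E) := by
  simp only [isPseudoCoherentD_iff_hasPresM]
  refine ⟨fun h x => hasPresM_pushD hO E m h x, fun h z => ?_⟩
  obtain ⟨V, N, hxV, hmN, hN⟩ := exists_opens_isZero_homology (h (i.base z))
  let E' := (resD (i ⁻¹ᵁ V).ι).obj E
  have hv : ∀ q : ℤ, N < q → IsZero (DCoh.HD E' q) := fun q hq => by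
    apply isZero_of_isZero_push (i ∣_ V)
    refine IsZero.of_iso (hN q hq) ((homologyPushIso (i ∣_ V) E' q).symm ≪≫
      (DerivedCategory.homologyFunctor _ q).mapIso ((pushResIso i V).app E).symm)
  have h2 : ∀ y : V, HasPresM m ((pushD (i ∣_ V)).obj E') y := fun y =>
    (hasPresM_resD V.ι m _ y (h (V.ι y))).of_iso ((pushResIso i V).app E)
  have h3 := hasPresM_of_pushD_aux (N - m + 1).toNat (i ∣_ V) (hO.restrict V) E' N m
    (by omega) hv h2 ⟨z, hxV⟩
  exact hasPresM_of_resD (i ⁻¹ᵁ V).ι m E ⟨z, hxV⟩ h3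

end main

end Groth.Agent.Lib.Helper1.ClosedPC
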