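import Mathlib
import Groth.Agent.Lib.Helper1ClosedPC2
import Groth.Agent.Lib.Helper1ChartPC1
set_option backward.isDefEq.respectTransparency.types false
set_option autoImplicit false
set_option linter.style.haveILetI false
set_option maxHeartbeats 400000
universe u
open CategoryTheory CategoryTheory.Limits AlgebraicGeometry Opposite TopologicalSpace Pretriangulated

attribute [local instance] HasDerivedCategory.standard

namespace Groth.Agent.Lib.Helper1.ChartInd

open Groth.Agent.Lib.Helper1.SPL Groth.Agent.Lib.Helper1.Sky ZeroObject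
open Groth.Agent.Lib.Helper1.ClosedPC Groth.Agent.Lib.Helper1.ChartPC

variable {X Y : Scheme.{u}}

lemma isPseudoCoherentD_of_iso {m : ℤ} {K K' : DCoh.D X} (e : K ≅ K')
    (h : DCoh.IsPseudoCoherentD m K) : DCoh.IsPseudoCoherentD m K' := by
  rw [isPseudoCoherentD_iff_hasPresM] at h ⊢
  exact fun x => (h x).of_iso e

section chart

variable (U : X.Opens) (hU : IsAffineOpen U) {R : Type u} [CommRing R] {n : ℕ}
  (φ : MvPolynomial (Fin n) R →+* Γ(X, U)) (hφ : Function.Surjective φ)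

/-- the chain-level chart test, in terms of the derived functors -/
noncomputable def chartObjIso [IsClosedImmersion (DerSch.chartImm U φ)]
    (G : CochainComplex X.Modules ℤ) :
    DCoh.toD _ ((DerSch.pushCx (DerSch.chartImm U φ)).obj ((DCoh.restrictCx U).obj G)) ≅
      (pushD (DerSch.chartImm U φ)).obj ((resD U.ι).obj (DCoh.toD X G)) :=
  ((Scheme.Modules.pushforward (DerSch.chartImm U φ)).mapDerivedCategoryFactors.app
      ((DCoh.restrictCx U).obj G)).symm ≪≫
    (pushD (DerSch.chartImm U φ)).mapIso ((facD U.ι).app G).symm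

end chart

/-- the chart test in functorial form -/
theorem chartPC_iff (m : ℤ) (K : DCoh.D X) (U : X.Opens) (V : Y.Opens) {n : ℕ}
    (φ : MvPolynomial (Fin n) Γ(Y, V) →+* Γ(X, U)) [IsClosedImmersion (DerSch.chartImm U φ)] :
    DerSch.ChartPC m K U V φ ↔
      DCoh.IsPseudoCoherentD m ((pushD (DerSch.chartImm U φ)).obj ((resD U.ι).obj K)) := by
  constructor
  · intro h
    let G := DerivedCategory.Q.objPreimage K
    have eG : DCoh.toD X G ≅ K := DerivedCategory.Q.objObjPreimageIso K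
    exact isPseudoCoherentD_of_iso (chartObjIso U φ G ≪≫
      (pushD (DerSch.chartImm U φ)).mapIso ((resD U.ι).mapIso eG)) (h G ⟨eG⟩)
  · intro h G ⟨eG⟩
    exact isPseudoCoherentD_of_iso (chartObjIso U φ G ≪≫
      (pushD (DerSch.chartImm U φ)).mapIso ((resD U.ι).mapIso eG)).symm h

/-- transfer of relative pseudo-coherence along a chartwise implication -/
theorem isPseudoCoherentRel_of_forall_chart (f : X ⟶ Y) (m : ℤ) (E E' : DCoh.D X)
    (H : ∀ (U : X.Opens) (_ : IsAffineOpen U) (V : Y.Opens) (n : ℕ)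
      (φ : MvPolynomial (Fin n) Γ(Y, V) →+* Γ(X, U)) [IsClosedImmersion (DerSch.chartImm U φ)],
      DCoh.IsPseudoCoherentD m ((pushD (DerSch.chartImm U φ)).obj ((resD U.ι).obj E)) →
      DCoh.IsPseudoCoherentD m ((pushD (DerSch.chartImm U φ)).obj ((resD U.ι).obj E')))
    (h : DerSch.IsPseudoCoherentRel f m E) : DerSch.IsPseudoCoherentRel f m E' := by
  obtain ⟨hf, 𝒱, h𝒱, hV⟩ := h
  refine ⟨hf, 𝒱, h𝒱, fun V hV𝒱 => ?_⟩
  obtain ⟨𝒰, h𝒰, hU⟩ := hV V hV𝒱
  refine ⟨𝒰, h𝒰, fun U hU𝒰 hle => ?_⟩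
  obtain ⟨n, φ, hφ, hpc⟩ := hU U hU𝒰 hle
  haveI := isClosedImmersion_chartImm (U : X.Opens) U.2 φ hφ.1
  exact ⟨n, φ, hφ, (chartPC_iff m E' _ _ φ).2 (H _ U.2 _ n φ ((chartPC_iff m E _ _ φ).1 hpc))⟩

/-- S7214 -/
theorem isPseudoCoherentRel_of_biprod (f : X ⟶ Y) (m : ℤ) (E K : DCoh.D X)
    [HasBinaryBiproduct E K] (h : DerSch.IsPseudoCoherentRel f m (E ⊞ K)) :
    DerSch.IsPseudoCoherentRel f m E ∧ DerSch.IsPseudoCoherentRel f m K := by
  have key : ∀ (U : X.Opens) (_ : IsAffineOpen U) (V : Y.Opens) (n : ℕ)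
      (φ : MvPolynomial (Fin n) Γ(Y, V) →+* Γ(X, U)) [IsClosedImmersion (DerSch.chartImm U φ)],
      DCoh.IsPseudoCoherentD m ((pushD (DerSch.chartImm U φ)).obj ((resD U.ι).obj (E ⊞ K))) →
      DCoh.IsPseudoCoherentD m ((pushD (DerSch.chartImm U φ)).obj ((resD U.ι).obj E)) ∧
      DCoh.IsPseudoCoherentD m ((pushD (DerSch.chartImm U φ)).obj ((resD U.ι).obj K)) := by
    intro U _ V n φ _ h1
    let F := resD U.ι ⋙ pushD (DerSch.chartImm U φ)
    haveI : F.Additive := inferInstance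
    haveI := preservesBinaryBiproducts_of_preservesBiproducts F
    exact isPseudoCoherentD_of_biprod m _ _ (isPseudoCoherentD_of_iso (F.mapBiprod E K) h1)
  exact ⟨isPseudoCoherentRel_of_forall_chart f m _ _
      (fun U hU V n φ _ h1 => (key U hU V n φ h1).1) h,
    isPseudoCoherentRel_of_forall_chart f m _ _
      (fun U hU V n φ _ h1 => (key U hU V n φ h1).2) h⟩

end Groth.Agent.Lib.Helper1.ChartInd
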