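import Groth.Agent.Lib.Helper19K0Koszul

/-! `K_0` of perfect complexes supported at the closed point of a regular local ring is generated
by the Koszul complex, part B (helper19). -/

set_option autoImplicit false
universe u
open CategoryTheory CategoryTheory.Limits

namespace Groth.Agent.Lib.Helper19K0Koszul

attribute [local instance] HasDerivedCategory.standard
open DerivedCategory Pretriangulated KZero
open Groth.Agent.Lib.Helper19FinLenLocal Groth.Agent.S7030
open Groth.Agent.Lib.Helper17.K0c Groth.Agent.Lib.Helper17.K0b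
open Groth.Agent.Helper13Kz Groth.Agent.Helper13KzLift Groth.Agent.Helper13KzConcat CohIII

variable (R : Type u) [CommRing R]

/-- the Koszul complex is perfect -/
theorem isPerfect_koszul : ∀ l : List R, DRing.IsPerfect R (DRing.toD (Koszul.koszul R l))
  | [] => isPerfect_of_iso ((singleFunctorIsoCompQ (ModuleCat.{u} R) 0).app (ModuleCat.of R R))
      (Groth.Agent.Lib.Helper17.DCompare.isPerfect_inD_self R)
  | f :: l => by
    have ih := isPerfect_koszul l
    let T := (Q (C := ModuleCat.{u} R)).mapTriangle.obj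
      (CochainComplex.mappingCone.triangle (f • 𝟙 (Koszul.koszul R l)))
    have hT : T ∈ distTriang _ := mappingCone_triangle_distinguished _
    exact Groth.Agent.S6962.isPerfect_cone T hT ih ih

/-- the Koszul complex of a weakly regular sequence resolves the quotient -/
theorem nonempty_koszul_iso (l : List R) (hl : RingTheory.Sequence.IsWeaklyRegular R l) :
    Nonempty (DRing.toD (Koszul.koszul R l) ≅
      (DerivedCategory.singleFunctor (ModuleCat.{u} R) 0).obj
        (ModuleCat.of R (R ⧸ Ideal.ofList l))) := by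
  rw [koszul_eq]
  have hf := (isKoszulRegularSeq_iff R l).1
    (Groth.Agent.Helper13KzIdeal.isKoszulRegularSeq_of_isWeaklyRegular l hl)
  obtain ⟨π, hπ, hker⟩ := exists_surj_KH0 R l
  have hker' : LinearMap.ker π = Ideal.ofList l := by
    rw [hker, smul_eq_mul, Ideal.mul_top]
  let e1 : (R ⧸ LinearMap.ker π) ≃ₗ[R] KH l R 0 := π.quotKerEquivOfSurjective hπ
  let N : ModuleCat.{u} R := ModuleCat.of R (R ⧸ Ideal.ofList l)
  let e0 : (koszulCx (ModuleCat.of R R) l).homology 0 ≅ N :=
    (e1.symm ≪≫ₗ Submodule.quotEquivOfEq _ _ hker').toModuleIso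
  have hf' : ∀ i : ℤ, i ≠ 0 → IsZero ((koszulCx (ModuleCat.of R R) l).homology i) :=
    fun i hi => by
      have := hf i hi
      exact ModuleCat.isZero_of_subsingleton _
  obtain ⟨eD⟩ := nonempty_iso_single (koszulCx (ModuleCat.of R R) l) N hf' e0
  exact ⟨eD ≪≫ ((singleFunctorIsoCompQ (ModuleCat.{u} R) 0).app N).symm⟩

variable [IsLocalRing R]

theorem prop_eq [IsNoetherianRing R]
    (hk : DRing.IsPerfect R ((DerivedCategory.singleFunctor (ModuleCat.{u} R) 0).obj (kM R))) :
    (fun K : Dual.D R => DRing.IsPerfect R K ∧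
      ∀ i : ℤ, Module.support R (Dual.HD R K i) ⊆ {IsLocalRing.closedPoint R}) =
      DbP (flP R) := by
  funext K
  apply propext
  constructor
  · rintro ⟨hperf, hsupp⟩
    obtain ⟨⟨a, b, hab⟩, hfin⟩ := Groth.Agent.S6962.finite_homology_of_isPerfect K hperf
    refine ⟨fun i => isFiniteLength_of_support_subset _ (hfin i) (hsupp i), a, b, ?_, ?_⟩
    · exact (DerivedCategory.isGE_iff K a).2 (fun i hi => by
        have := hab i (Or.inl hi)
        exact ModuleCat.isZero_of_subsingleton _)
    · exact (DerivedCategory.isLE_iff K b).2 (fun i hi => by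
        have := hab i (Or.inr hi)
        exact ModuleCat.isZero_of_subsingleton _)
  · rintro ⟨hfl, a, b, ha, hb⟩
    refine ⟨?_, fun i => support_subset_of_isFiniteLength _ (hfl i)⟩
    have hGE : K.IsGE a := ha
    have hLE : K.IsLE b := hb
    apply Groth.Agent.Lib.Helper1.Devissage.induction_homology' (perf R)
      (fun K hK => isPerfect_of_isZero hK)
      (fun T hT h1 h3 => isPerfect_ext T hT h1 h3) K a b
    · intro i hi
      rcases hi with hi | hi
      · exact isZero_of_isGE K a i hi
      · exact isZero_of_isLE K b i hi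
    · intro j _ _
      exact isPerfect_single _ (isPerfect_single_of_isFiniteLength R hk _ (hfl j)) j

theorem closure_eq_top_of_eq (Q : ObjectProperty (Dual.D R)) (hQ : Q = DbP (flP R))
    (X : Dual.D R)
    (e : X ≅ (DerivedCategory.singleFunctor (ModuleCat.{u} R) 0).obj (kM R)) :
    AddSubgroup.closure {clTr Q X} = ⊤ := by
  subst hQ
  obtain ⟨φ, hφ⟩ := Groth.Agent.Lib.Helper17.K0e.exists_equiv (flP R)
  have hX : DbP (flP R) X :=
    (DbP (flP R)).prop_of_iso e.symm (dbP_single (flP R) (kM R) (flP_kM R) 0)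
  have h1 : clTr (DbP (flP R)) X = φ (clSub (flP R) (kM R)) := by
    rw [hφ _ (flP_kM R)]
    exact clTr_of_iso (DbP (flP R)) e hX
  rw [eq_top_iff]
  intro x _
  obtain ⟨y, rfl⟩ := φ.surjective x
  have hy := K0sub_flP_eq_closure R y
  rw [h1]
  have : (AddSubgroup.closure {clSub (flP R) (kM R)}).map φ.toAddMonoidHom =
      AddSubgroup.closure {φ (clSub (flP R) (kM R))} := by
    rw [AddMonoidHom.map_closure, Set.image_singleton]
    rfl
  rw [← this]
  exact ⟨y, hy, rfl⟩

theorem main [IsNoetherianRing R] (fs : List R) (hreg : RingTheory.Sequence.IsRegular R fs)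
    (hgen : Ideal.ofList fs = IsLocalRing.maximalIdeal R) :
    AddSubgroup.closure
        {KZero.clTr (fun K : Dual.D R => DRing.IsPerfect R K ∧
            ∀ i : ℤ, Module.support R (Dual.HD R K i) ⊆ {IsLocalRing.closedPoint R})
          (DRing.toD (Koszul.koszul R fs))} = ⊤ := by
  obtain ⟨e⟩ := nonempty_koszul_iso R fs hreg.toIsWeaklyRegular
  have e2 : (R ⧸ Ideal.ofList fs) ≃ₗ[R] (R ⧸ IsLocalRing.maximalIdeal R) :=
    Submodule.quotEquivOfEq _ _ hgen
  have e' : DRing.toD (Koszul.koszul R fs) ≅
      (DerivedCategory.singleFunctor (ModuleCat.{u} R) 0).obj (kM R) :=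
    e ≪≫ (DerivedCategory.singleFunctor (ModuleCat.{u} R) 0).mapIso e2.toModuleIso
  have hk : DRing.IsPerfect R ((DerivedCategory.singleFunctor (ModuleCat.{u} R) 0).obj (kM R)) :=
    isPerfect_of_iso e' (isPerfect_koszul R fs)
  exact closure_eq_top_of_eq R _ (prop_eq R hk) _ e'

end Groth.Agent.Lib.Helper19K0Koszul
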