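import Mathlib
import Groth.Agent.Lib.Helper1KBC4
import Groth.Agent.Lib.Helper1KBC1
set_option backward.isDefEq.respectTransparency.types false

/-!
# The stalks of `M~` on `Spec R`; `K~` is K-flat for K-flat `K` (helper1)
-/

set_option autoImplicit false
set_option linter.style.haveILetI false
universe u
open CategoryTheory CategoryTheory.Limits AlgebraicGeometry HomologicalComplex TopologicalSpace Opposite
  MonoidalCategory TensorProduct

namespace Groth.Agent.Lib.Helper1.KBC

open Groth.Agent.Lib.Helper1.BKF Groth.Agent.Lib.Helper1.Sky Groth.Agent.Lib.Helper1.StalkTensor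

variable (R : CommRingCat.{u}) (x : Spec R)

/-- the ring map `R → O_{Spec R, x}` -/
noncomputable def toOx : R →+* Ox x :=
  ((Scheme.ΓSpecIso R).inv ≫ (Spec R).presheaf.germ ⊤ x trivial).hom

variable (N : ModuleCat.{u} (Ox x))

example : ((moduleSpecΓFunctor (R := R)).obj ((skyFun x).obj N) : Type u) =
  SkyT (Spec R).presheaf x N ⊤ := rfl

/-- evaluation of global sections of the skyscraper -/
noncomputable def skyΓLin : ((moduleSpecΓFunctor (R := R)).obj ((skyFun x).obj N)) ≃ₗ[R]
    ((ModuleCat.restrictScalars (toOx R x)).obj N) where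
  toFun s := SkyT.ev (Spec R).presheaf ⊤ (show SkyT (Spec R).presheaf x N ⊤ from s) trivial
  invFun n := SkyT.mk (R := (Spec R).presheaf) (U := ⊤) fun _ => (show N from n)
  left_inv s := by
    apply SkyT.ext (R := (Spec R).presheaf) (U := ⊤)
    intro hx
    rfl
  right_inv n := rfl
  map_add' s t := rfl
  map_smul' r s := by
    dsimp only [AddHom.toFun_eq_coe, AddHom.coe_mk, RingHom.id_apply]
    have key : ∃ c : (Spec R).presheaf.obj (op ⊤),
        (show SkyT (Spec R).presheaf x N ⊤ from r • s) =
          c • (show SkyT (Spec R).presheaf x N ⊤ from s) ∧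
        gr (Spec R).presheaf x ⊤ trivial c = toOx R x r := by
      refine ⟨_, rfl, ?_⟩
      exact gr_rr (R := (Spec R).presheaf)
        ((initialOpOfTerminal (C := Opens (Spec R)) isTerminalTop).to (op ⊤)).unop trivial _
    obtain ⟨c, h1, h2⟩ := key
    change SkyT.ev (Spec R).presheaf ⊤ (show SkyT (Spec R).presheaf x N ⊤ from r • s) trivial = _
    rw [h1, SkyT.smul_ev, h2]
    rfl

/-- global sections of the skyscraper, naturally -/
noncomputable def skyΓIso :
    skyFun x ⋙ moduleSpecΓFunctor (R := R) ≅ ModuleCat.restrictScalars.{u} (toOx R x) :=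
  NatIso.ofComponents (fun N => (skyΓLin R x N).toModuleIso) (fun {N N'} g => by
    ext s
    rfl)

/-- the stalk of `M~` at `x` is `O_x ⊗_R M`, naturally in `M` -/
noncomputable def tildeStalkIso :
    tilde.functor R ⋙ stalkFun x ≅ ModuleCat.extendScalars.{u, u, u} (toOx R x) :=
  Adjunction.leftAdjointUniq
    (((tilde.adjunction (R := R)).comp (stalkSkyAdj x)).ofNatIsoRight (skyΓIso R x))
    (ModuleCat.extendRestrictScalarsAdj.{u, u, u} (toOx R x))

/-- `K~` is K-flat when `K` is -/
theorem isKFlat_tilde (K : CochainComplex (ModuleCat.{u} R) ℤ) (hK : RKFlat K) :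
    DCoh.IsKFlat (((tilde.functor R).mapHomologicalComplex (ComplexShape.up ℤ)).obj K) := by
  apply isKFlat_of_forall_stalk
  intro x
  have h2 : RKFlat (((ext (toOx R x)).mapHomologicalComplex (ComplexShape.up ℤ)).obj K) :=
    fun M hM => acyc_mapBifunctor_ext (toOx R x) M K hK hM
  refine RKFlat.of_iso ?_ h2
  exact (HomologicalComplex.Hom.isoOfComponents (fun i => (tildeStalkIso R x).app (K.X i))
    (fun i j _ => ((tildeStalkIso R x).hom.naturality (K.d i j)).symm)).symm

end Groth.Agent.Lib.Helper1.KBC
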