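import Mathlib
import Groth.Agent.Lib.Helper1TorJ

/-!
# Descent of tor amplitude along the localizations at all maximal ideals (helper1)
-/
set_option autoImplicit false

universe u v
open CategoryTheory CategoryTheory.Limits MonoidalCategory
attribute [local instance] HasDerivedCategory.standard

namespace Groth.Agent.Lib.Helper1.Tor

open DerivedCategory Pretriangulated Groth.Agent.Lib.Helper21.DTrunc Groth.Agent.S14388
open Groth.Agent.Lib.Helper1.Cone Groth.Agent.Lib.Helper1.ProjRes ZeroObject
open Groth.Agent.Lib.Helper1.Extend Groth.Agent.Lib.Helper1.PC Groth.Agent.Lib.Helper1.PCTower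
open Groth.Agent.Lib.Helper1.Restrict Groth.Agent.S7017

section General

variable {R : Type u} [CommRing R] {J : Type v} (B : J → Type u) [∀ j, CommRing (B j)]
  [∀ j, Algebra R (B j)]

/-- a family of `R`-algebras (indexed by a type in any universe) along which vanishing and
flatness of modules descend -/
structure DescFam' : Prop where
  zero : ∀ (H : Type u) [AddCommGroup H] [Module R H],
    (∀ j, Subsingleton (TensorProduct R (B j) H)) → Subsingleton H
  flatD : ∀ (C : Type u) [AddCommGroup C] [Module R C],
    (∀ j, Module.Flat (B j) (TensorProduct R (B j) C)) → Module.Flat R C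

variable {B} [∀ j, Module.Flat R (B j)] (hB : DescFam' (R := R) B)

include hB

omit [∀ j, Module.Flat R (B j)] in
lemma DescFam'.isZero (H : ModuleCat.{u} R) (hz : ∀ j, IsZero ((ext R (B j)).obj H)) : IsZero H := by
  have : Subsingleton H := hB.zero H (fun j => by
    have h1 : Subsingleton ((ext R (B j)).obj H) := ModuleCat.subsingleton_of_isZero (hz j)
    exact (extEquiv (A := R) (B := B j) H).symm.injective.subsingleton)
  exact ModuleCat.isZero_of_subsingleton H

lemma DescFam'.isLE (X : Dual.D R) (n : ℤ) (h : ∀ j, ((extD R (B j)).obj X).IsLE n) : X.IsLE n := by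
  rw [DerivedCategory.isLE_iff]
  intro i hi
  refine hB.isZero _ (fun j => ?_)
  exact ((DerivedCategory.isLE_iff _ n).1 (h j) i hi).of_iso (homologyMapDIso (ext R (B j)) X i).symm

/-- tor amplitude descends along a descent family -/
theorem DescFam'.hasTorAmp (X : Dual.D R) (a b : ℤ)
    (h : ∀ j, DRing.HasTorAmplitudeIn (B j) a b ((extD R (B j)).obj X)) :
    DRing.HasTorAmplitudeIn R a b X := by
  have hle : X.IsLE b := by
    refine hB.isLE X b (fun j => ?_)
    obtain ⟨E', hE', hE'f, ⟨e'⟩⟩ := h j
    have hE'le : E'.IsStrictlyLE b := by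
      rw [CochainComplex.isStrictlyLE_iff]
      exact fun i hi => hE' i (Or.inr hi)
    have : (Q.obj E').IsLE b := inferInstance
    exact tt.isLE_of_iso e' b
  obtain ⟨P, hPle, hPproj, ⟨eP⟩⟩ := exists_iso_Q_proj X b
  have hPb : DRing.VanishesAbove P b := fun i hi => P.isZero_of_isStrictlyLE b i hi
  have hPf : DRing.TermwiseFlat P := termwiseFlat_of_projective P hPproj
  have key : ∀ j, TorVan ((extCx R (B j)).obj P) a b ∧
      DRing.TermwiseFlat ((extCx R (B j)).obj P) := by
    intro j
    obtain ⟨E', hE', hE'f, ⟨e'⟩⟩ := h j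
    have eP' : Q.obj E' ≅ Q.obj ((extCx R (B j)).obj P) :=
      e' ≪≫ (extD R (B j)).mapIso eP.symm ≪≫ mapQIso (ext R (B j)) P
    have hP'b : DRing.VanishesAbove ((extCx R (B j)).obj P) b :=
      fun i hi => (ext R (B j)).map_isZero (hPb i hi)
    have hP'f : DRing.TermwiseFlat ((extCx R (B j)).obj P) := fun i => by
      have := hPf i
      exact Module.Flat.of_linearEquiv (extEquiv (A := R) (B := B j) (P.X i))
    exact ⟨torVan_of_iso _ E' b hP'b hP'f a b hE' hE'f eP', hP'f⟩
  have hex : ∀ i : ℤ, (i < a ∨ b < i) → P.ExactAt i := by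
    intro i hi
    rw [HomologicalComplex.exactAt_iff_isZero_homology]
    refine hB.isZero _ (fun j => ?_)
    have h1 := (key j).1.exactAt i hi
    rw [HomologicalComplex.exactAt_iff_isZero_homology] at h1
    exact h1.of_iso (homologyMapCxIso (ext R (B j)) P i).symm
  have hflat : Module.Flat R (P.opcycles a) := by
    refine hB.flatD _ (fun j => ?_)
    have hflat' : Module.Flat (B j) (((extCx R (B j)).obj P).opcycles a) :=
      flat_of_torVan _ (key j).2 a b (key j).1 (((extCx R (B j)).obj P).pOpcycles a).hom
        ((ModuleCat.epi_iff_surjective _).1 inferInstance) (fexact_d_pOpcycles _ a)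
    have eop : ((extCx R (B j)).obj P).opcycles a ≅ (ext R (B j)).obj (P.opcycles a) :=
      ShortComplex.mapOpcyclesIso (P.sc a) (ext R (B j))
    exact Module.Flat.of_linearEquiv
      ((extEquiv (A := R) (B := B j) (P.opcycles a)).symm ≪≫ₗ eop.symm.toLinearEquiv)
  exact hasTorAmp_of_iso eP (hasTorAmp_of_flat_opcycles P b hPb hPf a b
    (fun i hi => hex i (Or.inl hi)) (fun i hi => hex i (Or.inr hi)) hflat)

end General

section Maximal

variable {R : Type u} [CommRing R]

instance isLocalizedModule_mk_atPrime (P : Ideal R) [P.IsPrime] (H : Type u) [AddCommGroup H]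
    [Module R H] :
    IsLocalizedModule P.primeCompl (TensorProduct.mk R (Localization.AtPrime P) H 1) :=
  (isLocalizedModule_iff_isBaseChange P.primeCompl (Localization.AtPrime P) _).2
    (TensorProduct.isBaseChange R H (Localization.AtPrime P))

/-- the localizations at all maximal ideals form a descent family -/
theorem descFam'_maximal :
    DescFam' (R := R) (fun m : MaximalSpectrum R => Localization.AtPrime m.asIdeal) where
  zero H _ _ hz := by
    refine Module.subsingleton_of_localization_maximal (R := R) (M := H)
      (fun P _ => TensorProduct R (Localization.AtPrime P) H)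
      (fun P _ => TensorProduct.mk R (Localization.AtPrime P) H 1) (fun P hP => ?_)
    exact hz ⟨P, hP⟩
  flatD C _ _ hz := by
    refine Module.flat_of_isLocalized_maximal (R := R) (S := R) (M := C)
      (fun P _ => TensorProduct R (Localization.AtPrime P) C)
      (fun P _ => TensorProduct.mk R (Localization.AtPrime P) C 1) (fun P hP => ?_)
    have := hz ⟨P, hP⟩
    exact Module.Flat.trans R (Localization.AtPrime P) _

end Maximal

end Groth.Agent.Lib.Helper1.Tor
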