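import Mathlib
import Groth.Agent.Lib.Helper1TQ5
import Groth.Agent.Lib.Helper1KBC5
import Groth.Agent.Lib.Helper1TorK
set_option backward.isDefEq.respectTransparency.types false

/-!
# Tor amplitude of `M~` on `Spec A` (helper1)
-/

set_option autoImplicit false
set_option linter.style.haveILetI false
universe u
open CategoryTheory CategoryTheory.Limits AlgebraicGeometry HomologicalComplex TensorProduct

attribute [local instance] HasDerivedCategory.standard

namespace Groth.Agent.Lib.Helper1.TQ

open Groth.Agent.Lib.Helper1.Sky Groth.Agent.Lib.Helper1.StalkTensor Groth.Agent.Lib.Helper1.KBC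
  Groth.Agent.Lib.Helper1.Tor Groth.Agent.Lib.Helper1.BKF Groth.Agent.Lib.Helper1.CI

variable (A : Type u) [CommRing A]

/-- the local rings of `Spec A` as `A`-algebras -/
noncomputable abbrev stalkAlg (x : Spec (CommRingCat.of A)) : Algebra A (StalkTensor.Ox x) :=
  (toOx (CommRingCat.of A) x).toAlgebra

attribute [local instance] stalkAlg

lemma toOx_eq (x : Spec (CommRingCat.of A)) :
    toOx (CommRingCat.of A) x = (StructureSheaf.toStalk A x).hom := by
  unfold toOx
  rw [Scheme.ΓSpecIso_inv]
  rfl

instance isLocalization_stalk (x : Spec (CommRingCat.of A)) :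
    IsLocalization.AtPrime (StalkTensor.Ox x) x.asIdeal := by
  have h := StructureSheaf.IsLocalization.to_stalk A x
  have e : stalkAlg A x = StructureSheaf.stalkAlgebra A x := by
    unfold stalkAlg StructureSheaf.stalkAlgebra
    rw [toOx_eq]
    rfl
  rw [e]
  exact h

instance flat_stalk (x : Spec (CommRingCat.of A)) : Module.Flat A (StalkTensor.Ox x) :=
  IsLocalization.flat (StalkTensor.Ox x) x.asIdeal.primeCompl


/-- the point of `Spec A` of a maximal ideal -/
abbrev ptOf (P : Ideal A) [P.IsMaximal] : Spec (CommRingCat.of A) :=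
  (⟨P, inferInstance⟩ : PrimeSpectrum A)

instance isLocalizedModule_mk_stalk (P : Ideal A) [P.IsMaximal] (H : Type u) [AddCommGroup H]
    [Module A H] :
    IsLocalizedModule P.primeCompl (TensorProduct.mk A (StalkTensor.Ox (ptOf A P)) H 1) :=
  haveI : IsLocalization P.primeCompl (StalkTensor.Ox (ptOf A P)) :=
    isLocalization_stalk A (ptOf A P)
  (isLocalizedModule_iff_isBaseChange P.primeCompl (StalkTensor.Ox (ptOf A P)) _).2
    (TensorProduct.isBaseChange A H (StalkTensor.Ox (ptOf A P)))

/-- the local rings of `Spec A` form a descent family -/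
theorem descFam'_stalks :
    DescFam' (R := A) (fun x : Spec (CommRingCat.of A) => StalkTensor.Ox x) where
  zero H _ _ hz := by
    refine Module.subsingleton_of_localization_maximal (R := A) (M := H)
      (fun P _ => TensorProduct A (StalkTensor.Ox (ptOf A P)) H)
      (fun P _ => TensorProduct.mk A (StalkTensor.Ox (ptOf A P)) H 1) (fun P hP => ?_)
    exact hz (ptOf A P)
  flatD C _ _ hz := by
    refine Module.flat_of_isLocalized_maximal (R := A) (S := A) (M := C)
      (fun P _ => TensorProduct A (StalkTensor.Ox (ptOf A P)) C)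
      (fun P _ => TensorProduct.mk A (StalkTensor.Ox (ptOf A P)) C 1) (fun P hP => ?_)
    have := hz (ptOf A P)
    exact Module.Flat.trans A (StalkTensor.Ox (ptOf A P)) _


open Groth.Agent.Lib.Helper1.Extend

/-- termwise tilde -/
noncomputable abbrev TCt (R : CommRingCat.{u}) :
    CochainComplex (ModuleCat.{u} R) ℤ ⥤ CochainComplex (Spec R).Modules ℤ :=
  (tilde.functor R).mapHomologicalComplex (ComplexShape.up ℤ)

/-- `(Q C)~ ≅ Q (C~)` -/
noncomputable def tildeDQIso (R : CommRingCat.{u}) [PreservesFiniteLimits (tilde.functor R)]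
    (C : CochainComplex (ModuleCat.{u} R) ℤ) :
    (DCoh.tildeD R).obj (DerivedCategory.Q.obj C) ≅ DerivedCategory.Q.obj ((TCt R).obj C) :=
  (tilde.functor R).mapDerivedCategoryFactors.app C

/-- the complex of stalks of `C~` at `x` is `O_x ⊗_A C` -/
noncomputable def stalkCTildeIso (x : Spec (CommRingCat.of A)) (C : DRing.Cx A) :
    (stalkC x).obj ((TCt (CommRingCat.of A)).obj C) ≅ (extCx A (StalkTensor.Ox x)).obj C :=
  HomologicalComplex.Hom.isoOfComponents
    (fun i => (tildeStalkIso (CommRingCat.of A) x).app (C.X i))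
    (fun i j _ => ((tildeStalkIso (CommRingCat.of A) x).hom.naturality (C.d i j)).symm)

variable [PreservesFiniteLimits (tilde.functor (CommRingCat.of A))]

/-- the stalk complex of `C~` in the derived category of the local ring -/
noncomputable def stalkTildeDIso (x : Spec (CommRingCat.of A)) (C : DRing.Cx A) :
    (extD A (StalkTensor.Ox x)).obj (DerivedCategory.Q.obj C) ≅
      DRing.toD ((stalkC x).obj ((TCt (CommRingCat.of A)).obj C)) :=
  mapQIso (ext A (StalkTensor.Ox x)) C ≪≫ DerivedCategory.Q.mapIso (stalkCTildeIso A x C).symm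

/-- S7243: tor amplitude of `M~` -/
theorem hasFlatAmplitudeIn_tildeD_iff (M : Dual.D A) (a b : ℤ) :
    DCoh.HasFlatAmplitudeIn a b ((DCoh.tildeD (CommRingCat.of A)).obj M) ↔
      DRing.HasTorAmplitudeIn A a b M := by
  let C : DRing.Cx A := DerivedCategory.Q.objPreimage M
  let eC : DerivedCategory.Q.obj C ≅ M := DerivedCategory.Q.objObjPreimageIso M
  have eT : (DCoh.tildeD (CommRingCat.of A)).obj M ≅
      DCoh.toD (Spec (CommRingCat.of A)) ((TCt (CommRingCat.of A)).obj C) :=
    (DCoh.tildeD (CommRingCat.of A)).mapIso eC.symm ≪≫ tildeDQIso (CommRingCat.of A) C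
  rw [hasFlatAmplitudeIn_iff_hasTorAmplitudeIn]
  constructor
  · intro h
    have h1 := hasTorAmplitudeIn_of_iso eT a b h
    rw [hasTorAmplitudeIn_iff_stalk] at h1
    refine (descFam'_stalks A).hasTorAmp M a b (fun x => ?_)
    exact hasTorAmp_of_iso ((stalkTildeDIso A x C).symm ≪≫
      (extD A (StalkTensor.Ox x)).mapIso eC) (h1 x)
  · intro h
    refine hasTorAmplitudeIn_of_iso eT.symm a b ?_
    rw [hasTorAmplitudeIn_iff_stalk]
    intro x
    exact hasTorAmp_of_iso ((extD A (StalkTensor.Ox x)).mapIso eC.symm ≪≫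
      stalkTildeDIso A x C) (hasTorAmp_extD M a b h)

end Groth.Agent.Lib.Helper1.TQ
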