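import Groth.Agent.Lib.Helper17K0d
import Groth.Agent.S0973

/-! K₀(P) ≃ K₀(D^b_P(C)): the isomorphism (helper17). -/
set_option autoImplicit false
set_option backward.isDefEq.respectTransparency false
set_option backward.isDefEq.respectTransparency.types false
universe w v u
open CategoryTheory CategoryTheory.Limits ZeroObject CategoryTheory.Pretriangulated

namespace Groth.Agent.Lib.Helper17.K0e

open KZero DerivedCategory Groth.Agent.S14388 Groth.Agent.Lib.Helper17.K0a
  Groth.Agent.Lib.Helper17.K0b Groth.Agent.Lib.Helper17.WayOut Groth.Agent.Lib.Helper17.K0c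
  Groth.Agent.Lib.Helper17.K0d

variable {C : Type u} [Category.{v} C] [Abelian C] [HasDerivedCategory.{w} C]
  (P : ObjectProperty C) [P.IsClosedUnderIsomorphisms] [P.ContainsZero]

/-- `[X] ↦ [X[0]]`. -/
noncomputable def phi : K0sub P →+ K0tr (DbP P) :=
  QuotientAddGroup.lift (relSub P)
    (FreeAbelianGroup.lift (fun X : Subtype P =>
      clTr (DbP P) ((DerivedCategory.singleFunctor C 0).obj X.1))) (by
    rw [relSub, AddSubgroup.closure_le]
    rintro x ⟨S, h₁, h₂, h₃, hS, rfl⟩
    rw [SetLike.mem_coe, AddMonoidHom.mem_ker, map_sub, map_sub, FreeAbelianGroup.lift_apply_of,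
      FreeAbelianGroup.lift_apply_of, FreeAbelianGroup.lift_apply_of]
    have := clTr_distTriang (DbP P) hS.singleTriangle hS.singleTriangle_distinguished
      (dbP_single P _ h₁ 0) (dbP_single P _ h₂ 0) (dbP_single P _ h₃ 0)
    have h' : clTr (DbP P) ((DerivedCategory.singleFunctor C 0).obj S.X₂) =
        clTr (DbP P) ((DerivedCategory.singleFunctor C 0).obj S.X₁) +
          clTr (DbP P) ((DerivedCategory.singleFunctor C 0).obj S.X₃) := this
    rw [h']
    abel)

theorem phi_clSub (X : C) (hX : P X) :
    phi P (clSub P X) = clTr (DbP P) ((DerivedCategory.singleFunctor C 0).obj X) := by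
  rw [clSub_of_prop P hX]
  unfold phi
  rw [QuotientAddGroup.lift_mk, FreeAbelianGroup.lift_apply_of]

variable [P.IsClosedUnderKernels]

/-- `[K] ↦ Σ (-1)^i [H^i K]`. -/
noncomputable def psi : K0tr (DbP P) →+ K0sub P :=
  QuotientAddGroup.lift (relTr (DbP P))
    (FreeAbelianGroup.lift (fun K : Subtype (DbP P) => chi P K.1)) (by
    rw [relTr, AddSubgroup.closure_le]
    rintro x ⟨T, h₁, h₂, h₃, hT, rfl⟩
    rw [SetLike.mem_coe, AddMonoidHom.mem_ker, map_sub, map_sub, FreeAbelianGroup.lift_apply_of,
      FreeAbelianGroup.lift_apply_of, FreeAbelianGroup.lift_apply_of]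
    have h' : chi P T.obj₂ = chi P T.obj₁ + chi P T.obj₃ := chi_distTriang P T hT h₁ h₂ h₃
    rw [h']
    abel)

theorem psi_clTr (K : DerivedCategory C) (hK : DbP P K) : psi P (clTr (DbP P) K) = chi P K := by
  rw [clTr_of_prop (DbP P) hK]
  unfold psi
  rw [QuotientAddGroup.lift_mk, FreeAbelianGroup.lift_apply_of]

theorem psi_phi (x : K0sub P) : psi P (phi P x) = x := by
  induction x using QuotientAddGroup.induction_on with
  | H z =>
    induction z using FreeAbelianGroup.induction_on with
    | zero => simp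
    | of X =>
      have h1 : ((FreeAbelianGroup.of X : FreeAbelianGroup (Subtype P)) : K0sub P) =
          clSub P X.1 := (clSub_of_prop P X.2).symm
      rw [h1, phi_clSub P X.1 X.2, psi_clTr P _ (dbP_single P X.1 X.2 0), chi_single P X.1 X.2]
    | neg X ih =>
      rw [QuotientAddGroup.mk_neg, map_neg, map_neg, ih]
    | add x y hx hy =>
      rw [QuotientAddGroup.mk_add, map_add, map_add, hx, hy]

theorem phi_injective : Function.Injective (phi P) :=
  Function.LeftInverse.injective (psi_phi P)

/-- dévissage: the classes of bounded objects are in the image of `phi`. -/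
theorem clTr_mem_range (k : ℕ) : ∀ (K : DerivedCategory C) (a : ℤ), DbP P K → K.IsGE a →
    K.IsLE (a + k - 1) → clTr (DbP P) K ∈ (phi P).range := by
  induction k with
  | zero =>
    intro K a hK hGE hLE
    have hz : IsZero K := tt.isZero K (a + ((0 : ℕ) : ℤ) - 1) a (by simp)
    rw [clTr_of_isZero (DbP P) hz]
    exact zero_mem _
  | succ k ih =>
    intro K a hK hGE hLE
    have hc : a + ((k + 1 : ℕ) : ℤ) - 1 = a + k := by push_cast; ring
    rw [hc] at hLE
    obtain ⟨c, hcdef⟩ : ∃ c : ℤ, c = a + k := ⟨_, rfl⟩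
    rw [← hcdef] at hLE
    have hT := tt.triangleLTGE_distinguished c K
    have hQGE : ((tt.truncGE c).obj K).IsGE c := inferInstance
    have hQLE : ((tt.truncGE c).obj K).IsLE c := inferInstance
    obtain ⟨eQ⟩ := Groth.Agent.S0973.iso_single_of_amp ((tt.truncGE c).obj K) c
    have h3 : DbP P ((tt.truncGE c).obj K) := dbP_truncGE P K hK c
    have h1 : DbP P ((tt.truncLT c).obj K) := dbP_truncLT P K hK c
    have hsum := clTr_distTriang (DbP P) _ hT h1 hK h3
    have hsum' : clTr (DbP P) K = clTr (DbP P) ((tt.truncLT c).obj K) +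
        clTr (DbP P) ((tt.truncGE c).obj K) := hsum
    rw [hsum']
    refine add_mem ?_ ?_
    · apply ih ((tt.truncLT c).obj K) a h1 inferInstance
      have : ((tt.truncLT c).obj K).IsLE (c - 1) := inferInstance
      have e' : a + (k : ℤ) - 1 = c - 1 := by rw [hcdef]
      rw [e']
      exact this
    · have hPc : P ((DerivedCategory.homologyFunctor C c).obj ((tt.truncGE c).obj K)) := h3.1 c
      rw [clTr_of_iso (DbP P) eQ h3, clTr_single P _ hPc c, ← phi_clSub P _ hPc]
      exact zsmul_mem (AddMonoidHom.mem_range.2 ⟨_, rfl⟩) _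

theorem phi_surjective : Function.Surjective (phi P) := by
  intro y
  induction y using QuotientAddGroup.induction_on with
  | H z =>
    change ((z : FreeAbelianGroup (Subtype (DbP P))) : K0tr (DbP P)) ∈ (phi P).range
    induction z using FreeAbelianGroup.induction_on with
    | zero => exact zero_mem _
    | of K =>
      have h1 : ((FreeAbelianGroup.of K : FreeAbelianGroup (Subtype (DbP P))) : K0tr (DbP P)) =
          clTr (DbP P) K.1 := (clTr_of_prop (DbP P) K.2).symm
      rw [h1]
      obtain ⟨hh, a, b, ha, hb⟩ := K.2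
      by_cases hab : a ≤ b + 1
      · obtain ⟨k, hk⟩ : ∃ k : ℕ, (k : ℤ) = b + 1 - a :=
          ⟨(b + 1 - a).toNat, Int.toNat_of_nonneg (by omega)⟩
        have hb' : a + (k : ℤ) - 1 = b := by omega
        exact clTr_mem_range P k K.1 a K.2 ha (by rw [hb']; exact hb)
      · have : K.1.IsGE a := ha
        have : K.1.IsLE b := hb
        have hz : IsZero K.1 := tt.isZero K.1 b a (by omega)
        rw [clTr_of_isZero (DbP P) hz]
        exact zero_mem _
    | neg X ih =>
      rw [QuotientAddGroup.mk_neg]
      exact neg_mem ih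
    | add x y hx hy =>
      rw [QuotientAddGroup.mk_add]
      exact add_mem hx hy

/-- S3201. -/
theorem exists_equiv : ∃ φ : K0sub P ≃+ K0tr (DbP P), ∀ X : C, P X →
    φ (clSub P X) = clTr (DbP P) ((DerivedCategory.singleFunctor C 0).obj X) :=
  ⟨AddEquiv.ofBijective (phi P) ⟨phi_injective P, phi_surjective P⟩, fun X hX => phi_clSub P X hX⟩

end Groth.Agent.Lib.Helper17.K0e
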