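import Mathlib
import Groth.Prelude.Def_KZero
import Groth.Prelude.Def_DCoh2
import Groth.Agent.Lib.Helper4CohThick
import Groth.Agent.Lib.Helper17K0e
import Groth.Agent.Lib.Helper1SPL5
import Groth.Agent.Lib.Helper1PC16
import Groth.Agent.S0973

/-!
# `K₀` of coherent modules with supports versus perfect complexes with supports (helper4)

If every coherent module supported in `Y'` is perfect (in degree 0), the perfect objects with cohomology supported in
`Y'` are exactly the bounded objects whose cohomology sheaves are coherent and supported in `Y'`.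
-/

set_option autoImplicit false
set_option linter.style.haveILetI false
set_option linter.unusedSectionVars false
set_option backward.isDefEq.respectTransparency false
set_option backward.isDefEq.respectTransparency.types false
universe u
open CategoryTheory CategoryTheory.Limits AlgebraicGeometry ZeroObject CategoryTheory.Pretriangulated

attribute [local instance] HasDerivedCategory.standard

namespace Groth.Agent.Lib.Helper4.PerfSupp
open Groth.Agent.Lib.Helper4.Dev Groth.Agent.Lib.Helper4.KFilt Groth.Agent.Lib.Helper4.KGen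
  Groth.Agent.Lib.Helper4.CohThick
open KZero DerivedCategory Groth.Agent.S14388 Groth.Agent.Lib.Helper17.K0a
  Groth.Agent.Lib.Helper17.K0b Groth.Agent.Lib.Helper17.WayOut Groth.Agent.Lib.Helper17.K0c
  Groth.Agent.Lib.Helper1.SPL

variable {X : Scheme.{u}}

theorem isPerfect_of_iso {K K' : DCoh.D X} (e : K ≅ K') (h : DCoh.IsPerfect K) : DCoh.IsPerfect K' := by
  rw [isPerfect_iff_hasPres] at h ⊢
  exact fun x => (h x).of_iso e

theorem isPerfect_shift {K : DCoh.D X} (h : DCoh.IsPerfect K) (n : ℤ) : DCoh.IsPerfect (K⟦n⟧) := by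
  rw [isPerfect_iff_hasPres] at h ⊢
  exact fun x => hasPres_shift K n x (h x)

section
variable [IsNoetherian X] (Y' : Set X)
  (hperf : ∀ G : X.Modules, Coh.IsCoh G → CohB1.support G ⊆ Y' → DCoh.IsPerfect (DCoh.inD X G))
include hperf

theorem isPerfect_of_isZero {K : DCoh.D X} (hK : IsZero K) : DCoh.IsPerfect K := by
  haveI : IsLocallyNoetherian X := inferInstance
  have h0 : cohSuppP X Y' (0 : X.Modules) := (cohSuppP X Y').prop_of_isZero (isZero_zero _)
  have hp := hperf 0 h0.1 h0.2
  have hz : IsZero (DCoh.inD X (0 : X.Modules)) :=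
    (DerivedCategory.singleFunctor X.Modules 0).map_isZero (isZero_zero _)
  exact isPerfect_of_iso (hz.iso hK) hp

theorem isPerfect_single (G : X.Modules) (hG : cohSuppP X Y' G) (c : ℤ) :
    DCoh.IsPerfect ((DerivedCategory.singleFunctor X.Modules c).obj G) := by
  have hp := isPerfect_shift (hperf G hG.1 hG.2) (-c)
  have e : (shiftFunctor (DerivedCategory X.Modules) (-c)).obj
      ((DerivedCategory.singleFunctor X.Modules 0).obj G) ≅
      (DerivedCategory.singleFunctor X.Modules c).obj G :=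
    ((DerivedCategory.singleFunctors X.Modules).shiftIso (-c) c 0 (by omega)).app G
  exact isPerfect_of_iso e hp

theorem isPerfect_of_dbP (k : ℕ) : ∀ (K : DCoh.D X) (a : ℤ), DbP (cohSuppP X Y') K → K.IsGE a →
    K.IsLE (a + k - 1) → DCoh.IsPerfect K := by
  haveI : IsLocallyNoetherian X := inferInstance
  induction k with
  | zero =>
    intro K a hK hGE hLE
    have hz : IsZero K := tt.isZero K (a + ((0 : ℕ) : ℤ) - 1) a (by simp)
    exact isPerfect_of_isZero Y' hperf hz
  | succ k ih =>
    intro K a hK hGE hLE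
    have hc : a + ((k + 1 : ℕ) : ℤ) - 1 = a + k := by push_cast; ring
    rw [hc] at hLE
    obtain ⟨c, hcdef⟩ : ∃ c : ℤ, c = a + k := ⟨_, rfl⟩
    rw [← hcdef] at hLE
    have hT := tt.triangleLTGE_distinguished c K
    have hQGE : ((tt.truncGE c).obj K).IsGE c := inferInstance
    have hQLE : ((tt.truncGE c).obj K).IsLE c := inferInstance
    obtain ⟨eQ⟩ := Groth.Agent.S0973.iso_single_of_amp ((tt.truncGE c).obj K) c
    have h3 : DbP (cohSuppP X Y') ((tt.truncGE c).obj K) := dbP_truncGE (cohSuppP X Y') K hK c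
    have h1 : DbP (cohSuppP X Y') ((tt.truncLT c).obj K) := dbP_truncLT (cohSuppP X Y') K hK c
    have hp1 : DCoh.IsPerfect ((tt.truncLT c).obj K) := by
      apply ih ((tt.truncLT c).obj K) a h1 inferInstance
      have : ((tt.truncLT c).obj K).IsLE (c - 1) := inferInstance
      have e' : a + (k : ℤ) - 1 = c - 1 := by rw [hcdef]
      rw [e']
      exact this
    have hp3 : DCoh.IsPerfect ((tt.truncGE c).obj K) :=
      isPerfect_of_iso eQ.symm (isPerfect_single Y' hperf _ (h3.1 c) c)
    exact (isPerfect_two_out_of_three _ hT).2.1 hp1 hp3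

theorem dbP_iff (K : DCoh.D X) :
    (DCoh.IsPerfect K ∧ ∀ i : ℤ, CohB1.support (DCoh.HD K i) ⊆ Y') ↔ DbP (cohSuppP X Y') K := by
  constructor
  · rintro ⟨hK, hs⟩
    obtain ⟨a, b, ha, hb⟩ := Groth.Agent.Lib.Helper1.SPL.exists_isGE_isLE_of_isPerfect K hK
    exact ⟨fun i => ⟨Groth.Agent.Lib.Helper1.SPL.isCohD_of_isPerfect K hK i, hs i⟩, a, b, ha, hb⟩
  · rintro ⟨h, a, b, ha, hb⟩
    refine ⟨?_, fun i => (h i).2⟩
    have hK : DbP (cohSuppP X Y') K := ⟨h, a, b, ha, hb⟩
    by_cases hab : a ≤ b + 1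
    · obtain ⟨k, hk⟩ : ∃ k : ℕ, (k : ℤ) = b + 1 - a :=
        ⟨(b + 1 - a).toNat, Int.toNat_of_nonneg (by omega)⟩
      have hb' : a + (k : ℤ) - 1 = b := by omega
      exact isPerfect_of_dbP Y' hperf k K a hK ha (by rw [hb']; exact hb)
    · have : K.IsGE a := ha
      have : K.IsLE b := hb
      have hz : IsZero K := tt.isZero K b a (by omega)
      exact isPerfect_of_isZero Y' hperf hz

theorem exists_equiv :
    ∃ φ : KZero.K0sub (fun G : X.Modules => Coh.IsCoh G ∧ CohB1.support G ⊆ Y') ≃+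
        KZero.K0tr (fun K : DCoh.D X => DCoh.IsPerfect K ∧ ∀ i : ℤ, CohB1.support (DCoh.HD K i) ⊆ Y'),
      ∀ G : X.Modules, Coh.IsCoh G → CohB1.support G ⊆ Y' →
        φ (KZero.clSub (fun G : X.Modules => Coh.IsCoh G ∧ CohB1.support G ⊆ Y') G) =
          KZero.clTr (fun K : DCoh.D X => DCoh.IsPerfect K ∧ ∀ i : ℤ, CohB1.support (DCoh.HD K i) ⊆ Y')
            (DCoh.inD X G) := by
  haveI : IsLocallyNoetherian X := inferInstance
  have hQ : (fun K : DCoh.D X => DCoh.IsPerfect K ∧ ∀ i : ℤ, CohB1.support (DCoh.HD K i) ⊆ Y') =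
      DbP (cohSuppP X Y') := funext fun K => propext (dbP_iff Y' hperf K)
  rw [hQ]
  obtain ⟨φ, hφ⟩ := Groth.Agent.Lib.Helper17.K0e.exists_equiv (cohSuppP X Y')
  exact ⟨φ, fun G h1 h2 => hφ G ⟨h1, h2⟩⟩

end

end Groth.Agent.Lib.Helper4.PerfSupp
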