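import Mathlib
import Groth.Agent.Lib.Helper1TQ8
import Groth.Agent.Lib.Helper1KBC5
import Groth.Agent.Lib.Helper1KBC2
import Groth.Agent.Lib.Helper1SPL5
import Groth.Agent.Lib.Helper19K0KoszulB
import Groth.Agent.Lib.Helper2FPAff
import Groth.Agent.Lib.Helper4PerfSupp
import Groth.Agent.Lib.Helper20OmegaAff
import Groth.Agent.Lib.Helper23QCohLocal
import Groth.Agent.Lib.Helper23ModLocal
import Groth.Agent.Lib.Helper1PC13
import Groth.Agent.Lib.Helper1PC6
set_option backward.isDefEq.respectTransparency.types false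

/-!
# Koszul-regular closed immersions: `i_* O_Z` is perfect (helper1)

* `preservesFiniteLimits_tilde A`, `preservesFiniteColimits_tilde A`, `additive_tilde A`: instances for
  `tilde.functor (CommRingCat.of A)` (exactness of `M ↦ M~`, via flatness of the local rings).
* `isPerfect_Q_of_isStrictlyPerfect`, `tildeD' A`, `isPerfect_tildeD'`: perfect in `D(A)` ⇒ `K~` perfect.
* `nonempty_koszul_iso'`, `isPerfect_single_quotient`, `isPerfect_inD_tilde_quotient`: Koszul-regular sequences.
* `restrictIsoTilde i hU I hI : (i_* O_Z)|_{Spec Γ(X,U)} ≅ (Γ(X,U)/I)~` for a closed immersion `i`, `I = ker (i.app U)`.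
* `isPerfect_pushforward_structure`.
-/
set_option autoImplicit false
set_option linter.style.haveILetI false
set_option maxHeartbeats 400000
universe u
open CategoryTheory CategoryTheory.Limits AlgebraicGeometry Opposite TopologicalSpace

namespace Groth.Agent.Lib.Helper1.KoszulPerf

open Groth.Agent.Lib.Helper1.Sky Groth.Agent.Lib.Helper1.StalkTensor Groth.Agent.Lib.Helper1.KBC
  Groth.Agent.Lib.Helper1.TQ

section Tilde

variable (R : CommRingCat.{u})

lemma flat_toOx (x : Spec R) : (toOx R x).Flat := by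
  letI := stalkAlg R x
  have h : Module.Flat R (StalkTensor.Ox x) := flat_stalk R x
  exact (RingHom.flat_algebraMap_iff (R := R) (S := StalkTensor.Ox x)).1 h

/-- `M ↦ M~` preserves monomorphisms -/
theorem preservesMonomorphisms_tilde : (tilde.functor R).PreservesMonomorphisms := ⟨fun {M N} f hf => by
  rw [Preadditive.mono_iff_isZero_kernel]
  apply isZero_of_forall_isZero_stalk
  intro x
  have e1 : (stalkFun x).obj (kernel ((tilde.functor R).map f)) ≅
      kernel ((stalkFun x).map ((tilde.functor R).map f)) := PreservesKernel.iso _ _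
  haveI : PreservesFiniteLimits (ModuleCat.extendScalars.{u, u, u} (toOx R x)) :=
    ModuleCat.preservesFiniteLimits_extendScalars_of_flat (flat_toOx R x)
  haveI : PreservesLimitsOfShape WalkingCospan (ModuleCat.extendScalars.{u, u, u} (toOx R x)) :=
    PreservesFiniteLimits.preservesFiniteLimits _
  haveI : (ModuleCat.extendScalars.{u, u, u} (toOx R x)).PreservesMonomorphisms :=
    preservesMonomorphisms_of_preservesLimitsOfShape _
  haveI : Mono ((ModuleCat.extendScalars.{u, u, u} (toOx R x)).map f) := Functor.map_mono _ f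
  haveI : Mono ((tilde.functor R ⋙ stalkFun x).map f) := by
    have h1 := (MorphismProperty.monomorphisms (ModuleCat.{u} (Sky.Ox x))).arrow_mk_iso_iff
      (Arrow.isoOfNatIso (tildeStalkIso R x) (Arrow.mk f))
    have h2 : MorphismProperty.monomorphisms _
        ((ModuleCat.extendScalars.{u, u, u} (toOx R x)).map f) :=
      (MorphismProperty.monomorphisms.iff _).2 this
    exact (MorphismProperty.monomorphisms.iff _).1 (h1.2 h2)
  haveI : Mono ((stalkFun x).map ((tilde.functor R).map f)) :=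
    (inferInstance : Mono ((tilde.functor R ⋙ stalkFun x).map f))
  exact IsZero.of_iso (isZero_kernel_of_mono _) e1⟩

/-- `M ↦ M~` is exact -/
theorem preservesFiniteLimits_tilde_aux : PreservesFiniteLimits (tilde.functor R) := by
  haveI := preservesMonomorphisms_tilde R
  haveI : PreservesFiniteColimits (tilde.functor R) := inferInstance
  haveI : (tilde.functor R).PreservesHomology :=
    Functor.preservesHomology_of_preservesMonos_and_cokernels _
  exact Functor.preservesFiniteLimits_of_preservesHomology _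

theorem preservesFiniteColimits_tilde_aux : PreservesFiniteColimits (tilde.functor R) :=
  inferInstance

theorem additive_tilde_aux : (tilde.functor R).Additive := inferInstance

instance preservesFiniteColimits_tilde (A : Type u) [CommRing A] :
    PreservesFiniteColimits (tilde.functor (CommRingCat.of A)) :=
  preservesFiniteColimits_tilde_aux (CommRingCat.of A)

instance additive_tilde (A : Type u) [CommRing A] :
    (tilde.functor (CommRingCat.of A)).Additive :=
  additive_tilde_aux (CommRingCat.of A)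

instance preservesFiniteLimits_tilde (A : Type u) [CommRing A] :
    PreservesFiniteLimits (tilde.functor (CommRingCat.of A)) :=
  preservesFiniteLimits_tilde_aux (CommRingCat.of A)

end Tilde

attribute [local instance] HasDerivedCategory.standard

section B

open Groth.Agent.Lib.Helper1.SPL

theorem isPerfect_Q_of_isStrictlyPerfect {X : Scheme.{u}} (E : CochainComplex X.Modules ℤ)
    (hE : DCoh.IsStrictlyPerfect E) : DCoh.IsPerfect (DerivedCategory.Q.obj E) := by
  rw [isPerfect_iff_hasPres]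
  intro x
  exact ⟨X, 𝟙 X, inferInstance, by simp, (resC (𝟙 X)).obj E, isStrictlyPerfect_resC _ E hE,
    ⟨(facD (𝟙 X)).app E⟩⟩

/-- tilde on derived categories -/
noncomputable abbrev tildeD' (A : Type u) [CommRing A] :
    DerivedCategory (ModuleCat.{u} A) ⥤ DCoh.D (Spec (CommRingCat.of A)) :=
  (tilde.functor (CommRingCat.of A)).mapDerivedCategory

theorem isPerfect_tildeD' (A : Type u) [CommRing A] (K : Dual.D A) (hK : DRing.IsPerfect A K) :
    DCoh.IsPerfect ((tildeD' A).obj K) := by
  obtain ⟨E, a, b, hv, hfp, ⟨e⟩⟩ := hK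
  have e1 : (tildeD' A).obj K ≅
      DerivedCategory.Q.obj ((TCt (CommRingCat.of A)).obj E) :=
    (tildeD' A).mapIso e.symm ≪≫
      (tilde.functor (CommRingCat.of A)).mapDerivedCategoryFactors.app E
  refine Groth.Agent.Lib.Helper4.PerfSupp.isPerfect_of_iso e1.symm
    (isPerfect_Q_of_isStrictlyPerfect _ ⟨⟨a, b, fun i hi =>
      (tilde.functor (CommRingCat.of A)).map_isZero (hv i hi)⟩, fun i =>
      (Groth.Agent.Lib.Helper2.FPAff.isFinLocFree_tilde_iff _ _).2 (hfp i)⟩)

end B

section C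

open DerivedCategory
open Groth.Agent.Lib.Helper19K0Koszul
open Groth.Agent.Lib.Helper17.K0c Groth.Agent.Lib.Helper17.K0b
open Groth.Agent.Helper13Kz Groth.Agent.Helper13KzLift Groth.Agent.Helper13KzConcat CohIII

variable (R : Type u) [CommRing R]

/-- the Koszul complex of a Koszul-regular sequence resolves the quotient -/
theorem nonempty_koszul_iso' (l : List R) (hl : LCI.IsKoszulRegularSeq R l) :
    Nonempty (DRing.toD (Koszul.koszul R l) ≅
      (DerivedCategory.singleFunctor (ModuleCat.{u} R) 0).obj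
        (ModuleCat.of R (R ⧸ Ideal.ofList l))) := by
  rw [koszul_eq]
  have hf := (isKoszulRegularSeq_iff R l).1 hl
  obtain ⟨π, hπ, hker⟩ := exists_surj_KH0 R l
  have hker' : LinearMap.ker π = Ideal.ofList l := by
    rw [hker, smul_eq_mul, Ideal.mul_top]
  let e1 : (R ⧸ LinearMap.ker π) ≃ₗ[R] KH l R 0 := π.quotKerEquivOfSurjective hπ
  let N : ModuleCat.{u} R := ModuleCat.of R (R ⧸ Ideal.ofList l)
  let e0 : (koszulCx (ModuleCat.of R R) l).homology 0 ≅ N :=
    (e1.symm ≪≫ₗ Submodule.quotEquivOfEq _ _ hker').toModuleIso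
  have hf' : ∀ i : ℤ, i ≠ 0 → IsZero ((koszulCx (ModuleCat.of R R) l).homology i) :=
    fun i hi => by
      have := hf i hi
      exact ModuleCat.isZero_of_subsingleton _
  obtain ⟨eD⟩ := nonempty_iso_single (koszulCx (ModuleCat.of R R) l) N hf' e0
  exact ⟨eD ≪≫ ((singleFunctorIsoCompQ (ModuleCat.{u} R) 0).app N).symm⟩

theorem isPerfect_single_quotient (l : List R) (hl : LCI.IsKoszulRegularSeq R l) :
    DRing.IsPerfect R ((DerivedCategory.singleFunctor (ModuleCat.{u} R) 0).obj
        (ModuleCat.of R (R ⧸ Ideal.ofList l))) := by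
  obtain ⟨e⟩ := nonempty_koszul_iso' R l hl
  exact Groth.Agent.Lib.Helper17.DCompare.isPerfect_of_iso e (isPerfect_koszul R l)

/-- Section D -/
theorem isPerfect_inD_tilde_quotient (l : List R) (hl : LCI.IsKoszulRegularSeq R l) :
    DCoh.IsPerfect (DCoh.inD (Spec (CommRingCat.of R))
      (tilde (ModuleCat.of R (R ⧸ Ideal.ofList l)))) := by
  have h := isPerfect_tildeD' R _ (isPerfect_single_quotient R l hl)
  exact Groth.Agent.Lib.Helper4.PerfSupp.isPerfect_of_iso
    (((tilde.functor (CommRingCat.of R)).mapDerivedCategorySingleFunctor 0).app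
      (ModuleCat.of R (R ⧸ Ideal.ofList l))) h

end C

section E

variable {Z X : Scheme.{u}} (i : Z ⟶ X) {U : X.Opens} (hU : IsAffineOpen U)

/-- `i_* O_Z` -/
noncomputable abbrev MM : X.Modules := (Scheme.Modules.pushforward i).obj (Coh.structureModule Z)

/-- its restriction to `Spec Γ(X, U)` -/
noncomputable abbrev NN : (Spec Γ(X, U)).Modules := (MM i).restrict hU.fromSpec

include hU in
lemma image_top_eq : hU.fromSpec ''ᵁ ⊤ = U := by
  rw [Scheme.Hom.image_top_eq_opensRange, hU.opensRange_fromSpec]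

/-- the ring map `Γ(X, U) ⟶ Γ(Z, i⁻¹(j(⊤)))` -/
noncomputable def rho : Γ(X, U) ⟶ Γ(Z, i ⁻¹ᵁ (hU.fromSpec ''ᵁ ⊤)) :=
  X.presheaf.map (eqToHom (image_top_eq hU)).op ≫ i.app (hU.fromSpec ''ᵁ ⊤)

lemma key_hom : (Scheme.ΓSpecIso Γ(X, U)).inv ≫
    (Spec Γ(X, U)).presheaf.map (⊤ : (Spec Γ(X, U)).Opens).leTop.op ≫
      (hU.fromSpec.appIso ⊤).inv = X.presheaf.map (eqToHom (image_top_eq hU)).op := by
  rw [← Category.assoc, Iso.comp_inv_eq, Scheme.Hom.appIso_hom, ← Category.assoc,
    Scheme.Hom.naturality, hU.fromSpec_app_self]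
  simp only [Category.assoc, ← Functor.map_comp]
  congr 1

lemma smul_eq (a : Γ(X, U)) (x : Γ(NN i hU, ⊤)) :
    a • x = (show Γ(NN i hU, ⊤) from
      ((rho i hU).hom a * (show Γ(Z, i ⁻¹ᵁ (hU.fromSpec ''ᵁ ⊤)) from x) :
        Γ(Z, i ⁻¹ᵁ (hU.fromSpec ''ᵁ ⊤)))) := by
  rw [Scheme.Modules.smul_Spec_def]
  have h := congr($(key_hom hU).hom a)
  simp only [CommRingCat.hom_comp, RingHom.comp_apply] at h
  show ((i.app (hU.fromSpec ''ᵁ ⊤)).hom ((hU.fromSpec.appIso ⊤).inv.hom _) *
        (show Γ(Z, i ⁻¹ᵁ (hU.fromSpec ''ᵁ ⊤)) from x) : Γ(Z, i ⁻¹ᵁ (hU.fromSpec ''ᵁ ⊤))) = _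
  rw [h]
  rfl

variable [IsClosedImmersion i]

include hU in
lemma rho_surjective : Function.Surjective (rho i hU).hom := by
  have h1 : Function.Surjective (i.app (hU.fromSpec ''ᵁ ⊤)).hom :=
    Scheme.Hom.app_surjective i _ ((image_top_eq hU).symm ▸ hU)
  have h2 : Function.Bijective (X.presheaf.map (eqToHom (image_top_eq hU)).op).hom :=
    ConcreteCategory.bijective_of_isIso _
  unfold rho
  rw [CommRingCat.hom_comp, RingHom.coe_comp]
  exact h1.comp h2.surjective

omit [IsClosedImmersion i] in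
lemma rho_eq : rho i hU = i.app U ≫
    Z.presheaf.map ((Opens.map i.base).op.map (eqToHom (image_top_eq hU)).op) := by
  unfold rho
  rw [Scheme.Hom.naturality]
  rfl

lemma ker_rho : RingHom.ker (rho i hU).hom = RingHom.ker (i.app U).hom := by
  have h2 : Function.Injective
      (Z.presheaf.map ((Opens.map i.base).op.map (eqToHom (image_top_eq hU)).op)).hom :=
    (ConcreteCategory.bijective_of_isIso _).injective
  ext a
  rw [RingHom.mem_ker, RingHom.mem_ker, rho_eq, CommRingCat.hom_comp, RingHom.comp_apply]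
  exact ⟨fun h => h2 (by rw [h, map_zero]), fun h => by rw [h, map_zero]⟩

/-- the unit section -/
noncomputable def one : (moduleSpecΓFunctor (R := Γ(X, U))).obj (NN i hU) :=
  (1 : Γ(Z, i ⁻¹ᵁ (hU.fromSpec ''ᵁ ⊤)))

/-- `a ↦ a • 1` -/
noncomputable def theta : (Γ(X, U) : Type u) →ₗ[(Γ(X, U) : Type u)]
    ((moduleSpecΓFunctor (R := Γ(X, U))).obj (NN i hU)) :=
  LinearMap.toSpanSingleton Γ(X, U) _ (one i hU)

omit [IsClosedImmersion i] in
lemma theta_apply (a : Γ(X, U)) : theta i hU a =
    (show ((moduleSpecΓFunctor (R := Γ(X, U))).obj (NN i hU)) from (rho i hU).hom a) := by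
  show a • (one i hU) = _
  have := smul_eq i hU a (one i hU)
  refine this.trans ?_
  exact mul_one ((rho i hU).hom a)

lemma theta_surjective : Function.Surjective (theta i hU) := by
  intro x
  obtain ⟨a, ha⟩ := rho_surjective i hU (show Γ(Z, i ⁻¹ᵁ (hU.fromSpec ''ᵁ ⊤)) from x)
  exact ⟨a, (theta_apply i hU a).trans ha⟩

lemma ker_theta : LinearMap.ker (theta i hU) = RingHom.ker (i.app U).hom := by
  rw [← ker_rho i hU]
  ext a
  rw [LinearMap.mem_ker, RingHom.mem_ker, theta_apply]
  rfl

/-- `Γ(Spec A, (i_* O_Z)|_{Spec A}) ≅ A / I` -/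
noncomputable def gammaIso (I : Ideal Γ(X, U)) (hI : RingHom.ker (i.app U).hom = I) :
    (moduleSpecΓFunctor (R := Γ(X, U))).obj (NN i hU) ≅
      ModuleCat.of Γ(X, U) (Γ(X, U) ⧸ I) :=
  (((theta i hU).quotKerEquivOfSurjective (theta_surjective i hU)).symm ≪≫ₗ
    Submodule.quotEquivOfEq _ _ ((ker_theta i hU).trans hI)).toModuleIso

instance isQuasicoherent_NN : (NN i hU).IsQuasicoherent := by
  haveI : (MM i).IsQuasicoherent :=
    Groth.Agent.Lib.Helper23.QCohLocal.isQuasicoherent_pushforward i _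
  exact Scheme.Modules.isQuasicoherent_restrictFunctor hU.fromSpec (MM i)

/-- `(i_* O_Z)|_{Spec A} ≅ (A / I)~` -/
noncomputable def restrictIsoTilde (I : Ideal Γ(X, U)) (hI : RingHom.ker (i.app U).hom = I) :
    NN i hU ≅ tilde (ModuleCat.of Γ(X, U) (Γ(X, U) ⧸ I)) :=
  Groth.Agent.Lib.Helper20.OmegaAff.isoTildeOfΓIso _ _ (gammaIso i hU I hI)

end E

section Final

open Groth.Agent.Lib.Helper1.SPL
open ZeroObject

variable {Z X : Scheme.{u}} (i : Z ⟶ X) [IsClosedImmersion i]

/-- at points of `Z` -/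
theorem hasPres_of_koszul {U : X.Opens} (hU : IsAffineOpen U) (rs : List Γ(X, U))
    (hrs : LCI.IsKoszulRegularSeq Γ(X, U) rs)
    (hker : RingHom.ker (i.app U).hom = Ideal.ofList rs) (x : X) (hx : x ∈ U) :
    HasPres (DCoh.inD X (MM i)) x := by
  have hp : DCoh.IsPerfect ((resD hU.fromSpec).obj (DCoh.inD X (MM i))) := by
    have e1 : (resD hU.fromSpec).obj (DCoh.inD X (MM i)) ≅
        DCoh.inD (Spec Γ(X, U)) (NN i hU) :=
      ((Scheme.Modules.restrictFunctor hU.fromSpec).mapDerivedCategorySingleFunctor 0).app (MM i)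
    have e2 : DCoh.inD (Spec Γ(X, U)) (NN i hU) ≅ DCoh.inD (Spec Γ(X, U))
        (tilde (ModuleCat.of Γ(X, U) (Γ(X, U) ⧸ Ideal.ofList rs))) :=
      (DerivedCategory.singleFunctor _ 0).mapIso (restrictIsoTilde i hU _ hker)
    exact Groth.Agent.Lib.Helper4.PerfSupp.isPerfect_of_iso (e1 ≪≫ e2).symm
      (isPerfect_inD_tilde_quotient Γ(X, U) rs hrs)
  have hx' : x ∈ hU.fromSpec.opensRange := by rw [hU.opensRange_fromSpec]; exact hx
  obtain ⟨y, rfl⟩ := hx'
  exact hasPres_of_resD hU.fromSpec _ y ((isPerfect_iff_hasPres _).1 hp y)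

/-- away from `Z` -/
theorem hasPres_of_notMem (x : X) (hx : x ∉ Set.range i) : HasPres (DCoh.inD X (MM i)) x := by
  let V : X.Opens := ⟨(Set.range i)ᶜ, i.isClosedEmbedding.isClosed_range.isOpen_compl⟩
  have hz : IsZero ((Scheme.Modules.restrictFunctor V.ι).obj (MM i)) := by
    apply Groth.Agent.Lib.Helper23.ModLocal.isZero_of_forall_eq_zero
    intro W s
    have hbot : i ⁻¹ᵁ (V.ι ''ᵁ W) = ⊥ := by
      ext z
      simp only [Opens.coe_bot, Set.mem_empty_iff_false, iff_false]
      rintro ⟨w, _, hw⟩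
      have h1 : (V.ι w : X) ∈ (V : Set X) := by
        simp
      exact h1 ⟨z, hw.symm⟩
    have hs : Subsingleton (Γ(Z, i ⁻¹ᵁ (V.ι ''ᵁ W)) : Type u) := by
      rw [hbot]; infer_instance
    exact @Subsingleton.elim _ hs s 0
  have e1 : (resD V.ι).obj (DCoh.inD X (MM i)) ≅
      DCoh.inD V ((Scheme.Modules.restrictFunctor V.ι).obj (MM i)) :=
    ((Scheme.Modules.restrictFunctor V.ι).mapDerivedCategorySingleFunctor 0).app (MM i)
  have hz1 : IsZero ((resD V.ι).obj (DCoh.inD X (MM i))) :=
    IsZero.of_iso ((DerivedCategory.singleFunctor _ 0).map_isZero hz) e1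
  have hz2 : IsZero (DerivedCategory.Q.obj (0 : CochainComplex (V : Scheme.{u}).Modules ℤ)) :=
    DerivedCategory.Q.map_isZero (isZero_zero _)
  refine ⟨V, V.ι, inferInstance, ?_, 0, isStrictlyPerfect_zero, ⟨hz1.iso hz2⟩⟩
  rw [Scheme.Opens.opensRange_ι]
  exact hx

theorem isPerfect_pushforward_structure
    (hi : ∀ z : Z, ∃ U : X.affineOpens, i z ∈ U.1 ∧
      ∃ rs : List Γ(X, U.1), LCI.IsKoszulRegularSeq Γ(X, U.1) rs ∧
        RingHom.ker (i.app U.1).hom = Ideal.ofList rs) :
    DCoh.IsPerfect (DCoh.inD X ((Scheme.Modules.pushforward i).obj (Coh.structureModule Z))) := by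
  rw [isPerfect_iff_hasPres]
  intro x
  by_cases hx : x ∈ Set.range i
  · obtain ⟨z, rfl⟩ := hx
    obtain ⟨U, hzU, rs, hrs, hker⟩ := hi z
    exact hasPres_of_koszul i U.2 rs hrs hker _ hzU
  · exact hasPres_of_notMem i x hx

end Final

end Groth.Agent.Lib.Helper1.KoszulPerf
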