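import Mathlib
import Groth.Agent.Lib.Helper1RelPC2

set_option autoImplicit false
set_option maxHeartbeats 400000
universe u
open CategoryTheory CategoryTheory.Limits
attribute [local instance] HasDerivedCategory.standard

namespace Groth.Agent.Lib.Helper1.RelPC

open DerivedCategory Pretriangulated Groth.Agent.Lib.Helper1.Cone Groth.Agent.S7017
open Groth.Agent.S14388 ZeroObject Groth.Agent.Lib.Helper1.PC Groth.Agent.Lib.Helper1.PCTower
open Groth.Agent.Lib.Helper1.Restrict Groth.Agent.Lib.Helper1.Extend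

section Principal

variable {Q C : Type u} [CommRing Q] [CommRing C]

/-- a surjection whose kernel is generated by one non-zero-divisor is pseudo-coherent (perfect) -/
lemma bpc_of_principal (φ : Q →+* C) (p : Q) (hsurj : Function.Surjective φ)
    (hker : ∀ q, φ q = 0 → ∃ q', q = p * q') (hp0 : φ p = 0) (hreg : ∀ q, p * q = 0 → q = 0) :
    BPC φ := by
  intro j
  let M : ModuleCat.{u} Q := (ModuleCat.restrictScalars.{u} φ).obj (ModuleCat.of C C)
  let ev : Q → C := fun q => φ q
  let g₀ : Q →ₗ[Q] M :=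
    { toFun := ev
      map_add' := fun a b => by
        show φ (a + b) = φ a + φ b
        exact map_add φ a b
      map_smul' := fun a b => by
        show φ (a * b) = φ a * φ b
        exact map_mul φ a b }
  let f₀ : Q →ₗ[Q] Q := LinearMap.mulLeft Q p
  have w : ModuleCat.ofHom f₀ ≫ ModuleCat.ofHom g₀ = 0 := by
    ext
    show φ (p * 1) = 0
    rw [mul_one, hp0]
  let S : ShortComplex (ModuleCat.{u} Q) := ShortComplex.mk (ModuleCat.ofHom f₀) (ModuleCat.ofHom g₀) w
  have hS : S.ShortExact := by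
    refine ShortComplex.ShortExact.mk' ?_ ?_ ?_
    · rw [ShortComplex.moduleCat_exact_iff]
      intro (q : Q) hq
      have hq' : φ q = 0 := hq
      obtain ⟨q', hq'⟩ := hker q hq'
      exact ⟨q', hq'.symm⟩
    · rw [ModuleCat.mono_iff_injective]
      intro (a : Q) (b : Q) hab
      have hab' : p * a = p * b := hab
      have h0 : p * (a - b) = 0 := by rw [mul_sub, hab', sub_self]
      exact sub_eq_zero.1 (hreg _ h0)
    · rw [ModuleCat.epi_iff_surjective]
      intro (y : C)
      obtain ⟨q, hq⟩ := hsurj y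
      exact ⟨q, hq⟩
  have hT := hS.singleTriangle_distinguished
  have h1 : DRing.IsPseudoCoherent Q (j + 1)
      ((singleFunctor (ModuleCat.{u} Q) 0).obj (ModuleCat.of Q Q)) :=
    isPC_of_rep _ (rep_single _ (FF_self Q) 0)
  have h2 : DRing.IsPseudoCoherent Q j
      ((singleFunctor (ModuleCat.{u} Q) 0).obj (ModuleCat.of Q Q)) :=
    isPC_of_rep _ (rep_single _ (FF_self Q) 0)
  exact isPC_obj₃ _ hT j h1 h2

lemma bpc_of_FF (φ : Q →+* C) (h : FF ((ModuleCat.restrictScalars.{u} φ).obj (ModuleCat.of C C))) :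
    BPC φ := fun j => isPC_of_rep j (rep_single _ h 0)

end Principal

section AdjoinRoot

variable {S : Type u} [CommRing S] (p : Polynomial S)

lemma bpc_adjoinRoot_mk (hp : p.Monic) : BPC (AdjoinRoot.mk p) := by
  refine bpc_of_principal (AdjoinRoot.mk p) p AdjoinRoot.mk_surjective (fun q hq => ?_)
    AdjoinRoot.mk_self (fun q hq => ?_)
  · exact AdjoinRoot.mk_eq_zero.1 hq
  · exact hp.mul_right_eq_zero_iff.1 hq

lemma bpc_adjoinRoot_of (hp : p.Monic) : BPC (AdjoinRoot.of p) := by
  have h1 := hp.free_adjoinRoot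
  have h2 := hp.finite_adjoinRoot
  refine bpc_of_FF _ ?_
  have e := restrictScalarsAlgebraIso (A := S) (B := AdjoinRoot p) (AdjoinRoot p)
  exact FF_iso _ _ e.symm ⟨h2, h1⟩

end AdjoinRoot

section Integral

/-- `P[y_0..y_k] ≃ P[T][y_1..y_k]` -/
noncomputable def succEquiv (P : Type u) [CommRing P] (k : ℕ) :
    MvPolynomial (Fin (k + 1)) P ≃ₐ[P] MvPolynomial (Fin k) (Polynomial P) :=
  (MvPolynomial.renameEquiv P (finSuccEquiv k)).trans (MvPolynomial.optionEquivRight P (Fin k))

theorem isPC_eval₂_iff_of_integral : ∀ (k : ℕ) (P B : Type u) [CommRing P] [CommRing B]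
    (φ : P →+* B) (b : Fin k → B) (_ : ∀ j, φ.IsIntegralElem (b j)) (K : Dual.D B) (m : ℤ),
    DRing.IsPseudoCoherent (MvPolynomial (Fin k) P) m
        ((DRing.restrictD (MvPolynomial.eval₂Hom φ b)).obj K) ↔
      DRing.IsPseudoCoherent P m ((DRing.restrictD φ).obj K) := by
  intro k
  induction k with
  | zero =>
    intro P B _ _ φ b _ K m
    have hbij : Function.Bijective (MvPolynomial.C : P →+* MvPolynomial (Fin 0) P) :=
      ⟨MvPolynomial.C_injective _ _, MvPolynomial.C_surjective _⟩
    have h1 := isPC_restrictD_iff (MvPolynomial.C : P →+* MvPolynomial (Fin 0) P)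
      (bpc_of_bijective _ hbij) ((DRing.restrictD (MvPolynomial.eval₂Hom φ b)).obj K) m
    rw [isPC_restrictD_comp_iff] at h1
    have h2 : (MvPolynomial.eval₂Hom φ b).comp (MvPolynomial.C : P →+* MvPolynomial (Fin 0) P) = φ := by
      ext r
      simp
    rw [h2] at h1
    exact h1
  | succ k ih =>
    intro P B _ _ φ b hb K m
    obtain ⟨p, hp, hpb⟩ := hb 0
    let ψ : AdjoinRoot p →+* B := AdjoinRoot.lift φ (b 0) hpb
    let b' : Fin k → B := Fin.tail b
    have hb' : ∀ j, ψ.IsIntegralElem (b' j) := by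
      intro j
      obtain ⟨q, hq, hqb⟩ := hb j.succ
      refine ⟨q.map (AdjoinRoot.of p), hq.map _, ?_⟩
      rw [Polynomial.eval₂_map]
      have : ψ.comp (AdjoinRoot.of p) = φ := by
        ext r
        simp [ψ]
      rw [this]
      exact hqb
    have hψ : ψ.comp (AdjoinRoot.of p) = φ := by
      ext r
      simp [ψ]
    have h1 := ih (AdjoinRoot p) B ψ b' hb' K m
    have h2 := isPC_restrictD_iff (AdjoinRoot.of p) (bpc_adjoinRoot_of p hp)
      ((DRing.restrictD ψ).obj K) m
    rw [isPC_restrictD_comp_iff, hψ] at h2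
    have h3 := isPC_restrictD_iff (MvPolynomial.map (AdjoinRoot.mk p) :
        MvPolynomial (Fin k) (Polynomial P) →+* MvPolynomial (Fin k) (AdjoinRoot p))
      (bpc_map _ (bpc_adjoinRoot_mk p hp) k) ((DRing.restrictD (MvPolynomial.eval₂Hom ψ b')).obj K) m
    rw [isPC_restrictD_comp_iff] at h3
    let θ : MvPolynomial (Fin (k + 1)) P →+* MvPolynomial (Fin k) (Polynomial P) :=
      (succEquiv P k).toRingEquiv.toRingHom
    have h4 := isPC_restrictD_iff θ (bpc_of_bijective θ (succEquiv P k).toRingEquiv.bijective)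
      ((DRing.restrictD ((MvPolynomial.eval₂Hom ψ b').comp
        (MvPolynomial.map (AdjoinRoot.mk p)))).obj K) m
    rw [isPC_restrictD_comp_iff] at h4
    have hcomp : ((MvPolynomial.eval₂Hom ψ b').comp (MvPolynomial.map (AdjoinRoot.mk p))).comp θ =
        MvPolynomial.eval₂Hom φ b := by
      refine MvPolynomial.ringHom_ext (fun r => ?_) (fun i => ?_)
      · simp [θ, succEquiv, ψ]
      · refine Fin.cases ?_ (fun i => ?_) i
        · simp [θ, succEquiv, ψ]
        · simp [θ, succEquiv, ψ, b', Fin.tail]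
    rw [hcomp] at h4
    exact h4.symm.trans (h3.symm.trans (h1.trans h2))

end Integral

end Groth.Agent.Lib.Helper1.RelPC
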