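import Mathlib
import Groth.Agent.Lib.Helper1KoszulPerf
import Groth.Agent.Lib.Helper1Extend
import Groth.Agent.Lib.Helper1PC9
import Groth.Agent.Lib.Helper23FinType2
import Groth.Agent.Lib.Helper23FinTypeLocal
import Groth.Agent.Lib.Helper23ModLocal
import Groth.Agent.Lib.Helper1PC6
import Groth.Agent.Lib.Helper1PC5
set_option backward.isDefEq.respectTransparency.types false
set_option autoImplicit false
set_option linter.style.haveILetI false
set_option maxHeartbeats 400000
universe u
open CategoryTheory CategoryTheory.Limits AlgebraicGeometry Opposite TopologicalSpace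

attribute [local instance] HasDerivedCategory.standard

namespace Groth.Agent.Lib.Helper1.TildePC

open DerivedCategory Pretriangulated
open Groth.Agent.Lib.Helper1.KoszulPerf Groth.Agent.Lib.Helper1.SPL Groth.Agent.Lib.Helper1.PC
  Groth.Agent.Lib.Helper1.Restrict Groth.Agent.Lib.Helper1.Cone Groth.Agent.Lib.Helper1.Sky
  Groth.Agent.Lib.Helper1.TQ Groth.Agent.S7017 Groth.Agent.S14388

variable (A : Type u) [CommRing A]

/-- `H^n(K~) ≅ H^n(K)~` -/
noncomputable def homologyTildeIso (K : Dual.D A) (n : ℤ) :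
    DCoh.HD ((tildeD' A).obj K) n ≅
      (tilde.functor (CommRingCat.of A)).obj ((homologyFunctor (ModuleCat.{u} A) n).obj K) :=
  (Groth.Agent.Lib.Helper17.Hyp.homologyNatIso (tilde.functor (CommRingCat.of A)) n).app K

variable {A}

lemma isZero_of_isZero_tilde (M : ModuleCat.{u} A)
    (h : IsZero ((tilde.functor (CommRingCat.of A)).obj M)) : IsZero M := by
  rw [IsZero.iff_id_eq_zero] at h ⊢
  apply (tilde.fullyFaithfulFunctor (R := CommRingCat.of A)).map_injective
  rw [CategoryTheory.Functor.map_id, CategoryTheory.Functor.map_zero]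
  exact h

/-- `K ↦ K~` preserves `m`-pseudo-coherence -/
theorem isPseudoCoherentD_tildeD' (K : Dual.D A) (m : ℤ) (h : DRing.IsPseudoCoherent A m K) :
    DCoh.IsPseudoCoherentD m ((tildeD' A).obj K) := by
  rw [isPseudoCoherentD_iff_hasPresM]
  intro x
  obtain ⟨E, a, b, α, hE, hff, h1, h2⟩ := h
  have hα : PropM m α := ⟨h1, h2⟩
  have hα' : PropM m ((resD (𝟙 (Spec (CommRingCat.of A)))).map ((tildeD' A).map α)) :=
    propM_mapDerivedCategory _ m _ (propM_mapDerivedCategory _ m _ hα)
  let E' := (resC (𝟙 (Spec (CommRingCat.of A)))).obj ((TCt (CommRingCat.of A)).obj E)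
  let e : Q.obj E' ≅ (resD (𝟙 (Spec (CommRingCat.of A)))).obj ((tildeD' A).obj (Q.obj E)) :=
    ((facD (𝟙 (Spec (CommRingCat.of A)))).app _).symm ≪≫
      (resD (𝟙 (Spec (CommRingCat.of A)))).mapIso
        ((tilde.functor (CommRingCat.of A)).mapDerivedCategoryFactors.app E).symm
  refine ⟨_, 𝟙 _, inferInstance, by simp, E',
    e.hom ≫ (resD (𝟙 (Spec (CommRingCat.of A)))).map ((tildeD' A).map α),
    isStrictlyPerfect_resC _ _ ⟨⟨a, b, fun i hi =>
      (tilde.functor (CommRingCat.of A)).map_isZero (hE i hi)⟩, fun i => ?_⟩,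
    propM_comp m (propM_of_isIso m _) hα'⟩
  have := (hff i).1
  have := (hff i).2
  exact (Groth.Agent.Lib.Helper2.FPAff.isFinLocFree_tilde_iff _ _).2
    ⟨inferInstance, inferInstance⟩

/-- bounded above -/
lemma exists_isLE_of_isPseudoCoherentD (K : Dual.D A) (m : ℤ)
    (h : DCoh.IsPseudoCoherentD m ((tildeD' A).obj K)) : ∃ n : ℤ, K.IsLE n := by
  rw [isPseudoCoherentD_iff_hasPresM] at h
  choose U j hj N hx hmN hN using fun x => (h x).exists_isZero_homology
  haveI := hj
  obtain ⟨t, ht⟩ := isCompact_univ.elim_finite_subcover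
    (fun x => ((j x).opensRange : Set (Spec (CommRingCat.of A))))
    (fun x => (j x).opensRange.isOpen) (fun x _ => Set.mem_iUnion.2 ⟨x, hx x⟩)
  let n : ℤ := ((t.sup fun x => (N x).toNat : ℕ) : ℤ)
  have hn : ∀ x ∈ t, N x ≤ n := fun x hxt => (Int.self_le_toNat _).trans
    (Int.ofNat_le.2 (Finset.le_sup (f := fun x => (N x).toNat) hxt))
  refine ⟨n, ?_⟩
  rw [DerivedCategory.isLE_iff]
  intro i hi
  apply isZero_of_isZero_tilde
  refine IsZero.of_iso ?_ (homologyTildeIso A K i).symm
  refine Groth.Agent.Lib.Helper23.ModLocal.isZero_of_isZero_restrict (ι := t) (fun x => U x)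
    (fun x => j x) (fun y => ?_) (fun x => ?_)
  · have := ht (Set.mem_univ y)
    simp only [Set.mem_iUnion] at this
    obtain ⟨x, hxt, hy⟩ := this
    obtain ⟨y', rfl⟩ := hy
    exact ⟨⟨x, hxt⟩, y', rfl⟩
  · exact IsZero.of_iso (hN x i (lt_of_le_of_lt (hn x x.2) hi)) (homologyResDIso (j x) _ i).symm

lemma finite_homology_of_isPseudoCoherentD (K : Dual.D A) (n : ℤ) (hK : K.IsLE n)
    (h : DCoh.IsPseudoCoherentD n ((tildeD' A).obj K)) :
    Module.Finite A ((homologyFunctor (ModuleCat.{u} A) n).obj K) := by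
  rw [isPseudoCoherentD_iff_hasPresM] at h
  have hv : ∀ i, n < i → IsZero (DCoh.HD ((tildeD' A).obj K) i) := fun i hi =>
    IsZero.of_iso ((tilde.functor (CommRingCat.of A)).map_isZero
      ((DerivedCategory.isLE_iff K n).1 hK i hi)) (homologyTildeIso A K i)
  haveI hft := isFT_HD_of_hasPresM n _ h hv
  have hft' := Groth.Agent.Lib.Helper23.FinType.isFiniteType_of_iso (homologyTildeIso A K n)
  exact (Groth.Agent.Lib.Helper23.FinType.isFiniteType_tilde_iff (CommRingCat.of A) _).1 hft'

lemma isPseudoCoherentD_mono {X : Scheme.{u}} {m m' : ℤ} (hm : m ≤ m') {K : DCoh.D X}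
    (h : DCoh.IsPseudoCoherentD m K) : DCoh.IsPseudoCoherentD m' K := by
  rw [isPseudoCoherentD_iff_hasPresM] at h ⊢
  exact fun x => (h x).of_le hm

lemma isPC_of_tildeD'_aux (m : ℤ) (k : ℕ) : ∀ (K : Dual.D A) (n : ℤ),
    n < m + k → K.IsLE n → DCoh.IsPseudoCoherentD m ((tildeD' A).obj K) →
    DRing.IsPseudoCoherent A m K := by
  induction k with
  | zero =>
    intro K n hn hK _
    have : K.IsLE (m - 1) := tt.isLE_of_le K n (m - 1) (by push_cast at hn; lia)
    exact isPC_of_isLE m K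
  | succ k ih =>
    intro K n hn hK h
    by_cases hn' : n < m + k
    · exact ih K n hn' hK h
    have hmn : m ≤ n := by lia
    have hfinA := finite_homology_of_isPseudoCoherentD K n hK (isPseudoCoherentD_mono hmn h)
    obtain ⟨F, ψ, hF, hψ⟩ := exists_single_conn K n hfinA
    obtain ⟨K', v, w, hT⟩ := distinguished_cocone_triangle ψ
    have hK' : K'.IsLE (n - 1) := (conn_iff_of_distTriang _ hT n).1 hψ
    have hT' := (tildeD' A).map_distinguished _ hT
    have h1 : DCoh.IsPseudoCoherentD (m + 1)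
        ((tildeD' A).obj ((DerivedCategory.singleFunctor (ModuleCat.{u} A) n).obj F)) :=
      isPseudoCoherentD_tildeD' _ _ (isPC_of_rep (m + 1) (rep_single F hF n))
    have h' : DCoh.IsPseudoCoherentD m ((tildeD' A).obj K') :=
      (isPseudoCoherentD_triangle m _ hT').1 h1 h
    have hK'pc := ih K' (n - 1) (by push_cast at hn; lia) hK' h'
    exact isPC_obj₂ _ hT m (isPC_of_rep m (rep_single F hF n)) hK'pc

theorem isPC_of_tildeD' (K : Dual.D A) (m : ℤ)
    (h : DCoh.IsPseudoCoherentD m ((tildeD' A).obj K)) : DRing.IsPseudoCoherent A m K := by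
  obtain ⟨n, hn⟩ := exists_isLE_of_isPseudoCoherentD K m h
  exact isPC_of_tildeD'_aux m (n - m + 1).toNat K n (by lia) hn h

theorem isPseudoCoherentD_tildeD'_iff (K : Dual.D A) (m : ℤ) :
    DCoh.IsPseudoCoherentD m ((tildeD' A).obj K) ↔ DRing.IsPseudoCoherent A m K :=
  ⟨isPC_of_tildeD' K m, isPseudoCoherentD_tildeD' K m⟩

end Groth.Agent.Lib.Helper1.TildePC
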