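import Mathlib
import Groth.Agent.Lib.Helper1ChartInd
import Groth.Agent.Lib.Helper1KoszulPerf
import Groth.Agent.Lib.Helper1TildePC
import Groth.Agent.Lib.Helper1RelPC3
set_option backward.isDefEq.respectTransparency.types false
set_option autoImplicit false
set_option linter.style.haveILetI false
set_option maxHeartbeats 400000
universe u
open CategoryTheory CategoryTheory.Limits AlgebraicGeometry Opposite TopologicalSpace Pretriangulated

attribute [local instance] HasDerivedCategory.standard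

namespace Groth.Agent.Lib.Helper1.ChartInd

open Groth.Agent.Lib.Helper1.SPL Groth.Agent.Lib.Helper1.Sky ZeroObject
open Groth.Agent.Lib.Helper1.ClosedPC Groth.Agent.Lib.Helper1.ChartPC
open Groth.Agent.Lib.Helper1.KoszulPerf Groth.Agent.Lib.Helper1.TildePC
open Groth.Agent.Lib.Helper1.Restrict Groth.Agent.Lib.Helper1.RelPC Groth.Agent.Lib.Helper1.PC

section B1

variable {Z X : Scheme.{u}} (i : Z ⟶ X) [IsClosedImmersion i]

/-- the `A`-module `A / ker φ` is `B` with restricted scalars, for `φ : A → B` surjective -/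
noncomputable def quotKerIso {A B : Type u} [CommRing A] [CommRing B] (φ : A →+* B)
    (hφ : Function.Surjective φ) :
    ModuleCat.of A (A ⧸ RingHom.ker φ) ≅
      (ModuleCat.restrictScalars.{u} φ).obj (ModuleCat.of B B) :=
  let M : ModuleCat.{u} A := (ModuleCat.restrictScalars.{u} φ).obj (ModuleCat.of B B)
  let g₀ : A →ₗ[A] M :=
    { toFun := fun a => (φ a : B)
      map_add' := fun a b => map_add φ a b
      map_smul' := fun a b => by
        show φ (a * b) = φ a * φ b
        exact map_mul φ a b }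
  have hg : Function.Surjective g₀ := hφ
  have hk : LinearMap.ker g₀ = RingHom.ker φ := by
    ext a
    rfl
  (Submodule.quotEquivOfEq _ _ hk.symm ≪≫ₗ g₀.quotKerEquivOfSurjective hg).toModuleIso

/-- if `Γ(Z, i⁻¹U)` is pseudo-coherent over `Γ(X, U)` for an affine open `U`, then `i_* O_Z` is
pseudo-coherent at the points of `U` -/
theorem hasPresM_push_structure_of_bpc {U : X.Opens} (hU : IsAffineOpen U)
    (hB : BPC (i.app U).hom) (x : X) (hx : x ∈ U) (m : ℤ) :
    HasPresM m (DCoh.inD X (MM i)) x := by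
  have hsurj : Function.Surjective (i.app U).hom := Scheme.Hom.app_surjective i _ hU
  let I : Ideal Γ(X, U) := RingHom.ker (i.app U).hom
  have e1 : (resD hU.fromSpec).obj (DCoh.inD X (MM i)) ≅
      DCoh.inD (Spec Γ(X, U)) (NN i hU) :=
    ((Scheme.Modules.restrictFunctor hU.fromSpec).mapDerivedCategorySingleFunctor 0).app (MM i)
  have e2 : DCoh.inD (Spec Γ(X, U)) (NN i hU) ≅ DCoh.inD (Spec Γ(X, U))
      (tilde (ModuleCat.of Γ(X, U) (Γ(X, U) ⧸ I))) :=
    (DerivedCategory.singleFunctor _ 0).mapIso (restrictIsoTilde i hU I rfl)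
  have e3 : (tildeD' Γ(X, U)).obj ((DerivedCategory.singleFunctor _ 0).obj
      (ModuleCat.of Γ(X, U) (Γ(X, U) ⧸ I))) ≅
      DCoh.inD (Spec Γ(X, U)) (tilde (ModuleCat.of Γ(X, U) (Γ(X, U) ⧸ I))) :=
    ((tilde.functor (CommRingCat.of Γ(X, U))).mapDerivedCategorySingleFunctor 0).app _
  have hpc : DRing.IsPseudoCoherent Γ(X, U) m ((DerivedCategory.singleFunctor _ 0).obj
      (ModuleCat.of Γ(X, U) (Γ(X, U) ⧸ I))) :=
    isPC_of_iso ((DerivedCategory.singleFunctor _ 0).mapIso
      (quotKerIso (i.app U).hom hsurj)).symm (hB m)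
  have h1 := isPseudoCoherentD_tildeD' _ m hpc
  have h2 : DCoh.IsPseudoCoherentD m ((resD hU.fromSpec).obj (DCoh.inD X (MM i))) :=
    isPseudoCoherentD_of_iso (e3 ≪≫ e2.symm ≪≫ e1.symm) h1
  have hx' : x ∈ hU.fromSpec.opensRange := by rw [hU.opensRange_fromSpec]; exact hx
  obtain ⟨y, rfl⟩ := hx'
  exact hasPresM_of_resD hU.fromSpec m _ y ((isPseudoCoherentD_iff_hasPresM m _).1 h2 y)

end B1

section Spec

variable {Q C : Type u} [CommRing Q] [CommRing C] (σ : Q →+* C)

lemma isClosedImmersion_specMap (hσ : Function.Surjective σ) :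
    IsClosedImmersion (Spec.map (CommRingCat.ofHom σ)) :=
  IsClosedImmersion.spec_of_surjective _ hσ

/-- `Spec C ⟶ Spec Q` has pseudo-coherent structure sheaf direct image when `C` is a
pseudo-coherent `Q`-module -/
theorem ho_spec_of_bpc (hσ : Function.Surjective σ) (hB : BPC σ)
    [IsClosedImmersion (Spec.map (CommRingCat.ofHom σ))] :
    HO (Spec.map (CommRingCat.ofHom σ)) := by
  intro m x
  refine hasPresM_push_structure_of_bpc (Spec.map (CommRingCat.ofHom σ))
    (U := ⊤) (isAffineOpen_top _) ?_ x trivial m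
  have hnat : (Spec.map (CommRingCat.ofHom σ)).appTop =
      (Scheme.ΓSpecIso (CommRingCat.of Q)).hom ≫ CommRingCat.ofHom σ ≫
        (Scheme.ΓSpecIso (CommRingCat.of C)).inv := by
    rw [← Category.assoc, Iso.eq_comp_inv]
    exact Scheme.ΓSpecIso_naturality (CommRingCat.ofHom σ)
  have key : BPC (Spec.map (CommRingCat.ofHom σ)).appTop.hom := by
    rw [hnat]
    have h1 : BPC (Scheme.ΓSpecIso (CommRingCat.of Q)).hom.hom :=
      bpc_of_bijective _ (ConcreteCategory.bijective_of_isIso _)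
    have h2 : BPC (Scheme.ΓSpecIso (CommRingCat.of C)).inv.hom :=
      bpc_of_bijective _ (ConcreteCategory.bijective_of_isIso _)
    exact bpc_comp _ _ h1 (bpc_comp _ _ hB h2)
  exact key

end Spec

section abstract

universe w₁ w₂ w₃ v₁ v₂ v₃ u₁ u₂ u₃

variable {A : Type u₁} [Category.{v₁} A] [Abelian A]
  {B : Type u₂} [Category.{v₂} B] [Abelian B]
  {C : Type u₃} [Category.{v₃} C] [Abelian C]
  [HasDerivedCategory.{w₁} A] [HasDerivedCategory.{w₂} B] [HasDerivedCategory.{w₃} C]
  (F : A ⥤ B) [F.Additive] [PreservesFiniteLimits F] [PreservesFiniteColimits F]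
  (G : B ⥤ C) [G.Additive] [PreservesFiniteLimits G] [PreservesFiniteColimits G]
  (H : A ⥤ C) [H.Additive] [PreservesFiniteLimits H] [PreservesFiniteColimits H]
  (θ : F ⋙ G ≅ H)

open DerivedCategory in
/-- composition of exact functors on derived categories -/
noncomputable def mapDCompIso₂ :
    F.mapDerivedCategory ⋙ G.mapDerivedCategory ≅ H.mapDerivedCategory :=
  Localization.liftNatIso Q (HomologicalComplex.quasiIso A (ComplexShape.up ℤ))
    (Q ⋙ F.mapDerivedCategory ⋙ G.mapDerivedCategory)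
    (Q ⋙ H.mapDerivedCategory) _ _
    ((Functor.associator _ _ _).symm ≪≫
      Functor.isoWhiskerRight F.mapDerivedCategoryFactors G.mapDerivedCategory ≪≫
      Functor.associator _ _ _ ≪≫
      Functor.isoWhiskerLeft _ G.mapDerivedCategoryFactors ≪≫
      (Functor.associator _ _ _).symm ≪≫
      Functor.isoWhiskerRight (Functor.mapHomologicalComplexCompIso θ (ComplexShape.up ℤ)) Q ≪≫
      H.mapDerivedCategoryFactors.symm)

end abstract

section G

variable {X : Scheme.{u}}

/-- pushforward along a composition of closed immersions -/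
noncomputable def pushDComp {W T T' : Scheme.{u}} (a : W ⟶ T) (s : T ⟶ T') [IsClosedImmersion a]
    [IsClosedImmersion s] : pushD a ⋙ pushD s ≅ pushD (a ≫ s) :=
  mapDCompIso₂ _ _ _ (Scheme.Modules.pushforwardComp a s)

/-- **G1**: composing the chart immersion with a closed immersion with pseudo-coherent
structure sheaf does not change the test -/
theorem isPseudoCoherentD_pushD_comp_iff {W T T' : Scheme.{u}} (a : W ⟶ T) (s : T ⟶ T')
    [IsClosedImmersion a] [IsClosedImmersion s] (hs : HO s) (L : DCoh.D W) (m : ℤ) :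
    DCoh.IsPseudoCoherentD m ((pushD a).obj L) ↔
      DCoh.IsPseudoCoherentD m ((pushD (a ≫ s)).obj L) := by
  rw [isPseudoCoherentD_pushD_iff s hs ((pushD a).obj L) m]
  exact ⟨isPseudoCoherentD_of_iso ((pushDComp a s).app L),
    isPseudoCoherentD_of_iso ((pushDComp a s).app L).symm⟩

lemma isPseudoCoherentD_pushD_congr {W T : Scheme.{u}} {a b : W ⟶ T} (h : a = b)
    [IsClosedImmersion a] [IsClosedImmersion b] (L : DCoh.D W) (m : ℤ) :
    DCoh.IsPseudoCoherentD m ((pushD a).obj L) ↔ DCoh.IsPseudoCoherentD m ((pushD b).obj L) := by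
  subst h
  rfl

/-- the morphism `U ⟶ Spec Q` attached to a ring map `Q → Γ(X, U)` -/
noncomputable def imm (U : X.Opens) {Q : Type u} [CommRing Q] (θ : Q →+* Γ(X, U)) :
    (U : Scheme.{u}) ⟶ Spec (CommRingCat.of Q) :=
  U.toSpecΓ ≫ Spec.map (CommRingCat.ofHom θ)

lemma chartImm_eq_imm (U : X.Opens) {R : Type u} [CommRing R] {n : ℕ}
    (φ : MvPolynomial (Fin n) R →+* Γ(X, U)) : DerSch.chartImm U φ = imm U φ := rfl

lemma imm_comp (U : X.Opens) {Q Q' : Type u} [CommRing Q] [CommRing Q'] (θ : Q →+* Γ(X, U))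
    (σ : Q' →+* Q) : imm U (θ.comp σ) = imm U θ ≫ Spec.map (CommRingCat.ofHom σ) := by
  unfold imm
  rw [Category.assoc, ← Spec.map_comp]
  rfl

theorem isClosedImmersion_imm (U : X.Opens) (hU : IsAffineOpen U) {Q : Type u} [CommRing Q]
    (θ : Q →+* Γ(X, U)) (hθ : Function.Surjective θ) : IsClosedImmersion (imm U θ) := by
  unfold imm
  haveI : IsIso U.toSpecΓ := by
    rw [← hU.isoSpec_hom]
    infer_instance
  haveI : IsClosedImmersion (Spec.map (CommRingCat.ofHom θ)) :=
    IsClosedImmersion.spec_of_surjective _ hθ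
  infer_instance

/-- one step: adding variables -/
theorem isPC_imm_eval₂_iff (U : X.Opens) (hU : IsAffineOpen U) {P : Type u} [CommRing P]
    (α : P →+* Γ(X, U)) (hα : Function.Surjective α) {k : ℕ} (b : Fin k → Γ(X, U))
    [IsClosedImmersion (imm U α)] [IsClosedImmersion (imm U (MvPolynomial.eval₂Hom α b))]
    (L : DCoh.D (U : Scheme.{u})) (m : ℤ) :
    DCoh.IsPseudoCoherentD m ((pushD (imm U α)).obj L) ↔
      DCoh.IsPseudoCoherentD m ((pushD (imm U (MvPolynomial.eval₂Hom α b))).obj L) := by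
  choose f hf using fun j => hα (b j)
  have hcomp : α.comp (MvPolynomial.eval f : MvPolynomial (Fin k) P →+* P) =
      MvPolynomial.eval₂Hom α b := by
    refine MvPolynomial.ringHom_ext (fun r => ?_) (fun i => ?_)
    · simp
    · simp [hf]
  have hsurj : Function.Surjective (MvPolynomial.eval f : MvPolynomial (Fin k) P →+* P) :=
    fun p => ⟨MvPolynomial.C p, MvPolynomial.eval_C _⟩
  haveI := isClosedImmersion_specMap _ hsurj
  have hs := ho_spec_of_bpc _ hsurj (bpc_mvEval k P f)
  have h1 := isPseudoCoherentD_pushD_comp_iff (imm U α) _ hs L m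
  have h2 : imm U (MvPolynomial.eval₂Hom α b) = imm U α ≫ Spec.map (CommRingCat.ofHom
      (MvPolynomial.eval f : MvPolynomial (Fin k) P →+* P)) := by
    rw [← imm_comp, hcomp]
  exact h1.trans (isPseudoCoherentD_pushD_congr h2 L m).symm

/-- **K1**: independence of the chart -/
theorem isPC_imm_iff (U : X.Opens) (hU : IsAffineOpen U) {R : Type u} [CommRing R] {n k : ℕ}
    (φ : MvPolynomial (Fin n) R →+* Γ(X, U)) (hφ : Function.Surjective φ)
    (ψ : MvPolynomial (Fin k) R →+* Γ(X, U)) (hψ : Function.Surjective ψ)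
    (hC : φ.comp MvPolynomial.C = ψ.comp MvPolynomial.C)
    [IsClosedImmersion (imm U φ)] [IsClosedImmersion (imm U ψ)]
    (L : DCoh.D (U : Scheme.{u})) (m : ℤ) :
    DCoh.IsPseudoCoherentD m ((pushD (imm U φ)).obj L) ↔
      DCoh.IsPseudoCoherentD m ((pushD (imm U ψ)).obj L) := by
  let γ₁ : MvPolynomial (Fin k) (MvPolynomial (Fin n) R) →+* Γ(X, U) :=
    MvPolynomial.eval₂Hom φ (fun j => ψ (MvPolynomial.X j))
  let γ₂ : MvPolynomial (Fin n) (MvPolynomial (Fin k) R) →+* Γ(X, U) :=
    MvPolynomial.eval₂Hom ψ (fun i => φ (MvPolynomial.X i))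
  let σ : MvPolynomial (Fin k) (MvPolynomial (Fin n) R) →+*
      MvPolynomial (Fin n) (MvPolynomial (Fin k) R) :=
    (MvPolynomial.commAlgEquiv R (Fin k) (Fin n)).toRingEquiv.toRingHom
  have hσ : γ₂.comp σ = γ₁ := by
    refine MvPolynomial.ringHom_ext (fun p => ?_) (fun j => ?_)
    · have : (γ₂.comp σ).comp MvPolynomial.C = φ := by
        refine MvPolynomial.ringHom_ext (fun r => ?_) (fun i => ?_)
        · have := DFunLike.congr_fun hC r
          simpa [γ₂, σ] using this.symm
        · simp [γ₂, σ]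
      have h2 := DFunLike.congr_fun this p
      simpa [γ₁] using h2
    · simp [γ₂, σ, γ₁]
  have hγ₁ : Function.Surjective γ₁ := fun y => by
    obtain ⟨p, rfl⟩ := hφ y
    exact ⟨MvPolynomial.C p, by simp [γ₁]⟩
  have hγ₂ : Function.Surjective γ₂ := fun y => by
    obtain ⟨p, rfl⟩ := hψ y
    exact ⟨MvPolynomial.C p, by simp [γ₂]⟩
  haveI := isClosedImmersion_imm U hU γ₁ hγ₁
  haveI := isClosedImmersion_imm U hU γ₂ hγ₂
  have h1 := isPC_imm_eval₂_iff U hU φ hφ (fun j => ψ (MvPolynomial.X j)) L m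
  have h2 := isPC_imm_eval₂_iff U hU ψ hψ (fun i => φ (MvPolynomial.X i)) L m
  have hσb : Function.Bijective σ :=
    (MvPolynomial.commAlgEquiv R (Fin k) (Fin n)).toRingEquiv.bijective
  haveI := isClosedImmersion_specMap σ hσb.surjective
  have hs := ho_spec_of_bpc σ hσb.surjective (bpc_of_bijective σ hσb)
  have h3 := isPseudoCoherentD_pushD_comp_iff (imm U γ₂) _ hs L m
  have h4 : imm U γ₁ = imm U γ₂ ≫ Spec.map (CommRingCat.ofHom σ) := by
    rw [← imm_comp, hσ]
  exact h1.trans ((isPseudoCoherentD_pushD_congr h4 L m).trans (h3.symm.trans h2.symm))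

end G

end Groth.Agent.Lib.Helper1.ChartInd
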