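import Mathlib
import Groth.Agent.Lib.Helper1ChartInd2
set_option backward.isDefEq.respectTransparency.types false
set_option autoImplicit false
set_option linter.style.haveILetI false
set_option maxHeartbeats 400000
universe u
open CategoryTheory CategoryTheory.Limits AlgebraicGeometry Opposite TopologicalSpace Pretriangulated

attribute [local instance] HasDerivedCategory.standard

namespace Groth.Agent.Lib.Helper1.ChartInd

open Groth.Agent.Lib.Helper1.SPL Groth.Agent.Lib.Helper1.Sky ZeroObject
open Groth.Agent.Lib.Helper1.ClosedPC Groth.Agent.Lib.Helper1.ChartPC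
open Groth.Agent.Lib.Helper1.Restrict Groth.Agent.Lib.Helper1.RelPC Groth.Agent.Lib.Helper1.PC

section General

variable {W : Scheme.{u}} {B : Type u} [CommRing B] (t : W ⟶ Spec (CommRingCat.of B)) [IsIso t]

/-- the morphism `W ⟶ Spec Q` attached to a ring map `Q → B`, `W ≅ Spec B` -/
noncomputable def immT {Q : Type u} [CommRing Q] (θ : Q →+* B) : W ⟶ Spec (CommRingCat.of Q) :=
  t ≫ Spec.map (CommRingCat.ofHom θ)

lemma immT_comp {Q Q' : Type u} [CommRing Q] [CommRing Q'] (θ : Q →+* B) (σ : Q' →+* Q) :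
    immT t (θ.comp σ) = immT t θ ≫ Spec.map (CommRingCat.ofHom σ) := by
  unfold immT
  rw [Category.assoc, ← Spec.map_comp]
  rfl

theorem isClosedImmersion_immT {Q : Type u} [CommRing Q] (θ : Q →+* B)
    (hθ : Function.Surjective θ) : IsClosedImmersion (immT t θ) := by
  unfold immT
  haveI : IsClosedImmersion (Spec.map (CommRingCat.ofHom θ)) :=
    IsClosedImmersion.spec_of_surjective _ hθ
  infer_instance

/-- one step: adding variables -/
theorem isPC_immT_eval₂_iff {P : Type u} [CommRing P]
    (α : P →+* B) (hα : Function.Surjective α) {k : ℕ} (b : Fin k → B)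
    [IsClosedImmersion (immT t α)] [IsClosedImmersion (immT t (MvPolynomial.eval₂Hom α b))]
    (L : DCoh.D W) (m : ℤ) :
    DCoh.IsPseudoCoherentD m ((pushD (immT t α)).obj L) ↔
      DCoh.IsPseudoCoherentD m ((pushD (immT t (MvPolynomial.eval₂Hom α b))).obj L) := by
  choose f hf using fun j => hα (b j)
  have hcomp : α.comp (MvPolynomial.eval f : MvPolynomial (Fin k) P →+* P) =
      MvPolynomial.eval₂Hom α b := by
    refine MvPolynomial.ringHom_ext (fun r => ?_) (fun i => ?_)
    · simp
    · simp [hf]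
  have hsurj : Function.Surjective (MvPolynomial.eval f : MvPolynomial (Fin k) P →+* P) :=
    fun p => ⟨MvPolynomial.C p, MvPolynomial.eval_C _⟩
  haveI := isClosedImmersion_specMap _ hsurj
  have hs := ho_spec_of_bpc _ hsurj (bpc_mvEval k P f)
  have h1 := isPseudoCoherentD_pushD_comp_iff (immT t α) _ hs L m
  have h2 : immT t (MvPolynomial.eval₂Hom α b) = immT t α ≫ Spec.map (CommRingCat.ofHom
      (MvPolynomial.eval f : MvPolynomial (Fin k) P →+* P)) := by
    rw [← immT_comp, hcomp]
  exact h1.trans (isPseudoCoherentD_pushD_congr h2 L m).symm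

/-- **K1**: independence of the chart -/
theorem isPC_immT_iff {R : Type u} [CommRing R] {n k : ℕ}
    (φ : MvPolynomial (Fin n) R →+* B) (hφ : Function.Surjective φ)
    (ψ : MvPolynomial (Fin k) R →+* B) (hψ : Function.Surjective ψ)
    (hC : φ.comp MvPolynomial.C = ψ.comp MvPolynomial.C)
    [IsClosedImmersion (immT t φ)] [IsClosedImmersion (immT t ψ)]
    (L : DCoh.D W) (m : ℤ) :
    DCoh.IsPseudoCoherentD m ((pushD (immT t φ)).obj L) ↔
      DCoh.IsPseudoCoherentD m ((pushD (immT t ψ)).obj L) := by
  let γ₁ : MvPolynomial (Fin k) (MvPolynomial (Fin n) R) →+* B :=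
    MvPolynomial.eval₂Hom φ (fun j => ψ (MvPolynomial.X j))
  let γ₂ : MvPolynomial (Fin n) (MvPolynomial (Fin k) R) →+* B :=
    MvPolynomial.eval₂Hom ψ (fun i => φ (MvPolynomial.X i))
  let σ : MvPolynomial (Fin k) (MvPolynomial (Fin n) R) →+*
      MvPolynomial (Fin n) (MvPolynomial (Fin k) R) :=
    (MvPolynomial.commAlgEquiv R (Fin k) (Fin n)).toRingEquiv.toRingHom
  have hσ : γ₂.comp σ = γ₁ := by
    refine MvPolynomial.ringHom_ext (fun p => ?_) (fun j => ?_)
    · have : (γ₂.comp σ).comp MvPolynomial.C = φ := by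
        refine MvPolynomial.ringHom_ext (fun r => ?_) (fun i => ?_)
        · have := DFunLike.congr_fun hC r
          simpa [γ₂, σ] using this.symm
        · simp [γ₂, σ]
      have h2 := DFunLike.congr_fun this p
      simpa [γ₁] using h2
    · simp [γ₂, σ, γ₁]
  have hγ₁ : Function.Surjective γ₁ := fun y => by
    obtain ⟨p, rfl⟩ := hφ y
    exact ⟨MvPolynomial.C p, by simp [γ₁]⟩
  have hγ₂ : Function.Surjective γ₂ := fun y => by
    obtain ⟨p, rfl⟩ := hψ y
    exact ⟨MvPolynomial.C p, by simp [γ₂]⟩
  haveI := isClosedImmersion_immT t γ₁ hγ₁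
  haveI := isClosedImmersion_immT t γ₂ hγ₂
  have h1 := isPC_immT_eval₂_iff t φ hφ (fun j => ψ (MvPolynomial.X j)) L m
  have h2 := isPC_immT_eval₂_iff t ψ hψ (fun i => φ (MvPolynomial.X i)) L m
  have hσb : Function.Bijective σ :=
    (MvPolynomial.commAlgEquiv R (Fin k) (Fin n)).toRingEquiv.bijective
  haveI := isClosedImmersion_specMap σ hσb.surjective
  have hs := ho_spec_of_bpc σ hσb.surjective (bpc_of_bijective σ hσb)
  have h3 := isPseudoCoherentD_pushD_comp_iff (immT t γ₂) _ hs L m
  have h4 : immT t γ₁ = immT t γ₂ ≫ Spec.map (CommRingCat.ofHom σ) := by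
    rw [← immT_comp, hσ]
  exact h1.trans ((isPseudoCoherentD_pushD_congr h4 L m).trans (h3.symm.trans h2.symm))

end General

section Geom

variable {W : Scheme.{u}}

/-- the ring map of a morphism to an affine scheme -/
noncomputable def sharp {Q : Type u} [CommRing Q] (a : W ⟶ Spec (CommRingCat.of Q)) :
    Q →+* Γ(W, ⊤) :=
  ((Scheme.ΓSpecIso (CommRingCat.of Q)).inv ≫ a.appTop).hom

lemma eq_immT_sharp {Q : Type u} [CommRing Q] (a : W ⟶ Spec (CommRingCat.of Q)) :
    a = W.toSpecΓ ≫ Spec.map (CommRingCat.ofHom (sharp a)) := by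
  have h := Scheme.toSpecΓ_naturality a
  have h2 : Spec.map (CommRingCat.ofHom (sharp a)) =
      Spec.map a.appTop ≫ Spec.map (Scheme.ΓSpecIso (CommRingCat.of Q)).inv := by
    rw [← Spec.map_comp]
    rfl
  rw [h2, ← Category.assoc, ← h, Category.assoc, toSpecΓ_SpecMap_ΓSpecIso_inv, Category.comp_id]

lemma sharp_comp {Q Q' : Type u} [CommRing Q] [CommRing Q'] (a : W ⟶ Spec (CommRingCat.of Q))
    (σ : Q' →+* Q) : sharp (a ≫ Spec.map (CommRingCat.ofHom σ)) = (sharp a).comp σ := by
  unfold sharp
  rw [Scheme.Hom.comp_appTop, ← Category.assoc]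
  have h := Scheme.ΓSpecIso_inv_naturality (CommRingCat.ofHom σ)
  rw [← h]
  rfl

lemma sharp_surjective [IsAffine W] {Q : Type u} [CommRing Q] (a : W ⟶ Spec (CommRingCat.of Q))
    [IsClosedImmersion a] : Function.Surjective (sharp a) := by
  have h1 : Function.Surjective a.appTop.hom :=
    Scheme.Hom.app_surjective a ⊤ (isAffineOpen_top _)
  have h2 : Function.Bijective (Scheme.ΓSpecIso (CommRingCat.of Q)).inv.hom :=
    ConcreteCategory.bijective_of_isIso _
  unfold sharp
  rw [CommRingCat.hom_comp, RingHom.coe_comp]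
  exact h1.comp h2.surjective

/-- **K1**, geometric form: two closed immersions of an affine scheme into affine spaces over
the same base ring give the same test -/
theorem isPC_pushD_iff_of_over [IsAffine W] {R : Type u} [CommRing R] {n k : ℕ}
    (a : W ⟶ Spec (CommRingCat.of (MvPolynomial (Fin n) R)))
    (b : W ⟶ Spec (CommRingCat.of (MvPolynomial (Fin k) R)))
    [IsClosedImmersion a] [IsClosedImmersion b]
    (hab : a ≫ Spec.map (CommRingCat.ofHom (MvPolynomial.C : R →+* MvPolynomial (Fin n) R)) =
      b ≫ Spec.map (CommRingCat.ofHom (MvPolynomial.C : R →+* MvPolynomial (Fin k) R)))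
    (L : DCoh.D W) (m : ℤ) :
    DCoh.IsPseudoCoherentD m ((pushD a).obj L) ↔ DCoh.IsPseudoCoherentD m ((pushD b).obj L) := by
  haveI : IsIso W.toSpecΓ := inferInstance
  have ha := eq_immT_sharp a
  have hb := eq_immT_sharp b
  have hC : (sharp a).comp MvPolynomial.C = (sharp b).comp MvPolynomial.C := by
    rw [← sharp_comp, ← sharp_comp, hab]
  haveI : IsClosedImmersion (immT W.toSpecΓ (sharp a)) := by
    unfold immT; rw [← ha]; infer_instance
  haveI : IsClosedImmersion (immT W.toSpecΓ (sharp b)) := by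
    unfold immT; rw [← hb]; infer_instance
  have key := isPC_immT_iff W.toSpecΓ (sharp a) (sharp_surjective a) (sharp b)
    (sharp_surjective b) hC L m
  exact (isPseudoCoherentD_pushD_congr (b := immT W.toSpecΓ (sharp a)) ha L m).trans
    (key.trans (isPseudoCoherentD_pushD_congr (b := immT W.toSpecΓ (sharp b)) hb L m).symm)

end Geom

section LemmaP

open Polynomial

variable {R' S' : Type u} [CommRing R'] [CommRing S'] [Algebra R' S'] (t : R')
  [IsLocalization.Away t S']

/-- `R'[s] → R'_t`, `s ↦ 1/t` -/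
noncomputable def awayEval : R'[X] →+* S' :=
  Polynomial.eval₂RingHom (algebraMap R' S') (IsLocalization.Away.invSelf t)

omit [IsLocalization.Away t S'] in
lemma isRegular_aux (q : R'[X]) (h : (C t * X - 1) * q = 0) : q = 0 := by
  apply Polynomial.coe_injective
  have h1 : ((C t * X - 1 : R'[X]) : PowerSeries R') * (q : PowerSeries R') = 0 := by
    rw [← Polynomial.coe_mul, h, Polynomial.coe_zero]
  have hu : IsUnit ((C t * X - 1 : R'[X]) : PowerSeries R') := by
    rw [PowerSeries.isUnit_iff_constantCoeff]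
    have : PowerSeries.constantCoeff ((C t * X - 1 : R'[X]) : PowerSeries R') = -1 := by
      rw [← PowerSeries.coeff_zero_eq_constantCoeff_apply, Polynomial.coeff_coe]
      simp
    rw [this]
    exact isUnit_one.neg
  rw [Polynomial.coe_zero]
  exact (hu.mul_right_eq_zero).1 h1

lemma awayEval_surjective : Function.Surjective (awayEval (S' := S') t) := by
  intro y
  obtain ⟨n, a, h⟩ := IsLocalization.Away.surj t y
  refine ⟨C a * X ^ n, ?_⟩
  simp only [awayEval, coe_eval₂RingHom, eval₂_mul, eval₂_C, eval₂_pow, eval₂_X]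
  rw [← h, mul_assoc, ← mul_pow, IsLocalization.Away.mul_invSelf, one_pow, mul_one]

lemma awayEval_eq_zero (q : R'[X]) (h : awayEval (S' := S') t q = 0) :
    ∃ q', q = (C t * X - 1) * q' := by
  haveI := IsLocalization.adjoin_inv t
  let ε : AdjoinRoot (C t * X - 1) ≃ₐ[R'] S' :=
    IsLocalization.algEquiv (Submonoid.powers t) (AdjoinRoot (C t * X - 1)) S'
  have hroot : ε (AdjoinRoot.root (C t * X - 1)) = IsLocalization.Away.invSelf t := by
    have h1 : ε (AdjoinRoot.root (C t * X - 1)) * algebraMap R' S' t = 1 := by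
      have h0 : AdjoinRoot.root (C t * X - 1) * AdjoinRoot.of (C t * X - 1) t = 1 := by
        have := AdjoinRoot.mk_self (f := (C t * X - 1 : R'[X]))
        rw [map_sub, map_mul, map_one, AdjoinRoot.mk_C, AdjoinRoot.mk_X, sub_eq_zero] at this
        exact (mul_comm _ _).trans this
      have h2 := congrArg ε h0
      rw [map_mul, map_one] at h2
      rw [← h2]
      congr 1
      exact (ε.commutes t).symm
    have h2 : algebraMap R' S' t * IsLocalization.Away.invSelf t = 1 :=
      IsLocalization.Away.mul_invSelf t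
    calc ε (AdjoinRoot.root (C t * X - 1))
        = ε (AdjoinRoot.root (C t * X - 1)) * (algebraMap R' S' t * IsLocalization.Away.invSelf t) := by
          rw [h2, mul_one]
      _ = (ε (AdjoinRoot.root (C t * X - 1)) * algebraMap R' S' t) * IsLocalization.Away.invSelf t := by
          ring
      _ = IsLocalization.Away.invSelf t := by rw [h1, one_mul]
  have hfac : awayEval (S' := S') t = (ε : AdjoinRoot (C t * X - 1) →+* S').comp
      (AdjoinRoot.mk (C t * X - 1)) := by
    refine Polynomial.ringHom_ext (fun a => ?_) ?_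
    · simp only [awayEval, coe_eval₂RingHom, eval₂_C, RingHom.comp_apply, AdjoinRoot.mk_C]
      exact (ε.commutes a).symm
    · simp only [awayEval, coe_eval₂RingHom, eval₂_X, RingHom.comp_apply, AdjoinRoot.mk_X]
      exact hroot.symm
  rw [hfac, RingHom.comp_apply] at h
  have h3 : AdjoinRoot.mk (C t * X - 1) q = 0 := by
    apply ε.injective
    rw [map_zero]
    exact h
  rw [AdjoinRoot.mk_eq_zero] at h3
  exact h3

/-- **Lemma P** -/
theorem bpc_awayEval : BPC (awayEval (S' := S') t) := by
  refine bpc_of_principal (awayEval (S' := S') t) (C t * X - 1) (awayEval_surjective t)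
    (fun q hq => awayEval_eq_zero t q hq) ?_ (fun q hq => isRegular_aux t q hq)
  simp only [awayEval, coe_eval₂RingHom, eval₂_sub, eval₂_mul, eval₂_C, eval₂_X, eval₂_one]
  rw [IsLocalization.Away.mul_invSelf, sub_self]

end LemmaP

end Groth.Agent.Lib.Helper1.ChartInd
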