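import Mathlib
import Groth.Agent.Lib.Helper1ChartInd3
set_option backward.isDefEq.respectTransparency.types false
set_option autoImplicit false
set_option linter.style.haveILetI false
set_option maxHeartbeats 400000
universe u
open CategoryTheory CategoryTheory.Limits AlgebraicGeometry Opposite TopologicalSpace Pretriangulated

attribute [local instance] HasDerivedCategory.standard

namespace Groth.Agent.Lib.Helper1.ChartInd

open Groth.Agent.Lib.Helper1.SPL Groth.Agent.Lib.Helper1.Sky ZeroObject
open Groth.Agent.Lib.Helper1.ClosedPC Groth.Agent.Lib.Helper1.ChartPC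
open Groth.Agent.Lib.Helper1.KoszulPerf
open Groth.Agent.Lib.Helper1.Restrict Groth.Agent.Lib.Helper1.RelPC Groth.Agent.Lib.Helper1.PC

section HO

variable {Z T : Scheme.{u}}

/-- a closed immersion into an affine scheme whose ring map is pseudo-coherent has
pseudo-coherent structure sheaf direct image -/
theorem ho_of_bpc_appTop [IsAffine T] (c : Z ⟶ T) [IsClosedImmersion c]
    (h : BPC c.appTop.hom) : HO c := by
  intro m x
  exact hasPresM_push_structure_of_bpc c (U := ⊤) (isAffineOpen_top _) h x trivial m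

lemma bpc_appTop_specMap {Q C : Type u} [CommRing Q] [CommRing C] (σ : Q →+* C) (hB : BPC σ) :
    BPC (Spec.map (CommRingCat.ofHom σ)).appTop.hom := by
  have hnat : (Spec.map (CommRingCat.ofHom σ)).appTop =
      (Scheme.ΓSpecIso (CommRingCat.of Q)).hom ≫ CommRingCat.ofHom σ ≫
        (Scheme.ΓSpecIso (CommRingCat.of C)).inv := by
    rw [← Category.assoc, Iso.eq_comp_inv]
    exact Scheme.ΓSpecIso_naturality (CommRingCat.ofHom σ)
  rw [hnat]
  have h1 : BPC (Scheme.ΓSpecIso (CommRingCat.of Q)).hom.hom :=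
    bpc_of_bijective _ (ConcreteCategory.bijective_of_isIso _)
  have h2 : BPC (Scheme.ΓSpecIso (CommRingCat.of C)).inv.hom :=
    bpc_of_bijective _ (ConcreteCategory.bijective_of_isIso _)
  exact bpc_comp _ _ h1 (bpc_comp _ _ hB h2)

/-- precomposing with an isomorphism -/
theorem bpc_appTop_iso_comp {Z' : Scheme.{u}} (e : Z' ⟶ Z) [IsIso e] (s : Z ⟶ T)
    (hs : BPC s.appTop.hom) : BPC (e ≫ s).appTop.hom := by
  rw [Scheme.Hom.comp_appTop]
  haveI : IsIso e.appTop := inferInstanceAs (IsIso (Scheme.Γ.map e.op))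
  exact bpc_comp _ _ hs (bpc_of_bijective _ (ConcreteCategory.bijective_of_isIso e.appTop))

end HO

section LemmaC

variable {R : Type u} [CommRing R] {n : ℕ} (G : MvPolynomial (Fin n) R)

/-- the ring map `R[x_0, …, x_n] → R[x_1, …, x_n]_G`, `x_0 ↦ 1/G` -/
noncomputable def cMap : MvPolynomial (Fin (n + 1)) R →+* Localization.Away G :=
  (awayEval (S' := Localization.Away G) G).comp
    (MvPolynomial.finSuccEquiv R n).toRingEquiv.toRingHom

lemma cMap_surjective : Function.Surjective (cMap G) := by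
  unfold cMap
  rw [RingHom.coe_comp]
  exact (awayEval_surjective G).comp (MvPolynomial.finSuccEquiv R n).toRingEquiv.surjective

lemma bpc_cMap : BPC (cMap G) :=
  bpc_comp _ _ (bpc_of_bijective _ (MvPolynomial.finSuccEquiv R n).toRingEquiv.bijective)
    (bpc_awayEval G)

lemma cMap_comp_C : (cMap G).comp MvPolynomial.C =
    (algebraMap (MvPolynomial (Fin n) R) (Localization.Away G)).comp MvPolynomial.C := by
  ext r
  simp [cMap, awayEval, MvPolynomial.finSuccEquiv_apply]

/-- the closed immersion of the basic open `D(G)` of affine `n`-space into affine `n+1`-space -/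
noncomputable def cImm :
    Scheme.Opens.toScheme (X := Spec (CommRingCat.of (MvPolynomial (Fin n) R)))
      (PrimeSpectrum.basicOpen G) ⟶ Spec (CommRingCat.of (MvPolynomial (Fin (n + 1)) R)) :=
  (basicOpenIsoSpecAway (R := CommRingCat.of (MvPolynomial (Fin n) R)) G).hom ≫
    Spec.map (CommRingCat.ofHom (cMap G))

instance isClosedImmersion_cImm : IsClosedImmersion (cImm G) := by
  unfold cImm
  haveI := isClosedImmersion_specMap (cMap G) (cMap_surjective G)
  infer_instance

theorem ho_cImm : HO (cImm G) := by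
  apply ho_of_bpc_appTop
  unfold cImm
  exact bpc_appTop_iso_comp _ _ (bpc_appTop_specMap _ (bpc_cMap G))

lemma cImm_comp_C : cImm G ≫ Spec.map (CommRingCat.ofHom
      (MvPolynomial.C : R →+* MvPolynomial (Fin (n + 1)) R)) =
    Scheme.Opens.ι _ ≫ Spec.map (CommRingCat.ofHom
      (MvPolynomial.C : R →+* MvPolynomial (Fin n) R)) := by
  unfold cImm
  rw [Category.assoc, ← Spec.map_comp, ← CommRingCat.ofHom_comp, cMap_comp_C,
    CommRingCat.ofHom_comp, Spec.map_comp, ← Category.assoc]
  congr 1
  exact basicOpenIsoSpecAway_hom_SpecMap (R := CommRingCat.of (MvPolynomial (Fin n) R)) G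

end LemmaC

section T3

variable {R : Type u} [CommRing R] {n : ℕ} {W : Scheme.{u}}
  (a : W ⟶ Spec (CommRingCat.of (MvPolynomial (Fin n) R))) [IsClosedImmersion a]
  (G : MvPolynomial (Fin n) R)

/-- the basic open `D(G)` of affine space -/
noncomputable abbrev DG : (Spec (CommRingCat.of (MvPolynomial (Fin n) R))).Opens := PrimeSpectrum.basicOpen G

/-- the closed immersion of `a⁻¹ D(G)` into affine `n+1`-space -/
noncomputable def aPlus : ((a ⁻¹ᵁ DG G : W.Opens) : Scheme.{u}) ⟶
    Spec (CommRingCat.of (MvPolynomial (Fin (n + 1)) R)) :=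
  (a ∣_ DG G) ≫ cImm G

instance isClosedImmersion_aPlus : IsClosedImmersion (aPlus a G) := by
  unfold aPlus
  infer_instance

/-- **T3** -/
theorem isPC_aPlus_iff (L : DCoh.D W) (m : ℤ) :
    DCoh.IsPseudoCoherentD m ((pushD (aPlus a G)).obj ((resD (a ⁻¹ᵁ DG G).ι).obj L)) ↔
      DCoh.IsPseudoCoherentD m ((resD (DG G).ι).obj ((pushD a).obj L)) := by
  have h1 := isPseudoCoherentD_pushD_comp_iff (a ∣_ DG G) (cImm G) (ho_cImm G)
    ((resD (a ⁻¹ᵁ DG G).ι).obj L) m
  have e := (pushResIso a (DG G)).app L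
  exact h1.symm.trans ⟨isPseudoCoherentD_of_iso e.symm, isPseudoCoherentD_of_iso e⟩

omit [IsClosedImmersion a] in
lemma aPlus_comp_C : aPlus a G ≫ Spec.map (CommRingCat.ofHom
      (MvPolynomial.C : R →+* MvPolynomial (Fin (n + 1)) R)) =
    (a ⁻¹ᵁ DG G).ι ≫ a ≫ Spec.map (CommRingCat.ofHom
      (MvPolynomial.C : R →+* MvPolynomial (Fin n) R)) := by
  unfold aPlus
  rw [Category.assoc, cImm_comp_C, ← Category.assoc, morphismRestrict_ι, Category.assoc]

end T3

section G3

variable {W W' T : Scheme.{u}} (ε : W' ⟶ W) [IsIso ε]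

/-- for an isomorphism, restriction followed by pushforward is the identity -/
noncomputable def restrictPushforwardIso :
    Scheme.Modules.restrictFunctor ε ⋙ Scheme.Modules.pushforward ε ≅ 𝟭 _ :=
  let e1 : 𝟭 W.Modules ≅
      Scheme.Modules.restrictFunctor ε ⋙ Scheme.Modules.restrictFunctor (inv ε) :=
    Scheme.Modules.restrictFunctorId.symm ≪≫
      Scheme.Modules.restrictFunctorCongr (IsIso.inv_hom_id ε).symm ≪≫
      Scheme.Modules.restrictFunctorComp (inv ε) ε
  let e2 : Scheme.Modules.pushforward ε ≅ Scheme.Modules.restrictFunctor (inv ε) :=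
    (Functor.rightUnitor _).symm ≪≫ Functor.isoWhiskerLeft (Scheme.Modules.pushforward ε) e1 ≪≫
      (Functor.associator _ _ _).symm ≪≫
      Functor.isoWhiskerRight (Scheme.Modules.restrictFunctorAdjCounitIso ε) _ ≪≫
      Functor.leftUnitor _
  Functor.isoWhiskerLeft (Scheme.Modules.restrictFunctor ε) e2 ≪≫ e1.symm

variable (a : W ⟶ T) [IsClosedImmersion a]

/-- module level: `(ε ≫ a)_* (M|_{W'}) ≅ a_* M` -/
noncomputable def restrictPushforwardCompIso :
    Scheme.Modules.restrictFunctor ε ⋙ Scheme.Modules.pushforward (ε ≫ a) ≅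
      Scheme.Modules.pushforward a :=
  Functor.isoWhiskerLeft _ (Scheme.Modules.pushforwardComp ε a).symm ≪≫
    (Functor.associator _ _ _).symm ≪≫
    Functor.isoWhiskerRight (restrictPushforwardIso ε) (Scheme.Modules.pushforward a) ≪≫
    Functor.leftUnitor _

/-- derived level -/
noncomputable def resPushIso : resD ε ⋙ pushD (ε ≫ a) ≅ pushD a :=
  mapDCompIso₂ _ _ _ (restrictPushforwardCompIso ε a)

/-- **G3**: transport along an isomorphism of the source -/
theorem isPC_pushD_iso_comp_iff (L : DCoh.D W) (m : ℤ) :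
    DCoh.IsPseudoCoherentD m ((pushD (ε ≫ a)).obj ((resD ε).obj L)) ↔
      DCoh.IsPseudoCoherentD m ((pushD a).obj L) :=
  ⟨isPseudoCoherentD_of_iso ((resPushIso ε a).app L),
    isPseudoCoherentD_of_iso ((resPushIso ε a).app L).symm⟩

end G3

section T2

variable {R R₁ : Type u} [CommRing R] [CommRing R₁] [Algebra R R₁] (r : R)
  [IsLocalization.Away r R₁] (k : ℕ)

attribute [local instance] MvPolynomial.algebraMvPolynomial

lemma isLocalization_away_C :
    IsLocalization.Away (MvPolynomial.C r : MvPolynomial (Fin k) R) (MvPolynomial (Fin k) R₁) := by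
  have h := MvPolynomial.isLocalization (σ := Fin k) (Submonoid.powers r) R₁
  rwa [Submonoid.map_powers] at h

/-- `R[x_0, …, x_k] → R_r[x_1, …, x_k]`, `x_0 ↦ 1/r` -/
noncomputable def tauBase : MvPolynomial (Fin (k + 1)) R →+* MvPolynomial (Fin k) R₁ :=
  haveI := isLocalization_away_C (R₁ := R₁) r k
  (awayEval (S' := MvPolynomial (Fin k) R₁) (MvPolynomial.C r : MvPolynomial (Fin k) R)).comp
    (MvPolynomial.finSuccEquiv R k).toRingEquiv.toRingHom

lemma tauBase_surjective : Function.Surjective (tauBase (R₁ := R₁) r k) := by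
  haveI := isLocalization_away_C (R₁ := R₁) r k
  unfold tauBase
  rw [RingHom.coe_comp]
  exact (awayEval_surjective _).comp (MvPolynomial.finSuccEquiv R k).toRingEquiv.surjective

lemma bpc_tauBase : BPC (tauBase (R₁ := R₁) r k) := by
  haveI := isLocalization_away_C (R₁ := R₁) r k
  exact bpc_comp _ _ (bpc_of_bijective _ (MvPolynomial.finSuccEquiv R k).toRingEquiv.bijective)
    (bpc_awayEval _)

lemma tauBase_comp_C : (tauBase (R₁ := R₁) r k).comp MvPolynomial.C =
    (MvPolynomial.C : R₁ →+* MvPolynomial (Fin k) R₁).comp (algebraMap R R₁) := by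
  refine RingHom.ext fun x => ?_
  have h1 : (MvPolynomial.finSuccEquiv R k) (MvPolynomial.C x) =
      Polynomial.C (MvPolynomial.C x) := by
    simp [MvPolynomial.finSuccEquiv_apply]
  haveI := isLocalization_away_C (R₁ := R₁) r k
  have h2 : tauBase (R₁ := R₁) r k (MvPolynomial.C x) =
      awayEval (S' := MvPolynomial (Fin k) R₁) (MvPolynomial.C r : MvPolynomial (Fin k) R)
        ((MvPolynomial.finSuccEquiv R k) (MvPolynomial.C x)) := rfl
  rw [RingHom.comp_apply, RingHom.comp_apply, h2, h1]
  simp only [awayEval, Polynomial.coe_eval₂RingHom, Polynomial.eval₂_C]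
  exact MvPolynomial.map_C (algebraMap R R₁) x

variable {W : Scheme.{u}} (a₁ : W ⟶ Spec (CommRingCat.of (MvPolynomial (Fin k) R₁)))
  [IsClosedImmersion a₁]

/-- the chart over `R` attached to a chart over `R_r` -/
noncomputable def baseUp : W ⟶ Spec (CommRingCat.of (MvPolynomial (Fin (k + 1)) R)) :=
  a₁ ≫ Spec.map (CommRingCat.ofHom (tauBase (R₁ := R₁) r k))

instance isClosedImmersion_baseUp : IsClosedImmersion (baseUp r k a₁) := by
  unfold baseUp
  haveI := isClosedImmersion_specMap _ (tauBase_surjective (R₁ := R₁) r k)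
  infer_instance

/-- **T2** -/
theorem isPC_baseUp_iff (L : DCoh.D W) (m : ℤ) :
    DCoh.IsPseudoCoherentD m ((pushD (baseUp r k a₁)).obj L) ↔
      DCoh.IsPseudoCoherentD m ((pushD a₁).obj L) := by
  haveI := isClosedImmersion_specMap _ (tauBase_surjective (R₁ := R₁) r k)
  exact (isPseudoCoherentD_pushD_comp_iff a₁ _
    (ho_spec_of_bpc _ (tauBase_surjective (R₁ := R₁) r k) (bpc_tauBase r k)) L m).symm

omit [IsClosedImmersion a₁] in
lemma baseUp_comp_C : baseUp r k a₁ ≫ Spec.map (CommRingCat.ofHom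
      (MvPolynomial.C : R →+* MvPolynomial (Fin (k + 1)) R)) =
    a₁ ≫ Spec.map (CommRingCat.ofHom (MvPolynomial.C : R₁ →+* MvPolynomial (Fin k) R₁)) ≫
      Spec.map (CommRingCat.ofHom (algebraMap R R₁)) := by
  unfold baseUp
  rw [Category.assoc, ← Spec.map_comp, ← Spec.map_comp, ← CommRingCat.ofHom_comp,
    ← CommRingCat.ofHom_comp, tauBase_comp_C]

end T2

end Groth.Agent.Lib.Helper1.ChartInd
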