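import Mathlib
import Groth.Agent.Lib.Helper1ChartInd4
set_option backward.isDefEq.respectTransparency.types false
set_option autoImplicit false
set_option linter.style.haveILetI false
set_option maxHeartbeats 400000
universe u
open CategoryTheory CategoryTheory.Limits AlgebraicGeometry Opposite TopologicalSpace Pretriangulated

attribute [local instance] HasDerivedCategory.standard

namespace Groth.Agent.Lib.Helper1.ChartInd

open Groth.Agent.Lib.Helper1.SPL Groth.Agent.Lib.Helper1.Sky ZeroObject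
open Groth.Agent.Lib.Helper1.ClosedPC Groth.Agent.Lib.Helper1.ChartPC
open Groth.Agent.Lib.Helper1.KoszulPerf
open Groth.Agent.Lib.Helper1.Restrict Groth.Agent.Lib.Helper1.RelPC Groth.Agent.Lib.Helper1.PC

section Framework

variable {X S : Scheme.{u}} (f : X ⟶ S) (E : DCoh.D X) (m : ℤ)

/-- the structure morphism of affine `n`-space over `V ⊆ S` to `S` -/
noncomputable abbrev strV {V : S.Opens} (hV : IsAffineOpen V) (n : ℕ) :
    Spec (CommRingCat.of (MvPolynomial (Fin n) Γ(S, V))) ⟶ S :=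
  Spec.map (CommRingCat.ofHom (MvPolynomial.C : Γ(S, V) →+* MvPolynomial (Fin n) Γ(S, V))) ≫
    hV.fromSpec

/-- `E|_W` is `m`-pseudo-coherent relative to `V`, tested on some chart -/
def RelPC {W : Scheme.{u}} (j : W ⟶ X) [IsOpenImmersion j] {V : S.Opens}
    (hV : IsAffineOpen V) : Prop :=
  ∃ (n : ℕ) (a : W ⟶ Spec (CommRingCat.of (MvPolynomial (Fin n) Γ(S, V))))
    (_ : IsClosedImmersion a), a ≫ strV hV n = j ≫ f ∧
      DCoh.IsPseudoCoherentD m ((pushD a).obj ((resD j).obj E))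

variable {W : Scheme.{u}} (j : W ⟶ X) [IsOpenImmersion j] {V : S.Opens} (hV : IsAffineOpen V)

/-- **K**: the test does not depend on the chart -/
theorem relPC_iff_of_chart [IsAffine W] {n : ℕ}
    (a : W ⟶ Spec (CommRingCat.of (MvPolynomial (Fin n) Γ(S, V)))) [IsClosedImmersion a]
    (ha : a ≫ strV hV n = j ≫ f) :
    RelPC f E m j hV ↔ DCoh.IsPseudoCoherentD m ((pushD a).obj ((resD j).obj E)) := by
  constructor
  · rintro ⟨k, b, hb, hbo, hpc⟩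
    refine (isPC_pushD_iff_of_over b a ?_ _ m).1 hpc
    rw [← cancel_mono hV.fromSpec, Category.assoc, Category.assoc]
    exact hbo.trans ha.symm
  · intro h
    exact ⟨n, a, inferInstance, ha, h⟩

/-- **G3**: the test only depends on the image of `j` -/
theorem relPC_of_range_eq {W' : Scheme.{u}} (j' : W' ⟶ X) [IsOpenImmersion j']
    (h : Set.range j' = Set.range j) (H : RelPC f E m j hV) : RelPC f E m j' hV := by
  obtain ⟨n, a, ha, hao, hpc⟩ := H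
  let ε := IsOpenImmersion.isoOfRangeEq j' j h
  have hε : ε.hom ≫ j = j' := IsOpenImmersion.isoOfRangeEq_hom_fac j' j h
  refine ⟨n, ε.hom ≫ a, inferInstance, ?_, ?_⟩
  · rw [Category.assoc, hao, ← Category.assoc, hε]
  · obtain ⟨e1⟩ := nonempty_resD_congr (X := X) hε.symm
    have e2 := (e1.app E) ≪≫ (resDComp ε.hom j).app E
    refine isPseudoCoherentD_of_iso ((pushD (ε.hom ≫ a)).mapIso e2.symm) ?_
    exact (isPC_pushD_iso_comp_iff ε.hom a _ m).2 hpc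

/-- **T3**: restricting to a basic open of the affine space -/
theorem isPC_resD_DG_iff [IsAffine W] {n : ℕ}
    (a : W ⟶ Spec (CommRingCat.of (MvPolynomial (Fin n) Γ(S, V)))) [IsClosedImmersion a]
    (ha : a ≫ strV hV n = j ≫ f) (G : MvPolynomial (Fin n) Γ(S, V)) :
    DCoh.IsPseudoCoherentD m ((resD (DG G).ι).obj ((pushD a).obj ((resD j).obj E))) ↔
      RelPC f E m ((a ⁻¹ᵁ DG G).ι ≫ j) hV := by
  have hD : IsAffineOpen (DG G) :=
    IsAffineOpen.Spec_basicOpen (R := CommRingCat.of (MvPolynomial (Fin n) Γ(S, V))) G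
  haveI : IsAffine ((a ⁻¹ᵁ DG G : W.Opens) : Scheme.{u}) := hD.preimage a
  have hov : aPlus a G ≫ strV hV (n + 1) = ((a ⁻¹ᵁ DG G).ι ≫ j) ≫ f := by
    unfold strV
    rw [← Category.assoc, aPlus_comp_C, Category.assoc, Category.assoc, Category.assoc]
    congr 1
  rw [relPC_iff_of_chart f E m _ hV (aPlus a G) hov]
  have e := (resDComp (a ⁻¹ᵁ DG G).ι j).app E
  rw [← isPC_aPlus_iff a G ((resD j).obj E) m]
  exact ⟨isPseudoCoherentD_of_iso ((pushD (aPlus a G)).mapIso e.symm),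
    isPseudoCoherentD_of_iso ((pushD (aPlus a G)).mapIso e)⟩

/-- **T2**: shrinking the base to a basic open -/
theorem isPC_iff_relPC_of_basicOpen [IsAffine W] {V₁ : S.Opens} (hV₁ : IsAffineOpen V₁)
    (i : V₁ ≤ V) (r : Γ(S, V)) (e : V₁ = S.basicOpen r) {k : ℕ}
    (b : W ⟶ Spec (CommRingCat.of (MvPolynomial (Fin k) Γ(S, V₁)))) [IsClosedImmersion b]
    (hb : b ≫ strV hV₁ k = j ≫ f) :
    DCoh.IsPseudoCoherentD m ((pushD b).obj ((resD j).obj E)) ↔ RelPC f E m j hV := by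
  letI : Algebra Γ(S, V) Γ(S, V₁) := (S.presheaf.map (homOfLE i).op).hom.toAlgebra
  haveI : IsLocalization.Away r Γ(S, V₁) := hV.isLocalization_of_eq_basicOpen r (homOfLE i) e
  have hov : baseUp r k b ≫ strV hV (k + 1) = j ≫ f := by
    unfold strV
    rw [← Category.assoc, baseUp_comp_C, Category.assoc, Category.assoc, ← hb]
    unfold strV
    congr 2
    exact hV.map_fromSpec hV₁ (homOfLE i).op
  rw [relPC_iff_of_chart f E m j hV (baseUp r k b) hov]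
  exact (isPC_baseUp_iff r k b _ m).symm

end Framework

section Charts

variable {X S : Scheme.{u}} (f : X ⟶ S)

/-- a chart in the sense of the prelude gives a chart over `V` -/
lemma chartImm_over {U : X.Opens} (hU : IsAffineOpen U) {V : S.Opens} (hV : IsAffineOpen V)
    (h : U ≤ f ⁻¹ᵁ V) {n : ℕ} (φ : MvPolynomial (Fin n) Γ(S, V) →+* Γ(X, U))
    (hφ : DerSch.IsChart f U V h φ) :
    DerSch.chartImm U φ ≫ strV hV n = U.ι ≫ f := by
  unfold DerSch.chartImm strV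
  rw [Category.assoc, ← Category.assoc (Spec.map _), ← Spec.map_comp, ← CommRingCat.ofHom_comp,
    hφ.2, CommRingCat.ofHom_hom, hV.SpecMap_appLE_fromSpec f hU h, ← Category.assoc,
    hU.toSpecΓ_fromSpec]

lemma isClosedImmersion_chartImm' {U : X.Opens} (hU : IsAffineOpen U) {V : S.Opens}
    (h : U ≤ f ⁻¹ᵁ V) {n : ℕ} (φ : MvPolynomial (Fin n) Γ(S, V) →+* Γ(X, U))
    (hφ : DerSch.IsChart f U V h φ) : IsClosedImmersion (DerSch.chartImm U φ) :=
  isClosedImmersion_imm U hU φ hφ.1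

/-- charts exist for morphisms locally of finite type -/
lemma exists_isChart [LocallyOfFiniteType f] {U : X.Opens} (hU : IsAffineOpen U) {V : S.Opens}
    (hV : IsAffineOpen V) (h : U ≤ f ⁻¹ᵁ V) :
    ∃ (n : ℕ) (φ : MvPolynomial (Fin n) Γ(S, V) →+* Γ(X, U)), DerSch.IsChart f U V h φ := by
  have hft : (f.appLE V U h).hom.FiniteType :=
    HasRingHomProperty.appLE @LocallyOfFiniteType f inferInstance ⟨V, hV⟩ ⟨U, hU⟩ h
  letI := (f.appLE V U h).hom.toAlgebra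
  obtain ⟨n, g, hg⟩ := Algebra.FiniteType.iff_quotient_mvPolynomial''.1 hft
  refine ⟨n, g.toRingHom, hg, ?_⟩
  ext r
  exact g.commutes r

/-- preimage of a basic open under a chart -/
lemma chartImm_preimage_DG {U : X.Opens} {V : S.Opens} {n : ℕ}
    (φ : MvPolynomial (Fin n) Γ(S, V) →+* Γ(X, U)) (G : MvPolynomial (Fin n) Γ(S, V)) :
    (DerSch.chartImm U φ) ⁻¹ᵁ (DG G) = U.ι ⁻¹ᵁ (X.basicOpen (φ G)) := by
  rw [← Scheme.Opens.toSpecΓ_preimage_basicOpen]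
  rfl

omit f in
lemma range_ι_comp_ι {U U₁ : X.Opens} (hU₁ : U₁ ≤ U) (O : (U : Scheme.{u}).Opens)
    (hO : O = U.ι ⁻¹ᵁ U₁) : Set.range (O.ι ≫ U.ι) = (U₁ : Set X) := by
  subst hO
  ext y
  constructor
  · rintro ⟨z, rfl⟩
    exact z.2
  · intro hy
    exact ⟨⟨⟨y, hU₁ hy⟩, hy⟩, rfl⟩

end Charts

section Local

variable {X S : Scheme.{u}} (f : X ⟶ S) (E : DCoh.D X) (m : ℤ)

/-- restriction of a pseudo-coherent object to an open -/
lemma isPseudoCoherentD_resD {U : Scheme.{u}} (j : U ⟶ X) [IsOpenImmersion j] (K : DCoh.D X)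
    (h : DCoh.IsPseudoCoherentD m K) : DCoh.IsPseudoCoherentD m ((resD j).obj K) := by
  rw [isPseudoCoherentD_iff_hasPresM] at h ⊢
  exact fun y => hasPresM_resD j m K y (h _)

/-- **local comparison**: the test on a chart of `(U₀, V₀)` implies the local condition on a
chart of `(U, V)` at points of `U ∩ U₀` -/
theorem hasPresM_chart_of_chart [LocallyOfFiniteType f]
    {U₀ : X.Opens} (hU₀ : IsAffineOpen U₀) {V₀ : S.Opens} (hV₀ : IsAffineOpen V₀)
    (h₀ : U₀ ≤ f ⁻¹ᵁ V₀) {n₀ : ℕ} (φ₀ : MvPolynomial (Fin n₀) Γ(S, V₀) →+* Γ(X, U₀))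
    (hφ₀ : DerSch.IsChart f U₀ V₀ h₀ φ₀) [IsClosedImmersion (DerSch.chartImm U₀ φ₀)]
    (hpc : DCoh.IsPseudoCoherentD m
      ((pushD (DerSch.chartImm U₀ φ₀)).obj ((resD U₀.ι).obj E)))
    {U : X.Opens} (hU : IsAffineOpen U) {V : S.Opens} (hV : IsAffineOpen V)
    (h : U ≤ f ⁻¹ᵁ V) {n : ℕ} (φ : MvPolynomial (Fin n) Γ(S, V) →+* Γ(X, U))
    (hφ : DerSch.IsChart f U V h φ) [IsClosedImmersion (DerSch.chartImm U φ)]
    (x : X) (hxU : x ∈ U) (hxU₀ : x ∈ U₀) :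
    HasPresM m ((pushD (DerSch.chartImm U φ)).obj ((resD U.ι).obj E))
      ((DerSch.chartImm U φ).base ⟨x, hxU⟩) := by
  -- the base
  obtain ⟨r, r₀, hr, hs⟩ := exists_basicOpen_le_affine_inter hV hV₀ (f.base x) ⟨h hxU, h₀ hxU₀⟩
  have hV₁ : IsAffineOpen (S.basicOpen r) := hV.basicOpen r
  have i : S.basicOpen r ≤ V := S.basicOpen_le r
  have i₀ : S.basicOpen r ≤ V₀ := hr ▸ S.basicOpen_le r₀
  -- the source
  have hU' : IsAffineOpen (X.basicOpen (f.appLE V U h r)) := hU.basicOpen _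
  have hU'₀ : IsAffineOpen (X.basicOpen (f.appLE V₀ U₀ h₀ r₀)) := hU₀.basicOpen _
  have hxU' : x ∈ X.basicOpen (f.appLE V U h r) := by
    rw [Scheme.basicOpen_appLE]
    exact ⟨hxU, hs⟩
  have hxU'₀ : x ∈ X.basicOpen (f.appLE V₀ U₀ h₀ r₀) := by
    rw [Scheme.basicOpen_appLE, ← hr]
    exact ⟨hxU₀, hs⟩
  obtain ⟨g', g'₀, hg', hxg'⟩ := exists_basicOpen_le_affine_inter hU' hU'₀ x ⟨hxU', hxU'₀⟩
  obtain ⟨g, hg⟩ := hU.basicOpen_basicOpen_is_basicOpen (f.appLE V U h r) g'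
  obtain ⟨g₀, hg₀⟩ := hU₀.basicOpen_basicOpen_is_basicOpen (f.appLE V₀ U₀ h₀ r₀) g'₀
  have hU₁ : IsAffineOpen (X.basicOpen g) := hU.basicOpen g
  have hgg₀ : X.basicOpen g = X.basicOpen g₀ := hg.trans (hg'.trans hg₀.symm)
  have hxg : x ∈ X.basicOpen g := hg ▸ hxg'
  have h₁ : X.basicOpen g ≤ f ⁻¹ᵁ S.basicOpen r := by
    rw [hg]
    refine (X.basicOpen_le g').trans ?_
    rw [Scheme.basicOpen_appLE]
    exact inf_le_right
  haveI : IsAffine ((X.basicOpen g : X.Opens) : Scheme.{u}) := hU₁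
  haveI : IsAffine ((U : X.Opens) : Scheme.{u}) := hU
  haveI : IsAffine ((U₀ : X.Opens) : Scheme.{u}) := hU₀
  -- a chart of (U₁, V₁)
  obtain ⟨k, ψ, hψ⟩ := exists_isChart f hU₁ hV₁ h₁
  haveI := isClosedImmersion_chartImm' f hU₁ h₁ ψ hψ
  have hb := chartImm_over f hU₁ hV₁ h₁ ψ hψ
  -- lifts of g, g₀
  obtain ⟨G, hG⟩ := hφ.1 g
  obtain ⟨G₀, hG₀⟩ := hφ₀.1 g₀
  have hpre : (DerSch.chartImm U φ) ⁻¹ᵁ (DG G) = U.ι ⁻¹ᵁ (X.basicOpen g) := by
    rw [chartImm_preimage_DG, hG]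
  have hpre₀ : (DerSch.chartImm U₀ φ₀) ⁻¹ᵁ (DG G₀) = U₀.ι ⁻¹ᵁ (X.basicOpen g) := by
    rw [chartImm_preimage_DG, hG₀, hgg₀]
  have hrange := range_ι_comp_ι (X.basicOpen_le g) _ hpre
  have hrange₀ := range_ι_comp_ι (hgg₀ ▸ X.basicOpen_le g₀) _ hpre₀
  -- the chain
  have c1 := isPseudoCoherentD_resD m (DG G₀).ι _ hpc
  have c2 := (isPC_resD_DG_iff f E m U₀.ι hV₀ (DerSch.chartImm U₀ φ₀)
    (chartImm_over f hU₀ hV₀ h₀ φ₀ hφ₀) G₀).1 c1
  have c3 : RelPC f E m (X.basicOpen g).ι hV₀ :=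
    relPC_of_range_eq f E m _ hV₀ (X.basicOpen g).ι
      ((Scheme.Opens.range_ι _).trans hrange₀.symm) c2
  have c4 := (isPC_iff_relPC_of_basicOpen f E m (X.basicOpen g).ι hV₀ hV₁ i₀ r₀ hr
    (DerSch.chartImm (X.basicOpen g) ψ) hb).2 c3
  have c5 := (isPC_iff_relPC_of_basicOpen f E m (X.basicOpen g).ι hV hV₁ i r rfl
    (DerSch.chartImm (X.basicOpen g) ψ) hb).1 c4
  have c6 : RelPC f E m (((DerSch.chartImm U φ) ⁻¹ᵁ (DG G)).ι ≫ U.ι) hV :=
    relPC_of_range_eq f E m (X.basicOpen g).ι hV _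
      (hrange.trans (Scheme.Opens.range_ι _).symm) c5
  have c7 := (isPC_resD_DG_iff f E m U.ι hV (DerSch.chartImm U φ)
    (chartImm_over f hU hV h φ hφ) G).2 c6
  rw [isPseudoCoherentD_iff_hasPresM] at c7
  have ht : (DerSch.chartImm U φ).base ⟨x, hxU⟩ ∈ DG G := by
    have : (⟨x, hxU⟩ : U) ∈ (DerSch.chartImm U φ) ⁻¹ᵁ (DG G) := by
      rw [hpre]
      exact hxg
    exact this
  exact hasPresM_of_resD (DG G).ι m _ ⟨_, ht⟩ (c7 _)

/-- outside the image of a closed immersion the direct image vanishes -/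
lemma hasPresM_pushD_of_notMem_range {Z T : Scheme.{u}} (i : Z ⟶ T) [IsClosedImmersion i]
    (L : DCoh.D Z) (t : T) (ht : t ∉ Set.range i.base) : HasPresM m ((pushD i).obj L) t := by
  let W : T.Opens := ⟨(Set.range i.base)ᶜ, i.isClosedEmbedding.isClosed_range.isOpen_compl⟩
  haveI : IsEmpty ↥(i ⁻¹ᵁ W) := ⟨fun z => z.2 ⟨z.1, rfl⟩⟩
  haveI : IsEmpty (↑(i ⁻¹ᵁ W) : Scheme.{u}) := this
  have hz : IsZero ((resD W.ι).obj ((pushD i).obj L)) :=
    IsZero.of_iso ((pushD (i ∣_ W)).map_isZero (isZero_D_of_isEmpty _)) ((pushResIso i W).app L)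
  exact hasPresM_of_resD W.ι m _ ⟨t, ht⟩ (pcAll_of_isZero _ hz m _)

/-- **every chart of every affine pair passes the test** -/
theorem chartPC_of_isPseudoCoherentRel (H : DerSch.IsPseudoCoherentRel f m E)
    {U : X.Opens} (hU : IsAffineOpen U) {V : S.Opens} (hV : IsAffineOpen V)
    (h : U ≤ f ⁻¹ᵁ V) {n : ℕ} (φ : MvPolynomial (Fin n) Γ(S, V) →+* Γ(X, U))
    (hφ : DerSch.IsChart f U V h φ) : DerSch.ChartPC m E U V φ := by
  obtain ⟨hft, 𝒱, h𝒱, H'⟩ := H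
  haveI := hft
  haveI := isClosedImmersion_chartImm' f hU h φ hφ
  rw [chartPC_iff, isPseudoCoherentD_iff_hasPresM]
  intro t
  by_cases ht : t ∈ Set.range (DerSch.chartImm U φ).base
  · obtain ⟨⟨x, hxU⟩, rfl⟩ := ht
    have hs : f.base x ∈ (⊤ : S.Opens) := trivial
    rw [← h𝒱] at hs
    obtain ⟨V₀, hs⟩ := Opens.mem_iSup.1 hs
    obtain ⟨hV₀mem, hs⟩ := Opens.mem_iSup.1 hs
    obtain ⟨𝒰, h𝒰, H''⟩ := H' V₀ hV₀mem
    have hx : x ∈ f ⁻¹ᵁ (V₀ : S.Opens) := hs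
    rw [← h𝒰] at hx
    obtain ⟨U₀, hx⟩ := Opens.mem_iSup.1 hx
    obtain ⟨hU₀mem, hx⟩ := Opens.mem_iSup.1 hx
    have h₀ : (U₀ : X.Opens) ≤ f ⁻¹ᵁ (V₀ : S.Opens) := by
      rw [← h𝒰]
      exact le_iSup₂ (f := fun (U : X.affineOpens) (_ : U ∈ 𝒰) => (U : X.Opens)) U₀ hU₀mem
    obtain ⟨n₀, φ₀, hφ₀, hpc₀⟩ := H'' U₀ hU₀mem h₀
    haveI := isClosedImmersion_chartImm' f U₀.2 h₀ φ₀ hφ₀
    rw [chartPC_iff] at hpc₀
    exact hasPresM_chart_of_chart f E m U₀.2 V₀.2 h₀ φ₀ hφ₀ hpc₀ hU hV h φ hφ x hxU hx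
  · exact hasPresM_pushD_of_notMem_range m _ _ t ht

/-- the converse: the test on all affine pairs gives relative pseudo-coherence -/
theorem isPseudoCoherentRel_of_forall [LocallyOfFiniteType f]
    (H : ∀ (U : X.affineOpens) (V : S.affineOpens) (h : (U : X.Opens) ≤ f ⁻¹ᵁ (V : S.Opens)),
      ∃ (n : ℕ) (φ : MvPolynomial (Fin n) Γ(S, (V : S.Opens)) →+* Γ(X, (U : X.Opens))),
        DerSch.IsChart f (U : X.Opens) (V : S.Opens) h φ ∧
          DerSch.ChartPC m E (U : X.Opens) (V : S.Opens) φ) :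
    DerSch.IsPseudoCoherentRel f m E := by
  refine ⟨inferInstance, Set.univ, ?_, fun V _ => ⟨{U | (U : X.Opens) ≤ f ⁻¹ᵁ (V : S.Opens)}, ?_,
    fun U _ h => H U V h⟩⟩
  · apply le_antisymm le_top
    intro s _
    obtain ⟨V, hV, hsV, -⟩ := Opens.isBasis_iff_nbhd.1 S.isBasis_affineOpens
      (show s ∈ (⊤ : S.Opens) from trivial)
    exact Opens.mem_iSup.2 ⟨⟨V, hV⟩, Opens.mem_iSup.2 ⟨Set.mem_univ _, hsV⟩⟩
  · apply le_antisymm
    · exact iSup₂_le fun U hU => hU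
    · intro x hx
      obtain ⟨U, hU, hxU, hUV⟩ := Opens.isBasis_iff_nbhd.1 X.isBasis_affineOpens hx
      exact Opens.mem_iSup.2 ⟨⟨U, hU⟩, Opens.mem_iSup.2 ⟨hUV, hxU⟩⟩

end Local

end Groth.Agent.Lib.Helper1.ChartInd
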