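import Mathlib
import Groth.Agent.Lib.Helper1ChartInd5
set_option backward.isDefEq.respectTransparency.types false
set_option autoImplicit false
set_option linter.style.haveILetI false
set_option maxHeartbeats 400000
universe u
open CategoryTheory CategoryTheory.Limits AlgebraicGeometry Opposite TopologicalSpace Pretriangulated

attribute [local instance] HasDerivedCategory.standard

namespace Groth.Agent.Lib.Helper1.ChartInd

open Groth.Agent.Lib.Helper1.SPL Groth.Agent.Lib.Helper1.Sky ZeroObject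
open Groth.Agent.Lib.Helper1.ClosedPC Groth.Agent.Lib.Helper1.ChartPC
open Groth.Agent.Lib.Helper1.KoszulPerf
open Groth.Agent.Lib.Helper1.Restrict Groth.Agent.Lib.Helper1.RelPC Groth.Agent.Lib.Helper1.PC

section Convert

variable {X S : Scheme.{u}} (f : X ⟶ S)

/-- a closed immersion of an affine open into affine space over `V`, compatible with `f`, is the
chart immersion of a chart -/
lemma exists_chart_of_closedImmersion {U : X.Opens} (hU : IsAffineOpen U) {V : S.Opens}
    (hV : IsAffineOpen V) (h : U ≤ f ⁻¹ᵁ V) {k : ℕ}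
    (a : (U : Scheme.{u}) ⟶ Spec (CommRingCat.of (MvPolynomial (Fin k) Γ(S, V))))
    [IsClosedImmersion a] (ha : a ≫ strV hV k = U.ι ≫ f) :
    ∃ φ : MvPolynomial (Fin k) Γ(S, V) →+* Γ(X, U),
      DerSch.IsChart f U V h φ ∧ DerSch.chartImm U φ = a := by
  haveI : IsAffine (U : Scheme.{u}) := hU
  let φ : MvPolynomial (Fin k) Γ(S, V) →+* Γ(X, U) := U.topIso.hom.hom.comp (sharp a)
  have hchart : DerSch.chartImm U φ = a := by
    unfold DerSch.chartImm Scheme.Opens.toSpecΓ
    rw [Category.assoc, ← Spec.map_comp]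
    have : CommRingCat.ofHom φ ≫ U.topIso.inv = CommRingCat.ofHom (sharp a) := by
      have h0 : CommRingCat.ofHom φ = CommRingCat.ofHom (sharp a) ≫ U.topIso.hom := rfl
      rw [h0, Category.assoc, Iso.hom_inv_id, Category.comp_id]
    rw [this]
    exact (eq_immT_sharp a).symm
  refine ⟨φ, ⟨?_, ?_⟩, hchart⟩
  · have h1 : Function.Surjective U.topIso.hom.hom :=
      (ConcreteCategory.bijective_of_isIso U.topIso.hom).surjective
    show Function.Surjective (U.topIso.hom.hom.comp (sharp a))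
    rw [RingHom.coe_comp]
    exact h1.comp (sharp_surjective a)
  · have h1 : DerSch.chartImm U φ ≫ strV hV k = U.ι ≫ f := hchart ▸ ha
    have hR : U.toSpecΓ ≫ Spec.map (f.appLE V U h) ≫ hV.fromSpec = U.ι ≫ f := by
      rw [hV.SpecMap_appLE_fromSpec f hU h, ← Category.assoc, hU.toSpecΓ_fromSpec]
    have hL : U.toSpecΓ ≫ Spec.map (CommRingCat.ofHom (φ.comp MvPolynomial.C)) ≫ hV.fromSpec =
        U.ι ≫ f := by
      rw [← h1]
      unfold DerSch.chartImm strV
      rw [CommRingCat.ofHom_comp, Spec.map_comp]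
      simp only [Category.assoc]
    have h2 := hL.trans hR.symm
    haveI : IsIso U.toSpecΓ := by
      rw [← hU.isoSpec_hom]
      infer_instance
    have h3 := (cancel_epi U.toSpecΓ).1 h2
    have h4 := (cancel_mono hV.fromSpec).1 h3
    have h5 := Spec.map_injective h4
    exact congrArg CommRingCat.Hom.hom h5

end Convert

section API

variable {X S : Scheme.{u}} (f : X ⟶ S) (E : DCoh.D X) (m : ℤ)

/-- for an affine pair, the test on some chart is `RelPC` -/
theorem relPC_iff_exists_chartPC {U : X.Opens} (hU : IsAffineOpen U) {V : S.Opens}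
    (hV : IsAffineOpen V) (h : U ≤ f ⁻¹ᵁ V) :
    RelPC f E m U.ι hV ↔ ∃ (n : ℕ) (φ : MvPolynomial (Fin n) Γ(S, V) →+* Γ(X, U)),
      DerSch.IsChart f U V h φ ∧ DerSch.ChartPC m E U V φ := by
  constructor
  · rintro ⟨k, a, ha, hao, hpc⟩
    obtain ⟨φ, hφ, hφa⟩ := exists_chart_of_closedImmersion f hU hV h a hao
    subst hφa
    exact ⟨k, φ, hφ, (chartPC_iff m E U V φ).2 hpc⟩
  · rintro ⟨n, φ, hφ, hpc⟩
    haveI := isClosedImmersion_chartImm' f hU h φ hφ
    exact ⟨n, DerSch.chartImm U φ, inferInstance, chartImm_over f hU hV h φ hφ,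
      (chartPC_iff m E U V φ).1 hpc⟩

/-- `RelPC` gives the test on every chart -/
theorem chartPC_of_relPC {U : X.Opens} (hU : IsAffineOpen U) {V : S.Opens}
    (hV : IsAffineOpen V) (h : U ≤ f ⁻¹ᵁ V) (H : RelPC f E m U.ι hV) {n : ℕ}
    (φ : MvPolynomial (Fin n) Γ(S, V) →+* Γ(X, U)) (hφ : DerSch.IsChart f U V h φ) :
    DerSch.ChartPC m E U V φ := by
  haveI := isClosedImmersion_chartImm' f hU h φ hφ
  haveI : IsAffine (U : Scheme.{u}) := hU
  exact (chartPC_iff m E U V φ).2 ((relPC_iff_of_chart f E m U.ι hV (DerSch.chartImm U φ)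
    (chartImm_over f hU hV h φ hφ)).1 H)

/-- `RelPC` is compatible with restriction to an open subscheme -/
theorem relPC_comp_iff {W W' : Scheme.{u}} (j : W ⟶ X) [IsOpenImmersion j] (j' : W' ⟶ W)
    [IsOpenImmersion j'] {V : S.Opens} (hV : IsAffineOpen V) :
    RelPC f E m (j' ≫ j) hV ↔ RelPC (j ≫ f) ((resD j).obj E) m j' hV := by
  have e := (resDComp j' j).app E
  constructor
  · rintro ⟨n, a, ha, hao, hpc⟩
    exact ⟨n, a, ha, by rw [hao, Category.assoc],
      isPseudoCoherentD_of_iso ((pushD a).mapIso e) hpc⟩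
  · rintro ⟨n, a, ha, hao, hpc⟩
    exact ⟨n, a, ha, by rw [hao, Category.assoc],
      isPseudoCoherentD_of_iso ((pushD a).mapIso e.symm) hpc⟩

/-- restriction to a basic open of the source -/
theorem relPC_basicOpen {U : X.Opens} (hU : IsAffineOpen U) {V : S.Opens}
    (hV : IsAffineOpen V) (h : U ≤ f ⁻¹ᵁ V) (g : Γ(X, U)) (H : RelPC f E m U.ι hV) :
    RelPC f E m (X.basicOpen g).ι hV := by
  obtain ⟨n, φ, hφ, hpc⟩ := (relPC_iff_exists_chartPC f E m hU hV h).1 H
  haveI := isClosedImmersion_chartImm' f hU h φ hφ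
  haveI : IsAffine (U : Scheme.{u}) := hU
  rw [chartPC_iff] at hpc
  obtain ⟨G, hG⟩ := hφ.1 g
  have hpre : (DerSch.chartImm U φ) ⁻¹ᵁ (DG G) = U.ι ⁻¹ᵁ (X.basicOpen g) := by
    rw [chartImm_preimage_DG, hG]
  have hrange := range_ι_comp_ι (X.basicOpen_le g) _ hpre
  have c1 := isPseudoCoherentD_resD m (DG G).ι _ hpc
  have c2 := (isPC_resD_DG_iff f E m U.ι hV (DerSch.chartImm U φ)
    (chartImm_over f hU hV h φ hφ) G).1 c1
  exact relPC_of_range_eq f E m _ hV (X.basicOpen g).ι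
    ((Scheme.Opens.range_ι _).trans hrange.symm) c2

/-- local-to-global on basic opens of the source -/
theorem chartPC_of_basicOpen_cover {U : X.Opens} (hU : IsAffineOpen U) {V : S.Opens}
    (hV : IsAffineOpen V) (h : U ≤ f ⁻¹ᵁ V) {n : ℕ}
    (φ : MvPolynomial (Fin n) Γ(S, V) →+* Γ(X, U)) (hφ : DerSch.IsChart f U V h φ)
    (H : ∀ x ∈ U, ∃ g : Γ(X, U), x ∈ X.basicOpen g ∧ RelPC f E m (X.basicOpen g).ι hV) :
    DerSch.ChartPC m E U V φ := by
  haveI := isClosedImmersion_chartImm' f hU h φ hφ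
  haveI : IsAffine (U : Scheme.{u}) := hU
  rw [chartPC_iff, isPseudoCoherentD_iff_hasPresM]
  intro t
  by_cases ht : t ∈ Set.range (DerSch.chartImm U φ).base
  · obtain ⟨⟨x, hxU⟩, rfl⟩ := ht
    obtain ⟨g, hxg, Hg⟩ := H x hxU
    obtain ⟨G, hG⟩ := hφ.1 g
    have hpre : (DerSch.chartImm U φ) ⁻¹ᵁ (DG G) = U.ι ⁻¹ᵁ (X.basicOpen g) := by
      rw [chartImm_preimage_DG, hG]
    have hrange := range_ι_comp_ι (X.basicOpen_le g) _ hpre
    have c6 : RelPC f E m (((DerSch.chartImm U φ) ⁻¹ᵁ (DG G)).ι ≫ U.ι) hV :=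
      relPC_of_range_eq f E m (X.basicOpen g).ι hV _
        (hrange.trans (Scheme.Opens.range_ι _).symm) Hg
    have c7 := (isPC_resD_DG_iff f E m U.ι hV (DerSch.chartImm U φ)
      (chartImm_over f hU hV h φ hφ) G).2 c6
    rw [isPseudoCoherentD_iff_hasPresM] at c7
    have ht : (DerSch.chartImm U φ).base ⟨x, hxU⟩ ∈ DG G := by
      have : (⟨x, hxU⟩ : U) ∈ (DerSch.chartImm U φ) ⁻¹ᵁ (DG G) := by
        rw [hpre]
        exact hxg
      exact this
    exact hasPresM_of_resD (DG G).ι m _ ⟨_, ht⟩ (c7 _)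
  · exact hasPresM_pushD_of_notMem_range m _ _ t ht

/-- enlarging the base from a basic open -/
theorem relPC_of_relPC_base_basicOpen {U : X.Opens} (hU : IsAffineOpen U) {V : S.Opens}
    (hV : IsAffineOpen V) (r : Γ(S, V)) (H : RelPC f E m U.ι (hV.basicOpen r)) :
    RelPC f E m U.ι hV := by
  haveI : IsAffine (U : Scheme.{u}) := hU
  obtain ⟨k, b, hb, hbo, hpc⟩ := H
  exact (isPC_iff_relPC_of_basicOpen f E m U.ι hV (hV.basicOpen r) (S.basicOpen_le r) r rfl
    b hbo).1 hpc

end API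

end Groth.Agent.Lib.Helper1.ChartInd
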