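import Mathlib
import Groth.Agent.Lib.Helper1ChartInd6
set_option backward.isDefEq.respectTransparency.types false
set_option autoImplicit false
set_option linter.style.haveILetI false
set_option maxHeartbeats 400000
universe u
open CategoryTheory CategoryTheory.Limits AlgebraicGeometry Opposite TopologicalSpace Pretriangulated

attribute [local instance] HasDerivedCategory.standard

namespace Groth.Agent.Lib.Helper1.ChartInd

open Groth.Agent.Lib.Helper1.SPL Groth.Agent.Lib.Helper1.Sky ZeroObject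
open Groth.Agent.Lib.Helper1.ClosedPC Groth.Agent.Lib.Helper1.ChartPC
open Groth.Agent.Lib.Helper1.KoszulPerf
open Groth.Agent.Lib.Helper1.Restrict Groth.Agent.Lib.Helper1.RelPC Groth.Agent.Lib.Helper1.PC

section Transfer

variable {X S : Scheme.{u}} (f : X ⟶ S)

/-- transfer of relative pseudo-coherence along a chartwise implication with two hypotheses -/
theorem isPseudoCoherentRel_of_two (m₁ m₂ m : ℤ) (E₁ E₂ E : DCoh.D X)
    (H : ∀ (U : X.Opens) (_ : IsAffineOpen U) (V : S.Opens) (n : ℕ)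
      (φ : MvPolynomial (Fin n) Γ(S, V) →+* Γ(X, U)) [IsClosedImmersion (DerSch.chartImm U φ)],
      DCoh.IsPseudoCoherentD m₁ ((pushD (DerSch.chartImm U φ)).obj ((resD U.ι).obj E₁)) →
      DCoh.IsPseudoCoherentD m₂ ((pushD (DerSch.chartImm U φ)).obj ((resD U.ι).obj E₂)) →
      DCoh.IsPseudoCoherentD m ((pushD (DerSch.chartImm U φ)).obj ((resD U.ι).obj E)))
    (h₁ : DerSch.IsPseudoCoherentRel f m₁ E₁) (h₂ : DerSch.IsPseudoCoherentRel f m₂ E₂) :
    DerSch.IsPseudoCoherentRel f m E := by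
  haveI := h₁.1
  refine isPseudoCoherentRel_of_forall f E m (fun U V h => ?_)
  obtain ⟨n, φ, hφ⟩ := exists_isChart f U.2 V.2 h
  haveI := isClosedImmersion_chartImm' f U.2 h φ hφ
  refine ⟨n, φ, hφ, ?_⟩
  have c₁ := chartPC_of_isPseudoCoherentRel f E₁ m₁ h₁ U.2 V.2 h φ hφ
  have c₂ := chartPC_of_isPseudoCoherentRel f E₂ m₂ h₂ U.2 V.2 h φ hφ
  rw [chartPC_iff] at c₁ c₂ ⊢
  exact H U U.2 V n φ c₁ c₂

/-- **S6204** -/
theorem isPseudoCoherentRel_distTriang (n : ℤ) (T : Triangle (DCoh.D X))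
    (hT : T ∈ distTriang (DCoh.D X)) :
    (DerSch.IsPseudoCoherentRel f (n + 1) T.obj₁ → DerSch.IsPseudoCoherentRel f n T.obj₂ →
        DerSch.IsPseudoCoherentRel f n T.obj₃) ∧
      (DerSch.IsPseudoCoherentRel f n T.obj₁ → DerSch.IsPseudoCoherentRel f n T.obj₃ →
        DerSch.IsPseudoCoherentRel f n T.obj₂) ∧
      (DerSch.IsPseudoCoherentRel f n T.obj₂ → DerSch.IsPseudoCoherentRel f (n - 1) T.obj₃ →
        DerSch.IsPseudoCoherentRel f n T.obj₁) := by
  have key : ∀ (U : X.Opens) (n' : ℕ) (V : S.Opens)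
      (φ : MvPolynomial (Fin n') Γ(S, V) →+* Γ(X, U)) [IsClosedImmersion (DerSch.chartImm U φ)],
      (pushD (DerSch.chartImm U φ)).mapTriangle.obj ((resD U.ι).mapTriangle.obj T) ∈
        distTriang _ := fun U n' V φ _ =>
    (pushD (DerSch.chartImm U φ)).map_distinguished _ ((resD U.ι).map_distinguished _ hT)
  refine ⟨?_, ?_, ?_⟩
  · refine isPseudoCoherentRel_of_two f (n + 1) n n T.obj₁ T.obj₂ T.obj₃ ?_
    intro U _ V n' φ _ c₁ c₂
    exact (isPseudoCoherentD_triangle n _ (key U n' V φ)).1 c₁ c₂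
  · refine isPseudoCoherentRel_of_two f n n n T.obj₁ T.obj₃ T.obj₂ ?_
    intro U _ V n' φ _ c₁ c₃
    exact (isPseudoCoherentD_triangle n _ (key U n' V φ)).2.1 c₁ c₃
  · refine isPseudoCoherentRel_of_two f n (n - 1) n T.obj₂ T.obj₃ T.obj₁ ?_
    intro U _ V n' φ _ c₂ c₃
    have h := (isPseudoCoherentD_triangle (n - 1) _ (key U n' V φ)).2.2
    rw [show n - 1 + 1 = n by ring] at h
    exact h c₂ c₃

end Transfer

end Groth.Agent.Lib.Helper1.ChartInd
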