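import Mathlib
import Groth.Agent.Lib.Helper1ChartInd7
set_option backward.isDefEq.respectTransparency.types false
set_option autoImplicit false
set_option linter.style.haveILetI false
set_option maxHeartbeats 400000
universe u
open CategoryTheory CategoryTheory.Limits AlgebraicGeometry Opposite TopologicalSpace Pretriangulated

attribute [local instance] HasDerivedCategory.standard

namespace Groth.Agent.Lib.Helper1.ChartInd

open Groth.Agent.Lib.Helper1.SPL Groth.Agent.Lib.Helper1.Sky ZeroObject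
open Groth.Agent.Lib.Helper1.ClosedPC Groth.Agent.Lib.Helper1.ChartPC
open Groth.Agent.Lib.Helper1.KoszulPerf
open Groth.Agent.Lib.Helper1.Restrict Groth.Agent.Lib.Helper1.RelPC Groth.Agent.Lib.Helper1.PC

section Local

variable {X S : Scheme.{u}} (f : X ⟶ S) (m : ℤ)

lemma isPseudoCoherentRel_of_iso {K K' : DCoh.D X} (e : K ≅ K')
    (h : DerSch.IsPseudoCoherentRel f m K) : DerSch.IsPseudoCoherentRel f m K' := by
  obtain ⟨hft, 𝒱, h𝒱, H⟩ := h
  refine ⟨hft, 𝒱, h𝒱, fun V hV => ?_⟩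
  obtain ⟨𝒰, h𝒰, H'⟩ := H V hV
  refine ⟨𝒰, h𝒰, fun U hU h => ?_⟩
  obtain ⟨n, φ, hφ, hpc⟩ := H' U hU h
  exact ⟨n, φ, hφ, fun G ⟨eG⟩ => hpc G ⟨eG ≪≫ e.symm⟩⟩

/-- the test on an affine pair, from relative pseudo-coherence -/
theorem relPC_of_isPseudoCoherentRel (K : DCoh.D X) (h : DerSch.IsPseudoCoherentRel f m K)
    {U : X.Opens} (hU : IsAffineOpen U) {V : S.Opens} (hV : IsAffineOpen V) (hUV : U ≤ f ⁻¹ᵁ V) :
    RelPC f K m U.ι hV := by
  haveI := h.1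
  obtain ⟨n, φ, hφ⟩ := exists_isChart f hU hV hUV
  exact (relPC_iff_exists_chartPC f K m hU hV hUV).2
    ⟨n, φ, hφ, chartPC_of_isPseudoCoherentRel f K m h hU hV hUV φ hφ⟩

/-- **S6202**: restriction to an open subscheme -/
theorem isPseudoCoherentRel_restrict {W : Scheme.{u}} (j : W ⟶ X) [IsOpenImmersion j]
    (K : DCoh.D X) (h : DerSch.IsPseudoCoherentRel f m K) :
    DerSch.IsPseudoCoherentRel (j ≫ f) m ((resD j).obj K) := by
  haveI := h.1
  refine isPseudoCoherentRel_of_forall (j ≫ f) _ m (fun U' V h' => ?_)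
  rw [← relPC_iff_exists_chartPC (j ≫ f) _ m U'.2 V.2 h', ← relPC_comp_iff]
  have hU'' : IsAffineOpen (j ''ᵁ (U' : W.Opens)) := U'.2.image_of_isOpenImmersion j
  have h'' : j ''ᵁ (U' : W.Opens) ≤ f ⁻¹ᵁ (V : S.Opens) := by
    rintro _ ⟨y, hy, rfl⟩
    exact h' hy
  refine relPC_of_range_eq f K m (j ''ᵁ (U' : W.Opens)).ι V.2 _ ?_
    (relPC_of_isPseudoCoherentRel f m K h hU'' V.2 h'')
  rw [Scheme.Opens.range_ι]
  ext x
  constructor
  · rintro ⟨z, rfl⟩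
    exact ⟨z.1, z.2, rfl⟩
  · rintro ⟨y, hy, rfl⟩
    exact ⟨⟨y, hy⟩, rfl⟩

/-- **S6203**: relative pseudo-coherence is local on the source -/
theorem isPseudoCoherentRel_of_openCover [LocallyOfFiniteType f] {ι : Type*} (U : ι → X.Opens)
    (hU : ⨆ i, U i = ⊤) (K : DCoh.D X)
    (h : ∀ i, DerSch.IsPseudoCoherentRel ((U i).ι ≫ f) m ((resD (U i).ι).obj K)) :
    DerSch.IsPseudoCoherentRel f m K := by
  refine ⟨inferInstance, Set.univ, ?_, fun V _ =>
    ⟨{U' | (U' : X.Opens) ≤ f ⁻¹ᵁ (V : S.Opens) ∧ ∃ i, (U' : X.Opens) ≤ U i}, ?_, ?_⟩⟩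
  · apply le_antisymm le_top
    intro s _
    obtain ⟨V, hV, hsV, -⟩ := Opens.isBasis_iff_nbhd.1 S.isBasis_affineOpens
      (show s ∈ (⊤ : S.Opens) from trivial)
    exact Opens.mem_iSup.2 ⟨⟨V, hV⟩, Opens.mem_iSup.2 ⟨Set.mem_univ _, hsV⟩⟩
  · apply le_antisymm
    · exact iSup₂_le fun U' hU' => hU'.1
    · intro x hx
      have hx' : x ∈ (⊤ : X.Opens) := trivial
      rw [← hU] at hx'
      obtain ⟨i, hxi⟩ := Opens.mem_iSup.1 hx'
      obtain ⟨U', hU', hxU', hle⟩ := Opens.isBasis_iff_nbhd.1 X.isBasis_affineOpens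
        (show x ∈ f ⁻¹ᵁ (V : S.Opens) ⊓ U i from ⟨hx, hxi⟩)
      exact Opens.mem_iSup.2 ⟨⟨U', hU'⟩, Opens.mem_iSup.2
        ⟨⟨hle.trans inf_le_left, i, hle.trans inf_le_right⟩, hxU'⟩⟩
  · rintro U' ⟨-, i, hi⟩ hUV
    rw [← relPC_iff_exists_chartPC f K m U'.2 V.2 hUV]
    let O : ((U i : X.Opens) : Scheme.{u}).Opens := (U i).ι ⁻¹ᵁ (U' : X.Opens)
    have hO : IsAffineOpen O := U'.2.preimage_of_isOpenImmersion (U i).ι (by
      rw [Scheme.Opens.opensRange_ι]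
      exact hi)
    have hOV : O ≤ ((U i).ι ≫ f) ⁻¹ᵁ (V : S.Opens) := fun z hz => hUV hz
    have c1 := relPC_of_isPseudoCoherentRel ((U i).ι ≫ f) m _ (h i) hO V.2 hOV
    rw [← relPC_comp_iff] at c1
    exact relPC_of_range_eq f K m _ V.2 (U' : X.Opens).ι
      ((Scheme.Opens.range_ι _).trans (range_ι_comp_ι hi O rfl).symm) c1

end Local

end Groth.Agent.Lib.Helper1.ChartInd
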