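import Mathlib
import Groth.Agent.Lib.Helper1ChartInd8
set_option backward.isDefEq.respectTransparency.types false
set_option autoImplicit false
set_option linter.style.haveILetI false
set_option maxHeartbeats 400000
universe u
open CategoryTheory CategoryTheory.Limits AlgebraicGeometry Opposite TopologicalSpace Pretriangulated

attribute [local instance] HasDerivedCategory.standard

namespace Groth.Agent.Lib.Helper1.ChartInd

open Groth.Agent.Lib.Helper1.SPL Groth.Agent.Lib.Helper1.Sky ZeroObject
open Groth.Agent.Lib.Helper1.ClosedPC Groth.Agent.Lib.Helper1.ChartPC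
open Groth.Agent.Lib.Helper1.KoszulPerf
open Groth.Agent.Lib.Helper1.Restrict Groth.Agent.Lib.Helper1.RelPC Groth.Agent.Lib.Helper1.PC
open Groth.Agent.S14388 Groth.Agent.Lib.Helper1.Devissage

section Abs

variable {X : Scheme.{u}}

/-- a module in degree `j` is `m`-pseudo-coherent if it is `(m - j)`-pseudo-coherent in degree `0` -/
lemma isPseudoCoherentD_single (M : X.Modules) (m j : ℤ)
    (h : DCoh.IsPseudoCoherentD (m - j) (DCoh.inD X M)) :
    DCoh.IsPseudoCoherentD m ((DerivedCategory.singleFunctor X.Modules j).obj M) := by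
  rw [isPseudoCoherentD_iff_hasPresM] at h ⊢
  intro x
  have h2 := hasPresM_shift (m - j) (-j) m (by ring) (DCoh.inD X M) x (h x)
  exact h2.of_iso (((DerivedCategory.singleFunctors X.Modules).shiftIso (-j) j 0
    (by omega)).app M)

/-- absolute form of S7216 -/
theorem isPseudoCoherentD_of_homology (E : DCoh.D X) (m b : ℤ) [E.IsLE b]
    (h : ∀ i : ℤ, m ≤ i → DCoh.IsPseudoCoherentD (m - i) (DCoh.inD X (DCoh.HD E i))) :
    DCoh.IsPseudoCoherentD m E := by
  have hT := (tt (C := X.Modules)).triangleLTGE_distinguished m E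
  have h₁ : DCoh.IsPseudoCoherentD m ((tt.truncLT m).obj E) :=
    isPseudoCoherentD_of_isZero_homology _ m (fun i hi =>
      DerivedCategory.isZero_of_isLE ((tt.truncLT m).obj E) (m - 1) i (by omega))
  let P : ObjectProperty (DCoh.D X) := fun K => DCoh.IsPseudoCoherentD m K
  haveI : P.IsClosedUnderIsomorphisms := ⟨fun e hK => isPseudoCoherentD_of_iso e hK⟩
  have h₃ : P ((tt.truncGE m).obj E) := by
    refine induction_homology' P (fun K hK => ?_) (fun T hT h1 h3 => ?_)
      ((tt.truncGE m).obj E) m b ?_ ?_
    · exact isPseudoCoherentD_of_isZero_homology K m (fun i _ =>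
        (DerivedCategory.homologyFunctor _ i).map_isZero hK)
    · exact (isPseudoCoherentD_triangle m T hT).2.1 h1 h3
    · rintro i (hi | hi)
      · exact DerivedCategory.isZero_of_isGE ((tt.truncGE m).obj E) m i hi
      · by_cases him : m ≤ i
        · haveI := isIso_homology_truncGEπ m i him E
          exact IsZero.of_iso (DerivedCategory.isZero_of_isLE E b i hi)
            (asIso ((DerivedCategory.homologyFunctor X.Modules i).map
              ((tt.truncGEπ m).app E))).symm
        · exact DerivedCategory.isZero_of_isGE ((tt.truncGE m).obj E) m i (by omega)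
    · intro j hj _
      haveI := isIso_homology_truncGEπ m j hj E
      let F := (DerivedCategory.homologyFunctor X.Modules j).obj ((tt.truncGE m).obj E)
      let eF : DCoh.HD E j ≅ F :=
        asIso ((DerivedCategory.homologyFunctor X.Modules j).map ((tt.truncGEπ m).app E))
      exact isPseudoCoherentD_single F m j (isPseudoCoherentD_of_iso
        ((DerivedCategory.singleFunctor X.Modules 0).mapIso eF) (h j hj))
  exact (isPseudoCoherentD_triangle m _ hT).2.1 h₁ h₃

/-- absolute form of S7215 -/
theorem isPseudoCoherentD_of_terms (m : ℤ) (k : ℕ) :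
    ∀ (F : CochainComplex X.Modules ℤ) (b : ℤ), b + 1 = m + k →
      (∀ i : ℤ, b < i → IsZero (F.X i)) →
      (∀ i : ℤ, m ≤ i → DCoh.IsPseudoCoherentD (m - i) (DCoh.inD X (F.X i))) →
      DCoh.IsPseudoCoherentD m (DCoh.toD X F) := by
  induction k with
  | zero =>
    intro F b hb hF _
    refine isPseudoCoherentD_of_isZero_homology _ m (fun i hi => ?_)
    have hz : IsZero (F.homology i) :=
      ShortComplex.isZero_homology_of_isZero_X₂ _ (hF i (by simp at hb; omega))
    exact IsZero.of_iso hz ((DerivedCategory.homologyFunctorFactors X.Modules i).app F)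
  | succ k ih =>
    intro F b hb hF hP
    have hbm : m ≤ b := by push_cast at hb; omega
    obtain ⟨C, f, g, δ, hT, hCb, hCi⟩ := exists_step F b hF
    have h3 : DCoh.IsPseudoCoherentD m (DCoh.toD X C) := by
      apply ih C (b - 1) (by push_cast at hb ⊢; omega)
      · intro i hi
        by_cases hib : i = b
        · subst hib
          exact hCb
        · obtain ⟨e⟩ := hCi i hib
          exact (hF i (by omega)).of_iso e.symm
      · intro i hi
        by_cases hib : i = b
        · subst hib
          have hz : IsZero (DCoh.inD X (C.X i)) :=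
            (DerivedCategory.singleFunctor X.Modules 0).map_isZero hCb
          rw [isPseudoCoherentD_iff_hasPresM]
          exact fun x => pcAll_of_isZero _ hz _ x
        · obtain ⟨e⟩ := hCi i hib
          exact isPseudoCoherentD_of_iso ((DerivedCategory.singleFunctor X.Modules 0).mapIso e)
            (hP i hi)
    have h1 : DCoh.IsPseudoCoherentD m ((DerivedCategory.singleFunctor X.Modules b).obj (F.X b)) :=
      isPseudoCoherentD_single _ m b (hP b hbm)
    exact (isPseudoCoherentD_triangle m _ hT).2.1 h1 h3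

end Abs

section Rel

variable {X S : Scheme.{u}} (f : X ⟶ S) (m : ℤ)

/-- the chart functor applied to a module in degree zero -/
noncomputable def chartSingleIso {U : X.Opens} {T : Scheme.{u}} (a : (U : Scheme.{u}) ⟶ T)
    [IsClosedImmersion a] (M : X.Modules) :
    (pushD a).obj ((resD U.ι).obj (DCoh.inD X M)) ≅
      DCoh.inD T ((Scheme.Modules.pushforward a).obj (M.restrict U.ι)) :=
  (pushD a).mapIso (resDSingleIso U.ι M) ≪≫
    ((Scheme.Modules.pushforward a).mapDerivedCategorySingleFunctor 0).app (M.restrict U.ι)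

/-- the chart functor commutes with cohomology -/
noncomputable def chartHomologyIso {U : X.Opens} {T : Scheme.{u}} (a : (U : Scheme.{u}) ⟶ T)
    [IsClosedImmersion a] (E : DCoh.D X) (i : ℤ) :
    DCoh.HD ((pushD a).obj ((resD U.ι).obj E)) i ≅
      (Scheme.Modules.pushforward a).obj ((DCoh.HD E i).restrict U.ι) :=
  homologyPushIso a _ i ≪≫ (Scheme.Modules.pushforward a).mapIso (homologyResDIso U.ι E i)

/-- **S7216** -/
theorem isPseudoCoherentRel_of_homology (E : DCoh.D X) (b : ℤ) [E.IsLE b]
    (h : ∀ i : ℤ, DerSch.IsPseudoCoherentRel f (m - i) (DCoh.inD X (DCoh.HD E i))) :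
    DerSch.IsPseudoCoherentRel f m E := by
  haveI := (h 0).1
  refine isPseudoCoherentRel_of_forall f E m (fun U V hUV => ?_)
  obtain ⟨n, φ, hφ⟩ := exists_isChart f U.2 V.2 hUV
  haveI := isClosedImmersion_chartImm' f U.2 hUV φ hφ
  refine ⟨n, φ, hφ, ?_⟩
  rw [chartPC_iff]
  haveI : ((pushD (DerSch.chartImm (U : X.Opens) φ)).obj
      ((resD (U : X.Opens).ι).obj E)).IsLE b := by
    rw [DerivedCategory.isLE_iff]
    intro i hi
    refine IsZero.of_iso ?_ (chartHomologyIso (DerSch.chartImm (U : X.Opens) φ) E i)
    exact (Scheme.Modules.pushforward _).map_isZero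
      ((Scheme.Modules.restrictFunctor _).map_isZero (DerivedCategory.isZero_of_isLE E b i hi))
  refine isPseudoCoherentD_of_homology _ m b (fun i _ => ?_)
  have c := chartPC_of_isPseudoCoherentRel f _ (m - i) (h i) U.2 V.2 hUV φ hφ
  rw [chartPC_iff] at c
  exact isPseudoCoherentD_of_iso (chartSingleIso (DerSch.chartImm (U : X.Opens) φ) _ ≪≫
    (DerivedCategory.singleFunctor _ 0).mapIso
      (chartHomologyIso (DerSch.chartImm (U : X.Opens) φ) E i).symm) c

/-- **S7215** -/
theorem isPseudoCoherentRel_of_termwise (F : CochainComplex X.Modules ℤ) (b : ℤ)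
    (hb : ∀ i : ℤ, b < i → IsZero (F.X i))
    (h : ∀ i : ℤ, DerSch.IsPseudoCoherentRel f (m - i) (DCoh.inD X (F.X i))) :
    DerSch.IsPseudoCoherentRel f m (DCoh.toD X F) := by
  haveI := (h 0).1
  refine isPseudoCoherentRel_of_forall f _ m (fun U V hUV => ?_)
  obtain ⟨n, φ, hφ⟩ := exists_isChart f U.2 V.2 hUV
  haveI := isClosedImmersion_chartImm' f U.2 hUV φ hφ
  refine ⟨n, φ, hφ, ?_⟩
  rw [chartPC_iff]
  refine isPseudoCoherentD_of_iso (chartObjIso (U : X.Opens) φ F) ?_
  obtain ⟨k, hk⟩ : ∃ k : ℕ, max b (m - 1) + 1 = m + k :=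
    ⟨(max b (m - 1) + 1 - m).toNat, by
      rw [Int.toNat_of_nonneg (by have := le_max_right b (m - 1); omega)]; ring⟩
  refine isPseudoCoherentD_of_terms m k _ (max b (m - 1)) hk (fun i hi => ?_) (fun i _ => ?_)
  · exact (Scheme.Modules.pushforward _).map_isZero
      ((Scheme.Modules.restrictFunctor _).map_isZero (hb i (by
        have := le_max_left b (m - 1); omega)))
  · have c := chartPC_of_isPseudoCoherentRel f _ (m - i) (h i) U.2 V.2 hUV φ hφ
    rw [chartPC_iff] at c
    exact isPseudoCoherentD_of_iso (chartSingleIso (DerSch.chartImm (U : X.Opens) φ) _) c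

end Rel

end Groth.Agent.Lib.Helper1.ChartInd
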