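import Mathlib
import Groth.Agent.Lib.Helper1ChartInd9
set_option backward.isDefEq.respectTransparency.types false
set_option autoImplicit false
set_option linter.style.haveILetI false
set_option maxHeartbeats 400000
universe u
open CategoryTheory CategoryTheory.Limits AlgebraicGeometry Opposite TopologicalSpace Pretriangulated

attribute [local instance] HasDerivedCategory.standard

namespace Groth.Agent.Lib.Helper1.ChartInd

open Groth.Agent.Lib.Helper1.SPL Groth.Agent.Lib.Helper1.Sky ZeroObject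
open Groth.Agent.Lib.Helper1.ClosedPC Groth.Agent.Lib.Helper1.ChartPC
open Groth.Agent.Lib.Helper1.KoszulPerf
open Groth.Agent.Lib.Helper1.Restrict Groth.Agent.Lib.Helper1.RelPC Groth.Agent.Lib.Helper1.PC

section PCMor

variable {Y Z : Scheme.{u}} (g : Y ⟶ Z)

/-- the chart functor applied to the structure sheaf -/
noncomputable def chartUnitIso {U : Y.Opens} {T : Scheme.{u}} (a : (U : Scheme.{u}) ⟶ T)
    [IsClosedImmersion a] :
    (pushD a).obj ((resD U.ι).obj (DCoh.toD Y (DerSch.unitCx Y))) ≅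
      DCoh.inD T ((Scheme.Modules.pushforward a).obj (Coh.structureModule (U : Scheme.{u}))) :=
  (pushD a).mapIso ((resD U.ι).mapIso
      ((DerivedCategory.singleFunctorIsoCompQ Y.Modules 0).app (Coh.structureModule Y)).symm) ≪≫
    chartSingleIso a (Coh.structureModule Y) ≪≫
    (DerivedCategory.singleFunctor _ 0).mapIso
      ((Scheme.Modules.pushforward a).mapIso (Scheme.Modules.restrictUnitIso U.ι))

/-- for a pseudo-coherent morphism, chart immersions have pseudo-coherent structure sheaf -/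
theorem ho_chartImm (hg : ∀ n : ℤ, DerSch.IsNPseudoCoherent g n) {U : Y.Opens}
    (hU : IsAffineOpen U) {V : Z.Opens} (hV : IsAffineOpen V) (h : U ≤ g ⁻¹ᵁ V) {n : ℕ}
    (φ : MvPolynomial (Fin n) Γ(Z, V) →+* Γ(Y, U)) (hφ : DerSch.IsChart g U V h φ)
    [IsClosedImmersion (DerSch.chartImm U φ)] : HO (DerSch.chartImm U φ) := by
  intro k x
  have c := chartPC_of_isPseudoCoherentRel g _ k (hg k) hU hV h φ hφ
  rw [chartPC_iff] at c
  have c' := isPseudoCoherentD_of_iso (chartUnitIso (DerSch.chartImm U φ)) c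
  rw [isPseudoCoherentD_iff_hasPresM] at c'
  exact c' x

/-- **S6207** -/
theorem isPseudoCoherentD_iff_isPseudoCoherentRel [LocallyOfFiniteType g]
    (hg : ∀ n : ℤ, DerSch.IsNPseudoCoherent g n) (r : ℤ) (E : DCoh.D Y) :
    DCoh.IsPseudoCoherentD r E ↔ DerSch.IsPseudoCoherentRel g r E := by
  constructor
  · intro hE
    refine isPseudoCoherentRel_of_forall g E r (fun U V h => ?_)
    obtain ⟨n, φ, hφ⟩ := exists_isChart g U.2 V.2 h
    haveI := isClosedImmersion_chartImm' g U.2 h φ hφ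
    refine ⟨n, φ, hφ, ?_⟩
    rw [chartPC_iff]
    exact (isPseudoCoherentD_pushD_iff _ (ho_chartImm g hg U.2 V.2 h φ hφ) _ r).1
      (isPseudoCoherentD_resD r U.1.ι E hE)
  · intro hE
    rw [isPseudoCoherentD_iff_hasPresM]
    intro y
    obtain ⟨V', hV', hyV', -⟩ := Opens.isBasis_iff_nbhd.1 Z.isBasis_affineOpens
      (show g.base y ∈ (⊤ : Z.Opens) from trivial)
    obtain ⟨V, hV, hyV⟩ : ∃ V : Z.Opens, IsAffineOpen V ∧ g.base y ∈ V := ⟨V', hV', hyV'⟩
    obtain ⟨U', hU', hyU', hUV'⟩ := Opens.isBasis_iff_nbhd.1 Y.isBasis_affineOpens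
      (show y ∈ g ⁻¹ᵁ V from hyV)
    obtain ⟨U, hU, hyU, hUV⟩ : ∃ U : Y.Opens, IsAffineOpen U ∧ y ∈ U ∧ U ≤ g ⁻¹ᵁ V :=
      ⟨U', hU', hyU', hUV'⟩
    obtain ⟨n, φ, hφ⟩ := exists_isChart g hU hV hUV
    haveI := isClosedImmersion_chartImm' g hU hUV φ hφ
    have c := chartPC_of_isPseudoCoherentRel g E r hE hU hV hUV φ hφ
    rw [chartPC_iff] at c
    have c' := (isPseudoCoherentD_pushD_iff _ (ho_chartImm g hg hU hV hUV φ hφ) _ r).2 c
    rw [isPseudoCoherentD_iff_hasPresM] at c'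
    exact hasPresM_of_resD U.ι r E ⟨y, hyU⟩ (c' _)

end PCMor

end Groth.Agent.Lib.Helper1.ChartInd
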