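import Mathlib
import Groth.Agent.Lib.Helper1ChartPC1
import Groth.Agent.Lib.Helper23FinTypeLocal
import Groth.Agent.Lib.Helper23QCohAbelian
import Groth.Agent.Lib.Helper21HZB9
import Groth.Agent.Lib.Helper17FinProjLoc
set_option backward.isDefEq.respectTransparency.types false
set_option autoImplicit false
set_option linter.style.haveILetI false
set_option maxHeartbeats 400000
universe u
open CategoryTheory CategoryTheory.Limits AlgebraicGeometry Opposite TopologicalSpace

attribute [local instance] HasDerivedCategory.standard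

namespace Groth.Agent.Lib.Helper1.ChartQC

open Groth.Agent.Lib.Helper1.SPL Groth.Agent.Lib.Helper1.Sky
open Groth.Agent.Lib.Helper23.QCohLocal Groth.Agent.Lib.Helper23.FinType

variable {X : Scheme.{u}}

/-- the cohomology of a complex with quasi-coherent terms is quasi-coherent -/
theorem isQuasicoherent_homology (E : CochainComplex X.Modules ℤ)
    (hE : ∀ i, (E.X i).IsQuasicoherent) (q : ℤ) : (E.homology q).IsQuasicoherent := by
  haveI := hE
  have e : E.homology q ≅ cokernel (kernel.lift (E.sc q).g (E.sc q).f (E.sc q).zero) :=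
    (E.sc q).homologyIsoCokernelLift
  haveI : (E.sc q).X₁.IsQuasicoherent := hE _
  haveI : (E.sc q).X₂.IsQuasicoherent := hE _
  haveI : (E.sc q).X₃.IsQuasicoherent := hE _
  haveI : (kernel (E.sc q).g).IsQuasicoherent :=
    Groth.Agent.Lib.Helper23.QCohLocal.isQuasicoherent_kernel _
  haveI := Groth.Agent.Lib.Helper23.QCohLocal.isQuasicoherent_cokernel
    (kernel.lift (E.sc q).g (E.sc q).f (E.sc q).zero)
  exact Groth.Agent.Lib.Helper23.TensorQCoh.isQuasicoherent_of_iso e.symm

/-- the cohomology sheaves of an `m`-pseudo-coherent object are quasi-coherent in degrees `> m` -/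
theorem isQuasicoherent_HD_of_hasPresM (K : DCoh.D X) (m q : ℤ) (hq : m < q)
    (h : ∀ x, HasPresM m K x) : (DCoh.HD K q).IsQuasicoherent := by
  choose V hxV E α hE hα using fun x => (h x).exists_opens
  refine isQuasicoherent_of_open_cover _ V ?_ (fun x => ?_)
  · rw [IsOpenCover, eq_top_iff]
    intro x _
    exact Opens.mem_iSup.2 ⟨x, hxV x⟩
  · haveI := (hα x).1 q hq
    have e : (DCoh.HD K q).restrict (V x).ι ≅ (E x).homology q :=
      (homologyResDIso (V x).ι K q).symm ≪≫
        (asIso ((DerivedCategory.homologyFunctor _ q).map (α x))).symm ≪≫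
        (DerivedCategory.homologyFunctorFactors _ q).app (E x)
    haveI := isQuasicoherent_homology (E x) (fun i =>
      Groth.Agent.Lib.Helper21.HZB.isQuasicoherent_of_isFinLocFree _ ((hE x).2 i)) q
    exact Groth.Agent.Lib.Helper23.TensorQCoh.isQuasicoherent_of_iso e.symm

lemma isLocalizedModule_powers_of_semilinear {R S : Type*} [CommRing R] [CommRing S] (φ : R →+* S)
    (g : R) {M N M' N' : Type*} [AddCommGroup M] [AddCommGroup N] [Module S M] [Module S N]
    [AddCommGroup M'] [AddCommGroup N'] [Module R M'] [Module R N']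
    (f : M →ₗ[S] N) {f' : M' →ₗ[R] N'} (h : IsLocalizedModule (Submonoid.powers g) f')
    (eM : M' ≃+ M) (eN : N' ≃+ N)
    (hM : ∀ (r : R) (m : M'), eM (r • m) = φ r • eM m)
    (hN : ∀ (r : R) (n : N'), eN (r • n) = φ r • eN n)
    (hf : ∀ m, eN (f' m) = f (eM m)) :
    IsLocalizedModule (Submonoid.powers (φ g)) f := by
  have hpow : ∀ (k : ℕ) (n : N'), eN (g ^ k • n) = (φ g) ^ k • eN n := fun k n => by
    rw [hN, map_pow]
  have hpowM : ∀ (k : ℕ) (m : M'), eM (g ^ k • m) = (φ g) ^ k • eM m := fun k m => by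
    rw [hM, map_pow]
  refine ⟨?_, ?_, ?_⟩
  · rintro ⟨_, k, rfl⟩
    have h1 := h.map_units ⟨g ^ k, k, rfl⟩
    rw [Module.End.isUnit_iff] at h1 ⊢
    constructor
    · intro a b hab
      have hab' : (φ g) ^ k • a = (φ g) ^ k • b := hab
      apply eN.symm.injective
      apply h1.1
      show g ^ k • eN.symm a = g ^ k • eN.symm b
      apply eN.injective
      rw [hpow, hpow, eN.apply_symm_apply, eN.apply_symm_apply, hab']
    · intro b
      obtain ⟨a, ha⟩ := h1.2 (eN.symm b)
      refine ⟨eN a, ?_⟩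
      have ha' : g ^ k • a = eN.symm b := ha
      show (φ g) ^ k • eN a = b
      rw [← hpow, ha', eN.apply_symm_apply]
  · intro y
    obtain ⟨⟨x, ⟨_, k, rfl⟩⟩, e⟩ := h.surj (eN.symm y)
    refine ⟨⟨eM x, ⟨(φ g) ^ k, k, rfl⟩⟩, ?_⟩
    have e' : g ^ k • eN.symm y = f' x := e
    show (φ g) ^ k • y = f (eM x)
    rw [← hf, ← e', hpow, eN.apply_symm_apply]
  · intro x₁ x₂ e
    have e1 : f' (eM.symm x₁) = f' (eM.symm x₂) := by
      apply eN.injective
      rw [hf, hf, eM.apply_symm_apply, eM.apply_symm_apply, e]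
    obtain ⟨⟨_, k, rfl⟩, hc⟩ := h.exists_of_eq e1
    refine ⟨⟨(φ g) ^ k, k, rfl⟩, ?_⟩
    have hc' : g ^ k • eM.symm x₁ = g ^ k • eM.symm x₂ := hc
    show (φ g) ^ k • x₁ = (φ g) ^ k • x₂
    have := congrArg eM hc'
    rwa [hpowM, hpowM, eM.apply_symm_apply, eM.apply_symm_apply] at this

section Affine

variable {R S : CommRingCat.{u}} (φ : R ⟶ S)

open PrimeSpectrum

theorem isLocalizing_of_isLocalizing_pushforward (hφ : Function.Surjective φ.hom)
    {M : (Spec S).Modules}
    (h : IsLocalizing (modulesSpecToSheaf.obj ((Scheme.Modules.pushforward (Spec.map φ)).obj M))) :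
    IsLocalizing (modulesSpecToSheaf.obj M) := by
  rw [← Functor.comp_obj,
    isLocalizing_iff_of_iso ((pushforwardCompModulesSpecToSheafIso φ).app M)] at h
  intro f
  obtain ⟨g, rfl⟩ := hφ f
  have h1 := h g
  have h2 : IsLocalizedModule (Submonoid.powers (φ.hom g))
      ((modulesSpecToSheaf.obj M).obj.map
        ((Opens.map (Spec.map φ).base).op.map (basicOpen g).leTop.op)).hom :=
    isLocalizedModule_powers_of_semilinear φ.hom g _ h1 (AddEquiv.refl _) (AddEquiv.refl _)
      (fun r m => rfl) (fun r n => rfl) (fun m => rfl)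
  exact h2

end Affine


section Chart

variable {X : Scheme.{u}}

/-- quasi-coherence is reflected by direct image along `Spec` of a surjective ring map -/
theorem isQuasicoherent_of_pushforward_spec {R S : CommRingCat.{u}} (φ : R ⟶ S)
    (hφ : Function.Surjective φ.hom) (M : (Spec S).Modules)
    (h : ((Scheme.Modules.pushforward (Spec.map φ)).obj M).IsQuasicoherent) :
    M.IsQuasicoherent := by
  rw [isQuasicoherent_iff_isIso_fromTildeΓ, isIso_fromTildeΓ_iff_isLocalizing] at h ⊢
  exact isLocalizing_of_isLocalizing_pushforward φ hφ h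

/-- quasi-coherence is reflected by direct image along an isomorphism -/
theorem isQuasicoherent_of_pushforward_iso {U W : Scheme.{u}} (a : U ⟶ W) [IsIso a]
    (N : U.Modules) (h : ((Scheme.Modules.pushforward a).obj N).IsQuasicoherent) :
    N.IsQuasicoherent := by
  haveI := h
  haveI : ((Scheme.Modules.pushforward (inv a)).obj ((Scheme.Modules.pushforward a).obj N)).IsQuasicoherent :=
    isQuasicoherent_pushforward (inv a) _
  have e : (Scheme.Modules.pushforward (inv a)).obj ((Scheme.Modules.pushforward a).obj N) ≅ N :=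
    (Scheme.Modules.pushforwardComp a (inv a)).app N ≪≫
      (Scheme.Modules.pushforwardCongr (IsIso.hom_inv_id a)).app N ≪≫
      (Scheme.Modules.pushforwardId U).app N
  exact Groth.Agent.Lib.Helper23.TensorQCoh.isQuasicoherent_of_iso e

theorem isQuasicoherent_of_pushforward_chartImm (U : X.Opens) (hU : IsAffineOpen U)
    {R : Type u} [CommRing R] {n : ℕ} (φ : MvPolynomial (Fin n) R →+* Γ(X, U))
    (hφ : Function.Surjective φ) (N : (U : Scheme.{u}).Modules)
    (h : ((Scheme.Modules.pushforward (DerSch.chartImm U φ)).obj N).IsQuasicoherent) :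
    N.IsQuasicoherent := by
  haveI : IsIso U.toSpecΓ := by
    rw [← hU.isoSpec_hom]
    infer_instance
  haveI := h
  have e : (Scheme.Modules.pushforward (Spec.map (CommRingCat.ofHom φ))).obj
      ((Scheme.Modules.pushforward U.toSpecΓ).obj N) ≅
      (Scheme.Modules.pushforward (DerSch.chartImm U φ)).obj N :=
    (Scheme.Modules.pushforwardComp U.toSpecΓ (Spec.map (CommRingCat.ofHom φ))).app N
  haveI := Groth.Agent.Lib.Helper23.TensorQCoh.isQuasicoherent_of_iso e.symm
  exact isQuasicoherent_of_pushforward_iso U.toSpecΓ N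
    (isQuasicoherent_of_pushforward_spec (CommRingCat.ofHom φ) hφ _ inferInstance)

/-- S6235 -/
theorem isQCohD_of_isPseudoCoherentRelAll {Y : Scheme.{u}} (f : X ⟶ Y) (E : DCoh.D X)
    (hE : DerSch.IsPseudoCoherentRelAll f E) : DCoh.IsQCohD E := by
  intro q
  obtain ⟨-, 𝒱, h𝒱, hV⟩ := hE (q - 1)
  let G := DerivedCategory.Q.objPreimage E
  have eG : DCoh.toD X G ≅ E := DerivedCategory.Q.objObjPreimageIso E
  have hloc : ∀ x : X, ∃ U : X.Opens, x ∈ U ∧
      ((DCoh.HD (DCoh.toD X G) q).restrict U.ι).IsQuasicoherent := by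
    intro x
    have hx : f.base x ∈ (⨆ V ∈ 𝒱, (V : Y.Opens)) := by rw [h𝒱]; trivial
    simp only [Opens.mem_iSup] at hx
    obtain ⟨V, hV𝒱, hxV⟩ := hx
    obtain ⟨𝒰, h𝒰, hU⟩ := hV V hV𝒱
    have hx' : x ∈ (⨆ U ∈ 𝒰, (U : X.Opens)) := by rw [h𝒰]; exact hxV
    simp only [Opens.mem_iSup] at hx'
    obtain ⟨U, hU𝒰, hxU⟩ := hx'
    have hle : (U : X.Opens) ≤ f ⁻¹ᵁ (V : Y.Opens) := by
      rw [← h𝒰]
      exact le_iSup₂ (f := fun (U : X.affineOpens) (_ : U ∈ 𝒰) => (U : X.Opens)) U hU𝒰
    obtain ⟨k, φ, hφ, hpc⟩ := hU U hU𝒰 hle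
    refine ⟨U, hxU, ?_⟩
    haveI hcl := Groth.Agent.Lib.Helper1.ChartPC.isClosedImmersion_chartImm
      (U : X.Opens) U.2 φ hφ.1
    haveI := Groth.Agent.Lib.Helper17.FinLoc.preservesHomology_pushforward_of_isClosedImmersion
      (DerSch.chartImm (U : X.Opens) φ)
    have hK' := hpc G ⟨eG⟩
    haveI h1 := isQuasicoherent_HD_of_hasPresM _ (q - 1) q (by lia)
      ((isPseudoCoherentD_iff_hasPresM _ _).1 hK')
    let C := (DCoh.restrictCx (U : X.Opens)).obj G
    have e2 : DCoh.HD (DCoh.toD _ ((DerSch.pushCx (DerSch.chartImm (U : X.Opens) φ)).obj C)) q ≅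
        (Scheme.Modules.pushforward (DerSch.chartImm (U : X.Opens) φ)).obj (C.homology q) :=
      (DerivedCategory.homologyFunctorFactors _ q).app _ ≪≫
        (C.sc q).mapHomologyIso (Scheme.Modules.pushforward (DerSch.chartImm (U : X.Opens) φ))
    haveI := Groth.Agent.Lib.Helper23.TensorQCoh.isQuasicoherent_of_iso e2
    haveI : (C.homology q).IsQuasicoherent :=
      isQuasicoherent_of_pushforward_chartImm (U : X.Opens) U.2 φ hφ.1 _ inferInstance
    exact Groth.Agent.Lib.Helper23.TensorQCoh.isQuasicoherent_of_iso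
      (Groth.Agent.Lib.Helper1.ChartPC.homologyRestrictIso G (U : X.Opens) q).symm
  choose U hxU hU using hloc
  haveI : (DCoh.HD (DCoh.toD X G) q).IsQuasicoherent := by
    refine isQuasicoherent_of_open_cover _ U ?_ hU
    rw [IsOpenCover, eq_top_iff]
    intro x _
    exact Opens.mem_iSup.2 ⟨x, hxU x⟩
  exact Groth.Agent.Lib.Helper23.TensorQCoh.isQuasicoherent_of_iso
    ((DerivedCategory.homologyFunctor _ q).mapIso eG)

end Chart

end Groth.Agent.Lib.Helper1.ChartQC
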