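import Mathlib
import Groth.Agent.Lib.Helper2FinPres
import Groth.Agent.Lib.Helper3FlatOpenFP
import Groth.Agent.Lib.Helper2FlatOver
/-!
# Openness of the flat locus of a finitely presented module (helper2)

* `isFlatOverAt_iff_flat_localizedModule`: chart form of `FlatMod.IsFlatOverAt`.
* `isOpen_setOf_isFlatOverAt`: `f` locally f.p., `F` qcoh f.p. ⇒ `{x | F flat over Y at x}` open
  (uses helper3's algebra theorem `isOpen_flatLocus_of_finitePresentation`).
-/
set_option autoImplicit false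
universe u
open CategoryTheory Limits AlgebraicGeometry TopologicalSpace Opposite

namespace Groth.Agent.Lib.Helper2.FinPres

open Groth.Agent.Lib.Helper2.FlatOver

variable {X Y : Scheme.{u}}

/-- chart form of flatness over the base at a point: `F` is flat over `Y` at `x` iff the localization
of `Γ(F, U)` at the prime of `x` is flat over `Γ(Y, V)`. -/
theorem isFlatOverAt_iff_flat_localizedModule (f : X ⟶ Y) (F : X.Modules) [F.IsQuasicoherent]
    {U : X.Opens} (hU : IsAffineOpen U) {V : Y.Opens} (hV : IsAffineOpen V) (e : U ≤ f ⁻¹ᵁ V)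
    (x : X) (hx : x ∈ U) :
    letI : Module Γ(Y, V) Γ(F, U) := Module.compHom Γ(F, U) (f.appLE V U e).hom
    letI : Algebra Γ(Y, V) Γ(X, U) := (f.appLE V U e).hom.toAlgebra
    haveI : IsScalarTower Γ(Y, V) Γ(X, U) Γ(F, U) := IsScalarTower.of_algebraMap_smul (fun _ _ => rfl)
    FlatMod.IsFlatOverAt f F x ↔ Module.Flat Γ(Y, V)
      (LocalizedModule (hU.primeIdealOf ⟨x, hx⟩).asIdeal.primeCompl Γ(F, U)) := by
  letI mVF : Module Γ(Y, V) Γ(F, U) := Module.compHom Γ(F, U) (f.appLE V U e).hom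
  letI aVU : Algebra Γ(Y, V) Γ(X, U) := (f.appLE V U e).hom.toAlgebra
  haveI t1 : IsScalarTower Γ(Y, V) Γ(X, U) Γ(F, U) := IsScalarTower.of_algebraMap_smul (fun _ _ => rfl)
  rw [isFlatOverAt_iff_flat_base f F hV x (e hx)]
  letI mUP : Module Γ(X, U) (F.presheaf.stalk x) := moduleStalkSections F U x hx
  letI mVP : Module Γ(Y, V) (F.presheaf.stalk x) := moduleStalkBase f F V x (e hx)
  haveI t2 : IsScalarTower Γ(Y, V) Γ(X, U) (F.presheaf.stalk x) := by
    refine IsScalarTower.of_algebraMap_smul (fun a n => ?_)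
    change (X.presheaf.germ U x hx) ((f.appLE V U e).hom a) • n =
      (f.stalkMap x).hom (Y.presheaf.germ V (f.base x) (e hx) a) • n
    rw [stalkMap_germ_eq f e x hx a]
  haveI := isLocalizedModule_germ hU F x hx
  let T : LocalizedModule (hU.primeIdealOf ⟨x, hx⟩).asIdeal.primeCompl Γ(F, U) ≃ₗ[Γ(X, U)]
      F.presheaf.stalk x :=
    IsLocalizedModule.iso (hU.primeIdealOf ⟨x, hx⟩).asIdeal.primeCompl (germₗ F U x hx)
  let T' : LocalizedModule (hU.primeIdealOf ⟨x, hx⟩).asIdeal.primeCompl Γ(F, U) ≃ₗ[Γ(Y, V)]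
      F.presheaf.stalk x := T.restrictScalars Γ(Y, V)
  exact ⟨fun h => Module.Flat.of_linearEquiv T', fun h => Module.Flat.of_linearEquiv T'.symm⟩

/-- **Openness of the flat locus** of a finitely presented quasi-coherent module with respect to a
morphism locally of finite presentation. -/
theorem isOpen_setOf_isFlatOverAt (f : X ⟶ Y) [LocallyOfFinitePresentation f] (F : X.Modules)
    [F.IsQuasicoherent] [hF : SheafOfModules.IsFinitePresentation (R := X.ringCatSheaf) F] :
    IsOpen {x : X | FlatMod.IsFlatOverAt f F x} := by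
  rw [isOpen_iff_forall_mem_open]
  intro x hx
  obtain ⟨V, hV, hxV⟩ : ∃ V : Y.Opens, IsAffineOpen V ∧ f.base x ∈ V := by
    obtain ⟨_, ⟨V, hV, rfl⟩, hxV, -⟩ :=
      Y.isBasis_affineOpens.exists_subset_of_mem_open (Set.mem_univ (f.base x)) isOpen_univ
    exact ⟨V, hV, hxV⟩
  obtain ⟨U, hU, hxU, hUV, hfpM⟩ := exists_affine_nhds_finitePresentation F x (f ⁻¹ᵁ V) hxV
  have hfp : (f.appLE V U hUV).hom.FinitePresentation :=
    HasRingHomProperty.appLE (P := @LocallyOfFinitePresentation) f inferInstance ⟨V, hV⟩ ⟨U, hU⟩ hUV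
  letI mVF : Module Γ(Y, V) Γ(F, U) := Module.compHom Γ(F, U) (f.appLE V U hUV).hom
  letI aVU : Algebra Γ(Y, V) Γ(X, U) := (f.appLE V U hUV).hom.toAlgebra
  haveI t1 : IsScalarTower Γ(Y, V) Γ(X, U) Γ(F, U) := IsScalarTower.of_algebraMap_smul (fun _ _ => rfl)
  haveI : Algebra.FinitePresentation Γ(Y, V) Γ(X, U) := hfp
  have hW := Groth.Agent.Lib.Helper3.FlatOpen.isOpen_flatLocus_of_finitePresentation
    (R := Γ(Y, V)) (S := Γ(X, U)) (M := Γ(F, U))
  set W := {q : PrimeSpectrum Γ(X, U) | Module.Flat Γ(Y, V)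
    (LocalizedModule q.asIdeal.primeCompl Γ(F, U))} with hWdef
  have hcont : Continuous (fun y : U => hU.primeIdealOf y) := hU.isoSpec.hom.continuous
  refine ⟨Subtype.val '' ((fun y : U => hU.primeIdealOf y) ⁻¹' W), ?_,
    U.isOpen.isOpenMap_subtype_val _ (hW.preimage hcont), ?_⟩
  · rintro _ ⟨⟨y, hy⟩, hyW, rfl⟩
    exact (isFlatOverAt_iff_flat_localizedModule f F hU hV hUV y hy).mpr hyW
  · exact ⟨⟨x, hxU⟩, (isFlatOverAt_iff_flat_localizedModule f F hU hV hUV x hxU).mp hx, rfl⟩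

end Groth.Agent.Lib.Helper2.FinPres
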