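import Mathlib
import Groth.Agent.Lib.Helper26ModLocFree
import Groth.Agent.Lib.Helper2PullbackSec3
import Groth.Agent.Lib.Helper2FlatOpen
import Groth.Agent.Lib.Helper22LimBC
import Groth.Agent.Lib.Helper6LfpComp

/-!
# Flatness over a base descends to a finite stage of a limit of schemes, part A (helper26)

Namespace `Groth.Agent.Lib.Helper26.FlatLim`.

* `Sys.flat_stage'`: EGA IV 11.2.6 for a (helper18) `Sys`: `A = colim G i`, `C₀` f.p. `R`-algebra, `M₀` f.p. `C₀`-module,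
  `A ⊗ M₀` flat over `A` implies `G i ⊗ M₀` flat over `G i` for some `i` (same proof as S4848 via helper3's `FlatDesc*`).
* `flat_sections_pullback_iff`: in a cartesian square, over affine opens, `Γ(g'^*F, g'⁻¹U ⊓ f'⁻¹V')` is flat over
  `Γ(S', V')` iff `Γ(S', V') ⊗_{Γ(S, V)} Γ(F, U)` is.
-/

set_option autoImplicit false
set_option linter.style.haveILetI false
universe u
open CategoryTheory AlgebraicGeometry Limits TensorProduct Opposite TopologicalSpace MvPolynomial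
open Groth.Agent.Lib.Helper18ColimSys Groth.Agent.Lib.Helper3.FlatOpen
  Groth.Agent.Lib.Helper3.FlatLoc Groth.Agent.Lib.Helper3.FlatDesc
  Groth.Agent.Lib.Helper26.ModLocFree
  Groth.Agent.Lib.Helper2.FlatOver Groth.Agent.Lib.Helper2.PullbackFlat Groth.Agent.Lib.Helper2.PullbackSec

namespace Groth.Agent.Lib.Helper26.FlatLim

section alg
variable {R : Type u} [CommRing R] {ι : Type u} {G : ι → Type u} [∀ i, CommRing (G i)]
    [∀ i, Algebra R (G i)] {A : Type u} [CommRing A] [Algebra R A] {g : ∀ i, G i →ₐ[R] A}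

attribute [local instance] MvPolynomial.algebraMvPolynomial

/-- EGA IV 11.2.6 for a `Sys`: flatness of `A ⊗ M₀` over the colimit `A`, for `M₀` a finitely presented module over a
finitely presented `R`-algebra `C₀`, descends to a stage. -/
theorem Sys.flat_stage' (hS : Sys R G A g) (C₀ : Type u) [CommRing C₀] [Algebra R C₀]
    [Algebra.FinitePresentation R C₀] (M₀ : Type u) [AddCommGroup M₀] [Module C₀ M₀] [Module R M₀]
    [IsScalarTower R C₀ M₀] [Module.FinitePresentation C₀ M₀]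
    (hflat : Module.Flat A (A ⊗[R] M₀)) :
    ∃ i : ι, Module.Flat (G i) (G i ⊗[R] M₀) := by
  obtain ⟨n, k, m, Λ, hΛ, w, hT⟩ := exists_model_tensor R C₀ M₀
  haveI : Algebra.FiniteType ℤ Λ := (Subalgebra.fg_iff_finiteType Λ).mp hΛ
  haveI : IsNoetherianRing Λ := Algebra.FiniteType.isNoetherianRing ℤ Λ
  obtain ⟨eA⟩ := hT A
  have hflat' : Module.Flat A ((Fin k → MvPolynomial (Fin n) A) ⧸
      KT w (MvPolynomial (Fin n) A)) := Module.Flat.of_linearEquiv eA.symm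
  obtain ⟨A'', hA''fg, -, hA''flat⟩ := exists_fg_subalgebra_flat_global w hflat' ∅
  haveI : Algebra.FiniteType Λ A'' := (Subalgebra.fg_iff_finiteType A'').mp hA''fg
  haveI : Algebra.FinitePresentation Λ A'' :=
    Algebra.FinitePresentation.of_finiteType.mp inferInstance
  obtain ⟨i, ψ, -⟩ := (Sys.restrictScalars hS Λ).lift_algHom A'' A''.val
  refine ⟨i, ?_⟩
  obtain ⟨eG⟩ := hT (G i)
  have := flat_model_of_algHom w ψ hA''flat
  exact Module.Flat.of_linearEquiv eG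

end alg



section cartesian
variable {X S X' S' : Scheme.{u}} {f : X ⟶ S} {f' : X' ⟶ S'} {g' : X' ⟶ X} {g : S' ⟶ S}

/-- In a cartesian square, over affine opens, the sections of `g'^*F` over `g'⁻¹U ⊓ f'⁻¹V'` are flat over
`Γ(S', V')` iff `Γ(S', V') ⊗_{Γ(S, V)} Γ(F, U)` is. -/
theorem flat_sections_pullback_iff (hc : IsPullback g' f' f g) (F : X.Modules) [F.IsQuasicoherent]
    {V : S.Opens} {V' : S'.Opens} {U : X.Opens} (eV' : V' ≤ g ⁻¹ᵁ V) (eU : U ≤ f ⁻¹ᵁ V)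
    (hV : IsAffineOpen V) (hV' : IsAffineOpen V') (hU : IsAffineOpen U)
    (e2 : g' ⁻¹ᵁ U ⊓ f' ⁻¹ᵁ V' ≤ f' ⁻¹ᵁ V') :
    letI : Algebra Γ(S, V) Γ(S', V') := (g.appLE V V' eV').hom.toAlgebra
    letI : Module Γ(S, V) Γ(F, U) := Module.compHom Γ(F, U) (f.appLE V U eU).hom
    @Module.Flat Γ(S', V') Γ((Scheme.Modules.pullback g').obj F, g' ⁻¹ᵁ U ⊓ f' ⁻¹ᵁ V') _ _
        (Module.compHom _ (f'.appLE V' _ e2).hom) ↔
      Module.Flat Γ(S', V') (Γ(S', V') ⊗[Γ(S, V)] Γ(F, U)) := by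
  set H := (Scheme.Modules.pullback g').obj F with hH
  haveI : H.IsQuasicoherent := isQuasicoherent_pullback g' F
  set U' : X'.Opens := g' ⁻¹ᵁ U ⊓ f' ⁻¹ᵁ V' with hU'def
  have hU' : IsAffineOpen U' := isAffineOpen_inf_preimage hc eV' eU hV hV' hU
  have e1 : U' ≤ g' ⁻¹ᵁ U := inf_le_left
  letI aAB : Algebra Γ(S, V) Γ(X, U) := (f.appLE V U eU).hom.toAlgebra
  letI aAA' : Algebra Γ(S, V) Γ(S', V') := (g.appLE V V' eV').hom.toAlgebra
  letI aBB' : Algebra Γ(X, U) Γ(X', U') := (g'.appLE U U' e1).hom.toAlgebra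
  letI aA'B' : Algebra Γ(S', V') Γ(X', U') := (f'.appLE V' U' e2).hom.toAlgebra
  letI aAB' : Algebra Γ(S, V) Γ(X', U') :=
    ((g'.appLE U U' e1).hom.comp (f.appLE V U eU).hom).toAlgebra
  haveI tABB' : IsScalarTower Γ(S, V) Γ(X, U) Γ(X', U') :=
    IsScalarTower.of_algebraMap_eq (fun a => rfl)
  haveI tAA'B' : IsScalarTower Γ(S, V) Γ(S', V') Γ(X', U') := by
    refine IsScalarTower.of_algebraMap_eq (fun a => ?_)
    change (g'.appLE U U' e1).hom ((f.appLE V U eU).hom a) =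
      (f'.appLE V' U' e2).hom ((g.appLE V V' eV').hom a)
    have h1 := Scheme.Hom.appLE_comp_appLE g' f V U U' eU e1
    have h2 := Scheme.Hom.appLE_comp_appLE f' g V V' U' eV' e2
    have h3 : (f.appLE V U eU ≫ g'.appLE U U' e1) = (g.appLE V V' eV' ≫ f'.appLE V' U' e2) := by
      rw [h1, h2]
      congr 1
      exact hc.w
    exact congrArg (fun φ => φ.hom a) h3
  haveI hPO : Algebra.IsPushout Γ(S, V) Γ(S', V') Γ(X, U) Γ(X', U') :=
    algebra_isPushout hc eV' eU hV hV' hU e1 e2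
  letI mAM : Module Γ(S, V) Γ(F, U) := Module.compHom Γ(F, U) (f.appLE V U eU).hom
  haveI tABM : IsScalarTower Γ(S, V) Γ(X, U) Γ(F, U) :=
    IsScalarTower.of_algebraMap_smul (fun a n => rfl)
  letI mA'Q : Module Γ(S', V') Γ(H, U') := Module.compHom _ (f'.appLE V' U' e2).hom
  haveI tA'B'Q : IsScalarTower Γ(S', V') Γ(X', U') Γ(H, U') :=
    IsScalarTower.of_algebraMap_smul (fun a n => rfl)
  obtain ⟨T⟩ := nonempty_sections_linearEquiv g' F hU' hU e1
  let T' : Γ(X', U') ⊗[Γ(X, U)] Γ(F, U) ≃ₗ[Γ(S', V')] Γ(H, U') := T.restrictScalars Γ(S', V')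
  let E : Γ(X', U') ⊗[Γ(X, U)] Γ(F, U) ≃ₗ[Γ(S', V')] Γ(S', V') ⊗[Γ(S, V)] Γ(F, U) :=
    Algebra.IsPushout.cancelBaseChange Γ(S, V) Γ(S', V') Γ(X, U) Γ(X', U') Γ(F, U)
  constructor
  · intro h
    haveI : Module.Flat Γ(S', V') Γ(H, U') := h
    exact Module.Flat.of_linearEquiv (E.symm.trans T')
  · intro h
    exact Module.Flat.of_linearEquiv (T'.symm.trans E)

end cartesian

end Groth.Agent.Lib.Helper26.FlatLim
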