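import Mathlib
import Groth.Agent.Lib.Helper26ModLocFree
import Groth.Agent.Lib.Helper2PullbackSec3
import Groth.Agent.Lib.Helper2FlatOpen
import Groth.Agent.Lib.Helper22LimBC
import Groth.Agent.Lib.Helper6LfpComp
import Groth.Agent.Lib.Helper26FlatLimA

/-!
# Flatness over a base descends to a finite stage of a limit of schemes, part B (helper26)

Namespace `Groth.Agent.Lib.Helper26.FlatLim`.

* `exists_stage_chart`: chart version of EGA IV 11.2.6: `S = lim S_j`, `f₀ : X₀ ⟶ S_{i₀}` l.f.p., `F₀` q.c. f.p. on `X₀`,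
  `U ⊆ X₀`, `V ⊆ S_{i₀}` affine with `U ≤ f₀⁻¹V`; if the pullback of `F₀` to `X₀ ×_{S_{i₀}} S` is flat over `S` at all
  points above `U`, then for all `j' → j` (some `j`) the pullback of `F₀` to `X₀ ×_{S_{i₀}} S_{j'}` is flat over `S_{j'}` at
  all points above `U`.
-/

set_option autoImplicit false
set_option linter.style.haveILetI false
universe u
open CategoryTheory AlgebraicGeometry Limits TensorProduct Opposite TopologicalSpace MvPolynomial
open Groth.Agent.Lib.Helper18ColimSys Groth.Agent.Lib.Helper3.FlatOpen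
  Groth.Agent.Lib.Helper3.FlatLoc Groth.Agent.Lib.Helper3.FlatDesc
  Groth.Agent.Lib.Helper26.ModLocFree Groth.Agent.Lib.Helper26.ModLim
  Groth.Agent.Lib.Helper2.FlatOver Groth.Agent.Lib.Helper2.PullbackFlat Groth.Agent.Lib.Helper2.PullbackSec

namespace Groth.Agent.Lib.Helper26.FlatLim

section chart
variable {I : Type u} [SmallCategory I] [IsCofiltered I] (D : I ⥤ Scheme.{u}) (c : Cone D)
  (hc : IsLimit c) [∀ (i j : I) (f : i ⟶ j), IsAffineHom (D.map f)] (i₀ : I)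

attribute [local instance] algG algA

include hc in
theorem exists_stage_chart {X₀ : Scheme.{u}} (f₀ : X₀ ⟶ D.obj i₀) [LocallyOfFinitePresentation f₀]
    (F₀ : X₀.Modules) [F₀.IsQuasicoherent] [SheafOfModules.IsFinitePresentation (R := X₀.ringCatSheaf) F₀]
    {U : X₀.Opens} (hU : IsAffineOpen U) {V : (D.obj i₀).Opens} (hV : IsAffineOpen V)
    (e : U ≤ f₀ ⁻¹ᵁ V)
    {P : Scheme.{u}} {qX : P ⟶ X₀} {pX : P ⟶ c.pt} (hP : IsPullback qX pX f₀ (c.π.app i₀))
    (H : ∀ x : P, qX x ∈ U → FlatMod.IsFlatOverAt pX ((Scheme.Modules.pullback qX).obj F₀) x) :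
    ∃ j : Over i₀, ∀ (j' : Over i₀) (_ : j' ⟶ j) {Xj : Scheme.{u}} (p : Xj ⟶ X₀)
      (b : Xj ⟶ D.obj j'.left), IsPullback p b f₀ (D.map j'.hom) → ∀ x : Xj, p x ∈ U →
        FlatMod.IsFlatOverAt b ((Scheme.Modules.pullback p).obj F₀) x := by
  -- the algebra
  letI aBC : Algebra Γ(D.obj i₀, V) Γ(X₀, U) := (f₀.appLE V U e).hom.toAlgebra
  haveI fpC : Algebra.FinitePresentation Γ(D.obj i₀, V) Γ(X₀, U) := by
    have := HasRingHomProperty.appLE (P := @LocallyOfFinitePresentation) f₀ inferInstance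
      ⟨V, hV⟩ ⟨U, hU⟩ e
    exact this
  letI mBM : Module Γ(D.obj i₀, V) Γ(F₀, U) := Module.compHom Γ(F₀, U) (f₀.appLE V U e).hom
  haveI tBCM : IsScalarTower Γ(D.obj i₀, V) Γ(X₀, U) Γ(F₀, U) :=
    IsScalarTower.of_algebraMap_smul (fun a n => rfl)
  haveI fpM : Module.FinitePresentation Γ(X₀, U) Γ(F₀, U) :=
    Groth.Agent.Lib.Helper2.FPAff.finitePresentation_sections F₀ hU
  -- flatness at the limit
  haveI hπ : IsAffineHom (c.π.app i₀) := isAffineHom_π_app D c hc i₀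
  have hV' : IsAffineOpen (c.π.app i₀ ⁻¹ᵁ V) := hV.preimage _
  have hU' : IsAffineOpen (qX ⁻¹ᵁ U ⊓ pX ⁻¹ᵁ (c.π.app i₀ ⁻¹ᵁ V)) :=
    isAffineOpen_inf_preimage hP le_rfl e hV hV' hU
  haveI : ((Scheme.Modules.pullback qX).obj F₀).IsQuasicoherent := isQuasicoherent_pullback qX F₀
  have hfl := flat_sections_of_isFlatOverAt pX ((Scheme.Modules.pullback qX).obj F₀) hU' hV'
    inf_le_right (fun x hx => H x hx.1)
  have hflA := (flat_sections_pullback_iff hP F₀ le_rfl e hV hV' hU inf_le_right).1 hfl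
  obtain ⟨j, hj⟩ := Sys.flat_stage' (sys D c hc i₀ V hV) Γ(X₀, U) Γ(F₀, U) hflA
  refine ⟨j, fun j' a Xj p b hpb x hx => ?_⟩
  have hj' := flat_tensor_of_algHom (trAlg D i₀ V a) Γ(F₀, U) hj
  have hVj : IsAffineOpen (D.map j'.hom ⁻¹ᵁ V) := hV.preimage _
  have hUj : IsAffineOpen (p ⁻¹ᵁ U ⊓ b ⁻¹ᵁ (D.map j'.hom ⁻¹ᵁ V)) :=
    isAffineOpen_inf_preimage hpb le_rfl e hV hVj hU
  haveI : ((Scheme.Modules.pullback p).obj F₀).IsQuasicoherent := isQuasicoherent_pullback p F₀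
  have hflj := (flat_sections_pullback_iff hpb F₀ le_rfl e hV hVj hU inf_le_right).2 hj'
  refine isFlatOverAt_of_flat_sections b _ hUj hVj inf_le_right hflj x ⟨hx, ?_⟩
  show (D.map j'.hom) (b x) ∈ V
  have : (D.map j'.hom) (b x) = f₀ (p x) := by
    have := congrArg (fun φ => φ.base x) hpb.w
    simpa using this.symm
  rw [this]
  exact e hx

end chart

end Groth.Agent.Lib.Helper26.FlatLim
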