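import Mathlib
import Groth.Agent.Lib.Helper26FlatLimA
import Groth.Agent.Lib.Helper26FlatLimB
import Groth.Agent.Lib.Helper4NormDelta

/-!
# Flatness over a base descends to a finite stage of a limit of schemes, part C (helper26)

Namespace `Groth.Agent.Lib.Helper26.FlatLim`.

* `isFlatOverAt_of_iso`: flatness over the base at a point is invariant under isomorphisms of modules.
* `exists_stage_isFlatOver`: EGA IV 11.2.6 (ii) (base system `(S_j)`): if the pullback of `F₀` to `X₀ ×_{S_{i₀}} S` is flat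
  over `S` (`X₀` quasi-compact, l.f.p. over `S_{i₀}`, `F₀` q.c. f.p.), then the pullback to `X₀ ×_{S_{i₀}} S_{j'}` is flat over
  `S_{j'}` for all `j' → j`, for some `j`.
* `isFlatOverAt_of_stage`: base change of flatness in a tower of two cartesian squares.
-/

set_option autoImplicit false
set_option linter.style.haveILetI false
universe u
open CategoryTheory AlgebraicGeometry Limits TensorProduct Opposite TopologicalSpace MvPolynomial
open Groth.Agent.Lib.Helper18ColimSys Groth.Agent.Lib.Helper3.FlatOpen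
  Groth.Agent.Lib.Helper3.FlatLoc Groth.Agent.Lib.Helper3.FlatDesc
  Groth.Agent.Lib.Helper26.ModLocFree Groth.Agent.Lib.Helper26.ModLim
  Groth.Agent.Lib.Helper2.FlatOver Groth.Agent.Lib.Helper2.PullbackFlat Groth.Agent.Lib.Helper2.PullbackSec
  Groth.Agent.Lib.Helper4.NormDelta

namespace Groth.Agent.Lib.Helper26.FlatLim

theorem stalkHom_comp {X : Scheme.{u}} {M N K : X.Modules} (φ : M ⟶ N) (ψ : N ⟶ K) (x : X)
    (m : M.presheaf.stalk x) : stalkHom ψ x (stalkHom φ x m) = stalkHom (φ ≫ ψ) x m := by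
  unfold stalkHom
  have : Scheme.Modules.Hom.mapPresheaf (φ ≫ ψ) =
      Scheme.Modules.Hom.mapPresheaf φ ≫ Scheme.Modules.Hom.mapPresheaf ψ :=
    (Scheme.Modules.toPresheaf X).map_comp φ ψ
  rw [this]
  exact (congrArg (fun k => k m) (congrArg (fun k => (ConcreteCategory.hom k : _ → _))
    ((TopCat.Presheaf.stalkFunctor AddCommGrpCat.{u} x).map_comp (Scheme.Modules.Hom.mapPresheaf φ)
      (Scheme.Modules.Hom.mapPresheaf ψ)))).symm

theorem stalkHom_id {X : Scheme.{u}} (M : X.Modules) (x : X)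
    (m : M.presheaf.stalk x) : stalkHom (𝟙 M) x m = m := by
  unfold stalkHom
  have : Scheme.Modules.Hom.mapPresheaf (𝟙 M) = 𝟙 _ := (Scheme.Modules.toPresheaf X).map_id M
  rw [this]
  exact congrArg (fun k => k m) (congrArg (fun k => (ConcreteCategory.hom k : _ → _))
    ((TopCat.Presheaf.stalkFunctor AddCommGrpCat.{u} x).map_id M.presheaf))

/-- flatness over the base at a point is invariant under isomorphisms of modules. -/
theorem isFlatOverAt_of_iso {X S : Scheme.{u}} (f : X ⟶ S) {M N : X.Modules} (e : M ≅ N) (x : X)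
    (h : FlatMod.IsFlatOverAt f M x) : FlatMod.IsFlatOverAt f N x := by
  unfold FlatMod.IsFlatOverAt at h ⊢
  letI := FlatMod.moduleStalkOver f M x
  letI := FlatMod.moduleStalkOver f N x
  let E : M.presheaf.stalk x ≃ₗ[S.presheaf.stalk (f.base x)] N.presheaf.stalk x :=
    { toFun := stalkLin e.hom x
      invFun := stalkLin e.inv x
      map_add' := map_add _
      map_smul' := fun r m => (stalkLin e.hom x).map_smul ((f.stalkMap x).hom r) m
      left_inv := fun m => by
        show stalkHom e.inv x (stalkHom e.hom x m) = m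
        rw [stalkHom_comp, e.hom_inv_id, stalkHom_id]
      right_inv := fun m => by
        show stalkHom e.hom x (stalkHom e.inv x m) = m
        rw [stalkHom_comp, e.inv_hom_id, stalkHom_id] }
  exact Module.Flat.of_linearEquiv E.symm

theorem isFlatOver_of_iso {X S : Scheme.{u}} (f : X ⟶ S) {M N : X.Modules} (e : M ≅ N)
    (h : FlatMod.IsFlatOver f M) : FlatMod.IsFlatOver f N :=
  fun x => isFlatOverAt_of_iso f e x (h x)

/-- base change of flatness in a tower of two cartesian squares (`X → X_i → X₀` over `Y → Y_i → Y₀`). -/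
theorem isFlatOverAt_of_stage {X Y Xi Yi X₀ Y₀ : Scheme.{u}} {f : X ⟶ Y} {fi : Xi ⟶ Yi} {f₀ : X₀ ⟶ Y₀}
    {qX : X ⟶ X₀} {qY : Y ⟶ Y₀} {pX : Xi ⟶ X₀} {pY : Yi ⟶ Y₀} {vX : X ⟶ Xi} {vY : Y ⟶ Yi}
    (hX : IsPullback qX f f₀ qY) (hi : IsPullback pX fi f₀ pY) (hvX : vX ≫ pX = qX) (hvY : vY ≫ pY = qY)
    (hv : vX ≫ fi = f ≫ vY) (F₀ : X₀.Modules) [F₀.IsQuasicoherent] (x : X)
    (h : FlatMod.IsFlatOverAt fi ((Scheme.Modules.pullback pX).obj F₀) (vX x)) :
    FlatMod.IsFlatOverAt f ((Scheme.Modules.pullback qX).obj F₀) x := by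
  subst hvX hvY
  have hleft : IsPullback vX f fi vY := IsPullback.of_right hX hv hi
  haveI : ((Scheme.Modules.pullback pX).obj F₀).IsQuasicoherent := isQuasicoherent_pullback pX F₀
  have := isFlatOverAt_pullback_of_isPullback hleft ((Scheme.Modules.pullback pX).obj F₀) x h
  exact isFlatOverAt_of_iso f ((Scheme.Modules.pullbackComp vX pX).app F₀) x this

section glob
variable {I : Type u} [SmallCategory I] [IsCofiltered I] (D : I ⥤ Scheme.{u}) (c : Cone D)
  (hc : IsLimit c) [∀ (i j : I) (f : i ⟶ j), IsAffineHom (D.map f)] (i₀ : I)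

include hc in
/-- EGA IV 11.2.6 (ii), with the base system `(S_j)` itself: flatness over the limit descends to a stage. -/
theorem exists_stage_isFlatOver {X₀ : Scheme.{u}} [CompactSpace X₀] (f₀ : X₀ ⟶ D.obj i₀)
    [LocallyOfFinitePresentation f₀]
    (F₀ : X₀.Modules) [F₀.IsQuasicoherent] [SheafOfModules.IsFinitePresentation (R := X₀.ringCatSheaf) F₀]
    {P : Scheme.{u}} {qX : P ⟶ X₀} {pX : P ⟶ c.pt} (hP : IsPullback qX pX f₀ (c.π.app i₀))
    (H : FlatMod.IsFlatOver pX ((Scheme.Modules.pullback qX).obj F₀)) :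
    ∃ j : Over i₀, ∀ (j' : Over i₀) (_ : j' ⟶ j) {Xj : Scheme.{u}} (p : Xj ⟶ X₀)
      (b : Xj ⟶ D.obj j'.left), IsPullback p b f₀ (D.map j'.hom) →
        FlatMod.IsFlatOver b ((Scheme.Modules.pullback p).obj F₀) := by
  classical
  choose U V hU hV hxU hUV using fun x : X₀ => exists_affine_nhds f₀ x
  choose jx hjx using fun x : X₀ =>
    exists_stage_chart D c hc i₀ f₀ F₀ (hU x) (hV x) (hUV x) hP (fun y _ => H y)
  obtain ⟨t, -, ht⟩ := isCompact_univ.elim_nhds_subcover (fun x => (U x : Set X₀))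
    (fun x _ => (U x).isOpen.mem_nhds (hxU x))
  obtain ⟨j, hj⟩ := IsCofiltered.inf_objs_exists (t.image jx)
  refine ⟨j, fun j' a Xj p b hpb x => ?_⟩
  have hmem : p x ∈ ⋃ y ∈ t, (U y : Set X₀) := ht (Set.mem_univ _)
  simp only [Set.mem_iUnion] at hmem
  obtain ⟨y, hy, hxy⟩ := hmem
  obtain ⟨a'⟩ := hj (Finset.mem_image_of_mem jx hy)
  exact hjx y j' (a ≫ a') p b hpb x hxy

end glob

end Groth.Agent.Lib.Helper26.FlatLim
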