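import Mathlib
import Groth.Agent.Lib.Helper26FlatLimC
import Groth.Agent.Lib.Helper22LimBC
import Groth.Agent.Lib.Helper18Strict6

/-!
# Flatness over a base descends to a finite stage of a limit of schemes, part D (helper26)

Namespace `Groth.Agent.Lib.Helper26.FlatLim`.

* `exists_stage_isFlatOverAt`: EGA IV 11.2.6 (i) (pointwise, base system `(S_j)`): if the pullback of `F₀` to
  `X₀ ×_{S_{i₀}} S` is flat over `S` at `x`, then for some `j` and all `j' → j` the pullback of `F₀` to `X₀ ×_{S_{i₀}} S_{j'}`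
  is flat over `S_{j'}` at the image of `x`. Uses openness of the flat locus (helper2).
-/

set_option autoImplicit false
set_option linter.style.haveILetI false
universe u
open CategoryTheory AlgebraicGeometry Limits TensorProduct Opposite TopologicalSpace
open Groth.Agent.Lib.Helper26.ModLim
  Groth.Agent.Lib.Helper2.FlatOver Groth.Agent.Lib.Helper2.PullbackFlat Groth.Agent.Lib.Helper2.PullbackSec
  Groth.Agent.Lib.Helper22.LimBC

namespace Groth.Agent.Lib.Helper26.FlatLim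

section pt
variable {I : Type u} [SmallCategory I] [IsCofiltered I] (D : I ⥤ Scheme.{u}) (c : Cone D)
  (hc : IsLimit c) [∀ (i j : I) (f : i ⟶ j), IsAffineHom (D.map f)] (i₀ : I)

include hc in
theorem exists_stage_isFlatOverAt {X₀ : Scheme.{u}} (f₀ : X₀ ⟶ D.obj i₀)
    [LocallyOfFinitePresentation f₀]
    (F₀ : X₀.Modules) [F₀.IsQuasicoherent] [hF₀ : SheafOfModules.IsFinitePresentation (R := X₀.ringCatSheaf) F₀]
    {P : Scheme.{u}} {qX : P ⟶ X₀} {pX : P ⟶ c.pt} (hP : IsPullback qX pX f₀ (c.π.app i₀)) (x : P)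
    (H : FlatMod.IsFlatOverAt pX ((Scheme.Modules.pullback qX).obj F₀) x) :
    ∃ j : Over i₀, ∀ (j' : Over i₀) (_ : j' ⟶ j) {Xj : Scheme.{u}} (p : Xj ⟶ X₀)
      (b : Xj ⟶ D.obj j'.left) (_ : IsPullback p b f₀ (D.map j'.hom)) (v : P ⟶ Xj),
      v ≫ p = qX → v ≫ b = pX ≫ c.π.app j'.left →
        FlatMod.IsFlatOverAt b ((Scheme.Modules.pullback p).obj F₀) (v x) := by
  haveI hD : ∀ {i j : I} (φ : i ⟶ j), IsAffineHom (D.map φ) := fun φ => inferInstance
  -- the `X`-system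
  have hc'' : IsLimit (bcCone i₀ hP) := isLimitBcCone i₀ hP hc
  let k₀ : Over i₀ := Over.mk (𝟙 i₀)
  -- the flat locus
  haveI : LocallyOfFinitePresentation pX := MorphismProperty.of_isPullback hP inferInstance
  haveI : ((Scheme.Modules.pullback qX).obj F₀).IsQuasicoherent := isQuasicoherent_pullback qX F₀
  haveI : SheafOfModules.IsFinitePresentation (R := P.ringCatSheaf) ((Scheme.Modules.pullback qX).obj F₀) :=
    Groth.Agent.Helper18Strict.isFP_pullback qX F₀ hF₀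
  have hΩ := Groth.Agent.Lib.Helper2.FinPres.isOpen_setOf_isFlatOverAt pX ((Scheme.Modules.pullback qX).obj F₀)
  let Ω : P.Opens := ⟨_, hΩ⟩
  -- a chart
  obtain ⟨U₀, V₀, hU₀, hV₀, hxU₀, hUV₀⟩ := exists_affine_nhds f₀ (qX x)
  let U₀' : ((bcDiagram D i₀ f₀).obj k₀).Opens := dFst D i₀ f₀ k₀ ⁻¹ᵁ U₀
  have hU₀' : IsAffineOpen U₀' := hU₀.preimage _
  haveI hπ : IsAffineHom ((bcCone i₀ hP).π.app k₀) :=
    isAffineHom_π_app (bcDiagram D i₀ f₀) (bcCone i₀ hP) hc'' k₀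
  have hU : IsAffineOpen ((bcCone i₀ hP).π.app k₀ ⁻¹ᵁ U₀') := hU₀'.preimage _
  have hxU : x ∈ (bcCone i₀ hP).π.app k₀ ⁻¹ᵁ U₀' := by
    show dFst D i₀ f₀ k₀ (bcπ i₀ hP k₀ x) ∈ U₀
    have : dFst D i₀ f₀ k₀ (bcπ i₀ hP k₀ x) = qX x := by
      have := congrArg (fun φ => φ.base x) (bcπ_fst i₀ hP k₀)
      simpa using this
    rw [this]; exact hxU₀
  obtain ⟨s, hsΩ, hxs⟩ := hU.exists_basicOpen_le (V := Ω) ⟨x, H⟩ hxU
  obtain ⟨k, a, sk, hsk⟩ := exists_appLE_eq (bcDiagram D i₀ f₀) (bcCone i₀ hP) hc'' k₀ U₀' hU₀' s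
  -- the basic open `W = D(s_k)` of `X_k`
  have hUk : IsAffineOpen ((bcDiagram D i₀ f₀).map a ⁻¹ᵁ U₀') := hU₀'.preimage _
  have hW : IsAffineOpen (((bcDiagram D i₀ f₀).obj k).basicOpen sk) := hUk.basicOpen sk
  have hsW : P.basicOpen s = ((bcCone i₀ hP).π.app k₀ ⁻¹ᵁ U₀') ⊓
      (bcCone i₀ hP).π.app k ⁻¹ᵁ (((bcDiagram D i₀ f₀).obj k).basicOpen sk) := by
    rw [hsk]; exact Scheme.basicOpen_appLE _ _ _ _ _
  have hWU : ((bcDiagram D i₀ f₀).obj k).basicOpen sk ≤ dFst D i₀ f₀ k ⁻¹ᵁ U₀ := by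
    refine (Scheme.basicOpen_le _ sk).trans ?_
    show (bcDiagram D i₀ f₀).map a ⁻¹ᵁ (dFst D i₀ f₀ k₀ ⁻¹ᵁ U₀) ≤ _
    rw [← Scheme.Hom.comp_preimage, map_dFst]
  -- the chart lemma at stage `k`
  haveI : LocallyOfFinitePresentation (dSnd D i₀ f₀ k) :=
    MorphismProperty.of_isPullback (isPullback_d D i₀ f₀ k) inferInstance
  haveI : ((Scheme.Modules.pullback (dFst D i₀ f₀ k)).obj F₀).IsQuasicoherent :=
    isQuasicoherent_pullback _ F₀
  haveI : SheafOfModules.IsFinitePresentation (R := ((bcDiagram D i₀ f₀).obj k).ringCatSheaf)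
      ((Scheme.Modules.pullback (dFst D i₀ f₀ k)).obj F₀) :=
    Groth.Agent.Helper18Strict.isFP_pullback _ F₀ hF₀
  have hVk : IsAffineOpen (D.map k.hom ⁻¹ᵁ V₀) := hV₀.preimage _
  have eWV : ((bcDiagram D i₀ f₀).obj k).basicOpen sk ≤ dSnd D i₀ f₀ k ⁻¹ᵁ (D.map k.hom ⁻¹ᵁ V₀) := by
    refine hWU.trans ?_
    rw [← Scheme.Hom.comp_preimage, ← d_condition, Scheme.Hom.comp_preimage]
    exact (Scheme.Hom.preimage_mono _ hUV₀)
  have Hk : ∀ y : P, (bcπ i₀ hP k) y ∈ ((bcDiagram D i₀ f₀).obj k).basicOpen sk →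
      FlatMod.IsFlatOverAt pX ((Scheme.Modules.pullback (bcπ i₀ hP k)).obj
        ((Scheme.Modules.pullback (dFst D i₀ f₀ k)).obj F₀)) y := by
    intro y hy
    have hy0 : y ∈ (bcCone i₀ hP).π.app k₀ ⁻¹ᵁ U₀' := by
      show bcπ i₀ hP k₀ y ∈ U₀'
      have e1 : bcπ i₀ hP k₀ y = (bcDiagram D i₀ f₀).map a (bcπ i₀ hP k y) := by
        have := congrArg (fun φ => φ.base y) (bcπ_map i₀ hP a)
        simpa using this.symm
      rw [e1]
      exact Scheme.basicOpen_le _ sk hy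
    have hyΩ : y ∈ Ω := hsΩ (hsW.ge ⟨hy0, hy⟩)
    have e : (Scheme.Modules.pullback (bcπ i₀ hP k)).obj
        ((Scheme.Modules.pullback (dFst D i₀ f₀ k)).obj F₀) ≅ (Scheme.Modules.pullback qX).obj F₀ :=
      (Scheme.Modules.pullbackComp (bcπ i₀ hP k) (dFst D i₀ f₀ k)).app F₀ ≪≫
        (Scheme.Modules.pullbackCongr (bcπ_fst i₀ hP k)).app F₀
    exact isFlatOverAt_of_iso pX e.symm y hyΩ
  obtain ⟨l, hl⟩ := exists_stage_chart D c hc k.left (dSnd D i₀ f₀ k)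
    ((Scheme.Modules.pullback (dFst D i₀ f₀ k)).obj F₀) hW hVk eWV (isPullback_bcπ i₀ hP k) Hk
  refine ⟨Over.mk (l.hom ≫ k.hom), fun j' a' Xj p b hpb v hv1 hv2 => ?_⟩
  let l' : Over k.left := Over.mk (a'.left ≫ l.hom)
  have hw : D.map j'.hom = D.map l'.hom ≫ D.map k.hom := by
    rw [← D.map_comp]
    congr 1
    have := Over.w a'
    simpa [l'] using this.symm
  let p' : Xj ⟶ (bcDiagram D i₀ f₀).obj k := dLift k p (b ≫ D.map l'.hom) (by
    rw [hpb.w, hw, Category.assoc])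
  have hp'1 : p' ≫ dFst D i₀ f₀ k = p := dLift_fst _ _ _ _
  have hp'2 : p' ≫ dSnd D i₀ f₀ k = b ≫ D.map l'.hom := dLift_snd _ _ _ _
  have hp' : IsPullback p' b (dSnd D i₀ f₀ k) (D.map l'.hom) := by
    refine IsPullback.of_right ?_ hp'2 (isPullback_d D i₀ f₀ k)
    rw [hp'1, ← hw]
    exact hpb
  have hvp' : v ≫ p' = bcπ i₀ hP k := by
    apply d_hom_ext
    · rw [Category.assoc, hp'1, hv1, bcπ_fst]
    · rw [Category.assoc, hp'2, reassoc_of% hv2, bcπ_snd]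
      congr 1
      exact c.w l'.hom
  have hmem : p' (v x) ∈ ((bcDiagram D i₀ f₀).obj k).basicOpen sk := by
    have e1 : p' (v x) = bcπ i₀ hP k x := by
      have := congrArg (fun φ => φ.base x) hvp'
      simpa using this
    rw [e1]
    have : x ∈ P.basicOpen s := hxs
    rw [hsW] at this
    exact this.2
  have := hl l' (Over.homMk a'.left) p' b hp' (v x) hmem
  have e : (Scheme.Modules.pullback p').obj ((Scheme.Modules.pullback (dFst D i₀ f₀ k)).obj F₀) ≅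
      (Scheme.Modules.pullback p).obj F₀ :=
    (Scheme.Modules.pullbackComp p' (dFst D i₀ f₀ k)).app F₀ ≪≫
      (Scheme.Modules.pullbackCongr hp'1).app F₀
  exact isFlatOverAt_of_iso b e (v x) this

end pt

end Groth.Agent.Lib.Helper26.FlatLim
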