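import Mathlib
import Groth.Agent.Lib.Helper26HomLimB
import Groth.Agent.Lib.Helper26HomLimC
import Groth.Agent.Lib.Helper26ModLim

/-!
# Hom-lifting for finitely presented modules over a cofiltered limit of schemes (helper26)
-/

set_option autoImplicit false
set_option linter.style.haveILetI false
set_option linter.unusedSectionVars false
universe u
open CategoryTheory AlgebraicGeometry TensorProduct

namespace Groth.Agent.Lib.Helper26.HomLimD
open Scheme.Modules Groth.Agent.Lib.Helper26.ModLim2 Groth.Agent.Helper13PullbackUnit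
  Groth.Agent.Lib.Helper26.HomLimA Groth.Agent.Lib.Helper26.HomLimB Groth.Agent.Lib.Helper26.HomLimC
  Groth.Agent.Lib.Helper26.ModLim Groth.Agent.Lib.Helper18ColimSys

section unit
variable {X Y : Scheme.{u}} (f : Y ⟶ X) (F : X.Modules) {V : X.Opens}

theorem unitSec_eq_zero_iff {U U' : Y.Opens} (hle : U ≤ f ⁻¹ᵁ V) (hle' : U' ≤ f ⁻¹ᵁ V) (hUU' : U = U')
    (x : Γ(F, V)) : unitSec f F hle x = 0 ↔ unitSec f F hle' x = 0 := by
  subst hUU'
  rfl

end unit

section generic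
variable {X Y Z : Scheme.{u}} (f : X ⟶ Y) (g : Y ⟶ Z) (p : X ⟶ Z) (e : f ≫ g = p)
  (G : Z.Modules) (V : Z.Opens)

/- NOTE: the lemmas below are deliberately split and stated with a *variable* morphism `k` first:
proving them directly for `k = kap f g p e G` makes the kernel time out. -/

theorem secMap_sum_smul_unitSec {n : ℕ}
    (k : (pushforward g).obj ((pullback g).obj G) ⟶ (pushforward p).obj ((pullback p).obj G))
    (b : Fin n → Γ(Y, g ⁻¹ᵁ V)) (x : Fin n → Γ(G, V)) :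
    secMap g p k V (∑ i, b i • unitSec g G (le_refl (g ⁻¹ᵁ V)) (x i)) =
      ∑ i, secMap g p k V (b i • unitSec g G (le_refl (g ⁻¹ᵁ V)) (x i)) :=
  map_sum _ _ _

theorem kapSec_sum' {n : ℕ} (b : Fin n → Γ(Y, g ⁻¹ᵁ V)) (x : Fin n → Γ(G, V)) :
    ∑ i, secMap g p (kap f g p e G) V (b i • unitSec g G (le_refl (g ⁻¹ᵁ V)) (x i)) =
      ∑ i, (f.appLE (g ⁻¹ᵁ V) (p ⁻¹ᵁ V) (le_of_eq_comp f g p e V)).hom (b i) •
        unitSec p G (le_refl (p ⁻¹ᵁ V)) (x i) := by
  refine Finset.sum_congr rfl fun k _ => ?_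
  rw [kapSec_smul, kapSec_unitSec]

theorem kapSec_sum {n : ℕ} (b : Fin n → Γ(Y, g ⁻¹ᵁ V)) (x : Fin n → Γ(G, V)) :
    secMap g p (kap f g p e G) V (∑ i, b i • unitSec g G (le_refl (g ⁻¹ᵁ V)) (x i)) =
      ∑ i, (f.appLE (g ⁻¹ᵁ V) (p ⁻¹ᵁ V) (le_of_eq_comp f g p e V)).hom (b i) •
        unitSec p G (le_refl (p ⁻¹ᵁ V)) (x i) :=
  (secMap_sum_smul_unitSec g p G V (kap f g p e G) b x).trans (kapSec_sum' f g p e G V b x)

theorem sum_congr_smul {n : ℕ} (a a' : Fin n → Γ(X, p ⁻¹ᵁ V)) (x : Fin n → Γ(G, V))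
    (h : ∀ k, a' k = a k) :
    ∑ i, a' i • unitSec p G (le_refl (p ⁻¹ᵁ V)) (x i) =
      ∑ i, a i • unitSec p G (le_refl (p ⁻¹ᵁ V)) (x i) := by
  refine Finset.sum_congr rfl fun k _ => ?_
  rw [h k]

/-- generic surjectivity step -/
theorem kap_app_of_sum (s : Γ((pushforward p).obj ((pullback p).obj G), V)) {n : ℕ}
    (a : Fin n → Γ(X, p ⁻¹ᵁ V)) (x : Fin n → Γ(G, V))
    (hs : (pS p _ V).symm s = ∑ i, a i • unitSec p G (le_refl (p ⁻¹ᵁ V)) (x i))
    (b : Fin n → Γ(Y, g ⁻¹ᵁ V))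
    (hb : ∀ k, (f.appLE (g ⁻¹ᵁ V) (p ⁻¹ᵁ V) (le_of_eq_comp f g p e V)).hom (b k) = a k) :
    (kap f g p e G).app V (pS g _ V (∑ k, b k • unitSec g G (le_refl (g ⁻¹ᵁ V)) (x k))) = s := by
  apply (pS p _ V).symm.injective
  exact ((secMap_eq g p (kap f g p e G) V _).symm.trans (kapSec_sum f g p e G V b x)).trans
    ((sum_congr_smul p G V a _ x hb).trans hs.symm)

theorem iso_app_eq_zero {T : Scheme.{u}} {A B : T.Modules} (φ : A ≅ B) (W : T.Opens) (x : Γ(A, W))
    (h : φ.hom.app W x = 0) : x = 0 := by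
  have h2 := comp_app_apply φ.hom φ.inv W x
  rw [φ.hom_inv_id, h, map_zero] at h2
  exact h2

theorem kap_app_eq_zero_iff (t : Γ((pushforward g).obj ((pullback g).obj G), V)) :
    (kap f g p e G).app V t = 0 ↔
      unitSec f ((pullback g).obj G) (le_of_eq_comp f g p e V) ((pS g _ V).symm t) = 0 := by
  have h1 := secMap_symm g p (kap f g p e G) V t
  rw [kapSec_apply] at h1
  constructor
  · intro h
    rw [h, map_zero] at h1
    exact iso_app_eq_zero ((compIso f g p e).app G) (p ⁻¹ᵁ V) _ h1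
  · intro h
    rw [h, map_zero] at h1
    exact (pS p _ V).symm.injective (h1.symm.trans (map_zero _).symm)

end generic

section sys
variable {I : Type u} [SmallCategory I] [IsCofiltered I] (D : I ⥤ Scheme.{u}) (c : Limits.Cone D)
  (hc : Limits.IsLimit c) [∀ (i j : I) (f : i ⟶ j), IsAffineHom (D.map f)] (i₀ : I)
  (G₀ : (D.obj i₀).Modules)

/-- the cone leg with domain literally `c.pt`. -/
noncomputable abbrev leg (i : I) : c.pt ⟶ D.obj i := c.π.app i

theorem leg_w {i j : I} (φ : i ⟶ j) : leg D c i ≫ D.map φ = leg D c j := c.w φ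

theorem map_w {j j' : Over i₀} (a : j' ⟶ j) : D.map a.left ≫ D.map j.hom = D.map j'.hom := by
  rw [← D.map_comp, Over.w a]

variable [G₀.IsQuasicoherent]

theorem tauj_kapj {j j' : Over i₀} (a : j' ⟶ j) :
    kap (D.map a.left) (D.map j.hom) (D.map j'.hom) (map_w D i₀ a) G₀ ≫
      kap (leg D c j'.left) (D.map j'.hom) (leg D c i₀) (leg_w D c j'.hom) G₀ =
      kap (leg D c j.left) (D.map j.hom) (leg D c i₀) (leg_w D c j.hom) G₀ :=
  kap_comp (leg D c j'.left) (D.map a.left) (D.map j.hom) (D.map j'.hom) (leg D c j.left)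
    (leg D c i₀) (map_w D i₀ a) (leg_w D c a.left) (leg_w D c j.hom) (leg_w D c j'.hom) G₀

theorem tauj_tauj {j j' j'' : Over i₀} (a : j' ⟶ j) (b : j'' ⟶ j') :
    kap (D.map a.left) (D.map j.hom) (D.map j'.hom) (map_w D i₀ a) G₀ ≫
      kap (D.map b.left) (D.map j'.hom) (D.map j''.hom) (map_w D i₀ b) G₀ =
      kap (D.map (b ≫ a).left) (D.map j.hom) (D.map j''.hom) (map_w D i₀ (b ≫ a)) G₀ :=
  kap_comp (D.map b.left) (D.map a.left) (D.map j.hom) (D.map j'.hom) (D.map (b ≫ a).left)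
    (D.map j''.hom) (map_w D i₀ a) (by rw [← D.map_comp]; rfl) (map_w D i₀ (b ≫ a))
    (map_w D i₀ b) G₀

attribute [local instance] algG algA

include hc in
theorem stage_surj {V : (D.obj i₀).Opens} (hV : IsAffineOpen V)
    (s : Γ((pushforward (leg D c i₀)).obj ((pullback (leg D c i₀)).obj G₀), V)) :
    ∃ (j : Over i₀) (t : Γ((pushforward (D.map j.hom)).obj ((pullback (D.map j.hom)).obj G₀), V)),
      (kap (leg D c j.left) (D.map j.hom) (leg D c i₀) (leg_w D c j.hom) G₀).app V t = s := by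
  haveI : IsAffineHom (leg D c i₀) := isAffineHom_π_app D c hc i₀
  have hU : IsAffineOpen (leg D c i₀ ⁻¹ᵁ V) := hV.preimage _
  obtain ⟨n, a, x, hs⟩ := (bc_package (leg D c i₀) G₀ hV hU (le_refl _)).2
    ((pS (leg D c i₀) _ V).symm s)
  obtain ⟨j, -, -, b, hb⟩ := (sys D c hc i₀ V hV).lift_fun (Over.mk (𝟙 i₀)) a
  exact ⟨j, _, kap_app_of_sum (leg D c j.left) (D.map j.hom) (leg D c i₀) (leg_w D c j.hom) G₀ V s
    a x hs b hb⟩

include hc in
theorem stage_inj {V : (D.obj i₀).Opens} (hV : IsAffineOpen V) (j : Over i₀)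
    (t : Γ((pushforward (D.map j.hom)).obj ((pullback (D.map j.hom)).obj G₀), V))
    (ht : (kap (leg D c j.left) (D.map j.hom) (leg D c i₀) (leg_w D c j.hom) G₀).app V t = 0) :
    ∃ (j' : Over i₀) (a : j' ⟶ j),
      (kap (D.map a.left) (D.map j.hom) (D.map j'.hom) (map_w D i₀ a) G₀).app V t = 0 := by
  haveI : IsAffineHom (leg D c j.left) := isAffineHom_π_app D c hc j.left
  have hUj : IsAffineOpen (D.map j.hom ⁻¹ᵁ V) := hV.preimage _
  rw [kap_app_eq_zero_iff] at ht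
  have hUU' : leg D c i₀ ⁻¹ᵁ V = leg D c j.left ⁻¹ᵁ (D.map j.hom ⁻¹ᵁ V) := by
    rw [← Scheme.Hom.comp_preimage, leg_w]
  have h1 := (unitSec_eq_zero_iff (leg D c j.left) ((pullback (D.map j.hom)).obj G₀)
    (le_of_eq_comp (leg D c j.left) (D.map j.hom) (leg D c i₀) (leg_w D c j.hom) V) le_rfl hUU'
    ((pS (D.map j.hom) _ V).symm t)).1 ht
  have h2 := ((bc_package (leg D c j.left) ((pullback (D.map j.hom)).obj G₀) hUj
    (hUj.preimage _) le_rfl).1 ((pS (D.map j.hom) _ V).symm t)).2 h1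
  obtain ⟨j', hj'⟩ := Sys.exists_tmul_eq_zero (sys D c hc j.left (D.map j.hom ⁻¹ᵁ V) hUj)
    (LinearMap.toSpanSingleton _ _ ((pS (D.map j.hom) _ V).symm t)) (fun r => by
      rw [LinearMap.toSpanSingleton_apply, TensorProduct.tmul_smul, h2, smul_zero])
  have h3 := hj' 1
  rw [LinearMap.toSpanSingleton_apply, one_smul] at h3
  have h4 := ((bc_package (D.map j'.hom) ((pullback (D.map j.hom)).obj G₀) hUj
    (hUj.preimage _) le_rfl).1 ((pS (D.map j.hom) _ V).symm t)).1 h3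
  refine ⟨Over.mk (j'.hom ≫ j.hom), Over.homMk j'.hom, ?_⟩
  rw [kap_app_eq_zero_iff]
  refine (unitSec_eq_zero_iff (D.map j'.hom) ((pullback (D.map j.hom)).obj G₀) le_rfl _ ?_
    ((pS (D.map j.hom) _ V).symm t)).1 h4
  rw [← Scheme.Hom.comp_preimage, ← D.map_comp]
  rfl

include hc in
/-- **Hom-lifting** (EGA IV 8.5.2 (i), surjectivity): a morphism between the pullbacks to the limit of a
finitely presented and a quasi-coherent module comes from a stage. -/
theorem exists_hom_pullback_eq [CompactSpace (D.obj i₀)] [QuasiSeparatedSpace (D.obj i₀)]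
    (F₀ : (D.obj i₀).Modules) [F₀.IsQuasicoherent]
    (hF₀ : SheafOfModules.IsFinitePresentation (R := (D.obj i₀).ringCatSheaf) F₀)
    (h : (pullback (leg D c i₀)).obj F₀ ⟶ (pullback (leg D c i₀)).obj G₀) :
    ∃ (j : Over i₀) (hj : (pullback (D.map j.hom)).obj F₀ ⟶ (pullback (D.map j.hom)).obj G₀),
      (compIso (leg D c j.left) (D.map j.hom) (leg D c i₀) (leg_w D c j.hom)).inv.app F₀ ≫
        (pullback (leg D c j.left)).map hj ≫
          (compIso (leg D c j.left) (D.map j.hom) (leg D c i₀) (leg_w D c j.hom)).hom.app G₀ = h := by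
  obtain ⟨j, ψ, hψ⟩ := exists_factor (X := D.obj i₀) (J := Over i₀)
    (H := fun j : Over i₀ => (pushforward (D.map j.hom)).obj ((pullback (D.map j.hom)).obj G₀))
    (Hinf := (pushforward (leg D c i₀)).obj ((pullback (leg D c i₀)).obj G₀))
    (κ := fun j : Over i₀ =>
      kap (leg D c j.left) (D.map j.hom) (leg D c i₀) (leg_w D c j.hom) G₀)
    (τ := fun {j j' : Over i₀} (a : j' ⟶ j) =>
      kap (D.map a.left) (D.map j.hom) (D.map j'.hom) (map_w D i₀ a) G₀)
    (hτκ := fun {j j' : Over i₀} (a : j' ⟶ j) => tauj_kapj D c i₀ G₀ a)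
    (hττ := fun {j j' j'' : Over i₀} (a : j' ⟶ j) (b : j'' ⟶ j') => tauj_tauj D i₀ G₀ a b)
    (hsurj := fun V hV s => stage_surj D c hc i₀ G₀ hV s)
    (hinj := fun V hV j t ht => stage_inj D c hc i₀ G₀ hV j t ht)
    (F := F₀) (hF := hF₀) ((pullbackPushforwardAdjunction (leg D c i₀)).homEquiv _ _ h)
  refine ⟨j, ((pullbackPushforwardAdjunction (D.map j.hom)).homEquiv _ _).symm ψ, ?_⟩
  apply ((pullbackPushforwardAdjunction (leg D c i₀)).homEquiv _ _).injective
  rw [homEquiv_kap, hψ]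

end sys

end Groth.Agent.Lib.Helper26.HomLimD
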