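import Mathlib
import Groth.Agent.Lib.Helper23Serre
import Groth.Agent.Lib.Helper23TensorUnit
import Groth.Agent.Lib.Helper23Restr

/-!
# Globally generated invertible modules have sections not vanishing at any given point (helper23)

Namespace `Groth.Agent.Lib.Helper23.GG`.

* `exists_section_mem_genLocus` : `L` invertible and globally generated (`Curv2.IsGloballyGenerated`), `x : X` ⇒ some global
  section `t : O_X ⟶ L` has `x ∈ X_t`.
-/

set_option autoImplicit false
universe u
open CategoryTheory CategoryTheory.Limits AlgebraicGeometry TopologicalSpace Opposite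

namespace Groth.Agent.Lib.Helper23.GG
open Groth.Agent.Lib.Helper23.GenLocus Groth.Agent.Lib.Helper23.Serre Groth.Agent.Lib.Helper23.AmpleIso
open Groth.Agent.Lib.Helper23.SecTw Groth.Agent.Lib.Helper23.TensorUnit

variable {X : Scheme.{u}}

/-- an endomorphism of the structure module whose function vanishes at `x` is killed by evaluation at `x` -/
theorem comp_unitPush_eq_zero (σ : Coh.structureModule X ⟶ Coh.structureModule X) (x : X)
    (hx : x ∉ X.basicOpen (endFun σ ⊤)) : σ ≫ unitPush (X.fromSpecResidueField x) = 0 := by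
  obtain ⟨ix, hixdef⟩ : ∃ ix : Spec (X.residueField x) ⟶ X, ix = X.fromSpecResidueField x := ⟨_, rfl⟩
  rw [← hixdef]
  have hix : ix.app ⊤ (endFun σ ⊤) = 0 := by
    rw [← basicOpen_eq_bot_iff, ← Scheme.preimage_basicOpen]
    ext z
    simp only [Opens.coe_bot, Set.mem_empty_iff_false, iff_false]
    intro hz
    have hz' : ix z ∈ Set.range ix := ⟨z, rfl⟩
    rw [hixdef, Scheme.range_fromSpecResidueField] at hz'
    have hz2 : ix z ∈ X.basicOpen (endFun σ ⊤) := hz
    rw [hixdef, hz'] at hz2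
    exact hx hz2
  apply Scheme.Modules.hom_ext
  intro W
  ext t
  have h7 : endFun σ W = X.presheaf.map (homOfLE (le_top : W ≤ ⊤)).op (endFun σ ⊤) :=
    (endFun_map σ (homOfLE (le_top : W ≤ ⊤))).symm
  have h8 : ix.app W (endFun σ W) = 0 := by
    rw [h7]
    have hn := ConcreteCategory.congr_hom (ix.naturality (homOfLE (le_top : W ≤ ⊤)).op) (endFun σ ⊤)
    rw [ConcreteCategory.comp_apply, ConcreteCategory.comp_apply, hix, map_zero] at hn
    exact hn
  have h6 : Scheme.Modules.Hom.app (σ ≫ unitPush ix) W t =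
      Scheme.Modules.Hom.app (unitPush ix) W (Scheme.Modules.Hom.app σ W (toS W (ofS W t))) := rfl
  have h9 : Scheme.Modules.Hom.app (σ ≫ unitPush ix) W t = 0 := by
    rw [h6, end_app_eq, unitPush_app, map_mul, h8, mul_zero]
    rfl
  exact h9.trans rfl

theorem unitPush_ne_zero (x : X) : unitPush (X.fromSpecResidueField x) ≠ 0 := by
  intro h0
  have h10 := congrArg (fun ψ => Scheme.Modules.Hom.app ψ ⊤ (toS ⊤ 1)) h0
  simp only [] at h10
  rw [unitPush_app, map_one] at h10
  have hne : Nonempty ((X.fromSpecResidueField x) ⁻¹ᵁ ⊤ : (Spec (X.residueField x)).Opens) := by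
    have hxr : x ∈ Set.range (X.fromSpecResidueField x) := by rw [Scheme.range_fromSpecResidueField]; rfl
    obtain ⟨z, hz⟩ := hxr
    exact ⟨⟨z, trivial⟩⟩
  have hnt : Nontrivial Γ(Spec (X.residueField x), (X.fromSpecResidueField x) ⁻¹ᵁ ⊤) := inferInstance
  exact (one_ne_zero (α := Γ(Spec (X.residueField x), (X.fromSpecResidueField x) ⁻¹ᵁ ⊤)))
    (congrArg (ofS ((X.fromSpecResidueField x) ⁻¹ᵁ ⊤)) h10)

theorem comp_eq_zero_aux {C : Type*} [Category C] [HasZeroMorphisms C] {A B D E F : C} (m : A ⟶ D) (h : A ⟶ B)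
    (hinv : B ⟶ A) (hh : h ≫ hinv = 𝟙 A) (e : D ⟶ E) (u : E ⟶ F) (h0 : ((hinv ≫ m) ≫ e) ≫ u = 0) :
    m ≫ (e ≫ u) = 0 := by
  have : m = h ≫ (hinv ≫ m) := by rw [← Category.assoc, hh, Category.id_comp]
  rw [this, Category.assoc, ← Category.assoc (hinv ≫ m), h0, comp_zero]

theorem free_hom_ext {C : Type u} [Category.{u} C] {J : GrothendieckTopology C} {R : Sheaf J RingCat.{u}}
    [HasWeakSheafify J AddCommGrpCat.{u}] [J.WEqualsLocallyBijective AddCommGrpCat.{u}]
    [J.HasSheafCompose (forget₂ RingCat.{u} AddCommGrpCat.{u})]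
    {I : Type u} {M : SheafOfModules.{u} R} (f g : SheafOfModules.free I ⟶ M)
    (h : ∀ a, SheafOfModules.ιFree a ≫ f = SheafOfModules.ιFree a ≫ g) : f = g :=
  Sigma.hom_ext _ _ h

theorem eq_of_adj_of_epi {C D : Type*} [Category C] [Category D] {F : C ⥤ D} {G : D ⥤ C} (adj : F ⊣ G)
    {J : Type*} {A L : C} {B : J → C} (ι : ∀ j, B j ⟶ A)
    (hext : ∀ (M : C) (f g : A ⟶ M), (∀ j, ι j ≫ f = ι j ≫ g) → f = g) (p : A ⟶ L) (hp : Epi p) {N : D}
    (ψ₁ ψ₂ : F.obj L ⟶ N) (h : ∀ j, F.map (ι j ≫ p) ≫ ψ₁ = F.map (ι j ≫ p) ≫ ψ₂) : ψ₁ = ψ₂ := by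
  apply (adj.homEquiv L N).injective
  rw [← cancel_epi p]
  apply hext
  intro j
  rw [← Category.assoc, ← Category.assoc, ← Adjunction.homEquiv_naturality_left,
    ← Adjunction.homEquiv_naturality_left, h j]

/-- a globally generated invertible module has, for each point, a global section generating it there -/
theorem exists_section_mem_genLocus (L : X.Modules) (hL : PicF.IsInvertible L)
    (hgg : Curv2.IsGloballyGenerated L) (x : X) :
    ∃ t : Coh.structureModule X ⟶ L, x ∈ CohB1.genLocus L t := by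
  obtain ⟨I, p, hp⟩ := hgg
  by_contra hcon
  push Not at hcon
  obtain ⟨W, hxW, ⟨ε⟩⟩ := hL x
  obtain ⟨x', hx'⟩ : ∃ x' : (↑W : Scheme.{u}), x' = ⟨x, hxW⟩ := ⟨_, rfl⟩
  -- the test morphism on `W`
  obtain ⟨ψW, hψW⟩ : ∃ ψW : L.restrict W.ι ⟶
      (Scheme.Modules.pushforward ((↑W : Scheme.{u}).fromSpecResidueField x')).obj (Coh.structureModule _),
      ψW = ε.hom ≫ unitPush ((↑W : Scheme.{u}).fromSpecResidueField x') := ⟨_, rfl⟩
  have hcomp : ∀ t : Coh.structureModule X ⟶ L, (Scheme.Modules.restrictFunctor W.ι).map t ≫ ψW = 0 := by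
    intro t
    have h2 : (restrSec t W ≫ ε.hom) ≫ unitPush ((↑W : Scheme.{u}).fromSpecResidueField x') = 0 := by
      refine comp_unitPush_eq_zero _ x' ?_
      rw [← genLocus_eq_basicOpen _ ε (restrSec t W), genLocus_restrSec, hx']
      exact hcon t
    rw [hψW]
    exact comp_eq_zero_aux _ (Scheme.Modules.restrictUnitIso W.ι).hom (Scheme.Modules.restrictUnitIso W.ι).inv
      (Iso.hom_inv_id _) _ _ h2
  -- `ψW = 0` by the adjunction, contradiction
  have hzero : ψW = 0 := by
    refine eq_of_adj_of_epi (Scheme.Modules.restrictAdjunction W.ι)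
      (A := (SheafOfModules.free I : X.Modules)) (L := L) (B := fun _ : I => Coh.structureModule X)
      (fun a => SheafOfModules.ιFree a) ?_ p hp ψW 0 ?_
    · intro M f g hfg
      exact free_hom_ext f g hfg
    · intro a
      rw [hcomp, comp_zero]
  have h3 : unitPush ((↑W : Scheme.{u}).fromSpecResidueField x') = 0 := by
    have h4 : ε.inv ≫ ψW = unitPush ((↑W : Scheme.{u}).fromSpecResidueField x') := by
      rw [hψW, Iso.inv_hom_id_assoc]
    rw [← h4, hzero, comp_zero]
  exact unitPush_ne_zero x' h3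

end Groth.Agent.Lib.Helper23.GG
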