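import Mathlib
import Groth.Agent.Lib.Helper23TensorMap
import Groth.Agent.Lib.Helper20IdealModSec
import Groth.Agent.Lib.Helper22FTIdeal
import Groth.Agent.Lib.Helper23SecTw9

/-!
# Sections of ideal modules and global sections of `J ⊗ L` (helper23)

Namespace `Groth.Agent.Lib.Helper23.IdealSec`.

* `ι_mem_ideal`, `exists_ι_eq` : over an affine open the sections of `ClSub.idealMod J` are the elements of `J.ideal`.
* `not_mem_basicOpen_of_mem_support`.
* `genLocus_comp_mulHom_le` : a global section of an invertible `L'` coming from `J ⊗ L'` generates only outside `Supp(O/J)`.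
* `exists_section_mem_genLocus` : if `J ⊗ L'` is a quotient of `O^k` and `J` is the unit ideal on an affine `U ∋ x`, some
  global section of `L'` coming from `J ⊗ L'` generates `L'` at `x`.
-/

set_option autoImplicit false
universe u
open CategoryTheory CategoryTheory.Limits AlgebraicGeometry MonoidalCategory TopologicalSpace Opposite

namespace Groth.Agent.Lib.Helper23.IdealSec
open Groth.Agent.Lib.Helper23.SecTw Groth.Agent.Lib.Helper23.GenLocus Groth.Agent.Lib.Helper6
open Groth.Agent.Lib.Helper23.LocGen Groth.Agent.Lib.Helper23.Serre Groth.Agent.Lib.Helper23.TensorMap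
open Groth.Agent.Lib.Helper20.IdealModSec

variable {X : Scheme.{u}}

/-- sections of the ideal module over an affine open lie in the ideal -/
theorem ι_mem_ideal (J : X.IdealSheafData) (W : X.affineOpens) (j : Γ(ClSub.idealMod J, W.1)) :
    ofS W.1 ((ClSub.idealModι J).app W.1 j) ∈ J.ideal W := by
  rw [← J.ker_subschemeι_app W, RingHom.mem_ker]
  exact ι_toSubscheme J W.1 j

/-- elements of the ideal over an affine open come from sections of the ideal module -/
theorem exists_ι_eq (J : X.IdealSheafData) (W : X.affineOpens) (a : Γ(X, W.1)) (ha : a ∈ J.ideal W) :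
    ∃ j : Γ(ClSub.idealMod J, W.1), (ClSub.idealModι J).app W.1 j = toS W.1 a := by
  apply exists_eq_ι
  rw [← J.ker_subschemeι_app W, RingHom.mem_ker] at ha
  exact ha

theorem not_mem_basicOpen_of_mem_support (J : X.IdealSheafData) (W : X.affineOpens) (f : Γ(X, W.1))
    (hf : f ∈ J.ideal W) (y : X) (hyW : y ∈ W.1) (hy : y ∈ J.support) : y ∉ X.basicOpen f := by
  rw [Scheme.IdealSheafData.mem_support_iff_of_mem hyW] at hy
  rw [Scheme.mem_zeroLocus_iff] at hy
  exact hy f hf

open Groth.Agent.Lib.Helper23.Extend in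
/-- a global section of `L'` which comes from `J ⊗ L'` does not generate at points of the support of `J` -/
theorem genLocus_comp_mulHom_le (J : X.IdealSheafData) (L' : X.Modules) (hL' : PicF.IsInvertible L')
    (U : X.Opens) (hU : ∀ y, y ∉ U → y ∈ J.support)
    (σ : Coh.structureModule X ⟶ CohB1.tensorMod (ClSub.idealMod J) L') :
    CohB1.genLocus L' (σ ≫ mulHom (ClSub.idealModι J) L') ≤ U := by
  intro y hy
  by_contra hyU
  obtain ⟨W₀, e₀, hyW₀, hgen₀⟩ := exists_gen L' hL' y
  obtain ⟨W, hW, hyW, hWW₀⟩ : ∃ W : X.Opens, IsAffineOpen W ∧ y ∈ W ∧ W ≤ W₀ := by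
    obtain ⟨W, hW, hyW, hle⟩ := Opens.isBasis_iff_nbhd.1 X.isBasis_affineOpens hyW₀
    exact ⟨W, hW, hyW, hle⟩
  have hgen : IsGen L' W (res L' hWW₀ e₀) := hgen₀.mono hWW₀
  obtain ⟨j', hj'⟩ := (bijective_tm_of_isGen (ClSub.idealMod J) L' W _ hgen W le_rfl).2 (sv σ W)
  rw [res_self] at hj'
  have h1 : sv (σ ≫ mulHom (ClSub.idealModι J) L') W =
      (mulHom (ClSub.idealModι J) L').app W (sv σ W) := rfl
  have h2 : sv (σ ≫ mulHom (ClSub.idealModι J) L') W =
      ofS W ((ClSub.idealModι J).app W j') • res L' hWW₀ e₀ := by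
    rw [h1, ← hj', mulHom_tm]
  have h3 := genLocus_inf_eq_of_isGen L' _ W _ _ hgen h2
  have h4 : y ∈ X.basicOpen (ofS W ((ClSub.idealModι J).app W j')) := by
    rw [← h3]
    exact ⟨hy, hyW⟩
  exact not_mem_basicOpen_of_mem_support J ⟨W, hW⟩ _ (ι_mem_ideal J ⟨W, hW⟩ j') y hyW (hU y hyU) h4

open Groth.Agent.Lib.Helper23.Extend in
/-- if `J ⊗ L'` is a quotient of a finite free module and `J` is the unit ideal near `x`, some global section of `L'` coming
from `J ⊗ L'` generates `L'` at `x` -/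
theorem exists_section_mem_genLocus (J : X.IdealSheafData) (L' : X.Modules) (hL' : PicF.IsInvertible L')
    (U : X.affineOpens) (hJU : J.ideal U = ⊤) {k : ℕ}
    (p : FlatMod.freeMod X k ⟶ CohB1.tensorMod (ClSub.idealMod J) L') [Epi p] (x : X) (hx : x ∈ U.1) :
    ∃ σ : Coh.structureModule X ⟶ CohB1.tensorMod (ClSub.idealMod J) L',
      x ∈ CohB1.genLocus L' (σ ≫ mulHom (ClSub.idealModι J) L') := by
  set φ := mulHom (ClSub.idealModι J) L' with hφ
  obtain ⟨W₀, e₀, hxW₀, hgen₀⟩ := exists_gen L' hL' x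
  have hWW₀ : W₀ ⊓ U.1 ≤ W₀ := inf_le_left
  have hWU : W₀ ⊓ U.1 ≤ U.1 := inf_le_right
  have hgen : IsGen L' (W₀ ⊓ U.1) (res L' hWW₀ e₀) := hgen₀.mono hWW₀
  obtain ⟨jU, hjU⟩ := exists_ι_eq J U 1 (by rw [hJU]; trivial)
  have hj₁ : (ClSub.idealModι J).app (W₀ ⊓ U.1) (res (ClSub.idealMod J) hWU jU) = toS (W₀ ⊓ U.1) 1 := by
    rw [app_map (ClSub.idealModι J) (homOfLE hWU), hjU]
    exact map_one (X.presheaf.map (homOfLE hWU).op).hom
  obtain ⟨B, hB, hxB, hmem⟩ := locGen_of_epi_freeMod p (W₀ ⊓ U.1) le_top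
    (tm (ClSub.idealMod J) L' (W₀ ⊓ U.1) (res (ClSub.idealMod J) hWU jU) (res L' hWW₀ e₀)) x ⟨hxW₀, hx⟩
  have hgenB : IsGen L' B (res L' hB (res L' hWW₀ e₀)) := hgen.mono hB
  -- the image under φ
  have h1 : φ.app B (res _ hB (tm (ClSub.idealMod J) L' (W₀ ⊓ U.1) (res (ClSub.idealMod J) hWU jU)
      (res L' hWW₀ e₀))) = res L' hB (res L' hWW₀ e₀) := by
    rw [app_map φ (homOfLE hB), hφ, mulHom_tm, hj₁]
    have : ofS (W₀ ⊓ U.1) (toS (W₀ ⊓ U.1) 1) = 1 := rfl
    rw [this, one_smul]
  by_contra hne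
  replace hne : ∀ σ : Coh.structureModule X ⟶ CohB1.tensorMod (ClSub.idealMod J) L',
      x ∉ CohB1.genLocus L' (σ ≫ φ) := fun σ hσ => hne ⟨σ, hσ⟩
  -- the submodule of sections not generating at `x`
  let T : Submodule Γ(X, B) Γ(L', B) :=
    { carrier := {m | x ∉ X.basicOpen (coef hgenB le_rfl m)}
      zero_mem' := by
        change x ∉ X.basicOpen (coef hgenB le_rfl 0)
        have h0 : coef hgenB le_rfl (0 : Γ(L', B)) = 0 :=
          (coef_unique hgenB le_rfl 0 0 (zero_smul _ _)).symm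
        rw [h0, Scheme.basicOpen_zero]
        exact fun h => h
      add_mem' := by
        intro a b ha hb
        change x ∉ X.basicOpen (coef hgenB le_rfl (a + b))
        rw [coef_add]
        intro hab
        rcases basicOpen_add_le _ _ hab with h | h
        · exact ha h
        · exact hb h
      smul_mem' := by
        intro r a ha
        change x ∉ X.basicOpen (coef hgenB le_rfl (r • a))
        rw [coef_smul, Scheme.basicOpen_mul]
        exact fun h => ha h.2 }
  have key : ∀ m ∈ gspan (CohB1.tensorMod (ClSub.idealMod J) L') B, φ.app B m ∈ T := by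
    intro m hm
    induction hm using Submodule.span_induction with
    | mem z hz =>
      obtain ⟨σ, rfl⟩ := hz
      have h2 : φ.app B (sv σ B) = sv (σ ≫ φ) B := rfl
      rw [h2]
      change x ∉ X.basicOpen (coef hgenB le_rfl (sv (σ ≫ φ) B))
      rw [← genLocus_inf_eq_coef (σ ≫ φ) hgenB]
      exact fun h => hne σ h.1
    | zero => rw [map_zero]; exact zero_mem _
    | add a b _ _ ha hb => rw [map_add]; exact add_mem ha hb
    | smul r a _ ha => rw [Scheme.Modules.Hom.app_smul]; exact Submodule.smul_mem _ _ ha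
  have h2 := key _ hmem
  rw [h1] at h2
  have h3 : coef hgenB le_rfl (res L' hB (res L' hWW₀ e₀)) = 1 := by
    refine (coef_unique hgenB le_rfl _ 1 ?_).symm
    rw [one_smul, res_self]
  apply h2
  rw [h3, Scheme.basicOpen_of_isUnit _ isUnit_one]
  exact hxB

end Groth.Agent.Lib.Helper23.IdealSec
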