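import Mathlib
import Groth.Agent.Lib.Helper23IdealSec
import Groth.Agent.Lib.Helper23GG
import Groth.Agent.Lib.Helper20OmegaAff
import Groth.Agent.Lib.Helper23Restr

/-!
# The counit `f^* f_* F ⟶ F` being an epimorphism, without touching the pullback (helper23)

Namespace `Groth.Agent.Lib.Helper23.CounitEpi`.

* `epi_counit_app_iff` (any adjunction `L ⊣ R`): `Epi (counit.app F)` iff `R` is faithful on morphisms out of `F`.
* `epi_counit_iff f F` : the counit `f^* f_* F ⟶ F` is an epimorphism iff two morphisms `F ⟶ G` which agree on sections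
  over all `f⁻¹ V` are equal.
* `fromSpecResidueField_app_eq_zero`, `exists_local_section`, `basicOpen_ι_le`, `exists_function` : from an epimorphic
  counit at the ideal module of `J` to functions on `f⁻¹ V` (V affine) not vanishing at a given point and vanishing on
  `Supp(O/J)`.
* `hom_ext_of_cover`, `eq_of_isGloballyGenerated`, `epi_counit_of_isGloballyGenerated` : if `F|_{f⁻¹ V}` is globally generated
  for `V` in an open cover of `Y`, the counit at `F` is an epimorphism.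
-/

set_option autoImplicit false
universe u
open CategoryTheory CategoryTheory.Limits AlgebraicGeometry TopologicalSpace Opposite

namespace Groth.Agent.Lib.Helper23.CounitEpi
open Groth.Agent.Lib.Helper23.SecTw Groth.Agent.Lib.Helper23.GenLocus Groth.Agent.Lib.Helper6
open Groth.Agent.Lib.Helper23.IdealSec Groth.Agent.Lib.Helper23.GG
open Groth.Agent.Lib.Helper23.Serre Groth.Agent.Lib.Helper23.Extend

theorem epi_counit_app_iff {C D : Type*} [Category C] [Category D] {L : C ⥤ D} {R : D ⥤ C} (adj : L ⊣ R) (F : D) :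
    Epi (adj.counit.app F) ↔ ∀ (G : D) (φ ψ : F ⟶ G), R.map φ = R.map ψ → φ = ψ := by
  constructor
  · intro h G φ ψ hRφ
    rw [← cancel_epi (adj.counit.app F)]
    have h1 := adj.counit.naturality φ
    have h2 := adj.counit.naturality ψ
    simp only [Functor.comp_obj, Functor.id_obj, Functor.comp_map, Functor.id_map] at h1 h2
    rw [← h1, ← h2, hRφ]
  · intro h
    refine ⟨fun {G} φ ψ hφψ => h G φ ψ ?_⟩
    have h1 := congrArg (fun m => adj.homEquiv _ _ m) hφψ
    simp only [Adjunction.homEquiv_unit, Functor.map_comp] at h1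
    simpa using h1

variable {X Y : Scheme.{u}} (f : X ⟶ Y)

/-- the counit `f^* f_* F ⟶ F` is an epimorphism iff morphisms out of `F` are determined by their effect on sections over
the opens `f⁻¹ V` -/
theorem epi_counit_iff (F : X.Modules) :
    Epi ((Scheme.Modules.pullbackPushforwardAdjunction f).counit.app F) ↔
      ∀ (G : X.Modules) (φ ψ : F ⟶ G), (∀ V : Y.Opens, φ.app (f ⁻¹ᵁ V) = ψ.app (f ⁻¹ᵁ V)) → φ = ψ := by
  rw [epi_counit_app_iff]
  constructor
  · intro h G φ ψ hV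
    apply h G φ ψ
    apply Scheme.Modules.hom_ext
    intro V
    exact hV V
  · intro h G φ ψ hR
    apply h G φ ψ
    intro V
    exact congrArg (fun m => Scheme.Modules.Hom.app m V) hR

/-- a function not invertible at `x` is killed by evaluation at `x` -/
theorem fromSpecResidueField_app_eq_zero (x : X) (W : X.Opens) (a : Γ(X, W)) (hx : x ∉ X.basicOpen a) :
    (X.fromSpecResidueField x).app W a = 0 := by
  rw [← basicOpen_eq_bot_iff, ← Scheme.preimage_basicOpen]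
  ext z
  simp only [Opens.coe_bot, Set.mem_empty_iff_false, iff_false]
  intro hz
  have hz' : (X.fromSpecResidueField x) z ∈ Set.range (X.fromSpecResidueField x) := ⟨z, rfl⟩
  rw [Scheme.range_fromSpecResidueField] at hz'
  have hz2 : (X.fromSpecResidueField x) z ∈ X.basicOpen a := hz
  rw [hz'] at hz2
  exact hx hz2

/-- if the counit at the ideal module of `J` is an epimorphism and `J` is the unit ideal on an affine `U₀ ∋ x`, some section
of `J` over some `f⁻¹ V'` does not vanish at `x` -/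
theorem exists_local_section (J : X.IdealSheafData)
    (hepi : Epi ((Scheme.Modules.pullbackPushforwardAdjunction f).counit.app (ClSub.idealMod J)))
    (U₀ : X.affineOpens) (hJU : J.ideal U₀ = ⊤) (x : X) (hx : x ∈ U₀.1) :
    ∃ (V' : Y.Opens) (s : Γ(ClSub.idealMod J, f ⁻¹ᵁ V')),
      x ∈ X.basicOpen (ofS (f ⁻¹ᵁ V') ((ClSub.idealModι J).app (f ⁻¹ᵁ V') s)) := by
  by_contra hcon
  replace hcon : ∀ (V' : Y.Opens) (s : Γ(ClSub.idealMod J, f ⁻¹ᵁ V')),
      x ∉ X.basicOpen (ofS (f ⁻¹ᵁ V') ((ClSub.idealModι J).app (f ⁻¹ᵁ V') s)) := fun V' s hs => hcon ⟨V', s, hs⟩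
  have h0 : ClSub.idealModι J ≫ unitPush (X.fromSpecResidueField x) = 0 := by
    refine (epi_counit_iff f _).1 hepi _ _ _ (fun V' => ?_)
    ext s
    have h2 : Scheme.Modules.Hom.app (ClSub.idealModι J ≫ unitPush (X.fromSpecResidueField x)) (f ⁻¹ᵁ V') s =
        (unitPush (X.fromSpecResidueField x)).app (f ⁻¹ᵁ V') ((ClSub.idealModι J).app (f ⁻¹ᵁ V') s) := rfl
    have h3 : (ClSub.idealModι J).app (f ⁻¹ᵁ V') s =
        toS (f ⁻¹ᵁ V') (ofS (f ⁻¹ᵁ V') ((ClSub.idealModι J).app (f ⁻¹ᵁ V') s)) := rfl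
    rw [h2, h3, unitPush_app, fromSpecResidueField_app_eq_zero x _ _ (hcon V' s)]
    rfl
  obtain ⟨jU, hjU⟩ := exists_ι_eq J U₀ 1 (by rw [hJU]; trivial)
  have h1 := congrArg (fun ψ => Scheme.Modules.Hom.app ψ U₀.1 jU) h0
  simp only [] at h1
  have h2 : Scheme.Modules.Hom.app (ClSub.idealModι J ≫ unitPush (X.fromSpecResidueField x)) U₀.1 jU =
      (unitPush (X.fromSpecResidueField x)).app U₀.1 ((ClSub.idealModι J).app U₀.1 jU) := rfl
  rw [h2, hjU, unitPush_app, map_one] at h1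
  have hne : Nonempty ((X.fromSpecResidueField x) ⁻¹ᵁ U₀.1 : (Spec (X.residueField x)).Opens) := by
    have hxr : x ∈ Set.range (X.fromSpecResidueField x) := by rw [Scheme.range_fromSpecResidueField]; rfl
    obtain ⟨z, hz⟩ := hxr
    refine ⟨⟨z, ?_⟩⟩
    change (X.fromSpecResidueField x) z ∈ U₀.1
    rw [hz]
    exact hx
  have hnt : Nontrivial Γ(Spec (X.residueField x), (X.fromSpecResidueField x) ⁻¹ᵁ U₀.1) := inferInstance
  exact (one_ne_zero (α := Γ(Spec (X.residueField x), (X.fromSpecResidueField x) ⁻¹ᵁ U₀.1)))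
    (congrArg (ofS ((X.fromSpecResidueField x) ⁻¹ᵁ U₀.1)) h1)

/-- the function of a local section of the ideal module of `J` is invertible only outside the support of `J` -/
theorem basicOpen_ι_le (J : X.IdealSheafData) (U₀ : X.Opens) (hU₀ : ∀ y, y ∉ U₀ → y ∈ J.support) (W₀ : X.Opens)
    (s : Γ(ClSub.idealMod J, W₀)) : X.basicOpen (ofS W₀ ((ClSub.idealModι J).app W₀ s)) ≤ U₀ := by
  intro y hy
  by_contra hyU
  have hyW₀ : y ∈ W₀ := X.basicOpen_le _ hy
  obtain ⟨W, hW, hyW, hWW₀⟩ := Opens.isBasis_iff_nbhd.1 X.isBasis_affineOpens hyW₀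
  have h4 : resf hWW₀ (ofS W₀ ((ClSub.idealModι J).app W₀ s)) =
      ofS W ((ClSub.idealModι J).app W (res (ClSub.idealMod J) hWW₀ s)) := by
    rw [app_map (ClSub.idealModι J) (homOfLE hWW₀)]
    rfl
  have h5 : y ∈ X.basicOpen (resf hWW₀ (ofS W₀ ((ClSub.idealModι J).app W₀ s))) := by
    rw [Scheme.basicOpen_res]
    exact ⟨hyW, hy⟩
  rw [h4] at h5
  exact not_mem_basicOpen_of_mem_support J ⟨W, hW⟩ _ (ι_mem_ideal J ⟨W, hW⟩ _) y hyW (hU₀ y hyU) h5

/-- under the hypotheses of `exists_local_section`, for `V ⊆ Y` affine containing `f x` there is a function on `f⁻¹ V` whose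
non-vanishing locus contains `x` and lies in `U₀` -/
theorem exists_function [QuasiCompact f] [QuasiSeparated f] (J : X.IdealSheafData)
    (hepi : Epi ((Scheme.Modules.pullbackPushforwardAdjunction f).counit.app (ClSub.idealMod J)))
    (U₀ : X.affineOpens) (hJU : J.ideal U₀ = ⊤) (hU₀ : ∀ y, y ∉ U₀.1 → y ∈ J.support)
    (V : Y.Opens) (hV : IsAffineOpen V) (x : X) (hx : x ∈ U₀.1) (hxV : x ∈ f ⁻¹ᵁ V) :
    ∃ r : Γ(X, f ⁻¹ᵁ V), x ∈ X.basicOpen r ∧ X.basicOpen r ≤ U₀.1 := by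
  obtain ⟨V', s, hs⟩ := exists_local_section f J hepi U₀ hJU x hx
  obtain ⟨a, ha⟩ : ∃ a : Γ(X, f ⁻¹ᵁ V'), a = ofS (f ⁻¹ᵁ V') ((ClSub.idealModι J).app (f ⁻¹ᵁ V') s) := ⟨_, rfl⟩
  rw [← ha] at hs
  have hale : X.basicOpen a ≤ U₀.1 := by rw [ha]; exact basicOpen_ι_le J U₀.1 hU₀ _ s
  have hxV' : x ∈ f ⁻¹ᵁ V' := X.basicOpen_le _ hs
  obtain ⟨g, hgle, hxg⟩ := hV.exists_basicOpen_le (V := V ⊓ V') ⟨f x, ⟨hxV, hxV'⟩⟩ hxV
  obtain ⟨g', hg'⟩ : ∃ g' : Γ(X, f ⁻¹ᵁ V), g' = f.app V g := ⟨_, rfl⟩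
  have hbo : X.basicOpen g' = f ⁻¹ᵁ Y.basicOpen g := by rw [hg', Scheme.preimage_basicOpen]
  have hle' : X.basicOpen g' ≤ f ⁻¹ᵁ V' := by
    rw [hbo]
    exact f.preimage_mono (hgle.trans inf_le_right)
  have hxg' : x ∈ X.basicOpen g' := by rw [hbo]; exact hxg
  have hqc : IsCompact (f ⁻¹ᵁ V).carrier := QuasiCompact.isCompact_preimage (f := f) _ V.2 hV.isCompact
  have hqs : IsQuasiSeparated (f ⁻¹ᵁ V).carrier := by
    rw [isQuasiSeparated_iff_quasiSeparatedSpace _ (f ⁻¹ᵁ V).2]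
    haveI : IsAffine (↑V : Scheme.{u}) := hV
    exact quasiSeparatedSpace_of_quasiSeparated (f ∣_ V)
  obtain ⟨n, b, hb⟩ := exists_eq_pow_mul_of_isCompact_of_isQuasiSeparated X (f ⁻¹ᵁ V) hqc hqs g' (resf hle' a)
  refine ⟨b * g', ?_, ?_⟩
  · rw [Scheme.basicOpen_mul]
    refine ⟨?_, hxg'⟩
    have h1 : x ∈ X.basicOpen (resf (X.basicOpen_le g') b) := by
      change x ∈ X.basicOpen (b |_ X.basicOpen g')
      rw [hb, Scheme.basicOpen_mul]
      refine ⟨?_, ?_⟩
      · have hu : IsUnit ((g' |_ X.basicOpen g') ^ n) := (RingedSpace.isUnit_res_basicOpen (X := X.toRingedSpace) g').pow n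
        rw [Scheme.basicOpen_of_isUnit _ hu]
        exact hxg'
      · rw [Scheme.basicOpen_res]
        exact ⟨hxg', hs⟩
    rw [Scheme.basicOpen_res] at h1
    exact h1.2
  · intro y hy
    rw [Scheme.basicOpen_mul] at hy
    have h1 : y ∈ X.basicOpen (resf (X.basicOpen_le g') b) := by
      rw [Scheme.basicOpen_res]
      exact ⟨hy.2, hy.1⟩
    change y ∈ X.basicOpen (b |_ X.basicOpen g') at h1
    rw [hb, Scheme.basicOpen_mul] at h1
    have h2 := h1.2
    rw [Scheme.basicOpen_res] at h2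
    exact hale h2.2

/-- morphisms agreeing on all small opens around every point are equal -/
theorem hom_ext_of_cover {F G : X.Modules} (φ ψ : F ⟶ G)
    (h : ∀ x : X, ∃ N : X.Opens, x ∈ N ∧ ∀ W : X.Opens, W ≤ N → φ.app W = ψ.app W) : φ = ψ := by
  apply Scheme.Modules.hom_ext
  intro W
  ext t
  choose N hxN hN using h
  refine (modSheaf G).eq_of_locally_eq' (fun x : W => W ⊓ N x.1) W (fun x => homOfLE inf_le_left) ?_ _ _
    (fun x => ?_)
  · intro y hy
    exact Opens.mem_iSup.2 ⟨⟨y, hy⟩, hy, hxN y⟩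
  · change res G (inf_le_left : W ⊓ N x.1 ≤ W) (φ.app W t) = res G (inf_le_left : W ⊓ N x.1 ≤ W) (ψ.app W t)
    have e1 := app_map φ (homOfLE (inf_le_left : W ⊓ N x.1 ≤ W)) t
    have e2 := app_map ψ (homOfLE (inf_le_left : W ⊓ N x.1 ≤ W)) t
    exact e1.symm.trans ((congrArg (fun m => m (res F (inf_le_left : W ⊓ N x.1 ≤ W) t))
      (congrArg (fun m => (ConcreteCategory.hom m : _ → _)) (hN x.1 (W ⊓ N x.1) inf_le_right))).trans e2)

theorem eq_of_epi_of_ext {C : Type*} [Category C] {A N Q : C} {I : Type*} {B : I → C}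
    (ι : ∀ a, B a ⟶ A) (hext : ∀ (M : C) (f g : A ⟶ M), (∀ a, ι a ≫ f = ι a ≫ g) → f = g)
    (p : A ⟶ N) [Epi p] (φ ψ : N ⟶ Q) (h : ∀ a, (ι a ≫ p) ≫ φ = (ι a ≫ p) ≫ ψ) : φ = ψ := by
  rw [← cancel_epi p]
  refine hext _ _ _ (fun a => ?_)
  rw [← Category.assoc, ← Category.assoc]
  exact h a

/-- morphisms out of a globally generated module are determined by their effect on global sections -/
theorem eq_of_isGloballyGenerated {N Q : X.Modules} (hN : Curv2.IsGloballyGenerated N) (φ ψ : N ⟶ Q)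
    (h : φ.app ⊤ = ψ.app ⊤) : φ = ψ := by
  obtain ⟨I, p, hp⟩ := hN
  haveI : @Epi X.Modules _ _ _ p := hp
  refine @eq_of_epi_of_ext X.Modules _ (SheafOfModules.free I : X.Modules) N Q I
    (fun _ : I => Coh.structureModule X) (fun a => SheafOfModules.ιFree a)
    (fun M f g hfg => free_hom_ext f g hfg) p hp φ ψ (fun a => ?_)
  apply hom_ext_of_sv
  have h1 : ∀ (σ : Coh.structureModule X ⟶ N) (χ : N ⟶ Q), sv (σ ≫ χ) ⊤ = χ.app ⊤ (sv σ ⊤) := fun _ _ => rfl
  rw [h1, h1, h]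

/-- if the restrictions of `F` to the opens `f⁻¹ V`, for `V` in an open cover of `Y`, are globally generated, then the counit
`f^* f_* F ⟶ F` is an epimorphism -/
theorem epi_counit_of_isGloballyGenerated (F : X.Modules)
    (h : ∀ x : X, ∃ V : Y.Opens, f x ∈ V ∧ Curv2.IsGloballyGenerated (F.restrict (f ⁻¹ᵁ V).ι)) :
    Epi ((Scheme.Modules.pullbackPushforwardAdjunction f).counit.app F) := by
  rw [epi_counit_iff]
  intro G φ ψ hV
  apply hom_ext_of_cover
  intro x
  obtain ⟨V, hxV, hgg⟩ := h x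
  refine ⟨f ⁻¹ᵁ V, hxV, ?_⟩
  have key : (Scheme.Modules.restrictFunctor (f ⁻¹ᵁ V).ι).map φ = (Scheme.Modules.restrictFunctor (f ⁻¹ᵁ V).ι).map ψ := by
    apply eq_of_isGloballyGenerated hgg
    have h2 : ∀ W : X.Opens, W = f ⁻¹ᵁ V → φ.app W = ψ.app W := by
      rintro W rfl
      exact hV V
    exact h2 _ (Scheme.Opens.ι_image_top _)
  intro W hW
  have h3 : ∀ W' : (↑(f ⁻¹ᵁ V) : Scheme.{u}).Opens, φ.app ((f ⁻¹ᵁ V).ι ''ᵁ W') = ψ.app ((f ⁻¹ᵁ V).ι ''ᵁ W') :=
    fun W' => congrArg (fun m => Scheme.Modules.Hom.app m W') key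
  have h4 : ∀ W₁ : X.Opens, W₁ = W → φ.app W₁ = ψ.app W₁ → φ.app W = ψ.app W := by
    rintro W₁ rfl h; exact h
  refine h4 _ ?_ (h3 ((f ⁻¹ᵁ V).ι ⁻¹ᵁ W))
  rw [Scheme.Hom.image_preimage_eq_opensRange_inf, Scheme.Opens.opensRange_ι]
  exact inf_eq_right.2 hW

end Groth.Agent.Lib.Helper23.CounitEpi
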