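import Mathlib
import Groth.Agent.Lib.Helper23GenNear
import Groth.Agent.Lib.Helper23CounitEpi
import Groth.Agent.Lib.Helper23PB
import Groth.Agent.Lib.Helper23IdealSec

/-!
# Local sections from an epimorphic counit `f^* f_* N ⟶ N` (helper23)

Namespace `Groth.Agent.Lib.Helper23.CounitSec`.

* `isGenNear_iff_mem_basicOpen_of_iso` : for a trivialised module, generating near `y` = invertibility of the function at `y`.
* `isGenNear_restrict_iff` : generating near a point, on an open subscheme versus on the ambient scheme.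
* `exists_local_section_isGenNear` : if the counit at `N` is an epimorphism, `μ : N ⟶ M` with `M` invertible, and some local
  section of `N` maps to a generator of `M` near `x`, then so does some section of `N` over some `f⁻¹ V`.
-/

set_option autoImplicit false
universe u
open CategoryTheory CategoryTheory.Limits AlgebraicGeometry TopologicalSpace Opposite

namespace Groth.Agent.Lib.Helper23.CounitSec
open Groth.Agent.Lib.Helper23.SecTw Groth.Agent.Lib.Helper23.GenLocus Groth.Agent.Lib.Helper6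
open Groth.Agent.Lib.Helper23.Extend Groth.Agent.Lib.Helper23.GenNear Groth.Agent.Lib.Helper23.CounitEpi
open Groth.Agent.Lib.Helper23.Serre Groth.Agent.Lib.Helper23.PB
open Groth.Agent.Lib.Helper23.TensorMap Groth.Agent.Lib.Helper23.IdealSec

variable {X Y : Scheme.{u}}

/-- for a trivialised module, a section generates near `y` iff its function is invertible at `y` -/
theorem isGenNear_iff_mem_basicOpen_of_iso {M : X.Modules} (ε : M ≅ Coh.structureModule X) (V : X.Opens)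
    (m : Γ(M, V)) (y : X) (hy : y ∈ V) :
    IsGenNear M V m y ↔ y ∈ X.basicOpen (ofS V (ε.hom.app V m)) := by
  have hgen1 : IsGen (Coh.structureModule X) V (toS V 1) := isGen_one V
  have hgen : IsGen M V (ε.inv.app V (toS V 1)) := isGen_of_iso ε.symm hgen1
  rw [isGenNear_iff_of_isGen hgen le_rfl m y hy]
  have hc : coef hgen le_rfl (res M le_rfl m) = ofS V (ε.hom.app V m) := by
    symm
    apply coef_unique
    rw [res_self, res_self]
    have h1 : ε.hom.app V (ofS V (ε.hom.app V m) • ε.inv.app V (toS V 1)) = ε.hom.app V m := by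
      rw [Scheme.Modules.Hom.app_smul]
      have h2 : ε.hom.app V (ε.inv.app V (toS V 1)) = toS V 1 := by
        change (ε.inv ≫ ε.hom).app V (toS V 1) = _
        rw [Iso.inv_hom_id]; rfl
      rw [h2, smul_toS, mul_one]
      rfl
    have hiso : IsIso (ε.hom.app V) := Scheme.Modules.Hom.isIso_iff_isIso_app.1 inferInstance _
    exact (ConcreteCategory.bijective_of_isIso (ε.hom.app V)).1 h1
  rw [hc]

/-- generating near a point, on an open subscheme versus on the ambient scheme -/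
theorem isGenNear_restrict_iff (M : X.Modules) (U : X.Opens) (V' : (↑U : Scheme.{u}).Opens) (B' : X.Opens)
    (hV' : U.ι ''ᵁ V' ≤ B') (m : Γ(M, B')) (x' : (↑U : Scheme.{u})) (hx' : x' ∈ V') :
    IsGenNear (M.restrict U.ι) V' (show Γ(M.restrict U.ι, V') from res M hV' m) x' ↔ IsGenNear M B' m x'.1 := by
  have e1 : ∀ (V₁ : (↑U : Scheme.{u}).Opens) (hV₁ : V₁ ≤ V'),
      res (M.restrict U.ι) hV₁ (show Γ(M.restrict U.ι, V') from res M hV' m) =
        (show Γ(M.restrict U.ι, V₁) from res M ((U.ι.image_mono hV₁).trans hV') m) :=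
    fun V₁ hV₁ => (res_restrict M U hV₁ _).trans (res_res M hV' (U.ι.image_mono hV₁) m)
  constructor
  · rintro ⟨V₁, hV₁, hxV₁, hg⟩
    rw [e1] at hg
    have h2 := isGen_of_isGen_restrict M U V₁ _ hg
    exact ⟨U.ι ''ᵁ V₁, (U.ι.image_mono hV₁).trans hV', ⟨x', hxV₁, rfl⟩, h2⟩
  · rintro ⟨W₁, hW₁, hxW₁, hg⟩
    have hle1 : U.ι ⁻¹ᵁ W₁ ⊓ V' ≤ V' := inf_le_right
    have hle2 : U.ι ''ᵁ (U.ι ⁻¹ᵁ W₁ ⊓ V') ≤ W₁ := by
      rintro _ ⟨z, hz, rfl⟩
      exact hz.1
    refine ⟨U.ι ⁻¹ᵁ W₁ ⊓ V', hle1, ⟨hxW₁, hx'⟩, ?_⟩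
    rw [e1]
    apply isGen_restrict_of_isGen
    have := hg.mono hle2
    rwa [res_res] at this

variable (f : X ⟶ Y)

/-- if the counit at `N` is an epimorphism and some local section of `N` maps to a generator of the invertible module `M`
near `x`, then so does some section of `N` over some `f⁻¹ V` -/
theorem exists_local_section_isGenNear {N M : X.Modules} (hM : PicF.IsInvertible M) (μ : N ⟶ M)
    (hepi : Epi ((Scheme.Modules.pullbackPushforwardAdjunction f).counit.app N)) (x : X) (B : X.Opens)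
    (n₀ : Γ(N, B)) (h₀ : IsGenNear M B (μ.app B n₀) x) :
    ∃ (V'' : Y.Opens) (s : Γ(N, f ⁻¹ᵁ V'')), IsGenNear M (f ⁻¹ᵁ V'') (μ.app (f ⁻¹ᵁ V'') s) x := by
  obtain ⟨W, e, hxW, hgen⟩ := exists_gen M hM x
  obtain ⟨ε⟩ := nonempty_restrict_iso_of_isGen M W e hgen
  obtain ⟨x', hx'⟩ : ∃ x' : (↑W : Scheme.{u}), x' = ⟨x, hxW⟩ := ⟨_, rfl⟩
  obtain ⟨ix, hix⟩ : ∃ ix : Spec ((↑W : Scheme.{u}).residueField x') ⟶ (↑W : Scheme.{u}),
    ix = (↑W : Scheme.{u}).fromSpecResidueField x' := ⟨_, rfl⟩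
  -- the test morphism
  obtain ⟨T, hT⟩ : ∃ T : M ⟶ (Scheme.Modules.pushforward W.ι).obj
      ((Scheme.Modules.pushforward ix).obj (Coh.structureModule _)),
      T = (Scheme.Modules.restrictAdjunction W.ι).unit.app M ≫
        (Scheme.Modules.pushforward W.ι).map (ε.hom ≫ unitPush ix) := ⟨_, rfl⟩
  have hTapp : ∀ (B' : X.Opens) (m : Γ(M, B')), T.app B' m =
      toS (ix ⁻¹ᵁ (W.ι ⁻¹ᵁ B')) (ix.app (W.ι ⁻¹ᵁ B') (ofS (W.ι ⁻¹ᵁ B')
        (ε.hom.app (W.ι ⁻¹ᵁ B') (show Γ(M.restrict W.ι, W.ι ⁻¹ᵁ B') from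
          res M (W.ι.image_preimage_le B') m)))) := by
    intro B' m
    rw [hT]
    rfl
  have hkey : ∀ (B' : X.Opens) (m : Γ(M, B')), x ∈ B' →
      (IsGenNear M B' m x ↔ x' ∈ (↑W : Scheme.{u}).basicOpen (ofS (W.ι ⁻¹ᵁ B')
        (ε.hom.app (W.ι ⁻¹ᵁ B') (show Γ(M.restrict W.ι, W.ι ⁻¹ᵁ B') from
          res M (W.ι.image_preimage_le B') m)))) := by
    intro B' m hxB'
    have hx'V : x' ∈ W.ι ⁻¹ᵁ B' := by rw [hx']; exact hxB'
    rw [← isGenNear_iff_mem_basicOpen_of_iso ε _ _ x' hx'V,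
      isGenNear_restrict_iff M W (W.ι ⁻¹ᵁ B') B' (W.ι.image_preimage_le B') m x' hx'V, hx']
  by_contra hcon
  replace hcon : ∀ (V'' : Y.Opens) (s : Γ(N, f ⁻¹ᵁ V'')), ¬ IsGenNear M (f ⁻¹ᵁ V'') (μ.app (f ⁻¹ᵁ V'') s) x :=
    fun V'' s hs => hcon ⟨V'', s, hs⟩
  have hzero : μ ≫ T = 0 := by
    refine (epi_counit_iff f N).1 hepi _ _ _ (fun V'' => ?_)
    ext s
    have h2 : Scheme.Modules.Hom.app (μ ≫ T) (f ⁻¹ᵁ V'') s = T.app (f ⁻¹ᵁ V'') (μ.app (f ⁻¹ᵁ V'') s) := rfl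
    rw [h2, hTapp]
    by_cases hxV : x ∈ f ⁻¹ᵁ V''
    · have h3 := (hkey (f ⁻¹ᵁ V'') (μ.app (f ⁻¹ᵁ V'') s) hxV).not.1 (hcon V'' s)
      rw [hix, fromSpecResidueField_app_eq_zero x' _ _ h3]
      rfl
    · have h3 : x' ∉ (↑W : Scheme.{u}).basicOpen (ofS (W.ι ⁻¹ᵁ (f ⁻¹ᵁ V''))
          (ε.hom.app (W.ι ⁻¹ᵁ (f ⁻¹ᵁ V'')) (show Γ(M.restrict W.ι, W.ι ⁻¹ᵁ (f ⁻¹ᵁ V'')) from
            res M (W.ι.image_preimage_le (f ⁻¹ᵁ V'')) (μ.app (f ⁻¹ᵁ V'') s)))) := by
        intro h4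
        have h5 : x' ∈ W.ι ⁻¹ᵁ (f ⁻¹ᵁ V'') := (↑W : Scheme.{u}).basicOpen_le _ h4
        rw [hx'] at h5
        exact hxV h5
      rw [hix, fromSpecResidueField_app_eq_zero x' _ _ h3]
      rfl
  -- but `μ ≫ T` does not kill `n₀`
  have hxB : x ∈ B := h₀.mem
  have h6 := (hkey B (μ.app B n₀) hxB).1 h₀
  have h7 := congrArg (fun ψ => Scheme.Modules.Hom.app ψ B n₀) hzero
  simp only [] at h7
  have h8 : Scheme.Modules.Hom.app (μ ≫ T) B n₀ = T.app B (μ.app B n₀) := rfl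
  rw [h8, hTapp] at h7
  obtain ⟨a, ha⟩ : ∃ a : Γ((↑W : Scheme.{u}), W.ι ⁻¹ᵁ B), a = ofS (W.ι ⁻¹ᵁ B)
        (ε.hom.app (W.ι ⁻¹ᵁ B) (show Γ(M.restrict W.ι, W.ι ⁻¹ᵁ B) from
          res M (W.ι.image_preimage_le B) (μ.app B n₀))) := ⟨_, rfl⟩
  rw [← ha] at h6 h7
  have h9 : ix.app (W.ι ⁻¹ᵁ B) a = 0 := congrArg (ofS (ix ⁻¹ᵁ (W.ι ⁻¹ᵁ B))) h7
  -- `a` is invertible at `x'`, so its image in the residue field is not zero
  have h10 : ix ⁻¹ᵁ ((↑W : Scheme.{u}).basicOpen a) = ⊥ := by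
    rw [Scheme.preimage_basicOpen, h9, Scheme.basicOpen_zero]
  have hxr : x' ∈ Set.range ix := by rw [hix, Scheme.range_fromSpecResidueField]; rfl
  obtain ⟨z, hz⟩ := hxr
  have h11 : z ∈ ix ⁻¹ᵁ ((↑W : Scheme.{u}).basicOpen a) := by
    change ix z ∈ (↑W : Scheme.{u}).basicOpen a
    rw [hz]
    exact h6
  rw [h10] at h11
  exact h11

/-- a local section of an invertible `M` coming from `J ⊗ M` generates only outside the support of `J` -/
theorem mem_of_isGenNear_mulHom (J : X.IdealSheafData) {M : X.Modules} (hM : PicF.IsInvertible M) (U₀ : X.Opens)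
    (hU₀ : ∀ y, y ∉ U₀ → y ∈ J.support) (B' : X.Opens) (s : Γ(CohB1.tensorMod (ClSub.idealMod J) M, B')) (y : X)
    (h : IsGenNear M B' ((mulHom (ClSub.idealModι J) M).app B' s) y) : y ∈ U₀ := by
  by_contra hyU
  have hyB : y ∈ B' := h.mem
  obtain ⟨W₀, e₀, hyW₀, hgen₀⟩ := exists_gen M hM y
  obtain ⟨W, hW, hyW, hWle⟩ := Opens.isBasis_iff_nbhd.1 X.isBasis_affineOpens (show y ∈ W₀ ⊓ B' from ⟨hyW₀, hyB⟩)
  have hWW₀ : W ≤ W₀ := hWle.trans inf_le_left
  have hWB : W ≤ B' := hWle.trans inf_le_right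
  have hgen : IsGen M W (res M hWW₀ e₀) := hgen₀.mono hWW₀
  obtain ⟨j', hj'⟩ := (bijective_tm_of_isGen (ClSub.idealMod J) M W _ hgen W le_rfl).2
    (res (CohB1.tensorMod (ClSub.idealMod J) M) hWB s)
  rw [res_self] at hj'
  rw [isGenNear_iff_of_isGen hgen hWB _ y hyW] at h
  have hc : coef hgen le_rfl (res M hWB ((mulHom (ClSub.idealModι J) M).app B' s)) =
      ofS W ((ClSub.idealModι J).app W j') := by
    symm
    apply coef_unique
    rw [res_self]
    have e1 := app_map (mulHom (ClSub.idealModι J) M) (homOfLE hWB) s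
    have e2 := mulHom_tm (ClSub.idealModι J) M W j' (res M hWW₀ e₀)
    have e3 : tm (ClSub.idealMod J) M W j' (res M hWW₀ e₀) =
        res (CohB1.tensorMod (ClSub.idealMod J) M) hWB s := hj'
    rw [e3] at e2
    exact e2.symm.trans e1
  rw [hc] at h
  exact not_mem_basicOpen_of_mem_support J ⟨W, hW⟩ _ (ι_mem_ideal J ⟨W, hW⟩ j') y hyW (hU₀ y hyU) h

end Groth.Agent.Lib.Helper23.CounitSec
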