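import Mathlib
import Groth.Prelude.Def_Curv2
import Groth.Agent.Lib.Helper26ModLim2
import Groth.Agent.Lib.Helper26HomLimD
import Groth.Agent.Lib.Helper22LimBC
import Groth.Agent.Lib.Helper2PullbackSec
import Groth.Agent.Lib.Helper2LocFree
import Groth.Agent.Lib.Helper18Strict6
import Groth.Agent.Lib.Helper20FormalPull
import Groth.Agent.Lib.Helper20LocFree
import Groth.Agent.Lib.Helper23PB

/-!
# Global generation descends to a finite stage of a limit of schemes (helper26)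
-/

set_option autoImplicit false
set_option linter.style.haveILetI false
universe u
open CategoryTheory AlgebraicGeometry Limits

namespace Groth.Agent.Lib.Helper26.GGLim
open Groth.Agent.Lib.Helper26.ModLim2 Groth.Agent.Lib.Helper22.LimBC Groth.Agent.Lib.Helper23.PB

section basic
variable {X Y Z : Scheme.{u}}

/-- the free module of rank `n`. -/
noncomputable def freeFin (X : Scheme.{u}) (n : ℕ) : X.Modules :=
  SheafOfModules.free (R := X.ringCatSheaf) (ULift.{u} (Fin n))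

set_option backward.isDefEq.respectTransparency.types false in
/-- pullback of a free module is free. -/
noncomputable def pullbackFreeIso (f : X ⟶ Y) (n : ℕ) :
    (Scheme.Modules.pullback f).obj (freeFin Y n) ≅ freeFin X n :=
  SheafOfModules.pullbackObjFreeIso.{u} f.toRingCatSheafHom (ULift.{u} (Fin n))

instance isQuasicoherent_freeFin (n : ℕ) : (freeFin X n).IsQuasicoherent :=
  (SheafOfModules.isQuasicoherent X.ringCatSheaf).prop_of_iso
    (Groth.Agent.Lib.Helper20.LocFree.freeModIsoFree X n) inferInstance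

theorem isFP_freeFin (n : ℕ) : SheafOfModules.IsFinitePresentation (R := X.ringCatSheaf) (freeFin X n) := by
  apply Groth.Agent.Lib.Helper2.LocFree.isFP_of_isFinLocFree
  intro x
  refine ⟨⊤, n, trivial, ⟨?_⟩⟩
  exact (Scheme.Modules.restrictFunctor _).mapIso (Groth.Agent.Lib.Helper20.LocFree.freeModIsoFree X n).symm ≪≫
    Groth.Agent.Lib.Helper20.LocFree.restrictFreeMod _ n

/-- finitely generated by global sections. -/
def IsFinGG (M : X.Modules) : Prop :=
  ∃ (n : ℕ) (p : freeFin X n ⟶ M), Epi p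

theorem IsFinGG.isGloballyGenerated {M : X.Modules} (h : IsFinGG M) : Curv2.IsGloballyGenerated M := by
  obtain ⟨n, p, hp⟩ := h
  exact ⟨_, p, hp⟩

theorem IsFinGG.of_iso {M N : X.Modules} (e : M ≅ N) (h : IsFinGG M) : IsFinGG N := by
  obtain ⟨n, p, hp⟩ := h
  exact ⟨n, p ≫ e.hom, epi_comp _ _⟩

theorem IsFinGG.pullback (f : X ⟶ Y) {M : Y.Modules} (h : IsFinGG M) :
    IsFinGG ((Scheme.Modules.pullback f).obj M) := by
  obtain ⟨n, p, hp⟩ := h
  haveI := hp
  exact ⟨n, (pullbackFreeIso f _).inv ≫ (Scheme.Modules.pullback f).map p, epi_comp _ _⟩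

theorem IsFinGG.pullback_of_comp (f : X ⟶ Y) (g : Y ⟶ Z) (p : X ⟶ Z) (e : f ≫ g = p) {M : Z.Modules}
    (h : IsFinGG ((Scheme.Modules.pullback g).obj M)) : IsFinGG ((Scheme.Modules.pullback p).obj M) :=
  (h.pullback f).of_iso ((compIso f g p e).app M)

theorem IsFinGG.of_epi {n : ℕ} {M N : X.Modules}
    (e : M ≅ freeFin X n) (a : M ⟶ N) (h : Epi a) : IsFinGG N :=
  ⟨n, e.inv ≫ a, epi_comp _ _⟩

end basic

section sys
variable {I : Type u} [SmallCategory I] [IsCofiltered I] (D : I ⥤ Scheme.{u}) (c : Cone D)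
  (hc : IsLimit c) [∀ (i j : I) (f : i ⟶ j), IsAffineHom (D.map f)] (i₀ : I)

include hc in
/-- if the pullback of `M₀` to `U = U₀ ×_{S_{i₀}} S` is generated by finitely many global sections, then so is the
pullback to some `U₀ ×_{S_{i₀}} S_j`. -/
theorem exists_stage_isFinGG {U₀ : Scheme.{u}} (h₀ : U₀ ⟶ D.obj i₀) [CompactSpace U₀] [QuasiSeparatedSpace U₀]
    (M₀ : U₀.Modules) [M₀.IsQuasicoherent] (hM₀ : SheafOfModules.IsFiniteType (R := U₀.ringCatSheaf) M₀)
    {U : Scheme.{u}} {qU : U ⟶ U₀} {pU : U ⟶ c.pt} (hU : IsPullback qU pU h₀ (c.π.app i₀))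
    (hgg : IsFinGG ((Scheme.Modules.pullback qU).obj M₀)) :
    ∃ j : Over i₀, IsFinGG ((Scheme.Modules.pullback (dFst D i₀ h₀ j)).obj M₀) := by
  haveI hD : ∀ {i j : I} (φ : i ⟶ j), IsAffineHom (D.map φ) := fun φ => inferInstance
  obtain ⟨n, e, he⟩ := hgg
  have hc' : IsLimit (bcCone i₀ hU) := isLimitBcCone i₀ hU hc
  let b : Over i₀ := Over.mk (𝟙 i₀)
  -- modules at the base stage
  let F₀ : ((bcDiagram D i₀ h₀).obj b).Modules := freeFin _ n
  let G₀ : ((bcDiagram D i₀ h₀).obj b).Modules := (Scheme.Modules.pullback (dFst D i₀ h₀ b)).obj M₀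
  haveI : G₀.IsQuasicoherent := Groth.Agent.Lib.Helper2.PullbackSec.isQuasicoherent_pullback _ _
  haveI : F₀.IsQuasicoherent := isQuasicoherent_freeFin n
  have hF₀ : SheafOfModules.IsFinitePresentation (R := ((bcDiagram D i₀ h₀).obj b).ringCatSheaf) F₀ :=
    isFP_freeFin n
  -- the map at the limit
  let ε : (Scheme.Modules.pullback (bcπ i₀ hU b)).obj G₀ ≅ (Scheme.Modules.pullback qU).obj M₀ :=
    (compIso (bcπ i₀ hU b) (dFst D i₀ h₀ b) qU (bcπ_fst i₀ hU b)).app M₀
  let h : (Scheme.Modules.pullback (bcπ i₀ hU b)).obj F₀ ⟶ (Scheme.Modules.pullback (bcπ i₀ hU b)).obj G₀ :=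
    (pullbackFreeIso (bcπ i₀ hU b) n).hom ≫ e ≫ ε.inv
  have hh : Epi h := by
    haveI := he
    haveI : Epi (e ≫ ε.inv) := epi_comp _ _
    exact epi_comp _ _
  obtain ⟨j, hj, ej⟩ := Groth.Agent.Lib.Helper26.HomLimD.exists_hom_pullback_eq
    (bcDiagram D i₀ h₀) (bcCone i₀ hU) hc' b G₀ F₀ hF₀ h
  -- the descended map is an epimorphism after pullback to the limit
  let κ := compIso (bcπ i₀ hU j.left) ((bcDiagram D i₀ h₀).map j.hom) (bcπ i₀ hU b) (bcπ_map i₀ hU j.hom)
  have ej' : κ.inv.app F₀ ≫ (Scheme.Modules.pullback (bcπ i₀ hU j.left)).map hj ≫ κ.hom.app G₀ = h := ej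
  have hepi : Epi ((Scheme.Modules.pullback (bcπ i₀ hU j.left)).map hj) := by
    have e1 : (Scheme.Modules.pullback (bcπ i₀ hU j.left)).map hj = κ.hom.app F₀ ≫ h ≫ κ.inv.app G₀ := by
      rw [← ej']
      simp
    rw [e1]
    haveI := hh
    haveI : Epi (h ≫ κ.inv.app G₀) := epi_comp _ _
    exact epi_comp _ _
  haveI : ((Scheme.Modules.pullback ((bcDiagram D i₀ h₀).map j.hom)).obj F₀).IsQuasicoherent :=
    Groth.Agent.Lib.Helper2.PullbackSec.isQuasicoherent_pullback _ _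
  haveI : ((Scheme.Modules.pullback ((bcDiagram D i₀ h₀).map j.hom)).obj G₀).IsQuasicoherent :=
    Groth.Agent.Lib.Helper2.PullbackSec.isQuasicoherent_pullback _ _
  have hG₀ : SheafOfModules.IsFiniteType (R := ((bcDiagram D i₀ h₀).obj b).ringCatSheaf) G₀ := by
    haveI := hM₀
    exact Groth.Agent.Lib.Helper20.FormalPull.isFiniteType_pullback _ M₀
  have hG₁ : SheafOfModules.IsFiniteType (R := ((bcDiagram D i₀ h₀).obj j.left).ringCatSheaf)
      ((Scheme.Modules.pullback ((bcDiagram D i₀ h₀).map j.hom)).obj G₀) := by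
    haveI := hG₀
    exact Groth.Agent.Lib.Helper20.FormalPull.isFiniteType_pullback _ G₀
  obtain ⟨j₂, φ₂, hj₂⟩ := exists_epi_pullback_map (bcDiagram D i₀ h₀) (bcCone i₀ hU) hc' j.left hG₁ hj hepi
  refine ⟨j₂, ?_⟩
  -- `(φ₂)^* (j.hom)^* G₀` is finitely globally generated
  have h1 : IsFinGG ((Scheme.Modules.pullback ((bcDiagram D i₀ h₀).map φ₂)).obj
      ((Scheme.Modules.pullback ((bcDiagram D i₀ h₀).map j.hom)).obj G₀)) :=
    IsFinGG.of_epi ((Scheme.Modules.pullback ((bcDiagram D i₀ h₀).map φ₂)).mapIso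
      (pullbackFreeIso ((bcDiagram D i₀ h₀).map j.hom) n) ≪≫ pullbackFreeIso _ n) _ hj₂
  have h2 : IsFinGG ((Scheme.Modules.pullback ((bcDiagram D i₀ h₀).map φ₂ ≫ (bcDiagram D i₀ h₀).map j.hom)).obj G₀) :=
    h1.of_iso ((compIso _ _ _ rfl).app G₀)
  have h3 : IsFinGG ((Scheme.Modules.pullback (((bcDiagram D i₀ h₀).map φ₂ ≫ (bcDiagram D i₀ h₀).map j.hom) ≫
      dFst D i₀ h₀ b)).obj M₀) := h2.of_iso ((compIso _ _ _ rfl).app M₀)
  have e3 : ((bcDiagram D i₀ h₀).map φ₂ ≫ (bcDiagram D i₀ h₀).map j.hom) ≫ dFst D i₀ h₀ b = dFst D i₀ h₀ j₂ := by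
    rw [Category.assoc, map_dFst, map_dFst]
  rw [e3] at h3
  exact h3

end sys

end Groth.Agent.Lib.Helper26.GGLim
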