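import Mathlib
import Groth.Agent.Lib.Helper23CounitSec
import Groth.Agent.Lib.Helper23LocGen
import Groth.Agent.Lib.Helper26GGLim

set_option autoImplicit false
set_option linter.style.haveILetI false
universe u
open CategoryTheory CategoryTheory.Limits AlgebraicGeometry TopologicalSpace Opposite

namespace Groth.Agent.Lib.Helper26.GGCounit
open Groth.Agent.Lib.Helper23.SecTw Groth.Agent.Lib.Helper23.GenLocus Groth.Agent.Lib.Helper6
open Groth.Agent.Lib.Helper23.IdealSec Groth.Agent.Lib.Helper23.CounitEpi Groth.Agent.Lib.Helper23.CounitSec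
open Groth.Agent.Lib.Helper23.GenNear Groth.Agent.Lib.Helper23.TensorMap Groth.Agent.Lib.Helper23.Extend
open Groth.Agent.Lib.Helper23.AmpleIso Groth.Agent.Lib.Helper26.GGLim

variable {X Y : Scheme.{u}}

/-- the free module on `ι`, as an object of `X.Modules`. -/
noncomputable def freeOn (X : Scheme.{u}) (ι : Type u) : X.Modules := SheafOfModules.free (R := X.ringCatSheaf) ι

noncomputable def ιOn (X : Scheme.{u}) {ι : Type u} (i : ι) : Coh.structureModule X ⟶ freeOn X ι :=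
  SheafOfModules.ιFree (R := X.ringCatSheaf) i

noncomputable def descOn {ι : Type u} {N : X.Modules} (s : ι → (Coh.structureModule X ⟶ N)) : freeOn X ι ⟶ N :=
  Sigma.desc (C := SheafOfModules X.ringCatSheaf) s

theorem ιOn_descOn {ι : Type u} {N : X.Modules} (s : ι → (Coh.structureModule X ⟶ N)) (i : ι) :
    ιOn X i ≫ descOn s = s i :=
  Sigma.ι_desc (C := SheafOfModules X.ringCatSheaf) s i

/-- sections whose generating loci cover give an epimorphism from a free module. -/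
theorem epi_descOn_of_cover (N : X.Modules) {ι : Type u} (s : ι → (Coh.structureModule X ⟶ N))
    (h : ∀ x : X, ∃ i, x ∈ CohB1.genLocus N (s i)) : Epi (descOn s) := by
  apply Groth.Agent.Lib.Helper23.Serre.epi_of_locally_surjective
  intro V t x hxV
  obtain ⟨i, hi⟩ := h x
  have hgen := isGen_sv_genLocus N (s i)
  obtain ⟨B, hB⟩ : ∃ B : X.Opens, B = V ⊓ CohB1.genLocus N (s i) := ⟨_, rfl⟩
  have hBV : B ≤ V := hB ▸ inf_le_left
  have hBG : B ≤ CohB1.genLocus N (s i) := hB ▸ inf_le_right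
  obtain ⟨r, hr⟩ := (hgen B hBG).2 (res N hBV t)
  refine ⟨B, hBV, hB ▸ ⟨hxV, hi⟩, ?_⟩
  refine ⟨r • (ιOn X i).app B (toS B 1), ?_⟩
  rw [Scheme.Modules.Hom.app_smul]
  have h1 : (descOn s).app B ((ιOn X i).app B (toS B 1)) = sv (s i) B :=
    congrArg (fun φ : Coh.structureModule X ⟶ N => φ.app B (toS B 1)) (ιOn_descOn s i)
  rw [h1]
  simp only [] at hr
  rw [res_sv] at hr
  exact hr

/-- finitely many sections over a quasi-compact open generating near each point -/
theorem isFinGG_restrict_of_forall_isGenNear (L : X.Modules) (U : X.Opens) (hqc : IsCompact U.1)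
    (h : ∀ x ∈ U, ∃ t : Γ(L, U), IsGenNear L U t x) : IsFinGG (L.restrict U.ι) := by
  haveI : CompactSpace (↑U : Scheme.{u}) := isCompact_iff_compactSpace.1 hqc
  choose t ht using h
  -- open cover
  let G : (↑U : Scheme.{u}) → (↑U : Scheme.{u}).Opens := fun x' =>
    CohB1.genLocus (L.restrict U.ι) (restrSecLocal L U (t x'.1 x'.2))
  have hG : ∀ x', x' ∈ G x' := fun x' => (mem_genLocus_restrSecLocal_iff L U _ x').2 (ht x'.1 x'.2)
  obtain ⟨s, hs⟩ := CompactSpace.elim_nhds_subcover (fun x' => (G x' : Set (↑U : Scheme.{u})))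
    (fun x' => (G x').2.mem_nhds (hG x'))
  let e := s.equivFin
  let σ : ULift.{u} (Fin s.card) → (Coh.structureModule (↑U : Scheme.{u}) ⟶ L.restrict U.ι) := fun i =>
    restrSecLocal L U (t (e.symm i.down).1.1 (e.symm i.down).1.2)
  refine ⟨s.card, descOn σ, epi_descOn_of_cover _ σ (fun x' => ?_)⟩
  have h1 : x' ∈ ⋃ x ∈ s, (G x : Set (↑U : Scheme.{u})) := by rw [hs]; trivial
  obtain ⟨y, hy, hxy⟩ := Set.mem_iUnion₂.1 h1
  refine ⟨⟨e ⟨y, hy⟩⟩, ?_⟩
  have h2 : σ ⟨e ⟨y, hy⟩⟩ = restrSecLocal L U (t y.1 y.2) := by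
    simp only [σ, Equiv.symm_apply_apply]
  rw [h2]
  exact hxy

variable (f : X ⟶ Y)

/-- if the counit `f^* f_* L ⟶ L` is an epimorphism (`L` invertible), then over the preimage of an affine open,
`L` is generated near each point by a section over the whole preimage. -/
theorem exists_section_isGenNear_of_epi_counit (L : X.Modules) (hL : PicF.IsInvertible L)
    (hepi : Epi ((Scheme.Modules.pullbackPushforwardAdjunction f).counit.app L))
    (V : Y.Opens) (hV : IsAffineOpen V) (hqc : IsCompact (f ⁻¹ᵁ V).1) (hqs : IsQuasiSeparated (f ⁻¹ᵁ V).1)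
    (x : X) (hx : x ∈ f ⁻¹ᵁ V) : ∃ t : Γ(L, f ⁻¹ᵁ V), IsGenNear L (f ⁻¹ᵁ V) t x := by
  obtain ⟨W₀, e₀, hxW₀, hgen₀⟩ := exists_gen L hL x
  have h₀ : IsGenNear L W₀ ((𝟙 L : L ⟶ L).app W₀ e₀) x := by
    refine ⟨W₀, le_rfl, hxW₀, ?_⟩
    rw [res_self]
    exact hgen₀
  obtain ⟨V'', s, hs⟩ := exists_local_section_isGenNear f hL (𝟙 L) hepi x _ _ h₀
  have hxV'' : x ∈ f ⁻¹ᵁ V'' := hs.mem
  obtain ⟨g, hgle, hxg⟩ := hV.exists_basicOpen_le (V := V ⊓ V'') ⟨f x, ⟨hx, hxV''⟩⟩ hx
  obtain ⟨g', hg'⟩ : ∃ g' : Γ(X, f ⁻¹ᵁ V), g' = f.app V g := ⟨_, rfl⟩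
  have hbo : X.basicOpen g' = f ⁻¹ᵁ Y.basicOpen g := by rw [hg', Scheme.preimage_basicOpen]
  have hle' : X.basicOpen g' ≤ f ⁻¹ᵁ V'' := by
    rw [hbo]
    exact f.preimage_mono (hgle.trans inf_le_right)
  have hxg' : x ∈ X.basicOpen g' := by rw [hbo]; exact hxg
  obtain ⟨t, ht⟩ := exists_extension_isGenNear hL (f ⁻¹ᵁ V) hqc hqs g' (f ⁻¹ᵁ V'') hle'
    ((𝟙 L : L ⟶ L).app (f ⁻¹ᵁ V'') s)
  exact ⟨t, (ht x).2 ⟨hxg', hs⟩⟩

/-- if the counit `f^* f_* L ⟶ L` is an epimorphism (`L` invertible, `f` quasi-compact, `X` quasi-separated), then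
over the preimage of an affine open `L` is generated by finitely many sections. -/
theorem isFinGG_restrict_of_epi_counit [QuasiCompact f] [QuasiSeparatedSpace X]
    (L : X.Modules) (hL : PicF.IsInvertible L)
    (hepi : Epi ((Scheme.Modules.pullbackPushforwardAdjunction f).counit.app L))
    (V : Y.Opens) (hV : IsAffineOpen V) (U : X.Opens) (hU : U = f ⁻¹ᵁ V) : IsFinGG (L.restrict U.ι) := by
  subst hU
  have hqc : IsCompact (f ⁻¹ᵁ V).carrier := QuasiCompact.isCompact_preimage (f := f) _ V.2 hV.isCompact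
  have hqs : IsQuasiSeparated (f ⁻¹ᵁ V).carrier := IsQuasiSeparated.of_quasiSeparatedSpace _
  exact isFinGG_restrict_of_forall_isGenNear L _ hqc
    (fun x hx => exists_section_isGenNear_of_epi_counit f L hL hepi V hV hqc hqs x hx)

end Groth.Agent.Lib.Helper26.GGCounit
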