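import Mathlib
import Groth.Agent.Lib.Helper26GGCounit
import Groth.Agent.Lib.Helper26ModLim3
import Groth.Agent.Lib.Helper18OmLS10
import Groth.Agent.Lib.Helper23FinType2
import Groth.Agent.Lib.Helper23SecTw3

/-!
# Finite free presentations on affine schemes (helper26)

* `isFinGG_of_isAffine`: on an affine scheme, a quasi-coherent module of finite type is generated by finitely many
  global sections.
* `exists_RE_free_of_isAffine`: on an affine scheme, a quasi-coherent module of finite presentation is the cokernel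
  of a map between finite free modules.
* `nonempty_iso_of_RE`: two cokernels of the same map are isomorphic.
-/

set_option autoImplicit false
set_option linter.style.haveILetI false
set_option linter.unusedSectionVars false
universe u
open CategoryTheory AlgebraicGeometry Limits TopologicalSpace

namespace Groth.Agent.Lib.Helper26.AffPres

open Groth.Agent.Lib.Helper26.GGLim Groth.Agent.Lib.Helper26.GGCounit Groth.Agent.Lib.Helper26.ModLim2
  Groth.Agent.Lib.Helper26.ModLim3 Groth.Agent.Lib.Helper23.SecTw Groth.Agent.Lib.Helper23.GenLocus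
  Groth.Agent.Lib.Helper6 Groth.Agent.Lib.Helper26.HomLimC

variable {X : Scheme.{u}}

theorem nonempty_iso_of_RE {C : Type*} [Category C] [Abelian C] {A B E E' : C} {a : A ⟶ B} {b : B ⟶ E}
    {b' : B ⟶ E'} (h : RE a b) (h' : RE a b') : Nonempty (E ≅ E') := by
  obtain ⟨w, h1⟩ := h
  obtain ⟨w', h1'⟩ := h'
  obtain ⟨hc⟩ := (RE_iff_nonempty_isColimit a b w).1 ⟨w, h1⟩
  obtain ⟨hc'⟩ := (RE_iff_nonempty_isColimit a b' w').1 ⟨w', h1'⟩
  exact ⟨IsColimit.coconePointUniqueUpToIso hc hc'⟩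

theorem RE_cokernel {C : Type*} [Category C] [Abelian C] {A B : C} (a : A ⟶ B) : RE a (cokernel.π a) :=
  (RE_iff_nonempty_isColimit a _ (cokernel.condition a)).2 ⟨cokernelIsCokernel a⟩

theorem isFinGG_of_isAffine [IsAffine X] (M : X.Modules) [M.IsQuasicoherent]
    (hM : SheafOfModules.IsFiniteType (R := X.ringCatSheaf) M) : IsFinGG M := by
  haveI := hM
  haveI : Module.Finite Γ(X, ⊤) Γ(M, ⊤) :=
    Groth.Agent.Lib.Helper23.FinType.finite_of_isFiniteType M (isAffineOpen_top X)
  obtain ⟨n, t, ht⟩ := Module.Finite.exists_fin (R := Γ(X, ⊤)) (M := Γ(M, ⊤))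
  let σ : ULift.{u} (Fin n) → (Coh.structureModule X ⟶ M) := fun i => secHom M (t i.down)
  refine ⟨n, descOn σ, ?_⟩
  haveI : (freeOn X (ULift.{u} (Fin n))).IsQuasicoherent := isQuasicoherent_freeFin n
  refine Groth.Agent.Helper18OmLS.epi_of_surjective_app_cover (descOn σ) (fun _ : PUnit.{1} => (⊤ : X.Opens))
    ?_ (fun _ => isAffineOpen_top X) (fun _ => ?_)
  · rw [IsOpenCover, eq_top_iff]
    exact le_iSup (fun _ : PUnit.{1} => (⊤ : X.Opens)) PUnit.unit
  · have hle : (⊤ : Submodule Γ(X, ⊤) Γ(M, ⊤)) ≤ LinearMap.range (appLin (descOn σ) ⊤) := by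
      rw [← ht, Submodule.span_le]
      rintro _ ⟨k, rfl⟩
      refine ⟨(ιOn X (⟨k⟩ : ULift.{u} (Fin n))).app ⊤ (toS ⊤ 1), ?_⟩
      have h1 : (descOn σ).app ⊤ ((ιOn X (⟨k⟩ : ULift.{u} (Fin n))).app ⊤ (toS ⊤ 1)) = sv (σ ⟨k⟩) ⊤ :=
        congrArg (fun φ : Coh.structureModule X ⟶ M => φ.app ⊤ (toS ⊤ 1)) (ιOn_descOn σ ⟨k⟩)
      rw [appLin_apply, h1, sv_secHom]
      exact Groth.Agent.Helper13ModGlue.res_self M le_top (t k)
    intro y
    obtain ⟨x, hx⟩ := hle (Submodule.mem_top : y ∈ ⊤)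
    exact ⟨x, hx⟩

theorem exists_RE_free_of_isAffine [IsAffine X] (M : X.Modules) [M.IsQuasicoherent]
    (hM : SheafOfModules.IsFinitePresentation (R := X.ringCatSheaf) M) :
    ∃ (m n : ℕ) (u : freeFin X m ⟶ freeFin X n) (q : freeFin X n ⟶ M), RE u q := by
  haveI := hM
  have hft : SheafOfModules.IsFiniteType (R := X.ringCatSheaf) M :=
    Groth.Agent.Helper18Strict.isFT_of_isFP M hM
  obtain ⟨n, q, hq⟩ := isFinGG_of_isAffine M hft
  haveI := hq
  haveI : (kernel q).IsQuasicoherent := Groth.Agent.Lib.Helper23.QCohLocal.isQuasicoherent_kernel q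
  have hfree : SheafOfModules.IsFiniteType (R := X.ringCatSheaf) (freeFin X n) :=
    Groth.Agent.Helper18Strict.isFT_of_isFP _ (isFP_freeFin (X := X) n)
  have hK := isFiniteType_kernel_of_epi hfree hM q
  obtain ⟨m, e, he⟩ := isFinGG_of_isAffine (kernel q) hK
  haveI := he
  refine ⟨m, n, e ≫ kernel.ι q, q, ?_⟩
  have w : (e ≫ kernel.ι q) ≫ q = 0 := by rw [Category.assoc, kernel.condition, comp_zero]
  rw [RE_iff_nonempty_isColimit _ _ w]
  have hc : IsColimit (CokernelCofork.ofπ q (kernel.condition q)) :=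
    Abelian.epiIsCokernelOfKernel (KernelFork.ofι (kernel.ι q) (kernel.condition q)) (kernelIsKernel q)
  exact ⟨isCokernelEpiComp hc e rfl⟩

end Groth.Agent.Lib.Helper26.AffPres
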