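import Mathlib
import Groth.Agent.Lib.Helper26AffPres
import Groth.Agent.Lib.Helper26HomLimD
import Groth.Agent.Lib.Helper1PC12
import Groth.Agent.Lib.Helper23QCohAbelian

/-!
# Descent of finitely presented modules to a stage of a limit: the affine case (helper26)

* `isFinLocFree_freeFin`, `isFP_cokernel_free`: cokernels of maps between (pullbacks of) finite free modules.
* `exists_module_descend_of_isAffine`: `S = lim S_i`, `S_{i₀}` affine: every quasi-coherent module of finite
  presentation on `S` is the pullback of one on some `S_j`.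
-/

set_option autoImplicit false
set_option linter.style.haveILetI false
set_option linter.unusedSectionVars false
universe u
open CategoryTheory AlgebraicGeometry Limits TopologicalSpace

namespace Groth.Agent.Lib.Helper26.ModDesc

open Groth.Agent.Lib.Helper26.GGLim Groth.Agent.Lib.Helper26.ModLim2 Groth.Agent.Lib.Helper26.ModLim3
  Groth.Agent.Lib.Helper26.AffPres Groth.Agent.Lib.Helper26.HomLimD

section free
variable {X Y : Scheme.{u}}

theorem isFinLocFree_freeFin (n : ℕ) : FlatMod.IsFinLocFree (freeFin X n) := by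
  intro x
  refine ⟨⊤, n, trivial, ⟨?_⟩⟩
  exact (Scheme.Modules.restrictFunctor _).mapIso (Groth.Agent.Lib.Helper20.LocFree.freeModIsoFree X n).symm ≪≫
    Groth.Agent.Lib.Helper20.LocFree.restrictFreeMod _ n

theorem isFinLocFree_pullback_freeFin (f : X ⟶ Y) (n : ℕ) :
    FlatMod.IsFinLocFree ((Scheme.Modules.pullback f).obj (freeFin Y n)) :=
  Groth.Agent.Lib.Helper1.FLF.isFinLocFree_of_iso (pullbackFreeIso f n).symm (isFinLocFree_freeFin n)

end free

section sys
variable {I : Type u} [SmallCategory I] [IsCofiltered I] (D : I ⥤ Scheme.{u}) (c : Cone D)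
  (hc : IsLimit c) [∀ (i j : I) (f : i ⟶ j), IsAffineHom (D.map f)] (i₀ : I)

include hc in
theorem exists_module_descend_of_isAffine [IsAffine (D.obj i₀)] (F : c.pt.Modules) [F.IsQuasicoherent]
    (hF : SheafOfModules.IsFinitePresentation (R := c.pt.ringCatSheaf) F) :
    ∃ (j : Over i₀) (Fj : (D.obj j.left).Modules), Fj.IsQuasicoherent ∧
      SheafOfModules.IsFinitePresentation (R := (D.obj j.left).ringCatSheaf) Fj ∧
      Nonempty ((Scheme.Modules.pullback (c.π.app j.left)).obj Fj ≅ F) := by
  haveI hD : ∀ {i j : I} (φ : i ⟶ j), IsAffineHom (D.map φ) := fun φ => inferInstance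
  haveI : IsAffineHom (c.π.app i₀) := isAffineHom_π_app D c hc i₀
  haveI : IsAffine c.pt := isAffine_of_isAffineHom (c.π.app i₀)
  obtain ⟨m, n, u, q, hRE⟩ := exists_RE_free_of_isAffine F hF
  let F₀ : (D.obj i₀).Modules := freeFin _ m
  let G₀ : (D.obj i₀).Modules := freeFin _ n
  let h : (Scheme.Modules.pullback (leg D c i₀)).obj F₀ ⟶ (Scheme.Modules.pullback (leg D c i₀)).obj G₀ :=
    (pullbackFreeIso (leg D c i₀) m).hom ≫ u ≫ (pullbackFreeIso (leg D c i₀) n).inv
  obtain ⟨j, hj, ej⟩ := exists_hom_pullback_eq D c hc i₀ G₀ F₀ (isFP_freeFin m) h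
  haveI : ((Scheme.Modules.pullback (D.map j.hom)).obj F₀).IsQuasicoherent :=
    Groth.Agent.Lib.Helper2.PullbackSec.isQuasicoherent_pullback _ _
  haveI : ((Scheme.Modules.pullback (D.map j.hom)).obj G₀).IsQuasicoherent :=
    Groth.Agent.Lib.Helper2.PullbackSec.isQuasicoherent_pullback _ _
  refine ⟨j, cokernel hj, Groth.Agent.Lib.Helper23.QCohLocal.isQuasicoherent_cokernel hj, ?_, ?_⟩
  · obtain ⟨w, hex, hepi⟩ := RE_cokernel hj
    haveI := hepi
    exact Groth.Agent.Lib.Helper1.SPL.isFP_of_cokernel hj (cokernel.π hj) w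
      (isFinLocFree_pullback_freeFin _ m) (isFinLocFree_pullback_freeFin _ n) hex
  · let κ := compIso (leg D c j.left) (D.map j.hom) (leg D c i₀) (leg_w D c j.hom)
    have ej' : κ.inv.app F₀ ≫ (Scheme.Modules.pullback (leg D c j.left)).map hj ≫ κ.hom.app G₀ = h := ej
    have h1 : RE ((Scheme.Modules.pullback (leg D c j.left)).map hj)
        ((Scheme.Modules.pullback (leg D c j.left)).map (cokernel.π hj)) :=
      (RE_cokernel hj).map (Scheme.Modules.pullback (leg D c j.left))
    let eA : freeFin c.pt m ≅ (Scheme.Modules.pullback (leg D c j.left)).obj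
        ((Scheme.Modules.pullback (D.map j.hom)).obj F₀) :=
      (pullbackFreeIso (leg D c i₀) m).symm ≪≫ (κ.app F₀).symm
    let eB : freeFin c.pt n ≅ (Scheme.Modules.pullback (leg D c j.left)).obj
        ((Scheme.Modules.pullback (D.map j.hom)).obj G₀) :=
      (pullbackFreeIso (leg D c i₀) n).symm ≪≫ (κ.app G₀).symm
    have h2 : RE ((Scheme.Modules.pullback (leg D c j.left)).map hj) (eB.inv ≫ q) := by
      refine RE_of_iso eA eB (Iso.refl F) ?_ ?_ hRE
      · have e1 : κ.inv.app F₀ ≫ (Scheme.Modules.pullback (leg D c j.left)).map hj =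
            h ≫ κ.inv.app G₀ := by
          rw [← ej']
          simp
        simp only [eA, eB, Iso.trans_hom, Iso.symm_hom, Iso.app_inv, Category.assoc]
        rw [e1]
        simp [h]
      · simp
    obtain ⟨e⟩ := nonempty_iso_of_RE h1 h2
    exact ⟨e⟩

end sys

end Groth.Agent.Lib.Helper26.ModDesc
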