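import Mathlib
import Groth.Agent.Lib.Helper26PbCalc

/-!
# Calculus of pullback functors of modules II: squares and three-step paths (helper26)

* `sqIso p f q g d e₁ e₂ : f^* ⋙ p^* ≅ g^* ⋙ q^*` for a commutative square `p ≫ f = d = q ≫ g`.
* `k3 f g h d e M : f^* g^* h^* M ⟶ d^* M` for `f ≫ g ≫ h = d`, the canonical identification, with
  * `k3_contract_right`, `k3_contract_left`: contraction of two adjacent steps by `compIso`;
  * `k3_rewrite_right`, `k3_rewrite_left`: rewriting two adjacent steps by a commutative square.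
-/

set_option autoImplicit false
set_option linter.style.haveILetI false
set_option linter.unusedSectionVars false
universe u
open CategoryTheory AlgebraicGeometry

namespace Groth.Agent.Lib.Helper26.PbCalc

open Groth.Agent.Lib.Helper26.ModLim2 Scheme.Modules

section sq
variable {P X Y Z : Scheme.{u}} (p : P ⟶ X) (f : X ⟶ Z) (q : P ⟶ Y) (g : Y ⟶ Z) (d : P ⟶ Z)
  (e₁ : p ≫ f = d) (e₂ : q ≫ g = d)

/-- the canonical isomorphism `p^* f^* ≅ q^* g^*` attached to a commutative square. -/
noncomputable def sqIso : pullback f ⋙ pullback p ≅ pullback g ⋙ pullback q :=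
  compIso p f d e₁ ≪≫ (compIso q g d e₂).symm

theorem sqIso_hom_app (M : Z.Modules) :
    (sqIso p f q g d e₁ e₂).hom.app M = (compIso p f d e₁).hom.app M ≫ (compIso q g d e₂).inv.app M := rfl

theorem sqIso_inv_app (M : Z.Modules) :
    (sqIso p f q g d e₁ e₂).inv.app M = (compIso q g d e₂).hom.app M ≫ (compIso p f d e₁).inv.app M := rfl

theorem sqIso_hom_comp (M : Z.Modules) :
    (sqIso p f q g d e₁ e₂).hom.app M ≫ (compIso q g d e₂).hom.app M = (compIso p f d e₁).hom.app M := by
  rw [sqIso_hom_app, Category.assoc, Iso.inv_hom_id_app, Category.comp_id]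

theorem sqIso_naturality {M N : Z.Modules} (x : M ⟶ N) :
    (pullback p).map ((pullback f).map x) ≫ (sqIso p f q g d e₁ e₂).hom.app N =
      (sqIso p f q g d e₁ e₂).hom.app M ≫ (pullback q).map ((pullback g).map x) :=
  (sqIso p f q g d e₁ e₂).hom.naturality x

end sq

section k3
variable {X Y Z T : Scheme.{u}} (f : X ⟶ Y) (g : Y ⟶ Z) (h : Z ⟶ T) (d : X ⟶ T) (e : f ≫ g ≫ h = d)

/-- the canonical identification `f^* g^* h^* M ≅ d^* M` for `f ≫ g ≫ h = d`. -/
noncomputable def k3 (M : T.Modules) :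
    (pullback f).obj ((pullback g).obj ((pullback h).obj M)) ⟶ (pullback d).obj M :=
  (pullback f).map ((compIso g h (g ≫ h) rfl).hom.app M) ≫ (compIso f (g ≫ h) d e).hom.app M

instance (M : T.Modules) : IsIso (k3 f g h d e M) := by
  unfold k3; infer_instance

/-- contraction of the last two steps -/
theorem k3_contract_right (gh : Y ⟶ T) (e₂ : g ≫ h = gh) (e₄ : f ≫ gh = d) (M : T.Modules) :
    (pullback f).map ((compIso g h gh e₂).hom.app M) ≫ (compIso f gh d e₄).hom.app M = k3 f g h d e M := by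
  subst e₂
  rfl

/-- contraction of the first two steps -/
theorem k3_contract_left (fg : X ⟶ Z) (e₁ : f ≫ g = fg) (e₃ : fg ≫ h = d) (M : T.Modules) :
    (compIso f g fg e₁).hom.app ((pullback h).obj M) ≫ (compIso fg h d e₃).hom.app M = k3 f g h d e M := by
  unfold k3
  exact compIso_assoc f g h fg (g ≫ h) d e₁ rfl e₃ e M

/-- rewriting the last two steps by a commutative square -/
theorem k3_rewrite_right {Z' : Scheme.{u}} (g' : Y ⟶ Z') (h' : Z' ⟶ T) (m : Y ⟶ T) (e₁ : g ≫ h = m)
    (e₂ : g' ≫ h' = m) (e' : f ≫ g' ≫ h' = d) (M : T.Modules) :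
    (pullback f).map ((sqIso g h g' h' m e₁ e₂).hom.app M) ≫ k3 f g' h' d e' M = k3 f g h d e M := by
  have hm : f ≫ m = d := by rw [← e₁]; exact e
  rw [← k3_contract_right f g' h' d e' m e₂ hm, ← k3_contract_right f g h d e m e₁ hm,
    ← Functor.map_comp_assoc, sqIso_hom_comp]

/-- rewriting the first two steps by a commutative square -/
theorem k3_rewrite_left {Y' : Scheme.{u}} (f' : X ⟶ Y') (g' : Y' ⟶ Z) (m : X ⟶ Z) (e₁ : f ≫ g = m)
    (e₂ : f' ≫ g' = m) (e' : f' ≫ g' ≫ h = d) (M : T.Modules) :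
    (sqIso f g f' g' m e₁ e₂).hom.app ((pullback h).obj M) ≫ k3 f' g' h d e' M = k3 f g h d e M := by
  have hm : m ≫ h = d := by rw [← e₁, Category.assoc]; exact e
  rw [← k3_contract_left f' g' h d e' m e₂ hm, ← k3_contract_left f g h d e m e₁ hm,
    ← Category.assoc, sqIso_hom_comp]

end k3

end Groth.Agent.Lib.Helper26.PbCalc
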