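import Mathlib
import Groth.Agent.Lib.Helper26GlueB
import Groth.Agent.Lib.Helper26PbCalc2

/-!
# Gluing modules over a two-member open cover III: compatibility with pullback (helper26)

A morphism of cover data `(pX, pA, pB, pW) : (X', a', b', wa', wb') ⟶ (X, a, b, wa, wb)`:

* `prism`: a coherence between `compIso` and `sqIso` for a prism of schemes;
* `cube`: the coherence of the canonical identifications over a cube;
* `nonempty_iso_pullback_of_local`: if `G` on `X` and `F` on `X'` have compatibly isomorphic restrictions to the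
  covers, then `pX^* G ≅ F`;
* `nonempty_iso_pullback_glue`: the same for `G = glue A B φ`.
-/

set_option autoImplicit false
set_option linter.style.haveILetI false
set_option linter.unusedSectionVars false
universe u
open CategoryTheory AlgebraicGeometry

namespace Groth.Agent.Lib.Helper26.PbCalc

open Groth.Agent.Lib.Helper26.ModLim2 Scheme.Modules

section inv
variable {X Y Z T : Scheme.{u}} (f : X ⟶ Y) (g : Y ⟶ Z) (h : Z ⟶ T) (d : X ⟶ T) (e : f ≫ g ≫ h = d)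

theorem k3_rewrite_left_inv {Y' : Scheme.{u}} (f' : X ⟶ Y') (g' : Y' ⟶ Z) (m : X ⟶ Z) (e₁ : f ≫ g = m)
    (e₂ : f' ≫ g' = m) (e' : f' ≫ g' ≫ h = d) (M : T.Modules) :
    (sqIso f g f' g' m e₁ e₂).inv.app ((pullback h).obj M) ≫ k3 f g h d e M = k3 f' g' h d e' M := by
  rw [← k3_rewrite_left f g h d e f' g' m e₁ e₂ e' M, Iso.inv_hom_id_app_assoc]

end inv

section prism
variable {W' Wl Wj A' Al Aj : Scheme.{u}}
  (pWl : W' ⟶ Wl) (tW : Wl ⟶ Wj) (pWj : W' ⟶ Wj) (eW : pWl ≫ tW = pWj)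
  (pAl : A' ⟶ Al) (tA : Al ⟶ Aj) (pAj : A' ⟶ Aj) (eA : pAl ≫ tA = pAj)
  (wa' : W' ⟶ A') (wal : Wl ⟶ Al) (waj : Wj ⟶ Aj)
  (dl : W' ⟶ Al) (el₁ : pWl ≫ wal = dl) (el₂ : wa' ≫ pAl = dl)
  (dt : Wl ⟶ Aj) (et₁ : tW ≫ waj = dt) (et₂ : wal ≫ tA = dt)
  (dj : W' ⟶ Aj) (ej₁ : pWj ≫ waj = dj) (ej₂ : wa' ≫ pAj = dj)

/-- coherence over a prism. -/
theorem prism (M : Aj.Modules) :
    (compIso pWl tW pWj eW).hom.app ((pullback waj).obj M) ≫ (sqIso pWj waj wa' pAj dj ej₁ ej₂).hom.app M =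
      (pullback pWl).map ((sqIso tW waj wal tA dt et₁ et₂).hom.app M) ≫
        (sqIso pWl wal wa' pAl dl el₁ el₂).hom.app ((pullback tA).obj M) ≫
          (pullback wa').map ((compIso pAl tA pAj eA).hom.app M) := by
  rw [← cancel_mono ((compIso wa' pAj dj ej₂).hom.app M)]
  simp only [Category.assoc]
  have e1 : pWl ≫ tW ≫ waj = dj := by rw [← Category.assoc, eW, ej₁]
  have e2 : wa' ≫ pAl ≫ tA = dj := by rw [eA, ej₂]
  have e3 : pWl ≫ wal ≫ tA = dj := by rw [← Category.assoc, el₁, ← el₂, Category.assoc, eA, ej₂]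
  rw [sqIso_hom_comp, k3_contract_left pWl tW waj dj e1 pWj eW ej₁ M,
    k3_contract_right wa' pAl tA dj e2 pAj eA ej₂ M,
    k3_rewrite_left pWl wal tA dj e3 wa' pAl dl el₁ el₂ e2 M,
    k3_rewrite_right pWl tW waj dj e1 wal tA dt et₁ et₂ e3 M]

end prism

end Groth.Agent.Lib.Helper26.PbCalc

namespace Groth.Agent.Lib.Helper26.Glue

open Groth.Agent.Lib.Helper26.ModLim2 Groth.Agent.Lib.Helper26.PbCalc Scheme.Modules

section cube
variable {X XA XB XW X' XA' XB' XW' : Scheme.{u}}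
  (a : XA ⟶ X) (b : XB ⟶ X) (wa : XW ⟶ XA) (wb : XW ⟶ XB) (w : XW ⟶ X)
  (a' : XA' ⟶ X') (b' : XB' ⟶ X') (wa' : XW' ⟶ XA') (wb' : XW' ⟶ XB') (w' : XW' ⟶ X')
  (ea : wa ≫ a = w) (eb : wb ≫ b = w) (ea' : wa' ≫ a' = w') (eb' : wb' ≫ b' = w')
  (pX : X' ⟶ X) (pA : XA' ⟶ XA) (pB : XB' ⟶ XB) (pW : XW' ⟶ XW)
  (dA : XA' ⟶ X) (dB : XB' ⟶ X) (dWA : XW' ⟶ XA) (dWB : XW' ⟶ XB)
  (hA₁ : a' ≫ pX = dA) (hA₂ : pA ≫ a = dA) (hB₁ : b' ≫ pX = dB) (hB₂ : pB ≫ b = dB)
  (hWA₁ : pW ≫ wa = dWA) (hWA₂ : wa' ≫ pA = dWA) (hWB₁ : pW ≫ wb = dWB) (hWB₂ : wb' ≫ pB = dWB)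

include ea eb ea' eb' hA₁ hA₂ hB₁ hB₂ hWA₁ hWA₂ hWB₁ hWB₂ in
/-- coherence of the canonical identifications over a cube. -/
theorem cube (G : X.Modules) :
    (pullback wa').map ((sqIso a' pX pA a dA hA₁ hA₂).hom.app G) ≫
        (sqIso pW wa wa' pA dWA hWA₁ hWA₂).inv.app ((pullback a).obj G) ≫
          (pullback pW).map ((sqIso wa a wb b w ea eb).hom.app G) ≫
            (sqIso pW wb wb' pB dWB hWB₁ hWB₂).hom.app ((pullback b).obj G) =
      (sqIso wa' a' wb' b' w' ea' eb').hom.app ((pullback pX).obj G) ≫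
        (pullback wb').map ((sqIso b' pX pB b dB hB₁ hB₂).hom.app G) := by
  have e5 : wb' ≫ pB ≫ b = wb' ≫ dB := by rw [hB₂]
  have e6 : wb' ≫ b' ≫ pX = wb' ≫ dB := by rw [hB₁]
  have e1 : wa' ≫ a' ≫ pX = wb' ≫ dB := by
    rw [← Category.assoc, ea', ← eb', Category.assoc, hB₁]
  have e4 : pW ≫ wb ≫ b = wb' ≫ dB := by
    rw [← Category.assoc, hWB₁, ← hWB₂, Category.assoc, hB₂]
  have e3 : pW ≫ wa ≫ a = wb' ≫ dB := by rw [ea, ← eb]; exact e4
  have e2 : wa' ≫ pA ≫ a = wb' ≫ dB := by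
    rw [← Category.assoc, hWA₂, ← hWA₁, Category.assoc]; exact e3
  rw [← cancel_mono (k3 wb' pB b (wb' ≫ dB) e5 G)]
  simp only [Category.assoc]
  rw [k3_rewrite_left pW wb b (wb' ≫ dB) e4 wb' pB dWB hWB₁ hWB₂ e5 G,
    k3_rewrite_right pW wa a (wb' ≫ dB) e3 wb b w ea eb e4 G,
    k3_rewrite_left_inv pW wa a (wb' ≫ dB) e3 wa' pA dWA hWA₁ hWA₂ e2 G,
    k3_rewrite_right wa' a' pX (wb' ≫ dB) e1 pA a dA hA₁ hA₂ e2 G,
    k3_rewrite_right wb' b' pX (wb' ≫ dB) e6 pB b dB hB₁ hB₂ e5 G,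
    k3_rewrite_left wa' a' pX (wb' ≫ dB) e1 wb' b' w' ea' eb' e6 G]

variable [IsOpenImmersion a] [IsOpenImmersion b] [IsOpenImmersion wa] [IsOpenImmersion wb]
  [IsOpenImmersion a'] [IsOpenImmersion b'] [IsOpenImmersion wa'] [IsOpenImmersion wb']

theorem canIso_hom (M : X.Modules) :
    (canIso a b wa wb w ea eb M).hom = (sqIso wa a wb b w ea eb).hom.app M := rfl

variable (hwa' : a' ⁻¹ᵁ b'.opensRange ≤ wa'.opensRange) (hwb' : b' ⁻¹ᵁ a'.opensRange ≤ wb'.opensRange)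
  (hcov' : a'.opensRange ⊔ b'.opensRange = ⊤)

include hwa' hwb' hcov' hA₁ hA₂ hB₁ hB₂ in
/-- if `G` on `X` and `F` on `X'` have compatibly isomorphic restrictions to the covers, then `pX^* G ≅ F`. -/
theorem nonempty_iso_pullback_of_local (G : X.Modules) (F : X'.Modules)
    (fa₀ : (pullback pA).obj ((pullback a).obj G) ≅ (pullback a').obj F)
    (fb₀ : (pullback pB).obj ((pullback b).obj G) ≅ (pullback b').obj F)
    (H : (sqIso pW wa wa' pA dWA hWA₁ hWA₂).hom.app ((pullback a).obj G) ≫ (pullback wa').map fa₀.hom ≫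
        (canIso a' b' wa' wb' w' ea' eb' F).hom =
      (pullback pW).map (canIso a b wa wb w ea eb G).hom ≫
        (sqIso pW wb wb' pB dWB hWB₁ hWB₂).hom.app ((pullback b).obj G) ≫ (pullback wb').map fb₀.hom) :
    Nonempty ((pullback pX).obj G ≅ F) := by
  refine nonempty_iso_of_local a' b' wa' wb' w' ea' eb' hwa' hwb' hcov' ((pullback pX).obj G) F
    ((sqIso a' pX pA a dA hA₁ hA₂).app G ≪≫ fa₀) ((sqIso b' pX pB b dB hB₁ hB₂).app G ≪≫ fb₀) ?_
  have H' : (pullback wa').map fa₀.hom ≫ (canIso a' b' wa' wb' w' ea' eb' F).hom =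
      (sqIso pW wa wa' pA dWA hWA₁ hWA₂).inv.app ((pullback a).obj G) ≫
        (pullback pW).map (canIso a b wa wb w ea eb G).hom ≫
          (sqIso pW wb wb' pB dWB hWB₁ hWB₂).hom.app ((pullback b).obj G) ≫ (pullback wb').map fb₀.hom := by
    rw [← H, Iso.inv_hom_id_app_assoc]
  have hc := cube a b wa wb w a' b' wa' wb' w' ea eb ea' eb' pX pA pB pW dA dB dWA dWB
    hA₁ hA₂ hB₁ hB₂ hWA₁ hWA₂ hWB₁ hWB₂ G
  simp only [Iso.trans_hom, Iso.app_hom, Functor.map_comp, Category.assoc]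
  rw [H', canIso_hom a b wa wb w ea eb, canIso_hom a' b' wa' wb' w' ea' eb' ((pullback pX).obj G)]
  rw [← Category.assoc ((sqIso wa' a' wb' b' w' ea' eb').hom.app ((pullback pX).obj G)), ← hc]
  simp only [Category.assoc]

variable (hwa : a ⁻¹ᵁ b.opensRange ≤ wa.opensRange) (hwb : b ⁻¹ᵁ a.opensRange ≤ wb.opensRange)

include hwa hwb hwa' hwb' hcov' hA₁ hA₂ hB₁ hB₂ in
/-- the pullback of a glued module is the module with the given local descriptions. -/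
theorem nonempty_iso_pullback_glue (A : XA.Modules) (B : XB.Modules)
    (φ : (pullback wa).obj A ≅ (pullback wb).obj B) (F : X'.Modules)
    (α₀ : (pullback pA).obj A ≅ (pullback a').obj F) (β₀ : (pullback pB).obj B ≅ (pullback b').obj F)
    (H : (sqIso pW wa wa' pA dWA hWA₁ hWA₂).hom.app A ≫ (pullback wa').map α₀.hom ≫
        (canIso a' b' wa' wb' w' ea' eb' F).hom =
      (pullback pW).map φ.hom ≫ (sqIso pW wb wb' pB dWB hWB₁ hWB₂).hom.app B ≫
        (pullback wb').map β₀.hom) :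
    Nonempty ((pullback pX).obj (glue a b wa wb w ea eb A B φ) ≅ F) := by
  refine nonempty_iso_pullback_of_local a b wa wb w a' b' wa' wb' w' ea eb ea' eb' pX pA pB pW dA dB dWA dWB
    hA₁ hA₂ hB₁ hB₂ hWA₁ hWA₂ hWB₁ hWB₂ hwa' hwb' hcov' (glue a b wa wb w ea eb A B φ) F
    ((pullback pA).mapIso (glueIsoA a b wa wb w ea eb A B φ hwb) ≪≫ α₀)
    ((pullback pB).mapIso (glueIsoB a b wa wb w ea eb A B φ hwa) ≪≫ β₀) ?_
  have hgA : (glueIsoA a b wa wb w ea eb A B φ hwb).hom = glueHomA a b wa wb w ea eb A B φ := rfl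
  have hgB : (glueIsoB a b wa wb w ea eb A B φ hwa).hom = glueHomB a b wa wb w ea eb A B φ := rfl
  have hcompat := glue_compat a b wa wb w ea eb A B φ
  simp only [Iso.trans_hom, Functor.mapIso_hom, Functor.map_comp, Category.assoc, hgA, hgB]
  have n1 := sqIso_naturality pW wa wa' pA dWA hWA₁ hWA₂ (glueHomA a b wa wb w ea eb A B φ)
  have n2 := sqIso_naturality pW wb wb' pB dWB hWB₁ hWB₂ (glueHomB a b wa wb w ea eb A B φ)
  rw [← reassoc_of% n1, H, ← Functor.map_comp_assoc (pullback pW), hcompat, Functor.map_comp,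
    Category.assoc, reassoc_of% n2]

end cube

end Groth.Agent.Lib.Helper26.Glue
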