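import Mathlib
import Groth.Agent.Lib.Helper26HomLimD
import Groth.Agent.Lib.Helper26PbCalc2

/-!
# Descent of finitely presented modules to a stage of a limit: isomorphisms (helper26)

* `later_stage`: transporting a stage-`j` solution of a lifting problem to a later stage.
* `exists_iso_pullback_eq`: an isomorphism between the pullbacks to the limit of two finitely presented quasi-coherent
  modules comes from an isomorphism at a stage.
* `Desc D c`: every f.p. quasi-coherent module on the limit comes from a stage; `Desc.later`.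
-/

set_option autoImplicit false
set_option linter.style.haveILetI false
set_option linter.unusedSectionVars false
universe u
open CategoryTheory AlgebraicGeometry TopologicalSpace

namespace Groth.Agent.Lib.Helper26.ModDesc

open Groth.Agent.Lib.Helper26.ModLim2 Groth.Agent.Lib.Helper26.PbCalc Groth.Agent.Lib.Helper26.HomLimD
  Scheme.Modules

section later
variable {P L J I : Scheme.{u}} (pl : P ⟶ L) (t : L ⟶ J) (pj : P ⟶ J) (s : J ⟶ I) (pi : P ⟶ I) (r : L ⟶ I)
  (e₁ : pl ≫ t = pj) (e₂ : t ≫ s = r) (e₃ : pj ≫ s = pi) (e₄ : pl ≫ r = pi)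

include e₁ in
theorem later_stage (M N : I.Modules) (x : (pullback s).obj M ⟶ (pullback s).obj N) :
    (compIso pl r pi e₄).inv.app M ≫ (pullback pl).map ((compIso t s r e₂).inv.app M ≫ (pullback t).map x ≫
        (compIso t s r e₂).hom.app N) ≫ (compIso pl r pi e₄).hom.app N =
      (compIso pj s pi e₃).inv.app M ≫ (pullback pj).map x ≫ (compIso pj s pi e₃).hom.app N := by
  have hM := compIso_assoc pl t s pj r pi e₁ e₂ e₃ e₄ M
  have hN := compIso_assoc pl t s pj r pi e₁ e₂ e₃ e₄ N
  have nat := compIso_sq pl t pj e₁ x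
  have h1 : (compIso pl r pi e₄).inv.app M ≫ (pullback pl).map ((compIso t s r e₂).inv.app M) ≫
      (compIso pl t pj e₁).hom.app ((pullback s).obj M) = (compIso pj s pi e₃).inv.app M := by
    rw [← cancel_mono ((compIso pj s pi e₃).hom.app M)]
    simp only [Category.assoc]
    rw [hM, ← Functor.map_comp_assoc, Iso.inv_hom_id_app]
    simp
  rw [Functor.map_comp, Functor.map_comp, Category.assoc, Category.assoc, ← hN, reassoc_of% nat, ← h1]
  simp only [Category.assoc]

end later

section sys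
variable {I : Type u} [SmallCategory I] [IsCofiltered I] (D : I ⥤ Scheme.{u}) (c : Limits.Cone D)
  (hc : Limits.IsLimit c) [∀ (i j : I) (f : i ⟶ j), IsAffineHom (D.map f)] (i₀ : I)

include hc in
/-- an isomorphism between the pullbacks to the limit of f.p. quasi-coherent modules comes from a stage. -/
theorem exists_iso_pullback_eq [CompactSpace (D.obj i₀)] [QuasiSeparatedSpace (D.obj i₀)]
    (M₀ N₀ : (D.obj i₀).Modules) [M₀.IsQuasicoherent] [N₀.IsQuasicoherent]
    (hM : SheafOfModules.IsFinitePresentation (R := (D.obj i₀).ringCatSheaf) M₀)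
    (hN : SheafOfModules.IsFinitePresentation (R := (D.obj i₀).ringCatSheaf) N₀)
    (h : (pullback (c.π.app i₀)).obj M₀ ≅ (pullback (c.π.app i₀)).obj N₀) :
    ∃ (j : Over i₀) (ψ : (pullback (D.map j.hom)).obj M₀ ≅ (pullback (D.map j.hom)).obj N₀),
      (compIso (c.π.app j.left) (D.map j.hom) (c.π.app i₀) (c.w j.hom)).inv.app M₀ ≫
        (pullback (c.π.app j.left)).map ψ.hom ≫
          (compIso (c.π.app j.left) (D.map j.hom) (c.π.app i₀) (c.w j.hom)).hom.app N₀ = h.hom := by
  obtain ⟨j₁, ψ₁, hψ₁⟩ := exists_hom_pullback_eq D c hc i₀ N₀ M₀ hM h.hom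
  haveI := compactSpace_of_hom D i₀ j₁.hom
  haveI hq1 : ((pullback (D.map j₁.hom)).obj M₀).IsQuasicoherent :=
    Groth.Agent.Lib.Helper2.PullbackSec.isQuasicoherent_pullback _ _
  haveI hq2 : ((pullback (D.map j₁.hom)).obj N₀).IsQuasicoherent :=
    Groth.Agent.Lib.Helper2.PullbackSec.isQuasicoherent_pullback _ _
  have hM₁ : SheafOfModules.IsFinitePresentation (R := (D.obj j₁.left).ringCatSheaf)
      ((pullback (D.map j₁.hom)).obj M₀) :=
    Groth.Agent.Helper18Strict.isFP_pullback (D.map j₁.hom) M₀ hM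
  have hN₁ : SheafOfModules.IsFinitePresentation (R := (D.obj j₁.left).ringCatSheaf)
      ((pullback (D.map j₁.hom)).obj N₀) :=
    Groth.Agent.Helper18Strict.isFP_pullback (D.map j₁.hom) N₀ hN
  let κ := compIso (leg D c j₁.left) (D.map j₁.hom) (leg D c i₀) (leg_w D c j₁.hom)
  have hψ₁' : κ.inv.app M₀ ≫ (pullback (leg D c j₁.left)).map ψ₁ ≫ κ.hom.app N₀ = h.hom := hψ₁
  have hiso : IsIso ((pullback (c.π.app j₁.left)).map ψ₁) := by
    have : (pullback (leg D c j₁.left)).map ψ₁ = κ.hom.app M₀ ≫ h.hom ≫ κ.inv.app N₀ := by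
      rw [← hψ₁']
      simp
    change IsIso ((pullback (leg D c j₁.left)).map ψ₁)
    rw [this]
    infer_instance
  obtain ⟨j₂, φ₂, hj₂⟩ := exists_isIso_pullback_map D c hc j₁.left
    (Groth.Agent.Helper18Strict.isFT_of_isFP _ hM₁) hN₁ ψ₁ hiso
  let τ := compIso (D.map φ₂) (D.map j₁.hom) (D.map (φ₂ ≫ j₁.hom)) (D.map_comp _ _).symm
  refine ⟨Over.mk (φ₂ ≫ j₁.hom),
    (τ.app M₀).symm ≪≫ asIso ((pullback (D.map φ₂)).map ψ₁) ≪≫ τ.app N₀, ?_⟩
  have hl := later_stage (c.π.app j₂) (D.map φ₂) (c.π.app j₁.left) (D.map j₁.hom) (c.π.app i₀)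
    (D.map (φ₂ ≫ j₁.hom)) (c.w φ₂) (D.map_comp _ _).symm (c.w j₁.hom) (c.w (φ₂ ≫ j₁.hom)) M₀ N₀ ψ₁
  rw [← hψ₁']
  exact hl

end sys

section desc
variable {I : Type u} [SmallCategory I] (D : I ⥤ Scheme.{u}) (c : Limits.Cone D)

/-- every finitely presented quasi-coherent module on the cone point comes from a stage. -/
def Desc : Prop :=
  ∀ (F : c.pt.Modules), F.IsQuasicoherent →
    SheafOfModules.IsFinitePresentation (R := c.pt.ringCatSheaf) F →
    ∃ (j : I) (Fj : (D.obj j).Modules), Fj.IsQuasicoherent ∧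
      SheafOfModules.IsFinitePresentation (R := (D.obj j).ringCatSheaf) Fj ∧
      Nonempty ((pullback (c.π.app j)).obj Fj ≅ F)

variable {D c}

theorem exists_later {j l : I} (v : l ⟶ j) (Fj : (D.obj j).Modules) (hq : Fj.IsQuasicoherent)
    (hfp : SheafOfModules.IsFinitePresentation (R := (D.obj j).ringCatSheaf) Fj) :
    ((pullback (D.map v)).obj Fj).IsQuasicoherent ∧
      SheafOfModules.IsFinitePresentation (R := (D.obj l).ringCatSheaf) ((pullback (D.map v)).obj Fj) ∧
      Nonempty ((pullback (c.π.app l)).obj ((pullback (D.map v)).obj Fj) ≅ (pullback (c.π.app j)).obj Fj) :=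
  ⟨Groth.Agent.Lib.Helper2.PullbackSec.isQuasicoherent_pullback _ _,
    Groth.Agent.Helper18Strict.isFP_pullback (D.map v) Fj hfp,
    ⟨(compIso (c.π.app l) (D.map v) (c.π.app j) (c.w v)).app Fj⟩⟩

end desc

end Groth.Agent.Lib.Helper26.ModDesc
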