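import Mathlib
import Groth.Agent.Lib.Helper26ModDescB
import Groth.Agent.Lib.Helper26GlueD
import Groth.Agent.Lib.Helper26GlueC

/-!
# Descent of finitely presented modules to a stage of a limit: the gluing step (helper26)

Four cofiltered systems `DX, DA, DB, DW` over the same index category, with open immersions
`a : DA ⟶ DX`, `b : DB ⟶ DX`, `wa : DW ⟶ DA`, `wb : DW ⟶ DB` forming levelwise two-member open covers with
intersection `DW`, and similarly on cone points.  If finitely presented modules descend for the `A`- and `B`-systems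
then they descend for the `X`-system (`desc_of_cover`).
-/

set_option autoImplicit false
set_option linter.style.haveILetI false
set_option linter.unusedSectionVars false
universe u
open CategoryTheory AlgebraicGeometry TopologicalSpace

namespace Groth.Agent.Lib.Helper26.ModDesc

open Groth.Agent.Lib.Helper26.ModLim2 Groth.Agent.Lib.Helper26.PbCalc Groth.Agent.Lib.Helper26.Glue
  Scheme.Modules

theorem aux_cat {C : Type*} [Category C] {O1 O2 O3 O4 O5 Q1 Q2 Q3 RM RN SM SN : C}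
    (sAl : O1 ⟶ O2) (kA : O2 ⟶ O3) (al : O3 ⟶ O4) (can : O4 ⟶ O5) (sBl : Q1 ⟶ Q2) (kB : Q2 ⟶ Q3)
    (be : Q3 ≅ O5) (rA : RM ≅ O1) (rB : RN ⟶ Q1) (ps : RM ⟶ RN) (kM : RM ≅ SM) (kN : RN ⟶ SN)
    (sAj : SM ⟶ O3) (sBj : SN ≅ Q3)
    (PA : kM.hom ≫ sAj = rA.hom ≫ sAl ≫ kA) (PB : kN ≫ sBj.hom = rB ≫ sBl ≫ kB)
    (hψ : kM.inv ≫ ps ≫ kN = sAj ≫ al ≫ can ≫ be.inv ≫ sBj.inv) :
    sAl ≫ kA ≫ al ≫ can = rA.inv ≫ ps ≫ rB ≫ sBl ≫ kB ≫ be.hom := by
  have h1 : ps ≫ kN = kM.hom ≫ sAj ≫ al ≫ can ≫ be.inv ≫ sBj.inv := by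
    rw [← hψ, Iso.hom_inv_id_assoc]
  rw [← reassoc_of% PB, reassoc_of% h1]
  simp only [Iso.inv_hom_id_assoc, Iso.inv_hom_id, Category.comp_id]
  rw [reassoc_of% PA, Iso.inv_hom_id_assoc]

section step
variable {J : Type u} [SmallCategory J] [IsCofiltered J]
  (DX DA DB DW : J ⥤ Scheme.{u}) (cX : Limits.Cone DX) (cA : Limits.Cone DA) (cB : Limits.Cone DB)
  (cW : Limits.Cone DW) (hcW : Limits.IsLimit cW) [∀ (i j : J) (f : i ⟶ j), IsAffineHom (DW.map f)]
  [∀ j, CompactSpace (DW.obj j)] [∀ j, QuasiSeparatedSpace (DW.obj j)]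
  (a : DA ⟶ DX) (b : DB ⟶ DX) (wa : DW ⟶ DA) (wb : DW ⟶ DB) (hsq : wa ≫ a = wb ≫ b)
  (a' : cA.pt ⟶ cX.pt) (b' : cB.pt ⟶ cX.pt) (wa' : cW.pt ⟶ cA.pt) (wb' : cW.pt ⟶ cB.pt)
  (hsq' : wa' ≫ a' = wb' ≫ b')
  (ha' : ∀ j, a' ≫ cX.π.app j = cA.π.app j ≫ a.app j) (hb' : ∀ j, b' ≫ cX.π.app j = cB.π.app j ≫ b.app j)
  (hwa' : ∀ j, wa' ≫ cA.π.app j = cW.π.app j ≫ wa.app j)
  (hwb' : ∀ j, wb' ≫ cB.π.app j = cW.π.app j ≫ wb.app j)
  [∀ j, IsOpenImmersion (a.app j)] [∀ j, IsOpenImmersion (b.app j)] [∀ j, IsOpenImmersion (wa.app j)]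
  [∀ j, IsOpenImmersion (wb.app j)]
  [IsOpenImmersion a'] [IsOpenImmersion b'] [IsOpenImmersion wa'] [IsOpenImmersion wb']

include hcW in
/-- descending the gluing isomorphism to a stage. -/
theorem exists_gluing_iso (j : J) (A : (DA.obj j).Modules) (B : (DB.obj j).Modules)
    (hAq : A.IsQuasicoherent) (hBq : B.IsQuasicoherent)
    (hAfp : SheafOfModules.IsFinitePresentation (R := (DA.obj j).ringCatSheaf) A)
    (hBfp : SheafOfModules.IsFinitePresentation (R := (DB.obj j).ringCatSheaf) B)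
    (F : cX.pt.Modules)
    (α : (pullback (cA.π.app j)).obj A ≅ (pullback a').obj F)
    (β : (pullback (cB.π.app j)).obj B ≅ (pullback b').obj F) :
    ∃ (l : J) (v : l ⟶ j) (φ : (pullback (wa.app l)).obj ((pullback (DA.map v)).obj A) ≅
        (pullback (wb.app l)).obj ((pullback (DB.map v)).obj B)),
      (sqIso (cW.π.app l) (wa.app l) wa' (cA.π.app l) (wa' ≫ cA.π.app l) (hwa' l).symm rfl).hom.app
          ((pullback (DA.map v)).obj A) ≫
        (pullback wa').map ((compIso (cA.π.app l) (DA.map v) (cA.π.app j) (cA.w v)).hom.app A ≫ α.hom) ≫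
          (canIso a' b' wa' wb' (wa' ≫ a') rfl hsq'.symm F).hom =
      (pullback (cW.π.app l)).map φ.hom ≫
        (sqIso (cW.π.app l) (wb.app l) wb' (cB.π.app l) (wb' ≫ cB.π.app l) (hwb' l).symm rfl).hom.app
          ((pullback (DB.map v)).obj B) ≫
        (pullback wb').map ((compIso (cB.π.app l) (DB.map v) (cB.π.app j) (cB.w v)).hom.app B ≫ β.hom) := by
  let M₀ : (DW.obj j).Modules := (pullback (wa.app j)).obj A
  let N₀ : (DW.obj j).Modules := (pullback (wb.app j)).obj B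
  haveI hM₀q : M₀.IsQuasicoherent := Groth.Agent.Lib.Helper2.PullbackSec.isQuasicoherent_pullback _ _
  haveI hN₀q : N₀.IsQuasicoherent := Groth.Agent.Lib.Helper2.PullbackSec.isQuasicoherent_pullback _ _
  have hM₀ : SheafOfModules.IsFinitePresentation (R := (DW.obj j).ringCatSheaf) M₀ :=
    Groth.Agent.Helper18Strict.isFP_pullback (wa.app j) A hAfp
  have hN₀ : SheafOfModules.IsFinitePresentation (R := (DW.obj j).ringCatSheaf) N₀ :=
    Groth.Agent.Helper18Strict.isFP_pullback (wb.app j) B hBfp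
  let σAj := sqIso (cW.π.app j) (wa.app j) wa' (cA.π.app j) (wa' ≫ cA.π.app j) (hwa' j).symm rfl
  let σBj := sqIso (cW.π.app j) (wb.app j) wb' (cB.π.app j) (wb' ≫ cB.π.app j) (hwb' j).symm rfl
  let h : (pullback (cW.π.app j)).obj M₀ ≅ (pullback (cW.π.app j)).obj N₀ :=
    σAj.app A ≪≫ (pullback wa').mapIso α ≪≫ canIso a' b' wa' wb' (wa' ≫ a') rfl hsq'.symm F ≪≫
      ((pullback wb').mapIso β).symm ≪≫ (σBj.app B).symm
  obtain ⟨l, ψ, hψ⟩ := exists_iso_pullback_eq DW cW hcW j M₀ N₀ hM₀ hN₀ h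
  refine ⟨l.left, l.hom,
    ((sqIso (DW.map l.hom) (wa.app j) (wa.app l.left) (DA.map l.hom) (wa.app l.left ≫ DA.map l.hom)
        (wa.naturality l.hom) rfl).app A).symm ≪≫ ψ ≪≫
      (sqIso (DW.map l.hom) (wb.app j) (wb.app l.left) (DB.map l.hom) (wb.app l.left ≫ DB.map l.hom)
        (wb.naturality l.hom) rfl).app B, ?_⟩
  have PA := prism (cW.π.app l.left) (DW.map l.hom) (cW.π.app j) (cW.w l.hom)
    (cA.π.app l.left) (DA.map l.hom) (cA.π.app j) (cA.w l.hom) wa' (wa.app l.left) (wa.app j)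
    (wa' ≫ cA.π.app l.left) (hwa' l.left).symm rfl
    (wa.app l.left ≫ DA.map l.hom) (wa.naturality l.hom) rfl
    (wa' ≫ cA.π.app j) (hwa' j).symm rfl A
  have PB := prism (cW.π.app l.left) (DW.map l.hom) (cW.π.app j) (cW.w l.hom)
    (cB.π.app l.left) (DB.map l.hom) (cB.π.app j) (cB.w l.hom) wb' (wb.app l.left) (wb.app j)
    (wb' ≫ cB.π.app l.left) (hwb' l.left).symm rfl
    (wb.app l.left ≫ DB.map l.hom) (wb.naturality l.hom) rfl
    (wb' ≫ cB.π.app j) (hwb' j).symm rfl B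
  have key := aux_cat
    ((sqIso (cW.π.app l.left) (wa.app l.left) wa' (cA.π.app l.left) (wa' ≫ cA.π.app l.left)
      (hwa' l.left).symm rfl).hom.app ((pullback (DA.map l.hom)).obj A))
    ((pullback wa').map ((compIso (cA.π.app l.left) (DA.map l.hom) (cA.π.app j) (cA.w l.hom)).hom.app A))
    ((pullback wa').map α.hom)
    (canIso a' b' wa' wb' (wa' ≫ a') rfl hsq'.symm F).hom
    ((sqIso (cW.π.app l.left) (wb.app l.left) wb' (cB.π.app l.left) (wb' ≫ cB.π.app l.left)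
      (hwb' l.left).symm rfl).hom.app ((pullback (DB.map l.hom)).obj B))
    ((pullback wb').map ((compIso (cB.π.app l.left) (DB.map l.hom) (cB.π.app j) (cB.w l.hom)).hom.app B))
    ((pullback wb').mapIso β)
    ((pullback (cW.π.app l.left)).mapIso
      ((sqIso (DW.map l.hom) (wa.app j) (wa.app l.left) (DA.map l.hom) (wa.app l.left ≫ DA.map l.hom)
        (wa.naturality l.hom) rfl).app A))
    ((pullback (cW.π.app l.left)).map
      ((sqIso (DW.map l.hom) (wb.app j) (wb.app l.left) (DB.map l.hom) (wb.app l.left ≫ DB.map l.hom)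
        (wb.naturality l.hom) rfl).hom.app B))
    ((pullback (cW.π.app l.left)).map ψ.hom)
    ((compIso (cW.π.app l.left) (DW.map l.hom) (cW.π.app j) (cW.w l.hom)).app M₀)
    ((compIso (cW.π.app l.left) (DW.map l.hom) (cW.π.app j) (cW.w l.hom)).hom.app N₀)
    (σAj.hom.app A) (σBj.app B) PA PB (by
      simp only [Iso.app_inv, Functor.mapIso_inv]
      rw [hψ]
      simp [h])
  simp only [Functor.map_comp, Category.assoc, Iso.trans_hom, Iso.symm_hom, Iso.app_inv, Iso.app_hom]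
  simp only [Functor.mapIso_hom, Functor.mapIso_inv, Iso.app_inv] at key
  exact key

end step

end Groth.Agent.Lib.Helper26.ModDesc
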