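import Mathlib
import Groth.Agent.Lib.Helper26ModDescC

/-!
# Descent of finitely presented modules to a stage of a limit: the gluing step II (helper26)

`desc_of_cover`: if finitely presented modules descend for the `A`- and `B`-systems of a levelwise two-member open
cover then they descend for the `X`-system.
-/

set_option autoImplicit false
set_option linter.style.haveILetI false
set_option linter.unusedSectionVars false
universe u
open CategoryTheory AlgebraicGeometry TopologicalSpace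

namespace Groth.Agent.Lib.Helper26.ModDesc

open Groth.Agent.Lib.Helper26.ModLim2 Groth.Agent.Lib.Helper26.PbCalc Groth.Agent.Lib.Helper26.Glue
  Scheme.Modules

section step
variable {J : Type u} [SmallCategory J] [IsCofiltered J]
  (DX DA DB DW : J ⥤ Scheme.{u}) (cX : Limits.Cone DX) (cA : Limits.Cone DA) (cB : Limits.Cone DB)
  (cW : Limits.Cone DW) (hcW : Limits.IsLimit cW) [∀ (i j : J) (f : i ⟶ j), IsAffineHom (DW.map f)]
  [∀ j, CompactSpace (DW.obj j)] [∀ j, QuasiSeparatedSpace (DW.obj j)]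
  (a : DA ⟶ DX) (b : DB ⟶ DX) (wa : DW ⟶ DA) (wb : DW ⟶ DB) (hsq : wa ≫ a = wb ≫ b)
  (a' : cA.pt ⟶ cX.pt) (b' : cB.pt ⟶ cX.pt) (wa' : cW.pt ⟶ cA.pt) (wb' : cW.pt ⟶ cB.pt)
  (hsq' : wa' ≫ a' = wb' ≫ b')
  (ha' : ∀ j, a' ≫ cX.π.app j = cA.π.app j ≫ a.app j) (hb' : ∀ j, b' ≫ cX.π.app j = cB.π.app j ≫ b.app j)
  (hwa' : ∀ j, wa' ≫ cA.π.app j = cW.π.app j ≫ wa.app j)
  (hwb' : ∀ j, wb' ≫ cB.π.app j = cW.π.app j ≫ wb.app j)
  [∀ j, IsOpenImmersion (a.app j)] [∀ j, IsOpenImmersion (b.app j)] [∀ j, IsOpenImmersion (wa.app j)]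
  [∀ j, IsOpenImmersion (wb.app j)]
  [IsOpenImmersion a'] [IsOpenImmersion b'] [IsOpenImmersion wa'] [IsOpenImmersion wb']

include hcW hsq hsq' ha' hb' hwa' hwb' in
theorem desc_of_cover_aux
    (hwaj : ∀ j, a.app j ⁻¹ᵁ (b.app j).opensRange ≤ (wa.app j).opensRange)
    (hwbj : ∀ j, b.app j ⁻¹ᵁ (a.app j).opensRange ≤ (wb.app j).opensRange)
    (hcovj : ∀ j, (a.app j).opensRange ⊔ (b.app j).opensRange = ⊤)
    (hwa'' : a' ⁻¹ᵁ b'.opensRange ≤ wa'.opensRange) (hwb'' : b' ⁻¹ᵁ a'.opensRange ≤ wb'.opensRange)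
    (hcov' : a'.opensRange ⊔ b'.opensRange = ⊤)
    (j : J) (A : (DA.obj j).Modules) (B : (DB.obj j).Modules)
    (hAq : A.IsQuasicoherent) (hBq : B.IsQuasicoherent)
    (hAfp : SheafOfModules.IsFinitePresentation (R := (DA.obj j).ringCatSheaf) A)
    (hBfp : SheafOfModules.IsFinitePresentation (R := (DB.obj j).ringCatSheaf) B)
    (F : cX.pt.Modules)
    (α : (pullback (cA.π.app j)).obj A ≅ (pullback a').obj F)
    (β : (pullback (cB.π.app j)).obj B ≅ (pullback b').obj F) :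
    ∃ (l : J) (G : (DX.obj l).Modules), G.IsQuasicoherent ∧
      SheafOfModules.IsFinitePresentation (R := (DX.obj l).ringCatSheaf) G ∧
      Nonempty ((pullback (cX.π.app l)).obj G ≅ F) := by
  obtain ⟨l, v, φ, H⟩ := exists_gluing_iso DX DA DB DW cX cA cB cW hcW wa wb a' b' wa' wb' hsq' hwa' hwb'
    j A B hAq hBq hAfp hBfp F α β
  obtain ⟨hAlq, hAlfp, -⟩ := exists_later (c := cA) v A hAq hAfp
  obtain ⟨hBlq, hBlfp, -⟩ := exists_later (c := cB) v B hBq hBfp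
  obtain ⟨αl, hαl⟩ : ∃ αl : (pullback (cA.π.app l)).obj ((pullback (DA.map v)).obj A) ≅ (pullback a').obj F,
      αl.hom = (compIso (cA.π.app l) (DA.map v) (cA.π.app j) (cA.w v)).hom.app A ≫ α.hom :=
    ⟨(compIso (cA.π.app l) (DA.map v) (cA.π.app j) (cA.w v)).app A ≪≫ α, rfl⟩
  obtain ⟨βl, hβl⟩ : ∃ βl : (pullback (cB.π.app l)).obj ((pullback (DB.map v)).obj B) ≅ (pullback b').obj F,
      βl.hom = (compIso (cB.π.app l) (DB.map v) (cB.π.app j) (cB.w v)).hom.app B ≫ β.hom :=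
    ⟨(compIso (cB.π.app l) (DB.map v) (cB.π.app j) (cB.w v)).app B ≪≫ β, rfl⟩
  rw [← hαl, ← hβl] at H
  have eb : wb.app l ≫ b.app l = wa.app l ≫ a.app l := (NatTrans.congr_app hsq l).symm
  have hGA := glueIsoA (a.app l) (b.app l) (wa.app l) (wb.app l) (wa.app l ≫ a.app l) rfl eb _ _ φ (hwbj l)
  have hGB := glueIsoB (a.app l) (b.app l) (wa.app l) (wb.app l) (wa.app l ≫ a.app l) rfl eb _ _ φ (hwaj l)
  haveI hGAq := isQuasicoherent_of_iso hGA.symm hAlq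
  haveI hGBq := isQuasicoherent_of_iso hGB.symm hBlq
  refine ⟨l, glue (a.app l) (b.app l) (wa.app l) (wb.app l) (wa.app l ≫ a.app l) rfl eb _ _ φ,
    isQuasicoherent_of_pullback_cover (a.app l) (b.app l) (hcovj l) _,
    isFP_of_pullback_cover (a.app l) (b.app l) (hcovj l) _
      ((SheafOfModules.isFinitePresentation (DA.obj l).ringCatSheaf).prop_of_iso hGA.symm hAlfp)
      ((SheafOfModules.isFinitePresentation (DB.obj l).ringCatSheaf).prop_of_iso hGB.symm hBlfp), ?_⟩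
  exact nonempty_iso_pullback_glue (a.app l) (b.app l) (wa.app l) (wb.app l) (wa.app l ≫ a.app l)
    a' b' wa' wb' (wa' ≫ a')
    rfl eb rfl hsq'.symm (cX.π.app l) (cA.π.app l) (cB.π.app l) (cW.π.app l)
    (a' ≫ cX.π.app l) (b' ≫ cX.π.app l) (wa' ≫ cA.π.app l) (wb' ≫ cB.π.app l)
    rfl (ha' l).symm rfl (hb' l).symm (hwa' l).symm rfl (hwb' l).symm rfl hwa'' hwb'' hcov' (hwaj l) (hwbj l)
    ((pullback (DA.map v)).obj A) ((pullback (DB.map v)).obj B) φ F αl βl H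

include hcW hsq hsq' ha' hb' hwa' hwb' in
/-- **the gluing step**: descent of finitely presented modules for the members of a two-member open cover
implies descent for the whole system. -/
theorem desc_of_cover
    (hwaj : ∀ j, a.app j ⁻¹ᵁ (b.app j).opensRange ≤ (wa.app j).opensRange)
    (hwbj : ∀ j, b.app j ⁻¹ᵁ (a.app j).opensRange ≤ (wb.app j).opensRange)
    (hcovj : ∀ j, (a.app j).opensRange ⊔ (b.app j).opensRange = ⊤)
    (hwa'' : a' ⁻¹ᵁ b'.opensRange ≤ wa'.opensRange) (hwb'' : b' ⁻¹ᵁ a'.opensRange ≤ wb'.opensRange)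
    (hcov' : a'.opensRange ⊔ b'.opensRange = ⊤)
    (hA : Desc DA cA) (hB : Desc DB cB) : Desc DX cX := by
  intro F hFq hFfp
  haveI := hFq
  have hFAq : ((pullback a').obj F).IsQuasicoherent :=
    Groth.Agent.Lib.Helper2.PullbackSec.isQuasicoherent_pullback _ _
  have hFBq : ((pullback b').obj F).IsQuasicoherent :=
    Groth.Agent.Lib.Helper2.PullbackSec.isQuasicoherent_pullback _ _
  obtain ⟨j₁, A₁, hA₁q, hA₁fp, ⟨α₁⟩⟩ := hA _ hFAq (Groth.Agent.Helper18Strict.isFP_pullback a' F hFfp)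
  obtain ⟨j₂, B₂, hB₂q, hB₂fp, ⟨β₂⟩⟩ := hB _ hFBq (Groth.Agent.Helper18Strict.isFP_pullback b' F hFfp)
  obtain ⟨hAq, hAfp, ⟨κA⟩⟩ := exists_later (c := cA) (IsCofiltered.minToLeft j₁ j₂) A₁ hA₁q hA₁fp
  obtain ⟨hBq, hBfp, ⟨κB⟩⟩ := exists_later (c := cB) (IsCofiltered.minToRight j₁ j₂) B₂ hB₂q hB₂fp
  exact desc_of_cover_aux DX DA DB DW cX cA cB cW hcW a b wa wb hsq a' b' wa' wb' hsq' ha' hb' hwa' hwb'
    hwaj hwbj hcovj hwa'' hwb'' hcov' (IsCofiltered.min j₁ j₂) _ _ hAq hBq hAfp hBfp F (κA ≪≫ α₁) (κB ≪≫ β₂)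

end step

end Groth.Agent.Lib.Helper26.ModDesc
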