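import Mathlib
import Groth.Agent.Lib.Helper26ModDescC2
import Groth.Agent.Lib.Helper26ModDescA
import Groth.Agent.Lib.Helper22LimBC

/-!
# Descent of finitely presented modules to a stage of a limit: the restricted systems (helper26)

For `S = lim S_i` and an open `U ⊆ S_{i₀}` the restricted system `sysU D i₀ U : j ↦ U ×_{S_{i₀}} S_j` with limit the
open subscheme `π⁻¹(U)` of `S`.  `desc_of_sup`: if `A₀ ⊔ B₀ = ⊤` and finitely presented modules descend for the systems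
restricted to `A₀` and `B₀` (with `A₀ ⊓ B₀` quasi-compact and quasi-separated), they descend for the whole system.
-/

set_option autoImplicit false
set_option linter.style.haveILetI false
set_option linter.unusedSectionVars false
universe u
open CategoryTheory AlgebraicGeometry TopologicalSpace

namespace Groth.Agent.Lib.Helper26.ModDesc

open Groth.Agent.Lib.Helper26.ModLim2 Groth.Agent.Lib.Helper26.PbCalc Groth.Agent.Lib.Helper26.Glue
  Groth.Agent.Lib.Helper22.LimBC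

/-- a general range lemma for two-member covers -/
theorem preimage_opensRange_le {X XA XB XW : Scheme.{u}} (a : XA ⟶ X) (b : XB ⟶ X) (wa : XW ⟶ XA) (w : XW ⟶ X)
    [IsOpenImmersion a] [IsOpenImmersion b] [IsOpenImmersion wa] [IsOpenImmersion w]
    (ea : wa ≫ a = w) (h : a.opensRange ⊓ b.opensRange ≤ w.opensRange) :
    a ⁻¹ᵁ b.opensRange ≤ wa.opensRange := by
  intro x hx
  have h1 : a x ∈ w.opensRange := h ⟨⟨x, rfl⟩, hx⟩
  obtain ⟨y, hy⟩ := h1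
  refine ⟨y, a.isOpenEmbedding.injective ?_⟩
  rw [← hy, ← ea]
  rfl

section sys
variable {I : Type u} [SmallCategory I] [IsCofiltered I] (D : I ⥤ Scheme.{u}) (c : Limits.Cone D)
  (hc : Limits.IsLimit c) [∀ (i j : I) (f : i ⟶ j), IsAffineHom (D.map f)] (i₀ : I)

/-- the system restricted to an open of `D.obj i₀`. -/
noncomputable abbrev sysU (U : (D.obj i₀).Opens) : Over i₀ ⥤ Scheme.{u} := bcDiagram D i₀ U.ι

/-- the cone over the restricted system with point the preimage of `U`. -/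
noncomputable abbrev coneU (U : (D.obj i₀).Opens) : Limits.Cone (sysU D i₀ U) :=
  bcCone i₀ (isPullback_morphismRestrict (c.π.app i₀) U)

/-- the restricted cone is a limit cone. -/
noncomputable def isLimitConeU (U : (D.obj i₀).Opens) : Limits.IsLimit (coneU D c i₀ U) :=
  isLimitBcCone i₀ (isPullback_morphismRestrict (c.π.app i₀) U) hc

/-- the map of restricted systems attached to an inclusion of opens. -/
noncomputable def sysLE {U V : (D.obj i₀).Opens} (h : U ≤ V) : sysU D i₀ U ⟶ sysU D i₀ V where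
  app j := dLift j (dFst D i₀ U.ι j ≫ (D.obj i₀).homOfLE h) (dSnd D i₀ U.ι j)
    (by rw [Category.assoc, Scheme.homOfLE_ι, d_condition])
  naturality j k f := by
    apply d_hom_ext
    · rw [Category.assoc, dLift_fst, map_dFst_assoc, Category.assoc, map_dFst, dLift_fst]
    · rw [Category.assoc, dLift_snd, map_dSnd, Category.assoc, map_dSnd, dLift_snd_assoc]

@[reassoc]
theorem sysLE_app_snd {U V : (D.obj i₀).Opens} (h : U ≤ V) (j : Over i₀) :
    (sysLE D i₀ h).app j ≫ dSnd D i₀ V.ι j = dSnd D i₀ U.ι j :=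
  dLift_snd _ _ _ _

@[reassoc]
theorem sysLE_app_fst {U V : (D.obj i₀).Opens} (h : U ≤ V) (j : Over i₀) :
    (sysLE D i₀ h).app j ≫ dFst D i₀ V.ι j = dFst D i₀ U.ι j ≫ (D.obj i₀).homOfLE h :=
  dLift_fst _ _ _ _

instance isOpenImmersion_dSnd (U : (D.obj i₀).Opens) (j : Over i₀) : IsOpenImmersion (dSnd D i₀ U.ι j) :=
  (inferInstance : IsOpenImmersion (Limits.pullback.snd U.ι (D.map j.hom)))

instance isOpenImmersion_bcDiagramι (U : (D.obj i₀).Opens) (j : Over i₀) :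
    IsOpenImmersion ((bcDiagramι D i₀ U.ι).app j) :=
  isOpenImmersion_dSnd D i₀ U j

instance isOpenImmersion_sysLE {U V : (D.obj i₀).Opens} (h : U ≤ V) (j : Over i₀) :
    IsOpenImmersion ((sysLE D i₀ h).app j) := by
  haveI : IsOpenImmersion ((sysLE D i₀ h).app j ≫ dSnd D i₀ V.ι j) := by
    rw [sysLE_app_snd]; infer_instance
  exact IsOpenImmersion.of_comp _ (dSnd D i₀ V.ι j)

theorem opensRange_dSnd (U : (D.obj i₀).Opens) (j : Over i₀) :
    (dSnd D i₀ U.ι j).opensRange = D.map j.hom ⁻¹ᵁ U := by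
  have h1 := Scheme.Hom.opensRange_pullbackSnd U.ι (D.map j.hom)
  rw [Scheme.Opens.opensRange_ι] at h1
  exact h1

/-- the preimage in the limit of an open of `D.obj i₀`. -/
noncomputable abbrev ptU (U : (D.obj i₀).Opens) : c.pt.Opens := c.π.app i₀ ⁻¹ᵁ U

theorem ptU_mono {U V : (D.obj i₀).Opens} (h : U ≤ V) : ptU D c i₀ U ≤ ptU D c i₀ V := fun _ hx => h hx

/-- the projection from the limit of the restricted system. -/
noncomputable abbrev πU (U : (D.obj i₀).Opens) (j : Over i₀) :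
    (ptU D c i₀ U : Scheme.{u}) ⟶ (sysU D i₀ U).obj j :=
  bcπ i₀ (isPullback_morphismRestrict (c.π.app i₀) U) j

theorem ι_π (U : (D.obj i₀).Opens) (j : Over i₀) :
    (ptU D c i₀ U).ι ≫ c.π.app j.left = πU D c i₀ U j ≫ dSnd D i₀ U.ι j :=
  (bcπ_snd i₀ (isPullback_morphismRestrict (c.π.app i₀) U) j).symm

theorem homOfLE_π {U V : (D.obj i₀).Opens} (h : U ≤ V) (j : Over i₀) :
    c.pt.homOfLE (ptU_mono D c i₀ h) ≫ πU D c i₀ V j = πU D c i₀ U j ≫ (sysLE D i₀ h).app j := by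
  have eV : πU D c i₀ V j ≫ dFst D i₀ V.ι j = c.π.app i₀ ∣_ V :=
    bcπ_fst i₀ (isPullback_morphismRestrict (c.π.app i₀) V) j
  have eU : πU D c i₀ U j ≫ dFst D i₀ U.ι j = c.π.app i₀ ∣_ U :=
    bcπ_fst i₀ (isPullback_morphismRestrict (c.π.app i₀) U) j
  apply d_hom_ext
  · rw [Category.assoc, Category.assoc, sysLE_app_fst, eV, reassoc_of% eU]
    rw [← cancel_mono V.ι, Category.assoc, Category.assoc, Scheme.homOfLE_ι, morphismRestrict_ι,
      morphismRestrict_ι, Scheme.homOfLE_ι_assoc]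
  · rw [Category.assoc, Category.assoc, sysLE_app_snd, ← ι_π, ← ι_π, Scheme.homOfLE_ι_assoc]

include hc in
/-- **the gluing step for restricted systems** -/
theorem desc_of_sup (A₀ B₀ : (D.obj i₀).Opens) [CompactSpace ↥(A₀ ⊓ B₀)] [QuasiSeparatedSpace ↥(A₀ ⊓ B₀)]
    (hAB : A₀ ⊔ B₀ = ⊤) (hA : Desc (sysU D i₀ A₀) (coneU D c i₀ A₀))
    (hB : Desc (sysU D i₀ B₀) (coneU D c i₀ B₀)) : Desc D c := by
  haveI hD : ∀ {i j : I} (φ : i ⟶ j), IsAffineHom (D.map φ) := fun φ => inferInstance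
  haveI : CompactSpace ((A₀ ⊓ B₀ : (D.obj i₀).Opens) : Scheme.{u}) := ‹CompactSpace ↥(A₀ ⊓ B₀)›
  haveI : QuasiSeparatedSpace ((A₀ ⊓ B₀ : (D.obj i₀).Opens) : Scheme.{u}) := ‹QuasiSeparatedSpace ↥(A₀ ⊓ B₀)›
  haveI : ∀ j : Over i₀, CompactSpace ↥((sysU D i₀ (A₀ ⊓ B₀)).obj j) := fun j =>
    QuasiCompact.compactSpace_of_compactSpace (dFst D i₀ (A₀ ⊓ B₀).ι j)
  haveI : ∀ j : Over i₀, QuasiSeparatedSpace ↥((sysU D i₀ (A₀ ⊓ B₀)).obj j) := fun j =>
    quasiSeparatedSpace_of_quasiSeparated (dFst D i₀ (A₀ ⊓ B₀).ι j)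
  have hsq : sysLE D i₀ (inf_le_left : A₀ ⊓ B₀ ≤ A₀) ≫ bcDiagramι D i₀ A₀.ι =
      sysLE D i₀ (inf_le_right : A₀ ⊓ B₀ ≤ B₀) ≫ bcDiagramι D i₀ B₀.ι := by
    ext j : 2
    exact (sysLE_app_snd D i₀ inf_le_left j).trans (sysLE_app_snd D i₀ inf_le_right j).symm
  have hsq' : c.pt.homOfLE (ptU_mono D c i₀ (inf_le_left : A₀ ⊓ B₀ ≤ A₀)) ≫ (ptU D c i₀ A₀).ι =
      c.pt.homOfLE (ptU_mono D c i₀ (inf_le_right : A₀ ⊓ B₀ ≤ B₀)) ≫ (ptU D c i₀ B₀).ι := by
    rw [Scheme.homOfLE_ι, Scheme.homOfLE_ι]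
  have hwaj : ∀ j : Over i₀, (bcDiagramι D i₀ A₀.ι).app j ⁻¹ᵁ ((bcDiagramι D i₀ B₀.ι).app j).opensRange ≤
      ((sysLE D i₀ (inf_le_left : A₀ ⊓ B₀ ≤ A₀)).app j).opensRange := fun j =>
    preimage_opensRange_le (dSnd D i₀ A₀.ι j) (dSnd D i₀ B₀.ι j) _ (dSnd D i₀ (A₀ ⊓ B₀).ι j)
      (sysLE_app_snd D i₀ inf_le_left j) (by
        rw [opensRange_dSnd, opensRange_dSnd, opensRange_dSnd]
        exact (Scheme.Hom.preimage_inf _).ge)
  have hwbj : ∀ j : Over i₀, (bcDiagramι D i₀ B₀.ι).app j ⁻¹ᵁ ((bcDiagramι D i₀ A₀.ι).app j).opensRange ≤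
      ((sysLE D i₀ (inf_le_right : A₀ ⊓ B₀ ≤ B₀)).app j).opensRange := fun j =>
    preimage_opensRange_le (dSnd D i₀ B₀.ι j) (dSnd D i₀ A₀.ι j) _ (dSnd D i₀ (A₀ ⊓ B₀).ι j)
      (sysLE_app_snd D i₀ inf_le_right j) (by
        rw [opensRange_dSnd, opensRange_dSnd, opensRange_dSnd, inf_comm]
        exact (Scheme.Hom.preimage_inf _).ge)
  have hcovj : ∀ j : Over i₀, ((bcDiagramι D i₀ A₀.ι).app j).opensRange ⊔
      ((bcDiagramι D i₀ B₀.ι).app j).opensRange = ⊤ := fun j => by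
    change (dSnd D i₀ A₀.ι j).opensRange ⊔ (dSnd D i₀ B₀.ι j).opensRange = ⊤
    rw [opensRange_dSnd, opensRange_dSnd, ← Scheme.Hom.preimage_sup, hAB, Scheme.Hom.preimage_top]
  have hwa'' : (ptU D c i₀ A₀).ι ⁻¹ᵁ (ptU D c i₀ B₀).ι.opensRange ≤
      (c.pt.homOfLE (ptU_mono D c i₀ (inf_le_left : A₀ ⊓ B₀ ≤ A₀))).opensRange :=
    preimage_opensRange_le (ptU D c i₀ A₀).ι (ptU D c i₀ B₀).ι _ (ptU D c i₀ (A₀ ⊓ B₀)).ι
      (Scheme.homOfLE_ι _ _) (by
        rw [Scheme.Opens.opensRange_ι, Scheme.Opens.opensRange_ι, Scheme.Opens.opensRange_ι]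
        exact (Scheme.Hom.preimage_inf _).ge)
  have hwb'' : (ptU D c i₀ B₀).ι ⁻¹ᵁ (ptU D c i₀ A₀).ι.opensRange ≤
      (c.pt.homOfLE (ptU_mono D c i₀ (inf_le_right : A₀ ⊓ B₀ ≤ B₀))).opensRange :=
    preimage_opensRange_le (ptU D c i₀ B₀).ι (ptU D c i₀ A₀).ι _ (ptU D c i₀ (A₀ ⊓ B₀)).ι
      (Scheme.homOfLE_ι _ _) (by
        rw [Scheme.Opens.opensRange_ι, Scheme.Opens.opensRange_ι, Scheme.Opens.opensRange_ι, inf_comm]
        exact (Scheme.Hom.preimage_inf _).ge)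
  have hcov' : (ptU D c i₀ A₀).ι.opensRange ⊔ (ptU D c i₀ B₀).ι.opensRange = ⊤ := by
    rw [Scheme.Opens.opensRange_ι, Scheme.Opens.opensRange_ι]
    change c.π.app i₀ ⁻¹ᵁ A₀ ⊔ c.π.app i₀ ⁻¹ᵁ B₀ = ⊤
    rw [← Scheme.Hom.preimage_sup, hAB, Scheme.Hom.preimage_top]
  let a' : (coneU D c i₀ A₀).pt ⟶ (c.whisker (Over.forget i₀)).pt := (ptU D c i₀ A₀).ι
  let b' : (coneU D c i₀ B₀).pt ⟶ (c.whisker (Over.forget i₀)).pt := (ptU D c i₀ B₀).ι
  let wa' : (coneU D c i₀ (A₀ ⊓ B₀)).pt ⟶ (coneU D c i₀ A₀).pt :=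
    c.pt.homOfLE (ptU_mono D c i₀ inf_le_left)
  let wb' : (coneU D c i₀ (A₀ ⊓ B₀)).pt ⟶ (coneU D c i₀ B₀).pt :=
    c.pt.homOfLE (ptU_mono D c i₀ inf_le_right)
  haveI : IsOpenImmersion a' := (inferInstance : IsOpenImmersion (ptU D c i₀ A₀).ι)
  haveI : IsOpenImmersion b' := (inferInstance : IsOpenImmersion (ptU D c i₀ B₀).ι)
  haveI : IsOpenImmersion wa' :=
    (inferInstance : IsOpenImmersion (c.pt.homOfLE (ptU_mono D c i₀ (inf_le_left : A₀ ⊓ B₀ ≤ A₀))))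
  haveI : IsOpenImmersion wb' :=
    (inferInstance : IsOpenImmersion (c.pt.homOfLE (ptU_mono D c i₀ (inf_le_right : A₀ ⊓ B₀ ≤ B₀))))
  have h := desc_of_cover (Over.forget i₀ ⋙ D) (sysU D i₀ A₀) (sysU D i₀ B₀) (sysU D i₀ (A₀ ⊓ B₀))
    (c.whisker (Over.forget i₀)) (coneU D c i₀ A₀) (coneU D c i₀ B₀) (coneU D c i₀ (A₀ ⊓ B₀))
    (isLimitConeU D c hc i₀ (A₀ ⊓ B₀))
    (bcDiagramι D i₀ A₀.ι) (bcDiagramι D i₀ B₀.ι) (sysLE D i₀ inf_le_left) (sysLE D i₀ inf_le_right) hsq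
    a' b' wa' wb' hsq'
    (fun j => ι_π D c i₀ A₀ j) (fun j => ι_π D c i₀ B₀ j)
    (fun j => homOfLE_π D c i₀ inf_le_left j) (fun j => homOfLE_π D c i₀ inf_le_right j)
    hwaj hwbj hcovj hwa'' hwb'' hcov' hA hB
  intro F hFq hFfp
  obtain ⟨j, Fj, h1, h2, h3⟩ := h F hFq hFfp
  exact ⟨j.left, Fj, h1, h2, h3⟩

include hc in
/-- descent for the system restricted to an affine open. -/
theorem desc_sysU_of_isAffineOpen (U : (D.obj i₀).Opens) (hU : IsAffineOpen U) :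
    Desc (sysU D i₀ U) (coneU D c i₀ U) := by
  haveI hD : ∀ {i j : I} (φ : i ⟶ j), IsAffineHom (D.map φ) := fun φ => inferInstance
  haveI : IsAffine (U : Scheme.{u}) := hU
  haveI : IsAffine ((sysU D i₀ U).obj (Over.mk (𝟙 i₀))) :=
    isAffine_of_isAffineHom (dFst D i₀ U.ι (Over.mk (𝟙 i₀)))
  intro F hFq hFfp
  haveI := hFq
  obtain ⟨j, Fj, h1, h2, h3⟩ := exists_module_descend_of_isAffine (sysU D i₀ U) (coneU D c i₀ U)
    (isLimitConeU D c hc i₀ U) (Over.mk (𝟙 i₀)) F hFfp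
  exact ⟨j.left, Fj, h1, h2, h3⟩

end sys

/-- descent of finitely presented modules when a stage is quasi-separated and covered by `n` affine opens. -/
theorem desc_of_fin_cover : ∀ (n : ℕ) {I : Type u} [SmallCategory I] [IsCofiltered I] (D : I ⥤ Scheme.{u})
    (c : Limits.Cone D) (_ : Limits.IsLimit c) [∀ (i j : I) (f : i ⟶ j), IsAffineHom (D.map f)] (i₀ : I)
    [QuasiSeparatedSpace (D.obj i₀)] (𝒰 : Fin n → (D.obj i₀).Opens) (_ : ∀ k, IsAffineOpen (𝒰 k))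
    (_ : ⨆ k, 𝒰 k = ⊤), Desc D c := by
  intro n
  induction n with
  | zero =>
    intro I _ _ D c hc _ i₀ _ 𝒰 h𝒰 hcov
    haveI : IsEmpty (D.obj i₀) := by
      rw [iSup_of_empty] at hcov
      constructor
      intro x
      have hx : x ∈ (⊤ : (D.obj i₀).Opens) := trivial
      rw [← hcov] at hx
      exact hx.elim
    haveI : IsAffine (D.obj i₀) := isAffine_of_isEmpty
    intro F hFq hFfp
    haveI := hFq
    obtain ⟨j, Fj, h1, h2, h3⟩ := exists_module_descend_of_isAffine D c hc i₀ F hFfp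
    exact ⟨j.left, Fj, h1, h2, h3⟩
  | succ n ih =>
    intro I _ _ D c hc _ i₀ _ 𝒰 h𝒰 hcov
    haveI hD : ∀ {i j : I} (φ : i ⟶ j), IsAffineHom (D.map φ) := fun φ => inferInstance
    obtain ⟨A₀, hA₀⟩ : ∃ A₀ : (D.obj i₀).Opens, A₀ = ⨆ k : Fin n, 𝒰 k.castSucc := ⟨_, rfl⟩
    have hAB : A₀ ⊔ 𝒰 (Fin.last n) = ⊤ := by
      rw [eq_top_iff, ← hcov]
      refine iSup_le fun k => ?_
      induction k using Fin.lastCases with
      | last => exact le_sup_right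
      | cast k => exact le_trans (hA₀ ▸ le_iSup (fun k : Fin n => 𝒰 k.castSucc) k) le_sup_left
    have hAc : IsCompact (A₀ : Set (D.obj i₀)) := by
      rw [hA₀, Opens.coe_iSup]
      exact isCompact_iUnion fun k => (h𝒰 _).isCompact
    haveI : CompactSpace ↥(A₀ ⊓ 𝒰 (Fin.last n)) := isCompact_iff_compactSpace.mp
      (QuasiSeparatedSpace.inter_isCompact _ _ A₀.2 hAc (𝒰 (Fin.last n)).2 (h𝒰 _).isCompact)
    haveI : QuasiSeparatedSpace ↥(A₀ ⊓ 𝒰 (Fin.last n)) :=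
      QuasiSeparatedSpace.of_isOpenEmbedding (A₀ ⊓ 𝒰 (Fin.last n)).isOpenEmbedding
    refine desc_of_sup D c hc i₀ A₀ (𝒰 (Fin.last n)) hAB ?_ (desc_sysU_of_isAffineOpen D c hc i₀ _ (h𝒰 _))
    haveI : QuasiSeparatedSpace (A₀ : Scheme.{u}) :=
      QuasiSeparatedSpace.of_isOpenEmbedding A₀.isOpenEmbedding
    haveI : QuasiSeparatedSpace ((sysU D i₀ A₀).obj (Over.mk (𝟙 i₀))) :=
      quasiSeparatedSpace_of_quasiSeparated (dFst D i₀ A₀.ι (Over.mk (𝟙 i₀)))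
    have hr : (dSnd D i₀ A₀.ι (Over.mk (𝟙 i₀))).opensRange = A₀ := by
      rw [opensRange_dSnd]
      simp
    refine ih (sysU D i₀ A₀) (coneU D c i₀ A₀) (isLimitConeU D c hc i₀ A₀) (Over.mk (𝟙 i₀))
      (fun k => dSnd D i₀ A₀.ι (Over.mk (𝟙 i₀)) ⁻¹ᵁ 𝒰 k.castSucc) (fun k => ?_) ?_
    · refine (h𝒰 _).preimage_of_isOpenImmersion _ ?_
      rw [hr, hA₀]
      exact le_iSup (fun k : Fin n => 𝒰 k.castSucc) k
    · rw [← Scheme.Hom.preimage_iSup, ← hA₀]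
      have h2 := Scheme.Hom.preimage_opensRange (dSnd D i₀ A₀.ι (Over.mk (𝟙 i₀)))
      rw [hr] at h2
      exact h2

section main
variable {I : Type u} [SmallCategory I] [IsCofiltered I] (D : I ⥤ Scheme.{u}) (c : Limits.Cone D)
  (hc : Limits.IsLimit c) [∀ (i j : I) (f : i ⟶ j), IsAffineHom (D.map f)] (i₀ : I)

include hc in
/-- **EGA IV 8.5.2 (ii)**: descent of finitely presented quasi-coherent modules to a stage. -/
theorem desc_of_compact_quasiSeparated [CompactSpace (D.obj i₀)] [QuasiSeparatedSpace (D.obj i₀)] :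
    Desc D c := by
  have hU : ∀ x : D.obj i₀, ∃ U : (D.obj i₀).Opens, IsAffineOpen U ∧ x ∈ U := fun x => by
    obtain ⟨U, hU, hxU, -⟩ := exists_isAffineOpen_mem_and_subset (x := x) (U := ⊤) trivial
    exact ⟨U, hU, hxU⟩
  choose U hUa hxU using hU
  obtain ⟨t, ht⟩ := CompactSpace.elim_nhds_subcover (fun x => (U x : Set (D.obj i₀)))
    (fun x => (U x).2.mem_nhds (hxU x))
  refine desc_of_fin_cover t.card D c hc i₀ (fun k => U (t.equivFin.symm k).1) (fun k => hUa _) ?_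
  rw [eq_top_iff]
  intro x _
  have hx : x ∈ ⋃ y ∈ t, (U y : Set (D.obj i₀)) := by rw [ht]; trivial
  obtain ⟨y, hy, hxy⟩ := Set.mem_iUnion₂.1 hx
  refine Opens.mem_iSup.2 ⟨t.equivFin ⟨y, hy⟩, ?_⟩
  rw [Equiv.symm_apply_apply]
  exact hxy

include hc in
theorem exists_module_descend [CompactSpace (D.obj i₀)] [QuasiSeparatedSpace (D.obj i₀)]
    (F : c.pt.Modules) [F.IsQuasicoherent]
    (hF : SheafOfModules.IsFinitePresentation (R := c.pt.ringCatSheaf) F) :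
    ∃ (i : I) (_ : i ⟶ i₀) (Fi : (D.obj i).Modules), Fi.IsQuasicoherent ∧
      SheafOfModules.IsFinitePresentation (R := (D.obj i).ringCatSheaf) Fi ∧
      Nonempty ((Scheme.Modules.pullback (c.π.app i)).obj Fi ≅ F) := by
  obtain ⟨j, Fj, h1, h2, ⟨e⟩⟩ := desc_of_compact_quasiSeparated D c hc i₀ F inferInstance hF
  obtain ⟨h1', h2', ⟨e'⟩⟩ := exists_later (c := c) (IsCofiltered.minToLeft j i₀) Fj h1 h2
  exact ⟨IsCofiltered.min j i₀, IsCofiltered.minToRight j i₀, _, h1', h2', ⟨e' ≪≫ e⟩⟩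

end main


end Groth.Agent.Lib.Helper26.ModDesc
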