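import Mathlib
import Groth.Agent.Lib.Helper26FlatLimD
import Groth.Agent.Lib.Helper26HomLimD
import Groth.Agent.Lib.Helper22LimBC
import Groth.Agent.Lib.Helper26FGZ
import Groth.Agent.Lib.Helper26ModDescD
import Groth.Agent.Lib.Helper18Strict6
import Groth.Agent.S0591

/-!
# Noetherian descent of a homomorphism of finitely presented modules (helper26)

Namespace `Groth.Agent.Lib.Helper26.HomDesc`.

`exists_descent`: for `f : X ⟶ Spec A` of finite presentation and `u : F' ⟶ F` a homomorphism of quasi-coherent modules of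
finite presentation, there are a finitely generated subring `A₀ ⊆ A` (an index of `specDiagram A`), `f₀ : X₀ ⟶ Spec A₀`
locally of finite presentation with `X = X₀ ×_{A₀} A`, and `h₀ : F₀' ⟶ F₀` on `X₀` whose pullback to `X` is `u` up to
isomorphisms.
-/

set_option autoImplicit false
set_option linter.style.haveILetI false
universe u
open CategoryTheory AlgebraicGeometry Limits
open Groth.Agent.Lib.Helper26.FGZ Groth.Agent.Lib.Helper22.LimBC Groth.Agent.Lib.Helper26.FlatLim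
  Groth.Agent.Lib.Helper26.ModDesc Groth.Agent.Lib.Helper26.ModLim2 Groth.Agent.Lib.Helper26.HomLimD
  Groth.Agent.Lib.Helper2.PullbackSec

namespace Groth.Agent.Lib.Helper26.HomDesc

theorem conj_aux {C : Type*} [Category C] {P P' Q Q' R R' : C} (m : P' ⟶ P) (cF : P ≅ Q)
    (cF' : P' ≅ Q') (em : Q ≅ R) (em' : Q' ≅ R') (u : R' ⟶ R)
    (hh : cF'.inv ≫ m ≫ cF.hom = em'.hom ≫ u ≫ em.inv) :
    m ≫ (cF.hom ≫ em.hom) = (cF'.hom ≫ em'.hom) ≫ u := by
  have h1 : m ≫ cF.hom = cF'.hom ≫ em'.hom ≫ u ≫ em.inv := by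
    rw [← hh, Iso.hom_inv_id_assoc]
  calc m ≫ (cF.hom ≫ em.hom) = (m ≫ cF.hom) ≫ em.hom := (Category.assoc _ _ _).symm
    _ = (cF'.hom ≫ em'.hom ≫ u ≫ em.inv) ≫ em.hom := by rw [h1]
    _ = (cF'.hom ≫ em'.hom) ≫ u := by simp

theorem exists_descent {A : Type u} [CommRing A] {X : Scheme.{u}}
    (f : X ⟶ Spec (CommRingCat.of A)) [h1 : LocallyOfFinitePresentation f] [h2 : QuasiCompact f]
    [h3 : QuasiSeparated f]
    (F' F : X.Modules) [hq' : F'.IsQuasicoherent] [hq : F.IsQuasicoherent]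
    (hF' : SheafOfModules.IsFinitePresentation (R := X.ringCatSheaf) F')
    (hF : SheafOfModules.IsFinitePresentation (R := X.ringCatSheaf) F) (u : F' ⟶ F) :
    ∃ (i₀ : (FGSub A)ᵒᵖ) (X₀ : Scheme.{u}) (f₀ : X₀ ⟶ (specDiagram A).obj i₀) (q : X ⟶ X₀)
      (F₀' F₀ : X₀.Modules) (h₀ : F₀' ⟶ F₀) (e' : (Scheme.Modules.pullback q).obj F₀' ≅ F')
      (e : (Scheme.Modules.pullback q).obj F₀ ≅ F),
      LocallyOfFinitePresentation f₀ ∧ F₀'.IsQuasicoherent ∧ F₀.IsQuasicoherent ∧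
      SheafOfModules.IsFinitePresentation (R := X₀.ringCatSheaf) F₀' ∧
      SheafOfModules.IsFinitePresentation (R := X₀.ringCatSheaf) F₀ ∧
      IsPullback q f f₀ ((specCone A).π.app i₀) ∧
      (Scheme.Modules.pullback q).map h₀ ≫ e.hom = e'.hom ≫ u := by
  obtain ⟨i, Xi, ui, qX, a1, a2, a3, hX⟩ :=
    @Groth.Agent.S0591.result _ _ _ (specDiagram A) (specCone A) (specIsLimit A) _ _ _ X f h1 h2 h3
  haveI : CompactSpace Xi := QuasiCompact.compactSpace_of_compactSpace ui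
  haveI : QuasiSeparatedSpace Xi := quasiSeparatedSpace_of_quasiSeparated ui
  haveI hD : ∀ {i j : (FGSub A)ᵒᵖ} (φ : i ⟶ j), IsAffineHom ((specDiagram A).map φ) :=
    fun φ => inferInstance
  -- the system of the `X_j`
  let D₂ := bcDiagram (specDiagram A) i ui
  let c₂ : Cone D₂ := bcCone (D := specDiagram A) (c := specCone A) i hX
  have hc₂ : IsLimit c₂ := isLimitBcCone i hX (specIsLimit A)
  obtain ⟨j, Fj, hFjq, hFjfp, ⟨ej⟩⟩ := desc_of_compact_quasiSeparated D₂ c₂ hc₂ (Over.mk (𝟙 i)) F hq hF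
  obtain ⟨j', Fj', hFjq', hFjfp', ⟨ej'⟩⟩ :=
    desc_of_compact_quasiSeparated D₂ c₂ hc₂ (Over.mk (𝟙 i)) F' hq' hF'
  -- a common stage
  let m : Over i := IsCofiltered.min j j'
  let a : m ⟶ j := IsCofiltered.minToLeft j j'
  let a' : m ⟶ j' := IsCofiltered.minToRight j j'
  obtain ⟨hFmq, hFmfp, ⟨em₀⟩⟩ := exists_later (c := c₂) a Fj hFjq hFjfp
  obtain ⟨hFmq', hFmfp', ⟨em₀'⟩⟩ := exists_later (c := c₂) a' Fj' hFjq' hFjfp'
  let Fm := (Scheme.Modules.pullback (D₂.map a)).obj Fj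
  let Fm' := (Scheme.Modules.pullback (D₂.map a')).obj Fj'
  haveI : Fm.IsQuasicoherent := hFmq
  haveI : Fm'.IsQuasicoherent := hFmq'
  let em : (Scheme.Modules.pullback (c₂.π.app m)).obj Fm ≅ F := em₀ ≪≫ ej
  let em' : (Scheme.Modules.pullback (c₂.π.app m)).obj Fm' ≅ F' := em₀' ≪≫ ej'
  -- descend the homomorphism
  let h : (Scheme.Modules.pullback (leg D₂ c₂ m)).obj Fm' ⟶ (Scheme.Modules.pullback (leg D₂ c₂ m)).obj Fm :=
    em'.hom ≫ u ≫ em.inv
  obtain ⟨l, hl, hhl⟩ := exists_hom_pullback_eq D₂ c₂ hc₂ m Fm Fm' hFmfp' h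
  let cF := compIso (leg D₂ c₂ l.left) (D₂.map l.hom) (leg D₂ c₂ m) (leg_w D₂ c₂ l.hom)
  refine ⟨l.left.left, D₂.obj l.left, dSnd (specDiagram A) i ui l.left, bcπ i hX l.left,
    (Scheme.Modules.pullback (D₂.map l.hom)).obj Fm', (Scheme.Modules.pullback (D₂.map l.hom)).obj Fm,
    hl, cF.app Fm' ≪≫ em', cF.app Fm ≪≫ em,
    MorphismProperty.of_isPullback (P := @LocallyOfFinitePresentation)
      (isPullback_d (specDiagram A) i ui l.left) a1,
    isQuasicoherent_pullback _ _, isQuasicoherent_pullback _ _,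
    Groth.Agent.Helper18Strict.isFP_pullback _ _ hFmfp',
    Groth.Agent.Helper18Strict.isFP_pullback _ _ hFmfp,
    isPullback_bcπ (D := specDiagram A) (c := specCone A) i hX l.left, ?_⟩
  exact conj_aux _ (cF.app Fm) (cF.app Fm') em em' u hhl

end Groth.Agent.Lib.Helper26.HomDesc
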