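import Mathlib
import Groth.Agent.Lib.Helper23Extend2
import Groth.Agent.Lib.Helper2FPAff
import Groth.Agent.Lib.Helper2FinPushFP
import Groth.Agent.S9498

/-!
# Extension of finitely presented modules from quasi-compact opens: preliminaries (helper23)

* `isIso_of_cokernels`, `isIso_map_cokernel_desc` (right exact functors and cokernels of `a' ≫ ι` with `Ψ a'` epi)
* `secF`, `exists_of_app_eq_zero` (left exactness of sections), `appₗ`, `finite_of_shortExact`
* `FPOn M W` with `fp_restrict_iff`, `fpOn_of_isFP_restrict`, `isFP_restrict_of_fpOn`, `isFP_of_fpOn_top`, `FPOn.sup`,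
  `FPOn.of_isoOn`, `fp_of_isIso_app`
* `adjTilde_comp`, `adjTilde_unit`
-/

set_option autoImplicit false
set_option backward.isDefEq.respectTransparency.types false
universe u
open CategoryTheory Limits AlgebraicGeometry TopologicalSpace Opposite

namespace Groth.Agent.Lib.Helper23.ExtendFP

open Groth.Agent.Lib.Helper23.QCohLocal Groth.Agent.Lib.Helper2.Push Groth.Agent.Lib.Helper2.QCoh
  Groth.Agent.Lib.Helper23.FinType Groth.Agent.Lib.Helper23.ModLocal Groth.Agent.Lib.Helper23.Extend

section Cat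

/-- two cokernels, of `i` and of `g = a ≫ i` with `a` epi, are identified by any compatible comparison map -/
theorem isIso_of_cokernels {D : Type*} [Category D] [HasZeroMorphisms D] {A' A B Q Q' : D} (a : A' ⟶ A) [Epi a]
    (i : A ⟶ B) (g : A' ⟶ B) (hg : g = a ≫ i) (p' : B ⟶ Q') (p : B ⟶ Q) (w' : g ≫ p' = 0) (w : i ≫ p = 0)
    (h' : IsColimit (CokernelCofork.ofπ p' w')) (h : IsColimit (CokernelCofork.ofπ p w))
    (q : Q' ⟶ Q) (hq : p' ≫ q = p) : IsIso q := by
  have h₃ : IsColimit (CokernelCofork.ofπ p (by rw [hg, Category.assoc, w, comp_zero]) : CokernelCofork g) :=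
    isCokernelEpiComp h a hg
  let e := h'.coconePointUniqueUpToIso h₃
  have he : p' ≫ e.hom = p := h'.comp_coconePointUniqueUpToIso_hom h₃ WalkingParallelPair.one
  have : q = e.hom := by
    apply Cofork.IsColimit.hom_ext h'
    change p' ≫ q = p' ≫ e.hom
    rw [hq, he]
  rw [this]; infer_instance

/-- a right exact functor maps the comparison `coker (a' ≫ ι) ⟶ coker ι` to an isomorphism when it maps `a'` to an
epimorphism -/
theorem isIso_map_cokernel_desc {C D : Type*} [Category C] [Category D] [HasZeroMorphisms C] [HasZeroMorphisms D]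
    (Ψ : C ⥤ D) [Ψ.PreservesZeroMorphisms] {K' K F N : C} (a' : K' ⟶ K) (ι : K ⟶ F) (π : F ⟶ N) (w : ι ≫ π = 0)
    (hπ : IsColimit (CokernelCofork.ofπ π w)) [HasCokernel (a' ≫ ι)]
    [PreservesColimit (parallelPair ι 0) Ψ] [PreservesColimit (parallelPair (a' ≫ ι) 0) Ψ] [Epi (Ψ.map a')] :
    IsIso (Ψ.map (cokernel.desc (a' ≫ ι) π (by rw [Category.assoc, w, comp_zero]))) := by
  have h₁ := CokernelCofork.mapIsColimit _ (cokernelIsCokernel (a' ≫ ι)) Ψ
  have h₂ := CokernelCofork.mapIsColimit _ hπ Ψ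
  exact isIso_of_cokernels (Ψ.map a') (Ψ.map ι) (Ψ.map (a' ≫ ι)) (Ψ.map_comp _ _) (Ψ.map (cokernel.π (a' ≫ ι)))
    (Ψ.map π) (by rw [← Ψ.map_comp, cokernel.condition, Ψ.map_zero]) (by rw [← Ψ.map_comp, w, Ψ.map_zero]) h₁ h₂ _
    (by rw [← Ψ.map_comp, cokernel.π_desc])

end Cat


section Sec
variable {X : Scheme.{u}}

/-- the sections functor over an open -/
noncomputable def secF (W : X.Opens) : X.Modules ⥤ Ab.{u} :=
  Scheme.Modules.toPresheaf X ⋙ (evaluation _ _).obj (op W)

instance (W : X.Opens) : PreservesFiniteLimits (secF W) := by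
  have h1 : PreservesFiniteLimits (Scheme.Modules.toPresheaf X) := inferInstance
  have h2 : PreservesFiniteLimits ((evaluation (Opens ↥X)ᵒᵖ Ab.{u}).obj (op W)) := inferInstance
  exact @comp_preservesFiniteLimits _ _ _ _ _ _ (Scheme.Modules.toPresheaf X)
    ((evaluation (Opens ↥X)ᵒᵖ Ab.{u}).obj (op W)) h1 h2

instance (W : X.Opens) : (secF W).PreservesZeroMorphisms := ⟨fun _ _ => rfl⟩

/-- left exactness of sections -/
theorem exists_of_app_eq_zero (S : ShortComplex X.Modules) (hS : S.Exact) [Mono S.f] (W : X.Opens)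
    (s : Γ(S.X₂, W)) (hs : S.g.app W s = 0) : ∃ t : Γ(S.X₁, W), S.f.app W t = s := by
  have h := hS.map_of_mono_of_preservesKernel (secF W) inferInstance inferInstance
  exact (ShortComplex.ab_exact_iff _).1 h s hs

/-- the morphism on sections as a linear map -/
noncomputable def appₗ {A B : X.Modules} (m : A ⟶ B) (W : X.Opens) : Γ(A, W) →ₗ[Γ(X, W)] Γ(B, W) where
  toFun := fun x => m.app W x
  map_add' := fun x y => map_add _ x y
  map_smul' := fun r x => Scheme.Modules.Hom.app_smul m r x

@[simp] theorem appₗ_apply {A B : X.Modules} (m : A ⟶ B) (W : X.Opens) (x : Γ(A, W)) : appₗ m W x = m.app W x := rfl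

/-- in a short exact sequence of quasi-coherent modules, if over an affine open the middle term has a finite module of
sections and the right term a finitely presented one, then the left term has a finite module of sections. -/
theorem finite_of_shortExact (S : ShortComplex X.Modules) (hS : S.ShortExact) [S.X₁.IsQuasicoherent]
    [S.X₂.IsQuasicoherent] [S.X₃.IsQuasicoherent] {W : X.Opens} (hW : IsAffineOpen W)
    [Module.Finite Γ(X, W) Γ(S.X₂, W)] [Module.FinitePresentation Γ(X, W) Γ(S.X₃, W)] :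
    Module.Finite Γ(X, W) Γ(S.X₁, W) := by
  have := hS.mono_f
  have := hS.epi_g
  have hsurj : Function.Surjective (appₗ S.g W) := surjective_app_of_epi S.g hW
  have hinj : Function.Injective (appₗ S.f W) := injective_app_of_mono S.f W
  have hfg : (LinearMap.ker (appₗ S.g W)).FG := Module.FinitePresentation.fg_ker (appₗ S.g W) hsurj
  have hrange : LinearMap.range (appₗ S.f W) = LinearMap.ker (appₗ S.g W) := by
    ext s
    constructor
    · rintro ⟨t, rfl⟩
      rw [LinearMap.mem_ker, appₗ_apply, appₗ_apply]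
      have h0 : S.f ≫ S.g = 0 := S.zero
      have := congrArg (fun φ => Scheme.Modules.Hom.app φ W t) h0
      rw [Scheme.Modules.Hom.comp_app] at this
      exact this
    · intro hs
      exact exists_of_app_eq_zero S hS.exact W s hs
  have : Module.Finite Γ(X, W) (LinearMap.range (appₗ S.f W)) := by
    rw [hrange]; exact Module.Finite.iff_fg.2 hfg
  exact Module.Finite.equiv (LinearEquiv.ofInjective (appₗ S.f W) hinj).symm

end Sec


section FPOn
open Groth.Agent.Lib.Helper2.FPAff Groth.Agent.Lib.Helper2.FinPushFP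
variable {X : Scheme.{u}}

/-- `M` is finitely presented on the open `W`: sections over affine opens inside `W` are finitely presented modules -/
def FPOn (M : X.Modules) (W : X.Opens) : Prop :=
  ∀ W' : X.Opens, IsAffineOpen W' → W' ≤ W → Module.FinitePresentation Γ(X, W') Γ(M, W')

theorem FPOn.mono {M : X.Modules} {W W₁ : X.Opens} (h : FPOn M W) (hle : W₁ ≤ W) : FPOn M W₁ :=
  fun W' hW' hW'le => h W' hW' (hW'le.trans hle)

theorem fp_restrict_iff {Y : Scheme.{u}} (j : Y ⟶ X) [IsOpenImmersion j] (M : X.Modules) (W : Y.Opens) :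
    Module.FinitePresentation Γ(Y, W) Γ(M.restrict j, W) ↔
      Module.FinitePresentation Γ(X, j ''ᵁ W) Γ(M, j ''ᵁ W) := by
  refine finitePresentation_iff_of_semilinear (j.appIso W).inv.hom ?_ (AddEquiv.refl _) (fun r x => ?_)
  · exact ConcreteCategory.bijective_of_isIso (j.appIso W).inv
  · exact Scheme.Modules.smul_restrictAppIso_hom_apply j M W r x

theorem fp_iff_of_eq (M : X.Modules) {U W : X.Opens} (h : W = U) :
    Module.FinitePresentation Γ(X, W) Γ(M, W) ↔ Module.FinitePresentation Γ(X, U) Γ(M, U) := by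
  subst h; rfl

theorem fpOn_of_isFP_restrict {Z : Scheme.{u}} (k : Z ⟶ X) [IsOpenImmersion k] (M : X.Modules)
    [(M.restrict k).IsQuasicoherent]
    [SheafOfModules.IsFinitePresentation (R := Z.ringCatSheaf) (M.restrict k)] :
    FPOn M k.opensRange := by
  intro W hW hWV
  have hW' : IsAffineOpen (k ⁻¹ᵁ W) := hW.preimage_of_isOpenImmersion k hWV
  have himg : k ''ᵁ (k ⁻¹ᵁ W) = W := by
    rw [Scheme.Hom.image_preimage_eq_opensRange_inf]
    exact inf_eq_right.2 hWV
  have h1 := finitePresentation_sections (M.restrict k) hW'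
  rw [fp_restrict_iff] at h1
  exact (fp_iff_of_eq M himg).1 h1

theorem isFP_restrict_of_fpOn {Z : Scheme.{u}} (k : Z ⟶ X) [IsOpenImmersion k] (M : X.Modules)
    [(M.restrict k).IsQuasicoherent] {U : X.Opens} (h : FPOn M U) (hk : k.opensRange ≤ U) :
    SheafOfModules.IsFinitePresentation (R := Z.ringCatSheaf) (M.restrict k) := by
  refine isFinitePresentation_of_finitePresentation_sections (M.restrict k)
    (fun V : Z.affineOpens => (V : Z.Opens)) (iSup_affineOpens_eq_top Z) (fun V => V.2) (fun V => ?_)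
  rw [fp_restrict_iff]
  exact h _ (V.2.image_of_isOpenImmersion k) ((Scheme.Hom.image_le_opensRange k _).trans hk)

theorem isFP_of_fpOn_top (M : X.Modules) [M.IsQuasicoherent] (h : FPOn M ⊤) :
    SheafOfModules.IsFinitePresentation (R := X.ringCatSheaf) M :=
  isFinitePresentation_of_finitePresentation_sections M
    (fun V : X.affineOpens => (V : X.Opens)) (iSup_affineOpens_eq_top X) (fun V => V.2) (fun V => h _ V.2 le_top)

theorem FPOn.sup {M : X.Modules} [M.IsQuasicoherent] {U V : X.Opens} (hU : FPOn M U) (hV : FPOn M V) :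
    FPOn M (U ⊔ V) := by
  intro W hW hWle
  let s : Set Γ(X, W) := {f | X.basicOpen f ≤ U ∨ X.basicOpen f ≤ V}
  have hs : Ideal.span s = ⊤ := by
    rw [← hW.self_le_iSup_basicOpen_iff]
    intro x hx
    have hx' : x ∈ U ⊔ V := hWle hx
    rcases hx' with hxU | hxV
    · obtain ⟨f, hf, hxf⟩ := hW.exists_basicOpen_le (V := U) ⟨x, hxU⟩ hx
      exact Opens.mem_iSup.2 ⟨⟨f, Or.inl hf⟩, hxf⟩
    · obtain ⟨f, hf, hxf⟩ := hW.exists_basicOpen_le (V := V) ⟨x, hxV⟩ hx
      exact Opens.mem_iSup.2 ⟨⟨f, Or.inr hf⟩, hxf⟩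
  have hfp : ∀ g : s, Module.FinitePresentation Γ(X, X.basicOpen g.1) Γ(M, X.basicOpen g.1) := by
    rintro ⟨g, hg | hg⟩
    · exact hU _ (hW.basicOpen g) hg
    · exact hV _ (hW.basicOpen g) hg
  letI : ∀ g : s, Module Γ(X, W) Γ(M, X.basicOpen g.1) := fun g => moduleRes M (X.basicOpen_le g.1)
  haveI : ∀ g : s, IsScalarTower Γ(X, W) Γ(X, X.basicOpen g.1) Γ(M, X.basicOpen g.1) :=
    fun g => isScalarTower_basicOpen M g.1
  haveI : ∀ g : s, IsLocalization.Away g.1 Γ(X, X.basicOpen g.1) :=
    fun g => hW.isLocalization_basicOpen g.1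
  haveI : ∀ g : s, IsLocalizedModule (Submonoid.powers g.1) (resₗ M (X.basicOpen_le g.1)) :=
    fun g => isLocalizedModule_basicOpen M hW g.1
  exact Module.FinitePresentation.of_localizationSpan' s hs
    (Rₚ := fun g => Γ(X, X.basicOpen g.1)) (Mₚ := fun g => Γ(M, X.basicOpen g.1))
    (fun g => resₗ M (X.basicOpen_le g.1)) hfp

theorem fp_of_isIso_app {A B : X.Modules} (m : A ⟶ B) (W : X.Opens) [IsIso (m.app W)]
    [Module.FinitePresentation Γ(X, W) Γ(B, W)] : Module.FinitePresentation Γ(X, W) Γ(A, W) := by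
  have hbij : Function.Bijective (appₗ m W) := ConcreteCategory.bijective_of_isIso (m.app W)
  exact Module.FinitePresentation.of_equiv (LinearEquiv.ofBijective (appₗ m W) hbij).symm

theorem FPOn.of_isoOn {A B : X.Modules} (m : A ⟶ B) {U : X.Opens} (hm : IsoOn m U) (hB : FPOn B U) : FPOn A U := by
  intro W hW hWle
  have := hB W hW hWle
  have := hm W hWle
  exact fp_of_isIso_app m W

end FPOn


section Aff
open Groth.Agent.Lib.Helper2.FPAff Groth.Agent.Lib.Helper2.FinPushFP
variable (R : CommRingCat.{u})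

theorem adjTilde_comp (B : (Spec R).Modules) {N N' : ModuleCat.{u} R} (q : N' ⟶ N) (c : N ⟶ (ΓF R).obj B) :
    adjTilde R B (q ≫ c) = (tilde.functor R).map q ≫ adjTilde R B c :=
  (tildeΓAdj R).homEquiv_naturality_left_symm q c

theorem adjTilde_unit (K : ModuleCat.{u} R) :
    adjTilde R ((tilde.functor R).obj K) ((tildeΓAdj R).unit.app K) = 𝟙 _ := by
  unfold adjTilde
  rw [Adjunction.homEquiv_counit]
  exact (tildeΓAdj R).left_triangle_components K

end Aff

end Groth.Agent.Lib.Helper23.ExtendFP
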