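import Mathlib
import Groth.Agent.Lib.Helper23ExtendFP

/-!
# Extension of finitely presented modules from quasi-compact opens of qcqs schemes (helper23)

* `exists_fp_isIso_restrict` : `B` qcoh on `Spec R`, `B|Ω` finitely presented on a quasi-compact open `Ω` ⇒ a finitely
  presented `R`-module `P` with `P → Γ(B)` such that `P^~|Ω ≅ B|Ω`
* `fpOn_of_iso_restrict`, `exists_fpOn_sup` (one affine step), `exists_isFP_isoOn`, `exists_fp_extension`
-/

set_option autoImplicit false
set_option backward.isDefEq.respectTransparency.types false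
universe u
open CategoryTheory Limits AlgebraicGeometry TopologicalSpace Opposite

namespace Groth.Agent.Lib.Helper23.ExtendFP

open Groth.Agent.Lib.Helper23.QCohLocal Groth.Agent.Lib.Helper2.Push Groth.Agent.Lib.Helper2.QCoh
  Groth.Agent.Lib.Helper23.FinType Groth.Agent.Lib.Helper23.ModLocal Groth.Agent.Lib.Helper23.Extend

section Aff
open Groth.Agent.Lib.Helper2.FPAff Groth.Agent.Lib.Helper2.FinPushFP
variable (R : CommRingCat.{u})

/-- **Extension from a quasi-compact open of an affine scheme, finite presentation**: if `B` is quasi-coherent on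
`Spec R` and its restriction to a quasi-compact open `Ω` is of finite presentation, there is a finitely presented
`R`-module `P` with a map `P → Γ(B)` such that `P^~ ⟶ B` restricts to an isomorphism on `Ω`. -/
theorem exists_fp_isIso_restrict (B : (Spec R).Modules) [B.IsQuasicoherent] (Ω : (Spec R).Opens)
    (hΩ : IsCompact (Ω : Set (Spec R)))
    [SheafOfModules.IsFinitePresentation (R := (Ω : Scheme.{u}).ringCatSheaf) (B.restrict Ω.ι)] :
    ∃ (P : ModuleCat.{u} R) (_ : Module.FinitePresentation R P) (c : P ⟶ (ΓF R).obj B),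
      IsIso ((Scheme.Modules.restrictFunctor Ω.ι).map (adjTilde R B c)) := by
  classical
  have hFT : SheafOfModules.IsFiniteType (R := (Ω : Scheme.{u}).ringCatSheaf) (B.restrict Ω.ι) :=
    inferInstance
  obtain ⟨N, hN, c, hc, hiso⟩ := exists_finite_mono_isIso_restrict R B Ω hΩ
  obtain ⟨n, π₀, hπ₀⟩ := Module.Finite.exists_fin' R N
  let F : ModuleCat.{u} R := ModuleCat.of R (Fin n → R)
  let π : F ⟶ N := ModuleCat.ofHom π₀
  have hπepi : Epi π := (ModuleCat.epi_iff_surjective π).2 hπ₀
  let S₀ : ShortComplex (ModuleCat.{u} R) := ShortComplex.mk (kernel.ι π) π (kernel.condition π)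
  have hS₀ : S₀.ShortExact :=
    { exact := ShortComplex.exact_kernel π
      mono_f := inferInstanceAs (Mono (kernel.ι π))
      epi_g := hπepi }
  obtain ⟨hl, hr⟩ := Groth.Agent.S9498.aux R
  have hS₁ : (S₀.map (tilde.functor R)).ShortExact := hS₀.map_of_exact (tilde.functor R)
  have hisoOn : IsoOn (adjTilde R B c) Ω := by
    have h1 := (isIso_restrict_iff Ω.ι (adjTilde R B c)).1 hiso
    rwa [Scheme.Opens.opensRange_ι] at h1
  have hBΩ : FPOn B Ω := by
    have := fpOn_of_isFP_restrict Ω.ι B
    rwa [Scheme.Opens.opensRange_ι] at this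
  have hFfin : SheafOfModules.IsFiniteType (R := (Spec R).ringCatSheaf) ((tilde.functor R).obj F) :=
    (isFiniteType_tilde_iff R F).2 (inferInstanceAs (Module.Finite R (Fin n → R)))
  have hFTK : FTOn ((tilde.functor R).obj (kernel π)) Ω := by
    intro W hW hWle
    have h2 : Module.Finite Γ(Spec R, W) Γ((S₀.map (tilde.functor R)).X₂, W) :=
      finite_of_isFiniteType ((tilde.functor R).obj F) hW
    have h3 : Module.FinitePresentation Γ(Spec R, W) Γ((S₀.map (tilde.functor R)).X₃, W) := by
      have := hisoOn W hWle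
      have := hBΩ W hW hWle
      exact fp_of_isIso_app (adjTilde R B c) W
    have q1 : ((S₀.map (tilde.functor R)).X₁).IsQuasicoherent := inferInstanceAs (tilde (kernel π)).IsQuasicoherent
    have q2 : ((S₀.map (tilde.functor R)).X₂).IsQuasicoherent := inferInstanceAs (tilde F).IsQuasicoherent
    have q3 : ((S₀.map (tilde.functor R)).X₃).IsQuasicoherent := inferInstanceAs (tilde N).IsQuasicoherent
    exact finite_of_shortExact (S₀.map (tilde.functor R)) hS₁ hW
  have qK : ((tilde.functor R).obj (kernel π)).IsQuasicoherent := inferInstanceAs (tilde (kernel π)).IsQuasicoherent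
  have hKft : SheafOfModules.IsFiniteType (R := (Ω : Scheme.{u}).ringCatSheaf)
      (((tilde.functor R).obj (kernel π)).restrict Ω.ι) :=
    isFiniteType_restrict_of_ftOn Ω.ι _ hFTK (by rw [Scheme.Opens.opensRange_ι])
  obtain ⟨K', hK', c', hc', hiso'⟩ :=
    exists_finite_mono_isIso_restrict R ((tilde.functor R).obj (kernel π)) Ω hΩ
  have hunit : IsIso ((tildeΓAdj R).unit) := inferInstanceAs (IsIso (tilde.adjunction (R := R)).unit)
  have hunitK : IsIso ((tildeΓAdj R).unit.app (kernel π)) := inferInstance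
  let a' : K' ⟶ kernel π := c' ≫ inv ((tildeΓAdj R).unit.app (kernel π))
  have ha' : (tilde.functor R).map a' = adjTilde R ((tilde.functor R).obj (kernel π)) c' := by
    have h1 : c' = a' ≫ (tildeΓAdj R).unit.app (kernel π) := by
      simp [a']
    rw [h1, adjTilde_comp, adjTilde_unit]
    exact (Category.comp_id _).symm
  let g : K' ⟶ F := a' ≫ kernel.ι π
  let q : cokernel g ⟶ N := cokernel.desc g π (by rw [Category.assoc, kernel.condition, comp_zero])
  let Φ := Scheme.Modules.restrictFunctor Ω.ι
  have hq : IsIso ((tilde.functor R ⋙ Φ).map q) := by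
    have hepi : Epi ((tilde.functor R ⋙ Φ).map a') := by
      change Epi (Φ.map ((tilde.functor R).map a'))
      rw [ha']
      infer_instance
    exact isIso_map_cokernel_desc (tilde.functor R ⋙ Φ) a' (kernel.ι π) π (kernel.condition π)
      hS₀.exact.gIsCokernel
  refine ⟨cokernel g, ?_, q ≫ c, ?_⟩
  · have hfg : (LinearMap.range g.hom).FG := by
      rw [LinearMap.range_eq_map]
      exact Submodule.FG.map _ Module.Finite.fg_top
    have : Module.FinitePresentation R (↥F ⧸ LinearMap.range g.hom) := by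
      haveI : Module.Free R F := inferInstanceAs (Module.Free R (Fin n → R))
      haveI : Module.Finite R F := inferInstanceAs (Module.Finite R (Fin n → R))
      refine Module.finitePresentation_of_free_of_surjective (LinearMap.range g.hom).mkQ
        (Submodule.mkQ_surjective _) ?_
      rw [Submodule.ker_mkQ]; exact hfg
    exact Module.FinitePresentation.of_equiv (ModuleCat.cokernelIsoRangeQuotient g).toLinearEquiv.symm
  · rw [adjTilde_comp, Functor.map_comp]
    have : IsIso (Φ.map ((tilde.functor R).map q)) := hq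
    infer_instance

end Aff


section Step
open Groth.Agent.Lib.Helper2.FPAff Groth.Agent.Lib.Helper2.FinPushFP
variable {X : Scheme.{u}}

theorem fpOn_of_iso_restrict {Z : Scheme.{u}} (k : Z ⟶ X) [IsOpenImmersion k] (M : X.Modules) (G : Z.Modules)
    [G.IsQuasicoherent] [SheafOfModules.IsFinitePresentation (R := Z.ringCatSheaf) G] (e : M.restrict k ≅ G) :
    FPOn M k.opensRange := by
  intro W hW hWV
  have hW' : IsAffineOpen (k ⁻¹ᵁ W) := hW.preimage_of_isOpenImmersion k hWV
  have himg : k ''ᵁ (k ⁻¹ᵁ W) = W := by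
    rw [Scheme.Hom.image_preimage_eq_opensRange_inf]
    exact inf_eq_right.2 hWV
  have h1 : Module.FinitePresentation Γ(Z, k ⁻¹ᵁ W) Γ(G, k ⁻¹ᵁ W) := finitePresentation_sections G hW'
  have h2 : Module.FinitePresentation Γ(Z, k ⁻¹ᵁ W) Γ(M.restrict k, k ⁻¹ᵁ W) := fp_of_isIso_app e.hom _
  rw [fp_restrict_iff] at h2
  exact (fp_iff_of_eq M himg).1 h2

/-- one step of the extension: enlarge the open on which a quasi-coherent module is finitely presented by an affine
open, passing to a module mapping to it by a map which is an isomorphism over the original open. -/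
theorem exists_fpOn_sup [QuasiSeparatedSpace X] (H : X.Modules) [H.IsQuasicoherent] (U V : X.Opens)
    (hV : IsAffineOpen V) (hUV : IsCompact ((U : Set X) ∩ (V : Set X))) (hH : FPOn H U) :
    ∃ (F : X.Modules) (ψ : F ⟶ H), F.IsQuasicoherent ∧ FPOn F (U ⊔ V) ∧ IsoOn ψ U := by
  let R : CommRingCat.{u} := Γ(X, V)
  let h : Spec R ⟶ X := hV.fromSpec
  have : QuasiCompact h := quasiCompact_of_compactSpace h
  let Ω : (Spec R).Opens := h ⁻¹ᵁ U
  have hΩ : IsCompact (Ω : Set (Spec R)) := by
    rw [h.isOpenEmbedding.isInducing.isCompact_iff]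
    have : (h '' (Ω : Set (Spec R))) = (U : Set X) ∩ (V : Set X) := by
      change h '' (h ⁻¹' (U : Set X)) = _
      rw [Set.image_preimage_eq_inter_range, hV.range_fromSpec]
    rw [this]; exact hUV
  let B : (Spec R).Modules := H.restrict h
  have hBΩ : SheafOfModules.IsFinitePresentation (R := (Ω : Scheme.{u}).ringCatSheaf) (B.restrict Ω.ι) := by
    have hB : FPOn B Ω := by
      intro W hW hWle
      rw [fp_restrict_iff]
      refine hH _ (hW.image_of_isOpenImmersion h) ?_
      rintro _ ⟨y, hy, rfl⟩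
      exact hWle hy
    exact isFP_restrict_of_fpOn Ω.ι B hB (by rw [Scheme.Opens.opensRange_ι])
  obtain ⟨P, hP, c, hiso⟩ := exists_fp_isIso_restrict R B Ω hΩ
  have : ((tilde.functor R).obj P).IsQuasicoherent := inferInstanceAs (tilde P).IsQuasicoherent
  obtain ⟨F, ψ, e, hFq, -, -, hisoOn⟩ := exists_extension' h H ((tilde.functor R).obj P) (adjTilde R B c)
  have := hFq
  have hψU : IsoOn ψ U := by
    refine hisoOn U (fun W' hW' => ?_)
    have h1 := (isIso_restrict_iff Ω.ι (adjTilde R B c)).1 hiso
    rw [Scheme.Opens.opensRange_ι] at h1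
    exact h1 (h ⁻¹ᵁ W') (h.preimage_mono hW')
  refine ⟨F, ψ, hFq, FPOn.sup (FPOn.of_isoOn ψ hψU hH) ?_, hψU⟩
  have hPfp : SheafOfModules.IsFinitePresentation (R := (Spec R).ringCatSheaf) ((tilde.functor R).obj P) :=
    (isFinitePresentation_tilde_iff R P).2 hP
  have := fpOn_of_iso_restrict h F ((tilde.functor R).obj P) e
  rw [hV.opensRange_fromSpec] at this
  exact this

/-- **Extension of finitely presented modules**: on a qcqs scheme, if `H` is quasi-coherent and finitely presented
on a quasi-compact open `U`, then there is a finitely presented module `F` with a map `F ⟶ H` which is an isomorphism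
over `U`. -/
theorem exists_isFP_isoOn [CompactSpace X] [QuasiSeparatedSpace X] (H : X.Modules) [H.IsQuasicoherent]
    (U : X.Opens) (hU : IsCompact (U : Set X)) (hH : FPOn H U) :
    ∃ (F : X.Modules) (ψ : F ⟶ H), F.IsQuasicoherent ∧
      SheafOfModules.IsFinitePresentation (R := X.ringCatSheaf) F ∧ IsoOn ψ U := by
  have key : ∀ (S : X.Opens), IsCompact (S : Set X) → ∀ (H : X.Modules) [H.IsQuasicoherent], FPOn H U →
      ∃ (F : X.Modules) (ψ : F ⟶ H), F.IsQuasicoherent ∧ FPOn F (U ⊔ S) ∧ IsoOn ψ U := by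
    intro S hS
    refine compact_open_induction_on (P := fun S => ∀ (H : X.Modules) [H.IsQuasicoherent], FPOn H U →
      ∃ (F : X.Modules) (ψ : F ⟶ H), F.IsQuasicoherent ∧ FPOn F (U ⊔ S) ∧ IsoOn ψ U) S hS ?_ ?_
    · intro H _ hH
      exact ⟨H, 𝟙 H, inferInstance, by rw [sup_bot_eq]; exact hH, isoOn_id H U⟩
    · intro S hS V ih H _ hH
      obtain ⟨F₁, ψ₁, hq₁, hfp₁, hiso₁⟩ := ih H hH
      have := hq₁
      have hcpt : IsCompact (((U ⊔ S : X.Opens) : Set X)) := by
        have : ((U ⊔ S : X.Opens) : Set X) = (U : Set X) ∪ (S : Set X) := rfl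
        rw [this]; exact hU.union hS
      obtain ⟨F₂, ψ₂, hq₂, hfp₂, hiso₂⟩ := exists_fpOn_sup F₁ (U ⊔ S) V V.2
        (QuasiSeparatedSpace.inter_isCompact _ _ (U ⊔ S).isOpen hcpt V.1.isOpen V.2.isCompact) hfp₁
      refine ⟨F₂, ψ₂ ≫ ψ₁, hq₂, ?_, (hiso₂.mono le_sup_left).comp hiso₁⟩
      rw [← sup_assoc]; exact hfp₂
  obtain ⟨F, ψ, hq, hfp, hiso⟩ := key ⊤ isCompact_univ H hH
  have := hq
  refine ⟨F, ψ, hq, isFP_of_fpOn_top F ?_, hiso⟩
  rw [sup_top_eq] at hfp; exact hfp

/-- **Extension of a finitely presented module with a map to a quasi-coherent module** from a quasi-compact open of a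
qcqs scheme. -/
theorem exists_fp_extension [CompactSpace X] [QuasiSeparatedSpace X] (F : X.Modules) [F.IsQuasicoherent]
    (U : X.Opens) (hU : IsCompact (U : Set X)) (G : (U : Scheme.{u}).Modules)
    [SheafOfModules.IsFinitePresentation (R := (U : Scheme.{u}).ringCatSheaf) G] (φ : G ⟶ F.restrict U.ι) :
    ∃ (G' : X.Modules) (φ' : G' ⟶ F) (e : G'.restrict U.ι ≅ G),
      SheafOfModules.IsFinitePresentation (R := X.ringCatSheaf) G' ∧
      e.hom ≫ φ = (Scheme.Modules.restrictFunctor U.ι).map φ' := by
  have : CompactSpace (U : Scheme.{u}) := isCompact_iff_compactSpace.1 hU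
  have : QuasiCompact U.ι := quasiCompact_of_compactSpace U.ι
  have hGq : G.IsQuasicoherent := inferInstance
  obtain ⟨H, ψ₀, e₀, hHq, hcompat, -, -⟩ := exists_extension' U.ι F G φ
  have := hHq
  have hH : FPOn H U := by
    have := fpOn_of_iso_restrict U.ι H G e₀
    rw [Scheme.Opens.opensRange_ι] at this
    exact this
  obtain ⟨G', ψ, hq, hfp, hiso⟩ := exists_isFP_isoOn H U hU hH
  have : IsIso ((Scheme.Modules.restrictFunctor U.ι).map ψ) := by
    rw [isIso_restrict_iff, Scheme.Opens.opensRange_ι]; exact hiso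
  refine ⟨G', ψ ≫ ψ₀, asIso ((Scheme.Modules.restrictFunctor U.ι).map ψ) ≪≫ e₀, hfp, ?_⟩
  rw [Iso.trans_hom, Category.assoc, hcompat, asIso_hom, ← Functor.map_comp]

end Step

end Groth.Agent.Lib.Helper23.ExtendFP
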