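import Mathlib
import Groth.Agent.Lib.Helper23ExtendFP2
import Groth.Agent.Lib.Helper23FTsub
import Groth.Agent.Lib.Helper17QCPush1

/-!
# Quotients of finitely presented modules on qcqs schemes (helper23)

* `exists_fp_extension'` (extension of f.p. modules along a quasi-compact open immersion)
* `subsingleton_of_isZero`, `isFP_of_isZero`, `bijective_biprod_sections`, `isFP_biprod`
* `exists_fp_epiOn`, `exists_fp_epi` : finite type quasi-coherent modules on qcqs schemes are quotients of f.p. modules
* `isFP_cokernel` : cokernel of (finite type qcoh → f.p.) is f.p.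
* `exists_fp_epi_isoOn` : f.t. qcoh, f.p. over a qc open `U` ⇒ quotient of f.p. by a map which is iso over `U`
-/

set_option autoImplicit false
set_option backward.isDefEq.respectTransparency.types false
universe u
open CategoryTheory Limits AlgebraicGeometry TopologicalSpace Opposite

namespace Groth.Agent.Lib.Helper23.FPQuot

open Groth.Agent.Lib.Helper23.QCohLocal Groth.Agent.Lib.Helper2.Push Groth.Agent.Lib.Helper2.QCoh
  Groth.Agent.Lib.Helper23.FinType Groth.Agent.Lib.Helper23.ModLocal Groth.Agent.Lib.Helper23.Extend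
  Groth.Agent.Lib.Helper23.ExtendFP Groth.Agent.Lib.Helper2.FPAff Groth.Agent.Lib.Helper2.FinPushFP

variable {X : Scheme.{u}}

section Ext

/-- `exists_fp_extension` along an arbitrary open immersion with quasi-compact source -/
theorem exists_fp_extension' [CompactSpace X] [QuasiSeparatedSpace X] (F : X.Modules) [F.IsQuasicoherent]
    {Y : Scheme.{u}} (j : Y ⟶ X) [IsOpenImmersion j] [CompactSpace Y] (G : Y.Modules)
    [SheafOfModules.IsFinitePresentation (R := Y.ringCatSheaf) G] (φ : G ⟶ F.restrict j) :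
    ∃ (G' : X.Modules) (φ' : G' ⟶ F) (e : G'.restrict j ≅ G), G'.IsQuasicoherent ∧
      SheafOfModules.IsFinitePresentation (R := X.ringCatSheaf) G' ∧
      e.hom ≫ φ = (Scheme.Modules.restrictFunctor j).map φ' := by
  have : QuasiCompact j := quasiCompact_of_compactSpace j
  have hGq : G.IsQuasicoherent := inferInstance
  have hU : IsCompact ((j.opensRange : X.Opens) : Set X) := by
    have : ((j.opensRange : X.Opens) : Set X) = Set.range j := rfl
    rw [this]; exact isCompact_range j.continuous
  obtain ⟨H, ψ₀, e₀, hHq, hcompat, -, -⟩ := exists_extension' j F G φ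
  have := hHq
  have hH : FPOn H j.opensRange := fpOn_of_iso_restrict j H G e₀
  obtain ⟨G', ψ, hq, hfp, hiso⟩ := exists_isFP_isoOn H j.opensRange hU hH
  have : IsIso ((Scheme.Modules.restrictFunctor j).map ψ) := by
    rw [isIso_restrict_iff]; exact hiso
  refine ⟨G', ψ ≫ ψ₀, asIso ((Scheme.Modules.restrictFunctor j).map ψ) ≪≫ e₀, hq, hfp, ?_⟩
  rw [Iso.trans_hom, Category.assoc, hcompat, asIso_hom, ← Functor.map_comp]

end Ext

section Zero

theorem subsingleton_of_isZero {M : X.Modules} (hM : IsZero M) (W : X.Opens) : Subsingleton Γ(M, W) := by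
  refine ⟨fun s t => ?_⟩
  have h : 𝟙 M = 0 := hM.eq_of_src _ _
  have hs := congrArg (fun φ : M ⟶ M => Scheme.Modules.Hom.app φ W s) h
  have ht := congrArg (fun φ : M ⟶ M => Scheme.Modules.Hom.app φ W t) h
  simp only [Scheme.Modules.Hom.id_app] at hs ht
  have hs' : s = 0 := hs.trans rfl
  have ht' : t = 0 := ht.trans rfl
  rw [hs', ht']

theorem isFP_of_isZero {M : X.Modules} (hM : IsZero M) :
    M.IsQuasicoherent ∧ SheafOfModules.IsFinitePresentation (R := X.ringCatSheaf) M := by
  have hq : M.IsQuasicoherent := Groth.Agent.Lib.Helper17.QCPush.isQuasicoherent_of_isZero hM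
  refine ⟨hq, isFP_of_fpOn_top M (fun W hW _ => ?_)⟩
  have := subsingleton_of_isZero hM W
  infer_instance

end Zero


section Biprod

/-- sections of a binary biproduct -/
theorem bijective_biprod_sections (A B : X.Modules) (W : X.Opens) :
    Function.Bijective ((appₗ (biprod.fst : A ⊞ B ⟶ A) W).prod (appₗ (biprod.snd : A ⊞ B ⟶ B) W)) := by
  constructor
  · rw [injective_iff_map_eq_zero]
    intro s hs
    have h1 : (biprod.fst ≫ biprod.inl + biprod.snd ≫ biprod.inr : A ⊞ B ⟶ A ⊞ B) = 𝟙 _ := biprod.total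
    have h2 := congrArg (fun φ : (A ⊞ B : X.Modules) ⟶ (A ⊞ B : X.Modules) => φ.app W s) h1
    simp only [Scheme.Modules.Hom.add_app, Scheme.Modules.Hom.comp_app, Scheme.Modules.Hom.id_app] at h2
    have ha : (biprod.fst : A ⊞ B ⟶ A).app W s = 0 := congrArg Prod.fst hs
    have hb : (biprod.snd : A ⊞ B ⟶ B).app W s = 0 := congrArg Prod.snd hs
    have h3 : s = (biprod.inl : A ⟶ A ⊞ B).app W ((biprod.fst : A ⊞ B ⟶ A).app W s) +
        (biprod.inr : B ⟶ A ⊞ B).app W ((biprod.snd : A ⊞ B ⟶ B).app W s) := h2.symm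
    rw [h3, ha, hb, map_zero, map_zero, add_zero]
  · rintro ⟨a, b⟩
    refine ⟨(biprod.inl : A ⟶ A ⊞ B).app W a + (biprod.inr : B ⟶ A ⊞ B).app W b, ?_⟩
    have e1 : (biprod.fst : A ⊞ B ⟶ A).app W ((biprod.inl : A ⟶ A ⊞ B).app W a) = a := by
      have := congrArg (fun φ : A ⟶ A => φ.app W a) (biprod.inl_fst : (biprod.inl : A ⟶ A ⊞ B) ≫ biprod.fst = 𝟙 A)
      rw [Scheme.Modules.Hom.comp_app, Scheme.Modules.Hom.id_app] at this
      exact this
    have e2 : (biprod.fst : A ⊞ B ⟶ A).app W ((biprod.inr : B ⟶ A ⊞ B).app W b) = 0 := by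
      have := congrArg (fun φ : B ⟶ A => φ.app W b) (biprod.inr_fst : (biprod.inr : B ⟶ A ⊞ B) ≫ biprod.fst = 0)
      rw [Scheme.Modules.Hom.comp_app] at this
      exact this
    have e3 : (biprod.snd : A ⊞ B ⟶ B).app W ((biprod.inl : A ⟶ A ⊞ B).app W a) = 0 := by
      have := congrArg (fun φ : A ⟶ B => φ.app W a) (biprod.inl_snd : (biprod.inl : A ⟶ A ⊞ B) ≫ biprod.snd = 0)
      rw [Scheme.Modules.Hom.comp_app] at this
      exact this
    have e4 : (biprod.snd : A ⊞ B ⟶ B).app W ((biprod.inr : B ⟶ A ⊞ B).app W b) = b := by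
      have := congrArg (fun φ : B ⟶ B => φ.app W b) (biprod.inr_snd : (biprod.inr : B ⟶ A ⊞ B) ≫ biprod.snd = 𝟙 B)
      rw [Scheme.Modules.Hom.comp_app, Scheme.Modules.Hom.id_app] at this
      exact this
    ext
    · change (biprod.fst : A ⊞ B ⟶ A).app W _ = a
      rw [map_add, e1, e2, add_zero]
    · change (biprod.snd : A ⊞ B ⟶ B).app W _ = b
      rw [map_add, e3, e4, zero_add]

/-- a binary direct sum of finitely presented quasi-coherent modules is finitely presented -/
theorem isFP_biprod (A B : X.Modules) [A.IsQuasicoherent] [B.IsQuasicoherent]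
    [SheafOfModules.IsFinitePresentation (R := X.ringCatSheaf) A]
    [SheafOfModules.IsFinitePresentation (R := X.ringCatSheaf) B] :
    (A ⊞ B : X.Modules).IsQuasicoherent ∧
      SheafOfModules.IsFinitePresentation (R := X.ringCatSheaf) (A ⊞ B : X.Modules) := by
  have hq : (A ⊞ B : X.Modules).IsQuasicoherent := isQuasicoherent_biprod A B
  refine ⟨hq, isFP_of_fpOn_top _ (fun W hW _ => ?_)⟩
  have : Module.FinitePresentation Γ(X, W) Γ(A, W) := finitePresentation_sections A hW
  have : Module.FinitePresentation Γ(X, W) Γ(B, W) := finitePresentation_sections B hW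
  exact Module.FinitePresentation.of_equiv (LinearEquiv.ofBijective _ (bijective_biprod_sections A B W)).symm

end Biprod


section EpiOn
open ZeroObject

theorem exists_fin_epi (R : CommRingCat.{u}) (M : ModuleCat.{u} R) [Module.Finite R M] :
    ∃ (m : ℕ) (c : ModuleCat.of R (Fin m → R) ⟶ M), Epi c := by
  obtain ⟨m, π₀, hπ₀⟩ := Module.Finite.exists_fin' R M
  exact ⟨m, ModuleCat.ofHom π₀, (ModuleCat.epi_iff_surjective _).2 hπ₀⟩

/-- on a qcqs scheme, a finite type quasi-coherent module receives, for every affine open `V`, a map from a finitely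
presented module which is an epimorphism over `V` -/
theorem exists_fp_epiOn [CompactSpace X] [QuasiSeparatedSpace X] (F : X.Modules) [F.IsQuasicoherent]
    [SheafOfModules.IsFiniteType (R := X.ringCatSheaf) F] {V : X.Opens} (hV : IsAffineOpen V) :
    ∃ (G' : X.Modules) (φ' : G' ⟶ F), G'.IsQuasicoherent ∧
      SheafOfModules.IsFinitePresentation (R := X.ringCatSheaf) G' ∧
      Epi ((Scheme.Modules.restrictFunctor hV.fromSpec).map φ') := by
  let R : CommRingCat.{u} := Γ(X, V)
  let h : Spec R ⟶ X := hV.fromSpec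
  let N : (Spec R).Modules := F.restrict h
  have hNq : N.IsQuasicoherent := inferInstance
  have hNft : SheafOfModules.IsFiniteType (R := (Spec R).ringCatSheaf) N := isFiniteType_restrict h F
  have hfin : Module.Finite R ((ΓF R).obj N) :=
    (finite_Γtop_iff R N).1 (finite_of_isFiniteType N (isAffineOpen_top _))
  obtain ⟨m, c, hc⟩ := exists_fin_epi R ((ΓF R).obj N)
  let P : ModuleCat.{u} R := ModuleCat.of R (Fin m → R)
  have hφ : Epi (adjTilde R N c) := by
    have h1 : adjTilde R N c = (tilde.functor R).map c ≫ (tildeΓAdj R).counit.app N :=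
      Adjunction.homEquiv_counit (tildeΓAdj R) P N c
    have : IsIso ((tildeΓAdj R).counit.app N) := isIso_fromTildeΓ N
    have : Epi ((tilde.functor R).map c) := inferInstance
    rw [h1]; exact epi_comp _ _
  have hPfp : SheafOfModules.IsFinitePresentation (R := (Spec R).ringCatSheaf) ((tilde.functor R).obj P) :=
    (isFinitePresentation_tilde_iff R P).2 (inferInstanceAs (Module.FinitePresentation R (Fin m → R)))
  obtain ⟨G', φ', e, hq, hfp, hcompat⟩ := exists_fp_extension' F h ((tilde.functor R).obj P) (adjTilde R N c)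
  refine ⟨G', φ', hq, hfp, ?_⟩
  rw [← hcompat]; exact epi_comp _ _

/-- on a qcqs scheme, every finite type quasi-coherent module is a quotient of a finitely presented module -/
theorem exists_fp_epi [CompactSpace X] [QuasiSeparatedSpace X] (F : X.Modules) [F.IsQuasicoherent]
    [SheafOfModules.IsFiniteType (R := X.ringCatSheaf) F] :
    ∃ (G : X.Modules) (ψ : G ⟶ F), G.IsQuasicoherent ∧
      SheafOfModules.IsFinitePresentation (R := X.ringCatSheaf) G ∧ Epi ψ := by
  have key : ∀ l : List X.affineOpens, ∃ (G : X.Modules) (ψ : G ⟶ F), G.IsQuasicoherent ∧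
      SheafOfModules.IsFinitePresentation (R := X.ringCatSheaf) G ∧
      ∀ V ∈ l, Epi ((Scheme.Modules.restrictFunctor V.2.fromSpec).map ψ) := by
    intro l
    induction l with
    | nil =>
      have hz : IsZero (0 : X.Modules) := isZero_zero _
      exact ⟨0, 0, (isFP_of_isZero hz).1, (isFP_of_isZero hz).2, fun V hV => absurd hV (List.not_mem_nil)⟩
    | cons V l ih =>
      obtain ⟨G₁, ψ₁, hq₁, hfp₁, h₁⟩ := ih
      obtain ⟨G', φ', hq', hfp', h'⟩ := exists_fp_epiOn F V.2
      have := hq₁
      have := hq'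
      have := hfp₁
      have := hfp'
      refine ⟨G₁ ⊞ G', biprod.desc ψ₁ φ', (isFP_biprod G₁ G').1, (isFP_biprod G₁ G').2, ?_⟩
      intro V' hV'
      rcases List.mem_cons.1 hV' with rfl | hV'
      · have e : (Scheme.Modules.restrictFunctor V'.2.fromSpec).map (biprod.inr : G' ⟶ G₁ ⊞ G') ≫
            (Scheme.Modules.restrictFunctor V'.2.fromSpec).map (biprod.desc ψ₁ φ') =
            (Scheme.Modules.restrictFunctor V'.2.fromSpec).map φ' := by
          rw [← Functor.map_comp, biprod.inr_desc]
        have : Epi ((Scheme.Modules.restrictFunctor V'.2.fromSpec).map (biprod.inr : G' ⟶ G₁ ⊞ G') ≫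
            (Scheme.Modules.restrictFunctor V'.2.fromSpec).map (biprod.desc ψ₁ φ')) := by
          rw [e]; exact h'
        exact epi_of_epi ((Scheme.Modules.restrictFunctor V'.2.fromSpec).map (biprod.inr : G' ⟶ G₁ ⊞ G')) _
      · have e : (Scheme.Modules.restrictFunctor V'.2.fromSpec).map (biprod.inl : G₁ ⟶ G₁ ⊞ G') ≫
            (Scheme.Modules.restrictFunctor V'.2.fromSpec).map (biprod.desc ψ₁ φ') =
            (Scheme.Modules.restrictFunctor V'.2.fromSpec).map ψ₁ := by
          rw [← Functor.map_comp, biprod.inl_desc]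
        have : Epi ((Scheme.Modules.restrictFunctor V'.2.fromSpec).map (biprod.inl : G₁ ⟶ G₁ ⊞ G') ≫
            (Scheme.Modules.restrictFunctor V'.2.fromSpec).map (biprod.desc ψ₁ φ')) := by
          rw [e]; exact h₁ V' hV'
        exact epi_of_epi ((Scheme.Modules.restrictFunctor V'.2.fromSpec).map (biprod.inl : G₁ ⟶ G₁ ⊞ G')) _
  obtain ⟨s, hs⟩ := IsOpenCover.exists_finite_of_compactSpace (u := fun U : X.affineOpens => (U : X.Opens))
    (iSup_affineOpens_eq_top X)
  obtain ⟨G, ψ, hq, hfp, h⟩ := key s.toList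
  refine ⟨G, ψ, hq, hfp, ?_⟩
  refine epi_of_epi_restrict ψ (fun k : s => Spec Γ(X, (k.1 : X.Opens))) (fun k => k.1.2.fromSpec)
    (exists_fromSpec_eq (fun k : s => (k.1 : X.Opens)) hs (fun k => k.1.2)) (fun k => ?_)
  exact h k.1 (Finset.mem_toList.2 k.2)

end EpiOn


section Coker

/-- the cokernel of a map from a finite type quasi-coherent module to a finitely presented one is finitely presented -/
theorem isFP_cokernel {K' G₀ : X.Modules} (g : K' ⟶ G₀) [K'.IsQuasicoherent] [G₀.IsQuasicoherent]
    [SheafOfModules.IsFiniteType (R := X.ringCatSheaf) K']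
    [SheafOfModules.IsFinitePresentation (R := X.ringCatSheaf) G₀] :
    (cokernel g).IsQuasicoherent ∧ SheafOfModules.IsFinitePresentation (R := X.ringCatSheaf) (cokernel g) := by
  have hCq : (cokernel g).IsQuasicoherent := isQuasicoherent_cokernel g
  refine ⟨hCq, isFP_of_fpOn_top (cokernel g) (fun W hW _ => ?_)⟩
  let I : X.Modules := kernel (cokernel.π g)
  have hIq : I.IsQuasicoherent := isQuasicoherent_kernel (cokernel.π g)
  let q : K' ⟶ I := Abelian.factorThruImage g
  have hq : Epi q := inferInstanceAs (Epi (Abelian.factorThruImage g))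
  have hIf : SheafOfModules.IsFiniteType (R := X.ringCatSheaf) I := isFiniteType_of_epi q
  have : Module.Finite Γ(X, W) Γ(I, W) := finite_of_isFiniteType I hW
  have : Module.FinitePresentation Γ(X, W) Γ(G₀, W) := finitePresentation_sections G₀ hW
  let S : ShortComplex X.Modules :=
    ShortComplex.mk (kernel.ι (cokernel.π g)) (cokernel.π g) (kernel.condition _)
  have hS : S.Exact := ShortComplex.exact_kernel (cokernel.π g)
  have hmono : Mono S.f := inferInstanceAs (Mono (kernel.ι (cokernel.π g)))
  have hsurj : Function.Surjective (appₗ (cokernel.π g) W) := surjective_app_of_epi (cokernel.π g) hW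
  refine Module.finitePresentation_of_surjective (appₗ (cokernel.π g) W) hsurj ?_
  have hker : LinearMap.ker (appₗ (cokernel.π g) W) = LinearMap.range (appₗ (kernel.ι (cokernel.π g)) W) := by
    ext s
    constructor
    · intro hs
      exact exists_of_app_eq_zero S hS W s hs
    · rintro ⟨t, rfl⟩
      rw [LinearMap.mem_ker, appₗ_apply, appₗ_apply]
      have h0 : kernel.ι (cokernel.π g) ≫ cokernel.π g = 0 := kernel.condition _
      have := congrArg (fun φ => Scheme.Modules.Hom.app φ W t) h0
      rw [Scheme.Modules.Hom.comp_app] at this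
      exact this
  rw [hker, LinearMap.range_eq_map]
  exact Submodule.FG.map _ Module.Finite.fg_top

end Coker


section Quot

/-- **Stacks 01PK-type**: on a qcqs scheme, a finite type quasi-coherent module which is finitely presented over a
quasi-compact open `U` is the quotient of a finitely presented module by a map which is an isomorphism over `U`. -/
theorem exists_fp_epi_isoOn [CompactSpace X] [QuasiSeparatedSpace X] (F : X.Modules) [F.IsQuasicoherent]
    [SheafOfModules.IsFiniteType (R := X.ringCatSheaf) F] (U : X.Opens) (hU : IsCompact (U : Set X))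
    (hFU : FPOn F U) :
    ∃ (G : X.Modules) (φ : G ⟶ F), G.IsQuasicoherent ∧
      SheafOfModules.IsFinitePresentation (R := X.ringCatSheaf) G ∧ Epi φ ∧ IsoOn φ U := by
  obtain ⟨G₀, ψ₀, hq₀, hfp₀, hepi⟩ := exists_fp_epi F
  have := hq₀
  have := hfp₀
  have := hepi
  have hKq : (kernel ψ₀).IsQuasicoherent := isQuasicoherent_kernel ψ₀
  let S : ShortComplex X.Modules := ShortComplex.mk (kernel.ι ψ₀) ψ₀ (kernel.condition ψ₀)
  have hS : S.ShortExact :=
    { exact := ShortComplex.exact_kernel ψ₀
      mono_f := inferInstanceAs (Mono (kernel.ι ψ₀))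
      epi_g := hepi }
  have hK : FTOn (kernel ψ₀) U := by
    intro W hW hle
    have h2 : Module.FinitePresentation Γ(X, W) Γ(S.X₂, W) := finitePresentation_sections G₀ hW
    have h2' : Module.Finite Γ(X, W) Γ(S.X₂, W) := inferInstance
    have h3 : Module.FinitePresentation Γ(X, W) Γ(S.X₃, W) := hFU W hW hle
    have q1 : S.X₁.IsQuasicoherent := hKq
    have q2 : S.X₂.IsQuasicoherent := hq₀
    have q3 : S.X₃.IsQuasicoherent := inferInstanceAs F.IsQuasicoherent
    exact finite_of_shortExact S hS hW
  obtain ⟨K', a', hm, hq', hft', hiso'⟩ := exists_sub_isFiniteType (kernel ψ₀) U hU hK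
  have := hq'
  have := hft'
  let g : K' ⟶ G₀ := a' ≫ kernel.ι ψ₀
  let φ : cokernel g ⟶ F := cokernel.desc g ψ₀ (by rw [Category.assoc, kernel.condition, comp_zero])
  have hφ : cokernel.π g ≫ φ = ψ₀ := cokernel.π_desc _ _ _
  refine ⟨cokernel g, φ, (isFP_cokernel g).1, (isFP_cokernel g).2, epi_of_epi_fac hφ, ?_⟩
  rw [← Scheme.Opens.opensRange_ι U, ← isIso_restrict_iff]
  have hepi' : Epi ((Scheme.Modules.restrictFunctor U.ι).map a') := by
    have : IsIso ((Scheme.Modules.restrictFunctor U.ι).map a') := by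
      rw [isIso_restrict_iff, Scheme.Opens.opensRange_ι]; exact hiso'
    infer_instance
  have hepiS : Epi S.g := hepi
  exact isIso_map_cokernel_desc (Scheme.Modules.restrictFunctor U.ι) a' (kernel.ι ψ₀) ψ₀ (kernel.condition ψ₀)
    hS.exact.gIsCokernel

end Quot

end Groth.Agent.Lib.Helper23.FPQuot
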