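import Mathlib
import Groth.Agent.Lib.Helper2QCoh
import Groth.Agent.Lib.Helper2QcPush
import Groth.Agent.Lib.Helper2ModExact
import Groth.Agent.Lib.Helper4NormDelta
import Groth.Agent.Lib.Helper23FinTypeLocal
import Groth.Agent.Lib.Helper23FPQuot
import Groth.Agent.Lib.Helper23QCohLocal
import Groth.Agent.Lib.Helper18Strict6

/-!
# Injectivity of stalk maps of quasi-coherent modules in terms of sections over an affine open (helper26)

Namespace `Groth.Agent.Lib.Helper26.StalkInj`.

* `stalkHom_injective_of_kill`: if `h ∈ Γ(X, U)` kills the kernel of `u(U)` then `u_x` is injective for `x ∈ D(h)`.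
* `exists_kill_of_stalkHom_injective`: conversely finitely many elements of the kernel are killed near `x`.
* `app_injective_of_forall_stalkHom_injective`.
* `exact_app_cokernel`: exactness of `F' → F → Coker u → 0` on sections over an affine open.
-/

set_option autoImplicit false
set_option linter.style.haveILetI false
universe u
open CategoryTheory AlgebraicGeometry Limits
open Groth.Agent.Lib.Helper2 Groth.Agent.Lib.Helper2.ModExact Groth.Agent.Lib.Helper4.NormDelta

namespace Groth.Agent.Lib.Helper26.StalkInj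

variable {X : Scheme.{u}}

/-- if `h` kills the kernel of `u(U)`, the stalk maps of `u` are injective on `D(h)`. -/
theorem stalkHom_injective_of_kill {F' F : X.Modules} [F'.IsQuasicoherent] [F.IsQuasicoherent]
    (u : F' ⟶ F) {U : X.Opens} (hU : IsAffineOpen U) (h : Γ(X, U))
    (hh : ∀ l : Γ(F', U), Scheme.Modules.Hom.app u U l = 0 → h • l = 0) (x : X)
    (hx : x ∈ X.basicOpen h) : Function.Injective (stalkHom u x) := by
  have hxU : x ∈ U := X.basicOpen_le h hx
  rw [injective_iff_map_eq_zero]
  intro ξ hξ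
  obtain ⟨s₁, m', hs₁, hm'⟩ := QCoh.exists_smul_eq_germ hU F' x hxU ξ
  have h1 : F.presheaf.germ U x hxU (Scheme.Modules.Hom.app u U m') = 0 := by
    rw [← stalkHom_germ, ← hm', stalkHom_smul, hξ, smul_zero]
  obtain ⟨t₁, ht₁, ht₁m⟩ := QCoh.exists_smul_eq_zero_of_germ_eq_zero hU F x hxU _ h1
  have h2 : Scheme.Modules.Hom.app u U (t₁ • m') = 0 := by
    rw [ModExact.app_smul, ht₁m]
  have h3 : h • (t₁ • m') = 0 := hh _ h2
  have h4 : X.presheaf.germ U x hxU (h * t₁ * s₁) • ξ = 0 := by
    rw [map_mul, mul_smul, hm', ← QCoh.germ_smul, mul_smul, h3, map_zero]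
  have hunit : IsUnit (X.presheaf.germ U x hxU (h * t₁ * s₁)) := by
    rw [← Scheme.mem_basicOpen, Scheme.basicOpen_mul, Scheme.basicOpen_mul]
    exact ⟨⟨hx, ht₁⟩, hs₁⟩
  exact QCoh.germ_smul_eq_zero_of_isUnit hunit h4

/-- finitely many elements of the kernel of `u(U)` are killed near a point where `u_x` is injective. -/
theorem exists_kill_of_stalkHom_injective {F' F : X.Modules} [F'.IsQuasicoherent]
    (u : F' ⟶ F) {U : X.Opens} (hU : IsAffineOpen U) (x : X) (hxU : x ∈ U)
    (hinj : Function.Injective (stalkHom u x)) (s : Finset Γ(F', U))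
    (hs : ∀ l ∈ s, Scheme.Modules.Hom.app u U l = 0) :
    ∃ h : Γ(X, U), x ∈ X.basicOpen h ∧ ∀ l ∈ s, h • l = 0 := by
  classical
  have hkill : ∀ l : Γ(F', U), l ∈ s → ∃ t : Γ(X, U), x ∈ X.basicOpen t ∧ t • l = 0 := by
    intro l hl
    have hg : F'.presheaf.germ U x hxU l = 0 := by
      refine (injective_iff_map_eq_zero _).1 hinj _ ?_
      rw [stalkHom_germ, hs l hl, map_zero]
    exact QCoh.exists_smul_eq_zero_of_germ_eq_zero hU F' x hxU l hg
  choose! t ht1 ht2 using hkill
  refine ⟨∏ l ∈ s, t l, ?_, fun l hl => ?_⟩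
  · have : ∀ s' : Finset Γ(F', U), s' ⊆ s → x ∈ X.basicOpen (∏ l ∈ s', t l) := by
      intro s'
      induction s' using Finset.induction_on with
      | empty =>
        intro _
        rw [Finset.prod_empty, Scheme.basicOpen_of_isUnit _ isUnit_one]
        exact hxU
      | insert a s' ha ih =>
        intro hsub
        rw [Finset.prod_insert ha, Scheme.basicOpen_mul]
        exact ⟨ht1 a (hsub (Finset.mem_insert_self a s')),
          ih (fun b hb => hsub (Finset.mem_insert_of_mem hb))⟩
    exact this s (Finset.Subset.refl s)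
  · have : (∏ l' ∈ s, t l') = (∏ l' ∈ s.erase l, t l') * t l := by
      rw [Finset.prod_erase_mul s t hl]
    rw [this, mul_smul, ht2 l hl, smul_zero]

/-- stalkwise injectivity on an open implies injectivity on sections. -/
theorem app_injective_of_forall_stalkHom_injective {F' F : X.Modules} (u : F' ⟶ F) (U : X.Opens)
    (h : ∀ z : X, z ∈ U → Function.Injective (stalkHom u z)) :
    Function.Injective (Scheme.Modules.Hom.app u U) := by
  rw [injective_iff_map_eq_zero]
  intro l hl
  refine QcPush.section_eq_zero_of_germ F' U l fun z hz => ?_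
  refine (injective_iff_map_eq_zero _).1 (h z hz) _ ?_
  rw [stalkHom_germ, hl, map_zero]

/-- exactness of `F' → F → Coker u → 0` on sections over an affine open. -/
theorem exact_app_cokernel {F' F : X.Modules} [F'.IsQuasicoherent] [F.IsQuasicoherent]
    (hF : SheafOfModules.IsFinitePresentation (R := X.ringCatSheaf) F)
    (hF' : SheafOfModules.IsFinitePresentation (R := X.ringCatSheaf) F') (u : F' ⟶ F)
    {U : X.Opens} (hU : IsAffineOpen U) :
    Function.Surjective (Scheme.Modules.Hom.app (cokernel.π u) U) ∧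
      ∀ y : Γ(F, U), Scheme.Modules.Hom.app (cokernel.π u) U y = 0 ↔
        ∃ m : Γ(F', U), Scheme.Modules.Hom.app u U m = y := by
  haveI := hF
  haveI := hF'
  haveI : SheafOfModules.IsFiniteType (R := X.ringCatSheaf) F' :=
    Groth.Agent.Helper18Strict.isFT_of_isFP F' hF'
  obtain ⟨hCq, hCfp⟩ := Groth.Agent.Lib.Helper23.FPQuot.isFP_cokernel u
  haveI hCq' : (cokernel u).IsQuasicoherent := hCq
  let π : F ⟶ cokernel u := cokernel.π u
  let I : X.Modules := kernel π
  haveI hIq : I.IsQuasicoherent := Groth.Agent.Lib.Helper23.QCohLocal.isQuasicoherent_kernel π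
  let q : F' ⟶ I := Abelian.factorThruImage u
  haveI hq : Epi q := inferInstanceAs (Epi (Abelian.factorThruImage u))
  let ι : I ⟶ F := kernel.ι π
  have hqι : q ≫ ι = u := Abelian.image.fac u
  have hπU : Function.Surjective (Scheme.Modules.Hom.app π U) :=
    Groth.Agent.Lib.Helper23.FinType.surjective_app_of_epi π hU
  have hqU : Function.Surjective (Scheme.Modules.Hom.app q U) :=
    Groth.Agent.Lib.Helper23.FinType.surjective_app_of_epi q hU
  let T : ShortComplex X.Modules := ShortComplex.mk (kernel.ι π) π (kernel.condition π)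
  have hT : T.ShortExact :=
    { exact := ShortComplex.exact_kernel π
      mono_f := inferInstanceAs (Mono (kernel.ι π))
      epi_g := inferInstanceAs (Epi π) }
  have huq : ∀ m : Γ(F', U), Scheme.Modules.Hom.app u U m =
      Scheme.Modules.Hom.app ι U (Scheme.Modules.Hom.app q U m) := by
    intro m
    rw [← hqι]
    rfl
  refine ⟨hπU, fun y => ⟨fun hy => ?_, ?_⟩⟩
  · obtain ⟨t, ht⟩ := ModExact.exists_app_eq_of_shortExact T hT U y hy
    obtain ⟨m, rfl⟩ := hqU t
    exact ⟨m, (huq m).trans ht⟩
  · rintro ⟨m, rfl⟩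
    have h0 : u ≫ π = 0 := cokernel.condition u
    have h1 : Scheme.Modules.Hom.app (u ≫ π) U m = 0 := by
      rw [h0]; rfl
    exact h1

end Groth.Agent.Lib.Helper26.StalkInj
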