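import Mathlib
import Groth.Agent.Lib.Helper3FlatModelMod

/-!
Kernel of a surjection of finitely presented modules onto a module which is flat over a base ring
(over which the algebra is finitely presented) is finitely presented (EGA IV 11.3.9.1-type).
-/

universe u
open TensorProduct

namespace Groth.Agent.Lib.Helper26.FPKer

section Schanuel

variable {S : Type*} [CommRing S] {F N M : Type*} [AddCommGroup F] [AddCommGroup N]
  [AddCommGroup M] [Module S F] [Module S N] [Module S M]

/-- Schanuel-type: if one surjection from a f.g. projective module onto `M` has f.p. kernel, then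
every surjection from a f.p. module onto `M` has f.p. kernel. -/
theorem finitePresentation_ker_of_ker (π : F →ₗ[S] M) (hπ : Function.Surjective π)
    [Module.Projective S F]
    [Module.FinitePresentation S (LinearMap.ker π)] [Module.FinitePresentation S N]
    (p : N →ₗ[S] M) (hp : Function.Surjective p) :
    Module.FinitePresentation S (LinearMap.ker p) := by
  classical
  let D : F × N →ₗ[S] M := π.coprod (-p)
  have hD : ∀ x y, D (x, y) = π x - p y := fun x y => by
    simp [D, LinearMap.coprod_apply, sub_eq_add_neg]
  let l : LinearMap.ker D →ₗ[S] N := (LinearMap.snd S F N) ∘ₗ (LinearMap.ker D).subtype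
  have hl : Function.Surjective l := by
    intro y
    obtain ⟨x, hx⟩ := hπ (p y)
    exact ⟨⟨(x, y), by rw [LinearMap.mem_ker, hD, hx, sub_self]⟩, rfl⟩
  let e₀ : LinearMap.ker π →ₗ[S] LinearMap.ker D :=
    LinearMap.codRestrict (LinearMap.ker D) (LinearMap.inl S F N ∘ₗ (LinearMap.ker π).subtype)
      (fun x => by
        rw [LinearMap.mem_ker]
        change D ((x : F), 0) = 0
        rw [hD, map_zero, sub_zero]
        exact x.2)
  let e : LinearMap.ker π →ₗ[S] LinearMap.ker l :=
    LinearMap.codRestrict (LinearMap.ker l) e₀ (fun x => by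
      rw [LinearMap.mem_ker]
      rfl)
  have he_inj : Function.Injective e := by
    intro x y hxy
    have h1 : ((e x : LinearMap.ker D) : F × N) = ((e y : LinearMap.ker D) : F × N) := by
      rw [hxy]
    have h2 : ((x : F), (0 : N)) = ((y : F), (0 : N)) := h1
    exact Subtype.ext (congrArg Prod.fst h2)
  have he_surj : Function.Surjective e := by
    rintro ⟨⟨⟨x, y⟩, hxy⟩, hz⟩
    have hy : y = 0 := hz
    subst hy
    have hx : π x = 0 := by
      have := hxy
      rw [LinearMap.mem_ker, hD, map_zero, sub_zero] at this
      exact this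
    exact ⟨⟨x, hx⟩, rfl⟩
  have : Module.FinitePresentation S (LinearMap.ker l) := by
    exact Module.FinitePresentation.of_equiv (R := S) (M := LinearMap.ker π) (N := LinearMap.ker l)
      (LinearEquiv.ofBijective e ⟨he_inj, he_surj⟩)
  have : Module.FinitePresentation S (LinearMap.ker D) := Module.finitePresentation_of_ker l hl
  let g : LinearMap.ker D →ₗ[S] F := (LinearMap.fst S F N) ∘ₗ (LinearMap.ker D).subtype
  have hg : Function.Surjective g := by
    intro x
    obtain ⟨y, hy⟩ := hp (π x)
    exact ⟨⟨(x, y), by rw [LinearMap.mem_ker, hD, hy, sub_self]⟩, rfl⟩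
  let f : LinearMap.ker p →ₗ[S] LinearMap.ker D :=
    LinearMap.codRestrict (LinearMap.ker D) (LinearMap.inr S F N ∘ₗ (LinearMap.ker p).subtype)
      (fun y => by
        rw [LinearMap.mem_ker]
        change D (0, (y : N)) = 0
        rw [hD, map_zero, zero_sub, neg_eq_zero]
        exact y.2)
  have hf : Function.Injective f := by
    intro x y hxy
    have h1 : ((f x : LinearMap.ker D) : F × N) = ((f y : LinearMap.ker D) : F × N) := by
      rw [hxy]
    have h2 : ((0 : F), (x : N)) = ((0 : F), (y : N)) := h1
    exact Subtype.ext (congrArg Prod.snd h2)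
  have H : Function.Exact f g := by
    rintro ⟨⟨x, y⟩, hxy⟩
    constructor
    · intro hz
      have hx : x = 0 := hz
      subst hx
      have hy : p y = 0 := by
        have := hxy
        rw [LinearMap.mem_ker, hD, map_zero, zero_sub, neg_eq_zero] at this
        exact this
      exact ⟨⟨y, hy⟩, rfl⟩
    · rintro ⟨t, ht⟩
      have h1 : ((f t : LinearMap.ker D) : F × N) = (x, y) := by rw [ht]
      have h2 : ((0 : F), (t : N)) = (x, y) := h1
      exact (congrArg Prod.fst h2).symm
  exact Module.finitePresentation_of_projective_of_exact f g hf hg H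

end Schanuel

section BaseChangeInj

variable (R₀ R S₀ S : Type*) [CommRing R₀] [CommRing R] [CommRing S₀] [CommRing S]
  [Algebra R₀ R] [Algebra R₀ S₀] [Algebra R₀ S] [Algebra S₀ S] [Algebra R S]
  [IsScalarTower R₀ S₀ S] [IsScalarTower R₀ R S] [Algebra.IsPushout R₀ R S₀ S]

variable {X X' : Type*} [AddCommGroup X] [AddCommGroup X'] [Module R₀ X] [Module S₀ X]
  [IsScalarTower R₀ S₀ X] [Module R₀ X'] [Module S₀ X'] [IsScalarTower R₀ S₀ X']

theorem lTensor_cancelBaseChange_symm (g : X →ₗ[S₀] X') (z : R ⊗[R₀] X) :
    g.lTensor S ((Algebra.IsPushout.cancelBaseChange R₀ R S₀ S X).symm z) =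
      (Algebra.IsPushout.cancelBaseChange R₀ R S₀ S X').symm
        ((g.restrictScalars R₀).lTensor R z) := by
  induction z with
  | zero => simp
  | add x y hx hy => simp only [map_add, hx, hy]
  | tmul r x =>
    rw [Algebra.IsPushout.cancelBaseChange_symm_tmul, LinearMap.lTensor_tmul,
      LinearMap.lTensor_tmul, Algebra.IsPushout.cancelBaseChange_symm_tmul]
    rfl

/-- if `R ⊗[R₀] g` is injective then so is `S ⊗[S₀] g`, for `S = R ⊗[R₀] S₀`. -/
theorem lTensor_injective_of_isPushout (g : X →ₗ[S₀] X')
    (h : Function.Injective ((g.restrictScalars R₀).lTensor R)) :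
    Function.Injective (g.lTensor S) := by
  intro a b hab
  obtain ⟨a', rfl⟩ := (Algebra.IsPushout.cancelBaseChange R₀ R S₀ S X).symm.surjective a
  obtain ⟨b', rfl⟩ := (Algebra.IsPushout.cancelBaseChange R₀ R S₀ S X).symm.surjective b
  rw [lTensor_cancelBaseChange_symm, lTensor_cancelBaseChange_symm] at hab
  have := h ((Algebra.IsPushout.cancelBaseChange R₀ R S₀ S X').symm.injective hab)
  rw [this]

end BaseChangeInj

section Model

open Groth.Agent.Lib.Helper3.FlatModelMod

/-- `M` f.p. over `S` (f.p. over `R`), flat over `R`: some surjection from a finite free module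
onto `M` has finitely presented kernel. -/
theorem exists_surjective_fp_ker (R S : Type u) [CommRing R] [CommRing S] [Algebra R S]
    [Algebra.FinitePresentation R S]
    (M : Type u) [AddCommGroup M] [Module S M] [Module R M] [IsScalarTower R S M]
    [Module.FinitePresentation S M] [Module.Flat R M] :
    ∃ (F : Type u) (_ : AddCommGroup F) (_ : Module S F) (_ : Module.Projective S F)
      (π : F →ₗ[S] M), Function.Surjective π ∧ Module.FinitePresentation S (LinearMap.ker π) := by
  obtain ⟨R₀, _, _, S₀, _, _, _, _, _, _, M₀, _, _, _, _, _, _, f, hR₀, hS₀, hM₀fin, hM₀flat,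
    hpush, hbc⟩ := exists_flat_module_model R S M
  have : Algebra.FiniteType ℤ S₀ := Algebra.FiniteType.trans (S := R₀) hR₀ hS₀
  have : IsNoetherianRing S₀ := Algebra.FiniteType.isNoetherianRing ℤ S₀
  obtain ⟨n, q₀, hq₀⟩ := Module.Finite.exists_fin' S₀ M₀
  let K₀ : Submodule S₀ (Fin n → S₀) := LinearMap.ker q₀
  have : Module.FinitePresentation S₀ K₀ := Module.finitePresentation_of_finite S₀ K₀
  have hex : Function.Exact K₀.subtype q₀ := LinearMap.exact_subtype_ker_map q₀
  have hinj₀ : Function.Injective ((K₀.subtype.restrictScalars R₀).lTensor R) :=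
    LinearMap.lTensor_injective_of_exact_of_flat (q₀.restrictScalars R₀) hq₀
      (K₀.subtype.restrictScalars R₀) K₀.injective_subtype hex R
  have hinj : Function.Injective (K₀.subtype.lTensor S) :=
    lTensor_injective_of_isPushout R₀ R S₀ S K₀.subtype hinj₀
  have hinj' : Function.Injective (K₀.subtype.baseChange S) := by
    rw [LinearMap.baseChange_eq_ltensor]; exact hinj
  have hexS : Function.Exact (K₀.subtype.baseChange S) (q₀.baseChange S) :=
    lTensor_exact S hex hq₀
  have hsurjS : Function.Surjective (q₀.baseChange S) := LinearMap.lTensor_surjective S hq₀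
  let π : S ⊗[S₀] (Fin n → S₀) →ₗ[S] M := hbc.equiv.toLinearMap ∘ₗ q₀.baseChange S
  have hπ : Function.Surjective π := hbc.equiv.surjective.comp hsurjS
  have hker : LinearMap.ker π = LinearMap.range (K₀.subtype.baseChange S) := by
    rw [LinearMap.ker_comp, LinearEquiv.ker, Submodule.comap_bot]
    exact (LinearMap.exact_iff.mp hexS)
  have hfp : Module.FinitePresentation S (LinearMap.range (K₀.subtype.baseChange S)) := by
    exact Module.FinitePresentation.of_equiv (R := S) (M := S ⊗[S₀] K₀)
      (N := LinearMap.range (K₀.subtype.baseChange S))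
      (LinearEquiv.ofInjective (K₀.subtype.baseChange S) hinj')
  refine ⟨S ⊗[S₀] (Fin n → S₀), inferInstance, inferInstance, inferInstance, π, hπ, ?_⟩
  rw [hker]
  exact hfp

/-- **Main ring-level statement** -/
theorem finitePresentation_ker (R S : Type u) [CommRing R] [CommRing S] [Algebra R S]
    [Algebra.FinitePresentation R S]
    (M : Type u) [AddCommGroup M] [Module S M] [Module R M] [IsScalarTower R S M]
    [Module.FinitePresentation S M] [Module.Flat R M]
    {N : Type*} [AddCommGroup N] [Module S N] [Module.FinitePresentation S N]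
    (p : N →ₗ[S] M) (hp : Function.Surjective p) :
    Module.FinitePresentation S (LinearMap.ker p) := by
  obtain ⟨F, _, _, _, π, hπ, hK⟩ := exists_surjective_fp_ker R S M
  exact finitePresentation_ker_of_ker π hπ p hp

end Model

end Groth.Agent.Lib.Helper26.FPKer
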