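import Mathlib
import Groth.Agent.Lib.Helper26SecBC
import Groth.Agent.Lib.Helper26StalkInj
import Groth.Agent.Lib.Helper26FlatLimC
import Groth.Agent.Lib.Helper2FlatOver2
import Groth.Agent.Lib.Helper2FlatOpen
import Groth.Agent.S4851

/-!
# Base change of "stalk map injective with flat cokernel" (helper26)

Namespace `Groth.Agent.Lib.Helper26.InjFlatBC`.

* `cokerPullbackIso`: `p^*(Coker u) ≅ Coker (p^*u)`.
* `stalkHom_injective_and_coker_flat_pullback`: in a cartesian square `X' = X ×_S S'` with `f : X ⟶ S` locally of finite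
  presentation and `u : F' ⟶ F` a map of finitely presented quasi-coherent modules: if `u_x` is injective and `Coker u` is
  `f`-flat at `x`, the same holds for the pullback of `u` at every point `x'` over `x` (uses S4851 for the openness).
-/

set_option autoImplicit false
set_option linter.style.haveILetI false
universe u
open CategoryTheory AlgebraicGeometry Limits TensorProduct
open Groth.Agent.Helper13PullbackUnit Groth.Agent.Lib.Helper2.ModExact
  Groth.Agent.Lib.Helper2.PullbackFlat Groth.Agent.Lib.Helper2.PullbackSec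
  Groth.Agent.Lib.Helper2.FlatOver Groth.Agent.Lib.Helper2
  Groth.Agent.Lib.Helper4.NormDelta Groth.Agent.Lib.Helper26.SecBC Groth.Agent.Lib.Helper26.StalkInj
  Groth.Agent.Lib.Helper26.FlatLim

namespace Groth.Agent.Lib.Helper26.InjFlatBC

variable {X S X' S' : Scheme.{u}} {f : X ⟶ S} {f' : X' ⟶ S'} {g' : X' ⟶ X} {g : S' ⟶ S}

/-- the cokernel of a pulled back map is the pullback of the cokernel. -/
noncomputable def cokerPullbackIso {X Y : Scheme.{u}} (p : Y ⟶ X) {F G : X.Modules} (u : F ⟶ G) :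
    (Scheme.Modules.pullback p).obj (cokernel u) ≅ cokernel ((Scheme.Modules.pullback p).map u) :=
  haveI : PreservesColimitsOfSize.{0, 0} (Scheme.Modules.pullback p) :=
    (Scheme.Modules.pullbackPushforwardAdjunction p).leftAdjoint_preservesColimits
  PreservesCokernel.iso (Scheme.Modules.pullback p) u

/-- **base change** of "the stalk map is injective and the cokernel is flat over the base at the point"
(EGA IV 11.3.7-type statement). -/
theorem stalkHom_injective_and_coker_flat_pullback (hc : IsPullback g' f' f g)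
    [LocallyOfFinitePresentation f] (F' F : X.Modules) [F'.IsQuasicoherent] [F.IsQuasicoherent]
    (hF' : SheafOfModules.IsFinitePresentation (R := X.ringCatSheaf) F')
    (hF : SheafOfModules.IsFinitePresentation (R := X.ringCatSheaf) F) (u : F' ⟶ F) (x' : X')
    (h1 : Function.Injective (stalkHom u (g' x')))
    (h2 : FlatMod.IsFlatOverAt f (cokernel u) (g' x')) :
    Function.Injective (stalkHom ((Scheme.Modules.pullback g').map u) x') ∧
      FlatMod.IsFlatOverAt f' (cokernel ((Scheme.Modules.pullback g').map u)) x' := by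
  haveI := hF
  haveI := hF'
  haveI : SheafOfModules.IsFiniteType (R := X.ringCatSheaf) F' :=
    Groth.Agent.Helper18Strict.isFT_of_isFP F' hF'
  obtain ⟨hCq, hCfp⟩ := Groth.Agent.Lib.Helper23.FPQuot.isFP_cokernel u
  haveI hCq' : (cokernel u).IsQuasicoherent := hCq
  refine ⟨?_, ?_⟩
  · -- the open locus
    have hΩ := Groth.Agent.S4851.result f F F' hF hF' u
    let Ω : X.Opens := ⟨_, hΩ⟩
    have hxΩ : g' x' ∈ Ω := ⟨h1, h2⟩
    -- charts
    obtain ⟨V, hV, hxV⟩ : ∃ V : S.Opens, IsAffineOpen V ∧ f (g' x') ∈ V := by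
      obtain ⟨_, ⟨V, hV, rfl⟩, hxV, -⟩ :=
        S.isBasis_affineOpens.exists_subset_of_mem_open (Set.mem_univ (f (g' x'))) isOpen_univ
      exact ⟨V, hV, hxV⟩
    have hw : g (f' x') = f (g' x') := by
      have := congrArg (fun φ => φ.base x') hc.w
      simpa using this.symm
    obtain ⟨V', hV', hxV', eV'⟩ : ∃ V' : S'.Opens, IsAffineOpen V' ∧ f' x' ∈ V' ∧ V' ≤ g ⁻¹ᵁ V := by
      have hmem : f' x' ∈ g ⁻¹ᵁ V := by
        change g (f' x') ∈ V
        rw [hw]; exact hxV
      obtain ⟨_, ⟨V', hV', rfl⟩, hxV', hle⟩ :=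
        S'.isBasis_affineOpens.exists_subset_of_mem_open hmem (g ⁻¹ᵁ V).isOpen
      exact ⟨V', hV', hxV', hle⟩
    obtain ⟨U, hU, hxU, hUW⟩ : ∃ U : X.Opens, IsAffineOpen U ∧ g' x' ∈ U ∧ U ≤ Ω ⊓ f ⁻¹ᵁ V := by
      have hxW : g' x' ∈ Ω ⊓ f ⁻¹ᵁ V := ⟨hxΩ, hxV⟩
      obtain ⟨_, ⟨U, hU, rfl⟩, hxU, hUle⟩ :=
        X.isBasis_affineOpens.exists_subset_of_mem_open hxW (Ω ⊓ f ⁻¹ᵁ V).isOpen
      exact ⟨U, hU, hxU, hUle⟩
    have eU : U ≤ f ⁻¹ᵁ V := hUW.trans inf_le_right
    have hUinj : ∀ z : X, z ∈ U → Function.Injective (stalkHom u z) := fun z hz => (hUW hz).1.1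
    have hUflat : ∀ z : X, z ∈ U → FlatMod.IsFlatOverAt f (cokernel u) z := fun z hz => (hUW hz).1.2
    have hinjU := app_injective_of_forall_stalkHom_injective u U hUinj
    obtain ⟨hπ, hex⟩ := exact_app_cokernel hF hF' u hU
    have hflat := flat_sections_of_isFlatOverAt f (cokernel u) hU hV eU hUflat
    have hU' : IsAffineOpen (g' ⁻¹ᵁ U ⊓ f' ⁻¹ᵁ V') := isAffineOpen_inf_preimage hc eV' eU hV hV' hU
    have hx'U' : x' ∈ g' ⁻¹ᵁ U ⊓ f' ⁻¹ᵁ V' := ⟨hxU, hxV'⟩
    haveI : ((Scheme.Modules.pullback g').obj F').IsQuasicoherent := isQuasicoherent_pullback g' F'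
    haveI : ((Scheme.Modules.pullback g').obj F).IsQuasicoherent := isQuasicoherent_pullback g' F
    refine stalkHom_injective_of_kill ((Scheme.Modules.pullback g').map u) hU' 1 (fun l hl => ?_) x' ?_
    · have hmem := ker_app_pullback_le_span hc u (cokernel.π u) eV' eU hV hV' hU hπ hex hflat l hl
      have hzero : (unitSec g' F' (inf_le_left : g' ⁻¹ᵁ U ⊓ f' ⁻¹ᵁ V' ≤ g' ⁻¹ᵁ U)) ''
          {m : Γ(F', U) | Scheme.Modules.Hom.app u U m = 0} ⊆
          ({0} : Set Γ((Scheme.Modules.pullback g').obj F', g' ⁻¹ᵁ U ⊓ f' ⁻¹ᵁ V')) := by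
        rintro _ ⟨m, hm, rfl⟩
        have : m = 0 := hinjU (by rw [map_zero]; exact hm)
        rw [this, map_zero]
        rfl
      have := Submodule.span_mono hzero hmem
      rw [Submodule.span_singleton_eq_bot.2 rfl, Submodule.mem_bot] at this
      rw [this, smul_zero]
    · rw [Scheme.basicOpen_of_isUnit _ isUnit_one]
      exact hx'U'
  · have h3 := isFlatOverAt_pullback_of_isPullback hc (cokernel u) x' h2
    exact isFlatOverAt_of_iso f' (cokerPullbackIso g' u) x' h3

end Groth.Agent.Lib.Helper26.InjFlatBC
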