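import Mathlib
import Groth.Agent.Lib.Helper26FPKer
import Groth.Agent.Lib.Helper26StalkInj
import Groth.Agent.Lib.Helper2FinPushFP
import Groth.Agent.Lib.Helper2FlatOver2
import Groth.Agent.Lib.Helper2FlatOpen
import Groth.Agent.Lib.Helper2FPAff

/-!
# The kernel of a map of finitely presented modules with flat cokernel is of finite type, on sections (helper26)

Namespace `Groth.Agent.Lib.Helper26.KerFG`.

* `exists_finset_ker_app`: `f : X ⟶ Y` locally of finite presentation, `u : F' ⟶ F` a map of finitely presented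
  quasi-coherent modules, `U ⊆ X`, `V ⊆ Y` affine with `U ≤ f⁻¹V`, `Coker u` flat over `Y` at all points of `U`: the kernel
  of `u(U)` is a finitely generated `Γ(X, U)`-module (EGA IV 11.3.9.1 applied twice).
-/

set_option autoImplicit false
set_option linter.style.haveILetI false
universe u
open CategoryTheory AlgebraicGeometry Limits
open Groth.Agent.Lib.Helper2 Groth.Agent.Lib.Helper2.FlatOver Groth.Agent.Lib.Helper2.ModExact

namespace Groth.Agent.Lib.Helper26.KerFG

theorem exists_finset_ker_app {X Y : Scheme.{u}} (f : X ⟶ Y) [LocallyOfFinitePresentation f]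
    (F' F : X.Modules) [F'.IsQuasicoherent] [F.IsQuasicoherent]
    (hF' : SheafOfModules.IsFinitePresentation (R := X.ringCatSheaf) F')
    (hF : SheafOfModules.IsFinitePresentation (R := X.ringCatSheaf) F) (u : F' ⟶ F)
    {U : X.Opens} (hU : IsAffineOpen U) {V : Y.Opens} (hV : IsAffineOpen V) (e : U ≤ f ⁻¹ᵁ V)
    (hUflat : ∀ y : X, y ∈ U → FlatMod.IsFlatOverAt f (cokernel u) y) :
    ∃ s : Finset Γ(F', U), (∀ l ∈ s, Scheme.Modules.Hom.app u U l = 0) ∧
      ∀ l : Γ(F', U), Scheme.Modules.Hom.app u U l = 0 →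
        l ∈ Submodule.span Γ(X, U) (s : Set Γ(F', U)) := by
  haveI := hF
  haveI := hF'
  haveI : SheafOfModules.IsFiniteType (R := X.ringCatSheaf) F' :=
    Groth.Agent.Helper18Strict.isFT_of_isFP F' hF'
  obtain ⟨hCq, hCfp⟩ := Groth.Agent.Lib.Helper23.FPQuot.isFP_cokernel u
  haveI hCq' : (cokernel u).IsQuasicoherent := hCq
  haveI hCfp' : SheafOfModules.IsFinitePresentation (R := X.ringCatSheaf) (cokernel u : X.Modules) := hCfp
  let π : F ⟶ cokernel u := cokernel.π u
  let I : X.Modules := kernel π
  haveI hIq : I.IsQuasicoherent := Groth.Agent.Lib.Helper23.QCohLocal.isQuasicoherent_kernel π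
  let q : F' ⟶ I := Abelian.factorThruImage u
  haveI hq : Epi q := inferInstanceAs (Epi (Abelian.factorThruImage u))
  let ι : I ⟶ F := kernel.ι π
  have hqι : q ≫ ι = u := Abelian.image.fac u
  -- ring-level data
  letI : Algebra Γ(Y, V) Γ(X, U) := (f.appLE V U e).hom.toAlgebra
  haveI : Algebra.FinitePresentation Γ(Y, V) Γ(X, U) := f.finitePresentation_appLE hV hU e
  haveI : Module.FinitePresentation Γ(X, U) Γ(F, U) := FPAff.finitePresentation_sections F hU
  haveI : Module.FinitePresentation Γ(X, U) Γ(F', U) := FPAff.finitePresentation_sections F' hU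
  haveI : Module.FinitePresentation Γ(X, U) Γ(cokernel u, U) :=
    FPAff.finitePresentation_sections (cokernel u) hU
  letI : Module Γ(Y, V) Γ(cokernel u, U) := Module.compHom Γ(cokernel u, U) (f.appLE V U e).hom
  haveI : IsScalarTower Γ(Y, V) Γ(X, U) Γ(cokernel u, U) :=
    ⟨fun a b m => by
      change ((f.appLE V U e).hom a * b) • m = (f.appLE V U e).hom a • (b • m)
      rw [mul_smul]⟩
  haveI : Module.Flat Γ(Y, V) Γ(cokernel u, U) :=
    flat_sections_of_isFlatOverAt f (cokernel u) hU hV e hUflat
  let πU : Γ(F, U) →ₗ[Γ(X, U)] Γ(cokernel u, U) :=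
    { toFun := fun m => Scheme.Modules.Hom.app π U m
      map_add' := fun a b => map_add _ a b
      map_smul' := fun a m => ModExact.app_smul π U a m }
  have hπU : Function.Surjective πU :=
    Groth.Agent.Lib.Helper23.FinType.surjective_app_of_epi π hU
  have hker : Module.FinitePresentation Γ(X, U) (LinearMap.ker πU) :=
    Groth.Agent.Lib.Helper26.FPKer.finitePresentation_ker Γ(Y, V) Γ(X, U) Γ(cokernel u, U) πU hπU
  -- identify the sections of the kernel
  let T : ShortComplex X.Modules := ShortComplex.mk (kernel.ι π) π (kernel.condition π)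
  have hT : T.ShortExact :=
    { exact := ShortComplex.exact_kernel π
      mono_f := inferInstanceAs (Mono (kernel.ι π))
      epi_g := inferInstanceAs (Epi π) }
  let ιU : Γ(I, U) →ₗ[Γ(X, U)] Γ(F, U) :=
    { toFun := fun m => Scheme.Modules.Hom.app ι U m
      map_add' := fun a b => map_add _ a b
      map_smul' := fun a m => ModExact.app_smul ι U a m }
  have hιinj : Function.Injective ιU := ModExact.app_injective_of_mono ι U
  have hrange : LinearMap.range ιU = LinearMap.ker πU := by
    ext m
    constructor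
    · rintro ⟨t, rfl⟩
      rw [LinearMap.mem_ker]
      change Scheme.Modules.Hom.app π U (Scheme.Modules.Hom.app ι U t) = 0
      have h0 : ι ≫ π = 0 := kernel.condition π
      have h1 : Scheme.Modules.Hom.app (ι ≫ π) U t = 0 := by
        rw [h0]; rfl
      exact h1
    · intro hm
      obtain ⟨t, ht⟩ := ModExact.exists_app_eq_of_shortExact T hT U m hm
      exact ⟨t, ht⟩
  have e1 : Γ(I, U) ≃ₗ[Γ(X, U)] LinearMap.range ιU := LinearEquiv.ofInjective ιU hιinj
  have e2 : LinearMap.range ιU ≃ₗ[Γ(X, U)] LinearMap.ker πU := LinearEquiv.ofEq _ _ hrange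
  haveI hIfp : Module.FinitePresentation Γ(X, U) Γ(I, U) :=
    Module.FinitePresentation.of_equiv (R := Γ(X, U)) (M := LinearMap.ker πU)
      (N := Γ(I, U)) (e1.trans e2).symm
  let qU : Γ(F', U) →ₗ[Γ(X, U)] Γ(I, U) :=
    { toFun := fun m => Scheme.Modules.Hom.app q U m
      map_add' := fun a b => map_add _ a b
      map_smul' := fun a m => ModExact.app_smul q U a m }
  have hqU : Function.Surjective qU :=
    Groth.Agent.Lib.Helper23.FinType.surjective_app_of_epi q hU
  have hLfg : (LinearMap.ker qU).FG := Module.FinitePresentation.fg_ker qU hqU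
  have huq : ∀ m : Γ(F', U), Scheme.Modules.Hom.app u U m =
      Scheme.Modules.Hom.app ι U (Scheme.Modules.Hom.app q U m) := by
    intro m
    rw [← hqι]
    rfl
  obtain ⟨s, hs⟩ := hLfg
  refine ⟨s, fun l hl => ?_, fun l hl => ?_⟩
  · have h0 : l ∈ LinearMap.ker qU := by
      rw [← hs]
      exact Submodule.subset_span hl
    have hl' : Scheme.Modules.Hom.app q U l = 0 := (LinearMap.mem_ker (f := qU)).1 h0
    rw [huq, hl', map_zero]
  · rw [hs, LinearMap.mem_ker]
    apply hιinj
    rw [map_zero]
    change Scheme.Modules.Hom.app ι U (Scheme.Modules.Hom.app q U l) = 0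
    rw [← huq, hl]

end Groth.Agent.Lib.Helper26.KerFG
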