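import Mathlib
import Groth.Agent.Lib.Helper26SecBC
import Groth.Agent.Lib.Helper26StalkInj
import Groth.Agent.Lib.Helper26KerFG
import Groth.Agent.Lib.Helper26FlatLimD

/-!
# Injectivity of a stalk map with flat cokernel descends to a finite stage of a limit (helper26)

Namespace `Groth.Agent.Lib.Helper26.InjStage`.

* `exists_stage_stalkHom_injective`: `S = lim S_j` with affine transition maps, `f₀ : X₀ ⟶ S_{i₀}` locally of finite
  presentation, `h₀ : F₀ ⟶ G₀` a map of finitely presented quasi-coherent modules whose cokernel is `f₀`-flat at the image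
  of `x ∈ X₀ ×_{S_{i₀}} S`.  If the pullback of `h₀` to the limit is injective at `x`, then so is the pullback to some
  stage (EGA IV 11.2.6-type statement; the kernel is of finite type on a flat chart and its generators die at a stage).
-/

set_option autoImplicit false
set_option linter.style.haveILetI false
universe u
open CategoryTheory AlgebraicGeometry Limits TensorProduct
open Groth.Agent.Helper13PullbackUnit Groth.Agent.Lib.Helper2.ModExact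
  Groth.Agent.Lib.Helper2.PullbackFlat Groth.Agent.Lib.Helper2.PullbackSec
  Groth.Agent.Lib.Helper2.FlatOver Groth.Agent.Lib.Helper2
  Groth.Agent.Lib.Helper4.NormDelta Groth.Agent.Lib.Helper26.SecBC Groth.Agent.Lib.Helper26.StalkInj
  Groth.Agent.Lib.Helper26.FlatLim Groth.Agent.Lib.Helper26.ModLim Groth.Agent.Lib.Helper18ColimSys
  Groth.Agent.Lib.Helper26.KerFG

namespace Groth.Agent.Lib.Helper26.InjStage

variable {I : Type u} [SmallCategory I] [IsCofiltered I] (D : I ⥤ Scheme.{u}) (c : Cone D)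
  (hc : IsLimit c) [∀ (i j : I) (f : i ⟶ j), IsAffineHom (D.map f)] (i₀ : I)

attribute [local instance] algG algA

include hc in
theorem exists_stage_stalkHom_injective {X₀ : Scheme.{u}} (f₀ : X₀ ⟶ D.obj i₀)
    [LocallyOfFinitePresentation f₀] (F₀ G₀ : X₀.Modules) [F₀.IsQuasicoherent] [G₀.IsQuasicoherent]
    (hF₀ : SheafOfModules.IsFinitePresentation (R := X₀.ringCatSheaf) F₀)
    (hG₀ : SheafOfModules.IsFinitePresentation (R := X₀.ringCatSheaf) G₀) (h₀ : F₀ ⟶ G₀)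
    {P : Scheme.{u}} {qX : P ⟶ X₀} {pX : P ⟶ c.pt} (hP : IsPullback qX pX f₀ (c.π.app i₀)) (x : P)
    (hflat : FlatMod.IsFlatOverAt f₀ (cokernel h₀) (qX x))
    (hinj : Function.Injective (stalkHom ((Scheme.Modules.pullback qX).map h₀) x)) :
    ∃ j : Over i₀, ∀ {Xj : Scheme.{u}} (p : Xj ⟶ X₀) (b : Xj ⟶ D.obj j.left)
      (_ : IsPullback p b f₀ (D.map j.hom)) (v : P ⟶ Xj),
      v ≫ p = qX → v ≫ b = pX ≫ c.π.app j.left →
        Function.Injective (stalkHom ((Scheme.Modules.pullback p).map h₀) (v x)) := by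
  classical
  haveI := hF₀
  haveI := hG₀
  haveI : SheafOfModules.IsFiniteType (R := X₀.ringCatSheaf) F₀ :=
    Groth.Agent.Helper18Strict.isFT_of_isFP F₀ hF₀
  obtain ⟨hCq, hCfp⟩ := Groth.Agent.Lib.Helper23.FPQuot.isFP_cokernel h₀
  haveI hCq' : (cokernel h₀).IsQuasicoherent := hCq
  haveI hCfp' : SheafOfModules.IsFinitePresentation (R := X₀.ringCatSheaf) (cokernel h₀ : X₀.Modules) :=
    hCfp
  -- charts at the base stage
  have hW := FinPres.isOpen_setOf_isFlatOverAt f₀ (cokernel h₀)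
  obtain ⟨V₀, hV₀, hxV₀⟩ : ∃ V : (D.obj i₀).Opens, IsAffineOpen V ∧ f₀ (qX x) ∈ V := by
    obtain ⟨_, ⟨V, hV, rfl⟩, hxV, -⟩ :=
      (D.obj i₀).isBasis_affineOpens.exists_subset_of_mem_open (Set.mem_univ (f₀ (qX x))) isOpen_univ
    exact ⟨V, hV, hxV⟩
  let W : X₀.Opens := ⟨_, hW⟩ ⊓ f₀ ⁻¹ᵁ V₀
  have hxW : qX x ∈ W := ⟨hflat, hxV₀⟩
  obtain ⟨U₀, hU₀, hxU₀, hUW⟩ : ∃ U : X₀.Opens, IsAffineOpen U ∧ qX x ∈ U ∧ U ≤ W := by
    obtain ⟨_, ⟨U, hU, rfl⟩, hxU, hUle⟩ :=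
      X₀.isBasis_affineOpens.exists_subset_of_mem_open hxW W.isOpen
    exact ⟨U, hU, hxU, hUle⟩
  have eU₀ : U₀ ≤ f₀ ⁻¹ᵁ V₀ := hUW.trans inf_le_right
  have hUflat : ∀ y : X₀, y ∈ U₀ → FlatMod.IsFlatOverAt f₀ (cokernel h₀) y := fun y hy => (hUW hy).1
  obtain ⟨s, hs0, hsgen⟩ := exists_finset_ker_app f₀ F₀ G₀ hF₀ hG₀ h₀ hU₀ hV₀ eU₀ hUflat
  obtain ⟨hπ, hex⟩ := exact_app_cokernel hG₀ hF₀ h₀ hU₀
  have hflatsec := flat_sections_of_isFlatOverAt f₀ (cokernel h₀) hU₀ hV₀ eU₀ hUflat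
  -- the chart at the limit
  haveI hπaff : IsAffineHom (c.π.app i₀) := isAffineHom_π_app D c hc i₀
  have hV : IsAffineOpen (c.π.app i₀ ⁻¹ᵁ V₀) := hV₀.preimage _
  have hU : IsAffineOpen (qX ⁻¹ᵁ U₀ ⊓ pX ⁻¹ᵁ (c.π.app i₀ ⁻¹ᵁ V₀)) :=
    isAffineOpen_inf_preimage hP le_rfl eU₀ hV₀ hV hU₀
  have hxU : x ∈ qX ⁻¹ᵁ U₀ ⊓ pX ⁻¹ᵁ (c.π.app i₀ ⁻¹ᵁ V₀) := by
    refine ⟨hxU₀, ?_⟩
    show (c.π.app i₀) (pX x) ∈ V₀
    have : (c.π.app i₀) (pX x) = f₀ (qX x) := by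
      have := congrArg (fun φ => φ.base x) hP.w
      simpa using this.symm
    rw [this]
    exact hxV₀
  haveI : ((Scheme.Modules.pullback qX).obj F₀).IsQuasicoherent := isQuasicoherent_pullback qX F₀
  haveI : ((Scheme.Modules.pullback qX).obj G₀).IsQuasicoherent := isQuasicoherent_pullback qX G₀
  -- kill the generators of the kernel near `x`
  have hker0 : ∀ l ∈ s.image (unitSec qX F₀ (inf_le_left :
      qX ⁻¹ᵁ U₀ ⊓ pX ⁻¹ᵁ (c.π.app i₀ ⁻¹ᵁ V₀) ≤ qX ⁻¹ᵁ U₀)),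
      Scheme.Modules.Hom.app ((Scheme.Modules.pullback qX).map h₀) _ l = 0 := by
    intro l hl
    obtain ⟨m, hm, rfl⟩ := Finset.mem_image.1 hl
    rw [unitSec_map, hs0 m hm, map_zero]
  obtain ⟨h, hxh, hkill⟩ := exists_kill_of_stalkHom_injective ((Scheme.Modules.pullback qX).map h₀)
    hU x hxU hinj _ hker0
  -- expand `h` and lift the coefficients to a stage
  obtain ⟨n, b', cc, hh⟩ := exists_sum_mul hP le_rfl eU₀ hV₀ hV hU₀ h
  have hS := sys D c hc i₀ V₀ hV₀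
  obtain ⟨j₁, φ₁, -, x₁, hx₁⟩ := hS.lift_fun (Over.mk (𝟙 i₀)) b'
  letI mBM : Module Γ(D.obj i₀, V₀) Γ(F₀, U₀) := Module.compHom Γ(F₀, U₀) (f₀.appLE V₀ U₀ eU₀).hom
  let z : Γ(F₀, U₀) → (Gj D i₀ V₀ j₁ : Type u) ⊗[Γ(D.obj i₀, V₀)] Γ(F₀, U₀) :=
    fun l => ∑ k, x₁ k ⊗ₜ[Γ(D.obj i₀, V₀)] (cc k • l)
  obtain ⟨T, hTinj, hT⟩ := exists_tensor_hom hP F₀ le_rfl eU₀ hV₀ hV hU₀
  have hz : ∀ l ∈ s, (gAlg D c i₀ V₀ j₁).toLinearMap.rTensor Γ(F₀, U₀) (z l) = 0 := by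
    intro l hl
    apply hTinj
    rw [map_zero]
    simp only [z, map_sum, LinearMap.rTensor_tmul, AlgHom.toLinearMap_apply, hx₁, hT]
    have e1 : ∀ k, unitSec qX F₀ (inf_le_left :
        qX ⁻¹ᵁ U₀ ⊓ pX ⁻¹ᵁ (c.π.app i₀ ⁻¹ᵁ V₀) ≤ qX ⁻¹ᵁ U₀) (cc k • l) =
        (qX.appLE U₀ _ inf_le_left).hom (cc k) • unitSec qX F₀ inf_le_left l :=
      fun k => unitSec_smul qX F₀ inf_le_left (cc k) l
    simp only [e1, ← mul_smul, ← Finset.sum_smul]
    rw [← hh]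
    exact hkill _ (Finset.mem_image_of_mem _ hl)
  obtain ⟨j, φ₂, hφ₂, hφ₂z⟩ := hS.tensor_kill_left_finset Γ(F₀, U₀) j₁ (s.image z) (by
    intro y hy
    obtain ⟨l, hl, rfl⟩ := Finset.mem_image.1 hy
    exact hz l hl)
  refine ⟨j, fun {Xj} p b hpb v hv1 hv2 => ?_⟩
  have hVj : IsAffineOpen (D.map j.hom ⁻¹ᵁ V₀) := hV₀.preimage _
  have hUj : IsAffineOpen (p ⁻¹ᵁ U₀ ⊓ b ⁻¹ᵁ (D.map j.hom ⁻¹ᵁ V₀)) :=
    isAffineOpen_inf_preimage hpb le_rfl eU₀ hV₀ hVj hU₀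
  haveI : ((Scheme.Modules.pullback p).obj F₀).IsQuasicoherent := isQuasicoherent_pullback p F₀
  haveI : ((Scheme.Modules.pullback p).obj G₀).IsQuasicoherent := isQuasicoherent_pullback p G₀
  let h' : Γ(Xj, p ⁻¹ᵁ U₀ ⊓ b ⁻¹ᵁ (D.map j.hom ⁻¹ᵁ V₀)) :=
    ∑ k, (b.appLE (D.map j.hom ⁻¹ᵁ V₀) _ inf_le_right).hom (φ₂ (x₁ k)) *
      (p.appLE U₀ _ inf_le_left).hom (cc k)
  obtain ⟨Tj, -, hTj⟩ := exists_tensor_hom hpb F₀ le_rfl eU₀ hV₀ hVj hU₀
  -- (i) `h'` kills the images of the generators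
  have hi : ∀ l ∈ s, h' • unitSec p F₀ (inf_le_left :
      p ⁻¹ᵁ U₀ ⊓ b ⁻¹ᵁ (D.map j.hom ⁻¹ᵁ V₀) ≤ p ⁻¹ᵁ U₀) l = 0 := by
    intro l hl
    have h0 := hφ₂z (z l) (Finset.mem_image_of_mem _ hl)
    have h1 := congrArg Tj h0
    rw [map_zero] at h1
    simp only [z, map_sum, LinearMap.rTensor_tmul, AlgHom.toLinearMap_apply, hTj] at h1
    have e1 : ∀ k, unitSec p F₀ (inf_le_left :
        p ⁻¹ᵁ U₀ ⊓ b ⁻¹ᵁ (D.map j.hom ⁻¹ᵁ V₀) ≤ p ⁻¹ᵁ U₀) (cc k • l) =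
        (p.appLE U₀ _ inf_le_left).hom (cc k) • unitSec p F₀ inf_le_left l :=
      fun k => unitSec_smul p F₀ inf_le_left (cc k) l
    simp only [e1, ← mul_smul, ← Finset.sum_smul] at h1
    exact h1
  -- (ii) `h'` kills the kernel
  have hii : ∀ t' : Γ((Scheme.Modules.pullback p).obj F₀, p ⁻¹ᵁ U₀ ⊓ b ⁻¹ᵁ (D.map j.hom ⁻¹ᵁ V₀)),
      Scheme.Modules.Hom.app ((Scheme.Modules.pullback p).map h₀) _ t' = 0 → h' • t' = 0 := by
    intro t' ht'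
    have hmem := ker_app_pullback_le_span hpb h₀ (cokernel.π h₀) le_rfl eU₀ hV₀ hVj hU₀ hπ hex
      hflatsec t' ht'
    have claim : ∀ m ∈ Submodule.span Γ(X₀, U₀) (s : Set Γ(F₀, U₀)),
        h' • unitSec p F₀ (inf_le_left :
          p ⁻¹ᵁ U₀ ⊓ b ⁻¹ᵁ (D.map j.hom ⁻¹ᵁ V₀) ≤ p ⁻¹ᵁ U₀) m = 0 := by
      intro m hm'
      induction hm' using Submodule.span_induction with
      | mem l hl => exact hi l hl
      | zero => rw [map_zero, smul_zero]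
      | add a a' _ _ ha ha' => rw [map_add, smul_add, ha, ha', add_zero]
      | smul r a _ ha =>
        rw [unitSec_smul, smul_comm, ha, smul_zero]
    clear ht'
    induction hmem using Submodule.span_induction with
    | mem y hy =>
      obtain ⟨m, hm, rfl⟩ := hy
      exact claim m (hsgen m hm)
    | zero => exact smul_zero _
    | add a a' _ _ ha ha' => rw [smul_add, ha, ha', add_zero]
    | smul r a _ ha => rw [smul_comm, ha, smul_zero]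
  -- (iii) `v x ∈ D(h')`
  have hle : qX ⁻¹ᵁ U₀ ⊓ pX ⁻¹ᵁ (c.π.app i₀ ⁻¹ᵁ V₀) ≤
      v ⁻¹ᵁ (p ⁻¹ᵁ U₀ ⊓ b ⁻¹ᵁ (D.map j.hom ⁻¹ᵁ V₀)) := by
    intro y hy
    refine ⟨?_, ?_⟩
    · show p (v y) ∈ U₀
      have : p (v y) = qX y := by
        have := congrArg (fun φ => φ.base y) hv1
        simpa using this
      rw [this]
      exact hy.1
    · show (D.map j.hom) (b (v y)) ∈ V₀
      have h1 : b (v y) = (c.π.app j.left) (pX y) := by
        have := congrArg (fun φ => φ.base y) hv2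
        simpa using this
      have h2 : (D.map j.hom) ((c.π.app j.left) (pX y)) = (c.π.app i₀) (pX y) := by
        rw [← Scheme.Hom.comp_apply, c.w j.hom]
      rw [h1, h2]
      exact hy.2
  have hvh : (v.appLE _ _ hle).hom h' = h := by
    rw [hh]
    simp only [h', map_sum, map_mul]
    refine Finset.sum_congr rfl fun k _ => ?_
    congr 1
    · have e1 : b.appLE (D.map j.hom ⁻¹ᵁ V₀) _ inf_le_right ≫ v.appLE _ _ hle =
          (c.π.app j.left).appLE (D.map j.hom ⁻¹ᵁ V₀) (c.π.app i₀ ⁻¹ᵁ V₀) (le_π D c i₀ V₀ j) ≫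
            pX.appLE (c.π.app i₀ ⁻¹ᵁ V₀) _ inf_le_right := by
        rw [Scheme.Hom.appLE_comp_appLE, Scheme.Hom.appLE_comp_appLE]
        congr 1
      have e2 := congrArg (fun φ => φ.hom (φ₂ (x₁ k))) e1
      simp only [CommRingCat.hom_comp, RingHom.comp_apply] at e2
      rw [e2]
      congr 1
      have e3 : gAlg D c i₀ V₀ j (φ₂ (x₁ k)) = gAlg D c i₀ V₀ j₁ (x₁ k) := by
        rw [← AlgHom.comp_apply, hφ₂]
      rw [← hx₁ k, ← e3]
      rfl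
    · have e1 : p.appLE U₀ _ inf_le_left ≫ v.appLE _ _ hle = qX.appLE U₀ _ inf_le_left :=
        appLE_comp_of_eq v p qX hv1 _ _ _ _ _ _
      exact congrArg (fun φ => φ.hom (cc k)) e1
  have hiii : v x ∈ Xj.basicOpen h' := by
    have h1 : x ∈ P.basicOpen ((v.appLE _ _ hle).hom h') := by rw [hvh]; exact hxh
    have h2 := Scheme.basicOpen_appLE v _ _ hle h'
    have h3 : x ∈ (qX ⁻¹ᵁ U₀ ⊓ pX ⁻¹ᵁ (c.π.app i₀ ⁻¹ᵁ V₀)) ⊓ v ⁻¹ᵁ (Xj.basicOpen h') := by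
      rw [← h2]; exact h1
    exact h3.2
  exact stalkHom_injective_of_kill ((Scheme.Modules.pullback p).map h₀) hUj h' hii (v x) hiii

end Groth.Agent.Lib.Helper26.InjStage
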