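import Mathlib
import Groth.Agent.Lib.Helper26InjFlatBC
import Groth.Agent.Lib.Helper26InjStage

/-!
# "Stalk map injective with flat cokernel" over a limit of schemes (helper26)

Namespace `Groth.Agent.Lib.Helper26.InjLim`.

* `stalkHom_injective_of_sq`, `isFlatOverAt_cokernel_of_sq`: invariance under conjugation by isomorphisms;
  `stalkHom_injective_comp`, `stalkHom_injective_of_comp`, `isFlatOverAt_cokernel_comp`: for `p^* ≅ a^* b^*`.
* `exists_stage_injective_coker_flat`: EGA IV 11.2.6-type descent to a finite stage, for a system `S = lim S_j` and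
  `f₀ : X₀ ⟶ S_{i₀}` locally of finite presentation.
-/

set_option autoImplicit false
set_option linter.style.haveILetI false
universe u
open CategoryTheory AlgebraicGeometry Limits TensorProduct
open Groth.Agent.Lib.Helper2.PullbackFlat Groth.Agent.Lib.Helper2.PullbackSec
  Groth.Agent.Lib.Helper2.FlatOver Groth.Agent.Lib.Helper2
  Groth.Agent.Lib.Helper4.NormDelta
  Groth.Agent.Lib.Helper26.FlatLim Groth.Agent.Lib.Helper26.ModLim2
  Groth.Agent.Lib.Helper26.InjFlatBC Groth.Agent.Lib.Helper26.InjStage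

namespace Groth.Agent.Lib.Helper26.InjLim

section transport
variable {X : Scheme.{u}} {M N M' N' : X.Modules}

theorem stalkHom_bijective_of_isIso (φ : M ⟶ N) [IsIso φ] (x : X) :
    Function.Bijective (stalkHom φ x) := by
  refine Function.bijective_iff_has_inverse.2 ⟨stalkHom (inv φ) x, fun m => ?_, fun m => ?_⟩
  · rw [stalkHom_comp, IsIso.hom_inv_id, stalkHom_id]
  · rw [stalkHom_comp, IsIso.inv_hom_id, stalkHom_id]

/-- injectivity of the stalk map is invariant under conjugation by isomorphisms. -/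
theorem stalkHom_injective_of_sq (eM : M ≅ M') (eN : N ≅ N') (φ : M ⟶ N) (φ' : M' ⟶ N')
    (w : φ ≫ eN.hom = eM.hom ≫ φ') (x : X) (h : Function.Injective (stalkHom φ x)) :
    Function.Injective (stalkHom φ' x) := by
  have e : φ' = eM.inv ≫ φ ≫ eN.hom := by rw [w, Iso.inv_hom_id_assoc]
  intro a b hab
  have h1 : ∀ a, stalkHom φ' x a = stalkHom eN.hom x (stalkHom φ x (stalkHom eM.inv x a)) := by
    intro a
    rw [stalkHom_comp, stalkHom_comp, e]
  rw [h1, h1] at hab
  have h2 := h ((stalkHom_bijective_of_isIso eN.hom x).injective hab)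
  exact (stalkHom_bijective_of_isIso eM.inv x).injective h2

/-- flatness of the cokernel is invariant under conjugation by isomorphisms. -/
theorem isFlatOverAt_cokernel_of_sq {S : Scheme.{u}} (f : X ⟶ S) (eM : M ≅ M') (eN : N ≅ N')
    (φ : M ⟶ N) (φ' : M' ⟶ N') (w : φ ≫ eN.hom = eM.hom ≫ φ') (x : X)
    (h : FlatMod.IsFlatOverAt f (cokernel φ) x) : FlatMod.IsFlatOverAt f (cokernel φ') x :=
  isFlatOverAt_of_iso f (cokernel.mapIso φ φ' eM eN w) x h

end transport

section comp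
variable {X Y Z : Scheme.{u}} (a : X ⟶ Y) (b : Y ⟶ Z) (p : X ⟶ Z)
  {F G : Z.Modules} (h : F ⟶ G)

theorem stalkHom_injective_comp (e : a ≫ b = p) (x : X)
    (H : Function.Injective (stalkHom ((Scheme.Modules.pullback a).map
      ((Scheme.Modules.pullback b).map h)) x)) :
    Function.Injective (stalkHom ((Scheme.Modules.pullback p).map h) x) :=
  stalkHom_injective_of_sq ((compIso a b p e).app F) ((compIso a b p e).app G) _ _
    (compIso_sq a b p e h) x H

theorem stalkHom_injective_of_comp (e : a ≫ b = p) (x : X)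
    (H : Function.Injective (stalkHom ((Scheme.Modules.pullback p).map h) x)) :
    Function.Injective (stalkHom ((Scheme.Modules.pullback a).map
      ((Scheme.Modules.pullback b).map h)) x) :=
  stalkHom_injective_of_sq ((compIso a b p e).app F).symm ((compIso a b p e).app G).symm _ _
    (by
      rw [Iso.symm_hom, Iso.symm_hom, Iso.app_inv, Iso.app_inv, ← cancel_mono ((compIso a b p e).hom.app G),
        Category.assoc, Category.assoc, Iso.inv_hom_id_app, Category.comp_id, compIso_sq,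
        Iso.inv_hom_id_app_assoc]) x H

theorem isFlatOverAt_cokernel_comp (e : a ≫ b = p) {S : Scheme.{u}} (f : X ⟶ S) (x : X)
    (H : FlatMod.IsFlatOverAt f (cokernel ((Scheme.Modules.pullback a).map
      ((Scheme.Modules.pullback b).map h))) x) :
    FlatMod.IsFlatOverAt f (cokernel ((Scheme.Modules.pullback p).map h)) x :=
  isFlatOverAt_cokernel_of_sq f ((compIso a b p e).app F) ((compIso a b p e).app G) _ _
    (compIso_sq a b p e h) x H

end comp


section sys
variable {I : Type u} [SmallCategory I] [IsCofiltered I] (D : I ⥤ Scheme.{u}) (c : Cone D)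
  (hc : IsLimit c) [∀ (i j : I) (f : i ⟶ j), IsAffineHom (D.map f)] (i₀ : I)

include hc in
/-- **EGA IV 11.2.6-type descent**: injectivity of the stalk map together with flatness of the cokernel at a point of
the limit descends to a finite stage. -/
theorem exists_stage_injective_coker_flat {X₀ : Scheme.{u}} (f₀ : X₀ ⟶ D.obj i₀)
    [LocallyOfFinitePresentation f₀] (F₀ G₀ : X₀.Modules) [F₀.IsQuasicoherent] [G₀.IsQuasicoherent]
    (hF₀ : SheafOfModules.IsFinitePresentation (R := X₀.ringCatSheaf) F₀)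
    (hG₀ : SheafOfModules.IsFinitePresentation (R := X₀.ringCatSheaf) G₀) (h₀ : F₀ ⟶ G₀)
    {P : Scheme.{u}} {qX : P ⟶ X₀} {pX : P ⟶ c.pt} (hP : IsPullback qX pX f₀ (c.π.app i₀)) (x : P)
    (hinj : Function.Injective (stalkHom ((Scheme.Modules.pullback qX).map h₀) x))
    (hflat : FlatMod.IsFlatOverAt pX (cokernel ((Scheme.Modules.pullback qX).map h₀)) x) :
    ∃ (j : Over i₀) (Xj : Scheme.{u}) (p : Xj ⟶ X₀) (b : Xj ⟶ D.obj j.left)
      (_ : IsPullback p b f₀ (D.map j.hom)) (v : P ⟶ Xj),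
      v ≫ p = qX ∧ v ≫ b = pX ≫ c.π.app j.left ∧
        Function.Injective (stalkHom ((Scheme.Modules.pullback p).map h₀) (v x)) ∧
        FlatMod.IsFlatOverAt b (cokernel ((Scheme.Modules.pullback p).map h₀)) (v x) := by
  haveI := hF₀
  haveI := hG₀
  haveI : SheafOfModules.IsFiniteType (R := X₀.ringCatSheaf) F₀ :=
    Groth.Agent.Helper18Strict.isFT_of_isFP F₀ hF₀
  obtain ⟨hCq, hCfp⟩ := Groth.Agent.Lib.Helper23.FPQuot.isFP_cokernel h₀
  haveI hCq' : (cokernel h₀).IsQuasicoherent := hCq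
  haveI hCfp' : SheafOfModules.IsFinitePresentation (R := X₀.ringCatSheaf) (cokernel h₀ : X₀.Modules) :=
    hCfp
  -- flatness at a stage
  have H : FlatMod.IsFlatOverAt pX ((Scheme.Modules.pullback qX).obj (cokernel h₀)) x :=
    isFlatOverAt_of_iso pX (cokerPullbackIso qX h₀).symm x hflat
  obtain ⟨k, hk⟩ := exists_stage_isFlatOverAt D c hc i₀ f₀ (cokernel h₀) hP x H
  -- rebase at `k`
  let p₁ : pullback f₀ (D.map k.hom) ⟶ X₀ := pullback.fst _ _
  let b₁ : pullback f₀ (D.map k.hom) ⟶ D.obj k.left := pullback.snd _ _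
  have hpb₁ : IsPullback p₁ b₁ f₀ (D.map k.hom) := IsPullback.of_hasPullback _ _
  let v₁ : P ⟶ pullback f₀ (D.map k.hom) := pullback.lift qX (pX ≫ c.π.app k.left) (by
    rw [hP.w, Category.assoc, c.w])
  have hv₁p : v₁ ≫ p₁ = qX := pullback.lift_fst _ _ _
  have hv₁b : v₁ ≫ b₁ = pX ≫ c.π.app k.left := pullback.lift_snd _ _ _
  have flat₁ := hk k (𝟙 k) p₁ b₁ hpb₁ v₁ hv₁p hv₁b
  have flat₁' : FlatMod.IsFlatOverAt b₁ (cokernel ((Scheme.Modules.pullback p₁).map h₀)) (v₁ x) :=
    isFlatOverAt_of_iso b₁ (cokerPullbackIso p₁ h₀) (v₁ x) flat₁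
  have hP₁ : IsPullback v₁ pX b₁ (c.π.app k.left) := by
    refine IsPullback.of_right ?_ hv₁b hpb₁
    rw [hv₁p, c.w]
    exact hP
  haveI : LocallyOfFinitePresentation b₁ := MorphismProperty.of_isPullback hpb₁ inferInstance
  haveI : ((Scheme.Modules.pullback p₁).obj F₀).IsQuasicoherent := isQuasicoherent_pullback p₁ F₀
  haveI : ((Scheme.Modules.pullback p₁).obj G₀).IsQuasicoherent := isQuasicoherent_pullback p₁ G₀
  have hF₁ := Groth.Agent.Helper18Strict.isFP_pullback p₁ F₀ hF₀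
  have hG₁ := Groth.Agent.Helper18Strict.isFP_pullback p₁ G₀ hG₀
  have hinj₁ := stalkHom_injective_of_comp v₁ p₁ qX h₀ hv₁p x hinj
  obtain ⟨l, hl⟩ := exists_stage_stalkHom_injective D c hc k.left b₁ _ _ hF₁ hG₁
    ((Scheme.Modules.pullback p₁).map h₀) hP₁ x flat₁' hinj₁
  -- the final stage
  let p₂ : pullback b₁ (D.map l.hom) ⟶ pullback f₀ (D.map k.hom) := pullback.fst _ _
  let b₂ : pullback b₁ (D.map l.hom) ⟶ D.obj l.left := pullback.snd _ _
  have hpb₂ : IsPullback p₂ b₂ b₁ (D.map l.hom) := IsPullback.of_hasPullback _ _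
  let v₂ : P ⟶ pullback b₁ (D.map l.hom) := pullback.lift v₁ (pX ≫ c.π.app l.left) (by
    rw [hv₁b, Category.assoc, c.w])
  have hv₂p : v₂ ≫ p₂ = v₁ := pullback.lift_fst _ _ _
  have hv₂b : v₂ ≫ b₂ = pX ≫ c.π.app l.left := pullback.lift_snd _ _ _
  have hpb : IsPullback (p₂ ≫ p₁) b₂ f₀ (D.map (l.hom ≫ k.hom)) := by
    rw [D.map_comp]
    exact hpb₂.paste_horiz hpb₁
  have hvp : v₂ ≫ p₂ ≫ p₁ = qX := by rw [reassoc_of% hv₂p, hv₁p]
  refine ⟨Over.mk (l.hom ≫ k.hom), pullback b₁ (D.map l.hom), p₂ ≫ p₁, b₂, hpb, v₂, hvp, hv₂b, ?_, ?_⟩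
  · exact stalkHom_injective_comp p₂ p₁ (p₂ ≫ p₁) h₀ rfl (v₂ x) (hl p₂ b₂ hpb₂ v₂ hv₂p hv₂b)
  · have := hk (Over.mk (l.hom ≫ k.hom)) (Over.homMk l.hom) (p₂ ≫ p₁) b₂ hpb v₂ hvp hv₂b
    exact isFlatOverAt_of_iso b₂ (cokerPullbackIso (p₂ ≫ p₁) h₀) (v₂ x) this

end sys

end Groth.Agent.Lib.Helper26.InjLim
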