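import Mathlib
import Groth.Agent.Lib.Helper2FlatOver

set_option autoImplicit false
set_option linter.style.haveILetI false
universe u
open TensorProduct

namespace Groth.Agent.Lib.Helper26.RelFibFlat

section alg

variable {C C' M : Type u} [CommRing C] [CommRing C'] [Algebra C C'] [AddCommGroup M] [Module C M]

/-- for a surjective `C → C'` with kernel `K`, `1 ⊗ m = 0` in `C' ⊗_C M` iff `m ∈ K M`. -/
theorem one_tmul_eq_zero_iff (hγ : Function.Surjective (algebraMap C C')) (m : M) :
    (1 : C') ⊗ₜ[C] m = 0 ↔ m ∈ (RingHom.ker (algebraMap C C')) • (⊤ : Submodule C M) := by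
  set K := RingHom.ker (algebraMap C C') with hK
  let κ : (C ⧸ RingHom.ker (Algebra.ofId C C')) ≃ₐ[C] C' :=
    Ideal.quotientKerAlgEquivOfSurjective (f := Algebra.ofId C C') hγ
  let e1 : ((C ⧸ RingHom.ker (Algebra.ofId C C')) ⊗[C] M) ≃ₗ[C] (C' ⊗[C] M) :=
    TensorProduct.congr κ.toLinearEquiv (LinearEquiv.refl C M)
  have h1 : e1 ((1 : C ⧸ RingHom.ker (Algebra.ofId C C')) ⊗ₜ[C] m) = (1 : C') ⊗ₜ[C] m := by
    simp [e1]
  have h2 := TensorProduct.quotTensorEquivQuotSMul_mk_one_tmul (M := M)
    (RingHom.ker (Algebra.ofId C C')) m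
  rw [← h1, LinearEquiv.map_eq_zero_iff, ← LinearEquiv.map_eq_zero_iff
    (TensorProduct.quotTensorEquivQuotSMul M (RingHom.ker (Algebra.ofId C C'))), h2,
    Submodule.Quotient.mk_eq_zero]
  rfl

end alg

section main

variable {B C B' C' M M' : Type u} [CommRing B] [CommRing C] [CommRing B'] [CommRing C']
  [Algebra B C] [Algebra B B'] [Algebra C C'] [Algebra B' C'] [Algebra B C']
  [IsScalarTower B C C'] [IsScalarTower B B' C']
  [AddCommGroup M] [Module C M] [Module B M] [IsScalarTower B C M]
  [AddCommGroup M'] [Module C' M'] [Module B' M'] [IsScalarTower B' C' M']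

/-- **the fibre module**: if `B → B'` and `C → C'` are surjective with kernels `J` and `J C`, and `M' ≅ C' ⊗_C M`, then
`M'` is flat over `B'` iff `M / J M` is flat over `B / J`. -/
theorem flat_fibre_iff (T : (C' ⊗[C] M) ≃ₗ[C'] M') (J : Ideal B)
    (hβ : Function.Surjective (algebraMap B B')) (hkβ : RingHom.ker (algebraMap B B') = J)
    (hγ : Function.Surjective (algebraMap C C'))
    (hkγ : RingHom.ker (algebraMap C C') = J.map (algebraMap B C)) :
    Module.Flat B' M' ↔ Module.Flat (B ⧸ J) (M ⧸ J • (⊤ : Submodule B M)) := by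
  letI mBM' : Module B M' := Module.compHom M' (algebraMap B C')
  haveI t1 : IsScalarTower B C' M' := IsScalarTower.of_algebraMap_smul (fun b n => rfl)
  haveI t2 : IsScalarTower B B' M' := IsScalarTower.of_algebraMap_smul (fun b n => by
    change algebraMap B B' b • n = algebraMap B C' b • n
    rw [← IsScalarTower.algebraMap_smul C' (algebraMap B B' b) n,
      ← IsScalarTower.algebraMap_apply B B' C'])
  -- the map `ψ : M → M'`
  let ψ : M →ₗ[B] M' :=
    { toFun := fun m => T ((1 : C') ⊗ₜ[C] m)
      map_add' := fun m n => by rw [TensorProduct.tmul_add, map_add]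
      map_smul' := fun b m => by
        change T ((1 : C') ⊗ₜ[C] (b • m)) = algebraMap B C' b • T ((1 : C') ⊗ₜ[C] m)
        rw [← map_smul]
        congr 1
        rw [← IsScalarTower.algebraMap_smul C b m, TensorProduct.tmul_smul, TensorProduct.smul_tmul',
          TensorProduct.smul_tmul', Algebra.smul_def, mul_one, smul_eq_mul, mul_one,
          IsScalarTower.algebraMap_apply B C C'] }
  have hψs : Function.Surjective ψ := by
    intro n
    obtain ⟨m, hm⟩ := TensorProduct.mk_surjective C M C' hγ (T.symm n)
    refine ⟨m, ?_⟩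
    change T ((1 : C') ⊗ₜ[C] m) = n
    rw [← T.apply_symm_apply n, ← hm]
    rfl
  have hψk : LinearMap.ker ψ = J • (⊤ : Submodule B M) := by
    ext m
    rw [LinearMap.mem_ker]
    change T ((1 : C') ⊗ₜ[C] m) = 0 ↔ _
    rw [LinearEquiv.map_eq_zero_iff, one_tmul_eq_zero_iff hγ, hkγ]
    constructor
    · intro hm
      refine Submodule.smul_induction_on hm ?_ ?_
      · intro c hc n _
        refine Submodule.span_induction (p := fun c _ => c • n ∈ J • (⊤ : Submodule B M))
          ?_ ?_ ?_ ?_ hc
        · rintro _ ⟨b, hb, rfl⟩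
          rw [IsScalarTower.algebraMap_smul]
          exact Submodule.smul_mem_smul hb trivial
        · rw [zero_smul]; exact zero_mem _
        · intro c1 c2 _ _ h1 h2
          rw [add_smul]; exact add_mem h1 h2
        · intro c1 c2 _ h2
          rw [smul_eq_mul, mul_smul]
          -- c1 • (c2 • n) with c2 • n ∈ J • ⊤: closed under C-action
          refine Submodule.smul_induction_on h2 ?_ ?_
          · intro b hb n' _
            rw [← IsScalarTower.algebraMap_smul C b n', smul_comm, IsScalarTower.algebraMap_smul]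
            exact Submodule.smul_mem_smul hb trivial
          · intro x y hx hy
            rw [smul_add]; exact add_mem hx hy
      · intro x y hx hy
        exact add_mem hx hy
    · intro hm
      refine Submodule.smul_induction_on hm ?_ ?_
      · intro b hb n _
        rw [← IsScalarTower.algebraMap_smul C b n]
        exact Submodule.smul_mem_smul (Ideal.mem_map_of_mem _ hb) trivial
      · intro x y hx hy
        exact add_mem hx hy
  let e : (M ⧸ J • (⊤ : Submodule B M)) ≃ₗ[B] M' :=
    (Submodule.quotEquivOfEq _ _ hψk.symm) ≪≫ₗ (ψ.quotKerEquivOfSurjective hψs)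
  let σ : (B ⧸ J) ≃+* B' :=
    (Ideal.quotEquivOfEq hkβ.symm).trans (RingHom.quotientKerEquivOfSurjective hβ)
  have he : ∀ (r : B ⧸ J) (m : M ⧸ J • (⊤ : Submodule B M)),
      e.toAddEquiv (r • m) = σ r • e.toAddEquiv m := by
    intro r m
    obtain ⟨b, rfl⟩ := Ideal.Quotient.mk_surjective r
    have h1 : (Ideal.Quotient.mk J b) • m = b • m := by
      obtain ⟨m, rfl⟩ := Submodule.Quotient.mk_surjective _ m
      rfl
    have h2 : σ (Ideal.Quotient.mk J b) = algebraMap B B' b := rfl
    rw [h1, h2]
    change e (b • m) = algebraMap B B' b • e m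
    rw [map_smul, IsScalarTower.algebraMap_smul]
  exact (Groth.Agent.Lib.Helper2.FlatOver.flat_iff_of_semilinear_equiv σ e.toAddEquiv he).symm

end main

end Groth.Agent.Lib.Helper26.RelFibFlat
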