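import Mathlib
import Groth.Agent.Lib.Helper26SecBC
import Groth.Agent.Lib.Helper2PullbackSec2
import Groth.Agent.Lib.Helper4NormDelta
import Groth.Agent.Lib.Helper26RelFibFlatAlg

/-!
# The natural base change map on stalks of a pulled back module (helper26)

Namespace `Groth.Agent.Lib.Helper26.StalkBC`.  For `g : X' ⟶ X`, an `O_X`-module `F` and `x' : X'`:

* `stalkUnit g F x' : F_{g x'} ⟶ (g^*F)_{x'}`, the map on stalks induced by the unit of the adjunction; `stalkUnit_germ`
  (its value on germs is the germ of helper13's `unitSec`), `stalkUnit_smul` (semilinearity over `g.stalkMap x'`),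
  `stalkUnit_stalkHom` (naturality in `F`).
* `isBaseChange_stalkUnit`: for `F` quasi-coherent, `stalkUnit` exhibits `(g^*F)_{x'}` as `O_{X',x'} ⊗_{O_{X,g x'}} F_{g x'}`.
* consequences: `stalkUnit_injective_of_flat`, `stalkUnit_surjective_of_surjective`, `stalkUnit_eq_zero_iff_of_surjective`,
  `stalkHom_injective_of_pullback` (a flat pullback reflects injectivity on stalks),
  `stalkHom_pullback_injective_of_flat` (and preserves it).
-/

set_option autoImplicit false
set_option linter.style.haveILetI false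
universe u
open CategoryTheory AlgebraicGeometry Limits TensorProduct
open Groth.Agent.Helper13PullbackUnit Groth.Agent.Lib.Helper2.ModExact
  Groth.Agent.Lib.Helper2.PullbackFlat Groth.Agent.Lib.Helper2.PullbackSec
  Groth.Agent.Lib.Helper2.FlatOver Groth.Agent.Lib.Helper26.RelFibFlat
  Groth.Agent.Lib.Helper4.NormDelta Groth.Agent.Lib.Helper26.SecBC

namespace Groth.Agent.Lib.Helper26.StalkBC

variable {X X' : Scheme.{u}} (g : X' ⟶ X)

/-- the stalk of a pushforward maps to the stalk upstairs. -/
noncomputable def pushStalk (G : X'.Modules) (x' : X') :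
    ((Scheme.Modules.pushforward g).obj G).presheaf.stalk (g x') ⟶ G.presheaf.stalk x' :=
  TopCat.Presheaf.stalkPushforward AddCommGrpCat.{u} g.base G.presheaf x'

theorem pushStalk_germ (G : X'.Modules) (x' : X') (V : X.Opens) (hx : g x' ∈ V)
    (t : Γ((Scheme.Modules.pushforward g).obj G, V)) :
    pushStalk g G x' (((Scheme.Modules.pushforward g).obj G).presheaf.germ V (g x') hx t) =
      G.presheaf.germ (g ⁻¹ᵁ V) x' hx t := by
  have h1 := TopCat.Presheaf.stalkPushforward_germ AddCommGrpCat.{u} g.base G.presheaf V x' hx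
  exact ConcreteCategory.congr_hom h1 t

/-- the canonical map on stalks `F_{g x'} → (g^*F)_{x'}`. -/
noncomputable def stalkUnit (F : X.Modules) (x' : X') :
    F.presheaf.stalk (g x') ⟶ ((Scheme.Modules.pullback g).obj F).presheaf.stalk x' :=
  stalkHom ((Scheme.Modules.pullbackPushforwardAdjunction g).unit.app F) (g x') ≫
    pushStalk g ((Scheme.Modules.pullback g).obj F) x'

theorem stalkUnit_germ (F : X.Modules) (x' : X') {V : X.Opens} {U : X'.Opens} (hle : U ≤ g ⁻¹ᵁ V)
    (hx : x' ∈ U) (hV : g x' ∈ V) (s : Γ(F, V)) :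
    stalkUnit g F x' (F.presheaf.germ V (g x') hV s) =
      ((Scheme.Modules.pullback g).obj F).presheaf.germ U x' hx (unitSec g F hle s) := by
  unfold stalkUnit
  rw [ConcreteCategory.comp_apply]
  have h0 := stalkHom_germ ((Scheme.Modules.pullbackPushforwardAdjunction g).unit.app F) (g x') V hV s
  refine (congrArg (pushStalk g ((Scheme.Modules.pullback g).obj F) x') h0).trans ?_
  refine (pushStalk_germ g _ x' V hV _).trans ?_
  rw [unitSec_apply]
  exact (TopCat.Presheaf.germ_res_apply ((Scheme.Modules.pullback g).obj F).presheaf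
    (homOfLE hle) x' hx _).symm

/-- semilinearity of the stalk map over `g.stalkMap x'`. -/
theorem stalkUnit_smul (F : X.Modules) (x' : X') (b : X.presheaf.stalk (g x'))
    (n : F.presheaf.stalk (g x')) :
    stalkUnit g F x' (b • n) = (g.stalkMap x').hom b • stalkUnit g F x' n := by
  obtain ⟨V, hxV, t, rfl⟩ := F.presheaf.exists_germ_eq n
  obtain ⟨V', hxV', r, rfl⟩ := X.presheaf.exists_germ_eq b
  have hxW : g x' ∈ V ⊓ V' := ⟨hxV, hxV'⟩
  have h1 : F.presheaf.germ V (g x') hxV t = F.presheaf.germ (V ⊓ V') (g x') hxW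
      (F.presheaf.map (homOfLE inf_le_left).op t) :=
    (TopCat.Presheaf.germ_res_apply F.presheaf (homOfLE inf_le_left) (g x') hxW t).symm
  have h2 : X.presheaf.germ V' (g x') hxV' r = X.presheaf.germ (V ⊓ V') (g x') hxW
      (X.presheaf.map (homOfLE inf_le_right).op r) :=
    (TopCat.Presheaf.germ_res_apply X.presheaf (homOfLE inf_le_right) (g x') hxW r).symm
  have hle : g ⁻¹ᵁ (V ⊓ V') ≤ g ⁻¹ᵁ (V ⊓ V') := le_rfl
  have hx : x' ∈ g ⁻¹ᵁ (V ⊓ V') := hxW
  rw [h1, h2, ← Groth.Agent.Lib.Helper2.QCoh.germ_smul, stalkUnit_germ g F x' hle hx hxW,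
    stalkUnit_germ g F x' hle hx hxW, unitSec_smul, Groth.Agent.Lib.Helper2.QCoh.germ_smul,
    stalkMap_germ_eq g hle x' hx]

/-- naturality of the stalk map. -/
theorem stalkUnit_stalkHom {F G : X.Modules} (u : F ⟶ G) (x' : X') (n : F.presheaf.stalk (g x')) :
    stalkHom ((Scheme.Modules.pullback g).map u) x' (stalkUnit g F x' n) =
      stalkUnit g G x' (stalkHom u (g x') n) := by
  obtain ⟨V, hxV, t, rfl⟩ := F.presheaf.exists_germ_eq n
  have hle : g ⁻¹ᵁ V ≤ g ⁻¹ᵁ V := le_rfl
  have hx : x' ∈ g ⁻¹ᵁ V := hxV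
  rw [stalkUnit_germ g F x' hle hx hxV, stalkHom_germ, stalkHom_germ, stalkUnit_germ g G x' hle hx hxV,
    unitSec_map]

/-- the stalk map as a linear map over `O_{X, g x'}`. -/
noncomputable def stalkUnitₗ (F : X.Modules) (x' : X') :
    letI := FlatMod.moduleStalkOver g ((Scheme.Modules.pullback g).obj F) x'
    F.presheaf.stalk (g x') →ₗ[X.presheaf.stalk (g x')]
      ((Scheme.Modules.pullback g).obj F).presheaf.stalk x' :=
  letI := FlatMod.moduleStalkOver g ((Scheme.Modules.pullback g).obj F) x'
  { toFun := fun n => stalkUnit g F x' n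
    map_add' := fun a b => map_add _ a b
    map_smul' := fun b n => stalkUnit_smul g F x' b n }

theorem stalkUnitₗ_apply (F : X.Modules) (x' : X') (n : F.presheaf.stalk (g x')) :
    stalkUnitₗ g F x' n = stalkUnit g F x' n := rfl

/-- **stalk of a pullback, natural form**: `stalkUnit` exhibits `(g^*F)_{x'}` as the base change of `F_{g x'}` along
`g.stalkMap x'`. -/
theorem isBaseChange_stalkUnit (F : X.Modules) [F.IsQuasicoherent] (x' : X') :
    letI : Algebra (X.presheaf.stalk (g x')) (X'.presheaf.stalk x') := (g.stalkMap x').hom.toAlgebra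
    letI := FlatMod.moduleStalkOver g ((Scheme.Modules.pullback g).obj F) x'
    ∃ (_ : IsScalarTower (X.presheaf.stalk (g x')) (X'.presheaf.stalk x')
        (((Scheme.Modules.pullback g).obj F).presheaf.stalk x')),
      IsBaseChange (X'.presheaf.stalk x') (stalkUnitₗ g F x') := by
  obtain ⟨U, W, hU, hW, hx, e⟩ := exists_affine_nhds g x'
  set H := (Scheme.Modules.pullback g).obj F with hH
  haveI : H.IsQuasicoherent := isQuasicoherent_pullback g F
  letI aBC : Algebra Γ(X, W) Γ(X', U) := (g.appLE W U e).hom.toAlgebra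
  letI aBR : Algebra Γ(X, W) (X.presheaf.stalk (g.base x')) :=
    X.presheaf.algebra_section_stalk ⟨g.base x', e hx⟩
  letI aCS : Algebra Γ(X', U) (X'.presheaf.stalk x') := X'.presheaf.algebra_section_stalk ⟨x', hx⟩
  letI aRS : Algebra (X.presheaf.stalk (g.base x')) (X'.presheaf.stalk x') :=
    (g.stalkMap x').hom.toAlgebra
  letI aBS : Algebra Γ(X, W) (X'.presheaf.stalk x') :=
    ((X'.presheaf.germ U x' hx).hom.comp (g.appLE W U e).hom).toAlgebra
  haveI tBCS : IsScalarTower Γ(X, W) Γ(X', U) (X'.presheaf.stalk x') :=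
    IsScalarTower.of_algebraMap_eq (fun b => rfl)
  haveI tBRS : IsScalarTower Γ(X, W) (X.presheaf.stalk (g.base x')) (X'.presheaf.stalk x') :=
    IsScalarTower.of_algebraMap_eq (fun b => (stalkMap_germ_eq g e x' hx b).symm)
  haveI lR := hW.isLocalization_stalk ⟨g.base x', e hx⟩
  haveI lS := hU.isLocalization_stalk ⟨x', hx⟩
  -- modules
  letI mBN' : Module Γ(X, W) (F.presheaf.stalk (g.base x')) :=
    moduleStalkSections F W (g.base x') (e hx)
  haveI tN' : IsScalarTower Γ(X, W) (X.presheaf.stalk (g.base x')) (F.presheaf.stalk (g.base x')) :=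
    IsScalarTower.of_algebraMap_smul (fun b n => rfl)
  letI mBM' : Module Γ(X, W) Γ(H, U) := Module.compHom _ (g.appLE W U e).hom
  haveI tM' : IsScalarTower Γ(X, W) Γ(X', U) Γ(H, U) :=
    IsScalarTower.of_algebraMap_smul (fun b n => rfl)
  letI mCM'' : Module Γ(X', U) (H.presheaf.stalk x') := moduleStalkSections H U x' hx
  letI mRM'' : Module (X.presheaf.stalk (g.base x')) (H.presheaf.stalk x') :=
    FlatMod.moduleStalkOver g H x'
  letI mBM'' : Module Γ(X, W) (H.presheaf.stalk x') :=
    Module.compHom _ ((X'.presheaf.germ U x' hx).hom.comp (g.appLE W U e).hom)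
  haveI t1 : IsScalarTower Γ(X', U) (X'.presheaf.stalk x') (H.presheaf.stalk x') :=
    IsScalarTower.of_algebraMap_smul (fun b n => rfl)
  haveI t2 : IsScalarTower Γ(X, W) Γ(X', U) (H.presheaf.stalk x') :=
    IsScalarTower.of_algebraMap_smul (fun b n => rfl)
  haveI t3 : IsScalarTower Γ(X, W) (X'.presheaf.stalk x') (H.presheaf.stalk x') :=
    IsScalarTower.of_algebraMap_smul (fun b n => rfl)
  haveI t4 : IsScalarTower (X.presheaf.stalk (g.base x')) (X'.presheaf.stalk x') (H.presheaf.stalk x') :=
    IsScalarTower.of_algebraMap_smul (fun b n => rfl)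
  haveI t5 : IsScalarTower Γ(X, W) (X.presheaf.stalk (g.base x')) (H.presheaf.stalk x') := by
    refine IsScalarTower.of_algebraMap_smul (fun b n => ?_)
    change (g.stalkMap x').hom (X.presheaf.germ W (g.base x') (e hx) b) • n =
      (X'.presheaf.germ U x' hx) ((g.appLE W U e).hom b) • n
    rw [stalkMap_germ_eq g e x' hx b]
  haveI i1 := isLocalizedModule_germ hW F (g.base x') (e hx)
  haveI i2 := isLocalizedModule_germ hU H x' hx
  let ν₀ : Γ(F, W) →ₗ[Γ(X, W)] Γ(H, U) :=
    { toFun := unitSec g F e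
      map_add' := (unitSec g F e).map_add
      map_smul' := fun r y => unitSec_smul g F e r y }
  have hν : IsBaseChange Γ(X', U) ν₀ :=
    Groth.Agent.Helper13BCAlg.isBaseChange_of_existsUnique ν₀
      (fun N _ _ l hl => existsUnique_lift g F hW hU e N l hl)
  obtain ⟨μ, hμ, hμg⟩ := exists_isBaseChange_localization
    (B := Γ(X, W)) (C := Γ(X', U)) (R := X.presheaf.stalk (g.base x')) (S := X'.presheaf.stalk x')
    (hW.primeIdealOf ⟨g.base x', e hx⟩).asIdeal.primeCompl
    (hU.primeIdealOf ⟨x', hx⟩).asIdeal.primeCompl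
    (germₗ F W (g.base x') (e hx)) ν₀ hν (germₗ H U x' hx)
  have h1 : IsBaseChange (X.presheaf.stalk (g.base x')) (germₗ F W (g.base x') (e hx)) :=
    (isLocalizedModule_iff_isBaseChange (hW.primeIdealOf ⟨g.base x', e hx⟩).asIdeal.primeCompl
      (X.presheaf.stalk (g.base x')) (germₗ F W (g.base x') (e hx))).1 inferInstance
  have hEq : stalkUnitₗ g F x' = μ := by
    refine h1.algHom_ext _ _ (fun n => ?_)
    rw [hμg]
    exact stalkUnit_germ g F x' e hx (e hx) n
  refine ⟨t4, ?_⟩
  rw [hEq]
  exact hμ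

section consequences
variable (F : X.Modules) [F.IsQuasicoherent] (x' : X')

/-- if `g` is flat at `x'` the stalk map `F_{g x'} → (g^*F)_{x'}` is injective. -/
theorem stalkUnit_injective_of_flat (hfl : (g.stalkMap x').hom.Flat) :
    Function.Injective (stalkUnit g F x') := by
  letI aRS : Algebra (X.presheaf.stalk (g x')) (X'.presheaf.stalk x') := (g.stalkMap x').hom.toAlgebra
  letI mR := FlatMod.moduleStalkOver g ((Scheme.Modules.pullback g).obj F) x'
  obtain ⟨t, hbc⟩ := isBaseChange_stalkUnit g F x'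
  haveI fl : Module.Flat (X.presheaf.stalk (g x')) (X'.presheaf.stalk x') := hfl
  haveI : IsLocalHom (algebraMap (X.presheaf.stalk (g x')) (X'.presheaf.stalk x')) :=
    inferInstanceAs (IsLocalHom (g.stalkMap x').hom)
  haveI ffl : Module.FaithfullyFlat (X.presheaf.stalk (g x')) (X'.presheaf.stalk x') :=
    Module.FaithfullyFlat.of_flat_of_isLocalHom
  intro a b hab
  have h1 : hbc.equiv ((1 : X'.presheaf.stalk x') ⊗ₜ[X.presheaf.stalk (g x')] a) =
      hbc.equiv ((1 : X'.presheaf.stalk x') ⊗ₜ[X.presheaf.stalk (g x')] b) := by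
    rw [hbc.equiv_tmul, hbc.equiv_tmul, one_smul, one_smul]
    exact hab
  exact Module.FaithfullyFlat.tensorProduct_mk_injective (A := X.presheaf.stalk (g x'))
    (B := X'.presheaf.stalk x') (F.presheaf.stalk (g x')) (hbc.equiv.injective h1)

/-- if `g.stalkMap x'` is surjective so is the stalk map `F_{g x'} → (g^*F)_{x'}`. -/
theorem stalkUnit_surjective_of_surjective (hs : Function.Surjective (g.stalkMap x').hom) :
    Function.Surjective (stalkUnit g F x') := by
  letI aRS : Algebra (X.presheaf.stalk (g x')) (X'.presheaf.stalk x') := (g.stalkMap x').hom.toAlgebra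
  letI mR := FlatMod.moduleStalkOver g ((Scheme.Modules.pullback g).obj F) x'
  obtain ⟨t, hbc⟩ := isBaseChange_stalkUnit g F x'
  intro y
  obtain ⟨z, rfl⟩ := hbc.equiv.surjective y
  induction z using TensorProduct.induction_on with
  | zero => exact ⟨0, by rw [map_zero, map_zero]⟩
  | tmul s n =>
    obtain ⟨r, rfl⟩ := hs s
    refine ⟨r • n, ?_⟩
    rw [hbc.equiv_tmul, stalkUnit_smul]
    rfl
  | add a b ha hb =>
    obtain ⟨a', ha'⟩ := ha
    obtain ⟨b', hb'⟩ := hb
    exact ⟨a' + b', by rw [map_add, map_add, ha', hb']⟩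

/-- if `g.stalkMap x'` is surjective, the kernel of the stalk map is `(ker) • F_{g x'}`. -/
theorem stalkUnit_eq_zero_iff_of_surjective (hs : Function.Surjective (g.stalkMap x').hom)
    (n : F.presheaf.stalk (g x')) :
    stalkUnit g F x' n = 0 ↔
      n ∈ RingHom.ker (g.stalkMap x').hom •
        (⊤ : Submodule (X.presheaf.stalk (g x')) (F.presheaf.stalk (g x'))) := by
  letI aRS : Algebra (X.presheaf.stalk (g x')) (X'.presheaf.stalk x') := (g.stalkMap x').hom.toAlgebra
  letI mR := FlatMod.moduleStalkOver g ((Scheme.Modules.pullback g).obj F) x'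
  obtain ⟨t, hbc⟩ := isBaseChange_stalkUnit g F x'
  have h1 : stalkUnit g F x' n =
      hbc.equiv ((1 : X'.presheaf.stalk x') ⊗ₜ[X.presheaf.stalk (g x')] n) := by
    rw [hbc.equiv_tmul, one_smul]
    rfl
  rw [h1, LinearEquiv.map_eq_zero_iff]
  exact one_tmul_eq_zero_iff (C := X.presheaf.stalk (g x')) (C' := X'.presheaf.stalk x') hs n

end consequences

section reflect
variable {F G : X.Modules} [F.IsQuasicoherent] [G.IsQuasicoherent]

omit [G.IsQuasicoherent] in
/-- **a flat pullback reflects injectivity on stalks.** -/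
theorem stalkHom_injective_of_pullback (u : F ⟶ G) (x' : X') (hfl : (g.stalkMap x').hom.Flat)
    (h : Function.Injective (stalkHom ((Scheme.Modules.pullback g).map u) x')) :
    Function.Injective (stalkHom u (g x')) := by
  intro a b hab
  apply stalkUnit_injective_of_flat g F x' hfl
  apply h
  rw [stalkUnit_stalkHom, stalkUnit_stalkHom, hab]

/-- **a flat pullback preserves injectivity on stalks.** -/
theorem stalkHom_pullback_injective_of_flat (u : F ⟶ G) (x' : X') (hfl : (g.stalkMap x').hom.Flat)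
    (h : Function.Injective (stalkHom u (g x'))) :
    Function.Injective (stalkHom ((Scheme.Modules.pullback g).map u) x') := by
  letI aRS : Algebra (X.presheaf.stalk (g x')) (X'.presheaf.stalk x') := (g.stalkMap x').hom.toAlgebra
  letI mRF := FlatMod.moduleStalkOver g ((Scheme.Modules.pullback g).obj F) x'
  letI mRG := FlatMod.moduleStalkOver g ((Scheme.Modules.pullback g).obj G) x'
  obtain ⟨tF, hF⟩ := isBaseChange_stalkUnit g F x'
  obtain ⟨tG, hG⟩ := isBaseChange_stalkUnit g G x'
  haveI fl : Module.Flat (X.presheaf.stalk (g x')) (X'.presheaf.stalk x') := hfl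
  have h1 : Function.Injective (LinearMap.lTensor (X'.presheaf.stalk x') (stalkLin u (g x'))) :=
    Module.Flat.lTensor_preserves_injective_linearMap (stalkLin u (g x')) h
  have h2 : ∀ z : X'.presheaf.stalk x' ⊗[X.presheaf.stalk (g x')] F.presheaf.stalk (g x'),
      stalkHom ((Scheme.Modules.pullback g).map u) x' (hF.equiv z) =
        hG.equiv (LinearMap.lTensor (X'.presheaf.stalk x') (stalkLin u (g x')) z) := by
    intro z
    induction z using TensorProduct.induction_on with
    | zero => rw [map_zero, map_zero, map_zero, map_zero]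
    | tmul s n =>
      rw [LinearMap.lTensor_tmul, hF.equiv_tmul, hG.equiv_tmul, stalkHom_smul]
      congr 1
      exact stalkUnit_stalkHom g u x' n
    | add a b ha hb => rw [map_add, map_add, ha, hb, map_add, map_add]
  intro a b hab
  obtain ⟨a', rfl⟩ := hF.equiv.surjective a
  obtain ⟨b', rfl⟩ := hF.equiv.surjective b
  rw [h2, h2] at hab
  rw [h1 (hG.equiv.injective hab)]

end reflect

end Groth.Agent.Lib.Helper26.StalkBC
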