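import Mathlib
import Groth.Agent.Lib.Helper26StalkBC
import Groth.Agent.Lib.Helper26FibFlatSch
import Groth.Agent.Lib.Helper26InjLim

/-!
# Injectivity on the fibre (helper26)

Namespace `Groth.Agent.Lib.Helper26.FibInj`.  For `f : X ⟶ Y`, `u : F' ⟶ F` and `x : X`:

* `FibInjAt f u x`: an element of `F'_x` whose image under `u_x` lies in `𝔪_y F_x` lies in `𝔪_y F'_x` (`y = f x`), i.e.
  `F'_x / 𝔪_y F'_x → F_x / 𝔪_y F_x` is injective.
* `fibInjAt_iff_fiber`: at a point `x = ι z` of the fibre `X_s`, `FibInjAt f u x` iff the stalk map of `ι^*u` at `z` is injective.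
* `fibInjAt_of_isPullback`: in a cartesian square, `FibInjAt` for the pulled back map at `x'` implies `FibInjAt` downstairs
  at the image of `x'` (faithfully flat descent along the base change of fibres).
-/

set_option autoImplicit false
set_option linter.style.haveILetI false
universe u
open CategoryTheory AlgebraicGeometry Limits TensorProduct IsLocalRing
open Groth.Agent.Lib.Helper2.PullbackSec Groth.Agent.Lib.Helper4.NormDelta
  Groth.Agent.Lib.Helper26.StalkBC Groth.Agent.Lib.Helper26.FibFlatSch Groth.Agent.Lib.Helper26.InjLim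

namespace Groth.Agent.Lib.Helper26.FibInj

variable {X Y : Scheme.{u}}

/-- fibrewise injectivity at `x`, element form. -/
def FibInjAt (f : X ⟶ Y) {F' F : X.Modules} (u : F' ⟶ F) (x : X) : Prop :=
  ∀ m : F'.presheaf.stalk x,
    stalkHom u x m ∈ (Ideal.map (f.stalkMap x).hom (maximalIdeal (Y.presheaf.stalk (f x)))) •
        (⊤ : Submodule (X.presheaf.stalk x) (F.presheaf.stalk x)) →
      m ∈ (Ideal.map (f.stalkMap x).hom (maximalIdeal (Y.presheaf.stalk (f x)))) •
        (⊤ : Submodule (X.presheaf.stalk x) (F'.presheaf.stalk x))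

theorem fibInjAt_congr (f : X ⟶ Y) {F' F : X.Modules} (u : F' ⟶ F) {x y : X} (e : x = y)
    (h : FibInjAt f u x) : FibInjAt f u y := by
  subst e
  exact h

/-- at a point of the fibre, `FibInjAt` is injectivity of the stalk map of the restriction to the fibre. -/
theorem fibInjAt_iff_fiber (f : X ⟶ Y) {F' F : X.Modules} [F'.IsQuasicoherent] [F.IsQuasicoherent]
    (u : F' ⟶ F) (s : Y) (z : f.fiber s) :
    FibInjAt f u (f.fiberι s z) ↔
      Function.Injective (stalkHom ((Scheme.Modules.pullback (f.fiberι s)).map u) z) := by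
  have hs : Function.Surjective ((f.fiberι s).stalkMap z).hom := (f.fiberι s).stalkMap_surjective z
  have hk := ker_stalkMap_fiberι f s z
  constructor
  · intro H
    rw [← AddMonoidHom.coe_coe, injective_iff_map_eq_zero]
    intro m' hm'
    obtain ⟨n, rfl⟩ := stalkUnit_surjective_of_surjective (f.fiberι s) F' z hs m'
    have h1 : stalkUnit (f.fiberι s) F z (stalkHom u (f.fiberι s z) n) = 0 := by
      rw [← stalkUnit_stalkHom]
      exact hm'
    rw [stalkUnit_eq_zero_iff_of_surjective (f.fiberι s) F z hs, hk] at h1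
    have h2 := H n h1
    rw [← hk, ← stalkUnit_eq_zero_iff_of_surjective (f.fiberι s) F' z hs] at h2
    exact h2
  · intro H m hm
    rw [← hk, ← stalkUnit_eq_zero_iff_of_surjective (f.fiberι s) F z hs, ← stalkUnit_stalkHom] at hm
    have h1 : stalkUnit (f.fiberι s) F' z m = 0 := by
      apply H
      rw [hm, map_zero]
    rw [stalkUnit_eq_zero_iff_of_surjective (f.fiberι s) F' z hs, hk] at h1
    exact h1

section square
variable {X' Y' : Scheme.{u}} {f : X ⟶ Y} {f' : X' ⟶ Y'} {g' : X' ⟶ X} {g : Y' ⟶ Y}

/-- the morphism of fibres in a commutative square. -/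
noncomputable abbrev fibMap (hsq : IsPullback g' f' f g) (s' : Y') : f'.fiber s' ⟶ f.fiber (g s') :=
  pullback.map _ _ _ _ g' (Spec.map (g.residueFieldMap s')) g hsq.w.symm (by simp)

theorem fibMap_fiberι (hsq : IsPullback g' f' f g) (s' : Y') :
    fibMap hsq s' ≫ f.fiberι (g s') = f'.fiberι s' ≫ g' :=
  pullback.lift_fst _ _ _

theorem fiberι_fibMap_apply (hsq : IsPullback g' f' f g) (s' : Y') (z' : f'.fiber s') :
    f.fiberι (g s') (fibMap hsq s' z') = g' (f'.fiberι s' z') := by
  rw [← Scheme.Hom.comp_apply, fibMap_fiberι, Scheme.Hom.comp_apply]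

theorem flat_fibMap (hsq : IsPullback g' f' f g) (s' : Y') : Flat (fibMap hsq s') := by
  have hpb := isPullback_fiberToSpecResidueField_of_isPullback hsq s'
  haveI : Flat (Spec.map (g.residueFieldMap s')) := by
    rw [Flat.SpecMap_iff]
    letI := (g.residueFieldMap s').hom.toAlgebra
    exact (inferInstance : Module.Flat (Y.residueField (g s')) (Y'.residueField s'))
  exact MorphismProperty.of_isPullback (P := @Flat) hpb.flip inferInstance

/-- **descent of injectivity on the fibre along a base change.** -/
theorem fiber_injective_of_isPullback (hsq : IsPullback g' f' f g) {F' F : X.Modules}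
    [F'.IsQuasicoherent] [F.IsQuasicoherent] (u : F' ⟶ F) (s' : Y') (z' : f'.fiber s')
    (H : Function.Injective (stalkHom ((Scheme.Modules.pullback (f'.fiberι s')).map
      ((Scheme.Modules.pullback g').map u)) z')) :
    Function.Injective (stalkHom ((Scheme.Modules.pullback (f.fiberι (g s'))).map u)
      (fibMap hsq s' z')) := by
  have h1 := stalkHom_injective_comp (f'.fiberι s') g' (f'.fiberι s' ≫ g') u rfl z' H
  have h2 := stalkHom_injective_of_comp (fibMap hsq s') (f.fiberι (g s')) (f'.fiberι s' ≫ g') u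
    (fibMap_fiberι hsq s') z' h1
  haveI := flat_fibMap hsq s'
  haveI : ((Scheme.Modules.pullback (f.fiberι (g s'))).obj F').IsQuasicoherent :=
    isQuasicoherent_pullback _ F'
  haveI : ((Scheme.Modules.pullback (f.fiberι (g s'))).obj F).IsQuasicoherent :=
    isQuasicoherent_pullback _ F
  exact stalkHom_injective_of_pullback (fibMap hsq s') _ z' (Flat.stalkMap (fibMap hsq s') z') h2

/-- **`FibInjAt` descends along a base change.** -/
theorem fibInjAt_of_isPullback (hsq : IsPullback g' f' f g) {F' F : X.Modules}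
    [F'.IsQuasicoherent] [F.IsQuasicoherent] (u : F' ⟶ F) (x' : X')
    (H : FibInjAt f' ((Scheme.Modules.pullback g').map u) x') : FibInjAt f u (g' x') := by
  haveI : ((Scheme.Modules.pullback g').obj F').IsQuasicoherent := isQuasicoherent_pullback _ F'
  haveI : ((Scheme.Modules.pullback g').obj F).IsQuasicoherent := isQuasicoherent_pullback _ F
  have H1 : FibInjAt f' ((Scheme.Modules.pullback g').map u) (f'.fiberι (f' x') (f'.asFiber x')) :=
    fibInjAt_congr f' _ (f'.fiberι_asFiber x').symm H
  rw [fibInjAt_iff_fiber] at H1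
  have H2 := fiber_injective_of_isPullback hsq u (f' x') (f'.asFiber x') H1
  rw [← fibInjAt_iff_fiber] at H2
  refine fibInjAt_congr f u ?_ H2
  rw [fiberι_fibMap_apply, f'.fiberι_asFiber x']

end square

end Groth.Agent.Lib.Helper26.FibInj
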