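import Mathlib
import Groth.Agent.Lib.Helper26FibInj
import Groth.Agent.Lib.Helper26StalkInj
import Groth.Agent.Lib.Helper2FibreCrit2
import Groth.Agent.S0393

/-!
# "Injective with flat cokernel" versus injectivity on the fibre (helper26)

Namespace `Groth.Agent.Lib.Helper26.InjFlatFib`.

* `stalk_exact_cokernel`: `F'_x → F_x → (Coker u)_x → 0` is exact (finitely presented quasi-coherent modules).
* `fibInjAt_of_injective_of_flat`: `u_x` injective and `Coker u` flat over the base at `x` imply `FibInjAt f u x`.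
* `injective_and_flat_of_fibInjAt_noeth`: conversely on a locally Noetherian scheme when `F` is flat at `x`
  (via helper5's S0393).
-/

set_option autoImplicit false
set_option linter.style.haveILetI false
universe u
open CategoryTheory AlgebraicGeometry Limits TensorProduct IsLocalRing
open Groth.Agent.Lib.Helper2.PullbackSec Groth.Agent.Lib.Helper4.NormDelta
  Groth.Agent.Lib.Helper26.StalkBC Groth.Agent.Lib.Helper26.FibInj Groth.Agent.Lib.Helper26.StalkInj
  Groth.Agent.Lib.Helper26.FlatLim Groth.Agent.Lib.Helper26.RelFibFlat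

namespace Groth.Agent.Lib.Helper26.InjFlatFib

variable {X Y : Scheme.{u}}

theorem stalkHom_zero {F G : X.Modules} (x : X) (m : F.presheaf.stalk x) :
    stalkHom (0 : F ⟶ G) x m = 0 := by
  obtain ⟨V, hxV, t, rfl⟩ := F.presheaf.exists_germ_eq m
  rw [stalkHom_germ]
  have : Scheme.Modules.Hom.app (0 : F ⟶ G) V t = 0 := rfl
  rw [this, map_zero]

/-- exactness of `F'_x → F_x → (Coker u)_x → 0`. -/
theorem stalk_exact_cokernel {F' F : X.Modules} [F'.IsQuasicoherent] [F.IsQuasicoherent]
    (hF : SheafOfModules.IsFinitePresentation (R := X.ringCatSheaf) F)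
    (hF' : SheafOfModules.IsFinitePresentation (R := X.ringCatSheaf) F') (u : F' ⟶ F) (x : X) :
    Function.Surjective (stalkHom (cokernel.π u) x) ∧
      ∀ y : F.presheaf.stalk x, stalkHom (cokernel.π u) x y = 0 ↔
        ∃ m : F'.presheaf.stalk x, stalkHom u x m = y := by
  refine ⟨stalkLin_surjective (cokernel.π u) x, fun y => ⟨fun hy => ?_, ?_⟩⟩
  · obtain ⟨V, hxV, t, rfl⟩ := F.presheaf.exists_germ_eq y
    rw [stalkHom_germ] at hy
    have h0 : (cokernel u).presheaf.germ V x hxV (Scheme.Modules.Hom.app (cokernel.π u) V t) =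
        (cokernel u).presheaf.germ V x hxV 0 := by rw [hy, map_zero]
    obtain ⟨W, hxW, i₁, i₂, hW⟩ := (cokernel u).presheaf.germ_eq x hxV hxV _ 0 h0
    rw [map_zero] at hW
    obtain ⟨_, ⟨W', hW', rfl⟩, hxW', hW'W⟩ :=
      X.isBasis_affineOpens.exists_subset_of_mem_open (show x ∈ (W : Set X) from hxW) W.isOpen
    have hW'W' : W' ≤ W := hW'W
    have hle : W' ≤ V := le_trans hW'W' (leOfHom i₁)
    have h1 : Scheme.Modules.Hom.app (cokernel.π u) W' (F.presheaf.map (homOfLE hle).op t) = 0 := by
      rw [Groth.Agent.Lib.Helper2.ModExact.app_map]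
      have e : (homOfLE hle) = (homOfLE hW'W') ≫ i₁ := Subsingleton.elim _ _
      rw [e, op_comp, Functor.map_comp, ConcreteCategory.comp_apply, hW, map_zero]
    obtain ⟨m, hm⟩ := ((exact_app_cokernel hF hF' u hW').2 _).1 h1
    refine ⟨F'.presheaf.germ W' x hxW' m, ?_⟩
    rw [stalkHom_germ, hm]
    exact TopCat.Presheaf.germ_res_apply F.presheaf (homOfLE hle) x hxW' t
  · rintro ⟨m, rfl⟩
    rw [stalkHom_comp, cokernel.condition, stalkHom_zero]

section alg
variable (f : X ⟶ Y) {F' F : X.Modules} (u : F' ⟶ F) (x : X)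

/-- `J • ⊤` for `J = 𝔪_y O_{X,x}` is `𝔪_y • ⊤` over the local ring of the base. -/
theorem mem_smul_top_iff (G : X.Modules) (m : G.presheaf.stalk x) :
    letI := FlatMod.moduleStalkOver f G x
    m ∈ (Ideal.map (f.stalkMap x).hom (maximalIdeal (Y.presheaf.stalk (f x)))) •
        (⊤ : Submodule (X.presheaf.stalk x) (G.presheaf.stalk x)) ↔
      m ∈ (maximalIdeal (Y.presheaf.stalk (f x))) •
        (⊤ : Submodule (Y.presheaf.stalk (f x)) (G.presheaf.stalk x)) := by
  letI aAB : Algebra (Y.presheaf.stalk (f x)) (X.presheaf.stalk x) := (f.stalkMap x).hom.toAlgebra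
  letI mA := FlatMod.moduleStalkOver f G x
  haveI : IsScalarTower (Y.presheaf.stalk (f x)) (X.presheaf.stalk x) (G.presheaf.stalk x) :=
    IsScalarTower.of_algebraMap_smul (fun b n => rfl)
  have h := Ideal.smul_restrictScalars (maximalIdeal (Y.presheaf.stalk (f x)))
    (⊤ : Submodule (X.presheaf.stalk x) (G.presheaf.stalk x))
  rw [Submodule.restrictScalars_top] at h
  rw [← h]
  rfl

/-- `1 ⊗ m = 0` in `κ(y) ⊗ G_x` iff `m ∈ 𝔪_y G_x`. -/
theorem one_tmul_eq_zero_iff' (G : X.Modules) (m : G.presheaf.stalk x) :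
    letI := FlatMod.moduleStalkOver f G x
    (1 : ResidueField (Y.presheaf.stalk (f x))) ⊗ₜ[Y.presheaf.stalk (f x)] m = 0 ↔
      m ∈ (Ideal.map (f.stalkMap x).hom (maximalIdeal (Y.presheaf.stalk (f x)))) •
        (⊤ : Submodule (X.presheaf.stalk x) (G.presheaf.stalk x)) := by
  letI mA := FlatMod.moduleStalkOver f G x
  rw [mem_smul_top_iff f x G m]
  have h := one_tmul_eq_zero_iff (C := Y.presheaf.stalk (f x))
    (C' := ResidueField (Y.presheaf.stalk (f x))) (M := G.presheaf.stalk x)
    IsLocalRing.residue_surjective m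
  rw [h]
  have hk : RingHom.ker (algebraMap (Y.presheaf.stalk (f x)) (ResidueField (Y.presheaf.stalk (f x)))) =
      maximalIdeal (Y.presheaf.stalk (f x)) := IsLocalRing.ker_residue
  rw [hk]

/-- the stalk map as a linear map over the local ring of the base. -/
noncomputable def stalkLinOver :
    letI := FlatMod.moduleStalkOver f F' x
    letI := FlatMod.moduleStalkOver f F x
    F'.presheaf.stalk x →ₗ[Y.presheaf.stalk (f x)] F.presheaf.stalk x :=
  letI := FlatMod.moduleStalkOver f F' x
  letI := FlatMod.moduleStalkOver f F x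
  { toFun := fun m => stalkHom u x m
    map_add' := fun a b => map_add _ a b
    map_smul' := fun a m => stalkHom_smul u x ((f.stalkMap x).hom a) m }

end alg

/-- **(A) ⇒ (B)**: injective with flat cokernel implies injective on the fibre. -/
theorem fibInjAt_of_injective_of_flat (f : X ⟶ Y) {F' F : X.Modules} [F'.IsQuasicoherent]
    [F.IsQuasicoherent] (hF : SheafOfModules.IsFinitePresentation (R := X.ringCatSheaf) F)
    (hF' : SheafOfModules.IsFinitePresentation (R := X.ringCatSheaf) F') (u : F' ⟶ F) (x : X)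
    (hinj : Function.Injective (stalkHom u x)) (hfl : FlatMod.IsFlatOverAt f (cokernel u) x) :
    FibInjAt f u x := by
  letI mA' := FlatMod.moduleStalkOver f F' x
  letI mA := FlatMod.moduleStalkOver f F x
  letI mP := FlatMod.moduleStalkOver f (cokernel u) x
  haveI : Module.Flat (Y.presheaf.stalk (f x)) ((cokernel u).presheaf.stalk x) := hfl
  obtain ⟨hsurj, hex⟩ := stalk_exact_cokernel hF hF' u x
  have hexact : Function.Exact (stalkLinOver f u x) (stalkLinOver f (cokernel.π u) x) := by
    intro y
    constructor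
    · intro hy
      obtain ⟨m, hm⟩ := (hex y).1 hy
      exact ⟨m, hm⟩
    · rintro ⟨m, hm⟩
      exact (hex y).2 ⟨m, hm⟩
  have hlt : Function.Injective
      (LinearMap.lTensor (ResidueField (Y.presheaf.stalk (f x))) (stalkLinOver f u x)) :=
    LinearMap.lTensor_injective_of_exact_of_flat (stalkLinOver f (cokernel.π u) x) hsurj
      (stalkLinOver f u x) hinj hexact _
  intro m hm
  rw [← one_tmul_eq_zero_iff' f x F] at hm
  rw [← one_tmul_eq_zero_iff' f x F']
  apply hlt
  rw [LinearMap.lTensor_tmul, map_zero]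
  exact hm

/-- **(B) ⇒ (A), locally Noetherian case** (helper5's S0393 on stalks). -/
theorem injective_and_flat_of_fibInjAt_noeth [IsLocallyNoetherian X] (f : X ⟶ Y)
    {F' F : X.Modules} [F'.IsQuasicoherent] [F.IsQuasicoherent]
    (hF : SheafOfModules.IsFinitePresentation (R := X.ringCatSheaf) F)
    (hF' : SheafOfModules.IsFinitePresentation (R := X.ringCatSheaf) F') (u : F' ⟶ F) (x : X)
    (hflat : FlatMod.IsFlatOverAt f F x) (H : FibInjAt f u x) :
    Function.Injective (stalkHom u x) ∧ FlatMod.IsFlatOverAt f (cokernel u) x := by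
  letI aAB : Algebra (Y.presheaf.stalk (f x)) (X.presheaf.stalk x) := (f.stalkMap x).hom.toAlgebra
  letI mA' := FlatMod.moduleStalkOver f F' x
  letI mA := FlatMod.moduleStalkOver f F x
  letI mP := FlatMod.moduleStalkOver f (cokernel u) x
  haveI : IsScalarTower (Y.presheaf.stalk (f x)) (X.presheaf.stalk x) (F'.presheaf.stalk x) :=
    IsScalarTower.of_algebraMap_smul (fun b n => rfl)
  haveI : IsLocalHom (algebraMap (Y.presheaf.stalk (f x)) (X.presheaf.stalk x)) :=
    inferInstanceAs (IsLocalHom (f.stalkMap x).hom)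
  haveI : Module.Flat (Y.presheaf.stalk (f x)) (F.presheaf.stalk x) := hflat
  haveI : SheafOfModules.IsFiniteType (R := X.ringCatSheaf) F' :=
    Groth.Agent.Helper18Strict.isFT_of_isFP F' hF'
  haveI : Module.Finite (X.presheaf.stalk x) (F'.presheaf.stalk x) :=
    Groth.Agent.Lib.Helper2.FibreCrit.finite_stalk F' x
  have hlt : Function.Injective
      (LinearMap.lTensor (ResidueField (Y.presheaf.stalk (f x))) (stalkLinOver f u x)) := by
    rw [injective_iff_map_eq_zero]
    have hone : ∀ t : ResidueField (Y.presheaf.stalk (f x)) ⊗[Y.presheaf.stalk (f x)]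
        F'.presheaf.stalk x, ∃ n : F'.presheaf.stalk x,
        t = (1 : ResidueField (Y.presheaf.stalk (f x))) ⊗ₜ[Y.presheaf.stalk (f x)] n := by
      intro t
      induction t using TensorProduct.induction_on with
      | zero => exact ⟨0, (TensorProduct.tmul_zero _ _).symm⟩
      | tmul k n =>
        obtain ⟨a, rfl⟩ := IsLocalRing.residue_surjective k
        refine ⟨a • n, ?_⟩
        rw [TensorProduct.tmul_smul, TensorProduct.smul_tmul']
        congr 1
        rw [Algebra.smul_def, mul_one]
        rfl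
      | add a b ha hb =>
        obtain ⟨a', rfl⟩ := ha
        obtain ⟨b', rfl⟩ := hb
        exact ⟨a' + b', (TensorProduct.tmul_add _ _ _).symm⟩
    intro t ht
    obtain ⟨n, rfl⟩ := hone t
    rw [LinearMap.lTensor_tmul] at ht
    have h1 := (one_tmul_eq_zero_iff' f x F _).1 ht
    exact (one_tmul_eq_zero_iff' f x F' n).2 (H n h1)
  obtain ⟨hinj, hfl⟩ := Groth.Agent.S0393.result (R := Y.presheaf.stalk (f x))
    (S := X.presheaf.stalk x) (M := F.presheaf.stalk x) (N := F'.presheaf.stalk x)
    (stalkLinOver f u x) hlt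
  refine ⟨hinj, ?_⟩
  obtain ⟨hsurj, hex⟩ := stalk_exact_cokernel hF hF' u x
  have hker : LinearMap.ker (stalkLinOver f (cokernel.π u) x) = LinearMap.range (stalkLinOver f u x) := by
    ext y
    rw [LinearMap.mem_ker, LinearMap.mem_range]
    exact hex y
  let E : (F.presheaf.stalk x ⧸ LinearMap.range (stalkLinOver f u x)) ≃ₗ[Y.presheaf.stalk (f x)]
      (cokernel u).presheaf.stalk x :=
    (Submodule.quotEquivOfEq _ _ hker.symm).trans
      (LinearMap.quotKerEquivOfSurjective (stalkLinOver f (cokernel.π u) x) hsurj)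
  exact Module.Flat.of_linearEquiv E.symm

end Groth.Agent.Lib.Helper26.InjFlatFib
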