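import Mathlib
import Groth.Agent.Lib.Helper26InjFlatFib
import Groth.Agent.Lib.Helper26HomDesc

/-!
# Fibrewise injectivity implies "injective with flat cokernel", finite presentation case (helper26)

Namespace `Groth.Agent.Lib.Helper26.FibInjLim`.

* `fibInjAt_of_sq`, `fibInjAt_of_comp`: invariance of `FibInjAt` under isomorphisms.
* `injective_and_flat_of_fibInjAt_sys`: for a cofiltered system of locally Noetherian schemes `S_i` with limit `S`,
  `f₀ : X₀ ⟶ S_{i₀}` locally of finite presentation and `h₀ : F₀' ⟶ F₀` on `X₀`, with base change `f : X ⟶ S`: if `q^*F₀` is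
  `f`-flat at `x` and `q^*h₀` is injective on the fibre at `x`, then `(q^*h₀)_x` is injective with `f`-flat cokernel at `x`.
* `injective_and_flat_of_fibInjAt_affine`: the same for `f : X ⟶ Spec A` of finite presentation.
-/

set_option autoImplicit false
set_option linter.style.haveILetI false
universe u
open CategoryTheory AlgebraicGeometry Limits TensorProduct IsLocalRing
open Groth.Agent.Lib.Helper2.PullbackSec Groth.Agent.Lib.Helper4.NormDelta
  Groth.Agent.Lib.Helper26.StalkBC Groth.Agent.Lib.Helper26.FibInj Groth.Agent.Lib.Helper26.InjFlatFib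
  Groth.Agent.Lib.Helper26.FlatLim Groth.Agent.Lib.Helper26.ModLim2 Groth.Agent.Lib.Helper26.InjFlatBC
  Groth.Agent.Lib.Helper26.InjLim Groth.Agent.Lib.Helper26.FGZ Groth.Agent.Lib.Helper26.HomDesc

namespace Groth.Agent.Lib.Helper26.FibInjLim

section transport
variable {X Y : Scheme.{u}}

theorem stalkHom_mem_smul_top {M N : X.Modules} (ψ : M ⟶ N) (x : X) (J : Ideal (X.presheaf.stalk x))
    (m : M.presheaf.stalk x)
    (hm : m ∈ J • (⊤ : Submodule (X.presheaf.stalk x) (M.presheaf.stalk x))) :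
    stalkHom ψ x m ∈ J • (⊤ : Submodule (X.presheaf.stalk x) (N.presheaf.stalk x)) := by
  have h1 : (J • (⊤ : Submodule (X.presheaf.stalk x) (M.presheaf.stalk x))).map (stalkLin ψ x) ≤
      J • (⊤ : Submodule (X.presheaf.stalk x) (N.presheaf.stalk x)) := by
    rw [Submodule.map_smul'']
    exact Submodule.smul_mono le_rfl le_top
  exact h1 (Submodule.mem_map_of_mem hm)

/-- `FibInjAt` is invariant under conjugation by isomorphisms. -/
theorem fibInjAt_of_sq (f : X ⟶ Y) {M N M' N' : X.Modules} (eM : M ≅ M') (eN : N ≅ N') (φ : M ⟶ N)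
    (φ' : M' ⟶ N') (w : φ ≫ eN.hom = eM.hom ≫ φ') (x : X) (H : FibInjAt f φ x) :
    FibInjAt f φ' x := by
  have e : φ = eM.hom ≫ φ' ≫ eN.inv := by
    rw [← Category.assoc, ← w, Category.assoc, Iso.hom_inv_id, Category.comp_id]
  intro m' hm'
  have h1 : stalkHom φ x (stalkHom eM.inv x m') = stalkHom eN.inv x (stalkHom φ' x m') := by
    rw [stalkHom_comp, stalkHom_comp, e]
    simp
  have h2 := H (stalkHom eM.inv x m') (by
    rw [h1]
    exact stalkHom_mem_smul_top eN.inv x _ _ hm')
  have h3 := stalkHom_mem_smul_top eM.hom x _ _ h2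
  rw [stalkHom_comp, Iso.inv_hom_id, stalkHom_id] at h3
  exact h3

theorem fibInjAt_of_comp {X₁ Z : Scheme.{u}} (f : X ⟶ Y) (a : X ⟶ X₁) (b : X₁ ⟶ Z) (p : X ⟶ Z)
    {F G : Z.Modules} (h : F ⟶ G) (e : a ≫ b = p) (x : X)
    (H : FibInjAt f ((Scheme.Modules.pullback p).map h) x) :
    FibInjAt f ((Scheme.Modules.pullback a).map ((Scheme.Modules.pullback b).map h)) x :=
  fibInjAt_of_sq f ((compIso a b p e).app F).symm ((compIso a b p e).app G).symm _ _
    (by
      rw [Iso.symm_hom, Iso.symm_hom, Iso.app_inv, Iso.app_inv, ← cancel_mono ((compIso a b p e).hom.app G),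
        Category.assoc, Category.assoc, Iso.inv_hom_id_app, Category.comp_id, compIso_sq,
        Iso.inv_hom_id_app_assoc]) x H

end transport

section sys
variable {I : Type u} [SmallCategory I] [IsCofiltered I] (D : I ⥤ Scheme.{u}) (c : Cone D)
  (hc : IsLimit c) [∀ (i j : I) (f : i ⟶ j), IsAffineHom (D.map f)] (i₀ : I)

include hc in
/-- **fibrewise injectivity implies injectivity with flat cokernel, over a limit of locally Noetherian schemes.** -/
theorem injective_and_flat_of_fibInjAt_sys (hN : ∀ i : I, IsLocallyNoetherian (D.obj i))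
    {X₀ : Scheme.{u}} (f₀ : X₀ ⟶ D.obj i₀) [LocallyOfFinitePresentation f₀]
    (F₀' F₀ : X₀.Modules) [F₀'.IsQuasicoherent] [F₀.IsQuasicoherent]
    (hF₀' : SheafOfModules.IsFinitePresentation (R := X₀.ringCatSheaf) F₀')
    (hF₀ : SheafOfModules.IsFinitePresentation (R := X₀.ringCatSheaf) F₀) (h₀ : F₀' ⟶ F₀)
    {P : Scheme.{u}} {qX : P ⟶ X₀} {pX : P ⟶ c.pt} (hP : IsPullback qX pX f₀ (c.π.app i₀)) (x : P)
    (hflat : FlatMod.IsFlatOverAt pX ((Scheme.Modules.pullback qX).obj F₀) x)
    (H : FibInjAt pX ((Scheme.Modules.pullback qX).map h₀) x) :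
    Function.Injective (stalkHom ((Scheme.Modules.pullback qX).map h₀) x) ∧
      FlatMod.IsFlatOverAt pX (cokernel ((Scheme.Modules.pullback qX).map h₀)) x := by
  haveI := hF₀
  obtain ⟨k, hk⟩ := exists_stage_isFlatOverAt D c hc i₀ f₀ F₀ (hP := hP) x hflat
  -- the stage `k`
  have hw : c.π.app k.left ≫ D.map k.hom = c.π.app i₀ := c.w k.hom
  let p := pullback.fst f₀ (D.map k.hom)
  let b := pullback.snd f₀ (D.map k.hom)
  have hpb : IsPullback p b f₀ (D.map k.hom) := IsPullback.of_hasPullback f₀ (D.map k.hom)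
  let v : P ⟶ pullback f₀ (D.map k.hom) :=
    pullback.lift qX (pX ≫ c.π.app k.left) (by rw [hP.w, Category.assoc, hw])
  have hv1 : v ≫ p = qX := pullback.lift_fst _ _ _
  have hv2 : v ≫ b = pX ≫ c.π.app k.left := pullback.lift_snd _ _ _
  have hleft : IsPullback v pX b (c.π.app k.left) := by
    refine IsPullback.of_right ?_ hv2 hpb
    rw [hv1, hw]
    exact hP
  have flat_k : FlatMod.IsFlatOverAt b ((Scheme.Modules.pullback p).obj F₀) (v x) :=
    hk k (𝟙 k) p b hpb v hv1 hv2
  haveI : LocallyOfFinitePresentation b := MorphismProperty.of_isPullback hpb inferInstance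
  haveI : ((Scheme.Modules.pullback p).obj F₀').IsQuasicoherent := isQuasicoherent_pullback p F₀'
  haveI : ((Scheme.Modules.pullback p).obj F₀).IsQuasicoherent := isQuasicoherent_pullback p F₀
  have hF₁' := Groth.Agent.Helper18Strict.isFP_pullback p F₀' hF₀'
  have hF₁ := Groth.Agent.Helper18Strict.isFP_pullback p F₀ hF₀
  -- fibrewise injectivity at the stage
  have fib_k : FibInjAt b ((Scheme.Modules.pullback p).map h₀) (v x) :=
    fibInjAt_of_isPullback hleft _ x (fibInjAt_of_comp pX v p qX h₀ hv1 x H)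
  -- the Noetherian case
  haveI : IsLocallyNoetherian (D.obj k.left) := hN k.left
  haveI : IsLocallyNoetherian (pullback f₀ (D.map k.hom)) :=
    LocallyOfFiniteType.isLocallyNoetherian b
  obtain ⟨k1, k2⟩ := injective_and_flat_of_fibInjAt_noeth b hF₁ hF₁' _ (v x) flat_k fib_k
  -- back to the limit
  obtain ⟨l1, l2⟩ := stalkHom_injective_and_coker_flat_pullback hleft _ _ hF₁' hF₁
    ((Scheme.Modules.pullback p).map h₀) x k1 k2
  exact ⟨stalkHom_injective_comp v p qX h₀ hv1 x l1, isFlatOverAt_cokernel_comp v p qX h₀ hv1 pX x l2⟩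

end sys

section affine

theorem isLocallyNoetherian_specDiagram {A : Type u} [CommRing A] (i : (FGSub A)ᵒᵖ) :
    IsLocallyNoetherian ((specDiagram A).obj i) := by
  haveI : Algebra.FiniteType ℤ ↥i.unop.1 := (Subalgebra.fg_iff_finiteType i.unop.1).1 i.unop.2
  haveI : IsNoetherianRing ↥i.unop.1 := Algebra.FiniteType.isNoetherianRing ℤ _
  show IsLocallyNoetherian (Spec (CommRingCat.of ↥i.unop.1))
  infer_instance

/-- **fibrewise injectivity implies injectivity with flat cokernel**, for `X` of finite presentation over an affine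
scheme. -/
theorem injective_and_flat_of_fibInjAt_affine {A : Type u} [CommRing A] {X : Scheme.{u}}
    (f : X ⟶ Spec (CommRingCat.of A)) [LocallyOfFinitePresentation f] [QuasiCompact f]
    [QuasiSeparated f] (F' F : X.Modules) [F'.IsQuasicoherent] [F.IsQuasicoherent]
    (hF' : SheafOfModules.IsFinitePresentation (R := X.ringCatSheaf) F')
    (hF : SheafOfModules.IsFinitePresentation (R := X.ringCatSheaf) F) (u : F' ⟶ F) (x : X)
    (hflat : FlatMod.IsFlatOverAt f F x) (H : FibInjAt f u x) :
    Function.Injective (stalkHom u x) ∧ FlatMod.IsFlatOverAt f (cokernel u) x := by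
  obtain ⟨i₀, X₀, f₀, q, F₀', F₀, h₀, e', e, hf₀, hq', hq, hfp', hfp, hsq, hcompat⟩ :=
    exists_descent f F' F hF' hF u
  haveI := hf₀
  haveI := hq'
  haveI := hq
  have hflat' : FlatMod.IsFlatOverAt f ((Scheme.Modules.pullback q).obj F₀) x :=
    isFlatOverAt_of_iso f e.symm x hflat
  have w : u ≫ e.symm.hom = e'.symm.hom ≫ (Scheme.Modules.pullback q).map h₀ := by
    rw [Iso.symm_hom, Iso.symm_hom, Iso.eq_inv_comp, ← Category.assoc, ← hcompat, Category.assoc,
      Iso.hom_inv_id, Category.comp_id]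
  have H' : FibInjAt f ((Scheme.Modules.pullback q).map h₀) x :=
    fibInjAt_of_sq f e'.symm e.symm u _ w x H
  obtain ⟨r1, r2⟩ := injective_and_flat_of_fibInjAt_sys (specDiagram A) (specCone A) (specIsLimit A) i₀
    (fun i => isLocallyNoetherian_specDiagram i) f₀ F₀' F₀ hfp' hfp h₀ hsq x hflat' H'
  exact ⟨stalkHom_injective_of_sq e' e _ u hcompat x r1,
    isFlatOverAt_cokernel_of_sq f e' e _ u hcompat x r2⟩

end affine

end Groth.Agent.Lib.Helper26.FibInjLim
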