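import Mathlib
import Groth.Agent.Lib.Helper26FibInjLim
import Groth.Agent.Lib.Helper2FFComp

/-!
# Passing to charts for "injective with flat cokernel" and fibrewise injectivity (helper26)

Namespace `Groth.Agent.Lib.Helper26.FibInjChart`.  For a commutative square `f₁ ≫ ι = j ≫ f` and a point `x₁` at which the
stalk maps of `j` and (at `f₁ x₁`) of `ι` are bijective (e.g. open immersions):

* `isFlatOverAt_chart`: flatness of `F` over `Y` at `j x₁` gives flatness of `j^*F` over `Y₁` at `x₁`;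
* `fibInjAt_chart`: `FibInjAt f u (j x₁)` gives `FibInjAt f₁ (j^*u) x₁`;
* `of_chart`: "stalk map injective with flat cokernel" for `j^*u` at `x₁` gives the same for `u` at `j x₁`.
-/

set_option autoImplicit false
set_option linter.style.haveILetI false
universe u
open CategoryTheory AlgebraicGeometry Limits TensorProduct IsLocalRing
open Groth.Agent.Lib.Helper2.PullbackSec Groth.Agent.Lib.Helper4.NormDelta
  Groth.Agent.Lib.Helper26.StalkBC Groth.Agent.Lib.Helper26.FibInj Groth.Agent.Lib.Helper26.InjFlatFib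
  Groth.Agent.Lib.Helper26.FlatLim Groth.Agent.Lib.Helper26.InjFlatBC
  Groth.Agent.Lib.Helper2.FlatOver Groth.Agent.Lib.Helper2.FFComp

namespace Groth.Agent.Lib.Helper26.FibInjChart

section base
variable {X Y₁ Y : Scheme.{u}}

/-- flatness over `Y` through `ι` with bijective stalk map is flatness over `Y₁`. -/
theorem isFlatOverAt_of_comp_bijective (p : X ⟶ Y₁) (ι : Y₁ ⟶ Y) (G : X.Modules) (x : X)
    (hι : Function.Bijective (ι.stalkMap (p x)).hom)
    (h : FlatMod.IsFlatOverAt (p ≫ ι) G x) : FlatMod.IsFlatOverAt p G x := by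
  unfold FlatMod.IsFlatOverAt at h ⊢
  letI mA := FlatMod.moduleStalkOver (p ≫ ι) G x
  letI mB := FlatMod.moduleStalkOver p G x
  exact @flat_of_semilinear_equiv (Y.presheaf.stalk ((p ≫ ι).base x)) (Y₁.presheaf.stalk (p.base x))
    (G.presheaf.stalk x) (G.presheaf.stalk x) _ _ _ _ mA mB
    (RingEquiv.ofBijective ((ι.stalkMap (p x)).hom :
      ↑(Y.presheaf.stalk ((p ≫ ι).base x)) →+* ↑(Y₁.presheaf.stalk (p.base x))) hι)
    (AddEquiv.refl (G.presheaf.stalk x)) (fun r m => smul_compat p ι G x r m) h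

/-- the ideal `𝔪_y O_{X,x}`. -/
noncomputable def fibIdeal (q : X ⟶ Y) (x : X) : Ideal (X.presheaf.stalk x) :=
  Ideal.map (q.stalkMap x).hom (maximalIdeal (Y.presheaf.stalk (q x)))

theorem fibIdeal_comp {X₁ : Scheme.{u}} (j : X₁ ⟶ X) (f : X ⟶ Y) (x₁ : X₁) :
    fibIdeal (j ≫ f) x₁ = Ideal.map (j.stalkMap x₁).hom (fibIdeal f (j x₁)) := by
  unfold fibIdeal
  rw [Ideal.map_map, Scheme.Hom.stalkMap_comp]
  rfl

theorem map_maximalIdeal_of_bijective {R S : Type*} [CommRing R] [CommRing S] [IsLocalRing R]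
    [IsLocalRing S] (ψ : R →+* S) (hψ : Function.Bijective ψ) :
    Ideal.map ψ (maximalIdeal R) = maximalIdeal S := by
  apply le_antisymm
  · rw [Ideal.map_le_iff_le_comap]
    intro a ha
    rw [Ideal.mem_comap, mem_maximalIdeal, mem_nonunits_iff] at *
    intro hu
    apply ha
    obtain ⟨b, hb⟩ := hu.exists_right_inv
    obtain ⟨b', rfl⟩ := hψ.2 b
    refine IsUnit.of_mul_eq_one b' (hψ.1 ?_)
    rw [map_mul, hb, map_one]
  · intro b hb
    obtain ⟨a, rfl⟩ := hψ.2 b
    refine Ideal.mem_map_of_mem ψ ?_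
    rw [mem_maximalIdeal, mem_nonunits_iff] at *
    exact fun hu => hb (hu.map ψ)

theorem fibIdeal_comp_bijective (p : X ⟶ Y₁) (ι : Y₁ ⟶ Y) (x : X)
    (hι : Function.Bijective (ι.stalkMap (p x)).hom) :
    fibIdeal (p ≫ ι) x = fibIdeal p x := by
  unfold fibIdeal
  rw [show maximalIdeal (Y₁.presheaf.stalk (p x)) =
      Ideal.map (ι.stalkMap (p x)).hom (maximalIdeal (Y.presheaf.stalk (ι (p x)))) from
    (map_maximalIdeal_of_bijective _ hι).symm, Ideal.map_map, Scheme.Hom.stalkMap_comp]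
  rfl

end base

section chart
variable {X₁ Y₁ X Y : Scheme.{u}} (j : X₁ ⟶ X) (ι : Y₁ ⟶ Y) (f₁ : X₁ ⟶ Y₁) (f : X ⟶ Y)
  (hcomm : f₁ ≫ ι = j ≫ f) (x₁ : X₁)

include hcomm in
theorem isFlatOverAt_chart (hj : Function.Bijective (j.stalkMap x₁).hom)
    (hι : Function.Bijective (ι.stalkMap (f₁ x₁)).hom) (F : X.Modules) [F.IsQuasicoherent]
    (h : FlatMod.IsFlatOverAt f F (j x₁)) :
    FlatMod.IsFlatOverAt f₁ ((Scheme.Modules.pullback j).obj F) x₁ := by
  have h1 := (isFlatOverAt_pullback_iff j f F x₁ (RingHom.Flat.of_bijective hj)).1 h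
  rw [← hcomm] at h1
  exact isFlatOverAt_of_comp_bijective f₁ ι _ x₁ hι h1

include hcomm in
theorem fibInjAt_chart (hj : Function.Bijective (j.stalkMap x₁).hom)
    (hι : Function.Bijective (ι.stalkMap (f₁ x₁)).hom) {F' F : X.Modules} [F'.IsQuasicoherent]
    [F.IsQuasicoherent] (u : F' ⟶ F) (H : FibInjAt f u (j x₁)) :
    FibInjAt f₁ ((Scheme.Modules.pullback j).map u) x₁ := by
  have hfl : (j.stalkMap x₁).hom.Flat := RingHom.Flat.of_bijective hj
  have hJ : fibIdeal f₁ x₁ = Ideal.map (j.stalkMap x₁).hom (fibIdeal f (j x₁)) := by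
    rw [← fibIdeal_comp_bijective f₁ ι x₁ hι, hcomm, fibIdeal_comp]
  -- the two transfer statements
  have β : ∀ (G : X.Modules) (t : G.presheaf.stalk (j x₁)),
      t ∈ fibIdeal f (j x₁) • (⊤ : Submodule (X.presheaf.stalk (j x₁)) (G.presheaf.stalk (j x₁))) →
      stalkUnit j G x₁ t ∈ fibIdeal f₁ x₁ •
        (⊤ : Submodule (X₁.presheaf.stalk x₁) (((Scheme.Modules.pullback j).obj G).presheaf.stalk x₁)) := by
    intro G t ht
    rw [hJ]
    refine Submodule.smul_induction_on ht (fun a ha n _ => ?_) (fun a b ha hb => ?_)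
    · rw [stalkUnit_smul]
      exact Submodule.smul_mem_smul (Ideal.mem_map_of_mem _ ha) trivial
    · rw [map_add]
      exact add_mem ha hb
  have α : ∀ (G : X.Modules) [G.IsQuasicoherent] (t : G.presheaf.stalk (j x₁)),
      stalkUnit j G x₁ t ∈ fibIdeal f₁ x₁ •
        (⊤ : Submodule (X₁.presheaf.stalk x₁) (((Scheme.Modules.pullback j).obj G).presheaf.stalk x₁)) →
      t ∈ fibIdeal f (j x₁) • (⊤ : Submodule (X.presheaf.stalk (j x₁)) (G.presheaf.stalk (j x₁))) := by
    intro G _ t ht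
    rw [hJ] at ht
    have key : ∃ t₀ : G.presheaf.stalk (j x₁),
        t₀ ∈ fibIdeal f (j x₁) • (⊤ : Submodule (X.presheaf.stalk (j x₁)) (G.presheaf.stalk (j x₁))) ∧
        stalkUnit j G x₁ t₀ = stalkUnit j G x₁ t := by
      refine Submodule.smul_induction_on ht (fun b hb w _ => ?_) (fun a b ha hb => ?_)
      · obtain ⟨a, ha, rfl⟩ := (Ideal.mem_map_iff_of_surjective _ hj.2).1 hb
        obtain ⟨t', rfl⟩ := stalkUnit_surjective_of_surjective j G x₁ hj.2 w
        exact ⟨a • t', Submodule.smul_mem_smul ha trivial, stalkUnit_smul j G x₁ a t'⟩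
      · obtain ⟨a', ha', ea⟩ := ha
        obtain ⟨b', hb', eb⟩ := hb
        exact ⟨a' + b', add_mem ha' hb', by rw [map_add, ea, eb]⟩
    obtain ⟨t₀, ht₀, e⟩ := key
    rw [← stalkUnit_injective_of_flat j G x₁ hfl e]
    exact ht₀
  intro m₁ hm₁
  obtain ⟨n, rfl⟩ := stalkUnit_surjective_of_surjective j F' x₁ hj.2 m₁
  rw [stalkUnit_stalkHom] at hm₁
  exact β F' n (H n (α F _ hm₁))

include hcomm in
theorem of_chart (hj : Function.Bijective (j.stalkMap x₁).hom)
    (hι : Function.Bijective (ι.stalkMap (f₁ x₁)).hom) {F' F : X.Modules} [F'.IsQuasicoherent]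
    [F.IsQuasicoherent] (hF' : SheafOfModules.IsFinitePresentation (R := X.ringCatSheaf) F')
    (hF : SheafOfModules.IsFinitePresentation (R := X.ringCatSheaf) F) (u : F' ⟶ F)
    (h1 : Function.Injective (stalkHom ((Scheme.Modules.pullback j).map u) x₁))
    (h2 : FlatMod.IsFlatOverAt f₁ (cokernel ((Scheme.Modules.pullback j).map u)) x₁) :
    Function.Injective (stalkHom u (j x₁)) ∧ FlatMod.IsFlatOverAt f (cokernel u) (j x₁) := by
  have hfl : (j.stalkMap x₁).hom.Flat := RingHom.Flat.of_bijective hj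
  refine ⟨stalkHom_injective_of_pullback j u x₁ hfl h1, ?_⟩
  haveI := hF
  haveI := hF'
  haveI : SheafOfModules.IsFiniteType (R := X.ringCatSheaf) F' :=
    Groth.Agent.Helper18Strict.isFT_of_isFP F' hF'
  obtain ⟨hCq, -⟩ := Groth.Agent.Lib.Helper23.FPQuot.isFP_cokernel u
  haveI hCq' : (cokernel u).IsQuasicoherent := hCq
  have h3 : FlatMod.IsFlatOverAt (f₁ ≫ ι) (cokernel ((Scheme.Modules.pullback j).map u)) x₁ :=
    isFlatOverAt_comp f₁ ι _ x₁ (RingHom.Flat.of_bijective hι) h2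
  rw [hcomm] at h3
  have h4 : FlatMod.IsFlatOverAt (j ≫ f) ((Scheme.Modules.pullback j).obj (cokernel u)) x₁ :=
    isFlatOverAt_of_iso (j ≫ f) (cokerPullbackIso j u).symm x₁ h3
  exact (isFlatOverAt_pullback_iff j f (cokernel u) x₁ hfl).2 h4

end chart

end Groth.Agent.Lib.Helper26.FibInjChart
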