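import Mathlib
import Groth.Agent.Lib.Helper1ChartInd10
import Groth.Agent.Lib.Helper1ChartQC
import Groth.Agent.Lib.Helper1TildePC
import Groth.Agent.Lib.Helper2FlatOver2
import Groth.Agent.Lib.Helper2FPAff
import Groth.Agent.Lib.Helper2PullbackSec2
import Groth.Agent.Lib.Helper26FlatLimC
import Groth.Agent.Lib.Helper26FibInjChart
import Groth.Agent.Lib.Helper10FlatPC3
import Groth.Agent.Lib.Helper18Strict6
import Groth.Agent.Lib.Helper20OmegaAff
import Groth.Agent.S6938
import Groth.Agent.Lib.Helper1PerfDim0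
set_option backward.isDefEq.respectTransparency.types false
set_option autoImplicit false
set_option linter.style.haveILetI false
set_option maxHeartbeats 400000
universe u
open CategoryTheory CategoryTheory.Limits AlgebraicGeometry Opposite TopologicalSpace Pretriangulated

attribute [local instance] HasDerivedCategory.standard

namespace Groth.Agent.Lib.Helper1.ChartInd

open Groth.Agent.Lib.Helper1.SPL Groth.Agent.Lib.Helper1.Sky ZeroObject
open Groth.Agent.Lib.Helper1.ClosedPC Groth.Agent.Lib.Helper1.ChartPC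
open Groth.Agent.Lib.Helper1.KoszulPerf Groth.Agent.Lib.Helper1.TildePC
open Groth.Agent.Lib.Helper1.Restrict Groth.Agent.Lib.Helper1.RelPC Groth.Agent.Lib.Helper1.PC
open Groth.Agent.Lib.Helper1.ChartQC
open Groth.Agent.Lib.Helper23.QCohLocal Groth.Agent.Lib.Helper23.FinType

section QC

variable {X Y : Scheme.{u}}

/-- level-wise form of S6235: the `q`-th cohomology sheaf of a relatively `(q-1)`-pseudo-coherent
object is quasi-coherent -/
theorem isQuasicoherent_HD_of_isPseudoCoherentRel (f : X ⟶ Y) (E : DCoh.D X) (q : ℤ)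
    (hE : DerSch.IsPseudoCoherentRel f (q - 1) E) : (DCoh.HD E q).IsQuasicoherent := by
  obtain ⟨-, 𝒱, h𝒱, hV⟩ := hE
  let G := DerivedCategory.Q.objPreimage E
  have eG : DCoh.toD X G ≅ E := DerivedCategory.Q.objObjPreimageIso E
  have hloc : ∀ x : X, ∃ U : X.Opens, x ∈ U ∧
      ((DCoh.HD (DCoh.toD X G) q).restrict U.ι).IsQuasicoherent := by
    intro x
    have hx : f.base x ∈ (⨆ V ∈ 𝒱, (V : Y.Opens)) := by rw [h𝒱]; trivial
    simp only [Opens.mem_iSup] at hx
    obtain ⟨V, hV𝒱, hxV⟩ := hx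
    obtain ⟨𝒰, h𝒰, hU⟩ := hV V hV𝒱
    have hx' : x ∈ (⨆ U ∈ 𝒰, (U : X.Opens)) := by rw [h𝒰]; exact hxV
    simp only [Opens.mem_iSup] at hx'
    obtain ⟨U, hU𝒰, hxU⟩ := hx'
    have hle : (U : X.Opens) ≤ f ⁻¹ᵁ (V : Y.Opens) := by
      rw [← h𝒰]
      exact le_iSup₂ (f := fun (U : X.affineOpens) (_ : U ∈ 𝒰) => (U : X.Opens)) U hU𝒰
    obtain ⟨k, φ, hφ, hpc⟩ := hU U hU𝒰 hle
    refine ⟨U, hxU, ?_⟩
    haveI hcl := Groth.Agent.Lib.Helper1.ChartPC.isClosedImmersion_chartImm
      (U : X.Opens) U.2 φ hφ.1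
    haveI := Groth.Agent.Lib.Helper17.FinLoc.preservesHomology_pushforward_of_isClosedImmersion
      (DerSch.chartImm (U : X.Opens) φ)
    have hK' := hpc G ⟨eG⟩
    haveI h1 := isQuasicoherent_HD_of_hasPresM _ (q - 1) q (by lia)
      ((isPseudoCoherentD_iff_hasPresM _ _).1 hK')
    let C := (DCoh.restrictCx (U : X.Opens)).obj G
    have e2 : DCoh.HD (DCoh.toD _ ((DerSch.pushCx (DerSch.chartImm (U : X.Opens) φ)).obj C)) q ≅
        (Scheme.Modules.pushforward (DerSch.chartImm (U : X.Opens) φ)).obj (C.homology q) :=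
      (DerivedCategory.homologyFunctorFactors _ q).app _ ≪≫
        (C.sc q).mapHomologyIso (Scheme.Modules.pushforward (DerSch.chartImm (U : X.Opens) φ))
    haveI := Groth.Agent.Lib.Helper23.TensorQCoh.isQuasicoherent_of_iso e2
    haveI : (C.homology q).IsQuasicoherent :=
      isQuasicoherent_of_pushforward_chartImm (U : X.Opens) U.2 φ hφ.1 _ inferInstance
    exact Groth.Agent.Lib.Helper23.TensorQCoh.isQuasicoherent_of_iso
      (Groth.Agent.Lib.Helper1.ChartPC.homologyRestrictIso G (U : X.Opens) q).symm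
  choose U hxU hU using hloc
  haveI : (DCoh.HD (DCoh.toD X G) q).IsQuasicoherent := by
    refine isQuasicoherent_of_open_cover _ U ?_ hU
    rw [IsOpenCover, eq_top_iff]
    intro x _
    exact Opens.mem_iSup.2 ⟨x, hxU x⟩
  exact Groth.Agent.Lib.Helper23.TensorQCoh.isQuasicoherent_of_iso
    ((DerivedCategory.homologyFunctor _ q).mapIso eG)

/-- a module which is finitely presented relative to `f` is quasi-coherent -/
theorem isQuasicoherent_of_isPseudoCoherentRel_single (f : X ⟶ Y) (M : X.Modules)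
    (h : DerSch.IsPseudoCoherentRel f (-1) (DCoh.inD X M)) : M.IsQuasicoherent := by
  have h' : DerSch.IsPseudoCoherentRel f (0 - 1) (DCoh.inD X M) := by simpa using h
  haveI h0 : (DCoh.HD (DCoh.inD X M) 0).IsQuasicoherent :=
    isQuasicoherent_HD_of_isPseudoCoherentRel f _ 0 h'
  exact Groth.Agent.Lib.Helper23.TensorQCoh.isQuasicoherent_of_iso
    (show DCoh.HD (DCoh.inD X M) 0 ≅ M from
      (DerivedCategory.singleFunctorCompHomologyFunctorIso X.Modules 0).app M)

end QC

section Chart

variable {X Y : Scheme.{u}} (f : X ⟶ Y)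

/-- restriction to an open subscheme preserves flatness over the base -/
theorem isFlatOver_restrict (M : X.Modules) [M.IsQuasicoherent] (hfl : FlatMod.IsFlatOver f M)
    (U : X.Opens) : FlatMod.IsFlatOver (U.ι ≫ f) (M.restrict U.ι) := by
  intro x
  have hflat : (U.ι.stalkMap x).hom.Flat :=
    RingHom.Flat.of_bijective (ConcreteCategory.bijective_of_isIso (U.ι.stalkMap x))
  have h1 := (Groth.Agent.Lib.Helper2.PullbackSec.isFlatOverAt_pullback_iff U.ι f M x hflat).1
    (hfl _)
  exact Groth.Agent.Lib.Helper26.FlatLim.isFlatOverAt_of_iso _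
    ((Scheme.Modules.restrictFunctorIsoPullback U.ι).app M).symm x h1

attribute [local instance] MvPolynomial.algebraMvPolynomial in
/-- **chart lemma**: on a chart, a module flat over the base whose direct image is finitely
presented has pseudo-coherent direct image -/
theorem isPseudoCoherentD_chart_of_flat (M : X.Modules) [M.IsQuasicoherent]
    (hfl : FlatMod.IsFlatOver f M) {U : X.Opens} (hU : IsAffineOpen U) {V : Y.Opens}
    (hV : IsAffineOpen V) (hUV : U ≤ f ⁻¹ᵁ V) {n : ℕ}
    (φ : MvPolynomial (Fin n) Γ(Y, V) →+* Γ(X, U)) (hφ : DerSch.IsChart f U V hUV φ)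
    [IsClosedImmersion (DerSch.chartImm U φ)]
    (hfp : CohB1.IsFP ((Scheme.Modules.pushforward (DerSch.chartImm U φ)).obj (M.restrict U.ι)))
    (m : ℤ) :
    DCoh.IsPseudoCoherentD m (DCoh.inD _
      ((Scheme.Modules.pushforward (DerSch.chartImm U φ)).obj (M.restrict U.ι))) := by
  set c := DerSch.chartImm U φ with hc
  set M' := M.restrict U.ι with hM'
  set N' := (Scheme.Modules.pushforward c).obj M' with hN'
  haveI : N'.IsQuasicoherent := Groth.Agent.Helper18Strict.isQCoh_of_isFP _ hfp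
  haveI : M'.IsQuasicoherent :=
    isQuasicoherent_of_pushforward_chartImm U hU φ hφ.1 M' inferInstance
  let R := Γ(Y, V)
  let P := MvPolynomial (Fin n) R
  let N₀ : ModuleCat.{u} P := (moduleSpecΓFunctor (R := CommRingCat.of P)).obj N'
  have eT : N' ≅ tilde N₀ := Groth.Agent.Lib.Helper20.OmegaAff.isoTildeOfΓIso N' N₀ (Iso.refl _)
  haveI : Module.FinitePresentation P N₀ :=
    (Groth.Agent.Lib.Helper2.FPAff.isFinitePresentation_tilde_iff (CommRingCat.of P) N₀).1
      (isFP_of_iso' eT hfp)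
  -- flatness
  have h1 : FlatMod.IsFlatOver (U.ι ≫ f) M' := isFlatOver_restrict f M hfl U
  have h2 : FlatMod.IsFlatOver (c ≫ strV hV n) M' := by
    rw [hc, chartImm_over f hU hV hUV φ hφ]; exact h1
  let Cm : CommRingCat.of R ⟶ CommRingCat.of P := CommRingCat.ofHom (MvPolynomial.C : R →+* P)
  have h3 : FlatMod.IsFlatOver (c ≫ Spec.map Cm) M' := by
    intro x
    refine Groth.Agent.Lib.Helper26.FibInjChart.isFlatOverAt_of_comp_bijective
      (c ≫ Spec.map Cm) hV.fromSpec M' x
      (ConcreteCategory.bijective_of_isIso (hV.fromSpec.stalkMap _)) ?_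
    have := h2 x
    rwa [← Category.assoc] at this
  have h4 : FlatMod.IsFlatOver (Spec.map Cm) N' :=
    (Groth.Agent.Lib.Helper2.FlatOver.isFlatOver_pushforward_iff c (Spec.map Cm) M').1 h3
  have h5 : FlatMod.IsFlatOver (Spec.map Cm) (tilde N₀) := fun x =>
    Groth.Agent.Lib.Helper26.FlatLim.isFlatOverAt_of_iso _ eT x (h4 x)
  letI : Module R N₀ := Module.compHom N₀ (MvPolynomial.C : R →+* P)
  haveI h6 : Module.Flat R N₀ :=
    (Groth.Agent.Lib.Helper2.FlatOver.tilde_isFlatOver_iff Cm N₀ (AddEquiv.refl _)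
      (fun r n => rfl)).1 h5
  haveI : IsScalarTower R P N₀ :=
    ⟨fun r p y => by
      change (r • p) • y = (MvPolynomial.C r : P) • (p • y)
      rw [MvPolynomial.smul_eq_C_mul, mul_smul]⟩
  have h7 : DRing.IsPseudoCoherentModule' P N₀ :=
    Groth.Agent.Lib.Helper10.FlatPC.isPC'_of_fp_of_flat R P N₀
  have h8 : DRing.IsPseudoCoherent P m (Dual.inD P N₀) := Groth.Agent.S6938.isPC_of_pc' _ h7 m
  have h9 := isPseudoCoherentD_tildeD' (Dual.inD P N₀) m h8
  have e3 : (tildeD' P).obj (Dual.inD P N₀) ≅ DCoh.inD _ (tilde N₀) :=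
    ((tilde.functor (CommRingCat.of P)).mapDerivedCategorySingleFunctor 0).app _
  exact isPseudoCoherentD_of_iso (e3 ≪≫ (DerivedCategory.singleFunctor _ 0).mapIso eT.symm) h9

/-- **Claim F**: a module flat over the base and finitely presented relative to `f` is
pseudo-coherent relative to `f` -/
theorem isPseudoCoherentRel_single_of_flat [LocallyOfFiniteType f] (M : X.Modules)
    (hfl : FlatMod.IsFlatOver f M)
    (hfp : DerSch.IsPseudoCoherentRel f (-1) (DCoh.inD X M)) (m : ℤ) :
    DerSch.IsPseudoCoherentRel f m (DCoh.inD X M) := by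
  haveI := isQuasicoherent_of_isPseudoCoherentRel_single f M hfp
  refine isPseudoCoherentRel_of_forall f _ m (fun U V hUV => ?_)
  obtain ⟨n, φ, hφ⟩ := exists_isChart f U.2 V.2 hUV
  haveI := isClosedImmersion_chartImm' f U.2 hUV φ hφ
  refine ⟨n, φ, hφ, ?_⟩
  rw [chartPC_iff]
  have c := chartPC_of_isPseudoCoherentRel f _ (-1) hfp U.2 V.2 hUV φ hφ
  rw [chartPC_iff] at c
  have c' := isPseudoCoherentD_of_iso (chartSingleIso (DerSch.chartImm (U : X.Opens) φ) M) c
  have hFP := ((isPseudoCoherentD_single_iff _).2).1 c'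
  exact isPseudoCoherentD_of_iso (chartSingleIso (DerSch.chartImm (U : X.Opens) φ) M).symm
    (isPseudoCoherentD_chart_of_flat f M hfl U.2 V.2 hUV φ hφ hFP m)

end Chart

section TorSingle

open Groth.Agent.Lib.Helper1.TQ Groth.Agent.Lib.Helper1.Tor

variable {X Y : Scheme.{u}} (f : X ⟶ Y)

/-- the complex of stalks of a module placed in degree `0` -/
noncomputable def stalkCxOverSingleIso (x : X) (M : X.Modules) :
    DRing.toD ((DerSch.stalkCxOver f x).obj
      ((HomologicalComplex.single _ (ComplexShape.up ℤ) 0).obj M)) ≅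
      (DerivedCategory.singleFunctor (ModuleCat.{u} (Y.presheaf.stalk (f.base x))) 0).obj
        ((DerSch.stalkOver f x).obj M) :=
  DerivedCategory.Q.mapIso
      ((HomologicalComplex.singleMapHomologicalComplex (DerSch.stalkOver f x)
        (ComplexShape.up ℤ) 0).app M) ≪≫
    ((DerivedCategory.singleFunctorIsoCompQ _ 0).app _).symm

theorem isFlatOverAt_iff_flat_stalkOver (M : X.Modules) (x : X) :
    FlatMod.IsFlatOverAt f M x ↔
      Module.Flat (Y.presheaf.stalk (f.base x)) ((DerSch.stalkOver f x).obj M) := Iff.rfl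

/-- a module in degree `0` has tor amplitude in `[0, 0]` relative to `f` iff it is flat over the
base -/
theorem hasTorAmplitude_single_iff (M : X.Modules) :
    DerSch.HasTorAmplitude f 0 0 ((HomologicalComplex.single _ (ComplexShape.up ℤ) 0).obj M) ↔
      FlatMod.IsFlatOver f M := by
  refine forall_congr' fun x => ?_
  rw [isFlatOverAt_iff_flat_stalkOver, ← hasTorAmp_single_iff_flat]
  exact ⟨hasTorAmp_of_iso (stalkCxOverSingleIso f x M),
    hasTorAmp_of_iso (stalkCxOverSingleIso f x M).symm⟩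

/-- a complex of modules flat over the base, vanishing outside `[a, b]`, has tor amplitude in
`[a, b]` relative to `f` -/
theorem hasTorAmplitude_of_termwise_flat (E : CochainComplex X.Modules ℤ) (a b : ℤ)
    (hab : DCoh.VanishesOutside E a b) (hfl : ∀ i : ℤ, FlatMod.IsFlatOver f (E.X i)) :
    DerSch.HasTorAmplitude f a b E := by
  intro x
  refine ⟨(DerSch.stalkCxOver f x).obj E, fun i hi => ?_, fun i => ?_, ⟨Iso.refl _⟩⟩
  · exact (DerSch.stalkOver f x).map_isZero (hab i hi)
  · exact (isFlatOverAt_iff_flat_stalkOver f (E.X i) x).1 (hfl i x)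

end TorSingle

end Groth.Agent.Lib.Helper1.ChartInd
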