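import Mathlib
import Groth.Agent.Lib.Helper1TorH
import Groth.Agent.Lib.Helper1TorG
import Groth.Agent.Lib.Helper1LBC2

set_option autoImplicit false


namespace Groth.Agent.Lib.Helper1.LocalCx

open TensorProduct CategoryTheory Limits DerivedCategory Groth.Agent.Lib.Helper1.Tor

universe u

attribute [local instance] HasDerivedCategory.standard

section L3

variable {S : Type u} [CommRing S] [IsLocalRing S]
  {M₁ M₂ M₃ : Type u} [AddCommGroup M₁] [AddCommGroup M₂] [AddCommGroup M₃]
  [Module S M₁] [Module S M₂] [Module S M₃] [Module.Finite S M₂] [Module.Finite S M₃]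
  [Module.Free S M₃]

/-- Three term lemma over a local ring: a complex `M₁ → M₂ → M₃` (with `M₂` finite and `M₃`
finite free) which is exact modulo the maximal ideal is exact, and the cokernel of the second
map is projective. -/
theorem exact_and_projective_of_exact_lTensor_residueField (d₁ : M₁ →ₗ[S] M₂) (d₂ : M₂ →ₗ[S] M₃)
    (h0 : d₂ ∘ₗ d₁ = 0)
    (hex : Function.Exact (d₁.lTensor (IsLocalRing.ResidueField S))
      (d₂.lTensor (IsLocalRing.ResidueField S))) :
    Function.Exact d₁ d₂ ∧ Module.Projective S (M₃ ⧸ LinearMap.range d₂) := by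
  classical
  -- the cokernel of `d₁` and the induced map
  let C := M₂ ⧸ LinearMap.range d₁
  let π : M₂ →ₗ[S] C := (LinearMap.range d₁).mkQ
  have hπ : Function.Surjective π := Submodule.mkQ_surjective _
  let δ : C →ₗ[S] M₃ := (LinearMap.range d₁).liftQ d₂ (by
    rintro _ ⟨x, rfl⟩
    exact LinearMap.congr_fun h0 x)
  have hδπ : δ ∘ₗ π = d₂ := Submodule.liftQ_mkQ _ _ _
  have hπd : π ∘ₗ d₁ = 0 := by
    ext x
    exact (Submodule.Quotient.mk_eq_zero _).2 ⟨x, rfl⟩
  -- injectivity mod `m`
  have hinj : Function.Injective (δ.lTensor (IsLocalRing.ResidueField S)) := by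
    rw [← LinearMap.ker_eq_bot, LinearMap.ker_eq_bot']
    intro y hy
    obtain ⟨x, rfl⟩ := LinearMap.lTensor_surjective (IsLocalRing.ResidueField S) hπ y
    have h1 : (d₂.lTensor (IsLocalRing.ResidueField S)) x = 0 := by
      rw [← hδπ, LinearMap.lTensor_comp]
      exact hy
    obtain ⟨w, rfl⟩ := (hex x).1 h1
    rw [← LinearMap.comp_apply, ← LinearMap.lTensor_comp, hπd, LinearMap.lTensor_zero,
      LinearMap.zero_apply]
  obtain ⟨l', hl'⟩ :=
    (IsLocalRing.split_injective_iff_lTensor_residueField_injective δ).2 hinj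
  have hδinj : Function.Injective δ :=
    Function.HasLeftInverse.injective ⟨l', LinearMap.congr_fun hl'⟩
  refine ⟨?_, ?_⟩
  · -- exactness
    intro y
    constructor
    · intro hy
      have : δ (π y) = 0 := by
        rw [← LinearMap.comp_apply, hδπ]
        exact hy
      have h2 : π y = 0 := hδinj (this.trans (map_zero δ).symm)
      exact (Submodule.Quotient.mk_eq_zero _).1 h2
    · rintro ⟨x, rfl⟩
      exact LinearMap.congr_fun h0 x
  · -- projectivity of the cokernel of `d₂`
    have hrange : LinearMap.range d₂ = LinearMap.range δ := by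
      rw [← hδπ, LinearMap.range_comp_of_range_eq_top]
      exact LinearMap.range_eq_top.2 hπ
    -- the projector `1 - δ l'`
    let p : M₃ →ₗ[S] M₃ := LinearMap.id - δ ∘ₗ l'
    have hp : ∀ x ∈ LinearMap.range d₂, p x = 0 := by
      intro x hx
      rw [hrange] at hx
      obtain ⟨c, rfl⟩ := hx
      show δ c - δ (l' (δ c)) = 0
      have : l' (δ c) = c := LinearMap.congr_fun hl' c
      rw [this, sub_self]
    let i : (M₃ ⧸ LinearMap.range d₂) →ₗ[S] M₃ := (LinearMap.range d₂).liftQ p (fun x hx => hp x hx)
    have hsi : (LinearMap.range d₂).mkQ ∘ₗ i = LinearMap.id := by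
      apply Submodule.linearMap_qext
      ext x
      show (LinearMap.range d₂).mkQ (p x) = (LinearMap.range d₂).mkQ x
      rw [← sub_eq_zero, ← map_sub]
      refine (Submodule.Quotient.mk_eq_zero _).2 ?_
      show p x - x ∈ LinearMap.range d₂
      rw [hrange]
      refine ⟨-(l' x), ?_⟩
      show δ (-(l' x)) = (x - δ (l' x)) - x
      rw [map_neg]
      abel
    exact Module.Projective.of_split i _ hsi

end L3

section LT

variable {S : Type u} [CommRing S] [IsLocalRing S]

/-- Local theorem: a bounded above complex of finite free modules over a local ring whose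
reduction modulo the maximal ideal is exact outside `[a, b]` has tor amplitude in `[a, b]`. -/
theorem hasTorAmp_of_exactAt_TC_residueField (F : DRing.Cx S) (bF : ℤ)
    (hFb : DRing.VanishesAbove F bF) (hFf : DRing.TermwiseFiniteFree F) (a b : ℤ)
    (h : ∀ i : ℤ, (i < a ∨ b < i) →
      ((TC (ModuleCat.of S (IsLocalRing.ResidueField S))).obj F).ExactAt i) :
    DRing.HasTorAmplitudeIn S a b (DRing.toD F) := by
  have hFflat : DRing.TermwiseFlat F := fun i =>
    have := (hFf i).2
    inferInstance
  have key : ∀ i j k : ℤ, i + 1 = j → j + 1 = k → (j < a ∨ b < j) →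
      Function.Exact (F.d i j).hom (F.d j k).hom ∧
        Module.Projective S (F.X k ⧸ LinearMap.range (F.d j k).hom) := by
    intro i j k hij hjk hj
    have := (hFf j).1
    have := (hFf k).1
    have := (hFf k).2
    refine exact_and_projective_of_exact_lTensor_residueField (F.d i j).hom (F.d j k).hom ?_ ?_
    · rw [← ModuleCat.hom_comp, F.d_comp_d]
      rfl
    · exact (exactAt_TC_iff _ F i j k hij hjk).1 (h j hj)
  have hex : ∀ j : ℤ, (j < a ∨ b < j) → F.ExactAt j := fun j hj =>
    (exactAt_iff_fexact F (j - 1) j (j + 1) (by lia) rfl).2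
      (key (j - 1) j (j + 1) (by lia) rfl hj).1
  have hflat : Module.Flat S (F.opcycles a) := by
    have hproj := (key (a - 1 - 1) (a - 1) a (by lia) (by lia) (Or.inl (by lia))).2
    have hsurj : Function.Surjective (F.pOpcycles a).hom :=
      (ModuleCat.epi_iff_surjective _).1 inferInstance
    have hexd := fexact_d_pOpcycles F a
    have hker : LinearMap.ker (F.pOpcycles a).hom = LinearMap.range (F.d (a - 1) a).hom :=
      LinearMap.exact_iff.1 hexd
    let e : (F.X a ⧸ LinearMap.range (F.d (a - 1) a).hom) ≃ₗ[S] F.opcycles a :=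
      (Submodule.quotEquivOfEq _ _ hker.symm).trans
        ((F.pOpcycles a).hom.quotKerEquivOfSurjective hsurj)
    have : Module.Projective S (F.opcycles a) := Module.Projective.of_equiv e
    infer_instance
  exact hasTorAmp_of_flat_opcycles F bF hFb hFflat a b (fun i hi => hex i (Or.inl hi))
    (fun i hi => hex i (Or.inr hi)) hflat

end LT

section Transfer

variable {A B : Type u} [CommRing A] [CommRing B] (φ : A →+* B)

open Groth.Agent.Lib.Helper1.LDer

/-- exactness of the termwise base change, in terms of the tensor functor `TC` -/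
lemma exactAt_bc_iff_TC (K : DRing.Cx A) (j : ℤ) :
    ((bcCx φ).obj K).ExactAt j ↔
      ((TC ((ModuleCat.restrictScalars.{u} φ).obj (ModuleCat.of B B))).obj K).ExactAt j := by
  rw [exactAt_TC_iff _ K (j - 1) j (j + 1) (by lia) rfl,
    exactAt_iff_fexact (R := B) _ (j - 1) j (j + 1) (by lia) rfl]
  exact Iff.rfl

/-- `TC M` only depends on the isomorphism class of `M` -/
lemma exactAt_TC_congr {M N : ModuleCat.{u} A} (e : M ≅ N) (K : DRing.Cx A) (j : ℤ) :
    ((TC M).obj K).ExactAt j ↔ ((TC N).obj K).ExactAt j := by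
  let E : T M ≅ T N := (MonoidalCategory.tensoringLeft (ModuleCat.{u} A)).mapIso e
  let E' := NatIso.mapHomologicalComplex E (ComplexShape.up ℤ)
  exact ⟨fun h => h.of_iso (E'.app K), fun h => h.of_iso (E'.app K).symm⟩

end Transfer

end Groth.Agent.Lib.Helper1.LocalCx
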