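import Mathlib
import Groth.Agent.Lib.Helper1TorK
import Groth.Agent.Lib.Helper1LocalCx

set_option autoImplicit false


namespace Groth.Agent.Lib.Helper1.LocalCx

open TensorProduct CategoryTheory Limits DerivedCategory Groth.Agent.Lib.Helper1.Tor
open Groth.Agent.Lib.Helper1.LDer Groth.Agent.Lib.Helper1.Extend

universe u

attribute [local instance] HasDerivedCategory.standard

section Comp

variable {A B C : Type u} [CommRing A] [CommRing B] [CommRing C]

/-- termwise base change along a composite -/
noncomputable def bcCxCompIso (f : A →+* B) (g : B →+* C) (K : DRing.Cx A) :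
    (bcCx (g.comp f)).obj K ≅ (bcCx g).obj ((bcCx f).obj K) :=
  (NatIso.mapHomologicalComplex (ModuleCat.extendScalarsComp f g) (ComplexShape.up ℤ)).app K

/-- termwise base change along equal ring maps -/
noncomputable def bcCxEqIso {f f' : A →+* B} (h : f = f') (K : DRing.Cx A) :
    (bcCx f).obj K ≅ (bcCx f').obj K :=
  eqToIso (by rw [h])

/-- flat base change preserves exactness -/
lemma exactAt_bc_of_flat_hom (g : A →+* B) (hg : g.Flat) (K : DRing.Cx A) (i : ℤ)
    (h : K.ExactAt i) : ((bcCx g).obj K).ExactAt i := by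
  have : PreservesFiniteLimits (ModuleCat.extendScalars.{u, u, u} g) :=
    ModuleCat.preservesFiniteLimits_extendScalars_of_flat hg
  have : PreservesFiniteColimits (ModuleCat.extendScalars.{u, u, u} g) := by
    have : (ModuleCat.extendScalars.{u, u, u} g).IsLeftAdjoint :=
      (ModuleCat.extendRestrictScalarsAdj g).isLeftAdjoint
    infer_instance
  exact exactAt_map (ModuleCat.extendScalars.{u, u, u} g) K i h

end Comp

section Fibres

variable {R : Type u} [CommRing R]

/-- exactness of the reduction modulo a maximal ideal passes to the localization -/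
lemma exactAt_TC_residueField_atPrime (m : Ideal R) [m.IsMaximal] (F : DRing.Cx R) (i : ℤ)
    (h : ((bcCx (Ideal.Quotient.mk m)).obj F).ExactAt i) :
    ((TC (ModuleCat.of (Localization.AtPrime m)
      (IsLocalRing.ResidueField (Localization.AtPrime m)))).obj
        ((bcCx (algebraMap R (Localization.AtPrime m))).obj F)).ExactAt i := by
  let S := Localization.AtPrime m
  let f : R →+* S := algebraMap R S
  let g : S →+* IsLocalRing.ResidueField S := IsLocalRing.residue S
  let q : R →+* R ⧸ m := Ideal.Quotient.mk m
  have hker : ∀ x ∈ m, (g.comp f) x = 0 := by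
    intro x hx
    show IsLocalRing.residue S (algebraMap R S x) = 0
    rw [IsLocalRing.residue_eq_zero_iff]
    exact (IsLocalization.AtPrime.to_map_mem_maximal_iff S m x).2 hx
  let ι : R ⧸ m →+* IsLocalRing.ResidueField S := Ideal.Quotient.lift m (g.comp f) hker
  have hι : ι.comp q = g.comp f := Ideal.Quotient.lift_comp_mk m (g.comp f) hker
  let _ : Field (R ⧸ m) := Ideal.Quotient.field m
  have hflat : ι.Flat := by
    let _ := ι.toAlgebra
    exact (inferInstance : Module.Flat (R ⧸ m) (IsLocalRing.ResidueField S))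
  have h1 : ((bcCx ι).obj ((bcCx q).obj F)).ExactAt i := exactAt_bc_of_flat_hom ι hflat _ i h
  have h2 : ((bcCx (ι.comp q)).obj F).ExactAt i := h1.of_iso (bcCxCompIso q ι F).symm
  have h3 : ((bcCx (g.comp f)).obj F).ExactAt i := h2.of_iso (bcCxEqIso hι F)
  have h4 : ((bcCx g).obj ((bcCx f).obj F)).ExactAt i := h3.of_iso (bcCxCompIso f g F)
  have h5 := (exactAt_bc_iff_TC g ((bcCx f).obj F) i).1 h4
  let eκ : (ModuleCat.restrictScalars.{u} g).obj (ModuleCat.of (IsLocalRing.ResidueField S)
      (IsLocalRing.ResidueField S)) ≅ ModuleCat.of S (IsLocalRing.ResidueField S) :=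
    (e₀ (A := S) (IsLocalRing.ResidueField S)).toModuleIso
  exact (exactAt_TC_congr eκ _ i).1 h5

/-- a bounded above complex of finite free modules whose reductions modulo all maximal ideals
are exact outside `[a, b]` has tor amplitude in `[a, b]`. -/
theorem hasTorAmp_of_fibres (F : DRing.Cx R) (bF : ℤ) (hFb : DRing.VanishesAbove F bF)
    (hFf : DRing.TermwiseFiniteFree F) (a b : ℤ)
    (h : ∀ (m : Ideal R) [m.IsMaximal] (i : ℤ), (i < a ∨ b < i) →
      ((bcCx (Ideal.Quotient.mk m)).obj F).ExactAt i) :
    DRing.HasTorAmplitudeIn R a b (DRing.toD F) := by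
  refine (descFam'_maximal (R := R)).hasTorAmp _ a b (fun m => ?_)
  have := m.isMaximal
  let S := Localization.AtPrime m.asIdeal
  let Fm := (bcCx (algebraMap R S)).obj F
  have hloc : DRing.HasTorAmplitudeIn S a b (DRing.toD Fm) :=
    hasTorAmp_of_exactAt_TC_residueField Fm bF (vanishesAbove_bc _ F bF hFb)
      (termwiseFiniteFree_bc _ F hFf) a b
      (fun i hi => exactAt_TC_residueField_atPrime m.asIdeal F i (h m.asIdeal i hi))
  exact hasTorAmp_of_iso (mapQIso (ext R S) F).symm hloc

end Fibres

end Groth.Agent.Lib.Helper1.LocalCx
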