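import Mathlib
import Groth.Agent.Lib.Helper1ChartInd10
import Groth.Agent.Lib.Helper1Extend
import Groth.Agent.S2066
set_option backward.isDefEq.respectTransparency.types false
set_option autoImplicit false
set_option linter.style.haveILetI false
set_option maxHeartbeats 400000
universe u
open CategoryTheory CategoryTheory.Limits AlgebraicGeometry Opposite TopologicalSpace Pretriangulated

attribute [local instance] HasDerivedCategory.standard

namespace Groth.Agent.Lib.Helper1.ChartInd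

open Groth.Agent.Lib.Helper1.SPL Groth.Agent.Lib.Helper1.Sky ZeroObject
open Groth.Agent.Lib.Helper1.ClosedPC Groth.Agent.Lib.Helper1.ChartPC
open Groth.Agent.Lib.Helper1.KoszulPerf Groth.Agent.Lib.Helper1.TildePC
open Groth.Agent.Lib.Helper1.Restrict Groth.Agent.Lib.Helper1.RelPC Groth.Agent.Lib.Helper1.PC

section Reverse

variable {Z X : Scheme.{u}} (i : Z ⟶ X) [IsClosedImmersion i]

/-- converse of `hasPresM_push_structure_of_bpc` -/
theorem bpc_of_hasPresM_push_structure {U : X.Opens} (hU : IsAffineOpen U)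
    (h : ∀ (m : ℤ) (x : X), x ∈ U → HasPresM m (DCoh.inD X (MM i)) x) :
    BPC (i.app U).hom := by
  intro m
  have hsurj : Function.Surjective (i.app U).hom := Scheme.Hom.app_surjective i _ hU
  let I : Ideal Γ(X, U) := RingHom.ker (i.app U).hom
  have e1 : (resD hU.fromSpec).obj (DCoh.inD X (MM i)) ≅
      DCoh.inD (Spec Γ(X, U)) (NN i hU) :=
    ((Scheme.Modules.restrictFunctor hU.fromSpec).mapDerivedCategorySingleFunctor 0).app (MM i)
  have e2 : DCoh.inD (Spec Γ(X, U)) (NN i hU) ≅ DCoh.inD (Spec Γ(X, U))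
      (tilde (ModuleCat.of Γ(X, U) (Γ(X, U) ⧸ I))) :=
    (DerivedCategory.singleFunctor _ 0).mapIso (restrictIsoTilde i hU I rfl)
  have e3 : (tildeD' Γ(X, U)).obj ((DerivedCategory.singleFunctor _ 0).obj
      (ModuleCat.of Γ(X, U) (Γ(X, U) ⧸ I))) ≅
      DCoh.inD (Spec Γ(X, U)) (tilde (ModuleCat.of Γ(X, U) (Γ(X, U) ⧸ I))) :=
    ((tilde.functor (CommRingCat.of Γ(X, U))).mapDerivedCategorySingleFunctor 0).app _
  have h2 : DCoh.IsPseudoCoherentD m ((resD hU.fromSpec).obj (DCoh.inD X (MM i))) := by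
    rw [isPseudoCoherentD_iff_hasPresM]
    intro y
    refine hasPresM_resD hU.fromSpec m _ y (h m _ ?_)
    have : hU.fromSpec.base y ∈ hU.fromSpec.opensRange := ⟨y, rfl⟩
    rwa [hU.opensRange_fromSpec] at this
  have h1 : DCoh.IsPseudoCoherentD m ((tildeD' Γ(X, U)).obj
      ((DerivedCategory.singleFunctor _ 0).obj (ModuleCat.of Γ(X, U) (Γ(X, U) ⧸ I)))) :=
    isPseudoCoherentD_of_iso (e3 ≪≫ e2.symm ≪≫ e1.symm).symm h2
  have hpc := isPC_of_tildeD' _ m h1
  exact isPC_of_iso ((DerivedCategory.singleFunctor _ 0).mapIso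
      (quotKerIso (i.app U).hom hsurj)) hpc

/-- converse of `ho_of_bpc_appTop` -/
theorem bpc_appTop_of_ho [IsAffine X] (h : HO i) : BPC i.appTop.hom :=
  bpc_of_hasPresM_push_structure i (U := ⊤) (isAffineOpen_top _) (fun m x _ => h m x)

end Reverse

section ChartBPC

variable {Y : Scheme.{u}}

/-- the ring map of a chart is pseudo-coherent as soon as the chart immersion is -/
lemma bpc_of_bpc_imm {V : Y.Opens} (hV : IsAffineOpen V) {P : Type u} [CommRing P]
    (β : P →+* Γ(Y, V)) (h : BPC (imm V β).appTop.hom) : BPC β := by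
  haveI : IsIso V.toSpecΓ := by
    rw [← hV.isoSpec_hom]
    infer_instance
  haveI : IsIso V.toSpecΓ.appTop := inferInstanceAs (IsIso (Scheme.Γ.map V.toSpecΓ.op))
  have hnat : (Spec.map (CommRingCat.ofHom β)).appTop =
      (Scheme.ΓSpecIso (CommRingCat.of P)).hom ≫ CommRingCat.ofHom β ≫
        (Scheme.ΓSpecIso (CommRingCat.of Γ(Y, V))).inv := by
    rw [← Category.assoc, Iso.eq_comp_inv]
    exact Scheme.ΓSpecIso_naturality (CommRingCat.ofHom β)
  have key : CommRingCat.ofHom β = (Scheme.ΓSpecIso (CommRingCat.of P)).inv ≫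
      (imm V β).appTop ≫ inv V.toSpecΓ.appTop ≫
        (Scheme.ΓSpecIso (CommRingCat.of Γ(Y, V))).hom := by
    unfold imm
    rw [Scheme.Hom.comp_appTop, hnat]
    simp
  have h0 : β = (CommRingCat.ofHom β).hom := rfl
  rw [h0, key]
  simp only [CommRingCat.hom_comp]
  refine bpc_comp _ _ (bpc_of_bijective _ (ConcreteCategory.bijective_of_isIso _))
    (bpc_comp _ _ h (bpc_comp _ _ (bpc_of_bijective _ (ConcreteCategory.bijective_of_isIso _))
      (bpc_of_bijective _ (ConcreteCategory.bijective_of_isIso _))))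

end ChartBPC

section PolyBC

open TensorProduct

variable {P B : Type u} [CommRing P] [CommRing B] [Algebra P B] (n : ℕ)

/-- ring equivalence `P[x] ⊗_P B ≃ B[x]` -/
noncomputable def polyTensorRingEquiv :
    (MvPolynomial (Fin n) P ⊗[P] B) ≃+* MvPolynomial (Fin n) B :=
  (Algebra.TensorProduct.comm P (MvPolynomial (Fin n) P) B).toRingEquiv.trans
    (MvPolynomial.algebraTensorAlgEquiv P B).toRingEquiv

lemma polyTensorRingEquiv_tmul (q : MvPolynomial (Fin n) P) (b : B) :
    polyTensorRingEquiv (P := P) (B := B) n (q ⊗ₜ b) =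
      b • MvPolynomial.map (algebraMap P B) q := by
  simp [polyTensorRingEquiv]

/-- the `P[x]`-linear form -/
noncomputable def polyTensorLinearEquiv :
    (MvPolynomial (Fin n) P ⊗[P] B) ≃ₗ[MvPolynomial (Fin n) P]
      ((ModuleCat.restrictScalars.{u} (MvPolynomial.map (algebraMap P B) :
          MvPolynomial (Fin n) P →+* MvPolynomial (Fin n) B)).obj
        (ModuleCat.of (MvPolynomial (Fin n) B) (MvPolynomial (Fin n) B))) where
  toFun t := polyTensorRingEquiv (P := P) (B := B) n t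
  invFun y := (polyTensorRingEquiv (P := P) (B := B) n).symm y
  left_inv t := (polyTensorRingEquiv (P := P) (B := B) n).symm_apply_apply t
  right_inv y := (polyTensorRingEquiv (P := P) (B := B) n).apply_symm_apply y
  map_add' x y := map_add (polyTensorRingEquiv (P := P) (B := B) n) x y
  map_smul' q t := by
    show polyTensorRingEquiv (P := P) (B := B) n (q • t) =
      MvPolynomial.map (algebraMap P B) q * polyTensorRingEquiv (P := P) (B := B) n t
    induction t using TensorProduct.induction_on with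
    | zero => rw [smul_zero, map_zero, mul_zero]
    | tmul q' b =>
      rw [TensorProduct.smul_tmul', polyTensorRingEquiv_tmul, polyTensorRingEquiv_tmul,
        smul_eq_mul, map_mul, mul_smul_comm]
    | add x y hx hy => rw [smul_add, map_add, hx, hy, map_add, mul_add]

/-- polynomial extension of a pseudo-coherent ring map -/
theorem bpc_mvPolynomial_map_algebraMap (hB : BPC (algebraMap P B)) :
    BPC (MvPolynomial.map (algebraMap P B) :
      MvPolynomial (Fin n) P →+* MvPolynomial (Fin n) B) := by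
  intro j
  have h1 : DRing.IsPseudoCoherent P j (Dual.inD P B) :=
    isPC_of_iso ((DerivedCategory.singleFunctor (ModuleCat.{u} P) 0).mapIso
      (restrictScalarsAlgebraIso (A := P) (B := B) B)) (hB j)
  have h2 := Groth.Agent.Lib.Helper1.Extend.isPC_extD (A := P) (B := MvPolynomial (Fin n) P)
    _ j h1
  have h3 := isPC_of_iso (Groth.Agent.Lib.Helper1.Extend.extDInDIso (A := P)
    (B := MvPolynomial (Fin n) P) B) h2
  exact isPC_of_iso ((DerivedCategory.singleFunctor (ModuleCat.{u} (MvPolynomial (Fin n) P))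
    0).mapIso (polyTensorLinearEquiv (P := P) (B := B) n).toModuleIso) h3

theorem bpc_mvPolynomial_map {P B : Type u} [CommRing P] [CommRing B] (β : P →+* B)
    (hB : BPC β) (n : ℕ) :
    BPC (MvPolynomial.map β : MvPolynomial (Fin n) P →+* MvPolynomial (Fin n) B) := by
  letI := β.toAlgebra
  exact bpc_mvPolynomial_map_algebraMap (P := P) (B := B) n hB

end PolyBC

section PolyMap

variable {R B : Type u} [CommRing R] [CommRing B] {k : ℕ}
  (β : MvPolynomial (Fin k) R →+* B) (n : ℕ)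

/-- `R[x_1, …, x_{n+k}] ≃ R[y_1, …, y_k][x_1, …, x_n]` -/
noncomputable def splitEquiv :
    MvPolynomial (Fin (n + k)) R ≃ₐ[R] MvPolynomial (Fin n) (MvPolynomial (Fin k) R) :=
  (MvPolynomial.renameEquiv R finSumFinEquiv.symm).trans
    (MvPolynomial.sumAlgEquiv R (Fin n) (Fin k))

/-- the ring map `R[x_1, …, x_{n+k}] → B[x_1, …, x_n]` attached to `β : R[y_1, …, y_k] → B` -/
noncomputable def polyMap : MvPolynomial (Fin (n + k)) R →+* MvPolynomial (Fin n) B :=
  (MvPolynomial.map β).comp (splitEquiv (R := R) (k := k) n).toRingEquiv.toRingHom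

lemma polyMap_surjective (hβ : Function.Surjective β) : Function.Surjective (polyMap β n) := by
  unfold polyMap
  rw [RingHom.coe_comp]
  exact (MvPolynomial.map_surjective β hβ).comp
    (splitEquiv (R := R) (k := k) n).toRingEquiv.surjective

lemma bpc_polyMap (hB : BPC β) : BPC (polyMap β n) :=
  bpc_comp _ _ (bpc_of_bijective _ (splitEquiv (R := R) (k := k) n).toRingEquiv.bijective)
    (bpc_mvPolynomial_map β hB n)

lemma polyMap_comp_C : (polyMap β n).comp MvPolynomial.C =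
    (MvPolynomial.C : B →+* MvPolynomial (Fin n) B).comp (β.comp MvPolynomial.C) := by
  refine RingHom.ext fun r => ?_
  have h1 : (splitEquiv (R := R) (k := k) n) (MvPolynomial.C r) =
      MvPolynomial.C (MvPolynomial.C r) := by
    simp [splitEquiv]
  have h2 : polyMap β n (MvPolynomial.C r) =
      MvPolynomial.map β ((splitEquiv (R := R) (k := k) n) (MvPolynomial.C r)) := rfl
  rw [RingHom.comp_apply, h2, h1, MvPolynomial.map_C]
  rfl

end PolyMap

section CompKey

variable {X Y S : Scheme.{u}} (f : X ⟶ Y) (g : Y ⟶ S) (E : DCoh.D X) (m : ℤ)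

/-- the closed immersion `A^n_V ⟶ A^{n+k}_W` attached to a chart of `(V, W)` -/
noncomputable def cPoly {V : Y.Opens} {W : S.Opens} {k : ℕ}
    (β : MvPolynomial (Fin k) Γ(S, W) →+* Γ(Y, V)) (n : ℕ) :
    Spec (CommRingCat.of (MvPolynomial (Fin n) Γ(Y, V))) ⟶
      Spec (CommRingCat.of (MvPolynomial (Fin (n + k)) Γ(S, W))) :=
  Spec.map (CommRingCat.ofHom (polyMap β n))

lemma cPoly_strV {V : Y.Opens} (hV : IsAffineOpen V) {W : S.Opens} (hW : IsAffineOpen W)
    (hVW : V ≤ g ⁻¹ᵁ W) {k : ℕ} (β : MvPolynomial (Fin k) Γ(S, W) →+* Γ(Y, V))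
    (hβ : DerSch.IsChart g V W hVW β) (n : ℕ) :
    cPoly β n ≫ strV hW (n + k) = strV hV n ≫ g := by
  unfold cPoly strV
  rw [← Category.assoc, ← Spec.map_comp, ← CommRingCat.ofHom_comp, polyMap_comp_C, hβ.2,
    CommRingCat.ofHom_comp, Spec.map_comp, Category.assoc, Category.assoc]
  congr 1
  exact hW.SpecMap_appLE_fromSpec g hV hVW

/-- **composition with a pseudo-coherent morphism**, on affine opens -/
theorem relPC_iff_relPC_comp [LocallyOfFiniteType f] [LocallyOfFiniteType g]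
    (hg : ∀ n : ℤ, DerSch.IsNPseudoCoherent g n)
    {U : X.Opens} (hU : IsAffineOpen U) {V : Y.Opens} (hV : IsAffineOpen V) {W : S.Opens}
    (hW : IsAffineOpen W) (hUV : U ≤ f ⁻¹ᵁ V) (hVW : V ≤ g ⁻¹ᵁ W) :
    RelPC f E m U.ι hV ↔ RelPC (f ≫ g) E m U.ι hW := by
  haveI : IsAffine (U : Scheme.{u}) := hU
  obtain ⟨k, β, hβ⟩ := exists_isChart g hV hW hVW
  haveI := isClosedImmersion_chartImm' g hV hVW β hβ
  have hO := ho_chartImm g hg hV hW hVW β hβ
  have hBβ : BPC β :=
    bpc_of_bpc_imm hV β (bpc_appTop_of_ho (DerSch.chartImm V β) hO)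
  obtain ⟨n, φ, hφ⟩ := exists_isChart f hU hV hUV
  haveI := isClosedImmersion_chartImm' f hU hUV φ hφ
  have ha := chartImm_over f hU hV hUV φ hφ
  haveI hci : IsClosedImmersion (Spec.map (CommRingCat.ofHom (polyMap β n))) :=
    isClosedImmersion_specMap _ (polyMap_surjective β n hβ.1)
  haveI : IsClosedImmersion (cPoly β n) := hci
  have hc : HO (cPoly β n) :=
    ho_spec_of_bpc (polyMap β n) (polyMap_surjective β n hβ.1) (bpc_polyMap β n hBβ)
  have hac : (DerSch.chartImm U φ ≫ cPoly β n) ≫ strV hW (n + k) = U.ι ≫ f ≫ g := by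
    rw [Category.assoc, cPoly_strV g hV hW hVW β hβ n, ← Category.assoc, ha, Category.assoc]
  rw [relPC_iff_of_chart f E m U.ι hV (DerSch.chartImm U φ) ha,
    relPC_iff_of_chart (f ≫ g) E m U.ι hW (DerSch.chartImm U φ ≫ cPoly β n) hac]
  exact isPseudoCoherentD_pushD_comp_iff (DerSch.chartImm U φ) (cPoly β n) hc _ m

/-- **S12088** -/
theorem isPseudoCoherentRel_iff_comp [LocallyOfFiniteType f] [LocallyOfFiniteType g]
    (hg : ∀ n : ℤ, DerSch.IsNPseudoCoherent g n) :
    DerSch.IsPseudoCoherentRel f m E ↔ DerSch.IsPseudoCoherentRel (f ≫ g) m E := by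
  constructor
  · intro H
    refine ⟨inferInstance, Set.univ, ?_, fun W _ =>
      ⟨{U | ∃ V : Y.affineOpens, (V : Y.Opens) ≤ g ⁻¹ᵁ (W : S.Opens) ∧
        (U : X.Opens) ≤ f ⁻¹ᵁ (V : Y.Opens)}, ?_, ?_⟩⟩
    · apply le_antisymm le_top
      intro s _
      obtain ⟨W, hW, hsW, -⟩ := Opens.isBasis_iff_nbhd.1 S.isBasis_affineOpens
        (show s ∈ (⊤ : S.Opens) from trivial)
      exact Opens.mem_iSup.2 ⟨⟨W, hW⟩, Opens.mem_iSup.2 ⟨Set.mem_univ _, hsW⟩⟩
    · apply le_antisymm
      · refine iSup₂_le fun U hU => ?_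
        obtain ⟨V, hVW, hUV⟩ := hU
        intro x hx
        exact hVW (hUV hx)
      · intro x hx
        obtain ⟨V, hV, hxV, hVW⟩ := Opens.isBasis_iff_nbhd.1 Y.isBasis_affineOpens
          (show f.base x ∈ g ⁻¹ᵁ (W : S.Opens) from hx)
        obtain ⟨U, hU, hxU, hUV⟩ := Opens.isBasis_iff_nbhd.1 X.isBasis_affineOpens
          (show x ∈ f ⁻¹ᵁ V from hxV)
        exact Opens.mem_iSup.2 ⟨⟨U, hU⟩, Opens.mem_iSup.2 ⟨⟨⟨V, hV⟩, hVW, hUV⟩, hxU⟩⟩
    · rintro U ⟨V, hVW, hUV⟩ h
      rw [← relPC_iff_exists_chartPC (f ≫ g) E m U.2 W.2 h,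
        ← relPC_iff_relPC_comp f g E m hg U.2 V.2 W.2 hUV hVW]
      exact relPC_of_isPseudoCoherentRel f m E H U.2 V.2 hUV
  · intro H
    refine ⟨inferInstance, {V | ∃ W : S.affineOpens, (V : Y.Opens) ≤ g ⁻¹ᵁ (W : S.Opens)}, ?_,
      fun V hV => ⟨{U | (U : X.Opens) ≤ f ⁻¹ᵁ (V : Y.Opens)}, ?_, ?_⟩⟩
    · apply le_antisymm le_top
      intro y _
      obtain ⟨W, hW, hyW, -⟩ := Opens.isBasis_iff_nbhd.1 S.isBasis_affineOpens
        (show g.base y ∈ (⊤ : S.Opens) from trivial)
      obtain ⟨V, hV, hyV, hVW⟩ := Opens.isBasis_iff_nbhd.1 Y.isBasis_affineOpens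
        (show y ∈ g ⁻¹ᵁ (⟨W, hW⟩ : S.affineOpens).1 from hyW)
      exact Opens.mem_iSup.2 ⟨⟨V, hV⟩, Opens.mem_iSup.2 ⟨⟨⟨W, hW⟩, hVW⟩, hyV⟩⟩
    · apply le_antisymm
      · exact iSup₂_le fun U hU => hU
      · intro x hx
        obtain ⟨U, hU, hxU, hUV⟩ := Opens.isBasis_iff_nbhd.1 X.isBasis_affineOpens hx
        exact Opens.mem_iSup.2 ⟨⟨U, hU⟩, Opens.mem_iSup.2 ⟨hUV, hxU⟩⟩
    · obtain ⟨W, hVW⟩ := hV
      intro U _ h
      rw [← relPC_iff_exists_chartPC f E m U.2 V.2 h,
        relPC_iff_relPC_comp f g E m hg U.2 V.2 W.2 h hVW]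
      exact relPC_of_isPseudoCoherentRel (f ≫ g) m E H U.2 W.2 (fun x hx => hVW (h hx))

end CompKey

end Groth.Agent.Lib.Helper1.ChartInd
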