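import Mathlib
import Groth.Agent.Lib.Helper1ChartComp
import Groth.Agent.Lib.Helper10FlatPC2
set_option backward.isDefEq.respectTransparency.types false
set_option autoImplicit false
set_option linter.style.haveILetI false
set_option maxHeartbeats 400000
universe u
open CategoryTheory CategoryTheory.Limits AlgebraicGeometry Opposite TopologicalSpace Pretriangulated

attribute [local instance] HasDerivedCategory.standard

namespace Groth.Agent.Lib.Helper1.ChartInd

open Groth.Agent.Lib.Helper1.SPL Groth.Agent.Lib.Helper1.Sky ZeroObject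
open Groth.Agent.Lib.Helper1.ClosedPC Groth.Agent.Lib.Helper1.ChartPC
open Groth.Agent.Lib.Helper1.KoszulPerf Groth.Agent.Lib.Helper1.TildePC
open Groth.Agent.Lib.Helper1.Restrict Groth.Agent.Lib.Helper1.RelPC Groth.Agent.Lib.Helper1.PC

section FlatLFP

variable {T S : Scheme.{u}}

/-- the chart immersion of a pseudo-coherent chart has pseudo-coherent structure sheaf -/
lemma ho_imm_of_bpc {V : T.Opens} (hV : IsAffineOpen V) {P : Type u} [CommRing P]
    (β : P →+* Γ(T, V)) (hβ : Function.Surjective β) (hB : BPC β)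
    [IsClosedImmersion (imm V β)] : HO (imm V β) := by
  apply ho_of_bpc_appTop
  haveI : IsIso V.toSpecΓ := by
    rw [← hV.isoSpec_hom]
    infer_instance
  haveI : IsIso V.toSpecΓ.appTop := inferInstanceAs (IsIso (Scheme.Γ.map V.toSpecΓ.op))
  unfold imm
  rw [Scheme.Hom.comp_appTop, CommRingCat.hom_comp]
  exact bpc_comp _ _ (bpc_appTop_specMap β hB)
    (bpc_of_bijective _ (ConcreteCategory.bijective_of_isIso V.toSpecΓ.appTop))

/-- a chart with pseudo-coherent ring map passes the test for the structure sheaf -/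
lemma chartPC_unit_of_bpc {V : T.Opens} (hV : IsAffineOpen V) {W : S.Opens} {k : ℕ}
    (β : MvPolynomial (Fin k) Γ(S, W) →+* Γ(T, V)) (hβ : Function.Surjective β) (hB : BPC β)
    (n : ℤ) : DerSch.ChartPC n (DCoh.toD T (DerSch.unitCx T)) V W β := by
  haveI hci : IsClosedImmersion (imm V β) := isClosedImmersion_imm V hV β hβ
  haveI : IsClosedImmersion (DerSch.chartImm V β) := hci
  rw [chartPC_iff]
  have hO : HO (DerSch.chartImm V β) := ho_imm_of_bpc hV β hβ hB
  refine isPseudoCoherentD_of_iso (chartUnitIso (DerSch.chartImm V β)).symm ?_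
  rw [isPseudoCoherentD_iff_hasPresM]
  exact fun x => hO n x

/-- **a flat morphism locally of finite presentation is pseudo-coherent** -/
theorem isNPseudoCoherent_of_flat (b : T ⟶ S) [Flat b] [LocallyOfFinitePresentation b] (n : ℤ) :
    DerSch.IsNPseudoCoherent b n := by
  refine isPseudoCoherentRel_of_forall b _ n (fun U V h => ?_)
  letI : Algebra Γ(S, (V : S.Opens)) Γ(T, (U : T.Opens)) :=
    (b.appLE (V : S.Opens) (U : T.Opens) h).hom.toAlgebra
  haveI : Module.Flat Γ(S, (V : S.Opens)) Γ(T, (U : T.Opens)) :=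
    HasRingHomProperty.appLE @Flat b inferInstance V U h
  haveI : Algebra.FinitePresentation Γ(S, (V : S.Opens)) Γ(T, (U : T.Opens)) :=
    HasRingHomProperty.appLE @LocallyOfFinitePresentation b inferInstance V U h
  obtain ⟨k, φ, hφ, hpc⟩ := Groth.Agent.Lib.Helper10.FlatPC.isPseudoCoherentHom_of_flat
    Γ(S, (V : S.Opens)) Γ(T, (U : T.Opens))
  have hB : BPC φ.toRingHom := by
    letI := φ.toRingHom.toAlgebra
    exact bpc_of_algebra hpc
  refine ⟨k, φ.toRingHom, ⟨hφ, ?_⟩, chartPC_unit_of_bpc U.2 φ.toRingHom hφ hB n⟩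
  ext r
  exact φ.commutes r

end FlatLFP

end Groth.Agent.Lib.Helper1.ChartInd
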