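import Mathlib
import Groth.Agent.Lib.Helper1ChartComp
set_option backward.isDefEq.respectTransparency.types false
set_option autoImplicit false
set_option linter.style.haveILetI false
set_option maxHeartbeats 400000
universe u
open CategoryTheory CategoryTheory.Limits AlgebraicGeometry Opposite TopologicalSpace Pretriangulated

attribute [local instance] HasDerivedCategory.standard

namespace Groth.Agent.Lib.Helper1.ChartInd

open Groth.Agent.Lib.Helper1.SPL Groth.Agent.Lib.Helper1.Sky ZeroObject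
open Groth.Agent.Lib.Helper1.ClosedPC Groth.Agent.Lib.Helper1.ChartPC
open Groth.Agent.Lib.Helper1.KoszulPerf Groth.Agent.Lib.Helper1.TildePC
open Groth.Agent.Lib.Helper1.Restrict Groth.Agent.Lib.Helper1.RelPC Groth.Agent.Lib.Helper1.PC

section ClosedImm

variable {X P : Scheme.{u}} (i : X ⟶ P) [IsClosedImmersion i] (E : DCoh.D X) (m : ℤ)

/-- the chart in zero variables of a closed immersion over an affine open -/
noncomputable def chart₀ (V : P.Opens) : MvPolynomial (Fin 0) Γ(P, V) →+* Γ(X, i ⁻¹ᵁ V) :=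
  (i.app V).hom.comp (MvPolynomial.isEmptyAlgEquiv Γ(P, V) (Fin 0)).toRingEquiv.toRingHom

lemma isChart_chart₀ {V : P.Opens} (hV : IsAffineOpen V) :
    DerSch.IsChart i (i ⁻¹ᵁ V) V le_rfl (chart₀ i V) := by
  refine ⟨?_, ?_⟩
  · unfold chart₀
    rw [RingHom.coe_comp]
    exact (Scheme.Hom.app_surjective i V hV).comp
      (MvPolynomial.isEmptyAlgEquiv Γ(P, V) (Fin 0)).toRingEquiv.surjective
  · refine RingHom.ext fun r => ?_
    have h1 : (MvPolynomial.isEmptyAlgEquiv Γ(P, V) (Fin 0)) (MvPolynomial.C r) = r := by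
      apply (MvPolynomial.isEmptyAlgEquiv Γ(P, V) (Fin 0)).symm.injective
      rw [AlgEquiv.symm_apply_apply, MvPolynomial.isEmptyAlgEquiv_symm_apply]
    have h2 : chart₀ i V (MvPolynomial.C r) =
        (i.app V).hom ((MvPolynomial.isEmptyAlgEquiv Γ(P, V) (Fin 0)) (MvPolynomial.C r)) := rfl
    rw [RingHom.comp_apply, h2, h1, Scheme.Hom.app_eq_appLE]

/-- isomorphisms have pseudo-coherent structure sheaf direct image -/
lemma ho_of_isIso {Z T : Scheme.{u}} [IsAffine T] (e : Z ⟶ T) [IsIso e] : HO e := by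
  apply ho_of_bpc_appTop
  haveI : IsIso e.appTop := inferInstanceAs (IsIso (Scheme.Γ.map e.op))
  exact bpc_of_bijective _ (ConcreteCategory.bijective_of_isIso e.appTop)

/-- the test on the zero-variable chart is absolute pseudo-coherence of the direct image -/
theorem chartPC_chart₀_iff {V : P.Opens} (hV : IsAffineOpen V) :
    DerSch.ChartPC m E (i ⁻¹ᵁ V) V (chart₀ i V) ↔
      DCoh.IsPseudoCoherentD m ((resD V.ι).obj ((pushD i).obj E)) := by
  have hU : IsAffineOpen (i ⁻¹ᵁ V) := hV.preimage i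
  have hch := isChart_chart₀ i hV
  haveI := isClosedImmersion_chartImm' i hU le_rfl (chart₀ i V) hch
  haveI : IsAffine (V : Scheme.{u}) := hV
  rw [chartPC_iff]
  let ε : Spec (CommRingCat.of (MvPolynomial (Fin 0) Γ(P, V))) ⟶ (V : Scheme.{u}) :=
    Spec.map (CommRingCat.ofHom (MvPolynomial.C : Γ(P, V) →+* MvPolynomial (Fin 0) Γ(P, V))) ≫
      hV.isoSpec.inv
  haveI : IsIso (Spec.map (CommRingCat.ofHom
      (MvPolynomial.C : Γ(P, V) →+* MvPolynomial (Fin 0) Γ(P, V)))) := by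
    have : IsIso (CommRingCat.ofHom
        (MvPolynomial.C : Γ(P, V) →+* MvPolynomial (Fin 0) Γ(P, V))) := by
      rw [← MvPolynomial.isEmptyAlgEquiv_symm_toRingHom (R := Γ(P, V)) (σ := Fin 0)]
      exact (MvPolynomial.isEmptyAlgEquiv Γ(P, V) (Fin 0)).symm.toRingEquiv.toCommRingCatIso.isIso_hom
    infer_instance
  haveI : IsIso ε := by
    show IsIso (_ ≫ _)
    infer_instance
  have hε : DerSch.chartImm (i ⁻¹ᵁ V) (chart₀ i V) ≫ ε = i ∣_ V := by
    rw [← cancel_mono V.ι, morphismRestrict_ι, Category.assoc]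
    have h := chartImm_over i hU hV le_rfl (chart₀ i V) hch
    have h0 : ε ≫ V.ι = strV hV 0 := by
      show (_ ≫ hV.isoSpec.inv) ≫ V.ι = _
      rw [Category.assoc, hV.isoSpec_inv_ι]
    rw [h0, h]
  have h1 := isPseudoCoherentD_pushD_comp_iff (DerSch.chartImm (i ⁻¹ᵁ V) (chart₀ i V)) ε
    (ho_of_isIso ε) ((resD (i ⁻¹ᵁ V).ι).obj E) m
  have h2 := isPseudoCoherentD_pushD_congr hε ((resD (i ⁻¹ᵁ V).ι).obj E) m
  have e := (pushResIso i V).app E
  exact h1.trans (h2.trans ⟨isPseudoCoherentD_of_iso e.symm, isPseudoCoherentD_of_iso e⟩)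

/-- **relative pseudo-coherence for a closed immersion** is absolute pseudo-coherence of the
direct image -/
theorem isPseudoCoherentRel_closedImmersion_iff :
    DerSch.IsPseudoCoherentRel i m E ↔ DCoh.IsPseudoCoherentD m ((pushD i).obj E) := by
  constructor
  · intro H
    rw [isPseudoCoherentD_iff_hasPresM]
    intro p
    obtain ⟨V', hV', hpV', -⟩ := Opens.isBasis_iff_nbhd.1 P.isBasis_affineOpens
      (show p ∈ (⊤ : P.Opens) from trivial)
    obtain ⟨V, hV, hpV⟩ : ∃ V : P.Opens, IsAffineOpen V ∧ p ∈ V := ⟨V', hV', hpV'⟩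
    have c := chartPC_of_isPseudoCoherentRel i E m H (hV.preimage i) hV le_rfl (chart₀ i V)
      (isChart_chart₀ i hV)
    rw [chartPC_chart₀_iff i E m hV, isPseudoCoherentD_iff_hasPresM] at c
    exact hasPresM_of_resD V.ι m _ ⟨p, hpV⟩ (c _)
  · intro H
    refine ⟨inferInstance, Set.univ, ?_, fun V _ =>
      ⟨{(⟨i ⁻¹ᵁ (V : P.Opens), V.2.preimage i⟩ : X.affineOpens)}, ?_, ?_⟩⟩
    · apply le_antisymm le_top
      intro s _
      obtain ⟨V, hV, hsV, -⟩ := Opens.isBasis_iff_nbhd.1 P.isBasis_affineOpens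
        (show s ∈ (⊤ : P.Opens) from trivial)
      exact Opens.mem_iSup.2 ⟨⟨V, hV⟩, Opens.mem_iSup.2 ⟨Set.mem_univ _, hsV⟩⟩
    · simp
      rfl
    · intro U hU h
      obtain rfl : U = ⟨i ⁻¹ᵁ (V : P.Opens), V.2.preimage i⟩ := hU
      exact ⟨0, chart₀ i V, isChart_chart₀ i V.2,
        (chartPC_chart₀_iff i E m V.2).2 (isPseudoCoherentD_resD m (V : P.Opens).ι _ H)⟩

end ClosedImm

end Groth.Agent.Lib.Helper1.ChartInd
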