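import Mathlib
import Groth.Agent.Lib.Helper1ChartComp3
import Groth.Agent.Lib.Helper1ChartComp2
import Groth.Agent.S6935
set_option backward.isDefEq.respectTransparency.types false
set_option autoImplicit false
set_option linter.style.haveILetI false
set_option maxHeartbeats 400000
universe u
open CategoryTheory CategoryTheory.Limits AlgebraicGeometry Opposite TopologicalSpace Pretriangulated

attribute [local instance] HasDerivedCategory.standard

namespace Groth.Agent.Lib.Helper1.ChartInd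

open Groth.Agent.Lib.Helper1.SPL Groth.Agent.Lib.Helper1.Sky ZeroObject
open Groth.Agent.Lib.Helper1.ClosedPC Groth.Agent.Lib.Helper1.ChartPC
open Groth.Agent.Lib.Helper1.KoszulPerf Groth.Agent.Lib.Helper1.TildePC
open Groth.Agent.Lib.Helper1.Restrict Groth.Agent.Lib.Helper1.RelPC Groth.Agent.Lib.Helper1.PC

section Level

variable {A B C : Type u} [CommRing A] [CommRing B] [CommRing C]

/-- `B` is `j`-pseudo-coherent as an `A`-module via `φ` -/
def PCj (φ : A →+* B) (j : ℤ) : Prop :=
  DRing.IsPseudoCoherent A j ((G φ).obj (ModuleCat.of B B))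

lemma bpc_iff_forall_pcj (φ : A →+* B) : BPC φ ↔ ∀ j, PCj φ j := Iff.rfl

/-- L1 -/
lemma pcj_comp_of_bpc (φ : A →+* B) (ψ : B →+* C) (hφ : BPC φ) (j : ℤ) (hψ : PCj ψ j) :
    PCj (ψ.comp φ) j := by
  have h1 : DRing.IsPseudoCoherent A j ((DRing.restrictD φ).obj ((G ψ).obj (ModuleCat.of C C))) :=
    isPC_restrictD φ hφ _ j hψ
  refine isPC_of_iso ?_ h1
  exact restrictDSingleIso φ _ 0 ≪≫ (DerivedCategory.singleFunctor (ModuleCat.{u} A) 0).mapIso
    (ModuleCat.restrictScalarsComp'App φ ψ (ψ.comp φ) rfl (ModuleCat.of C C)).symm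

/-- L2 -/
lemma pcj_comp_bijective (φ : A →+* B) (ψ : B →+* C) (hψ : Function.Bijective ψ) (j : ℤ)
    (hφ : PCj φ j) : PCj (ψ.comp φ) j := by
  let e : ((ModuleCat.restrictScalars.{u} φ).obj (ModuleCat.of B B)) ≃ₗ[A]
      ((ModuleCat.restrictScalars.{u} (ψ.comp φ)).obj (ModuleCat.of C C)) :=
    { toFun := fun b => (ψ (show B from b) : C)
      map_add' := fun a b => map_add ψ _ _
      map_smul' := fun a b => by
        show ψ (φ a * (show B from b)) = ψ (φ a) * ψ (show B from b)
        exact map_mul ψ _ _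
      invFun := fun c => (Equiv.ofBijective ψ hψ).symm c
      left_inv := fun b => (Equiv.ofBijective ψ hψ).symm_apply_apply b
      right_inv := fun c => (Equiv.ofBijective ψ hψ).apply_symm_apply c }
  exact isPC_of_iso ((DerivedCategory.singleFunctor (ModuleCat.{u} A) 0).mapIso e.toModuleIso) hφ

end Level

section LevelGeom

variable {Z X : Scheme.{u}} (i : Z ⟶ X) [IsClosedImmersion i]

/-- L3/L4: the level-wise dictionary between `i_* O_Z` near an affine open and the ring map -/
theorem hasPresM_push_structure_iff_pcj {U : X.Opens} (hU : IsAffineOpen U) (m : ℤ) :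
    (∀ x : X, x ∈ U → HasPresM m (DCoh.inD X (MM i)) x) ↔ PCj (i.app U).hom m := by
  have hsurj : Function.Surjective (i.app U).hom := Scheme.Hom.app_surjective i _ hU
  let I : Ideal Γ(X, U) := RingHom.ker (i.app U).hom
  have e1 : (resD hU.fromSpec).obj (DCoh.inD X (MM i)) ≅
      DCoh.inD (Spec Γ(X, U)) (NN i hU) :=
    ((Scheme.Modules.restrictFunctor hU.fromSpec).mapDerivedCategorySingleFunctor 0).app (MM i)
  have e2 : DCoh.inD (Spec Γ(X, U)) (NN i hU) ≅ DCoh.inD (Spec Γ(X, U))
      (tilde (ModuleCat.of Γ(X, U) (Γ(X, U) ⧸ I))) :=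
    (DerivedCategory.singleFunctor _ 0).mapIso (restrictIsoTilde i hU I rfl)
  have e3 : (tildeD' Γ(X, U)).obj ((DerivedCategory.singleFunctor _ 0).obj
      (ModuleCat.of Γ(X, U) (Γ(X, U) ⧸ I))) ≅
      DCoh.inD (Spec Γ(X, U)) (tilde (ModuleCat.of Γ(X, U) (Γ(X, U) ⧸ I))) :=
    ((tilde.functor (CommRingCat.of Γ(X, U))).mapDerivedCategorySingleFunctor 0).app _
  constructor
  · intro h
    have h2 : DCoh.IsPseudoCoherentD m ((resD hU.fromSpec).obj (DCoh.inD X (MM i))) := by
      rw [isPseudoCoherentD_iff_hasPresM]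
      intro y
      refine hasPresM_resD hU.fromSpec m _ y (h _ ?_)
      have : hU.fromSpec.base y ∈ hU.fromSpec.opensRange := ⟨y, rfl⟩
      rwa [hU.opensRange_fromSpec] at this
    have h1 : DCoh.IsPseudoCoherentD m ((tildeD' Γ(X, U)).obj
        ((DerivedCategory.singleFunctor _ 0).obj (ModuleCat.of Γ(X, U) (Γ(X, U) ⧸ I)))) :=
      isPseudoCoherentD_of_iso (e3 ≪≫ e2.symm ≪≫ e1.symm).symm h2
    have hpc := isPC_of_tildeD' _ m h1
    exact isPC_of_iso ((DerivedCategory.singleFunctor _ 0).mapIso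
        (quotKerIso (i.app U).hom hsurj)) hpc
  · intro hB x hx
    have hpc : DRing.IsPseudoCoherent Γ(X, U) m ((DerivedCategory.singleFunctor _ 0).obj
        (ModuleCat.of Γ(X, U) (Γ(X, U) ⧸ I))) :=
      isPC_of_iso ((DerivedCategory.singleFunctor _ 0).mapIso
        (quotKerIso (i.app U).hom hsurj)).symm hB
    have h1 := isPseudoCoherentD_tildeD' _ m hpc
    have h2 : DCoh.IsPseudoCoherentD m ((resD hU.fromSpec).obj (DCoh.inD X (MM i))) :=
      isPseudoCoherentD_of_iso (e3 ≪≫ e2.symm ≪≫ e1.symm) h1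
    have hx' : x ∈ hU.fromSpec.opensRange := by rw [hU.opensRange_fromSpec]; exact hx
    obtain ⟨y, rfl⟩ := hx'
    exact hasPresM_of_resD hU.fromSpec m _ y ((isPseudoCoherentD_iff_hasPresM m _).1 h2 y)

/-- for an affine target -/
theorem isPC_push_structure_iff_pcj [IsAffine X] (m : ℤ) :
    DCoh.IsPseudoCoherentD m (DCoh.inD X (MM i)) ↔ PCj i.appTop.hom m := by
  rw [isPseudoCoherentD_iff_hasPresM]
  have h0 := hasPresM_push_structure_iff_pcj i (U := ⊤) (isAffineOpen_top _) m
  exact ⟨fun h => h0.1 (fun x _ => h x), fun h x => h0.2 h x trivial⟩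

end LevelGeom

section LevelChart

variable {Y : Scheme.{u}}

/-- L6/L7: the level-wise dictionary for chart immersions -/
theorem isPC_imm_structure_iff_pcj {V : Y.Opens} (hV : IsAffineOpen V) {P : Type u} [CommRing P]
    (β : P →+* Γ(Y, V)) [IsClosedImmersion (imm V β)] (m : ℤ) :
    DCoh.IsPseudoCoherentD m (DCoh.inD _ (MM (imm V β))) ↔ PCj β m := by
  rw [isPC_push_structure_iff_pcj]
  haveI : IsIso V.toSpecΓ := by
    rw [← hV.isoSpec_hom]
    infer_instance
  haveI : IsIso V.toSpecΓ.appTop := inferInstanceAs (IsIso (Scheme.Γ.map V.toSpecΓ.op))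
  have hnat : (Spec.map (CommRingCat.ofHom β)).appTop =
      (Scheme.ΓSpecIso (CommRingCat.of P)).hom ≫ CommRingCat.ofHom β ≫
        (Scheme.ΓSpecIso (CommRingCat.of Γ(Y, V))).inv := by
    rw [← Category.assoc, Iso.eq_comp_inv]
    exact Scheme.ΓSpecIso_naturality (CommRingCat.ofHom β)
  have key : (imm V β).appTop = (Scheme.ΓSpecIso (CommRingCat.of P)).hom ≫
      CommRingCat.ofHom β ≫ ((Scheme.ΓSpecIso (CommRingCat.of Γ(Y, V))).inv ≫
        V.toSpecΓ.appTop) := by
    unfold imm
    rw [Scheme.Hom.comp_appTop, hnat]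
    simp
  have key' : CommRingCat.ofHom β = (Scheme.ΓSpecIso (CommRingCat.of P)).inv ≫
      (imm V β).appTop ≫ (inv V.toSpecΓ.appTop ≫
        (Scheme.ΓSpecIso (CommRingCat.of Γ(Y, V))).hom) := by
    rw [key]
    simp
  constructor
  · intro h
    have h0 : β = (CommRingCat.ofHom β).hom := rfl
    rw [h0, key']
    simp only [CommRingCat.hom_comp]
    exact pcj_comp_of_bpc _ _ (bpc_of_bijective _ (ConcreteCategory.bijective_of_isIso _)) m
      (pcj_comp_bijective _ _ (ConcreteCategory.bijective_of_isIso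
        (inv V.toSpecΓ.appTop ≫ (Scheme.ΓSpecIso (CommRingCat.of Γ(Y, V))).hom)) m h)
  · intro h
    rw [key]
    simp only [CommRingCat.hom_comp]
    exact pcj_comp_of_bpc _ _ (bpc_of_bijective _ (ConcreteCategory.bijective_of_isIso _)) m
      (pcj_comp_bijective _ _ (ConcreteCategory.bijective_of_isIso
        ((Scheme.ΓSpecIso (CommRingCat.of Γ(Y, V))).inv ≫ V.toSpecΓ.appTop)) m h)

end LevelChart

section NegOne

variable {P A : Type u} [CommRing P] [CommRing A]

/-- a surjective ring map is `(-1)`-pseudo-coherent iff its kernel is finitely generated -/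
theorem pcj_negOne_iff_ker_fg (φ : P →+* A) (hφ : Function.Surjective φ) :
    PCj φ (-1) ↔ (RingHom.ker φ).FG := by
  letI := φ.toAlgebra
  have h1 : PCj φ (-1) ↔ DRing.IsPseudoCoherentModule P (-1) A :=
    ⟨isPC_of_iso ((DerivedCategory.singleFunctor (ModuleCat.{u} P) 0).mapIso
        (restrictScalarsAlgebraIso (A := P) (B := A) A)),
      isPC_of_iso ((DerivedCategory.singleFunctor (ModuleCat.{u} P) 0).mapIso
        (restrictScalarsAlgebraIso (A := P) (B := A) A)).symm⟩
  rw [h1, (Groth.Agent.S6935.result P A).2]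
  have hl : Function.Surjective (Algebra.linearMap P A) := hφ
  rw [← Module.FinitePresentation.fg_ker_iff (Algebra.linearMap P A) hl]
  have hk : LinearMap.ker (Algebra.linearMap P A) = RingHom.ker φ := by
    ext p
    rfl
  rw [hk]
  rfl

end NegOne

section Unit

variable {T S : Scheme.{u}}

/-- the chart test for the structure sheaf, level-wise -/
theorem chartPC_unit_iff_pcj {V : T.Opens} (hV : IsAffineOpen V) {W : S.Opens} {k : ℕ}
    (β : MvPolynomial (Fin k) Γ(S, W) →+* Γ(T, V)) (hβ : Function.Surjective β) (n : ℤ) :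
    DerSch.ChartPC n (DCoh.toD T (DerSch.unitCx T)) V W β ↔ PCj β n := by
  haveI hci : IsClosedImmersion (imm V β) := isClosedImmersion_imm V hV β hβ
  haveI : IsClosedImmersion (DerSch.chartImm V β) := hci
  rw [chartPC_iff, ← isPC_imm_structure_iff_pcj hV β n]
  exact ⟨isPseudoCoherentD_of_iso (chartUnitIso (DerSch.chartImm V β)),
    isPseudoCoherentD_of_iso (chartUnitIso (DerSch.chartImm V β)).symm⟩

/-- **S6225** -/
theorem isNPseudoCoherent_negOne_iff (f : T ⟶ S) [LocallyOfFiniteType f] :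
    DerSch.IsNPseudoCoherent f (-1) ↔ LocallyOfFinitePresentation f := by
  constructor
  · intro H
    rw [HasRingHomProperty.iff_appLE (P := @LocallyOfFinitePresentation)]
    intro V U h
    obtain ⟨k, φ, hφ⟩ := exists_isChart f U.2 V.2 h
    have c := chartPC_of_isPseudoCoherentRel f _ (-1) H U.2 V.2 h φ hφ
    rw [chartPC_unit_iff_pcj U.2 φ hφ.1, pcj_negOne_iff_ker_fg φ hφ.1] at c
    show (f.appLE (V : S.Opens) (U : T.Opens) h).hom.FinitePresentation
    letI := (f.appLE (V : S.Opens) (U : T.Opens) h).hom.toAlgebra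
    let φ' : MvPolynomial (Fin k) Γ(S, (V : S.Opens)) →ₐ[Γ(S, (V : S.Opens))] Γ(T, (U : T.Opens)) :=
      { φ with commutes' := fun r => DFunLike.congr_fun hφ.2 r }
    exact Algebra.FinitePresentation.of_surjective (f := φ') hφ.1 c
  · intro H
    refine isPseudoCoherentRel_of_forall f _ (-1) (fun U V h => ?_)
    obtain ⟨k, φ, hφ⟩ := exists_isChart f U.2 V.2 h
    refine ⟨k, φ, hφ, ?_⟩
    rw [chartPC_unit_iff_pcj U.2 φ hφ.1, pcj_negOne_iff_ker_fg φ hφ.1]
    have hfp : (f.appLE (V : S.Opens) (U : T.Opens) h).hom.FinitePresentation :=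
      HasRingHomProperty.appLE @LocallyOfFinitePresentation f H V U h
    letI := (f.appLE (V : S.Opens) (U : T.Opens) h).hom.toAlgebra
    haveI : Algebra.FinitePresentation Γ(S, (V : S.Opens)) Γ(T, (U : T.Opens)) := hfp
    let φ' : MvPolynomial (Fin k) Γ(S, (V : S.Opens)) →ₐ[Γ(S, (V : S.Opens))] Γ(T, (U : T.Opens)) :=
      { φ with commutes' := fun r => DFunLike.congr_fun hφ.2 r }
    exact Algebra.FinitePresentation.ker_fG_of_surjective φ' hφ.1

end Unit

end Groth.Agent.Lib.Helper1.ChartInd
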