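import Mathlib
import Groth.Agent.Lib.Helper1ChartLevel
set_option backward.isDefEq.respectTransparency.types false
set_option autoImplicit false
set_option linter.style.haveILetI false
set_option maxHeartbeats 400000
universe u
open CategoryTheory CategoryTheory.Limits AlgebraicGeometry Opposite TopologicalSpace Pretriangulated

attribute [local instance] HasDerivedCategory.standard

namespace Groth.Agent.Lib.Helper1.ChartInd

open Groth.Agent.Lib.Helper1.SPL Groth.Agent.Lib.Helper1.Sky ZeroObject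
open Groth.Agent.Lib.Helper1.ClosedPC Groth.Agent.Lib.Helper1.ChartPC
open Groth.Agent.Lib.Helper1.KoszulPerf Groth.Agent.Lib.Helper1.TildePC
open Groth.Agent.Lib.Helper1.Restrict Groth.Agent.Lib.Helper1.RelPC Groth.Agent.Lib.Helper1.PC
open Groth.Agent.Lib.Helper1.PCTower Groth.Agent.S7017

section Level2

variable {A B C : Type u} [CommRing A] [CommRing B] [CommRing C]

/-- level-wise `isPC_G_pi` -/
lemma isPC_G_pi_level (φ : A →+* B) (j : ℤ) (hB : PCj φ j) (n : ℕ) :
    DRing.IsPseudoCoherent A j ((G φ).obj (ModuleCat.of B (Fin n → B))) := by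
  induction n with
  | zero =>
    refine isPC_of_isZero j _ ((G φ).map_isZero ?_)
    exact ModuleCat.isZero_of_subsingleton _
  | succ n ih =>
    let e : ModuleCat.of B (Fin (n + 1) → B) ≅ ModuleCat.of B B ⊞ ModuleCat.of B (Fin n → B) :=
      (Fin.consLinearEquiv B (fun _ : Fin (n + 1) => B)).symm.toModuleIso ≪≫
        (ModuleCat.biprodIsoProd (ModuleCat.of B B) (ModuleCat.of B (Fin n → B))).symm
    have := preservesBinaryBiproducts_of_preservesBiproducts (G φ)
    exact isPC_of_iso ((G φ).mapIso e ≪≫ (G φ).mapBiprod _ _).symm (isPC_biprod j _ _ hB ih)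

/-- the key ring-level claim: a module which is `(1-k)`-pseudo-coherent over `B`, where `B` is
`s`-pseudo-coherent over `A`, is `max (1-k) s`-pseudo-coherent over `A` -/
theorem isPC_G_of_pcj_aux (φ : A →+* B) (s : ℤ) (hφ : PCj φ s) (k : ℕ) :
    ∀ (M : ModuleCat.{u} B),
      DRing.IsPseudoCoherent B (1 - k) ((DerivedCategory.singleFunctor (ModuleCat.{u} B) 0).obj M) →
      DRing.IsPseudoCoherent A (max (1 - k) s) ((G φ).obj M) := by
  induction k with
  | zero =>
    intro M _
    haveI : ((G φ).obj M).IsLE (1 - 1) := by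
      show ((DerivedCategory.singleFunctor (ModuleCat.{u} A) 0).obj _).IsLE (1 - 1)
      norm_num
      infer_instance
    exact isPC_mono (by simp) (isPC_of_isLE 1 ((G φ).obj M))
  | succ k ih =>
    intro M hM
    have h0 : DRing.IsPseudoCoherent B 0
        ((DerivedCategory.singleFunctor (ModuleCat.{u} B) 0).obj M) :=
      isPC_mono (by push_cast; lia) hM
    have hfin : Module.Finite B M := by
      have := (Groth.Agent.S6935.result B M).1.1 h0
      exact this
    obtain ⟨n, π, hπ⟩ := Module.Finite.exists_fin' B M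
    have hF : FF (ModuleCat.of B (Fin n → B)) :=
      ⟨inferInstanceAs (Module.Finite B (Fin n → B)), inferInstanceAs (Module.Free B (Fin n → B))⟩
    have hS := LinearMap.shortExact_shortComplexKer hπ
    have hT := hS.singleTriangle_distinguished
    have h2 : DRing.IsPseudoCoherent B ((-(k : ℤ)) + 1)
        ((DerivedCategory.singleFunctor (ModuleCat.{u} B) 0).obj (ModuleCat.of B (Fin n → B))) :=
      isPC_of_rep _ (rep_single _ hF 0)
    have hM' : DRing.IsPseudoCoherent B (-(k : ℤ))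
        ((DerivedCategory.singleFunctor (ModuleCat.{u} B) 0).obj M) := by
      have e : (1 : ℤ) - ((k + 1 : ℕ) : ℤ) = -(k : ℤ) := by push_cast; ring
      rwa [e] at hM
    have hK := isPC_obj₁ _ hT (-(k : ℤ)) h2 hM'
    have hK' : DRing.IsPseudoCoherent B (1 - (k : ℤ))
        ((DerivedCategory.singleFunctor (ModuleCat.{u} B) 0).obj
          (ModuleCat.of B (LinearMap.ker π))) := by
      have e : (1 : ℤ) - (k : ℤ) = -(k : ℤ) + 1 := by ring
      rw [e]
      exact hK
    have hKA := ih _ hK'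
    have hS' := hS.map_of_exact (ModuleCat.restrictScalars.{u} φ)
    have hT' := hS'.singleTriangle_distinguished
    have hPA := isPC_G_pi_level φ s hφ n
    have e : (1 : ℤ) - ((k + 1 : ℕ) : ℤ) = -(k : ℤ) := by push_cast; ring
    rw [e]
    refine isPC_obj₃ _ hT' (max (-(k : ℤ)) s) ?_ ?_
    · exact isPC_mono (by omega) hKA
    · exact isPC_mono (le_max_right _ _) hPA

theorem isPC_G_of_pcj (φ : A →+* B) (s : ℤ) (hφ : PCj φ s) (r : ℤ) (M : ModuleCat.{u} B)
    (hM : DRing.IsPseudoCoherent B r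
      ((DerivedCategory.singleFunctor (ModuleCat.{u} B) 0).obj M)) :
    DRing.IsPseudoCoherent A (max r s) ((G φ).obj M) := by
  by_cases hr : 1 ≤ r
  · haveI : ((G φ).obj M).IsLE (1 - 1) := by
      show ((DerivedCategory.singleFunctor (ModuleCat.{u} A) 0).obj _).IsLE (1 - 1)
      norm_num
      infer_instance
    exact isPC_mono (le_trans hr (le_max_left _ _)) (isPC_of_isLE 1 ((G φ).obj M))
  · have e : r = 1 - ((1 - r).toNat : ℤ) := by
      rw [Int.toNat_of_nonneg (by lia)]
      ring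
    rw [e] at hM ⊢
    exact isPC_G_of_pcj_aux φ s hφ _ M hM

/-- composition of level-wise pseudo-coherent ring maps -/
theorem pcj_comp (φ : A →+* B) (ψ : B →+* C) (s r : ℤ) (hφ : PCj φ s) (hψ : PCj ψ r) :
    PCj (ψ.comp φ) (max r s) := by
  have h1 := isPC_G_of_pcj φ s hφ r _ hψ
  refine isPC_of_iso ?_ h1
  exact (DerivedCategory.singleFunctor (ModuleCat.{u} A) 0).mapIso
    (ModuleCat.restrictScalarsComp'App φ ψ (ψ.comp φ) rfl (ModuleCat.of C C)).symm

end Level2

section PolyLevel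

open TensorProduct

theorem pcj_mvPolynomial_map_algebraMap {P B : Type u} [CommRing P] [CommRing B] [Algebra P B]
    (n : ℕ) (j : ℤ) (hB : PCj (algebraMap P B) j) :
    PCj (MvPolynomial.map (algebraMap P B) :
      MvPolynomial (Fin n) P →+* MvPolynomial (Fin n) B) j := by
  have h1 : DRing.IsPseudoCoherent P j (Dual.inD P B) :=
    isPC_of_iso ((DerivedCategory.singleFunctor (ModuleCat.{u} P) 0).mapIso
      (restrictScalarsAlgebraIso (A := P) (B := B) B)) hB
  have h2 := Groth.Agent.Lib.Helper1.Extend.isPC_extD (A := P) (B := MvPolynomial (Fin n) P)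
    _ j h1
  have h3 := isPC_of_iso (Groth.Agent.Lib.Helper1.Extend.extDInDIso (A := P)
    (B := MvPolynomial (Fin n) P) B) h2
  exact isPC_of_iso ((DerivedCategory.singleFunctor (ModuleCat.{u} (MvPolynomial (Fin n) P))
    0).mapIso (polyTensorLinearEquiv (P := P) (B := B) n).toModuleIso) h3

theorem pcj_mvPolynomial_map {P B : Type u} [CommRing P] [CommRing B] (β : P →+* B) (j : ℤ)
    (hB : PCj β j) (n : ℕ) :
    PCj (MvPolynomial.map β : MvPolynomial (Fin n) P →+* MvPolynomial (Fin n) B) j := by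
  letI := β.toAlgebra
  exact pcj_mvPolynomial_map_algebraMap (P := P) (B := B) n j hB

lemma pcj_polyMap {R B : Type u} [CommRing R] [CommRing B] {k : ℕ}
    (β : MvPolynomial (Fin k) R →+* B) (n : ℕ) (j : ℤ) (hB : PCj β j) : PCj (polyMap β n) j :=
  pcj_comp_of_bpc _ _ (bpc_of_bijective _ (splitEquiv (R := R) (k := k) n).toRingEquiv.bijective) j
    (pcj_mvPolynomial_map β j hB n)

end PolyLevel

section Assembly

variable {X Y S : Scheme.{u}} (f : X ⟶ Y) (g : Y ⟶ S)

/-- **S6209** -/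
theorem isNPseudoCoherent_comp [LocallyOfFiniteType f] [LocallyOfFiniteType g] (r s : ℤ)
    (hf : DerSch.IsNPseudoCoherent f r) (hg : DerSch.IsNPseudoCoherent g s) :
    DerSch.IsNPseudoCoherent (f ≫ g) (max r s) := by
  refine ⟨inferInstance, Set.univ, ?_, fun W _ =>
      ⟨{U | ∃ V : Y.affineOpens, (V : Y.Opens) ≤ g ⁻¹ᵁ (W : S.Opens) ∧
        (U : X.Opens) ≤ f ⁻¹ᵁ (V : Y.Opens)}, ?_, ?_⟩⟩
  · apply le_antisymm le_top
    intro s _
    obtain ⟨W, hW, hsW, -⟩ := Opens.isBasis_iff_nbhd.1 S.isBasis_affineOpens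
      (show s ∈ (⊤ : S.Opens) from trivial)
    exact Opens.mem_iSup.2 ⟨⟨W, hW⟩, Opens.mem_iSup.2 ⟨Set.mem_univ _, hsW⟩⟩
  · apply le_antisymm
    · refine iSup₂_le fun U hU => ?_
      obtain ⟨V, hVW, hUV⟩ := hU
      intro x hx
      exact hVW (hUV hx)
    · intro x hx
      obtain ⟨V, hV, hxV, hVW⟩ := Opens.isBasis_iff_nbhd.1 Y.isBasis_affineOpens
        (show f.base x ∈ g ⁻¹ᵁ (W : S.Opens) from hx)
      obtain ⟨U, hU, hxU, hUV⟩ := Opens.isBasis_iff_nbhd.1 X.isBasis_affineOpens
        (show x ∈ f ⁻¹ᵁ V from hxV)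
      exact Opens.mem_iSup.2 ⟨⟨U, hU⟩, Opens.mem_iSup.2 ⟨⟨⟨V, hV⟩, hVW, hUV⟩, hxU⟩⟩
  · rintro U ⟨V, hVW, hUV⟩ h
    obtain ⟨k, β, hβ⟩ := exists_isChart g V.2 W.2 hVW
    obtain ⟨n, φ, hφ⟩ := exists_isChart f U.2 V.2 hUV
    have cβ := chartPC_of_isPseudoCoherentRel g _ s hg V.2 W.2 hVW β hβ
    have cφ := chartPC_of_isPseudoCoherentRel f _ r hf U.2 V.2 hUV φ hφ
    rw [chartPC_unit_iff_pcj V.2 β hβ.1] at cβ
    rw [chartPC_unit_iff_pcj U.2 φ hφ.1] at cφ
    have hsurj : Function.Surjective (φ.comp (polyMap β n)) :=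
      hφ.1.comp (polyMap_surjective β n hβ.1)
    refine ⟨n + k, φ.comp (polyMap β n), ⟨hsurj, ?_⟩, ?_⟩
    · rw [RingHom.comp_assoc, polyMap_comp_C, ← RingHom.comp_assoc, hφ.2, hβ.2,
        ← CommRingCat.hom_comp, Scheme.Hom.appLE_comp_appLE]
    · rw [chartPC_unit_iff_pcj U.2 _ hsurj]
      exact pcj_comp _ _ s r (pcj_polyMap β n s cβ) cφ

end Assembly

end Groth.Agent.Lib.Helper1.ChartInd
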