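import Mathlib
import Groth.Agent.Lib.Helper1ChartLevel2
import Groth.Agent.Lib.Helper2PullbackSec3
import Groth.Agent.S7000
set_option backward.isDefEq.respectTransparency.types false
set_option autoImplicit false
set_option linter.style.haveILetI false
set_option maxHeartbeats 400000
universe u
open CategoryTheory CategoryTheory.Limits AlgebraicGeometry Opposite TopologicalSpace Pretriangulated

attribute [local instance] HasDerivedCategory.standard

namespace Groth.Agent.Lib.Helper1.ChartInd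

open Groth.Agent.Lib.Helper1.SPL Groth.Agent.Lib.Helper1.Sky ZeroObject
open Groth.Agent.Lib.Helper1.ClosedPC Groth.Agent.Lib.Helper1.ChartPC
open Groth.Agent.Lib.Helper1.KoszulPerf Groth.Agent.Lib.Helper1.TildePC
open Groth.Agent.Lib.Helper1.Restrict Groth.Agent.Lib.Helper1.RelPC Groth.Agent.Lib.Helper1.PC

section Ring

/-- `PCj` in terms of the algebra structure -/
lemma pcj_iff_isPseudoCoherentModule {P B : Type u} [CommRing P] [CommRing B] (φ : P →+* B) (j : ℤ) :
    PCj φ j ↔ (letI := φ.toAlgebra; DRing.IsPseudoCoherentModule P j B) := by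
  letI := φ.toAlgebra
  exact ⟨isPC_of_iso ((DerivedCategory.singleFunctor (ModuleCat.{u} P) 0).mapIso
      (restrictScalarsAlgebraIso (A := P) (B := B) B)),
    isPC_of_iso ((DerivedCategory.singleFunctor (ModuleCat.{u} P) 0).mapIso
      (restrictScalarsAlgebraIso (A := P) (B := B) B)).symm⟩

attribute [local instance] MvPolynomial.algebraMvPolynomial in
/-- flat base change of a chart -/
theorem pcj_baseChange {R R' B B' : Type u} [CommRing R] [CommRing R'] [CommRing B] [CommRing B']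
    [Algebra R R'] [Algebra R B] [Algebra B B'] [Algebra R' B'] [Algebra R B']
    [IsScalarTower R B B'] [IsScalarTower R R' B'] [hpo : Algebra.IsPushout R R' B B']
    [Module.Flat R R']
    {k : ℕ} (φ : MvPolynomial (Fin k) R →+* B) (hφs : Function.Surjective φ)
    (hφC : φ.comp MvPolynomial.C = algebraMap R B) (n : ℤ) (hpc : PCj φ n) :
    ∃ φ' : MvPolynomial (Fin k) R' →+* B', Function.Surjective φ' ∧
      φ'.comp MvPolynomial.C = algebraMap R' B' ∧ PCj φ' n := by
  classical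
  let P := MvPolynomial (Fin k) R
  let P' := MvPolynomial (Fin k) R'
  let φ' : P' →+* B' := MvPolynomial.eval₂Hom (algebraMap R' B')
    (fun i => algebraMap B B' (φ (MvPolynomial.X i)))
  have hφ'C : φ'.comp MvPolynomial.C = algebraMap R' B' := by
    ext r
    exact MvPolynomial.eval₂Hom_C _ _ r
  have hsq : φ'.comp (MvPolynomial.map (algebraMap R R')) = (algebraMap B B').comp φ := by
    apply MvPolynomial.ringHom_ext
    · intro r
      have h1 : φ (MvPolynomial.C r) = algebraMap R B r := congrArg (fun g => g r) hφC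
      rw [RingHom.comp_apply, RingHom.comp_apply, MvPolynomial.map_C, h1]
      refine (MvPolynomial.eval₂Hom_C _ _ _).trans ?_
      rw [← IsScalarTower.algebraMap_apply R R' B', ← IsScalarTower.algebraMap_apply R B B']
    · intro i
      rw [RingHom.comp_apply, RingHom.comp_apply, MvPolynomial.map_X]
      exact MvPolynomial.eval₂Hom_X' _ _ i
  letI aPB : Algebra P B := φ.toAlgebra
  letI aP'B' : Algebra P' B' := φ'.toAlgebra
  letI aPB' : Algebra P B' := ((algebraMap B B').comp φ).toAlgebra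
  haveI t1 : IsScalarTower R P B := IsScalarTower.of_algebraMap_eq
    (fun r => (congrArg (fun g => g r) hφC).symm)
  haveI t2 : IsScalarTower P B B' := IsScalarTower.of_algebraMap_eq (fun _ => rfl)
  haveI t3 : IsScalarTower P P' B' := IsScalarTower.of_algebraMap_eq
    (fun p => (congrArg (fun g => g p) hsq).symm)
  haveI t4 : IsScalarTower R' P' B' := IsScalarTower.of_algebraMap_eq
    (fun r => (congrArg (fun g => g r) hφ'C).symm)
  haveI t5 : IsScalarTower R P B' := IsScalarTower.of_algebraMap_eq (fun r => by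
    change algebraMap R B' r = algebraMap B B' (φ (MvPolynomial.C r))
    have h1 : φ (MvPolynomial.C r) = algebraMap R B r := congrArg (fun g => g r) hφC
    rw [h1, ← IsScalarTower.algebraMap_apply R B B'])
  haveI t6 : IsScalarTower R P' B' := IsScalarTower.of_algebraMap_eq (fun r => by
    change algebraMap R B' r = φ' (MvPolynomial.C (algebraMap R R' r))
    have h1 : φ' (MvPolynomial.C (algebraMap R R' r)) = algebraMap R' B' (algebraMap R R' r) :=
      congrArg (fun g => g (algebraMap R R' r)) hφ'C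
    rw [h1, ← IsScalarTower.algebraMap_apply R R' B'])
  have hpo2 : Algebra.IsPushout P B P' B' :=
    (Algebra.IsPushout.comp_iff (R := R) (S := P) (T := B) (R' := R') (S' := P') (T' := B')).1
      hpo.symm
  have hpo3 : Algebra.IsPushout P P' B B' := hpo2.symm
  have hbc : IsBaseChange P' (IsScalarTower.toAlgHom P B B').toLinearMap := hpo3.out
  haveI : Module.Flat P P' :=
    Module.Flat.isBaseChange R P R' P'
      (inferInstance : Algebra.IsPushout R P R' P').out
  have h1 : DRing.IsPseudoCoherentModule P n B := (pcj_iff_isPseudoCoherentModule φ n).1 hpc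
  have h2 : DRing.IsPseudoCoherentModule P' n (TensorProduct P P' B) :=
    (Groth.Agent.S7000.result n B).1 h1
  have h3 : DRing.IsPseudoCoherentModule P' n B' :=
    isPC_of_iso ((DerivedCategory.singleFunctor (ModuleCat.{u} P') 0).mapIso
      hbc.equiv.toModuleIso) h2
  refine ⟨φ', ?_, hφ'C, (pcj_iff_isPseudoCoherentModule φ' n).2 h3⟩
  intro x
  refine hpo.out.inductionOn x _ ⟨0, map_zero _⟩ (fun b => ?_) (fun s y hy => ?_)
    (fun y₁ y₂ h₁ h₂ => ?_)
  · obtain ⟨p, rfl⟩ := hφs b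
    exact ⟨MvPolynomial.map (algebraMap R R') p, congrArg (fun g => g p) hsq⟩
  · obtain ⟨q, rfl⟩ := hy
    refine ⟨MvPolynomial.C s * q, ?_⟩
    rw [map_mul, Algebra.smul_def]
    congr 1
    exact congrArg (fun g => g s) hφ'C
  · obtain ⟨q₁, rfl⟩ := h₁
    obtain ⟨q₂, rfl⟩ := h₂
    exact ⟨q₁ + q₂, map_add _ _ _⟩

end Ring

section Geom

variable {X Y Y' : Scheme.{u}}

open Groth.Agent.Lib.Helper2.PullbackSec in
/-- **S6226**: flat base change of an `n`-pseudo-coherent morphism -/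
theorem isNPseudoCoherent_baseChange_of_flat (f : X ⟶ Y) [LocallyOfFiniteType f] (n : ℤ)
    (hf : DerSch.IsNPseudoCoherent f n) (h : Y' ⟶ Y) [Flat h] :
    DerSch.IsNPseudoCoherent (pullback.snd f h) n := by
  have hc : IsPullback (pullback.fst f h) (pullback.snd f h) f h := IsPullback.of_hasPullback f h
  refine ⟨inferInstance, {V' : Y'.affineOpens | ∃ V : Y.affineOpens,
    (V' : Y'.Opens) ≤ h ⁻¹ᵁ (V : Y.Opens)}, ?_, ?_⟩
  · apply le_antisymm le_top
    intro y' _
    obtain ⟨V, hV, hyV, -⟩ := Opens.isBasis_iff_nbhd.1 Y.isBasis_affineOpens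
      (U := ⊤) (x := h.base y') trivial
    obtain ⟨V', hV', hy'V', hV'V⟩ := Opens.isBasis_iff_nbhd.1 Y'.isBasis_affineOpens
      (U := h ⁻¹ᵁ V) (x := y') hyV
    simp only [Opens.mem_iSup]
    exact ⟨⟨V', hV'⟩, ⟨⟨V, hV⟩, hV'V⟩, hy'V'⟩
  · rintro V' ⟨V, hV'V⟩
    refine ⟨{U' : (pullback f h).affineOpens | ∃ U : X.affineOpens,
      (U : X.Opens) ≤ f ⁻¹ᵁ (V : Y.Opens) ∧
        (U' : (pullback f h).Opens) = (pullback.fst f h) ⁻¹ᵁ (U : X.Opens) ⊓
          (pullback.snd f h) ⁻¹ᵁ (V' : Y'.Opens)}, ?_, ?_⟩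
    · apply le_antisymm
      · refine iSup₂_le ?_
        rintro U' ⟨U, hUV, hU'⟩
        rw [hU']
        exact inf_le_right
      · intro x' hx'
        have hx1 : (pullback.fst f h).base x' ∈ f ⁻¹ᵁ (V : Y.Opens) := by
          have hw := congrArg (fun φ => φ.base x') hc.w
          simp only [Scheme.Hom.comp_base, TopCat.comp_app] at hw
          show f.base ((pullback.fst f h).base x') ∈ (V : Y.Opens)
          rw [hw]
          exact hV'V hx'
        obtain ⟨U, hU, hxU, hUV⟩ := Opens.isBasis_iff_nbhd.1 X.isBasis_affineOpens hx1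
        simp only [Opens.mem_iSup]
        exact ⟨⟨_, isAffineOpen_inf_preimage hc hV'V hUV V.2 V'.2 hU⟩, ⟨⟨U, hU⟩, hUV, rfl⟩,
          ⟨hxU, hx'⟩⟩
    · rintro ⟨W, hW⟩ ⟨U, hUV, hWe⟩ h'
      change W = _ at hWe
      subst hWe
      obtain ⟨k, φ, hφ⟩ := exists_isChart f U.2 V.2 hUV
      have c := chartPC_of_isPseudoCoherentRel f _ n hf U.2 V.2 hUV φ hφ
      have hpcj : PCj φ n := (chartPC_unit_iff_pcj U.2 φ hφ.1 n).1 c
      have e1 : (pullback.fst f h) ⁻¹ᵁ (U : X.Opens) ⊓ (pullback.snd f h) ⁻¹ᵁ (V' : Y'.Opens) ≤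
          (pullback.fst f h) ⁻¹ᵁ (U : X.Opens) := inf_le_left
      letI a1 : Algebra Γ(Y, (V : Y.Opens)) Γ(X, (U : X.Opens)) :=
        (f.appLE (V : Y.Opens) (U : X.Opens) hUV).hom.toAlgebra
      letI a2 : Algebra Γ(Y, (V : Y.Opens)) Γ(Y', (V' : Y'.Opens)) :=
        (h.appLE (V : Y.Opens) (V' : Y'.Opens) hV'V).hom.toAlgebra
      letI a3 : Algebra Γ(X, (U : X.Opens)) Γ(pullback f h, (pullback.fst f h) ⁻¹ᵁ (U : X.Opens) ⊓
          (pullback.snd f h) ⁻¹ᵁ (V' : Y'.Opens)) :=
        ((pullback.fst f h).appLE (U : X.Opens) _ e1).hom.toAlgebra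
      letI a4 : Algebra Γ(Y', (V' : Y'.Opens)) Γ(pullback f h,
          (pullback.fst f h) ⁻¹ᵁ (U : X.Opens) ⊓ (pullback.snd f h) ⁻¹ᵁ (V' : Y'.Opens)) :=
        ((pullback.snd f h).appLE (V' : Y'.Opens) _ h').hom.toAlgebra
      letI a5 : Algebra Γ(Y, (V : Y.Opens)) Γ(pullback f h,
          (pullback.fst f h) ⁻¹ᵁ (U : X.Opens) ⊓ (pullback.snd f h) ⁻¹ᵁ (V' : Y'.Opens)) :=
        (((pullback.fst f h).appLE (U : X.Opens) _ e1).hom.comp
          (f.appLE (V : Y.Opens) (U : X.Opens) hUV).hom).toAlgebra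
      haveI t1 : IsScalarTower Γ(Y, (V : Y.Opens)) Γ(X, (U : X.Opens)) Γ(pullback f h,
          (pullback.fst f h) ⁻¹ᵁ (U : X.Opens) ⊓ (pullback.snd f h) ⁻¹ᵁ (V' : Y'.Opens)) :=
        IsScalarTower.of_algebraMap_eq (fun _ => rfl)
      haveI t2 : IsScalarTower Γ(Y, (V : Y.Opens)) Γ(Y', (V' : Y'.Opens)) Γ(pullback f h,
          (pullback.fst f h) ⁻¹ᵁ (U : X.Opens) ⊓ (pullback.snd f h) ⁻¹ᵁ (V' : Y'.Opens)) := by
        refine IsScalarTower.of_algebraMap_eq (fun r => ?_)
        change ((pullback.fst f h).appLE (U : X.Opens) _ e1).hom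
            ((f.appLE (V : Y.Opens) (U : X.Opens) hUV).hom r) =
          ((pullback.snd f h).appLE (V' : Y'.Opens) _ h').hom
            ((h.appLE (V : Y.Opens) (V' : Y'.Opens) hV'V).hom r)
        rw [← CommRingCat.comp_apply, ← CommRingCat.comp_apply,
          Scheme.Hom.appLE_comp_appLE, Scheme.Hom.appLE_comp_appLE]
        congr 3
        exact hc.w
      haveI hpo := algebra_isPushout hc hV'V hUV V.2 V'.2 U.2 e1 h'
      haveI hfl : Module.Flat Γ(Y, (V : Y.Opens)) Γ(Y', (V' : Y'.Opens)) :=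
        HasRingHomProperty.appLE @Flat h inferInstance V V' hV'V
      obtain ⟨φ', hs, hC, hpc'⟩ := pcj_baseChange (R' := Γ(Y', (V' : Y'.Opens)))
        (B' := Γ(pullback f h, (pullback.fst f h) ⁻¹ᵁ (U : X.Opens) ⊓
          (pullback.snd f h) ⁻¹ᵁ (V' : Y'.Opens))) φ hφ.1 hφ.2 n hpcj
      exact ⟨k, φ', ⟨hs, hC⟩, (chartPC_unit_iff_pcj hW φ' hs n).2 hpc'⟩

end Geom

end Groth.Agent.Lib.Helper1.ChartInd
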