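import Mathlib
import Groth.Agent.Lib.Helper1PCBaseChange
import Groth.Agent.Lib.Helper1TorJ
set_option backward.isDefEq.respectTransparency.types false
set_option autoImplicit false
set_option linter.style.haveILetI false
set_option maxHeartbeats 400000
universe u
open CategoryTheory CategoryTheory.Limits AlgebraicGeometry Opposite TopologicalSpace Pretriangulated

attribute [local instance] HasDerivedCategory.standard

namespace Groth.Agent.Lib.Helper1.ChartInd

open Groth.Agent.Lib.Helper1.SPL Groth.Agent.Lib.Helper1.Sky ZeroObject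
open Groth.Agent.Lib.Helper1.ClosedPC Groth.Agent.Lib.Helper1.ChartPC
open Groth.Agent.Lib.Helper1.KoszulPerf Groth.Agent.Lib.Helper1.TildePC
open Groth.Agent.Lib.Helper1.Restrict Groth.Agent.Lib.Helper1.RelPC Groth.Agent.Lib.Helper1.PC
open Groth.Agent.Lib.Helper1.Extend Groth.Agent.Lib.Helper1.PCTower Groth.Agent.S7017 Groth.Agent.S14388 Groth.Agent.Lib.Helper1.Cone
open DerivedCategory TensorProduct

section Family

variable {R : Type u} [CommRing R] {J : Type*} (B : J → Type u) [∀ j, CommRing (B j)]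
  [∀ j, Algebra R (B j)]

/-- vanishing of modules descends along the family -/
def ZeroFam : Prop := ∀ (H : Type u) [AddCommGroup H] [Module R H],
  (∀ j, Subsingleton (TensorProduct R (B j) H)) → Subsingleton H

/-- a family of flat algebras such that every maximal ideal survives in one of them -/
theorem zeroFam_of_map_ne_top [∀ j, Module.Flat R (B j)]
    (hs : ∀ p : Ideal R, p.IsMaximal → ∃ j, Ideal.map (algebraMap R (B j)) p ≠ ⊤) :
    ZeroFam (R := R) B := by
  intro H _ _ hz
  by_contra hne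
  rw [not_subsingleton_iff_nontrivial] at hne
  obtain ⟨x, hx⟩ := exists_ne (0 : H)
  let f : R →ₗ[R] H := LinearMap.toSpanSingleton R H x
  let I : Ideal R := LinearMap.ker f
  have hI : I ≠ ⊤ := by
    intro h
    have h1 : (1 : R) ∈ I := by rw [h]; trivial
    have h2 : f 1 = 0 := h1
    simp [f] at h2
    exact hx h2
  obtain ⟨p, hmax, hIp⟩ := Ideal.exists_le_maximal I hI
  obtain ⟨j, hj⟩ := hs p hmax
  apply hj
  rw [eq_top_iff]
  refine le_trans ?_ (Ideal.map_mono hIp)
  let g : (R ⧸ I) →ₗ[R] H := Submodule.liftQ I f le_rfl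
  have hg : Function.Injective g := by
    rw [← LinearMap.ker_eq_bot]
    exact Submodule.ker_liftQ_eq_bot _ _ _ le_rfl
  have hg' : Function.Injective (LinearMap.lTensor (B j) g) :=
    Module.Flat.lTensor_preserves_injective_linearMap g hg
  haveI := hz j
  have h1 : Subsingleton (TensorProduct R (B j) (R ⧸ I)) := hg'.subsingleton
  have h2 : Subsingleton (B j ⧸ (I • (⊤ : Submodule R (B j)))) :=
    (TensorProduct.tensorQuotEquivQuotSMul (B j) I).symm.injective.subsingleton
  rw [Submodule.Quotient.subsingleton_iff, Ideal.smul_top_eq_map] at h2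
  intro y _
  have : y ∈ (Ideal.map (algebraMap R (B j)) I).restrictScalars R := by rw [h2]; trivial
  exact this

/-- finiteness descends along a finite family along which vanishing descends -/
theorem finite_of_zeroFam [Finite J] (hz : ZeroFam (R := R) B) (H : Type u) [AddCommGroup H] [Module R H]
    (hf : ∀ j, Module.Finite (B j) (TensorProduct R (B j) H)) : Module.Finite R H := by
  classical
  haveI := Fintype.ofFinite J
  choose n s hs using fun j => Module.Finite.exists_fin (R := B j) (M := TensorProduct R (B j) H)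
  choose k t m h using fun (p : Σ j, Fin (n j)) => TensorProduct.exists_sum_tmul_eq (s p.1 p.2)
  let η := Σ p : (Σ j, Fin (n j)), Fin (k p)
  let N : Submodule R H := Submodule.span R (Set.range (fun x : η => m x.1 x.2))
  have hNfg : N.FG := Submodule.fg_span (Set.finite_range _)
  suffices hN : N = ⊤ by
    rw [Module.finite_def, ← hN]
    exact hNfg
  rw [← Submodule.Quotient.subsingleton_iff]
  apply hz (H ⧸ N)
  intro j
  let q : TensorProduct R (B j) H →ₗ[B j] TensorProduct R (B j) (H ⧸ N) :=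
    AlgebraTensorModule.lTensor (B j) (B j) N.mkQ
  have hq : Function.Surjective q := LinearMap.lTensor_surjective (B j) N.mkQ_surjective
  have hker : LinearMap.ker q = ⊤ := by
    rw [eq_top_iff, ← hs j, Submodule.span_le]
    rintro _ ⟨i, rfl⟩
    rw [SetLike.mem_coe, LinearMap.mem_ker, h ⟨j, i⟩, map_sum]
    refine Finset.sum_eq_zero (fun l _ => ?_)
    have h0 : N.mkQ (m ⟨j, i⟩ l) = 0 := by
      rw [Submodule.mkQ_apply, Submodule.Quotient.mk_eq_zero]
      exact Submodule.subset_span ⟨⟨⟨j, i⟩, l⟩, rfl⟩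
    change (t ⟨j, i⟩ l) ⊗ₜ[R] (N.mkQ (m ⟨j, i⟩ l)) = 0
    rw [h0, TensorProduct.tmul_zero]
  refine ⟨fun a b => ?_⟩
  obtain ⟨a', rfl⟩ := hq a
  obtain ⟨b', rfl⟩ := hq b
  have ha : a' ∈ LinearMap.ker q := by rw [hker]; trivial
  have hb : b' ∈ LinearMap.ker q := by rw [hker]; trivial
  rw [LinearMap.mem_ker.1 ha, LinearMap.mem_ker.1 hb]

variable {B} [∀ j, Module.Flat R (B j)]

omit [∀ j, Module.Flat R (B j)] in
lemma ZeroFam.isZero (hz : ZeroFam (R := R) B) (H : ModuleCat.{u} R)
    (h : ∀ j, IsZero ((ext R (B j)).obj H)) : IsZero H := by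
  have : Subsingleton H := hz H (fun j => by
    have h1 : Subsingleton ((ext R (B j)).obj H) := ModuleCat.subsingleton_of_isZero (h j)
    exact (extEquiv (A := R) (B := B j) H).symm.injective.subsingleton)
  exact ModuleCat.isZero_of_subsingleton H

lemma ZeroFam.isLE (hz : ZeroFam (R := R) B) (X : Dual.D R) (n : ℤ)
    (h : ∀ j, ((extD R (B j)).obj X).IsLE n) : X.IsLE n := by
  rw [DerivedCategory.isLE_iff]
  intro i hi
  refine hz.isZero _ (fun j => ?_)
  exact ((DerivedCategory.isLE_iff _ n).1 (h j) i hi).of_iso (homologyMapDIso (ext R (B j)) X i).symm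

lemma ZeroFam.isPC_aux [Finite J] (hz : ZeroFam (R := R) B) (m : ℤ) (k : ℕ) : ∀ (K : Dual.D R) (n : ℤ),
    n < m + k → K.IsLE n → (∀ j, DRing.IsPseudoCoherent (B j) m ((extD R (B j)).obj K)) →
    DRing.IsPseudoCoherent R m K := by
  induction k with
  | zero =>
    intro K n hn hK _
    have : K.IsLE (m - 1) := tt.isLE_of_le K n (m - 1) (by push_cast at hn; lia)
    exact isPC_of_isLE m K
  | succ k ih =>
    intro K n hn hK h
    by_cases hn' : n < m + k
    · exact ih K n hn' hK h
    have hmn : m ≤ n := by lia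
    have hfinA : Module.Finite R ((homologyFunctor (ModuleCat.{u} R) n).obj K) := by
      refine finite_of_zeroFam B hz _ (fun j => ?_)
      have hKB : ((extD R (B j)).obj K).IsLE n := isLE_map (ext R (B j)) K n hK
      have hfinB := (Groth.Agent.S2068.result ((extD R (B j)).obj K) n (isPC_mono hmn (h j))).1
        (fun i hi => (DerivedCategory.isLE_iff _ n).1 hKB i hi)
      have h3 : Module.Finite (B j) ((ext R (B j)).obj ((homologyFunctor (ModuleCat.{u} R) n).obj K)) :=
        Module.Finite.equiv (homologyMapDIso (ext R (B j)) K n).toLinearEquiv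
      exact Module.Finite.equiv (extEquiv (A := R) (B := B j) _)
    obtain ⟨F, ψ, hF, hψ⟩ := exists_single_conn K n hfinA
    obtain ⟨K', v, w, hT⟩ := distinguished_cocone_triangle ψ
    have hK' : K'.IsLE (n - 1) := (conn_iff_of_distTriang _ hT n).1 hψ
    have h' : ∀ j, DRing.IsPseudoCoherent (B j) m ((extD R (B j)).obj K') := by
      intro j
      have hT' := (extD R (B j)).map_distinguished _ hT
      have h1 : DRing.IsPseudoCoherent (B j) (m + 1)
          ((extD R (B j)).obj ((DerivedCategory.singleFunctor (ModuleCat.{u} R) n).obj F)) :=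
        isPC_of_iso (mapSingleIso (ext R (B j)) F n).symm
          (isPC_of_rep (m + 1) (rep_single _ (FF_ext F hF) n))
      exact isPC_obj₃ _ hT' m h1 (h j)
    have hK'pc := ih K' (n - 1) (by push_cast at hn; lia) hK' h'
    exact isPC_obj₂ _ hT m (isPC_of_rep m (rep_single F hF n)) hK'pc

/-- pseudo-coherence descends along a finite family of flat algebras along which vanishing
descends -/
theorem ZeroFam.isPC [Finite J] (hz : ZeroFam (R := R) B) (K : Dual.D R) (m : ℤ)
    (h : ∀ j, DRing.IsPseudoCoherent (B j) m ((extD R (B j)).obj K)) :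
    DRing.IsPseudoCoherent R m K := by
  have : Fintype J := Fintype.ofFinite J
  choose n hn using fun j => exists_isLE_of_isPC m _ (h j)
  set N : ℤ := ((Finset.univ.sup (fun j => (n j).toNat) : ℕ) : ℤ) with hN
  have hle : ∀ j, n j ≤ N := by
    intro j
    have h1 : (n j).toNat ≤ Finset.univ.sup (fun j => (n j).toNat) :=
      Finset.le_sup (f := fun j => (n j).toNat) (Finset.mem_univ j)
    have h2 : n j ≤ ((n j).toNat : ℤ) := Int.self_le_toNat (n j)
    have h3 : ((n j).toNat : ℤ) ≤ N := by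
      rw [hN]
      exact_mod_cast h1
    lia
  have hK : K.IsLE N := hz.isLE K N (fun j => by
    have := hn j
    exact tt.isLE_of_le _ (n j) N (hle j))
  exact hz.isPC_aux m (N - m + 1).toNat K N (by lia) hK h

end Family

section Poly

variable {R : Type u} [CommRing R] {J : Type*} (B : J → Type u) [∀ j, CommRing (B j)]
  [∀ j, Algebra R (B j)]

attribute [local instance] MvPolynomial.algebraMvPolynomial in
/-- descent of vanishing passes to polynomial rings -/
theorem zeroFam_mvPolynomial (σ : Type) (hz : ZeroFam (R := R) B) :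
    ZeroFam (R := MvPolynomial σ R) (fun j => MvPolynomial σ (B j)) := by
  intro H _ _ h
  letI : Module R H := Module.compHom H (algebraMap R (MvPolynomial σ R))
  haveI : IsScalarTower R (MvPolynomial σ R) H :=
    ⟨fun r p x => by
      change (r • p) • x = (MvPolynomial.C r : MvPolynomial σ R) • (p • x)
      rw [MvPolynomial.smul_eq_C_mul, mul_smul]⟩
  apply hz H
  intro j
  haveI := h j
  exact (Algebra.IsPushout.cancelBaseChange R (B j) (MvPolynomial σ R)
    (MvPolynomial σ (B j)) H).symm.injective.subsingleton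

end Poly

section BaseChart

variable {R B : Type u} [CommRing R] [CommRing B] [Algebra R B]
  (R' B' : Type u) [CommRing R'] [CommRing B']
  [Algebra R R'] [Algebra B B'] [Algebra R' B'] [Algebra R B']
  [IsScalarTower R B B'] [IsScalarTower R R' B']

/-- the base change of a chart -/
noncomputable def baseChart {k : ℕ} (φ : MvPolynomial (Fin k) R →+* B) :
    MvPolynomial (Fin k) R' →+* B' :=
  MvPolynomial.eval₂Hom (algebraMap R' B') (fun i => algebraMap B B' (φ (MvPolynomial.X i)))

omit [Algebra R B] [Algebra R R'] [Algebra R B'] [IsScalarTower R B B'] [IsScalarTower R R' B'] in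
lemma baseChart_comp_C {k : ℕ} (φ : MvPolynomial (Fin k) R →+* B) :
    (baseChart R' B' φ).comp MvPolynomial.C = algebraMap R' B' := by
  ext r
  exact MvPolynomial.eval₂Hom_C _ _ r

lemma baseChart_comp_map {k : ℕ} (φ : MvPolynomial (Fin k) R →+* B)
    (hφC : φ.comp MvPolynomial.C = algebraMap R B) :
    (baseChart R' B' φ).comp (MvPolynomial.map (algebraMap R R')) = (algebraMap B B').comp φ := by
  apply MvPolynomial.ringHom_ext
  · intro r
    have h1 : φ (MvPolynomial.C r) = algebraMap R B r := congrArg (fun g => g r) hφC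
    rw [RingHom.comp_apply, RingHom.comp_apply, MvPolynomial.map_C, h1]
    refine (MvPolynomial.eval₂Hom_C _ _ _).trans ?_
    rw [← IsScalarTower.algebraMap_apply R R' B', ← IsScalarTower.algebraMap_apply R B B']
  · intro i
    rw [RingHom.comp_apply, RingHom.comp_apply, MvPolynomial.map_X]
    exact MvPolynomial.eval₂Hom_X' _ _ i

variable [hpo : Algebra.IsPushout R R' B B']

lemma baseChart_surjective {k : ℕ} (φ : MvPolynomial (Fin k) R →+* B)
    (hφs : Function.Surjective φ) (hφC : φ.comp MvPolynomial.C = algebraMap R B) :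
    Function.Surjective (baseChart R' B' φ) := by
  intro x
  refine hpo.out.inductionOn x _ ⟨0, map_zero _⟩ (fun b => ?_) (fun s y hy => ?_)
    (fun y₁ y₂ h₁ h₂ => ?_)
  · obtain ⟨p, rfl⟩ := hφs b
    exact ⟨MvPolynomial.map (algebraMap R R') p,
      congrArg (fun g => g p) (baseChart_comp_map R' B' φ hφC)⟩
  · obtain ⟨q, rfl⟩ := hy
    refine ⟨MvPolynomial.C s * q, ?_⟩
    rw [map_mul, Algebra.smul_def]
    congr 1
    exact congrArg (fun g => g s) (baseChart_comp_C R' B' φ)
  · obtain ⟨q₁, rfl⟩ := h₁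
    obtain ⟨q₂, rfl⟩ := h₂
    exact ⟨q₁ + q₂, map_add _ _ _⟩

attribute [local instance] MvPolynomial.algebraMvPolynomial in
/-- pseudo-coherence of the base-changed chart in terms of the tensor product -/
theorem pcj_baseChart_iff [Module.Flat R R'] {k : ℕ} (φ : MvPolynomial (Fin k) R →+* B)
    (hφC : φ.comp MvPolynomial.C = algebraMap R B) (n : ℤ) :
    PCj (baseChart R' B' φ) n ↔
      (letI := φ.toAlgebra
       DRing.IsPseudoCoherentModule (MvPolynomial (Fin k) R') n
        (TensorProduct (MvPolynomial (Fin k) R) (MvPolynomial (Fin k) R') B)) := by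
  classical
  let P := MvPolynomial (Fin k) R
  let P' := MvPolynomial (Fin k) R'
  let φ' : P' →+* B' := baseChart R' B' φ
  have hφ'C : φ'.comp MvPolynomial.C = algebraMap R' B' := baseChart_comp_C R' B' φ
  have hsq : φ'.comp (MvPolynomial.map (algebraMap R R')) = (algebraMap B B').comp φ :=
    baseChart_comp_map R' B' φ hφC
  letI aPB : Algebra P B := φ.toAlgebra
  letI aP'B' : Algebra P' B' := φ'.toAlgebra
  letI aPB' : Algebra P B' := ((algebraMap B B').comp φ).toAlgebra
  haveI t1 : IsScalarTower R P B := IsScalarTower.of_algebraMap_eq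
    (fun r => (congrArg (fun g => g r) hφC).symm)
  haveI t2 : IsScalarTower P B B' := IsScalarTower.of_algebraMap_eq (fun _ => rfl)
  haveI t3 : IsScalarTower P P' B' := IsScalarTower.of_algebraMap_eq
    (fun p => (congrArg (fun g => g p) hsq).symm)
  haveI t4 : IsScalarTower R' P' B' := IsScalarTower.of_algebraMap_eq
    (fun r => (congrArg (fun g => g r) hφ'C).symm)
  haveI t5 : IsScalarTower R P B' := IsScalarTower.of_algebraMap_eq (fun r => by
    change algebraMap R B' r = algebraMap B B' (φ (MvPolynomial.C r))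
    have h1 : φ (MvPolynomial.C r) = algebraMap R B r := congrArg (fun g => g r) hφC
    rw [h1, ← IsScalarTower.algebraMap_apply R B B'])
  haveI t6 : IsScalarTower R P' B' := IsScalarTower.of_algebraMap_eq (fun r => by
    change algebraMap R B' r = φ' (MvPolynomial.C (algebraMap R R' r))
    have h1 : φ' (MvPolynomial.C (algebraMap R R' r)) = algebraMap R' B' (algebraMap R R' r) :=
      congrArg (fun g => g (algebraMap R R' r)) hφ'C
    rw [h1, ← IsScalarTower.algebraMap_apply R R' B'])
  have hpo2 : Algebra.IsPushout P B P' B' :=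
    (Algebra.IsPushout.comp_iff (R := R) (S := P) (T := B) (R' := R') (S' := P') (T' := B')).1
      hpo.symm
  have hpo3 : Algebra.IsPushout P P' B B' := hpo2.symm
  have hbc : IsBaseChange P' (IsScalarTower.toAlgHom P B B').toLinearMap := hpo3.out
  rw [pcj_iff_isPseudoCoherentModule]
  exact ⟨isPC_of_iso ((DerivedCategory.singleFunctor (ModuleCat.{u} P') 0).mapIso
      hbc.equiv.toModuleIso).symm,
    isPC_of_iso ((DerivedCategory.singleFunctor (ModuleCat.{u} P') 0).mapIso
      hbc.equiv.toModuleIso)⟩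

end BaseChart

section FamilyChart

attribute [local instance] MvPolynomial.algebraMvPolynomial in
/-- descent of pseudo-coherence of a chart along a finite flat family along which vanishing
descends -/
theorem pcj_of_baseChart_family {R B : Type u} [CommRing R] [CommRing B] [Algebra R B]
    {J : Type*} [Finite J] (R' B' : J → Type u) [∀ j, CommRing (R' j)] [∀ j, CommRing (B' j)]
    [∀ j, Algebra R (R' j)] [∀ j, Algebra B (B' j)] [∀ j, Algebra (R' j) (B' j)]
    [∀ j, Algebra R (B' j)] [∀ j, IsScalarTower R B (B' j)] [∀ j, IsScalarTower R (R' j) (B' j)]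
    [∀ j, Algebra.IsPushout R (R' j) B (B' j)] [∀ j, Module.Flat R (R' j)]
    (hz : ZeroFam (R := R) R') {k : ℕ} (φ : MvPolynomial (Fin k) R →+* B)
    (hφC : φ.comp MvPolynomial.C = algebraMap R B) (n : ℤ)
    (h : ∀ j, PCj (baseChart (R' j) (B' j) φ) n) : PCj φ n := by
  rw [pcj_iff_isPseudoCoherentModule]
  letI := φ.toAlgebra
  haveI hfl : ∀ j, Module.Flat (MvPolynomial (Fin k) R) (MvPolynomial (Fin k) (R' j)) := fun j =>
    Module.Flat.isBaseChange R (MvPolynomial (Fin k) R) (R' j) (MvPolynomial (Fin k) (R' j))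
      (inferInstance : Algebra.IsPushout R (MvPolynomial (Fin k) R) (R' j)
        (MvPolynomial (Fin k) (R' j))).out
  refine (zeroFam_mvPolynomial R' (Fin k) hz).isPC (Dual.inD (MvPolynomial (Fin k) R) B) n
    (fun j => ?_)
  exact isPC_of_iso (extDInDIso (A := MvPolynomial (Fin k) R) (B := MvPolynomial (Fin k) (R' j)) B).symm
    ((pcj_baseChart_iff (R' j) (B' j) φ hφC n).1 (h j))

end FamilyChart

section Geom

variable {X Y Y' : Scheme.{u}}

open Groth.Agent.Lib.Helper2.PullbackSec in
/-- **S6227**: descent of `n`-pseudo-coherence of a morphism along a flat, surjective,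
quasi-compact base change -/
theorem isNPseudoCoherent_of_faithfullyFlat_baseChange (f : X ⟶ Y) [LocallyOfFiniteType f] (n : ℤ)
    (h : Y' ⟶ Y) [Flat h] [Surjective h] [QuasiCompact h]
    (hf' : DerSch.IsNPseudoCoherent (pullback.snd f h) n) : DerSch.IsNPseudoCoherent f n := by
  have hc : IsPullback (pullback.fst f h) (pullback.snd f h) f h := IsPullback.of_hasPullback f h
  refine isPseudoCoherentRel_of_forall f _ n (fun U V hUV => ?_)
  obtain ⟨k, φ, hφ⟩ := exists_isChart f U.2 V.2 hUV
  refine ⟨k, φ, hφ, (chartPC_unit_iff_pcj U.2 φ hφ.1 n).2 ?_⟩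
  have hcomp : IsCompact ((h ⁻¹ᵁ (V : Y.Opens) : Y'.Opens) : Set Y') :=
    h.isCompact_preimage V.2.isCompact
  obtain ⟨s, hsfin, hse⟩ := isCompact_iff_finite_and_eq_biUnion_affineOpens.mp hcomp
  haveI : Finite s := hsfin.to_subtype
  have hle : ∀ j : s, ((j : Y'.affineOpens) : Y'.Opens) ≤ h ⁻¹ᵁ (V : Y.Opens) := fun j => by
    rw [hse]
    exact le_iSup₂ (f := fun (i : Y'.affineOpens) (_ : i ∈ s) => (i : Y'.Opens)) j.1 j.2
  let W : s → (pullback f h).Opens := fun j =>
    (pullback.fst f h) ⁻¹ᵁ (U : X.Opens) ⊓ (pullback.snd f h) ⁻¹ᵁ ((j : Y'.affineOpens) : Y'.Opens)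
  have hW : ∀ j, IsAffineOpen (W j) := fun j =>
    isAffineOpen_inf_preimage hc (hle j) hUV V.2 j.1.2 U.2
  have e1 : ∀ j, W j ≤ (pullback.fst f h) ⁻¹ᵁ (U : X.Opens) := fun j => inf_le_left
  have e2 : ∀ j, W j ≤ (pullback.snd f h) ⁻¹ᵁ ((j : Y'.affineOpens) : Y'.Opens) :=
    fun j => inf_le_right
  letI a1 : Algebra Γ(Y, (V : Y.Opens)) Γ(X, (U : X.Opens)) :=
    (f.appLE (V : Y.Opens) (U : X.Opens) hUV).hom.toAlgebra
  letI a2 : ∀ j : s, Algebra Γ(Y, (V : Y.Opens)) Γ(Y', ((j : Y'.affineOpens) : Y'.Opens)) :=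
    fun j => (h.appLE (V : Y.Opens) _ (hle j)).hom.toAlgebra
  letI a3 : ∀ j : s, Algebra Γ(X, (U : X.Opens)) Γ(pullback f h, W j) :=
    fun j => ((pullback.fst f h).appLE (U : X.Opens) (W j) (e1 j)).hom.toAlgebra
  letI a4 : ∀ j : s, Algebra Γ(Y', ((j : Y'.affineOpens) : Y'.Opens)) Γ(pullback f h, W j) :=
    fun j => ((pullback.snd f h).appLE _ (W j) (e2 j)).hom.toAlgebra
  letI a5 : ∀ j : s, Algebra Γ(Y, (V : Y.Opens)) Γ(pullback f h, W j) :=
    fun j => (((pullback.fst f h).appLE (U : X.Opens) (W j) (e1 j)).hom.comp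
      (f.appLE (V : Y.Opens) (U : X.Opens) hUV).hom).toAlgebra
  haveI t1 : ∀ j : s, IsScalarTower Γ(Y, (V : Y.Opens)) Γ(X, (U : X.Opens))
      Γ(pullback f h, W j) := fun j => IsScalarTower.of_algebraMap_eq (fun _ => rfl)
  haveI t2 : ∀ j : s, IsScalarTower Γ(Y, (V : Y.Opens))
      Γ(Y', ((j : Y'.affineOpens) : Y'.Opens)) Γ(pullback f h, W j) := by
    intro j
    refine IsScalarTower.of_algebraMap_eq (fun r => ?_)
    change ((pullback.fst f h).appLE (U : X.Opens) _ (e1 j)).hom
        ((f.appLE (V : Y.Opens) (U : X.Opens) hUV).hom r) =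
      ((pullback.snd f h).appLE _ _ (e2 j)).hom
        ((h.appLE (V : Y.Opens) _ (hle j)).hom r)
    rw [← CommRingCat.comp_apply, ← CommRingCat.comp_apply,
      Scheme.Hom.appLE_comp_appLE, Scheme.Hom.appLE_comp_appLE]
    congr 3
    exact hc.w
  haveI hpo : ∀ j : s, Algebra.IsPushout Γ(Y, (V : Y.Opens))
      Γ(Y', ((j : Y'.affineOpens) : Y'.Opens)) Γ(X, (U : X.Opens)) Γ(pullback f h, W j) :=
    fun j => algebra_isPushout hc (hle j) hUV V.2 j.1.2 U.2 (e1 j) (e2 j)
  haveI hfl : ∀ j : s, Module.Flat Γ(Y, (V : Y.Opens))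
      Γ(Y', ((j : Y'.affineOpens) : Y'.Opens)) :=
    fun j => HasRingHomProperty.appLE @Flat h inferInstance V j.1 (hle j)
  have hz : ZeroFam (R := Γ(Y, (V : Y.Opens)))
      (fun j : s => Γ(Y', ((j : Y'.affineOpens) : Y'.Opens))) := by
    refine zeroFam_of_map_ne_top _ (fun p hp => ?_)
    haveI := hp.isPrime
    let y : Y := V.2.fromSpec.base ⟨p, hp.isPrime⟩
    obtain ⟨y', hy'⟩ := h.surjective y
    have hyV : y ∈ (V : Y.Opens) := by
      have : y ∈ V.2.fromSpec.opensRange := ⟨_, rfl⟩
      rwa [V.2.opensRange_fromSpec] at this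
    have hy'V : y' ∈ h ⁻¹ᵁ (V : Y.Opens) := by
      show h.base y' ∈ (V : Y.Opens)
      rw [hy']
      exact hyV
    rw [hse] at hy'V
    simp only [Opens.mem_iSup] at hy'V
    obtain ⟨j, hjs, hy'j⟩ := hy'V
    refine ⟨⟨j, hjs⟩, ?_⟩
    let z := j.2.primeIdealOf ⟨y', hy'j⟩
    have hz1 : j.2.fromSpec.base z = y' := j.2.fromSpec_primeIdealOf ⟨y', hy'j⟩
    have hsq := IsAffineOpen.SpecMap_appLE_fromSpec h V.2 j.2 (hle ⟨j, hjs⟩)
    have h3 : V.2.fromSpec.base ((Spec.map (h.appLE (V : Y.Opens) (j : Y'.Opens)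
        (hle ⟨j, hjs⟩))).base z) = V.2.fromSpec.base ⟨p, hp.isPrime⟩ := by
      have := congrArg (fun φ => φ.base z) hsq
      simp only [Scheme.Hom.comp_base, TopCat.comp_app] at this
      rw [this, hz1, hy']
    have hinj := V.2.fromSpec.isOpenEmbedding.injective h3
    intro htop
    have hcm : Ideal.comap (h.appLE (V : Y.Opens) (j : Y'.Opens) (hle ⟨j, hjs⟩)).hom z.asIdeal = p :=
      congrArg PrimeSpectrum.asIdeal hinj
    have hle' : Ideal.map (h.appLE (V : Y.Opens) (j : Y'.Opens) (hle ⟨j, hjs⟩)).hom p ≤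
        z.asIdeal := by
      rw [Ideal.map_le_iff_le_comap]
      exact le_of_eq hcm.symm
    change Ideal.map (h.appLE (V : Y.Opens) (j : Y'.Opens) (hle ⟨j, hjs⟩)).hom p = ⊤ at htop
    rw [htop] at hle'
    exact z.2.ne_top (top_le_iff.1 hle')
  refine pcj_of_baseChart_family (fun j : s => Γ(Y', ((j : Y'.affineOpens) : Y'.Opens)))
    (fun j : s => Γ(pullback f h, W j)) hz φ hφ.2 n (fun j => ?_)
  have hch : DerSch.IsChart (pullback.snd f h) (W j) ((j : Y'.affineOpens) : Y'.Opens) (e2 j)
      (baseChart Γ(Y', ((j : Y'.affineOpens) : Y'.Opens)) Γ(pullback f h, W j) φ) :=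
    ⟨baseChart_surjective _ _ φ hφ.1 hφ.2, baseChart_comp_C _ _ φ⟩
  have c := chartPC_of_isPseudoCoherentRel (pullback.snd f h) _ n hf' (hW j) j.1.2 (e2 j) _ hch
  exact (chartPC_unit_iff_pcj (hW j) _ hch.1 n).1 c

end Geom

end Groth.Agent.Lib.Helper1.ChartInd
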