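import Mathlib
import Groth.Agent.Lib.Helper1PCDescent
import Groth.Agent.Lib.Helper1ClosedPC

set_option backward.isDefEq.respectTransparency.types false
set_option autoImplicit false
set_option linter.style.haveILetI false
set_option linter.unusedSectionVars false
set_option maxHeartbeats 400000
universe u
open CategoryTheory CategoryTheory.Limits AlgebraicGeometry Opposite TopologicalSpace

attribute [local instance] HasDerivedCategory.standard

namespace Groth.Agent.Lib.Helper1.RelDescent

open Groth.Agent.Lib.Helper1.Extend TensorProduct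

section bc

variable {P P' B B' : Type u} [CommRing P] [CommRing P'] [CommRing B] [CommRing B']
  [Algebra P P'] [Algebra P B] [Algebra P' B'] [Algebra B B'] [Algebra P B']
  [IsScalarTower P P' B'] [IsScalarTower P B B'] [hpo : Algebra.IsPushout P P' B B']

/-- the base change equivalence `P' ⊗_P N ≃ B' ⊗_B N` for a `B`-module `N`, in a pushout square -/
noncomputable def bcEquiv (N : ModuleCat.{u} B) :
    (ext P P').obj ((ModuleCat.restrictScalars.{u} (algebraMap P B)).obj N) ≃ₗ[P']
      (ModuleCat.restrictScalars.{u} (algebraMap P' B')).obj ((ext B B').obj N) := by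
  letI : Module P N := Module.compHom N (algebraMap P B)
  haveI : IsScalarTower P B N := ⟨fun p b x => by
    show (p • b) • x = algebraMap P B p • (b • x)
    rw [Algebra.smul_def, mul_smul]⟩
  let e1 := extEquiv (A := P) (B := P') ((ModuleCat.restrictScalars.{u} (algebraMap P B)).obj N)
  let e2 := extEquiv (A := B) (B := B') N
  let e3 := Algebra.IsPushout.cancelBaseChange P P' B B' N
  let a1 : (ext P P').obj ((ModuleCat.restrictScalars.{u} (algebraMap P B)).obj N) ≃+
      P' ⊗[P] N := e1.toAddEquiv
  let a3 : P' ⊗[P] N ≃+ B' ⊗[B] N := e3.symm.toAddEquiv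
  let a2 : B' ⊗[B] N ≃+
      (ModuleCat.restrictScalars.{u} (algebraMap P' B')).obj ((ext B B').obj N) := e2.symm.toAddEquiv
  refine AddEquiv.toLinearEquiv (a1.trans (a3.trans a2)) (fun p' x => ?_)
  show e2.symm (e3.symm (e1 (p' • x))) = (algebraMap P' B' p') • e2.symm (e3.symm (e1 x))
  have h1 : e1 (p' • x) = p' • e1 x := e1.map_smul p' x
  have h3 : e3.symm (p' • e1 x) = p' • e3.symm (e1 x) := e3.symm.map_smul p' (e1 x)
  have h4 : p' • e3.symm (e1 x) = (algebraMap P' B' p') • e3.symm (e1 x) :=
    (algebraMap_smul B' p' (e3.symm (e1 x))).symm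
  have h2 : e2.symm ((algebraMap P' B' p') • e3.symm (e1 x)) =
      (algebraMap P' B' p') • e2.symm (e3.symm (e1 x)) := e2.symm.map_smul _ _
  exact (congrArg (fun z => e2.symm (e3.symm z)) h1).trans
    ((congrArg (fun z => e2.symm z) (h3.trans h4)).trans h2)

open ChangeOfRings

lemma bcEquiv_tmul (N : ModuleCat.{u} B) (p' : P') (n : N) :
    bcEquiv (P := P) (P' := P') (B' := B') N
      ((p' ⊗ₜ[P, algebraMap P P'] (show ((ModuleCat.restrictScalars.{u} (algebraMap P B)).obj N) from n) :
        (ext P P').obj ((ModuleCat.restrictScalars.{u} (algebraMap P B)).obj N))) =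
      ((algebraMap P' B' p') ⊗ₜ[B, algebraMap B B'] n : (ext B B').obj N) := by
  letI : Module P N := Module.compHom N (algebraMap P B)
  haveI : IsScalarTower P B N := ⟨fun p b x => by
    show (p • b) • x = algebraMap P B p • (b • x)
    rw [Algebra.smul_def, mul_smul]⟩
  let e2 := extEquiv (A := B) (B := B') N
  let e3 := Algebra.IsPushout.cancelBaseChange P P' B B' N
  show e2.symm (e3.symm (p' ⊗ₜ[P] n)) = _
  have h3 : e3.symm (p' ⊗ₜ[P] n) = (algebraMap P' B' p') ⊗ₜ[B] n :=
    Algebra.IsPushout.cancelBaseChange_symm_tmul P P' B B' N p' n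
  rw [h3]
  have h2 : e2 ((algebraMap P' B' p') ⊗ₜ[B, algebraMap B B'] n : (ext B B').obj N) =
      (algebraMap P' B' p') ⊗ₜ[B] n := rfl
  rw [← h2]
  exact e2.symm_apply_apply _

/-- the base change isomorphism of functors -/
noncomputable def bcIso :
    ModuleCat.restrictScalars.{u} (algebraMap P B) ⋙ ext P P' ≅
      ext B B' ⋙ ModuleCat.restrictScalars.{u} (algebraMap P' B') :=
  NatIso.ofComponents (fun N => (bcEquiv (P := P) (P' := P') (B' := B') N).toModuleIso) (by
    intro N N' g
    apply ModuleCat.ExtendScalars.hom_ext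
    intro m
    show bcEquiv (P := P) (P' := P') (B' := B') N'
        ((ext P P').map ((ModuleCat.restrictScalars.{u} (algebraMap P B)).map g)
          ((1 : P') ⊗ₜ[P, algebraMap P P'] m)) =
      (ext B B').map g (bcEquiv (P := P) (P' := P') (B' := B') N
        ((1 : P') ⊗ₜ[P, algebraMap P P'] m))
    rw [ModuleCat.ExtendScalars.map_tmul]
    have h1 := bcEquiv_tmul (P := P) (P' := P') (B' := B') N' (1 : P') (g.hom m)
    have h2 := bcEquiv_tmul (P := P) (P' := P') (B' := B') N (1 : P') m
    refine h1.trans ?_
    rw [h2, ModuleCat.ExtendScalars.map_tmul]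
    rfl)

variable (P P' B B') in
/-- the base change isomorphism on derived categories (flat case) -/
noncomputable def bcIsoD [Module.Flat P P'] [Module.Flat B B'] :
    DRing.restrictD (algebraMap P B) ⋙ extD P P' ≅
      extD B B' ⋙ DRing.restrictD (algebraMap P' B') :=
  Groth.Agent.Lib.Helper1.ClosedPC.mapDCompIso (ModuleCat.restrictScalars.{u} (algebraMap P B))
    (ModuleCat.restrictScalars.{u} (algebraMap P' B')) (ext P P') (ext B B')
    (bcIso (P := P) (P' := P') (B := B) (B' := B'))

end bc

end Groth.Agent.Lib.Helper1.RelDescent
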