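import Mathlib
import Groth.Agent.Lib.Helper1KBC4
import Groth.Agent.Lib.Helper1KBC1
import Groth.Agent.Lib.Helper1Sky6
import Groth.Agent.Lib.Helper1CI3
import Groth.Agent.Lib.Helper1CI5
set_option backward.isDefEq.respectTransparency.types false

/-!
# The pullback of an acyclic K-flat complex is acyclic; `Lf^* K = f^* K` for K-flat `K` (helper1)
-/

set_option autoImplicit false
set_option linter.style.haveILetI false
universe u
open CategoryTheory CategoryTheory.Limits AlgebraicGeometry TopologicalSpace Opposite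
  MonoidalCategory TensorProduct HomologicalComplex

attribute [local instance] HasDerivedCategory.standard

namespace Groth.Agent.Lib.Helper1.KBC

open Groth.Agent.Lib.Helper1.Sky Groth.Agent.Lib.Helper1.StalkTensor
  Groth.Agent.Lib.Helper1.BKF

section ring

variable {R R' : Type u} [CommRing R] [CommRing R'] (φ : R →+* R')

/-- `res (ext M) ≅ res R' ⊗ M`, naturally -/
noncomputable def resExtIso : ext φ ⋙ res φ ≅
    (curriedTensor (ModuleCat.{u} R)).obj ((res φ).obj (𝟙_ (ModuleCat.{u} R'))) :=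
  (Functor.isoWhiskerRight (Functor.isoWhiskerLeft (ext φ)
      (leftUnitorNatIso (ModuleCat.{u} R')) ≪≫ (ext φ).rightUnitor) (res φ)).symm ≪≫
    ((pfIso φ).app (𝟙_ (ModuleCat.{u} R'))).symm

end ring

section sheaf

variable {Y : Scheme.{u}} (y : Y) (N₀ : ModuleCat.{u} (Sky.Ox y))

/-- `(L ⊗ sky N₀)_y ≅ N₀ ⊗ L_y`, naturally in `L` -/
noncomputable def stalkTensorSkyIso :
    (DCoh.tensorBi (X := Y)).flip.obj ((skyFun y).obj N₀) ⋙ stalkFun y ≅
      stalkFun y ⋙ (curriedTensor (ModuleCat.{u} (Sky.Ox y))).obj N₀ :=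
  NatIso.ofComponents (fun L => stalkTensorApp y L ((skyFun y).obj N₀) ≪≫
      β_ ((stalkFun y).obj L) ((stalkFun y).obj ((skyFun y).obj N₀)) ≪≫
      whiskerRightIso ((skyStalkIso y).app N₀) ((stalkFun y).obj L))
    (fun {L L'} g => by
      have h1 := stalkTensor_naturality_left y g ((skyFun y).obj N₀)
      have h2 := BraidedCategory.braiding_naturality_left ((stalkFun y).map g)
        ((stalkFun y).obj ((skyFun y).obj N₀))
      have h3 := whisker_exchange ((skyStalkIso y).hom.app N₀) ((stalkFun y).map g)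
      change (stalkFun y).map ((DCoh.tensorBi.map g).app ((skyFun y).obj N₀)) ≫
        (stalkTensorApp y L' ((skyFun y).obj N₀)).hom ≫ (β_ _ _).hom ≫
          ((skyStalkIso y).hom.app N₀ ▷ (stalkFun y).obj L') =
        ((stalkTensorApp y L ((skyFun y).obj N₀)).hom ≫ (β_ _ _).hom ≫
          ((skyStalkIso y).hom.app N₀ ▷ (stalkFun y).obj L)) ≫ (N₀ ◁ (stalkFun y).map g)
      rw [← Category.assoc]
      erw [h1]
      rw [Category.assoc, Category.assoc, Category.assoc]
      erw [← h3]
      congr 1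
      exact (Category.assoc _ _ _).symm.trans
        (congrArg (fun t => t ≫ ((skyStalkIso y).hom.app N₀ ▷ (stalkFun y).obj L')) h2))

/-- tensoring the stalks of an acyclic K-flat complex with a module gives an exact complex -/
lemma acyc_tensor_stalk (C : CochainComplex Y.Modules ℤ) (hC : DCoh.IsKFlat C) (hac : Acyc C) :
    Acyc ((((curriedTensor (ModuleCat.{u} (Sky.Ox y))).obj N₀).mapHomologicalComplex
      (ComplexShape.up ℤ)).obj ((stalkC y).obj C)) := by
  intro n
  rw [← exactAt_iff_isZero_homology, exactAt_iff' _ (n - 1) n (n + 1) (by simp) (by simp)]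
  have h1 : ((C.sc' (n - 1) n (n + 1)).map
      ((DCoh.tensorBi (X := Y)).flip.obj ((skyFun y).obj N₀))).Exact :=
    exact_map_of_acyc_isKFlat (O := Y.sheaf) C hC hac ((skyFun y).obj N₀)
      (n - 1) n (n + 1) (by omega) rfl
  have h2 := h1.map (stalkFun y)
  exact (ShortComplex.exact_iff_of_iso
    ((C.sc' (n - 1) n (n + 1)).mapNatIso (stalkTensorSkyIso y N₀))).1 h2

variable {X : Scheme.{u}} (f : X ⟶ Y)

/-- the pullback of an acyclic K-flat complex is acyclic -/
theorem acyc_pullC_of_isKFlat (C : CochainComplex Y.Modules ℤ) (hC : DCoh.IsKFlat C)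
    (hac : Acyc C) : Acyc ((pullC f).obj C) := by
  apply acyc_of_forall_acyc_stalk
  intro x
  have e : (stalkC x).obj ((pullC f).obj C) ≅
      ((ext (f.stalkMap x).hom).mapHomologicalComplex (ComplexShape.up ℤ)).obj
        ((stalkC (f x)).obj C) :=
    HomologicalComplex.Hom.isoOfComponents (fun i => (stalkPullbackIso f x).app (C.X i))
      (fun i j _ => ((stalkPullbackIso f x).hom.naturality (C.d i j)).symm)
  refine Acyc.of_iso e.symm ?_
  apply acyc_of_acyc_map (res (f.stalkMap x).hom)
  have h := acyc_tensor_stalk (f x)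
    ((res (f.stalkMap x).hom).obj (𝟙_ (ModuleCat.{u} (Sky.Ox x)))) C hC hac
  have e2 := (NatIso.mapHomologicalComplex (resExtIso (f.stalkMap x).hom)
    (ComplexShape.up ℤ)).app ((stalkC (f x)).obj C)
  exact Acyc.of_iso e2.symm h

/-- the pullback preserves quasi-isomorphisms between K-flat complexes -/
theorem quasiIso_pullC_map_of_isKFlat {E E' : CochainComplex Y.Modules ℤ} (q : E ⟶ E')
    [QuasiIso q] (hE : DCoh.IsKFlat E) (hE' : DCoh.IsKFlat E') : QuasiIso ((pullC f).map q) := by
  apply quasiIso_of_acyc_cone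
  exact Acyc.of_iso
    (CochainComplex.mappingCone.mapHomologicalComplexIso q (Scheme.Modules.pullback f))
    (acyc_pullC_of_isKFlat f _ (CI.isKFlat_mappingCone q hE hE') (acyc_cone_of_quasiIso q))

lemma isIso_pullFC_map_of_isKFlat {E E' : CochainComplex Y.Modules ℤ} (q : E ⟶ E') [QuasiIso q]
    (hE : DCoh.IsKFlat E) (hE' : DCoh.IsKFlat E') : IsIso ((pullFC f).map q) := by
  have h1 : QuasiIso ((pullC f).map q) := quasiIso_pullC_map_of_isKFlat f q hE hE'
  have h2 : IsIso (DerivedCategory.Q.map ((pullC f).map q)) := by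
    rw [DerivedCategory.isIso_Q_map_iff_quasiIso]; exact h1
  have h3 : IsIso (DerivedCategory.Qh.map ((HomotopyCategory.quotient _ _).map
      ((pullC f).map q))) :=
    (NatIso.isIso_map_iff (DerivedCategory.quotientCompQhIso X.Modules) ((pullC f).map q)).2 h2
  let e := Functor.isoWhiskerRight
    ((Scheme.Modules.pullback f).mapHomotopyCategoryFactors (ComplexShape.up ℤ))
    DerivedCategory.Qh
  exact (NatIso.isIso_map_iff e q).2 h3

open Groth.Agent.Lib.Helper1.CI in
/-- the derived pullback is computed by K-flat complexes -/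
theorem isIso_lpullCounit_app_of_isKFlat [DCoh.HasLpull f] (E : CochainComplex Y.Modules ℤ)
    (hE : DCoh.IsKFlat E) : IsIso ((lpullCounit f).app E) := by
  obtain ⟨R, ψ, h⟩ : ∃ (R : CochainComplex Y.Modules ℤ ⥤ CochainComplex Y.Modules ℤ)
      (ψ : R ⟶ 𝟭 (CochainComplex Y.Modules ℤ)),
      ∀ G : CochainComplex Y.Modules ℤ, ModSite.IsKFlat (O := Y.sheaf) (R.obj G) ∧
        (∀ n : ℤ, ModSite.IsFlat (O := Y.sheaf) ((R.obj G).X n)) ∧ QuasiIso (ψ.app G) ∧
        ∀ n : ℤ, Epi ((ψ.app G).f n) := exists_functorial_kflat_flat_resolution Y.sheaf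
  exact isIso_counit_app (HomologicalComplex.quasiIso Y.Modules (ComplexShape.up ℤ))
    (HomotopyCategory.quotient Y.Modules (ComplexShape.up ℤ) ⋙ DerivedCategory.Qh) (pullFC f)
    (DCoh.Lpull f) (lpullCounit f) (fun E => DCoh.IsKFlat E) R ψ
    (fun G => (h G).1) (fun G => (h G).2.2.1)
    (fun {E E'} q hE hE' hq => by
      have : QuasiIso q := hq
      exact isIso_pullFC_map_of_isKFlat f q hE hE') E hE

/-- `Lf^* K ≅ f^* K` for a K-flat complex `K` -/
noncomputable def lpullIsoK [DCoh.HasLpull f] (E : CochainComplex Y.Modules ℤ)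
    (hE : DCoh.IsKFlat E) :
    (DCoh.Lpull f).obj (DCoh.toD Y E) ≅ DCoh.toD X ((pullC f).obj E) :=
  haveI := isIso_lpullCounit_app_of_isKFlat f E hE
  (DCoh.Lpull f).mapIso ((DerivedCategory.quotientCompQhIso Y.Modules).app E).symm ≪≫
    asIso ((lpullCounit f).app E) ≪≫
    DerivedCategory.Qh.mapIso
      (((Scheme.Modules.pullback f).mapHomotopyCategoryFactors (ComplexShape.up ℤ)).app E) ≪≫
    (DerivedCategory.quotientCompQhIso X.Modules).app ((pullC f).obj E)

end sheaf

end Groth.Agent.Lib.Helper1.KBC
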