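import Mathlib
import Groth.Agent.Lib.Helper1TorT
import Groth.Agent.Lib.Helper1KBC6
import Groth.Agent.Lib.Helper1TQ5
set_option backward.isDefEq.respectTransparency.types false

/-!
# Tor amplitude of a base change `L ⊗_B B'` over a ring `A` below `B` (helper1)
-/

set_option autoImplicit false
set_option linter.style.haveILetI false
set_option maxHeartbeats 400000
universe u
open CategoryTheory CategoryTheory.Limits MonoidalCategory HomologicalComplex TensorProduct
attribute [local instance] HasDerivedCategory.standard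

namespace Groth.Agent.Lib.Helper1.TorT

open DerivedCategory Groth.Agent.Lib.Helper1.KF Groth.Agent.Lib.Helper1.Tor
  Groth.Agent.Lib.Helper1.DT Groth.Agent.Lib.Helper1.TensPerf Groth.Agent.Lib.Helper1.KBC
  Groth.Agent.Lib.Helper1.Restrict Groth.Agent.Lib.Helper1.LDer Groth.Agent.Lib.Helper1.TorO
  Groth.Agent.Lib.Helper1.RelPC

section Alg

variable {A B : Type u} [CommRing A] [CommRing B] [Algebra A B]

/-- complex-level form of S6953 -/
theorem hasTorAmp_restrict_tensor (E L : Cx B) (a b c d : ℤ) (hE : KFlat E)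
    (hEv : DRing.VanishesOutside E a b)
    (hL : DRing.HasTorAmplitudeIn A c d (Q.obj ((DRing.restrictCx (algebraMap A B)).obj L))) :
    DRing.HasTorAmplitudeIn A (a + c) (b + d)
      (Q.obj ((DRing.restrictCx (algebraMap A B)).obj (E ⊗ L))) := by
  obtain ⟨F', q, hF', -, hq, -⟩ := exists_kprojective_resolution
    (((res (algebraMap A B)).mapHomologicalComplex (ComplexShape.up ℤ)).obj (E ⊗ L))
  have hF'K : KFlat F' := kflat_of_isKProjective F'
  have htv := torVan_of_kflat_resolution E L a b c d hE hEv hL F' hF'K q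
  have h1 := hasTorAmp_of_torVan_kflat F' hF'K _ _ htv
  have i3 : IsIso (Q.map q) := (DerivedCategory.isIso_Q_map_iff_quasiIso (φ := q)).2 hq
  exact hasTorAmp_of_iso (asIso (Q.map q)) h1

end Alg

section Hom

variable {A B B' : Type u} [CommRing A] [CommRing B] [CommRing B'] (φ : A →+* B) (ψ : B →+* B')

/-- `res (ext L) ≅ B' ⊗ L` termwise, as complexes -/
noncomputable def resExtCxIso (L : Cx B) :
    (DRing.restrictCx ψ).obj ((bcCx ψ).obj L) ≅ TCx ((res ψ).obj (𝟙_ (ModuleCat.{u} B'))) L :=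
  HomologicalComplex.Hom.isoOfComponents (fun i => (resExtIso ψ).app (L.X i))
    (fun i j _ => ((resExtIso ψ).hom.naturality (L.d i j)).symm)

open Groth.Agent.Lib.Helper1.TQ in
/-- base change along `ψ : B → B'` of tor dimension `≤ m` of a K-flat complex whose restriction to
`A` has tor amplitude in `[c, d]` has tor amplitude in `[c - m, d]` over `A` -/
theorem hasTorAmp_restrict_ext (m : ℕ)
    (hB' : DRing.HasTorAmplitudeIn B (-(m : ℤ)) 0
      ((DerivedCategory.singleFunctor (ModuleCat.{u} B) 0).obj (BoverA ψ)))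
    (L : Cx B) (hLK : KFlat L) (c d : ℤ)
    (hL : DRing.HasTorAmplitudeIn A c d (DRing.toD ((DRing.restrictCx φ).obj L))) :
    DRing.HasTorAmplitudeIn A (c - m) d
      (DRing.toD ((DRing.restrictCx (ψ.comp φ)).obj ((bcCx ψ).obj L))) := by
  letI : Algebra A B := φ.toAlgebra
  obtain ⟨E, hEv, hEf, ⟨eE⟩⟩ := hB'
  have hE : KFlat E := kflat_of_boundedAbove_flat E 0 (fun q hq => hEv q (Or.inr hq)) hEf
  have h1 := hasTorAmp_restrict_tensor (A := A) E L (-(m : ℤ)) 0 c d hE hEv hL
  set T : ModuleCat.{u} B := (res ψ).obj (𝟙_ (ModuleCat.{u} B')) with hT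
  have eT : Q.obj (sgl T) ≅ Q.obj E :=
    ((DerivedCategory.singleFunctorIsoCompQ (ModuleCat.{u} B) 0).app T).symm ≪≫ eE.symm
  obtain ⟨P₀, π, hP₀, -, hπ, -⟩ := exists_kprojective_resolution (sgl T)
  have hπi : IsIso (Q.map π) := (DerivedCategory.isIso_Q_map_iff_quasiIso (φ := π)).2 hπ
  obtain ⟨g, hg⟩ := Q_map_surjective P₀ E (Q.map π ≫ eT.hom)
  have hgi : IsIso (Q.map g) := by rw [hg]; infer_instance
  have hgq : QuasiIso g := (DerivedCategory.isIso_Q_map_iff_quasiIso (φ := g)).1 hgi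
  have q1 : QuasiIso (π ▷ L) := quasiIso_whiskerRight_of_kflat π L hLK
  have q2 : QuasiIso (g ▷ L) := quasiIso_whiskerRight_of_kflat g L hLK
  have i1 : IsIso (Q.map (π ▷ L)) := (DerivedCategory.isIso_Q_map_iff_quasiIso (φ := π ▷ L)).2 q1
  have i2 : IsIso (Q.map (g ▷ L)) := (DerivedCategory.isIso_Q_map_iff_quasiIso (φ := g ▷ L)).2 q2
  have iso : Q.obj (E ⊗ L) ≅ Q.obj ((DRing.restrictCx ψ).obj ((bcCx ψ).obj L)) :=
    (asIso (Q.map (g ▷ L))).symm ≪≫ asIso (Q.map (π ▷ L)) ≪≫
      Q.mapIso ((singleTensorIso T L).symm ≪≫ (resExtCxIso ψ L).symm)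
  have h2 := hasTorAmp_of_iso (restrictCxQIso φ iso) h1
  have h3 := hasTorAmp_of_iso (Q.mapIso (restrictCxCompIso φ ψ ((bcCx ψ).obj L))) h2
  have e1 : -(m : ℤ) + c = c - m := by ring
  have e2 : (0 : ℤ) + d = d := by ring
  rw [e1, e2] at h3
  exact h3

end Hom

end Groth.Agent.Lib.Helper1.TorT
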