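import Mathlib
import Groth.Agent.Lib.Helper1TorT2
import Groth.Agent.Lib.Helper1TQ5
import Groth.Agent.Lib.Helper1TQ2
import Groth.Agent.Lib.Helper1KBC6
set_option backward.isDefEq.respectTransparency.types false

/-!
# Relative tor amplitude of a derived pullback (helper1)
-/

set_option autoImplicit false
set_option linter.style.haveILetI false
set_option maxHeartbeats 400000
universe u
open CategoryTheory CategoryTheory.Limits AlgebraicGeometry HomologicalComplex

attribute [local instance] HasDerivedCategory.standard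

namespace Groth.Agent.Lib.Helper1.TQ

open Groth.Agent.Lib.Helper1.Sky Groth.Agent.Lib.Helper1.StalkTensor Groth.Agent.Lib.Helper1.KBC
  Groth.Agent.Lib.Helper1.Tor Groth.Agent.Lib.Helper1.Restrict Groth.Agent.Lib.Helper1.RelPC
  Groth.Agent.Lib.Helper1.TorDim Groth.Agent.Lib.Helper1.BKF Groth.Agent.Lib.Helper1.TorT
  Groth.Agent.Lib.Helper1.LDer

variable {X Y Z : Scheme.{u}}

/-- the complex of stalks of a pulled back complex -/
noncomputable def stalkPullCIso (f : X ⟶ Y) (x : X) (C : CochainComplex Y.Modules ℤ) :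
    (stalkC x).obj ((pullC f).obj C) ≅
      (bcCx (f.stalkMap x).hom).obj ((stalkC (f x)).obj C) :=
  HomologicalComplex.Hom.isoOfComponents (fun i => (stalkPullbackIso f x).app (C.X i))
    (fun i j _ => ((stalkPullbackIso f x).hom.naturality (C.d i j)).symm)

/-- S6188: tor amplitude of `Lf^* G` relative to a composite -/
theorem hasTorAmplitudeD_Lpull_comp (f : X ⟶ Y) (g : Y ⟶ Z) (m : ℕ)
    (hf : DerSch.HasTorDimLE f m) [DCoh.HasLpull f]
    (G : CochainComplex Y.Modules ℤ) (c d : ℤ) (hG : DerSch.HasTorAmplitude g c d G) :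
    DerSch.HasTorAmplitudeD (f ≫ g) (c - m) d ((DCoh.Lpull f).obj (DCoh.toD Y G)) := by
  obtain ⟨K, q, hK, -, hq, -⟩ : ∃ (K : CochainComplex Y.Modules ℤ)
      (q : K ⟶ G), DCoh.IsKFlat K ∧
      (∀ n : ℤ, ModSite.IsFlat (O := Y.sheaf) (K.X n)) ∧ QuasiIso q ∧ ∀ n : ℤ, Epi (q.f n) :=
    exists_kflat_flat_resolution Y.sheaf G
  have hqi : IsIso (DerivedCategory.Q.map q) := by
    rw [DerivedCategory.isIso_Q_map_iff_quasiIso]; exact hq
  have eK : DCoh.toD Y K ≅ DCoh.toD Y G := asIso (DerivedCategory.Q.map q)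
  have hGK : DerSch.HasTorAmplitude g c d K := hasTorAmplitude_of_iso g eK.symm c d hG
  have eL : (DCoh.Lpull f).obj (DCoh.toD Y G) ≅ DCoh.toD X ((pullC f).obj K) :=
    (DCoh.Lpull f).mapIso eK.symm ≪≫ lpullIsoK f K hK
  rintro F ⟨eF⟩
  refine hasTorAmplitude_of_iso (f ≫ g) (eF ≪≫ eL).symm _ _ ?_
  intro x
  rw [hasTorAmplitudeAt_iff]
  have hKy : Groth.Agent.Lib.Helper1.KF.KFlat ((stalkC (f x)).obj K) :=
    fun M hM => rKFlat_stalk_of_isKFlat (f x) K hK M hM
  have hB' := hasTorAmp_of_iso (stalkCxOverUnitIso f x) (hf x)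
  have hL := (hasTorAmplitudeAt_iff g K c d (f x)).1 (hGK (f x))
  have h1 := hasTorAmp_restrict_ext (g.stalkMap (f x)).hom (f.stalkMap x).hom m hB' _ hKy c d hL
  have hcomp : ((f ≫ g).stalkMap x).hom = (f.stalkMap x).hom.comp (g.stalkMap (f x)).hom := by
    rw [Scheme.Hom.stalkMap_comp]
    rfl
  rw [hcomp]
  exact hasTorAmp_of_iso (DerivedCategory.Q.mapIso
    ((DRing.restrictCx _).mapIso (stalkPullCIso f x K).symm)) h1

end Groth.Agent.Lib.Helper1.TQ
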