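import Mathlib
import Groth.Agent.Lib.Helper1TorT2
import Groth.Agent.Lib.Helper1TQ6
set_option backward.isDefEq.respectTransparency.types false

/-!
# Tor amplitude over `A` of a complex of `B`-modules is local on `B` (helper1)
-/

set_option autoImplicit false
set_option linter.style.haveILetI false
set_option maxHeartbeats 400000
universe u
open CategoryTheory CategoryTheory.Limits MonoidalCategory HomologicalComplex TensorProduct
attribute [local instance] HasDerivedCategory.standard

namespace Groth.Agent.Lib.Helper1.TorT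

open DerivedCategory Groth.Agent.Lib.Helper1.KF Groth.Agent.Lib.Helper1.Tor
  Groth.Agent.Lib.Helper1.DT Groth.Agent.Lib.Helper1.TensPerf Groth.Agent.Lib.Helper1.KBC
  Groth.Agent.Lib.Helper1.Restrict Groth.Agent.Lib.Helper1.LDer Groth.Agent.Lib.Helper1.TorO
  Groth.Agent.Lib.Helper1.RelPC

section LocalGlobal

variable {B : Type u} [CommRing B]

/-- exactness can be checked after tensoring with all localizations at maximal ideals -/
lemma exact_of_forall_lTensor_atPrime {M N L : Type u} [AddCommGroup M] [Module B M]
    [AddCommGroup N] [Module B N] [AddCommGroup L] [Module B L] (F : M →ₗ[B] N) (G : N →ₗ[B] L)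
    (H : ∀ (m : Ideal B) [m.IsMaximal], Function.Exact (F.lTensor (Localization.AtPrime m))
      (G.lTensor (Localization.AtPrime m))) :
    Function.Exact F G := by
  refine exact_of_isLocalized_maximal
    (fun P _ => Localization.AtPrime P ⊗[B] M) (fun P _ => TensorProduct.mk B _ M 1)
    (fun P _ => Localization.AtPrime P ⊗[B] N) (fun P _ => TensorProduct.mk B _ N 1)
    (fun P _ => Localization.AtPrime P ⊗[B] L) (fun P _ => TensorProduct.mk B _ L 1) F G ?_
  intro J hJ
  have e1 : IsLocalizedModule.map J.primeCompl (TensorProduct.mk B (Localization.AtPrime J) M 1)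
      (TensorProduct.mk B (Localization.AtPrime J) N 1) F = F.lTensor (Localization.AtPrime J) := by
    apply IsLocalizedModule.linearMap_ext J.primeCompl
      (TensorProduct.mk B (Localization.AtPrime J) M 1)
      (TensorProduct.mk B (Localization.AtPrime J) N 1)
    ext x
    exact IsLocalizedModule.map_apply J.primeCompl
      (TensorProduct.mk B (Localization.AtPrime J) M 1)
      (TensorProduct.mk B (Localization.AtPrime J) N 1) F x
  have e2 : IsLocalizedModule.map J.primeCompl (TensorProduct.mk B (Localization.AtPrime J) N 1)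
      (TensorProduct.mk B (Localization.AtPrime J) L 1) G = G.lTensor (Localization.AtPrime J) := by
    apply IsLocalizedModule.linearMap_ext J.primeCompl
      (TensorProduct.mk B (Localization.AtPrime J) N 1)
      (TensorProduct.mk B (Localization.AtPrime J) L 1)
    ext x
    exact IsLocalizedModule.map_apply J.primeCompl
      (TensorProduct.mk B (Localization.AtPrime J) N 1)
      (TensorProduct.mk B (Localization.AtPrime J) L 1) G x
  rw [e1, e2]
  exact H J

/-- exactness of a complex can be checked after localizing at all maximal ideals -/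
lemma exactAt_of_forall_TC_atPrime (W : Cx B) (i : ℤ)
    (H : ∀ (m : Ideal B) [m.IsMaximal],
      ((TC (ModuleCat.of B (Localization.AtPrime m))).obj W).ExactAt i) : W.ExactAt i := by
  rw [exactAt_iff_fexact W (i - 1) i (i + 1) (by lia) rfl]
  apply exact_of_forall_lTensor_atPrime
  intro m hm
  have h := H m
  rw [exactAt_TC_iff _ W (i - 1) i (i + 1) (by lia) rfl] at h
  exact h

end LocalGlobal

section Char

variable {A B : Type u} [CommRing A] [CommRing B] [Algebra A B]

/-- converse of `exactAt_tensor_ext_of_hasTorAmp` -/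
theorem hasTorAmp_restrict_of_forall_exactAt (L : Cx B) (a b : ℤ)
    (h : ∀ (N : ModuleCat.{u} A) (N' : Cx A) [N'.IsKProjective] (ν : N' ⟶ sgl N) [QuasiIso ν]
      (i : ℤ), (i < a ∨ b < i) →
      (L ⊗ ((ext (algebraMap A B)).mapHomologicalComplex (ComplexShape.up ℤ)).obj N').ExactAt i) :
    DRing.HasTorAmplitudeIn A a b (Q.obj ((DRing.restrictCx (algebraMap A B)).obj L)) := by
  obtain ⟨F', q, hF', -, hq, -⟩ := exists_kprojective_resolution
    (((res (algebraMap A B)).mapHomologicalComplex (ComplexShape.up ℤ)).obj L)
  have hF'K : KFlat F' := kflat_of_isKProjective F'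
  have htv : TorVan F' a b := by
    intro N i hi
    obtain ⟨N', ν, hN', -, hν, -⟩ := exists_kprojective_resolution (sgl N)
    have hN'K : KFlat N' := kflat_of_isKProjective N'
    have h2 := h N N' ν i hi
    obtain ⟨e⟩ := nonempty_pfCxIso (algebraMap A B) L N'
    have h3 := (exactAt_of_iso e i).1 ((exactAt_restrict_iff (algebraMap A B) _ i).2 h2)
    have h4 := (exactAt_of_iso (DTen.braidCx N'
      (((res (algebraMap A B)).mapHomologicalComplex (ComplexShape.up ℤ)).obj L)) i).2 h3
    have q1 : QuasiIso (ν ▷ F') := quasiIso_whiskerRight_of_kflat ν F' hF'K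
    have q2 : QuasiIso (N' ◁ q) := quasiIso_whiskerLeft_of_kflatL q N' hN'K.kflatL
    have h5 : (N' ⊗ F').ExactAt i := (exactAt_of_quasiIso (N' ◁ q) i).2 h4
    have h6 : (sgl N ⊗ F').ExactAt i := (exactAt_of_quasiIso (ν ▷ F') i).1 h5
    exact (exactAt_of_iso (singleTensorIso N F') i).2 h6
  have h1 := hasTorAmp_of_torVan_kflat F' hF'K _ _ htv
  have i3 : IsIso (Q.map q) := (DerivedCategory.isIso_Q_map_iff_quasiIso (φ := q)).2 hq
  exact hasTorAmp_of_iso (asIso (Q.map q)) h1

end Char

section Main

open Groth.Agent.Lib.Helper1.TQ Groth.Agent.Lib.Helper1.TorM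

variable {A B : Type u} [CommRing A] [CommRing B] [Algebra A B]

/-- restriction of scalars along equal ring maps -/
noncomputable def restrictCxEqIso {R S : Type u} [CommRing R] [CommRing S] {f f' : R →+* S}
    (h : f = f') (E : Cx S) : (DRing.restrictCx f).obj E ≅ (DRing.restrictCx f').obj E :=
  eqToIso (by rw [h])

/-- `B_m` as a `B`-module, in its two guises -/
lemma nonempty_resUnitIso {R S : Type u} [CommRing R] [CommRing S] [Algebra R S] :
    Nonempty ((res (algebraMap R S)).obj (𝟙_ (ModuleCat.{u} S)) ≅ ModuleCat.of R S) :=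
  nonempty_iso_of_addEquiv (X := (res (algebraMap R S)).obj (𝟙_ (ModuleCat.{u} S)))
    (AddEquiv.refl S) (fun r x => by
      let y : S := x
      change algebraMap R S r * y = r • y
      rw [Algebra.smul_def])

/-- S12092: tor amplitude over `A` of a complex of `B`-modules can be checked at the maximal
ideals of `B` -/
theorem hasTorAmp_restrict_of_forall_maximal (K : Cx B) (a b : ℤ)
    (h3 : ∀ (m : Ideal B) [m.IsMaximal],
      DRing.HasTorAmplitudeIn (Localization.AtPrime (m.comap (algebraMap A B))) a b
        (DRing.toD ((DRing.restrictCx (Localization.localRingHom (m.comap (algebraMap A B)) m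
          (algebraMap A B) rfl)).obj
          ((bcCx (algebraMap B (Localization.AtPrime m))).obj K)))) :
    DRing.HasTorAmplitudeIn A a b (DRing.toD ((DRing.restrictCx (algebraMap A B)).obj K)) := by
  apply hasTorAmp_restrict_of_forall_exactAt K a b
  intro N N' _ ν _ i hi
  set M := ((ext (algebraMap A B)).mapHomologicalComplex (ComplexShape.up ℤ)).obj N' with hM
  apply exactAt_of_forall_TC_atPrime
  intro m hm
  set ψ : B →+* Localization.AtPrime m := algebraMap B (Localization.AtPrime m) with hψ
  set p := m.comap (algebraMap A B) with hp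
  set α : A →+* Localization.AtPrime p := algebraMap A (Localization.AtPrime p) with hα
  set ℓ := Localization.localRingHom p m (algebraMap A B) rfl with hℓ
  set Km := (bcCx ψ).obj K with hKm
  have hαflat : α.Flat := RingHom.flat_algebraMap_iff.2 inferInstance
  have hcomm : ψ.comp (algebraMap A B) = ℓ.comp α := by
    ext x
    exact (Localization.localRingHom_to_map p m (algebraMap A B) rfl x).symm
  have hLm : DRing.HasTorAmplitudeIn A a b
      (Q.obj ((DRing.restrictCx (algebraMap A B)).obj ((DRing.restrictCx ψ).obj Km))) := by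
    have h1 := hasTorAmp_restrictCx_of_flat α hαflat _ a b (h3 m)
    exact hasTorAmp_of_iso (Q.mapIso (restrictCxCompIso α ℓ Km ≪≫
      (restrictCxEqIso hcomm Km).symm ≪≫ (restrictCxCompIso (algebraMap A B) ψ Km).symm)) h1
  have h1 := exactAt_tensor_ext_of_hasTorAmp ((DRing.restrictCx ψ).obj Km) a b hLm N N' ν i hi
  set T : ModuleCat.{u} B := (res ψ).obj (𝟙_ (ModuleCat.{u} (Localization.AtPrime m))) with hT
  have h2 : ((sgl T ⊗ K) ⊗ M).ExactAt i :=
    (exactAt_of_iso (whiskerRightIso (resExtCxIso ψ K ≪≫ singleTensorIso T K) M) i).1 h1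
  have h3' : (sgl T ⊗ (K ⊗ M)).ExactAt i := (exactAt_of_iso (α_ (sgl T) K M) i).1 h2
  have h4 : (TCx T (K ⊗ M)).ExactAt i := (exactAt_of_iso (singleTensorIso T (K ⊗ M)) i).2 h3'
  obtain ⟨eT⟩ := nonempty_resUnitIso (R := B) (S := Localization.AtPrime m)
  exact exactAt_TC_of_iso eT (K ⊗ M) i h4

end Main

end Groth.Agent.Lib.Helper1.TorT
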