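import Mathlib
import Groth.Agent.Lib.Helper1TorT3
set_option backward.isDefEq.respectTransparency.types false

/-!
# Tor amplitude over `R` and faithfully flat base change of the upper ring (helper1)
-/

set_option autoImplicit false
set_option linter.style.haveILetI false
set_option maxHeartbeats 400000
universe u
open CategoryTheory CategoryTheory.Limits MonoidalCategory HomologicalComplex TensorProduct
attribute [local instance] HasDerivedCategory.standard

namespace Groth.Agent.Lib.Helper1.TorT

open DerivedCategory Groth.Agent.Lib.Helper1.KF Groth.Agent.Lib.Helper1.Tor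
  Groth.Agent.Lib.Helper1.DT Groth.Agent.Lib.Helper1.TensPerf Groth.Agent.Lib.Helper1.KBC
  Groth.Agent.Lib.Helper1.Restrict Groth.Agent.Lib.Helper1.LDer Groth.Agent.Lib.Helper1.TorO
  Groth.Agent.Lib.Helper1.RelPC Groth.Agent.Lib.Helper1.TorM

section FF

variable {A : Type u} [CommRing A]

lemma exactAt_TC_iff_of_faithfullyFlat (T : ModuleCat.{u} A) [Module.FaithfullyFlat A T]
    (W : Cx A) (i : ℤ) : ((TC T).obj W).ExactAt i ↔ W.ExactAt i := by
  rw [exactAt_TC_iff T W (i - 1) i (i + 1) (by lia) rfl,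
    exactAt_iff_fexact W (i - 1) i (i + 1) (by lia) rfl]
  exact Module.FaithfullyFlat.lTensor_exact_iff_exact A T (W.d (i - 1) i).hom (W.d i (i + 1)).hom

end FF

section Main

variable {R A B : Type u} [CommRing R] [CommRing A] [CommRing B] [Algebra R A] [Algebra A B]
  [Algebra R B] [IsScalarTower R A B] [Module.FaithfullyFlat A B]

/-- S6951: tor amplitude over `R` is insensitive to faithfully flat base change of the upper
ring -/
theorem hasTorAmp_restrict_iff_LBaseChange [DRing.HasLBaseChange (algebraMap A B)] (K : Dual.D A)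
    (a b : ℤ) :
    DRing.HasTorAmplitudeIn R a b ((DRing.restrictD (algebraMap R A)).obj K) ↔
      DRing.HasTorAmplitudeIn R a b ((DRing.restrictD (algebraMap R B)).obj
        ((DRing.LBaseChange (algebraMap A B)).obj K)) := by
  obtain ⟨P, hP, -, ⟨eP⟩⟩ := exists_kproj_iso K
  set ψ := algebraMap A B with hψ
  have e1 : (DRing.restrictD (algebraMap R A)).obj K ≅
      Q.obj ((DRing.restrictCx (algebraMap R A)).obj P) :=
    (DRing.restrictD (algebraMap R A)).mapIso eP.symm ≪≫ restrictQIso (algebraMap R A) P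
  have hcomp : algebraMap R B = ψ.comp (algebraMap R A) := IsScalarTower.algebraMap_eq R A B
  set L₁ := (DRing.restrictCx ψ).obj ((bcCx ψ).obj P) with hL₁
  have e2 : (DRing.restrictD (algebraMap R B)).obj ((DRing.LBaseChange ψ).obj K) ≅
      Q.obj ((DRing.restrictCx (algebraMap R A)).obj L₁) :=
    (DRing.restrictD (algebraMap R B)).mapIso
        ((DRing.LBaseChange ψ).mapIso eP.symm ≪≫ lbcIso ψ P) ≪≫
      restrictQIso (algebraMap R B) ((bcCx ψ).obj P) ≪≫
      Q.mapIso (restrictCxEqIso hcomp ((bcCx ψ).obj P) ≪≫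
        (restrictCxCompIso (algebraMap R A) ψ ((bcCx ψ).obj P)).symm)
  set T : ModuleCat.{u} A := (res ψ).obj (𝟙_ (ModuleCat.{u} B)) with hT
  have eL : L₁ ≅ sgl T ⊗ P := resExtCxIso ψ P ≪≫ singleTensorIso T P
  obtain ⟨eT⟩ := nonempty_resUnitIso (R := A) (S := B)
  have key : ∀ (M : Cx A) (i : ℤ), (L₁ ⊗ M).ExactAt i ↔ (P ⊗ M).ExactAt i := by
    intro M i
    rw [exactAt_of_iso (whiskerRightIso eL M) i, exactAt_of_iso (α_ (sgl T) P M) i,
      ← exactAt_of_iso (singleTensorIso T (P ⊗ M)) i]
    constructor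
    · intro h
      exact (exactAt_TC_iff_of_faithfullyFlat (ModuleCat.of A B) _ i).1
        (exactAt_TC_of_iso eT _ i h)
    · intro h
      exact exactAt_TC_of_iso eT.symm _ i
        ((exactAt_TC_iff_of_faithfullyFlat (ModuleCat.of A B) _ i).2 h)
  constructor
  · intro h
    have h1 := hasTorAmp_of_iso e1 h
    refine hasTorAmp_of_iso e2.symm ?_
    apply hasTorAmp_restrict_of_forall_exactAt L₁ a b
    intro N N' _ ν _ i hi
    exact (key _ i).2 (exactAt_tensor_ext_of_hasTorAmp P a b h1 N N' ν i hi)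
  · intro h
    have h1 := hasTorAmp_of_iso e2 h
    refine hasTorAmp_of_iso e1.symm ?_
    apply hasTorAmp_restrict_of_forall_exactAt P a b
    intro N N' _ ν _ i hi
    exact (key _ i).1 (exactAt_tensor_ext_of_hasTorAmp L₁ a b h1 N N' ν i hi)

end Main

end Groth.Agent.Lib.Helper1.TorT
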