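import Mathlib
import Groth.Agent.Lib.Helper1TorT4
import Groth.Agent.Lib.Helper1TQ16
import Groth.Agent.S0960
set_option backward.isDefEq.respectTransparency.types false

/-!
# Tor amplitude of `Lf^* G ⊗^L F` relative to a composite (helper1)
-/

set_option autoImplicit false
set_option linter.style.haveILetI false
set_option maxHeartbeats 400000
universe u
open CategoryTheory CategoryTheory.Limits MonoidalCategory HomologicalComplex TensorProduct
attribute [local instance] HasDerivedCategory.standard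

namespace Groth.Agent.Lib.Helper1.TorT

open DerivedCategory Groth.Agent.Lib.Helper1.KF Groth.Agent.Lib.Helper1.Tor
  Groth.Agent.Lib.Helper1.DT Groth.Agent.Lib.Helper1.TensPerf Groth.Agent.Lib.Helper1.KBC
  Groth.Agent.Lib.Helper1.Restrict Groth.Agent.Lib.Helper1.LDer Groth.Agent.Lib.Helper1.TorO
  Groth.Agent.Lib.Helper1.RelPC Groth.Agent.Lib.Helper1.TQ

section Alg

variable {A B C : Type u} [CommRing A] [CommRing B] [CommRing C] (φ : A →+* B) (ψ : B →+* C)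

/-- `K` K-flat over `B` with tor amplitude `[c, d]` over `A`, `Fx` a complex over `C` with tor
amplitude `[a, b]` over `B`: `(K ⊗_B C) ⊗_C Fx` has tor amplitude `[a + c, b + d]` over `A` -/
theorem hasTorAmp_restrict_bc_tensor (K : Cx B) (hK : KFlat K) (c d : ℤ)
    (hKa : DRing.HasTorAmplitudeIn A c d (DRing.toD ((DRing.restrictCx φ).obj K)))
    (Fx : Cx C) (a b : ℤ)
    (hF : DRing.HasTorAmplitudeIn B a b (DRing.toD ((DRing.restrictCx ψ).obj Fx))) :
    DRing.HasTorAmplitudeIn A (a + c) (b + d)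
      (DRing.toD ((DRing.restrictCx (ψ.comp φ)).obj ((bcCx ψ).obj K ⊗ Fx))) := by
  letI : Algebra A B := φ.toAlgebra
  obtain ⟨E, hEv, hEf, ⟨eE⟩⟩ := hF
  have hE : KFlat E := kflat_of_boundedAbove_flat E b (fun q hq => hEv q (Or.inr hq)) hEf
  have h1 := hasTorAmp_restrict_tensor (A := A) E K a b c d hE hEv hKa
  set R : Cx B := (DRing.restrictCx ψ).obj Fx with hR
  obtain ⟨P₀, π, hP₀, -, hπ, -⟩ := exists_kprojective_resolution R
  have hπi : IsIso (Q.map π) := (DerivedCategory.isIso_Q_map_iff_quasiIso (φ := π)).2 hπ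
  obtain ⟨g, hg⟩ := Q_map_surjective P₀ E (Q.map π ≫ eE.inv)
  have hgi : IsIso (Q.map g) := by rw [hg]; infer_instance
  have hgq : QuasiIso g := (DerivedCategory.isIso_Q_map_iff_quasiIso (φ := g)).1 hgi
  have q1 : QuasiIso (π ▷ K) := quasiIso_whiskerRight_of_kflat π K hK
  have q2 : QuasiIso (g ▷ K) := quasiIso_whiskerRight_of_kflat g K hK
  have i1 : IsIso (Q.map (π ▷ K)) := (DerivedCategory.isIso_Q_map_iff_quasiIso (φ := π ▷ K)).2 q1
  have i2 : IsIso (Q.map (g ▷ K)) := (DerivedCategory.isIso_Q_map_iff_quasiIso (φ := g ▷ K)).2 q2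
  obtain ⟨pf⟩ := nonempty_pfCxIso ψ Fx K
  have iso : Q.obj (E ⊗ K) ≅ Q.obj ((DRing.restrictCx ψ).obj ((bcCx ψ).obj K ⊗ Fx)) :=
    (asIso (Q.map (g ▷ K))).symm ≪≫ asIso (Q.map (π ▷ K)) ≪≫
      Q.mapIso (pf.symm ≪≫ (DRing.restrictCx ψ).mapIso (DTen.braidCx Fx ((bcCx ψ).obj K)))
  have h2 := hasTorAmp_of_iso (restrictCxQIso φ iso) h1
  exact hasTorAmp_of_iso (Q.mapIso (restrictCxCompIso φ ψ ((bcCx ψ).obj K ⊗ Fx))) h2

end Alg

end Groth.Agent.Lib.Helper1.TorT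

namespace Groth.Agent.Lib.Helper1.TQ

open AlgebraicGeometry
open Groth.Agent.Lib.Helper1.Sky Groth.Agent.Lib.Helper1.StalkTensor Groth.Agent.Lib.Helper1.KBC
  Groth.Agent.Lib.Helper1.Tor Groth.Agent.Lib.Helper1.Restrict Groth.Agent.Lib.Helper1.RelPC
  Groth.Agent.Lib.Helper1.TorDim Groth.Agent.Lib.Helper1.BKF Groth.Agent.Lib.Helper1.TorT
  Groth.Agent.Lib.Helper1.LDer

variable {X Y Z : Scheme.{u}}

/-- S6240: tor amplitude of `Lf^* G ⊗^L F` relative to a composite -/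
theorem hasTorAmplitudeD_ltensor_Lpull (f : X ⟶ Y) (g : Y ⟶ Z)
    (F : CochainComplex X.Modules ℤ) (a b : ℤ)
    (hF : DerSch.HasTorAmplitude f a b F) (G : CochainComplex Y.Modules ℤ) (c d : ℤ)
    (hG : DerSch.HasTorAmplitude g c d G) [DCoh.HasLpull f] [DCoh.HasLTensorCx F] :
    DerSch.HasTorAmplitudeD (f ≫ g) (a + c) (b + d)
      ((DCoh.LTensorCx F).obj ((DCoh.Lpull f).obj (DCoh.toD Y G))) := by
  obtain ⟨K, q, hK, -, hq, -⟩ : ∃ (K : CochainComplex Y.Modules ℤ)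
      (q : K ⟶ G), DCoh.IsKFlat K ∧
      (∀ n : ℤ, ModSite.IsFlat (O := Y.sheaf) (K.X n)) ∧ QuasiIso q ∧ ∀ n : ℤ, Epi (q.f n) :=
    exists_kflat_flat_resolution Y.sheaf G
  have hqi : IsIso (DerivedCategory.Q.map q) := by
    rw [DerivedCategory.isIso_Q_map_iff_quasiIso]; exact hq
  have eK : DCoh.toD Y K ≅ DCoh.toD Y G := asIso (DerivedCategory.Q.map q)
  have hGK : DerSch.HasTorAmplitude g c d K := hasTorAmplitude_of_iso g eK.symm c d hG
  have eL : (DCoh.Lpull f).obj (DCoh.toD Y G) ≅ DCoh.toD X ((pullC f).obj K) :=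
    (DCoh.Lpull f).mapIso eK.symm ≪≫ lpullIsoK f K hK
  have hPK : DCoh.IsKFlat ((pullC f).obj K) := Groth.Agent.S0960.isKFlat_pullC f K hK
  haveI hI1 : ModSite.HasLTensorCx (O := X.sheaf) F := (inferInstance : DCoh.HasLTensorCx F)
  have i : (DCoh.LTensorCx F).obj (DerivedCategory.Q.obj ((pullC f).obj K)) ≅
      DerivedCategory.Q.obj ((DCoh.tensorCx.obj ((pullC f).obj K)).obj F) :=
    lTensorCxIsoOfIsKFlat (O := X.sheaf) F _ hPK
  rintro F' ⟨eF'⟩
  refine hasTorAmplitude_of_iso (f ≫ g) (eF' ≪≫ (DCoh.LTensorCx F).mapIso eL ≪≫ i).symm _ _ ?_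
  intro x
  rw [hasTorAmplitudeAt_iff]
  have hKy : Groth.Agent.Lib.Helper1.KF.KFlat ((stalkC (f x)).obj K) :=
    fun M hM => rKFlat_stalk_of_isKFlat (f x) K hK M hM
  have hL := (hasTorAmplitudeAt_iff g K c d (f x)).1 (hGK (f x))
  have hFx := (hasTorAmplitudeAt_iff f F a b x).1 (hF x)
  have h1 := hasTorAmp_restrict_bc_tensor (g.stalkMap (f x)).hom (f.stalkMap x).hom _ hKy c d hL
    _ a b hFx
  have hcomp : ((f ≫ g).stalkMap x).hom = (f.stalkMap x).hom.comp (g.stalkMap (f x)).hom := by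
    rw [Scheme.Hom.stalkMap_comp]
    rfl
  rw [hcomp]
  obtain ⟨e⟩ := nonempty_stalkTotIso x ((pullC f).obj K) F
  let e2 : (stalkC x).obj ((DCoh.tensorCx.obj ((pullC f).obj K)).obj F) ≅
      (bcCx (f.stalkMap x).hom).obj ((stalkC (f x)).obj K) ⊗ (stalkC x).obj F :=
    e ≪≫ MonoidalCategory.whiskerRightIso (stalkPullCIso f x K) ((stalkC x).obj F)
  exact hasTorAmp_of_iso (DerivedCategory.Q.mapIso
    ((DRing.restrictCx _).mapIso e2.symm)) h1

end Groth.Agent.Lib.Helper1.TQ
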