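import Mathlib
import Groth.Agent.Lib.Helper1TorT5
import Groth.Agent.Lib.Helper1Sky9
set_option backward.isDefEq.respectTransparency.types false

/-!
# Cohomology of `L(f|)^* M ⊗^L F|` vanishes outside the relative tor amplitude (helper1)
-/

set_option autoImplicit false
set_option linter.style.haveILetI false
set_option maxHeartbeats 400000
universe u
open CategoryTheory CategoryTheory.Limits MonoidalCategory HomologicalComplex TensorProduct
attribute [local instance] HasDerivedCategory.standard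

namespace Groth.Agent.Lib.Helper1.TorT

open DerivedCategory Groth.Agent.Lib.Helper1.KF Groth.Agent.Lib.Helper1.Tor
  Groth.Agent.Lib.Helper1.DT Groth.Agent.Lib.Helper1.TensPerf Groth.Agent.Lib.Helper1.KBC
  Groth.Agent.Lib.Helper1.Restrict Groth.Agent.Lib.Helper1.LDer Groth.Agent.Lib.Helper1.TorO
  Groth.Agent.Lib.Helper1.RelPC Groth.Agent.Lib.Helper1.TQ

section Alg

variable {A B : Type u} [CommRing A] [CommRing B]

/-- variant of `exactAt_tensor_ext_of_hasTorAmp` for a K-flat resolution -/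
lemma exactAt_tensor_ext_of_hasTorAmp' [Algebra A B] (L : Cx B) (c d : ℤ)
    (hL : DRing.HasTorAmplitudeIn A c d (Q.obj ((DRing.restrictCx (algebraMap A B)).obj L)))
    (N : ModuleCat.{u} A) (N' : Cx A) (hN' : KFlat N') (ν : N' ⟶ sgl N) [QuasiIso ν] (j : ℤ)
    (hj : j < c ∨ d < j) :
    (L ⊗ ((ext (algebraMap A B)).mapHomologicalComplex (ComplexShape.up ℤ)).obj N').ExactAt j := by
  rw [← exactAt_restrict_iff (algebraMap A B)]
  obtain ⟨e⟩ := nonempty_pfCxIso (algebraMap A B) L N'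
  refine (exactAt_of_iso e j).2 ?_
  obtain ⟨G, hG, hGf, ⟨eG⟩⟩ := hL
  set rL := ((res (algebraMap A B)).mapHomologicalComplex (ComplexShape.up ℤ)).obj L with hrL
  obtain ⟨P, p, hP, -, hp, -⟩ := exists_kprojective_resolution rL
  have hpi : IsIso (Q.map p) := (DerivedCategory.isIso_Q_map_iff_quasiIso (φ := p)).2 hp
  obtain ⟨g, hg⟩ := Q_map_surjective P G (Q.map p ≫ eG.inv)
  have hgi : IsIso (Q.map g) := by rw [hg]; infer_instance
  have hgq : QuasiIso g := (DerivedCategory.isIso_Q_map_iff_quasiIso (φ := g)).1 hgi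
  have q1 : QuasiIso (p ▷ N') := quasiIso_whiskerRight_of_kflat p N' hN'
  have q2 : QuasiIso (g ▷ N') := quasiIso_whiskerRight_of_kflat g N' hN'
  have hGK : KFlat G := kflat_of_boundedAbove_flat G d (fun q hq => hG q (Or.inr hq)) hGf
  have q3 : QuasiIso (G ◁ ν) := quasiIso_whiskerLeft_of_kflatL ν G hGK.kflatL
  have hz : IsZero ((G ⊗ sgl N).X j) := by
    apply isZero_tensor_X
    intro p q hpq
    by_cases hq : q = 0
    · subst hq
      exact Or.inl (hG p (by rcases hj with hj | hj <;> [left; right] <;> lia))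
    · exact Or.inr (HomologicalComplex.isZero_single_obj_X (ComplexShape.up ℤ) 0 N q hq)
  have h0 : (G ⊗ sgl N).ExactAt j := ShortComplex.exact_of_isZero_X₂ _ hz
  have h1 : (G ⊗ N').ExactAt j := (exactAt_of_quasiIso (G ◁ ν) j).2 h0
  have h2 : (P ⊗ N').ExactAt j := (exactAt_of_quasiIso (g ▷ N') j).2 h1
  exact (exactAt_of_quasiIso (p ▷ N') j).1 h2

/-- ring-hom form: `(N' ⊗_A B) ⊗_B L` is exact outside the tor amplitude of `L` over `A` -/
lemma exactAt_bc_tensor_of_hasTorAmp (ψ : A →+* B) (L : Cx B) (c d : ℤ)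
    (hL : DRing.HasTorAmplitudeIn A c d (DRing.toD ((DRing.restrictCx ψ).obj L)))
    (N : ModuleCat.{u} A) (N' : Cx A) (hN' : KFlat N') (ν : N' ⟶ sgl N) [QuasiIso ν] (j : ℤ)
    (hj : j < c ∨ d < j) : ((bcCx ψ).obj N' ⊗ L).ExactAt j := by
  letI : Algebra A B := ψ.toAlgebra
  have h := exactAt_tensor_ext_of_hasTorAmp' (A := A) L c d hL N N' hN' ν j hj
  exact (exactAt_of_iso (DTen.braidCx ((bcCx ψ).obj N') L) j).2 h

end Alg

end Groth.Agent.Lib.Helper1.TorT

namespace Groth.Agent.Lib.Helper1.TQ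

open AlgebraicGeometry
open Groth.Agent.Lib.Helper1.Sky Groth.Agent.Lib.Helper1.StalkTensor Groth.Agent.Lib.Helper1.KBC
  Groth.Agent.Lib.Helper1.Tor Groth.Agent.Lib.Helper1.Restrict Groth.Agent.Lib.Helper1.RelPC
  Groth.Agent.Lib.Helper1.TorDim Groth.Agent.Lib.Helper1.BKF Groth.Agent.Lib.Helper1.TorT
  Groth.Agent.Lib.Helper1.LDer Groth.Agent.Lib.Helper1.DT

variable {X Y Z : Scheme.{u}}

/-- a flat module has tor amplitude in `[0, 0]` -/
lemma hasTorAmp_single_of_flat {R : Type u} [CommRing R] (T : ModuleCat.{u} R) [Module.Flat R T] :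
    DRing.HasTorAmplitudeIn R 0 0 ((DerivedCategory.singleFunctor (ModuleCat.{u} R) 0).obj T) := by
  refine ⟨sgl T, fun i hi => ?_, fun i => ?_,
    ⟨((DerivedCategory.singleFunctorIsoCompQ (ModuleCat.{u} R) 0).app T).symm⟩⟩
  · exact HomologicalComplex.isZero_single_obj_X (ComplexShape.up ℤ) 0 T i
      (by rcases hi with h | h <;> omega)
  · by_cases hi : i = 0
    · subst hi
      exact Module.Flat.of_linearEquiv
        (HomologicalComplex.singleObjXSelf (ComplexShape.up ℤ) 0 T).toLinearEquiv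
    · have := ModuleCat.subsingleton_of_isZero
        (HomologicalComplex.isZero_single_obj_X (ComplexShape.up ℤ) 0 T i hi)
      infer_instance

/-- a morphism with bijective stalk maps has tor dimension `≤ 0` -/
lemma hasTorDimLE_zero_of_bijective (g : Y ⟶ Z)
    (hg : ∀ y : Y, Function.Bijective (g.stalkMap y).hom) : DerSch.HasTorDimLE g 0 := by
  intro y
  have : Module.Flat (Z.presheaf.stalk (g.base y)) (BoverA (g.stalkMap y).hom) :=
    flat_restrictScalars_of_bijective (g.stalkMap y).hom (hg y) (ModuleCat.of _ _)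
  have h := hasTorAmp_single_of_flat (BoverA (g.stalkMap y).hom)
  have h' := hasTorAmp_of_iso (stalkCxOverUnitIso g y).symm h
  show DRing.HasTorAmplitudeIn _ (-((0 : ℕ) : ℤ)) 0 _
  rw [Nat.cast_zero, neg_zero]
  exact h'

/-- relative tor amplitude does not change under composition with a morphism with bijective
stalk maps -/
lemma hasTorAmplitude_of_comp_bijective (f : X ⟶ Y) (g : Y ⟶ Z)
    (hg : ∀ y : Y, Function.Bijective (g.stalkMap y).hom) (F : CochainComplex X.Modules ℤ)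
    (a b : ℤ) (h : DerSch.HasTorAmplitude (f ≫ g) a b F) : DerSch.HasTorAmplitude f a b F := by
  intro x
  rw [hasTorAmplitudeAt_iff]
  have h1 := (hasTorAmplitudeAt_iff (f ≫ g) F a b x).1 (h x)
  have hcomp : ((f ≫ g).stalkMap x).hom = (f.stalkMap x).hom.comp (g.stalkMap (f.base x)).hom := by
    rw [Scheme.Hom.stalkMap_comp]
    rfl
  rw [hcomp] at h1
  have h2 := hasTorAmp_of_iso (DerivedCategory.Q.mapIso
    (restrictCxCompIso (g.stalkMap (f.base x)).hom (f.stalkMap x).hom ((stalkC x).obj F)).symm) h1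
  exact (hasTorAmp_restrictCx_iff_of_bijective _ (hg (f.base x)) _ a b).1 h2

lemma bijective_stalkMap_of_isOpenImmersion (g : Y ⟶ Z) [IsOpenImmersion g] (y : Y) :
    Function.Bijective (g.stalkMap y).hom :=
  (ConcreteCategory.isIso_iff_bijective (g.stalkMap y)).1 inferInstance

/-- relative tor amplitude restricts to opens of the base -/
theorem hasTorAmplitude_morphismRestrict (f : X ⟶ Y) (V : Y.Opens)
    (F : CochainComplex X.Modules ℤ) (a b : ℤ) (hF : DerSch.HasTorAmplitude f a b F) :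
    DerSch.HasTorAmplitude (f ∣_ V) a b ((DCoh.restrictCx (f ⁻¹ᵁ V)).obj F) := by
  haveI : DCoh.HasLpull (f ⁻¹ᵁ V).ι := hasLpull _
  have hι : DerSch.HasTorDimLE (f ⁻¹ᵁ V).ι 0 :=
    hasTorDimLE_zero_of_bijective _ (fun x => bijective_stalkMap_of_isOpenImmersion _ x)
  have h1 := hasTorAmplitudeD_Lpull_comp (f ⁻¹ᵁ V).ι f 0 hι F a b hF
  have h2 : DerSch.HasTorAmplitude ((f ⁻¹ᵁ V).ι ≫ f) a b ((DCoh.restrictCx (f ⁻¹ᵁ V)).obj F) := by
    have := h1 _ ⟨(lpullOpenIso (f ⁻¹ᵁ V) F).symm⟩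
    simpa using this
  have hw : (f ⁻¹ᵁ V).ι ≫ f = (f ∣_ V) ≫ V.ι := (morphismRestrict_ι f V).symm
  rw [hw] at h2
  exact hasTorAmplitude_of_comp_bijective (f ∣_ V) V.ι
    (fun y => bijective_stalkMap_of_isOpenImmersion _ y) _ a b h2

/-- S6241 -/
theorem isZero_HD_ltensor_Lpull_restrict (f : X ⟶ Y) (F : CochainComplex X.Modules ℤ) (m n : ℤ)
    (hF : DerSch.HasTorAmplitude f m n F) (V : Y.Opens) (M : (V : Scheme.{u}).Modules)
    [DCoh.HasLpull (f ∣_ V)] [DCoh.HasLTensorCx ((DCoh.restrictCx (f ⁻¹ᵁ V)).obj F)]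
    (i : ℤ) (hi : i < m ∨ n < i) :
    IsZero (DCoh.HD ((DCoh.LTensorCx ((DCoh.restrictCx (f ⁻¹ᵁ V)).obj F)).obj
      ((DCoh.Lpull (f ∣_ V)).obj (DCoh.inD (V : Scheme.{u}) M))) i) := by
  have hF' := hasTorAmplitude_morphismRestrict f V F m n hF
  generalize (DCoh.restrictCx (f ⁻¹ᵁ V)).obj F = F' at *
  generalize f ∣_ V = f' at *
  obtain ⟨K, q, hK, -, hq, -⟩ : ∃ (K : CochainComplex (V : Scheme.{u}).Modules ℤ)
      (q : K ⟶ (HomologicalComplex.single _ (ComplexShape.up ℤ) 0).obj M), DCoh.IsKFlat K ∧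
      (∀ n : ℤ, ModSite.IsFlat (O := (V : Scheme.{u}).sheaf) (K.X n)) ∧ QuasiIso q ∧
        ∀ n : ℤ, Epi (q.f n) :=
    exists_kflat_flat_resolution (V : Scheme.{u}).sheaf _
  have hqi : IsIso (DerivedCategory.Q.map q) := by
    rw [DerivedCategory.isIso_Q_map_iff_quasiIso]; exact hq
  have eK : DCoh.toD (V : Scheme.{u}) K ≅ DCoh.inD (V : Scheme.{u}) M :=
    asIso (DerivedCategory.Q.map q) ≪≫
      ((DerivedCategory.singleFunctorIsoCompQ (V : Scheme.{u}).Modules 0).app M).symm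
  have eL : (DCoh.Lpull f').obj (DCoh.inD (V : Scheme.{u}) M) ≅ DCoh.toD _ ((pullC f').obj K) :=
    (DCoh.Lpull f').mapIso eK.symm ≪≫ lpullIsoK f' K hK
  have hPK : DCoh.IsKFlat ((pullC f').obj K) := Groth.Agent.S0960.isKFlat_pullC f' K hK
  haveI hI1 : ModSite.HasLTensorCx (O := (↑(f ⁻¹ᵁ V) : Scheme.{u}).sheaf) F' :=
    (inferInstance : DCoh.HasLTensorCx F')
  have i0 : (DCoh.LTensorCx F').obj (DerivedCategory.Q.obj ((pullC f').obj K)) ≅
      DerivedCategory.Q.obj ((DCoh.tensorCx.obj ((pullC f').obj K)).obj F') :=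
    lTensorCxIsoOfIsKFlat (O := (↑(f ⁻¹ᵁ V) : Scheme.{u}).sheaf) F' _ hPK
  set T := (DCoh.tensorCx.obj ((pullC f').obj K)).obj F' with hT
  have eT : (DCoh.LTensorCx F').obj ((DCoh.Lpull f').obj (DCoh.inD (V : Scheme.{u}) M)) ≅
      DerivedCategory.Q.obj T := (DCoh.LTensorCx F').mapIso eL ≪≫ i0
  refine IsZero.of_iso ?_ ((DerivedCategory.homologyFunctor _ i).mapIso eT ≪≫
    (DerivedCategory.homologyFunctorFactors _ i).app T)
  apply isZero_of_forall_isZero_stalk
  intro x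
  refine IsZero.of_iso ?_ ((T.sc i).mapHomologyIso (stalkFun x)).symm
  have hex : ((stalkC x).obj T).ExactAt i := by
    obtain ⟨e⟩ := nonempty_stalkTotIso x ((pullC f').obj K) F'
    let e2 : (stalkC x).obj T ≅
        (bcCx (f'.stalkMap x).hom).obj ((stalkC (f' x)).obj K) ⊗ (stalkC x).obj F' :=
      e ≪≫ MonoidalCategory.whiskerRightIso (stalkPullCIso f' x K) ((stalkC x).obj F')
    refine (exactAt_of_iso e2 i).2 ?_
    have hKy : Groth.Agent.Lib.Helper1.KF.KFlat ((stalkC (f' x)).obj K) :=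
      fun M hM => rKFlat_stalk_of_isKFlat (f' x) K hK M hM
    have hFx := (hasTorAmplitudeAt_iff f' F' m n x).1 (hF' x)
    let ν : (stalkC (f' x)).obj K ⟶ sgl ((stalkFun (f' x)).obj M) :=
      (stalkC (f' x)).map q ≫ ((HomologicalComplex.singleMapHomologicalComplex (stalkFun (f' x))
        (ComplexShape.up ℤ) 0).app M).hom
    haveI : QuasiIso ((stalkC (f' x)).map q) := inferInstance
    haveI : QuasiIso ν := inferInstance
    exact exactAt_bc_tensor_of_hasTorAmp (f'.stalkMap x).hom _ m n hFx _ _ hKy ν i hi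
  exact (HomologicalComplex.exactAt_iff_isZero_homology _ _).1 hex

end Groth.Agent.Lib.Helper1.TQ
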