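import Mathlib
import Groth.Agent.Lib.Helper1TorT6
import Groth.Agent.Lib.Helper1TQ8
set_option backward.isDefEq.respectTransparency.types false

/-!
# Relative tor amplitude of `M~` over `Spec A → Spec R` (helper1)
-/

set_option autoImplicit false
set_option linter.style.haveILetI false
set_option maxHeartbeats 400000
universe u
open CategoryTheory CategoryTheory.Limits MonoidalCategory HomologicalComplex TensorProduct
  AlgebraicGeometry
attribute [local instance] HasDerivedCategory.standard

namespace Groth.Agent.Lib.Helper1.TQ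

open DerivedCategory Groth.Agent.Lib.Helper1.KF Groth.Agent.Lib.Helper1.Tor
  Groth.Agent.Lib.Helper1.DT Groth.Agent.Lib.Helper1.TensPerf Groth.Agent.Lib.Helper1.KBC
  Groth.Agent.Lib.Helper1.Restrict Groth.Agent.Lib.Helper1.LDer Groth.Agent.Lib.Helper1.TorO
  Groth.Agent.Lib.Helper1.RelPC Groth.Agent.Lib.Helper1.TorT Groth.Agent.Lib.Helper1.Sky
  Groth.Agent.Lib.Helper1.StalkTensor Groth.Agent.Lib.Helper1.Extend

attribute [local instance] stalkAlg

section Comm

variable {R A : Type u} [CommRing R] [CommRing A] (φ : R →+* A)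

/-- the stalk map of `Spec φ` is compatible with the maps from the rings -/
lemma toOx_comp_eq (x : Spec (CommRingCat.of A)) :
    (toOx (CommRingCat.of A) x).comp φ =
      ((Spec.map (CommRingCat.ofHom φ)).stalkMap x).hom.comp
        (toOx (CommRingCat.of R) ((Spec.map (CommRingCat.ofHom φ)) x)) := by
  have h1 := Scheme.ΓSpecIso_inv_naturality (CommRingCat.ofHom φ)
  have h2 := Scheme.Hom.germ_stalkMap (Spec.map (CommRingCat.ofHom φ)) ⊤ x trivial
  have h3 : CommRingCat.ofHom φ ≫ ((Scheme.ΓSpecIso (CommRingCat.of A)).inv ≫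
      (Spec (CommRingCat.of A)).presheaf.germ ⊤ x trivial) =
      ((Scheme.ΓSpecIso (CommRingCat.of R)).inv ≫
        (Spec (CommRingCat.of R)).presheaf.germ ⊤ _ trivial) ≫
          (Spec.map (CommRingCat.ofHom φ)).stalkMap x := by
    rw [Category.assoc, h2, ← Category.assoc, ← Category.assoc, h1]
    rfl
  exact congrArg CommRingCat.Hom.hom h3

end Comm

section Loc

variable {R S : Type u} [CommRing R] [CommRing S] [Algebra R S] (M : Submonoid R)
  [IsLocalization M S]

/-- `S ⊗_R N ≅ N` for an `S`-module `N` when `S` is a localization of `R` -/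
noncomputable def extResIso (N : ModuleCat.{u} S) :
    (ext R S).obj ((ModuleCat.restrictScalars.{u} (algebraMap R S)).obj N) ≅ N :=
  letI : Module S ↑((ModuleCat.restrictScalars.{u} (algebraMap R S)).obj N) :=
    inferInstanceAs (Module S N)
  haveI : IsScalarTower R S ↑((ModuleCat.restrictScalars.{u} (algebraMap R S)).obj N) :=
    ⟨fun r s n => by
      show (r • s) • (n : N) = algebraMap R S r • (s • (n : N))
      rw [Algebra.smul_def, mul_smul]⟩
  ((extEquiv (A := R) (B := S) ↑((ModuleCat.restrictScalars.{u} (algebraMap R S)).obj N)).trans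
    (IsLocalization.moduleLid M S
      ↑((ModuleCat.restrictScalars.{u} (algebraMap R S)).obj N))).toModuleIso

lemma extResIso_naturality {N N' : ModuleCat.{u} S} (g : N ⟶ N') :
    (ext R S).map ((ModuleCat.restrictScalars.{u} (algebraMap R S)).map g) ≫ (extResIso M N').hom =
      (extResIso M N).hom ≫ g := by
  apply ModuleCat.hom_ext
  apply LinearMap.ext
  intro x
  induction x using TensorProduct.induction_on with
  | zero => exact (map_zero _).trans (map_zero _).symm
  | tmul s n =>
    let s' : S := s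
    let n' : N := n
    show s' • g.hom n' = g.hom (s' • n')
    rw [map_smul]
  | add x y hx hy =>
    exact (map_add _ x y).trans ((congrArg₂ (· + ·) hx hy).trans (map_add _ x y).symm)

/-- `S ⊗_R W ≅ W` for a complex of `S`-modules when `S` is a localization of `R` -/
noncomputable def extResCxIso (W : DRing.Cx S) :
    (extCx R S).obj ((DRing.restrictCx (algebraMap R S)).obj W) ≅ W :=
  HomologicalComplex.Hom.isoOfComponents (fun i => extResIso M (W.X i))
    (fun i j _ => (extResIso_naturality M (W.d i j)).symm)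

include M in
/-- tor amplitude over `R` of a complex over a localization `S` of `R` is tor amplitude over `S` -/
theorem hasTorAmp_of_restrict_localization (W : DRing.Cx S) (a b : ℤ)
    (h : DRing.HasTorAmplitudeIn R a b (DRing.toD ((DRing.restrictCx (algebraMap R S)).obj W))) :
    DRing.HasTorAmplitudeIn S a b (DRing.toD W) := by
  haveI : Module.Flat R S := IsLocalization.flat S M
  have h1 := hasTorAmp_extD (A := R) (B := S) _ a b h
  exact hasTorAmp_of_iso (mapQIso (ext R S) _ ≪≫ Q.mapIso (extResCxIso M W)) h1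

end Loc

section LocalGlobal

variable {B : Type u} [CommRing B]

/-- exactness can be checked after tensoring with the local rings of `Spec B` at closed points -/
lemma exact_of_forall_lTensor_stalk {M N L : Type u} [AddCommGroup M] [Module B M]
    [AddCommGroup N] [Module B N] [AddCommGroup L] [Module B L] (F : M →ₗ[B] N) (G : N →ₗ[B] L)
    (H : ∀ (m : Ideal B) [m.IsMaximal], Function.Exact (F.lTensor (StalkTensor.Ox (ptOf B m)))
      (G.lTensor (StalkTensor.Ox (ptOf B m)))) :
    Function.Exact F G := by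
  refine exact_of_isLocalized_maximal
    (fun P _ => StalkTensor.Ox (ptOf B P) ⊗[B] M) (fun P _ => TensorProduct.mk B _ M 1)
    (fun P _ => StalkTensor.Ox (ptOf B P) ⊗[B] N) (fun P _ => TensorProduct.mk B _ N 1)
    (fun P _ => StalkTensor.Ox (ptOf B P) ⊗[B] L) (fun P _ => TensorProduct.mk B _ L 1) F G ?_
  intro J hJ
  have e1 : IsLocalizedModule.map J.primeCompl (TensorProduct.mk B (StalkTensor.Ox (ptOf B J)) M 1)
      (TensorProduct.mk B (StalkTensor.Ox (ptOf B J)) N 1) F = F.lTensor (StalkTensor.Ox (ptOf B J)) := by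
    apply IsLocalizedModule.linearMap_ext J.primeCompl
      (TensorProduct.mk B (StalkTensor.Ox (ptOf B J)) M 1)
      (TensorProduct.mk B (StalkTensor.Ox (ptOf B J)) N 1)
    ext x
    exact IsLocalizedModule.map_apply J.primeCompl
      (TensorProduct.mk B (StalkTensor.Ox (ptOf B J)) M 1)
      (TensorProduct.mk B (StalkTensor.Ox (ptOf B J)) N 1) F x
  have e2 : IsLocalizedModule.map J.primeCompl (TensorProduct.mk B (StalkTensor.Ox (ptOf B J)) N 1)
      (TensorProduct.mk B (StalkTensor.Ox (ptOf B J)) L 1) G = G.lTensor (StalkTensor.Ox (ptOf B J)) := by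
    apply IsLocalizedModule.linearMap_ext J.primeCompl
      (TensorProduct.mk B (StalkTensor.Ox (ptOf B J)) N 1)
      (TensorProduct.mk B (StalkTensor.Ox (ptOf B J)) L 1)
    ext x
    exact IsLocalizedModule.map_apply J.primeCompl
      (TensorProduct.mk B (StalkTensor.Ox (ptOf B J)) N 1)
      (TensorProduct.mk B (StalkTensor.Ox (ptOf B J)) L 1) G x
  rw [e1, e2]
  exact H J

/-- exactness of a complex can be checked after tensoring with the local rings of `Spec B` -/
lemma exactAt_of_forall_TC_stalk (W : Cx B) (i : ℤ)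
    (H : ∀ (m : Ideal B) [m.IsMaximal],
      ((TC (ModuleCat.of B (StalkTensor.Ox (ptOf B m)))).obj W).ExactAt i) : W.ExactAt i := by
  rw [exactAt_iff_fexact W (i - 1) i (i + 1) (by lia) rfl]
  apply exact_of_forall_lTensor_stalk
  intro m hm
  have h := H m
  rw [exactAt_TC_iff _ W (i - 1) i (i + 1) (by lia) rfl] at h
  exact h

end LocalGlobal

section Main

variable {R A : Type u} [CommRing R] [CommRing A] [Algebra R A]

/-- tor amplitude over `R` of a complex of `A`-modules can be checked on the stalks of `Spec A`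
over the stalks of `Spec R` -/
theorem hasTorAmp_restrict_of_forall_stalk (K : Cx A) (a b : ℤ)
    (h3 : ∀ x : Spec (CommRingCat.of A),
      DRing.HasTorAmplitudeIn
        (StalkTensor.Ox ((Spec.map (CommRingCat.ofHom (algebraMap R A))) x)) a b
        (DRing.toD ((DRing.restrictCx
          ((Spec.map (CommRingCat.ofHom (algebraMap R A))).stalkMap x).hom).obj
          ((bcCx (toOx (CommRingCat.of A) x)).obj K)))) :
    DRing.HasTorAmplitudeIn R a b (DRing.toD ((DRing.restrictCx (algebraMap R A)).obj K)) := by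
  apply hasTorAmp_restrict_of_forall_exactAt K a b
  intro N N' _ ν _ i hi
  set Mx := ((ext (algebraMap R A)).mapHomologicalComplex (ComplexShape.up ℤ)).obj N' with hMx
  apply exactAt_of_forall_TC_stalk
  intro m hm
  set x : Spec (CommRingCat.of A) := ptOf A m with hx
  set ψ : A →+* StalkTensor.Ox x := toOx (CommRingCat.of A) x with hψ
  set y := (Spec.map (CommRingCat.ofHom (algebraMap R A))) x with hy
  set α : R →+* StalkTensor.Ox y := toOx (CommRingCat.of R) y with hα
  set ℓ := ((Spec.map (CommRingCat.ofHom (algebraMap R A))).stalkMap x).hom with hℓ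
  set Km := (bcCx ψ).obj K with hKm
  have hαflat : α.Flat :=
    (RingHom.flat_algebraMap_iff (R := R) (S := StalkTensor.Ox y)).2 (flat_stalk R y)
  have hcomm : ψ.comp (algebraMap R A) = ℓ.comp α := toOx_comp_eq (algebraMap R A) x
  have hLm : DRing.HasTorAmplitudeIn R a b
      (Q.obj ((DRing.restrictCx (algebraMap R A)).obj ((DRing.restrictCx ψ).obj Km))) := by
    have h1 := hasTorAmp_restrictCx_of_flat α hαflat _ a b (h3 x)
    exact hasTorAmp_of_iso (Q.mapIso (restrictCxCompIso α ℓ Km ≪≫
      (restrictCxEqIso hcomm Km).symm ≪≫ (restrictCxCompIso (algebraMap R A) ψ Km).symm)) h1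
  have h1 := exactAt_tensor_ext_of_hasTorAmp ((DRing.restrictCx ψ).obj Km) a b hLm N N' ν i hi
  set T : ModuleCat.{u} A := (res ψ).obj (𝟙_ (ModuleCat.{u} (StalkTensor.Ox x))) with hT
  have h2 : ((sgl T ⊗ K) ⊗ Mx).ExactAt i :=
    (exactAt_of_iso (whiskerRightIso (resExtCxIso ψ K ≪≫ singleTensorIso T K) Mx) i).1 h1
  have h3' : (sgl T ⊗ (K ⊗ Mx)).ExactAt i := (exactAt_of_iso (α_ (sgl T) K Mx) i).1 h2
  have h4 : (TCx T (K ⊗ Mx)).ExactAt i := (exactAt_of_iso (singleTensorIso T (K ⊗ Mx)) i).2 h3'
  obtain ⟨eT⟩ := nonempty_resUnitIso (R := A) (S := StalkTensor.Ox x)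
  exact Groth.Agent.Lib.Helper1.TorM.exactAt_TC_of_iso eT (K ⊗ Mx) i h4

/-- tor amplitude over `R` passes to the stalks -/
theorem hasTorAmp_stalk_of_restrict (K : Cx A) (hK : KFlat K) (a b : ℤ)
    (h : DRing.HasTorAmplitudeIn R a b (DRing.toD ((DRing.restrictCx (algebraMap R A)).obj K)))
    (x : Spec (CommRingCat.of A)) :
    DRing.HasTorAmplitudeIn
        (StalkTensor.Ox ((Spec.map (CommRingCat.ofHom (algebraMap R A))) x)) a b
        (DRing.toD ((DRing.restrictCx
          ((Spec.map (CommRingCat.ofHom (algebraMap R A))).stalkMap x).hom).obj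
          ((bcCx (toOx (CommRingCat.of A) x)).obj K))) := by
  set ψ : A →+* StalkTensor.Ox x := toOx (CommRingCat.of A) x with hψ
  set y := (Spec.map (CommRingCat.ofHom (algebraMap R A))) x with hy
  set α : R →+* StalkTensor.Ox y := toOx (CommRingCat.of R) y with hα
  set ℓ := ((Spec.map (CommRingCat.ofHom (algebraMap R A))).stalkMap x).hom with hℓ
  set Km := (bcCx ψ).obj K with hKm
  have hcomm : ψ.comp (algebraMap R A) = ℓ.comp α := toOx_comp_eq (algebraMap R A) x
  have hψflat : ψ.Flat :=
    (RingHom.flat_algebraMap_iff (R := A) (S := StalkTensor.Ox x)).2 (flat_stalk A x)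
  have hB' : DRing.HasTorAmplitudeIn A (-((0 : ℕ) : ℤ)) 0
      ((DerivedCategory.singleFunctor (ModuleCat.{u} A) 0).obj (BoverA ψ)) := by
    haveI : Module.Flat A (BoverA ψ) := flat_restrictScalars_of_flat ψ hψflat (ModuleCat.of _ _)
    rw [Nat.cast_zero, neg_zero]
    exact hasTorAmp_single_of_flat (BoverA ψ)
  have h1 := hasTorAmp_restrict_ext (algebraMap R A) ψ 0 hB' K hK a b h
  rw [Nat.cast_zero, sub_zero] at h1
  have h2 : DRing.HasTorAmplitudeIn R a b
      (DRing.toD ((DRing.restrictCx α).obj ((DRing.restrictCx ℓ).obj Km))) :=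
    hasTorAmp_of_iso (Q.mapIso (restrictCxEqIso hcomm Km ≪≫ (restrictCxCompIso α ℓ Km).symm)) h1
  exact hasTorAmp_of_restrict_localization (R := R) (S := StalkTensor.Ox y)
    y.asIdeal.primeCompl _ a b h2

end Main

section Tilde

variable {R A : Type u} [CommRing R] [CommRing A]

/-- S7259 -/
theorem hasTorAmplitude_rel_tildeD_iff (φ : R →+* A)
    [PreservesFiniteLimits (tilde.functor (CommRingCat.of A))] (M : Dual.D A)
    (F : CochainComplex (Spec (CommRingCat.of A)).Modules ℤ)
    (hF : Nonempty (DCoh.toD (Spec (CommRingCat.of A)) F ≅ (DCoh.tildeD (CommRingCat.of A)).obj M))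
    (a b : ℤ) :
    DerSch.HasTorAmplitude (Spec.map (CommRingCat.ofHom φ)) a b F ↔
      DRing.HasTorAmplitudeIn R a b ((DRing.restrictD φ).obj M) := by
  letI : Algebra R A := φ.toAlgebra
  obtain ⟨eF⟩ := hF
  let C0 : DRing.Cx A := DerivedCategory.Q.objPreimage M
  let eC0 : DerivedCategory.Q.obj C0 ≅ M := DerivedCategory.Q.objObjPreimageIso M
  obtain ⟨C, π, hC, -, hπ, -⟩ := exists_kprojective_resolution C0
  have hπi : IsIso (Q.map π) := (DerivedCategory.isIso_Q_map_iff_quasiIso (φ := π)).2 hπ
  have eC : Q.obj C ≅ M := asIso (Q.map π) ≪≫ eC0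
  have hCK : KFlat C := kflat_of_isKProjective C
  have eT : (DCoh.tildeD (CommRingCat.of A)).obj M ≅
      DCoh.toD (Spec (CommRingCat.of A)) ((TCt (CommRingCat.of A)).obj C) :=
    (DCoh.tildeD (CommRingCat.of A)).mapIso eC.symm ≪≫ tildeDQIso (CommRingCat.of A) C
  have eR : (DRing.restrictD φ).obj M ≅ DRing.toD ((DRing.restrictCx φ).obj C) :=
    (DRing.restrictD φ).mapIso eC.symm ≪≫ restrictQIso φ C
  constructor
  · intro h
    have h' := hasTorAmplitude_of_iso (Spec.map (CommRingCat.ofHom φ)) (eF ≪≫ eT) a b h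
    refine hasTorAmp_of_iso eR.symm (hasTorAmp_restrict_of_forall_stalk (R := R) C a b (fun x => ?_))
    have hx := (hasTorAmplitudeAt_iff (Spec.map (CommRingCat.ofHom φ)) _ a b x).1 (h' x)
    exact hasTorAmp_of_iso (Q.mapIso ((DRing.restrictCx _).mapIso (stalkCTildeIso A x C))) hx
  · intro h
    refine hasTorAmplitude_of_iso (Spec.map (CommRingCat.ofHom φ)) (eF ≪≫ eT).symm a b ?_
    intro x
    rw [hasTorAmplitudeAt_iff]
    have hx := hasTorAmp_stalk_of_restrict (R := R) C hCK a b (hasTorAmp_of_iso eR h) x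
    exact hasTorAmp_of_iso (Q.mapIso ((DRing.restrictCx _).mapIso (stalkCTildeIso A x C).symm)) hx

end Tilde

end Groth.Agent.Lib.Helper1.TQ
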