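import Mathlib
import Groth.Agent.Lib.Helper1TQ17
import Groth.Agent.Lib.Helper1TQ16
import Groth.Agent.Lib.Helper1RelDescentA
import Groth.Agent.Lib.Helper1Fibres
set_option backward.isDefEq.respectTransparency.types false

/-!
# Tor amplitude and flat base change, ring level (helper1)
-/

set_option autoImplicit false
set_option linter.style.haveILetI false
set_option linter.unusedSectionVars false
set_option maxHeartbeats 400000
universe u
open CategoryTheory CategoryTheory.Limits MonoidalCategory HomologicalComplex TensorProduct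
attribute [local instance] HasDerivedCategory.standard

namespace Groth.Agent.Lib.Helper1.TorBC

open DerivedCategory Groth.Agent.Lib.Helper1.KF Groth.Agent.Lib.Helper1.Tor
  Groth.Agent.Lib.Helper1.DT Groth.Agent.Lib.Helper1.TensPerf Groth.Agent.Lib.Helper1.KBC
  Groth.Agent.Lib.Helper1.Restrict Groth.Agent.Lib.Helper1.LDer Groth.Agent.Lib.Helper1.TorO
  Groth.Agent.Lib.Helper1.RelPC Groth.Agent.Lib.Helper1.TorT Groth.Agent.Lib.Helper1.TQ
  Groth.Agent.Lib.Helper1.Extend Groth.Agent.Lib.Helper1.RelDescent Groth.Agent.Lib.Helper1.LocalCx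

section KFlatBC

variable {R R' : Type u} [CommRing R] [CommRing R'] (ψ : R →+* R')

/-- base change preserves K-flatness -/
lemma kflat_bcCx (K : Cx R) (hK : KFlat K) : KFlat ((bcCx ψ).obj K) := by
  intro L hL
  obtain ⟨e⟩ := nonempty_pfCxIso ψ L K
  have h1 : Acyc ((DRing.restrictCx ψ).obj L) := by
    intro i
    rw [← HomologicalComplex.exactAt_iff_isZero_homology, exactAt_restrict_iff]
    rw [HomologicalComplex.exactAt_iff_isZero_homology]
    exact hL i
  have h2 := hK _ h1
  intro i
  rw [← HomologicalComplex.exactAt_iff_isZero_homology, ← exactAt_restrict_iff ψ]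
  rw [HomologicalComplex.exactAt_iff_isZero_homology]
  exact (h2.of_iso e.symm) i

end KFlatBC

section Main

variable {A A' B B' Λ Λ' R R' : Type u} [CommRing A] [CommRing A'] [CommRing B] [CommRing B']
  [CommRing Λ] [CommRing Λ'] [CommRing R] [CommRing R']
  [Algebra A A'] [Algebra A B] [Algebra A' B'] [Algebra B B'] [Algebra A B']
  [IsScalarTower A A' B'] [IsScalarTower A B B'] [Algebra.IsPushout A A' B B']
  [Module.Flat A A']
  [Algebra A Λ] [Module.Flat A Λ]
  [Algebra A' Λ'] [Algebra B R] [Algebra B' R']

/-- flat base change of relative tor amplitude, for localizations of a pushout square of rings -/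
theorem hasTorAmp_bc_localization (SΛ' : Submonoid A') [IsLocalization SΛ' Λ']
    (SR : Submonoid B) [IsLocalization SR R] (SR' : Submonoid B') [IsLocalization SR' R']
    (hle : Algebra.algebraMapSubmonoid B' SR ≤ SR')
    (φ : Λ →+* R) (ψ : R →+* R') (φ' : Λ' →+* R')
    (h1 : φ.comp (algebraMap A Λ) = (algebraMap B R).comp (algebraMap A B))
    (h2 : ψ.comp (algebraMap B R) = (algebraMap B' R').comp (algebraMap B B'))
    (h3 : φ'.comp (algebraMap A' Λ') = (algebraMap B' R').comp (algebraMap A' B'))
    (K : Cx R) (hK : KFlat K) (a b : ℤ)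
    (h : DRing.HasTorAmplitudeIn Λ a b (DRing.toD ((DRing.restrictCx φ).obj K))) :
    DRing.HasTorAmplitudeIn Λ' a b
      (DRing.toD ((DRing.restrictCx φ').obj ((bcCx ψ).obj K))) := by
  -- the intermediate ring `T = B'[SR⁻¹]`
  let MT := Algebra.algebraMapSubmonoid B' SR
  let T := Localization MT
  letI aTR' : Algebra T R' := IsLocalization.localizationAlgebraOfSubmonoidLe T R' MT SR' hle
  haveI : IsScalarTower B' T R' :=
    IsLocalization.localization_isScalarTower_of_submonoid_le T R' MT SR' hle
  haveI : IsLocalization (SR'.map (algebraMap B' T)) R' :=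
    IsLocalization.isLocalization_of_submonoid_le T R' MT SR' hle
  haveI flTR' : Module.Flat T R' := IsLocalization.flat R' (SR'.map (algebraMap B' T))
  haveI : IsScalarTower B B' T := inferInstance
  haveI : IsScalarTower A B' T := inferInstance
  haveI : IsScalarTower A' B' T := inferInstance
  letI aRT : Algebra R T :=
    (IsLocalization.lift (M := SR) (S := R) (g := algebraMap B T) (fun y => by
      rw [IsScalarTower.algebraMap_apply B B' T]
      exact IsLocalization.map_units T (⟨algebraMap B B' y, ⟨y, y.2, rfl⟩⟩ : MT))).toAlgebra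
  haveI : IsScalarTower B R T := IsScalarTower.of_algebraMap_eq' (IsLocalization.lift_comp _).symm
  letI aAR : Algebra A R := ((algebraMap B R).comp (algebraMap A B)).toAlgebra
  haveI : IsScalarTower A B R := IsScalarTower.of_algebraMap_eq (fun _ => rfl)
  haveI : IsScalarTower A A' T := IsScalarTower.of_algebraMap_eq (fun x => by
    rw [IsScalarTower.algebraMap_apply A B' T, IsScalarTower.algebraMap_apply A' B' T,
      ← IsScalarTower.algebraMap_apply A A' B'])
  haveI : IsScalarTower A B T := IsScalarTower.of_algebraMap_eq (fun x => by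
    rw [IsScalarTower.algebraMap_apply A B' T, IsScalarTower.algebraMap_apply B B' T,
      ← IsScalarTower.algebraMap_apply A B B'])
  haveI : IsScalarTower A R T := IsScalarTower.of_algebraMap_eq (fun x => by
    rw [IsScalarTower.algebraMap_apply A B R, ← IsScalarTower.algebraMap_apply B R T,
      ← IsScalarTower.algebraMap_apply A B T])
  -- pushout squares
  have hp1 : Algebra.IsPushout B B' R T := Algebra.isPushout_of_isLocalization SR R B' T
  haveI hp0 : Algebra.IsPushout A B A' B' := Algebra.IsPushout.symm inferInstance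
  have hp2 : Algebra.IsPushout A R A' T := (Algebra.IsPushout.comp_iff A B A' B').2 hp1.symm
  haveI hp3 : Algebra.IsPushout A A' R T := hp2.symm
  haveI flRT : Module.Flat R T := Module.Flat.isBaseChange A R A' T hp2.out
  -- step 1: tor amplitude over `A`
  have hαflat : (algebraMap A Λ).Flat :=
    (RingHom.flat_algebraMap_iff (R := A) (S := Λ)).2 inferInstance
  have s1 := hasTorAmp_restrictCx_of_flat (algebraMap A Λ) hαflat _ a b h
  have hcomp1 : φ.comp (algebraMap A Λ) = algebraMap A R := h1
  have s1' : DRing.HasTorAmplitudeIn A a b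
      (DRing.toD ((DRing.restrictCx (algebraMap A R)).obj K)) :=
    hasTorAmp_of_iso (Q.mapIso (restrictCxCompIso (algebraMap A Λ) φ K ≪≫
      restrictCxEqIso hcomp1 K)) s1
  -- step 2: base change to `A'`
  have s2 := hasTorAmp_extD (A := A) (B := A') _ a b s1'
  have e2 : (extD A A').obj (DRing.toD ((DRing.restrictCx (algebraMap A R)).obj K)) ≅
      DRing.toD ((DRing.restrictCx (algebraMap A' T)).obj ((extCx R T).obj K)) :=
    (extD A A').mapIso (restrictQIso (algebraMap A R) K).symm ≪≫
      (bcIsoD A A' R T).app (Q.obj K) ≪≫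
      (DRing.restrictD (algebraMap A' T)).mapIso (mapQIso (ext R T) K) ≪≫
      restrictQIso (algebraMap A' T) _
  have s2' := hasTorAmp_of_iso e2 s2
  -- step 3: localize to `R'`
  have hμflat : (algebraMap T R').Flat :=
    (RingHom.flat_algebraMap_iff (R := T) (S := R')).2 flTR'
  have hB' : DRing.HasTorAmplitudeIn T (-((0 : ℕ) : ℤ)) 0
      ((DerivedCategory.singleFunctor (ModuleCat.{u} T) 0).obj (BoverA (algebraMap T R'))) := by
    haveI : Module.Flat T (BoverA (algebraMap T R')) :=
      flat_restrictScalars_of_flat _ hμflat (ModuleCat.of _ _)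
    rw [Nat.cast_zero, neg_zero]
    exact hasTorAmp_single_of_flat (BoverA (algebraMap T R'))
  have s3 := hasTorAmp_restrict_ext (algebraMap A' T) (algebraMap T R') 0 hB'
    ((bcCx (algebraMap R T)).obj K) (kflat_bcCx _ K hK) a b s2'
  rw [Nat.cast_zero, sub_zero] at s3
  -- step 4: identifications
  have hψ : (algebraMap T R').comp (algebraMap R T) = ψ := by
    apply IsLocalization.ringHom_ext SR
    rw [RingHom.comp_assoc, h2]
    ext x
    change algebraMap T R' (algebraMap R T (algebraMap B R x)) =
      algebraMap B' R' (algebraMap B B' x)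
    rw [← IsScalarTower.algebraMap_apply B R T, IsScalarTower.algebraMap_apply B B' T,
      ← IsScalarTower.algebraMap_apply B' T R']
  have hφ' : (algebraMap T R').comp (algebraMap A' T) = φ'.comp (algebraMap A' Λ') := by
    rw [h3]
    ext x
    change algebraMap T R' (algebraMap A' T x) = algebraMap B' R' (algebraMap A' B' x)
    rw [IsScalarTower.algebraMap_apply A' B' T, ← IsScalarTower.algebraMap_apply B' T R']
  have e4 : (DRing.restrictCx ((algebraMap T R').comp (algebraMap A' T))).obj
      ((bcCx (algebraMap T R')).obj ((bcCx (algebraMap R T)).obj K)) ≅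
      (DRing.restrictCx (algebraMap A' Λ')).obj ((DRing.restrictCx φ').obj ((bcCx ψ).obj K)) :=
    restrictCxEqIso hφ' _ ≪≫ (restrictCxCompIso (algebraMap A' Λ') φ' _).symm ≪≫
      (DRing.restrictCx (algebraMap A' Λ')).mapIso ((DRing.restrictCx φ').mapIso
        ((bcCxCompIso (algebraMap R T) (algebraMap T R') K).symm ≪≫ bcCxEqIso hψ K))
  have s4 := hasTorAmp_of_iso (Q.mapIso e4) s3
  exact hasTorAmp_of_restrict_localization (R := A') (S := Λ') SΛ' _ a b s4

end Main

end Groth.Agent.Lib.Helper1.TorBC
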