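import Mathlib
import Groth.Agent.Lib.Helper1TorBCA
import Groth.Agent.Lib.Helper2PullbackFlat
set_option backward.isDefEq.respectTransparency.types false

/-!
# Tor-independent base change, ring level (helper1)

Localizations of a pushout square of rings `A → A'`, `A → B`, `B' = A' ⊗_A B` (no flatness of
`A → A'`): base change of acyclic complexes which are K-flat over the base, and of modules flat
over the base.
-/

set_option autoImplicit false
set_option linter.style.haveILetI false
set_option linter.unusedSectionVars false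
set_option maxHeartbeats 400000
universe u
open CategoryTheory CategoryTheory.Limits MonoidalCategory HomologicalComplex TensorProduct
attribute [local instance] HasDerivedCategory.standard

namespace Groth.Agent.Lib.Helper1.TIBC

open DerivedCategory Groth.Agent.Lib.Helper1.KF Groth.Agent.Lib.Helper1.Tor
  Groth.Agent.Lib.Helper1.DT Groth.Agent.Lib.Helper1.TensPerf Groth.Agent.Lib.Helper1.KBC
  Groth.Agent.Lib.Helper1.Restrict Groth.Agent.Lib.Helper1.LDer Groth.Agent.Lib.Helper1.TorO
  Groth.Agent.Lib.Helper1.RelPC Groth.Agent.Lib.Helper1.TorT Groth.Agent.Lib.Helper1.TQ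
  Groth.Agent.Lib.Helper1.Extend Groth.Agent.Lib.Helper1.RelDescent Groth.Agent.Lib.Helper1.LocalCx
  Groth.Agent.Lib.Helper1.TorBC

section Basic

variable {R R' : Type u} [CommRing R] [CommRing R'] (ψ : R →+* R')

lemma acyc_iff_exactAt (K : Cx R) : Acyc K ↔ ∀ i : ℤ, K.ExactAt i :=
  forall_congr' fun i => (HomologicalComplex.exactAt_iff_isZero_homology K i).symm

/-- tensoring with an acyclic K-flat complex gives an acyclic complex -/
lemma acyc_tensor_of_kflat_acyc (X : Cx R) (hX : KFlat X) (hac : Acyc X) (L : Cx R) :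
    Acyc (L ⊗ X) := by
  obtain ⟨P, p, hP, -, hp, -⟩ := exists_kprojective_resolution L
  have hPK : KFlat P := kflat_of_isKProjective P
  have q1 : QuasiIso (p ▷ X) := quasiIso_whiskerRight_of_kflat p X hX
  have h1 : Acyc (P ⊗ X) := (KFlat.kflatL hPK) X hac
  rw [acyc_iff_exactAt] at h1 ⊢
  intro i
  exact (exactAt_of_quasiIso (p ▷ X) i).1 (h1 i)

/-- base change of an acyclic K-flat complex is acyclic -/
lemma acyc_bcCx_of_kflat_acyc (X : Cx R) (hX : KFlat X) (hac : Acyc X) :
    Acyc ((bcCx ψ).obj X) := by
  have h1 := acyc_tensor_of_kflat_acyc X hX hac (sgl ((res ψ).obj (𝟙_ (ModuleCat.{u} R'))))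
  have h2 : Acyc ((DRing.restrictCx ψ).obj ((bcCx ψ).obj X)) :=
    Acyc.of_iso ((singleTensorIso _ X).symm ≪≫ (resExtCxIso ψ X).symm) h1
  rw [acyc_iff_exactAt] at h2 ⊢
  intro i
  exact (exactAt_restrict_iff ψ _ i).1 (h2 i)

/-- restriction of scalars along a flat ring map preserves K-flatness -/
lemma kflat_restrictCx_of_flat (hψ : ψ.Flat) (K : Cx R') (hK : KFlat K) :
    KFlat ((DRing.restrictCx ψ).obj K) := by
  apply KFlatL.kflat
  intro L hL
  obtain ⟨e⟩ := nonempty_pfCxIso ψ K L
  have h1 : Acyc ((bcCx ψ).obj L) := by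
    rw [acyc_iff_exactAt] at hL ⊢
    exact fun i => exactAt_bc_of_flat_hom ψ hψ L i (hL i)
  have h2 : Acyc (K ⊗ (bcCx ψ).obj L) := (KFlat.kflatL hK) _ h1
  have h3 : Acyc ((DRing.restrictCx ψ).obj (K ⊗ (bcCx ψ).obj L)) := by
    rw [acyc_iff_exactAt] at h2 ⊢
    exact fun i => (exactAt_restrict_iff ψ _ i).2 (h2 i)
  exact Acyc.of_iso e h3

lemma KFlat.of_iso' {K K' : Cx R} (e : K ≅ K') (h : KFlat K) : KFlat K' :=
  KFlat.of_homotopyEquiv (HomotopyEquiv.ofIso e) h

end Basic


section FlatRes

variable {Λ T S : Type u} [CommRing Λ] [CommRing T] [CommRing S]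

/-- flatness over `Λ` transfers along isomorphisms in `ModuleCat Λ` -/
lemma flat_of_iso {X Y : ModuleCat.{u} Λ} (e : X ≅ Y) (h : Module.Flat Λ X) : Module.Flat Λ Y :=
  Module.Flat.of_linearEquiv e.symm.toLinearEquiv

/-- `S` flat over `T`, `N` a `T`-module flat over `Λ` ⇒ `S ⊗_T N` is flat over `Λ` -/
lemma flat_res_ext_of_flat (α : Λ →+* T) (μ : T →+* S) (hμ : μ.Flat) (N : ModuleCat.{u} T)
    (h : Module.Flat Λ ((ModuleCat.restrictScalars.{u} α).obj N)) :
    Module.Flat Λ ((ModuleCat.restrictScalars.{u} (μ.comp α)).obj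
      ((ModuleCat.extendScalars.{u, u, u} μ).obj N)) := by
  letI : Algebra Λ T := α.toAlgebra
  letI : Algebra T S := μ.toAlgebra
  letI : Algebra Λ S := (μ.comp α).toAlgebra
  haveI : IsScalarTower Λ T S := IsScalarTower.of_algebraMap_eq (fun _ => rfl)
  letI : Module Λ N := Module.compHom N α
  haveI : IsScalarTower Λ T N := IsScalarTower.of_algebraMap_smul (fun r m => rfl)
  haveI : Module.Flat T S := hμ
  haveI : Module.Flat Λ N := h
  have key : Module.Flat Λ (S ⊗[T] N) := Groth.Agent.Lib.Helper2.PullbackFlat.flat_tensor_of_flat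
  let e := bcEquiv μ N
  let e' : ((ModuleCat.restrictScalars.{u} (μ.comp α)).obj
      ((ModuleCat.extendScalars.{u, u, u} μ).obj N)) ≃ₗ[Λ] S ⊗[T] N :=
    AddEquiv.toLinearEquiv e.toAddEquiv (fun a x => by
      show e ((μ.comp α) a • (show (ModuleCat.extendScalars.{u, u, u} μ).obj N from x)) =
        a • e x
      rw [e.map_smul]
      rfl)
  exact Module.Flat.of_linearEquiv e'

end FlatRes


section Main

variable {A A' B B' Λ Λ' R R' : Type u} [CommRing A] [CommRing A'] [CommRing B] [CommRing B']
  [CommRing Λ] [CommRing Λ'] [CommRing R] [CommRing R']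
  [Algebra A A'] [Algebra A B] [Algebra A' B'] [Algebra B B'] [Algebra A B']
  [IsScalarTower A A' B'] [IsScalarTower A B B'] [Algebra.IsPushout A A' B B']
  [Algebra A Λ] [Module.Flat A Λ]
  [Algebra A' Λ'] [Algebra B R] [Algebra B' R']

/-- complex level form of the base change isomorphism in a pushout square -/
noncomputable def bcCxIso' {P P' B B' : Type u} [CommRing P] [CommRing P'] [CommRing B]
    [CommRing B'] [Algebra P P'] [Algebra P B] [Algebra P' B'] [Algebra B B'] [Algebra P B']
    [IsScalarTower P P' B'] [IsScalarTower P B B'] [Algebra.IsPushout P P' B B'] (C : Cx B) :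
    (bcCx (algebraMap P P')).obj ((DRing.restrictCx (algebraMap P B)).obj C) ≅
      (DRing.restrictCx (algebraMap P' B')).obj ((bcCx (algebraMap B B')).obj C) :=
  HomologicalComplex.Hom.isoOfComponents
    (fun i => (bcIso (P := P) (P' := P') (B := B) (B' := B')).app (C.X i))
    (fun i j _ => ((bcIso (P := P) (P' := P') (B := B) (B' := B')).hom.naturality (C.d i j)).symm)

/-- Tor-independent base change for localizations of a pushout square of rings: acyclic complexes
K-flat over the base stay acyclic, and modules flat over the base stay flat over the new base -/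
theorem bc_localization (SΛ' : Submonoid A') [IsLocalization SΛ' Λ']
    (SR : Submonoid B) [IsLocalization SR R] (SR' : Submonoid B') [IsLocalization SR' R']
    (hle : Algebra.algebraMapSubmonoid B' SR ≤ SR')
    (φ : Λ →+* R) (ψ : R →+* R') (φ' : Λ' →+* R')
    (h1 : φ.comp (algebraMap A Λ) = (algebraMap B R).comp (algebraMap A B))
    (h2 : ψ.comp (algebraMap B R) = (algebraMap B' R').comp (algebraMap B B'))
    (h3 : φ'.comp (algebraMap A' Λ') = (algebraMap B' R').comp (algebraMap A' B')) :
    (∀ C : Cx R, Acyc C → KFlat ((DRing.restrictCx φ).obj C) → Acyc ((bcCx ψ).obj C)) ∧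
    (∀ M : ModuleCat.{u} R, Module.Flat Λ ((ModuleCat.restrictScalars.{u} φ).obj M) →
      Module.Flat Λ' ((ModuleCat.restrictScalars.{u} φ').obj
        ((ModuleCat.extendScalars.{u, u, u} ψ).obj M))) := by
  -- the intermediate ring `T = B'[SR⁻¹]`
  let MT := Algebra.algebraMapSubmonoid B' SR
  let T := Localization MT
  letI aTR' : Algebra T R' := IsLocalization.localizationAlgebraOfSubmonoidLe T R' MT SR' hle
  haveI : IsScalarTower B' T R' :=
    IsLocalization.localization_isScalarTower_of_submonoid_le T R' MT SR' hle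
  haveI : IsLocalization (SR'.map (algebraMap B' T)) R' :=
    IsLocalization.isLocalization_of_submonoid_le T R' MT SR' hle
  haveI flTR' : Module.Flat T R' := IsLocalization.flat R' (SR'.map (algebraMap B' T))
  haveI : IsScalarTower B B' T := inferInstance
  haveI : IsScalarTower A B' T := inferInstance
  haveI : IsScalarTower A' B' T := inferInstance
  letI aRT : Algebra R T :=
    (IsLocalization.lift (M := SR) (S := R) (g := algebraMap B T) (fun y => by
      rw [IsScalarTower.algebraMap_apply B B' T]
      exact IsLocalization.map_units T (⟨algebraMap B B' y, ⟨y, y.2, rfl⟩⟩ : MT))).toAlgebra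
  haveI : IsScalarTower B R T := IsScalarTower.of_algebraMap_eq' (IsLocalization.lift_comp _).symm
  letI aAR : Algebra A R := ((algebraMap B R).comp (algebraMap A B)).toAlgebra
  haveI : IsScalarTower A B R := IsScalarTower.of_algebraMap_eq (fun _ => rfl)
  haveI : IsScalarTower A A' T := IsScalarTower.of_algebraMap_eq (fun x => by
    rw [IsScalarTower.algebraMap_apply A B' T, IsScalarTower.algebraMap_apply A' B' T,
      ← IsScalarTower.algebraMap_apply A A' B'])
  haveI : IsScalarTower A B T := IsScalarTower.of_algebraMap_eq (fun x => by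
    rw [IsScalarTower.algebraMap_apply A B' T, IsScalarTower.algebraMap_apply B B' T,
      ← IsScalarTower.algebraMap_apply A B B'])
  haveI : IsScalarTower A R T := IsScalarTower.of_algebraMap_eq (fun x => by
    rw [IsScalarTower.algebraMap_apply A B R, ← IsScalarTower.algebraMap_apply B R T,
      ← IsScalarTower.algebraMap_apply A B T])
  -- pushout squares
  have hp1 : Algebra.IsPushout B B' R T := Algebra.isPushout_of_isLocalization SR R B' T
  haveI hp0 : Algebra.IsPushout A B A' B' := Algebra.IsPushout.symm inferInstance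
  have hp2 : Algebra.IsPushout A R A' T := (Algebra.IsPushout.comp_iff A B A' B').2 hp1.symm
  haveI hp3 : Algebra.IsPushout A A' R T := hp2.symm
  have hαflat : (algebraMap A Λ).Flat :=
    (RingHom.flat_algebraMap_iff (R := A) (S := Λ)).2 inferInstance
  have hcomp1 : φ.comp (algebraMap A Λ) = algebraMap A R := h1
  have hμflat : (algebraMap T R').Flat :=
    (RingHom.flat_algebraMap_iff (R := T) (S := R')).2 flTR'
  have hψ : (algebraMap T R').comp (algebraMap R T) = ψ := by
    apply IsLocalization.ringHom_ext SR
    rw [RingHom.comp_assoc, h2]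
    ext x
    change algebraMap T R' (algebraMap R T (algebraMap B R x)) =
      algebraMap B' R' (algebraMap B B' x)
    rw [← IsScalarTower.algebraMap_apply B R T, IsScalarTower.algebraMap_apply B B' T,
      ← IsScalarTower.algebraMap_apply B' T R']
  have hφ' : (algebraMap T R').comp (algebraMap A' T) = φ'.comp (algebraMap A' Λ') := by
    rw [h3]
    ext x
    change algebraMap T R' (algebraMap A' T x) = algebraMap B' R' (algebraMap A' B' x)
    rw [IsScalarTower.algebraMap_apply A' B' T, ← IsScalarTower.algebraMap_apply B' T R']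
  constructor
  · intro C hC hCK
    -- `C` restricted to `A` is acyclic and K-flat
    have s1 := kflat_restrictCx_of_flat (algebraMap A Λ) hαflat _ hCK
    have s1' : KFlat ((DRing.restrictCx (algebraMap A R)).obj C) :=
      KFlat.of_iso' (restrictCxCompIso (algebraMap A Λ) φ C ≪≫ restrictCxEqIso hcomp1 C) s1
    have s2 : Acyc ((DRing.restrictCx (algebraMap A R)).obj C) := by
      rw [acyc_iff_exactAt] at hC ⊢
      exact fun i => (exactAt_restrict_iff _ _ i).2 (hC i)
    have s3 := acyc_bcCx_of_kflat_acyc (algebraMap A A') _ s1' s2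
    have s4 : Acyc ((DRing.restrictCx (algebraMap A' T)).obj ((bcCx (algebraMap R T)).obj C)) :=
      Acyc.of_iso (bcCxIso' (P := A) (P' := A') (B := R) (B' := T) C) s3
    have s5 : Acyc ((bcCx (algebraMap R T)).obj C) := by
      rw [acyc_iff_exactAt] at s4 ⊢
      exact fun i => (exactAt_restrict_iff _ _ i).1 (s4 i)
    have s6 : Acyc ((bcCx (algebraMap T R')).obj ((bcCx (algebraMap R T)).obj C)) := by
      rw [acyc_iff_exactAt] at s5 ⊢
      exact fun i => exactAt_bc_of_flat_hom _ hμflat _ i (s5 i)
    exact Acyc.of_iso ((bcCxCompIso (algebraMap R T) (algebraMap T R') C).symm ≪≫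
      bcCxEqIso hψ C) s6
  · intro M hM
    -- `M` restricted to `A` is flat
    haveI : Module.Flat Λ ((ModuleCat.restrictScalars.{u} φ).obj M) := hM
    have t1 : Module.Flat A ((ModuleCat.restrictScalars.{u} (algebraMap A Λ)).obj
        ((ModuleCat.restrictScalars.{u} φ).obj M)) :=
      flat_restrictScalars_of_flat _ hαflat _
    have t1' : Module.Flat A ((ModuleCat.restrictScalars.{u} (algebraMap A R)).obj M) := by
      rw [← hcomp1]
      exact t1
    haveI := t1'
    have t2 : Module.Flat A' ((ModuleCat.extendScalars.{u, u, u} (algebraMap A A')).obj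
        ((ModuleCat.restrictScalars.{u} (algebraMap A R)).obj M)) := flat_bc _ _
    have t3 : Module.Flat A' ((ModuleCat.restrictScalars.{u} (algebraMap A' T)).obj
        ((ModuleCat.extendScalars.{u, u, u} (algebraMap R T)).obj M)) :=
      flat_of_iso ((bcIso (P := A) (P' := A') (B := R) (B' := T)).app M) t2
    have t4 := flat_res_ext_of_flat (algebraMap A' T) (algebraMap T R') hμflat _ t3
    have e5 : (ModuleCat.extendScalars.{u, u, u} (algebraMap T R')).obj
        ((ModuleCat.extendScalars.{u, u, u} (algebraMap R T)).obj M) ≅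
        (ModuleCat.extendScalars.{u, u, u} ψ).obj M :=
      ((ModuleCat.extendScalarsComp (algebraMap R T) (algebraMap T R')).app M).symm ≪≫
        eqToIso (by rw [hψ])
    have t5 : Module.Flat A' ((ModuleCat.restrictScalars.{u}
        ((algebraMap T R').comp (algebraMap A' T))).obj
          ((ModuleCat.extendScalars.{u, u, u} ψ).obj M)) :=
      flat_of_iso ((ModuleCat.restrictScalars.{u} _).mapIso e5) t4
    rw [hφ'] at t5
    -- from `A'` to its localization `Λ'`
    set Y := (ModuleCat.restrictScalars.{u} φ').obj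
      ((ModuleCat.extendScalars.{u, u, u} ψ).obj M) with hY
    letI : Module A' Y := Module.compHom Y (algebraMap A' Λ')
    haveI : IsScalarTower A' Λ' Y := IsScalarTower.of_algebraMap_smul (fun r m => rfl)
    have t6 : Module.Flat A' Y := t5
    exact (Module.flat_iff_of_isLocalization (S := Λ') (p := SΛ') Y).2 t6

end Main

end Groth.Agent.Lib.Helper1.TIBC
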