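import Mathlib
/-!
# Flatness of localizations of a pushout (helper2)

* `flat_localization_of_isPushout`: `B' = A' ⊗[A] B`, `A → A'_{p'}` flat ⇒ `B → B'_{q'}` flat for `q'` over `p'`.
-/
set_option autoImplicit false
universe u
open TensorProduct

namespace Groth.Agent.Lib.Helper2.PullbackFlat

/-- In a pushout square `B' = A' ⊗[A] B`, if the localization `Λ'` of `A'` at a prime `p'` is flat
over `A`, then the localization of `B'` at any prime `q'` above `p'` is flat over `B`. -/
theorem flat_localization_of_isPushout
    {A A' B B' : Type u} [CommRing A] [CommRing A'] [CommRing B] [CommRing B']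
    [Algebra A A'] [Algebra A B] [Algebra A' B'] [Algebra B B'] [Algebra A B']
    [IsScalarTower A A' B'] [IsScalarTower A B B'] [Algebra.IsPushout A A' B B']
    (p' : Ideal A') [p'.IsPrime] (q' : Ideal B') [q'.IsPrime]
    (hle : Algebra.algebraMapSubmonoid B' p'.primeCompl ≤ q'.primeCompl)
    (Λ' : Type u) [CommRing Λ'] [Algebra A' Λ'] [IsLocalization.AtPrime Λ' p'] [Algebra A Λ']
    [IsScalarTower A A' Λ']
    (R' : Type u) [CommRing R'] [Algebra B' R'] [IsLocalization.AtPrime R' q'] [Algebra B R']
    [IsScalarTower B B' R']
    [Module.Flat A Λ'] : Module.Flat B R' := by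
  let T := Algebra.algebraMapSubmonoid B' p'.primeCompl
  let L := Localization T
  letI aLR' : Algebra L R' := IsLocalization.localizationAlgebraOfSubmonoidLe L R' T q'.primeCompl hle
  haveI : IsScalarTower B' L R' :=
    IsLocalization.localization_isScalarTower_of_submonoid_le L R' T q'.primeCompl hle
  haveI : IsLocalization (q'.primeCompl.map (algebraMap B' L)) R' :=
    IsLocalization.isLocalization_of_submonoid_le L R' T q'.primeCompl hle
  haveI : Module.Flat L R' := IsLocalization.flat R' (q'.primeCompl.map (algebraMap B' L))
  haveI : IsScalarTower A' B' L := inferInstance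
  haveI : IsScalarTower A B' L := inferInstance
  haveI : IsScalarTower B B' L := inferInstance
  haveI : IsScalarTower A B L := IsScalarTower.of_algebraMap_eq (fun a => by
    rw [IsScalarTower.algebraMap_apply A B' L, IsScalarTower.algebraMap_apply B B' L,
      ← IsScalarTower.algebraMap_apply A B B'])
  haveI : IsScalarTower A A' L := IsScalarTower.of_algebraMap_eq (fun a => by
    rw [IsScalarTower.algebraMap_apply A B' L, IsScalarTower.algebraMap_apply A' B' L,
      ← IsScalarTower.algebraMap_apply A A' B'])
  letI aΛ'L : Algebra Λ' L :=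
    (IsLocalization.lift (M := p'.primeCompl) (S := Λ') (g := algebraMap A' L) (fun y => by
      rw [IsScalarTower.algebraMap_apply A' B' L]
      exact IsLocalization.map_units L (⟨algebraMap A' B' y, ⟨y, y.2, rfl⟩⟩ : T))).toAlgebra
  haveI : IsScalarTower A' Λ' L :=
    IsScalarTower.of_algebraMap_eq' (IsLocalization.lift_comp _).symm
  haveI : IsScalarTower A Λ' L := IsScalarTower.of_algebraMap_eq (fun a => by
    rw [IsScalarTower.algebraMap_apply A A' L, IsScalarTower.algebraMap_apply A A' Λ',
      ← IsScalarTower.algebraMap_apply A' Λ' L])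
  have h1 : Algebra.IsPushout A' B' Λ' L :=
    Algebra.isPushout_of_isLocalization p'.primeCompl Λ' B' L
  have h2 : Algebra.IsPushout A' Λ' B' L := h1.symm
  have h3 : Algebra.IsPushout A Λ' B L := (Algebra.IsPushout.comp_iff A A' B B').2 h2
  have h4 : Algebra.IsPushout A B Λ' L := h3.symm
  haveI : Module.Flat B L := Module.Flat.isBaseChange A B Λ' L h4.out
  haveI : IsScalarTower B L R' := IsScalarTower.of_algebraMap_eq (fun b => by
    rw [IsScalarTower.algebraMap_apply B B' R', IsScalarTower.algebraMap_apply B B' L,
      ← IsScalarTower.algebraMap_apply B' L R'])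
  exact Module.Flat.trans B L R'

end Groth.Agent.Lib.Helper2.PullbackFlat
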