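import Mathlib
import Groth.Agent.Lib.Helper2PullbackSec3
import Groth.Agent.Lib.Helper2PullbackFlat2
/-!
# Descent of flatness over a base along a flat base change (helper2)

* `isFlatOverAt_of_pullback_of_isPullback`: cartesian square, `g` flat at `f' x'`, `g'^*F` flat over `S'` at `x'`
  ⇒ `F` flat over `S` at `g' x'`.
-/
set_option autoImplicit false
universe u
open CategoryTheory Limits AlgebraicGeometry TopologicalSpace Opposite TensorProduct

namespace Groth.Agent.Lib.Helper2.PullbackSec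

open Groth.Agent.Lib.Helper2.FlatOver Groth.Agent.Lib.Helper2.PullbackFlat

section cartesian
variable {X S X' S' : Scheme.{u}} {f : X ⟶ S} {f' : X' ⟶ S'} {g' : X' ⟶ X} {g : S' ⟶ S}

/-- **Descent of flatness along a flat base change**: in a cartesian square, if `g` is flat at
`f' x'` and `g'^* F` is flat over `S'` at `x'`, then `F` is flat over `S` at `g' x'`. -/
theorem isFlatOverAt_of_pullback_of_isPullback (hc : IsPullback g' f' f g) (F : X.Modules)
    [F.IsQuasicoherent] (x' : X') (hg : (g.stalkMap (f'.base x')).hom.Flat)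
    (h : FlatMod.IsFlatOverAt f' ((Scheme.Modules.pullback g').obj F) x') :
    FlatMod.IsFlatOverAt f F (g'.base x') := by
  set H := (Scheme.Modules.pullback g').obj F with hH
  haveI : H.IsQuasicoherent := isQuasicoherent_pullback g' F
  -- affine opens
  have hw : g.base (f'.base x') = f.base (g'.base x') := by
    have := congrArg (fun φ => φ.base x') hc.w
    simpa using this.symm
  obtain ⟨U, V, hU, hV, hxU, eU⟩ := exists_affine_nhds f (g'.base x')
  obtain ⟨V', hV', hsV', eV'⟩ : ∃ V' : S'.Opens, IsAffineOpen V' ∧ f'.base x' ∈ V' ∧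
      V' ≤ g ⁻¹ᵁ V := by
    have hmem : f'.base x' ∈ g ⁻¹ᵁ V := by
      change g.base (f'.base x') ∈ V
      rw [hw]; exact eU hxU
    obtain ⟨W, hW⟩ := (S'.isBasis_affineOpens).exists_subset_of_mem_open hmem (g ⁻¹ᵁ V).isOpen
    obtain ⟨⟨V', hV', rfl⟩, hxV', hle⟩ := hW
    exact ⟨V', hV', hxV', hle⟩
  set U' : X'.Opens := g' ⁻¹ᵁ U ⊓ f' ⁻¹ᵁ V' with hU'def
  have hU' : IsAffineOpen U' := isAffineOpen_inf_preimage hc eV' eU hV hV' hU
  have e1 : U' ≤ g' ⁻¹ᵁ U := inf_le_left
  have e2 : U' ≤ f' ⁻¹ᵁ V' := inf_le_right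
  have hx' : x' ∈ U' := ⟨hxU, hsV'⟩
  rw [isFlatOverAt_iff_flat_base f F hV (g'.base x') (eU hxU)]
  -- ring structures
  letI aAB : Algebra Γ(S, V) Γ(X, U) := (f.appLE V U eU).hom.toAlgebra
  letI aAA' : Algebra Γ(S, V) Γ(S', V') := (g.appLE V V' eV').hom.toAlgebra
  letI aBB' : Algebra Γ(X, U) Γ(X', U') := (g'.appLE U U' e1).hom.toAlgebra
  letI aA'B' : Algebra Γ(S', V') Γ(X', U') := (f'.appLE V' U' e2).hom.toAlgebra
  letI aAB' : Algebra Γ(S, V) Γ(X', U') :=
    ((g'.appLE U U' e1).hom.comp (f.appLE V U eU).hom).toAlgebra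
  haveI tABB' : IsScalarTower Γ(S, V) Γ(X, U) Γ(X', U') :=
    IsScalarTower.of_algebraMap_eq (fun a => rfl)
  have hsq : ∀ a : Γ(S, V), (g'.appLE U U' e1).hom ((f.appLE V U eU).hom a) =
      (f'.appLE V' U' e2).hom ((g.appLE V V' eV').hom a) := by
    intro a
    have h1 := Scheme.Hom.appLE_comp_appLE g' f V U U' eU e1
    have h2 := Scheme.Hom.appLE_comp_appLE f' g V V' U' eV' e2
    have h3 : (f.appLE V U eU ≫ g'.appLE U U' e1) = (g.appLE V V' eV' ≫ f'.appLE V' U' e2) := by
      rw [h1, h2]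
      congr 1
      exact hc.w
    exact congrArg (fun φ => φ.hom a) h3
  haveI tAA'B' : IsScalarTower Γ(S, V) Γ(S', V') Γ(X', U') :=
    IsScalarTower.of_algebraMap_eq (fun a => hsq a)
  haveI hPO : Algebra.IsPushout Γ(S, V) Γ(S', V') Γ(X, U) Γ(X', U') :=
    algebra_isPushout hc eV' eU hV hV' hU e1 e2
  -- stalk rings upstairs
  letI aBR : Algebra Γ(X, U) (X.presheaf.stalk (g'.base x')) :=
    X.presheaf.algebra_section_stalk ⟨g'.base x', hxU⟩
  letI aB'R' : Algebra Γ(X', U') (X'.presheaf.stalk x') :=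
    X'.presheaf.algebra_section_stalk ⟨x', hx'⟩
  letI aRR' : Algebra (X.presheaf.stalk (g'.base x')) (X'.presheaf.stalk x') :=
    (g'.stalkMap x').hom.toAlgebra
  letI aBR' : Algebra Γ(X, U) (X'.presheaf.stalk x') :=
    ((X'.presheaf.germ U' x' hx').hom.comp (g'.appLE U U' e1).hom).toAlgebra
  haveI tBB'R' : IsScalarTower Γ(X, U) Γ(X', U') (X'.presheaf.stalk x') :=
    IsScalarTower.of_algebraMap_eq (fun a => rfl)
  haveI tBRR' : IsScalarTower Γ(X, U) (X.presheaf.stalk (g'.base x')) (X'.presheaf.stalk x') :=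
    IsScalarTower.of_algebraMap_eq (fun b => (stalkMap_germ_eq g' e1 x' hx' b).symm)
  haveI lR := hU.isLocalization_stalk ⟨g'.base x', hxU⟩
  haveI lR' := hU'.isLocalization_stalk ⟨x', hx'⟩
  -- stalk rings downstairs
  letI aA'Λ' : Algebra Γ(S', V') (S'.presheaf.stalk (f'.base x')) :=
    S'.presheaf.algebra_section_stalk ⟨f'.base x', hsV'⟩
  letI aAΛ₁ : Algebra Γ(S, V) (S.presheaf.stalk (g.base (f'.base x'))) :=
    S.presheaf.algebra_section_stalk ⟨g.base (f'.base x'), eV' hsV'⟩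
  letI aΛ₁Λ' : Algebra (S.presheaf.stalk (g.base (f'.base x'))) (S'.presheaf.stalk (f'.base x')) :=
    (g.stalkMap (f'.base x')).hom.toAlgebra
  letI aAΛ' : Algebra Γ(S, V) (S'.presheaf.stalk (f'.base x')) :=
    ((S'.presheaf.germ V' (f'.base x') hsV').hom.comp (g.appLE V V' eV').hom).toAlgebra
  haveI tAA'Λ' : IsScalarTower Γ(S, V) Γ(S', V') (S'.presheaf.stalk (f'.base x')) :=
    IsScalarTower.of_algebraMap_eq (fun a => rfl)
  haveI tAΛ₁Λ' : IsScalarTower Γ(S, V) (S.presheaf.stalk (g.base (f'.base x')))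
      (S'.presheaf.stalk (f'.base x')) :=
    IsScalarTower.of_algebraMap_eq (fun a => (stalkMap_germ_eq g eV' (f'.base x') hsV' a).symm)
  haveI lΛ₁ := hV.isLocalization_stalk ⟨g.base (f'.base x'), eV' hsV'⟩
  haveI lΛ' := hV'.isLocalization_stalk ⟨f'.base x', hsV'⟩
  haveI flΛ₁ : Module.Flat Γ(S, V) (S.presheaf.stalk (g.base (f'.base x'))) :=
    IsLocalization.flat _ (hV.primeIdealOf ⟨g.base (f'.base x'), eV' hsV'⟩).asIdeal.primeCompl
  haveI flΛ₁Λ' : Module.Flat (S.presheaf.stalk (g.base (f'.base x')))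
      (S'.presheaf.stalk (f'.base x')) := hg
  haveI flΛ' : Module.Flat Γ(S, V) (S'.presheaf.stalk (f'.base x')) :=
    Module.Flat.trans Γ(S, V) (S.presheaf.stalk (g.base (f'.base x'))) (S'.presheaf.stalk (f'.base x'))
  -- flatness of R' over B and over R
  have hle : Algebra.algebraMapSubmonoid Γ(X', U')
      (hV'.primeIdealOf ⟨f'.base x', hsV'⟩).asIdeal.primeCompl ≤
      (hU'.primeIdealOf ⟨x', hx'⟩).asIdeal.primeCompl := by
    rintro _ ⟨a, ha, rfl⟩
    have h1 : IsUnit (algebraMap Γ(S', V') (S'.presheaf.stalk (f'.base x')) a) :=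
      (IsLocalization.AtPrime.isUnit_to_map_iff _
        (hV'.primeIdealOf ⟨f'.base x', hsV'⟩).asIdeal a).2 ha
    have h2 : IsUnit ((f'.stalkMap x').hom
        (algebraMap Γ(S', V') (S'.presheaf.stalk (f'.base x')) a)) := h1.map _
    have h3 : (f'.stalkMap x').hom (algebraMap Γ(S', V') (S'.presheaf.stalk (f'.base x')) a) =
        algebraMap Γ(X', U') (X'.presheaf.stalk x') (algebraMap Γ(S', V') Γ(X', U') a) :=
      stalkMap_germ_eq f' e2 x' hx' a
    rw [h3] at h2
    exact (IsLocalization.AtPrime.isUnit_to_map_iff _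
      (hU'.primeIdealOf ⟨x', hx'⟩).asIdeal _).1 h2
  haveI flBR' : Module.Flat Γ(X, U) (X'.presheaf.stalk x') :=
    flat_localization_of_isPushout (A := Γ(S, V)) (A' := Γ(S', V')) (B := Γ(X, U))
      (B' := Γ(X', U')) (hV'.primeIdealOf ⟨f'.base x', hsV'⟩).asIdeal
      (hU'.primeIdealOf ⟨x', hx'⟩).asIdeal hle (S'.presheaf.stalk (f'.base x'))
      (X'.presheaf.stalk x')
  haveI flRR' : Module.Flat (X.presheaf.stalk (g'.base x')) (X'.presheaf.stalk x') :=
    (Module.flat_iff_of_isLocalization (X.presheaf.stalk (g'.base x'))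
      (hU.primeIdealOf ⟨g'.base x', hxU⟩).asIdeal.primeCompl (X'.presheaf.stalk x')).2 flBR'
  haveI : IsLocalHom (algebraMap (X.presheaf.stalk (g'.base x')) (X'.presheaf.stalk x')) :=
    inferInstanceAs (IsLocalHom (g'.stalkMap x').hom)
  haveI ffRR' : Module.FaithfullyFlat (X.presheaf.stalk (g'.base x')) (X'.presheaf.stalk x') :=
    Module.FaithfullyFlat.of_flat_of_isLocalHom
  -- algebra structures of A on R, R'
  letI aAR : Algebra Γ(S, V) (X.presheaf.stalk (g'.base x')) :=
    ((X.presheaf.germ U (g'.base x') hxU).hom.comp (f.appLE V U eU).hom).toAlgebra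
  letI aAR' : Algebra Γ(S, V) (X'.presheaf.stalk x') :=
    ((g'.stalkMap x').hom.comp
      ((X.presheaf.germ U (g'.base x') hxU).hom.comp (f.appLE V U eU).hom)).toAlgebra
  haveI tARR' : IsScalarTower Γ(S, V) (X.presheaf.stalk (g'.base x')) (X'.presheaf.stalk x') :=
    IsScalarTower.of_algebraMap_eq (fun a => rfl)
  -- the module P = F_x
  letI mAP : Module Γ(S, V) (F.presheaf.stalk (g'.base x')) :=
    moduleStalkBase f F V (g'.base x') (eU hxU)
  haveI tARP : IsScalarTower Γ(S, V) (X.presheaf.stalk (g'.base x'))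
      (F.presheaf.stalk (g'.base x')) := by
    refine IsScalarTower.of_algebraMap_smul (fun a n => ?_)
    change (X.presheaf.germ U (g'.base x') hxU) ((f.appLE V U eU).hom a) • n =
      (f.stalkMap (g'.base x')).hom (S.presheaf.germ V (f.base (g'.base x')) (eU hxU) a) • n
    rw [stalkMap_germ_eq f eU (g'.base x') hxU a]
  -- the module Q = H_x'
  letI mRQ : Module (X.presheaf.stalk (g'.base x')) (H.presheaf.stalk x') :=
    FlatMod.moduleStalkOver g' H x'
  letI mΛ'Q : Module (S'.presheaf.stalk (f'.base x')) (H.presheaf.stalk x') :=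
    FlatMod.moduleStalkOver f' H x'
  letI mAQ : Module Γ(S, V) (H.presheaf.stalk x') :=
    Module.compHom _ (algebraMap Γ(S, V) (X'.presheaf.stalk x'))
  haveI q2 : IsScalarTower (X.presheaf.stalk (g'.base x')) (X'.presheaf.stalk x')
      (H.presheaf.stalk x') :=
    IsScalarTower.of_algebraMap_smul (fun b n => rfl)
  haveI q3 : IsScalarTower Γ(S, V) (X'.presheaf.stalk x') (H.presheaf.stalk x') :=
    IsScalarTower.of_algebraMap_smul (fun b n => rfl)
  haveI q4 : IsScalarTower Γ(S, V) (S'.presheaf.stalk (f'.base x')) (H.presheaf.stalk x') := by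
    refine IsScalarTower.of_algebraMap_smul (fun a n => ?_)
    change (f'.stalkMap x').hom ((S'.presheaf.germ V' (f'.base x') hsV')
        ((g.appLE V V' eV').hom a)) • n =
      (g'.stalkMap x').hom ((X.presheaf.germ U (g'.base x') hxU) ((f.appLE V U eU).hom a)) • n
    rw [stalkMap_germ_eq f' e2 x' hx', stalkMap_germ_eq g' e1 x' hx', hsq a]
  haveI flQ' : Module.Flat (S'.presheaf.stalk (f'.base x')) (H.presheaf.stalk x') := h
  haveI flQ : Module.Flat Γ(S, V) (H.presheaf.stalk x') :=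
    Module.Flat.trans Γ(S, V) (S'.presheaf.stalk (f'.base x')) (H.presheaf.stalk x')
  -- the stalk of the pullback as a base change
  obtain ⟨T⟩ := nonempty_stalk_linearEquiv g' F x'
  let μ : F.presheaf.stalk (g'.base x') →ₗ[X.presheaf.stalk (g'.base x')] H.presheaf.stalk x' :=
    (T.toLinearMap.restrictScalars (X.presheaf.stalk (g'.base x'))).comp
      (TensorProduct.mk (X.presheaf.stalk (g'.base x')) (X'.presheaf.stalk x')
        (F.presheaf.stalk (g'.base x')) 1)
  have hμ : IsBaseChange (X'.presheaf.stalk x') μ := IsBaseChange.of_equiv T (fun v => rfl)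
  exact flat_of_isBaseChange_of_faithfullyFlat (Λ := Γ(S, V))
    (R := X.presheaf.stalk (g'.base x')) (S := X'.presheaf.stalk x') hμ

end cartesian

end Groth.Agent.Lib.Helper2.PullbackSec
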