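import Mathlib
import Groth.Agent.Lib.Helper1TorBCA
import Groth.Agent.Lib.Helper2PullbackSec4
set_option backward.isDefEq.respectTransparency.types false

/-!
# Relative tor amplitude and flat base change (helper1)
-/

set_option autoImplicit false
set_option linter.style.haveILetI false
set_option linter.unusedSectionVars false
set_option maxHeartbeats 800000
universe u
open CategoryTheory CategoryTheory.Limits AlgebraicGeometry HomologicalComplex

attribute [local instance] HasDerivedCategory.standard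

namespace Groth.Agent.Lib.Helper1.TorBC

open Groth.Agent.Lib.Helper1.Sky Groth.Agent.Lib.Helper1.StalkTensor Groth.Agent.Lib.Helper1.KBC
  Groth.Agent.Lib.Helper1.Tor Groth.Agent.Lib.Helper1.Restrict Groth.Agent.Lib.Helper1.RelPC
  Groth.Agent.Lib.Helper1.TorDim Groth.Agent.Lib.Helper1.BKF Groth.Agent.Lib.Helper1.TorT
  Groth.Agent.Lib.Helper1.LDer Groth.Agent.Lib.Helper1.TQ
  Groth.Agent.Lib.Helper2.FlatOver Groth.Agent.Lib.Helper2.PullbackFlat
  Groth.Agent.Lib.Helper2.PullbackSec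

variable {X S X' S' : Scheme.{u}} {f : X ⟶ S} {f' : X' ⟶ S'} {g' : X' ⟶ X} {g : S' ⟶ S}

/-- stalkwise flat base change of relative tor amplitude in a cartesian square -/
theorem hasTorAmp_stalk_of_isPullback (hc : IsPullback g' f' f g) [Flat g] (x' : X')
    (K : DRing.Cx (X.presheaf.stalk (g'.base x')))
    (hK : Groth.Agent.Lib.Helper1.KF.KFlat K) (a b : ℤ)
    (h : DRing.HasTorAmplitudeIn (S.presheaf.stalk (f.base (g'.base x'))) a b
      (DRing.toD ((DRing.restrictCx (f.stalkMap (g'.base x')).hom).obj K))) :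
    DRing.HasTorAmplitudeIn (S'.presheaf.stalk (f'.base x')) a b
      (DRing.toD ((DRing.restrictCx (f'.stalkMap x').hom).obj
        ((bcCx (g'.stalkMap x').hom).obj K))) := by
  have hw : g.base (f'.base x') = f.base (g'.base x') := by
    have := congrArg (fun φ => φ.base x') hc.w
    simpa using this.symm
  obtain ⟨U, V, hU, hV, hxU, eU⟩ := exists_affine_nhds f (g'.base x')
  obtain ⟨V', hV', hsV', eV'⟩ : ∃ V' : S'.Opens, IsAffineOpen V' ∧ f'.base x' ∈ V' ∧
      V' ≤ g ⁻¹ᵁ V := by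
    have hmem : f'.base x' ∈ g ⁻¹ᵁ V := by
      change g.base (f'.base x') ∈ V
      rw [hw]; exact eU hxU
    obtain ⟨W, hW⟩ := (S'.isBasis_affineOpens).exists_subset_of_mem_open hmem (g ⁻¹ᵁ V).isOpen
    obtain ⟨⟨V', hV', rfl⟩, hxV', hle⟩ := hW
    exact ⟨V', hV', hxV', hle⟩
  set U' : X'.Opens := g' ⁻¹ᵁ U ⊓ f' ⁻¹ᵁ V' with hU'def
  have hU' : IsAffineOpen U' := isAffineOpen_inf_preimage hc eV' eU hV hV' hU
  have e1 : U' ≤ g' ⁻¹ᵁ U := inf_le_left
  have e2 : U' ≤ f' ⁻¹ᵁ V' := inf_le_right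
  have hx' : x' ∈ U' := ⟨hxU, hsV'⟩
  -- ring structures
  letI aAB : Algebra Γ(S, V) Γ(X, U) := (f.appLE V U eU).hom.toAlgebra
  letI aAA' : Algebra Γ(S, V) Γ(S', V') := (g.appLE V V' eV').hom.toAlgebra
  letI aBB' : Algebra Γ(X, U) Γ(X', U') := (g'.appLE U U' e1).hom.toAlgebra
  letI aA'B' : Algebra Γ(S', V') Γ(X', U') := (f'.appLE V' U' e2).hom.toAlgebra
  letI aAB' : Algebra Γ(S, V) Γ(X', U') :=
    ((g'.appLE U U' e1).hom.comp (f.appLE V U eU).hom).toAlgebra
  haveI tABB' : IsScalarTower Γ(S, V) Γ(X, U) Γ(X', U') :=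
    IsScalarTower.of_algebraMap_eq (fun a => rfl)
  have hsq : ∀ a : Γ(S, V), (g'.appLE U U' e1).hom ((f.appLE V U eU).hom a) =
      (f'.appLE V' U' e2).hom ((g.appLE V V' eV').hom a) := by
    intro a
    have h1 := Scheme.Hom.appLE_comp_appLE g' f V U U' eU e1
    have h2 := Scheme.Hom.appLE_comp_appLE f' g V V' U' eV' e2
    have h3 : (f.appLE V U eU ≫ g'.appLE U U' e1) = (g.appLE V V' eV' ≫ f'.appLE V' U' e2) := by
      rw [h1, h2]
      congr 1
      exact hc.w
    exact congrArg (fun φ => φ.hom a) h3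
  haveI tAA'B' : IsScalarTower Γ(S, V) Γ(S', V') Γ(X', U') :=
    IsScalarTower.of_algebraMap_eq (fun a => hsq a)
  haveI hPO : Algebra.IsPushout Γ(S, V) Γ(S', V') Γ(X, U) Γ(X', U') :=
    algebra_isPushout hc eV' eU hV hV' hU e1 e2
  haveI flAA' : Module.Flat Γ(S, V) Γ(S', V') :=
    HasRingHomProperty.appLE (P := @Flat) g inferInstance ⟨V, hV⟩ ⟨V', hV'⟩ eV'
  -- stalk rings
  letI aBR : Algebra Γ(X, U) (X.presheaf.stalk (g'.base x')) :=
    X.presheaf.algebra_section_stalk ⟨g'.base x', hxU⟩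
  letI aB'R' : Algebra Γ(X', U') (X'.presheaf.stalk x') :=
    X'.presheaf.algebra_section_stalk ⟨x', hx'⟩
  letI aA'Λ' : Algebra Γ(S', V') (S'.presheaf.stalk (f'.base x')) :=
    S'.presheaf.algebra_section_stalk ⟨f'.base x', hsV'⟩
  letI aAΛ : Algebra Γ(S, V) (S.presheaf.stalk (f.base (g'.base x'))) :=
    S.presheaf.algebra_section_stalk ⟨f.base (g'.base x'), eU hxU⟩
  haveI lR := hU.isLocalization_stalk ⟨g'.base x', hxU⟩
  haveI lR' := hU'.isLocalization_stalk ⟨x', hx'⟩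
  haveI lΛ := hV.isLocalization_stalk ⟨f.base (g'.base x'), eU hxU⟩
  haveI lΛ' := hV'.isLocalization_stalk ⟨f'.base x', hsV'⟩
  haveI flΛ : Module.Flat Γ(S, V) (S.presheaf.stalk (f.base (g'.base x'))) :=
    IsLocalization.flat _ (hV.primeIdealOf ⟨f.base (g'.base x'), eU hxU⟩).asIdeal.primeCompl
  have hle : Algebra.algebraMapSubmonoid Γ(X', U')
      (hU.primeIdealOf ⟨g'.base x', hxU⟩).asIdeal.primeCompl ≤
      (hU'.primeIdealOf ⟨x', hx'⟩).asIdeal.primeCompl := by
    rintro _ ⟨a, ha, rfl⟩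
    have h1 : IsUnit (algebraMap Γ(X, U) (X.presheaf.stalk (g'.base x')) a) :=
      (IsLocalization.AtPrime.isUnit_to_map_iff _
        (hU.primeIdealOf ⟨g'.base x', hxU⟩).asIdeal a).2 ha
    have h2 : IsUnit ((g'.stalkMap x').hom
        (algebraMap Γ(X, U) (X.presheaf.stalk (g'.base x')) a)) := h1.map _
    have h3 : (g'.stalkMap x').hom (algebraMap Γ(X, U) (X.presheaf.stalk (g'.base x')) a) =
        algebraMap Γ(X', U') (X'.presheaf.stalk x') (algebraMap Γ(X, U) Γ(X', U') a) :=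
      stalkMap_germ_eq g' e1 x' hx' a
    rw [h3] at h2
    exact (IsLocalization.AtPrime.isUnit_to_map_iff _
      (hU'.primeIdealOf ⟨x', hx'⟩).asIdeal _).1 h2
  refine hasTorAmp_bc_localization (A := Γ(S, V)) (A' := Γ(S', V')) (B := Γ(X, U))
    (B' := Γ(X', U')) (hV'.primeIdealOf ⟨f'.base x', hsV'⟩).asIdeal.primeCompl
    (hU.primeIdealOf ⟨g'.base x', hxU⟩).asIdeal.primeCompl
    (hU'.primeIdealOf ⟨x', hx'⟩).asIdeal.primeCompl hle
    (f.stalkMap (g'.base x')).hom (g'.stalkMap x').hom (f'.stalkMap x').hom ?_ ?_ ?_ K hK a b h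
  · ext a
    exact stalkMap_germ_eq f eU (g'.base x') hxU a
  · ext a
    exact stalkMap_germ_eq g' e1 x' hx' a
  · ext a
    exact stalkMap_germ_eq f' e2 x' hx' a

/-- S6189: tor amplitude of `Lg^* F` relative to the base change of `f` along a flat morphism -/
theorem hasTorAmplitudeD_Lpull_baseChange_of_flat {X Y Y' : Scheme.{u}} (f : X ⟶ Y) (h : Y' ⟶ Y)
    [Flat h] [DCoh.HasLpull (pullback.fst f h)] (F : CochainComplex X.Modules ℤ) (a b : ℤ)
    (hF : DerSch.HasTorAmplitude f a b F) :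
    DerSch.HasTorAmplitudeD (pullback.snd f h) a b
      ((DCoh.Lpull (pullback.fst f h)).obj (DCoh.toD X F)) := by
  have hc : IsPullback (pullback.fst f h) (pullback.snd f h) f h := IsPullback.of_hasPullback f h
  obtain ⟨K, q, hK, -, hq, -⟩ : ∃ (K : CochainComplex X.Modules ℤ)
      (q : K ⟶ F), DCoh.IsKFlat K ∧
      (∀ n : ℤ, ModSite.IsFlat (O := X.sheaf) (K.X n)) ∧ QuasiIso q ∧ ∀ n : ℤ, Epi (q.f n) :=
    exists_kflat_flat_resolution X.sheaf F
  have hqi : IsIso (DerivedCategory.Q.map q) := by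
    rw [DerivedCategory.isIso_Q_map_iff_quasiIso]; exact hq
  have eK : DCoh.toD X K ≅ DCoh.toD X F := asIso (DerivedCategory.Q.map q)
  have hGK : DerSch.HasTorAmplitude f a b K := hasTorAmplitude_of_iso f eK.symm a b hF
  have eL : (DCoh.Lpull (pullback.fst f h)).obj (DCoh.toD X F) ≅
      DCoh.toD _ ((pullC (pullback.fst f h)).obj K) :=
    (DCoh.Lpull (pullback.fst f h)).mapIso eK.symm ≪≫ lpullIsoK (pullback.fst f h) K hK
  rintro F' ⟨eF⟩
  refine hasTorAmplitude_of_iso (pullback.snd f h) (eF ≪≫ eL).symm _ _ ?_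
  intro x'
  rw [hasTorAmplitudeAt_iff]
  have hKy : Groth.Agent.Lib.Helper1.KF.KFlat ((stalkC ((pullback.fst f h).base x')).obj K) :=
    fun M hM => rKFlat_stalk_of_isKFlat ((pullback.fst f h).base x') K hK M hM
  have hL := (hasTorAmplitudeAt_iff f K a b ((pullback.fst f h).base x')).1
    (hGK ((pullback.fst f h).base x'))
  have key := hasTorAmp_stalk_of_isPullback hc x' _ hKy a b hL
  exact hasTorAmp_of_iso (DerivedCategory.Q.mapIso
    ((DRing.restrictCx _).mapIso (stalkPullCIso (pullback.fst f h) x' K).symm)) key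

end Groth.Agent.Lib.Helper1.TorBC
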