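import Mathlib
import Groth.Agent.Lib.Helper1TIBCA
import Groth.Agent.Lib.Helper1TorBCB
import Groth.Agent.Lib.Helper1RelFlatPC
set_option backward.isDefEq.respectTransparency.types false

/-!
# Tor-independent base change of complexes flat over the base (helper1)
-/

set_option autoImplicit false
set_option linter.style.haveILetI false
set_option linter.unusedSectionVars false
set_option maxHeartbeats 800000
universe u
open CategoryTheory CategoryTheory.Limits AlgebraicGeometry HomologicalComplex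

attribute [local instance] HasDerivedCategory.standard

namespace Groth.Agent.Lib.Helper1.TIBC

open Groth.Agent.Lib.Helper1.Sky Groth.Agent.Lib.Helper1.StalkTensor Groth.Agent.Lib.Helper1.KBC
  Groth.Agent.Lib.Helper1.Tor Groth.Agent.Lib.Helper1.Restrict Groth.Agent.Lib.Helper1.RelPC
  Groth.Agent.Lib.Helper1.TorDim Groth.Agent.Lib.Helper1.BKF Groth.Agent.Lib.Helper1.TorT
  Groth.Agent.Lib.Helper1.LDer Groth.Agent.Lib.Helper1.TQ
  Groth.Agent.Lib.Helper2.FlatOver Groth.Agent.Lib.Helper2.PullbackFlat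
  Groth.Agent.Lib.Helper2.PullbackSec

variable {X S X' S' : Scheme.{u}} {f : X ⟶ S} {f' : X' ⟶ S'} {g' : X' ⟶ X} {g : S' ⟶ S}

/-- stalkwise Tor-independent base change in a cartesian square -/
theorem stalk_bc_of_isPullback (hc : IsPullback g' f' f g) (x' : X') :
    (∀ C : DRing.Cx (X.presheaf.stalk (g'.base x')), Groth.Agent.Lib.Helper1.KF.Acyc C →
      Groth.Agent.Lib.Helper1.KF.KFlat
        ((DRing.restrictCx (f.stalkMap (g'.base x')).hom).obj C) →
      Groth.Agent.Lib.Helper1.KF.Acyc ((bcCx (g'.stalkMap x').hom).obj C)) ∧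
    (∀ M : ModuleCat.{u} (X.presheaf.stalk (g'.base x')),
      Module.Flat (S.presheaf.stalk (f.base (g'.base x')))
        ((ModuleCat.restrictScalars.{u} (f.stalkMap (g'.base x')).hom).obj M) →
      Module.Flat (S'.presheaf.stalk (f'.base x'))
        ((ModuleCat.restrictScalars.{u} (f'.stalkMap x').hom).obj
          ((ModuleCat.extendScalars.{u, u, u} (g'.stalkMap x').hom).obj M))) := by
  have hw : g.base (f'.base x') = f.base (g'.base x') := by
    have := congrArg (fun φ => φ.base x') hc.w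
    simpa using this.symm
  obtain ⟨U, V, hU, hV, hxU, eU⟩ := exists_affine_nhds f (g'.base x')
  obtain ⟨V', hV', hsV', eV'⟩ : ∃ V' : S'.Opens, IsAffineOpen V' ∧ f'.base x' ∈ V' ∧
      V' ≤ g ⁻¹ᵁ V := by
    have hmem : f'.base x' ∈ g ⁻¹ᵁ V := by
      change g.base (f'.base x') ∈ V
      rw [hw]; exact eU hxU
    obtain ⟨W, hW⟩ := (S'.isBasis_affineOpens).exists_subset_of_mem_open hmem (g ⁻¹ᵁ V).isOpen
    obtain ⟨⟨V', hV', rfl⟩, hxV', hle⟩ := hW
    exact ⟨V', hV', hxV', hle⟩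
  set U' : X'.Opens := g' ⁻¹ᵁ U ⊓ f' ⁻¹ᵁ V' with hU'def
  have hU' : IsAffineOpen U' := isAffineOpen_inf_preimage hc eV' eU hV hV' hU
  have e1 : U' ≤ g' ⁻¹ᵁ U := inf_le_left
  have e2 : U' ≤ f' ⁻¹ᵁ V' := inf_le_right
  have hx' : x' ∈ U' := ⟨hxU, hsV'⟩
  -- ring structures
  letI aAB : Algebra Γ(S, V) Γ(X, U) := (f.appLE V U eU).hom.toAlgebra
  letI aAA' : Algebra Γ(S, V) Γ(S', V') := (g.appLE V V' eV').hom.toAlgebra
  letI aBB' : Algebra Γ(X, U) Γ(X', U') := (g'.appLE U U' e1).hom.toAlgebra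
  letI aA'B' : Algebra Γ(S', V') Γ(X', U') := (f'.appLE V' U' e2).hom.toAlgebra
  letI aAB' : Algebra Γ(S, V) Γ(X', U') :=
    ((g'.appLE U U' e1).hom.comp (f.appLE V U eU).hom).toAlgebra
  haveI tABB' : IsScalarTower Γ(S, V) Γ(X, U) Γ(X', U') :=
    IsScalarTower.of_algebraMap_eq (fun a => rfl)
  have hsq : ∀ a : Γ(S, V), (g'.appLE U U' e1).hom ((f.appLE V U eU).hom a) =
      (f'.appLE V' U' e2).hom ((g.appLE V V' eV').hom a) := by
    intro a
    have h1 := Scheme.Hom.appLE_comp_appLE g' f V U U' eU e1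
    have h2 := Scheme.Hom.appLE_comp_appLE f' g V V' U' eV' e2
    have h3 : (f.appLE V U eU ≫ g'.appLE U U' e1) = (g.appLE V V' eV' ≫ f'.appLE V' U' e2) := by
      rw [h1, h2]
      congr 1
      exact hc.w
    exact congrArg (fun φ => φ.hom a) h3
  haveI tAA'B' : IsScalarTower Γ(S, V) Γ(S', V') Γ(X', U') :=
    IsScalarTower.of_algebraMap_eq (fun a => hsq a)
  haveI hPO : Algebra.IsPushout Γ(S, V) Γ(S', V') Γ(X, U) Γ(X', U') :=
    algebra_isPushout hc eV' eU hV hV' hU e1 e2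
  -- stalk rings
  letI aBR : Algebra Γ(X, U) (X.presheaf.stalk (g'.base x')) :=
    X.presheaf.algebra_section_stalk ⟨g'.base x', hxU⟩
  letI aB'R' : Algebra Γ(X', U') (X'.presheaf.stalk x') :=
    X'.presheaf.algebra_section_stalk ⟨x', hx'⟩
  letI aA'Λ' : Algebra Γ(S', V') (S'.presheaf.stalk (f'.base x')) :=
    S'.presheaf.algebra_section_stalk ⟨f'.base x', hsV'⟩
  letI aAΛ : Algebra Γ(S, V) (S.presheaf.stalk (f.base (g'.base x'))) :=
    S.presheaf.algebra_section_stalk ⟨f.base (g'.base x'), eU hxU⟩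
  haveI lR := hU.isLocalization_stalk ⟨g'.base x', hxU⟩
  haveI lR' := hU'.isLocalization_stalk ⟨x', hx'⟩
  haveI lΛ := hV.isLocalization_stalk ⟨f.base (g'.base x'), eU hxU⟩
  haveI lΛ' := hV'.isLocalization_stalk ⟨f'.base x', hsV'⟩
  haveI flΛ : Module.Flat Γ(S, V) (S.presheaf.stalk (f.base (g'.base x'))) :=
    IsLocalization.flat _ (hV.primeIdealOf ⟨f.base (g'.base x'), eU hxU⟩).asIdeal.primeCompl
  have hle : Algebra.algebraMapSubmonoid Γ(X', U')
      (hU.primeIdealOf ⟨g'.base x', hxU⟩).asIdeal.primeCompl ≤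
      (hU'.primeIdealOf ⟨x', hx'⟩).asIdeal.primeCompl := by
    rintro _ ⟨a, ha, rfl⟩
    have h1 : IsUnit (algebraMap Γ(X, U) (X.presheaf.stalk (g'.base x')) a) :=
      (IsLocalization.AtPrime.isUnit_to_map_iff _
        (hU.primeIdealOf ⟨g'.base x', hxU⟩).asIdeal a).2 ha
    have h2 : IsUnit ((g'.stalkMap x').hom
        (algebraMap Γ(X, U) (X.presheaf.stalk (g'.base x')) a)) := h1.map _
    have h3 : (g'.stalkMap x').hom (algebraMap Γ(X, U) (X.presheaf.stalk (g'.base x')) a) =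
        algebraMap Γ(X', U') (X'.presheaf.stalk x') (algebraMap Γ(X, U) Γ(X', U') a) :=
      stalkMap_germ_eq g' e1 x' hx' a
    rw [h3] at h2
    exact (IsLocalization.AtPrime.isUnit_to_map_iff _
      (hU'.primeIdealOf ⟨x', hx'⟩).asIdeal _).1 h2
  refine bc_localization (A := Γ(S, V)) (A' := Γ(S', V')) (B := Γ(X, U))
    (B' := Γ(X', U')) (hV'.primeIdealOf ⟨f'.base x', hsV'⟩).asIdeal.primeCompl
    (hU.primeIdealOf ⟨g'.base x', hxU⟩).asIdeal.primeCompl
    (hU'.primeIdealOf ⟨x', hx'⟩).asIdeal.primeCompl hle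
    (f.stalkMap (g'.base x')).hom (g'.stalkMap x').hom (f'.stalkMap x').hom ?_ ?_ ?_
  · ext a
    exact stalkMap_germ_eq f eU (g'.base x') hxU a
  · ext a
    exact stalkMap_germ_eq g' e1 x' hx' a
  · ext a
    exact stalkMap_germ_eq f' e2 x' hx' a


/-- **Base change of flatness over the base** (no quasi-coherence needed): in a cartesian square,
if `M` is flat over `S` then `g'^* M` is flat over `S'` -/
theorem isFlatOver_pullback_of_isPullback (hc : IsPullback g' f' f g) (M : X.Modules)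
    (hM : FlatMod.IsFlatOver f M) :
    FlatMod.IsFlatOver f' ((Scheme.Modules.pullback g').obj M) := by
  intro x'
  have h1 : Module.Flat (S.presheaf.stalk (f.base (g'.base x')))
      ((ModuleCat.restrictScalars.{u} (f.stalkMap (g'.base x')).hom).obj
        ((stalkFun (g'.base x')).obj M)) := hM (g'.base x')
  have h2 := (stalk_bc_of_isPullback hc x').2 _ h1
  have e : (stalkFun x').obj ((Scheme.Modules.pullback g').obj M) ≅
      (ModuleCat.extendScalars.{u, u, u} (g'.stalkMap x').hom).obj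
        ((stalkFun (g'.base x')).obj M) := (stalkPullbackIso g' x').app M
  have h3 : Module.Flat (S'.presheaf.stalk (f'.base x'))
      ((ModuleCat.restrictScalars.{u} (f'.stalkMap x').hom).obj
        ((stalkFun x').obj ((Scheme.Modules.pullback g').obj M))) :=
    flat_of_iso ((ModuleCat.restrictScalars.{u} (f'.stalkMap x').hom).mapIso e.symm) h2
  exact h3

/-- a complex on `X` whose stalks are K-flat over the stalks of the base -/
def RelKFlat (f : X ⟶ S) (C : CochainComplex X.Modules ℤ) : Prop :=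
  ∀ x : X, Groth.Agent.Lib.Helper1.KF.KFlat
    ((DRing.restrictCx (f.stalkMap x).hom).obj ((stalkC x).obj C))

/-- in a cartesian square, the pullback of an acyclic complex which is stalkwise K-flat over the
base is acyclic -/
theorem acyc_pullC_of_relKFlat (hc : IsPullback g' f' f g) (C : CochainComplex X.Modules ℤ)
    (hac : Acyc C) (hC : RelKFlat f C) : Acyc ((pullC g').obj C) := by
  apply acyc_of_forall_acyc_stalk
  intro x'
  refine Acyc.of_iso (stalkPullCIso g' x' C).symm ?_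
  exact (stalk_bc_of_isPullback hc x').1 _ (acyc_map_of_acyc (stalkFun (g'.base x')) C hac)
    (hC (g'.base x'))

/-- K-flat complexes are K-flat relative to a flat morphism -/
lemma relKFlat_of_isKFlat [Flat f] (K : CochainComplex X.Modules ℤ) (hK : DCoh.IsKFlat K) :
    RelKFlat f K := by
  intro x
  have h1 : Groth.Agent.Lib.Helper1.KF.KFlat ((stalkC x).obj K) :=
    fun M hM => rKFlat_stalk_of_isKFlat x K hK M hM
  exact kflat_restrictCx_of_flat _ (Flat.stalkMap f x) _ h1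

/-- bounded above complexes with terms flat over the base are K-flat relative to the base -/
lemma relKFlat_of_termwise_flat (P : CochainComplex X.Modules ℤ) (b : ℤ)
    (hb : ∀ q : ℤ, b < q → IsZero (P.X q)) (hfl : ∀ i : ℤ, FlatMod.IsFlatOver f (P.X i)) :
    RelKFlat f P := by
  intro x
  refine Groth.Agent.Lib.Helper1.KF.kflat_of_boundedAbove_flat _ b (fun q hq => ?_) (fun q => ?_)
  · exact (ModuleCat.restrictScalars.{u} (f.stalkMap x).hom).map_isZero
      ((stalkFun x).map_isZero (hb q hq))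
  · exact hfl q x

/-- relative K-flatness passes to mapping cones -/
lemma relKFlat_mappingCone {K P : CochainComplex X.Modules ℤ} (q : K ⟶ P)
    (hK : RelKFlat f K) (hP : RelKFlat f P) : RelKFlat f (CochainComplex.mappingCone q) := by
  intro x
  have e1 := CochainComplex.mappingCone.mapHomologicalComplexIso q (stalkFun x)
  have e2 := CochainComplex.mappingCone.mapHomologicalComplexIso ((stalkC x).map q)
    (ModuleCat.restrictScalars.{u} (f.stalkMap x).hom)
  have h := Groth.Agent.Lib.Helper1.KF.KFlat.cone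
    (φ := (DRing.restrictCx (f.stalkMap x).hom).map ((stalkC x).map q)) (hK x) (hP x)
  exact KFlat.of_iso' (e2.symm ≪≫ (DRing.restrictCx (f.stalkMap x).hom).mapIso e1.symm) h

/-- **Tor-independent base change**: in a cartesian square with `f` flat, `Lg'^*` of a bounded
above complex of modules flat over `S` is computed termwise -/
theorem nonempty_lpull_iso_of_relFlat (hc : IsPullback g' f' f g) [Flat f] [DCoh.HasLpull g']
    (P : CochainComplex X.Modules ℤ) (b : ℤ) (hb : ∀ q : ℤ, b < q → IsZero (P.X q))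
    (hfl : ∀ i : ℤ, FlatMod.IsFlatOver f (P.X i)) :
    Nonempty ((DCoh.Lpull g').obj (DCoh.toD X P) ≅ DCoh.toD X' ((pullC g').obj P)) := by
  obtain ⟨K, q, hK, -, hq, -⟩ : ∃ (K : CochainComplex X.Modules ℤ)
      (q : K ⟶ P), DCoh.IsKFlat K ∧
      (∀ n : ℤ, ModSite.IsFlat (O := X.sheaf) (K.X n)) ∧ QuasiIso q ∧ ∀ n : ℤ, Epi (q.f n) :=
    exists_kflat_flat_resolution X.sheaf P
  have hqi : IsIso (DerivedCategory.Q.map q) := by
    rw [DerivedCategory.isIso_Q_map_iff_quasiIso]; exact hq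
  have eK : DCoh.toD X K ≅ DCoh.toD X P := asIso (DerivedCategory.Q.map q)
  have hcone : RelKFlat f (CochainComplex.mappingCone q) :=
    relKFlat_mappingCone q (relKFlat_of_isKFlat K hK) (relKFlat_of_termwise_flat P b hb hfl)
  have hq' : QuasiIso ((pullC g').map q) := by
    apply quasiIso_of_acyc_cone
    exact Acyc.of_iso
      (CochainComplex.mappingCone.mapHomologicalComplexIso q (Scheme.Modules.pullback g'))
      (acyc_pullC_of_relKFlat hc _ (acyc_cone_of_quasiIso q) hcone)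
  have hqi' : IsIso (DerivedCategory.Q.map ((pullC g').map q)) := by
    rw [DerivedCategory.isIso_Q_map_iff_quasiIso]; exact hq'
  exact ⟨(DCoh.Lpull g').mapIso eK.symm ≪≫ lpullIsoK g' K hK ≪≫
    asIso (DerivedCategory.Q.map ((pullC g').map q))⟩


/-- S5631 (cartesian square form): relative flat amplitude is preserved by arbitrary base change
when `f` is flat -/
theorem hasRelFlatAmplitudeIn_lpull_of_isPullback (hc : IsPullback g' f' f g) [Flat f]
    [DCoh.HasLpull g'] (E : DCoh.D X) (a b : ℤ) (hE : DCoh.HasRelFlatAmplitudeIn f a b E) :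
    DCoh.HasRelFlatAmplitudeIn f' a b ((DCoh.Lpull g').obj E) := by
  obtain ⟨P, hPv, hPf, ⟨e⟩⟩ := hE
  obtain ⟨eL⟩ := nonempty_lpull_iso_of_relFlat hc P b (fun q hq => hPv q (Or.inr hq)) hPf
  exact ⟨(pullC g').obj P, fun i hi => (Scheme.Modules.pullback g').map_isZero (hPv i hi),
    fun i => isFlatOver_pullback_of_isPullback hc (P.X i) (hPf i),
    ⟨eL.symm ≪≫ (DCoh.Lpull g').mapIso e⟩⟩

/-- S1100 (tor dimension part, cartesian square form) -/
theorem locHasFiniteRelTorDim_lpull_of_isPullback (hc : IsPullback g' f' f g) [Flat f]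
    [DCoh.HasLpull g'] (K : DCoh.D X) (hK : DCoh.LocHasFiniteRelTorDim f K) :
    DCoh.LocHasFiniteRelTorDim f' ((DCoh.Lpull g').obj K) := by
  intro x'
  obtain ⟨V, a, b, hxV, hV⟩ := hK (g'.base x')
  refine ⟨g' ⁻¹ᵁ V, a, b, hxV, fun F ⟨eF⟩ => ?_⟩
  let F₀ : CochainComplex X.Modules ℤ := DerivedCategory.Q.objPreimage K
  let e₀ : DCoh.toD X F₀ ≅ K := DerivedCategory.Q.objObjPreimageIso K
  have hV₀ := hV F₀ ⟨e₀⟩
  haveI : DCoh.HasLpull (g' ∣_ V) := hasLpull _
  haveI : DCoh.HasLpull V.ι := hasLpull _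
  haveI : DCoh.HasLpull (g' ⁻¹ᵁ V).ι := hasLpull _
  haveI : DCoh.HasLpull ((g' ⁻¹ᵁ V).ι ≫ g') := hasLpull _
  haveI : DCoh.HasLpull ((g' ∣_ V) ≫ V.ι) := hasLpull _
  obtain ⟨c1⟩ := nonempty_lpull_comp_iso (g' ⁻¹ᵁ V).ι g'
  obtain ⟨c2⟩ := nonempty_lpull_comp_iso (g' ∣_ V) V.ι
  obtain ⟨c3⟩ := nonempty_lpull_congr (morphismRestrict_ι g' V).symm
  let θ : DerivedCategory.Q.obj ((DCoh.restrictCx (g' ⁻¹ᵁ V)).obj F) ≅
      (DCoh.Lpull (g' ∣_ V)).obj (DerivedCategory.Q.obj ((DCoh.restrictCx V).obj F₀)) :=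
    (lpullOpenIso (g' ⁻¹ᵁ V) F).symm ≪≫ (DCoh.Lpull (g' ⁻¹ᵁ V).ι).mapIso eF ≪≫ c1.app K ≪≫
      c3.app K ≪≫ (c2.app K).symm ≪≫
      (DCoh.Lpull (g' ∣_ V)).mapIso ((DCoh.Lpull V.ι).mapIso e₀.symm ≪≫ lpullOpenIso V F₀)
  have hcV : IsPullback (g' ∣_ V) ((g' ⁻¹ᵁ V).ι ≫ f') (V.ι ≫ f) g :=
    (isPullback_morphismRestrict g' V).paste_vert hc
  have h := hasRelFlatAmplitudeIn_lpull_of_isPullback hcV _ a b hV₀
  obtain ⟨P, hPv, hPf, ⟨e⟩⟩ := h
  exact ⟨P, hPv, hPf, ⟨e ≪≫ θ.symm⟩⟩

end Groth.Agent.Lib.Helper1.TIBC
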