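import Mathlib
import Groth.Agent.Lib.Helper20FlatDescSch

set_option autoImplicit false
universe u

open CategoryTheory CategoryTheory.Limits AlgebraicGeometry TensorProduct

namespace Groth.Agent.Lib.Helper20.FlatDesc

/-- support of a base change of a finite module contains the primes over the support -/
theorem mem_support_baseChange_of_finite {S T : Type*} [CommRing S] [CommRing T] [Algebra S T]
    (M : Type*) [AddCommGroup M] [Module S M] [Module.Finite S M] (q : PrimeSpectrum T)
    (h : q.comap (algebraMap S T) ∈ Module.support S M) :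
    q ∈ Module.support T (T ⊗[S] M) := by
  rw [Module.mem_support_iff_nontrivial_residueField_tensorProduct] at h ⊢
  let φ : (q.comap (algebraMap S T)).asIdeal.ResidueField →+* q.asIdeal.ResidueField :=
    Ideal.ResidueField.map (q.comap (algebraMap S T)).asIdeal q.asIdeal (algebraMap S T)
      (PrimeSpectrum.comap_asIdeal _ _)
  let _ : Algebra (q.comap (algebraMap S T)).asIdeal.ResidueField q.asIdeal.ResidueField :=
    φ.toAlgebra
  have : IsScalarTower S (q.comap (algebraMap S T)).asIdeal.ResidueField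
      q.asIdeal.ResidueField := by
    refine IsScalarTower.of_algebraMap_eq (fun s => ?_)
    rw [RingHom.algebraMap_toAlgebra]
    change _ = Ideal.ResidueField.map _ _ _ _ _
    rw [Ideal.ResidueField.map_algebraMap]
    rw [← IsScalarTower.algebraMap_apply]
  let e1 := AlgebraTensorModule.cancelBaseChange S (q.comap (algebraMap S T)).asIdeal.ResidueField
    q.asIdeal.ResidueField q.asIdeal.ResidueField M
  let e2 := AlgebraTensorModule.cancelBaseChange S T
    q.asIdeal.ResidueField q.asIdeal.ResidueField M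
  have : Nontrivial (q.asIdeal.ResidueField ⊗[(q.comap (algebraMap S T)).asIdeal.ResidueField]
      ((q.comap (algebraMap S T)).asIdeal.ResidueField ⊗[S] M)) :=
    Module.FaithfullyFlat.lTensor_nontrivial _ _ _
  exact (e2.toEquiv.nontrivial_congr).mpr ((e1.toEquiv.nontrivial_congr).mp this)

/-- unramifiedness at a prime descends along arbitrary base change (finite type case) -/
theorem isUnramifiedAt_of_baseChange_of_finiteType (R S R' T : Type u) [CommRing R] [CommRing S]
    [CommRing R'] [CommRing T]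
    [Algebra R S] [Algebra R R'] [Algebra R T] [Algebra S T] [Algebra R' T]
    [IsScalarTower R S T] [IsScalarTower R R' T] [Algebra.IsPushout R R' S T]
    [Algebra.FiniteType R S]
    (q : Ideal T) [q.IsPrime]
    (hq : Algebra.IsUnramifiedAt R' q) :
    Algebra.IsUnramifiedAt R (q.comap (algebraMap S T)) := by
  let qq : PrimeSpectrum T := ⟨q, inferInstance⟩
  have h1 : qq ∈ Algebra.unramifiedLocus R' T := hq
  rw [Algebra.unramifiedLocus_eq_compl_support] at h1
  have e := KaehlerDifferential.tensorKaehlerEquiv R R' S T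
  rw [← e.support_eq] at h1
  have h2 : qq.comap (algebraMap S T) ∈ Algebra.unramifiedLocus R S := by
    rw [Algebra.unramifiedLocus_eq_compl_support]
    intro h
    exact h1 (mem_support_baseChange_of_finite _ qq h)
  exact h2

open Groth.Agent.Lib.Helper20.EtLocal

variable {X Y Y' : Scheme.{u}}

set_option maxHeartbeats 800000 in
theorem formallyUnramified_stalkMap_of_baseChange (f : X ⟶ Y) [LocallyOfFiniteType f] (g : Y' ⟶ Y)
    (w : ↑(pullback f g))
    (H : ((pullback.snd f g).stalkMap w).hom.FormallyUnramified) :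
    (f.stalkMap (pullback.fst f g w)).hom.FormallyUnramified := by
  have hxy : f (pullback.fst f g w) = g (pullback.snd f g w) := by
    rw [← Scheme.Hom.comp_apply, ← Scheme.Hom.comp_apply, pullback.condition]
  obtain ⟨_, ⟨W, hW, rfl⟩, hxW, -⟩ := Y.isBasis_affineOpens.exists_subset_of_mem_open
    (Set.mem_univ (f (pullback.fst f g w))) isOpen_univ
  obtain ⟨_, ⟨V, hV, rfl⟩, hxV, hVW⟩ := X.isBasis_affineOpens.exists_subset_of_mem_open hxW
    (W.2.preimage f.continuous)
  have hyW : pullback.snd f g w ∈ g ⁻¹ᵁ W := by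
    change g (pullback.snd f g w) ∈ W
    rw [← hxy]; exact hxW
  obtain ⟨_, ⟨W', hW', rfl⟩, hyW', hW'W⟩ := Y'.isBasis_affineOpens.exists_subset_of_mem_open hyW
    (W.2.preimage g.continuous)
  have hft : (f.appLE W V hVW).hom.FiniteType := f.finiteType_appLE hW hV hVW
  algebraize [(f.appLE W V hVW).hom, (g.appLE W W' hW'W).hom]
  let _ : Algebra Γ(Y', W') (Γ(X, V) ⊗[Γ(Y, W)] Γ(Y', W')) := Algebra.TensorProduct.rightAlgebra
  have e₁ : Spec.map (CommRingCat.ofHom (algebraMap Γ(Y, W) Γ(X, V))) ≫ hW.fromSpec =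
      hV.fromSpec ≫ f := IsAffineOpen.SpecMap_appLE_fromSpec f hW hV hVW
  have e₂ : Spec.map (CommRingCat.ofHom (algebraMap Γ(Y, W) Γ(Y', W'))) ≫ hW.fromSpec =
      hW'.fromSpec ≫ g := IsAffineOpen.SpecMap_appLE_fromSpec g hW hW' hW'W
  let j0 := pullback.map _ _ f g hV.fromSpec hW'.fromSpec hW.fromSpec e₁ e₂
  let j := (pullbackSpecIso Γ(Y, W) Γ(X, V) Γ(Y', W')).inv ≫ j0
  have hj1 : j ≫ pullback.fst f g =
      Spec.map (CommRingCat.ofHom (algebraMap Γ(X, V) (Γ(X, V) ⊗[Γ(Y, W)] Γ(Y', W')))) ≫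
        hV.fromSpec := by
    simp only [j, j0, Category.assoc, pullback.lift_fst, pullback.map]
    rw [← Category.assoc, pullbackSpecIso_inv_fst']
  have hj2 : j ≫ pullback.snd f g =
      Spec.map (CommRingCat.ofHom (algebraMap Γ(Y', W') (Γ(X, V) ⊗[Γ(Y, W)] Γ(Y', W')))) ≫
        hW'.fromSpec := by
    simp only [j, j0, Category.assoc, pullback.lift_snd, pullback.map]
    rw [← Category.assoc, pullbackSpecIso_inv_snd]
    rfl
  have hwj : w ∈ Set.range j := by
    have : Set.range j = Set.range j0 := by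
      simp only [j, Scheme.Hom.comp_base, TopCat.coe_comp]
      rw [Set.range_comp, Set.range_eq_univ.mpr, Set.image_univ]
      exact (pullbackSpecIso Γ(Y, W) Γ(X, V) Γ(Y', W')).inv.surjective
    have : IsOpenImmersion hW.fromSpec := hW.isOpenImmersion_fromSpec
    have : Mono hW.fromSpec := inferInstance
    rw [‹Set.range j = Set.range j0›, Scheme.Pullback.range_map]
    refine ⟨?_, ?_⟩
    · change pullback.fst f g w ∈ Set.range hV.fromSpec
      rw [hV.range_fromSpec]; exact hxV
    · change pullback.snd f g w ∈ Set.range hW'.fromSpec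
      rw [hW'.range_fromSpec]; exact hyW'
  obtain ⟨q, rfl⟩ := hwj
  have hqprime : q.asIdeal.IsPrime := q.isPrime
  have : IsOpenImmersion hW.fromSpec := hW.isOpenImmersion_fromSpec
  have : IsOpenImmersion hV.fromSpec := hV.isOpenImmersion_fromSpec
  have : IsOpenImmersion hW'.fromSpec := hW'.isOpenImmersion_fromSpec
  have : IsOpenImmersion j0 := inferInstance
  have : IsOpenImmersion j := inferInstance
  have hQ := RingHom.FormallyUnramified.respectsIso
  -- step A
  have hA1 := (stalkMap_comp_iff_left hQ j (pullback.snd f g) q).mpr H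
  have hA2 := (stalkMap_congr_iff (Q := RingHom.FormallyUnramified) hj2 q).mp hA1
  have hA3 := (stalkMap_comp_iff_right hQ _ hW'.fromSpec q).mp hA2
  have hA4 := (hQ.arrow_mk_iso_iff (Scheme.arrowStalkMapSpecIso _ q)).mp hA3
  have hA4' : (Localization.localRingHom (PrimeSpectrum.comap
        (algebraMap Γ(Y', W') (Γ(X, V) ⊗[Γ(Y, W)] Γ(Y', W'))) q).asIdeal q.asIdeal
        (algebraMap Γ(Y', W') (Γ(X, V) ⊗[Γ(Y, W)] Γ(Y', W'))) rfl).FormallyUnramified := hA4
  have hA5 : Algebra.IsUnramifiedAt Γ(Y', W') q.asIdeal := by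
    change Algebra.FormallyUnramified Γ(Y', W') (Localization.AtPrime q.asIdeal)
    rw [← RingHom.formallyUnramified_algebraMap]
    have h0 := RingHom.FormallyUnramified.holdsForLocalization
      (R := Γ(Y', W')) (S := Localization.AtPrime (PrimeSpectrum.comap
        (algebraMap Γ(Y', W') (Γ(X, V) ⊗[Γ(Y, W)] Γ(Y', W'))) q).asIdeal)
        (PrimeSpectrum.comap
        (algebraMap Γ(Y', W') (Γ(X, V) ⊗[Γ(Y, W)] Γ(Y', W'))) q).asIdeal.primeCompl
    have h1 := RingHom.FormallyUnramified.comp h0 hA4'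
    have h2 : algebraMap Γ(Y', W') (Localization.AtPrime q.asIdeal) =
        (Localization.localRingHom (PrimeSpectrum.comap
        (algebraMap Γ(Y', W') (Γ(X, V) ⊗[Γ(Y, W)] Γ(Y', W'))) q).asIdeal q.asIdeal
        (algebraMap Γ(Y', W') (Γ(X, V) ⊗[Γ(Y, W)] Γ(Y', W'))) rfl).comp
          (algebraMap Γ(Y', W') _) := by
      rw [IsScalarTower.algebraMap_eq Γ(Y', W') (Γ(X, V) ⊗[Γ(Y, W)] Γ(Y', W'))
        (Localization.AtPrime q.asIdeal)]
      exact (IsLocalization.map_comp _).symm
    rw [h2]
    exact h1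
  have hB := isUnramifiedAt_of_baseChange_of_finiteType Γ(Y, W) Γ(X, V) Γ(Y', W')
    (Γ(X, V) ⊗[Γ(Y, W)] Γ(Y', W')) q.asIdeal hA5
  have hp : hV.primeIdealOf ⟨pullback.fst f g (j q), hxV⟩ =
      PrimeSpectrum.comap (algebraMap Γ(X, V) (Γ(X, V) ⊗[Γ(Y, W)] Γ(Y', W'))) q := by
    apply hV.fromSpec.isOpenEmbedding.injective
    rw [hV.fromSpec_primeIdealOf]
    have h3 : pullback.fst f g (j q) = hV.fromSpec ((Spec.map (CommRingCat.ofHom
        (algebraMap Γ(X, V) (Γ(X, V) ⊗[Γ(Y, W)] Γ(Y', W'))))) q) := by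
      rw [← Scheme.Hom.comp_apply, ← Scheme.Hom.comp_apply, hj1]
    exact h3
  refine (formallyUnramified_stalkMap_iff_chart W hW V hV hVW hxV).mpr ?_
  rw [hp]
  exact hB


end Groth.Agent.Lib.Helper20.FlatDesc
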