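import Mathlib

set_option autoImplicit false
universe u

open CategoryTheory CategoryTheory.Limits AlgebraicGeometry TensorProduct

namespace Groth.Agent.Lib.Helper20.EtSplit

set_option backward.defeqAttrib.useBackward true in
set_option backward.isDefEq.respectTransparency false in
/-- Enhanced version of Mathlib's `exists_etale_isCompl_of_quasiFiniteAt`: étale locally on the
base around `s`, the points over the base point mapping to `x` are exactly those of an open
subscheme which is finite over the base. -/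
theorem exists_etale_finite_part {X S : Scheme.{u}} (f : X ⟶ S) [LocallyOfFiniteType f]
    {x : X} {s : S} (h : f x = s) (hx : f.QuasiFiniteAt x) :
    ∃ (U : Scheme.{u}) (g : U ⟶ S) (u : U), Etale g ∧ g u = s ∧
    ∃ (V : (pullback f g).Opens), IsFinite (V.ι ≫ pullback.snd f g) ∧
      ∀ w : ↥(pullback f g), pullback.snd f g w = u → (w ∈ V ↔ pullback.fst f g w = x) := by
  obtain ⟨_, ⟨U, hU, rfl⟩, hxU, -⟩ := S.isBasis_affineOpens.exists_subset_of_mem_open
    (Set.mem_univ (f x)) isOpen_univ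
  obtain ⟨_, ⟨V, hV, rfl⟩, hxV, hUV : V ≤ f ⁻¹ᵁ U⟩ :=
    X.isBasis_affineOpens.exists_subset_of_mem_open hxU (f ⁻¹ᵁ U).2
  have : (f.appLE U V hUV).hom.FiniteType := f.finiteType_appLE hU hV hUV
  algebraize [(f.appLE U V hUV).hom]
  have : (hV.primeIdealOf ⟨x, hxV⟩).asIdeal.LiesOver (hU.primeIdealOf ⟨f x, hxU⟩).asIdeal := by
    suffices hU.primeIdealOf ⟨f x, hxU⟩ = Spec.map (f.appLE U V hUV) (hV.primeIdealOf ⟨x, hxV⟩) from
      ⟨congr(($this).1)⟩
    apply hU.isoSpec.inv.homeomorph.injective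
    apply Subtype.ext
    simp only [IsAffineOpen.primeIdealOf, Scheme.Hom.homeomorph_apply,
      ← Scheme.Hom.comp_apply, ← Scheme.Opens.ι_apply, IsAffineOpen.isoSpec_hom]
    simp
  have : Algebra.QuasiFiniteAt Γ(S, U) (hV.primeIdealOf ⟨x, hxV⟩).asIdeal :=
    hx.quasiFiniteAt hV hU hUV hxV
  obtain ⟨R, _, _, _, P, _, _, e, _, P', _, _, hP', heP', hbij, _, huniq⟩ :=
    Algebra.exists_etale_isIdempotentElem_forall_liesOver_eq
    (hU.primeIdealOf ⟨f x, hxU⟩).asIdeal (hV.primeIdealOf ⟨x, hxV⟩).asIdeal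
  have : (algebraMap R (Localization.Away e)).Finite := RingHom.finite_algebraMap.mpr ‹_›
  let φ : Γ(S, U) ⟶ .of R := CommRingCat.ofHom <| algebraMap Γ(S, U) R
  have hφ : φ.hom.Etale := RingHom.etale_algebraMap.mpr ‹_›
  have : Etale (Spec.map φ) := HasRingHomProperty.Spec_iff.mpr hφ
  let e₁ : Spec (.of (R ⊗ Γ(X, V))) ≅ pullback (Spec.map (f.appLE U V hUV)) (Spec.map φ) :=
    (pullbackSpecIso _ _ _).symm ≪≫ pullbackSymmetry _ _
  have he₁ : e₁.hom ≫ pullback.fst _ _ =
      Spec.map (CommRingCat.ofHom Algebra.TensorProduct.includeRight.toRingHom) := by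
    dsimp [e₁, RingHom.algebraMap_toAlgebra]
    rw [Category.assoc, pullbackSymmetry_hom_comp_fst]
    exact pullbackSpecIso_inv_snd ..
  have he₁' : e₁.hom ≫ pullback.snd _ _ =
      Spec.map (CommRingCat.ofHom Algebra.TensorProduct.includeLeftRingHom) := by
    dsimp [e₁, RingHom.algebraMap_toAlgebra]
    rw [Category.assoc, pullbackSymmetry_hom_comp_snd]
    exact pullbackSpecIso_inv_fst ..
  let g : Spec (.of (R ⊗[Γ(S, U)] Γ(X, V))) ⟶ pullback f (Spec.map φ ≫ hU.fromSpec) :=
    e₁.hom ≫ pullback.map _ _ _ _ hV.fromSpec (𝟙 _) hU.fromSpec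
      (IsAffineOpen.SpecMap_appLE_fromSpec ..) (by simp)
  let W₁ := g ''ᵁ PrimeSpectrum.basicOpen e
  have : IsFinite (W₁.ι ≫ pullback.snd f _) := by
    let ι : Spec (.of (Localization.Away e)) ⟶ pullback f (Spec.map φ ≫ hU.fromSpec) :=
      Spec.map (CommRingCat.ofHom <| algebraMap _ _) ≫ g
    have : ι.opensRange = W₁ := by
      simp only [Scheme.Hom.opensRange_comp, ι, W₁]
      congr 1
      exact TopologicalSpace.Opens.ext <| PrimeSpectrum.localization_away_comap_range _ _
    rw [← this, ← MorphismProperty.cancel_left_of_respectsIso @IsFinite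
      (Scheme.Hom.isoOpensRange _).hom]
    have H : (pullbackSpecIso _ R _).inv ≫ pullback.fst _ (Spec.map (f.appLE U V hUV)) = _ :=
      pullbackSpecIso_inv_fst ..
    simpa [Scheme.Hom.isoOpensRange, ι, g, e₁, RingHom.algebraMap_toAlgebra, φ, H,
      ← Spec.map_comp, IsFinite.SpecMap_iff]
  refine ⟨Spec (.of R), Spec.map φ ≫ hU.fromSpec, ⟨P, ‹_›⟩, inferInstance, ?_, W₁, ‹_›, ?_⟩
  · dsimp [Spec.map_apply]
    convert! hU.fromSpec_primeIdealOf ⟨f x, hxU⟩
    · exact PrimeSpectrum.ext (Ideal.over_def _ _).symm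
    · simp [h]
  · intro w hw
    have hg1 : g ≫ pullback.fst f _ =
        Spec.map (CommRingCat.ofHom Algebra.TensorProduct.includeRight.toRingHom) ≫
          hV.fromSpec := by
      simp only [g, Category.assoc, pullback.map, pullback.lift_fst]
      rw [← Category.assoc, he₁]
    have hg2 : g ≫ pullback.snd f _ =
        Spec.map (CommRingCat.ofHom Algebra.TensorProduct.includeLeftRingHom) := by
      simp only [g, Category.assoc, pullback.map, pullback.lift_snd, Category.comp_id]
      exact he₁'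
    have key : ∀ 𝔓 : Spec (.of (R ⊗[Γ(S, U)] Γ(X, V))),
        pullback.snd f _ (g 𝔓) = ⟨P, ‹_›⟩ → 𝔓.asIdeal.LiesOver P := by
      intro 𝔓 h𝔓
      rw [← Scheme.Hom.comp_apply, hg2] at h𝔓
      exact ⟨congr(($h𝔓).asIdeal).symm⟩
    have hfst : ∀ 𝔓 : Spec (.of (R ⊗[Γ(S, U)] Γ(X, V))),
        pullback.fst f _ (g 𝔓) = hV.fromSpec
          ⟨𝔓.asIdeal.comap Algebra.TensorProduct.includeRight.toRingHom, inferInstance⟩ := by
      intro 𝔓
      rw [← Scheme.Hom.comp_apply, hg1]
      rfl
    constructor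
    · rintro ⟨𝔓, h𝔓e, rfl⟩
      have hlo := key 𝔓 hw
      have h𝔓P' : 𝔓.asIdeal = P' := huniq 𝔓.asIdeal 𝔓.isPrime hlo h𝔓e
      refine (hfst 𝔓).trans ?_
      convert! hV.fromSpec_primeIdealOf ⟨x, hxV⟩
      rw [h𝔓P', hP']
    · intro hwx
      have hwr : w ∈ Set.range g := by
        have hr : Set.range g = Set.range (pullback.map (Spec.map (f.appLE U V hUV)) (Spec.map φ) f
            (Spec.map φ ≫ hU.fromSpec) hV.fromSpec (𝟙 _) hU.fromSpec
            (IsAffineOpen.SpecMap_appLE_fromSpec ..) (by simp)) := by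
          simp only [g, Scheme.Hom.comp_base, TopCat.hom_comp, ContinuousMap.coe_comp]
          rw [Set.range_comp]
          have hsurj : Set.range ⇑(TopCat.Hom.hom e₁.hom.base) = Set.univ :=
            Set.range_eq_univ.mpr e₁.hom.homeomorph.surjective
          rw [hsurj, Set.image_univ]
        rw [hr, Scheme.Pullback.range_map]
        refine ⟨?_, by simp⟩
        change pullback.fst f _ w ∈ Set.range hV.fromSpec
        rw [hwx, hV.range_fromSpec]
        exact hxV
      obtain ⟨𝔓, rfl⟩ := hwr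
      refine ⟨𝔓, ?_, rfl⟩
      have hlo := key 𝔓 hw
      have hinj : (⟨𝔓.asIdeal.comap Algebra.TensorProduct.includeRight.toRingHom, inferInstance⟩ :
          PrimeSpectrum Γ(X, V)) = hV.primeIdealOf ⟨x, hxV⟩ := by
        apply hV.fromSpec.isOpenEmbedding.injective
        rw [hV.fromSpec_primeIdealOf ⟨x, hxV⟩]
        exact (hfst 𝔓).symm.trans hwx
      have hcomap : 𝔓.asIdeal.comap Algebra.TensorProduct.includeRight.toRingHom =
          P'.comap Algebra.TensorProduct.includeRight.toRingHom := by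
        rw [hP']
        exact congr(($hinj).asIdeal)
      have := 𝔓.isPrime
      have h𝔓P' : 𝔓.asIdeal = P' :=
        Ideal.eq_of_comap_eq_comap_of_bijective_residueFieldMap hbij 𝔓.asIdeal P' hcomap
      change e ∉ 𝔓.asIdeal
      rw [h𝔓P']
      exact heP'

end Groth.Agent.Lib.Helper20.EtSplit
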