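import Mathlib

set_option autoImplicit false
universe u

open TensorProduct

namespace Groth.Agent.Lib.Helper20.EtSplit

/-- `R × (Fin n → R) ≃ₐ[R] (Fin (n+1) → R)` -/
def consAlgEquiv (R : Type*) [CommRing R] (n : ℕ) : (R × (Fin n → R)) ≃ₐ[R] (Fin (n + 1) → R) where
  toFun x := Fin.cons x.1 x.2
  invFun f := (f 0, Fin.tail f)
  left_inv x := by simp
  right_inv f := by simp
  map_mul' x y := by
    funext i
    refine Fin.cases ?_ (fun j => ?_) i <;> simp
  map_add' x y := by
    funext i
    refine Fin.cases ?_ (fun j => ?_) i <;> simp
  commutes' r := by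
    funext i
    refine Fin.cases ?_ (fun j => ?_) i <;> simp [Algebra.algebraMap_eq_smul_one]

theorem exists_etale_split : ∀ (n : ℕ) (A B : Type u) [CommRing A] [CommRing B] [Algebra A B]
    [Module.Finite A B] [Algebra.Etale A B] (p : PrimeSpectrum A),
    Module.rankAtStalk B p = n →
    ∃ (R' : Type u) (_ : CommRing R') (_ : Algebra A R') (_ : Algebra.Etale A R')
      (P : PrimeSpectrum R'), P.comap (algebraMap A R') = p ∧
        Nonempty (R' ⊗[A] B ≃ₐ[R'] (Fin n → R')) := by
  intro n
  induction n with
  | zero =>
    intro A B _ _ _ _ _ p hrank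
    have hflat : Module.Flat A B := inferInstance
    have hns : p ∉ Module.support A B := by
      rwa [← Module.rankAtStalk_eq_zero_iff_notMem_support]
    rw [Module.mem_support_iff_of_finite, SetLike.not_le_iff_exists] at hns
    obtain ⟨f, hfann, hfp⟩ := hns
    have hpf : p ∈ Set.range (PrimeSpectrum.comap (algebraMap A (Localization.Away f))) := by
      rw [PrimeSpectrum.localization_away_comap_range (Localization.Away f) f]
      exact hfp
    obtain ⟨P, hP⟩ := hpf
    refine ⟨Localization.Away f, inferInstance, inferInstance, inferInstance, P, hP, ?_⟩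
    have hsub : Subsingleton (Localization.Away f ⊗[A] B) := by
      have hunit : IsUnit (algebraMap A (Localization.Away f) f) :=
        IsLocalization.Away.algebraMap_isUnit f
      obtain ⟨v, hv⟩ := hunit.exists_right_inv
      have h1 : (1 : Localization.Away f ⊗[A] B) = 0 := by
        rw [Algebra.TensorProduct.one_def]
        have : (1 : Localization.Away f) = f • v := by
          rw [Algebra.smul_def, hv]
        rw [this, TensorProduct.smul_tmul]
        have hf1 : f • (1 : B) = 0 := Module.mem_annihilator.mp hfann 1
        rw [hf1, TensorProduct.tmul_zero]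
      exact subsingleton_of_zero_eq_one h1.symm
    exact ⟨{ toFun := fun _ => 0
             invFun := fun _ => 0
             left_inv := fun _ => Subsingleton.elim _ _
             right_inv := fun _ => Subsingleton.elim _ _
             map_mul' := fun _ _ => Subsingleton.elim _ _
             map_add' := fun _ _ => Subsingleton.elim _ _
             commutes' := fun _ => Subsingleton.elim _ _ }⟩
  | succ n ih =>
    intro A B _ _ _ _ _ p hrank
    have hflat : Module.Flat A B := inferInstance
    -- a prime of `B` over `p`
    have hs : p ∈ Module.support A B := by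
      rw [← Module.rankAtStalk_pos_iff_mem_support, hrank]
      exact Nat.succ_pos n
    rw [Module.mem_support_iff_of_finite] at hs
    have hker : RingHom.ker (algebraMap A B) ≤ p.asIdeal := by
      refine le_trans ?_ hs
      intro a ha
      rw [Module.mem_annihilator]
      intro b
      rw [Algebra.smul_def, (RingHom.mem_ker).mp ha, zero_mul]
    have hint : Algebra.IsIntegral A B := inferInstance
    obtain ⟨q, -, hqprime, hq⟩ := Ideal.exists_ideal_over_prime_of_isIntegral p.asIdeal
      (⊥ : Ideal B) hker
    let Q : PrimeSpectrum B := ⟨q, hqprime⟩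
    have hQ : Q.comap (algebraMap A B) = p := PrimeSpectrum.ext hq
    have hnt : Nontrivial B := ⟨⟨0, 1, fun h => hqprime.ne_top (by
      rw [Ideal.eq_top_iff_one, ← h]; exact q.zero_mem)⟩⟩
    -- split off the diagonal
    obtain ⟨T, _, _, ⟨e⟩⟩ := Algebra.FormallyUnramified.exists_algEquiv_prod A B
    have hfinBB : Module.Finite B (B × T) := Module.Finite.equiv e.toLinearEquiv
    have hfinT : Module.Finite B T :=
      Module.Finite.of_surjective (LinearMap.snd B B T) LinearMap.snd_surjective
    have hetBB : Algebra.Etale B (B × T) := Algebra.Etale.of_equiv e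
    have hetT : Algebra.Etale B T := by
      let _ : Algebra (B × T) T := (RingHom.snd B T).toAlgebra
      have : IsScalarTower B (B × T) T := IsScalarTower.of_algebraMap_eq (fun _ => rfl)
      exact Algebra.Etale.comp B (B × T) T
    have hflatT : Module.Flat B T := inferInstance
    have hrankT : Module.rankAtStalk T Q = n := by
      have h1 : Module.rankAtStalk (B ⊗[A] B) Q = n + 1 := by
        rw [Module.rankAtStalk_baseChange, hQ, hrank]
      have h2 : Module.rankAtStalk (B ⊗[A] B) Q = Module.rankAtStalk (B × T) Q := by
        rw [Module.rankAtStalk_eq_of_equiv e.toLinearEquiv]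
      have h3 : Module.rankAtStalk (B × T) Q = Module.rankAtStalk B Q + Module.rankAtStalk T Q := by
        rw [Module.rankAtStalk_prod]; rfl
      have h4 : Module.rankAtStalk B Q = 1 := by
        rw [Module.rankAtStalk_self]; rfl
      omega
    obtain ⟨R', _, _, hetR', P, hP, ⟨φ⟩⟩ := ih B T Q hrankT
    let _ : Algebra A R' := ((algebraMap B R').comp (algebraMap A B)).toAlgebra
    have : IsScalarTower A B R' := IsScalarTower.of_algebraMap_eq (fun _ => rfl)
    have hetAR' : Algebra.Etale A R' := Algebra.Etale.comp A B R'
    refine ⟨R', inferInstance, inferInstance, hetAR', P, ?_, ?_⟩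
    · rw [← hQ, ← hP]
      rfl
    · exact ⟨(Algebra.TensorProduct.cancelBaseChange A B R' R' B).symm.trans <|
        (Algebra.TensorProduct.congr AlgEquiv.refl e).trans <|
        (Algebra.TensorProduct.prodRight B R' R' B T).trans <|
        (AlgEquiv.prodCongr (Algebra.TensorProduct.rid B R' R') φ).trans <|
        consAlgEquiv R' n⟩

end Groth.Agent.Lib.Helper20.EtSplit
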