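import Mathlib
import Groth.Agent.Lib.Helper20EtSplit

set_option autoImplicit false
universe u

open CategoryTheory CategoryTheory.Limits AlgebraicGeometry TensorProduct

namespace Groth.Agent.Lib.Helper20.EtSplit

/-- the pullback square for a finite étale algebra split by `R'` -/
theorem isPullback_of_affine {X S : Scheme.{u}} (f : X ⟶ S) {S₀ : S.Opens} (hS₀ : IsAffineOpen S₀)
    (hX₀ : IsAffineOpen (f ⁻¹ᵁ S₀)) :
    IsPullback hX₀.fromSpec (Spec.map (f.app S₀)) f hS₀.fromSpec := by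
  refine (IsOpenImmersion.isPullback (Spec.map (f.app S₀)) hX₀.fromSpec hS₀.fromSpec f ?_ ?_).flip
  · have := IsAffineOpen.SpecMap_appLE_fromSpec f hS₀ hX₀ le_rfl
    rw [Scheme.Hom.appLE_eq_app] at this
    exact this.symm
  · rw [hS₀.opensRange_fromSpec, hX₀.opensRange_fromSpec]

end Groth.Agent.Lib.Helper20.EtSplit

namespace Groth.Agent.Lib.Helper20.EtSplit

/-- `Spec` of a ring isomorphism, as an isomorphism of schemes. -/
noncomputable def specIsoOfRingEquiv {R₁ R₂ : Type u} [CommRing R₁] [CommRing R₂] (e : R₁ ≃+* R₂) :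
    Spec (CommRingCat.of R₂) ≅ Spec (CommRingCat.of R₁) where
  hom := Spec.map (CommRingCat.ofHom e.toRingHom)
  inv := Spec.map (CommRingCat.ofHom e.symm.toRingHom)
  hom_inv_id := by
    rw [← Spec.map_comp, ← CommRingCat.ofHom_comp]
    have : e.toRingHom.comp e.symm.toRingHom = RingHom.id R₂ := by
      ext x; simp
    rw [this]
    exact Spec.map_id _
  inv_hom_id := by
    rw [← Spec.map_comp, ← CommRingCat.ofHom_comp]
    have : e.symm.toRingHom.comp e.toRingHom = RingHom.id R₁ := by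
      ext x; simp
    rw [this]
    exact Spec.map_id _

/-- If `T` is an `R`-algebra isomorphic to `Fin n → R`, then `Spec T` is the disjoint union of `n`
copies of `Spec R`, compatibly with the projection to `Spec R`. -/
theorem exists_iso_sigma_of_algEquiv {R T : Type u} [CommRing R] [CommRing T] [Algebra R T] (n : ℕ)
    (ψ : T ≃ₐ[R] (Fin n → R)) :
    ∃ θ : (∐ fun _ : Fin n => Spec (CommRingCat.of R)) ≅ Spec (CommRingCat.of T),
      θ.hom ≫ Spec.map (CommRingCat.ofHom (algebraMap R T)) =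
        Limits.Sigma.desc fun _ => 𝟙 (Spec (CommRingCat.of R)) := by
  let ι' := ULift.{u} (Fin n)
  let ψ' : T ≃ₐ[R] (ι' → R) :=
    ψ.trans (AlgEquiv.piCongrLeft' R (fun _ : Fin n => R) Equiv.ulift.symm)
  let Rs : ι' → CommRingCat.{u} := fun _ => CommRingCat.of R
  let θ₁ : (∐ fun i : ι' => Spec (Rs i)) ≅ Spec (CommRingCat.of (Π i, Rs i)) :=
    asIso (sigmaSpec Rs)
  let iso2 : Spec (CommRingCat.of (ι' → R)) ≅ Spec (CommRingCat.of T) :=
    specIsoOfRingEquiv ψ'.toRingEquiv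
  let reidx : (∐ fun _ : ι' => Spec (CommRingCat.of R)) ≅ ∐ fun _ : Fin n => Spec (CommRingCat.of R) :=
    Sigma.reindex Equiv.ulift (fun _ : Fin n => Spec (CommRingCat.of R))
  refine ⟨reidx.symm ≪≫ θ₁ ≪≫ iso2, ?_⟩
  apply Limits.Sigma.hom_ext
  intro j
  rw [Limits.Sigma.ι_desc]
  have h1 : Sigma.ι (fun _ : Fin n => Spec (CommRingCat.of R)) j ≫ reidx.inv =
      Sigma.ι (fun _ : ι' => Spec (CommRingCat.of R)) ⟨j⟩ :=
    Sigma.ι_reindex_inv Equiv.ulift (fun _ : Fin n => Spec (CommRingCat.of R)) ⟨j⟩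
  have h2 : Sigma.ι (fun i : ι' => Spec (Rs i)) ⟨j⟩ ≫ θ₁.hom =
      Spec.map (CommRingCat.ofHom (Pi.evalRingHom _ ⟨j⟩)) := ι_sigmaSpec Rs ⟨j⟩
  have h3 : (Pi.evalRingHom (fun _ : ι' => R) ⟨j⟩).comp
      (ψ'.toRingEquiv.toRingHom.comp (algebraMap R T)) = RingHom.id R := by
    ext r
    change ψ' (algebraMap R T r) ⟨j⟩ = r
    rw [ψ'.commutes]
    rfl
  change Sigma.ι (fun _ : Fin n => Spec (CommRingCat.of R)) j ≫
    (reidx.inv ≫ θ₁.hom ≫ iso2.hom) ≫ Spec.map (CommRingCat.ofHom (algebraMap R T)) = _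
  rw [Category.assoc, Category.assoc, ← Category.assoc, h1]
  change (Sigma.ι (fun i : ι' => Spec (Rs i)) ⟨j⟩ ≫ θ₁.hom ≫ iso2.hom ≫ _) = _
  rw [← Category.assoc, h2]
  change Spec.map (CommRingCat.ofHom (Pi.evalRingHom _ ⟨j⟩)) ≫
    Spec.map (CommRingCat.ofHom ψ'.toRingEquiv.toRingHom) ≫
    Spec.map (CommRingCat.ofHom (algebraMap R T)) = _
  rw [← Spec.map_comp, ← Spec.map_comp, ← CommRingCat.ofHom_comp, ← CommRingCat.ofHom_comp]
  rw [h3]
  exact Spec.map_id _

theorem exists_isPullback_sigma {X S : Scheme.{u}} (f : X ⟶ S) [IsFinite f] [Etale f] (s : S) :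
    ∃ (R' : CommRingCat.{u}) (g : Spec R' ⟶ S) (_ : Etale g) (u : Spec R') (_ : g u = s) (n : ℕ)
      (top : (∐ fun _ : Fin n => Spec R') ⟶ X),
      IsPullback top (Limits.Sigma.desc fun _ => 𝟙 (Spec R')) f g := by
  obtain ⟨S₀, hS₀, hs, -⟩ := exists_isAffineOpen_mem_and_subset (x := s) (U := ⊤) trivial
  have hX₀ : IsAffineOpen (f ⁻¹ᵁ S₀) := hS₀.preimage f
  let A := Γ(S, S₀)
  let B := Γ(X, f ⁻¹ᵁ S₀)
  let _ : Algebra A B := (f.app S₀).hom.toAlgebra
  have hfin : Module.Finite A B := f.finite_app S₀ hS₀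
  have het : Algebra.Etale A B := by
    have := f.etale_appLE hS₀ hX₀ le_rfl
    rw [Scheme.Hom.appLE_eq_app] at this
    exact this
  let p : PrimeSpectrum A := hS₀.primeIdealOf ⟨s, hs⟩
  obtain ⟨R', _, _, hetR', P, hP, ⟨ψ⟩⟩ := exists_etale_split _ A B p rfl
  let g : Spec (CommRingCat.of R') ⟶ S :=
    Spec.map (CommRingCat.ofHom (algebraMap A R')) ≫ hS₀.fromSpec
  have hg : Etale g := by
    have : Etale (Spec.map (CommRingCat.ofHom (algebraMap A R'))) := by
      rw [HasRingHomProperty.Spec_iff (P := @Etale)]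
      exact RingHom.etale_algebraMap.mpr hetR'
    infer_instance
  have hgu : g P = s := by
    change hS₀.fromSpec (Spec.map (CommRingCat.ofHom (algebraMap A R')) P) = s
    have : Spec.map (CommRingCat.ofHom (algebraMap A R')) P = p := hP
    rw [this]
    exact hS₀.fromSpec_primeIdealOf ⟨s, hs⟩
  obtain ⟨θ, hθ⟩ := exists_iso_sigma_of_algEquiv _ ψ
  -- the big pullback square
  have sq1 := isPullback_of_affine f hS₀ hX₀
  have sq2 := (isPullback_SpecMap_of_isPushout _ _ _ _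
    (CommRingCat.isPushout_tensorProduct A R' B)).flip
  have big := sq2.paste_horiz sq1
  refine ⟨CommRingCat.of R', g, hg, P, hgu, _, θ.hom ≫
    Spec.map (CommRingCat.ofHom (Algebra.TensorProduct.includeRight (R := A) (A := R') (B := B)).toRingHom)
      ≫ hX₀.fromSpec, ?_⟩
  rw [← hθ]
  exact IsPullback.of_iso big θ.symm (Iso.refl _) (Iso.refl _) (Iso.refl _)
    (by simp) (by simp) (by simp) (by simp; rfl)

end Groth.Agent.Lib.Helper20.EtSplit
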