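import Mathlib
import Groth.Agent.Lib.Helper20EtSplitSch
import Groth.Agent.Lib.Helper20EtFinPart

set_option autoImplicit false
universe u

open CategoryTheory CategoryTheory.Limits AlgebraicGeometry

namespace Groth.Agent.Lib.Helper20.EtSections

variable {X S : Scheme.{u}} (f : X ⟶ S)

/-- Sections of `X_U ⟶ U` through all points over `u` that map into `T`. -/
def SectionData {U : Scheme.{u}} (g : U ⟶ S) (u : U) (T : Set X) : Prop :=
  ∃ (K : Type) (_ : Finite K) (lab : K → X) (V : K → (pullback f g).Opens),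
    (∀ k, IsIso ((V k).ι ≫ pullback.snd f g)) ∧
    (∀ k k' w, w ∈ V k → w ∈ V k' → pullback.snd f g w = u → k = k') ∧
    (∀ w, pullback.snd f g w = u → pullback.fst f g w ∈ T →
      ∃ k, lab k = pullback.fst f g w ∧ w ∈ V k) ∧
    (∀ k w, w ∈ V k → pullback.snd f g w = u → pullback.fst f g w = lab k ∧ lab k ∈ T)

def HasSections (s : S) (T : Set X) : Prop :=
  ∃ (U : Scheme.{u}) (g : U ⟶ S) (u : U), Etale g ∧ g u = s ∧ SectionData f g u T

/-- the base change map `X_{U'} ⟶ X_U` -/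
noncomputable def bcMap {U U' : Scheme.{u}} (g : U ⟶ S) (h : U' ⟶ U) :
    pullback f (h ≫ g) ⟶ pullback f g :=
  pullback.lift (pullback.fst f (h ≫ g)) (pullback.snd f (h ≫ g) ≫ h)
    (by rw [pullback.condition, Category.assoc])

@[reassoc]
theorem bcMap_fst {U U' : Scheme.{u}} (g : U ⟶ S) (h : U' ⟶ U) :
    bcMap f g h ≫ pullback.fst f g = pullback.fst f (h ≫ g) := pullback.lift_fst _ _ _

@[reassoc]
theorem bcMap_snd {U U' : Scheme.{u}} (g : U ⟶ S) (h : U' ⟶ U) :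
    bcMap f g h ≫ pullback.snd f g = pullback.snd f (h ≫ g) ≫ h := pullback.lift_snd _ _ _

theorem isPullback_bcMap {U U' : Scheme.{u}} (g : U ⟶ S) (h : U' ⟶ U) :
    IsPullback (bcMap f g h) (pullback.snd f (h ≫ g)) (pullback.snd f g) h := by
  refine IsPullback.of_right ?_ (bcMap_snd f g h) (IsPullback.of_hasPullback f g)
  rw [bcMap_fst]
  exact IsPullback.of_hasPullback f (h ≫ g)

theorem bcMap_fst_apply {U U' : Scheme.{u}} (g : U ⟶ S) (h : U' ⟶ U) (w : ↥(pullback f (h ≫ g))) :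
    pullback.fst f g (bcMap f g h w) = pullback.fst f (h ≫ g) w := by
  rw [← Scheme.Hom.comp_apply, bcMap_fst]

theorem bcMap_snd_apply {U U' : Scheme.{u}} (g : U ⟶ S) (h : U' ⟶ U) (w : ↥(pullback f (h ≫ g))) :
    pullback.snd f g (bcMap f g h w) = h (pullback.snd f (h ≫ g) w) := by
  rw [← Scheme.Hom.comp_apply, bcMap_snd, Scheme.Hom.comp_apply]

theorem isIso_preimage_bcMap {U U' : Scheme.{u}} (g : U ⟶ S) (h : U' ⟶ U)
    (V : (pullback f g).Opens) [IsIso (V.ι ≫ pullback.snd f g)] :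
    IsIso (((bcMap f g h) ⁻¹ᵁ V).ι ≫ pullback.snd f (h ≫ g)) :=
  ((isPullback_morphismRestrict (bcMap f g h) V).paste_vert
    (isPullback_bcMap f g h)).isIso_snd_of_isIso

variable {f}

theorem SectionData.baseChange {U U' : Scheme.{u}} {g : U ⟶ S} {u : U} {T : Set X}
    (hd : SectionData f g u T) (h : U' ⟶ U) (u' : U') (hu' : h u' = u) :
    SectionData f (h ≫ g) u' T := by
  obtain ⟨K, hK, lab, V, h1, h2, h3, h4⟩ := hd
  refine ⟨K, hK, lab, fun k => (bcMap f g h) ⁻¹ᵁ V k, ?_, ?_, ?_, ?_⟩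
  · intro k
    have := h1 k
    exact isIso_preimage_bcMap f g h (V k)
  · intro k k' w hw hw' hwu
    refine h2 k k' (bcMap f g h w) hw hw' ?_
    rw [bcMap_snd_apply, hwu, hu']
  · intro w hwu hwT
    obtain ⟨k, hk, hkV⟩ := h3 (bcMap f g h w) (by rw [bcMap_snd_apply, hwu, hu'])
      (by rw [bcMap_fst_apply]; exact hwT)
    refine ⟨k, ?_, hkV⟩
    rw [hk, bcMap_fst_apply]
  · intro k w hw hwu
    have := h4 k (bcMap f g h w) hw (by rw [bcMap_snd_apply, hwu, hu'])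
    rwa [bcMap_fst_apply] at this

theorem hasSections_empty (s : S) : HasSections f s ∅ := by
  refine ⟨S, 𝟙 S, s, inferInstance, rfl, PEmpty, inferInstance, PEmpty.elim, PEmpty.elim, ?_, ?_, ?_, ?_⟩
  · intro k; exact k.elim
  · intro k; exact k.elim
  · intro w _ hw; exact hw.elim
  · intro k; exact k.elim

theorem SectionData.union {U : Scheme.{u}} {g : U ⟶ S} {u : U} {T₁ T₂ : Set X}
    (d₁ : SectionData f g u T₁) (d₂ : SectionData f g u T₂) (hd : Disjoint T₁ T₂) :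
    SectionData f g u (T₁ ∪ T₂) := by
  obtain ⟨K₁, hK₁, lab₁, V₁, a1, a2, a3, a4⟩ := d₁
  obtain ⟨K₂, hK₂, lab₂, V₂, b1, b2, b3, b4⟩ := d₂
  refine ⟨K₁ ⊕ K₂, inferInstance, Sum.elim lab₁ lab₂, Sum.elim V₁ V₂, ?_, ?_, ?_, ?_⟩
  · rintro (k | k)
    · exact a1 k
    · exact b1 k
  · rintro (k | k) (k' | k') w hw hw' hwu
    · rw [a2 k k' w hw hw' hwu]
    · exfalso
      have h1 := a4 k w hw hwu
      have h2 := b4 k' w hw' hwu
      exact Set.disjoint_left.mp hd (h1.1 ▸ h1.2) (h2.1 ▸ h2.2)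
    · exfalso
      have h1 := b4 k w hw hwu
      have h2 := a4 k' w hw' hwu
      exact Set.disjoint_left.mp hd (h2.1 ▸ h2.2) (h1.1 ▸ h1.2)
    · rw [b2 k k' w hw hw' hwu]
  · rintro w hwu (hwT | hwT)
    · obtain ⟨k, hk, hkV⟩ := a3 w hwu hwT
      exact ⟨Sum.inl k, hk, hkV⟩
    · obtain ⟨k, hk, hkV⟩ := b3 w hwu hwT
      exact ⟨Sum.inr k, hk, hkV⟩
  · rintro (k | k) w hw hwu
    · exact ⟨(a4 k w hw hwu).1, Or.inl (a4 k w hw hwu).2⟩
    · exact ⟨(b4 k w hw hwu).1, Or.inr (b4 k w hw hwu).2⟩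

theorem HasSections.union {s : S} {T₁ T₂ : Set X} (h₁ : HasSections f s T₁)
    (h₂ : HasSections f s T₂) (hd : Disjoint T₁ T₂) : HasSections f s (T₁ ∪ T₂) := by
  obtain ⟨U₁, g₁, u₁, hg₁, hu₁, d₁⟩ := h₁
  obtain ⟨U₂, g₂, u₂, hg₂, hu₂, d₂⟩ := h₂
  obtain ⟨u, hu1, hu2⟩ := Scheme.Pullback.exists_preimage_pullback (f := g₁) (g := g₂) u₁ u₂
    (hu₁.trans hu₂.symm)
  have d₁' := d₁.baseChange (pullback.fst g₁ g₂) u hu1
  have d₂' := d₂.baseChange (pullback.snd g₁ g₂) u hu2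
  rw [← pullback.condition] at d₂'
  refine ⟨pullback g₁ g₂, pullback.fst g₁ g₂ ≫ g₁, u, inferInstance, ?_, d₁'.union d₂' hd⟩
  rw [Scheme.Hom.comp_apply, hu1, hu₁]

variable (f) in
/-- the open immersion `W ×_S U ⟶ X ×_S U` -/
noncomputable def openMap (W : X.Opens) {U : Scheme.{u}} (g : U ⟶ S) :
    pullback (W.ι ≫ f) g ⟶ pullback f g :=
  pullback.map (W.ι ≫ f) g f g W.ι (𝟙 U) (𝟙 S) (by simp) (by simp)

instance (W : X.Opens) {U : Scheme.{u}} (g : U ⟶ S) : IsOpenImmersion (openMap f W g) := by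
  unfold openMap; infer_instance

@[reassoc]
theorem openMap_fst (W : X.Opens) {U : Scheme.{u}} (g : U ⟶ S) :
    openMap f W g ≫ pullback.fst f g = pullback.fst (W.ι ≫ f) g ≫ W.ι := pullback.lift_fst _ _ _

@[reassoc]
theorem openMap_snd (W : X.Opens) {U : Scheme.{u}} (g : U ⟶ S) :
    openMap f W g ≫ pullback.snd f g = pullback.snd (W.ι ≫ f) g := by
  unfold openMap
  rw [pullback.lift_snd, Category.comp_id]

theorem openMap_fst_apply (W : X.Opens) {U : Scheme.{u}} (g : U ⟶ S)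
    (w : ↥(pullback (W.ι ≫ f) g)) :
    pullback.fst f g (openMap f W g w) = W.ι (pullback.fst (W.ι ≫ f) g w) := by
  rw [← Scheme.Hom.comp_apply, openMap_fst, Scheme.Hom.comp_apply]

theorem openMap_snd_apply (W : X.Opens) {U : Scheme.{u}} (g : U ⟶ S)
    (w : ↥(pullback (W.ι ≫ f) g)) :
    pullback.snd f g (openMap f W g w) = pullback.snd (W.ι ≫ f) g w := by
  rw [← Scheme.Hom.comp_apply, openMap_snd]

theorem mem_range_openMap (W : X.Opens) {U : Scheme.{u}} (g : U ⟶ S) (w : ↥(pullback f g))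
    (hw : pullback.fst f g w ∈ W) : w ∈ Set.range (openMap f W g) := by
  unfold openMap
  rw [Scheme.Pullback.range_map]
  refine ⟨?_, by simp⟩
  change pullback.fst f g w ∈ Set.range W.ι
  rw [Scheme.Opens.range_ι]
  exact hw

theorem SectionData.ofOpen (W : X.Opens) {U : Scheme.{u}} {g : U ⟶ S} {u : U} {T' : Set W}
    (d : SectionData (W.ι ≫ f) g u T') : SectionData f g u (W.ι '' T') := by
  obtain ⟨K, hK, lab, V, a1, a2, a3, a4⟩ := d
  refine ⟨K, hK, fun k => W.ι (lab k), fun k => (openMap f W g) ''ᵁ V k, ?_, ?_, ?_, ?_⟩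
  · intro k
    have := a1 k
    have e : ((openMap f W g) ''ᵁ V k).ι ≫ pullback.snd f g =
        ((openMap f W g).isoImage (V k)).inv ≫ (V k).ι ≫ pullback.snd (W.ι ≫ f) g := by
      rw [← Scheme.Hom.isoImage_inv_ι, Category.assoc, Category.assoc, openMap_snd]
    rw [e]
    infer_instance
  · rintro k k' _ ⟨w, hw, rfl⟩ ⟨w', hw', hww'⟩ hwu
    have : w' = w := (openMap f W g).isOpenEmbedding.injective hww'
    subst this
    replace hwu : pullback.snd f g (openMap f W g w') = u := hwu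
    exact a2 k k' w' hw hw' (by rwa [openMap_snd_apply] at hwu)
  · rintro w hwu ⟨t, htT, htw⟩
    have hwW : pullback.fst f g w ∈ W := by
      rw [← htw]
      have : W.ι t ∈ Set.range W.ι := ⟨t, rfl⟩
      rwa [Scheme.Opens.range_ι] at this
    obtain ⟨w', rfl⟩ := mem_range_openMap W g w hwW
    rw [openMap_snd_apply] at hwu
    rw [openMap_fst_apply] at htw
    have ht : pullback.fst (W.ι ≫ f) g w' = t := (W.ι.isOpenEmbedding.injective htw).symm
    obtain ⟨k, hk, hkV⟩ := a3 w' hwu (by rw [ht]; exact htT)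
    refine ⟨k, ?_, ⟨w', hkV, rfl⟩⟩
    change W.ι (lab k) = _
    rw [hk, openMap_fst_apply]
  · rintro k _ ⟨w, hw, rfl⟩ hwu
    replace hwu : pullback.snd f g (openMap f W g w) = u := hwu
    rw [openMap_snd_apply] at hwu
    obtain ⟨h1, h2⟩ := a4 k w hw hwu
    refine ⟨?_, ⟨lab k, h2, rfl⟩⟩
    change pullback.fst f g (openMap f W g w) = _
    rw [openMap_fst_apply, h1]

theorem HasSections.ofOpen (W : X.Opens) {s : S} {T' : Set W}
    (h : HasSections (W.ι ≫ f) s T') : HasSections f s (W.ι '' T') := by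
  obtain ⟨U, g, u, hg, hu, d⟩ := h
  exact ⟨U, g, u, hg, hu, d.ofOpen W⟩

end Groth.Agent.Lib.Helper20.EtSections
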