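import Mathlib
import Groth.Agent.Lib.Helper20EtSections

set_option autoImplicit false
universe u

open CategoryTheory CategoryTheory.Limits AlgebraicGeometry

namespace Groth.Agent.Lib.Helper20.EtSections

theorem locallyQuasiFinite_of_etale {X S : Scheme.{u}} (f : X ⟶ S) [Etale f] :
    LocallyQuasiFinite f := by
  constructor
  intro U hU V hV e
  have h1 := f.etale_appLE hU hV e
  algebraize [(f.appLE U V e).hom]
  have : Algebra.Etale Γ(S, U) Γ(X, V) := h1
  exact RingHom.quasiFinite_algebraMap.mpr inferInstance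

theorem hasSections_singleton_of_etale {X S : Scheme.{u}} (f : X ⟶ S) [Etale f] (x : X) :
    HasSections f (f x) {x} := by
  have hqf := locallyQuasiFinite_of_etale f
  obtain ⟨U₁, g₁, u₁, hg₁, hu₁, V₁, hfin, hV₁⟩ :=
    Groth.Agent.Lib.Helper20.EtSplit.exists_etale_finite_part f (x := x) rfl (f.quasiFiniteAt x)
  have het : Etale (V₁.ι ≫ pullback.snd f g₁) := inferInstance
  obtain ⟨R'', g₂, hg₂, u₂, hu₂, n, top, hpb⟩ :=
    Groth.Agent.Lib.Helper20.EtSplit.exists_isPullback_sigma (V₁.ι ≫ pullback.snd f g₁) u₁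
  let m := bcMap f g₁ g₂
  have hcomm : (top ≫ V₁.ι) ≫ pullback.snd f g₁ =
      (Limits.Sigma.desc fun _ : Fin n => 𝟙 (Spec R'')) ≫ g₂ := by
    rw [Category.assoc]; exact hpb.w
  let j : (∐ fun _ : Fin n => Spec R'') ⟶ pullback f (g₂ ≫ g₁) :=
    (isPullback_bcMap f g₁ g₂).lift (top ≫ V₁.ι) (Limits.Sigma.desc fun _ => 𝟙 (Spec R'')) hcomm
  have hj1 : j ≫ m = top ≫ V₁.ι := (isPullback_bcMap f g₁ g₂).lift_fst _ _ _
  have hj2 : j ≫ pullback.snd f (g₂ ≫ g₁) = Limits.Sigma.desc fun _ => 𝟙 (Spec R'') :=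
    (isPullback_bcMap f g₁ g₂).lift_snd _ _ _
  have sq : IsPullback j top m V₁.ι := by
    refine IsPullback.of_right ?_ hj1 (isPullback_bcMap f g₁ g₂).flip
    rw [hj2]
    exact hpb.flip
  have hjoi : IsOpenImmersion j :=
    MorphismProperty.of_isPullback (P := @IsOpenImmersion) sq.flip inferInstance
  have hjrange : ∀ w : ↥(pullback f (g₂ ≫ g₁)), w ∈ Set.range j ↔ m w ∈ V₁ := by
    intro w
    have h1 : Set.range j = Set.range (pullback.fst m V₁.ι) := by
      rw [← sq.isoPullback_hom_fst]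
      simp only [Scheme.Hom.comp_base, TopCat.hom_comp, ContinuousMap.coe_comp]
      rw [Set.range_comp]
      have hsurj : Set.range ⇑(TopCat.Hom.hom sq.isoPullback.hom.base) = Set.univ :=
        Set.range_eq_univ.mpr sq.isoPullback.hom.homeomorph.surjective
      rw [hsurj, Set.image_univ]
    rw [h1, Scheme.Pullback.range_fst, Set.mem_preimage, Scheme.Opens.range_ι]
    rfl
  -- membership in `V₁` of `m w` for points over `u₂`
  have hmV : ∀ w : ↥(pullback f (g₂ ≫ g₁)), pullback.snd f (g₂ ≫ g₁) w = u₂ →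
      (m w ∈ V₁ ↔ pullback.fst f (g₂ ≫ g₁) w = x) := by
    intro w hw
    have h1 : pullback.snd f g₁ (m w) = u₁ := by
      rw [bcMap_snd_apply, hw, hu₂]
    rw [hV₁ (m w) h1, bcMap_fst_apply]
  let φ : Fin n → ((Spec R'') ⟶ pullback f (g₂ ≫ g₁)) := fun k =>
    Limits.Sigma.ι (fun _ : Fin n => Spec R'') k ≫ j
  have hφsnd : ∀ k, φ k ≫ pullback.snd f (g₂ ≫ g₁) = 𝟙 _ := by
    intro k
    change (Limits.Sigma.ι (fun _ : Fin n => Spec R'') k ≫ j) ≫ _ = _
    rw [Category.assoc, hj2, Limits.Sigma.ι_desc]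
  have hφoi : ∀ k, IsOpenImmersion (φ k) := fun k => inferInstance
  refine ⟨Spec R'', g₂ ≫ g₁, u₂, inferInstance, ?_, Fin n, inferInstance, fun _ => x,
    fun k => (φ k).opensRange, ?_, ?_, ?_, ?_⟩
  · rw [Scheme.Hom.comp_apply, hu₂, hu₁]
  · intro k
    rw [← (φ k).isoOpensRange_inv_comp, Category.assoc, hφsnd, Category.comp_id]
    infer_instance
  · rintro k k' w ⟨a, rfl⟩ ⟨a', ha'⟩ -
    have h1 : Limits.Sigma.ι (fun _ : Fin n => Spec R'') k' a' =
        Limits.Sigma.ι (fun _ : Fin n => Spec R'') k a := by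
      apply j.isOpenEmbedding.injective
      exact ha'
    have := (sigmaι_eq_iff (fun _ : Fin n => Spec R'') k' k a' a).mp h1
    exact (congrArg Sigma.fst this).symm
  · intro w hw hwx
    have hwx' : pullback.fst f (g₂ ≫ g₁) w = x := hwx
    have hwr : w ∈ Set.range j := (hjrange w).mpr ((hmV w hw).mpr hwx')
    obtain ⟨a, rfl⟩ := hwr
    obtain ⟨k, b, rfl⟩ := (sigmaOpenCover (fun _ : Fin n => Spec R'')).exists_eq a
    exact ⟨k, hwx'.symm, ⟨b, rfl⟩⟩
  · rintro k w ⟨b, rfl⟩ hw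
    refine ⟨?_, rfl⟩
    have hr : (φ k) b ∈ Set.range j := ⟨_, rfl⟩
    exact (hmV _ hw).mp ((hjrange _).mp hr)

theorem hasSections_singleton {X S : Scheme.{u}} (f : X ⟶ S) (x : X) (W : X.Opens) (hxW : x ∈ W)
    [Etale (W.ι ≫ f)] : HasSections f (f x) {x} := by
  have hxr : x ∈ Set.range W.ι := by rw [Scheme.Opens.range_ι]; exact hxW
  obtain ⟨x', rfl⟩ := hxr
  have h1 := (hasSections_singleton_of_etale (W.ι ≫ f) x').ofOpen W
  rw [Set.image_singleton] at h1
  exact h1

theorem hasSections_of_finite {X S : Scheme.{u}} (f : X ⟶ S) (s : S) (T : Set X) (hT : T.Finite)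
    (h : ∀ t ∈ T, f t = s ∧ ∃ W : X.Opens, t ∈ W ∧ Etale (W.ι ≫ f)) : HasSections f s T := by
  induction T, hT using Set.Finite.induction_on with
  | empty => exact hasSections_empty s
  | @insert a T' ha hT' ih =>
    have ih' := ih (fun t ht => h t (Set.mem_insert_of_mem a ht))
    obtain ⟨hfa, W, haW, hW⟩ := h a (Set.mem_insert a T')
    have h1 : HasSections f s {a} := by
      rw [← hfa]
      exact hasSections_singleton f a W haW
    have := h1.union ih' (Set.disjoint_singleton_left.mpr ha)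
    rwa [Set.singleton_union] at this

end Groth.Agent.Lib.Helper20.EtSections
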