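import Mathlib

set_option autoImplicit false
open CategoryTheory CategoryTheory.Limits AlgebraicGeometry Opposite TopologicalSpace
universe u

namespace Groth.Agent.Lib.Helper20.FinHom

theorem finite_isClopen (α : Type*) [TopologicalSpace α] [NoetherianSpace α] :
    {C : Set α | IsClopen C}.Finite := by
  have hfin : (irreducibleComponents α).Finite := NoetherianSpace.finite_irreducibleComponents
  have hpow : (𝒫 (irreducibleComponents α)).Finite := hfin.finite_subsets
  refine Set.Finite.of_finite_image (f := fun C => {Z ∈ irreducibleComponents α | Z ⊆ C}) ?_ ?_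
  · refine hpow.subset ?_
    rintro _ ⟨C, -, rfl⟩
    intro Z hZ
    exact hZ.1
  · intro C hC D hD hCD
    have key : ∀ C : Set α, IsClopen C → C = ⋃₀ {Z ∈ irreducibleComponents α | Z ⊆ C} := by
      intro C hC
      apply Set.Subset.antisymm
      · intro x hx
        refine ⟨irreducibleComponent x, ⟨irreducibleComponent_mem_irreducibleComponents x, ?_⟩,
          mem_irreducibleComponent⟩
        exact isIrreducible_irreducibleComponent.isConnected.isPreconnected.subset_isClopen hC
          ⟨x, mem_irreducibleComponent, hx⟩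
      · rintro x ⟨Z, ⟨-, hZC⟩, hxZ⟩
        exact hZC hxZ
    rw [key C hC, key D hD]
    exact congrArg _ hCD

end Groth.Agent.Lib.Helper20.FinHom

namespace Groth.Agent.Lib.Helper20.FinHom

set_option backward.isDefEq.respectTransparency.types false in
theorem isOpenImmersion_hasOfPostcomp_unramified :
    MorphismProperty.HasOfPostcompProperty @IsOpenImmersion
      (@LocallyOfFiniteType ⊓ @FormallyUnramified) := by
  rw [MorphismProperty.hasOfPostcompProperty_iff_le_diagonal]
  intro X Y f ⟨hft, hfu⟩
  exact inferInstanceAs <| IsOpenImmersion (pullback.diagonal f)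

/-- a section of an unramified morphism is an open immersion -/
theorem isOpenImmersion_of_section {W Y : Scheme.{u}} (p : W ⟶ Y) [FormallyUnramified p]
    [LocallyOfFiniteType p] (s : Y ⟶ W) (hs : s ≫ p = 𝟙 Y) : IsOpenImmersion s := by
  have := isOpenImmersion_hasOfPostcomp_unramified
  refine MorphismProperty.of_postcomp (W := @IsOpenImmersion)
    (W' := @LocallyOfFiniteType ⊓ @FormallyUnramified) s p ⟨‹_›, ‹_›⟩ ?_
  rw [hs]
  exact inferInstanceAs (IsOpenImmersion (𝟙 Y))

/-- a section of a separated morphism is a closed immersion -/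
theorem isClosedImmersion_of_section {W Y : Scheme.{u}} (p : W ⟶ Y) [IsSeparated p]
    (s : Y ⟶ W) (hs : s ≫ p = 𝟙 Y) : IsClosedImmersion s := by
  refine MorphismProperty.of_postcomp (W := @IsClosedImmersion)
    (W' := @IsSeparated) s p ‹_› ?_
  rw [hs]
  exact inferInstanceAs (IsClosedImmersion (𝟙 Y))

/-- open-immersion sections with the same range agree -/
theorem section_ext_of_range_eq {W Y : Scheme.{u}} (p : W ⟶ Y) (s s' : Y ⟶ W)
    [IsOpenImmersion s] (hs : s ≫ p = 𝟙 Y) (hs' : s' ≫ p = 𝟙 Y)
    (hr : Set.range s' ⊆ Set.range s) : s' = s := by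
  have h1 : IsOpenImmersion.lift s s' hr ≫ s = s' := IsOpenImmersion.lift_fac _ _ _
  have h2 : IsOpenImmersion.lift s s' hr = 𝟙 Y := by
    calc IsOpenImmersion.lift s s' hr = IsOpenImmersion.lift s s' hr ≫ s ≫ p := by
          rw [hs, Category.comp_id]
      _ = s' ≫ p := by rw [← Category.assoc, h1]
      _ = 𝟙 Y := hs'
  rw [← h1, h2, Category.id_comp]

theorem finite_sections {W Y : Scheme.{u}} [IsNoetherian W] (p : W ⟶ Y) [FormallyUnramified p]
    [LocallyOfFiniteType p] [IsSeparated p] : Set.Finite {s : Y ⟶ W | s ≫ p = 𝟙 Y} := by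
  refine Set.Finite.of_finite_image (f := fun s : Y ⟶ W => Set.range s) ?_ ?_
  · refine (finite_isClopen W).subset ?_
    rintro _ ⟨s, hs, rfl⟩
    have h1 := isOpenImmersion_of_section p s hs
    have h2 := isClosedImmersion_of_section p s hs
    exact ⟨s.isClosedEmbedding.isClosed_range, s.isOpenEmbedding.isOpen_range⟩
  · intro s hs s' hs' hss'
    have h1 := isOpenImmersion_of_section p s hs
    exact (section_ext_of_range_eq p s s' hs hs' (le_of_eq (Eq.symm hss'))).symm

theorem finite_homs {X S Y : Scheme.{u}} [IsNoetherian Y]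
    (π : X ⟶ S) [FormallyUnramified π] [LocallyOfFiniteType π] [QuasiCompact π] [IsSeparated π]
    (h : Y ⟶ S) : Set.Finite {f : Y ⟶ X | f ≫ π = h} := by
  have hcp : CompactSpace ↥(pullback π h) :=
    QuasiCompact.compactSpace_of_compactSpace (pullback.snd π h)
  have hln : IsLocallyNoetherian (pullback π h) := inferInstance
  have hN : IsNoetherian (pullback π h) := { }
  have hfu : FormallyUnramified (pullback.snd π h) :=
    MorphismProperty.of_isPullback (P := @FormallyUnramified) (IsPullback.of_hasPullback π h) ‹_›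
  have hfin := finite_sections (pullback.snd π h)
  refine (hfin.image (fun s => s ≫ pullback.fst π h)).subset ?_
  intro f hf
  have hf' : f ≫ π = h := hf
  refine ⟨pullback.lift f (𝟙 Y) (by rw [hf', Category.id_comp]), ?_, ?_⟩
  · exact pullback.lift_snd _ _ _
  · exact pullback.lift_fst _ _ _

end Groth.Agent.Lib.Helper20.FinHom
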