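import Mathlib
import Groth.Agent.Lib.Helper20EtSections2
import Groth.Agent.Lib.Helper20FinHom

set_option autoImplicit false
universe u

open CategoryTheory CategoryTheory.Limits AlgebraicGeometry

namespace Groth.Agent.Lib.Helper20.EtSections

/-- An open of `X_U` mapping isomorphically to `U`, with `X_U ⟶ U` separated, is closed; more
precisely it is the range of a section which is a closed immersion. -/
theorem exists_section_of_isIso {Y U : Scheme.{u}} (p : Y ⟶ U) [IsSeparated p] (V : Y.Opens)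
    [IsIso (V.ι ≫ p)] :
    ∃ σ : U ⟶ Y, σ ≫ p = 𝟙 U ∧ IsClosedImmersion σ ∧ Set.range σ = (V : Set Y) := by
  refine ⟨inv (V.ι ≫ p) ≫ V.ι, ?_, ?_, ?_⟩
  · rw [Category.assoc, IsIso.inv_hom_id]
  · apply Groth.Agent.Lib.Helper20.FinHom.isClosedImmersion_of_section p
    rw [Category.assoc, IsIso.inv_hom_id]
  · simp only [Scheme.Hom.comp_base, TopCat.hom_comp, ContinuousMap.coe_comp]
    rw [Set.range_comp]
    have hsurj : Set.range ⇑(TopCat.Hom.hom (inv (V.ι ≫ p)).base) = Set.univ :=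
      Set.range_eq_univ.mpr (inv (V.ι ≫ p)).homeomorph.surjective
    rw [hsurj, Set.image_univ]
    exact Scheme.Opens.range_ι V

theorem HasSections.exists_decomposition {X S : Scheme.{u}} {f : X ⟶ S} [IsSeparated f] {s : S}
    {T : Set X} (h : HasSections f s T) :
    ∃ (U : Scheme.{u}) (g : U ⟶ S) (u : U), Etale g ∧ g u = s ∧
      ∃ (K : Type) (_ : Finite K) (W : (pullback f g).Opens) (V : K → (pullback f g).Opens),
        W ⊔ (⨆ k, V k) = ⊤ ∧ (∀ k, Disjoint W (V k)) ∧ (∀ k k', k ≠ k' → Disjoint (V k) (V k')) ∧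
        (∀ k, IsIso ((V k).ι ≫ pullback.snd f g)) ∧
        (∀ w : ↥(pullback f g), w ∈ W → pullback.snd f g w = u → pullback.fst f g w ∉ T) := by
  obtain ⟨U, g, u, hg, hu, K, hK, lab, V, a1, a2, a3, a4⟩ := h
  have hsec : ∀ k, ∃ σ : U ⟶ pullback f g, σ ≫ pullback.snd f g = 𝟙 U ∧ IsClosedImmersion σ ∧
      Set.range σ = (V k : Set ↥(pullback f g)) := by
    intro k
    have := a1 k
    exact exists_section_of_isIso (pullback.snd f g) (V k)
  choose σ hσ1 hσ2 hσ3 using hsec
  have hVclosed : ∀ k, IsClosed (V k : Set ↥(pullback f g)) := by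
    intro k
    rw [← hσ3 k]
    have := hσ2 k
    exact (σ k).isClosedEmbedding.isClosed_range
  have hσsnd : ∀ k y, pullback.snd f g (σ k y) = y := by
    intro k y
    rw [← Scheme.Hom.comp_apply, hσ1 k]
    rfl
  -- the good open of `U`
  have hopen : IsOpen {y : U | ∀ k k', k ≠ k' → σ k y ∉ V k'} := by
    have : {y : U | ∀ k k', k ≠ k' → σ k y ∉ V k'} =
        ⋂ (p : K × K), {y : U | p.1 ≠ p.2 → σ p.1 y ∉ V p.2} := by
      ext y
      simp only [Set.mem_ofPred_eq, Set.mem_iInter, Prod.forall]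
    rw [this]
    apply isOpen_iInter_of_finite
    rintro ⟨k, k'⟩
    by_cases hkk' : k = k'
    · simp [hkk']
    · have : {y : U | (k, k').1 ≠ (k, k').2 → σ (k, k').1 y ∉ V (k, k').2} =
          ((σ k) ⁻¹' (V k' : Set ↥(pullback f g)))ᶜ := by
        ext y
        simp [hkk']
      rw [this]
      exact ((hVclosed k').preimage (σ k).continuous).isOpen_compl
  let U' : U.Opens := ⟨_, hopen⟩
  have huU' : u ∈ U' := by
    intro k k' hkk' hmem
    have h1 : σ k u ∈ V k := by
      have : σ k u ∈ Set.range (σ k) := ⟨u, rfl⟩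
      rwa [hσ3 k] at this
    exact hkk' (a2 k k' (σ k u) h1 hmem (hσsnd k u))
  have hur : u ∈ Set.range U'.ι := by rw [Scheme.Opens.range_ι]; exact huU'
  obtain ⟨u', hu'⟩ := hur
  let m := bcMap f g U'.ι
  let V' : K → (pullback f (U'.ι ≫ g)).Opens := fun k => m ⁻¹ᵁ V k
  have hV'closed : ∀ k, IsClosed (V' k : Set ↥(pullback f (U'.ι ≫ g))) := fun k =>
    (hVclosed k).preimage m.continuous
  have hdisj : ∀ k k', k ≠ k' → Disjoint (V' k) (V' k') := by
    intro k k' hkk'
    rw [disjoint_iff]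
    ext w
    simp only [TopologicalSpace.Opens.coe_inf, Set.mem_inter_iff, SetLike.mem_coe,
      TopologicalSpace.Opens.coe_bot, Set.mem_empty_iff_false, iff_false, not_and]
    intro hw hw'
    have hw1 : m w ∈ V k := hw
    have hw2 : m w ∈ V k' := hw'
    have hy : pullback.snd f g (m w) ∈ U' := by
      rw [bcMap_snd_apply]
      have : U'.ι (pullback.snd f (U'.ι ≫ g) w) ∈ Set.range U'.ι := ⟨_, rfl⟩
      rwa [Scheme.Opens.range_ι] at this
    have hmw : m w ∈ Set.range (σ k) := by rw [hσ3 k]; exact hw1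
    obtain ⟨y, hy'⟩ := hmw
    have hyy : y = pullback.snd f g (m w) := by rw [← hy', hσsnd]
    rw [← hyy] at hy
    exact hy k k' hkk' (by rw [hy']; exact hw2)
  have hWopen : IsOpen (⋃ k, (V' k : Set ↥(pullback f (U'.ι ≫ g))))ᶜ :=
    (isClosed_iUnion_of_finite hV'closed).isOpen_compl
  refine ⟨U', U'.ι ≫ g, u', inferInstance, ?_, K, hK, ⟨_, hWopen⟩, V', ?_, ?_, hdisj, ?_, ?_⟩
  · rw [Scheme.Hom.comp_apply, hu', hu]
  · ext w
    simp only [TopologicalSpace.Opens.coe_sup, TopologicalSpace.Opens.coe_mk,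
      TopologicalSpace.Opens.coe_iSup, TopologicalSpace.Opens.coe_top, Set.mem_univ, iff_true]
    by_cases hw : w ∈ ⋃ k, (V' k : Set ↥(pullback f (U'.ι ≫ g)))
    · exact Or.inr hw
    · exact Or.inl hw
  · intro k
    rw [disjoint_iff]
    ext w
    simp only [TopologicalSpace.Opens.coe_inf, TopologicalSpace.Opens.coe_mk, Set.mem_inter_iff,
      Set.mem_compl_iff, Set.mem_iUnion, SetLike.mem_coe, not_exists,
      TopologicalSpace.Opens.coe_bot, Set.mem_empty_iff_false, iff_false, not_and]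
    intro hw hwk
    exact hw k hwk
  · intro k
    have := a1 k
    exact isIso_preimage_bcMap f g U'.ι (V k)
  · intro w hwW hwu hwT
    have hwW' : w ∉ ⋃ k, (V' k : Set ↥(pullback f (U'.ι ≫ g))) := hwW
    obtain ⟨k, -, hkV⟩ := a3 (m w) (by rw [bcMap_snd_apply, hwu, hu'])
      (by rw [bcMap_fst_apply]; exact hwT)
    exact hwW' (Set.mem_iUnion.mpr ⟨k, hkV⟩)

end Groth.Agent.Lib.Helper20.EtSections
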