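import Mathlib
import Groth.Agent.Lib.Helper20EtSections3

set_option autoImplicit false
set_option linter.unusedSectionVars false
universe u

open CategoryTheory CategoryTheory.Limits AlgebraicGeometry

namespace Groth.Agent.Lib.Helper20.EtSections

variable {X S : Scheme.{u}} (f : X ⟶ S)

/-- Closed-immersion version of `SectionData`: opens `V k` of `X_U` such that `V k ⟶ U` is a closed
immersion through `u`, containing all points over `u` that map into `T`. -/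
def SectionDataCI {U : Scheme.{u}} (g : U ⟶ S) (u : U) (T : Set X) : Prop :=
  ∃ (K : Type) (_ : Finite K) (lab : K → X) (V : K → (pullback f g).Opens),
    (∀ k, IsClosedImmersion ((V k).ι ≫ pullback.snd f g) ∧
      ∃ w : ↥(pullback f g), w ∈ V k ∧ pullback.snd f g w = u) ∧
    (∀ k k' w, w ∈ V k → w ∈ V k' → pullback.snd f g w = u → k = k') ∧
    (∀ w, pullback.snd f g w = u → pullback.fst f g w ∈ T →
      ∃ k, lab k = pullback.fst f g w ∧ w ∈ V k) ∧
    (∀ k w, w ∈ V k → pullback.snd f g w = u → pullback.fst f g w = lab k ∧ lab k ∈ T)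

def HasSectionsCI (s : S) (T : Set X) : Prop :=
  ∃ (U : Scheme.{u}) (g : U ⟶ S) (u : U), Etale g ∧ g u = s ∧ SectionDataCI f g u T

theorem isClosedImmersion_preimage_bcMap {U U' : Scheme.{u}} (g : U ⟶ S) (h : U' ⟶ U)
    (V : (pullback f g).Opens) [IsClosedImmersion (V.ι ≫ pullback.snd f g)] :
    IsClosedImmersion (((bcMap f g h) ⁻¹ᵁ V).ι ≫ pullback.snd f (h ≫ g)) :=
  MorphismProperty.of_isPullback (P := @IsClosedImmersion)
    ((isPullback_morphismRestrict (bcMap f g h) V).paste_vert (isPullback_bcMap f g h)) ‹_›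

theorem exists_bcMap_eq {U U' : Scheme.{u}} (g : U ⟶ S) (h : U' ⟶ U) (w : ↥(pullback f g))
    (u' : U') (hu' : h u' = pullback.snd f g w) :
    ∃ w' : ↥(pullback f (h ≫ g)), bcMap f g h w' = w ∧ pullback.snd f (h ≫ g) w' = u' := by
  obtain ⟨z, hz1, hz2⟩ := Scheme.Pullback.exists_preimage_pullback
    (f := pullback.snd f g) (g := h) w u' hu'.symm
  have sq := isPullback_bcMap f g h
  refine ⟨sq.isoPullback.inv z, ?_, ?_⟩
  · rw [← Scheme.Hom.comp_apply, sq.isoPullback_inv_fst, hz1]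
  · rw [← Scheme.Hom.comp_apply, sq.isoPullback_inv_snd, hz2]

variable {f}

theorem SectionDataCI.baseChange {U U' : Scheme.{u}} {g : U ⟶ S} {u : U} {T : Set X}
    (hd : SectionDataCI f g u T) (h : U' ⟶ U) (u' : U') (hu' : h u' = u) :
    SectionDataCI f (h ≫ g) u' T := by
  obtain ⟨K, hK, lab, V, h1, h2, h3, h4⟩ := hd
  refine ⟨K, hK, lab, fun k => (bcMap f g h) ⁻¹ᵁ V k, ?_, ?_, ?_, ?_⟩
  · intro k
    obtain ⟨hci, w, hwV, hwu⟩ := h1 k
    refine ⟨isClosedImmersion_preimage_bcMap f g h (V k), ?_⟩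
    obtain ⟨w', hw', hw'u⟩ := exists_bcMap_eq f g h w u' (by rw [hu', hwu])
    exact ⟨w', by change bcMap f g h w' ∈ V k; rw [hw']; exact hwV, hw'u⟩
  · intro k k' w hw hw' hwu
    refine h2 k k' (bcMap f g h w) hw hw' ?_
    rw [bcMap_snd_apply, hwu, hu']
  · intro w hwu hwT
    obtain ⟨k, hk, hkV⟩ := h3 (bcMap f g h w) (by rw [bcMap_snd_apply, hwu, hu'])
      (by rw [bcMap_fst_apply]; exact hwT)
    refine ⟨k, ?_, hkV⟩
    rw [hk, bcMap_fst_apply]
  · intro k w hw hwu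
    have := h4 k (bcMap f g h w) hw (by rw [bcMap_snd_apply, hwu, hu'])
    rwa [bcMap_fst_apply] at this

theorem hasSectionsCI_empty (s : S) : HasSectionsCI f s ∅ := by
  refine ⟨S, 𝟙 S, s, inferInstance, rfl, PEmpty, inferInstance, PEmpty.elim, PEmpty.elim,
    ?_, ?_, ?_, ?_⟩
  · intro k; exact k.elim
  · intro k; exact k.elim
  · intro w _ hw; exact hw.elim
  · intro k; exact k.elim

theorem SectionDataCI.union {U : Scheme.{u}} {g : U ⟶ S} {u : U} {T₁ T₂ : Set X}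
    (d₁ : SectionDataCI f g u T₁) (d₂ : SectionDataCI f g u T₂) (hd : Disjoint T₁ T₂) :
    SectionDataCI f g u (T₁ ∪ T₂) := by
  obtain ⟨K₁, hK₁, lab₁, V₁, a1, a2, a3, a4⟩ := d₁
  obtain ⟨K₂, hK₂, lab₂, V₂, b1, b2, b3, b4⟩ := d₂
  refine ⟨K₁ ⊕ K₂, inferInstance, Sum.elim lab₁ lab₂, Sum.elim V₁ V₂, ?_, ?_, ?_, ?_⟩
  · rintro (k | k)
    · exact a1 k
    · exact b1 k
  · rintro (k | k) (k' | k') w hw hw' hwu
    · rw [a2 k k' w hw hw' hwu]
    · exfalso
      have h1 := a4 k w hw hwu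
      have h2 := b4 k' w hw' hwu
      exact Set.disjoint_left.mp hd (h1.1 ▸ h1.2) (h2.1 ▸ h2.2)
    · exfalso
      have h1 := b4 k w hw hwu
      have h2 := a4 k' w hw' hwu
      exact Set.disjoint_left.mp hd (h2.1 ▸ h2.2) (h1.1 ▸ h1.2)
    · rw [b2 k k' w hw hw' hwu]
  · rintro w hwu (hwT | hwT)
    · obtain ⟨k, hk, hkV⟩ := a3 w hwu hwT
      exact ⟨Sum.inl k, hk, hkV⟩
    · obtain ⟨k, hk, hkV⟩ := b3 w hwu hwT
      exact ⟨Sum.inr k, hk, hkV⟩
  · rintro (k | k) w hw hwu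
    · exact ⟨(a4 k w hw hwu).1, Or.inl (a4 k w hw hwu).2⟩
    · exact ⟨(b4 k w hw hwu).1, Or.inr (b4 k w hw hwu).2⟩

theorem HasSectionsCI.union {s : S} {T₁ T₂ : Set X} (h₁ : HasSectionsCI f s T₁)
    (h₂ : HasSectionsCI f s T₂) (hd : Disjoint T₁ T₂) : HasSectionsCI f s (T₁ ∪ T₂) := by
  obtain ⟨U₁, g₁, u₁, hg₁, hu₁, d₁⟩ := h₁
  obtain ⟨U₂, g₂, u₂, hg₂, hu₂, d₂⟩ := h₂
  obtain ⟨u, hu1, hu2⟩ := Scheme.Pullback.exists_preimage_pullback (f := g₁) (g := g₂) u₁ u₂
    (hu₁.trans hu₂.symm)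
  have d₁' := d₁.baseChange (pullback.fst g₁ g₂) u hu1
  have d₂' := d₂.baseChange (pullback.snd g₁ g₂) u hu2
  rw [← pullback.condition] at d₂'
  refine ⟨pullback g₁ g₂, pullback.fst g₁ g₂ ≫ g₁, u, inferInstance, ?_, d₁'.union d₂' hd⟩
  rw [Scheme.Hom.comp_apply, hu1, hu₁]

section OpenImm

variable (f) {W' : Scheme.{u}} (ω : W' ⟶ X) [IsOpenImmersion ω]

/-- the open immersion `W' ×_S U ⟶ X ×_S U` -/
noncomputable def oiMap {U : Scheme.{u}} (g : U ⟶ S) :
    pullback (ω ≫ f) g ⟶ pullback f g :=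
  pullback.map (ω ≫ f) g f g ω (𝟙 U) (𝟙 S) (by simp) (by simp)

instance {U : Scheme.{u}} (g : U ⟶ S) : IsOpenImmersion (oiMap f ω g) := by
  unfold oiMap; infer_instance

@[reassoc]
theorem oiMap_fst {U : Scheme.{u}} (g : U ⟶ S) :
    oiMap f ω g ≫ pullback.fst f g = pullback.fst (ω ≫ f) g ≫ ω := pullback.lift_fst _ _ _

@[reassoc]
theorem oiMap_snd {U : Scheme.{u}} (g : U ⟶ S) :
    oiMap f ω g ≫ pullback.snd f g = pullback.snd (ω ≫ f) g := by
  unfold oiMap
  rw [pullback.lift_snd, Category.comp_id]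

theorem oiMap_fst_apply {U : Scheme.{u}} (g : U ⟶ S) (w : ↥(pullback (ω ≫ f) g)) :
    pullback.fst f g (oiMap f ω g w) = ω (pullback.fst (ω ≫ f) g w) := by
  rw [← Scheme.Hom.comp_apply, oiMap_fst, Scheme.Hom.comp_apply]

theorem oiMap_snd_apply {U : Scheme.{u}} (g : U ⟶ S) (w : ↥(pullback (ω ≫ f) g)) :
    pullback.snd f g (oiMap f ω g w) = pullback.snd (ω ≫ f) g w := by
  rw [← Scheme.Hom.comp_apply, oiMap_snd]

theorem mem_range_oiMap {U : Scheme.{u}} (g : U ⟶ S) (w : ↥(pullback f g))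
    (hw : pullback.fst f g w ∈ Set.range ω) : w ∈ Set.range (oiMap f ω g) := by
  unfold oiMap
  rw [Scheme.Pullback.range_map]
  exact ⟨hw, by simp⟩

variable {f}

theorem SectionDataCI.ofOpenImmersion {U : Scheme.{u}} {g : U ⟶ S} {u : U} {T' : Set W'}
    (d : SectionDataCI (ω ≫ f) g u T') : SectionDataCI f g u (ω '' T') := by
  obtain ⟨K, hK, lab, V, a1, a2, a3, a4⟩ := d
  refine ⟨K, hK, fun k => ω (lab k), fun k => (oiMap f ω g) ''ᵁ V k, ?_, ?_, ?_, ?_⟩
  · intro k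
    obtain ⟨hci, w, hwV, hwu⟩ := a1 k
    have e : ((oiMap f ω g) ''ᵁ V k).ι ≫ pullback.snd f g =
        ((oiMap f ω g).isoImage (V k)).inv ≫ (V k).ι ≫ pullback.snd (ω ≫ f) g := by
      rw [← Scheme.Hom.isoImage_inv_ι, Category.assoc, Category.assoc, oiMap_snd]
    refine ⟨?_, oiMap f ω g w, ⟨w, hwV, rfl⟩, ?_⟩
    · rw [e]
      infer_instance
    · rw [oiMap_snd_apply, hwu]
  · rintro k k' _ ⟨w, hw, rfl⟩ ⟨w', hw', hww'⟩ hwu
    have : w' = w := (oiMap f ω g).isOpenEmbedding.injective hww'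
    subst this
    replace hwu : pullback.snd f g (oiMap f ω g w') = u := hwu
    exact a2 k k' w' hw hw' (by rwa [oiMap_snd_apply] at hwu)
  · rintro w hwu ⟨t, htT, htw⟩
    obtain ⟨w', rfl⟩ := mem_range_oiMap f ω g w ⟨t, htw⟩
    rw [oiMap_snd_apply] at hwu
    rw [oiMap_fst_apply] at htw
    have ht : pullback.fst (ω ≫ f) g w' = t := (ω.isOpenEmbedding.injective htw).symm
    obtain ⟨k, hk, hkV⟩ := a3 w' hwu (by rw [ht]; exact htT)
    refine ⟨k, ?_, ⟨w', hkV, rfl⟩⟩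
    change ω (lab k) = _
    rw [hk, oiMap_fst_apply]
  · rintro k _ ⟨w, hw, rfl⟩ hwu
    replace hwu : pullback.snd f g (oiMap f ω g w) = u := hwu
    rw [oiMap_snd_apply] at hwu
    obtain ⟨h1, h2⟩ := a4 k w hw hwu
    refine ⟨?_, ⟨lab k, h2, rfl⟩⟩
    change pullback.fst f g (oiMap f ω g w) = _
    rw [oiMap_fst_apply, h1]

theorem HasSectionsCI.ofOpenImmersion {s : S} {T' : Set W'}
    (h : HasSectionsCI (ω ≫ f) s T') : HasSectionsCI f s (ω '' T') := by
  obtain ⟨U, g, u, hg, hu, d⟩ := h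
  exact ⟨U, g, u, hg, hu, d.ofOpenImmersion ω⟩

end OpenImm

section ClosedImm

variable {X' : Scheme.{u}} (i : X ⟶ X') (f' : X' ⟶ S) (hi : i ≫ f' = f)

/-- the base change `X ×_S U ⟶ X' ×_S U` of `i` -/
noncomputable def ciMap {U : Scheme.{u}} (g : U ⟶ S) : pullback f g ⟶ pullback f' g :=
  pullback.map f g f' g i (𝟙 U) (𝟙 S) (by simp [hi]) (by simp)

@[reassoc]
theorem ciMap_fst {U : Scheme.{u}} (g : U ⟶ S) :
    ciMap i f' hi g ≫ pullback.fst f' g = pullback.fst f g ≫ i := pullback.lift_fst _ _ _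

@[reassoc]
theorem ciMap_snd {U : Scheme.{u}} (g : U ⟶ S) :
    ciMap i f' hi g ≫ pullback.snd f' g = pullback.snd f g := by
  unfold ciMap
  rw [pullback.lift_snd, Category.comp_id]

theorem ciMap_fst_apply {U : Scheme.{u}} (g : U ⟶ S) (w : ↥(pullback f g)) :
    pullback.fst f' g (ciMap i f' hi g w) = i (pullback.fst f g w) := by
  rw [← Scheme.Hom.comp_apply, ciMap_fst, Scheme.Hom.comp_apply]

theorem ciMap_snd_apply {U : Scheme.{u}} (g : U ⟶ S) (w : ↥(pullback f g)) :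
    pullback.snd f' g (ciMap i f' hi g w) = pullback.snd f g w := by
  rw [← Scheme.Hom.comp_apply, ciMap_snd]

theorem isPullback_ciMap {U : Scheme.{u}} (g : U ⟶ S) :
    IsPullback (ciMap i f' hi g) (pullback.fst f g) (pullback.fst f' g) i := by
  refine IsPullback.of_right ?_ (ciMap_fst i f' hi g) (IsPullback.of_hasPullback f' g).flip
  rw [ciMap_snd]
  subst hi
  exact (IsPullback.of_hasPullback (i ≫ f') g).flip

theorem mem_range_ciMap {U : Scheme.{u}} (g : U ⟶ S) (w : ↥(pullback f' g))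
    (hw : pullback.fst f' g w ∈ Set.range i) : w ∈ Set.range (ciMap i f' hi g) := by
  unfold ciMap
  rw [Scheme.Pullback.range_map]
  exact ⟨hw, by simp⟩

include hi in
theorem SectionData.toCI [IsClosedImmersion i] {U : Scheme.{u}} {g : U ⟶ S} {u : U}
    {T' : Set X'} (hT' : T' ⊆ Set.range i) (d : SectionData f' g u T') :
    SectionDataCI f g u (i ⁻¹' T') := by
  obtain ⟨K, hK, lab, V, a1, a2, a3, a4⟩ := d
  have hci : IsClosedImmersion (ciMap i f' hi g) :=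
    MorphismProperty.of_isPullback (P := @IsClosedImmersion) (isPullback_ciMap i f' hi g).flip ‹_›
  -- the point of `V k` over `u`
  have hpt : ∀ k, ∃ w : ↥(pullback f' g), w ∈ V k ∧ pullback.snd f' g w = u := by
    intro k
    have := a1 k
    refine ⟨(V k).ι ((inv ((V k).ι ≫ pullback.snd f' g)) u), ?_, ?_⟩
    · have : (V k).ι ((inv ((V k).ι ≫ pullback.snd f' g)) u) ∈ Set.range (V k).ι := ⟨_, rfl⟩
      rwa [Scheme.Opens.range_ι] at this
    · rw [← Scheme.Hom.comp_apply, ← Scheme.Hom.comp_apply, IsIso.inv_hom_id]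
      rfl
  have hlab : ∀ k, ∃ t : X, i t = lab k := by
    intro k
    obtain ⟨w, hwV, hwu⟩ := hpt k
    exact hT' (a4 k w hwV hwu).2
  choose lab' hlab' using hlab
  refine ⟨K, hK, lab', fun k => (ciMap i f' hi g) ⁻¹ᵁ V k, ?_, ?_, ?_, ?_⟩
  · intro k
    have := a1 k
    refine ⟨?_, ?_⟩
    · have e : ((ciMap i f' hi g) ⁻¹ᵁ V k).ι ≫ pullback.snd f g =
          (ciMap i f' hi g ∣_ V k) ≫ (V k).ι ≫ pullback.snd f' g := by
        rw [← Category.assoc, morphismRestrict_ι, Category.assoc, ciMap_snd]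
      rw [e]
      infer_instance
    · obtain ⟨w, hwV, hwu⟩ := hpt k
      have hwr : w ∈ Set.range (ciMap i f' hi g) := by
        apply mem_range_ciMap
        rw [(a4 k w hwV hwu).1]
        exact hT' (a4 k w hwV hwu).2
      obtain ⟨w', rfl⟩ := hwr
      exact ⟨w', hwV, by rwa [ciMap_snd_apply] at hwu⟩
  · intro k k' w hw hw' hwu
    exact a2 k k' (ciMap i f' hi g w) hw hw' (by rw [ciMap_snd_apply]; exact hwu)
  · intro w hwu hwT
    obtain ⟨k, hk, hkV⟩ := a3 (ciMap i f' hi g w) (by rw [ciMap_snd_apply]; exact hwu)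
      (by rw [ciMap_fst_apply]; exact hwT)
    refine ⟨k, ?_, hkV⟩
    apply i.isClosedEmbedding.injective
    rw [hlab', hk, ciMap_fst_apply]
  · intro k w hw hwu
    obtain ⟨h1, h2⟩ := a4 k (ciMap i f' hi g w) hw (by rw [ciMap_snd_apply]; exact hwu)
    rw [ciMap_fst_apply] at h1
    refine ⟨?_, ?_⟩
    · apply i.isClosedEmbedding.injective
      rw [hlab', h1]
    · change i (lab' k) ∈ T'
      rw [hlab']
      exact h2

end ClosedImm

end Groth.Agent.Lib.Helper20.EtSections
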