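import Mathlib
import Groth.Agent.Lib.Helper20FlatDescSch
import Groth.Agent.Lib.Helper20BCDescSch
import Groth.Agent.Lib.Helper20EtSectionsCI

set_option autoImplicit false
universe u

open CategoryTheory CategoryTheory.Limits AlgebraicGeometry TensorProduct

namespace Groth.Agent.Lib.Helper20.FlatDesc

open Groth.Agent.Lib.Helper20.EtLocal Groth.Agent.Lib.Helper20.EtSections

instance flat_fromSpecStalk (Y : Scheme.{u}) (y : Y) : Flat (Y.fromSpecStalk y) := by
  obtain ⟨_, ⟨U, hU, rfl⟩, hyU, -⟩ := Y.isBasis_affineOpens.exists_subset_of_mem_open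
    (Set.mem_univ y) isOpen_univ
  rw [← hU.fromSpecStalk_eq_fromSpecStalk hyU]
  delta IsAffineOpen.fromSpecStalk
  have : IsOpenImmersion hU.fromSpec := hU.isOpenImmersion_fromSpec
  have : Flat (Spec.map (Y.presheaf.germ U y hyU)) := by
    rw [HasRingHomProperty.Spec_iff (P := @Flat)]
    let _ := Y.presheaf.algebra_section_stalk ⟨y, hyU⟩
    have := hU.isLocalization_stalk ⟨y, hyU⟩
    have : Module.Flat Γ(Y, U) (Y.presheaf.stalk y) :=
      IsLocalization.flat _ (hU.primeIdealOf ⟨y, hyU⟩).asIdeal.primeCompl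
    exact (RingHom.flat_algebraMap_iff).mpr this
  infer_instance

/-- flatness of `Y'.fromSpecStalk y' ≫ g` from flatness of `g` at `y'`. -/
theorem flat_fromSpecStalk_comp {Y Y' : Scheme.{u}} (g : Y' ⟶ Y) (y' : Y')
    (hg : (g.stalkMap y').hom.Flat) : Flat (Y'.fromSpecStalk y' ≫ g) := by
  rw [← Scheme.SpecMap_stalkMap_fromSpecStalk]
  have : Flat (Spec.map (g.stalkMap y')) := by
    rw [HasRingHomProperty.Spec_iff (P := @Flat)]
    exact hg
  infer_instance

theorem exists_etale_nbhd_of_baseChange_flatAt {X Y Y' : Scheme.{u}} (f : X ⟶ Y)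
    [LocallyOfFinitePresentation f] (g : Y' ⟶ Y) (x' : ↑(pullback f g))
    (hg : (g.stalkMap (pullback.snd f g x')).hom.Flat)
    (U' : (pullback f g).Opens) (hx' : x' ∈ U') [Etale (U'.ι ≫ pullback.snd f g)] :
    ∃ U : X.Opens, pullback.fst f g x' ∈ U ∧ Etale (U.ι ≫ f) := by
  have hflat : Flat (Y'.fromSpecStalk (pullback.snd f g x') ≫ g) := flat_fromSpecStalk_comp g _ hg
  obtain ⟨w₁, hw₁, hw₁'⟩ := exists_bcMap_eq f g (Y'.fromSpecStalk (pullback.snd f g x')) x'
    (IsLocalRing.closedPoint _) Scheme.fromSpecStalk_closedPoint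
  have hE : Etale (((bcMap f g (Y'.fromSpecStalk (pullback.snd f g x'))) ⁻¹ᵁ U').ι ≫
      pullback.snd f (Y'.fromSpecStalk (pullback.snd f g x') ≫ g)) :=
    MorphismProperty.of_isPullback (P := @Etale)
      ((isPullback_morphismRestrict (bcMap f g (Y'.fromSpecStalk (pullback.snd f g x'))) U').paste_vert
        (isPullback_bcMap f g (Y'.fromSpecStalk (pullback.snd f g x')))) ‹_›
  have hmem : w₁ ∈ (bcMap f g (Y'.fromSpecStalk (pullback.snd f g x'))) ⁻¹ᵁ U' := by
    change bcMap f g _ w₁ ∈ U'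
    rw [hw₁]; exact hx'
  have hx : pullback.fst f (Y'.fromSpecStalk (pullback.snd f g x') ≫ g) w₁ =
      pullback.fst f g x' := by
    rw [← bcMap_fst_apply, hw₁]
  rw [← hx]
  apply exists_etale_nbhd
  · apply formallyUnramified_stalkMap_of_flat_baseChange
    exact formallyUnramified_stalkMap_of_nbhd _ w₁ _ hmem
  · apply flat_stalkMap_of_flat_baseChange
    exact flat_stalkMap_of_nbhd _ w₁ _ hmem

end Groth.Agent.Lib.Helper20.FlatDesc
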