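import Mathlib
import Groth.Agent.Lib.Helper12RelXiCore
import Groth.Agent.Lib.Helper12XiFibreC
import Groth.Agent.Lib.Helper1TIBCB
import Groth.Agent.Lib.Helper1Sky9
import Groth.Agent.Lib.Helper2FaithPull
import Groth.Agent.Lib.Helper17HomLift4
import Groth.Agent.Lib.Helper20FlatAtDesc
set_option backward.isDefEq.respectTransparency.types false

/-!
# Vanishing of a morphism along a section: from the fibres to the local base (helper12)
-/

set_option autoImplicit false
set_option linter.style.haveILetI false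
set_option linter.unusedSectionVars false
set_option linter.unusedVariables false
universe u
open CategoryTheory CategoryTheory.Limits AlgebraicGeometry TopologicalSpace Opposite

namespace Groth.Agent.Lib.Helper12.RelXiApp

open Groth.Agent.Lib.Helper1.StalkTensor Groth.Agent.Lib.Helper1.Sky
  Groth.Agent.Lib.Helper12.XiA Groth.Agent.Lib.Helper12.RelXiCore

section transfer

variable {X Y : Scheme.{u}}

/-- vanishing of a pulled back morphism transfers along an equality of composites -/
theorem pullback_map_eq_zero_of_comp {W : Scheme.{u}} (a : W ⟶ Y) (b : Y ⟶ X)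
    {E F : X.Modules} (φ : E ⟶ F) (h : (Scheme.Modules.pullback (a ≫ b)).map φ = 0) :
    (Scheme.Modules.pullback a).map ((Scheme.Modules.pullback b).map φ) = 0 := by
  have e1 := (Scheme.Modules.pullbackComp a b).hom.naturality φ
  simp only [Functor.comp_map] at e1
  rw [← cancel_mono ((Scheme.Modules.pullbackComp a b).hom.app F), e1, h, comp_zero, zero_comp]

theorem pullback_comp_map_eq_zero {W : Scheme.{u}} (a : W ⟶ Y) (b : Y ⟶ X)
    {E F : X.Modules} (φ : E ⟶ F)
    (h : (Scheme.Modules.pullback a).map ((Scheme.Modules.pullback b).map φ) = 0) :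
    (Scheme.Modules.pullback (a ≫ b)).map φ = 0 := by
  have e1 := (Scheme.Modules.pullbackComp a b).hom.naturality φ
  simp only [Functor.comp_map] at e1
  rw [← cancel_epi ((Scheme.Modules.pullbackComp a b).hom.app E), ← e1, h, zero_comp, comp_zero]

theorem pullback_map_eq_zero_of_eq {W : Scheme.{u}} {a a' : W ⟶ X} (e : a = a')
    {E F : X.Modules} (φ : E ⟶ F) (h : (Scheme.Modules.pullback a).map φ = 0) :
    (Scheme.Modules.pullback a').map φ = 0 := by
  subst e
  exact h

end transfer

section lf

variable {X : Scheme.{u}}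

/-- the pullback of a module along a morphism landing in an open on which the module is finite locally
free is finite locally free -/
theorem isFinLocFree_pullback_of_range_subset {T : Scheme.{u}} (h : T ⟶ X) (F : X.Modules)
    (U : X.Opens) (hU : FlatMod.IsFinLocFree (F.restrict U.ι))
    (hrange : Set.range h.base ⊆ (U : Set X)) :
    FlatMod.IsFinLocFree ((Scheme.Modules.pullback h).obj F) := by
  have hr : Set.range h.base ⊆ Set.range U.ι.base := by
    rw [Scheme.Opens.range_ι]
    exact hrange
  let h' : T ⟶ (U : Scheme.{u}) := IsOpenImmersion.lift U.ι h hr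
  have hfac : h' ≫ U.ι = h := IsOpenImmersion.lift_fac U.ι h hr
  have h1 : FlatMod.IsFinLocFree ((Scheme.Modules.pullback U.ι).obj F) :=
    Groth.Agent.Lib.Helper1.FLF.isFinLocFree_of_iso
      ((Scheme.Modules.restrictFunctorIsoPullback U.ι).app F) hU
  have h2 := isFinLocFree_pullback h' _ h1
  let e : (Scheme.Modules.pullback h).obj F ≅
      (Scheme.Modules.pullback h').obj ((Scheme.Modules.pullback U.ι).obj F) :=
    ((Scheme.Modules.pullbackCongr hfac).app F).symm ≪≫
      ((Scheme.Modules.pullbackComp h' U.ι).app F).symm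
  exact Groth.Agent.Lib.Helper1.FLF.isFinLocFree_of_iso e.symm h2

end lf

section main

variable {X S : Scheme.{u}} (f : X ⟶ S) [LocallyOfFiniteType f] [IsLocallyNoetherian S]
  (ξ : S ⟶ X) (hξ : ξ ≫ f = 𝟙 S)
  {k : Type u} [Field k] (t : Spec (CommRingCat.of k) ⟶ S)
  (hsurj : Function.Surjective (Scheme.stalkClosedPointTo t).hom)
  {E F : X.Modules} (hF : Coh.IsCoh F) (hfl : FlatMod.IsFlatOver f F)
  (hlf : LFnear F (ξ.base (t.base (IsLocalRing.closedPoint k))))
  (φ : E ⟶ F) (hφ : (Scheme.Modules.pullback ξ).map φ = 0)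
  (ξ₀ : Spec (CommRingCat.of k) ⟶ pullback f t) (hξ₀ : ξ₀ ≫ pullback.fst f t = t ≫ ξ)
  (hξ₀' : ξ₀ ≫ pullback.snd f t = 𝟙 _)
  (Hfib : ∀ ψ : (Scheme.Modules.pullback (pullback.fst f t)).obj E ⟶
      (Scheme.Modules.pullback (pullback.fst f t)).obj F,
        (Scheme.Modules.pullback ξ₀).map ψ = 0 → ψ = 0)

theorem sm_eq_zero_transport {M N : X.Modules} (φ : M ⟶ N) {x x' : X} (h : x = x')
    (hx : ∀ a : St (toPM M) x, sm (toPMMap φ) x a = 0) (a : St (toPM M) x') :
    sm (toPMMap φ) x' a = 0 := by
  subst h
  exact hx a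

include hξ hsurj hF hfl hlf hφ hξ₀ hξ₀' Hfib in
/-- the stalks of `φ` at the points of the fibre over `t` vanish -/
theorem sm_eq_zero_of_section (z' : ↥(pullback f t))
    (a : St (toPM E) ((pullback.fst f t).base z')) :
    sm (toPMMap φ) ((pullback.fst f t).base z') a = 0 := by
  haveI : F.IsQuasicoherent := hF.1
  haveI : SheafOfModules.IsFiniteType (R := X.ringCatSheaf) F := hF.2
  set s : S := t.base (IsLocalRing.closedPoint k) with hs
  let g : Spec (S.presheaf.stalk s) ⟶ S := S.fromSpecStalk s
  haveI : Flat g := Groth.Agent.Lib.Helper20.FlatDesc.flat_fromSpecStalk S s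
  let Y := pullback f g
  let g' : Y ⟶ X := pullback.fst f g
  letI : Y.Over (Spec (CommRingCat.of ↑(S.presheaf.stalk s))) := ⟨pullback.snd f g⟩
  haveI : IsLocallyNoetherian Y := LocallyOfFiniteType.isLocallyNoetherian (pullback.snd f g)
  let φ₀ : ↑(S.presheaf.stalk s) →+* k := (Scheme.stalkClosedPointTo t).hom
  have hgt : Spec.map (Scheme.stalkClosedPointTo t) ≫ g = t :=
    Scheme.Spec_stalkClosedPointTo_fromSpecStalk t
  let j : pullback f t ⟶ Y :=
    pullback.map f t f g (𝟙 X) (Spec.map (Scheme.stalkClosedPointTo t)) (𝟙 S)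
      (by rw [Category.id_comp, Category.comp_id]) (by rw [Category.comp_id, hgt])
  have hjfst : j ≫ g' = pullback.fst f t := by
    show pullback.map _ _ _ _ _ _ _ _ _ ≫ pullback.fst f g = _
    rw [pullback.lift_fst, Category.comp_id]
  have hjsnd : j ≫ pullback.snd f g =
      pullback.snd f t ≫ Spec.map (Scheme.stalkClosedPointTo t) := by
    show pullback.map _ _ _ _ _ _ _ _ _ ≫ pullback.snd f g = _
    rw [pullback.lift_snd]
  have hsq : IsPullback j (pullback.snd f t) (pullback.snd f g)
      (Spec.map (CommRingCat.ofHom φ₀)) := by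
    have hbig : IsPullback (pullback.fst f t) (pullback.snd f t) f t :=
      IsPullback.of_hasPullback f t
    have hright : IsPullback g' (pullback.snd f g) f g := IsPullback.of_hasPullback f g
    refine IsPullback.of_right ?_ hjsnd hright
    rw [hjfst]
    show IsPullback (pullback.fst f t) (pullback.snd f t) f
      (Spec.map (Scheme.stalkClosedPointTo t) ≫ g)
    rw [hgt]
    exact hbig
  let σ : Spec (CommRingCat.of ↑(S.presheaf.stalk s)) ⟶ Y :=
    pullback.lift (g ≫ ξ) (𝟙 _) (by rw [Category.assoc, hξ, Category.comp_id, Category.id_comp])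
  have hσ : σ ≫ (Y ↘ Spec (CommRingCat.of ↑(S.presheaf.stalk s))) =
      𝟙 (Spec (CommRingCat.of ↑(S.presheaf.stalk s))) := by
    show pullback.lift (g ≫ ξ) (𝟙 _) _ ≫ pullback.snd f g = 𝟙 _
    exact pullback.lift_snd _ _ _
  have hσg' : σ ≫ g' = g ≫ ξ := pullback.lift_fst _ _ _
  have hξ₀j : ξ₀ ≫ j = Spec.map (CommRingCat.ofHom φ₀) ≫ σ := by
    apply pullback.hom_ext
    · rw [Category.assoc, Category.assoc]
      show ξ₀ ≫ j ≫ g' = Spec.map (Scheme.stalkClosedPointTo t) ≫ σ ≫ g'
      rw [hjfst, hξ₀, hσg', ← Category.assoc, hgt]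
    · rw [Category.assoc, Category.assoc, hjsnd, ← Category.assoc, hξ₀', Category.id_comp]
      show _ = Spec.map (Scheme.stalkClosedPointTo t) ≫ σ ≫ pullback.snd f g
      rw [pullback.lift_snd]
      exact (Category.comp_id _).symm
  -- the modules on `Y`
  haveI : ((Scheme.Modules.pullback g').obj F).IsQuasicoherent :=
    Groth.Agent.Lib.Helper2.PullbackSec.isQuasicoherent_pullback g' F
  haveI : SheafOfModules.IsFiniteType (R := Y.ringCatSheaf) ((Scheme.Modules.pullback g').obj F) :=
    Groth.Agent.Lib.Helper20.FormalPull.isFiniteType_pullback g' F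
  have hflY : FlatMod.IsFlatOver (Y ↘ Spec (CommRingCat.of ↑(S.presheaf.stalk s)))
      ((Scheme.Modules.pullback g').obj F) :=
    Groth.Agent.Lib.Helper1.TIBC.isFlatOver_pullback_of_isPullback (IsPullback.of_hasPullback f g) F hfl
  -- local freeness along the section
  have hσF : FlatMod.IsFlatOver (𝟙 (Spec (CommRingCat.of ↑(S.presheaf.stalk s))))
      ((Scheme.Modules.pullback σ).obj ((Scheme.Modules.pullback g').obj F)) := by
    obtain ⟨U, hxU, hU⟩ := hlf
    have hrange : Set.range (g ≫ ξ).base ⊆ (U : Set X) := by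
      rintro _ ⟨b, rfl⟩
      have h1 : g.base b ⤳ s := by
        have : g.base b ∈ Set.range g.base := ⟨b, rfl⟩
        rw [Scheme.range_fromSpecStalk] at this
        exact this
      have h2 : ξ.base (g.base b) ⤳ ξ.base s := h1.map ξ.continuous
      exact h2.mem_open U.isOpen hxU
    have h3 := isFinLocFree_pullback_of_range_subset (g ≫ ξ) F U hU hrange
    let e : (Scheme.Modules.pullback σ).obj ((Scheme.Modules.pullback g').obj F) ≅
        (Scheme.Modules.pullback (g ≫ ξ)).obj F :=
      (Scheme.Modules.pullbackComp σ g').app F ≪≫ (Scheme.Modules.pullbackCongr hσg').app F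
    have h4 := Groth.Agent.Lib.Helper1.FLF.isFinLocFree_of_iso e.symm h3
    have h5 := isFlat_of_isFinLocFree' _ h4
    exact Groth.Agent.Lib.Helper17.HomLift.isFlatOver_of_isFlat _ _ h5
  have hσφ : (Scheme.Modules.pullback σ).map ((Scheme.Modules.pullback g').map φ) = 0 := by
    apply pullback_map_eq_zero_of_comp
    apply pullback_map_eq_zero_of_eq hσg'.symm
    apply pullback_comp_map_eq_zero
    rw [hφ, Functor.map_zero]
  have HfibY : ∀ ψ : (Scheme.Modules.pullback j).obj ((Scheme.Modules.pullback g').obj E) ⟶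
      (Scheme.Modules.pullback j).obj ((Scheme.Modules.pullback g').obj F),
      (Scheme.Modules.pullback ξ₀).map ψ = 0 → ψ = 0 := by
    intro ψ hψ
    let eE : (Scheme.Modules.pullback j).obj ((Scheme.Modules.pullback g').obj E) ≅
        (Scheme.Modules.pullback (pullback.fst f t)).obj E :=
      (Scheme.Modules.pullbackComp j g').app E ≪≫ (Scheme.Modules.pullbackCongr hjfst).app E
    let eF : (Scheme.Modules.pullback j).obj ((Scheme.Modules.pullback g').obj F) ≅
        (Scheme.Modules.pullback (pullback.fst f t)).obj F :=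
      (Scheme.Modules.pullbackComp j g').app F ≪≫ (Scheme.Modules.pullbackCongr hjfst).app F
    have h1 := Hfib (eE.inv ≫ ψ ≫ eF.hom) (by
      rw [Functor.map_comp, Functor.map_comp, hψ, zero_comp, comp_zero])
    have h2 : ψ = eE.hom ≫ (eE.inv ≫ ψ ≫ eF.hom) ≫ eF.inv := by
      simp
    rw [h2, h1, zero_comp, comp_zero]
  have key := sm_eq_zero_of_fibre φ₀ hsurj j (pullback.snd f t) hsq σ hσ ξ₀ hξ₀j hflY hσF
    ((Scheme.Modules.pullback g').map φ) hσφ HfibY z'
  -- descent along the flat morphism `g'`
  have hstalk : (stalkFun (j.base z')).map ((Scheme.Modules.pullback g').map φ) = 0 := by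
    ext a'
    exact key a'
  have hnat := (stalkPullbackIso g' (j.base z')).hom.naturality φ
  simp only [Functor.comp_map] at hnat
  rw [hstalk, zero_comp] at hnat
  have h2 : (ModuleCat.extendScalars.{u, u, u} (g'.stalkMap (j.base z')).hom).map
      ((stalkFun (g'.base (j.base z'))).map φ) = 0 := by
    have h5 := congrArg (fun τ => (stalkPullbackIso g' (j.base z')).inv.app E ≫ τ) hnat
    simp only [comp_zero, Iso.inv_hom_id_app_assoc] at h5
    exact h5.symm
  have h3 := Groth.Agent.Lib.Helper2.FaithPull.eq_zero_of_extendScalars_map_eq_zero g' (j.base z') _ h2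
  have hpt : g'.base (j.base z') = (pullback.fst f t).base z' := by
    rw [← Scheme.Hom.comp_apply, hjfst]
  refine sm_eq_zero_transport φ hpt (fun a'' => ?_) a
  have h4 := congrArg (fun τ => τ.hom a'') h3
  exact h4

end main

end Groth.Agent.Lib.Helper12.RelXiApp
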