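import Mathlib
import Groth.Agent.Lib.Helper12RelXiApp
import Groth.Agent.Lib.Helper23VeryAmple4
import Groth.Agent.Lib.Helper23AmpleIso
import Groth.Agent.Lib.Helper11KPts
import Groth.Agent.Lib.Helper4DevE
import Groth.Agent.Lib.Helper12HilbPolyA
import Groth.Agent.S15267
import Groth.Agent.S15270
set_option backward.isDefEq.respectTransparency.types false

/-!
# Helper lemmas for the relative vanishing theorem along a section (helper12)
-/

set_option autoImplicit false
set_option linter.style.haveILetI false
set_option linter.unusedSectionVars false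
set_option linter.unusedVariables false
universe u
open CategoryTheory CategoryTheory.Limits AlgebraicGeometry TopologicalSpace Opposite

namespace Groth.Agent.Lib.Helper12.RelXiFin

open Groth.Agent.Lib.Helper1.StalkTensor Groth.Agent.Lib.Helper1.Sky
  Groth.Agent.Lib.Helper12.XiA

section ample

/-- the pull-back of `O(1)` to a fibre of a closed subscheme of `P^n_S` over an affine scheme is ample -/
theorem isAmple_pullback_fibre {S X T : Scheme.{u}} (n : ℕ) (i : X ⟶ CohB1.ProjSpaceOver n S)
    [IsClosedImmersion i] (t : T ⟶ S) [IsAffine T] :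
    CohB1.IsAmple ((Scheme.Modules.pullback
      (pullback.fst (i ≫ (CohB1.ProjSpaceOver n S ↘ S)) t ≫ i)).obj (Twist.twistOver n S 1)) := by
  haveI : IsProper (CohB1.ProjSpaceOver.toBase n S) :=
    Groth.Agent.Lib.Helper27ProjSpaceFibres.isProper_toBase n S
  have h1 := Groth.Agent.Lib.Helper23.VeryAmple4.isRelAmple_twistOver n S
  have h2 := Groth.Agent.S2359.result (CohB1.ProjSpaceOver.toBase n S) i i.isEmbedding _ h1
  have h3 := Groth.Agent.S2332.result (i ≫ CohB1.ProjSpaceOver.toBase n S) t _ h2
  have h4 := (Groth.Agent.S4381.result (pullback.snd (i ≫ CohB1.ProjSpaceOver.toBase n S) t) _).1 h3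
  exact Groth.Agent.Lib.Helper23.AmpleIso.isAmple_of_iso
    ((Scheme.Modules.pullbackComp (pullback.fst (i ≫ CohB1.ProjSpaceOver.toBase n S) t) i).app _) h4

end ample

section stalk

variable {X : Scheme.{u}}

/-- if the stalk of `φ` at `x` vanishes then `x` is not in the support of the image of `φ` -/
theorem not_mem_support_image {E F : X.Modules} (φ : E ⟶ F) (x : X)
    (h : ∀ a : St (toPM E) x, sm (toPMMap φ) x a = 0) :
    x ∉ CohB1.support (Abelian.image φ) := by
  intro hx
  apply hx
  refine ⟨fun b c => ?_⟩
  suffices H : ∀ b : St (toPM (Abelian.image φ)) x, b = 0 by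
    exact (H b).trans (H c).symm
  intro b
  haveI : Epi ((stalkFun x).map (Abelian.factorThruImage φ)) := inferInstance
  have hsurj := (ModuleCat.epi_iff_surjective _).1 this
  obtain ⟨a, rfl⟩ := hsurj b
  apply sm_injective_of_mono (Abelian.image.ι φ) x
  have h1 : sm (toPMMap (Abelian.image.ι φ)) x (sm (toPMMap (Abelian.factorThruImage φ)) x a) =
      sm (toPMMap φ) x a := by
    rw [← sm_comp]
    congr 2
    exact congrArg (fun τ => τ.val) (Abelian.image.fac φ)
  have h2 : sm (toPMMap (Abelian.image.ι φ)) x (0 : St (toPM (Abelian.image φ)) x) = 0 := map_zero _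
  exact (h1.trans (h a)).trans h2.symm

end stalk

end Groth.Agent.Lib.Helper12.RelXiFin
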