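import Mathlib
import Groth.Agent.Lib.Helper12MonoFactor
import Groth.Agent.Lib.Helper12PointFactor
import Groth.Agent.Lib.Helper12LocPCases
import Groth.Agent.Lib.Helper12Reduced
import Groth.Agent.Lib.Helper12FieldBC
import Groth.Agent.S10369
import Groth.Agent.S9874
import Groth.Agent.S9927

set_option autoImplicit false
universe u
open CategoryTheory CategoryTheory.Limits AlgebraicGeometry Opposite
open AlgSp

namespace Groth.Agent.Lib.Helper12.ResidualFactor

variable {S : Scheme.{u}}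

/-- the spectrum of a field has the identity as a flat, lfp, surjective field point. -/
lemma hasFieldPoint_yon (K : Type u) [Field K] (str : Spec (CommRingCat.of K) ⟶ S) :
    ∃ (k : Type u) (_ : Field k) (str' : Spec (CommRingCat.of k) ⟶ S)
      (p' : (AlgSp.yon S).obj (Over.mk str') ⟶ (AlgSp.yon S).obj (Over.mk str)),
      AlgSp.LocP @LocallyOfFinitePresentation p' ∧ AlgSp.LocP @Flat p' ∧
        AlgSp.IsSurjectiveMor p' := by
  have hgf := Groth.Agent.Lib.Helper12.LocPCases.good_flat.{u}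
  have hgp := Groth.Agent.Lib.Helper12.LocPCases.good_lfp.{u}
  refine ⟨K, inferInstance, str, (AlgSp.yon S).map (𝟙 (Over.mk str)), ?_, ?_, ?_⟩
  · haveI := hgp.comp
    exact Groth.Agent.Lib.Helper12.LocPGen.locP_yon_map_of @LocallyOfFinitePresentation
      hgp.hEt hgp.hcancel (𝟙 (Over.mk str)) (by rw [Over.id_left]; infer_instance)
  · haveI := hgf.comp
    exact Groth.Agent.Lib.Helper12.LocPGen.locP_yon_map_of @Flat
      hgf.hEt hgf.hcancel (𝟙 (Over.mk str)) (by rw [Over.id_left]; infer_instance)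
  · intro y
    refine ⟨y, ?_⟩
    rw [CategoryTheory.Functor.map_id, AlgSp.Points.map_id]

/-- a field-valued point whose image lies in the image of a monomorphism of algebraic spaces
factors through it. -/
theorem exists_factor_fieldPoint {X Z : AlgSp.Space S} (i : Z ⟶ X) [Mono i.hom]
    (K : Type u) [Field K] (str : Spec (CommRingCat.of K) ⟶ S)
    (c : (AlgSp.yon S).obj (Over.mk str) ⟶ X.obj)
    (hx : AlgSp.Points.ofPt c ((⊥ : PrimeSpectrum K) : ↥(Over.mk str).left) ∈
      Set.range (AlgSp.Points.map i.hom)) :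
    ∃ d : (AlgSp.yon S).obj (Over.mk str) ⟶ Z.obj, d ≫ i.hom = c := by
  have hT : AlgSp.IsAlgSpace (pullback i.hom c) :=
    Groth.Agent.S9874.isAlgSpace_of_isPullback X.property.diag Z.property
      (AlgSp.IsAlgSpace.yon_obj _) (IsPullback.of_hasPullback i.hom c)
  let T : AlgSp.Space S := ⟨pullback i.hom c, hT⟩
  let Y : AlgSp.Space S := ⟨(AlgSp.yon S).obj (Over.mk str), AlgSp.IsAlgSpace.yon_obj _⟩
  let f : T ⟶ Y := ObjectProperty.homMk (pullback.snd i.hom c)
  haveI : Mono f.hom := (inferInstance : Mono (pullback.snd i.hom c))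
  rcases Groth.Agent.S10369.result f (hasFieldPoint_yon K str) with hE | hI
  · exfalso
    obtain ⟨z, hz⟩ := hx
    rw [AlgSp.Points.ofPt_eq_map_ofScheme] at hz
    obtain ⟨q, -, -⟩ := Groth.Agent.S10175.exists_point_of_isPullback
      (IsPullback.of_hasPullback i.hom c) z _ hz
    exact hE.false q
  · haveI : IsIso (pullback.snd i.hom c) := by
      have := (ObjectProperty.ι _).map_isIso f
      exact this
    refine ⟨inv (pullback.snd i.hom c) ≫ pullback.fst i.hom c, ?_⟩
    rw [Category.assoc, pullback.condition, IsIso.inv_hom_id_assoc]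


/-- **factorization through a monomorphism with image `{x}`**: a morphism from a space `Y` which,
on a reduced chart square, is locally constant on points, factors through a monomorphism
`i : Z ⟶ X` whose image contains the point. -/
theorem exists_factor_of_locally_constant {X Z Y : AlgSp.Space S} (i : Z ⟶ X) [Mono i.hom]
    (f : Y ⟶ X) (x : AlgSp.Points X.obj) (hf : ∀ y, AlgSp.Points.map f.hom y = x)
    (hxi : x ∈ Set.range (AlgSp.Points.map i.hom))
    {W U P : Over S} (b : (AlgSp.yon S).obj W ⟶ Y.obj) (hbe : AlgSp.RepWith @Etale b)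
    (hbs : AlgSp.RepWith @Surjective b) (a : (AlgSp.yon S).obj U ⟶ X.obj)
    (hae : AlgSp.RepWith @Etale a) (has : AlgSp.RepWith @Surjective a)
    (pr : P ⟶ W) (g : P ⟶ U)
    (sq : IsPullback ((AlgSp.yon S).map pr) ((AlgSp.yon S).map g) (b ≫ f.hom) a)
    [IsReduced P.left]
    (hloc : ∀ t : ↥P.left, ∃ O : P.left.Opens, t ∈ O ∧ ∀ t' ∈ O, g.left t' = g.left t) :
    ∃ k : Y ⟶ Z, k ≫ i = f := by
  -- step 1: the chart factors through `Z`
  obtain ⟨d, hd⟩ : ∃ d : (AlgSp.yon S).obj P ⟶ Z.obj,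
      d ≫ i.hom = (AlgSp.yon S).map pr ≫ b ≫ f.hom := by
    refine Groth.Agent.Lib.Helper12.MonoFactor.exists_factor_of_openCover i.hom _ (fun t => ?_)
    obtain ⟨O, htO, hO⟩ := hloc t
    obtain ⟨W₀, htW₀, K, _, c, m, hmc⟩ :=
      Groth.Agent.Lib.Helper12.PointFactor.exists_field_factor g.left t O htO hO
    refine ⟨W₀, htW₀, ?_⟩
    let c' : Over.mk (c ≫ U.hom) ⟶ U := Over.homMk c rfl
    let m' : Over.mk (W₀.ι ≫ P.hom) ⟶ Over.mk (c ≫ U.hom) := Over.homMk m (by
      change m ≫ c ≫ U.hom = W₀.ι ≫ P.hom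
      rw [← Category.assoc, hmc, Category.assoc, Over.w g])
    have hm'c' : m' ≫ c' = (Over.homMk W₀.ι rfl : Over.mk (W₀.ι ≫ P.hom) ⟶ P) ≫ g := by
      apply Over.OverMorphism.ext
      exact hmc
    have hpt : AlgSp.Points.ofPt ((AlgSp.yon S).map c' ≫ a)
        ((⊥ : PrimeSpectrum K) : ↥(Over.mk (c ≫ U.hom)).left) ∈
          Set.range (AlgSp.Points.map i.hom) := by
      have e1 : ((⊥ : PrimeSpectrum K) : ↥(Over.mk (c ≫ U.hom)).left) = m'.left ⟨t, htW₀⟩ :=
        (inferInstance : Subsingleton (PrimeSpectrum K)).elim _ _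
      rw [e1, ← Groth.Agent.S10176.ofPt_map_comp, ← Category.assoc, ← Functor.map_comp, hm'c',
        Functor.map_comp, Category.assoc, ← sq.w, Groth.Agent.S10176.ofPt_map_comp,
        Groth.Agent.S10176.ofPt_map_comp, ← AlgSp.Points.map_ofPt, hf]
      exact hxi
    obtain ⟨d₀, hd₀⟩ := exists_factor_fieldPoint i K (c ≫ U.hom) _ hpt
    refine ⟨(AlgSp.yon S).map m' ≫ d₀, ?_⟩
    rw [Category.assoc, hd₀, ← Category.assoc, ← Functor.map_comp, hm'c', Functor.map_comp,
      Category.assoc, ← sq.w]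
  -- step 2: descend along the epimorphism `yon P ⟶ Y`
  have sqP := sq.flip
  haveI : Etale pr.left := hae.2 _ _ pr sqP
  haveI : Surjective pr.left := has.2 _ _ pr sqP
  have hβe : AlgSp.RepWith @Etale ((AlgSp.yon S).map pr ≫ b) :=
    (AlgSp.RepWith @Etale).comp_mem _ _ ((AlgSp.repWith_yon_map_iff _ _).2 inferInstance) hbe
  have hβs : AlgSp.RepWith @Surjective ((AlgSp.yon S).map pr ≫ b) :=
    (AlgSp.RepWith @Surjective).comp_mem _ _ ((AlgSp.repWith_yon_map_iff _ _).2 inferInstance) hbs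
  haveI : Epi ((AlgSp.yon S).map pr ≫ b) := Groth.Agent.S9927.epi_of_repWith _ hβe hβs
  haveI : Mono (pullback.fst f.hom i.hom) := inferInstance
  have hfac : pullback.lift ((AlgSp.yon S).map pr ≫ b) d (by rw [hd, Category.assoc]) ≫
      pullback.fst f.hom i.hom = (AlgSp.yon S).map pr ≫ b := pullback.lift_fst _ _ _
  haveI : Epi (pullback.fst f.hom i.hom) := epi_of_epi_fac hfac
  haveI : IsIso (pullback.fst f.hom i.hom) := isIso_of_mono_of_epi _
  refine ⟨ObjectProperty.homMk (inv (pullback.fst f.hom i.hom) ≫ pullback.snd f.hom i.hom), ?_⟩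
  apply ObjectProperty.hom_ext
  change (inv (pullback.fst f.hom i.hom) ≫ pullback.snd f.hom i.hom) ≫ i.hom = f.hom
  rw [Category.assoc, ← pullback.condition, IsIso.inv_hom_id_assoc]

end Groth.Agent.Lib.Helper12.ResidualFactor
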