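import Mathlib
import Groth.Agent.Lib.Helper12ResidualFactor
import Groth.Agent.Lib.Helper12FibreSpec
import Groth.Agent.Lib.Helper12QcPoint
import Groth.Agent.S10341

set_option autoImplicit false
universe u
open CategoryTheory CategoryTheory.Limits AlgebraicGeometry Opposite
open AlgSp

namespace Groth.Agent.Lib.Helper12.ResidualFactor

variable {S : Scheme.{u}}

/-- a point of a fibre of an etale chart is isolated in the fibre, when fibres of affine etale
charts are finite. -/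
lemma exists_open_of_finite_fibre (X : AlgSp.Space S) {U : Over S} (a : (AlgSp.yon S).obj U ⟶ X.obj)
    (hae : AlgSp.RepWith @Etale a) (x : AlgSp.Points X.obj)
    (hfin : ∀ (V : Over S) (b : (AlgSp.yon S).obj V ⟶ X.obj), IsAffine V.left →
      AlgSp.RepWith @Etale b → (AlgSp.Points.ofPt b ⁻¹' {x}).Finite)
    (u : ↥U.left) (hu : AlgSp.Points.ofPt a u = x) :
    ∃ O' : U.left.Opens, u ∈ O' ∧ ∀ u' ∈ O', AlgSp.Points.ofPt a u' = x → u' = u := by
  obtain ⟨U₀, hU₀, huU, -⟩ : ∃ V : U.left.Opens, V ∈ U.left.affineOpens ∧ u ∈ V ∧ V ≤ ⊤ :=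
    TopologicalSpace.Opens.isBasis_iff_nbhd.1 U.left.isBasis_affineOpens
      (TopologicalSpace.Opens.mem_top u)
  let V : Over S := Over.mk (U₀.ι ≫ U.hom)
  let j : V ⟶ U := Over.homMk U₀.ι rfl
  have hb : AlgSp.RepWith @Etale ((AlgSp.yon S).map j ≫ a) :=
    (AlgSp.RepWith @Etale).comp_mem _ _
      ((AlgSp.repWith_yon_map_iff _ _).2 (inferInstance : Etale U₀.ι)) hae
  haveI : IsAffine V.left := hU₀
  have hfinV := (hfin V _ this hb).image j.left
  let C : Set ↥U.left := ⋃ u' ∈ (j.left '' (AlgSp.Points.ofPt ((AlgSp.yon S).map j ≫ a) ⁻¹' {x})) \ {u},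
    closure {u'}
  have hC : IsClosed C := (hfinV.subset Set.diff_subset).isClosed_biUnion (fun _ _ => isClosed_closure)
  refine ⟨U₀ ⊓ ⟨Cᶜ, hC.isOpen_compl⟩, ⟨huU, ?_⟩, ?_⟩
  · intro huC
    simp only [C, Set.mem_iUnion] at huC
    obtain ⟨u', ⟨⟨v', hv', rfl⟩, hne⟩, hcl⟩ := huC
    have hs : j.left v' ⤳ u := specializes_iff_mem_closure.2 hcl
    have hx' : AlgSp.Points.ofPt a (j.left v') = x := by
      rw [← Groth.Agent.S10176.ofPt_map_comp]; exact hv'
    exact hne (Groth.Agent.S10341.result X x hfin a hae u (j.left v') hu hx' hs).symm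
  · rintro u' ⟨hu'U, hu'C⟩ hu'x
    by_contra hne
    apply hu'C
    simp only [C, Set.mem_iUnion]
    refine ⟨u', ⟨⟨⟨u', hu'U⟩, ?_, rfl⟩, hne⟩, subset_closure rfl⟩
    change AlgSp.Points.ofPt ((AlgSp.yon S).map j ≫ a) ⟨u', hu'U⟩ = x
    rw [Groth.Agent.S10176.ofPt_map_comp]
    exact hu'x


/-- the chart square used for the factorization theorems. -/
lemma exists_chart_square_reduced {X Y : AlgSp.Space S} (f : Y ⟶ X)
    (hY : AlgSp.EtaleLocally (fun U => IsReduced U) Y.obj) :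
    ∃ (W U P : Over S) (b : (AlgSp.yon S).obj W ⟶ Y.obj) (a : (AlgSp.yon S).obj U ⟶ X.obj)
      (pr : P ⟶ W) (g : P ⟶ U), AlgSp.RepWith @Etale b ∧ AlgSp.RepWith @Surjective b ∧
      AlgSp.RepWith @Etale a ∧ AlgSp.RepWith @Surjective a ∧
      IsPullback ((AlgSp.yon S).map pr) ((AlgSp.yon S).map g) (b ≫ f.hom) a ∧ IsReduced P.left := by
  obtain ⟨W, b, hbe, hbs, hW⟩ := hY
  obtain ⟨U, a, hae, has⟩ := X.property.atlas
  have sq := hae.rep.isPullback' (b ≫ f.hom)
  haveI : Etale (hae.rep.snd (b ≫ f.hom)).left := hae.property_snd _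
  haveI : IsReduced W.left := hW
  exact ⟨W, U, _, b, a, hae.rep.snd (b ≫ f.hom), hae.rep.fst' (b ≫ f.hom), hbe, hbs, hae, has,
    sq.flip, Groth.Agent.Lib.Helper12.Reduced.isReduced_of_smooth (hae.rep.snd (b ≫ f.hom)).left⟩

/-- factorization through a monomorphism with image containing `x`, when fibres over `x` of affine
etale charts are finite. -/
theorem exists_factor_of_finite_fibres {X Z Y : AlgSp.Space S} (i : Z ⟶ X) [Mono i.hom]
    (f : Y ⟶ X) (x : AlgSp.Points X.obj) (hf : ∀ y, AlgSp.Points.map f.hom y = x)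
    (hxi : x ∈ Set.range (AlgSp.Points.map i.hom))
    (hY : AlgSp.EtaleLocally (fun U => IsReduced U) Y.obj)
    (hfin : ∀ (V : Over S) (b : (AlgSp.yon S).obj V ⟶ X.obj), IsAffine V.left →
      AlgSp.RepWith @Etale b → (AlgSp.Points.ofPt b ⁻¹' {x}).Finite) :
    ∃ k : Y ⟶ Z, k ≫ i = f := by
  obtain ⟨W, U, P, b, a, pr, g, hbe, hbs, hae, has, sq, hP⟩ := exists_chart_square_reduced f hY
  haveI := hP
  refine exists_factor_of_locally_constant i f x hf hxi b hbe hbs a hae has pr g sq (fun t => ?_)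
  have hx : ∀ t' : ↥P.left, AlgSp.Points.ofPt a (g.left t') = x := by
    intro t'
    rw [← Groth.Agent.S10176.ofPt_map_comp, ← sq.w, Groth.Agent.S10176.ofPt_map_comp,
      ← AlgSp.Points.map_ofPt, hf]
  obtain ⟨O', huO', hO'⟩ := exists_open_of_finite_fibre X a hae x hfin (g.left t) (hx t)
  exact ⟨g.left ⁻¹ᵁ O', huO', fun t' ht' => hO' _ ht' (hx t')⟩

end Groth.Agent.Lib.Helper12.ResidualFactor
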