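import Groth.Prelude.Def_CInt
import Mathlib.AlgebraicGeometry.Morphisms.SchemeTheoreticallyDominant
import Mathlib.AlgebraicGeometry.Noetherian

/-!
Helper library (helper12): `CInt.IsSchematicallyDense` for an open with quasi-compact inclusion is
`IsSchemeTheoreticallyDominant` of the inclusion.
-/

set_option autoImplicit false
universe u
open CategoryTheory AlgebraicGeometry TopologicalSpace Limits

namespace Groth.Agent.Lib.Helper12.SchDense


lemma image_preimage_ι {X : Scheme.{u}} (V W : X.Opens) : V.ι ''ᵁ V.ι ⁻¹ᵁ W = W ⊓ V := by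
  ext x
  simp only [Scheme.Hom.coe_image, Scheme.Hom.coe_preimage, Set.image_preimage_eq_inter_range,
    Scheme.Opens.range_ι, Opens.coe_inf]

lemma image_preimage_le {X : Scheme.{u}} (V W : X.Opens) : V.ι ''ᵁ V.ι ⁻¹ᵁ W ≤ W := by
  rw [image_preimage_ι]; exact inf_le_left

lemma restrict_eq {X : Scheme.{u}} (V W : X.Opens) :
    X.presheaf.map (homOfLE (inf_le_left : W ⊓ V ≤ W)).op =
      X.presheaf.map (homOfLE (image_preimage_le V W)).op ≫
        X.presheaf.map (eqToHom (image_preimage_ι V W).symm).op := by
  rw [← Functor.map_comp]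
  rfl

lemma injective_restrict_iff {X : Scheme.{u}} (V W : X.Opens) :
    Function.Injective (X.presheaf.map (homOfLE (inf_le_left : W ⊓ V ≤ W)).op) ↔
      Function.Injective (V.ι.app W) := by
  rw [restrict_eq]
  have h2 : Function.Injective (X.presheaf.map (eqToHom (image_preimage_ι V W).symm).op) := by
    have : IsIso (X.presheaf.map (eqToHom (image_preimage_ι V W).symm).op) := inferInstance
    exact ((ConcreteCategory.isIso_iff_bijective _).mp this).1
  constructor
  · intro h
    exact Function.Injective.of_comp h
  · intro h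
    exact h2.comp h

lemma isSchematicallyDense_iff {X : Scheme.{u}} (V : X.Opens) [QuasiCompact V.ι] :
    CInt.IsSchematicallyDense V ↔ IsSchemeTheoreticallyDominant V.ι := by
  constructor
  · intro hV
    rw [isSchemeTheoreticallyDominant_iff]
    ext U : 2
    rw [V.ι.ker_apply]
    simp only [Scheme.IdealSheafData.ideal_bot, Pi.bot_apply]
    rw [← RingHom.injective_iff_ker_eq_bot]
    exact (injective_restrict_iff V U.1).mp (hV U.1)
  · intro h W
    exact (injective_restrict_iff V W).mpr (V.ι.app_injective W)


/-- flat base change of schematically dense opens with quasi-compact inclusion. -/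
theorem isSchematicallyDense_preimage_of_flat {X X' : Scheme.{u}} (f : X' ⟶ X) [Flat f]
    (V : X.Opens) [QuasiCompact V.ι] (hV : CInt.IsSchematicallyDense V) :
    CInt.IsSchematicallyDense (f ⁻¹ᵁ V) := by
  have sq := isPullback_morphismRestrict f V
  have : QuasiCompact (f ⁻¹ᵁ V).ι := MorphismProperty.of_isPullback sq inferInstance
  have : IsSchemeTheoreticallyDominant V.ι := (isSchematicallyDense_iff V).mp hV
  rw [isSchematicallyDense_iff]
  exact IsSchemeTheoreticallyDominant.of_isPullback sq

end Groth.Agent.Lib.Helper12.SchDense
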