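import Mathlib
import Groth.Agent.Lib.Helper12FPDescent
import Groth.Agent.Lib.Helper12SmoothSrc

set_option autoImplicit false
universe u

open TensorProduct

namespace Groth.Agent.Lib.Helper12.SmoothSrc2

open Groth.Agent.Lib.Helper12.FPDescent

/-- Finite type descends along a smooth cover of the source (ring form). -/
theorem finiteType_of_smooth_of_surjective {R A B : Type u} [CommRing R] [CommRing A] [CommRing B]
    [Algebra R A] [Algebra A B] [Algebra R B] [IsScalarTower R A B] [Algebra.Smooth A B]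
    (hs : Function.Surjective (PrimeSpectrum.comap (algebraMap A B)))
    [Algebra.FiniteType R B] : Algebra.FiniteType R A := by
  obtain ⟨A₀, B₀, _, _, hfg, hsm, ⟨e⟩⟩ := Algebra.Smooth.exists_subalgebra_fg R A B
  have hA₀ : Algebra.FiniteType R A₀ := (Subalgebra.fg_iff_finiteType A₀).mp hfg
  have h1 : Algebra.FiniteType R (A ⊗[A₀] B₀) :=
    Algebra.FiniteType.equiv ‹_› (e.restrictScalars R)
  have h2 : Algebra.FiniteType A₀ (A ⊗[A₀] B₀) :=
    Algebra.FiniteType.of_restrictScalars_finiteType R A₀ _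
  haveI : Module.Flat A₀ B₀ := Algebra.Smooth.flat A₀ B₀
  have h3 : Algebra.FiniteType A₀ A := by
    refine Groth.Agent.Lib.Helper20.EtSrc.finiteType_of_tensor (B₀ := B₀) (hft := h2) ?_
    intro q
    obtain ⟨P, rfl⟩ := hs q
    let ρ : B₀ →+* B := (RingHomClass.toRingHom e.symm).comp
      (Algebra.TensorProduct.includeRight (R := A₀) (A := A) (B := B₀)).toRingHom
    have hρ : ρ.comp (algebraMap A₀ B₀) = (algebraMap A B).comp (algebraMap A₀ A) := by
      ext a₀
      simp only [ρ, RingHom.comp_apply, AlgHom.toRingHom_eq_coe, RingHom.coe_coe,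
        Algebra.TensorProduct.includeRight_apply]
      have h : (1 : A) ⊗ₜ[A₀] (algebraMap A₀ B₀ a₀) = algebraMap A (A ⊗[A₀] B₀) (algebraMap A₀ A a₀) := by
        rw [Algebra.TensorProduct.algebraMap_apply, Algebra.algebraMap_eq_smul_one (A := B₀),
          TensorProduct.tmul_smul, TensorProduct.smul_tmul', Algebra.smul_def, mul_one]
        rfl
      erw [h]
      exact e.symm.commutes _
    refine ⟨PrimeSpectrum.comap ρ P, ?_⟩
    rw [← PrimeSpectrum.comap_comp_apply, hρ, PrimeSpectrum.comap_comp_apply]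
  exact Algebra.FiniteType.trans hA₀ h3

set_option synthInstance.maxHeartbeats 400000 in
set_option maxHeartbeats 2000000 in
/-- auxiliary form, with the flat finitely presented algebra given as a base change. -/
theorem finitePresentation_of_tensor' {R A B A₀ B₀ A' : Type u} [CommRing R] [CommRing A]
    [CommRing B] [CommRing A₀] [CommRing B₀] [CommRing A']
    [Algebra R A] [Algebra A B] [Algebra R B] [IsScalarTower R A B]
    [Algebra A₀ A] [Algebra A₀ B₀] [Module.Flat A₀ B₀] [Algebra.FinitePresentation A₀ B₀]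
    [Algebra R A'] [Algebra A₀ A']
    [Algebra.FinitePresentation R A'] [Algebra.FinitePresentation R B]
    (π : A' →ₐ[R] A) (π₀ : A' →ₐ[A₀] A) (hππ₀ : ∀ a, π₀ a = π a) (hπ : Function.Surjective π)
    (e : B ≃ₐ[A] A ⊗[A₀] B₀)
    (hs : Function.Surjective (PrimeSpectrum.comap (algebraMap A B))) :
    Algebra.FinitePresentation R A := by
  have htower : ∀ r, algebraMap R (A' ⊗[A₀] B₀) r =
      algebraMap A' (A' ⊗[A₀] B₀) (algebraMap R A' r) := fun r => rfl
  have hπ₀ : Function.Surjective π₀ := fun a => by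
    obtain ⟨a', rfl⟩ := hπ a
    exact ⟨a', hππ₀ a'⟩
  let θ₀ : A' ⊗[A₀] B₀ →ₐ[A₀] A ⊗[A₀] B₀ := Algebra.TensorProduct.map π₀ (AlgHom.id A₀ B₀)
  have hθ₀ : Function.Surjective θ₀ :=
    Algebra.TensorProduct.map_surjective π₀ (AlgHom.id A₀ B₀) hπ₀ Function.surjective_id
  have hθ₀a : ∀ a, θ₀ (algebraMap A' (A' ⊗[A₀] B₀) a) = algebraMap A (A ⊗[A₀] B₀) (π a) := by
    intro a
    rw [Algebra.TensorProduct.algebraMap_apply, Algebra.TensorProduct.algebraMap_apply]
    simp [θ₀, hππ₀]
  let θ : A' ⊗[A₀] B₀ →ₐ[R] B :=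
    { (e.symm : A ⊗[A₀] B₀ →+* B).comp θ₀.toRingHom with
      commutes' := fun r => by
        show e.symm (θ₀ (algebraMap R (A' ⊗[A₀] B₀) r)) = _
        rw [htower, hθ₀a, π.commutes, e.symm.commutes, ← IsScalarTower.algebraMap_apply] }
  have hθ : Function.Surjective θ := e.symm.surjective.comp hθ₀
  have hker : RingHom.ker θ.toRingHom = (RingHom.ker π.toRingHom).map
      (algebraMap A' (A' ⊗[A₀] B₀)) := by
    have h1 : RingHom.ker θ.toRingHom = RingHom.ker θ₀.toRingHom := by
      ext x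
      simp only [RingHom.mem_ker]
      show e.symm (θ₀ x) = 0 ↔ θ₀ x = 0
      exact e.symm.map_eq_zero_iff
    have h2 : RingHom.ker π.toRingHom = RingHom.ker π₀.toRingHom := by
      ext x
      simp only [RingHom.mem_ker]
      show π x = 0 ↔ π₀ x = 0
      rw [hππ₀]
    rw [h1, h2]
    exact Algebra.TensorProduct.rTensor_ker π₀ hπ₀
  have hcomm : ∀ a, θ (algebraMap A' (A' ⊗[A₀] B₀) a) = algebraMap A B (π a) := by
    intro a
    show e.symm (θ₀ (algebraMap A' (A' ⊗[A₀] B₀) a)) = _
    rw [hθ₀a, e.symm.commutes]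
  exact finitePresentation_of_cover π hπ θ hθ hker hcomm hs

set_option synthInstance.maxHeartbeats 400000 in
set_option maxHeartbeats 2000000 in
/-- Finite presentation descends along a smooth cover of the source (ring form). -/
theorem finitePresentation_of_smooth_of_surjective {R A B : Type u} [CommRing R] [CommRing A]
    [CommRing B] [Algebra R A] [Algebra A B] [Algebra R B] [IsScalarTower R A B]
    [Algebra.Smooth A B] (hs : Function.Surjective (PrimeSpectrum.comap (algebraMap A B)))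
    [Algebra.FinitePresentation R B] : Algebra.FinitePresentation R A := by
  haveI : Algebra.FiniteType R A := finiteType_of_smooth_of_surjective (B := B) hs
  obtain ⟨A₀, B₀, _, _, hfg, hSm, ⟨e⟩⟩ := Algebra.Smooth.exists_subalgebra_fg ℤ A B
  obtain ⟨n, φ, hφ⟩ := Algebra.FiniteType.iff_quotient_mvPolynomial''.1
    (inferInstance : Algebra.FiniteType R A)
  haveI : Module.Flat A₀ B₀ := Algebra.Smooth.flat A₀ B₀
  haveI : Algebra.FiniteType ℤ A₀ := (Subalgebra.fg_iff_finiteType A₀).mp hfg
  haveI : Algebra.FinitePresentation ℤ A₀ :=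
    Algebra.FinitePresentation.of_finiteType.1 inferInstance
  haveI : Algebra.FinitePresentation (MvPolynomial (Fin n) R) (MvPolynomial (Fin n) R ⊗[ℤ] A₀) :=
    inferInstance
  haveI : Algebra.FinitePresentation R (MvPolynomial (Fin n) R ⊗[ℤ] A₀) :=
    Algebra.FinitePresentation.trans R (MvPolynomial (Fin n) R) _
  letI : Algebra A₀ (MvPolynomial (Fin n) R ⊗[ℤ] A₀) := Algebra.TensorProduct.rightAlgebra
  let π : MvPolynomial (Fin n) R ⊗[ℤ] A₀ →ₐ[R] A :=
    Algebra.TensorProduct.productLeftAlgHom φ A₀.val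
  have hπ : Function.Surjective π := by
    intro a
    obtain ⟨p, rfl⟩ := hφ a
    exact ⟨p ⊗ₜ 1, by simp [π]⟩
  let π₀ : MvPolynomial (Fin n) R ⊗[ℤ] A₀ →ₐ[A₀] A :=
    { π.toRingHom with
      commutes' := fun a0 => by
        show π ((1 : MvPolynomial (Fin n) R) ⊗ₜ a0) = _
        simp [π] }
  exact finitePresentation_of_tensor' (A₀ := A₀) (B₀ := B₀) π π₀ (fun a => rfl) hπ e hs

open AlgebraicGeometry CategoryTheory

/-- Generic descent along smooth covers of the source. -/
theorem of_smooth_cover_source {P : MorphismProperty Scheme.{u}}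
    {Q : ∀ {R S : Type u} [CommRing R] [CommRing S], (R →+* S) → Prop}
    [HasRingHomProperty P Q]
    (hQ : RingHom.StableUnderCompositionWithLocalizationAwaySource Q)
    (hdesc : ∀ {R A B : Type u} [CommRing R] [CommRing A] [CommRing B] (φ : R →+* A)
      (ψ : A →+* B), ψ.Smooth → Function.Surjective (PrimeSpectrum.comap ψ) → Q (ψ.comp φ) → Q φ)
    {X' X Y : Scheme.{u}} (f : X' ⟶ X) (g : X ⟶ Y) [Smooth f] [Surjective f] (h : P (f ≫ g)) :
    P g := by
  rw [HasRingHomProperty.iff_exists_appLE (P := P) hQ]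
  intro x
  obtain ⟨U, hU, hgx, -⟩ := TopologicalSpace.Opens.isBasis_iff_nbhd.mp Y.isBasis_affineOpens
    (TopologicalSpace.Opens.mem_top (g x))
  obtain ⟨V₀, hV₀, hxV₀, eV₀⟩ := TopologicalSpace.Opens.isBasis_iff_nbhd.mp X.isBasis_affineOpens
    (show x ∈ g ⁻¹ᵁ U from hgx)
  obtain ⟨x', rfl⟩ := f.surjective x
  obtain ⟨W₀, hW₀, hxW₀, eW₀⟩ := TopologicalSpace.Opens.isBasis_iff_nbhd.mp X'.isBasis_affineOpens
    (show x' ∈ f ⁻¹ᵁ V₀ from hxV₀)
  let O : X.Opens := ⟨f '' W₀, f.isOpenMap _ W₀.isOpen⟩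
  obtain ⟨a, haO, hxa⟩ := hV₀.exists_basicOpen_le (V := O) ⟨f x', ⟨x', hxW₀, rfl⟩⟩ hxV₀
  let V : X.Opens := X.basicOpen a
  have hV : IsAffineOpen V := hV₀.basicOpen a
  let W : X'.Opens := X'.basicOpen (f.appLE V₀ W₀ eW₀ a)
  have hW : IsAffineOpen W := hW₀.basicOpen _
  have hWeq : W = W₀ ⊓ f ⁻¹ᵁ V := Scheme.basicOpen_appLE f W₀ V₀ eW₀ a
  have eW : W ≤ f ⁻¹ᵁ V := hWeq ▸ inf_le_right
  have eV : V ≤ g ⁻¹ᵁ U := (X.basicOpen_le a).trans eV₀
  refine ⟨⟨U, hU⟩, ⟨V, hV⟩, hxa, eV, ?_⟩
  apply hdesc (g.appLE U V eV).hom (f.appLE V W eW).hom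
  · exact HasRingHomProperty.appLE (P := @Smooth) f inferInstance ⟨V, hV⟩ ⟨W, hW⟩ eW
  · apply Groth.Agent.Lib.Helper20.EtSrc.comap_appLE_surjective f hV hW eW
    intro y hy
    obtain ⟨w, hw, rfl⟩ := haO hy
    exact ⟨w, hWeq ▸ ⟨hw, hy⟩, rfl⟩
  · rw [← CommRingCat.hom_comp, Scheme.Hom.appLE_comp_appLE]
    exact HasRingHomProperty.appLE (P := P) _ h ⟨U, hU⟩ ⟨W, hW⟩ _

theorem locallyOfFiniteType_of_smooth_cover_source {X' X Y : Scheme.{u}} (f : X' ⟶ X) (g : X ⟶ Y)
    [Smooth f] [Surjective f] [h : LocallyOfFiniteType (f ≫ g)] : LocallyOfFiniteType g := by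
  refine of_smooth_cover_source (P := @LocallyOfFiniteType) (Q := @RingHom.FiniteType) ?_ ?_ f g h
  · intro R S T _ _ _ _ r _ φ hφ
    exact hφ.comp (RingHom.finiteType_holdsForLocalizationAway S r)
  · intro R A B _ _ _ φ ψ hψ hs hc
    algebraize [φ, ψ, ψ.comp φ]
    have : Algebra.Smooth A B := hψ
    have : Algebra.FiniteType R B := hc
    exact finiteType_of_smooth_of_surjective (R := R) (A := A) (B := B) hs

/-- Local finite presentation descends along smooth covers of the source. -/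
theorem locallyOfFinitePresentation_of_smooth_cover_source {X' X Y : Scheme.{u}} (f : X' ⟶ X)
    (g : X ⟶ Y) [Smooth f] [Surjective f] [h : LocallyOfFinitePresentation (f ≫ g)] :
    LocallyOfFinitePresentation g := by
  refine of_smooth_cover_source
    (P := @LocallyOfFinitePresentation) (Q := @RingHom.FinitePresentation) ?_ ?_ f g h
  · intro R S T _ _ _ _ r _ φ hφ
    exact hφ.comp (RingHom.finitePresentation_holdsForLocalizationAway S r)
  · intro R A B _ _ _ φ ψ hψ hs hc
    algebraize [φ, ψ, ψ.comp φ]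
    have : Algebra.Smooth A B := hψ
    have : Algebra.FinitePresentation R B := hc
    exact finitePresentation_of_smooth_of_surjective (R := R) (A := A) (B := B) hs

/-- smoothness is smooth local on the source. -/
theorem smooth_of_smooth_cover_source {U' U V : Scheme.{u}} (e : U' ⟶ U) (h : U ⟶ V)
    [Smooth e] [Surjective e] [Smooth (e ≫ h)] : Smooth h := by
  haveI : LocallyOfFinitePresentation h := locallyOfFinitePresentation_of_smooth_cover_source e h
  haveI : Flat h := Groth.Agent.Lib.Helper12.flat_of_comp_of_flat_of_surjective e h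
  refine Smooth.of_smooth_fiberToSpecResidueField h (fun y => ?_)
  let t := V.fromSpecResidueField y
  let eK : Limits.pullback (e ≫ h) t ⟶ Limits.pullback h t :=
    Limits.pullback.lift (Limits.pullback.fst (e ≫ h) t ≫ e) (Limits.pullback.snd (e ≫ h) t)
      (by simp [Limits.pullback.condition])
  have sq : IsPullback eK (Limits.pullback.fst (e ≫ h) t) (Limits.pullback.fst h t) e :=
    SmoothSrc.isPullback_lift e h t
  haveI : Flat eK := MorphismProperty.of_isPullback (P := @Flat) sq.flip inferInstance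
  haveI : Surjective eK := MorphismProperty.of_isPullback (P := @Surjective) sq.flip inferInstance
  have he : eK ≫ Limits.pullback.snd h t = Limits.pullback.snd (e ≫ h) t :=
    Limits.pullback.lift_snd _ _ _
  haveI : Smooth (eK ≫ Limits.pullback.snd h t) := by rw [he]; infer_instance
  exact SmoothSrc.smooth_of_flat_surjective_of_field (V.residueField y) eK
    (Limits.pullback.snd h t)

end Groth.Agent.Lib.Helper12.SmoothSrc2
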