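import Mathlib
import Groth.Agent.Lib.Helper12SmoothSrc2

/-!
# From single smooth covers to `IsLocalAtSource` for the smooth precoverage (helper12)
-/

set_option autoImplicit false
universe u
open CategoryTheory CategoryTheory.Limits AlgebraicGeometry MorphismProperty

namespace Groth.Agent.Lib.Helper12.SmSrcLocal

/-- a Zariski-local-at-source property stable under precomposition with smooth morphisms and
descending along single surjective smooth covers of the source is local at the source for the
smooth precoverage. -/
lemma isLocalAtSource_smooth_of_single (P : MorphismProperty Scheme.{u}) [IsZariskiLocalAtSource P]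
    (hcomp : ∀ {A B C : Scheme.{u}} (e : A ⟶ B) (k : B ⟶ C), Smooth e → P k → P (e ≫ k))
    (hdesc : ∀ {A B C : Scheme.{u}} (e : A ⟶ B) (k : B ⟶ C), Smooth e → Surjective e →
      P (e ≫ k) → P k) :
    P.IsLocalAtSource (Scheme.precoverage @Smooth) where
  comp := fun {X Y f R} hR {U} g hg hf => hcomp g f (hR.2 hg) hf
  of_forall_comp := fun {X Y f R} hR h => by
    have hsurj := (Presieve.mem_comap_jointlySurjectivePrecoverage_iff Scheme.forget).1 hR.1
    choose W g hg hx using hsurj
    haveI : ∀ x, Smooth (g x) := fun x => hR.2 (hg x)
    have he : Smooth (Sigma.desc g) :=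
      IsZariskiLocalAtSource.sigmaDesc (P := @Smooth) (fun x => inferInstance)
    have hs : Surjective (Sigma.desc g) := by
      refine ⟨fun x => ?_⟩
      obtain ⟨w, hw⟩ := hx x
      refine ⟨(Sigma.ι W x) w, ?_⟩
      rw [← Scheme.Hom.comp_apply, Sigma.ι_desc]
      exact hw
    apply hdesc (Sigma.desc g) f he hs
    have e1 : Sigma.desc g ≫ f = Sigma.desc (fun x => g x ≫ f) := by
      apply Sigma.hom_ext
      intro x
      rw [Sigma.ι_desc_assoc, Sigma.ι_desc]
    rw [e1]
    exact IsZariskiLocalAtSource.sigmaDesc (fun x => h (hg x))

/-- smoothness is local at the source for the smooth precoverage. -/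
instance smooth_isLocalAtSource_smooth :
    MorphismProperty.IsLocalAtSource (@Smooth : MorphismProperty Scheme.{u})
      (Scheme.precoverage @Smooth) :=
  isLocalAtSource_smooth_of_single _
    (fun e k he hk => by haveI := he; haveI := hk; exact (inferInstance : Smooth (e ≫ k)))
    (fun e k he hs h => by
      haveI := he; haveI := hs; haveI : Smooth (e ≫ k) := h
      exact SmoothSrc2.smooth_of_smooth_cover_source e k)

/-- local finite presentation is local at the source for the smooth precoverage. -/
instance lfp_isLocalAtSource_smooth :
    MorphismProperty.IsLocalAtSource (@LocallyOfFinitePresentation : MorphismProperty Scheme.{u})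
      (Scheme.precoverage @Smooth) :=
  isLocalAtSource_smooth_of_single _
    (fun e k he hk => by
      haveI := he; haveI := hk; exact (inferInstance : LocallyOfFinitePresentation (e ≫ k)))
    (fun e k he hs h => by
      haveI := he; haveI := hs; haveI : LocallyOfFinitePresentation (e ≫ k) := h
      exact SmoothSrc2.locallyOfFinitePresentation_of_smooth_cover_source e k)

/-- local finite type is local at the source for the smooth precoverage. -/
instance lft_isLocalAtSource_smooth :
    MorphismProperty.IsLocalAtSource (@LocallyOfFiniteType : MorphismProperty Scheme.{u})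
      (Scheme.precoverage @Smooth) :=
  isLocalAtSource_smooth_of_single _
    (fun e k he hk => by
      haveI := he; haveI := hk; exact (inferInstance : LocallyOfFiniteType (e ≫ k)))
    (fun e k he hs h => by
      haveI := he; haveI := hs; haveI : LocallyOfFiniteType (e ≫ k) := h
      exact SmoothSrc2.locallyOfFiniteType_of_smooth_cover_source e k)

end Groth.Agent.Lib.Helper12.SmSrcLocal
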