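import Mathlib
import Groth.Prelude.Def_MoreMor
set_option autoImplicit false
universe u

namespace Groth.Agent.Lib.Helper2.Thick

section A
/-- nil-Nakayama for finite type algebras: if `B' = im(A') + I B'` with `I` nil then `A' → B'` is
surjective. -/
theorem N1 {A' B' : Type*} [CommRing A'] [CommRing B'] (φ : A' →+* B') (hft : φ.FiniteType)
    (I : Ideal A') (hI : ∀ x ∈ I, IsNilpotent x)
    (h : ∀ b : B', ∃ a : A', b - φ a ∈ I.map φ) : Function.Surjective φ := by
  classical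
  algebraize [φ]
  obtain ⟨s, hs⟩ := (Algebra.FiniteType.out : (⊤ : Subalgebra A' B').FG)
  -- for each generator choose `a` and a finite set of elements of `I`
  have h1 : ∀ b : B', ∃ (a : A') (E : Finset A'), (E : Set A') ⊆ I ∧
      b - φ a ∈ (Ideal.span (E : Set A')).map φ := by
    intro b
    obtain ⟨a, ha⟩ := h b
    refine ⟨a, ?_⟩
    -- membership in `I.map φ = span (φ '' I)` uses finitely many elements
    have : ∀ x ∈ I.map φ, ∃ E : Finset A', (E : Set A') ⊆ I ∧ x ∈ (Ideal.span (E : Set A')).map φ := by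
      intro x hx
      refine Submodule.span_induction ?_ ?_ ?_ ?_ hx
      · rintro _ ⟨e, he, rfl⟩
        exact ⟨{e}, by simpa using he, Ideal.mem_map_of_mem _ (Ideal.subset_span (by simp))⟩
      · exact ⟨∅, by simp, Ideal.zero_mem _⟩
      · rintro x y _ _ ⟨E1, hE1, hx⟩ ⟨E2, hE2, hy⟩
        refine ⟨E1 ∪ E2, by simpa using ⟨hE1, hE2⟩, Ideal.add_mem _ ?_ ?_⟩
        · exact Ideal.map_mono (Ideal.span_mono (by simp)) hx
        · exact Ideal.map_mono (Ideal.span_mono (by simp)) hy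
      · rintro r x _ ⟨E, hE, hx⟩
        exact ⟨E, hE, Ideal.mul_mem_left _ _ hx⟩
    exact this _ ha
  choose a E hEI hbE using h1
  let E0 : Finset A' := s.biUnion E
  let I0 : Ideal A' := Ideal.span (E0 : Set A')
  have hI0I : I0 ≤ I := Ideal.span_le.mpr (by
    intro x hx
    simp only [E0, Finset.coe_biUnion, Set.mem_iUnion] at hx
    obtain ⟨b, _, hxb⟩ := hx
    exact hEI b hxb)
  have hI0nil : IsNilpotent I0 := by
    rw [Ideal.FG.isNilpotent_iff_le_nilradical ⟨E0, rfl⟩]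
    intro x hx
    exact hI x (hI0I hx)
  obtain ⟨N, hN⟩ := hI0nil
  let J : Ideal B' := I0.map φ
  have hJN : J ^ N = ⊥ := by
    rw [← Ideal.map_pow, hN]; exact Ideal.map_bot
  -- the subalgebra `im + J`
  let D : Subalgebra A' B' :=
    { carrier := {b | ∃ a : A', b - φ a ∈ J}
      mul_mem' := by
        rintro b1 b2 ⟨a1, h1⟩ ⟨a2, h2⟩
        refine ⟨a1 * a2, ?_⟩
        have : b1 * b2 - φ (a1 * a2) = b1 * (b2 - φ a2) + φ a2 * (b1 - φ a1) := by
          rw [map_mul]; ring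
        rw [this]
        exact J.add_mem (J.mul_mem_left _ h2) (J.mul_mem_left _ h1)
      add_mem' := by
        rintro b1 b2 ⟨a1, h1⟩ ⟨a2, h2⟩
        refine ⟨a1 + a2, ?_⟩
        have : b1 + b2 - φ (a1 + a2) = (b1 - φ a1) + (b2 - φ a2) := by
          rw [map_add]; ring
        rw [this]; exact J.add_mem h1 h2
      algebraMap_mem' := fun r => ⟨r, by
        rw [RingHom.algebraMap_toAlgebra, sub_self]; exact J.zero_mem⟩ }
  have hD : D = ⊤ := by
    rw [eq_top_iff, ← hs]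
    apply Algebra.adjoin_le
    intro b hb
    refine ⟨a b, ?_⟩
    have : (Ideal.span (E b : Set A')).map φ ≤ J :=
      Ideal.map_mono (Ideal.span_mono (by
        intro x hx
        simp only [E0, Finset.coe_biUnion, Set.mem_iUnion]
        exact ⟨b, hb, hx⟩))
    exact this (hbE b)
  have hstep : ∀ k : ℕ, ∀ b : B', ∃ a : A', b - φ a ∈ J ^ k := by
    intro k
    induction k with
    | zero => intro b; exact ⟨0, by simp⟩
    | succ k ih =>
      intro b
      obtain ⟨a1, ha1⟩ := ih b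
      -- x := b - φ a1 ∈ J^k = (I0^k).map φ
      have hx : b - φ a1 ∈ (I0 ^ k).map φ := by rw [Ideal.map_pow]; exact ha1
      have : ∀ x ∈ (I0 ^ k).map φ, ∃ a : A', x - φ a ∈ J ^ (k + 1) := by
        intro x hx
        refine Submodule.span_induction ?_ ?_ ?_ ?_ hx
        · rintro _ ⟨e, he, rfl⟩
          exact ⟨e, by rw [sub_self]; exact Ideal.zero_mem _⟩
        · exact ⟨0, by simp⟩
        · rintro x y _ _ ⟨ax, hx⟩ ⟨ay, hy⟩
          refine ⟨ax + ay, ?_⟩
          have : x + y - φ (ax + ay) = (x - φ ax) + (y - φ ay) := by rw [map_add]; ring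
          rw [this]; exact Ideal.add_mem _ hx hy
        · rintro β x hxmem ⟨ax, hx⟩
          -- β = φ c + y with y ∈ J
          have hβ : β ∈ D := by rw [hD]; trivial
          obtain ⟨c, hc⟩ := hβ
          refine ⟨c * ax, ?_⟩
          have hxk : x ∈ J ^ k := by rw [← Ideal.map_pow]; exact hxmem
          have e1 : β • x - φ (c * ax) = (β - φ c) * x + φ c * (x - φ ax) := by
            rw [map_mul, smul_eq_mul]; ring
          rw [e1]
          refine Ideal.add_mem _ ?_ (Ideal.mul_mem_left _ _ hx)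
          rw [pow_succ']
          exact Ideal.mul_mem_mul hc hxk
      obtain ⟨a2, ha2⟩ := this _ hx
      refine ⟨a1 + a2, ?_⟩
      have : b - φ (a1 + a2) = (b - φ a1) - φ a2 := by rw [map_add]; ring
      rw [this]; exact ha2
  intro b
  obtain ⟨a, ha⟩ := hstep N b
  rw [hJN, Ideal.mem_bot, sub_eq_zero] at ha
  exact ⟨a, ha.symm⟩


open CategoryTheory in
/-- pushout version -/
theorem N2 {A' B' A B : CommRingCat.{u}} {φ' : A' ⟶ B'} {π : A' ⟶ A} {ι : B' ⟶ B} {ψ : A ⟶ B}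
    (hpo : IsPushout φ' π ι ψ) (hft : φ'.hom.FiniteType) (hπ : Function.Surjective π.hom)
    (hnil : ∀ x ∈ RingHom.ker π.hom, IsNilpotent x) (hψ : Function.Surjective ψ.hom) :
    Function.Surjective φ'.hom := by
  let I := RingHom.ker π.hom
  let J := I.map φ'.hom
  refine N1 φ'.hom hft I hnil ?_
  -- the map `A → B'/J`
  let g : {g : A' →+* (B' ⧸ J) // RingHom.ker π.hom ≤ RingHom.ker g} :=
    ⟨(Ideal.Quotient.mk J).comp φ'.hom, by
      intro x hx
      rw [RingHom.mem_ker, RingHom.comp_apply, Ideal.Quotient.eq_zero_iff_mem]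
      exact Ideal.mem_map_of_mem _ hx⟩
  let θ : A →+* (B' ⧸ J) := RingHom.liftOfSurjective π.hom hπ g
  have hθ : θ.comp π.hom = (Ideal.Quotient.mk J).comp φ'.hom :=
    RingHom.liftOfRightInverse_comp _ _ _ g
  let δ : B ⟶ CommRingCat.of (B' ⧸ J) :=
    hpo.desc (CommRingCat.ofHom (Ideal.Quotient.mk J)) (CommRingCat.ofHom θ) (by
      ext x
      exact (congr($hθ x)).symm)
  have hδ : ι ≫ δ = CommRingCat.ofHom (Ideal.Quotient.mk J) := hpo.inl_desc _ _ _
  intro b
  obtain ⟨a, ha⟩ := hψ (ι.hom b)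
  obtain ⟨a', rfl⟩ := hπ a
  refine ⟨a', ?_⟩
  have hw : ι.hom (φ'.hom a') = ψ.hom (π.hom a') := congr($(hpo.w) a')
  have h1 : ι.hom b = ι.hom (φ'.hom a') := by rw [hw, ha]
  have h2 : Ideal.Quotient.mk J b = Ideal.Quotient.mk J (φ'.hom a') := by
    have e1 : ∀ z : B', Ideal.Quotient.mk J z = δ.hom (ι.hom z) := fun z => (congr($hδ z)).symm
    rw [e1, e1, h1]
  rw [← Ideal.Quotient.eq]
  exact h2


end A

section B
open AlgebraicGeometry CategoryTheory Limits TopologicalSpace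

/-- kernel of a surjective closed immersion is nil on affine opens -/
theorem nil_ker {Y Y' : Scheme.{u}} (iY : Y ⟶ Y') [Surjective iY] (U' : Y'.Opens)
    (hU' : IsAffineOpen U') (x : Γ(Y', U')) (hx : (iY.app U').hom x = 0) : IsNilpotent x := by
  rw [Scheme.isNilpotent_iff_basicOpen_eq_bot_of_isCompact hU'.isCompact]
  have h1 : iY ⁻¹ᵁ (Y'.basicOpen x) = ⊥ := by
    rw [Scheme.preimage_basicOpen, hx, Scheme.basicOpen_zero]
  ext y
  simp only [Opens.coe_bot, Set.mem_empty_iff_false, iff_false]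
  intro hy
  obtain ⟨z, rfl⟩ := iY.surjective y
  have : z ∈ iY ⁻¹ᵁ (Y'.basicOpen x) := hy
  rw [h1] at this
  exact this

/-- topological transfer: `f'` is a closed embedding when `f` is and `iX`, `iY` are thickenings -/
theorem isClosedEmbedding_of_thick {X X' Y Y' : Scheme.{u}} (iX : X ⟶ X') (iY : Y ⟶ Y') (f : X ⟶ Y)
    (f' : X' ⟶ Y') (w : iX ≫ f' = f ≫ iY) [IsClosedImmersion iY] [IsClosedImmersion iX]
    [Surjective iX] (hf : Topology.IsClosedEmbedding f) : Topology.IsClosedEmbedding f' := by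
  have hX : IsHomeomorph iX := by
    rw [isHomeomorph_iff_isEmbedding_surjective]
    exact ⟨iX.isClosedEmbedding.isEmbedding, iX.surjective⟩
  let e : X ≃ₜ X' := hX.homeomorph
  have he : ∀ x, e x = iX x := fun x => rfl
  have h1 : Topology.IsClosedEmbedding ((⇑iY ∘ ⇑f) ∘ ⇑e.symm) :=
    (iY.isClosedEmbedding.comp hf).comp e.symm.isClosedEmbedding
  have h2 : (⇑iY ∘ ⇑f) ∘ ⇑e.symm = ⇑f' := by
    funext x'
    obtain ⟨x, rfl⟩ := e.surjective x'
    simp only [Function.comp_apply, Homeomorph.symm_apply_apply]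
    rw [he]
    exact (congr($w x)).symm
  rwa [h2] at h1


end B

section C
open AlgebraicGeometry CategoryTheory Limits TopologicalSpace

theorem ci_of_thick {X X' Y Y' : Scheme.{u}} (iX : X ⟶ X') (iY : Y ⟶ Y') (f : X ⟶ Y) (f' : X' ⟶ Y')
    (hY : MoreMor.IsThickening iY) (hc : IsPullback iX f f' iY) [LocallyOfFiniteType f']
    [IsClosedImmersion f] : IsClosedImmersion f' := by
  have : IsClosedImmersion iY := hY.1
  have : Surjective iY := hY.2
  have : IsClosedImmersion iX := MorphismProperty.of_isPullback (P := @IsClosedImmersion) hc.flip hY.1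
  have : Surjective iX := MorphismProperty.of_isPullback (P := @Surjective) hc.flip hY.2
  have hce : Topology.IsClosedEmbedding f' :=
    isClosedEmbedding_of_thick iX iY f f' hc.w f.isClosedEmbedding
  have : IsAffineHom f' := isAffineHom_of_isInducing f' hce.isInducing hce.isClosed_range
  rw [isClosedImmersion_iff_isAffineHom]
  refine ⟨inferInstance, fun U' hU' => ?_⟩
  let UT : Y.Opens := iY ⁻¹ᵁ U'
  let UX : X'.Opens := f' ⁻¹ᵁ U'
  have hUT : IsAffineOpen UT := hU'.preimage iY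
  have hUX : IsAffineOpen UX := hU'.preimage f'
  have hUST : UT ≤ iY ⁻¹ᵁ U' := le_rfl
  have hUSX : UX ≤ f' ⁻¹ᵁ U' := le_rfl
  have hiso := isIso_pushoutSection_of_isAffineOpen hc hUST hUSX rfl hU' hUT hUX
  have hpo := (isIso_pushoutSection_iff hc hUST hUSX rfl).mp hiso
  have hft : (f'.appLE U' UX hUSX).hom.FiniteType := f'.finiteType_appLE hU' hUX hUSX
  have hπ : Function.Surjective (iY.appLE U' UT hUST).hom := by
    have := iY.app_surjective U' hU'
    rwa [Scheme.Hom.app_eq_appLE] at this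
  have hnil : ∀ x ∈ RingHom.ker (iY.appLE U' UT hUST).hom, IsNilpotent x := by
    intro x hx
    refine nil_ker iY U' hU' x ?_
    rw [Scheme.Hom.app_eq_appLE]
    exact hx
  have hψ : Function.Surjective (f.appLE UT (iX ⁻¹ᵁ UX ⊓ f ⁻¹ᵁ UT) (by simp)).hom := by
    have h1 := f.app_surjective UT hUT
    have heq : iX ⁻¹ᵁ UX ⊓ f ⁻¹ᵁ UT = f ⁻¹ᵁ UT := by
      apply inf_eq_right.mpr
      intro x hx
      show f' (iX x) ∈ U'
      have : f' (iX x) = iY (f x) := congr($(hc.w) x)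
      rw [this]; exact hx
    intro z
    have hiso' : IsIso (X.presheaf.map (homOfLE (heq.le)).op) := by
      have : IsIso (homOfLE heq.le) := ⟨homOfLE heq.ge, rfl, rfl⟩
      infer_instance
    obtain ⟨w, hw⟩ := (ConcreteCategory.bijective_of_isIso (X.presheaf.map (homOfLE heq.le).op)).2 z
    obtain ⟨v, hv⟩ := h1 w
    refine ⟨v, ?_⟩
    rw [← hw, ← hv]
    rfl
  have := N2 hpo hft hπ hnil hψ
  rwa [Scheme.Hom.app_eq_appLE]


end C

section D
open TensorProduct

/-- N5: `R → S` surjective with nil kernel, `M` f.g., `S ⊗ M = 0` ⇒ `M = 0`. -/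
theorem N5 {R S M : Type*} [CommRing R] [CommRing S] [Algebra R S] [AddCommGroup M] [Module R M]
    [Module.Finite R M] (hsurj : Function.Surjective (algebraMap R S))
    (hnil : ∀ x ∈ RingHom.ker (algebraMap R S), IsNilpotent x)
    (h : Subsingleton (S ⊗[R] M)) : Subsingleton M := by
  let K : Ideal R := RingHom.ker (algebraMap R S)
  let e : (R ⧸ K) ≃ₐ[R] S := Ideal.quotientKerAlgEquivOfSurjective (f := Algebra.ofId R S) hsurj
  let e1 : (R ⧸ K) ⊗[R] M ≃ₗ[R] S ⊗[R] M :=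
    TensorProduct.congr e.toLinearEquiv (LinearEquiv.refl R M)
  let e2 := TensorProduct.quotTensorEquivQuotSMul M K
  have h1 : Subsingleton (M ⧸ (K • (⊤ : Submodule R M))) :=
    (e2.symm.trans e1).toEquiv.subsingleton
  have h2 : (K • (⊤ : Submodule R M)) = ⊤ := Submodule.Quotient.subsingleton_iff.mp h1
  have hK : K ≤ Ideal.jacobson ⊥ := by
    intro x hx
    have : x ∈ nilradical R := hnil x hx
    rw [Ideal.jacobson_bot]
    exact (nilradical_le_jacobson R) this
  have h3 : (⊤ : Submodule R M) = ⊥ :=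
    Submodule.eq_bot_of_le_smul_of_le_jacobson_bot K ⊤ Module.Finite.fg_top (by rw [h2]) hK
  exact (Submodule.subsingleton_iff R).mp (subsingleton_of_bot_eq_top h3.symm)


open CategoryTheory in
theorem ker_le_map {A' B' A B : CommRingCat.{u}} {φ' : A' ⟶ B'} {π : A' ⟶ A} {ι : B' ⟶ B} {ψ : A ⟶ B}
    (hpo : IsPushout φ' π ι ψ) (hπ : Function.Surjective π.hom) :
    RingHom.ker ι.hom ≤ (RingHom.ker π.hom).map φ'.hom := by
  let I := RingHom.ker π.hom
  let J := I.map φ'.hom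
  let g : {g : A' →+* (B' ⧸ J) // RingHom.ker π.hom ≤ RingHom.ker g} :=
    ⟨(Ideal.Quotient.mk J).comp φ'.hom, by
      intro x hx
      rw [RingHom.mem_ker, RingHom.comp_apply, Ideal.Quotient.eq_zero_iff_mem]
      exact Ideal.mem_map_of_mem _ hx⟩
  let θ : A →+* (B' ⧸ J) := RingHom.liftOfSurjective π.hom hπ g
  have hθ : θ.comp π.hom = (Ideal.Quotient.mk J).comp φ'.hom :=
    RingHom.liftOfRightInverse_comp _ _ _ g
  let δ : B ⟶ CommRingCat.of (B' ⧸ J) :=
    hpo.desc (CommRingCat.ofHom (Ideal.Quotient.mk J)) (CommRingCat.ofHom θ) (by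
      ext x
      exact (congr($hθ x)).symm)
  have hδ : ι ≫ δ = CommRingCat.ofHom (Ideal.Quotient.mk J) := hpo.inl_desc _ _ _
  intro b hb
  have e1 : Ideal.Quotient.mk J b = δ.hom (ι.hom b) := (congr($hδ b)).symm
  rw [RingHom.mem_ker] at hb
  rw [hb, map_zero, Ideal.Quotient.eq_zero_iff_mem] at e1
  exact e1

open CategoryTheory in
theorem N4 {A' B' A B : CommRingCat.{u}} {φ' : A' ⟶ B'} {π : A' ⟶ A} {ι : B' ⟶ B} {ψ : A ⟶ B}
    (hpo : IsPushout φ' π ι ψ) (hft : φ'.hom.FiniteType) (hπ : Function.Surjective π.hom)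
    (hnil : ∀ x ∈ RingHom.ker π.hom, IsNilpotent x) (hψ : ψ.hom.FormallyUnramified) :
    φ'.hom.FormallyUnramified := by
  have hker := ker_le_map hpo hπ
  algebraize [φ'.hom, π.hom, ι.hom, ψ.hom, ι.hom.comp φ'.hom]
  have : IsScalarTower A' A B := .of_algebraMap_eq' <| congr($(hpo.1.1).hom)
  have hpo' : Algebra.IsPushout A' B' A B := CommRingCat.isPushout_iff_isPushout.mp hpo
  have hpo'' : Algebra.IsPushout A' A B' B := hpo'.symm
  have hfu : Algebra.FormallyUnramified A B := hψ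
  have hft' : Algebra.FiniteType A' B' := hft
  let e := KaehlerDifferential.tensorKaehlerEquiv A' A B' B
  have hsub : Subsingleton (B ⊗[B'] Ω[B'⁄A']) := e.toEquiv.subsingleton
  -- surjectivity of ι
  have hsurj : Function.Surjective (algebraMap B' B) := by
    intro b
    refine hpo'.out.inductionOn b (fun b => ∃ b', algebraMap B' B b' = b) ⟨0, map_zero _⟩ ?_ ?_ ?_
    · intro a
      obtain ⟨a', rfl⟩ := hπ a
      refine ⟨algebraMap A' B' a', ?_⟩
      show algebraMap B' B (algebraMap A' B' a') = algebraMap A B (algebraMap A' A a')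
      rw [← IsScalarTower.algebraMap_apply, ← IsScalarTower.algebraMap_apply]
    · rintro s _ ⟨b', rfl⟩
      exact ⟨s * b', by rw [map_mul, Algebra.smul_def]⟩
    · rintro _ _ ⟨b1, rfl⟩ ⟨b2, rfl⟩
      exact ⟨b1 + b2, map_add _ _ _⟩
  have hnil' : ∀ x ∈ RingHom.ker (algebraMap B' B), IsNilpotent x := by
    intro x hx
    have h1 : x ∈ (RingHom.ker π.hom).map φ'.hom := hker hx
    have h2 : (RingHom.ker π.hom).map φ'.hom ≤ nilradical B' := by
      rw [Ideal.map_le_iff_le_comap]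
      intro y hy
      exact (hnil y hy).map φ'.hom
    exact h2 h1
  have : Subsingleton (Ω[B'⁄A']) := N5 hsurj hnil' hsub
  exact ⟨this⟩


end D

section E
open AlgebraicGeometry CategoryTheory Limits TopologicalSpace

theorem fu_of_thick {X X' Y Y' : Scheme.{u}} (iX : X ⟶ X') (iY : Y ⟶ Y') (f : X ⟶ Y) (f' : X' ⟶ Y')
    (hY : MoreMor.IsThickening iY) (hc : IsPullback iX f f' iY) [LocallyOfFiniteType f']
    [FormallyUnramified f] : FormallyUnramified f' := by
  have : IsClosedImmersion iY := hY.1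
  have : Surjective iY := hY.2
  have : IsClosedImmersion iX := MorphismProperty.of_isPullback (P := @IsClosedImmersion) hc.flip hY.1
  rw [HasRingHomProperty.iff_appLE (P := @FormallyUnramified)]
  rintro ⟨U', hU'⟩ ⟨V', hV'⟩ e
  let UT : Y.Opens := iY ⁻¹ᵁ U'
  have hUT : IsAffineOpen UT := hU'.preimage iY
  have hUST : UT ≤ iY ⁻¹ᵁ U' := le_rfl
  have hiso := isIso_pushoutSection_of_isAffineOpen hc hUST e rfl hU' hUT hV'
  have hpo := (isIso_pushoutSection_iff hc hUST e rfl).mp hiso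
  have hft : (f'.appLE U' V' e).hom.FiniteType := f'.finiteType_appLE hU' hV' e
  have hπ : Function.Surjective (iY.appLE U' UT hUST).hom := by
    have := iY.app_surjective U' hU'
    rwa [Scheme.Hom.app_eq_appLE] at this
  have hnil : ∀ x ∈ RingHom.ker (iY.appLE U' UT hUST).hom, IsNilpotent x := by
    intro x hx
    refine nil_ker iY U' hU' x ?_
    rw [Scheme.Hom.app_eq_appLE]
    exact hx
  have heq : iX ⁻¹ᵁ V' ⊓ f ⁻¹ᵁ UT = iX ⁻¹ᵁ V' := by
    apply inf_eq_left.mpr
    intro x hx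
    show iY (f x) ∈ U'
    have : iY (f x) = f' (iX x) := (congr($(hc.w) x)).symm
    rw [this]; exact e hx
  have hUY : IsAffineOpen (iX ⁻¹ᵁ V' ⊓ f ⁻¹ᵁ UT) := by
    rw [heq]; exact hV'.preimage iX
  have hψ : (f.appLE UT (iX ⁻¹ᵁ V' ⊓ f ⁻¹ᵁ UT) (by simp)).hom.FormallyUnramified :=
    HasRingHomProperty.appLE (P := @FormallyUnramified) f inferInstance ⟨UT, hUT⟩ ⟨_, hUY⟩ _
  exact N4 hpo hft hπ hnil hψ


end E

section F
open TensorProduct


/-- nilpotent Nakayama for subalgebras -/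
theorem N1' {A' B' : Type*} [CommRing A'] [CommRing B'] [Algebra A' B'] (C : Subalgebra A' B')
    (I : Ideal A') (n : ℕ) (hI : I ^ n = ⊥)
    (h : ∀ b : B', ∃ c ∈ C, b - c ∈ I.map (algebraMap A' B')) : C = ⊤ := by
  let J : Ideal B' := I.map (algebraMap A' B')
  have hJn : J ^ n = ⊥ := by rw [← Ideal.map_pow, hI]; exact Ideal.map_bot
  have hstep : ∀ k : ℕ, ∀ b : B', ∃ c ∈ C, b - c ∈ J ^ k := by
    intro k
    induction k with
    | zero => intro b; exact ⟨0, C.zero_mem, by simp⟩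
    | succ k ih =>
      intro b
      obtain ⟨c1, hc1, hb1⟩ := ih b
      have hx : b - c1 ∈ (I ^ k).map (algebraMap A' B') := by rw [Ideal.map_pow]; exact hb1
      have : ∀ x ∈ (I ^ k).map (algebraMap A' B'), ∃ c ∈ C, x - c ∈ J ^ (k + 1) := by
        intro x hx
        refine Submodule.span_induction ?_ ?_ ?_ ?_ hx
        · rintro _ ⟨e, he, rfl⟩
          exact ⟨algebraMap A' B' e, C.algebraMap_mem e, by rw [sub_self]; exact Ideal.zero_mem _⟩
        · exact ⟨0, C.zero_mem, by simp⟩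
        · rintro x y _ _ ⟨cx, hcx, hx⟩ ⟨cy, hcy, hy⟩
          refine ⟨cx + cy, C.add_mem hcx hcy, ?_⟩
          have : x + y - (cx + cy) = (x - cx) + (y - cy) := by ring
          rw [this]; exact Ideal.add_mem _ hx hy
        · rintro β x hxmem ⟨cx, hcx, hx⟩
          obtain ⟨c, hc, hβ⟩ := h β
          refine ⟨c * cx, C.mul_mem hc hcx, ?_⟩
          have hxk : x ∈ J ^ k := by rw [← Ideal.map_pow]; exact hxmem
          have e1 : β • x - c * cx = (β - c) * x + c * (x - cx) := by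
            rw [smul_eq_mul]; ring
          rw [e1]
          refine Ideal.add_mem _ ?_ (Ideal.mul_mem_left _ _ hx)
          rw [pow_succ']
          exact Ideal.mul_mem_mul hβ hxk
      obtain ⟨c2, hc2, hb2⟩ := this _ hx
      refine ⟨c1 + c2, C.add_mem hc1 hc2, ?_⟩
      have : b - (c1 + c2) = (b - c1) - c2 := by ring
      rw [this]; exact hb2
  rw [eq_top_iff]
  intro b _
  obtain ⟨c, hc, hb⟩ := hstep n b
  rw [hJn, Ideal.mem_bot, sub_eq_zero] at hb
  rw [hb]; exact hc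

open CategoryTheory in
/-- finite type lifts along nilpotent thickenings (pushout form) -/
theorem N6 {A' B' A B : CommRingCat.{u}} {φ' : A' ⟶ B'} {π : A' ⟶ A} {ι : B' ⟶ B} {ψ : A ⟶ B}
    (hpo : IsPushout φ' π ι ψ) (hπ : Function.Surjective π.hom)
    (n : ℕ) (hn : RingHom.ker π.hom ^ n = ⊥) (hψ : ψ.hom.FiniteType) :
    φ'.hom.FiniteType := by
  classical
  have hker := ker_le_map hpo hπ
  algebraize [φ'.hom, π.hom, ι.hom, ψ.hom, ι.hom.comp φ'.hom]
  have : IsScalarTower A' A B := .of_algebraMap_eq' <| congr($(hpo.1.1).hom)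
  have hpo' : Algebra.IsPushout A' B' A B := CommRingCat.isPushout_iff_isPushout.mp hpo
  have hft : Algebra.FiniteType A B := hψ
  -- surjectivity of ι
  have hsurj : Function.Surjective (algebraMap B' B) := by
    intro b
    refine hpo'.out.inductionOn b (fun b => ∃ b', algebraMap B' B b' = b) ⟨0, map_zero _⟩ ?_ ?_ ?_
    · intro a
      obtain ⟨a', rfl⟩ := hπ a
      refine ⟨algebraMap A' B' a', ?_⟩
      show algebraMap B' B (algebraMap A' B' a') = algebraMap A B (algebraMap A' A a')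
      rw [← IsScalarTower.algebraMap_apply, ← IsScalarTower.algebraMap_apply]
    · rintro s _ ⟨b', rfl⟩
      exact ⟨s * b', by rw [map_mul, Algebra.smul_def]⟩
    · rintro _ _ ⟨b1, rfl⟩ ⟨b2, rfl⟩
      exact ⟨b1 + b2, map_add _ _ _⟩
  obtain ⟨s, hs⟩ := (Algebra.FiniteType.out : (⊤ : Subalgebra A B).FG)
  choose lift hlift using hsurj
  let s' : Finset B' := s.image lift
  let C : Subalgebra A' B' := Algebra.adjoin A' (s' : Set B')
  -- image of C under ι contains everything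
  have hC : ∀ b : B, ∃ c ∈ C, algebraMap B' B c = b := by
    intro b
    have hb : b ∈ Algebra.adjoin A (s : Set B) := by rw [hs]; trivial
    refine Algebra.adjoin_induction ?_ ?_ ?_ ?_ hb
    · intro x hx
      exact ⟨lift x, Algebra.subset_adjoin (Finset.mem_image_of_mem lift hx), hlift x⟩
    · intro a
      obtain ⟨a', rfl⟩ := hπ a
      refine ⟨algebraMap A' B' a', C.algebraMap_mem a', ?_⟩
      show algebraMap B' B (algebraMap A' B' a') = algebraMap A B (algebraMap A' A a')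
      rw [← IsScalarTower.algebraMap_apply, ← IsScalarTower.algebraMap_apply]
    · rintro x y _ _ ⟨cx, hcx, rfl⟩ ⟨cy, hcy, rfl⟩
      exact ⟨cx + cy, C.add_mem hcx hcy, map_add _ _ _⟩
    · rintro x y _ _ ⟨cx, hcx, rfl⟩ ⟨cy, hcy, rfl⟩
      exact ⟨cx * cy, C.mul_mem hcx hcy, map_mul _ _ _⟩
  have hCtop : C = ⊤ := by
    refine N1' C (RingHom.ker π.hom) n hn ?_
    intro b
    obtain ⟨c, hc, hcb⟩ := hC (algebraMap B' B b)
    refine ⟨c, hc, ?_⟩
    apply hker
    rw [RingHom.mem_ker, map_sub]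
    exact sub_eq_zero.mpr hcb.symm
  exact ⟨⟨s', hCtop⟩⟩


/-- N5': `R → S` surjective with nilpotent kernel, `S ⊗ M = 0` ⇒ `M = 0` (no finiteness). -/
theorem N5' {R S M : Type*} [CommRing R] [CommRing S] [Algebra R S] [AddCommGroup M] [Module R M]
    (hsurj : Function.Surjective (algebraMap R S))
    (n : ℕ) (hn : RingHom.ker (algebraMap R S) ^ n = ⊥)
    (h : Subsingleton (S ⊗[R] M)) : Subsingleton M := by
  let K : Ideal R := RingHom.ker (algebraMap R S)
  let e : (R ⧸ K) ≃ₐ[R] S := Ideal.quotientKerAlgEquivOfSurjective (f := Algebra.ofId R S) hsurj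
  let e1 : (R ⧸ K) ⊗[R] M ≃ₗ[R] S ⊗[R] M :=
    TensorProduct.congr e.toLinearEquiv (LinearEquiv.refl R M)
  let e2 := TensorProduct.quotTensorEquivQuotSMul M K
  have h1 : Subsingleton (M ⧸ (K • (⊤ : Submodule R M))) :=
    (e2.symm.trans e1).toEquiv.subsingleton
  have h2 : (K • (⊤ : Submodule R M)) = ⊤ := Submodule.Quotient.subsingleton_iff.mp h1
  have h3 : ∀ k : ℕ, (K ^ k • (⊤ : Submodule R M)) = ⊤ := by
    intro k
    induction k with
    | zero => rw [pow_zero, Ideal.one_eq_top, Submodule.top_smul]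
    | succ k ih => rw [pow_succ, Submodule.mul_smul, h2, ih]
  have h4 : (⊤ : Submodule R M) = ⊥ := by
    rw [← h3 n, hn, Submodule.bot_smul]
  exact (Submodule.subsingleton_iff R).mp (subsingleton_of_bot_eq_top h4.symm)

open CategoryTheory in
theorem N7 {A' B' A B : CommRingCat.{u}} {φ' : A' ⟶ B'} {π : A' ⟶ A} {ι : B' ⟶ B} {ψ : A ⟶ B}
    (hpo : IsPushout φ' π ι ψ) (hπ : Function.Surjective π.hom)
    (n : ℕ) (hn : RingHom.ker π.hom ^ n = ⊥) (hψ : ψ.hom.FormallyUnramified) :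
    φ'.hom.FormallyUnramified := by
  have hker := ker_le_map hpo hπ
  algebraize [φ'.hom, π.hom, ι.hom, ψ.hom, ι.hom.comp φ'.hom]
  have : IsScalarTower A' A B := .of_algebraMap_eq' <| congr($(hpo.1.1).hom)
  have hpo' : Algebra.IsPushout A' B' A B := CommRingCat.isPushout_iff_isPushout.mp hpo
  have hpo'' : Algebra.IsPushout A' A B' B := hpo'.symm
  have hfu : Algebra.FormallyUnramified A B := hψ
  let e := KaehlerDifferential.tensorKaehlerEquiv A' A B' B
  have hsub : Subsingleton (B ⊗[B'] Ω[B'⁄A']) := e.toEquiv.subsingleton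
  have hsurj : Function.Surjective (algebraMap B' B) := by
    intro b
    refine hpo'.out.inductionOn b (fun b => ∃ b', algebraMap B' B b' = b) ⟨0, map_zero _⟩ ?_ ?_ ?_
    · intro a
      obtain ⟨a', rfl⟩ := hπ a
      refine ⟨algebraMap A' B' a', ?_⟩
      show algebraMap B' B (algebraMap A' B' a') = algebraMap A B (algebraMap A' A a')
      rw [← IsScalarTower.algebraMap_apply, ← IsScalarTower.algebraMap_apply]
    · rintro s _ ⟨b', rfl⟩
      exact ⟨s * b', by rw [map_mul, Algebra.smul_def]⟩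
    · rintro _ _ ⟨b1, rfl⟩ ⟨b2, rfl⟩
      exact ⟨b1 + b2, map_add _ _ _⟩
  have hn' : RingHom.ker (algebraMap B' B) ^ n = ⊥ := by
    have h1 : RingHom.ker (algebraMap B' B) ≤ (RingHom.ker π.hom).map φ'.hom := hker
    have h2 : ((RingHom.ker π.hom).map φ'.hom) ^ n = ⊥ := by
      rw [← Ideal.map_pow, hn]; exact Ideal.map_bot
    exact le_bot_iff.mp (h2 ▸ Ideal.pow_right_mono h1 n)
  have : Subsingleton (Ω[B'⁄A']) := N5' hsurj n hn' hsub
  exact ⟨this⟩


end F

section G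
open AlgebraicGeometry CategoryTheory Limits TopologicalSpace


/-- common affine-local data for a base-changed finite order thickening -/
theorem fthick_data {X X' Y Y' : Scheme.{u}} (iX : X ⟶ X') (iY : Y ⟶ Y') (f : X ⟶ Y) (f' : X' ⟶ Y')
    (hY : MoreMor.IsFiniteOrderThickening iY) (hc : IsPullback iX f f' iY)
    (U' : Y'.Opens) (hU' : IsAffineOpen U') (V' : X'.Opens) (hV' : IsAffineOpen V')
    (e : V' ≤ f' ⁻¹ᵁ U') :
    IsAffineOpen (iY ⁻¹ᵁ U') ∧ IsAffineOpen (iX ⁻¹ᵁ V' ⊓ f ⁻¹ᵁ (iY ⁻¹ᵁ U')) ∧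
    Function.Surjective (iY.appLE U' (iY ⁻¹ᵁ U') le_rfl).hom ∧
    (∃ n : ℕ, RingHom.ker (iY.appLE U' (iY ⁻¹ᵁ U') le_rfl).hom ^ n = ⊥) ∧
    IsPushout (f'.appLE U' V' e) (iY.appLE U' (iY ⁻¹ᵁ U') le_rfl)
      (iX.appLE V' (iX ⁻¹ᵁ V' ⊓ f ⁻¹ᵁ (iY ⁻¹ᵁ U')) (by simp))
      (f.appLE (iY ⁻¹ᵁ U') (iX ⁻¹ᵁ V' ⊓ f ⁻¹ᵁ (iY ⁻¹ᵁ U')) (by simp)) := by
  have : IsClosedImmersion iY := hY.1.1
  have : Surjective iY := hY.1.2
  have : IsClosedImmersion iX := MorphismProperty.of_isPullback (P := @IsClosedImmersion) hc.flip hY.1.1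
  let UT : Y.Opens := iY ⁻¹ᵁ U'
  have hUT : IsAffineOpen UT := hU'.preimage iY
  have hUST : UT ≤ iY ⁻¹ᵁ U' := le_rfl
  have hiso := isIso_pushoutSection_of_isAffineOpen hc hUST e rfl hU' hUT hV'
  have hpo := (isIso_pushoutSection_iff hc hUST e rfl).mp hiso
  have hπ : Function.Surjective (iY.appLE U' UT hUST).hom := by
    have := iY.app_surjective U' hU'
    rwa [Scheme.Hom.app_eq_appLE] at this
  have hnil : ∃ n : ℕ, RingHom.ker (iY.appLE U' UT hUST).hom ^ n = ⊥ := by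
    obtain ⟨n, hn⟩ := hY.2
    refine ⟨n, ?_⟩
    have := congr(($hn).ideal ⟨U', hU'⟩)
    rw [← Scheme.Hom.app_eq_appLE]
    simpa using this
  have heq : iX ⁻¹ᵁ V' ⊓ f ⁻¹ᵁ UT = iX ⁻¹ᵁ V' := by
    apply inf_eq_left.mpr
    intro x hx
    show iY (f x) ∈ U'
    have : iY (f x) = f' (iX x) := (congr($(hc.w) x)).symm
    rw [this]; exact e hx
  have hUY : IsAffineOpen (iX ⁻¹ᵁ V' ⊓ f ⁻¹ᵁ UT) := by
    rw [heq]; exact hV'.preimage iX
  exact ⟨hUT, hUY, hπ, hnil, hpo⟩

theorem lft_of_fthick {X X' Y Y' : Scheme.{u}} (iX : X ⟶ X') (iY : Y ⟶ Y') (f : X ⟶ Y) (f' : X' ⟶ Y')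
    (hY : MoreMor.IsFiniteOrderThickening iY) (hc : IsPullback iX f f' iY)
    [LocallyOfFiniteType f] : LocallyOfFiniteType f' := by
  rw [HasRingHomProperty.iff_appLE (P := @LocallyOfFiniteType)]
  rintro ⟨U', hU'⟩ ⟨V', hV'⟩ e
  obtain ⟨hUT, hUY, hπ, ⟨n, hn⟩, hpo⟩ := fthick_data iX iY f f' hY hc U' hU' V' hV' e
  exact N6 hpo hπ n hn (f.finiteType_appLE hUT hUY _)

theorem fu_of_fthick {X X' Y Y' : Scheme.{u}} (iX : X ⟶ X') (iY : Y ⟶ Y') (f : X ⟶ Y) (f' : X' ⟶ Y')
    (hY : MoreMor.IsFiniteOrderThickening iY) (hc : IsPullback iX f f' iY)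
    [FormallyUnramified f] : FormallyUnramified f' := by
  rw [HasRingHomProperty.iff_appLE (P := @FormallyUnramified)]
  rintro ⟨U', hU'⟩ ⟨V', hV'⟩ e
  obtain ⟨hUT, hUY, hπ, ⟨n, hn⟩, hpo⟩ := fthick_data iX iY f f' hY hc U' hU' V' hV' e
  exact N7 hpo hπ n hn
    (HasRingHomProperty.appLE (P := @FormallyUnramified) f inferInstance ⟨_, hUT⟩ ⟨_, hUY⟩ _)


/-- finite order thickenings are stable under base change -/
theorem fthick_baseChange {X X' Y Y' : Scheme.{u}} (iX : X ⟶ X') (iY : Y ⟶ Y') (f : X ⟶ Y) (f' : X' ⟶ Y')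
    (hY : MoreMor.IsFiniteOrderThickening iY) (hc : IsPullback iX f f' iY) :
    MoreMor.IsFiniteOrderThickening iX := by
  have : IsClosedImmersion iY := hY.1.1
  have : IsClosedImmersion iX := MorphismProperty.of_isPullback (P := @IsClosedImmersion) hc.flip hY.1.1
  refine ⟨⟨inferInstance, MorphismProperty.of_isPullback (P := @Surjective) hc.flip hY.1.2⟩, ?_⟩
  obtain ⟨n, hn⟩ := hY.2
  refine ⟨n, ?_⟩
  rw [Scheme.IdealSheafData.zero_eq_bot, eq_bot_iff]
  -- cover of X' by affine opens mapping into affine opens of Y'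
  let ι := {V' : X'.affineOpens // ∃ U' : Y'.affineOpens, V'.1 ≤ f' ⁻¹ᵁ U'.1}
  refine Scheme.IdealSheafData.le_of_iSup_eq_top (ι := ι) (fun i => i.1) ?_ ?_
  · rw [eq_top_iff]
    intro x _
    obtain ⟨_, ⟨U, hU, rfl⟩, hxU, -⟩ :=
      Y'.isBasis_affineOpens.exists_subset_of_mem_open (Set.mem_univ (f' x)) isOpen_univ
    obtain ⟨_, ⟨V, hV, rfl⟩, hxV, hVU : V ≤ f' ⁻¹ᵁ U⟩ :=
      X'.isBasis_affineOpens.exists_subset_of_mem_open hxU (f' ⁻¹ᵁ U).isOpen
    exact Opens.mem_iSup.mpr ⟨⟨⟨V, hV⟩, ⟨U, hU⟩, hVU⟩, hxV⟩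
  · rintro ⟨⟨V', hV'⟩, ⟨U', hU'⟩, e⟩
    obtain ⟨hUT, hUY, hπ, -, hpo⟩ := fthick_data iX iY f f' hY hc U' hU' V' hV' e
    have hker := ker_le_map hpo hπ
    have hn' : RingHom.ker (iY.appLE U' (iY ⁻¹ᵁ U') le_rfl).hom ^ n = ⊥ := by
      have := congr(($hn).ideal ⟨U', hU'⟩)
      rw [← Scheme.Hom.app_eq_appLE]
      simpa using this
    have heq : iX ⁻¹ᵁ V' ⊓ f ⁻¹ᵁ (iY ⁻¹ᵁ U') = iX ⁻¹ᵁ V' := by
      apply inf_eq_left.mpr
      intro x hx
      show iY (f x) ∈ U'
      have : iY (f x) = f' (iX x) := (congr($(hc.w) x)).symm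
      rw [this]; exact e hx
    show (iX.ker ^ n).ideal ⟨V', hV'⟩ ≤ (⊥ : X'.IdealSheafData).ideal ⟨V', hV'⟩
    rw [Scheme.IdealSheafData.ideal_pow, Scheme.IdealSheafData.ideal_bot, Pi.pow_apply,
      Scheme.Hom.ker_apply]
    have h1 : RingHom.ker (iX.app V').hom ≤
        (RingHom.ker (iY.appLE U' (iY ⁻¹ᵁ U') le_rfl).hom).map (f'.appLE U' V' e).hom := by
      intro x hx
      apply hker
      rw [RingHom.mem_ker] at hx ⊢
      rw [Scheme.Hom.appLE, CommRingCat.hom_comp, RingHom.comp_apply, hx, map_zero]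
    calc RingHom.ker (iX.app V').hom ^ n
        ≤ ((RingHom.ker (iY.appLE U' (iY ⁻¹ᵁ U') le_rfl).hom).map (f'.appLE U' V' e).hom) ^ n :=
          Ideal.pow_right_mono h1 n
      _ = ⊥ := by rw [← Ideal.map_pow, hn', Ideal.map_bot]
      _ ≤ _ := le_rfl

theorem mono_of_fthick {X X' Y Y' : Scheme.{u}} (iX : X ⟶ X') (iY : Y ⟶ Y') (f : X ⟶ Y) (f' : X' ⟶ Y')
    (hY : MoreMor.IsFiniteOrderThickening iY) (hc : IsPullback iX f f' iY)
    (hfu : FormallyUnramified f')
    [Mono f] : Mono f' := by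
  constructor
  intro T a b hab
  let j : pullback (a ≫ f') iY ⟶ T := pullback.fst _ _
  have hj : MoreMor.IsFiniteOrderThickening j :=
    fthick_baseChange j iY (pullback.snd _ _) (a ≫ f') hY (IsPullback.of_hasPullback _ _)
  have : IsClosedImmersion j := hj.1.1
  let a₀ : pullback (a ≫ f') iY ⟶ X := hc.lift (j ≫ a) (pullback.snd _ _)
    (by rw [Category.assoc]; exact pullback.condition)
  let b₀ : pullback (a ≫ f') iY ⟶ X := hc.lift (j ≫ b) (pullback.snd _ _)
    (by rw [Category.assoc, ← hab]; exact pullback.condition)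
  have hab₀ : a₀ = b₀ := by
    rw [← cancel_mono f]
    exact (hc.lift_snd _ _ _).trans (hc.lift_snd _ _ _).symm
  have hja : j ≫ a = j ≫ b := by
    rw [← hc.lift_fst (j ≫ a) (pullback.snd _ _) (by rw [Category.assoc]; exact pullback.condition)]
    show a₀ ≫ iX = _
    rw [hab₀]
    exact hc.lift_fst _ _ _
  exact FormallyUnramified.hom_ext j hj.2 f' hja hab


end G

end Groth.Agent.Lib.Helper2.Thick
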