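import Mathlib
import Groth.Prelude.Def_MoreMor
import Groth.Agent.Lib.Helper2Thick
set_option autoImplicit false
universe u

/-! Formally étale morphisms (lifting sense) vs affine-local ring maps; unique lifting along
finite order thickenings of arbitrary schemes by gluing local lifts. (helper2) -/

namespace Groth.Agent.Lib.Helper2.FormalEt
open AlgebraicGeometry CategoryTheory Limits TopologicalSpace

theorem surj_specMap_mk (A : Type u) [CommRing A] (I : Ideal A) (hI : I ^ 2 = ⊥)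
    (y : ↥(Spec (CommRingCat.of A))) :
    ∃ y₀ : ↥(Spec (CommRingCat.of (A ⧸ I))),
      (Spec.map (CommRingCat.ofHom (Ideal.Quotient.mk I))) y₀ = y := by
  have hle : I ≤ nilradical A := by
    intro x hx
    refine ⟨2, ?_⟩
    have : x ^ 2 ∈ I ^ 2 := Ideal.pow_mem_pow hx 2
    rw [hI] at this
    exact this
  exact (PrimeSpectrum.comap_quotientMk_bijective_of_le_nilradical hle).2 y

/-- Part 1: a formally étale morphism (lifting sense) has formally étale affine-local ring maps -/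
theorem formallyEtale_appLE {X Y : Scheme.{u}} (f : X ⟶ Y) (hf : MoreMor.IsFormallyEtaleHom f)
    (U : X.Opens) (V : Y.Opens) (hU : IsAffineOpen U) (hV : IsAffineOpen V) (hUV : U ≤ f ⁻¹ᵁ V) :
    (f.appLE V U hUV).hom.FormallyEtale := by
  algebraize [(f.appLE V U hUV).hom]
  show Algebra.FormallyEtale Γ(Y, V) Γ(X, U)
  rw [Algebra.FormallyEtale.iff_comp_bijective]
  intro B _ _ I hI
  have hfac : Spec.map (f.appLE V U hUV) ≫ hV.fromSpec = hU.fromSpec ≫ f :=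
    IsAffineOpen.SpecMap_appLE_fromSpec f hV hU hUV
  -- the data for a given algebra map
  have key : ∀ ψ : Γ(X, U) →ₐ[Γ(Y, V)] B,
      (Spec.map (CommRingCat.ofHom ψ.toRingHom) ≫ hU.fromSpec) ≫ f =
        Spec.map (CommRingCat.ofHom (algebraMap Γ(Y, V) B)) ≫ hV.fromSpec := by
    intro ψ
    rw [Category.assoc, ← hfac, ← Category.assoc, ← Spec.map_comp]
    congr 2
    ext r
    exact ψ.commutes r
  have key' : ∀ ψ : Γ(X, U) →ₐ[Γ(Y, V)] B ⧸ I,
      (Spec.map (CommRingCat.ofHom ψ.toRingHom) ≫ hU.fromSpec) ≫ f =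
        Spec.map (CommRingCat.ofHom (Ideal.Quotient.mk I)) ≫
          Spec.map (CommRingCat.ofHom (algebraMap Γ(Y, V) B)) ≫ hV.fromSpec := by
    intro ψ
    rw [Category.assoc, ← hfac, ← Category.assoc, ← Spec.map_comp, ← Category.assoc,
      ← Spec.map_comp]
    congr 2
    ext r
    exact ψ.commutes r
  constructor
  · intro ψ₁ ψ₂ h
    have h' : ∀ x, Ideal.Quotient.mk I (ψ₁ x) = Ideal.Quotient.mk I (ψ₂ x) :=
      fun x => congr($h x)
    let g := (Ideal.Quotient.mkₐ Γ(Y, V) I).comp ψ₁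
    obtain ⟨l, -, hl⟩ := hf B I hI (Spec.map (CommRingCat.ofHom g.toRingHom) ≫ hU.fromSpec)
      (Spec.map (CommRingCat.ofHom (algebraMap Γ(Y, V) B)) ≫ hV.fromSpec) (key' g).symm
    have e1 := hl (Spec.map (CommRingCat.ofHom ψ₁.toRingHom) ≫ hU.fromSpec) ⟨by
      rw [← Category.assoc, ← Spec.map_comp]; rfl, key ψ₁⟩
    have e2 := hl (Spec.map (CommRingCat.ofHom ψ₂.toRingHom) ≫ hU.fromSpec) ⟨by
      rw [← Category.assoc, ← Spec.map_comp]
      congr 2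
      ext x
      exact (h' x).symm, key ψ₂⟩
    have e3 := e1.trans e2.symm
    rw [cancel_mono] at e3
    have e4 := Spec.map_injective e3
    ext x
    exact congr($(e4).hom x)
  · intro g
    obtain ⟨l, ⟨hl1, hl2⟩, -⟩ := hf B I hI (Spec.map (CommRingCat.ofHom g.toRingHom) ≫ hU.fromSpec)
      (Spec.map (CommRingCat.ofHom (algebraMap Γ(Y, V) B)) ≫ hV.fromSpec) (key' g).symm
    have hrange : Set.range l ⊆ Set.range hU.fromSpec := by
      rintro _ ⟨y, rfl⟩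
      obtain ⟨y₀, rfl⟩ := surj_specMap_mk B I hI y
      have : l (Spec.map (CommRingCat.ofHom (Ideal.Quotient.mk I)) y₀) =
          hU.fromSpec (Spec.map (CommRingCat.ofHom g.toRingHom) y₀) := by
        have := congr($hl1 y₀)
        simpa using this
      rw [this]
      exact ⟨_, rfl⟩
    let l₁ := IsOpenImmersion.lift hU.fromSpec l hrange
    have hl₁ : l₁ ≫ hU.fromSpec = l := IsOpenImmersion.lift_fac _ _ _
    obtain ⟨ψ, hψ⟩ := Spec.map_surjective l₁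
    have hψ1 : (f.appLE V U hUV) ≫ ψ = CommRingCat.ofHom (algebraMap Γ(Y, V) B) := by
      apply Spec.map_injective
      rw [← cancel_mono hV.fromSpec, Spec.map_comp, Category.assoc, hfac, ← Category.assoc, hψ,
        hl₁, hl2]
    have hψ2 : ψ ≫ CommRingCat.ofHom (Ideal.Quotient.mk I) = CommRingCat.ofHom g.toRingHom := by
      apply Spec.map_injective
      rw [← cancel_mono hU.fromSpec, Spec.map_comp, Category.assoc, hψ, hl₁, hl1]
    refine ⟨⟨ψ.hom, fun r => congr($(hψ1).hom r)⟩, ?_⟩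
    ext x
    exact congr($(hψ2).hom x)

theorem appLE_congr' {X Y : Scheme.{u}} {h1 h2 : X ⟶ Y} (e : h1 = h2) (U : Y.Opens) (V : X.Opens)
    (le1 : V ≤ h1 ⁻¹ᵁ U) (le2 : V ≤ h2 ⁻¹ᵁ U) : h1.appLE U V le1 = h2.appLE U V le2 := by
  subst e; rfl

/-- local lift on an affine open of the thick scheme -/
theorem local_lift {X Y : Scheme.{u}} (f : X ⟶ Y) {T T' : Scheme.{u}} (t : T ⟶ T')
    [IsClosedImmersion t] (hnil : IsNilpotent t.ker) (a : T ⟶ X) (b : T' ⟶ Y)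
    (w : t ≫ b = a ≫ f) (U : X.Opens) (V : Y.Opens) (hU : IsAffineOpen U) (hV : IsAffineOpen V)
    (hUV : U ≤ f ⁻¹ᵁ V) (hfe : (f.appLE V U hUV).hom.FormallySmooth)
    (W' : T'.Opens) (hW' : IsAffineOpen W') (hbW : W' ≤ b ⁻¹ᵁ V) (haW : t ⁻¹ᵁ W' ≤ a ⁻¹ᵁ U) :
    ∃ l : W'.toScheme ⟶ X, l ≫ f = W'.ι ≫ b ∧ (t ∣_ W') ≫ l = (t ⁻¹ᵁ W').ι ≫ a := by
  have hW : IsAffineOpen (t ⁻¹ᵁ W') := hW'.preimage t
  have hcomm : f.appLE V U hUV ≫ a.appLE U (t ⁻¹ᵁ W') haW = b.appLE V W' hbW ≫ t.app W' := by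
    rw [Scheme.Hom.appLE_comp_appLE, Scheme.Hom.app_eq_appLE, Scheme.Hom.appLE_comp_appLE]
    exact appLE_congr' w.symm _ _ _ _
  have hsurj : Function.Surjective (t.app W').hom := t.app_surjective W' hW'
  have hnil' : IsNilpotent (RingHom.ker (t.app W').hom) := by
    obtain ⟨n, hn⟩ := hnil
    exact ⟨n, by simpa using congr(($hn).ideal ⟨W', hW'⟩)⟩
  algebraize [(f.appLE V U hUV).hom, (b.appLE V W' hbW).hom, (b.appLE V W' hbW ≫ t.app W').hom]
  have : Algebra.FormallySmooth Γ(Y, V) Γ(X, U) := hfe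
  let αalg : Γ(X, U) →ₐ[Γ(Y, V)] Γ(T, t ⁻¹ᵁ W') :=
    ⟨(a.appLE U (t ⁻¹ᵁ W') haW).hom, fun r => congr($(hcomm).hom r)⟩
  let τalg : Γ(T', W') →ₐ[Γ(Y, V)] Γ(T, t ⁻¹ᵁ W') := ⟨(t.app W').hom, fun r => rfl⟩
  let ψ := Algebra.FormallySmooth.liftOfSurjective αalg τalg hsurj hnil'
  have hψ : ∀ x, (t.app W').hom (ψ x) = (a.appLE U (t ⁻¹ᵁ W') haW).hom x :=
    Algebra.FormallySmooth.liftOfSurjective_apply αalg τalg hsurj hnil'
  have hψ1 : f.appLE V U hUV ≫ CommRingCat.ofHom ψ.toRingHom = b.appLE V W' hbW := by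
    ext r
    exact ψ.commutes r
  have hψ2 : CommRingCat.ofHom ψ.toRingHom ≫ t.app W' = a.appLE U (t ⁻¹ᵁ W') haW := by
    ext x
    exact hψ x
  refine ⟨hW'.isoSpec.hom ≫ Spec.map (CommRingCat.ofHom ψ.toRingHom) ≫ hU.fromSpec, ?_, ?_⟩
  · rw [Category.assoc, Category.assoc, ← IsAffineOpen.SpecMap_appLE_fromSpec f hV hU hUV,
      ← Spec.map_comp_assoc, hψ1, IsAffineOpen.SpecMap_appLE_fromSpec b hV hW' hbW,
      ← Category.assoc, IsAffineOpen.isoSpec_hom_fromSpec]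
  · have hkey : hW.isoSpec.inv ≫ (t ∣_ W') ≫ hW'.isoSpec.hom = Spec.map (t.app W') := by
      rw [← cancel_mono hW'.fromSpec, Category.assoc, Category.assoc,
        IsAffineOpen.isoSpec_hom_fromSpec, morphismRestrict_ι, ← Category.assoc,
        IsAffineOpen.isoSpec_inv_ι, Scheme.Hom.app_eq_appLE,
        IsAffineOpen.SpecMap_appLE_fromSpec t hW' hW le_rfl]
    rw [← cancel_epi hW.isoSpec.inv, ← Category.assoc, ← Category.assoc, ← Category.assoc,
      Category.assoc hW.isoSpec.inv, hkey, Category.assoc, ← Spec.map_comp_assoc, hψ2,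
      IsAffineOpen.SpecMap_appLE_fromSpec a hU hW haW, ← Category.assoc,
      IsAffineOpen.isoSpec_inv_ι]

theorem isNilpotent_ker_fst {T T' P : Scheme.{u}} (t : T ⟶ T') [IsClosedImmersion t] [Surjective t]
    (hnil : IsNilpotent t.ker) (p : P ⟶ T') : IsNilpotent (pullback.fst p t).ker :=
  (Groth.Agent.Lib.Helper2.Thick.fthick_baseChange (pullback.fst p t) t (pullback.snd p t) p
    ⟨⟨inferInstance, inferInstance⟩, hnil⟩ (IsPullback.of_hasPullback p t)).2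

theorem exists_unique_lift {X Y : Scheme.{u}} (f : X ⟶ Y)
    (hloc : ∀ (U : X.Opens) (V : Y.Opens) (_ : IsAffineOpen U) (_ : IsAffineOpen V)
      (hUV : U ≤ f ⁻¹ᵁ V), (f.appLE V U hUV).hom.FormallyEtale)
    {T T' : Scheme.{u}} (t : T ⟶ T') [IsClosedImmersion t] [Surjective t]
    (hnil : IsNilpotent t.ker) (a : T ⟶ X) (b : T' ⟶ Y)
    (w : t ≫ b = a ≫ f) : ∃! l : T' ⟶ X, t ≫ l = a ∧ l ≫ f = b := by
  have hfu : FormallyUnramified f := by
    rw [HasRingHomProperty.iff_appLE (P := @FormallyUnramified)]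
    rintro ⟨V, hV⟩ ⟨U, hU⟩ e
    have h := hloc U V hU hV e
    algebraize [(f.appLE V U e).hom]
    exact (inferInstance : Algebra.FormallyUnramified Γ(Y, V) Γ(X, U))
  -- uniqueness principle
  have uniq : ∀ {P : Scheme.{u}} (p : P ⟶ T') (m₁ m₂ : P ⟶ X),
      pullback.fst p t ≫ m₁ = pullback.snd p t ≫ a → pullback.fst p t ≫ m₂ = pullback.snd p t ≫ a →
      m₁ ≫ f = m₂ ≫ f → m₁ = m₂ := by
    intro P p m₁ m₂ h₁ h₂ hf
    exact FormallyUnramified.hom_ext (pullback.fst p t) (isNilpotent_ker_fst t hnil p) f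
      (h₁.trans h₂.symm) hf
  have hhomeo : IsHomeomorph t := by
    rw [isHomeomorph_iff_isEmbedding_surjective]
    exact ⟨t.isClosedEmbedding.isEmbedding, t.surjective⟩
  -- index type
  let J := {j : T'.Opens × X.Opens × Y.Opens // IsAffineOpen j.1 ∧ IsAffineOpen j.2.1 ∧
    IsAffineOpen j.2.2 ∧ j.2.1 ≤ f ⁻¹ᵁ j.2.2 ∧ j.1 ≤ b ⁻¹ᵁ j.2.2 ∧ t ⁻¹ᵁ j.1 ≤ a ⁻¹ᵁ j.2.1}
  have hcov : IsOpenCover (fun j : J => j.1.1) := by
    apply IsOpenCover.mk
    rw [eq_top_iff]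
    intro p' _
    obtain ⟨p, rfl⟩ := t.surjective p'
    obtain ⟨_, ⟨V, hV, rfl⟩, hpV, -⟩ :=
      Y.isBasis_affineOpens.exists_subset_of_mem_open (Set.mem_univ (b (t p))) isOpen_univ
    have hpV' : f (a p) ∈ V := by
      have : f (a p) = b (t p) := (congr($w p)).symm
      rw [this]; exact hpV
    obtain ⟨_, ⟨U, hU, rfl⟩, hpU, hUV : U ≤ f ⁻¹ᵁ V⟩ :=
      X.isBasis_affineOpens.exists_subset_of_mem_open hpV' (f ⁻¹ᵁ V).isOpen
    let O' : T'.Opens := ⟨t '' (a ⁻¹ᵁ U).1, hhomeo.isOpenMap _ (a ⁻¹ᵁ U).2⟩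
    have hpO : t p ∈ O' ⊓ b ⁻¹ᵁ V := ⟨⟨p, hpU, rfl⟩, hpV⟩
    obtain ⟨_, ⟨W', hW', rfl⟩, hpW, hWO : W' ≤ O' ⊓ b ⁻¹ᵁ V⟩ :=
      T'.isBasis_affineOpens.exists_subset_of_mem_open hpO (O' ⊓ b ⁻¹ᵁ V).isOpen
    refine Opens.mem_iSup.mpr ⟨⟨(W', U, V), hW', hU, hV, hUV, fun x hx => (hWO hx).2, ?_⟩, hpW⟩
    intro q hq
    obtain ⟨q', hq', hqq⟩ := (hWO hq).1
    rw [← t.injective hqq]
    exact hq'
  let 𝒰 := T'.openCoverOfIsOpenCover _ hcov
  -- local lifts
  have hl : ∀ j : J, ∃ l : (j.1.1).toScheme ⟶ X, l ≫ f = (j.1.1).ι ≫ b ∧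
      (t ∣_ j.1.1) ≫ l = (t ⁻¹ᵁ j.1.1).ι ≫ a := by
    rintro ⟨⟨W', U, V⟩, hW', hU, hV, hUV, hbW, haW⟩
    have hfe : (f.appLE V U hUV).hom.FormallySmooth := by
      have h := hloc U V hU hV hUV
      algebraize [(f.appLE V U hUV).hom]
      exact (inferInstance : Algebra.FormallySmooth Γ(Y, V) Γ(X, U))
    exact local_lift f t hnil a b w U V hU hV hUV hfe W' hW' hbW haW
  choose l hl1 hl2 using hl
  -- restriction of a local lift along the thin pullback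
  have hl3 : ∀ (j : J) {P : Scheme.{u}} (p : P ⟶ (j.1.1).toScheme),
      pullback.fst (p ≫ (j.1.1).ι) t ≫ p ≫ l j = pullback.snd (p ≫ (j.1.1).ι) t ≫ a := by
    intro j P p
    have sq := isPullback_morphismRestrict t j.1.1
    let k : pullback (p ≫ (j.1.1).ι) t ⟶ (t ⁻¹ᵁ j.1.1).toScheme :=
      sq.lift (pullback.fst _ _ ≫ p) (pullback.snd _ _) (by
        rw [Category.assoc]; exact pullback.condition)
    have hk1 : k ≫ (t ∣_ j.1.1) = pullback.fst _ _ ≫ p := sq.lift_fst _ _ _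
    have hk2 : k ≫ (t ⁻¹ᵁ j.1.1).ι = pullback.snd _ _ := sq.lift_snd _ _ _
    rw [← Category.assoc, ← hk1, Category.assoc, hl2 j, ← Category.assoc, hk2]
  -- gluing
  have hcompat : ∀ x y : J, pullback.fst (𝒰.f x) (𝒰.f y) ≫ l x = pullback.snd (𝒰.f x) (𝒰.f y) ≫ l y := by
    intro x y
    apply uniq (pullback.fst (𝒰.f x) (𝒰.f y) ≫ (x.1.1).ι)
    · exact hl3 x (pullback.fst (𝒰.f x) (𝒰.f y))
    · have hc : pullback.fst (𝒰.f x) (𝒰.f y) ≫ (x.1.1).ι = pullback.snd (𝒰.f x) (𝒰.f y) ≫ (y.1.1).ι :=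
        pullback.condition
      rw! [hc]
      exact hl3 y (pullback.snd (𝒰.f x) (𝒰.f y))
    · have hc : pullback.fst (𝒰.f x) (𝒰.f y) ≫ (x.1.1).ι = pullback.snd (𝒰.f x) (𝒰.f y) ≫ (y.1.1).ι :=
        pullback.condition
      calc (pullback.fst (𝒰.f x) (𝒰.f y) ≫ l x) ≫ f
          = pullback.fst (𝒰.f x) (𝒰.f y) ≫ (l x ≫ f) := Category.assoc _ _ _
        _ = pullback.fst (𝒰.f x) (𝒰.f y) ≫ ((x.1.1).ι ≫ b) :=
            congrArg (pullback.fst (𝒰.f x) (𝒰.f y) ≫ ·) (hl1 x)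
        _ = (pullback.fst (𝒰.f x) (𝒰.f y) ≫ (x.1.1).ι) ≫ b := (Category.assoc _ _ _).symm
        _ = (pullback.snd (𝒰.f x) (𝒰.f y) ≫ (y.1.1).ι) ≫ b := by rw [hc]
        _ = pullback.snd (𝒰.f x) (𝒰.f y) ≫ ((y.1.1).ι ≫ b) := Category.assoc _ _ _
        _ = pullback.snd (𝒰.f x) (𝒰.f y) ≫ (l y ≫ f) :=
            (congrArg (pullback.snd (𝒰.f x) (𝒰.f y) ≫ ·) (hl1 y)).symm
        _ = (pullback.snd (𝒰.f x) (𝒰.f y) ≫ l y) ≫ f := (Category.assoc _ _ _).symm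
  let L : T' ⟶ X := 𝒰.glueMorphisms l hcompat
  have hL : ∀ j : J, (j.1.1).ι ≫ L = l j := fun j => 𝒰.ι_glueMorphisms l hcompat j
  have hLf : L ≫ f = b := by
    apply 𝒰.hom_ext
    intro j
    show (j.1.1).ι ≫ L ≫ f = (j.1.1).ι ≫ b
    rw [← Category.assoc, hL, hl1]
  have htL : t ≫ L = a := by
    have hcovT : IsOpenCover (fun j : J => t ⁻¹ᵁ j.1.1) := by
      apply IsOpenCover.mk
      rw [eq_top_iff]
      intro p _
      obtain ⟨j, hj⟩ := hcov.exists_mem (t p)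
      exact Opens.mem_iSup.mpr ⟨j, hj⟩
    apply (T.openCoverOfIsOpenCover _ hcovT).hom_ext
    intro j
    show (t ⁻¹ᵁ j.1.1).ι ≫ t ≫ L = (t ⁻¹ᵁ j.1.1).ι ≫ a
    rw [← Category.assoc, ← morphismRestrict_ι, Category.assoc, hL, hl2]
  refine ⟨L, ⟨htL, hLf⟩, ?_⟩
  rintro L' ⟨h1, h2⟩
  have hcond : pullback.fst (𝟙 T') t = pullback.snd (𝟙 T') t ≫ t := by
    have := pullback.condition (f := 𝟙 T') (g := t)
    rwa [Category.comp_id] at this
  apply uniq (𝟙 T')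
  · rw [hcond, Category.assoc, h1]
  · rw [hcond, Category.assoc, htL]
  · rw [h2, hLf]

theorem spec_nilpotent (A : Type u) [CommRing A] (I : Ideal A) (hI : I ^ 2 = ⊥) :
    IsNilpotent (Spec.map (CommRingCat.ofHom (Ideal.Quotient.mk I))).ker := by
  refine ⟨2, ?_⟩
  rw [Scheme.IdealSheafData.zero_eq_bot]
  apply Scheme.IdealSheafData.ext_of_isAffine
  rw [Scheme.IdealSheafData.ideal_pow, Scheme.IdealSheafData.ideal_bot, Pi.pow_apply,
    Scheme.Hom.ker_apply, Pi.bot_apply, eq_bot_iff, pow_two, Ideal.mul_le]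
  intro x hx y hy
  rw [RingHom.mem_ker] at hx hy
  have nat := Scheme.ΓSpecIso_naturality (CommRingCat.ofHom (Ideal.Quotient.mk I))
  have hx' : (Ideal.Quotient.mk I) ((Scheme.ΓSpecIso (CommRingCat.of A)).hom x) = 0 := by
    have := congr($(nat).hom x)
    simp only [CommRingCat.hom_comp, RingHom.comp_apply] at this
    erw [hx, map_zero] at this
    exact this.symm
  have hy' : (Ideal.Quotient.mk I) ((Scheme.ΓSpecIso (CommRingCat.of A)).hom y) = 0 := by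
    have := congr($(nat).hom y)
    simp only [CommRingCat.hom_comp, RingHom.comp_apply] at this
    erw [hy, map_zero] at this
    exact this.symm
  rw [Ideal.Quotient.eq_zero_iff_mem] at hx' hy'
  have hxy : (Scheme.ΓSpecIso (CommRingCat.of A)).hom (x * y) = 0 := by
    rw [map_mul]
    have : (Scheme.ΓSpecIso (CommRingCat.of A)).hom x * (Scheme.ΓSpecIso (CommRingCat.of A)).hom y
        ∈ I ^ 2 := by rw [pow_two]; exact Ideal.mul_mem_mul hx' hy'
    rw [hI] at this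
    exact this
  rw [Ideal.mem_bot]
  have hinj : Function.Injective (Scheme.ΓSpecIso (CommRingCat.of A)).hom :=
    (ConcreteCategory.bijective_of_isIso (Scheme.ΓSpecIso (CommRingCat.of A)).hom).1
  exact hinj (by rw [hxy, map_zero])


end Groth.Agent.Lib.Helper2.FormalEt
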