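import Mathlib
import Groth.Agent.Lib.Helper2FormalEt

set_option autoImplicit false
set_option linter.style.haveILetI false
universe u
open CategoryTheory CategoryTheory.Limits AlgebraicGeometry TopologicalSpace Opposite

namespace Groth.Agent.Lib.Helper12.SmoothLocalLift

/-- **Smooth algebras lift along surjections with nil kernel** (no nilpotency assumed: the kernel of the
lifting problem is replaced by a finitely generated, hence nilpotent, subideal using finite presentation). -/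
theorem exists_lift_of_smooth {R B A C : Type u} [CommRing R] [CommRing B] [CommRing A] [CommRing C]
    [Algebra R B] [Algebra R A] [Algebra R C] [Algebra.FormallySmooth R B]
    [Algebra.FinitePresentation R B]
    (α : B →ₐ[R] C) (τ : A →ₐ[R] C) (hτ : Function.Surjective τ)
    (hnil : RingHom.ker (τ : A →+* C) ≤ nilradical A) :
    ∃ ψ : B →ₐ[R] A, τ.comp ψ = α := by
  classical
  obtain ⟨n, π, hπ, hker⟩ := Algebra.FinitePresentation.out (R := R) (A := B)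
  choose a ha using fun k : Fin n => hτ (α (π (MvPolynomial.X k)))
  let θ : MvPolynomial (Fin n) R →ₐ[R] A := MvPolynomial.aeval a
  have h1 : τ.comp θ = α.comp π := by
    apply MvPolynomial.algHom_ext
    intro k
    simp [θ, ha]
  let J : Ideal A := (RingHom.ker π.toRingHom).map θ.toRingHom
  have hJτ : J ≤ RingHom.ker (τ : A →+* C) := by
    rw [Ideal.map_le_iff_le_comap]
    intro p hp
    rw [Ideal.mem_comap, RingHom.mem_ker]
    have := congr($h1 p)
    change τ (θ p) = _ at this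
    change τ (θ p) = 0
    rw [this]
    change α (π p) = 0
    rw [show π p = 0 from hp, map_zero]
  have hJfg : J.FG := hker.map _
  have hJnil : IsNilpotent J := hJfg.isNilpotent_iff_le_nilradical.mpr (hJτ.trans hnil)
  have hH : RingHom.ker π.toRingHom ≤ RingHom.ker ((Ideal.Quotient.mkₐ R J).comp θ).toRingHom := by
    intro p hp
    rw [RingHom.mem_ker]
    change Ideal.Quotient.mk J (θ p) = 0
    rw [Ideal.Quotient.eq_zero_iff_mem]
    exact Ideal.mem_map_of_mem _ hp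
  let ψ₀ : B →ₐ[R] A ⧸ J := AlgHom.liftOfSurjective π hπ ((Ideal.Quotient.mkₐ R J).comp θ) hH
  have hψ₀ : ∀ p, ψ₀ (π p) = Ideal.Quotient.mk J (θ p) := fun p =>
    AlgHom.liftOfSurjective_apply π hπ _ hH p
  have hmk : Function.Surjective (Ideal.Quotient.mkₐ R J) := Ideal.Quotient.mkₐ_surjective R J
  have hnil' : IsNilpotent (RingHom.ker ((Ideal.Quotient.mkₐ R J : A →ₐ[R] A ⧸ J) : A →+* A ⧸ J)) := by
    have : RingHom.ker ((Ideal.Quotient.mkₐ R J : A →ₐ[R] A ⧸ J) : A →+* A ⧸ J) = J := by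
      ext x
      rw [RingHom.mem_ker]
      exact Ideal.Quotient.eq_zero_iff_mem
    rw [this]
    exact hJnil
  refine ⟨Algebra.FormallySmooth.liftOfSurjective ψ₀ (Ideal.Quotient.mkₐ R J) hmk hnil', ?_⟩
  apply AlgHom.ext
  intro b
  obtain ⟨p, rfl⟩ := hπ b
  have h2 : Ideal.Quotient.mk J (Algebra.FormallySmooth.liftOfSurjective ψ₀
      (Ideal.Quotient.mkₐ R J) hmk hnil' (π p)) = Ideal.Quotient.mk J (θ p) :=
    (Algebra.FormallySmooth.liftOfSurjective_apply ψ₀ (Ideal.Quotient.mkₐ R J) hmk hnil'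
      (π p)).trans (hψ₀ p)
  rw [Ideal.Quotient.eq] at h2
  have h3 := hJτ h2
  rw [RingHom.mem_ker, map_sub, sub_eq_zero] at h3
  change τ _ = α (π p)
  refine (h3 : τ _ = τ (θ p)).trans ?_
  exact congr($h1 p)

/-- for a surjective closed immersion `t`, functions killed by `t♯` on an affine open are nilpotent. -/
theorem ker_app_le_nilradical {T T' : Scheme.{u}} (t : T ⟶ T') (hsurj : Function.Surjective t)
    (W' : T'.Opens) (hW' : IsAffineOpen W') :
    RingHom.ker (t.app W').hom ≤ nilradical Γ(T', W') := by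
  intro x hx
  rw [mem_nilradical, Scheme.isNilpotent_iff_basicOpen_eq_bot_of_isCompact hW'.isCompact]
  have h1 : t ⁻¹ᵁ T'.basicOpen x = ⊥ := by
    rw [Scheme.preimage_basicOpen]
    have : (t.app W').hom x = 0 := hx
    change T.basicOpen ((t.app W').hom x) = ⊥
    rw [this]
    exact Scheme.basicOpen_zero _ _
  ext y
  simp only [Opens.coe_bot, Set.mem_empty_iff_false, iff_false]
  intro hy
  obtain ⟨z, rfl⟩ := hsurj y
  have : z ∈ t ⁻¹ᵁ T'.basicOpen x := hy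
  rw [h1] at this
  exact this

open Groth.Agent.Lib.Helper2.FormalEt in
/-- local lift on an affine open of the thick scheme, for a smooth chart and an arbitrary thickening
(surjective closed immersion). -/
theorem local_lift {X Y : Scheme.{u}} (f : X ⟶ Y) {T T' : Scheme.{u}} (t : T ⟶ T')
    [IsClosedImmersion t] (hts : Function.Surjective t) (a : T ⟶ X) (b : T' ⟶ Y)
    (w : t ≫ b = a ≫ f) (U : X.Opens) (V : Y.Opens) (hU : IsAffineOpen U) (hV : IsAffineOpen V)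
    (hUV : U ≤ f ⁻¹ᵁ V) (hfe : (f.appLE V U hUV).hom.Smooth)
    (W' : T'.Opens) (hW' : IsAffineOpen W') (hbW : W' ≤ b ⁻¹ᵁ V) (haW : t ⁻¹ᵁ W' ≤ a ⁻¹ᵁ U) :
    ∃ l : W'.toScheme ⟶ X, l ≫ f = W'.ι ≫ b ∧ (t ∣_ W') ≫ l = (t ⁻¹ᵁ W').ι ≫ a := by
  have hW : IsAffineOpen (t ⁻¹ᵁ W') := hW'.preimage t
  have hcomm : f.appLE V U hUV ≫ a.appLE U (t ⁻¹ᵁ W') haW = b.appLE V W' hbW ≫ t.app W' := by
    rw [Scheme.Hom.appLE_comp_appLE, Scheme.Hom.app_eq_appLE, Scheme.Hom.appLE_comp_appLE]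
    exact appLE_congr' w.symm _ _ _ _
  have hsurj : Function.Surjective (t.app W').hom := t.app_surjective W' hW'
  have hnil' : RingHom.ker (t.app W').hom ≤ nilradical Γ(T', W') :=
    ker_app_le_nilradical t hts W' hW'
  algebraize [(f.appLE V U hUV).hom, (b.appLE V W' hbW).hom, (b.appLE V W' hbW ≫ t.app W').hom]
  have hsm : Algebra.Smooth Γ(Y, V) Γ(X, U) := hfe
  haveI : Algebra.FormallySmooth Γ(Y, V) Γ(X, U) := hsm.1
  haveI : Algebra.FinitePresentation Γ(Y, V) Γ(X, U) := hsm.2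
  let αalg : Γ(X, U) →ₐ[Γ(Y, V)] Γ(T, t ⁻¹ᵁ W') :=
    ⟨(a.appLE U (t ⁻¹ᵁ W') haW).hom, fun r => congr($(hcomm).hom r)⟩
  let τalg : Γ(T', W') →ₐ[Γ(Y, V)] Γ(T, t ⁻¹ᵁ W') := ⟨(t.app W').hom, fun r => rfl⟩
  obtain ⟨ψ, hψ'⟩ := exists_lift_of_smooth αalg τalg hsurj hnil'
  have hψ : ∀ x, (t.app W').hom (ψ x) = (a.appLE U (t ⁻¹ᵁ W') haW).hom x :=
    fun x => congr($hψ' x)
  have hψ1 : f.appLE V U hUV ≫ CommRingCat.ofHom ψ.toRingHom = b.appLE V W' hbW := by
    ext r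
    exact ψ.commutes r
  have hψ2 : CommRingCat.ofHom ψ.toRingHom ≫ t.app W' = a.appLE U (t ⁻¹ᵁ W') haW := by
    ext x
    exact hψ x
  refine ⟨hW'.isoSpec.hom ≫ Spec.map (CommRingCat.ofHom ψ.toRingHom) ≫ hU.fromSpec, ?_, ?_⟩
  · rw [Category.assoc, Category.assoc, ← IsAffineOpen.SpecMap_appLE_fromSpec f hV hU hUV,
      ← Spec.map_comp_assoc, hψ1, IsAffineOpen.SpecMap_appLE_fromSpec b hV hW' hbW,
      ← Category.assoc, IsAffineOpen.isoSpec_hom_fromSpec]
  · have hkey : hW.isoSpec.inv ≫ (t ∣_ W') ≫ hW'.isoSpec.hom = Spec.map (t.app W') := by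
      rw [← cancel_mono hW'.fromSpec, Category.assoc, Category.assoc,
        IsAffineOpen.isoSpec_hom_fromSpec, morphismRestrict_ι, ← Category.assoc,
        IsAffineOpen.isoSpec_inv_ι, Scheme.Hom.app_eq_appLE,
        IsAffineOpen.SpecMap_appLE_fromSpec t hW' hW le_rfl]
    rw [← cancel_epi hW.isoSpec.inv, ← Category.assoc, ← Category.assoc, ← Category.assoc,
      Category.assoc hW.isoSpec.inv, hkey, Category.assoc, ← Spec.map_comp_assoc, hψ2,
      IsAffineOpen.SpecMap_appLE_fromSpec a hU hW haW, ← Category.assoc,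
      IsAffineOpen.isoSpec_inv_ι]

/-- **Zariski-local lifting for smooth morphisms along arbitrary thickenings of schemes.** -/
theorem exists_local_lift {X Y T T' : Scheme.{u}} (f : X ⟶ Y) [Smooth f] (t : T ⟶ T')
    [IsClosedImmersion t] (hts : Function.Surjective t) (a : T ⟶ X) (b : T' ⟶ Y)
    (w : t ≫ b = a ≫ f) (x : T') :
    ∃ (D : T'.Opens) (l : (D : Scheme.{u}) ⟶ X), x ∈ D ∧ l ≫ f = D.ι ≫ b ∧
      (t ∣_ D) ≫ l = (t ⁻¹ᵁ D).ι ≫ a := by
  obtain ⟨x₀, rfl⟩ := hts x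
  obtain ⟨_, ⟨V, hV, rfl⟩, hxV, -⟩ :=
    Y.isBasis_affineOpens.exists_subset_of_mem_open (Set.mem_univ (f (a x₀))) isOpen_univ
  obtain ⟨_, ⟨U, hU, rfl⟩, hxU, hUV : U ≤ f ⁻¹ᵁ V⟩ :=
    X.isBasis_affineOpens.exists_subset_of_mem_open (show a x₀ ∈ f ⁻¹ᵁ V from hxV)
      (f ⁻¹ᵁ V).isOpen
  let C : Set T' := t '' ((a ⁻¹ᵁ U : T.Opens) : Set T)ᶜ
  have hC : IsClosed C := t.isClosedEmbedding.isClosedMap _ (a ⁻¹ᵁ U).isOpen.isClosed_compl
  let O : T'.Opens := ⟨Cᶜ, hC.isOpen_compl⟩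
  have hxO : t x₀ ∈ O := by
    rintro ⟨y, hy, hyx⟩
    rw [t.isClosedEmbedding.injective hyx] at hy
    exact hy hxU
  have hO : t ⁻¹ᵁ O ≤ a ⁻¹ᵁ U := by
    intro y hy
    by_contra hy'
    exact hy ⟨y, hy', rfl⟩
  have hxb : t x₀ ∈ b ⁻¹ᵁ V := by
    change b (t x₀) ∈ V
    rw [← Scheme.Hom.comp_apply, w, Scheme.Hom.comp_apply]
    exact hxV
  obtain ⟨_, ⟨D, hD, rfl⟩, hxD, hDUO : D ≤ b ⁻¹ᵁ V ⊓ O⟩ :=
    T'.isBasis_affineOpens.exists_subset_of_mem_open (And.intro hxb hxO) (b ⁻¹ᵁ V ⊓ O).isOpen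
  obtain ⟨l, hl1, hl2⟩ := local_lift f t hts a b w U V hU hV hUV (f.smooth_appLE hV hU hUV) D hD
    (hDUO.trans inf_le_left) ((show t ⁻¹ᵁ D ≤ t ⁻¹ᵁ O from fun y hy => (hDUO hy).2).trans hO)
  exact ⟨D, l, hxD, hl1, hl2⟩

end Groth.Agent.Lib.Helper12.SmoothLocalLift
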