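import Mathlib
import Groth.Prelude.Def_AlgSpInf
import Groth.Agent.S10177
import Groth.Agent.Lib.Helper12InfGlue2
import Groth.Agent.Lib.Helper12EtaleNbhdLiftGen
import Groth.Agent.Lib.Helper12SmoothLocalLift

set_option autoImplicit false
set_option linter.style.haveILetI false
universe u
open CategoryTheory CategoryTheory.Limits AlgebraicGeometry Opposite
open AlgSp

namespace Groth.Agent.Lib.Helper12.SmoothEtLocLift

open Groth.Agent.Lib.Helper12.InfGlue2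

/-- factoring through the restriction of a thickening to an open: pullback-free form of the compatibility of a
local lift. -/
lemma comp_eq_of_restrict {V₀ V X' : Scheme.{u}} (i₀ : V₀ ⟶ V) (D : V.Opens)
    (l : (D : Scheme.{u}) ⟶ X') (α : V₀ ⟶ X') (h2 : (i₀ ∣_ D) ≫ l = (i₀ ⁻¹ᵁ D).ι ≫ α)
    {Z : Scheme.{u}} (ρ : Z ⟶ (D : Scheme.{u})) (ζ₀ : Z ⟶ V₀) (h : ζ₀ ≫ i₀ = ρ ≫ D.ι) :
    ρ ≫ l = ζ₀ ≫ α := by
  have hrange : Set.range ζ₀ ⊆ Set.range (i₀ ⁻¹ᵁ D).ι := by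
    rintro _ ⟨z, rfl⟩
    rw [Scheme.Opens.range_ι]
    change i₀ (ζ₀ z) ∈ D
    have : i₀ (ζ₀ z) = D.ι (ρ z) := by
      rw [← Scheme.Hom.comp_apply, h, Scheme.Hom.comp_apply]
    rw [this]
    exact (ρ z).2
  let a' : Z ⟶ ((i₀ ⁻¹ᵁ D : V₀.Opens) : Scheme.{u}) :=
    IsOpenImmersion.lift (i₀ ⁻¹ᵁ D).ι ζ₀ hrange
  have ha' : a' ≫ (i₀ ⁻¹ᵁ D).ι = ζ₀ := IsOpenImmersion.lift_fac _ _ _
  have hr : a' ≫ (i₀ ∣_ D) = ρ := by
    rw [← cancel_mono D.ι, Category.assoc, morphismRestrict_ι, ← Category.assoc, ha', h]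
  rw [← hr, Category.assoc, h2, ← Category.assoc, ha']

variable {S : Scheme.{u}}

/-- **Etale-local lifts for smooth morphisms of algebraic spaces along arbitrary thickenings.** -/
theorem exists_isLocLift {X Y T T' : AlgSp.Space S} (f : X ⟶ Y)
    (hf : AlgSp.LocP @Smooth f.hom) (i : T ⟶ T') (hi : AlgSp.IsThickMor i.hom)
    (a : T ⟶ X) (b : T' ⟶ Y) (w : a ≫ f = i ≫ b) (t' : AlgSp.Points T'.obj) :
    ∃ (V : Over S) (e : (AlgSp.yon S).obj V ⟶ T'.obj) (ℓ : (AlgSp.yon S).obj V ⟶ X.obj),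
      AlgSp.RepWith @Etale e ∧ t' ∈ Set.range (AlgSp.Points.ofPt e) ∧
        IsLocLift i.hom f.hom a.hom b.hom e ℓ := by
  have w' : a.hom ≫ f.hom = i.hom ≫ b.hom := congrArg (·.hom) w
  obtain ⟨U, aU, haU, haUs⟩ := X.property.atlas
  obtain ⟨VY, bV, hbV, hbVs⟩ := Y.property.atlas
  obtain ⟨W', c', hc', hc's⟩ := T'.property.atlas
  obtain ⟨w'₀, hw'₀⟩ := Groth.Agent.S10177.surjective_ofPt c' hc's t'
  -- the refined atlas `U₂ = U ×_Y V_Y` of `X`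
  obtain ⟨U₂, π, x, hU₂⟩ := hbV.1 (aU ≫ f.hom)
  obtain ⟨h₂, rfl⟩ := (AlgSp.yon S).map_surjective x
  haveI hπ : Etale π.left := hbV.2 _ _ π hU₂
  have haU₂ : AlgSp.RepWith @Etale ((AlgSp.yon S).map π ≫ aU) :=
    MorphismProperty.comp_mem _ _ _ ((AlgSp.repWith_yon_map_iff _ _).2 hπ) haU
  haveI hsm : Smooth h₂.left :=
    hf ((AlgSp.yon S).map π ≫ aU) bV h₂ haU₂ hbV (by rw [Category.assoc, ← hU₂.w])
  -- lifting `b` to `V_Y` on an etale cover of the chart `W'`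
  obtain ⟨W'₁, q, y, hW'₁⟩ := hbV.1 (c' ≫ b.hom)
  obtain ⟨b₁, rfl⟩ := (AlgSp.yon S).map_surjective y
  haveI hq : Etale q.left := hbV.2 _ _ q hW'₁
  haveI hqs : Surjective q.left := hbVs.2 _ _ q hW'₁
  obtain ⟨w'₁, hw'₁⟩ := q.left.surjective w'₀
  have hc'₁ : AlgSp.RepWith @Etale ((AlgSp.yon S).map q ≫ c') :=
    MorphismProperty.comp_mem _ _ _ ((AlgSp.repWith_yon_map_iff _ _).2 hq) hc'
  -- the thickening over the chart
  obtain ⟨W₁, j₁, τ₁, hW₁⟩ := hi.1 ((AlgSp.yon S).map q ≫ c')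
  have hj₁c : IsClosedImmersion j₁.left := (hi.2 _ _ j₁ hW₁).1
  have hj₁s : Surjective j₁.left := (hi.2 _ _ j₁ hW₁).2
  haveI := hj₁c
  haveI := hj₁s
  obtain ⟨w₁, hw₁⟩ := j₁.left.surjective w'₁
  -- lifting `a` to the atlas `U` etale locally on `W₁`
  obtain ⟨W₂, p₀, x₂, hW₂⟩ := haU.1 (τ₁ ≫ a.hom)
  obtain ⟨a₂, rfl⟩ := (AlgSp.yon S).map_surjective x₂
  haveI hp₀ : Etale p₀.left := haU.2 _ _ p₀ hW₂
  haveI hp₀s : Surjective p₀.left := haUs.2 _ _ p₀ hW₂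
  obtain ⟨w₂, hw₂⟩ := p₀.left.surjective w₁
  -- topological invariance: an etale neighbourhood of `W'₁` inducing (a piece of) `W₂`
  obtain ⟨V, V₀, c, i₀, r, hV, hc, hpb, ⟨v₀, hv₀⟩⟩ :=
    Groth.Agent.Lib.Helper12.EtaleNbhdLiftGen.exists_lift_etale_nbhd j₁.left p₀.left w₂
  haveI := hc
  let Vo : Over S := Over.mk (c ≫ W'₁.hom)
  let V₀o : Over S := Over.mk (i₀ ≫ c ≫ W'₁.hom)
  let co : Vo ⟶ W'₁ := Over.homMk c rfl
  let i₀o : V₀o ⟶ Vo := Over.homMk i₀ rfl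
  have hr : r ≫ W₂.hom = i₀ ≫ c ≫ W'₁.hom := by
    rw [← Over.w p₀, ← Over.w j₁, ← Category.assoc, ← Category.assoc, ← Category.assoc, ← hpb.w]
  let ro : V₀o ⟶ W₂ := Over.homMk r hr
  have hcomm : i₀o ≫ co = (ro ≫ p₀) ≫ j₁ := by
    ext
    exact hpb.w
  have hpbO : IsPullback i₀o (ro ≫ p₀) co j₁ := IsPullback.of_map (Over.forget S) hcomm hpb
  -- the map to the refined atlas `U₂`
  have comm : (AlgSp.yon S).map (i₀o ≫ co ≫ b₁) ≫ bV =
      (AlgSp.yon S).map (ro ≫ a₂) ≫ aU ≫ f.hom := by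
    rw [Functor.map_comp, Functor.map_comp, Category.assoc, Category.assoc, hW'₁.w,
      Functor.map_comp, Category.assoc, ← Category.assoc ((AlgSp.yon S).map a₂), hW₂.w]
    simp only [Category.assoc]
    rw [w', ← Category.assoc τ₁, hW₁.w]
    simp only [Category.assoc]
    rw [← Functor.map_comp_assoc, ← Functor.map_comp_assoc, ← Functor.map_comp_assoc,
      ← Functor.map_comp_assoc, ← Functor.map_comp_assoc]
    congr 2
    rw [Category.assoc, ← hcomm, Category.assoc]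
  obtain ⟨α₂, hα₂⟩ := (AlgSp.yon S).map_surjective (hU₂.lift _ _ comm)
  have hα₂h : α₂ ≫ h₂ = i₀o ≫ co ≫ b₁ := by
    apply (AlgSp.yon S).map_injective
    rw [Functor.map_comp, hα₂, hU₂.lift_fst]
  have hα₂π : α₂ ≫ π = ro ≫ a₂ := by
    apply (AlgSp.yon S).map_injective
    rw [Functor.map_comp, hα₂, hU₂.lift_snd]
  -- the Zariski-local lift for the smooth chart
  haveI hi₀c : IsClosedImmersion i₀ :=
    MorphismProperty.of_isPullback (P := @IsClosedImmersion) hpb.flip hj₁c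
  have hi₀s : Surjective i₀ :=
    MorphismProperty.of_isPullback (P := @Surjective) hpb.flip hj₁s
  have wsch : i₀ ≫ c ≫ b₁.left = α₂.left ≫ h₂.left := by
    have := congrArg (·.left) hα₂h
    exact this.symm
  obtain ⟨D, l, hxD, hl1, hl2⟩ :=
    Groth.Agent.Lib.Helper12.SmoothLocalLift.exists_local_lift h₂.left i₀ hi₀s.surj α₂.left
      (c ≫ b₁.left) wsch (i₀ v₀)
  let Do : Over S := Over.mk (D.ι ≫ Vo.hom)
  let ιD : Do ⟶ Vo := Over.homMk D.ι rfl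
  have hlo : l ≫ U₂.hom = D.ι ≫ Vo.hom := by
    rw [← Over.w h₂, ← Category.assoc, hl1]
    simp only [Category.assoc, Vo, Over.mk_hom]
    rw [Over.w b₁]
  let lo : Do ⟶ U₂ := Over.homMk l hlo
  have hloh : lo ≫ h₂ = ιD ≫ co ≫ b₁ := by
    ext
    exact hl1
  refine ⟨Do, (AlgSp.yon S).map (ιD ≫ co) ≫ ((AlgSp.yon S).map q ≫ c'),
    (AlgSp.yon S).map lo ≫ ((AlgSp.yon S).map π ≫ aU), ?_, ?_, ?_, ?_⟩
  · refine MorphismProperty.comp_mem _ _ _ ((AlgSp.repWith_yon_map_iff _ _).2 ?_) hc'₁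
    exact (inferInstance : Etale (D.ι ≫ c))
  · refine ⟨⟨i₀ v₀, hxD⟩, ?_⟩
    rw [Groth.Agent.S10176.ofPt_map_comp, Groth.Agent.S10176.ofPt_map_comp, ← hw'₀, ← hw'₁, ← hw₁,
      ← hw₂, ← hv₀]
    congr 2
    change (i₀ ≫ c) v₀ = _
    rw [hpb.w]
    rfl
  · intro Z z ρ hz
    -- the map to `W₁`
    have hz' : z ≫ i.hom = (AlgSp.yon S).map (ρ ≫ ιD ≫ co) ≫ ((AlgSp.yon S).map q ≫ c') := by
      rw [hz]
      simp only [Functor.map_comp, Category.assoc]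
    obtain ⟨ζ, hζ⟩ := (AlgSp.yon S).map_surjective (hW₁.lift z _ hz')
    have hζ1 : (AlgSp.yon S).map ζ ≫ τ₁ = z := by rw [hζ, hW₁.lift_fst]
    have hζ2 : ζ ≫ j₁ = ρ ≫ ιD ≫ co := by
      apply (AlgSp.yon S).map_injective
      rw [Functor.map_comp, hζ, hW₁.lift_snd]
    let ζ₀ : Z ⟶ V₀o := hpbO.lift (ρ ≫ ιD) ζ (by rw [Category.assoc, hζ2])
    have hζ₀1 : ζ₀ ≫ i₀o = ρ ≫ ιD := hpbO.lift_fst _ _ _
    have hζ₀2 : ζ₀ ≫ ro ≫ p₀ = ζ := hpbO.lift_snd _ _ _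
    have key : ρ ≫ lo = ζ₀ ≫ α₂ := by
      ext
      exact comp_eq_of_restrict i₀ D l α₂.left hl2 ρ.left ζ₀.left (congrArg (·.left) hζ₀1)
    have e1 : (AlgSp.yon S).map α₂ ≫ (AlgSp.yon S).map π =
        (AlgSp.yon S).map ro ≫ (AlgSp.yon S).map a₂ := by
      rw [← Functor.map_comp, hα₂π, Functor.map_comp]
    have e2 : (AlgSp.yon S).map ζ₀ ≫ (AlgSp.yon S).map ro ≫ (AlgSp.yon S).map p₀ =
        (AlgSp.yon S).map ζ := by
      rw [← Functor.map_comp, ← Functor.map_comp, hζ₀2]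
    calc (AlgSp.yon S).map ρ ≫ (AlgSp.yon S).map lo ≫ (AlgSp.yon S).map π ≫ aU
        = (AlgSp.yon S).map ζ₀ ≫ (AlgSp.yon S).map α₂ ≫ (AlgSp.yon S).map π ≫ aU := by
          rw [← Functor.map_comp_assoc, key, Functor.map_comp_assoc]
      _ = (AlgSp.yon S).map ζ₀ ≫ (AlgSp.yon S).map ro ≫ (AlgSp.yon S).map a₂ ≫ aU := by
          rw [reassoc_of% e1]
      _ = (AlgSp.yon S).map ζ₀ ≫ (AlgSp.yon S).map ro ≫ (AlgSp.yon S).map p₀ ≫ τ₁ ≫ a.hom := by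
          rw [hW₂.w]
      _ = (AlgSp.yon S).map ζ ≫ τ₁ ≫ a.hom := by
          rw [← e2]
          simp only [Category.assoc]
      _ = z ≫ a.hom := by rw [← Category.assoc, hζ1]
  · rw [Category.assoc, Category.assoc, ← hU₂.w, ← Functor.map_comp_assoc, hloh,
      Functor.map_comp_assoc, Functor.map_comp_assoc, hW'₁.w]
    simp only [Category.assoc, Functor.map_comp]

end Groth.Agent.Lib.Helper12.SmoothEtLocLift
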