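import Mathlib
import Groth.Prelude.Def_Omega3

set_option autoImplicit false
set_option linter.style.haveILetI false
universe u

namespace Groth.Agent.Lib.Helper18UnivThick2
open TensorProduct

/-- descend an algebra map along a surjection -/
theorem exists_desc {A B' B D : Type*} [CommRing A] [CommRing B'] [CommRing B] [CommRing D]
    [Algebra A B'] [Algebra A B] [Algebra A D] (π : B' →ₐ[A] B) (hπ : Function.Surjective π)
    (g : B' →ₐ[A] D) (hg : ∀ n, π n = 0 → g n = 0) : ∃ a : B →ₐ[A] D, a.comp π = g := by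
  let e := Ideal.quotientKerAlgEquivOfSurjective hπ
  refine ⟨(Ideal.Quotient.liftₐ (RingHom.ker π) g (fun n hn => hg n hn)).comp e.symm.toAlgHom, ?_⟩
  apply AlgHom.ext
  intro b'
  have h1 : e.symm (π b') = Ideal.Quotient.mk _ b' := by
    rw [AlgEquiv.symm_apply_eq]
    rfl
  change (Ideal.Quotient.liftₐ (RingHom.ker π) g (fun n hn => hg n hn)) (e.symm (π b')) = g b'
  rw [h1]
  rfl

section

variable {A B B' : Type u} [CommRing A] [CommRing B] [CommRing B'] [Algebra A B] [Algebra A B']
  (π : B' →ₐ[A] B) (h : OmegaSh.IsUnivThickeningRing A B B' π)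

include h in
/-- uniqueness consequence of the universal property -/
theorem lemmaU (C : Type u) [CommRing C] [Algebra A C] (I₂ : Ideal C) (hI₂ : I₂ ^ 2 = ⊥)
    (f₁ f₂ : B' →ₐ[A] C) (hN : ∀ n, π n = 0 → f₁ n ∈ I₂) (heq : ∀ x, f₁ x - f₂ x ∈ I₂) :
    f₁ = f₂ := by
  obtain ⟨hπ, -, huniv⟩ := h
  obtain ⟨a, ha⟩ := exists_desc π hπ ((Ideal.Quotient.mkₐ A I₂).comp f₁) (by
    intro n hn
    simp only [AlgHom.comp_apply, Ideal.Quotient.mkₐ_eq_mk]
    exact Ideal.Quotient.eq_zero_iff_mem.mpr (hN n hn))
  have h1 : (Ideal.Quotient.mkₐ A I₂).comp f₁ = a.comp π := ha.symm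
  have h2 : (Ideal.Quotient.mkₐ A I₂).comp f₂ = a.comp π := by
    rw [ha]
    apply AlgHom.ext
    intro x
    simp only [AlgHom.comp_apply, Ideal.Quotient.mkₐ_eq_mk]
    rw [eq_comm, Ideal.Quotient.eq]
    exact heq x
  exact (huniv C I₂ hI₂ a).unique h1 h2

include h in
theorem formallyUnramified : Algebra.FormallyUnramified A B' := by
  rw [Algebra.FormallyUnramified.iff_comp_injective]
  intro C _ _ K hK f₁ f₂ e
  have hsq : RingHom.ker π.toRingHom ^ 2 = ⊥ := h.2.1
  have heK : ∀ x, f₁ x - f₂ x ∈ K := by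
    intro x
    have := congr($e x)
    simp only [AlgHom.comp_apply, Ideal.Quotient.mkₐ_eq_mk] at this
    exact Ideal.Quotient.eq.mp this
  set N : Ideal B' := RingHom.ker π.toRingHom with hNdef
  set Nf : Ideal C := N.map f₁.toRingHom with hNf
  have hNfmem : ∀ n, π n = 0 → f₁ n ∈ Nf := fun n hn => Ideal.mem_map_of_mem _ hn
  have hNf2 : Nf * Nf = ⊥ := by
    rw [hNf, ← Ideal.map_mul, ← pow_two, hsq, Ideal.map_bot]
  have hK2 : K * K = ⊥ := by rw [← pow_two, hK]
  set K₁ : Ideal C := K * Nf with hK₁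
  have hK₁K : K₁ ≤ K := (Ideal.mul_le_left : K * Nf ≤ K)
  -- step 1
  have step1 : ∀ x, f₁ x - f₂ x ∈ K₁ := by
    let I₁ : Ideal (C ⧸ K₁) := (K ⊔ Nf).map (Ideal.Quotient.mk K₁)
    have hI₁ : I₁ ^ 2 = ⊥ := by
      rw [← Ideal.map_pow, eq_bot_iff, Ideal.map_le_iff_le_comap, pow_two, Ideal.mul_le]
      intro x hx y hy
      rw [Ideal.mem_comap, Ideal.mem_bot, Ideal.Quotient.eq_zero_iff_mem]
      obtain ⟨k, hk, m, hm, rfl⟩ := Submodule.mem_sup.mp hx
      obtain ⟨k', hk', m', hm', rfl⟩ := Submodule.mem_sup.mp hy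
      have e1 : k * k' = 0 := by
        have := Ideal.mul_mem_mul hk hk'; rwa [hK2, Ideal.mem_bot] at this
      have e2 : m * m' = 0 := by
        have := Ideal.mul_mem_mul hm hm'; rwa [hNf2, Ideal.mem_bot] at this
      have e3 : (k + m) * (k' + m') = k * m' + k' * m := by
        ring_nf; rw [e1, e2]; ring
      rw [e3]
      exact add_mem (Ideal.mul_mem_mul hk hm') (Ideal.mul_mem_mul hk' hm)
    have := lemmaU π h (C ⧸ K₁) I₁ hI₁ ((Ideal.Quotient.mkₐ A K₁).comp f₁)
      ((Ideal.Quotient.mkₐ A K₁).comp f₂) (by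
        intro n hn
        simp only [AlgHom.comp_apply, Ideal.Quotient.mkₐ_eq_mk]
        exact Ideal.mem_map_of_mem _ (Ideal.mem_sup_right (hNfmem n hn))) (by
        intro x
        simp only [AlgHom.comp_apply, Ideal.Quotient.mkₐ_eq_mk, ← map_sub]
        exact Ideal.mem_map_of_mem _ (Ideal.mem_sup_left (heK x)))
    intro x
    have := congr($this x)
    simp only [AlgHom.comp_apply, Ideal.Quotient.mkₐ_eq_mk] at this
    exact Ideal.Quotient.eq.mp this
  -- step 2
  let I₂ : Ideal C := K₁ ⊔ Nf
  have hI₂ : I₂ ^ 2 = ⊥ := by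
    rw [eq_bot_iff, pow_two, Ideal.mul_le]
    intro x hx y hy
    rw [Ideal.mem_bot]
    obtain ⟨k, hk, m, hm, rfl⟩ := Submodule.mem_sup.mp hx
    obtain ⟨k', hk', m', hm', rfl⟩ := Submodule.mem_sup.mp hy
    have e1 : k * k' = 0 := by
      have := Ideal.mul_mem_mul (hK₁K hk) (hK₁K hk'); rwa [hK2, Ideal.mem_bot] at this
    have e2 : m * m' = 0 := by
      have := Ideal.mul_mem_mul hm hm'; rwa [hNf2, Ideal.mem_bot] at this
    have hK₁Nf : K₁ * Nf = ⊥ := by rw [hK₁, mul_assoc, hNf2, Ideal.mul_bot]
    have e3 : k * m' = 0 := by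
      have := Ideal.mul_mem_mul hk hm'; rwa [hK₁Nf, Ideal.mem_bot] at this
    have e4 : k' * m = 0 := by
      have := Ideal.mul_mem_mul hk' hm; rwa [hK₁Nf, Ideal.mem_bot] at this
    have e5 : (k + m) * (k' + m') = k * k' + k * m' + k' * m + m * m' := by ring
    rw [e5, e1, e2, e3, e4]; simp
  exact lemmaU π h C I₂ hI₂ f₁ f₂ (fun n hn => Ideal.mem_sup_right (hNfmem n hn))
    (fun x => Ideal.mem_sup_left (step1 x))

end


section EXT
variable {A B B' : Type u} [CommRing A] [CommRing B] [CommRing B'] [Algebra A B] [Algebra A B']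
  (π : B' →ₐ[A] B) (h : OmegaSh.IsUnivThickeningRing A B B' π)

include h in
theorem lemmaEXT (X : Type u) [AddCommGroup X] [Module B' X]
    (hNX : ∀ n : B', π n = 0 → ∀ x : X, n • x = 0)
    (δ : A →+ X) (hδ : ∀ x y, δ (x * y) = algebraMap A B' x • δ y + algebraMap A B' y • δ x) :
    ∃ D : B' →+ X, (∀ x y, D (x * y) = x • D y + y • D x) ∧ ∀ a, D (algebraMap A B' a) = δ a := by
  letI : Module B'ᵐᵒᵖ X := Module.compHom X ((RingHom.id B').fromOpposite (fun _ _ => mul_comm _ _))
  haveI : IsCentralScalar B' X := ⟨fun _ _ => rfl⟩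
  obtain ⟨hπ, hsq, huniv⟩ := h
  have hδ1 : δ 1 = 0 := by
    have := hδ 1 1
    simp only [mul_one, map_one, one_smul] at this
    exact left_eq_add.mp this
  let ρ : A →+* TrivSqZeroExt B' X :=
    { toFun := fun x => TrivSqZeroExt.inl (algebraMap A B' x) + TrivSqZeroExt.inr (δ x)
      map_one' := by ext <;> simp [hδ1]
      map_mul' := fun x y => by
        ext
        · simp
        · simp [hδ]
      map_zero' := by ext <;> simp
      map_add' := fun x y => by ext <;> simp [add_add_add_comm] }
  letI : Algebra A (TrivSqZeroExt B' X) := ρ.toAlgebra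
  have halg : ∀ x, algebraMap A (TrivSqZeroExt B' X) x = TrivSqZeroExt.inl (algebraMap A B' x) + TrivSqZeroExt.inr (δ x) := fun _ => rfl
  let I : Ideal (TrivSqZeroExt B' X) :=
    RingHom.ker ((π : B' →+* B).comp (TrivSqZeroExt.fstHom B' B' X : TrivSqZeroExt B' X →+* B'))
  have hImem : ∀ c, c ∈ I ↔ π c.fst = 0 := by
    intro c
    simp only [I, RingHom.mem_ker, RingHom.comp_apply]
    rfl
  have hI : I ^ 2 = ⊥ := by
    rw [eq_bot_iff, pow_two, Ideal.mul_le]
    intro c hc c' hc'
    rw [hImem] at hc hc'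
    rw [Ideal.mem_bot]
    ext
    · simp only [TrivSqZeroExt.fst_mul, TrivSqZeroExt.fst_zero]
      have : c.fst * c'.fst ∈ RingHom.ker π.toRingHom ^ 2 := by
        rw [pow_two]
        exact Ideal.mul_mem_mul hc hc'
      rwa [hsq, Ideal.mem_bot] at this
    · simp only [TrivSqZeroExt.snd_mul, TrivSqZeroExt.snd_zero, op_smul_eq_smul]
      rw [hNX _ hc, hNX _ hc', add_zero]
  let g : B' →ₐ[A] (TrivSqZeroExt B' X ⧸ I) :=
    { toRingHom := (Ideal.Quotient.mk I).comp (TrivSqZeroExt.inlHom B' X)
      commutes' := fun x => by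
        rw [← Ideal.Quotient.mk_algebraMap, halg]
        simp only [RingHom.toMonoidHom_eq_coe, OneHom.toFun_eq_coe, MonoidHom.toOneHom_coe,
          MonoidHom.coe_coe, RingHom.comp_apply]
        rw [Ideal.Quotient.eq, hImem]
        simp }
  have hg : ∀ b, g b = Ideal.Quotient.mk I (TrivSqZeroExt.inl b) := fun _ => rfl
  obtain ⟨a, ha⟩ := exists_desc π hπ g (by
    intro n hn
    rw [hg, Ideal.Quotient.eq_zero_iff_mem, hImem]
    simpa using hn)
  obtain ⟨a', ha', -⟩ := huniv (TrivSqZeroExt B' X) I hI a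
  have key : ∀ b, π (a' b).fst = π b := by
    intro b
    have := congr($ha' b)
    rw [ha] at this
    simp only [AlgHom.comp_apply, Ideal.Quotient.mkₐ_eq_mk, hg] at this
    rw [Ideal.Quotient.eq, hImem] at this
    simpa [sub_eq_zero] using this
  have key2 : ∀ b (m : X), (a' b).fst • m = b • m := by
    intro b m
    have := hNX ((a' b).fst - b) (by rw [map_sub, key, sub_self]) m
    rwa [sub_smul, sub_eq_zero] at this
  refine ⟨{ toFun := fun b => (a' b).snd, map_zero' := by simp, map_add' := by simp }, ?_, ?_⟩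
  · intro x y
    simp only [AddMonoidHom.coe_mk, ZeroHom.coe_mk, map_mul, TrivSqZeroExt.snd_mul,
      op_smul_eq_smul, key2]
  · intro x
    simp only [AddMonoidHom.coe_mk, ZeroHom.coe_mk, AlgHom.commutes, halg]
    simp

end EXT


section BIJ

theorem bijective (R A B B' : Type u) [CommRing R] [CommRing A] [Algebra R A] [CommRing B]
    [Algebra A B] [CommRing B'] [Algebra A B']
    [Algebra R B'] [IsScalarTower R A B'] [Algebra B' B] [IsScalarTower A B' B]
    (h : OmegaSh.IsUnivThickeningRing A B B' (IsScalarTower.toAlgHom A B' B))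
    (hunr : Algebra.FormallyUnramified A B') :
    Function.Bijective ((KaehlerDifferential.mapBaseChange R A B').baseChange B) := by
  letI : Algebra R B := ((algebraMap B' B).comp (algebraMap R B')).toAlgebra
  haveI : IsScalarTower R B' B := .of_algebraMap_eq (fun _ => rfl)
  constructor
  · -- injective
    have hNX : ∀ n : B', (IsScalarTower.toAlgHom A B' B) n = 0 →
        ∀ x : B ⊗[B'] (B' ⊗[A] Ω[A⁄R]), n • x = 0 := by
      intro n hn x
      have hn' : algebraMap B' B n = 0 := hn
      induction x using TensorProduct.induction_on with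
      | zero => simp
      | add x y hx hy => rw [smul_add, hx, hy, add_zero]
      | tmul b y => rw [smul_tmul', Algebra.smul_def, hn', zero_mul, zero_tmul]
    let δ : A →+ B ⊗[B'] (B' ⊗[A] Ω[A⁄R]) :=
      { toFun := fun a => (1 : B) ⊗ₜ[B'] ((1 : B') ⊗ₜ[A] (KaehlerDifferential.D R A a))
        map_zero' := by simp
        map_add' := fun x y => by simp [tmul_add] }
    have hδdef : ∀ a, δ a = (1 : B) ⊗ₜ[B'] ((1 : B') ⊗ₜ[A] (KaehlerDifferential.D R A a)) :=
      fun _ => rfl
    have hδ : ∀ x y, δ (x * y) = algebraMap A B' x • δ y + algebraMap A B' y • δ x := by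
      intro x y
      have e1 : ∀ x y : A, (1 : B') ⊗ₜ[A] (x • KaehlerDifferential.D R A y) =
          algebraMap A B' x • ((1 : B') ⊗ₜ[A] KaehlerDifferential.D R A y) := by
        intro x y
        rw [tmul_smul, algebraMap_smul]
      rw [hδdef, hδdef, hδdef, Derivation.leibniz, tmul_add, e1, e1, tmul_add, tmul_smul,
        tmul_smul]
    obtain ⟨D₀, hD₀, hD₀δ⟩ := lemmaEXT (IsScalarTower.toAlgHom A B' B) h _ hNX δ hδ
    have hD₀1 : D₀ 1 = 0 := by
      have := hD₀ 1 1
      simp only [mul_one, one_smul] at this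
      exact left_eq_add.mp this
    let D₁ : Derivation R B' (B ⊗[B'] (B' ⊗[A] Ω[A⁄R])) :=
      { toFun := D₀
        map_add' := D₀.map_add
        map_smul' := fun r b => by
          simp only [RingHom.id_apply]
          rw [Algebra.smul_def, hD₀, IsScalarTower.algebraMap_apply R A B', hD₀δ, hδdef,
            Derivation.map_algebraMap, tmul_zero, tmul_zero, smul_zero, add_zero,
            ← IsScalarTower.algebraMap_apply R A B', algebraMap_smul]
        map_one_eq_zero' := hD₀1
        leibniz' := fun x y => hD₀ x y }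
    have hD₁ : ∀ b, D₁ b = D₀ b := fun _ => rfl
    let ρ' : B ⊗[B'] Ω[B'⁄R] →ₗ[B] B ⊗[B'] (B' ⊗[A] Ω[A⁄R]) :=
      LinearMap.liftBaseChange B D₁.liftKaehlerDifferential
    have hret : ∀ z : B ⊗[B'] (B' ⊗[A] Ω[A⁄R]),
        ρ' ((KaehlerDifferential.mapBaseChange R A B').baseChange B z) = z := by
      intro z
      induction z using TensorProduct.induction_on with
      | zero => simp
      | add x y hx hy => rw [map_add, map_add, hx, hy]
      | tmul b y =>
        induction y using TensorProduct.induction_on with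
        | zero => simp
        | add x y hx hy => rw [tmul_add, map_add, map_add, hx, hy]
        | tmul b' ω =>
          have hω : ω ∈ Submodule.span A (Set.range (KaehlerDifferential.D R A)) := by
            rw [KaehlerDifferential.span_range_derivation]; trivial
          induction hω using Submodule.span_induction generalizing b' with
          | mem ω hω =>
            obtain ⟨x, rfl⟩ := hω
            rw [LinearMap.baseChange_tmul, KaehlerDifferential.mapBaseChange_tmul,
              KaehlerDifferential.map_D, LinearMap.liftBaseChange_tmul, map_smul,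
              Derivation.liftKaehlerDifferential_comp_D, hD₁, hD₀δ, hδdef]
            rw [← tmul_smul, smul_tmul', smul_tmul', smul_eq_mul, mul_one, smul_eq_mul, mul_one]
          | zero => simp
          | add x y _ _ hx hy => rw [tmul_add, tmul_add, map_add, map_add, hx, hy]
          | smul a ω _ hω =>
            rw [← smul_tmul]
            exact hω (a • b')
    exact Function.LeftInverse.injective hret
  · -- surjective
    apply LinearMap.baseChange_surjective
    rw [← LinearMap.range_eq_top, KaehlerDifferential.range_mapBaseChange, LinearMap.ker_eq_top]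
    exact LinearMap.ext fun x => Subsingleton.elim _ _

theorem main
    (R : Type u) [CommRing R] (A : Type u) [CommRing A] [Algebra R A] (B : Type u) [CommRing B]
    [Algebra A B] [Algebra.FormallyUnramified A B] (B' : Type u) [CommRing B'] [Algebra A B']
    [Algebra R B'] [IsScalarTower R A B'] [Algebra B' B] [IsScalarTower A B' B]
    (h : OmegaSh.IsUnivThickeningRing A B B' (IsScalarTower.toAlgHom A B' B)) :
    Algebra.FormallyUnramified A B' ∧
      Function.Bijective ((KaehlerDifferential.mapBaseChange R A B').baseChange B) :=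
  ⟨formallyUnramified _ h, bijective R A B B' h (formallyUnramified _ h)⟩

end BIJ

end Groth.Agent.Lib.Helper18UnivThick2
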