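import Mathlib
import Groth.Prelude.Def_Omega3
import Groth.Agent.Lib.Helper18UnivThick2

set_option autoImplicit false
set_option linter.style.haveILetI false
universe u
open CategoryTheory AlgebraicGeometry Limits

namespace Groth.Agent.Helper18UT

/-- `Spec` of a surjection with square-zero kernel is a first order thickening. -/
theorem isFirstOrderThickening_SpecMap {C D : CommRingCat.{u}} (φ : C ⟶ D)
    (hφ : Function.Surjective φ.hom) (hk : RingHom.ker φ.hom ^ 2 = ⊥) :
    MoreMor.IsFirstOrderThickening (Spec.map φ) := by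
  haveI : IsClosedImmersion (Spec.map φ) := IsClosedImmersion.spec_of_surjective φ hφ
  refine ⟨⟨inferInstance, ⟨?_⟩⟩, ?_⟩
  · intro p
    let p' : PrimeSpectrum C := p
    have hp : p' ∈ Set.range (PrimeSpectrum.comap φ.hom) := by
      rw [range_comap_of_surjective _ _ hφ, PrimeSpectrum.mem_zeroLocus]
      have h1 : RingHom.ker φ.hom ^ 2 ≤ p'.asIdeal := by rw [hk]; exact bot_le
      exact Ideal.IsPrime.le_of_pow_le h1
    obtain ⟨q, hq⟩ := hp
    exact ⟨q, hq⟩
  · rw [Scheme.ker_of_isAffine]
    have h1 : RingHom.ker (Spec.map φ).appTop.hom * RingHom.ker (Spec.map φ).appTop.hom = ⊥ := by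
      rw [eq_bot_iff]
      rw [Ideal.mul_le]
      intro x hx y hy
      rw [Ideal.mem_bot]
      -- transport to `C`
      have hnat := Scheme.ΓSpecIso_naturality φ
      have key : ∀ z : Γ(Spec C, ⊤), (Spec.map φ).appTop.hom z = 0 →
          (Scheme.ΓSpecIso C).hom.hom z ∈ RingHom.ker φ.hom := by
        intro z hz
        rw [RingHom.mem_ker]
        have := congr($hnat z)
        simp only [CommRingCat.comp_apply] at this
        rw [← this]
        have hz' : (Spec.map φ).appTop z = 0 := hz
        rw [hz', map_zero]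
      have hx' := key x (RingHom.mem_ker.mp hx)
      have hy' := key y (RingHom.mem_ker.mp hy)
      have hxy : (Scheme.ΓSpecIso C).hom.hom x * (Scheme.ΓSpecIso C).hom.hom y = 0 := by
        have := Ideal.mul_mem_mul hx' hy'
        rw [← pow_two, hk, Ideal.mem_bot] at this
        exact this
      have hinj : Function.Injective (Scheme.ΓSpecIso C).hom.hom :=
        ((ConcreteCategory.isIso_iff_bijective _).mp inferInstance).1
      apply hinj
      rw [map_mul, map_zero]
      exact hxy
    have h2 : Scheme.IdealSheafData.ofIdealTop (RingHom.ker (Spec.map φ).appTop.hom) *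
        Scheme.IdealSheafData.ofIdealTop (RingHom.ker (Spec.map φ).appTop.hom) =
        Scheme.IdealSheafData.ofIdealTop (X := Spec C) ⊥ := by
      rw [← h1]
      exact (map_mul (Scheme.IdealSheafData.equivOfIsAffine (X := Spec C)).symm _ _).symm
    rw [h2]
    exact (map_zero (Scheme.IdealSheafData.equivOfIsAffine (X := Spec C)).symm)

section toAff
variable (W : Scheme.{u}) [IsAffine W] {R R' : CommRingCat.{u}}

/-- the morphism `Spec R ⟶ W` into an affine scheme attached to a ring map `Γ(W) ⟶ R`. -/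
noncomputable def toAff (φ : Γ(W, ⊤) ⟶ R) : Spec R ⟶ W := Spec.map φ ≫ W.isoSpec.inv

theorem toAff_injective : Function.Injective (toAff W (R := R)) := by
  intro φ ψ hφψ
  unfold toAff at hφψ
  rw [cancel_mono] at hφψ
  exact Spec.map_injective hφψ

theorem toAff_surjective : Function.Surjective (toAff W (R := R)) := by
  intro m
  refine ⟨Spec.preimage (m ≫ W.isoSpec.hom), ?_⟩
  unfold toAff
  rw [Spec.map_preimage, Category.assoc, Iso.hom_inv_id, Category.comp_id]

variable {W}

theorem toAff_comp {W' : Scheme.{u}} [IsAffine W'] (f : W ⟶ W') (φ : Γ(W, ⊤) ⟶ R) :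
    toAff W φ ≫ f = toAff W' (f.appTop ≫ φ) := by
  unfold toAff
  rw [Category.assoc, ← Scheme.isoSpec_inv_naturality, Spec.map_comp, Category.assoc]

theorem map_toAff (ψ : R ⟶ R') (φ : Γ(W, ⊤) ⟶ R) :
    Spec.map ψ ≫ toAff W φ = toAff W (φ ≫ ψ) := by
  unfold toAff
  rw [Spec.map_comp, Category.assoc]

end toAff

section bridge
variable {Z Z' X : Scheme.{u}} [IsAffine Z] [IsAffine Z'] [IsAffine X] (h : Z ⟶ X) (i : Z ⟶ Z')
  (h' : Z' ⟶ X) (hu : OmegaSh.IsUnivThickening h i h')

include hu in
/-- affine universal first order thickenings give ring-level universal thickenings; consequence: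
`Γ(X) → Γ(Z')` is formally unramified. -/
theorem formallyUnramified_appTop : h'.appTop.hom.FormallyUnramified := by
  obtain ⟨⟨⟨hci, hsurj⟩, hsq⟩, hih, huniv⟩ := hu
  haveI := hci
  letI algAB : Algebra Γ(X, ⊤) Γ(Z, ⊤) := h.appTop.hom.toAlgebra
  letI algAB' : Algebra Γ(X, ⊤) Γ(Z', ⊤) := h'.appTop.hom.toAlgebra
  have hcomm : h'.appTop ≫ i.appTop = h.appTop := by
    rw [← Scheme.Hom.comp_appTop, hih]
  let π : Γ(Z', ⊤) →ₐ[Γ(X, ⊤)] Γ(Z, ⊤) :=
    { i.appTop.hom with commutes' := fun x => congr($hcomm x) }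
  have hπ : ∀ x, π x = i.appTop x := fun _ => rfl
  change Algebra.FormallyUnramified Γ(X, ⊤) Γ(Z', ⊤)
  refine Groth.Agent.Lib.Helper18UnivThick2.formallyUnramified π ⟨?_, ?_, ?_⟩
  · exact (IsClosedImmersion.isAffine_surjective_of_isAffine i).2
  · have h1 := Scheme.ker_of_isAffine i
    rw [h1] at hsq
    have h2 := congrArg (Scheme.IdealSheafData.equivOfIsAffine (X := Z')) hsq
    rw [map_mul] at h2
    have h3 : Scheme.IdealSheafData.equivOfIsAffine (X := Z')
        (Scheme.IdealSheafData.ofIdealTop (RingHom.ker i.appTop.hom)) = RingHom.ker i.appTop.hom :=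
      (Scheme.IdealSheafData.equivOfIsAffine (X := Z')).apply_symm_apply _
    rw [h3] at h2
    rw [pow_two]
    refine h2.trans ?_
    exact map_zero (Scheme.IdealSheafData.equivOfIsAffine (X := Z'))
  · intro C _ _ I hI a
    let Cc : CommRingCat.{u} := CommRingCat.of C
    let Q : CommRingCat.{u} := CommRingCat.of (C ⧸ I)
    let q : Cc ⟶ Q := CommRingCat.ofHom (Ideal.Quotient.mk I)
    have hj : MoreMor.IsFirstOrderThickening (Spec.map q) :=
      isFirstOrderThickening_SpecMap q Ideal.Quotient.mk_surjective (by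
        change RingHom.ker (Ideal.Quotient.mk I) ^ 2 = ⊥
        rw [Ideal.mk_ker, hI])
    let βX : Γ(X, ⊤) ⟶ Cc := CommRingCat.ofHom (algebraMap Γ(X, ⊤) C)
    let αZ : Γ(Z, ⊤) ⟶ Q := CommRingCat.ofHom a.toRingHom
    have hβα : βX ≫ q = h.appTop ≫ αZ := by
      ext x
      exact (a.commutes x).symm
    have hw : Spec.map q ≫ toAff X βX = toAff Z αZ ≫ h := by
      rw [map_toAff, toAff_comp, hβα]
    obtain ⟨a', ⟨ha1, ha2⟩, hauniq⟩ := huniv (Spec Q) (Spec Cc) (Spec.map q) (toAff X βX)
      (toAff Z αZ) hj hw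
    obtain ⟨α', rfl⟩ := toAff_surjective Z' a'
    rw [map_toAff, toAff_comp] at ha1
    rw [toAff_comp] at ha2
    have ha1' : α' ≫ q = i.appTop ≫ αZ := toAff_injective Z' ha1
    have ha2' : h'.appTop ≫ α' = βX := toAff_injective X ha2
    let a'alg : Γ(Z', ⊤) →ₐ[Γ(X, ⊤)] C :=
      { α'.hom with commutes' := fun x => congr($ha2' x) }
    refine ⟨a'alg, ?_, ?_⟩
    · apply AlgHom.ext
      intro x
      exact congr($ha1' x)
    · intro a'' ha''
      let α'' : Γ(Z', ⊤) ⟶ Cc := CommRingCat.ofHom a''.toRingHom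
      have e1 : α'' ≫ q = i.appTop ≫ αZ := by
        ext x
        exact congr($ha'' x)
      have e2 : h'.appTop ≫ α'' = βX := by
        ext x
        exact a''.commutes x
      have := hauniq (toAff Z' α'') ⟨by rw [map_toAff, toAff_comp, e1], by rw [toAff_comp, e2]⟩
      have e3 : α'' = α' := toAff_injective Z' this
      apply AlgHom.ext
      intro x
      exact congr($e3 x)

end bridge

end Groth.Agent.Helper18UT
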