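import Mathlib
import Groth.Prelude.Def_Omega3
import Groth.Agent.Lib.Helper18UT4

set_option autoImplicit false
set_option linter.style.haveILetI false
universe u
open CategoryTheory AlgebraicGeometry Limits

namespace Groth.Agent.Helper18UT

/-- transport of ring-level universal thickenings along isomorphisms. -/
theorem isUnivThickeningRing_of_ringEquiv {R S S' R₁ S₁ S'₁ : Type u} [CommRing R] [CommRing S]
    [CommRing S'] [CommRing R₁] [CommRing S₁] [CommRing S'₁] [Algebra R S] [Algebra R S']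
    [Algebra R₁ S₁] [Algebra R₁ S'₁] (π : S' →ₐ[R] S) (π₁ : S'₁ →ₐ[R₁] S₁)
    (eR : R ≃+* R₁) (eS : S ≃+* S₁) (eS' : S' ≃+* S'₁)
    (h1 : ∀ r, eS (algebraMap R S r) = algebraMap R₁ S₁ (eR r))
    (h2 : ∀ r, eS' (algebraMap R S' r) = algebraMap R₁ S'₁ (eR r))
    (h3 : ∀ x, eS (π x) = π₁ (eS' x))
    (h : OmegaSh.IsUnivThickeningRing R S S' π) : OmegaSh.IsUnivThickeningRing R₁ S₁ S'₁ π₁ := by
  obtain ⟨hsurj, hsq, huniv⟩ := h
  have h3' : ∀ y, π (eS'.symm y) = eS.symm (π₁ y) := by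
    intro y
    apply eS.injective
    rw [h3, eS'.apply_symm_apply, eS.apply_symm_apply]
  refine ⟨?_, ?_, ?_⟩
  · intro y
    obtain ⟨x, hx⟩ := hsurj (eS.symm y)
    exact ⟨eS' x, by rw [← h3, hx, eS.apply_symm_apply]⟩
  · rw [eq_bot_iff, pow_two, Ideal.mul_le]
    intro x hx y hy
    rw [Ideal.mem_bot]
    have hx' : eS'.symm x ∈ RingHom.ker π.toRingHom := by
      rw [RingHom.mem_ker]
      change π (eS'.symm x) = 0
      rw [h3']
      have : π₁ x = 0 := hx
      rw [this, map_zero]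
    have hy' : eS'.symm y ∈ RingHom.ker π.toRingHom := by
      rw [RingHom.mem_ker]
      change π (eS'.symm y) = 0
      rw [h3']
      have : π₁ y = 0 := hy
      rw [this, map_zero]
    have hxy := Ideal.mul_mem_mul hx' hy'
    rw [← pow_two, hsq, Ideal.mem_bot, ← map_mul] at hxy
    have := congrArg eS' hxy
    rwa [eS'.apply_symm_apply, map_zero] at this
  · intro A _ _ I hI a
    letI algRA : Algebra R A := ((algebraMap R₁ A).comp eR.toRingHom).toAlgebra
    have halgRA : ∀ r, algebraMap R A r = algebraMap R₁ A (eR r) := fun _ => rfl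
    have halgRAI : ∀ r, algebraMap R (A ⧸ I) r = algebraMap R₁ (A ⧸ I) (eR r) := fun _ => rfl
    let a₀ : S →ₐ[R] A ⧸ I :=
      { a.toRingHom.comp eS.toRingHom with
        commutes' := fun r => by
          change a (eS (algebraMap R S r)) = _
          rw [h1, a.commutes, halgRAI] }
    have ha₀ : ∀ x, a₀ x = a (eS x) := fun _ => rfl
    obtain ⟨a₀', ha₀', huniq⟩ := huniv A I hI a₀
    have ha₀'x : ∀ x, Ideal.Quotient.mk I (a₀' x) = a₀ (π x) := fun x => congr($ha₀' x)
    let a' : S'₁ →ₐ[R₁] A :=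
      { a₀'.toRingHom.comp eS'.symm.toRingHom with
        commutes' := fun r => by
          change a₀' (eS'.symm (algebraMap R₁ S'₁ r)) = _
          have : eS'.symm (algebraMap R₁ S'₁ r) = algebraMap R S' (eR.symm r) := by
            apply eS'.injective
            rw [eS'.apply_symm_apply, h2, eR.apply_symm_apply]
          rw [this, a₀'.commutes, halgRA, eR.apply_symm_apply] }
    have ha' : ∀ y, a' y = a₀' (eS'.symm y) := fun _ => rfl
    refine ⟨a', ?_, ?_⟩
    · apply AlgHom.ext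
      intro y
      change Ideal.Quotient.mk I (a' y) = a (π₁ y)
      rw [ha', ha₀'x, ha₀, h3', eS.apply_symm_apply]
    · intro a'' ha''
      have ha''y : ∀ y, Ideal.Quotient.mk I (a'' y) = a (π₁ y) := fun y => congr($ha'' y)
      let a₀'' : S' →ₐ[R] A :=
        { a''.toRingHom.comp eS'.toRingHom with
          commutes' := fun r => by
            change a'' (eS' (algebraMap R S' r)) = _
            rw [h2, a''.commutes, halgRA] }
      have ha₀'' : ∀ x, a₀'' x = a'' (eS' x) := fun _ => rfl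
      have e1 : a₀'' = a₀' := huniq a₀'' (by
        apply AlgHom.ext
        intro x
        change Ideal.Quotient.mk I (a₀'' x) = a₀ (π x)
        rw [ha₀'', ha''y, ha₀, h3])
      apply AlgHom.ext
      intro y
      rw [ha', ← e1, ha₀'', eS'.apply_symm_apply]

section bridge
variable {Z Z' X : Scheme.{u}} [IsAffine Z] [IsAffine Z'] [IsAffine X] (h : Z ⟶ X) (i : Z ⟶ Z')
  (h' : Z' ⟶ X) (hu : OmegaSh.IsUnivThickening h i h')

include hu in
/-- affine universal first order thickenings give ring-level universal thickenings. -/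
theorem isUnivThickeningRing_appTop [Algebra Γ(X, ⊤) Γ(Z, ⊤)] [Algebra Γ(X, ⊤) Γ(Z', ⊤)]
    (halgZ : algebraMap Γ(X, ⊤) Γ(Z, ⊤) = h.appTop.hom)
    (halgZ' : algebraMap Γ(X, ⊤) Γ(Z', ⊤) = h'.appTop.hom)
    (π : Γ(Z', ⊤) →ₐ[Γ(X, ⊤)] Γ(Z, ⊤)) (hπ : ∀ x, π x = i.appTop x) :
    OmegaSh.IsUnivThickeningRing Γ(X, ⊤) Γ(Z, ⊤) Γ(Z', ⊤) π := by
  obtain ⟨⟨⟨hci, hsurj⟩, hsq⟩, hih, huniv⟩ := hu
  haveI := hci
  have hcomm : h'.appTop ≫ i.appTop = h.appTop := by
    rw [← Scheme.Hom.comp_appTop, hih]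
  have hπ' : π.toRingHom = i.appTop.hom := RingHom.ext hπ
  refine ⟨?_, ?_, ?_⟩
  · intro y
    obtain ⟨x, hx⟩ := (IsClosedImmersion.isAffine_surjective_of_isAffine i).2 y
    exact ⟨x, (hπ x).trans hx⟩
  · have h1 := Scheme.ker_of_isAffine i
    rw [h1] at hsq
    have h2 := congrArg (Scheme.IdealSheafData.equivOfIsAffine (X := Z')) hsq
    rw [map_mul] at h2
    have h3 : Scheme.IdealSheafData.equivOfIsAffine (X := Z')
        (Scheme.IdealSheafData.ofIdealTop (RingHom.ker i.appTop.hom)) = RingHom.ker i.appTop.hom :=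
      (Scheme.IdealSheafData.equivOfIsAffine (X := Z')).apply_symm_apply _
    rw [h3] at h2
    rw [pow_two, hπ']
    refine h2.trans ?_
    exact map_zero (Scheme.IdealSheafData.equivOfIsAffine (X := Z'))
  · intro C _ _ I hI a
    let Cc : CommRingCat.{u} := CommRingCat.of C
    let Q : CommRingCat.{u} := CommRingCat.of (C ⧸ I)
    let q : Cc ⟶ Q := CommRingCat.ofHom (Ideal.Quotient.mk I)
    have hj : MoreMor.IsFirstOrderThickening (Spec.map q) :=
      isFirstOrderThickening_SpecMap q Ideal.Quotient.mk_surjective (by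
        change RingHom.ker (Ideal.Quotient.mk I) ^ 2 = ⊥
        rw [Ideal.mk_ker, hI])
    let βX : Γ(X, ⊤) ⟶ Cc := CommRingCat.ofHom (algebraMap Γ(X, ⊤) C)
    let αZ : Γ(Z, ⊤) ⟶ Q := CommRingCat.ofHom a.toRingHom
    have hβα : βX ≫ q = h.appTop ≫ αZ := by
      ext x
      change algebraMap Γ(X, ⊤) (C ⧸ I) x = a (h.appTop.hom x)
      rw [← halgZ, a.commutes]
    have hw : Spec.map q ≫ toAff X βX = toAff Z αZ ≫ h := by
      rw [map_toAff, toAff_comp, hβα]
    obtain ⟨a', ⟨ha1, ha2⟩, hauniq⟩ := huniv (Spec Q) (Spec Cc) (Spec.map q) (toAff X βX)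
      (toAff Z αZ) hj hw
    obtain ⟨α', rfl⟩ := toAff_surjective Z' a'
    rw [map_toAff, toAff_comp] at ha1
    rw [toAff_comp] at ha2
    have ha1' : α' ≫ q = i.appTop ≫ αZ := toAff_injective Z' ha1
    have ha2' : h'.appTop ≫ α' = βX := toAff_injective X ha2
    let a'alg : Γ(Z', ⊤) →ₐ[Γ(X, ⊤)] C :=
      { α'.hom with
        commutes' := fun x => by
          have := congr($ha2' x)
          change α'.hom (algebraMap Γ(X, ⊤) Γ(Z', ⊤) x) = _
          rw [halgZ']
          exact this }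
    refine ⟨a'alg, ?_, ?_⟩
    · apply AlgHom.ext
      intro x
      change Ideal.Quotient.mk I (α'.hom x) = a (π x)
      rw [hπ]
      exact congr($ha1' x)
    · intro a'' ha''
      let α'' : Γ(Z', ⊤) ⟶ Cc := CommRingCat.ofHom a''.toRingHom
      have e1 : α'' ≫ q = i.appTop ≫ αZ := by
        ext x
        have := congr($ha'' x)
        change Ideal.Quotient.mk I (a'' x) = a (i.appTop x)
        rw [← hπ]
        exact this
      have e2 : h'.appTop ≫ α'' = βX := by
        ext x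
        change a'' (h'.appTop.hom x) = _
        rw [← halgZ']
        exact a''.commutes x
      have := hauniq (toAff Z' α'') ⟨by rw [map_toAff, toAff_comp, e1], by rw [toAff_comp, e2]⟩
      have e3 : α'' = α' := toAff_injective Z' this
      apply AlgHom.ext
      intro x
      exact congr($e3 x)

end bridge

theorem resLE_appTop_topIso {X Y : Scheme.{u}} (f : X ⟶ Y) (U : Y.Opens) (V : X.Opens)
    (e : V ≤ f ⁻¹ᵁ U) :
    (f.resLE U V e).appTop ≫ V.topIso.hom = U.topIso.hom ≫ f.appLE U V e :=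
  ((arrowResLEAppIso f U V e).hom.w).symm

section opens
variable {Z Z' X : Scheme.{u}} (h : Z ⟶ X) (i : Z ⟶ Z') (h' : Z' ⟶ X)
  {U : X.Opens} {V' : Z'.Opens} {V : Z.Opens} (hVV' : V ≤ i ⁻¹ᵁ V') (hVU : V ≤ h ⁻¹ᵁ U)
  (hV'U : V' ≤ h' ⁻¹ᵁ U)
  (hU : IsAffineOpen U) (hV' : IsAffineOpen V') (hV : IsAffineOpen V)
  (hres : OmegaSh.IsUnivThickening (h.resLE U V hVU) (i.resLE V' V hVV') (h'.resLE U V' hV'U))
  [Algebra Γ(X, U) Γ(Z, V)] [Algebra Γ(X, U) Γ(Z', V')]
  (halgZ : algebraMap Γ(X, U) Γ(Z, V) = (h.appLE U V hVU).hom)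
  (halgZ' : algebraMap Γ(X, U) Γ(Z', V') = (h'.appLE U V' hV'U).hom)
  (π : Γ(Z', V') →ₐ[Γ(X, U)] Γ(Z, V)) (hπ : ∀ x, π x = i.appLE V' V hVV' x)

include hU hV' hV hres halgZ halgZ' hπ in
/-- a universal first order thickening of affine opens gives a ring-level universal thickening of the rings of
sections. -/
theorem isUnivThickeningRing_appLE :
    OmegaSh.IsUnivThickeningRing Γ(X, U) Γ(Z, V) Γ(Z', V') π := by
  haveI : IsAffine U.toScheme := hU
  haveI : IsAffine V'.toScheme := hV'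
  haveI : IsAffine V.toScheme := hV
  letI algZ : Algebra Γ(U.toScheme, ⊤) Γ(V.toScheme, ⊤) := (h.resLE U V hVU).appTop.hom.toAlgebra
  letI algZ' : Algebra Γ(U.toScheme, ⊤) Γ(V'.toScheme, ⊤) :=
    (h'.resLE U V' hV'U).appTop.hom.toAlgebra
  have hih := hres.2.1
  have hcomm : (h'.resLE U V' hV'U).appTop ≫ (i.resLE V' V hVV').appTop =
      (h.resLE U V hVU).appTop := by
    rw [← Scheme.Hom.comp_appTop, hih]
  let π₀ : Γ(V'.toScheme, ⊤) →ₐ[Γ(U.toScheme, ⊤)] Γ(V.toScheme, ⊤) :=
    { (i.resLE V' V hVV').appTop.hom with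
      commutes' := fun x => congr($hcomm x) }
  have hπ₀ : ∀ x, π₀ x = (i.resLE V' V hVV').appTop x := fun _ => rfl
  have h0 := isUnivThickeningRing_appTop (h.resLE U V hVU) (i.resLE V' V hVV')
    (h'.resLE U V' hV'U) hres rfl rfl π₀ hπ₀
  refine isUnivThickeningRing_of_ringEquiv π₀ π U.topIso.commRingCatIsoToRingEquiv
    V.topIso.commRingCatIsoToRingEquiv V'.topIso.commRingCatIsoToRingEquiv ?_ ?_ ?_ h0
  · intro r
    have := resLE_appTop_topIso h U V hVU
    rw [halgZ]
    exact congr($this r)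
  · intro r
    have := resLE_appTop_topIso h' U V' hV'U
    rw [halgZ']
    exact congr($this r)
  · intro x
    have := resLE_appTop_topIso i V' V hVV'
    rw [hπ]
    exact congr($this x)

end opens

end Groth.Agent.Helper18UT
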