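import Mathlib
import Groth.Prelude.Def_Omega3

set_option autoImplicit false
set_option linter.style.haveILetI false
universe u
open CategoryTheory AlgebraicGeometry Limits TopologicalSpace

namespace Groth.Agent.Helper18UT

section LemmaU
variable {T T' Z' X : Scheme.{u}} (j : T ⟶ T') (α : T ⟶ Z') (b : T' ⟶ X) (h' : Z' ⟶ X)

/-- **Local to global for unique liftings**, abstract form for a locally directed open cover. -/
theorem existsUnique_lift_of_cover (𝒰 : T'.OpenCover) [Category 𝒰.I₀] [𝒰.LocallyDirected]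
    (H : ∀ k : 𝒰.I₀, ∃! a' : 𝒰.X k ⟶ Z',
      pullback.snd j (𝒰.f k) ≫ a' = pullback.fst j (𝒰.f k) ≫ α ∧ a' ≫ h' = 𝒰.f k ≫ b) :
    ∃! a' : T' ⟶ Z', j ≫ a' = α ∧ a' ≫ h' = b := by
  choose g hg hguniq using H
  have hcompat : ∀ {i k : 𝒰.I₀} (hik : i ⟶ k), 𝒰.trans hik ≫ g k = g i := by
    intro i k hik
    apply hguniq i
    refine ⟨?_, ?_⟩
    · let m : pullback j (𝒰.f i) ⟶ pullback j (𝒰.f k) :=
        pullback.lift (pullback.fst _ _) (pullback.snd _ _ ≫ 𝒰.trans hik) (by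
          rw [Category.assoc, 𝒰.trans_map, pullback.condition])
      have h1 : pullback.snd j (𝒰.f i) ≫ 𝒰.trans hik = m ≫ pullback.snd j (𝒰.f k) :=
        (pullback.lift_snd _ _ _).symm
      have h2 : m ≫ pullback.fst j (𝒰.f k) = pullback.fst j (𝒰.f i) := pullback.lift_fst _ _ _
      rw [← Category.assoc, h1, Category.assoc, (hg k).1, ← Category.assoc, h2]
    · rw [Category.assoc, (hg k).2, ← Category.assoc, 𝒰.trans_map]
  let a' : T' ⟶ Z' := 𝒰.glueMorphismsOfLocallyDirected g hcompat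
  have ha' : ∀ k, 𝒰.f k ≫ a' = g k := fun k =>
    𝒰.map_glueMorphismsOfLocallyDirected g hcompat k
  refine ⟨a', ⟨?_, ?_⟩, ?_⟩
  · have key : ∀ k : 𝒰.I₀, pullback.fst j (𝒰.f k) ≫ j ≫ a' = pullback.fst j (𝒰.f k) ≫ α := by
      intro k
      rw [← Category.assoc, pullback.condition, Category.assoc, ha', (hg k).1]
    exact Scheme.Cover.hom_ext (𝒰.pullback₁ j) _ _ key
  · refine 𝒰.hom_ext _ _ fun k => ?_
    rw [← Category.assoc, ha', (hg k).2]
  · rintro a'' ⟨h1, h2⟩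
    refine 𝒰.hom_ext _ _ fun k => ?_
    rw [ha']
    apply hguniq k
    refine ⟨?_, ?_⟩
    · rw [← Category.assoc, ← pullback.condition, Category.assoc, h1]
    · rw [Category.assoc, h2]

end LemmaU

section basis
variable {T' : Scheme.{u}} (ℬ : Set T'.Opens) (hℬ : Opens.IsBasis ℬ)

include hℬ in
theorem isOpenCover_of_isBasis : IsOpenCover (fun W : ℬ => (W : T'.Opens)) := by
  refine IsOpenCover.mk (eq_top_iff.mpr ?_)
  intro x _
  obtain ⟨W, hW, hxW, -⟩ := Opens.isBasis_iff_nbhd.mp hℬ (Opens.mem_top x)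
  exact Opens.mem_iSup.mpr ⟨⟨W, hW⟩, hxW⟩

/-- the open cover by the members of a basis. -/
noncomputable def basisCover : T'.OpenCover :=
  T'.openCoverOfIsOpenCover (fun W : ℬ => (W : T'.Opens)) (isOpenCover_of_isBasis ℬ hℬ)

/-- the open attached to an index of `basisCover`. -/
def basisVal (k : (basisCover ℬ hℬ).I₀) : T'.Opens :=
  Subtype.val (α := T'.Opens) (p := fun W => W ∈ ℬ) k

theorem basisVal_mem (k : (basisCover ℬ hℬ).I₀) : basisVal ℬ hℬ k ∈ ℬ :=
  Subtype.property (α := T'.Opens) (p := fun W => W ∈ ℬ) k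

noncomputable instance : Preorder (basisCover ℬ hℬ).I₀ := Preorder.lift (basisVal ℬ hℬ)

theorem basisCover_opensRange (k : (basisCover ℬ hℬ).I₀) :
    ((basisCover ℬ hℬ).f k).opensRange = basisVal ℬ hℬ k :=
  Scheme.Opens.opensRange_ι _

noncomputable instance : (basisCover ℬ hℬ).LocallyDirected :=
  Scheme.Cover.LocallyDirected.ofIsBasisOpensRange
    (fun {i k} => by
      rw [basisCover_opensRange ℬ hℬ i, basisCover_opensRange ℬ hℬ k]
      exact Iff.rfl)
    (by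
      convert hℬ
      ext W
      constructor
      · rintro ⟨i, rfl⟩
        change ((basisCover ℬ hℬ).f i).opensRange ∈ ℬ
        rw [basisCover_opensRange]
        exact basisVal_mem ℬ hℬ i
      · intro hW
        exact ⟨(⟨W, hW⟩ : ℬ), basisCover_opensRange ℬ hℬ (⟨W, hW⟩ : ℬ)⟩)

end basis

section LemmaU'
variable {T T' Z' X : Scheme.{u}} (j : T ⟶ T') (α : T ⟶ Z') (b : T' ⟶ X) (h' : Z' ⟶ X)
  (ℬ : Set T'.Opens) (hℬ : Opens.IsBasis ℬ)
  (H : ∀ W ∈ ℬ, ∃! a' : W.toScheme ⟶ Z', (j ∣_ W) ≫ a' = (j ⁻¹ᵁ W).ι ≫ α ∧ a' ≫ h' = W.ι ≫ b)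

theorem lift_cond_iff (W : T'.Opens) (a' : W.toScheme ⟶ Z') :
    pullback.snd j W.ι ≫ a' = pullback.fst j W.ι ≫ α ↔ (j ∣_ W) ≫ a' = (j ⁻¹ᵁ W).ι ≫ α := by
  let e := (isPullback_morphismRestrict j W).flip.isoPullback
  have e1 : e.hom ≫ pullback.fst j W.ι = (j ⁻¹ᵁ W).ι := IsPullback.isoPullback_hom_fst _
  have e2 : e.hom ≫ pullback.snd j W.ι = j ∣_ W := IsPullback.isoPullback_hom_snd _
  rw [← e1, ← e2, Category.assoc, Category.assoc, cancel_epi]

include hℬ H in
/-- **Local to global for unique liftings**: if on a basis of opens of `T'` the lifting problem has exactly one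
solution, then it has exactly one solution globally. -/
theorem existsUnique_lift_of_basis : ∃! a' : T' ⟶ Z', j ≫ a' = α ∧ a' ≫ h' = b := by
  refine existsUnique_lift_of_cover j α b h' (basisCover ℬ hℬ) ?_
  intro k
  have h1 := H (basisVal ℬ hℬ k) (basisVal_mem ℬ hℬ k)
  have h2 : (∃! a' : (basisVal ℬ hℬ k).toScheme ⟶ Z', pullback.snd j (basisVal ℬ hℬ k).ι ≫ a' =
      pullback.fst j (basisVal ℬ hℬ k).ι ≫ α ∧ a' ≫ h' = (basisVal ℬ hℬ k).ι ≫ b) :=
    (existsUnique_congr fun a' => by rw [lift_cond_iff]).mpr h1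
  exact h2

end LemmaU'

end Groth.Agent.Helper18UT
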