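import Groth.Agent.Lib.Helper18RelFP2

set_option autoImplicit false
set_option linter.style.haveILetI false
universe u

namespace Groth.Agent.Lib.Helper18RelFP3
open Groth.Agent.Lib.Helper18RelFP Groth.Agent.Lib.Helper18RelFP2 TensorProduct


theorem one_tmul_eq_zero_iff {Q Q' : Type*} [CommRing Q] [CommRing Q'] [Algebra Q Q']
    (hs : Function.Surjective (algebraMap Q Q')) (N : Type*) [AddCommGroup N] [Module Q N] (x : N) :
    (1 : Q') ⊗ₜ[Q] x = 0 ↔ x ∈ (RingHom.ker (algebraMap Q Q')) • (⊤ : Submodule Q N) := by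
  have hs' : Function.Surjective (Algebra.ofId Q Q') := hs
  let e : (Q ⧸ RingHom.ker (Algebra.ofId Q Q')) ≃ₐ[Q] Q' := Ideal.quotientKerAlgEquivOfSurjective hs'
  let E : (Q ⧸ RingHom.ker (Algebra.ofId Q Q')) ⊗[Q] N ≃ₗ[Q] Q' ⊗[Q] N :=
    TensorProduct.congr e.toLinearEquiv (LinearEquiv.refl Q N)
  have h1 : E (1 ⊗ₜ x) = 1 ⊗ₜ x := by simp [E]
  rw [← h1, E.map_eq_zero_iff,
    ← (quotTensorEquivQuotSMul N (RingHom.ker (Algebra.ofId Q Q'))).map_eq_zero_iff,
    quotTensorEquivQuotSMul_mk_one_tmul, Submodule.Quotient.mk_eq_zero]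
  rfl

/-- quotient step: base change along a surjection with f.g. kernel preserves f.p. over `P`. -/
theorem fp_tensor_of_surjective (P Q Q' : Type*) [CommRing P] [CommRing Q] [CommRing Q']
    [Algebra P Q] [Algebra Q Q'] [Algebra P Q'] [IsScalarTower P Q Q']
    (hs : Function.Surjective (algebraMap Q Q')) (hker : (RingHom.ker (algebraMap Q Q')).FG)
    (N : Type*) [AddCommGroup N] [Module Q N] [Module P N] [IsScalarTower P Q N]
    [Module.FinitePresentation P N] : Module.FinitePresentation P (Q' ⊗[Q] N) := by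
  classical
  obtain ⟨s, hsJ⟩ := hker
  -- the map `n ↦ 1 ⊗ n`
  let g : N →ₗ[P] Q' ⊗[Q] N := (TensorProduct.mk Q Q' N 1).restrictScalars P
  have hg : Function.Surjective g := by
    intro y
    obtain ⟨x, rfl⟩ := TensorProduct.mk_surjective Q N Q' hs y
    exact ⟨x, rfl⟩
  refine Module.finitePresentation_of_surjective g hg ?_
  -- the auxiliary map
  let h : (s → N) →ₗ[P] N :=
    ∑ i : s, (LinearMap.lsmul Q N (i : Q)).restrictScalars P ∘ₗ LinearMap.proj i
  have hh : ∀ y : s → N, h y = ∑ i : s, (i : Q) • y i := by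
    intro y; simp [h]
  have hker_eq : LinearMap.ker g = LinearMap.range h := by
    ext x
    rw [LinearMap.mem_ker]
    change (1 : Q') ⊗ₜ[Q] x = 0 ↔ _
    rw [one_tmul_eq_zero_iff hs, ← hsJ]
    constructor
    · intro hx
      refine Submodule.smul_induction_on hx ?_ ?_
      · intro r hr n _
        obtain ⟨c, hc⟩ := Submodule.mem_span_finset'.1 hr
        refine ⟨fun i => c i • n, ?_⟩
        rw [hh, ← hc, Finset.sum_smul]
        refine Finset.sum_congr rfl fun i _ => ?_
        rw [smul_eq_mul, mul_smul, smul_comm]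
      · intro x y hx hy
        exact (LinearMap.range h).add_mem hx hy
    · rintro ⟨y, rfl⟩
      rw [hh]
      refine Submodule.sum_mem _ fun i _ => ?_
      exact Submodule.smul_mem_smul (Submodule.subset_span i.2) Submodule.mem_top
  rw [hker_eq, LinearMap.range_eq_map]
  exact (Module.Finite.fg_top).map h


attribute [local instance] MvPolynomial.algebraMvPolynomial

/-- Base change of a relatively finitely presented module along a finitely presented algebra. -/
theorem relFP_baseChange_fp {R : Type*} [CommRing R] {P A A' : Type*} [CommRing P] [CommRing A]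
    [CommRing A'] [Algebra R P] [Algebra R A] [Algebra R A'] [Algebra A A'] [IsScalarTower R A A']
    [Algebra.FinitePresentation R P] [Algebra.FinitePresentation A A']
    (φ : P →ₐ[R] A) (M : Type*) [AddCommGroup M] [Module A M]
    (hM : RelFP φ.toRingHom M)
    (N : Type*) [AddCommGroup N] [Module A' N] [Module A N] [IsScalarTower A A' N]
    (ι : M →ₗ[A] N) (hι : IsBaseChange A' ι) (hφ : Function.Surjective φ)
    {k : ℕ} (γ : MvPolynomial (Fin k) R →ₐ[R] A') (hγ : Function.Surjective γ) :
    RelFP γ.toRingHom N := by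
  obtain ⟨m, ψ, hψ, hkerψ⟩ := Algebra.FinitePresentation.out (R := A) (A := A')
  letI : Algebra P A := φ.toRingHom.toAlgebra
  haveI : IsScalarTower R P A := IsScalarTower.of_algebraMap_eq fun r => (φ.commutes r).symm
  letI : Algebra (MvPolynomial (Fin m) A) A' := ψ.toRingHom.toAlgebra
  haveI : IsScalarTower A (MvPolynomial (Fin m) A) A' :=
    IsScalarTower.of_algebraMap_eq fun a => (ψ.commutes a).symm
  letI : Module P M := Module.compHom M φ.toRingHom
  haveI : IsScalarTower P A M := ⟨fun p a x => by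
    change (φ p * a) • x = φ p • (a • x); rw [mul_smul]⟩
  haveI : Module.FinitePresentation P M := hM
  have h1 : Module.FinitePresentation (MvPolynomial (Fin m) P) (MvPolynomial (Fin m) A ⊗[A] M) :=
    fp_baseChange_of_isPushout P (MvPolynomial (Fin m) P) A (MvPolynomial (Fin m) A) M
  letI : Algebra (MvPolynomial (Fin m) P) A' :=
    ((algebraMap (MvPolynomial (Fin m) A) A').comp
      (algebraMap (MvPolynomial (Fin m) P) (MvPolynomial (Fin m) A))).toAlgebra
  haveI : IsScalarTower (MvPolynomial (Fin m) P) (MvPolynomial (Fin m) A) A' :=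
    IsScalarTower.of_algebraMap_eq fun _ => rfl
  have h2 : Module.FinitePresentation (MvPolynomial (Fin m) P)
      (A' ⊗[MvPolynomial (Fin m) A] (MvPolynomial (Fin m) A ⊗[A] M)) :=
    fp_tensor_of_surjective (MvPolynomial (Fin m) P) (MvPolynomial (Fin m) A) A' hψ hkerψ _
  let e : N ≃ₗ[A'] A' ⊗[MvPolynomial (Fin m) A] (MvPolynomial (Fin m) A ⊗[A] M) :=
    hι.equiv.symm ≪≫ₗ
      (TensorProduct.AlgebraTensorModule.cancelBaseChange A (MvPolynomial (Fin m) A) A' A' M).symm
  have h3 : RelFP (algebraMap (MvPolynomial (Fin m) P) A') N :=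
    RelFP.of_equiv e.symm ((relFP_iff_of_tower _).2 h2)
  haveI : Algebra.FinitePresentation R (MvPolynomial (Fin m) P) :=
    Algebra.FinitePresentation.mvPolynomial_of_finitePresentation (R := R) (A := P) (Fin m)
  haveI : IsScalarTower R (MvPolynomial (Fin m) P) A' := IsScalarTower.of_algebraMap_eq fun r => by
    change algebraMap R A' r = ψ (MvPolynomial.map (algebraMap P A) (algebraMap R _ r))
    rw [MvPolynomial.algebraMap_apply, MvPolynomial.map_C, ← IsScalarTower.algebraMap_apply R P A,
      ← MvPolynomial.algebraMap_eq, ψ.commutes, ← IsScalarTower.algebraMap_apply R A A']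
  have hχ : Function.Surjective (IsScalarTower.toAlgHom R (MvPolynomial (Fin m) P) A') := by
    intro x
    obtain ⟨y, rfl⟩ := hψ x
    obtain ⟨z, rfl⟩ := MvPolynomial.map_surjective φ.toRingHom hφ y
    exact ⟨z, rfl⟩
  exact (relFP_indep (R := R) (IsScalarTower.toAlgHom R (MvPolynomial (Fin m) P) A') hχ γ hγ N).1 h3

end Groth.Agent.Lib.Helper18RelFP3
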