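import Mathlib
import Groth.Prelude.Def_Omega3
import Groth.Agent.Lib.Helper18RelFP3

set_option autoImplicit false
set_option linter.style.haveILetI false
universe u

namespace Groth.Agent.Lib.Helper18UnivThick
open TensorProduct MvPolynomial

/-- Key lemma: a derivation into a module killed by `ker(P → S)` only sees `S ⊗ Ω`. -/
theorem derivation_eq_of_tmul_eq {R P S : Type*} [CommRing R] [CommRing P] [CommRing S]
    [Algebra R P] [Algebra P S] (hs : Function.Surjective (algebraMap P S))
    {M : Type*} [AddCommGroup M] [Module R M] [Module P M] [IsScalarTower R P M]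
    (hM : ∀ j ∈ RingHom.ker (algebraMap P S), ∀ m : M, j • m = 0)
    (d : Derivation R P M) (x y : P)
    (hxy : (1 : S) ⊗ₜ[P] KaehlerDifferential.D R P x = (1 : S) ⊗ₜ[P] KaehlerDifferential.D R P y) :
    d x = d y := by
  have h0 : (1 : S) ⊗ₜ[P] (KaehlerDifferential.D R P x - KaehlerDifferential.D R P y) = 0 := by
    rw [TensorProduct.tmul_sub, hxy, sub_self]
  rw [Groth.Agent.Lib.Helper18RelFP3.one_tmul_eq_zero_iff hs] at h0
  have h1 : ∀ ω ∈ (RingHom.ker (algebraMap P S)) • (⊤ : Submodule P (Ω[P⁄R])),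
      d.liftKaehlerDifferential ω = 0 := by
    intro ω hω
    refine Submodule.smul_induction_on hω ?_ ?_
    · intro j hj ω' _
      rw [map_smul]
      exact hM j hj _
    · intro a b ha hb
      rw [map_add, ha, hb, add_zero]
  have h2 := h1 _ h0
  rw [map_sub, Derivation.liftKaehlerDifferential_comp_D, Derivation.liftKaehlerDifferential_comp_D,
    sub_eq_zero] at h2
  exact h2


/-- version for ideals of square zero -/
theorem key {R P S A : Type*} [CommRing R] [CommRing P] [CommRing S] [CommRing A]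
    [Algebra R P] [Algebra P S] [Algebra R A] [Algebra P A] [IsScalarTower R P A]
    (hs : Function.Surjective (algebraMap P S)) (I : Ideal A) (hI : I ^ 2 = ⊥)
    (hJI : ∀ j ∈ RingHom.ker (algebraMap P S), algebraMap P A j ∈ I)
    (d : Derivation R P I) (x y : P)
    (hxy : (1 : S) ⊗ₜ[P] KaehlerDifferential.D R P x = (1 : S) ⊗ₜ[P] KaehlerDifferential.D R P y) :
    d x = d y := by
  refine derivation_eq_of_tmul_eq hs ?_ d x y hxy
  intro j hj m
  apply Subtype.ext
  have h1 : algebraMap P A j * (m : A) ∈ I ^ 2 := by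
    rw [pow_two]; exact Ideal.mul_mem_mul (hJI j hj) m.2
  rw [hI, Ideal.mem_bot] at h1
  simpa [Algebra.smul_def] using h1

theorem main (R : Type u) [CommRing R]
    (S : Type u) [CommRing S] [Algebra R S] [Algebra.FormallyUnramified R S] :
    ∃ (S' : Type u) (_ : CommRing S') (_ : Algebra R S') (π : S' →ₐ[R] S),
      OmegaSh.IsUnivThickeningRing R S S' π := by
  classical
  let P := MvPolynomial S R
  let πP : P →ₐ[R] S := MvPolynomial.aeval id
  have hπP : Function.Surjective πP := fun s => ⟨X s, by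
    change MvPolynomial.aeval id (X s) = s
    rw [MvPolynomial.aeval_X]; rfl⟩
  letI : Algebra P S := πP.toRingHom.toAlgebra
  haveI : IsScalarTower R P S := IsScalarTower.of_algebraMap_eq (fun r => (πP.commutes r).symm)
  have hs : Function.Surjective (algebraMap P S) := hπP
  have halg : ∀ p : P, algebraMap P S p = πP p := fun _ => rfl
  set J : Ideal P := RingHom.ker (algebraMap P S) with hJ
  haveI : Subsingleton (Ω[S⁄R]) := inferInstance
  have hex : ∀ s : S, ∃ j : P, j ∈ J ∧ (1 : S) ⊗ₜ[P] KaehlerDifferential.D R P j =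
      (1 : S) ⊗ₜ[P] KaehlerDifferential.D R P (X s : P) := by
    intro s
    have hexact := KaehlerDifferential.exact_kerCotangentToTensor_mapBaseChange R P S hs
    have hmem : ((1 : S) ⊗ₜ[P] KaehlerDifferential.D R P (X s : P)) ∈
        Set.range (KaehlerDifferential.kerCotangentToTensor R P S) := by
      rw [← hexact]
      exact Subsingleton.elim _ _
    obtain ⟨c, hc⟩ := hmem
    obtain ⟨j, rfl⟩ := Ideal.toCotangent_surjective _ c
    exact ⟨j.1, j.2, by simpa using hc⟩
  choose j hjJ hj using hex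
  let J' : Ideal P := J ^ 2 ⊔ Ideal.span (Set.range j)
  have hJ'J : J' ≤ J := sup_le (Ideal.pow_le_self two_ne_zero)
    (Ideal.span_le.mpr (by rintro _ ⟨s, rfl⟩; exact hjJ s))
  have hjJ' : ∀ s, j s ∈ J' := fun s => Ideal.mem_sup_right (Ideal.subset_span ⟨s, rfl⟩)
  have hJ2J' : J ^ 2 ≤ J' := le_sup_left
  let π : (P ⧸ J') →ₐ[R] S := Ideal.Quotient.liftₐ J' πP (fun x hx => hJ'J hx)
  have hπmk : ∀ p : P, π (Ideal.Quotient.mk J' p) = πP p := fun p => rfl
  refine ⟨P ⧸ J', inferInstance, inferInstance, π, ?_, ?_, ?_⟩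
  · intro s
    obtain ⟨p, rfl⟩ := hπP s
    exact ⟨Ideal.Quotient.mk J' p, hπmk p⟩
  · rw [eq_bot_iff, pow_two, Ideal.mul_le]
    intro x hx y hy
    obtain ⟨p, rfl⟩ := Ideal.Quotient.mk_surjective x
    obtain ⟨q, rfl⟩ := Ideal.Quotient.mk_surjective y
    have hp : p ∈ J := hx
    have hq : q ∈ J := hy
    rw [Ideal.mem_bot, ← map_mul, Ideal.Quotient.eq_zero_iff_mem]
    apply hJ2J'
    rw [pow_two]
    exact Ideal.mul_mem_mul hp hq
  · intro A _ _ I hI a
    have hc : ∀ s : S, ∃ c : A, Ideal.Quotient.mk I c = a s := fun s =>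
      Ideal.Quotient.mk_surjective (a s)
    choose c hc using hc
    let ψ₀ : P →ₐ[R] A := MvPolynomial.aeval c
    have hψ₀ : ∀ p : P, Ideal.Quotient.mk I (ψ₀ p) = a (πP p) := by
      have : (Ideal.Quotient.mkₐ R I).comp ψ₀ = a.comp πP :=
        MvPolynomial.algHom_ext (fun s => by simp [ψ₀, πP, hc])
      intro p
      exact congr($this p)
    letI algPA : Algebra P A := ψ₀.toRingHom.toAlgebra
    haveI : IsScalarTower R P A :=
      IsScalarTower.of_algebraMap_eq (fun r => (ψ₀.commutes r).symm)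
    have halgA : ∀ p : P, algebraMap P A p = ψ₀ p := fun _ => rfl
    have hJI : ∀ p ∈ RingHom.ker (algebraMap P S), algebraMap P A p ∈ I := by
      intro p hp
      rw [← Ideal.Quotient.eq_zero_iff_mem, halgA, hψ₀]
      have : πP p = 0 := hp
      rw [this, map_zero]
    let δ : S → I := fun s => -⟨ψ₀ (j s), hJI _ (hjJ s)⟩
    let d : Derivation R P I := MvPolynomial.mkDerivation R δ
    have hdX : ∀ s, d (X s) = δ s := fun s => MvPolynomial.mkDerivation_X R δ s
    let ψ' : P →ₐ[R] A := liftOfDerivationToSquareZero I hI d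
    have hψ'apply : ∀ p, ψ' p = d p + ψ₀ p := fun p => rfl
    have hψ'mk : ∀ p, Ideal.Quotient.mk I (ψ' p) = a (πP p) := by
      intro p
      rw [hψ'apply, map_add, Ideal.Quotient.eq_zero_iff_mem.mpr (d p).2, zero_add, hψ₀]
    have hψ'j : ∀ s, ψ' (j s) = 0 := by
      intro s
      have h1 := key (R := R) hs I hI hJI d (j s) (X s) (hj s)
      rw [hψ'apply, h1, hdX]
      simp [δ]
    have hψ'J : ∀ p ∈ J, ψ' p ∈ I := by
      intro p hp
      rw [← Ideal.Quotient.eq_zero_iff_mem, hψ'mk]
      have : πP p = 0 := hp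
      rw [this, map_zero]
    have hψ'J' : ∀ p ∈ J', ψ' p = 0 := by
      have hle : J' ≤ RingHom.ker ψ'.toRingHom := by
        refine sup_le ?_ (Ideal.span_le.mpr ?_)
        · rw [pow_two, Ideal.mul_le]
          intro x hx y hy
          rw [RingHom.mem_ker, map_mul]
          have h2 := Ideal.mul_mem_mul (hψ'J x hx) (hψ'J y hy)
          rw [← pow_two, hI, Ideal.mem_bot] at h2
          exact h2
        · rintro _ ⟨s, rfl⟩
          exact hψ'j s
      intro p hp
      exact hle hp
    let a' : (P ⧸ J') →ₐ[R] A := Ideal.Quotient.liftₐ J' ψ' hψ'J'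
    have ha'mk : ∀ p, a' (Ideal.Quotient.mk J' p) = ψ' p := fun p => rfl
    refine ⟨a', ?_, ?_⟩
    · apply AlgHom.ext
      intro x
      obtain ⟨p, rfl⟩ := Ideal.Quotient.mk_surjective x
      simp only [AlgHom.comp_apply, Ideal.Quotient.mkₐ_eq_mk, ha'mk, hψ'mk, hπmk]
    · intro a'' ha''
      have ha''mk : ∀ p, Ideal.Quotient.mk I (a'' (Ideal.Quotient.mk J' p)) = a (πP p) := by
        intro p
        have := congr($ha'' (Ideal.Quotient.mk J' p))
        simpa only [AlgHom.comp_apply, Ideal.Quotient.mkₐ_eq_mk, hπmk] using this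
      let ψ₁ : P →ₐ[R] A := a''.comp (Ideal.Quotient.mkₐ R J')
      have hψ₁apply : ∀ p, ψ₁ p = a'' (Ideal.Quotient.mk J' p) := fun p => rfl
      have e₁ : (Ideal.Quotient.mkₐ R I).comp ψ₁ = IsScalarTower.toAlgHom R P (A ⧸ I) := by
        apply AlgHom.ext
        intro p
        simp only [AlgHom.comp_apply, Ideal.Quotient.mkₐ_eq_mk, hψ₁apply, ha''mk,
          IsScalarTower.coe_toAlgHom']
        rw [← hψ₀ p, ← halgA]
        rfl
      let d₁ : Derivation R P I := derivationToSquareZeroOfLift I hI ψ₁ e₁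
      have hd₁ : ∀ p, (d₁ p : A) = ψ₁ p - ψ₀ p := fun p => rfl
      have hdd : d₁ = d := by
        apply MvPolynomial.derivation_ext
        intro s
        have h1 := key (R := R) hs I hI hJI d₁ (j s) (X s) (hj s)
        rw [← h1, hdX]
        apply Subtype.ext
        rw [hd₁, hψ₁apply]
        have : Ideal.Quotient.mk J' (j s) = 0 := Ideal.Quotient.eq_zero_iff_mem.mpr (hjJ' s)
        rw [this, map_zero]
        simp [δ]
      apply AlgHom.ext
      intro x
      obtain ⟨p, rfl⟩ := Ideal.Quotient.mk_surjective x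
      rw [ha'mk, hψ'apply, ← hdd, hd₁, hψ₁apply]
      ring

end Groth.Agent.Lib.Helper18UnivThick
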