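import Mathlib
import Groth.Prelude.Def_Omega3
import Groth.Agent.Lib.Helper18UT6
import Groth.Agent.Lib.Helper18UT8
import Groth.Agent.Lib.Helper18UnivThick
import Groth.Agent.Lib.Helper20IdealComap

set_option autoImplicit false
set_option linter.style.haveILetI false
universe u
open CategoryTheory AlgebraicGeometry Limits TopologicalSpace

namespace Groth.Agent.Helper18UT

section toSpec
variable {R R' : CommRingCat.{u}} {Y Y' : Scheme.{u}}

/-- the morphism to `Spec R` attached to a ring map `R → Γ(Y, ⊤)`. -/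
noncomputable def toSpec (Y : Scheme.{u}) (ψ : R ⟶ Γ(Y, ⊤)) : Y ⟶ Spec R := Y.toSpecΓ ≫ Spec.map ψ

theorem toSpec_surjective (g : Y ⟶ Spec R) : ∃ ψ : R ⟶ Γ(Y, ⊤), toSpec Y ψ = g := by
  refine ⟨(Scheme.ΓSpecIso R).inv ≫ g.appTop, ?_⟩
  unfold toSpec
  rw [Spec.map_comp, ← Category.assoc, ← Scheme.toSpecΓ_naturality, Category.assoc,
    toSpecΓ_SpecMap_ΓSpecIso_inv, Category.comp_id]

theorem comp_toSpec (f : Y' ⟶ Y) (ψ : R ⟶ Γ(Y, ⊤)) : f ≫ toSpec Y ψ = toSpec Y' (ψ ≫ f.appTop) := by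
  unfold toSpec
  rw [← Category.assoc, Scheme.toSpecΓ_naturality, Category.assoc, ← Spec.map_comp]

theorem toSpec_comp (ψ : R ⟶ Γ(Y, ⊤)) (θ : R' ⟶ R) : toSpec Y ψ ≫ Spec.map θ = toSpec Y (θ ≫ ψ) := by
  unfold toSpec
  rw [Category.assoc, ← Spec.map_comp]

theorem toSpec_appTop (ψ : R ⟶ Γ(Y, ⊤)) :
    (toSpec Y ψ).appTop = (Scheme.ΓSpecIso R).hom ≫ ψ := by
  unfold toSpec
  rw [Scheme.Hom.comp_appTop, Scheme.toSpecΓ_appTop, Scheme.ΓSpecIso_naturality]

theorem toSpec_injective {ψ₁ ψ₂ : R ⟶ Γ(Y, ⊤)} (h : toSpec Y ψ₁ = toSpec Y ψ₂) : ψ₁ = ψ₂ := by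
  have h1 := congrArg Scheme.Hom.appTop h
  rw [toSpec_appTop, toSpec_appTop] at h1
  exact (cancel_epi _).mp h1

end toSpec

section affineTest
variable {A B B' : CommRingCat.{u}} (φ : A ⟶ B) (φ' : A ⟶ B') (π : B' ⟶ B)
  [Algebra A B] [Algebra A B'] (halgB : algebraMap A B = φ.hom) (halgB' : algebraMap A B' = φ'.hom)
  (πa : B' →ₐ[A] B) (hπa : ∀ x, πa x = π.hom x)
  (hring : OmegaSh.IsUnivThickeningRing A B B' πa)

include halgB halgB' hπa hring in
theorem existsUnique_lift_affine {T T' : Scheme.{u}} [IsAffine T'] (j : T ⟶ T')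
    (hj : MoreMor.IsFirstOrderThickening j) (b : T' ⟶ Spec A) (a : T ⟶ Spec B)
    (hw : j ≫ b = a ≫ Spec.map φ) :
    ∃! a' : T' ⟶ Spec B', j ≫ a' = a ≫ Spec.map π ∧ a' ≫ Spec.map φ' = b := by
  obtain ⟨⟨hci, hsurj⟩, hsq⟩ := hj
  haveI := hci
  obtain ⟨hTaff, hρsurj⟩ := IsClosedImmersion.isAffine_surjective_of_isAffine j
  -- kernel of square zero
  have hker : RingHom.ker j.appTop.hom ^ 2 = ⊥ := by
    have h1 := Scheme.ker_of_isAffine j
    rw [h1] at hsq
    have h2 := congrArg (Scheme.IdealSheafData.equivOfIsAffine (X := T')) hsq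
    rw [map_mul] at h2
    have h3 : Scheme.IdealSheafData.equivOfIsAffine (X := T')
        (Scheme.IdealSheafData.ofIdealTop (RingHom.ker j.appTop.hom)) = RingHom.ker j.appTop.hom :=
      (Scheme.IdealSheafData.equivOfIsAffine (X := T')).apply_symm_apply _
    rw [h3] at h2
    rw [pow_two]
    refine h2.trans ?_
    exact map_zero (Scheme.IdealSheafData.equivOfIsAffine (X := T'))
  obtain ⟨β, rfl⟩ := toSpec_surjective b
  obtain ⟨α₀, rfl⟩ := toSpec_surjective a
  rw [comp_toSpec, toSpec_comp] at hw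
  have hw' : β ≫ j.appTop = φ ≫ α₀ := toSpec_injective hw
  -- the ring-level lifting problem
  let C : Type u := Γ(T', ⊤)
  let D : Type u := Γ(T, ⊤)
  let ρ : C →+* D := j.appTop.hom
  letI algAC : Algebra A C := β.hom.toAlgebra
  let I : Ideal C := RingHom.ker ρ
  have hI : I ^ 2 = ⊥ := hker
  let e : C ⧸ I ≃+* D := RingHom.quotientKerEquivOfSurjective hρsurj
  have he : ∀ c : C, e (Ideal.Quotient.mk I c) = ρ c := fun c => rfl
  let ā : B →ₐ[A] C ⧸ I :=
    { (e.symm.toRingHom.comp α₀.hom) with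
      commutes' := fun x => by
        change e.symm (α₀.hom (algebraMap A B x)) = _
        rw [halgB]
        have h1 : α₀.hom (φ.hom x) = ρ (β.hom x) := (congr($hw' x)).symm
        rw [h1, ← he, e.symm_apply_apply]
        rfl }
  have hā : ∀ y, e (ā y) = α₀.hom y := fun y => e.apply_symm_apply _
  obtain ⟨a'alg, ha'alg, huniq⟩ := hring.2.2 C I hI ā
  have ha'alg' : ∀ y : B', ρ (a'alg y) = α₀.hom (π.hom y) := by
    intro y
    have := congr($ha'alg y)
    change Ideal.Quotient.mk I (a'alg y) = ā (πa y) at this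
    rw [← he, this, hā, hπa]
  let α' : B' ⟶ Γ(T', ⊤) := CommRingCat.ofHom a'alg.toRingHom
  refine ⟨toSpec T' α', ⟨?_, ?_⟩, ?_⟩
  · rw [comp_toSpec, toSpec_comp]
    congr 1
    ext y
    exact ha'alg' y
  · rw [toSpec_comp]
    congr 1
    ext x
    change a'alg (φ'.hom x) = β.hom x
    rw [← halgB']
    exact a'alg.commutes x
  · rintro a'' ⟨h1, h2⟩
    obtain ⟨α'', rfl⟩ := toSpec_surjective a''
    rw [comp_toSpec, toSpec_comp] at h1
    rw [toSpec_comp] at h2
    have h1' : α'' ≫ j.appTop = π ≫ α₀ := toSpec_injective h1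
    have h2' : φ' ≫ α'' = β := toSpec_injective h2
    let a''alg : B' →ₐ[A] C :=
      { α''.hom with
        commutes' := fun x => by
          change α''.hom (algebraMap A B' x) = β.hom x
          rw [halgB']
          exact congr($h2' x) }
    have := huniq a''alg (by
      apply AlgHom.ext
      intro y
      change Ideal.Quotient.mk I (α''.hom y) = ā (πa y)
      apply e.injective
      rw [he, hā, hπa]
      exact congr($h1' y))
    congr 1
    ext y
    exact congr($this y)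

end affineTest

section SpecUniv
variable {A B B' : CommRingCat.{u}} (φ : A ⟶ B) (φ' : A ⟶ B') (π : B' ⟶ B)
  [Algebra A B] [Algebra A B'] (halgB : algebraMap A B = φ.hom) (halgB' : algebraMap A B' = φ'.hom)
  (πa : B' →ₐ[A] B) (hπa : ∀ x, πa x = π.hom x)
  (hring : OmegaSh.IsUnivThickeningRing A B B' πa)

include halgB halgB' hπa hring in
/-- ring-level universal thickenings give scheme-level universal thickenings of spectra (against all test
thickenings). -/
theorem isUnivThickening_Spec :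
    OmegaSh.IsUnivThickening (Spec.map φ) (Spec.map π) (Spec.map φ') := by
  have hπφ : φ' ≫ π = φ := by
    ext x
    change π.hom (φ'.hom x) = φ.hom x
    rw [← hπa, ← halgB', πa.commutes, halgB]
  refine ⟨?_, ?_, ?_⟩
  · refine isFirstOrderThickening_SpecMap π ?_ ?_
    · intro y
      obtain ⟨x, hx⟩ := hring.1 y
      exact ⟨x, (hπa x).symm.trans hx⟩
    · have : RingHom.ker π.hom = RingHom.ker πa.toRingHom := by
        ext x
        rw [RingHom.mem_ker, RingHom.mem_ker]
        change _ ↔ πa x = 0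
        rw [hπa]
      rw [this]
      exact hring.2.1
  · rw [← Spec.map_comp, hπφ]
  · intro T T' j b a hj hw
    refine existsUnique_lift_of_basis j (a ≫ Spec.map π) b (Spec.map φ') T'.affineOpens
      T'.isBasis_affineOpens ?_
    intro W hW
    haveI : IsAffine W.toScheme := hW
    have hjW : MoreMor.IsFirstOrderThickening (j ∣_ W) :=
      Groth.Agent.Lib.Helper20.IdealComap.isFirstOrderThickening_of_isPullback
        (isPullback_morphismRestrict j W).flip hj
    have := existsUnique_lift_affine φ φ' π halgB halgB' πa hπa hring (j ∣_ W) hjW (W.ι ≫ b)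
      ((j ⁻¹ᵁ W).ι ≫ a) (by
        rw [← Category.assoc, morphismRestrict_ι, Category.assoc, hw, Category.assoc])
    simpa only [Category.assoc] using this

end SpecUniv

section transport
variable {Z Z' X : Scheme.{u}} (h : Z ⟶ X) (i : Z ⟶ Z') (h' : Z' ⟶ X)
  (hu : OmegaSh.IsUnivThickening h i h')

include hu in
/-- invariance of universal thickenings under isomorphisms of the source. -/
theorem isUnivThickening_iso_comp {Y : Scheme.{u}} (e : Y ≅ Z) :
    OmegaSh.IsUnivThickening (e.hom ≫ h) (e.hom ≫ i) h' := by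
  obtain ⟨hi, hih, huniv⟩ := hu
  refine ⟨?_, by rw [Category.assoc, hih], ?_⟩
  · have sq : IsPullback e.hom (e.hom ≫ i) i (𝟙 Z') :=
      IsPullback.of_horiz_isIso ⟨by rw [Category.comp_id]⟩
    exact Groth.Agent.Lib.Helper20.IdealComap.isFirstOrderThickening_of_isPullback sq hi
  · intro T T' j b a hj hw
    obtain ⟨a', ⟨h1, h2⟩, huniq⟩ := huniv T T' j b (a ≫ e.hom) hj (by rw [hw, Category.assoc])
    refine ⟨a', ⟨by rw [h1, Category.assoc], h2⟩, ?_⟩
    rintro a'' ⟨h1', h2'⟩
    exact huniq a'' ⟨by rw [h1', Category.assoc], h2'⟩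

include hu in
/-- a universal thickening over an open subscheme is a universal thickening over the ambient scheme. -/
theorem isUnivThickening_comp_openImmersion {X₁ : Scheme.{u}} (u : X ⟶ X₁) [IsOpenImmersion u] :
    OmegaSh.IsUnivThickening (h ≫ u) i (h' ≫ u) := by
  obtain ⟨hi, hih, huniv⟩ := hu
  refine ⟨hi, by rw [← Category.assoc, hih], ?_⟩
  intro T T' j b a hj hw
  have hjs : Function.Surjective j := hj.1.2.surj
  have hrange : Set.range b ⊆ Set.range u := by
    rintro _ ⟨y, rfl⟩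
    obtain ⟨x, rfl⟩ := hjs y
    have h1 : b (j x) = u (h (a x)) := by
      have := congrArg (fun ψ : T ⟶ X₁ => ψ x) hw
      simpa using this
    rw [h1]
    exact ⟨_, rfl⟩
  let b₀ : T' ⟶ X := IsOpenImmersion.lift u b hrange
  have hb₀ : b₀ ≫ u = b := IsOpenImmersion.lift_fac _ _ _
  have hw₀ : j ≫ b₀ = a ≫ h := by
    rw [← cancel_mono u, Category.assoc, hb₀, hw, Category.assoc]
  obtain ⟨a', ⟨h1, h2⟩, huniq⟩ := huniv T T' j b₀ a hj hw₀
  refine ⟨a', ⟨h1, by rw [← Category.assoc, h2, hb₀]⟩, ?_⟩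
  rintro a'' ⟨h1', h2'⟩
  refine huniq a'' ⟨h1', ?_⟩
  rw [← cancel_mono u, Category.assoc, h2', hb₀]

end transport

section piece
variable {Z X : Scheme.{u}} (h : Z ⟶ X) [FormallyUnramified h]

/-- **affine pieces**: an affine open of `Z` mapping into an affine open of `X` has a universal first order
thickening over `X`. -/
theorem exists_piece {V : Z.Opens} {U : X.Opens} (hV : IsAffineOpen V) (hU : IsAffineOpen U)
    (hVU : V ≤ h ⁻¹ᵁ U) :
    ∃ (V' : Scheme.{u}) (i : V.toScheme ⟶ V') (h' : V' ⟶ X),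
      OmegaSh.IsUnivThickening (V.ι ≫ h) i h' := by
  let φ : Γ(X, U) ⟶ Γ(Z, V) := h.appLE U V hVU
  letI algAB : Algebra Γ(X, U) Γ(Z, V) := φ.hom.toAlgebra
  haveI : Algebra.FormallyUnramified Γ(X, U) Γ(Z, V) := by
    have := HasRingHomProperty.appLE (P := @FormallyUnramified) h inferInstance ⟨U, hU⟩ ⟨V, hV⟩ hVU
    exact this
  obtain ⟨S', _, _, πa, hring⟩ := Groth.Agent.Lib.Helper18UnivThick.main Γ(X, U) Γ(Z, V)
  let B' : CommRingCat.{u} := CommRingCat.of S'
  let φ' : Γ(X, U) ⟶ B' := CommRingCat.ofHom (algebraMap Γ(X, U) S')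
  let π : B' ⟶ Γ(Z, V) := CommRingCat.ofHom πa.toRingHom
  have h1 := isUnivThickening_Spec φ φ' π (A := Γ(X, U)) (B := Γ(Z, V)) (B' := B') rfl rfl πa
    (fun _ => rfl) hring
  have h2 := isUnivThickening_comp_openImmersion _ _ _ h1 hU.fromSpec
  have h3 := isUnivThickening_iso_comp _ _ _ h2 hV.isoSpec
  have e : hV.isoSpec.hom ≫ Spec.map φ ≫ hU.fromSpec = V.ι ≫ h := by
    rw [IsAffineOpen.SpecMap_appLE_fromSpec h hU hV hVU, ← Category.assoc,
      IsAffineOpen.isoSpec_hom_fromSpec]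
  rw [e] at h3
  exact ⟨_, _, _, h3⟩

end piece

end Groth.Agent.Helper18UT
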