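import Mathlib
import Groth.Prelude.Def_Omega3
import Groth.Agent.Lib.Helper18UT9

set_option autoImplicit false
set_option linter.style.haveILetI false
set_option linter.unusedSectionVars false
universe u
open CategoryTheory AlgebraicGeometry Limits TopologicalSpace

namespace Groth.Agent.Helper18UT

section kerSq
variable {T T' : Scheme.{u}} (j : T ⟶ T') [QuasiCompact j]

/-- if the kernel of `j` has square zero, products of functions killed by `j♯` vanish (over any open). -/
theorem mul_eq_zero_of_ker_sq (hsq : j.ker * j.ker = ⊥) (O : T'.Opens) (x y : Γ(T', O))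
    (hx : j.app O x = 0) (hy : j.app O y = 0) : x * y = 0 := by
  refine T'.IsSheaf.section_ext fun t ht => ?_
  obtain ⟨_, ⟨N, hN, rfl⟩, htN, hNO : N ≤ O⟩ :=
    T'.isBasis_affineOpens.exists_subset_of_mem_open ht O.isOpen
  refine ⟨N, hNO, htN, ?_⟩
  rw [map_zero, map_mul]
  have key : ∀ z : Γ(T', O), j.app O z = 0 →
      T'.presheaf.map (homOfLE hNO).op z ∈ j.ker.ideal ⟨N, hN⟩ := by
    intro z hz
    rw [Scheme.Hom.ker_apply, RingHom.mem_ker]
    have hn := congr($(j.naturality (homOfLE hNO).op) z)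
    rw [ConcreteCategory.comp_apply, ConcreteCategory.comp_apply] at hn
    refine hn.trans ?_
    rw [hz, map_zero]
  have h1 := Ideal.mul_mem_mul (key x hx) (key y hy)
  have h2 : j.ker.ideal ⟨N, hN⟩ * j.ker.ideal ⟨N, hN⟩ = ⊥ := by
    have := congrArg (fun I : T'.IdealSheafData => I.ideal ⟨N, hN⟩) hsq
    exact this
  rw [h2, Ideal.mem_bot] at h1
  exact h1

end kerSq

section nbhd
variable {U : Scheme.{u}} (I : U.IdealSheafData) (h : I ^ 2 ≤ I)

theorem ker_inclusion_sq :
    (Scheme.IdealSheafData.inclusion h).ker * (Scheme.IdealSheafData.inclusion h).ker = ⊥ := by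
  set incl := Scheme.IdealSheafData.inclusion h with hincl
  set ι₂ := (I ^ 2).subschemeι with hι₂
  set ι₁ := I.subschemeι with hι₁
  have hcomp : incl ≫ ι₂ = ι₁ := Scheme.IdealSheafData.inclusion_subschemeι h
  rw [eq_bot_iff]
  refine Scheme.IdealSheafData.le_of_iSup_eq_top
    (fun W : U.affineOpens => ⟨ι₂ ⁻¹ᵁ W.1, W.2.preimage ι₂⟩) ?_ ?_
  · rw [eq_top_iff]
    intro y _
    obtain ⟨W, hW, hyW, -⟩ := Opens.isBasis_iff_nbhd.mp U.isBasis_affineOpens
      (Opens.mem_top (ι₂ y))
    exact Opens.mem_iSup.mpr ⟨⟨W, hW⟩, hyW⟩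
  · rintro ⟨W, hW⟩
    change incl.ker.ideal _ * incl.ker.ideal _ ≤ ⊥
    rw [Ideal.mul_le]
    intro a ha b hb
    rw [Ideal.mem_bot]
    have hle := incl.ideal_ker_le ⟨ι₂ ⁻¹ᵁ W, hW.preimage ι₂⟩
    have ha' : incl.app (ι₂ ⁻¹ᵁ W) a = 0 := RingHom.mem_ker.mp (hle ha)
    have hb' : incl.app (ι₂ ⁻¹ᵁ W) b = 0 := RingHom.mem_ker.mp (hle hb)
    obtain ⟨a₀, rfl⟩ := ι₂.app_surjective W hW a
    obtain ⟨b₀, rfl⟩ := ι₂.app_surjective W hW b
    have key : ∀ z : Γ(U, W), incl.app (ι₂ ⁻¹ᵁ W) (ι₂.app W z) = 0 → z ∈ I.ideal ⟨W, hW⟩ := by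
      intro z hz
      rw [← Scheme.IdealSheafData.ker_subschemeι_app, RingHom.mem_ker]
      have h1 := Scheme.Hom.congr_app hcomp W
      rw [Scheme.Hom.comp_app] at h1
      have h2 := congr($h1 z)
      rw [ConcreteCategory.comp_apply, ConcreteCategory.comp_apply, hz] at h2
      have h2' := h2.symm
      have h5 : (ι₁.app W) z = 0 := by
        revert h2'
        generalize_proofs pf
        intro h2'
        have hinj := (ConcreteCategory.bijective_of_isIso (I.subscheme.presheaf.map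
          (eqToHom pf).op)).1
        exact hinj (h2'.trans (map_zero _).symm)
      exact h5
    have h3 := Ideal.mul_mem_mul (key a₀ ha') (key b₀ hb')
    have h4 : I.ideal ⟨W, hW⟩ * I.ideal ⟨W, hW⟩ = (I ^ 2).ideal ⟨W, hW⟩ := by
      rw [Scheme.IdealSheafData.ideal_pow, Pi.pow_apply, pow_two]
    rw [h4, ← Scheme.IdealSheafData.ker_subschemeι_app, RingHom.mem_ker, map_mul] at h3
    exact h3

end nbhd

theorem app_eq_zero_of_eq {P Y : Scheme.{u}} {q q' : P ⟶ Y} (h : q = q') (W : Y.Opens)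
    (z : Γ(Y, W)) (hz : q'.app W z = 0) : q.app W z = 0 := by
  subst h; exact hz

section nbhd2
variable {U : Scheme.{u}} (I : U.IdealSheafData) (h : I ^ 2 ≤ I)

theorem isFirstOrderThickening_inclusion :
    MoreMor.IsFirstOrderThickening (Scheme.IdealSheafData.inclusion h) := by
  have hcomp : Scheme.IdealSheafData.inclusion h ≫ (I ^ 2).subschemeι = I.subschemeι :=
    Scheme.IdealSheafData.inclusion_subschemeι h
  haveI : IsClosedImmersion (Scheme.IdealSheafData.inclusion h ≫ (I ^ 2).subschemeι) := by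
    rw [hcomp]; infer_instance
  haveI : IsClosedImmersion (Scheme.IdealSheafData.inclusion h) :=
    IsClosedImmersion.of_comp_isClosedImmersion _ (I ^ 2).subschemeι
  refine ⟨⟨inferInstance, ⟨?_⟩⟩, ker_inclusion_sq I h⟩
  intro y
  have h1 : (I ^ 2).subschemeι y ∈ Set.range I.subschemeι := by
    rw [Scheme.IdealSheafData.range_subschemeι, ← Scheme.IdealSheafData.support_pow I 2 two_ne_zero,
      ← Scheme.IdealSheafData.range_subschemeι]
    exact ⟨y, rfl⟩
  obtain ⟨x, hx⟩ := h1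
  refine ⟨x, ?_⟩
  apply (I ^ 2).subschemeι.isClosedEmbedding.injective
  rw [← hx, ← hcomp]
  rfl

theorem isUnivThickening_inclusion :
    OmegaSh.IsUnivThickening I.subschemeι (Scheme.IdealSheafData.inclusion h) (I ^ 2).subschemeι := by
  have hcomp : Scheme.IdealSheafData.inclusion h ≫ (I ^ 2).subschemeι = I.subschemeι :=
    Scheme.IdealSheafData.inclusion_subschemeι h
  refine ⟨isFirstOrderThickening_inclusion I h, hcomp, ?_⟩
  intro T T' j b a hj hw
  haveI : IsClosedImmersion j := hj.1.1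
  have hle : (I ^ 2).subschemeι.ker ≤ b.ker := by
    rw [Scheme.IdealSheafData.ker_subschemeι]
    refine Scheme.IdealSheafData.le_ofIdeals_iff.mpr ?_
    intro W
    change (I ^ 2).ideal W ≤ RingHom.ker (b.app W.1).hom
    rw [Scheme.IdealSheafData.ideal_pow, Pi.pow_apply, pow_two, Ideal.mul_le]
    intro x hx y hy
    rw [RingHom.mem_ker]
    change b.app W.1 (x * y) = 0
    rw [map_mul]
    have key : ∀ z ∈ I.ideal W, j.app (b ⁻¹ᵁ W.1) (b.app W.1 z) = 0 := by
      intro z hz
      rw [← Scheme.IdealSheafData.ker_subschemeι_app, RingHom.mem_ker] at hz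
      have hz' : (I.subschemeι.app W.1) z = 0 := hz
      have e1 : (a ≫ I.subschemeι).app W.1 z = 0 := by
        change a.app (I.subschemeι ⁻¹ᵁ W.1) (I.subschemeι.app W.1 z) = 0
        rw [hz', map_zero]
      have e2 : (j ≫ b).app W.1 z = 0 := app_eq_zero_of_eq hw W.1 z e1
      exact e2
    exact mul_eq_zero_of_ker_sq j hj.2 (b ⁻¹ᵁ W.1) _ _ (key x hx) (key y hy)
  refine ⟨IsClosedImmersion.lift (I ^ 2).subschemeι b hle, ⟨?_, IsClosedImmersion.lift_fac _ _ _⟩, ?_⟩
  · rw [← cancel_mono (I ^ 2).subschemeι, Category.assoc, IsClosedImmersion.lift_fac, hw,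
      Category.assoc, hcomp]
  · rintro a'' ⟨-, h2⟩
    rw [← cancel_mono (I ^ 2).subschemeι, IsClosedImmersion.lift_fac, h2]

end nbhd2

/-- **S12456** -/
theorem main_S12456 {X : Scheme.{u}} (U : X.Opens) (I : (U : Scheme.{u}).IdealSheafData)
    (h : I ^ 2 ≤ I) :
    OmegaSh.IsUnivThickening (I.subschemeι ≫ U.ι) (Scheme.IdealSheafData.inclusion h)
      ((I ^ 2).subschemeι ≫ U.ι) :=
  isUnivThickening_comp_openImmersion _ _ _ (isUnivThickening_inclusion I h) U.ι

end Groth.Agent.Helper18UT
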