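import Mathlib
import Groth.Prelude.Def_Omega3
import Groth.Agent.Lib.Helper18UT9
import Groth.Agent.Lib.Helper22ThickAffine

set_option autoImplicit false
set_option linter.style.haveILetI false
universe u
open CategoryTheory AlgebraicGeometry Limits TopologicalSpace

namespace Groth.Agent.Helper18UT

section comparison
variable {X Z₁ Z₁' Z₂ Z₂' : Scheme.{u}} {h₁ : Z₁ ⟶ X} {i₁ : Z₁ ⟶ Z₁'} {h₁' : Z₁' ⟶ X}
  {h₂ : Z₂ ⟶ X} {i₂ : Z₂ ⟶ Z₂'} {h₂' : Z₂' ⟶ X}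
  (hu₁ : OmegaSh.IsUnivThickening h₁ i₁ h₁') (hu₂ : OmegaSh.IsUnivThickening h₂ i₂ h₂')
  (g : Z₁ ⟶ Z₂) (hg : g ≫ h₂ = h₁)

include hu₁ hu₂ hg in
theorem existsUnique_comparison : ∃! g' : Z₁' ⟶ Z₂', i₁ ≫ g' = g ≫ i₂ ∧ g' ≫ h₂' = h₁' :=
  hu₂.2.2 Z₁ Z₁' i₁ h₁' g hu₁.1 (by rw [hu₁.2.1, hg])

/-- the comparison map between universal thickenings induced by a map over `X`. -/
noncomputable def comparison : Z₁' ⟶ Z₂' := (existsUnique_comparison hu₁ hu₂ g hg).choose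

theorem comparison_fac : i₁ ≫ comparison hu₁ hu₂ g hg = g ≫ i₂ :=
  (existsUnique_comparison hu₁ hu₂ g hg).choose_spec.1.1

theorem comparison_comp : comparison hu₁ hu₂ g hg ≫ h₂' = h₁' :=
  (existsUnique_comparison hu₁ hu₂ g hg).choose_spec.1.2

theorem comparison_unique (g' : Z₁' ⟶ Z₂') (h1 : i₁ ≫ g' = g ≫ i₂) (h2 : g' ≫ h₂' = h₁') :
    g' = comparison hu₁ hu₂ g hg :=
  (existsUnique_comparison hu₁ hu₂ g hg).choose_spec.2 g' ⟨h1, h2⟩

end comparison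

section comparison2
variable {X Z₁ Z₁' Z₂ Z₂' Z₃ Z₃' : Scheme.{u}} {h₁ : Z₁ ⟶ X} {i₁ : Z₁ ⟶ Z₁'} {h₁' : Z₁' ⟶ X}
  {h₂ : Z₂ ⟶ X} {i₂ : Z₂ ⟶ Z₂'} {h₂' : Z₂' ⟶ X} {h₃ : Z₃ ⟶ X} {i₃ : Z₃ ⟶ Z₃'} {h₃' : Z₃' ⟶ X}
  (hu₁ : OmegaSh.IsUnivThickening h₁ i₁ h₁') (hu₂ : OmegaSh.IsUnivThickening h₂ i₂ h₂')
  (hu₃ : OmegaSh.IsUnivThickening h₃ i₃ h₃')

theorem comparison_id : comparison hu₁ hu₁ (𝟙 Z₁) (Category.id_comp _) = 𝟙 Z₁' :=
  (comparison_unique hu₁ hu₁ (𝟙 Z₁) (Category.id_comp _) (𝟙 Z₁')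
    (by rw [Category.comp_id, Category.id_comp]) (Category.id_comp _)).symm

theorem comparison_comp_comparison (g : Z₁ ⟶ Z₂) (hg : g ≫ h₂ = h₁) (g₂ : Z₂ ⟶ Z₃)
    (hg₂ : g₂ ≫ h₃ = h₂) (hgg : (g ≫ g₂) ≫ h₃ = h₁) :
    comparison hu₁ hu₂ g hg ≫ comparison hu₂ hu₃ g₂ hg₂ = comparison hu₁ hu₃ (g ≫ g₂) hgg := by
  apply comparison_unique
  · rw [← Category.assoc, comparison_fac, Category.assoc, comparison_fac, Category.assoc]
  · rw [Category.assoc, comparison_comp, comparison_comp]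

theorem isIso_comparison (g : Z₁ ⟶ Z₂) [IsIso g] (hg : g ≫ h₂ = h₁) :
    IsIso (comparison hu₁ hu₂ g hg) := by
  have hg' : inv g ≫ h₁ = h₂ := by rw [IsIso.inv_comp_eq, hg]
  refine ⟨comparison hu₂ hu₁ (inv g) hg', ?_, ?_⟩
  · rw [comparison_comp_comparison hu₁ hu₂ hu₁ g hg (inv g) hg' (by simp)]
    have : g ≫ inv g = 𝟙 _ := IsIso.hom_inv_id g
    rw [← comparison_id hu₁]
    congr 1
  · rw [comparison_comp_comparison hu₂ hu₁ hu₂ (inv g) hg' g hg (by simp)]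
    have : inv g ≫ g = 𝟙 _ := IsIso.inv_hom_id g
    rw [← comparison_id hu₂]
    congr 1

end comparison2

section restrict
variable {Z Z' X : Scheme.{u}} {h : Z ⟶ X} {i : Z ⟶ Z'} {h' : Z' ⟶ X}
  (hu : OmegaSh.IsUnivThickening h i h')

include hu in
/-- the restriction of a universal thickening to an open of `Z` (given by an open immersion `g`). -/
theorem isUnivThickening_restrict {Y : Scheme.{u}} (g : Y ⟶ Z) [IsOpenImmersion g] (W' : Z'.Opens)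
    (hW' : i ⁻¹ᵁ W' = g.opensRange) (l : Y ⟶ W'.toScheme) (hl : l ≫ W'.ι = g ≫ i) :
    OmegaSh.IsUnivThickening (g ≫ h) l (W'.ι ≫ h') := by
  obtain ⟨hi, hih, huniv⟩ := hu
  have sq : IsPullback l g W'.ι i :=
    IsOpenImmersion.isPullback l g W'.ι i hl.symm (by rw [Scheme.Opens.opensRange_ι, hW'])
  refine ⟨Groth.Agent.Lib.Helper20.IdealComap.isFirstOrderThickening_of_isPullback sq.flip hi, ?_, ?_⟩
  · rw [← Category.assoc, hl, Category.assoc, hih]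
  · intro T T' t b a ht hw
    obtain ⟨c, ⟨hc1, hc2⟩, hcuniq⟩ := huniv T T' t b (a ≫ g) ht (by rw [hw, Category.assoc])
    have hts : Function.Surjective t := ht.1.2.surj
    have hrange : Set.range c ⊆ Set.range W'.ι := by
      rintro _ ⟨y, rfl⟩
      obtain ⟨x, rfl⟩ := hts y
      have h1 : c (t x) = i (g (a x)) := by
        have := congrArg (fun φ : T ⟶ Z' => φ x) hc1
        simpa using this
      rw [h1, Scheme.Opens.range_ι]
      have : g (a x) ∈ i ⁻¹ᵁ W' := by rw [hW']; exact ⟨_, rfl⟩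
      exact this
    refine ⟨IsOpenImmersion.lift W'.ι c hrange, ⟨?_, ?_⟩, ?_⟩
    · rw [← cancel_mono W'.ι, Category.assoc, IsOpenImmersion.lift_fac, hc1, Category.assoc,
        Category.assoc, hl]
    · rw [IsOpenImmersion.lift_fac_assoc, hc2]
    · intro a'' ⟨ha1, ha2⟩
      rw [← cancel_mono W'.ι, IsOpenImmersion.lift_fac]
      apply hcuniq
      refine ⟨?_, ?_⟩
      · rw [← Category.assoc, ha1, Category.assoc, hl, Category.assoc]
      · rw [Category.assoc, ha2]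

end restrict

section openImm
variable {X Z₁ Z₁' Z₂ Z₂' : Scheme.{u}} {h₁ : Z₁ ⟶ X} {i₁ : Z₁ ⟶ Z₁'} {h₁' : Z₁' ⟶ X}
  {h₂ : Z₂ ⟶ X} {i₂ : Z₂ ⟶ Z₂'} {h₂' : Z₂' ⟶ X}
  (hu₁ : OmegaSh.IsUnivThickening h₁ i₁ h₁') (hu₂ : OmegaSh.IsUnivThickening h₂ i₂ h₂')

include hu₂ in
theorem isHomeomorph_of_isUnivThickening : IsHomeomorph i₂ := by
  obtain ⟨⟨⟨hci, hsurj⟩, -⟩, -, -⟩ := hu₂
  haveI := hci
  exact Groth.Agent.Lib.Helper22.ThickAffine.isHomeomorph_of_surjective i₂ hsurj.surj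

/-- the comparison map along an open immersion is an open immersion. -/
theorem isOpenImmersion_comparison (g : Z₁ ⟶ Z₂) [IsOpenImmersion g] (hg : g ≫ h₂ = h₁) :
    IsOpenImmersion (comparison hu₁ hu₂ g hg) := by
  have hhomeo := isHomeomorph_of_isUnivThickening hu₂
  let W' : Z₂'.Opens := ⟨i₂ '' (g.opensRange : Set Z₂), hhomeo.isOpenMap _ g.opensRange.isOpen⟩
  have hW' : i₂ ⁻¹ᵁ W' = g.opensRange := by
    ext y
    constructor
    · rintro ⟨y', hy', hyy'⟩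
      rwa [← hhomeo.injective hyy']
    · intro hy
      exact ⟨y, hy, rfl⟩
  have hrange : Set.range (g ≫ i₂) ⊆ Set.range W'.ι := by
    rintro _ ⟨y, rfl⟩
    rw [Scheme.Opens.range_ι]
    exact ⟨g y, ⟨y, rfl⟩, rfl⟩
  let l : Z₁ ⟶ W'.toScheme := IsOpenImmersion.lift W'.ι (g ≫ i₂) hrange
  have hl : l ≫ W'.ι = g ≫ i₂ := IsOpenImmersion.lift_fac _ _ _
  have hu₃ := isUnivThickening_restrict hu₂ g W' hW' l hl
  rw [hg] at hu₃
  haveI := isIso_comparison hu₁ hu₃ (𝟙 Z₁) (Category.id_comp _)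
  have : comparison hu₁ hu₂ g hg = comparison hu₁ hu₃ (𝟙 Z₁) (Category.id_comp _) ≫ W'.ι := by
    symm
    apply comparison_unique
    · rw [← Category.assoc, comparison_fac, Category.id_comp, hl]
    · rw [Category.assoc, comparison_comp]
  rw [this]
  infer_instance

end openImm

end Groth.Agent.Helper18UT
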