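import Mathlib
import Groth.Prelude.Def_Omega3
import Groth.Agent.Lib.Helper18UT10

set_option autoImplicit false
set_option linter.style.haveILetI false
set_option linter.unusedSectionVars false
universe u
open CategoryTheory AlgebraicGeometry Limits TopologicalSpace

namespace Groth.Agent.Helper18UT

section kerLocal

/-- vanishing of the square of the kernel is local on the target. -/
theorem ker_mul_self_eq_bot_of_cover {Y Y' : Scheme.{u}} (f : Y ⟶ Y') [QuasiCompact f] {ι : Type*}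
    (U U' : ι → Scheme.{u}) (iU : ∀ k, U k ⟶ Y) (iV : ∀ k, U' k ⟶ Y') [∀ k, IsOpenImmersion (iV k)]
    (f' : ∀ k, U k ⟶ U' k) (H : ∀ k, IsPullback (f' k) (iU k) (iV k) f)
    (hcov : ∀ y : Y', ∃ k, y ∈ Set.range (iV k))
    (hk : ∀ k, (f' k).ker * (f' k).ker = ⊥) : f.ker * f.ker = ⊥ := by
  rw [eq_bot_iff]
  refine Scheme.IdealSheafData.le_of_iSup_eq_top
    (fun p : Σ k, (U' k).affineOpens => ⟨iV p.1 ''ᵁ p.2.1, p.2.2.image_of_isOpenImmersion _⟩) ?_ ?_
  · rw [eq_top_iff]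
    intro y _
    obtain ⟨k, x, rfl⟩ := hcov y
    obtain ⟨W, hW, hxW, -⟩ := Opens.isBasis_iff_nbhd.mp (U' k).isBasis_affineOpens
      (Opens.mem_top x)
    exact Opens.mem_iSup.mpr ⟨⟨k, ⟨W, hW⟩⟩, ⟨x, hxW, rfl⟩⟩
  · rintro ⟨k, W⟩
    have h1 := Scheme.ker_ideal_of_isPullback_of_isOpenImmersion f (f' k) (iU k) (iV k)
      (H k) W
    have h2 : (f' k).ker.ideal W * (f' k).ker.ideal W = ⊥ := by
      have := congrArg (fun I : (U' k).IdealSheafData => I.ideal W) (hk k)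
      exact this
    change f.ker.ideal _ * f.ker.ideal _ ≤ ⊥
    rw [Ideal.mul_le]
    intro a ha b hb
    rw [Ideal.mem_bot]
    let e := (iV k).appIso W.1
    have ha' : e.hom.hom a ∈ (f' k).ker.ideal W := by
      rw [h1, Ideal.mem_comap]
      have : e.inv.hom (e.hom.hom a) = a := by
        rw [← CommRingCat.comp_apply, e.hom_inv_id]; rfl
      rw [this]
      exact ha
    have hb' : e.hom.hom b ∈ (f' k).ker.ideal W := by
      rw [h1, Ideal.mem_comap]
      have : e.inv.hom (e.hom.hom b) = b := by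
        rw [← CommRingCat.comp_apply, e.hom_inv_id]; rfl
      rw [this]
      exact hb
    have h3 := Ideal.mul_mem_mul ha' hb'
    rw [h2, Ideal.mem_bot, ← map_mul] at h3
    have hinj : Function.Injective e.hom.hom :=
      ((ConcreteCategory.isIso_iff_bijective e.hom).mp inferInstance).1
    apply hinj
    rw [h3, map_zero]

end kerLocal

section glue
variable {Z X : Scheme.{u}} (h : Z ⟶ X) (𝒱 : Z.OpenCover) [Category 𝒱.I₀] [𝒱.LocallyDirected]

/-- universal thickenings of the members of an open cover. -/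
structure PieceData where
  Z' : 𝒱.I₀ → Scheme.{u}
  i : ∀ k, 𝒱.X k ⟶ Z' k
  h' : ∀ k, Z' k ⟶ X
  univ : ∀ k, OmegaSh.IsUnivThickening (𝒱.f k ≫ h) (i k) (h' k)

variable {h 𝒱} (P : PieceData h 𝒱)

include P in
theorem PieceData.trans_comp {k l : 𝒱.I₀} (f : k ⟶ l) : 𝒱.trans f ≫ 𝒱.f l ≫ h = 𝒱.f k ≫ h := by
  rw [← Category.assoc, 𝒱.trans_map]

/-- the diagram of the thickenings. -/
@[reducible] noncomputable def PieceData.functor : 𝒱.I₀ ⥤ Scheme.{u} where
  obj k := P.Z' k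
  map {k l} f := comparison (P.univ k) (P.univ l) (𝒱.trans f) (P.trans_comp f)
  map_id k := by
    symm
    apply comparison_unique
    · rw [Category.comp_id, 𝒱.trans_id, Category.id_comp]
    · rw [Category.id_comp]
  map_comp {k l m} f g := by
    symm
    apply comparison_unique
    · rw [← Category.assoc, comparison_fac, Category.assoc, comparison_fac, 𝒱.trans_comp,
        Category.assoc]
    · rw [Category.assoc, comparison_comp, comparison_comp]

theorem PieceData.functor_map {k l : 𝒱.I₀} (f : k ⟶ l) :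
    P.functor.map f = comparison (P.univ k) (P.univ l) (𝒱.trans f) (P.trans_comp f) := rfl

theorem PieceData.i_map {k l : 𝒱.I₀} (f : k ⟶ l) :
    P.i k ≫ P.functor.map f = 𝒱.trans f ≫ P.i l :=
  comparison_fac (P.univ k) (P.univ l) (𝒱.trans f) (P.trans_comp f)

theorem PieceData.map_h' {k l : 𝒱.I₀} (f : k ⟶ l) :
    P.functor.map f ≫ P.h' l = P.h' k :=
  comparison_comp (P.univ k) (P.univ l) (𝒱.trans f) (P.trans_comp f)

instance {k l : 𝒱.I₀} (f : k ⟶ l) : IsOpenImmersion (P.functor.map f) :=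
  isOpenImmersion_comparison (P.univ k) (P.univ l) (𝒱.trans f) (P.trans_comp f)

theorem PieceData.i_bijective (k : 𝒱.I₀) : Function.Bijective (P.i k) :=
  (isHomeomorph_of_isUnivThickening (P.univ k)).bijective

instance : (P.functor ⋙ Scheme.forget).IsLocallyDirected where
  cond {k₁ k₂ k₃} fi fj x₁ x₂ hx := by
    obtain ⟨z₁, rfl⟩ := (P.i_bijective k₁).2 x₁
    obtain ⟨z₂, rfl⟩ := (P.i_bijective k₂).2 x₂
    have h1 : P.functor.map fi (P.i k₁ z₁) = P.functor.map fj (P.i k₂ z₂) := hx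
    rw [← Scheme.Hom.comp_apply, ← Scheme.Hom.comp_apply, P.i_map, P.i_map,
      Scheme.Hom.comp_apply, Scheme.Hom.comp_apply] at h1
    have h2 := (P.i_bijective k₃).1 h1
    obtain ⟨l, fli, flj, z, rfl, rfl⟩ := 𝒱.exists_of_trans_eq_trans fi fj z₁ z₂ h2
    refine ⟨l, fli, flj, P.i l z, ?_, ?_⟩
    · change P.functor.map fli (P.i l z) = _
      rw [← Scheme.Hom.comp_apply, P.i_map, Scheme.Hom.comp_apply]
    · change P.functor.map flj (P.i l z) = _
      rw [← Scheme.Hom.comp_apply, P.i_map, Scheme.Hom.comp_apply]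

section glued
variable [Quiver.IsThin 𝒱.I₀] [Small.{u} 𝒱.I₀]

/-- the glued thickening. -/
noncomputable def PieceData.glued : Scheme.{u} := colimit P.functor

/-- the inclusions of the pieces. -/
noncomputable def PieceData.ι (k : 𝒱.I₀) : P.Z' k ⟶ P.glued := colimit.ι P.functor k

instance (k : 𝒱.I₀) : IsOpenImmersion (P.ι k) :=
  inferInstanceAs (IsOpenImmersion (colimit.ι P.functor k))

theorem PieceData.map_ι {k l : 𝒱.I₀} (f : k ⟶ l) : P.functor.map f ≫ P.ι l = P.ι k :=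
  colimit.w P.functor f

theorem PieceData.ι_jointly_surjective (x : P.glued) : ∃ (k : 𝒱.I₀) (y : P.Z' k), P.ι k y = x :=
  Scheme.IsLocallyDirected.ι_jointly_surjective P.functor x

theorem PieceData.ι_eq_ι_iff {k l : 𝒱.I₀} {xk : P.Z' k} {xl : P.Z' l} :
    P.ι k xk = P.ι l xl ↔
      ∃ (m : 𝒱.I₀) (fk : m ⟶ k) (fl : m ⟶ l) (x : P.Z' m),
        P.functor.map fk x = xk ∧ P.functor.map fl x = xl :=
  Scheme.IsLocallyDirected.ι_eq_ι_iff P.functor

/-- the structure map of the glued thickening. -/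
noncomputable def PieceData.gluedH' : P.glued ⟶ X :=
  colimit.desc P.functor
    { pt := X
      ι := { app := fun k => P.h' k
             naturality := fun k l f => by
               change P.functor.map f ≫ P.h' l = P.h' k ≫ 𝟙 X
               rw [P.map_h', Category.comp_id] } }

theorem PieceData.ι_gluedH' (k : 𝒱.I₀) : P.ι k ≫ P.gluedH' = P.h' k :=
  colimit.ι_desc _ k

theorem PieceData.compat {k l : 𝒱.I₀} (f : k ⟶ l) :
    𝒱.trans f ≫ P.i l ≫ P.ι l = P.i k ≫ P.ι k := by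
  rw [← Category.assoc, ← P.i_map, Category.assoc, P.map_ι]

/-- the thickening map of the glued thickening. -/
noncomputable def PieceData.gluedI : Z ⟶ P.glued :=
  𝒱.glueMorphismsOfLocallyDirected (fun k => P.i k ≫ P.ι k) (fun f => P.compat f)

theorem PieceData.f_gluedI (k : 𝒱.I₀) : 𝒱.f k ≫ P.gluedI = P.i k ≫ P.ι k :=
  𝒱.map_glueMorphismsOfLocallyDirected _ _ k

theorem PieceData.gluedI_gluedH' : P.gluedI ≫ P.gluedH' = h := by
  refine 𝒱.hom_ext _ _ fun k => ?_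
  rw [← Category.assoc, P.f_gluedI, Category.assoc, P.ι_gluedH', (P.univ k).2.1]

theorem PieceData.gluedI_apply (k : 𝒱.I₀) (y : 𝒱.X k) : P.gluedI (𝒱.f k y) = P.ι k (P.i k y) := by
  rw [← Scheme.Hom.comp_apply, P.f_gluedI, Scheme.Hom.comp_apply]

theorem PieceData.map_i_apply {k l : 𝒱.I₀} (f : k ⟶ l) (y : 𝒱.X k) :
    P.functor.map f (P.i k y) = P.i l (𝒱.trans f y) := by
  rw [← Scheme.Hom.comp_apply, P.i_map, Scheme.Hom.comp_apply]

theorem PieceData.preimage_opensRange_ι (k : 𝒱.I₀) :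
    P.gluedI ⁻¹ᵁ (P.ι k).opensRange = (𝒱.f k).opensRange := by
  ext z
  constructor
  · rintro ⟨x, hx⟩
    obtain ⟨l, y, rfl⟩ := 𝒱.exists_eq z
    rw [P.gluedI_apply] at hx
    obtain ⟨m, fk, fl, w, hw1, hw2⟩ := P.ι_eq_ι_iff.mp hx
    obtain ⟨y', rfl⟩ := (P.i_bijective m).2 w
    rw [P.map_i_apply] at hw2
    have h3 := (P.i_bijective l).1 hw2
    refine ⟨𝒱.trans fk y', ?_⟩
    rw [← h3, ← Scheme.Hom.comp_apply, ← Scheme.Hom.comp_apply, 𝒱.trans_map, 𝒱.trans_map]
  · rintro ⟨y, rfl⟩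
    exact ⟨P.i k y, (P.gluedI_apply k y).symm⟩

theorem PieceData.isPullback_piece (k : 𝒱.I₀) : IsPullback (P.i k) (𝒱.f k) (P.ι k) P.gluedI :=
  IsOpenImmersion.isPullback (P.i k) (𝒱.f k) (P.ι k) P.gluedI (P.f_gluedI k)
    (P.preimage_opensRange_ι k)

end glued

section thick
variable [Quiver.IsThin 𝒱.I₀] [Small.{u} 𝒱.I₀]

theorem PieceData.isClosedImmersion_gluedI : IsClosedImmersion P.gluedI := by
  have key : ∀ k : 𝒱.I₀, IsClosedImmersion (pullback.snd P.gluedI (P.ι k)) := by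
    intro k
    have sq : IsPullback (𝒱.f k) (P.i k) P.gluedI (P.ι k) := (P.isPullback_piece k).flip
    have h1 : sq.isoPullback.hom ≫ pullback.snd P.gluedI (P.ι k) = P.i k := sq.isoPullback_hom_snd
    have h2 : pullback.snd P.gluedI (P.ι k) = sq.isoPullback.inv ≫ P.i k :=
      (Iso.eq_inv_comp _).mpr h1
    haveI : IsClosedImmersion (P.i k) := (P.univ k).1.1.1
    rw [h2]
    infer_instance
  exact IsZariskiLocalAtTarget.of_openCover (P := @IsClosedImmersion)
    (Scheme.IsLocallyDirected.openCover P.functor) key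

theorem PieceData.surjective_gluedI : Function.Surjective P.gluedI := by
  intro x
  obtain ⟨k, y, rfl⟩ := P.ι_jointly_surjective x
  obtain ⟨z, rfl⟩ := (P.i_bijective k).2 y
  exact ⟨𝒱.f k z, P.gluedI_apply k z⟩

theorem PieceData.isFirstOrderThickening_gluedI : MoreMor.IsFirstOrderThickening P.gluedI := by
  haveI := P.isClosedImmersion_gluedI
  refine ⟨⟨inferInstance, ⟨P.surjective_gluedI⟩⟩, ?_⟩
  refine ker_mul_self_eq_bot_of_cover P.gluedI (fun k => 𝒱.X k) (fun k => P.Z' k) (fun k => 𝒱.f k)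
    (fun k => P.ι k) (fun k => P.i k) (fun k => P.isPullback_piece k) ?_ (fun k => (P.univ k).1.2)
  intro y
  obtain ⟨k, x, rfl⟩ := P.ι_jointly_surjective y
  exact ⟨k, x, rfl⟩

end thick

section univ
variable [Quiver.IsThin 𝒱.I₀] [Small.{u} 𝒱.I₀]

/-- **the glued thickening is universal.** -/
theorem PieceData.isUnivThickening_glued : OmegaSh.IsUnivThickening h P.gluedI P.gluedH' := by
  refine ⟨P.isFirstOrderThickening_gluedI, P.gluedI_gluedH', ?_⟩
  intro T T' j b a hj hw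
  haveI : IsClosedImmersion j := hj.1.1
  have hhomeo : IsHomeomorph j :=
    Groth.Agent.Lib.Helper22.ThickAffine.isHomeomorph_of_surjective j hj.1.2.surj
  let ℬ : Set T'.Opens := {W | ∃ k : 𝒱.I₀, j ⁻¹ᵁ W ≤ a ⁻¹ᵁ (𝒱.f k).opensRange}
  have hℬ : Opens.IsBasis ℬ := by
    rw [Opens.isBasis_iff_nbhd]
    intro O t' ht'
    obtain ⟨t, rfl⟩ := hhomeo.surjective t'
    obtain ⟨k, y, hy⟩ := 𝒱.exists_eq (a t)
    let N : T.Opens := a ⁻¹ᵁ (𝒱.f k).opensRange
    have htN : t ∈ N := ⟨y, hy⟩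
    let N' : T'.Opens := ⟨j '' (N : Set T), hhomeo.isOpenMap _ N.isOpen⟩
    refine ⟨O ⊓ N', ⟨k, ?_⟩, ⟨ht', ⟨t, htN, rfl⟩⟩, inf_le_left⟩
    rintro s ⟨-, s', hs', hss'⟩
    rwa [← hhomeo.injective hss']
  refine existsUnique_lift_of_basis j (a ≫ P.gluedI) b P.gluedH' ℬ hℬ ?_
  rintro W ⟨k, hWk⟩
  have hrange_a : Set.range ((j ⁻¹ᵁ W).ι ≫ a) ⊆ Set.range (𝒱.f k) := by
    rintro _ ⟨x, rfl⟩
    exact hWk x.2
  let a_k : (j ⁻¹ᵁ W).toScheme ⟶ 𝒱.X k := IsOpenImmersion.lift (𝒱.f k) ((j ⁻¹ᵁ W).ι ≫ a) hrange_a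
  have ha_k : a_k ≫ 𝒱.f k = (j ⁻¹ᵁ W).ι ≫ a := IsOpenImmersion.lift_fac _ _ _
  have hjW : MoreMor.IsFirstOrderThickening (j ∣_ W) :=
    Groth.Agent.Lib.Helper20.IdealComap.isFirstOrderThickening_of_isPullback
      (isPullback_morphismRestrict j W).flip hj
  obtain ⟨ã, ⟨h1, h2⟩, huniq⟩ := (P.univ k).2.2 _ _ (j ∣_ W) (W.ι ≫ b) a_k hjW (by
    rw [← Category.assoc, morphismRestrict_ι, Category.assoc, hw, ← Category.assoc, ← ha_k,
      Category.assoc])
  refine ⟨ã ≫ P.ι k, ⟨?_, ?_⟩, ?_⟩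
  · rw [← Category.assoc, h1, Category.assoc, ← P.f_gluedI, ← Category.assoc, ha_k, Category.assoc]
  · rw [Category.assoc, P.ι_gluedH', h2]
  · rintro a'' ⟨h1', h2'⟩
    have hjWs : Function.Surjective (j ∣_ W) := hjW.1.2.surj
    have hrange : Set.range a'' ⊆ Set.range (P.ι k) := by
      rintro _ ⟨y, rfl⟩
      obtain ⟨x, rfl⟩ := hjWs y
      refine ⟨P.i k (a_k x), ?_⟩
      have e1 : a'' ((j ∣_ W) x) = P.gluedI (a ((j ⁻¹ᵁ W).ι x)) := by
        have := congrArg (fun ψ : (j ⁻¹ᵁ W).toScheme ⟶ P.glued => ψ x) h1'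
        simpa using this
      have e2 : a ((j ⁻¹ᵁ W).ι x) = 𝒱.f k (a_k x) := by
        have := congrArg (fun ψ : (j ⁻¹ᵁ W).toScheme ⟶ Z => ψ x) ha_k
        simpa using this.symm
      rw [e1, e2, P.gluedI_apply]
    let ã' : W.toScheme ⟶ P.Z' k := IsOpenImmersion.lift (P.ι k) a'' hrange
    have hã' : ã' ≫ P.ι k = a'' := IsOpenImmersion.lift_fac _ _ _
    have : ã' = ã := huniq ã' ⟨by
      rw [← cancel_mono (P.ι k), Category.assoc, hã', h1', Category.assoc, ← P.f_gluedI,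
        ← Category.assoc, ← Category.assoc, ha_k], by
      rw [← P.ι_gluedH', ← Category.assoc, hã', h2']⟩
    rw [← this, hã']

end univ

section final

/-- **existence of universal first order thickenings by gluing.** -/
theorem exists_univThickening_of_cover [Quiver.IsThin 𝒱.I₀] [Small.{u} 𝒱.I₀]
    (H : ∀ k, ∃ (V' : Scheme.{u}) (i : 𝒱.X k ⟶ V') (h' : V' ⟶ X),
      OmegaSh.IsUnivThickening (𝒱.f k ≫ h) i h') :
    ∃ (Z' : Scheme.{u}) (i : Z ⟶ Z') (h' : Z' ⟶ X), OmegaSh.IsUnivThickening h i h' := by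
  choose V' i h' hu using H
  let P : PieceData h 𝒱 := ⟨V', i, h', hu⟩
  exact ⟨P.glued, P.gluedI, P.gluedH', P.isUnivThickening_glued⟩

end final

end glue

section main
variable {Z X : Scheme.{u}} (h : Z ⟶ X) [FormallyUnramified h]

/-- **S9731**: a formally unramified morphism has a universal first order thickening. -/
theorem main_S9731 :
    ∃ (Z' : Scheme.{u}) (i : Z ⟶ Z') (h' : Z' ⟶ X), OmegaSh.IsUnivThickening h i h' := by
  let ℬ : Set Z.Opens := {V | IsAffineOpen V ∧ ∃ U : X.Opens, IsAffineOpen U ∧ V ≤ h ⁻¹ᵁ U}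
  have hℬ : Opens.IsBasis ℬ := by
    rw [Opens.isBasis_iff_nbhd]
    intro O z hz
    obtain ⟨U, hU, hzU, -⟩ := exists_isAffineOpen_mem_and_subset (x := h z) (U := ⊤) trivial
    obtain ⟨V, hV, hzV, hVO⟩ := exists_isAffineOpen_mem_and_subset (x := z) (U := O ⊓ h ⁻¹ᵁ U)
      ⟨hz, hzU⟩
    exact ⟨V, ⟨hV, U, hU, hVO.trans inf_le_right⟩, hzV, hVO.trans inf_le_left⟩
  refine exists_univThickening_of_cover (h := h) (𝒱 := basisCover ℬ hℬ) ?_
  intro k
  obtain ⟨hV, U, hU, hVU⟩ := basisVal_mem ℬ hℬ k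
  exact exists_piece h hV hU hVU

end main

end Groth.Agent.Helper18UT
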