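import Mathlib

set_option autoImplicit false
universe u

namespace Groth.Agent.Lib.Helper12.SpFibA

/-- the fraction field of a DVR is the localization away from a uniformizer. -/
theorem isLocalization_away_fractionRing (R : Type*) [CommRing R] [IsDomain R]
    [IsDiscreteValuationRing R] (ϖ : R) (hϖ : Irreducible ϖ) (K : Type*) [CommRing K]
    [Algebra R K] [IsFractionRing R K] : IsLocalization.Away ϖ K := by
  have hϖ0 : ϖ ≠ 0 := hϖ.ne_zero
  have hle : Submonoid.powers ϖ ≤ nonZeroDivisors R := by
    rintro _ ⟨n, rfl⟩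
    exact mem_nonZeroDivisors_of_ne_zero (pow_ne_zero n hϖ0)
  -- every element of `nonZeroDivisors` divides a power of `ϖ`
  haveI : IsLocalization (Submonoid.powers ϖ) (Localization.Away ϖ) := inferInstance
  haveI : IsLocalization (nonZeroDivisors R) (Localization.Away ϖ) := by
    refine IsLocalization.of_le_of_exists_dvd (Submonoid.powers ϖ) (nonZeroDivisors R) hle ?_
    intro x hx
    have hx0 : x ≠ 0 := nonZeroDivisors.ne_zero hx
    obtain ⟨n, u, rfl⟩ := IsDiscreteValuationRing.eq_unit_mul_pow_irreducible hx0 hϖ
    exact ⟨ϖ ^ n, ⟨n, rfl⟩, ⟨(↑u⁻¹ : R), by rw [mul_comm (u : R), mul_assoc, Units.mul_inv, mul_one]⟩⟩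
  let e : Localization.Away ϖ ≃ₐ[R] K := IsLocalization.algEquiv (nonZeroDivisors R) _ _
  exact IsLocalization.isLocalization_of_algEquiv (Submonoid.powers ϖ) e

/-- the algebraic core: a finite `R`-algebra `B` (`R` integrally closed) which embeds into the
fraction field compatibly is equal to `R`. -/
theorem bijective_of_finite_of_embeds {R B K Γ : Type*} [CommRing R] [IsDomain R]
    [IsIntegrallyClosed R] [CommRing B] [Field K] [Algebra R K] [IsFractionRing R K]
    [CommRing Γ] (φ : R →+* B) (hφ : φ.Finite) (ψ : B →+* Γ) (hψ : Function.Injective ψ)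
    (θ : K ≃+* Γ) (hcomp : ψ.comp φ = (θ : K →+* Γ).comp (algebraMap R K)) :
    Function.Bijective φ := by
  have hinj : Function.Injective (algebraMap R K) := IsFractionRing.injective R K
  constructor
  · intro a b hab
    apply hinj
    apply θ.injective
    have h1 := congr($hcomp a)
    have h2 := congr($hcomp b)
    simp only [RingHom.comp_apply, RingHom.coe_coe] at h1 h2
    rw [← h1, ← h2, hab]
  · intro b
    have hint : φ.IsIntegralElem b := hφ.to_isIntegral b
    let χ : B →+* K := (θ.symm : Γ →+* K).comp ψ
    have hχ : χ.comp φ = algebraMap R K := by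
      ext a
      have h1 := congr($hcomp a)
      simp only [RingHom.comp_apply, RingHom.coe_coe] at h1
      simp only [χ, RingHom.comp_apply, RingHom.coe_coe, h1, RingEquiv.symm_apply_apply]
    have hint' : IsIntegral R (χ b) := by
      obtain ⟨P, hP, hPb⟩ := hint
      refine ⟨P, hP, ?_⟩
      have := congr(χ $hPb)
      rw [Polynomial.hom_eval₂, map_zero, hχ] at this
      exact this
    obtain ⟨r, hr⟩ := IsIntegrallyClosed.algebraMap_eq_of_integral hint'
    refine ⟨r, ?_⟩
    apply hψ
    apply θ.symm.injective
    have h1 := congr($hχ r)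
    simp only [χ, RingHom.comp_apply, RingHom.coe_coe] at h1
    rw [h1, hr]
    rfl

end Groth.Agent.Lib.Helper12.SpFibA
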