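import Mathlib

set_option autoImplicit false
universe u

open CategoryTheory Limits AlgebraicGeometry TopologicalSpace Opposite

namespace Groth.Agent.Lib.Helper12.SpFibB

/-- global sections of a scheme flat over a domain are torsion-free. -/
theorem eq_zero_of_pow_mul_eq_zero {X : Scheme.{u}} {R : CommRingCat.{u}} [IsDomain R]
    (p : X ⟶ Spec R) [Flat p] (a : R) (ha : a ≠ 0) (b : Γ(X, ⊤)) (n : ℕ)
    (h : (p.appTop ((Scheme.ΓSpecIso R).inv a)) ^ n * b = 0) : b = 0 := by
  set a' : Γ(Spec R, ⊤) := (Scheme.ΓSpecIso R).inv a with ha'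
  have ha'0 : a' ≠ 0 := by
    intro h0
    apply ha
    have := congr((Scheme.ΓSpecIso R).hom $h0)
    rw [ha', map_zero] at this
    simpa using this
  refine TopCat.Presheaf.section_ext X.sheaf ⊤ b 0 ?_
  intro x hx
  rw [map_zero]
  set y := p.base x with hy
  set c := (Spec R).presheaf.germ ⊤ y trivial a' with hc
  have hc0 : c ≠ 0 := by
    intro h0
    apply ha'0
    apply AlgebraicGeometry.germ_injective_of_isIntegral (Spec R) y (U := ⊤) trivial
    rw [map_zero]
    exact h0
  have hflat : (p.stalkMap x).hom.Flat := Flat.stalkMap p x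
  letI : Algebra ((Spec R).presheaf.stalk y) (X.presheaf.stalk x) := (p.stalkMap x).hom.toAlgebra
  haveI : Module.Flat ((Spec R).presheaf.stalk y) (X.presheaf.stalk x) := hflat
  have hreg : IsSMulRegular (X.presheaf.stalk x) (c ^ n) :=
    Module.Flat.isSMulRegular_of_nonZeroDivisors
      (mem_nonZeroDivisors_of_ne_zero (pow_ne_zero n hc0))
  apply hreg
  change c ^ n • X.presheaf.germ ⊤ x hx b = c ^ n • 0
  rw [smul_zero]
  have h1 : (p.stalkMap x).hom c = X.presheaf.germ ⊤ x trivial (p.appTop a') := by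
    rw [hc]
    exact Scheme.Hom.germ_stalkMap_apply p ⊤ x trivial a'
  have h2 : c ^ n • X.presheaf.germ ⊤ x hx b =
      ((p.stalkMap x).hom c) ^ n * X.presheaf.germ ⊤ x hx b := by
    rw [Algebra.smul_def, map_pow]
    rfl
  rw [h2, h1, ← map_pow, ← map_mul, h, map_zero]


/-- the pullback of global sections to the generic fibre of a flat quasi-compact scheme over a
domain is injective. -/
theorem appTop_injective_of_isPullback {X C : Scheme.{u}} {R K : CommRingCat.{u}} [IsDomain R]
    (p : X ⟶ Spec R) [Flat p] [CompactSpace X]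
    (f : C ⟶ Spec K) (g : C ⟶ X) (ι : R ⟶ K) (a : R) (ha : a ≠ 0)
    (hloc : @IsLocalization.Away R _ a K _ ι.hom.toAlgebra)
    (H : IsPullback g f p (Spec.map ι)) : Function.Injective g.appTop := by
  letI : Algebra R K := ι.hom.toAlgebra
  haveI : IsLocalization.Away a K := hloc
  haveI hι : IsOpenImmersion (Spec.map ι) :=
    IsOpenImmersion.of_isLocalization (R := R) (S := K) a
  haveI : IsOpenImmersion g := MorphismProperty.of_isPullback H.flip hι
  set s : Γ(X, ⊤) := p.appTop ((Scheme.ΓSpecIso R).inv a) with hs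
  -- the range of `g`
  have hrι : Set.range (Spec.map ι).base = (PrimeSpectrum.basicOpen a : Set (PrimeSpectrum R)) :=
    PrimeSpectrum.localization_away_comap_range K a
  have hrg : Set.range g.base = p.base ⁻¹' (Set.range (Spec.map ι).base) := by
    have h1 : H.isoPullback.hom ≫ pullback.fst p (Spec.map ι) = g := H.isoPullback_hom_fst
    rw [← Scheme.Pullback.range_fst, ← h1, Scheme.Hom.comp_base, TopCat.coe_comp, Set.range_comp,
      Set.range_eq_univ.2 H.isoPullback.hom.surjective, Set.image_univ]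
  have hW : (X.basicOpen s : Set X) = Set.range g.base := by
    rw [hrg, hrι, hs]
    have h2 := Scheme.preimage_basicOpen p ((Scheme.ΓSpecIso R).inv a)
    have h3 : (Spec R).basicOpen ((Scheme.ΓSpecIso R).inv a) = PrimeSpectrum.basicOpen a :=
      basicOpen_eq_of_affine a
    rw [h3] at h2
    have h4 := congr(($h2 : Set X))
    exact h4.symm
  have hle : X.basicOpen s ≤ g ''ᵁ (g ⁻¹ᵁ ⊤) := by
    intro x hx
    have : x ∈ Set.range g.base := hW ▸ hx
    obtain ⟨c, rfl⟩ := this
    exact ⟨c, trivial, rfl⟩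
  rw [injective_iff_map_eq_zero]
  intro b hb
  have hle2 : g ''ᵁ (g ⁻¹ᵁ ⊤) ≤ (⊤ : X.Opens) := le_top
  have h1 : X.presheaf.map (homOfLE hle2).op b = 0 := by
    have := Scheme.Hom.app_appIso_inv g ⊤
    have h2 := congr($this b)
    change _ = X.presheaf.map (homOfLE hle2).op b at h2
    rw [← h2]
    change (g.appIso (g ⁻¹ᵁ ⊤)).inv (g.appTop b) = 0
    rw [hb]
    exact map_zero (g.appIso (g ⁻¹ᵁ ⊤)).inv.hom
  have h3 : X.presheaf.map (homOfLE (le_top : X.basicOpen s ≤ ⊤)).op b = 0 := by
    have h4 : (homOfLE (le_top : X.basicOpen s ≤ ⊤)).op =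
        (homOfLE hle2).op ≫ (homOfLE hle).op := rfl
    rw [h4, Functor.map_comp]
    change X.presheaf.map (homOfLE hle).op (X.presheaf.map _ b) = 0
    rw [h1, map_zero]
  obtain ⟨n, hn⟩ := exists_pow_mul_eq_zero_of_res_basicOpen_eq_zero_of_isCompact X
    (U := ⊤) isCompact_univ b s h3
  exact eq_zero_of_pow_mul_eq_zero p a ha b n hn

end Groth.Agent.Lib.Helper12.SpFibB
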