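import Mathlib
import Groth.Agent.Lib.Helper12Pi0F
import Groth.Agent.Lib.Helper12SpFibA
import Groth.Agent.Lib.Helper12SpFibB

set_option autoImplicit false
set_option linter.style.haveILetI false
universe u

open CategoryTheory Limits AlgebraicGeometry TopologicalSpace Opposite

namespace Groth.Agent.Lib.Helper12.SpFibC

open Groth.Agent.Lib.Helper12.SpFibA Groth.Agent.Lib.Helper12.SpFibB

/-- for a proper flat scheme over a DVR `R` whose generic fibre `C` has `H⁰(C, O_C) = K`, the
ring of global sections is `R`. -/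
theorem bijective_toGlobal (R : Type u) [CommRing R] [IsDomain R] [IsDiscreteValuationRing R]
    (C X : Scheme.{u}) (f : C ⟶ Spec (CommRingCat.of (FractionRing R)))
    (p : X ⟶ Spec (CommRingCat.of R)) (hH0 : IsIso f.appTop) [Flat p] [IsProper p] (g : C ⟶ X)
    (H : IsPullback g f p (Spec.map (CommRingCat.ofHom (algebraMap R (FractionRing R))))) :
    Function.Bijective ((Scheme.ΓSpecIso (CommRingCat.of R)).inv ≫ p.appTop).hom := by
  set K := FractionRing R with hK
  obtain ⟨ϖ, hϖ⟩ := IsDiscreteValuationRing.exists_irreducible R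
  have hloc0 : IsLocalization.Away ϖ K := isLocalization_away_fractionRing R ϖ hϖ K
  have halg : (algebraMap R K).toAlgebra = (inferInstance : Algebra R K) :=
    Algebra.algebra_ext _ _ (fun r => rfl)
  have hloc : @IsLocalization.Away R _ ϖ K _ (algebraMap R K).toAlgebra := by
    rw [halg]; exact hloc0
  haveI : CompactSpace X := (quasiCompact_iff_compactSpace p).1 inferInstance
  have hinj : Function.Injective g.appTop :=
    appTop_injective_of_isPullback (R := CommRingCat.of R) (K := CommRingCat.of K) p f g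
      (CommRingCat.ofHom (algebraMap R K)) ϖ hϖ.ne_zero hloc H
  set φc : CommRingCat.of R ⟶ Γ(X, ⊤) := (Scheme.ΓSpecIso (CommRingCat.of R)).inv ≫ p.appTop
    with hφc
  have hfin : φc.hom.Finite := Groth.Agent.Lib.Helper6.Stein.finite_toGlobal R X p
  let θc : CommRingCat.of K ≅ Γ(C, ⊤) :=
    (Scheme.ΓSpecIso (CommRingCat.of K)).symm ≪≫ asIso f.appTop
  let θ : K ≃+* Γ(C, ⊤) := θc.commRingCatIsoToRingEquiv
  have hcomp : φc ≫ g.appTop = CommRingCat.ofHom (algebraMap R K) ≫ θc.hom := by
    rw [hφc, Category.assoc, ← Scheme.Hom.comp_appTop, H.w, Scheme.Hom.comp_appTop,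
      ← Category.assoc, ← Scheme.ΓSpecIso_inv_naturality, Category.assoc]
    rfl
  refine bijective_of_finite_of_embeds (K := K) φc.hom hfin g.appTop.hom hinj θ ?_
  have := congr($(hcomp).hom)
  exact this


/-- the special fibre of a proper flat scheme over a DVR whose generic fibre has only constant
global functions is connected. -/
theorem connectedSpace_specialFibre (R : Type u) [CommRing R] [IsDomain R]
    [IsDiscreteValuationRing R]
    (C X : Scheme.{u}) (f : C ⟶ Spec (CommRingCat.of (FractionRing R)))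
    (p : X ⟶ Spec (CommRingCat.of R)) (hH0 : IsIso f.appTop) [Flat p] [IsProper p] (g : C ⟶ X)
    (H : IsPullback g f p (Spec.map (CommRingCat.ofHom (algebraMap R (FractionRing R))))) :
    ConnectedSpace ↥(pullback p (Spec.map (CommRingCat.ofHom
      (algebraMap R (IsLocalRing.ResidueField R))))) := by
  have hbij := bijective_toGlobal R C X f p hH0 g H
  obtain ⟨hN, hgP, hiso, hfac, -⟩ := Groth.Agent.Lib.Helper12.Pi0F.setup R (⊥ : Ideal R) p
  set φc : CommRingCat.of R ⟶ Γ(X, ⊤) := (Scheme.ΓSpecIso (CommRingCat.of R)).inv ≫ p.appTop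
    with hφc
  haveI : IsIso φc := (ConcreteCategory.isIso_iff_bijective φc).2 hbij
  have hiso' : ∀ U, IsIso ((X.toSpecΓ ≫ Spec.map φc).app U) := by
    intro U
    rw [Scheme.Hom.comp_app]
    haveI h1 : IsIso (X.toSpecΓ.app (Spec.map φc ⁻¹ᵁ U)) := hiso (Spec.map φc ⁻¹ᵁ U)
    haveI h2 : IsIso (Spec.map φc) := inferInstance
    haveI h3 : IsIso ((Spec.map φc).app U) := inferInstance
    exact @IsIso.comp_isIso _ _ _ _ _ _ _ h3 h1
  have hiso'' : ∀ U, IsIso (p.app U) := by
    rw [hfac]; exact hiso'
  have hfib := Groth.Agent.Lib.Helper23.ZarConnB4.isConnected_preimage_singleton p hiso''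
    (IsLocalRing.closedPoint R)
  set κ : Spec (CommRingCat.of (IsLocalRing.ResidueField R)) ⟶ Spec (CommRingCat.of R) :=
    Spec.map (CommRingCat.ofHom (algebraMap R (IsLocalRing.ResidueField R))) with hκ
  haveI : IsClosedImmersion κ :=
    IsClosedImmersion.spec_of_surjective _ IsLocalRing.residue_surjective
  have hrκ : Set.range κ.base = {IsLocalRing.closedPoint R} := by
    ext y
    constructor
    · rintro ⟨z, rfl⟩
      exact IsLocalRing.PrimeSpectrum.comap_residue R z
    · rintro rfl
      exact ⟨(⊥ : PrimeSpectrum (IsLocalRing.ResidueField R)),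
        IsLocalRing.PrimeSpectrum.comap_residue R _⟩
  have hrange : Set.range (pullback.fst p κ).base = p.base ⁻¹' {IsLocalRing.closedPoint R} := by
    rw [Scheme.Pullback.range_fst, hrκ]
  have hemb : Topology.IsEmbedding (pullback.fst p κ).base :=
    (pullback.fst p κ).isClosedEmbedding.isEmbedding
  have hconn : _root_.IsConnected (Set.range (pullback.fst p κ).base) := by
    rw [hrange]; exact hfib
  rw [← Set.image_univ] at hconn
  haveI : Nonempty ↥(pullback p κ) := by
    obtain ⟨x, hx⟩ := hconn.nonempty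
    obtain ⟨z, -, -⟩ := hx
    exact ⟨z⟩
  haveI : PreconnectedSpace ↥(pullback p κ) :=
    ⟨(hemb.isInducing.isPreconnected_image).1 hconn.isPreconnected⟩
  exact { toPreconnectedSpace := inferInstance, toNonempty := inferInstance }

end Groth.Agent.Lib.Helper12.SpFibC
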