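import Mathlib
import Groth.Agent.Lib.Helper12ClosedDescent

/-!
Helper library (helper12): subspaces of a sheaf with an etale atlas, from invariant subschemes
(monomorphisms) of the atlas.
-/

set_option autoImplicit false
universe u
open CategoryTheory CategoryTheory.Limits AlgebraicGeometry Opposite
open AlgSp

namespace Groth.Agent.Lib.Helper12.SubSp

open Groth.Agent.Lib.Helper9 Groth.Agent.Lib.Helper12.ClosedDescent

variable {S : Scheme.{u}}

/-- **subspaces from invariant subschemes of a chart.** -/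
theorem exists_subspace {X : AlgSp.Sp S} {V ZV : Over S} (p : (AlgSp.yon S).obj V ⟶ X)
    (hpe : AlgSp.RepWith @Etale p) (z : ZV ⟶ V)
    [Mono z.left]
    (hinv : ∀ (A : Over S) (a : A ⟶ ZV) (b : A ⟶ V),
      (AlgSp.yon S).map (a ≫ z) ≫ p = (AlgSp.yon S).map b ≫ p → ∃ b' : A ⟶ ZV, b' ≫ z = b) :
    ∃ (Z : AlgSp.Sp S) (i : Z ⟶ X) (q : (AlgSp.yon S).obj ZV ⟶ Z),
      IsPullback q ((AlgSp.yon S).map z) i p ∧ Mono i := by
  obtain ⟨q, hq⟩ : ∃ q : (AlgSp.yon S).obj ZV ⟶ Sheaf.image ((AlgSp.yon S).map z ≫ p),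
      q = Sheaf.toImage _ := ⟨_, rfl⟩
  obtain ⟨i, hi⟩ : ∃ i : Sheaf.image ((AlgSp.yon S).map z ≫ p) ⟶ X, i = Sheaf.imageι _ := ⟨_, rfl⟩
  haveI : Epi q := by rw [hq]; infer_instance
  haveI : Mono i := by rw [hi]; infer_instance
  have hqi : q ≫ i = (AlgSp.yon S).map z ≫ p := by rw [hq, hi]; exact Sheaf.toImage_ι _
  haveI : Mono ((AlgSp.yon S).map z) := by
    haveI : Mono z := Over.mono_of_mono_left z
    infer_instance
  have sqQ := IsPullback.of_hasPullback i p
  haveI : Mono (pullback.snd i p) := inferInstance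
  -- the map `k : h_{ZV} ⟶ Z ×_X h_V`
  obtain ⟨k, hk1, hk2⟩ : ∃ k : (AlgSp.yon S).obj ZV ⟶ pullback i p,
      k ≫ pullback.fst i p = q ∧ k ≫ pullback.snd i p = (AlgSp.yon S).map z :=
    ⟨pullback.lift _ _ hqi, pullback.lift_fst _ _ _, pullback.lift_snd _ _ _⟩
  -- the relation `R = V ×_X V`
  obtain ⟨R, t, s', sqR⟩ := hpe.1 p
  obtain ⟨s, rfl⟩ := (AlgSp.yon S).map_surjective s'
  -- `C = ZV ×_{V,s} R`
  have hC : pullback.fst s.left z.left ≫ R.hom = pullback.fst s.left z.left ≫ R.hom := rfl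
  obtain ⟨c2, hc2⟩ : ∃ c2 : Over.mk (pullback.fst s.left z.left ≫ R.hom) ⟶ R,
      c2 = Over.homMk (pullback.fst s.left z.left) rfl := ⟨_, rfl⟩
  have hc1w : pullback.snd s.left z.left ≫ ZV.hom = pullback.fst s.left z.left ≫ R.hom := by
    rw [← Over.w z, ← Category.assoc, ← pullback.condition, Category.assoc, Over.w s]
  obtain ⟨c1, hc1⟩ : ∃ c1 : Over.mk (pullback.fst s.left z.left ≫ R.hom) ⟶ ZV,
      c1 = Over.homMk (pullback.snd s.left z.left) hc1w := ⟨_, rfl⟩
  have sqC : IsPullback c2 c1 s z := by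
    refine IsPullback.of_map (Over.forget S) ?_ ?_
    · apply Over.OverMorphism.ext
      rw [hc2, hc1]
      exact pullback.condition
    · rw [hc2, hc1]
      exact IsPullback.of_hasPullback s.left z.left
  -- invariance
  obtain ⟨b', hb'⟩ := hinv _ c1 (c2 ≫ t) (by
    rw [← sqC.w, Functor.map_comp, Functor.map_comp, Category.assoc, Category.assoc, sqR.w])
  -- the big pullback square
  have big : IsPullback ((AlgSp.yon S).map c2 ≫ (AlgSp.yon S).map t) ((AlgSp.yon S).map c1) p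
      ((AlgSp.yon S).map z ≫ p) := (sqC.map (AlgSp.yon S)).paste_horiz sqR.flip
  rw [← hqi] at big
  have hw : ((AlgSp.yon S).map c1 ≫ q) ≫ i = ((AlgSp.yon S).map c2 ≫ (AlgSp.yon S).map t) ≫ p := by
    rw [Category.assoc]; exact big.w.symm
  obtain ⟨a, ha1, ha2⟩ : ∃ a : (AlgSp.yon S).obj (Over.mk (pullback.fst s.left z.left ≫ R.hom)) ⟶
      pullback i p, a ≫ pullback.fst i p = (AlgSp.yon S).map c1 ≫ q ∧
      a ≫ pullback.snd i p = (AlgSp.yon S).map c2 ≫ (AlgSp.yon S).map t :=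
    ⟨pullback.lift _ _ hw, pullback.lift_fst _ _ _, pullback.lift_snd _ _ _⟩
  have sqa : IsPullback a ((AlgSp.yon S).map c1) (pullback.fst i p) q := by
    refine IsPullback.of_right ?_ ha1 sqQ.flip
    rw [ha2]
    exact big
  haveI : Epi a := ToposLike.epi_of_isPullback sqa inferInstance
  obtain ⟨n, hn, -⟩ := exists_factor_of_epi a ((AlgSp.yon S).map b') (pullback.snd i p)
    ((AlgSp.yon S).map z) (by rw [ha2, ← Functor.map_comp, ← Functor.map_comp, hb'])
  have hnk : n ≫ k = 𝟙 _ := by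
    rw [← cancel_mono (pullback.snd i p), Category.assoc, hk2, hn, Category.id_comp]
  have hkn : k ≫ n = 𝟙 _ := by
    rw [← cancel_mono ((AlgSp.yon S).map z), Category.assoc, hn, hk2, Category.id_comp]
  have sqZ : IsPullback q ((AlgSp.yon S).map z) i p :=
    IsPullback.of_iso sqQ ⟨n, k, hnk, hkn⟩ (Iso.refl _) (Iso.refl _) (Iso.refl _)
      (by simp [← hk1, reassoc_of% hnk]) (by simp [← hk2, reassoc_of% hnk]) (by simp) (by simp)
  exact ⟨_, i, q, sqZ, inferInstance⟩

end Groth.Agent.Lib.Helper12.SubSp
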