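import Mathlib.CategoryTheory.MorphismProperty.Descent
import Mathlib.CategoryTheory.MorphismProperty.Limits

/-!
Helper library (helper12): a descent statement for `P` gives one for `P.universally`.
-/

set_option autoImplicit false
universe v u
open CategoryTheory Limits MorphismProperty

namespace Groth.Agent.Lib.Helper12

/-- If `P` descends along `Q`-covers among `R`-morphisms, so does `P.universally`. -/
lemma universally_of_isPullback {C : Type u} [Category.{v} C] [HasPullbacks C]
    {P Q R : MorphismProperty C} [Q.IsStableUnderBaseChange] [R.IsStableUnderBaseChange]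
    (H : ∀ {A X Y Z : C} {fst : A ⟶ X} {snd : A ⟶ Y} {f : X ⟶ Z} {g : Y ⟶ Z},
      IsPullback fst snd f g → Q f → P fst → R g → P g)
    {A X Y Z : C} {fst : A ⟶ X} {snd : A ⟶ Y} {f : X ⟶ Z} {g : Y ⟶ Z}
    (h : IsPullback fst snd f g) (hf : Q f) (hfst : P.universally fst) (hg : R g) :
    P.universally g := by
  intro YT T i₁ i₂ gT sqT
  let p1 : pullback i₂ f ⟶ T := pullback.fst _ _
  let p2 : pullback i₂ f ⟶ X := pullback.snd _ _
  have sq3 : IsPullback p1 p2 i₂ f := IsPullback.of_hasPullback _ _
  let q1 : pullback gT p1 ⟶ YT := pullback.fst _ _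
  let q2 : pullback gT p1 ⟶ pullback i₂ f := pullback.snd _ _
  have sq4 : IsPullback q1 q2 gT p1 := IsPullback.of_hasPullback _ _
  have big : IsPullback (q1 ≫ i₁) q2 g (p1 ≫ i₂) := sq4.paste_horiz sqT.flip
  have big' : IsPullback (q1 ≫ i₁) q2 g (p2 ≫ f) := by rw [← sq3.w]; exact big
  have left := big'.of_right' h.flip
  have hq2 : P q2 := hfst _ _ _ left.flip
  exact H sq4.flip (Q.of_isPullback sq3.flip hf) hq2 (R.of_isPullback sqT.flip hg)

end Groth.Agent.Lib.Helper12
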