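import Mathlib.AlgebraicGeometry.Morphisms.UniversallyClosed
import Mathlib.AlgebraicGeometry.Morphisms.UniversallyOpen
import Mathlib.AlgebraicGeometry.Morphisms.Proper
import Mathlib.AlgebraicGeometry.Morphisms.Separated
import Mathlib.AlgebraicGeometry.PullbackCarrier
import Mathlib.CategoryTheory.MorphismProperty.Descent
import Groth.Agent.Lib.Helper12UniversallyDescent
import Mathlib.AlgebraicGeometry.Morphisms.Immersion

/-!
Helper library (helper12): descent of topological properties of morphisms of schemes along
(universally) submersive morphisms, i.e. morphisms all of whose base changes are topological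
quotient maps.
-/

set_option autoImplicit false
universe u
open CategoryTheory Limits MorphismProperty AlgebraicGeometry

namespace Groth.Agent.Lib.Helper12.Submersive

/-- universally submersive morphisms (same as `SGA1.UnivSubmersive`). -/
abbrev US : MorphismProperty Scheme.{u} :=
  MorphismProperty.universally (AlgebraicGeometry.topologically fun f => Topology.IsQuotientMap f)

lemma isQuotientMap_of_us {X Y : Scheme.{u}} {f : X ⟶ Y} (hf : US f) :
    Topology.IsQuotientMap f.base :=
  hf _ _ _ IsPullback.of_id_snd

/-- open maps descend along topological quotient covers. -/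
lemma isOpenMap_of_isPullback {A X Y Z : Scheme.{u}} {fst : A ⟶ X} {snd : A ⟶ Y}
    {f : X ⟶ Z} {g : Y ⟶ Z} (h : IsPullback fst snd f g) (hf : Topology.IsQuotientMap f.base)
    (hfst : IsOpenMap fst.base) : IsOpenMap g.base := by
  intro s hs
  rw [← hf.isOpen_preimage, ← Scheme.image_preimage_eq_of_isPullback h.flip]
  exact hfst _ (hs.preimage snd.continuous)

/-- closed maps descend along topological quotient covers. -/
lemma isClosedMap_of_isPullback {A X Y Z : Scheme.{u}} {fst : A ⟶ X} {snd : A ⟶ Y}
    {f : X ⟶ Z} {g : Y ⟶ Z} (h : IsPullback fst snd f g) (hf : Topology.IsQuotientMap f.base)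
    (hfst : IsClosedMap fst.base) : IsClosedMap g.base := by
  intro s hs
  rw [← hf.isClosed_preimage, ← Scheme.image_preimage_eq_of_isPullback h.flip]
  exact hfst _ (hs.preimage snd.continuous)

instance : DescendsAlong (topologically @IsOpenMap) (US.{u}) where
  of_isPullback h hf hfst := isOpenMap_of_isPullback h (isQuotientMap_of_us hf) hfst

instance : DescendsAlong (topologically @IsClosedMap) (US.{u}) where
  of_isPullback h hf hfst := isClosedMap_of_isPullback h (isQuotientMap_of_us hf) hfst

lemma universallyOpen_of_isPullback {A X Y Z : Scheme.{u}} {fst : A ⟶ X} {snd : A ⟶ Y}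
    {f : X ⟶ Z} {g : Y ⟶ Z} (h : IsPullback fst snd f g) (hf : US f)
    (hfst : UniversallyOpen fst) : UniversallyOpen g := by
  rw [universallyOpen_iff] at hfst ⊢
  exact universally_of_isPullback (P := topologically @IsOpenMap) (Q := US) (R := ⊤)
    (fun h hf hfst _ => isOpenMap_of_isPullback h (isQuotientMap_of_us hf) hfst) h hf hfst trivial

lemma universallyClosed_of_isPullback {A X Y Z : Scheme.{u}} {fst : A ⟶ X} {snd : A ⟶ Y}
    {f : X ⟶ Z} {g : Y ⟶ Z} (h : IsPullback fst snd f g) (hf : US f)
    (hfst : UniversallyClosed fst) : UniversallyClosed g := by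
  rw [universallyClosed_iff] at hfst ⊢
  exact universally_of_isPullback (P := topologically @IsClosedMap) (Q := US) (R := ⊤)
    (fun h hf hfst _ => isClosedMap_of_isPullback h (isQuotientMap_of_us hf) hfst) h hf hfst trivial

instance : DescendsAlong @UniversallyOpen (US.{u}) where
  of_isPullback h hf hfst := universallyOpen_of_isPullback h hf hfst

instance : DescendsAlong @UniversallyClosed (US.{u}) where
  of_isPullback h hf hfst := universallyClosed_of_isPullback h hf hfst

instance : (US.{u}).IsStableUnderBaseChange := by
  unfold US; infer_instance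

lemma isSeparated_of_isPullback {A X Y Z : Scheme.{u}} {fst : A ⟶ X} {snd : A ⟶ Y}
    {f : X ⟶ Z} {g : Y ⟶ Z} (h : IsPullback fst snd f g) (hf : US f)
    (hfst : IsSeparated fst) : IsSeparated g := by
  have h1 : (topologically @IsClosedMap).diagonal fst :=
    (pullback.diagonal fst).isClosedEmbedding.isClosedMap
  have h2 : (topologically @IsClosedMap).diagonal g :=
    DescendsAlong.of_isPullback (P := (topologically @IsClosedMap).diagonal) (Q := US) h hf h1
  have h3 : IsClosedMap (pullback.diagonal g).base := h2
  exact ⟨IsClosedImmersion.of_isPreimmersion _ h3.isClosed_range⟩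

lemma quasiCompact_of_isPullback {A X Y Z : Scheme.{u}} {fst : A ⟶ X} {snd : A ⟶ Y}
    {f : X ⟶ Z} {g : Y ⟶ Z} (h : IsPullback fst snd f g) (hf : Surjective f) (hfq : QuasiCompact f)
    (hfst : QuasiCompact fst) : QuasiCompact g := by
  rw [quasiCompact_iff] at hfst hfq ⊢
  intro U hU hUc
  have h1 : IsCompact (f.base ⁻¹' U) := hfq U hU hUc
  have h2 : IsCompact (fst.base ⁻¹' (f.base ⁻¹' U)) := hfst _ (hU.preimage f.continuous) h1
  have h3 : g.base ⁻¹' U = snd.base '' (fst.base ⁻¹' (f.base ⁻¹' U)) := by
    rw [Scheme.image_preimage_eq_of_isPullback h, Set.image_preimage_eq _ hf.surj]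
  rw [h3]
  exact h2.image snd.continuous

lemma isProper_of_isPullback {A X Y Z : Scheme.{u}} {fst : A ⟶ X} {snd : A ⟶ Y}
    {f : X ⟶ Z} {g : Y ⟶ Z} (h : IsPullback fst snd f g) (hf : US f)
    (hg : LocallyOfFiniteType g) (hfst : IsProper fst) : IsProper g := by
  have h1 : IsSeparated g := isSeparated_of_isPullback h hf inferInstance
  have h2 : UniversallyClosed g := universallyClosed_of_isPullback h hf inferInstance
  exact { }

end Groth.Agent.Lib.Helper12.Submersive
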