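import Mathlib
import Groth.Prelude.Def_AlgSpInf
import Groth.Agent.Lib.Helper12OpenSub2
import Groth.Agent.Lib.Helper12InfNbhdUniv
import Groth.Agent.S9874
import Groth.Agent.S10174

set_option autoImplicit false
universe u
open CategoryTheory CategoryTheory.Limits AlgebraicGeometry Opposite TopologicalSpace
open AlgSp

namespace Groth.Agent.Lib.Helper12.ThickTransfer

open Groth.Agent.Lib.Helper12.OpenSub Groth.Agent.Lib.Helper12.InfNbhdUniv

variable {S : Scheme.{u}}

/-- a thickening is a homeomorphism on points. -/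
lemma isHomeomorph_of_thick {X X' : AlgSp.Sp S} (i : X ⟶ X') (hi : AlgSp.IsThickMor i) :
    IsHomeomorph (AlgSp.Points.map i) :=
  ⟨AlgSp.Points.continuous_map i, (thick_points i hi).2, (thick_points i hi).1⟩

lemma mono_of_thick {X X' : AlgSp.Sp S} (i : X ⟶ X') (hi : AlgSp.IsThickMor i) : Mono i :=
  Groth.Agent.S9928.mono_of_repWith AlgSp.thick
    (fun X Y g hg => by haveI : IsClosedImmersion g := hg.1; infer_instance) i hi

lemma isThickMor_id (Z : AlgSp.Sp S) : AlgSp.IsThickMor (𝟙 Z) := by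
  refine ⟨fun T g => ⟨T, 𝟙 T, g, IsPullback.of_vert_isIso ⟨by simp⟩⟩, ?_⟩
  intro T W g fst snd sq
  haveI : IsIso ((AlgSp.yon S).map snd) := sq.isIso_snd_of_isIso
  haveI : IsIso snd := isIso_of_fully_faithful (AlgSp.yon S) snd
  haveI : IsIso snd.left := inferInstanceAs (IsIso ((Over.forget S).map snd))
  exact ⟨inferInstance, inferInstance⟩

/-- a property of morphisms of sheaves is invariant under thickenings. -/
def ThickInv (Q : MorphismProperty (AlgSp.Sp S)) : Prop :=
  ∀ ⦃A A' B B' : AlgSp.Sp S⦄ (a : A ⟶ A') (b : B ⟶ B') (φ : A ⟶ B) (φ' : A' ⟶ B'),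
    AlgSp.IsAlgSpace A → AlgSp.IsAlgSpace A' → AlgSp.IsAlgSpace B → AlgSp.IsAlgSpace B' →
    AlgSp.IsThickMor a → AlgSp.IsThickMor b → a ≫ φ' = φ ≫ b → (Q φ ↔ Q φ')

section

variable {X X' Y Y' : AlgSp.Sp S} (i : X ⟶ X') (j : Y ⟶ Y') (f : X ⟶ Y) (f' : X' ⟶ Y')

/-- **Universal properties invariant under thickenings transfer along morphisms of
thickenings.** -/
theorem univSp_iff (hX : AlgSp.IsAlgSpace X) (hX' : AlgSp.IsAlgSpace X')
    (hY : AlgSp.IsAlgSpace Y) (hY' : AlgSp.IsAlgSpace Y') (hi : AlgSp.IsThickMor i)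
    (hj : AlgSp.IsThickMor j) (w : i ≫ f' = f ≫ j) (Q : MorphismProperty (AlgSp.Sp S))
    (hQ : ThickInv Q) : AlgSp.UnivSp Q f ↔ AlgSp.UnivSp Q f' := by
  haveI : Mono j := mono_of_thick j hj
  constructor
  · intro H Z' P' hZ' g' fst' snd' sq'
    have sqZ := IsPullback.of_hasPullback j g'
    have hZ : AlgSp.IsAlgSpace (pullback j g') :=
      Groth.Agent.S9874.isAlgSpace_of_isPullback hY'.diag hY hZ' sqZ
    have sqP := IsPullback.of_hasPullback f (pullback.fst j g')
    have hP : AlgSp.IsAlgSpace (pullback f (pullback.fst j g')) :=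
      Groth.Agent.S9874.isAlgSpace_of_isPullback hY.diag hX hZ sqP
    have hP' : AlgSp.IsAlgSpace P' :=
      Groth.Agent.S9874.isAlgSpace_of_isPullback hY'.diag hX' hZ' sq'
    have hQP := H hZ (pullback.fst j g') _ _ sqP
    have big := sqP.paste_vert sqZ
    rw [← w] at big
    obtain ⟨a, ha1, ha2⟩ : ∃ a, a ≫ fst' = pullback.fst f (pullback.fst j g') ≫ i ∧
        a ≫ snd' = pullback.snd f (pullback.fst j g') ≫ pullback.snd j g' :=
      ⟨sq'.lift _ _ (by rw [Category.assoc]; exact big.w), sq'.lift_fst _ _ _, sq'.lift_snd _ _ _⟩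
    rw [← ha2] at big
    have sqA : IsPullback (pullback.fst f (pullback.fst j g')) a i fst' :=
      IsPullback.of_bot big ha1.symm sq'
    have hta : AlgSp.IsThickMor a :=
      MorphismProperty.of_isPullback (P := AlgSp.RepWith AlgSp.thick) sqA hi
    have htz : AlgSp.IsThickMor (pullback.snd j g') :=
      MorphismProperty.of_isPullback (P := AlgSp.RepWith AlgSp.thick) sqZ hj
    exact (hQ a (pullback.snd j g') _ snd' hP hP' hZ hZ' hta htz ha2).1 hQP
  · intro H Z P hZ g fst snd sq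
    have sq' := IsPullback.of_hasPullback f' (g ≫ j)
    have hP : AlgSp.IsAlgSpace P := Groth.Agent.S9874.isAlgSpace_of_isPullback hY.diag hX hZ sq
    have hP' : AlgSp.IsAlgSpace (pullback f' (g ≫ j)) :=
      Groth.Agent.S9874.isAlgSpace_of_isPullback hY'.diag hX' hZ sq'
    have hQP := H hZ (g ≫ j) _ _ sq'
    have big := isPullback_comp_mono j sq
    rw [← w] at big
    obtain ⟨a, ha1, ha2⟩ : ∃ a, a ≫ pullback.fst f' (g ≫ j) = fst ≫ i ∧
        a ≫ pullback.snd f' (g ≫ j) = snd :=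
      ⟨sq'.lift _ _ (by rw [Category.assoc]; exact big.w), sq'.lift_fst _ _ _, sq'.lift_snd _ _ _⟩
    rw [← ha2] at big
    have sqA : IsPullback fst a i (pullback.fst f' (g ≫ j)) := IsPullback.of_bot big ha1.symm sq'
    have hta : AlgSp.IsThickMor a :=
      MorphismProperty.of_isPullback (P := AlgSp.RepWith AlgSp.thick) sqA hi
    exact (hQ a (𝟙 Z) snd _ hP hP' hZ hZ hta (isThickMor_id Z)
      (by rw [ha2, Category.comp_id])).2 hQP

end


section Top

variable {A A' B B' : Type*} [TopologicalSpace A] [TopologicalSpace A'] [TopologicalSpace B]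
  [TopologicalSpace B'] {α : A → A'} {β : B → B'} {φ : A → B} {φ' : A' → B'}

lemma isClosedMap_iff_of_homeo (hα : IsHomeomorph α) (hβ : IsHomeomorph β)
    (h : ∀ x, φ' (α x) = β (φ x)) : IsClosedMap φ ↔ IsClosedMap φ' := by
  constructor
  · intro H C' hC'
    have e : φ' '' C' = β '' (φ '' (α ⁻¹' C')) := by
      ext y
      constructor
      · rintro ⟨x', hx', rfl⟩
        obtain ⟨x, rfl⟩ := hα.surjective x'
        exact ⟨φ x, ⟨x, hx', rfl⟩, (h x).symm⟩
      · rintro ⟨_, ⟨x, hx, rfl⟩, rfl⟩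
        exact ⟨α x, hx, h x⟩
    rw [e]
    exact hβ.isClosedMap _ (H _ (hC'.preimage hα.continuous))
  · intro H C hC
    have e : φ '' C = β ⁻¹' (φ' '' (α '' C)) := by
      ext y
      constructor
      · rintro ⟨x, hx, rfl⟩
        exact ⟨α x, ⟨x, hx, rfl⟩, h x⟩
      · rintro ⟨_, ⟨x, hx, rfl⟩, hy⟩
        exact ⟨x, hx, hβ.injective ((h x).symm.trans hy)⟩
    rw [e]
    exact (H _ (hα.isClosedMap _ hC)).preimage hβ.continuous

lemma isOpenMap_iff_of_homeo (hα : IsHomeomorph α) (hβ : IsHomeomorph β)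
    (h : ∀ x, φ' (α x) = β (φ x)) : IsOpenMap φ ↔ IsOpenMap φ' := by
  constructor
  · intro H C' hC'
    have e : φ' '' C' = β '' (φ '' (α ⁻¹' C')) := by
      ext y
      constructor
      · rintro ⟨x', hx', rfl⟩
        obtain ⟨x, rfl⟩ := hα.surjective x'
        exact ⟨φ x, ⟨x, hx', rfl⟩, (h x).symm⟩
      · rintro ⟨_, ⟨x, hx, rfl⟩, rfl⟩
        exact ⟨α x, hx, h x⟩
    rw [e]
    exact hβ.isOpenMap _ (H _ (hC'.preimage hα.continuous))
  · intro H C hC
    have e : φ '' C = β ⁻¹' (φ' '' (α '' C)) := by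
      ext y
      constructor
      · rintro ⟨x, hx, rfl⟩
        exact ⟨α x, ⟨x, hx, rfl⟩, h x⟩
      · rintro ⟨_, ⟨x, hx, rfl⟩, hy⟩
        exact ⟨x, hx, hβ.injective ((h x).symm.trans hy)⟩
    rw [e]
    exact (H _ (hα.isOpenMap _ hC)).preimage hβ.continuous

omit [TopologicalSpace A] [TopologicalSpace A'] [TopologicalSpace B] [TopologicalSpace B'] in
lemma injective_iff_of_bij (hα : Function.Bijective α) (hβ : Function.Bijective β)
    (h : ∀ x, φ' (α x) = β (φ x)) : Function.Injective φ ↔ Function.Injective φ' := by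
  constructor
  · intro H x' y' hxy
    obtain ⟨x, rfl⟩ := hα.surjective x'
    obtain ⟨y, rfl⟩ := hα.surjective y'
    rw [h, h] at hxy
    rw [H (hβ.injective hxy)]
  · intro H x y hxy
    apply hα.injective
    apply H
    rw [h, h, hxy]

omit [TopologicalSpace A] [TopologicalSpace A'] [TopologicalSpace B] [TopologicalSpace B'] in
lemma surjective_iff_of_bij (hα : Function.Bijective α) (hβ : Function.Bijective β)
    (h : ∀ x, φ' (α x) = β (φ x)) : Function.Surjective φ ↔ Function.Surjective φ' := by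
  constructor
  · intro H y'
    obtain ⟨y, rfl⟩ := hβ.surjective y'
    obtain ⟨x, rfl⟩ := H y
    exact ⟨α x, h x⟩
  · intro H y
    obtain ⟨x', hx'⟩ := H (β y)
    obtain ⟨x, rfl⟩ := hα.surjective x'
    exact ⟨x, hβ.injective ((h x).symm.trans hx')⟩

end Top

lemma map_comm {A A' B B' : AlgSp.Sp S} {a : A ⟶ A'} {b : B ⟶ B'} {φ : A ⟶ B} {φ' : A' ⟶ B'}
    (w : a ≫ φ' = φ ≫ b) (x : AlgSp.Points A) :
    AlgSp.Points.map φ' (AlgSp.Points.map a x) = AlgSp.Points.map b (AlgSp.Points.map φ x) := by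
  rw [← AlgSp.Points.map_comp, w, AlgSp.Points.map_comp]

lemma thickInv_closed : ThickInv (S := S) AlgSp.IsClosedMor := by
  intro A A' B B' a b φ φ' _ _ _ _ ha hb w
  exact isClosedMap_iff_of_homeo (isHomeomorph_of_thick a ha) (isHomeomorph_of_thick b hb)
    (map_comm w)

lemma thickInv_open : ThickInv (S := S) AlgSp.IsOpenMor := by
  intro A A' B B' a b φ φ' _ _ _ _ ha hb w
  exact isOpenMap_iff_of_homeo (isHomeomorph_of_thick a ha) (isHomeomorph_of_thick b hb)
    (map_comm w)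

lemma thickInv_injective :
    ThickInv (S := S) (fun _ _ f => Function.Injective (AlgSp.Points.map f)) := by
  intro A A' B B' a b φ φ' _ _ _ _ ha hb w
  exact injective_iff_of_bij (thick_points a ha).1 (thick_points b hb).1 (map_comm w)

/-- quasi-compactness is invariant under thickenings. -/
lemma isQuasiCompactSp_iff_of_thick {A A' : AlgSp.Sp S} (a : A ⟶ A') (hA : AlgSp.IsAlgSpace A)
    (hA' : AlgSp.IsAlgSpace A') (ha : AlgSp.IsThickMor a) :
    AlgSp.IsQuasiCompactSp A ↔ AlgSp.IsQuasiCompactSp A' := by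
  have e := (isHomeomorph_of_thick a ha).homeomorph
  have h1 := Groth.Agent.S10174.result (⟨A, hA⟩ : AlgSp.Space S)
  have h2 := Groth.Agent.S10174.result (⟨A', hA'⟩ : AlgSp.Space S)
  change AlgSp.IsQuasiCompactSp A ↔ _ at h1
  change AlgSp.IsQuasiCompactSp A' ↔ _ at h2
  rw [h1, h2]
  exact ⟨fun _ => e.compactSpace, fun _ => e.symm.compactSpace⟩

lemma thickInv_qc : ThickInv (S := S)
    (fun A B _ => AlgSp.IsQuasiCompactSp B → AlgSp.IsQuasiCompactSp A) := by
  intro A A' B B' a b φ φ' hA hA' hB hB' ha hb w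
  change (AlgSp.IsQuasiCompactSp B → AlgSp.IsQuasiCompactSp A) ↔
    (AlgSp.IsQuasiCompactSp B' → AlgSp.IsQuasiCompactSp A')
  rw [isQuasiCompactSp_iff_of_thick a hA hA' ha, isQuasiCompactSp_iff_of_thick b hB hB' hb]

lemma isQuasiCompactMor_iff_univSp {F G : AlgSp.Sp S} (f : F ⟶ G) :
    AlgSp.IsQuasiCompactMor f ↔
      AlgSp.UnivSp (fun A B _ => AlgSp.IsQuasiCompactSp B → AlgSp.IsQuasiCompactSp A) f :=
  ⟨fun H _ _ hZ g fst snd sq hqc => H hZ hqc g fst snd sq,
    fun H _ _ hZ hqc g fst snd sq => H hZ g fst snd sq hqc⟩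

end Groth.Agent.Lib.Helper12.ThickTransfer
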