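import Mathlib
import Groth.Agent.Lib.Helper12TopDescent
import Groth.Agent.Lib.Helper12LocPGen
import Groth.Agent.Lib.Helper12Flat
import Groth.Agent.Lib.Helper12SrcLocalCov
import Groth.Agent.Lib.Helper12Torsor
import Groth.Agent.Lib.Helper12Proper
import Groth.Agent.S10180
import Groth.Agent.S10288

/-!
# Flat quasi-compact surjective morphisms of algebraic spaces are submersive (helper12)
-/

set_option autoImplicit false
universe u
open CategoryTheory CategoryTheory.Limits AlgebraicGeometry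
open AlgSp

namespace Groth.Agent.Lib.Helper12.TopDescent

open Topology

variable {S : Scheme.{u}}

/-- a jointly surjective family of affine schemes over an algebraic space inducing the final
topology on its space of points. -/
lemma exists_affine_family {Z : AlgSp.Sp S} (hZ : AlgSp.IsAlgSpace Z) :
    ∃ (κ : Type u) (W : κ → Over S) (w : ∀ k, (AlgSp.yon S).obj (W k) ⟶ Z),
      (∀ k, IsAffine (W k).left) ∧
      (∀ x : AlgSp.Points Z, ∃ k t, AlgSp.Points.map (w k) t = x) ∧
      (∀ T : Set (AlgSp.Points Z), (∀ k, IsClosed (AlgSp.Points.map (w k) ⁻¹' T)) → IsClosed T) := by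
  obtain ⟨V, a, hae, has⟩ := hZ.atlas
  let Zo : V.left.affineOpens → Over S := fun V0 => Over.mk (V0.1.ι ≫ V.hom)
  let ιo : ∀ V0 : V.left.affineOpens, Zo V0 ⟶ V := fun V0 => Over.homMk V0.1.ι rfl
  have hZoa : ∀ V0, IsAffine (Zo V0).left := fun V0 => V0.2
  have hpt : ∀ (V0 : V.left.affineOpens) (t : ↥(Zo V0).left),
      AlgSp.Points.map ((AlgSp.yon S).map (ιo V0) ≫ a) (AlgSp.Points.schemeHomeo (Zo V0) t) =
      AlgSp.Points.ofPt a (V0.1.ι t) := by
    intro V0 t
    rw [AlgSp.Points.map_comp, AlgSp.Points.map_yon_map_apply,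
      AlgSp.Points.ofPt_eq_map_ofScheme]
    rfl
  refine ⟨V.left.affineOpens, Zo, fun V0 => (AlgSp.yon S).map (ιo V0) ≫ a, hZoa, ?_, ?_⟩
  · intro x
    obtain ⟨v, rfl⟩ := Groth.Agent.S10177.surjective_ofPt a has x
    obtain ⟨V0s, ⟨V0, hV0, rfl⟩, hv, -⟩ := (V.left.isBasis_affineOpens).exists_subset_of_mem_open
      (Set.mem_univ v) isOpen_univ
    refine ⟨⟨V0, hV0⟩, AlgSp.Points.schemeHomeo _ ⟨v, hv⟩, ?_⟩
    rw [hpt]
    rfl
  · intro T hT
    have hq : IsQuotientMap (AlgSp.Points.ofPt a) :=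
      (Groth.Agent.S10176.isOpenMap_ofPt a hae).isQuotientMap (AlgSp.Points.continuous_ofPt a)
        (Groth.Agent.S10177.surjective_ofPt a has)
    rw [← hq.isClosed_preimage]
    have hcovV : TopologicalSpace.IsOpenCover (fun V0 : V.left.affineOpens => (V0 : V.left.Opens)) :=
      iSup_affineOpens_eq_top V.left
    rw [hcovV.isClosed_iff_coe_preimage]
    intro V0
    have := (hT V0).preimage (AlgSp.Points.schemeHomeo (Zo V0)).continuous
    have h2 : (⇑(AlgSp.Points.schemeHomeo (Zo V0)) ⁻¹'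
        (AlgSp.Points.map ((AlgSp.yon S).map (ιo V0) ≫ a) ⁻¹' T)) =
        (fun t : ↥(Zo V0).left => AlgSp.Points.ofPt a (V0.1.ι t) ∈ T) := by
      ext t
      simp only [Set.mem_preimage]
      rw [hpt]
      rfl
    rw [h2] at this
    exact this

/-- flatness (on étale charts) is stable under base change. -/
lemma locP_flat_baseChange {X Y X' Y' : AlgSp.Sp S} (hX : AlgSp.IsAlgSpace X)
    (hY : AlgSp.IsAlgSpace Y) (hY' : AlgSp.IsAlgSpace Y') {f : X ⟶ Y} {g : Y' ⟶ Y}
    {fst : X' ⟶ X} {f' : X' ⟶ Y'} (sq : IsPullback fst f' f g)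
    (hf : AlgSp.LocP @Flat f) : AlgSp.LocP @Flat f' := by
  haveI : MorphismProperty.DescendsAlong (@Flat : MorphismProperty Scheme.{u})
      (@Surjective ⊓ @Flat ⊓ @QuasiCompact) := Groth.Agent.Lib.Helper12.descendsAlong_flat
  refine Groth.Agent.Lib.Helper12.LocPGen.locP_baseChange @Flat
    (fun g hg => by haveI := hg; infer_instance)
    (fun e k _ _ h => by
      haveI : Flat (e ≫ k) := h
      exact Groth.Agent.Lib.Helper12.flat_of_comp_of_flat_of_surjective e k)
    (fun u k hk h => ?_) hX hY hY' sq hf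
  exact Groth.Agent.Lib.Helper12.SrcLocal.cancel_etale @Flat
    (fun j hj => by haveI := hj; infer_instance) u k hk h

/-- surjectivity on points is stable under base change. -/
lemma isSurjectiveMor_baseChange {X Y X' Y' : AlgSp.Sp S} {f : X ⟶ Y} {g : Y' ⟶ Y}
    {fst : X' ⟶ X} {f' : X' ⟶ Y'} (sq : IsPullback fst f' f g)
    (hf : AlgSp.IsSurjectiveMor f) : AlgSp.IsSurjectiveMor f' := by
  intro y'
  obtain ⟨x, hx⟩ := hf (AlgSp.Points.map g y')
  obtain ⟨p, hp1, hp2⟩ := Groth.Agent.S10175.exists_point_of_isPullback sq.flip y' x hx.symm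
  exact ⟨p, hp1⟩

/-- a flat, quasi-compact, surjective morphism to an affine scheme is submersive. -/
lemma isQuotientMap_of_affine_target {X : AlgSp.Sp S} (hX : AlgSp.IsAlgSpace X) {W : Over S}
    (hW : IsAffine W.left) (f : X ⟶ (AlgSp.yon S).obj W) (hfl : AlgSp.LocP @Flat f)
    (hqc : AlgSp.IsQuasiCompactMor f) (hs : AlgSp.IsSurjectiveMor f) :
    IsQuotientMap (AlgSp.Points.map f) := by
  have hXqc : AlgSp.IsQuasiCompactSp X :=
    hqc (AlgSp.IsAlgSpace.yon_obj W)
      ⟨W, 𝟙 _, AlgSp.repWith_id _ W, AlgSp.repWith_id _ W, inferInstance⟩ (𝟙 _) (𝟙 X) f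
      (IsPullback.of_id_fst)
  obtain ⟨U, p, hU, hpe, hps⟩ := Groth.Agent.S10180.exists_affine_chart hXqc
  obtain ⟨h, hh⟩ := (AlgSp.yon S).map_surjective (p ≫ f)
  haveI : Flat h.left :=
    hfl p (𝟙 _) h hpe (AlgSp.repWith_id _ W) (by rw [hh, Category.comp_id])
  haveI : Surjective h.left := by
    refine ⟨fun w => ?_⟩
    obtain ⟨x, hx⟩ := hs (AlgSp.Points.schemeHomeo W w)
    obtain ⟨t, rfl⟩ := Groth.Agent.S10177.surjective_ofPt p hps x
    refine ⟨t, ?_⟩
    apply (AlgSp.Points.schemeHomeo W).injective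
    rw [← Groth.Agent.S10288.ofPt_yon_map, hh, ← AlgSp.Points.map_ofPt]
    exact hx
  haveI : QuasiCompact h.left := inferInstance
  have hq : IsQuotientMap (⇑h.left) := Flat.isQuotientMap_of_surjective h.left
  have hcomp : AlgSp.Points.map f ∘ AlgSp.Points.ofPt p = AlgSp.Points.schemeHomeo W ∘ ⇑h.left := by
    funext t
    simp only [Function.comp_apply]
    rw [AlgSp.Points.map_ofPt, ← hh, Groth.Agent.S10288.ofPt_yon_map]
  refine IsQuotientMap.of_comp (AlgSp.Points.continuous_ofPt p) (AlgSp.Points.continuous_map f) ?_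
  rw [hcomp]
  exact (AlgSp.Points.schemeHomeo W).isQuotientMap.comp hq

/-- a flat, quasi-compact, surjective morphism of algebraic spaces is submersive. -/
theorem isQuotientMap_of_flat_qc_surjective {X Y : AlgSp.Sp S} (hX : AlgSp.IsAlgSpace X)
    (hY : AlgSp.IsAlgSpace Y) (f : X ⟶ Y) (hfl : AlgSp.LocP @Flat f)
    (hqc : AlgSp.IsQuasiCompactMor f) (hs : AlgSp.IsSurjectiveMor f) :
    IsQuotientMap (AlgSp.Points.map f) := by
  obtain ⟨κ, W, w, hWa, hsurj, hfinal⟩ := exists_affine_family hY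
  refine (data_of_family f (fun k => (AlgSp.yon S).obj (W k)) w hsurj hfinal).isQuotientMap
    (AlgSp.Points.continuous_map f) (fun k => ?_)
  have sqk := IsPullback.of_hasPullback f (w k)
  have hXk : AlgSp.IsAlgSpace (pullback f (w k)) :=
    Groth.Agent.S9874.isAlgSpace_of_isPullback hY.diag hX (AlgSp.IsAlgSpace.yon_obj (W k)) sqk
  exact isQuotientMap_of_affine_target hXk (hWa k) _
    (locP_flat_baseChange hX hY (AlgSp.IsAlgSpace.yon_obj (W k)) sqk hfl)
    (Groth.Agent.Lib.Helper12.Proper.isQuasiCompactMor_baseChange sqk hqc)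
    (isSurjectiveMor_baseChange sqk hs)

end Groth.Agent.Lib.Helper12.TopDescent
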