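import Mathlib
import Groth.Prelude.Def_NonAbH2
import Groth.Prelude.Def_ActBC
import Groth.Agent.Lib.Helper12Torsor

/-!
Helper library (helper12): fpqc descent for torsors (being a torsor descends along an fpqc base
change) and morphisms having sections locally for the fpqc topology are "effective epimorphisms".
-/

set_option autoImplicit false
set_option linter.style.haveILetI false
universe u

open CategoryTheory MonoidalCategory CartesianMonoidalCategory MonObj AlgebraicGeometry Limits

namespace Groth.Agent.Lib.Helper12.TorsorDescent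

variable {S S' : Scheme.{u}} (f : S' ⟶ S)

/-- the square relating a morphism of `S`-schemes and its base change. -/
lemma isPullback_pullback_map {A B : Over S} (φ : A ⟶ B) :
    IsPullback ((Over.pullback f).map φ).left (pullback.fst A.hom f) (pullback.fst B.hom f)
      φ.left := by
  have h1 : IsPullback (pullback.fst A.hom f) (pullback.snd A.hom f) A.hom f :=
    .of_hasPullback _ _
  have h2 : IsPullback (pullback.fst B.hom f) (pullback.snd B.hom f) B.hom f :=
    .of_hasPullback _ _
  have e1 : ((Over.pullback f).map φ).left ≫ pullback.snd B.hom f = pullback.snd A.hom f := by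
    simp only [Over.pullback_map_left]
    exact pullback.lift_snd _ _ _
  have e2 : ((Over.pullback f).map φ).left ≫ pullback.fst B.hom f =
      pullback.fst A.hom f ≫ φ.left := by
    simp only [Over.pullback_map_left]
    exact pullback.lift_fst _ _ _
  have h3 : IsPullback (pullback.fst A.hom f)
      (((Over.pullback f).map φ).left ≫ pullback.snd B.hom f) (φ.left ≫ B.hom) f := by
    rw [e1, Over.w φ]; exact h1
  exact (IsPullback.of_bot h3 e2.symm h2).flip

/-- isomorphisms of `S`-schemes descend along fpqc base change. -/
lemma isIso_of_isIso_pullback_map [Flat f] [Surjective f] [QuasiCompact f] {A B : Over S}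
    (φ : A ⟶ B) (h : IsIso ((Over.pullback f).map φ)) : IsIso φ := by
  have h1 : IsIso ((Over.pullback f).map φ).left :=
    inferInstanceAs (IsIso ((Over.forget S').map ((Over.pullback f).map φ)))
  have h2 : IsIso φ.left := by
    have := MorphismProperty.of_isPullback_of_descendsAlong
      (P := MorphismProperty.isomorphisms Scheme.{u})
      (Q := (@Surjective ⊓ @Flat ⊓ @QuasiCompact : MorphismProperty Scheme.{u}))
      (isPullback_pullback_map f φ) ⟨⟨inferInstance, inferInstance⟩, inferInstance⟩ h1
    exact this
  haveI : IsIso ((Over.forget S).map φ) := h2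
  exact isIso_of_reflects_iso φ (Over.forget S)

variable {G X : Over S} [GrpObj G]

/-- being a pseudo-torsor descends along an fpqc base change. -/
lemma isPseudoTorsorSch_of_bc [Flat f] [Surjective f] [QuasiCompact f] (a : AlgGrp.Action G X)
    (h : NonAbH1.IsPseudoTorsorSch (a.bc f)) : NonAbH1.IsPseudoTorsorSch a := by
  have key : lift (a.bc f).act (snd _ _) ≫ Functor.LaxMonoidal.μ (Over.pullback f) X X =
      Functor.LaxMonoidal.μ (Over.pullback f) G X ≫ (Over.pullback f).map (lift a.act (snd G X)) := by
    rw [← Functor.Monoidal.lift_μ, comp_lift_assoc, Functor.Monoidal.μ_snd, AlgGrp.Action.bc_act]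
  have h0 : IsIso (lift (a.bc f).act (snd (Red.bc f G) (Red.bc f X))) := h
  have h1 : IsIso ((Over.pullback f).map (lift a.act (snd G X))) := by
    have h2 : (Over.pullback f).map (lift a.act (snd G X)) =
        inv (Functor.LaxMonoidal.μ (Over.pullback f) G X) ≫
          lift (a.bc f).act (snd _ _) ≫ Functor.LaxMonoidal.μ (Over.pullback f) X X := by
      rw [key, IsIso.inv_hom_id_assoc]
    rw [h2]
    infer_instance
  exact isIso_of_isIso_pullback_map f _ h1

/-- local triviality for the fpqc topology descends along an fpqc base change. -/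
lemma isLocallyTrivialFor_of_bc [Flat f] [Surjective f] [QuasiCompact f] (X : Over S)
    (h : NonAbH1.IsLocallyTrivialFor Scheme.fpqcPrecoverage (Red.bc f X)) :
    NonAbH1.IsLocallyTrivialFor Scheme.fpqcPrecoverage X := by
  obtain ⟨R, hR, hsec⟩ := h
  obtain ⟨I, Z, g, rfl⟩ := Presieve.exists_eq_ofArrows R
  have hf : Presieve.ofArrows (fun _ : PUnit.{u + 1} => S') (fun _ => f) ∈
      Scheme.fpqcPrecoverage S := by
    rw [Presieve.ofArrows_pUnit]
    exact Scheme.Hom.singleton_mem_fpqcPrecoverage f
  have := Precoverage.comp_mem_coverings (J := Scheme.fpqcPrecoverage.{u})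
    (f := fun _ : PUnit.{u + 1} => f) hf (σ := fun _ => I) (Y := fun _ i => Z i)
    (g := fun _ i => g i) (fun _ => hR)
  refine ⟨_, this, ?_⟩
  rintro T _ ⟨p⟩
  obtain ⟨s, hs⟩ := hsec (g p.2) ⟨p.2⟩
  refine ⟨s ≫ pullback.fst X.hom f, ?_⟩
  rw [Category.assoc, pullback.condition, ← Category.assoc]
  congr 1

/-- being a torsor for the fpqc topology descends along an fpqc base change. -/
theorem isTorsorFor_of_bc [Flat f] [Surjective f] [QuasiCompact f] (a : AlgGrp.Action G X)
    (h : NonAbH1.IsTorsorFor Scheme.fpqcPrecoverage (a.bc f)) :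
    NonAbH1.IsTorsorFor Scheme.fpqcPrecoverage a :=
  ⟨isPseudoTorsorSch_of_bc f a h.1, isLocallyTrivialFor_of_bc f X h.2⟩

end Groth.Agent.Lib.Helper12.TorsorDescent
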