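import Mathlib
import Groth.Prelude.Def_NonAbH2
import Groth.Prelude.Def_ActBC
import Groth.Agent.Lib.Helper12Torsor
import Groth.Agent.Lib.Helper12TorsorDescent

/-!
Helper library (helper12): isomorphisms of `S`-schemes can be checked on an fpqc covering family
of `S`; trivialisations of pseudo-torsors.
-/

set_option autoImplicit false
set_option linter.style.haveILetI false
universe u

open CategoryTheory MonoidalCategory CartesianMonoidalCategory MonObj AlgebraicGeometry Limits

namespace Groth.Agent.Lib.Helper12.TorsorDescent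

variable {S : Scheme.{u}}

/-- the underlying morphism of the base change of `φ` along `f` is that of `φ ▷ Over.mk f`. -/
lemma pullback_map_left_eq_whiskerRight_left {S' : Scheme.{u}} (f : S' ⟶ S) {A B : Over S}
    (φ : A ⟶ B) : ((Over.pullback f).map φ).left = (φ ▷ Over.mk f).left := by
  apply pullback.hom_ext
  · simp only [Over.pullback_map_left]
    rw [pullback.lift_fst]
    exact (Over.whiskerRight_left_fst (R := Over.mk f) φ).symm
  · simp only [Over.pullback_map_left]
    rw [pullback.lift_snd]
    exact (Over.whiskerRight_left_snd (R := Over.mk f) φ).symm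

/-- an isomorphism of `S`-schemes can be detected on the members of an fpqc covering of `S`. -/
theorem isIso_of_forall_isIso_whiskerRight {A B : Over S} (φ : A ⟶ B) (R : Presieve S)
    (hR : R ∈ Scheme.fpqcPrecoverage S)
    (h : ∀ ⦃S' : Scheme.{u}⦄ (f : S' ⟶ S), R f → IsIso (φ ▷ Over.mk f)) : IsIso φ := by
  have hR' : R.pullbackArrows B.hom ∈ Scheme.fpqcPrecoverage B.left :=
    Precoverage.pullbackArrows_mem B.hom hR
  have h2 : IsIso φ.left := by
    refine Groth.Agent.Lib.Helper12.of_mem_fpqcPrecoverage
      (P := MorphismProperty.isomorphisms Scheme.{u}) inferInstance φ.left _ hR' ?_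
    rintro Y' _ ⟨Z, k, hk⟩
    have hk' := h k hk
    have h1 : IsIso (φ ▷ Over.mk k).left :=
      inferInstanceAs (IsIso ((Over.forget S).map (φ ▷ Over.mk k)))
    rw [← pullback_map_left_eq_whiskerRight_left] at h1
    have sq := isPullback_pullback_map k φ
    -- transport along the symmetry
    have sq' : IsPullback (((Over.pullback k).map φ).left ≫ (pullbackSymmetry B.hom k).hom)
        (pullback.fst A.hom k) (pullback.snd k B.hom) φ.left := by
      refine IsPullback.of_iso sq (Iso.refl _) (pullbackSymmetry B.hom k) (Iso.refl _) (Iso.refl _)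
        (by simp) (by simp) (by simp) (by simp)
    have h3 : pullback.snd φ.left (pullback.snd k B.hom) =
        sq'.flip.isoPullback.inv ≫
          (((Over.pullback k).map φ).left ≫ (pullbackSymmetry B.hom k).hom) := by
      rw [Iso.eq_inv_comp]
      exact sq'.flip.isoPullback_hom_snd
    change IsIso (pullback.snd φ.left (pullback.snd k B.hom))
    rw [h3]
    infer_instance
  haveI : IsIso ((Over.forget S).map φ) := h2
  exact isIso_of_reflects_iso φ (Over.forget S)

variable {G X : Over S} [GrpObj G] (a : AlgGrp.Action G X)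

/-- a section `s : T ⟶ X` of a pseudo-torsor trivialises it over `T`. -/
theorem isIso_lift_of_section (h : NonAbH1.IsPseudoTorsorSch a) {T : Over S} (s : T ⟶ X) :
    IsIso (lift ((G ◁ s) ≫ a.act) (snd G T)) := by
  haveI : IsIso (lift a.act (snd G X)) := h
  set Φ := lift a.act (snd G X) with hΦ
  have hΦ1 : Φ ≫ fst X X = a.act := by simp [Φ]
  have hΦ2 : Φ ≫ snd X X = snd G X := by simp [Φ]
  have h2 : inv Φ ≫ snd G X = snd X X := by rw [IsIso.inv_comp_eq, hΦ2]
  have h3 : inv Φ ≫ a.act = fst X X := by rw [IsIso.inv_comp_eq, hΦ1]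
  let φ : G ⊗ T ⟶ X ⊗ T := lift ((G ◁ s) ≫ a.act) (snd G T)
  let ψ : X ⊗ T ⟶ G ⊗ T := lift ((X ◁ s) ≫ inv Φ ≫ fst G X) (snd X T)
  have key1 : φ ≫ (X ◁ s) = (G ◁ s) ≫ Φ := by
    apply CartesianMonoidalCategory.hom_ext
    · simp [φ, hΦ1]
    · simp [φ, hΦ2]
  have key2 : ψ ≫ (G ◁ s) = (X ◁ s) ≫ inv Φ := by
    apply CartesianMonoidalCategory.hom_ext
    · simp [ψ]
    · simp [ψ, h2]
  refine ⟨ψ, ?_, ?_⟩
  · apply CartesianMonoidalCategory.hom_ext
    · simp only [ψ, Category.assoc, lift_fst, Category.id_comp]
      rw [reassoc_of% key1]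
      simp
    · simp [φ, ψ]
  · apply CartesianMonoidalCategory.hom_ext
    · simp only [φ, Category.assoc, lift_fst, Category.id_comp]
      rw [reassoc_of% key2, h3]
      simp
    · simp [φ, ψ]

end Groth.Agent.Lib.Helper12.TorsorDescent
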