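import Mathlib
import Groth.Prelude.Def_AlgSpInf
import Groth.Agent.Lib.Helper12EtaleNbhdLift
import Groth.Agent.Lib.Helper12EtaleLift3
import Groth.Agent.S10177

set_option autoImplicit false
universe u
open CategoryTheory CategoryTheory.Limits AlgebraicGeometry Opposite
open AlgSp

namespace Groth.Agent.Lib.Helper12.UnivThickDescent

open Groth.Agent.Lib.Helper12.EtaleLift Groth.Agent.Lib.Helper12.SqZeroBC
open Groth.Agent.Lib.Helper12.InfGlue Groth.Agent.Lib.Helper12.InfGlue2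
open Groth.Agent.Lib.Helper12.InfGlue3 Groth.Agent.Lib.Helper12.EtaleLift2
open Groth.Agent.Lib.Helper12.EtaleNbhdLift Groth.Agent.Lib.Helper12.OpenCoverSp
open Groth.Agent.Lib.Helper15

variable {S : Scheme.{u}}

/-- **Lifting etale neighbourhoods along a square-zero closed immersion into an affine scheme**
(over `S`). -/
theorem exists_lift_etale_nbhd_over {V W W₀ : Over S} [IsAffine V.left] (i : W ⟶ V)
    [IsClosedImmersion i.left] (hk : i.left.ker * i.left.ker = ⊥) (p₀ : W₀ ⟶ W) [Etale p₀.left]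
    (w : ↥W₀.left) :
    ∃ (V₁ V₀ : Over S) (c : V₁ ⟶ V) (i₀ : V₀ ⟶ V₁) (r : V₀ ⟶ W₀),
      IsAffine V₁.left ∧ Etale c.left ∧ IsPullback i₀ (r ≫ p₀) c i ∧ w ∈ Set.range r.left := by
  have hI := kerI_sq i hk
  haveI : Etale (p₀.left ≫ (eW0 i).inv) := inferInstance
  obtain ⟨V', V₀', c', i₀', r', hV', hc', hpb, hw⟩ :=
    exists_lift_etale_nbhd (kerI i) hI (p₀.left ≫ (eW0 i).inv) w
  have t : IsPullback (Spec.map (CommRingCat.ofHom (Ideal.Quotient.mk (kerI i)))) (eW0 i).hom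
      V.left.isoSpec.inv i.left := IsPullback.of_vert_isIso ⟨(eW0_hom_comp i).symm⟩
  have hpb' := hpb.paste_vert t
  have e : (r' ≫ p₀.left ≫ (eW0 i).inv) ≫ (eW0 i).hom = r' ≫ p₀.left := by
    simp only [Category.assoc, Iso.inv_hom_id, Category.comp_id]
  rw [e] at hpb'
  let V₁ : Over S := Over.mk ((c' ≫ V.left.isoSpec.inv) ≫ V.hom)
  let V₀ : Over S := Over.mk (i₀' ≫ (c' ≫ V.left.isoSpec.inv) ≫ V.hom)
  let c : V₁ ⟶ V := Over.homMk (c' ≫ V.left.isoSpec.inv) rfl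
  let i₀ : V₀ ⟶ V₁ := Over.homMk i₀' rfl
  have hr : r' ≫ W₀.hom = i₀' ≫ (c' ≫ V.left.isoSpec.inv) ≫ V.hom := by
    have h1 := Over.w p₀
    have h2 := Over.w i
    rw [← h1, ← h2, ← Category.assoc r', ← Category.assoc (r' ≫ p₀.left), ← hpb'.w, Category.assoc]
  let r : V₀ ⟶ W₀ := Over.homMk r' hr
  have hcomm : i₀ ≫ c = (r ≫ p₀) ≫ i := by
    ext
    exact hpb'.w
  refine ⟨V₁, V₀, c, i₀, r, hV', ?_, IsPullback.of_map (Over.forget S) hcomm hpb', hw⟩
  change Etale (c' ≫ V.left.isoSpec.inv)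
  infer_instance

/-- two maps out of a representable sheaf agree as soon as they agree on a jointly surjective family
of etale scheme charts. -/
lemma yon_hom_ext_of_etaleCover {F : AlgSp.Sp S} {T : Over S} (φ φ' : (AlgSp.yon S).obj T ⟶ F)
    {ι : Type u} (V : ι → Over S) (c : ∀ i, V i ⟶ T) [∀ i, Etale (c i).left]
    (hc : ∀ x : T.left, ∃ i, x ∈ Set.range (c i).left)
    (h : ∀ i, (AlgSp.yon S).map (c i) ≫ φ = (AlgSp.yon S).map (c i) ≫ φ') : φ = φ' := by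
  let q : sigmaOver V ⟶ T :=
    Over.homMk (Sigma.desc (fun i => ((c i).left : (V i).left ⟶ T.left)))
      (Sigma.hom_ext _ _ (fun i => by
        simp only [sigmaOver, Over.mk_hom, colimit.ι_desc_assoc, colimit.ι_desc,
          Discrete.functor_obj_eq_as, Cofan.mk_pt, Cofan.mk_ι_app]
        exact Over.w (c i)))
  have hq : ∀ i, sigmaι V i ≫ q = c i := by
    intro i
    ext
    simp only [Over.comp_left, q, sigmaι, Over.homMk_left]
    exact Sigma.ι_desc _ _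
  haveI : Etale q.left := by
    change Etale (Sigma.desc _)
    exact IsZariskiLocalAtSource.sigmaDesc (P := @Etale) (fun i => (inferInstance : Etale (c i).left))
  haveI : Surjective q.left := by
    constructor
    intro x
    obtain ⟨i, y, hy⟩ := hc x
    refine ⟨(sigmaι V i).left y, ?_⟩
    have := congrArg (fun m => m.left) (hq i)
    simp only [Over.comp_left] at this
    calc q.left ((sigmaι V i).left y) = ((sigmaι V i).left ≫ q.left) y := rfl
      _ = (c i).left y := by rw [this]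
      _ = x := hy
  haveI : Epi ((AlgSp.yon S).map q) := epi_of_atlas _
    ((AlgSp.repWith_yon_map_iff _ _).2 (inferInstance : Etale q.left))
    ((AlgSp.repWith_yon_map_iff _ _).2 (inferInstance : Surjective q.left))
  rw [← cancel_epi ((AlgSp.yon S).map q)]
  apply sigma_hom_ext V
  intro i
  rw [← Functor.map_comp_assoc, ← Functor.map_comp_assoc, hq i]
  exact h i

section Main

variable {Z Y Z' Y' X : AlgSp.Sp S} (e : Z ⟶ Y) (hY : Y ⟶ X) (iZ : Z ⟶ Z') (iY : Y ⟶ Y')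
  (f' : Z' ⟶ Y') (hY' : Y' ⟶ X)

include e in
/-- etale-local lifts of a map to `Y` through the etale surjective `e : Z ⟶ Y`, compatible with a
square-zero closed immersion into an affine scheme. -/
theorem exists_nbhd (hZ : AlgSp.IsAlgSpace Z) (he : AlgSp.IsEtaleMor e)
    (hes : AlgSp.IsSurjectiveMor e) {V W : Over S} [IsAffine V.left] (i : W ⟶ V)
    [IsClosedImmersion i.left] (hk : i.left.ker * i.left.ker = ⊥)
    (aW : (AlgSp.yon S).obj W ⟶ Y) (v : ↥V.left) :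
    ∃ (V₁ V₀ : Over S) (c : V₁ ⟶ V) (i₀ : V₀ ⟶ V₁) (s : V₀ ⟶ W) (z : (AlgSp.yon S).obj V₀ ⟶ Z),
      IsAffine V₁.left ∧ Etale c.left ∧ IsPullback i₀ s c i ∧ (∃ v₁ : ↥V₁.left, c.left v₁ = v) ∧
        z ≫ e = (AlgSp.yon S).map s ≫ aW ∧ IsClosedImmersion i₀.left ∧
        i₀.left.ker * i₀.left.ker = ⊥ := by
  have hnil : IsNilpotent i.left.ker := ⟨2, by rw [pow_two]; exact hk⟩
  obtain ⟨w₁, rfl⟩ := surjective_of_isNilpotent_ker i.left hnil v
  obtain ⟨U, φ, hφ, hφs⟩ := hZ.atlas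
  have ha₀ : AlgSp.RepWith @Etale (φ ≫ e) := he φ hφ
  have ha₀s : AlgSp.RepWith @Surjective (φ ≫ e) := by
    apply repWith_surjective_of_points _ ha₀.1
    intro y
    obtain ⟨x, rfl⟩ := hes y
    obtain ⟨u, rfl⟩ := Groth.Agent.S10177.surjective_ofPt φ hφs x
    exact ⟨u, (AlgSp.Points.map_ofPt φ e u).symm⟩
  obtain ⟨W₀, p₀, x₀, hW₀⟩ := ha₀.1 aW
  haveI : Etale p₀.left := ha₀.2 aW x₀ p₀ hW₀
  haveI : Surjective p₀.left := ha₀s.2 aW x₀ p₀ hW₀
  obtain ⟨w, hw⟩ := p₀.left.surjective w₁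
  obtain ⟨V₁, V₀, c, i₀, r, hV₁, hc, hpb, ⟨v₀, hv₀⟩⟩ := exists_lift_etale_nbhd_over i hk p₀ w
  have hpbL : IsPullback i₀.left (r ≫ p₀).left c.left i.left := hpb.map (Over.forget S)
  haveI : IsAffine V₁.left := hV₁
  haveI hci : IsClosedImmersion i₀.left :=
    MorphismProperty.of_isPullback (P := @IsClosedImmersion) hpbL.flip
      (inferInstance : IsClosedImmersion i.left)
  refine ⟨V₁, V₀, c, i₀, r ≫ p₀, (AlgSp.yon S).map r ≫ x₀ ≫ φ, hV₁, hc, hpb, ⟨i₀.left v₀, ?_⟩, ?_,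
    hci, sqZero_of_isPullback c.left i.left i₀.left (r ≫ p₀).left hpbL hk⟩
  · change (i₀.left ≫ c.left) v₀ = _
    rw [hpbL.w, Scheme.Hom.comp_apply, Over.comp_left, Scheme.Hom.comp_apply, hv₀, hw]
  · rw [Category.assoc, Category.assoc, hW₀.w, Functor.map_comp, Category.assoc]


variable {e hY iZ iY f' hY'}

/-- the data of the theorem: an etale morphism `(Z ⊂ Z') ⟶ (Y ⊂ Y')` of thickenings over `X` with
`Z ⟶ Y` surjective and `(Z ⊂ Z')` universal. -/
structure Data (e : Z ⟶ Y) (hY : Y ⟶ X) (iZ : Z ⟶ Z') (iY : Y ⟶ Y') (f' : Z' ⟶ Y')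
    (hY' : Y' ⟶ X) : Prop where
  hZ : AlgSp.IsAlgSpace Z
  hZ' : AlgSp.IsAlgSpace Z'
  he : AlgSp.IsEtaleMor e
  hes : AlgSp.IsSurjectiveMor e
  hf' : AlgSp.IsEtaleMor f'
  w : iZ ≫ f' = e ≫ iY
  w' : iY ≫ hY' = hY
  HU : AlgSp.IsUnivFOThick (e ≫ hY) iZ (f' ≫ hY')

/-- uniqueness of lifts to `Y'` along square-zero closed immersions into affine schemes. -/
theorem uniq_lift (D : Data e hY iZ iY f' hY') {V W : Over S} [IsAffine V.left] (i : W ⟶ V)
    [IsClosedImmersion i.left] (hk : i.left.ker * i.left.ker = ⊥)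
    (aW : (AlgSp.yon S).obj W ⟶ Y) (l l' : (AlgSp.yon S).obj V ⟶ Y')
    (h1 : (AlgSp.yon S).map i ≫ l = aW ≫ iY) (h1' : (AlgSp.yon S).map i ≫ l' = aW ≫ iY)
    (h2 : l ≫ hY' = l' ≫ hY') : l = l' := by
  have hfE := (isFormallyEtaleMor_iff f').1
    (Groth.Agent.Lib.Helper12.EtaleLift3.isFormallyEtaleMor_of_isEtaleMor D.hZ' f' D.hf')
  choose V₁ V₀ c i₀ s z hV₁ hc hpb hv hz hci hk₀ using
    fun v : ↥V.left => exists_nbhd e D.hZ D.he D.hes i hk aW v
  haveI : ∀ v, Etale (c v).left := hc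
  apply yon_hom_ext_of_etaleCover l l' V₁ c (fun x => ⟨x, hv x⟩)
  intro v
  haveI : IsAffine (V₁ v).left := hV₁ v
  haveI : IsClosedImmersion (i₀ v).left := hci v
  have hcomm : i₀ v ≫ c v = s v ≫ i := (hpb v).w
  -- the two lifting problems for `f'`
  have key : ∀ m : (AlgSp.yon S).obj V ⟶ Y', (AlgSp.yon S).map i ≫ m = aW ≫ iY →
      (z v ≫ iZ) ≫ f' = (AlgSp.yon S).map (i₀ v) ≫ ((AlgSp.yon S).map (c v) ≫ m) := by
    intro m hm
    rw [Category.assoc, D.w, ← Category.assoc, hz v, Category.assoc, ← hm,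
      ← Functor.map_comp_assoc, ← Functor.map_comp_assoc, hcomm]
  obtain ⟨d, hd1, hd2⟩ := exists_lift_of_affine (i₀ v) f' hfE.1 (hk₀ v) _ _ (key l h1)
  obtain ⟨d', hd1', hd2'⟩ := exists_lift_of_affine (i₀ v) f' hfE.1 (hk₀ v) _ _ (key l' h1')
  have hFO : AlgSp.IsFOThickMor ((AlgSp.yon S).map (i₀ v)) := isFOThickMor_yon_map (i₀ v) (hk₀ v)
  have hw : (AlgSp.yon S).map (i₀ v) ≫ (((AlgSp.yon S).map (c v) ≫ l) ≫ hY') =
      z v ≫ (e ≫ hY) := by
    rw [← hd2, Category.assoc, ← Category.assoc, hd1, Category.assoc, ← Category.assoc iZ, D.w,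
      Category.assoc, D.w']
  have huniq := (D.HU.2.2 (AlgSp.IsAlgSpace.yon_obj (V₀ v)) (AlgSp.IsAlgSpace.yon_obj (V₁ v))
    ((AlgSp.yon S).map (i₀ v)) (z v) (((AlgSp.yon S).map (c v) ≫ l) ≫ hY') hFO hw).unique
    (y₁ := d) (y₂ := d') ⟨hd1, by rw [← Category.assoc, hd2]⟩
    ⟨hd1', by rw [← Category.assoc, hd2', Category.assoc, Category.assoc, h2]⟩
  rw [← hd2, ← hd2', huniq]

/-- etale-local existence of lifts to `Y'`. -/
theorem exists_local_lift_univ (D : Data e hY iZ iY f' hY') {T T' : Over S} [IsAffine T'.left]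
    (j : T ⟶ T') [IsClosedImmersion j.left] (hk : j.left.ker * j.left.ker = ⊥)
    (a : (AlgSp.yon S).obj T ⟶ Y) (b : (AlgSp.yon S).obj T' ⟶ X)
    (comm : (AlgSp.yon S).map j ≫ b = a ≫ hY) (t : ↥T'.left) :
    ∃ (V : Over S) (c : V ⟶ T') (l : (AlgSp.yon S).obj V ⟶ Y'),
      IsAffine V.left ∧ Etale c.left ∧ (∃ v : ↥V.left, c.left v = t) ∧
        IsLocLift ((AlgSp.yon S).map j) hY' (a ≫ iY) b ((AlgSp.yon S).map c) l := by
  obtain ⟨V₁, V₀, c, i₀, s, z, hV₁, hc, hpb, hv, hz, hci, hk₀⟩ :=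
    exists_nbhd e D.hZ D.he D.hes j hk a t
  haveI : IsAffine V₁.left := hV₁
  haveI : IsClosedImmersion i₀.left := hci
  have hcomm : i₀ ≫ c = s ≫ j := hpb.w
  have hFO : AlgSp.IsFOThickMor ((AlgSp.yon S).map i₀) := isFOThickMor_yon_map i₀ hk₀
  have hw : (AlgSp.yon S).map i₀ ≫ ((AlgSp.yon S).map c ≫ b) = z ≫ (e ≫ hY) := by
    rw [← Functor.map_comp_assoc, hcomm, Functor.map_comp_assoc, comm, ← Category.assoc,
      ← hz, Category.assoc]
  obtain ⟨a', ⟨ha1, ha2⟩, -⟩ := D.HU.2.2 (AlgSp.IsAlgSpace.yon_obj V₀)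
    (AlgSp.IsAlgSpace.yon_obj V₁) ((AlgSp.yon S).map i₀) z ((AlgSp.yon S).map c ≫ b) hFO hw
  refine ⟨V₁, c, a' ≫ f', hV₁, hc, hv, ?_⟩
  rw [isLocLift_iff_of_isPullback ((AlgSp.yon S).map c) ((AlgSp.yon S).map s) i₀
    (hpb.map (AlgSp.yon S)).flip]
  refine ⟨?_, ?_⟩
  · rw [← Category.assoc, ha1, Category.assoc, D.w, ← Category.assoc, hz, Category.assoc]
  · rw [Category.assoc]
    exact ha2

/-- **Universal first order thickenings descend along etale coverings** (affine test form). -/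
theorem existsUnique_lift (D : Data e hY iZ iY f' hY') (T T' : Over S) (j : T ⟶ T')
    (hT' : IsAffine T'.left) (hj : AlgSp.IsFOThickMor ((AlgSp.yon S).map j))
    (a : (AlgSp.yon S).obj T ⟶ Y) (b : (AlgSp.yon S).obj T' ⟶ X)
    (comm : (AlgSp.yon S).map j ≫ b = a ≫ hY) :
    ∃! a' : (AlgSp.yon S).obj T' ⟶ Y', (AlgSp.yon S).map j ≫ a' = a ≫ iY ∧ a' ≫ hY' = b := by
  haveI := hT'
  have hFO := AlgSp.isFirstOrderThickening_of_isFOThickMor_yon_map hT' hj
  haveI : IsClosedImmersion j.left := hFO.1.1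
  have hk : j.left.ker * j.left.ker = ⊥ := hFO.2
  have HUL : UniqLocLifts ((AlgSp.yon S).map j) hY' (a ≫ iY) b := by
    intro V c hV hc l0 l0' h h'
    obtain ⟨W, snd, fst, sqW⟩ := hj.1.1 c
    have hthick := hj.1.2 c fst snd sqW
    have hsq0 : AlgSp.sqZero snd.left := hj.2 c fst snd hV hc sqW
    haveI : IsClosedImmersion snd.left := hthick.1
    haveI : IsAffine V.left := hV
    rw [isLocLift_iff_of_isPullback c fst snd sqW] at h h'
    exact uniq_lift D snd hsq0 (fst ≫ a) l0 l0' (by rw [h.1, Category.assoc])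
      (by rw [h'.1, Category.assoc]) (h.2.trans h'.2.symm)
  choose V c l hV hc hv hl using exists_local_lift_univ D j hk a b comm
  haveI : ∀ t, Etale (c t).left := hc
  obtain ⟨a', h1, h2⟩ := exists_glue_of_schemeCover hj.1.1 HUL V c (fun x => ⟨x, hv x⟩) l hl
  refine ⟨a', ⟨h1, h2⟩, ?_⟩
  rintro a'' ⟨h1', h2'⟩
  exact uniq_lift D j hk a a'' a' h1' h1 (h2'.trans h2.symm)

end Main

end Groth.Agent.Lib.Helper12.UnivThickDescent
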