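import Mathlib
import Groth.Prelude.Def_AlgSpInf
import Groth.Agent.Lib.Helper12FOBaseChange
import Groth.Agent.Lib.Helper12EtaleLift2

set_option autoImplicit false
universe u
open CategoryTheory CategoryTheory.Limits AlgebraicGeometry Opposite
open AlgSp

namespace Groth.Agent.Lib.Helper12.UnivThickUnram

/-- the kernel of `Spec.map φ` on global sections. -/
lemma ker_app_top_SpecMap {A B : CommRingCat.{u}} (φ : A ⟶ B) :
    RingHom.ker ((Spec.map φ).app ⊤).hom =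
      (RingHom.ker φ.hom).comap (Scheme.ΓSpecIso A).hom.hom := by
  ext x
  rw [RingHom.mem_ker, Ideal.mem_comap, RingHom.mem_ker]
  have hnat := Scheme.ΓSpecIso_naturality φ
  have h1 := congrArg (fun ψ => ψ.hom x) hnat
  replace h1 : (Scheme.ΓSpecIso B).hom.hom (((Spec.map φ).app ⊤).hom x) =
      φ.hom ((Scheme.ΓSpecIso A).hom.hom x) := h1
  have hinj : Function.Injective (Scheme.ΓSpecIso B).hom.hom :=
    (ConcreteCategory.bijective_of_isIso (Scheme.ΓSpecIso B).hom).1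
  constructor
  · intro hx
    rw [← h1, hx]
    exact map_zero (Scheme.ΓSpecIso B).hom.hom
  · intro hx
    apply hinj
    exact (h1.trans hx).trans (map_zero _).symm

/-- a ring map with square-zero kernel induces a morphism of spectra with square-zero kernel. -/
lemma ker_mul_self_SpecMap {A B : CommRingCat.{u}} (φ : A ⟶ B)
    (hφ : RingHom.ker φ.hom * RingHom.ker φ.hom = ⊥) :
    (Spec.map φ).ker * (Spec.map φ).ker = ⊥ := by
  apply Scheme.IdealSheafData.ext_of_isAffine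
  change (Spec.map φ).ker.ideal ⟨⊤, isAffineOpen_top _⟩ *
    (Spec.map φ).ker.ideal ⟨⊤, isAffineOpen_top _⟩ = ⊥
  rw [Scheme.Hom.ker_apply, ker_app_top_SpecMap]
  refine le_antisymm ?_ bot_le
  rw [Ideal.mul_le]
  intro x hx y hy
  rw [Ideal.mem_bot]
  have hinj : Function.Injective (Scheme.ΓSpecIso A).hom.hom :=
    (ConcreteCategory.bijective_of_isIso (Scheme.ΓSpecIso A).hom).1
  apply hinj
  rw [map_mul, map_zero]
  have := Ideal.mul_mem_mul (show (Scheme.ΓSpecIso A).hom.hom x ∈ RingHom.ker φ.hom from hx)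
    (show (Scheme.ΓSpecIso A).hom.hom y ∈ RingHom.ker φ.hom from hy)
  rw [hφ] at this
  exact this

/-- conversely. -/
lemma ker_mul_self_of_SpecMap {A B : CommRingCat.{u}} (φ : A ⟶ B)
    (h : (Spec.map φ).ker * (Spec.map φ).ker = ⊥) :
    RingHom.ker φ.hom * RingHom.ker φ.hom = ⊥ := by
  have h1 := congrArg (fun I => I.ideal ⟨⊤, isAffineOpen_top _⟩) h
  simp only [Scheme.IdealSheafData.ideal_mul, Pi.mul_apply, Scheme.IdealSheafData.ideal_bot,
    Pi.bot_apply] at h1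
  rw [Scheme.Hom.ker_apply, ker_app_top_SpecMap] at h1
  refine le_antisymm ?_ bot_le
  rw [Ideal.mul_le]
  intro x hx y hy
  rw [Ideal.mem_bot]
  obtain ⟨x', rfl⟩ := (ConcreteCategory.bijective_of_isIso (Scheme.ΓSpecIso A).hom).2 x
  obtain ⟨y', rfl⟩ := (ConcreteCategory.bijective_of_isIso (Scheme.ΓSpecIso A).hom).2 y
  have := Ideal.mul_mem_mul (show x' ∈ (RingHom.ker φ.hom).comap (Scheme.ΓSpecIso A).hom.hom from hx)
    (show y' ∈ (RingHom.ker φ.hom).comap (Scheme.ΓSpecIso A).hom.hom from hy)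
  rw [h1, Ideal.mem_bot] at this
  rw [← map_mul, this, map_zero]

section Q

variable {S : Scheme.{u}} {A : Type u} [CommRing A] (str : Spec (.of A) ⟶ S)

/-- the closed subscheme of `Spec A` cut out by an ideal, over `S`. -/
noncomputable abbrev Q (𝔟 : Ideal A) : Over S :=
  Over.mk (Spec.map (CommRingCat.ofHom (Ideal.Quotient.mk 𝔟)) ≫ str)

/-- its inclusion. -/
noncomputable abbrev qι (𝔟 : Ideal A) : Q str 𝔟 ⟶ Over.mk str :=
  Over.homMk (Spec.map (CommRingCat.ofHom (Ideal.Quotient.mk 𝔟))) rfl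

/-- the inclusion between two such closed subschemes. -/
noncomputable def qincl {𝔟 𝔠 : Ideal A} (h : 𝔟 ≤ 𝔠) : Q str 𝔠 ⟶ Q str 𝔟 :=
  Over.homMk (Spec.map (CommRingCat.ofHom (Ideal.Quotient.factor h))) (by
    simp only [Over.mk_hom]
    rw [← Category.assoc, ← Spec.map_comp]
    rfl)

lemma qincl_qι {𝔟 𝔠 : Ideal A} (h : 𝔟 ≤ 𝔠) : qincl str h ≫ qι str 𝔟 = qι str 𝔠 := by
  ext
  simp only [Over.comp_left, qincl, Over.homMk_left]
  rw [← Spec.map_comp]
  rfl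

lemma qincl_qincl {𝔟 𝔠 𝔡 : Ideal A} (h : 𝔟 ≤ 𝔠) (h' : 𝔠 ≤ 𝔡) :
    qincl str h' ≫ qincl str h = qincl str (h.trans h') := by
  ext
  simp only [Over.comp_left, qincl, Over.homMk_left]
  rw [← Spec.map_comp]
  congr 2
  ext x
  rfl

open Groth.Agent.Lib.Helper12.EtaleLift2 in
lemma isFOThickMor_qincl {𝔟 𝔠 : Ideal A} (h : 𝔟 ≤ 𝔠) (h2 : 𝔠 * 𝔠 ≤ 𝔟) :
    AlgSp.IsFOThickMor ((AlgSp.yon S).map (qincl str h)) := by
  haveI : IsAffine (Q str 𝔟).left := inferInstanceAs (IsAffine (Spec _))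
  haveI : IsClosedImmersion (qincl str h).left :=
    IsClosedImmersion.spec_of_surjective _ (Ideal.Quotient.factor_surjective h)
  apply isFOThickMor_yon_map
  apply ker_mul_self_SpecMap
  change RingHom.ker (Ideal.Quotient.factor h) * RingHom.ker (Ideal.Quotient.factor h) = ⊥
  rw [Ideal.Quotient.factor_ker, ← Ideal.map_mul]
  refine le_antisymm ?_ bot_le
  refine (Ideal.map_mono h2).trans ?_
  rw [Ideal.map_quotient_self]

open Groth.Agent.Lib.Helper12.EtaleLift2 in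
lemma isFOThickMor_qι {𝔠 : Ideal A} (h2 : 𝔠 * 𝔠 = ⊥) :
    AlgSp.IsFOThickMor ((AlgSp.yon S).map (qι str 𝔠)) := by
  haveI : IsAffine (Over.mk str).left := inferInstanceAs (IsAffine (Spec _))
  haveI : IsClosedImmersion (qι str 𝔠).left :=
    IsClosedImmersion.spec_of_surjective _ Ideal.Quotient.mk_surjective
  apply isFOThickMor_yon_map
  apply ker_mul_self_SpecMap
  change RingHom.ker (Ideal.Quotient.mk 𝔠) * RingHom.ker (Ideal.Quotient.mk 𝔠) = ⊥
  rw [Ideal.mk_ker, h2]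

/-- every closed subscheme of `Spec A` over `S` is of the form `Q 𝔞`. -/
lemma exists_iso_Q {K : Over S} (k : K ⟶ Over.mk str) [IsClosedImmersion k.left] :
    ∃ (𝔞 : Ideal A) (e : Q str 𝔞 ≅ K), e.hom ≫ k = qι str 𝔞 ∧
      (k.left.ker * k.left.ker = ⊥ → 𝔞 * 𝔞 = ⊥) := by
  obtain ⟨𝔞, e, he⟩ := IsClosedImmersion.Spec_iff.1 (inferInstance : IsClosedImmersion k.left)
  have hw : e.inv ≫ K.hom = Spec.map (CommRingCat.ofHom (Ideal.Quotient.mk 𝔞)) ≫ str := by
    have h1 := Over.w k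
    simp only [Over.mk_hom] at h1
    rw [← h1, he, Category.assoc, Iso.inv_hom_id_assoc]
  refine ⟨𝔞, Over.isoMk e.symm hw, ?_, ?_⟩
  · ext
    simp only [Over.comp_left, Over.isoMk_hom_left, Iso.symm_hom, Over.homMk_left]
    rw [he, Iso.inv_hom_id_assoc]
  · intro hk
    rw [he, Scheme.Hom.ker_comp_of_isIso] at hk
    have := ker_mul_self_of_SpecMap _ hk
    change RingHom.ker (Ideal.Quotient.mk 𝔞) * RingHom.ker (Ideal.Quotient.mk 𝔞) = ⊥ at this
    rwa [Ideal.mk_ker] at this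

end Q

section Main

variable {S : Scheme.{u}}

open Groth.Agent.Lib.Helper12.FOBaseChange

/-- **The structure map of a universal first order thickening is formally unramified**
(abstract form: only the uniqueness half of the universal property, for thickenings of schemes,
is used). -/
theorem isFormallyUnramifiedMor_of_uniq {Z Z' X : AlgSp.Sp S} (i : Z ⟶ Z') (h' : Z' ⟶ X)
    (hi : AlgSp.IsFOThickMor i) (hZ' : AlgSp.IsAlgSpace Z')
    (HUniq : ∀ ⦃T T' : Over S⦄ (j : T ⟶ T'), AlgSp.IsFOThickMor ((AlgSp.yon S).map j) →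
      ∀ (a : (AlgSp.yon S).obj T ⟶ Z) (a' a'' : (AlgSp.yon S).obj T' ⟶ Z'),
        (AlgSp.yon S).map j ≫ a' = a ≫ i → (AlgSp.yon S).map j ≫ a'' = a ≫ i →
        a' ≫ h' = a'' ≫ h' → a' = a'') :
    AlgSp.IsFormallyUnramifiedMor h' := by
  intro sq l l' h1 h2 h1' h2'
  obtain ⟨K, k, fK, sqK⟩ := hi.1.1 l
  haveI : IsClosedImmersion k.left := (hi.1.2 l fK k sqK).1
  have hkz : k.left.ker * k.left.ker = ⊥ :=
    sqZero_of_isFOThickMor i hi hZ' l fK k (inferInstanceAs (IsAffine (Spec _))) sqK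
  obtain ⟨𝔞, e, he, h𝔞⟩ := exists_iso_Q sq.str k
  have h𝔞2 : 𝔞 * 𝔞 = ⊥ := h𝔞 hkz
  have hJ2 : sq.I * sq.I = ⊥ := by rw [← pow_two]; exact sq.sq_zero
  have hle : 𝔞 * sq.I ≤ 𝔞 ⊔ sq.I := Ideal.mul_le_right.trans le_sup_right
  have hsq : (𝔞 ⊔ sq.I) * (𝔞 ⊔ sq.I) ≤ 𝔞 * sq.I := by
    rw [Ideal.sup_mul, Ideal.mul_sup, Ideal.mul_sup, h𝔞2, hJ2, bot_sup_eq, sup_bot_eq,
      mul_comm sq.I 𝔞, sup_idem]
  -- the map `K ⟶ Z` transported to `Q 𝔞`
  have hfK : ((AlgSp.yon S).map e.hom ≫ fK) ≫ i = (AlgSp.yon S).map (qι sq.str 𝔞) ≫ l := by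
    rw [Category.assoc, sqK.w, ← Functor.map_comp_assoc, he]
  -- Step 1
  have c1 : (AlgSp.yon S).map (qincl sq.str hle) ≫ (AlgSp.yon S).map (qι sq.str (𝔞 * sq.I)) ≫ l =
      ((AlgSp.yon S).map (qincl sq.str (le_sup_left : 𝔞 ≤ 𝔞 ⊔ sq.I)) ≫
        (AlgSp.yon S).map e.hom ≫ fK) ≫ i := by
    rw [Category.assoc, hfK,
      ← Functor.map_comp_assoc, ← Functor.map_comp_assoc, qincl_qι, qincl_qι]
  have c2 : (AlgSp.yon S).map (qincl sq.str hle) ≫ (AlgSp.yon S).map (qι sq.str (𝔞 * sq.I)) ≫ l' =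
      ((AlgSp.yon S).map (qincl sq.str (le_sup_left : 𝔞 ≤ 𝔞 ⊔ sq.I)) ≫
        (AlgSp.yon S).map e.hom ≫ fK) ≫ i := by
    rw [← c1, ← Functor.map_comp_assoc, ← Functor.map_comp_assoc, qincl_qι,
      ← qincl_qι sq.str (le_sup_right : sq.I ≤ 𝔞 ⊔ sq.I), Functor.map_comp, Category.assoc,
      Category.assoc]
    congr 1
    exact h1'.trans h1.symm
  have E1 : (AlgSp.yon S).map (qι sq.str (𝔞 * sq.I)) ≫ l =
      (AlgSp.yon S).map (qι sq.str (𝔞 * sq.I)) ≫ l' := by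
    refine HUniq (qincl sq.str hle) (isFOThickMor_qincl sq.str hle hsq) _ _ _ c1 c2 ?_
    rw [Category.assoc, Category.assoc, h2, h2']
  -- Step 2
  have d1 : (AlgSp.yon S).map (qι sq.str 𝔞) ≫ l = ((AlgSp.yon S).map e.hom ≫ fK) ≫ i := hfK.symm
  have d2 : (AlgSp.yon S).map (qι sq.str 𝔞) ≫ l' = ((AlgSp.yon S).map e.hom ≫ fK) ≫ i := by
    rw [← d1, ← qincl_qι sq.str (Ideal.mul_le_left : 𝔞 * sq.I ≤ 𝔞), Functor.map_comp,
      Category.assoc, Category.assoc, E1]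
  exact HUniq (qι sq.str 𝔞) (isFOThickMor_qι sq.str h𝔞2) _ l l' d1 d2 (h2.trans h2'.symm)

end Main

end Groth.Agent.Lib.Helper12.UnivThickUnram
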