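import Mathlib
import Groth.Prelude.Def_W4c1liftfrobW2

/-!
# helper16: Frobenius / W₂-liftings of the split quadric cone — shared machinery

* `w2_p_sq`, `w2_ann_p`, `w2_ker_res`: `p² = 0`, `Ann(p) ⊆ ker res`, `ker res ⊆ (p)` in `W₂(k)`.
* `lift_p_sq`, `lift_ker`, `lift_p_mem`, `lift_ann`: consequences for a flat lifting `(B, ι, π)`.
* `E τ`: weight-zero projection `k[x_i,y_i] → D`, `x_i y_i ↦ τ_i`; `E_t_mul`, `E_pow_dvd`, `E_aeval_int`.
* `tau`, `lam`: the specialisation `(u, v, -(u+v), 0, …)` in `R[u][v]` and the coefficient of `u v^(p-1)`.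
* `exists_S`: `S = ((∑ t_i)^p - ∑ t_i^p)/p ∈ ℤ[t]`.
* `L`: the functional `lam ∘ E`; `L_pow_mul`, `L_mul_q`, `L_pow`, `L_aeval`, `L_aeval_ne_zero`.
-/

set_option autoImplicit false
set_option linter.style.haveILetI false
set_option linter.unusedSectionVars false

universe u
namespace Groth.Agent.Lib.Helper16FrobLift
open FrobAlg
universe v

section witt
variable (p : ℕ) [Fact p.Prime] (k : Type*) [Field k] [CharP k p]

theorem w2_p_sq : ((p : W2 p k) * (p : W2 p k)) = 0 := by
  have h1 : (p : W2 p k) = WittVector.truncate 2 (p : WittVector p k) := by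
    rw [map_natCast]
  rw [h1, ← map_mul, ← RingHom.mem_ker, WittVector.mem_ker_truncate]
  intro i hi
  rw [← pow_two]
  exact WittVector.coeff_p_pow_eq_zero p k (by omega)

theorem w2_ann_p (w : W2 p k) (h : (p : W2 p k) * w = 0) : res p k w = 0 := by
  obtain ⟨X, rfl⟩ := WittVector.truncate_surjective p 2 k w
  have h1 : (p : W2 p k) = WittVector.truncate 2 (p : WittVector p k) := by
    rw [map_natCast]
  rw [h1, ← map_mul, ← RingHom.mem_ker, WittVector.mem_ker_truncate] at h
  have h2 := h 1 (by omega)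
  rw [mul_comm, WittVector.mul_charP_coeff_succ] at h2
  rw [res_truncate]
  exact pow_eq_zero_iff (Fact.out : p.Prime).ne_zero |>.1 h2

theorem w2_ker_res [PerfectRing k p] (w : W2 p k) (h : res p k w = 0) :
    ∃ w' : W2 p k, w = (p : W2 p k) * w' := by
  obtain ⟨X, rfl⟩ := WittVector.truncate_surjective p 2 k w
  rw [res_truncate] at h
  have h1 : WittVector.verschiebung (X.shift 1) = X := by
    have := WittVector.verschiebung_shift X 0 (by intro i hi; obtain rfl : i = 0 := by omega
                                                  exact h)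
    rw [this]
    ext n
    simp [WittVector.shift_coeff]
  obtain ⟨Y, hY⟩ := (WittVector.frobenius_bijective p k).2 (X.shift 1)
  refine ⟨WittVector.truncate 2 Y, ?_⟩
  have h1' : (p : W2 p k) = WittVector.truncate 2 (p : WittVector p k) := by
    rw [map_natCast]
  rw [h1', ← map_mul, mul_comm, ← WittVector.verschiebung_frobenius, hY, h1]

end witt

section lift
variable (p : ℕ) [Fact p.Prime] (k : Type u) [Field k] [CharP k p] [PerfectRing k p]
variable {A : Type v} [CommRing A] [Algebra k A] {B : Type v} [CommRing B]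
  {ι : W2 p k →+* B} {π : B →+* A}

theorem lift_p_sq (h : IsLift p k A B ι π) : (p : B) * (p : B) = 0 := by
  have := congrArg ι (w2_p_sq p k)
  rwa [map_mul, map_natCast, map_zero] at this

theorem lift_ker (h : IsLift p k A B ι π) (b : B) (hb : π b = 0) : ∃ c, b = (p : B) * c := by
  have h1 : b ∈ RingHom.ker π := hb
  rw [h.ker_eq] at h1
  have h2 : Ideal.map ι (RingHom.ker (res p k)) ≤ Ideal.span {(p : B)} := by
    rw [Ideal.map_le_iff_le_comap]
    intro w hw
    obtain ⟨w', rfl⟩ := w2_ker_res p k w hw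
    rw [Ideal.mem_comap, map_mul, map_natCast]
    exact Ideal.mul_mem_right _ _ (Ideal.subset_span rfl)
  obtain ⟨a, ha⟩ := Ideal.mem_span_singleton'.1 (h2 h1)
  exact ⟨a, by rw [← ha, mul_comm]⟩

theorem lift_p_mem (h : IsLift p k A B ι π) (c : B) : π ((p : B) * c) = 0 := by
  have h1 : π (p : B) = 0 := by
    rw [map_natCast, ← map_natCast (algebraMap k A), CharP.cast_eq_zero, map_zero]
  rw [map_mul, h1, zero_mul]

theorem flat_ann {R : Type u} {M : Type v} [CommRing R] [AddCommGroup M] [Module R M]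
    [Module.Flat R M] (r : R) (m : M) (h : r • m = 0) :
    ∃ (κ : ℕ) (a : Fin κ → R) (y : Fin κ → M), m = ∑ j, a j • y j ∧ ∀ j, r * a j = 0 := by
  have hrel : ∑ i : Fin 1, (fun _ => r) i • (fun _ => m) i = 0 := by
    simpa using h
  obtain ⟨κ, a, y, hx, hf⟩ := Module.Flat.isTrivialRelation_of_sum_smul_eq_zero hrel
  refine ⟨κ, a 0, y, hx 0, fun j => ?_⟩
  simpa using hf j

theorem lift_ann (h : IsLift p k A B ι π) (b : B) (hb : (p : B) * b = 0) : π b = 0 := by
  have hflat := h.flat
  letI : Algebra (W2 p k) B := ι.toAlgebra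
  have hflat' : Module.Flat (W2 p k) B := hflat
  have hb1 : (p : W2 p k) • b = 0 := by
    rw [Algebra.smul_def]
    change ι (p : W2 p k) * b = 0
    rw [map_natCast, hb]
  obtain ⟨κ, a, y, hx, hf⟩ := flat_ann (p : W2 p k) b hb1
  rw [hx, map_sum]
  refine Finset.sum_eq_zero fun j _ => ?_
  have h4 := w2_ann_p p k _ (hf j)
  have h5 : π (ι (a j)) = 0 := by
    have := RingHom.congr_fun h.comm (a j)
    simp only [RingHom.comp_apply] at this
    rw [this, h4, map_zero]
  rw [Algebra.smul_def, map_mul]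
  change π (ι (a j)) * _ = 0
  rw [h5, zero_mul]

end lift

section emap
open MvPolynomial
variable {k : Type*} [Field k] {n : ℕ} {D : Type*} [CommRing D] [Algebra k D] (τ : Fin n → D)

/-- balanced exponent vectors -/
def bal (m : Fin n × Fin 2 →₀ ℕ) : Prop := ∀ i, m (i, 0) = m (i, 1)

open Classical in
/-- value on monomials -/
noncomputable def e (m : Fin n × Fin 2 →₀ ℕ) : D :=
  if bal m then ∏ i, τ i ^ m (i, 0) else 0

/-- the weight-zero projection followed by `t_i ↦ τ_i` -/
noncomputable def E : MvPolynomial (Fin n × Fin 2) k →ₗ[k] D :=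
  (MvPolynomial.basisMonomials _ k).constr k (e τ)

theorem E_monomial (m : Fin n × Fin 2 →₀ ℕ) (c : k) : E τ (monomial m c) = c • e τ m := by
  have h : monomial m c = c • (MvPolynomial.basisMonomials (Fin n × Fin 2) k) m := by
    rw [MvPolynomial.coe_basisMonomials, smul_monomial, smul_eq_mul, mul_one]
  rw [h, map_smul, E, Module.Basis.constr_basis]

theorem E_one : E τ (1 : MvPolynomial (Fin n × Fin 2) k) = 1 := by
  have : (1 : MvPolynomial (Fin n × Fin 2) k) = monomial 0 1 := rfl
  rw [this, E_monomial, one_smul, e, if_pos (show bal 0 from fun i => rfl)]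
  simp

theorem E_t_mul (i : Fin n) (f : MvPolynomial (Fin n × Fin 2) k) :
    E τ (X (i, 0) * X (i, 1) * f) = τ i * E τ f := by
  induction f using MvPolynomial.induction_on' with
  | monomial m c =>
    have h1 : (X (i, 0) * X (i, 1) * monomial m c : MvPolynomial (Fin n × Fin 2) k)
        = monomial (Finsupp.single (i, 0) 1 + Finsupp.single (i, 1) 1 + m) c := by
      rw [X, X, monomial_mul, monomial_mul, one_mul, one_mul]
    rw [h1, E_monomial, E_monomial, mul_smul_comm]
    congr 1
    have hb : bal (Finsupp.single (i, (0 : Fin 2)) 1 + Finsupp.single (i, (1 : Fin 2)) 1 + m)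
        ↔ bal m := by
      constructor
      · intro h l
        have := h l
        simp only [Finsupp.add_apply, Finsupp.single_apply, Prod.mk.injEq] at this
        by_cases hl : i = l <;> simp [hl] at this <;> omega
      · intro h l
        have := h l
        simp only [Finsupp.add_apply, Finsupp.single_apply, Prod.mk.injEq]
        by_cases hl : i = l <;> simp [hl] <;> omega
    unfold e
    by_cases hm : bal m
    · rw [if_pos hm, if_pos (hb.2 hm)]
      have : ∀ l : Fin n, (Finsupp.single (i, (0 : Fin 2)) 1 + Finsupp.single (i, (1 : Fin 2)) 1 + m :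
          Fin n × Fin 2 →₀ ℕ) (l, 0) = (if i = l then 1 else 0) + m (l, 0) := by
        intro l
        simp only [Finsupp.add_apply, Finsupp.single_apply, Prod.mk.injEq]
        by_cases hl : i = l <;> simp [hl]
      simp only [this, pow_add, Finset.prod_mul_distrib]
      rw [Finset.prod_pow_boole]
      simp
    · rw [if_neg hm, if_neg (fun h => hm (hb.1 h)), mul_zero]
  | add f g hf hg => rw [mul_add, map_add, map_add, hf, hg, mul_add]

theorem E_pow_dvd (p : ℕ) (i : Fin n) (j : Fin 2) (f : MvPolynomial (Fin n × Fin 2) k) :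
    τ i ^ p ∣ E τ (X (i, j) ^ p * f) := by
  induction f using MvPolynomial.induction_on' with
  | monomial m c =>
    have h1 : (X (i, j) ^ p * monomial m c : MvPolynomial (Fin n × Fin 2) k)
        = monomial (Finsupp.single (i, j) p + m) c := by
      rw [X_pow_eq_monomial, monomial_mul, one_mul]
    rw [h1, E_monomial, Algebra.smul_def]
    apply Dvd.dvd.mul_left
    unfold e
    by_cases hm : bal (Finsupp.single (i, j) p + m)
    · rw [if_pos hm]
      have h2 : p ≤ (Finsupp.single (i, j) p + m) (i, 0) := by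
        have := hm i
        fin_cases j
        · simp
        · rw [this]; simp
      exact (pow_dvd_pow _ h2).trans (Finset.dvd_prod_of_mem _ (Finset.mem_univ i))
    · rw [if_neg hm]; exact dvd_zero _
  | add f g hf hg => rw [mul_add, map_add]; exact dvd_add hf hg

theorem E_aeval_mul (h : MvPolynomial (Fin n) k) (f : MvPolynomial (Fin n × Fin 2) k) :
    E τ (aeval (fun i => (X (i, 0) * X (i, 1) : MvPolynomial (Fin n × Fin 2) k)) h * f)
      = aeval τ h * E τ f := by
  induction h using MvPolynomial.induction_on generalizing f with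
  | C a =>
    rw [aeval_C, aeval_C, ← Algebra.smul_def, ← Algebra.smul_def, map_smul]
  | add g h hg hh => rw [map_add, map_add, add_mul, add_mul, map_add, hg, hh]
  | mul_X g i hg =>
    have h1 : aeval (fun i => (X (i, 0) * X (i, 1) : MvPolynomial (Fin n × Fin 2) k)) (g * X i)
        = aeval (fun i => (X (i, 0) * X (i, 1) : MvPolynomial (Fin n × Fin 2) k)) g
          * (X (i, 0) * X (i, 1)) := by rw [map_mul, aeval_X]
    have h2 : aeval τ (g * X i) = aeval τ g * τ i := by rw [map_mul, aeval_X]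
    rw [h1, h2, mul_assoc, hg, E_t_mul, mul_assoc]

theorem E_aeval_int (S : MvPolynomial (Fin n) ℤ) :
    E τ (aeval (fun i => (X (i, 0) * X (i, 1) : MvPolynomial (Fin n × Fin 2) k)) S)
      = aeval τ S := by
  have h1 := E_aeval_mul τ (map (algebraMap ℤ k) S) 1
  rw [mul_one, E_one, mul_one, aeval_map_algebraMap, aeval_map_algebraMap] at h1
  exact h1

end emap

section tau
open Polynomial
variable (R : Type*) [CommRing R] (n : ℕ)

/-- the specialisation `(u, v, -(u+v), 0, …)` in `R[u][v]` -/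
noncomputable def tau : Fin n → R[X][X] := fun i =>
  if i.val = 0 then C X else if i.val = 1 then X else if i.val = 2 then -(C X + X) else 0

/-- coefficient of `u v^(p-1)` -/
noncomputable def lam (p : ℕ) (f : R[X][X]) : R := (f.coeff (p - 1)).coeff 1

variable {R}

theorem lam_add (p : ℕ) (f g : R[X][X]) : lam R p (f + g) = lam R p f + lam R p g := by
  simp [lam]

theorem lam_neg (p : ℕ) (f : R[X][X]) : lam R p (-f) = - lam R p f := by
  simp [lam]

theorem lam_zero (p : ℕ) : lam R p 0 = 0 := by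
  simp [lam]

theorem lam_CC_mul (p : ℕ) (c : R) (f : R[X][X]) : lam R p (C (C c) * f) = c * lam R p f := by
  simp [lam]

theorem lam_CC (p : ℕ) (hp : 2 ≤ p) (c : R) : lam R p (C (C c)) = 0 := by
  have : p - 1 ≠ 0 := by omega
  simp [lam, coeff_C, this]

theorem lam_u_pow (p : ℕ) (hp : 2 ≤ p) (d : R[X][X]) : lam R p ((C X) ^ p * d) = 0 := by
  rw [lam, ← C_pow, coeff_C_mul, coeff_X_pow_mul', if_neg (by omega)]

theorem lam_v_pow (p : ℕ) (hp : 2 ≤ p) (d : R[X][X]) : lam R p (X ^ p * d) = 0 := by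
  rw [lam, coeff_X_pow_mul', if_neg (by omega), coeff_zero]

theorem sum_tau (hn : 3 ≤ n) (g : R[X][X] → R[X][X]) (hg : g 0 = 0) :
    ∑ i, g (tau R n i) = g (C X) + g X + g (-(C X + X)) := by
  obtain ⟨m, rfl⟩ : ∃ m, n = m + 3 := ⟨n - 3, by omega⟩
  rw [Fin.sum_univ_succ, Fin.sum_univ_succ, Fin.sum_univ_succ]
  simp only [tau, Fin.val_succ, Fin.val_zero]
  simp [hg, add_assoc]

theorem lam_tau_pow (p : ℕ) [Fact p.Prime] [CharP R p] (hp : 2 ≤ p) (i : Fin n) (d : R[X][X]) :
    lam R p (tau R n i ^ p * d) = 0 := by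
  unfold tau
  split_ifs
  · exact lam_u_pow p hp d
  · exact lam_v_pow p hp d
  · have h1 : (-(C X + X : R[X][X])) ^ p * d = (C X) ^ p * ((-1) ^ p * d) + X ^ p * ((-1) ^ p * d) := by
      have h0 : (-(C X + X : R[X][X])) = (-1) * (C X + X) := by ring
      rw [h0, mul_pow, add_pow_char]
      ring
    rw [h1, lam_add, lam_u_pow p hp, lam_v_pow p hp, add_zero]
  · rw [zero_pow (by omega), zero_mul, lam_zero]

theorem aux_gen {D : Type*} [CommRing D] (a b : D) (p : ℕ) (hp : p ≠ 0) :
    (a + b + -(a + b)) ^ p - (a ^ p + b ^ p + (-(a + b)) ^ p)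
      = -((-1) ^ p * (b + a) ^ p) + -(a ^ p * 1) + -(b ^ p * 1) := by
  rw [neg_pow (a + b), add_neg_cancel, zero_pow hp]
  ring

theorem lam_int (p : ℕ) [Fact p.Prime] (hn : 3 ≤ n) (S : MvPolynomial (Fin n) ℤ)
    (hS : MvPolynomial.C (p : ℤ) * S
      = (∑ i, MvPolynomial.X i) ^ p - ∑ i, (MvPolynomial.X i) ^ p) :
    lam ℤ p (MvPolynomial.aeval (tau ℤ n) S) = -(-1) ^ p := by
  have hp2 : 2 ≤ p := (Fact.out : p.Prime).two_le
  have h1 := congrArg (MvPolynomial.aeval (tau ℤ n)) hS
  rw [map_mul, map_sub, map_pow, map_sum, map_sum] at h1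
  simp only [map_pow, MvPolynomial.aeval_X, MvPolynomial.aeval_C] at h1
  rw [sum_tau n hn (fun x => x) rfl, sum_tau n hn (fun x => x ^ p) (zero_pow (by omega))] at h1
  have h1' := h1.trans (aux_gen (C X : ℤ[X][X]) X p (by omega))
  have h2 := congrArg (lam ℤ p) h1'
  have h3 : (algebraMap ℤ ℤ[X][X]) (p : ℤ) = C (C (p : ℤ)) := rfl
  have h4 : lam ℤ p ((X + C X) ^ p) = (p : ℤ) := by
    rw [lam, coeff_X_add_C_pow]
    obtain ⟨q, rfl⟩ : ∃ q, p = q + 1 := ⟨p - 1, by omega⟩
    simp
  have h5 : ((-1 : ℤ[X][X]) ^ p) = C (C ((-1) ^ p)) := by simp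
  rw [h3, lam_CC_mul, lam_add, lam_add, lam_neg, lam_neg, lam_neg, lam_u_pow p (by omega),
    lam_v_pow p (by omega), h5, lam_CC_mul, h4] at h2
  have hp0 : (p : ℤ) ≠ 0 := by exact_mod_cast (Fact.out : p.Prime).ne_zero
  exact mul_left_cancel₀ hp0 (by rw [h2]; ring)

theorem lam_map (k : Type*) [CommRing k] (p : ℕ) (f : ℤ[X][X]) :
    lam k p (Polynomial.map (Polynomial.mapRingHom (Int.castRingHom k)) f)
      = ((lam ℤ p f : ℤ) : k) := by
  simp [lam, coeff_map]

theorem tau_map (k : Type*) [CommRing k] (i : Fin n) :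
    tau k n i = Polynomial.map (Polynomial.mapRingHom (Int.castRingHom k)) (tau ℤ n i) := by
  unfold tau
  split_ifs <;> simp

theorem lam_field (k : Type*) [CommRing k] (p : ℕ) [Fact p.Prime] (hn : 3 ≤ n)
    (S : MvPolynomial (Fin n) ℤ)
    (hS : MvPolynomial.C (p : ℤ) * S
      = (∑ i, MvPolynomial.X i) ^ p - ∑ i, (MvPolynomial.X i) ^ p) :
    lam k p (MvPolynomial.aeval (tau k n) S) = -(-1) ^ p := by
  have h1 : MvPolynomial.aeval (tau k n) S
      = Polynomial.map (Polynomial.mapRingHom (Int.castRingHom k))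
          (MvPolynomial.aeval (tau ℤ n) S) := by
    have := MvPolynomial.comp_aeval_apply (f := tau ℤ n)
      (Polynomial.mapRingHom (Polynomial.mapRingHom (Int.castRingHom k))).toIntAlgHom S
    simp only [RingHom.toIntAlgHom_apply, Polynomial.coe_mapRingHom] at this
    refine Eq.trans ?_ this.symm
    have : tau k n = fun i => Polynomial.map (Polynomial.mapRingHom (Int.castRingHom k))
        (tau ℤ n i) := funext fun i => tau_map n k i
    rw [this]
    rfl
  rw [h1, lam_map, lam_int n p hn S hS]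
  simp

end tau

section key
variable {A B : Type v} [CommRing A] [CommRing B] (p : ℕ) [Fact p.Prime]

theorem exists_S (n : ℕ) : ∃ S : MvPolynomial (Fin n) ℤ, MvPolynomial.C (p : ℤ) * S
      = (∑ i, MvPolynomial.X i) ^ p - ∑ i, (MvPolynomial.X i) ^ p := by
  have h : MvPolynomial.C (p : ℤ) ∣ ((∑ i, MvPolynomial.X i) ^ p - ∑ i, (MvPolynomial.X i) ^ p :
      MvPolynomial (Fin n) ℤ) := by
    rw [MvPolynomial.C_dvd_iff_zmod, map_sub, map_pow, map_sum, map_sum, sum_pow_char, sub_eq_zero]
    simp only [map_pow]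
  obtain ⟨S, hS⟩ := h
  exact ⟨S, hS.symm⟩

theorem key (π : B →+* A) (Φ : B →+* B)
    (hsq : (p : B) * p = 0) (hker : ∀ b, π b = 0 → ∃ c, b = (p : B) * c)
    (hann : ∀ b, (p : B) * b = 0 → π b = 0)
    (hred : ∀ b, π (Φ b) = π b ^ p)
    {n : ℕ} (X Y : Fin n → B) (hq : π (∑ i, X i * Y i) = 0)
    (S : MvPolynomial (Fin n) ℤ)
    (hS : MvPolynomial.C (p : ℤ) * S
      = (∑ i, MvPolynomial.X i) ^ p - ∑ i, (MvPolynomial.X i) ^ p) :
    ∃ (g : A) (U V : Fin n → A),
      MvPolynomial.aeval (fun i => π (X i) * π (Y i)) S + g ^ p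
        = ∑ i, (U i * π (Y i) ^ p + V i * π (X i) ^ p) := by
  have hp2 : 2 ≤ p := (Fact.out : p.Prime).two_le
  obtain ⟨b, hb⟩ := hker _ hq
  have hΦ : ∀ b' : B, ∃ c, Φ b' = b' ^ p + (p : B) * c := by
    intro b'
    obtain ⟨c, hc⟩ := hker (Φ b' - b' ^ p) (by rw [map_sub, hred, map_pow, sub_self])
    exact ⟨c, by rw [← hc]; ring⟩
  choose u hu using fun i => hΦ (X i)
  choose w hw using fun i => hΦ (Y i)
  obtain ⟨c, hc⟩ := hΦ b
  have h1 := congrArg (MvPolynomial.aeval (fun i => X i * Y i)) hS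
  rw [map_mul, map_sub, map_pow, map_sum, map_sum] at h1
  simp only [map_pow, MvPolynomial.aeval_X, MvPolynomial.aeval_C] at h1
  have h0 : (algebraMap ℤ B) (p : ℤ) = (p : B) := by simp
  rw [h0, hb] at h1
  have hpp : ((p : B) * b) ^ p = 0 := by
    obtain ⟨r, rfl⟩ : ∃ r, p = r + 2 := ⟨p - 2, by omega⟩
    rw [mul_pow, pow_add, pow_two, hsq, mul_zero, zero_mul]
  rw [hpp] at h1
  have h2 : Φ (∑ i, X i * Y i) = ∑ i, (X i * Y i) ^ p
      + (p : B) * ∑ i, (u i * Y i ^ p + w i * X i ^ p) := by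
    rw [map_sum, Finset.mul_sum, ← Finset.sum_add_distrib]
    refine Finset.sum_congr rfl fun i _ => ?_
    rw [map_mul, hu, hw]
    have : (X i ^ p + (p : B) * u i) * (Y i ^ p + (p : B) * w i)
        = (X i * Y i) ^ p + (p : B) * (u i * Y i ^ p + w i * X i ^ p)
          + ((p : B) * p) * (u i * w i) := by ring
    rw [this, hsq, zero_mul, add_zero]
  have h3 : Φ (∑ i, X i * Y i) = (p : B) * b ^ p := by
    rw [hb, map_mul, map_natCast, hc]
    have : (p : B) * (b ^ p + (p : B) * c) = (p : B) * b ^ p + ((p : B) * p) * c := by ring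
    rw [this, hsq, zero_mul, add_zero]
  have h4 : (p : B) * (MvPolynomial.aeval (fun i => X i * Y i) S + b ^ p
      - ∑ i, (u i * Y i ^ p + w i * X i ^ p)) = 0 := by
    rw [mul_sub, mul_add, h1, ← h3, h2]
    ring
  have h5 := hann _ h4
  refine ⟨π b, fun i => π (u i), fun i => π (w i), ?_⟩
  rw [map_sub, map_add, sub_eq_zero, map_pow, map_sum] at h5
  have h6 : π (MvPolynomial.aeval (fun i => X i * Y i) S)
      = MvPolynomial.aeval (fun i => π (X i) * π (Y i)) S := by
    have := MvPolynomial.comp_aeval_apply (f := fun i => X i * Y i) π.toIntAlgHom S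
    simp only [RingHom.toIntAlgHom_apply, map_mul] at this
    exact this
  rw [h6] at h5
  rw [h5]
  refine Finset.sum_congr rfl fun i _ => ?_
  simp only [map_add, map_mul, map_pow]

end key

section Lfun
open MvPolynomial
variable (k : Type u) [Field k] (p : ℕ) [Fact p.Prime] [CharP k p] (n : ℕ)

/-- the functional -/
noncomputable def L (f : MvPolynomial (Fin n × Fin 2) k) : k := lam k p (E (tau k n) f)

theorem L_add (f g : MvPolynomial (Fin n × Fin 2) k) : L k p n (f + g) = L k p n f + L k p n g := by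
  rw [L, map_add, lam_add]; rfl

theorem L_neg (f : MvPolynomial (Fin n × Fin 2) k) : L k p n (-f) = - L k p n f := by
  rw [L, map_neg, lam_neg]; rfl

theorem L_zero : L k p n 0 = 0 := by
  rw [L, map_zero, lam_zero]

theorem L_sum {ι : Type*} (s : Finset ι) (f : ι → MvPolynomial (Fin n × Fin 2) k) :
    L k p n (∑ i ∈ s, f i) = ∑ i ∈ s, L k p n (f i) := by
  classical
  induction s using Finset.induction_on with
  | empty => simp [L_zero]
  | insert a s ha ih => rw [Finset.sum_insert ha, Finset.sum_insert ha, L_add, ih]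

theorem L_pow_mul (i : Fin n) (j : Fin 2) (f : MvPolynomial (Fin n × Fin 2) k) :
    L k p n (X (i, j) ^ p * f) = 0 := by
  obtain ⟨d, hd⟩ := E_pow_dvd (tau k n) p i j f
  rw [L, hd]
  exact lam_tau_pow n p (Fact.out : p.Prime).two_le i d

theorem L_mul_q (hn : 3 ≤ n) (f : MvPolynomial (Fin n × Fin 2) k) :
    L k p n (f * ∑ i : Fin n, X (i, (0 : Fin 2)) * X (i, (1 : Fin 2))) = 0 := by
  have h1 : f * ∑ i : Fin n, X (i, (0 : Fin 2)) * X (i, (1 : Fin 2))
      = ∑ i : Fin n, X (i, (0 : Fin 2)) * X (i, (1 : Fin 2)) * f := by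
    rw [Finset.mul_sum]
    exact Finset.sum_congr rfl fun i _ => mul_comm _ _
  rw [L, h1, map_sum]
  simp only [E_t_mul]
  rw [← Finset.sum_mul, sum_tau n hn (fun x => x) rfl]
  have h0 : ∀ a : Polynomial (Polynomial k), a + -a = 0 := fun a => add_neg_cancel a
  rw [h0, zero_mul, lam_zero]

theorem L_pow (g : MvPolynomial (Fin n × Fin 2) k) : L k p n (g ^ p) = 0 := by
  have hp2 : 2 ≤ p := (Fact.out : p.Prime).two_le
  induction g using MvPolynomial.induction_on with
  | C a =>
    rw [← map_pow, L]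
    have : (C (a ^ p) : MvPolynomial (Fin n × Fin 2) k) = monomial 0 (a ^ p) := rfl
    rw [this, E_monomial]
    have h2 : e (tau k n) (0 : Fin n × Fin 2 →₀ ℕ) = 1 := by
      rw [e, if_pos (show bal 0 from fun i => rfl)]
      simp
    rw [h2, Algebra.smul_def, mul_one]
    exact lam_CC p hp2 _
  | add g h hg hh => rw [add_pow_char, L_add, hg, hh, add_zero]
  | mul_X g s hg =>
    obtain ⟨i, j⟩ := s
    rw [mul_pow, mul_comm]
    exact L_pow_mul k p n i j _

theorem L_aeval (hn : 3 ≤ n) (S : MvPolynomial (Fin n) ℤ)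
    (hS : MvPolynomial.C (p : ℤ) * S
      = (∑ i, MvPolynomial.X i) ^ p - ∑ i, (MvPolynomial.X i) ^ p) :
    L k p n (aeval (fun i => (X (i, 0) * X (i, 1) : MvPolynomial (Fin n × Fin 2) k)) S)
      = -(-1) ^ p := by
  rw [L, E_aeval_int]
  exact lam_field n k p hn S hS

theorem L_aeval_ne_zero (hn : 3 ≤ n) (S : MvPolynomial (Fin n) ℤ)
    (hS : MvPolynomial.C (p : ℤ) * S
      = (∑ i, MvPolynomial.X i) ^ p - ∑ i, (MvPolynomial.X i) ^ p) :
    L k p n (aeval (fun i => (X (i, 0) * X (i, 1) : MvPolynomial (Fin n × Fin 2) k)) S) ≠ 0 := by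
  rw [L_aeval k p n hn S hS]
  exact neg_ne_zero.2 (pow_ne_zero _ (neg_ne_zero.2 one_ne_zero))

end Lfun

end Groth.Agent.Lib.Helper16FrobLift
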