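import Mathlib
import Groth.Prelude.Def_Frob
import Groth.Prelude.Def_W4c1liftfrobW2
import Groth.Agent.Lib.Helper12ThickEtE
import Groth.Agent.Lib.Helper20EtHom
import Groth.Agent.Lib.Helper16FrobLift

set_option autoImplicit false
universe u
open CategoryTheory CategoryTheory.Limits AlgebraicGeometry

namespace Groth.Agent.Lib.Helper12.W2Etale

variable (p : ℕ) [Fact p.Prime] (k : Type u) [Field k] [CharP k p]

lemma res_surjective : Function.Surjective (FrobAlg.res p k) := by
  intro a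
  refine ⟨TruncatedWittVector.mk p (fun _ => a), ?_⟩
  rw [FrobAlg.res_apply, TruncatedWittVector.coeff_mk]

lemma ker_res_le_prime [PerfectRing k p] (q : Ideal (FrobAlg.W2 p k)) [q.IsPrime] :
    RingHom.ker (FrobAlg.res p k) ≤ q := by
  intro w hw
  obtain ⟨w', rfl⟩ := Groth.Agent.Lib.Helper16FrobLift.w2_ker_res p k w hw
  have h0 : ((p : FrobAlg.W2 p k) * w') ^ 2 = 0 := by
    rw [mul_pow, sq (p : FrobAlg.W2 p k), Groth.Agent.Lib.Helper16FrobLift.w2_p_sq p k, zero_mul]
  exact Ideal.IsPrime.mem_of_pow_mem inferInstance 2 (h0 ▸ q.zero_mem)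

instance isClosedImmersion_res :
    IsClosedImmersion (Spec.map (CommRingCat.ofHom (FrobAlg.res p k))) :=
  IsClosedImmersion.spec_of_surjective _ (res_surjective p k)

lemma surjective_res [PerfectRing k p] :
    Surjective (Spec.map (CommRingCat.ofHom (FrobAlg.res p k))) := by
  constructor
  intro x
  have hx : x ∈ Set.range (PrimeSpectrum.comap (FrobAlg.res p k)) := by
    rw [range_comap_of_surjective _ _ (res_surjective p k)]
    exact ker_res_le_prime p k x.asIdeal
  exact hx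

/-- **Étale schemes over a `W₂`-Frobenius-liftable scheme are `W₂`-Frobenius-liftable.** -/
theorem main [PerfectRing k p]
    (X Y : Scheme.{u}) (f : X ⟶ Spec (CommRingCat.of k))
    (q : Y ⟶ X) [Etale q]
    [FrobSch.IsCharP X p] [FrobSch.IsCharP Y p]
    (Xl : Scheme.{u}) (g : Xl ⟶ Spec (CommRingCat.of (FrobAlg.W2 p k))) [Flat g]
    (i : X ⟶ Xl) (hsq : IsPullback i f g (Spec.map (CommRingCat.ofHom (FrobAlg.res p k))))
    (Fl : Xl ⟶ Xl) (hF : i ≫ Fl = FrobSch.frob X p ≫ i) :
    ∃ (Yl : Scheme.{u}) (gY : Yl ⟶ Spec (CommRingCat.of (FrobAlg.W2 p k))) (j : Y ⟶ Yl)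
      (Gl : Yl ⟶ Yl),
      Flat gY ∧ IsPullback j (q ≫ f) gY (Spec.map (CommRingCat.ofHom (FrobAlg.res p k))) ∧
        j ≫ Gl = FrobSch.frob Y p ≫ j := by
  haveI := surjective_res p k
  haveI : IsClosedImmersion i :=
    MorphismProperty.of_isPullback (P := @IsClosedImmersion) hsq.flip inferInstance
  haveI : Surjective i :=
    MorphismProperty.of_isPullback (P := @Surjective) hsq.flip inferInstance
  obtain ⟨Yl, c, j, hc, hpb⟩ := Groth.Agent.Lib.Helper12.ThickEt.exists_lift i q
  haveI := hc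
  haveI : IsClosedImmersion j :=
    MorphismProperty.of_isPullback (P := @IsClosedImmersion) hpb.flip inferInstance
  haveI : Surjective j :=
    MorphismProperty.of_isPullback (P := @Surjective) hpb.flip inferInstance
  have hψ : (FrobSch.frob Y p ≫ j) ≫ c = j ≫ c ≫ Fl := by
    rw [Category.assoc, hpb.w, FrobSch.frob_comp_assoc, ← hF, reassoc_of% hpb.w]
  obtain ⟨Gl, hGl1, hGl2⟩ := Groth.Agent.Lib.Helper20.EtHom.exists_lift j c (c ≫ Fl)
    (FrobSch.frob Y p ≫ j) hψ
  exact ⟨Yl, c ≫ g, j, Gl, inferInstance, hpb.paste_vert hsq, hGl2⟩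

end Groth.Agent.Lib.Helper12.W2Etale
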