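import Mathlib

set_option autoImplicit false
universe u v

namespace Groth.Agent.Lib.Helper12.W2LiftA

open TensorProduct

/-- Hypotheses on a ring `W` with an element `ϖ` making `W` behave like `W₂(k)`. -/
structure IsLen2 (W : Type u) [CommRing W] (ϖ : W) : Prop where
  sq : ϖ * ϖ = 0
  ann : ∀ w : W, ϖ * w = 0 → ∃ v, w = ϖ * v
  unit : ∀ w : W, w ∉ Ideal.span {ϖ} → IsUnit w

variable {W : Type u} [CommRing W] {ϖ : W}

theorem IsLen2.ideal_cases (h : IsLen2 W ϖ) (I : Ideal W) :
    I = ⊥ ∨ I = Ideal.span {ϖ} ∨ I = ⊤ := by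
  by_cases h1 : ∃ x ∈ I, x ∉ Ideal.span {ϖ}
  · obtain ⟨x, hxI, hx⟩ := h1
    right; right
    exact Ideal.eq_top_of_isUnit_mem _ hxI (h.unit x hx)
  · have hle : I ≤ Ideal.span {ϖ} := by
      intro x hx
      by_contra hx'
      exact h1 ⟨x, hx, hx'⟩
    by_cases h2 : I = ⊥
    · exact Or.inl h2
    · right; left
      refine le_antisymm hle ?_
      obtain ⟨x, hxI, hx0⟩ : ∃ x ∈ I, x ≠ 0 := by
        by_contra hcon
        apply h2
        rw [eq_bot_iff]
        intro x hx
        by_contra hx0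
        exact hcon ⟨x, hx, hx0⟩
      obtain ⟨v, rfl⟩ := Ideal.mem_span_singleton'.1 (hle hxI)
      have hv : v ∉ Ideal.span {ϖ} := by
        intro hv
        obtain ⟨v', rfl⟩ := Ideal.mem_span_singleton'.1 hv
        apply hx0
        rw [mul_assoc, h.sq, mul_zero]
      obtain ⟨u, rfl⟩ := h.unit v hv
      rw [Ideal.span_singleton_le_iff_mem]
      have : ϖ = (↑u⁻¹ : W) * (↑u * ϖ) := by
        rw [← mul_assoc, Units.inv_mul, one_mul]
      rw [this]
      exact I.mul_mem_left _ hxI

theorem IsLen2.isNoetherianRing (h : IsLen2 W ϖ) : IsNoetherianRing W := by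
  rw [isNoetherianRing_iff_ideal_fg]
  intro I
  rcases h.ideal_cases I with rfl | rfl | rfl
  · exact Submodule.fg_bot
  · exact ⟨{ϖ}, by simp⟩
  · exact ⟨{1}, by simp⟩

variable {M : Type v} [AddCommGroup M] [Module W M]

theorem IsLen2.flat_of_ann (h : IsLen2 W ϖ)
    (hM : ∀ m : M, ϖ • m = 0 → ∃ m', m = ϖ • m') : Module.Flat W M := by
  rw [Module.Flat.iff_lift_lsmul_comp_subtype_injective]
  intro I _
  rcases h.ideal_cases I with rfl | rfl | rfl
  · intro x y _
    haveI : Subsingleton ((⊥ : Ideal W) ⊗[W] M) := by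
      haveI : Subsingleton (⊥ : Ideal W) := inferInstance
      infer_instance
    exact Subsingleton.elim _ _
  · rw [injective_iff_map_eq_zero]
    intro x hx
    have hϖ : ϖ ∈ Ideal.span {ϖ} := Ideal.mem_span_singleton_self ϖ
    have key : ∀ x : (Ideal.span {ϖ} : Ideal W) ⊗[W] M, ∃ m : M,
        x = (⟨ϖ, hϖ⟩ : (Ideal.span {ϖ} : Ideal W)) ⊗ₜ[W] m := by
      intro x
      induction x using TensorProduct.induction_on with
      | zero => exact ⟨0, by simp⟩
      | tmul a m =>
        obtain ⟨a, ha⟩ := a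
        obtain ⟨w, rfl⟩ := Ideal.mem_span_singleton'.1 ha
        refine ⟨w • m, ?_⟩
        rw [← TensorProduct.smul_tmul]
        congr 1
      | add x y hx hy =>
        obtain ⟨m, rfl⟩ := hx
        obtain ⟨m', rfl⟩ := hy
        exact ⟨m + m', by rw [TensorProduct.tmul_add]⟩
    obtain ⟨m, rfl⟩ := key x
    simp only [TensorProduct.lift.tmul, LinearMap.coe_comp, Function.comp_apply,
      Submodule.subtype_apply, LinearMap.lsmul_apply] at hx
    obtain ⟨m', rfl⟩ := hM m hx
    rw [← TensorProduct.smul_tmul]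
    have : ϖ • (⟨ϖ, hϖ⟩ : (Ideal.span {ϖ} : Ideal W)) = 0 := by
      ext
      simp [h.sq]
    rw [this, TensorProduct.zero_tmul]
  · rw [injective_iff_map_eq_zero]
    intro x hx
    have key : ∀ x : (⊤ : Ideal W) ⊗[W] M, ∃ m : M,
        x = (⟨1, Submodule.mem_top⟩ : (⊤ : Ideal W)) ⊗ₜ[W] m := by
      intro x
      induction x using TensorProduct.induction_on with
      | zero => exact ⟨0, by simp⟩
      | tmul a m =>
        obtain ⟨a, ha⟩ := a
        refine ⟨a • m, ?_⟩
        rw [← TensorProduct.smul_tmul]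
        congr 1
        ext
        simp
      | add x y hx hy =>
        obtain ⟨m, rfl⟩ := hx
        obtain ⟨m', rfl⟩ := hy
        exact ⟨m + m', by rw [TensorProduct.tmul_add]⟩
    obtain ⟨m, rfl⟩ := key x
    simp only [TensorProduct.lift.tmul, LinearMap.coe_comp, Function.comp_apply,
      Submodule.subtype_apply, LinearMap.lsmul_apply, one_smul] at hx
    rw [hx, TensorProduct.tmul_zero]

theorem IsLen2.ann_of_flat (h : IsLen2 W ϖ) [Module.Flat W M] (m : M) (hm : ϖ • m = 0) :
    ∃ m', m = ϖ • m' := by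
  have hex : Function.Exact (LinearMap.lsmul W W ϖ) (LinearMap.lsmul W W ϖ) := by
    intro w
    simp only [LinearMap.lsmul_apply, smul_eq_mul, Set.mem_range]
    constructor
    · intro hw
      obtain ⟨v, rfl⟩ := h.ann w hw
      exact ⟨v, rfl⟩
    · rintro ⟨v, rfl⟩
      rw [← mul_assoc, h.sq, zero_mul]
  have hex' := Module.Flat.rTensor_exact M hex
  have hsm : (LinearMap.lsmul W W ϖ).rTensor M = ϖ • LinearMap.id := by
    ext w
    simp [TensorProduct.smul_tmul']
  have h1 : (LinearMap.lsmul W W ϖ).rTensor M ((1 : W) ⊗ₜ[W] m) = 0 := by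
    rw [hsm]
    simp only [LinearMap.smul_apply, LinearMap.id_coe, id_eq]
    rw [TensorProduct.smul_tmul', TensorProduct.smul_tmul, hm, TensorProduct.tmul_zero]
  obtain ⟨y, hy⟩ := (hex' _).1 h1
  refine ⟨TensorProduct.lid W M y, ?_⟩
  rw [← map_smul, ← LinearMap.id_apply (R := W) y, ← LinearMap.smul_apply, ← hsm, hy]
  simp

end Groth.Agent.Lib.Helper12.W2LiftA
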