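import Mathlib
import Groth.Agent.Lib.Helper12W2LiftA

set_option autoImplicit false
universe u v w

namespace Groth.Agent.Lib.Helper12.W2LiftB

open TensorProduct Groth.Agent.Lib.Helper12.W2LiftA

variable {W : Type u} [CommRing W] {ϖ : W}

/-- Abstract flat lifting of `ρ : W → A` over `(W, ϖ)`. -/
def AbsLift (ϖ : W) {A : Type v} [CommRing A] (ρ : W →+* A) : Prop :=
  ∃ (A' : Type v) (_ : CommRing A') (ι : W →+* A') (π : A' →+* A),
    ι.Flat ∧ Function.Surjective π ∧ RingHom.ker π = Ideal.span {ι ϖ} ∧ π.comp ι = ρ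

/-- Solvability of the obstruction linear system, with values in `C`. -/
def Solvable (ϖ : W) {P : Type v} [CommRing P] [Algebra W P] {m : ℕ} (f : Fin m → P)
    {C : Type w} [CommRing C] (φ : P →+* C) : Prop :=
  ∃ h : Fin m → C, ∀ (r : Fin m → P) (c : P),
    ∑ i, r i * f i = algebraMap W P ϖ * c → φ c = ∑ i, φ (r i) * h i

theorem solvable_of_lift (hW : IsLen2 W ϖ) {B' : Type w} {B : Type w} [CommRing B'] [CommRing B]
    (ι : W →+* B') (π : B' →+* B) (hflat : ι.Flat) (hker : RingHom.ker π = Ideal.span {ι ϖ})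
    {P : Type v} [CommRing P] [Algebra W P] (g : P →+* B')
    (hg : g.comp (algebraMap W P) = ι) {m : ℕ} (f : Fin m → P)
    (hf : ∀ i, π (g (f i)) = 0) : Solvable ϖ f (π.comp g) := by
  have h1 : ∀ i, ∃ β : B', β * ι ϖ = g (f i) := by
    intro i
    have : g (f i) ∈ RingHom.ker π := hf i
    rw [hker] at this
    exact Ideal.mem_span_singleton'.1 this
  choose β hβ using h1
  have hπϖ : π (ι ϖ) = 0 := by
    have : ι ϖ ∈ RingHom.ker π := by
      rw [hker]; exact Ideal.mem_span_singleton_self _
    exact this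
  refine ⟨fun i => π (β i), ?_⟩
  intro r c hrc
  have h2 : ι ϖ * (g c - ∑ i, g (r i) * β i) = 0 := by
    have h3 := congrArg g hrc
    rw [map_sum, map_mul] at h3
    have h4 : g (algebraMap W P ϖ) = ι ϖ := by rw [← hg]; rfl
    rw [h4] at h3
    rw [mul_sub, ← h3, Finset.mul_sum, ← Finset.sum_sub_distrib]
    apply Finset.sum_eq_zero
    intro i _
    rw [map_mul, ← hβ i]
    ring
  letI := ι.toAlgebra
  haveI : Module.Flat W B' := hflat
  obtain ⟨x', hx'⟩ := hW.ann_of_flat (M := B') (g c - ∑ i, g (r i) * β i) (by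
    rw [Algebra.smul_def]; exact h2)
  rw [Algebra.smul_def] at hx'
  have h5 : π (g c - ∑ i, g (r i) * β i) = 0 := by
    rw [hx', map_mul]
    have : π (algebraMap W B' ϖ) = 0 := hπϖ
    rw [this, zero_mul]
  rw [map_sub, sub_eq_zero, map_sum] at h5
  simp only [RingHom.comp_apply]
  rw [h5]
  apply Finset.sum_congr rfl
  intro i _
  rw [map_mul]

theorem absLift_of_solvable (hW : IsLen2 W ϖ) {P A : Type v} [CommRing P] [Algebra W P]
    [CommRing A] (φ : P →+* A) (hφ : Function.Surjective φ)
    (hϖ : φ (algebraMap W P ϖ) = 0) {m : ℕ} (f : Fin m → P)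
    (hf : RingHom.ker φ = Ideal.span (Set.range f)) (hs : Solvable ϖ f φ) :
    AbsLift ϖ (φ.comp (algebraMap W P)) := by
  obtain ⟨h, hh⟩ := hs
  choose h' hh' using fun i => hφ (h i)
  set ϖ' := algebraMap W P ϖ with hϖ'
  let f' : Fin m → P := fun i => f i - ϖ' * h' i
  let J : Ideal P := Ideal.span (Set.range f')
  have hfker : ∀ i, φ (f i) = 0 := by
    intro i
    have : f i ∈ RingHom.ker φ := by
      rw [hf]; exact Ideal.subset_span ⟨i, rfl⟩
    exact this
  have hJ : ∀ a ∈ J, φ a = 0 := by
    have : J ≤ RingHom.ker φ := by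
      rw [Ideal.span_le]
      rintro _ ⟨i, rfl⟩
      change φ (f i - ϖ' * h' i) = 0
      rw [map_sub, map_mul, hϖ, zero_mul, hfker, sub_zero]
    exact fun a ha => this ha
  let ι : W →+* P ⧸ J := (Ideal.Quotient.mk J).comp (algebraMap W P)
  let π : P ⧸ J →+* A := Ideal.Quotient.lift J φ hJ
  have hπmk : ∀ x, π (Ideal.Quotient.mk J x) = φ x := fun x => Ideal.Quotient.lift_mk J φ hJ
  -- key: elements of the kernel of `φ` become multiples of `ι ϖ`
  have hkey : ∀ x : P, φ x = 0 → ∃ y : P ⧸ J, Ideal.Quotient.mk J x = ι ϖ * y := by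
    intro x hx
    have hx' : x ∈ Ideal.span (Set.range f) := by rw [← hf]; exact hx
    obtain ⟨a, ha⟩ := (Submodule.mem_span_range_iff_exists_fun P).1 hx'
    refine ⟨Ideal.Quotient.mk J (∑ i, a i * h' i), ?_⟩
    change _ = Ideal.Quotient.mk J ϖ' * _
    rw [← map_mul, ← sub_eq_zero, ← map_sub, Ideal.Quotient.eq_zero_iff_mem]
    have : x - ϖ' * ∑ i, a i * h' i = ∑ i, a i • f' i := by
      rw [← ha, Finset.mul_sum, ← Finset.sum_sub_distrib]
      apply Finset.sum_congr rfl
      intro i _
      simp only [f', smul_eq_mul]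
      ring
    rw [this]
    exact Submodule.sum_smul_mem _ _ fun i _ => Ideal.subset_span ⟨i, rfl⟩
  refine ⟨P ⧸ J, inferInstance, ι, π, ?_, ?_, ?_, ?_⟩
  · rw [show ι = algebraMap W (P ⧸ J) from rfl, RingHom.flat_algebraMap_iff]
    apply hW.flat_of_ann
    intro x hx
    obtain ⟨x, rfl⟩ := Ideal.Quotient.mk_surjective x
    rw [Algebra.smul_def] at hx
    change Ideal.Quotient.mk J ϖ' * Ideal.Quotient.mk J x = 0 at hx
    rw [← map_mul, Ideal.Quotient.eq_zero_iff_mem] at hx
    obtain ⟨r, hr⟩ := (Submodule.mem_span_range_iff_exists_fun P).1 hx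
    have h1 : ∑ i, r i * f i = ϖ' * (x + ∑ i, r i * h' i) := by
      rw [mul_add, ← hr, Finset.mul_sum, ← Finset.sum_add_distrib]
      apply Finset.sum_congr rfl
      intro i _
      simp only [f', smul_eq_mul]
      ring
    have h2 := hh r _ h1
    rw [map_add, map_sum] at h2
    have h3 : ∑ i, φ (r i * h' i) = ∑ i, φ (r i) * h i := by
      apply Finset.sum_congr rfl
      intro i _
      rw [map_mul, hh']
    rw [h3, add_eq_right] at h2
    obtain ⟨y, hy⟩ := hkey x h2
    refine ⟨y, ?_⟩
    rw [Algebra.smul_def]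
    exact hy
  · exact Ideal.Quotient.lift_surjective_of_surjective J hJ hφ
  · apply le_antisymm
    · intro x hx
      obtain ⟨x, rfl⟩ := Ideal.Quotient.mk_surjective x
      rw [RingHom.mem_ker, hπmk] at hx
      obtain ⟨y, hy⟩ := hkey x hx
      rw [hy]
      exact Ideal.mul_mem_right _ _ (Ideal.mem_span_singleton_self _)
    · rw [Ideal.span_le]
      intro x hx
      rw [Set.mem_singleton_iff] at hx
      rw [hx]
      change π (Ideal.Quotient.mk J ϖ') = 0
      rw [hπmk, hϖ]
  · ext w
    exact hπmk _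

theorem solvable_descent {P : Type v} [CommRing P] [Algebra W P] [IsNoetherianRing P]
    {A : Type w} {B : Type w} [CommRing A] [CommRing B] [Algebra A B]
    [Module.FaithfullyFlat A B] (φ : P →+* A) {m : ℕ} (f : Fin m → P)
    (hs : Solvable ϖ f ((algebraMap A B).comp φ)) : Solvable ϖ f φ := by
  obtain ⟨hB, hhB⟩ := hs
  set ϖ' := algebraMap W P ϖ with hϖ'
  let N : Submodule P ((Fin m → P) × P) :=
    { carrier := {x | ∑ i, x.1 i * f i = ϖ' * x.2}
      add_mem' := by
        intro x y hx hy
        simp only [Set.mem_setOf_eq, Prod.fst_add, Pi.add_apply, Prod.snd_add] at hx hy ⊢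
        simp only [add_mul, Finset.sum_add_distrib, hx, hy, mul_add]
      zero_mem' := by simp
      smul_mem' := by
        intro a x hx
        simp only [Set.mem_setOf_eq, Prod.smul_fst, Pi.smul_apply, smul_eq_mul,
          Prod.smul_snd] at hx ⊢
        simp only [mul_assoc, ← Finset.mul_sum, hx]
        ring }
  have hNfg : N.FG := IsNoetherian.noetherian N
  obtain ⟨t, s, hs⟩ := Submodule.fg_iff_exists_fin_generating_family.1 hNfg
  have hsN : ∀ j, ∑ i, (s j).1 i * f i = ϖ' * (s j).2 := by
    intro j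
    have : s j ∈ N := by rw [← hs]; exact Submodule.subset_span ⟨j, rfl⟩
    exact this
  let R : (Fin m → A) →ₗ[A] (Fin t → A) :=
    { toFun := fun h j => ∑ i, φ ((s j).1 i) * h i
      map_add' := by
        intro x y; ext j
        simp [mul_add, Finset.sum_add_distrib]
      map_smul' := by
        intro a x; ext j
        simp [Finset.mul_sum, mul_left_comm] }
  let ψ : Fin t → A := fun j => φ (s j).2
  have hψ : ψ ∈ LinearMap.range R := by
    rw [← Submodule.Quotient.mk_eq_zero]
    apply Module.FaithfullyFlat.tensorProduct_mk_injective (A := A) (B := B)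
    rw [map_zero]
    change (1 : B) ⊗ₜ[A] (LinearMap.range R).mkQ ψ = 0
    have h1 : ψ = ∑ j, ψ j • (Pi.single j (1 : A) : Fin t → A) := by
      ext j'
      simp [Finset.sum_apply, Pi.single_apply]
    have h2 : ∀ i, R (Pi.single i (1 : A)) = ∑ j, φ ((s j).1 i) • (Pi.single j (1 : A) : Fin t → A) := by
      intro i
      ext j'
      simp [R, Finset.sum_apply, Pi.single_apply]
    have h3 : ∀ j, algebraMap A B (ψ j) = ∑ i, algebraMap A B (φ ((s j).1 i)) * hB i :=
      fun j => hhB _ _ (hsN j)
    calc (1 : B) ⊗ₜ[A] (LinearMap.range R).mkQ ψ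
        = ∑ j, (algebraMap A B (ψ j)) ⊗ₜ[A] (LinearMap.range R).mkQ (Pi.single j (1 : A)) := by
          conv_lhs => rw [h1]
          rw [map_sum, TensorProduct.tmul_sum]
          apply Finset.sum_congr rfl
          intro j _
          rw [map_smul, ← TensorProduct.smul_tmul, Algebra.smul_def, mul_one]
      _ = ∑ j, ∑ i, (hB i) ⊗ₜ[A] (LinearMap.range R).mkQ
            (φ ((s j).1 i) • (Pi.single j (1 : A) : Fin t → A)) := by
          apply Finset.sum_congr rfl
          intro j _
          rw [h3, TensorProduct.sum_tmul]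
          apply Finset.sum_congr rfl
          intro i _
          rw [map_smul, ← TensorProduct.smul_tmul, Algebra.smul_def]
      _ = ∑ i, (hB i) ⊗ₜ[A] (LinearMap.range R).mkQ (R (Pi.single i (1 : A))) := by
          rw [Finset.sum_comm]
          apply Finset.sum_congr rfl
          intro i _
          rw [h2, map_sum, TensorProduct.tmul_sum]
      _ = 0 := by
          apply Finset.sum_eq_zero
          intro i _
          have : (LinearMap.range R).mkQ (R (Pi.single i (1 : A))) = 0 := by
            rw [Submodule.mkQ_apply, Submodule.Quotient.mk_eq_zero]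
            exact LinearMap.mem_range_self _ _
          rw [this, TensorProduct.tmul_zero]
  obtain ⟨h₀, hh₀⟩ := hψ
  refine ⟨h₀, ?_⟩
  intro r c hrc
  have hmem : ((r, c) : (Fin m → P) × P) ∈ Submodule.span P (Set.range s) := by
    rw [hs]; exact hrc
  have hgoal : ∀ x ∈ Submodule.span P (Set.range s), φ x.2 = ∑ i, φ (x.1 i) * h₀ i := by
    intro x hx
    induction hx using Submodule.span_induction with
    | mem x hx =>
      obtain ⟨j, rfl⟩ := hx
      have := congrFun hh₀ j
      exact this.symm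
    | zero => simp
    | add x y _ _ hx hy =>
      simp only [Prod.snd_add, Prod.fst_add, Pi.add_apply, map_add, add_mul,
        Finset.sum_add_distrib, hx, hy]
    | smul a x _ hx =>
      simp only [Prod.smul_snd, Prod.smul_fst, Pi.smul_apply, smul_eq_mul, map_mul, hx,
        Finset.mul_sum, mul_assoc]
  exact hgoal _ hmem

theorem absLift_descent (hW : IsLen2 W ϖ) {P A B : Type v} [CommRing P] [Algebra W P]
    [IsNoetherianRing P] [CommRing A] [CommRing B] [Algebra A B] [Module.FaithfullyFlat A B]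
    (φ : P →+* A) (hφ : Function.Surjective φ) (hϖ : φ (algebraMap W P ϖ) = 0)
    (hlift : ∀ (B' : Type v) [CommRing B'] (ι : W →+* B') (π : B' →+* B),
      Function.Surjective π → RingHom.ker π = Ideal.span {ι ϖ} →
      π.comp ι = ((algebraMap A B).comp φ).comp (algebraMap W P) →
      ∃ g : P →+* B', g.comp (algebraMap W P) = ι ∧ π.comp g = (algebraMap A B).comp φ)
    (hB : AbsLift ϖ (((algebraMap A B).comp φ).comp (algebraMap W P))) :
    AbsLift ϖ (φ.comp (algebraMap W P)) := by
  obtain ⟨m, f, hf⟩ := Submodule.fg_iff_exists_fin_generating_family.1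
    (IsNoetherian.noetherian (RingHom.ker φ))
  obtain ⟨B', _, ι, π, hflat, hsurj, hker, hcomm⟩ := hB
  obtain ⟨g, hg1, hg2⟩ := hlift B' ι π hsurj hker hcomm
  have hfz : ∀ i, φ (f i) = 0 := by
    intro i
    have : f i ∈ RingHom.ker φ := by
      rw [← hf]; exact Submodule.subset_span ⟨i, rfl⟩
    exact this
  have h1 : Solvable ϖ f (π.comp g) :=
    solvable_of_lift hW ι π hflat hker g hg1 f (by
      intro i
      have : (π.comp g) (f i) = 0 := by
        rw [hg2, RingHom.comp_apply, hfz, map_zero]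
      exact this)
  rw [hg2] at h1
  have h2 : Solvable ϖ f φ := solvable_descent φ f h1
  exact absLift_of_solvable hW φ hφ hϖ f hf.symm h2

end Groth.Agent.Lib.Helper12.W2LiftB
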