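import Mathlib
import Groth.Prelude.Def_W4c1liftfrobW2
import Groth.Agent.Lib.Helper12W2LiftA

set_option autoImplicit false
universe u

namespace Groth.Agent.Lib.Helper12.W2LiftC

open FrobAlg Groth.Agent.Lib.Helper12.W2LiftA

variable (p : ℕ) [Fact p.Prime] (k : Type u) [Field k] [CharP k p]

theorem natCast_eq_truncate : ((p : ℕ) : W2 p k) = WittVector.truncate 2 ((p : ℕ) : WittVector p k) :=
  (map_natCast (WittVector.truncate (p := p) (R := k) 2) p).symm

theorem coeff_zero_p_mul (w : W2 p k) : (((p : ℕ) : W2 p k) * w).coeff 0 = 0 := by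
  obtain ⟨X, rfl⟩ := WittVector.truncate_surjective p 2 k w
  rw [natCast_eq_truncate, ← map_mul, WittVector.coeff_truncate, mul_comm]
  exact WittVector.mul_charP_coeff_zero X

theorem coeff_one_p_mul (w : W2 p k) : (((p : ℕ) : W2 p k) * w).coeff 1 = w.coeff 0 ^ p := by
  obtain ⟨X, rfl⟩ := WittVector.truncate_surjective p 2 k w
  rw [natCast_eq_truncate, ← map_mul, WittVector.coeff_truncate, WittVector.coeff_truncate, mul_comm]
  exact WittVector.mul_charP_coeff_succ X 0

theorem exists_p_mul_of_coeff_zero [PerfectRing k p] (w : W2 p k) (hw : w.coeff 0 = 0) :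
    ∃ v : W2 p k, w = ((p : ℕ) : W2 p k) * v := by
  let b : k := (frobeniusEquiv k p).symm (w.coeff 1)
  have hb : b ^ p = w.coeff 1 := by
    have := (frobeniusEquiv k p).apply_symm_apply (w.coeff 1)
    rwa [frobeniusEquiv_def] at this
  refine ⟨TruncatedWittVector.mk p ![b, 0], ?_⟩
  ext i
  fin_cases i
  · change w.coeff 0 = (((p : ℕ) : W2 p k) * _).coeff 0
    rw [coeff_zero_p_mul, hw]
  · change w.coeff 1 = (((p : ℕ) : W2 p k) * _).coeff 1
    rw [coeff_one_p_mul, TruncatedWittVector.coeff_mk]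
    simp [hb]

theorem isLen2 [PerfectRing k p] : IsLen2 (W2 p k) ((p : ℕ) : W2 p k) := by
  refine ⟨?_, ?_, ?_⟩
  · ext i
    fin_cases i
    · change (((p : ℕ) : W2 p k) * _).coeff 0 = _
      rw [coeff_zero_p_mul]; exact (TruncatedWittVector.coeff_zero p 2 k _).symm
    · change (((p : ℕ) : W2 p k) * _).coeff 1 = _
      rw [coeff_one_p_mul]
      have : (((p : ℕ) : W2 p k)).coeff 0 = 0 := by
        have := coeff_zero_p_mul p k 1
        rwa [mul_one] at this
      rw [this, zero_pow (Fact.out : p.Prime).ne_zero]; exact (TruncatedWittVector.coeff_zero p 2 k _).symm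
  · intro w hw
    apply exists_p_mul_of_coeff_zero
    have h1 := coeff_one_p_mul p k w
    rw [hw] at h1
    have h2 : w.coeff 0 ^ p = 0 := by rw [← h1]; exact TruncatedWittVector.coeff_zero p 2 k _
    exact pow_eq_zero_iff (Fact.out : p.Prime).ne_zero |>.1 h2
  · intro w hw
    have h0 : w.coeff 0 ≠ 0 := by
      intro h0
      obtain ⟨v, rfl⟩ := exists_p_mul_of_coeff_zero p k w h0
      exact hw (Ideal.mul_mem_right _ _ (Ideal.mem_span_singleton_self _))
    obtain ⟨X, rfl⟩ := WittVector.truncate_surjective p 2 k w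
    rw [WittVector.coeff_truncate] at h0
    exact (WittVector.isUnit_of_coeff_zero_ne_zero X h0).map _

theorem ker_res [PerfectRing k p] :
    RingHom.ker (res p k) = Ideal.span {((p : ℕ) : W2 p k)} := by
  apply le_antisymm
  · intro w hw
    rw [RingHom.mem_ker, res_apply] at hw
    obtain ⟨v, rfl⟩ := exists_p_mul_of_coeff_zero p k w hw
    exact Ideal.mul_mem_right _ _ (Ideal.mem_span_singleton_self _)
  · rw [Ideal.span_le]
    intro x hx
    rw [Set.mem_singleton_iff] at hx
    rw [hx, SetLike.mem_coe, RingHom.mem_ker, res_apply]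
    have := coeff_zero_p_mul p k 1
    rwa [mul_one] at this

end Groth.Agent.Lib.Helper12.W2LiftC
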