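import Mathlib
import Groth.Prelude.Def_W4c1liftfrobW2
import Groth.Agent.Lib.Helper12W2LiftA
import Groth.Agent.Lib.Helper12W2LiftB
import Groth.Agent.Lib.Helper12W2LiftC

set_option autoImplicit false
universe u

namespace Groth.Agent.Lib.Helper12.W2LiftD

open FrobAlg Groth.Agent.Lib.Helper12.W2LiftA Groth.Agent.Lib.Helper12.W2LiftB
  Groth.Agent.Lib.Helper12.W2LiftC

/-- Units lift along a surjection with square-zero principal kernel. -/
theorem isUnit_of_map {B' B : Type*} [CommRing B'] [CommRing B] (π : B' →+* B)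
    (hπ : Function.Surjective π) (e : B') (he : e * e = 0)
    (hker : RingHom.ker π = Ideal.span {e}) (y : B') (hy : IsUnit (π y)) : IsUnit y := by
  obtain ⟨z', hz'⟩ := hy.exists_right_inv
  obtain ⟨z, rfl⟩ := hπ z'
  have h1 : y * z - 1 ∈ RingHom.ker π := by
    rw [RingHom.mem_ker, map_sub, map_mul, hz', map_one, sub_self]
  rw [hker] at h1
  obtain ⟨c, hc⟩ := Ideal.mem_span_singleton'.1 h1
  apply IsUnit.of_mul_eq_one (z * (1 - c * e))
  have h2 : y * z = 1 + c * e := by rw [hc]; ring
  calc y * (z * (1 - c * e)) = (y * z) * (1 - c * e) := by ring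
    _ = (1 + c * e) * (1 - c * e) := by rw [h2]
    _ = 1 - c * c * (e * e) := by ring
    _ = 1 := by rw [he, mul_zero, sub_zero]

theorem isW2Liftable_iff_absLift (p : ℕ) [Fact p.Prime] (k : Type u) [Field k] [CharP k p]
    [PerfectRing k p] (A : Type u) [CommRing A] [Algebra k A] :
    IsW2Liftable p k A ↔
      AbsLift ((p : ℕ) : W2 p k) ((algebraMap k A).comp (res p k)) := by
  have hk : ∀ {A' : Type u} [CommRing A'] (ι : W2 p k →+* A'),
      Ideal.map ι (RingHom.ker (res p k)) = Ideal.span {ι ((p : ℕ) : W2 p k)} := by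
    intro A' _ ι
    rw [ker_res, Ideal.map_span, Set.image_singleton]
  constructor
  · rintro ⟨A', _, ι, π, h⟩
    exact ⟨A', inferInstance, ι, π, h.flat, h.surj, by rw [h.ker_eq, hk], h.comm⟩
  · rintro ⟨A', _, ι, π, h1, h2, h3, h4⟩
    exact ⟨A', inferInstance, ι, π, ⟨h1, h2, by rw [h3, hk], h4⟩⟩

theorem main (p : ℕ) [Fact p.Prime] (k : Type u) [Field k] [CharP k p] [PerfectRing k p]
    (A B : Type u) [CommRing A] [CommRing B] [Algebra k A] [Algebra.EssFiniteType k A]
    [Algebra A B] [Module.FaithfullyFlat A B] [Algebra k B] [IsScalarTower k A B]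
    (hB : IsW2Liftable p k B) : IsW2Liftable p k A := by
  rw [isW2Liftable_iff_absLift] at hB ⊢
  have hW : IsLen2 (W2 p k) ((p : ℕ) : W2 p k) := isLen2 p k
  haveI : IsNoetherianRing (W2 p k) := hW.isNoetherianRing
  set ϖ : W2 p k := ((p : ℕ) : W2 p k) with hϖdef
  let ρ : W2 p k →+* A := (algebraMap k A).comp (res p k)
  have hρϖ : ρ ϖ = 0 := by
    have : ϖ ∈ RingHom.ker (res p k) := by
      rw [ker_res]; exact Ideal.mem_span_singleton_self _
    change algebraMap k A (res p k ϖ) = 0
    rw [this, map_zero]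
  obtain ⟨σ, hσ⟩ := (Algebra.essFiniteType_iff k A).1 (inferInstance : Algebra.EssFiniteType k A)
  let P₀ := MvPolynomial σ (W2 p k)
  let φ₀ : P₀ →+* A := MvPolynomial.eval₂Hom ρ (fun i => (i : A))
  have hφ₀C : ∀ w, φ₀ (MvPolynomial.C w) = ρ w := fun w => MvPolynomial.eval₂Hom_C _ _ _
  have hφ₀X : ∀ i, φ₀ (MvPolynomial.X i) = (i : A) := fun i => MvPolynomial.eval₂Hom_X' _ _ _
  let S : Submonoid P₀ := (IsUnit.submonoid A).comap φ₀
  have hS : ∀ y : S, IsUnit (φ₀ y) := fun y => y.2
  let P := Localization S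
  let φ : P →+* A := IsLocalization.lift (M := S) (S := P) hS
  have hφalg : ∀ x : P₀, φ (algebraMap P₀ P x) = φ₀ x := fun x => IsLocalization.lift_eq hS x
  have hφW : φ.comp (algebraMap (W2 p k) P) = ρ := by
    ext w
    rw [RingHom.comp_apply, IsScalarTower.algebraMap_apply (W2 p k) P₀ P, hφalg]
    exact hφ₀C w
  -- the range of φ₀ contains the adjoin
  have hrange : ∀ a ∈ Algebra.adjoin k (σ : Set A), ∃ x : P₀, φ₀ x = a := by
    let T : Subalgebra k A :=
      { φ₀.range with
        algebraMap_mem' := by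
          intro c
          obtain ⟨w, rfl⟩ : ∃ w : W2 p k, res p k w = c := by
            refine ⟨TruncatedWittVector.mk p ![c, 0], ?_⟩
            rw [res_apply, TruncatedWittVector.coeff_mk]
            rfl
          exact ⟨MvPolynomial.C w, hφ₀C w⟩ }
    have hle : Algebra.adjoin k (σ : Set A) ≤ T := by
      apply Algebra.adjoin_le
      intro a ha
      exact ⟨MvPolynomial.X ⟨a, ha⟩, hφ₀X _⟩
    intro a ha
    exact hle ha
  have hφsurj : Function.Surjective φ := by
    intro a
    obtain ⟨t, ht, htu, hat⟩ := hσ a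
    obtain ⟨T, rfl⟩ := hrange t ht
    obtain ⟨U, hU⟩ := hrange _ hat
    have hTS : T ∈ S := htu
    refine ⟨IsLocalization.mk' P U ⟨T, hTS⟩, ?_⟩
    have h1 : IsLocalization.mk' P U ⟨T, hTS⟩ * algebraMap P₀ P T = algebraMap P₀ P U :=
      IsLocalization.mk'_spec P U ⟨T, hTS⟩
    have h2 := congrArg φ h1
    rw [map_mul, hφalg, hφalg, hU] at h2
    exact htu.mul_left_injective h2
  haveI : IsNoetherianRing P₀ := inferInstance
  haveI : IsNoetherianRing P := IsLocalization.isNoetherianRing S P inferInstance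
  have hφϖ : φ (algebraMap (W2 p k) P ϖ) = 0 := by
    have := congrArg (fun f => f ϖ) hφW
    simpa [hρϖ] using this
  have hρB : ((algebraMap A B).comp φ).comp (algebraMap (W2 p k) P) =
      (algebraMap k B).comp (res p k) := by
    rw [RingHom.comp_assoc, hφW]
    ext w
    change algebraMap A B (algebraMap k A (res p k w)) = _
    rw [← IsScalarTower.algebraMap_apply]
    rfl
  change AbsLift ϖ ρ
  rw [← hφW]
  apply absLift_descent hW φ hφsurj hφϖ ?_ (by rw [hρB]; exact hB)
  intro B' _ ι π hπsurj hker hcomm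
  choose b' hb' using fun i : σ => hπsurj (algebraMap A B (i : A))
  let g₀ : P₀ →+* B' := MvPolynomial.eval₂Hom ι b'
  have hg₀ : π.comp g₀ = (algebraMap A B).comp φ₀ := by
    apply MvPolynomial.ringHom_ext
    · intro w
      simp only [RingHom.comp_apply]
      rw [show g₀ (MvPolynomial.C w) = ι w from MvPolynomial.eval₂Hom_C _ _ _, hφ₀C]
      have := congrArg (fun f => f w) hcomm
      simp only [RingHom.comp_apply] at this
      rw [this]
      congr 1
      exact congrArg (fun f => f w) hφW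
    · intro i
      simp only [RingHom.comp_apply]
      rw [show g₀ (MvPolynomial.X i) = b' i from MvPolynomial.eval₂Hom_X' _ _ _, hφ₀X, hb']
  have hιϖ : ι ϖ * ι ϖ = 0 := by rw [← map_mul, hW.sq, map_zero]
  have hgS : ∀ y : S, IsUnit (g₀ y) := by
    intro y
    apply isUnit_of_map π hπsurj (ι ϖ) hιϖ hker
    have : π (g₀ y) = algebraMap A B (φ₀ y) := congrArg (fun f => f (y : P₀)) hg₀
    rw [this]
    exact (hS y).map _
  let g : P →+* B' := IsLocalization.lift (M := S) (S := P) hgS
  have hgalg : ∀ x : P₀, g (algebraMap P₀ P x) = g₀ x := fun x => IsLocalization.lift_eq hgS x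
  refine ⟨g, ?_, ?_⟩
  · ext w
    rw [RingHom.comp_apply, IsScalarTower.algebraMap_apply (W2 p k) P₀ P, hgalg]
    exact MvPolynomial.eval₂Hom_C _ _ _
  · apply IsLocalization.ringHom_ext S
    refine RingHom.ext fun x => ?_
    simp only [RingHom.comp_apply]
    rw [hgalg, hφalg]
    exact congrArg (fun f => f x) hg₀

end Groth.Agent.Lib.Helper12.W2LiftD
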