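import Mathlib
import Groth.Agent.Lib.Helper13Tor
import Groth.Agent.Lib.Helper13TorNat
import Groth.Agent.Lib.Helper13AB
import Groth.Prelude.Def_CAlg

/-!
# Homology of `P ⊗ N` along regular sequences on `N`

For a complex `P` of projective modules and `r` regular on `N`, the short exact sequence of complexes
`0 → P ⊗ N → P ⊗ N → P ⊗ N/rN → 0` shifts vanishing ranges of homology by one, and shifts
"socle elements" of the top nonvanishing homology up by one degree.
-/

set_option autoImplicit false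
universe u
open CategoryTheory CategoryTheory.Limits MonoidalCategory
open scoped Pointwise

namespace Groth.Agent.Helper13Acyc

open Groth.Agent.Helper13Tor Groth.Agent.Helper13AB

variable {A : Type u} [CommRing A]

/-- `homologyMap` is linear. -/
theorem homologyMap_smul_id (K : ChainComplex (ModuleCat.{u} A) ℕ) (r : A) (i : ℕ) :
    HomologicalComplex.homologyMap (r • 𝟙 K) i = r • 𝟙 (K.homology i) := by
  have h1 : (HomologicalComplex.shortComplexFunctor (ModuleCat.{u} A) (ComplexShape.down ℕ) i).map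
      (r • 𝟙 K) = r • 𝟙 (K.sc i) := by
    ext <;> rfl
  show ShortComplex.homologyMap ((HomologicalComplex.shortComplexFunctor (ModuleCat.{u} A)
    (ComplexShape.down ℕ) i).map (r • 𝟙 K)) = _
  rw [h1, ShortComplex.homologyMap_smul, ShortComplex.homologyMap_id]
  rfl

variable (P : ChainComplex (ModuleCat.{u} A) ℕ)

theorem tRmap_smul_id (N : ModuleCat.{u} A) (r : A) :
    tRmap P (r • 𝟙 N) = r • 𝟙 (tR P N) := by
  refine HomologicalComplex.hom_ext _ _ fun j => ?_
  show P.X j ◁ (r • 𝟙 N) = r • 𝟙 (P.X j ⊗ N)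
  apply ModuleCat.hom_ext
  apply TensorProduct.ext'
  intro p n
  show p ⊗ₜ[A] (r • n) = r • (p ⊗ₜ[A] n)
  rw [TensorProduct.tmul_smul]

/-- homology of `P ⊗ N` -/
noncomputable abbrev HN (N : Type u) [AddCommGroup N] [Module A N] (i : ℕ) : ModuleCat.{u} A :=
  (tR P (ModuleCat.of A N)).homology i

variable (hP : ∀ j, Projective (P.X j))

include hP in
theorem isZero_HN_succ_quot (N : Type u) [AddCommGroup N] [Module A N] (r : A)
    (hr : IsSMulRegular N r) (i : ℕ) (h1 : IsZero (HN P N (i + 1))) (h0 : IsZero (HN P N i)) :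
    IsZero (HN P (QuotSMulTop r N) (i + 1)) := by
  have hT := tSC'_shortExact P hP (sesQ N r) (sesQ_shortExact N r hr)
  exact (hT.homology_exact₃ (i + 1) i rfl).isZero_of_both_zeros (h1.eq_of_src _ _)
    (h0.eq_of_tgt _ _)

include hP in
theorem exists_HN_succ_quot (N : Type u) [AddCommGroup N] [Module A N] (r : A)
    (hr : IsSMulRegular N r) (i : ℕ) (h1 : IsZero (HN P N (i + 1))) (ξ : HN P N i)
    (hrξ : r • ξ = 0) :
    ∃ (δ : HN P (QuotSMulTop r N) (i + 1) ⟶ HN P N i) (η : HN P (QuotSMulTop r N) (i + 1)),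
      Function.Injective δ.hom ∧ δ.hom η = ξ := by
  have hT := tSC'_shortExact P hP (sesQ N r) (sesQ_shortExact N r hr)
  have hrel : (ComplexShape.down ℕ).Rel (i + 1) i := rfl
  have hmono : Mono (hT.δ (i + 1) i hrel) :=
    (hT.homology_exact₃ (i + 1) i hrel).mono_g (h1.eq_of_src _ _)
  have hex := hT.homology_exact₁ (i + 1) i hrel
  rw [ShortComplex.moduleCat_exact_iff] at hex
  have hf : HomologicalComplex.homologyMap (tSC' P (sesQ N r)).f i = r • 𝟙 _ := by
    show HomologicalComplex.homologyMap (tRmap P (r • 𝟙 (ModuleCat.of A N))) i = _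
    rw [tRmap_smul_id, homologyMap_smul_id]
    rfl
  obtain ⟨η, hη⟩ := hex ξ (by
    show (HomologicalComplex.homologyMap (tSC' P (sesQ N r)).f i).hom ξ = 0
    rw [hf]
    exact hrξ)
  exact ⟨hT.δ (i + 1) i hrel, η, (ModuleCat.mono_iff_injective _).1 hmono, hη⟩


/-- functoriality of `P ⊗ N` in `N` (isomorphisms) -/
noncomputable def tRIso {N N' : ModuleCat.{u} A} (e : N ≅ N') : tR P N ≅ tR P N' :=
  (NatIso.mapHomologicalComplex ((tensoringRight (ModuleCat.{u} A)).mapIso e)
    (ComplexShape.down ℕ)).app P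

/-- `H_i(P ⊗ N) ≃ H_i(P ⊗ N')` for `N ≃ N'`. -/
noncomputable def HNequiv {N N' : Type u} [AddCommGroup N] [Module A N] [AddCommGroup N']
    [Module A N'] (e : N ≃ₗ[A] N') (i : ℕ) : HN P N i ≃ₗ[A] HN P N' i :=
  ((HomologicalComplex.homologyFunctor _ _ i).mapIso (tRIso P e.toModuleIso)).toLinearEquiv

theorem isZero_HN_of_equiv {N N' : Type u} [AddCommGroup N] [Module A N] [AddCommGroup N']
    [Module A N'] (e : N ≃ₗ[A] N') (i : ℕ) (h : IsZero (HN P N i)) : IsZero (HN P N' i) :=
  h.of_iso ((HomologicalComplex.homologyFunctor _ _ i).mapIso (tRIso P e.toModuleIso)).symm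

/-- `P ⊗ A ≅ P`. -/
noncomputable def tRUnit : tR P (ModuleCat.of A A) ≅ P :=
  (NatIso.mapHomologicalComplex (rightUnitorNatIso (ModuleCat.{u} A)) (ComplexShape.down ℕ)).app P
    ≪≫ (Functor.mapHomologicalComplexIdIso (ModuleCat.{u} A) (ComplexShape.down ℕ)).app P

/-- `H_i(P ⊗ A) ≃ H_i(P)`. -/
noncomputable def HNunit (i : ℕ) : HN P A i ≃ₗ[A] P.homology i :=
  ((HomologicalComplex.homologyFunctor _ _ i).mapIso (tRUnit P)).toLinearEquiv

include hP in
/-- Vanishing of `H_i(P ⊗ N)` for `i ≥ lo` gives vanishing of `H_i(P ⊗ N/(rs)N)` for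
`i ≥ lo + length rs`. -/
theorem van_iter {N : Type u} [AddCommGroup N] [Module A N] {rs : List A}
    (hrs : RingTheory.Sequence.IsWeaklyRegular N rs) (lo : ℕ)
    (h : ∀ i, lo ≤ i → IsZero (HN P N i)) :
    ∀ i, lo + rs.length ≤ i →
      IsZero (HN P (N ⧸ (Ideal.ofList rs • (⊤ : Submodule A N))) i) := by
  induction hrs generalizing lo with
  | nil N =>
    intro i hi
    have e : (N ⧸ (Ideal.ofList ([] : List A) • (⊤ : Submodule A N))) ≃ₗ[A] N :=
      Submodule.quotEquivOfEqBot _ (by simp)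
    exact isZero_HN_of_equiv P e.symm i (h i (by simpa using hi))
  | @cons N _ _ r rs h1 h2 ih =>
    intro i hi
    have h' : ∀ i, lo + 1 ≤ i → IsZero (HN P (QuotSMulTop r N) i) := by
      intro i hi
      obtain ⟨i', rfl⟩ : ∃ i', i = i' + 1 := ⟨i - 1, by omega⟩
      exact isZero_HN_succ_quot P hP N r h1 i' (h _ (by omega)) (h _ (by omega))
    have := ih (lo + 1) h' i (by rw [List.length_cons] at hi; omega)
    exact isZero_HN_of_equiv P
      (Submodule.quotOfListConsSMulTopEquivQuotSMulTopInner N r rs).symm i this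

/-- `t` is the top nonvanishing degree of `H(P ⊗ N)` and `H_t(P ⊗ N)` has a nonzero element
killed by `𝔪`. -/
structure Soc (𝔪 : Ideal A) (N : Type u) [AddCommGroup N] [Module A N] (t : ℕ) : Prop where
  van : ∀ i, t < i → IsZero (HN P N i)
  soc : ∃ ξ : HN P N t, ξ ≠ 0 ∧ ∀ m ∈ 𝔪, m • ξ = 0

variable {P}

theorem Soc.of_equiv {𝔪 : Ideal A} {N N' : Type u} [AddCommGroup N] [Module A N]
    [AddCommGroup N'] [Module A N'] (e : N ≃ₗ[A] N') {t : ℕ} (h : Soc P 𝔪 N t) :
    Soc P 𝔪 N' t where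
  van i hi := isZero_HN_of_equiv P e i (h.van i hi)
  soc := by
    obtain ⟨ξ, hξ, hm⟩ := h.soc
    refine ⟨HNequiv P e t ξ, ?_, ?_⟩
    · intro h0
      exact hξ ((HNequiv P e t).map_eq_zero_iff.1 h0)
    · intro m hm'
      rw [← map_smul, hm m hm', map_zero]

include hP in
theorem Soc.quot {𝔪 : Ideal A} {N : Type u} [AddCommGroup N] [Module A N] {t : ℕ}
    (h : Soc P 𝔪 N t) (r : A) (hr𝔪 : r ∈ 𝔪) (hr : IsSMulRegular N r) :
    Soc P 𝔪 (QuotSMulTop r N) (t + 1) where
  van i hi := by
    obtain ⟨i', rfl⟩ : ∃ i', i = i' + 1 := ⟨i - 1, by omega⟩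
    exact isZero_HN_succ_quot P hP N r hr i' (h.van _ (by omega)) (h.van _ (by omega))
  soc := by
    obtain ⟨ξ, hξ, hm⟩ := h.soc
    obtain ⟨δ, η, hδ, hη⟩ := exists_HN_succ_quot P hP N r hr t (h.van _ (by omega)) ξ
      (hm r hr𝔪)
    refine ⟨η, ?_, ?_⟩
    · rintro rfl
      exact hξ (by rw [← hη, map_zero])
    · intro m hm'
      apply hδ
      rw [map_smul, hη, hm m hm', map_zero]

include hP in
theorem Soc.iter {𝔪 : Ideal A} {N : Type u} [AddCommGroup N] [Module A N] {rs : List A}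
    (hrs : RingTheory.Sequence.IsWeaklyRegular N rs) (hmem : ∀ r ∈ rs, r ∈ 𝔪) {t : ℕ}
    (h : Soc P 𝔪 N t) :
    Soc P 𝔪 (N ⧸ (Ideal.ofList rs • (⊤ : Submodule A N))) (t + rs.length) := by
  induction hrs generalizing t with
  | nil N =>
    have e : (N ⧸ (Ideal.ofList ([] : List A) • (⊤ : Submodule A N))) ≃ₗ[A] N :=
      Submodule.quotEquivOfEqBot _ (by simp)
    exact h.of_equiv e.symm
  | @cons N _ _ r rs h1 h2 ih =>
    have h' := h.quot hP r (hmem r List.mem_cons_self) h1
    have := ih (fun r' hr' => hmem r' (List.mem_cons_of_mem _ hr')) h'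
    have hlen : t + 1 + rs.length = t + (r :: rs).length := by
      rw [List.length_cons]; omega
    rw [hlen] at this
    exact this.of_equiv (Submodule.quotOfListConsSMulTopEquivQuotSMulTopInner N r rs).symm


section local_

variable [IsLocalRing A]

/-- If `d : X → Y` has image in `𝔪 Y` then `d ⊗ A/𝔪 = 0`. -/
theorem rTensor_residue_eq_zero {X Y : Type u} [AddCommGroup X] [Module A X] [AddCommGroup Y]
    [Module A Y] (𝔪 : Ideal A) (d : X →ₗ[A] Y)
    (hd : LinearMap.range d ≤ 𝔪 • (⊤ : Submodule A Y)) :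
    LinearMap.rTensor (A ⧸ 𝔪) d = 0 := by
  apply TensorProduct.ext'
  intro x c
  show d x ⊗ₜ[A] c = 0
  have hx : d x ∈ 𝔪 • (⊤ : Submodule A Y) := hd (LinearMap.mem_range_self d x)
  refine Submodule.smul_induction_on hx ?_ ?_
  · intro m hm y _
    rw [TensorProduct.smul_tmul]
    obtain ⟨s, rfl⟩ := Submodule.Quotient.mk_surjective _ c
    have : m • (Submodule.Quotient.mk s : A ⧸ 𝔪) = 0 := by
      rw [← Submodule.Quotient.mk_smul, Submodule.Quotient.mk_eq_zero]
      exact 𝔪.mul_mem_right s hm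
    rw [this, TensorProduct.tmul_zero]
  · intro y y' hy hy'
    rw [TensorProduct.add_tmul, hy, hy', add_zero]

/-- The key step of the acyclicity lemma: if `F_{k+1} = 0`, `F_k` is finite flat,
`d_k(F_k) ⊆ 𝔪 F_{k-1}`, `A/𝔪 ↪ N` and `H_k(F ⊗ N) = 0` then `F_k = 0`. -/
theorem isZero_top_of_isZero_HN (F : ChainComplex (ModuleCat.{u} A) ℕ) (k : ℕ)
    (hbd : IsZero (F.X (k + 1))) [Module.Finite A (F.X k)] [Module.Flat A (F.X k)]
    (hmin : LinearMap.range (F.d k ((ComplexShape.down ℕ).next k)).hom ≤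
      IsLocalRing.maximalIdeal A • (⊤ : Submodule A (F.X ((ComplexShape.down ℕ).next k))))
    (N : Type u) [AddCommGroup N] [Module A N]
    (ι : (A ⧸ IsLocalRing.maximalIdeal A) →ₗ[A] N) (hι : Function.Injective ι)
    (h : IsZero (HN F N k)) : IsZero (F.X k) := by
  have hex : ((tR F (ModuleCat.of A N)).sc k).Exact := by
    rw [← HomologicalComplex.exactAt_iff, HomologicalComplex.exactAt_iff_isZero_homology]
    exact h
  have hz : IsZero ((tR F (ModuleCat.of A N)).X ((ComplexShape.down ℕ).prev k)) := by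
    rw [ChainComplex.prev]
    exact Functor.map_isZero (tensorRight (ModuleCat.of A N)) hbd
  have hf0 : ((tR F (ModuleCat.of A N)).sc k).f = 0 := hz.eq_of_src _ _
  have hmono : Mono ((tR F (ModuleCat.of A N)).sc k).g := (ShortComplex.exact_iff_mono _ hf0).1 hex
  have hinj : Function.Injective
      (LinearMap.rTensor N (F.d k ((ComplexShape.down ℕ).next k)).hom) :=
    (ModuleCat.mono_iff_injective _).1 hmono
  have hcomm : LinearMap.rTensor N (F.d k ((ComplexShape.down ℕ).next k)).hom ∘ₗ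
      LinearMap.lTensor (F.X k) ι =
      LinearMap.lTensor (F.X ((ComplexShape.down ℕ).next k)) ι ∘ₗ
        LinearMap.rTensor (A ⧸ IsLocalRing.maximalIdeal A)
          (F.d k ((ComplexShape.down ℕ).next k)).hom := by
    rw [LinearMap.rTensor_comp_lTensor, LinearMap.lTensor_comp_rTensor]
  have hinj' : Function.Injective (LinearMap.lTensor (F.X k) ι) :=
    Module.Flat.lTensor_preserves_injective_linearMap ι hι
  have hsub : Subsingleton (TensorProduct A (F.X k) (A ⧸ IsLocalRing.maximalIdeal A)) := by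
    refine ⟨fun z z' => ?_⟩
    apply hinj'
    apply hinj
    have h1 := LinearMap.congr_fun hcomm z
    have h2 := LinearMap.congr_fun hcomm z'
    rw [rTensor_residue_eq_zero _ _ hmin] at h1 h2
    simp only [LinearMap.comp_apply, LinearMap.zero_apply, map_zero] at h1 h2
    rw [h1, h2]
  have hsub' : Subsingleton (F.X k ⧸ (IsLocalRing.maximalIdeal A • (⊤ : Submodule A (F.X k)))) :=
    (TensorProduct.tensorQuotEquivQuotSMul (F.X k) (IsLocalRing.maximalIdeal A)).symm.toEquiv.subsingleton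
  rw [Submodule.Quotient.subsingleton_iff] at hsub'
  have hbot : (⊤ : Submodule A (F.X k)) = ⊥ :=
    Submodule.eq_bot_of_le_smul_of_le_jacobson_bot (IsLocalRing.maximalIdeal A) ⊤
      Module.Finite.fg_top hsub'.ge (IsLocalRing.maximalIdeal_le_jacobson ⊥)
  have : Subsingleton (F.X k) := by
    rw [← Submodule.subsingleton_iff A]
    exact subsingleton_of_bot_eq_top hbot.symm
  exact ModuleCat.isZero_of_subsingleton _

/-- From `depth A = d` we get a maximal weakly regular sequence of length `d` in `𝔪`. -/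
theorem exists_max_regular_seq (d : ℕ) (hd : LocCoh.depth A A = d) :
    ∃ rs : List A, RingTheory.Sequence.IsWeaklyRegular A rs ∧
      (∀ r ∈ rs, r ∈ IsLocalRing.maximalIdeal A) ∧ rs.length = d ∧
      ∀ x ∈ IsLocalRing.maximalIdeal A,
        ¬ IsSMulRegular (A ⧸ (Ideal.ofList rs • (⊤ : Submodule A A))) x := by
  classical
  unfold LocCoh.depth LocCoh.idealDepth at hd
  split_ifs at hd with htop
  · exact absurd hd (ENat.top_ne_natCast d)
  have hle : ∀ rs : List A, (RingTheory.Sequence.IsWeaklyRegular A rs ∧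
      ∀ r ∈ rs, r ∈ IsLocalRing.maximalIdeal A) → rs.length ≤ d := by
    intro rs h
    have := le_iSup₂ (f := fun (rs : List A) (_ : RingTheory.Sequence.IsWeaklyRegular A rs ∧
      ∀ r ∈ rs, r ∈ IsLocalRing.maximalIdeal A) => (rs.length : ℕ∞)) rs h
    rw [hd] at this
    exact_mod_cast this
  have hex : ∃ rs : List A, (RingTheory.Sequence.IsWeaklyRegular A rs ∧
      ∀ r ∈ rs, r ∈ IsLocalRing.maximalIdeal A) ∧ rs.length = d := by
    by_contra hne
    push Not at hne
    rcases Nat.eq_zero_or_pos d with rfl | hpos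
    · exact hne [] ⟨RingTheory.Sequence.IsWeaklyRegular.nil A A, by simp⟩ rfl
    · have hle' : (⨆ (rs : List A) (_ : RingTheory.Sequence.IsWeaklyRegular A rs ∧
          ∀ r ∈ rs, r ∈ IsLocalRing.maximalIdeal A), (rs.length : ℕ∞)) ≤ ((d - 1 : ℕ) : ℕ∞) := by
        apply iSup₂_le
        intro rs h
        have h1 := hle rs h
        have h2 := hne rs h
        exact_mod_cast (show rs.length ≤ d - 1 by omega)
      rw [hd] at hle'
      have : d ≤ d - 1 := by exact_mod_cast hle'
      omega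
  obtain ⟨rs, ⟨hrs, hmem⟩, hlen⟩ := hex
  refine ⟨rs, hrs, hmem, hlen, ?_⟩
  intro x hx hreg
  have h1 : RingTheory.Sequence.IsWeaklyRegular A (rs ++ [x]) := by
    rw [RingTheory.Sequence.isWeaklyRegular_append_iff]
    exact ⟨hrs, (RingTheory.Sequence.isWeaklyRegular_singleton_iff _ x).2 hreg⟩
  have h2 := hle (rs ++ [x]) ⟨h1, by
    intro r hr
    rcases List.mem_append.1 hr with hr | hr
    · exact hmem r hr
    · rw [List.mem_singleton] at hr
      rw [hr]
      exact hx⟩
  rw [List.length_append, List.length_singleton] at h2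
  omega

/-- A nonzero module of finite length over a local ring has a nonzero element killed by `𝔪`. -/
theorem exists_socle (M : Type u) [AddCommGroup M] [Module A M] [Nontrivial M]
    (h : IsFiniteLength A M) :
    ∃ ξ : M, ξ ≠ 0 ∧ ∀ m ∈ IsLocalRing.maximalIdeal A, m • ξ = 0 := by
  rw [isFiniteLength_iff_isNoetherian_isArtinian] at h
  obtain ⟨_, _⟩ := h
  obtain ⟨S, hS⟩ := IsAtomic.exists_atom (Submodule A M)
  have hsimple : IsSimpleModule A S := isSimpleModule_iff_isAtom.2 hS
  obtain ⟨I, hI, ⟨e⟩⟩ := isSimpleModule_iff_quot_maximal.1 hsimple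
  have hI' : I = IsLocalRing.maximalIdeal A := IsLocalRing.eq_maximalIdeal hI
  subst hI'
  have : Nontrivial (A ⧸ IsLocalRing.maximalIdeal A) :=
    Ideal.Quotient.nontrivial_iff.2 hI.ne_top
  refine ⟨(e.symm 1 : S), ?_, ?_⟩
  · intro h0
    have : e.symm 1 = 0 := Subtype.ext h0
    rw [LinearEquiv.map_eq_zero_iff] at this
    exact one_ne_zero this
  · intro m hm
    have : m • (1 : A ⧸ IsLocalRing.maximalIdeal A) = 0 := by
      show m • (Submodule.Quotient.mk (1 : A) : A ⧸ IsLocalRing.maximalIdeal A) = 0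
      rw [← Submodule.Quotient.mk_smul, Submodule.Quotient.mk_eq_zero]
      exact Ideal.mul_mem_right _ _ hm
    rw [← Submodule.coe_smul, ← map_smul, this, map_zero, Submodule.coe_zero]

end local_

end Groth.Agent.Helper13Acyc
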