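import Mathlib
import Groth.Prelude.Def_Adeq

/-!
# Adequate functors: foundations (helper13)

General pointwise criteria for presheaves of modules (`PshMod`), and the characterisation of adequate
functors through pointwise exactness.
-/

set_option autoImplicit false
universe u v v₁ u₁
open CategoryTheory Limits Opposite TensorProduct

namespace Groth.Agent.Helper13Adeq

namespace PshMod

variable {C : Type u₁} [Category.{v₁} C] {R : Cᵒᵖ ⥤ RingCat.{u}}

instance (X : Cᵒᵖ) : (PresheafOfModules.evaluation.{v} R X).PreservesHomology := {}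

theorem exact_app (S : ShortComplex (PresheafOfModules.{v} R)) (hS : S.Exact) (X : Cᵒᵖ) :
    Function.Exact (S.f.app X) (S.g.app X) := by
  have h1 : (S.map (PresheafOfModules.evaluation.{v} R X)).Exact := hS.map _
  rw [ShortComplex.ShortExact.moduleCat_exact_iff_function_exact] at h1
  exact h1

theorem exact_of_app (S : ShortComplex (PresheafOfModules.{v} R))
    (h : ∀ X, Function.Exact (S.f.app X) (S.g.app X)) : S.Exact := by
  rw [ShortComplex.exact_iff_kernel_ι_comp_cokernel_π_zero]
  ext X x
  have h1 : S.g.app X ((kernel.ι S.g).app X x) = 0 := by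
    have := congrArg (fun ψ => ψ.app X x) (kernel.condition S.g)
    exact this
  obtain ⟨z, hz⟩ := (h X _).1 h1
  have h2 : (cokernel.π S.f).app X (S.f.app X z) = 0 := by
    have := congrArg (fun ψ => ψ.app X z) (cokernel.condition S.f)
    exact this
  change (cokernel.π S.f).app X ((kernel.ι S.g).app X x) = 0
  rw [← hz, h2]

theorem exact_iff_app (S : ShortComplex (PresheafOfModules.{v} R)) :
    S.Exact ↔ ∀ X, Function.Exact (S.f.app X) (S.g.app X) :=
  ⟨exact_app S, exact_of_app S⟩

theorem isIso_of_bijective {M N : PresheafOfModules.{v} R} (f : M ⟶ N)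
    (h : ∀ X, Function.Bijective (f.app X)) : IsIso f := by
  have : Mono f := PresheafOfModules.mono_of_injective (fun X => (h X).1)
  have : Epi f := PresheafOfModules.epi_of_surjective (fun X => (h X).2)
  exact isIso_of_mono_of_epi f

theorem bijective_of_isIso {M N : PresheafOfModules.{v} R} (f : M ⟶ N) [IsIso f] (X : Cᵒᵖ) :
    Function.Bijective (f.app X) :=
  ⟨PresheafOfModules.injective_of_mono f X, PresheafOfModules.surjective_of_epi f X⟩

theorem comp_app_apply {M N P : PresheafOfModules.{v} R} (f : M ⟶ N) (g : N ⟶ P) (X : Cᵒᵖ)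
    (x : M.obj X) : (f ≫ g).app X x = g.app X (f.app X x) := rfl

theorem hom_inv_app_apply {M N : PresheafOfModules.{v} R} (e : M ≅ N) (X : Cᵒᵖ) (x : M.obj X) :
    e.inv.app X (e.hom.app X x) = x := by
  rw [← comp_app_apply, e.hom_inv_id]; rfl

theorem inv_hom_app_apply {M N : PresheafOfModules.{v} R} (e : M ≅ N) (X : Cᵒᵖ) (x : N.obj X) :
    e.hom.app X (e.inv.app X x) = x := by
  rw [← comp_app_apply, e.inv_hom_id]; rfl

/-- a morphism `i` with `i ≫ g = 0`, pointwise injective and pointwise exact, is a kernel of `g`. -/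
noncomputable def isoKernel {F M N : PresheafOfModules.{v} R} (i : F ⟶ M) (g : M ⟶ N)
    (hi : ∀ X, Function.Injective (i.app X))
    (hex : ∀ X, Function.Exact (i.app X) (g.app X)) : F ≅ kernel g := by
  have w : i ≫ g = 0 := by
    ext X x
    exact (hex X (i.app X x)).2 ⟨x, rfl⟩
  let S := ShortComplex.mk i g w
  have hS : S.Exact := exact_of_app S hex
  have : Mono S.f := PresheafOfModules.mono_of_injective (fun X => hi X)
  exact IsLimit.conePointUniqueUpToIso hS.fIsKernel (limit.isLimit _)

theorem isoKernel_hom_ι {F M N : PresheafOfModules.{v} R} (i : F ⟶ M) (g : M ⟶ N)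
    (hi : ∀ X, Function.Injective (i.app X))
    (hex : ∀ X, Function.Exact (i.app X) (g.app X)) :
    (isoKernel i g hi hex).hom ≫ kernel.ι g = i := by
  unfold isoKernel
  exact IsLimit.conePointUniqueUpToIso_hom_comp _ _ WalkingParallelPair.zero

theorem kernel_ι_injective {M N : PresheafOfModules.{v} R} (g : M ⟶ N) (X : Cᵒᵖ) :
    Function.Injective ((kernel.ι g).app X) :=
  PresheafOfModules.injective_of_mono _ X

theorem kernel_ι_exact {M N : PresheafOfModules.{v} R} (g : M ⟶ N) (X : Cᵒᵖ) :
    Function.Exact ((kernel.ι g).app X) (g.app X) :=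
  exact_app (ShortComplex.mk (kernel.ι g) g (kernel.condition g))
    (ShortComplex.exact_of_f_is_kernel _ (kernelIsKernel g)) X

theorem cokernel_π_surjective {M N : PresheafOfModules.{v} R} (f : M ⟶ N) (X : Cᵒᵖ) :
    Function.Surjective ((cokernel.π f).app X) :=
  PresheafOfModules.surjective_of_epi _ X

theorem cokernel_π_exact {M N : PresheafOfModules.{v} R} (f : M ⟶ N) (X : Cᵒᵖ) :
    Function.Exact (f.app X) ((cokernel.π f).app X) :=
  exact_app (ShortComplex.mk f (cokernel.π f) (cokernel.condition f))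
    (ShortComplex.exact_of_g_is_cokernel _ (cokernelIsCokernel f)) X

end PshMod

open Adeq

variable {A : Type u} [CommRing A]

@[simp] theorem underline_map_app_apply {M N : ModuleCat.{u + 1} A} (φ : M ⟶ N) (B : Alg A)
    (x : B ⊗[A] M) : ((underline A).map φ).app (pt B) x = (φ.hom.baseChange B) x := rfl

@[simp] theorem underline_obj_map_apply (M : ModuleCat.{u + 1} A) {B B' : Alg A} (f : B ⟶ B')
    (x : B ⊗[A] M) :
    ((underline A).obj M).map (ptHom f) x = (f.hom.toLinearMap.rTensor M) x := rfl

theorem adequate_iff (F : MVF A) : adequate A F ↔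
    ∃ (M N : ModuleCat.{u + 1} A) (φ : M ⟶ N) (i : F ⟶ (underline A).obj M),
      (∀ B : Alg A, Function.Injective (i.app (pt B))) ∧
      ∀ B : Alg A, Function.Exact (i.app (pt B)) (((underline A).map φ).app (pt B)) := by
  constructor
  · rintro ⟨M, N, φ, ⟨e⟩⟩
    refine ⟨M, N, φ, e.hom ≫ kernel.ι _, fun B => ?_, fun B => ?_⟩
    · have : Mono (e.hom ≫ kernel.ι ((underline A).map φ)) := inferInstance
      exact PresheafOfModules.injective_of_mono _ (pt B)
    · intro y
      rw [PshMod.kernel_ι_exact ((underline A).map φ) (pt B) y]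
      constructor
      · rintro ⟨x, rfl⟩
        exact ⟨e.inv.app (pt B) x, by
          rw [PshMod.comp_app_apply, PshMod.inv_hom_app_apply]⟩
      · rintro ⟨x, rfl⟩
        exact ⟨e.hom.app (pt B) x, rfl⟩
  · rintro ⟨M, N, φ, i, hi, hex⟩
    refine ⟨M, N, φ, ⟨PshMod.isoKernel i _ (fun X => ?_) (fun X => ?_)⟩⟩
    · exact hi X.unop.unop
    · exact hex X.unop.unop

theorem linAdequate_iff (F : MVF A) : linAdequate A F ↔
    ∃ (M N : ModuleCat.{u + 1} A) (φ : M ⟶ N) (i : F ⟶ (underline A).obj M),
      Module.Finite A M ∧ Module.Free A M ∧ Module.Finite A N ∧ Module.Free A N ∧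
      (∀ B : Alg A, Function.Injective (i.app (pt B))) ∧
      ∀ B : Alg A, Function.Exact (i.app (pt B)) (((underline A).map φ).app (pt B)) := by
  constructor
  · rintro ⟨M, N, φ, h1, h2, h3, h4, ⟨e⟩⟩
    refine ⟨M, N, φ, e.hom ≫ kernel.ι _, h1, h2, h3, h4, fun B => ?_, fun B => ?_⟩
    · have : Mono (e.hom ≫ kernel.ι ((underline A).map φ)) := inferInstance
      exact PresheafOfModules.injective_of_mono _ (pt B)
    · intro y
      rw [PshMod.kernel_ι_exact ((underline A).map φ) (pt B) y]
      constructor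
      · rintro ⟨x, rfl⟩
        exact ⟨e.inv.app (pt B) x, by
          rw [PshMod.comp_app_apply, PshMod.inv_hom_app_apply]⟩
      · rintro ⟨x, rfl⟩
        exact ⟨e.hom.app (pt B) x, rfl⟩
  · rintro ⟨M, N, φ, i, h1, h2, h3, h4, hi, hex⟩
    refine ⟨M, N, φ, h1, h2, h3, h4, ⟨PshMod.isoKernel i _ (fun X => ?_) (fun X => ?_)⟩⟩
    · exact hi X.unop.unop
    · exact hex X.unop.unop

theorem adequate_of_linAdequate {F : MVF A} (h : linAdequate A F) : adequate A F := by
  obtain ⟨M, N, φ, _, _, _, _, e⟩ := h
  exact ⟨M, N, φ, e⟩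

end Groth.Agent.Helper13Adeq
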