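import Mathlib
import Groth.Agent.Lib.Helper13AdeqA

set_option autoImplicit false
universe u v w
open CategoryTheory Limits Opposite TensorProduct

namespace Groth.Agent.Helper13Adeq

theorem lTensor_sum_single {A : Type u} [CommRing A] {M : Type v} [AddCommGroup M] [Module A M]
    (B : Type w) [AddCommGroup B] [Module A B] {n : ℕ} (b : Fin n → B) (m : Fin n → M) :
    (Fintype.linearCombination A m).lTensor B (∑ k, b k ⊗ₜ[A] (Pi.single k (1 : A) : Fin n → A)) =
      ∑ k, b k ⊗ₜ[A] m k := by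
  rw [map_sum]
  refine Finset.sum_congr rfl (fun k _ => ?_)
  rw [LinearMap.lTensor_tmul, Fintype.linearCombination_apply_single, one_smul]

theorem rTensor_comm {A : Type u} [CommRing A] {P Q : Type*} [AddCommGroup P] [Module A P]
    [AddCommGroup Q] [Module A Q] (B : Type w) [AddCommGroup B] [Module A B] (f : P →ₗ[A] Q)
    (t : B ⊗[A] P) :
    f.rTensor B (TensorProduct.comm A B P t) = TensorProduct.comm A B Q (f.lTensor B t) := by
  induction t using TensorProduct.induction_on with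
  | zero => simp
  | tmul x y => simp
  | add x y hx hy => simp only [map_add, hx, hy]

/-- vanishing in a tensor product happens over a finitely generated submodule (second factor) -/
theorem eq_zero_of_fg_lTensor {A : Type u} [CommRing A] {N : Type v} [AddCommGroup N] [Module A N]
    (B : Type w) [AddCommGroup B] [Module A B] {P : Submodule A N} (hP : P.FG) (t : B ⊗[A] P)
    (h : P.subtype.lTensor B t = 0) :
    ∃ (Q : Submodule A N) (hPQ : P ≤ Q), Q.FG ∧ (Submodule.inclusion hPQ).lTensor B t = 0 := by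
  have h1 : P.subtype.rTensor B (TensorProduct.comm A B P t) = 0 := by
    rw [rTensor_comm, h, map_zero]
  obtain ⟨Q, hPQ, hQ, h2⟩ := TensorProduct.eq_zero_of_fg_of_subtype_eq_zero hP h1
  refine ⟨Q, hPQ, hQ, ?_⟩
  rw [rTensor_comm] at h2
  exact (TensorProduct.comm A B Q).injective (by rw [h2, map_zero])

theorem exists_approx {A : Type u} [CommRing A] {M : Type v} [AddCommGroup M] [Module A M]
    {N : Type v} [AddCommGroup N] [Module A N] (φ : M →ₗ[A] N)
    (B : Type w) [AddCommGroup B] [Module A B] (x : B ⊗[A] M) (hx : φ.lTensor B x = 0) :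
    ∃ (P P' : Type u) (_ : AddCommGroup P) (_ : Module A P) (_ : AddCommGroup P') (_ : Module A P')
      (_ : Module.Finite A P) (_ : Module.Free A P) (_ : Module.Finite A P') (_ : Module.Free A P')
      (α : P →ₗ[A] P') (g : P →ₗ[A] M) (h : P' →ₗ[A] N) (y : B ⊗[A] P),
      φ ∘ₗ g = h ∘ₗ α ∧ α.lTensor B y = 0 ∧ g.lTensor B y = x := by
  obtain ⟨n₁, b, m, rfl⟩ := TensorProduct.exists_sum_tmul_eq x
  set g₀ : (Fin n₁ → A) →ₗ[A] M := Fintype.linearCombination A m with hg₀
  set y₀ : B ⊗[A] (Fin n₁ → A) := ∑ k, b k ⊗ₜ[A] (Pi.single k (1 : A) : Fin n₁ → A) with hy₀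
  have hgy : g₀.lTensor B y₀ = ∑ k, b k ⊗ₜ[A] m k := lTensor_sum_single B b m
  set ψ : (Fin n₁ → A) →ₗ[A] N := φ ∘ₗ g₀ with hψ
  have hψy : ψ.lTensor B y₀ = 0 := by
    rw [hψ, LinearMap.lTensor_comp, LinearMap.comp_apply, hgy, hx]
  have hN₀ : (LinearMap.range ψ).FG := by
    rw [LinearMap.range_eq_map]
    exact Submodule.FG.map _ Module.Finite.fg_top
  -- vanishing over a f.g. submodule
  have h0 : (LinearMap.range ψ).subtype.lTensor B (ψ.rangeRestrict.lTensor B y₀) = 0 := by
    rw [← LinearMap.comp_apply, ← LinearMap.lTensor_comp]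
    have : (LinearMap.range ψ).subtype ∘ₗ ψ.rangeRestrict = ψ := by ext v; rfl
    rw [this, hψy]
  obtain ⟨Q, hPQ, hQ, h1⟩ := eq_zero_of_fg_lTensor B hN₀ _ h0
  have : Module.Finite A Q := Module.Finite.iff_fg.mpr hQ
  obtain ⟨r, q, hq⟩ := Module.Finite.exists_fin' A Q
  set ψ' : (Fin n₁ → A) →ₗ[A] Q := Submodule.inclusion hPQ ∘ₗ ψ.rangeRestrict with hψ'
  obtain ⟨c, hc⟩ := Module.projective_lifting_property q ψ' hq
  have h2 : q.lTensor B (c.lTensor B y₀) = 0 := by
    rw [← LinearMap.comp_apply, ← LinearMap.lTensor_comp, hc, hψ', LinearMap.lTensor_comp,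
      LinearMap.comp_apply, h1]
  have hex : Function.Exact ((LinearMap.ker q).subtype.lTensor B) (q.lTensor B) :=
    lTensor_exact B (LinearMap.exact_subtype_ker_map q) hq
  obtain ⟨w, hw⟩ := (hex _).1 h2
  obtain ⟨s, z, κ, rfl⟩ := TensorProduct.exists_sum_tmul_eq w
  set a : (Fin s → A) →ₗ[A] (Fin r → A) :=
    Fintype.linearCombination A (fun l => ((κ l : LinearMap.ker q) : Fin r → A)) with ha
  set z₀ : B ⊗[A] (Fin s → A) := ∑ l, z l ⊗ₜ[A] (Pi.single l (1 : A) : Fin s → A) with hz₀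
  have haz : a.lTensor B z₀ = c.lTensor B y₀ := by
    rw [ha, hz₀, lTensor_sum_single, ← hw, map_sum]
    refine Finset.sum_congr rfl (fun l _ => ?_)
    rw [LinearMap.lTensor_tmul]; rfl
  have hqa : ∀ v, q (a v) = 0 := by
    intro v
    rw [ha, Fintype.linearCombination_apply, map_sum]
    refine Finset.sum_eq_zero (fun l _ => ?_)
    rw [map_smul, LinearMap.mem_ker.1 (κ l).2, smul_zero]
  have hqc : ∀ v, ((q (c v) : Q) : N) = φ (g₀ v) := by
    intro v
    have h3 : q (c v) = ψ' v := LinearMap.congr_fun hc v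
    rw [h3]; rfl
  refine ⟨(Fin n₁ → A) × (Fin s → A), Fin r → A, inferInstance, inferInstance, inferInstance,
    inferInstance, inferInstance, inferInstance, inferInstance, inferInstance,
    c ∘ₗ LinearMap.fst A _ _ - a ∘ₗ LinearMap.snd A _ _, g₀ ∘ₗ LinearMap.fst A _ _,
    Q.subtype ∘ₗ q,
    (LinearMap.inl A _ _).lTensor B y₀ + (LinearMap.inr A _ _).lTensor B z₀, ?_, ?_, ?_⟩
  · refine LinearMap.ext (fun v => ?_)
    change φ (g₀ v.1) = ((q (c v.1 - a v.2) : Q) : N)
    rw [map_sub, hqa, sub_zero, hqc]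
  · rw [map_add, ← LinearMap.comp_apply, ← LinearMap.comp_apply, ← LinearMap.lTensor_comp,
      ← LinearMap.lTensor_comp]
    have e1 : (c ∘ₗ LinearMap.fst A (Fin n₁ → A) (Fin s → A) - a ∘ₗ LinearMap.snd A _ _) ∘ₗ
        LinearMap.inl A _ _ = c := by
      ext x; simp
    have e2 : (c ∘ₗ LinearMap.fst A (Fin n₁ → A) (Fin s → A) - a ∘ₗ LinearMap.snd A _ _) ∘ₗ
        LinearMap.inr A _ _ = - a := by
      ext x; simp
    rw [e1, e2, LinearMap.lTensor_neg, LinearMap.neg_apply, haz, add_neg_cancel]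
  · rw [map_add, ← LinearMap.comp_apply, ← LinearMap.comp_apply, ← LinearMap.lTensor_comp,
      ← LinearMap.lTensor_comp]
    have e1 : (g₀ ∘ₗ LinearMap.fst A (Fin n₁ → A) (Fin s → A)) ∘ₗ LinearMap.inl A _ _ = g₀ := by
      ext x; simp
    have e2 : (g₀ ∘ₗ LinearMap.fst A (Fin n₁ → A) (Fin s → A)) ∘ₗ LinearMap.inr A _ _ = 0 := by
      ext x; simp
    rw [e1, e2, LinearMap.lTensor_zero, LinearMap.zero_apply, add_zero, hgy]


/-- universe-lifted version of `exists_approx` -/
theorem exists_approx' {A : Type u} [CommRing A] {M : Type v} [AddCommGroup M] [Module A M]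
    {N : Type v} [AddCommGroup N] [Module A N] (φ : M →ₗ[A] N)
    (B : Type w) [AddCommGroup B] [Module A B] (x : B ⊗[A] M) (hx : φ.lTensor B x = 0) :
    ∃ (P P' : Type (max u v)) (_ : AddCommGroup P) (_ : Module A P) (_ : AddCommGroup P')
      (_ : Module A P')
      (_ : Module.Finite A P) (_ : Module.Free A P) (_ : Module.Finite A P') (_ : Module.Free A P')
      (α : P →ₗ[A] P') (g : P →ₗ[A] M) (h : P' →ₗ[A] N) (y : B ⊗[A] P),
      φ ∘ₗ g = h ∘ₗ α ∧ α.lTensor B y = 0 ∧ g.lTensor B y = x := by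
  obtain ⟨P, P', _, _, _, _, _, _, _, _, α, g, h, y, h1, h2, h3⟩ := exists_approx φ B x hx
  let eP : ULift.{v} P ≃ₗ[A] P := ULift.moduleEquiv
  let eP' : ULift.{v} P' ≃ₗ[A] P' := ULift.moduleEquiv
  refine ⟨ULift.{v} P, ULift.{v} P', inferInstance, inferInstance, inferInstance, inferInstance,
    inferInstance, inferInstance, inferInstance, inferInstance,
    eP'.symm.toLinearMap ∘ₗ α ∘ₗ eP.toLinearMap, g ∘ₗ eP.toLinearMap, h ∘ₗ eP'.toLinearMap,
    eP.symm.toLinearMap.lTensor B y, ?_, ?_, ?_⟩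
  · refine LinearMap.ext (fun v => ?_)
    have := LinearMap.congr_fun h1 (eP v)
    simpa using this
  · rw [← LinearMap.comp_apply, ← LinearMap.lTensor_comp]
    have : (eP'.symm.toLinearMap ∘ₗ α ∘ₗ eP.toLinearMap) ∘ₗ eP.symm.toLinearMap =
        eP'.symm.toLinearMap ∘ₗ α := by
      ext v; simp
    rw [this, LinearMap.lTensor_comp, LinearMap.comp_apply, h2, map_zero]
  · rw [← LinearMap.comp_apply, ← LinearMap.lTensor_comp]
    have : (g ∘ₗ eP.toLinearMap) ∘ₗ eP.symm.toLinearMap = g := by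
      ext v; simp
    rw [this, h3]


open Adeq

variable {A : Type u} [CommRing A]

theorem baseChange_eq_lTensor {M N : Type*} [AddCommGroup M] [Module A M] [AddCommGroup N]
    [Module A N] (φ : M →ₗ[A] N) (B : Type*) [CommRing B] [Algebra A B] (x : B ⊗[A] M) :
    φ.baseChange B x = φ.lTensor B x := rfl

/-- every element of an adequate functor is hit by a map from a linearly adequate functor -/
theorem exists_linAdequate_hits (F : MVF A) (hF : adequate A F) (B : Alg A) (ξ : F.obj (pt B)) :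
    ∃ (L : MVF A) (ψ : L ⟶ F), linAdequate A L ∧ ∃ η : L.obj (pt B), ψ.app (pt B) η = ξ := by
  obtain ⟨M, N, φ, ⟨e⟩⟩ := hF
  set i : F ⟶ (underline A).obj M := e.hom ≫ kernel.ι _ with hi
  have hinj : Function.Injective (i.app (pt B)) := by
    have : Mono i := by rw [hi]; infer_instance
    exact PresheafOfModules.injective_of_mono _ (pt B)
  let x : B ⊗[A] M := i.app (pt B) ξ
  have hx : φ.hom.lTensor B x = 0 := by
    have h1 : ((underline A).map φ).app (pt B) (i.app (pt B) ξ) = 0 := by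
      rw [← PshMod.comp_app_apply, hi, Category.assoc, kernel.condition, comp_zero]; rfl
    exact h1
  obtain ⟨P, P', _, _, _, _, _, _, _, _, α, g, h, y, h1, h2, h3⟩ :=
    exists_approx' φ.hom B x hx
  let α' : ModuleCat.of A P ⟶ ModuleCat.of A P' := ModuleCat.ofHom α
  let g' : ModuleCat.of A P ⟶ M := ModuleCat.ofHom g
  let h' : ModuleCat.of A P' ⟶ N := ModuleCat.ofHom h
  have hcomm : g' ≫ φ = α' ≫ h' := by
    ext v
    exact LinearMap.congr_fun h1 v
  have w : (kernel.ι ((underline A).map α') ≫ (underline A).map g') ≫ (underline A).map φ = 0 := by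
    rw [Category.assoc, ← Functor.map_comp, hcomm, Functor.map_comp, ← Category.assoc,
      kernel.condition, zero_comp]
  refine ⟨kernel ((underline A).map α'), kernel.lift _ _ w ≫ e.inv,
    ⟨ModuleCat.of A P, ModuleCat.of A P', α', ‹_›, ‹_›, ‹_›, ‹_›, ⟨Iso.refl _⟩⟩, ?_⟩
  have hy : ((underline A).map α').app (pt B) y = 0 := h2
  obtain ⟨η, hη⟩ := (PshMod.kernel_ι_exact ((underline A).map α') (pt B) y).1 hy
  refine ⟨η, hinj ?_⟩
  rw [← PshMod.comp_app_apply, hi, Category.assoc, e.inv_hom_id_assoc, kernel.lift_ι,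
    PshMod.comp_app_apply, hη]
  exact h3


theorem exists_epi_cofan_linAdequate (F : MVF A) (hF : adequate A F) :
    ∃ (ι : Type (u + 1)) (L : ι → MVF A), (∀ i, linAdequate A (L i)) ∧
      ∃ (c : Cofan L) (_ : IsColimit c) (π : c.pt ⟶ F), Epi π := by
  classical
  let ι : Type (u + 1) := Σ B : Alg A, F.obj (pt B)
  choose L ψ hL η hη using fun idx : ι => exists_linAdequate_hits F hF idx.1 idx.2
  refine ⟨ι, L, hL, Cofan.mk (∐ L) (Sigma.ι L), coproductIsCoproduct L, Sigma.desc ψ, ?_⟩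
  apply PresheafOfModules.epi_of_surjective
  intro X ξ
  let idx : ι := ⟨X.unop.unop, ξ⟩
  refine ⟨(Sigma.ι L idx).app X (η idx), ?_⟩
  change (Sigma.desc ψ).app (pt idx.1) ((Sigma.ι L idx).app (pt idx.1) (η idx)) = ξ
  rw [← PshMod.comp_app_apply, Sigma.ι_desc]
  exact hη idx

end Groth.Agent.Helper13Adeq
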