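import Mathlib

set_option autoImplicit false
universe u v w
open TensorProduct MvPolynomial

namespace Groth.Agent.Helper13Adeq

namespace Univ

variable {A : Type u} [CommRing A] {n m : ℕ} (a : Fin m → Fin n → A)

/-- the linear forms `ℓ_i = Σ_j a_ij X_j` -/
noncomputable def lin (i : Fin m) : MvPolynomial (Fin n) A := ∑ j, C (a i j) * X j

/-- the ideal generated by the linear forms -/
noncomputable def J : Ideal (MvPolynomial (Fin n) A) := Ideal.span (Set.range (lin a))

/-- the universal algebra `A[x_1..x_n]/(ℓ_i)` -/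
abbrev RU : Type u := MvPolynomial (Fin n) A ⧸ J a

/-- the class of `X_j` -/
noncomputable def xb (j : Fin n) : RU a := Ideal.Quotient.mk (J a) (X j)

theorem rel (i : Fin m) : ∑ j, a i j • xb a j = 0 := by
  have h : Ideal.Quotient.mk (J a) (lin a i) = 0 :=
    Ideal.Quotient.eq_zero_iff_mem.2 (Ideal.subset_span ⟨i, rfl⟩)
  rw [lin, map_sum] at h
  rw [← h]
  refine Finset.sum_congr rfl (fun j _ => ?_)
  rw [xb, ← smul_eq_C_mul]
  rfl

section classify
variable {B : Type w} [CommRing B] [Algebra A B] (b : Fin n → B) (hb : ∀ i, ∑ j, a i j • b j = 0)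

include hb in
theorem aeval_eq_zero_of_mem (p : MvPolynomial (Fin n) A) (hp : p ∈ J a) : aeval b p = 0 := by
  have : J a ≤ RingHom.ker (aeval b : MvPolynomial (Fin n) A →ₐ[A] B).toRingHom := by
    rw [J, Ideal.span_le]
    rintro _ ⟨i, rfl⟩
    change aeval b (lin a i) = 0
    rw [lin, map_sum, ← hb i]
    refine Finset.sum_congr rfl (fun j _ => ?_)
    rw [map_mul, aeval_C, aeval_X, Algebra.smul_def]
  exact this hp

/-- the classifying map of a solution `b` of the linear equations -/
noncomputable def classify : RU a →ₐ[A] B :=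
  Ideal.Quotient.liftₐ (J a) (aeval b) (aeval_eq_zero_of_mem a b hb)

@[simp] theorem classify_mk (p : MvPolynomial (Fin n) A) :
    classify a b hb (Ideal.Quotient.mk (J a) p) = aeval b p := rfl

@[simp] theorem classify_xb (j : Fin n) : classify a b hb (xb a j) = b j := by
  rw [xb, classify_mk, aeval_X]

end classify

open Polynomial in
theorem sigma_rel (i : Fin m) : ∑ j, a i j • ((Polynomial.X : Polynomial (RU a)) * Polynomial.C (xb a j)) = 0 := by
  have : ∑ j, a i j • ((Polynomial.X : Polynomial (RU a)) * Polynomial.C (xb a j)) =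
      Polynomial.X * Polynomial.C (∑ j, a i j • xb a j) := by
    rw [map_sum, Finset.mul_sum]
    refine Finset.sum_congr rfl (fun j _ => ?_)
    rw [← mul_smul_comm, Polynomial.smul_C]
  rw [this, rel, map_zero, mul_zero]

/-- the scaling map `x_j ↦ t x_j` -/
noncomputable def sigma : RU a →ₐ[A] Polynomial (RU a) :=
  classify a (fun j => (Polynomial.X : Polynomial (RU a)) * Polynomial.C (xb a j)) (sigma_rel a)

theorem sigma_mk (p : MvPolynomial (Fin n) A) :
    sigma a (Ideal.Quotient.mk (J a) p) =
      aeval (fun j => (Polynomial.X : Polynomial (RU a)) * Polynomial.C (xb a j)) p := rfl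

/-- the linear map `v ↦ Σ v_j x̄_j` -/
noncomputable def xlin : (Fin n → A) →ₗ[A] RU a := Fintype.linearCombination A (xb a)

/-- the linear coefficients -/
noncomputable def lam : MvPolynomial (Fin n) A →ₗ[A] (Fin n → A) :=
  LinearMap.pi (fun j => MvPolynomial.lcoeff A (Finsupp.single j 1))

theorem coeff_sigma (p : MvPolynomial (Fin n) A) :
    (sigma a (Ideal.Quotient.mk (J a) p)).coeff 0 = algebraMap A (RU a) (constantCoeff p) ∧
    (sigma a (Ideal.Quotient.mk (J a) p)).coeff 1 = xlin a (lam p) := by
  induction p using MvPolynomial.induction_on with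
  | C c =>
    constructor
    · rw [sigma_mk, aeval_C, Polynomial.algebraMap_apply, Polynomial.coeff_C_zero, constantCoeff_C]
    · rw [sigma_mk, aeval_C, Polynomial.algebraMap_apply, Polynomial.coeff_C_ne_zero one_ne_zero]
      have : lam (C c : MvPolynomial (Fin n) A) = 0 := by
        ext j
        simp only [lam, LinearMap.pi_apply, MvPolynomial.lcoeff, LinearMap.coe_mk, AddHom.coe_mk,
          Pi.zero_apply, coeff_C]
        rw [if_neg]
        intro h
        exact Finsupp.single_ne_zero.2 one_ne_zero h.symm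
      rw [this, map_zero]
  | add p q hp hq =>
    constructor
    · rw [map_add, map_add, Polynomial.coeff_add, hp.1, hq.1, map_add, map_add]
    · rw [map_add, map_add, Polynomial.coeff_add, hp.2, hq.2, map_add, map_add]
  | mul_X p j hp =>
    have e : sigma a (Ideal.Quotient.mk (J a) (p * X j)) =
        sigma a (Ideal.Quotient.mk (J a) p) * (Polynomial.X * Polynomial.C (xb a j)) := by
      rw [map_mul, map_mul, sigma_mk a (X j), aeval_X]
    constructor
    · rw [e, ← mul_assoc, Polynomial.coeff_mul_C, Polynomial.coeff_mul_X_zero, zero_mul]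
      simp
    · rw [e, ← mul_assoc, Polynomial.coeff_mul_C, Polynomial.coeff_mul_X, hp.1]
      have : lam (p * X j) = constantCoeff p • (Pi.single j 1 : Fin n → A) := by
        ext k
        simp only [lam, LinearMap.pi_apply, MvPolynomial.lcoeff, LinearMap.coe_mk, AddHom.coe_mk,
          Pi.smul_apply, smul_eq_mul]
        rw [MvPolynomial.coeff_mul_X']
        by_cases hkj : k = j
        · subst hkj
          simp [constantCoeff_eq]
        · have : j ∉ (Finsupp.single k 1 : Fin n →₀ ℕ).support := by
            rw [Finsupp.support_single_ne_zero _ one_ne_zero]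
            simpa using fun h => hkj h.symm
          rw [if_neg this, Pi.single_eq_of_ne hkj, mul_zero]
      rw [this, map_smul, xlin, Fintype.linearCombination_apply_single, one_smul]
      exact (Algebra.smul_def (constantCoeff p) (xb a j)).symm

theorem exists_pi_tmul {M : Type v} [AddCommGroup M] [Module A M] (u : (Fin n → A) ⊗[A] M) :
    ∃ v : Fin n → M, u = ∑ j, (Pi.single j (1 : A) : Fin n → A) ⊗ₜ[A] v j := by
  induction u using TensorProduct.induction_on with
  | zero => exact ⟨0, by simp⟩
  | tmul f m =>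
    refine ⟨fun j => f j • m, ?_⟩
    have hf : f = ∑ j, f j • (Pi.single j (1 : A) : Fin n → A) := by
      ext k
      simp [Finset.sum_apply, Pi.single_apply]
    conv_lhs => rw [hf]
    rw [TensorProduct.sum_tmul]
    refine Finset.sum_congr rfl (fun j _ => ?_)
    rw [TensorProduct.smul_tmul]
  | add x y hx hy =>
    obtain ⟨v, rfl⟩ := hx
    obtain ⟨v', rfl⟩ := hy
    refine ⟨v + v', ?_⟩
    rw [← Finset.sum_add_distrib]
    refine Finset.sum_congr rfl (fun j _ => ?_)
    rw [Pi.add_apply, TensorProduct.tmul_add]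

/-- coefficient of `t` -/
noncomputable def c1 : Polynomial (RU a) →ₗ[A] RU a := (Polynomial.lcoeff (RU a) 1).restrictScalars A

theorem c1_X_smul_C {M : Type v} [AddCommGroup M] [Module A M] (w : RU a ⊗[A] M) :
    (c1 a).rTensor M ((Polynomial.X : Polynomial (RU a)) •
      ((Polynomial.CAlgHom (R := A) (A := RU a)).toLinearMap.rTensor M w)) = w := by
  induction w using TensorProduct.induction_on with
  | zero => simp
  | tmul r m =>
    rw [LinearMap.rTensor_tmul, TensorProduct.smul_tmul', LinearMap.rTensor_tmul]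
    congr 1
    change (Polynomial.X * Polynomial.C r : Polynomial (RU a)).coeff 1 = r
    rw [Polynomial.coeff_X_mul, Polynomial.coeff_C_zero]
  | add x y hx hy => rw [map_add, smul_add, map_add, hx, hy]

theorem c1_sigma_mk : (c1 a) ∘ₗ (sigma a).toLinearMap ∘ₗ (Ideal.Quotient.mkₐ A (J a)).toLinearMap =
    xlin a ∘ₗ lam := by
  refine LinearMap.ext (fun p => ?_)
  exact (coeff_sigma a p).2

theorem key {M : Type v} [AddCommGroup M] [Module A M] (w : RU a ⊗[A] M)
    (hw : (sigma a).toLinearMap.rTensor M w = (Polynomial.X : Polynomial (RU a)) •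
      ((Polynomial.CAlgHom (R := A) (A := RU a)).toLinearMap.rTensor M w)) :
    ∃ v : Fin n → M, w = ∑ j, xb a j ⊗ₜ[A] v j := by
  have h1 : (c1 a).rTensor M ((sigma a).toLinearMap.rTensor M w) = w := by
    rw [hw, c1_X_smul_C]
  have hsurj : Function.Surjective (Ideal.Quotient.mkₐ A (J a)).toLinearMap :=
    Ideal.Quotient.mkₐ_surjective A (J a)
  obtain ⟨w', rfl⟩ := LinearMap.rTensor_surjective M hsurj w
  rw [← LinearMap.comp_apply, ← LinearMap.comp_apply, ← LinearMap.rTensor_comp,
    ← LinearMap.rTensor_comp, LinearMap.comp_assoc, c1_sigma_mk, LinearMap.rTensor_comp,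
    LinearMap.comp_apply] at h1
  obtain ⟨v, hv⟩ := exists_pi_tmul (lam.rTensor M w')
  refine ⟨v, ?_⟩
  rw [← h1, hv, map_sum]
  refine Finset.sum_congr rfl (fun j _ => ?_)
  rw [LinearMap.rTensor_tmul, xlin, Fintype.linearCombination_apply_single, one_smul]

end Univ

end Groth.Agent.Helper13Adeq
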