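import Groth.Agent.Lib.Helper13AdeqSh

/-!
# Colimits of adequate modules on the big sites (helper13)

`toMVFPre_preservesColimitsOfShape`, `colimitIsoSh` (a colimit of sheaves of modules is the
sheafification of the colimit of the underlying presheaves), `adequateMod_colimit_of`,
`adequate_colimit_parallelPair`, `Fppf.adequateMod_colimit`, `Fppf.adequateMod_cokernel`.
-/

set_option autoImplicit false
universe w w' u
open CategoryTheory Limits Opposite TensorProduct AlgebraicGeometry

namespace Groth.Agent.Helper13Adeq
open Adeq

noncomputable section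

section
variable (K : Precoverage Scheme.{u}) [BigSite.OSh K] {S : Scheme.{u}}
  {R : CommRingCat.{u}} (a : Spec R ⟶ S)

theorem toMVFPre_comp_toPresheaf :
    toMVFPre K a ⋙ PresheafOfModules.toPresheaf (ringOf R) =
      PresheafOfModules.toPresheaf (BigSite.ORing K S).obj ⋙
        (Functor.whiskeringLeft _ _ _).obj (specOver a).op := rfl

instance : (PresheafOfModules.toPresheaf.{u + 1} (ringOf R)).ReflectsIsomorphisms := inferInstance

instance toMVFPre_preservesColimitsOfShape {J : Type w} [Category.{w'} J]
    [HasColimitsOfShape J AddCommGrpCat.{u + 1}] :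
    PreservesColimitsOfShape J (toMVFPre K a) := by
  have h1 : PreservesColimitsOfShape J
      (toMVFPre K a ⋙ PresheafOfModules.toPresheaf (ringOf R)) := by
    rw [toMVFPre_comp_toPresheaf]
    infer_instance
  have h2 : ReflectsColimitsOfShape J (PresheafOfModules.toPresheaf.{u + 1} (ringOf R)) :=
    reflectsColimitsOfShape_of_reflectsIsomorphisms
  exact preservesColimitsOfShape_of_reflects_of_preserves (toMVFPre K a)
    (PresheafOfModules.toPresheaf (ringOf R))

end

section
variable (K : Precoverage Scheme.{u}) [BigSite.OSh K] {S : Scheme.{u}}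

/-- sheafification of presheaves of modules on the big site -/
abbrev shL : PresheafOfModules.{u + 1} (BigSite.ORing K S).obj ⥤ BigSite.Mod K S :=
  PresheafOfModules.sheafification (𝟙 (BigSite.ORing K S).obj)

/-- the right adjoint of sheafification -/
abbrev shR : BigSite.Mod K S ⥤ PresheafOfModules.{u + 1} (BigSite.ORing K S).obj :=
  SheafOfModules.forget _ ⋙ PresheafOfModules.restrictScalars (𝟙 (BigSite.ORing K S).obj)

/-- the sheafification adjunction -/
abbrev shAdj : shL K (S := S) ⊣ shR K :=
  PresheafOfModules.sheafificationAdjunction (𝟙 (BigSite.ORing K S).obj)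

variable {J : Type w} [Category.{w'} J] [HasColimitsOfShape J AddCommGrpCat.{u + 1}]
  [HasColimitsOfShape J (BigSite.Mod K S)]

/-- a colimit of sheaves of modules is the sheafification of the colimit of presheaves -/
def colimitIsoSh (D : J ⥤ BigSite.Mod K S) :
    colimit D ≅ (shL K).obj (colimit (D ⋙ shR K)) :=
  HasColimit.isoOfNatIso ((Functor.rightUnitor D).symm ≪≫
    Functor.isoWhiskerLeft D (asIso (shAdj K).counit).symm) ≪≫
      (preservesColimitIso (shL K) (D ⋙ shR K)).symm

end

section
variable (P : MorphismProperty Scheme.{u}) [P.IsStableUnderBaseChange]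
  [Scheme.IsJointlySurjectivePreserving P] [P.IsStableUnderComposition]
  [P.ContainsIdentities] [P.RespectsIso] [BigSite.OSh (Scheme.precoverage P)]
  (hPopen : ∀ {X Y : Scheme.{u}} (f : X ⟶ Y), P f → IsOpenMap f)
  (hPimm : ∀ {X Y : Scheme.{u}} (f : X ⟶ Y) [IsOpenImmersion f], P f)
  (hPflat : ∀ {X Y : Scheme.{u}} (f : X ⟶ Y), P f → Flat f)
  {S : Scheme.{u}}
  {J : Type w} [Category.{w'} J] [HasColimitsOfShape J AddCommGrpCat.{u + 1}]
  [HasColimitsOfShape J (BigSite.Mod (Scheme.precoverage P) S)]

include hPopen hPimm hPflat in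
theorem adequateMod_colimit_of (D : J ⥤ BigSite.Mod (Scheme.precoverage P) S)
    (hD : ∀ j, adequateMod (Scheme.precoverage P) S (D.obj j))
    (hcl : ∀ (R : CommRingCat.{u}) (E : J ⥤ MVF R), (∀ j, adequate R (E.obj j)) →
      adequate R (colimit E)) :
    adequateMod (Scheme.precoverage P) S (colimit D) := by
  refine (adequateMod (Scheme.precoverage P) S).prop_of_iso
    (colimitIsoSh (Scheme.precoverage P) D).symm ?_
  apply adequateMod_sheafification P hPopen hPimm hPflat
  intro R a
  refine (adequate R).prop_of_iso
    (preservesColimitIso (toMVFPre (Scheme.precoverage P) a)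
      (D ⋙ shR (Scheme.precoverage P))).symm ?_
  apply hcl
  intro j
  exact adequate_toMVF_of_adequateMod P hPopen hPimm (D.obj j) (hD j) R a

end

theorem adequate_colimit_parallelPair {A : Type u} [CommRing A] (E : WalkingParallelPair ⥤ MVF A)
    (hE : ∀ j, adequate A (E.obj j)) : adequate A (colimit E) := by
  let f := E.map WalkingParallelPairHom.left
  let g := E.map WalkingParallelPairHom.right
  have e1 : colimit E ≅ colimit (parallelPair f g) :=
    HasColimit.isoOfNatIso (diagramIsoParallelPair E)
  have e2 : colimit (parallelPair f g) ≅ cokernel (f - g) :=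
    IsColimit.coconePointUniqueUpToIso (colimit.isColimit _)
      (Preadditive.isColimitCoforkOfCokernelCofork (cokernelIsCokernel (f - g)))
  exact (adequate A).prop_of_iso (e1 ≪≫ e2).symm
    (adequate_cokernel (f - g) (hE WalkingParallelPair.zero) (hE WalkingParallelPair.one))

namespace Fppf

variable {S : Scheme.{u}}

theorem adequateMod_colimit {J : Type (u + 1)} [SmallCategory J]
    (D : J ⥤ BigSite.Mod Scheme.fppfPrecoverage S)
    (hD : ∀ j, adequateMod Scheme.fppfPrecoverage S (D.obj j)) :
    adequateMod Scheme.fppfPrecoverage S (colimit D) :=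
  adequateMod_colimit_of PP isOpenMap_of_PP (fun f _ => PP_of_isOpenImmersion f) flat_of_PP D hD
    (fun _ E hE => adequate_colimit E hE)

theorem adequateMod_cokernel {M N : BigSite.Mod Scheme.fppfPrecoverage S} (φ : M ⟶ N)
    (hM : adequateMod Scheme.fppfPrecoverage S M) (hN : adequateMod Scheme.fppfPrecoverage S N) :
    adequateMod Scheme.fppfPrecoverage S (cokernel φ) :=
  adequateMod_colimit_of PP isOpenMap_of_PP (fun f _ => PP_of_isOpenImmersion f) flat_of_PP
    (parallelPair φ 0) (fun j => by cases j <;> assumption)
    (fun _ E hE => adequate_colimit_parallelPair E hE)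

end Fppf

end

end Groth.Agent.Helper13Adeq
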