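import Mathlib
import Groth.Agent.Lib.Helper13AdeqA
import Groth.Agent.Lib.Helper13AdeqC

set_option autoImplicit false
universe u v w
open CategoryTheory Limits Opposite TensorProduct

namespace Groth.Agent.Helper13Adeq

open Module

section bases
variable {A : Type u} [CommRing A] {P P' : Type v} [AddCommGroup P] [Module A P]
  [AddCommGroup P'] [Module A P'] {n m : ℕ} (eP : Basis (Fin n) A P) (eP' : Basis (Fin m) A P')
  (B : Type w) [CommRing B] [Algebra A B]

theorem baseChange_sum_basis (φ₀ : P →ₗ[A] P') (b : Fin n → B) :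
    φ₀.baseChange B (∑ j, b j ⊗ₜ[A] eP j) =
      ∑ i, (∑ j, (eP'.repr (φ₀ (eP j)) i) • b j) ⊗ₜ[A] eP' i := by
  rw [map_sum]
  have h1 : ∀ j, φ₀.baseChange B (b j ⊗ₜ[A] eP j) =
      ∑ i, ((eP'.repr (φ₀ (eP j)) i) • b j) ⊗ₜ[A] eP' i := by
    intro j
    rw [LinearMap.baseChange_tmul]
    conv_lhs => rw [← eP'.sum_repr (φ₀ (eP j))]
    rw [TensorProduct.tmul_sum]
    refine Finset.sum_congr rfl (fun i _ => ?_)
    rw [TensorProduct.tmul_smul, TensorProduct.smul_tmul']
  simp_rw [h1]
  rw [Finset.sum_comm]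
  refine Finset.sum_congr rfl (fun i _ => ?_)
  rw [TensorProduct.sum_tmul]

theorem exists_coords (y : B ⊗[A] P) : ∃ b : Fin n → B, y = ∑ j, b j ⊗ₜ[A] eP j := by
  refine ⟨fun j => (eP.baseChange B).repr y j, ?_⟩
  conv_lhs => rw [← (eP.baseChange B).sum_repr y]
  refine Finset.sum_congr rfl (fun j _ => ?_)
  rw [Basis.baseChange_apply, TensorProduct.smul_tmul', smul_eq_mul, mul_one]

theorem coords_eq_zero (c : Fin m → B) (h : ∑ i, c i ⊗ₜ[A] eP' i = 0) : ∀ i, c i = 0 := by
  have h1 : ∑ i, c i • (eP'.baseChange B) i = 0 := by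
    rw [← h]
    refine Finset.sum_congr rfl (fun j _ => ?_)
    rw [Basis.baseChange_apply, TensorProduct.smul_tmul', smul_eq_mul, mul_one]
  exact Fintype.linearIndependent_iff.1 (eP'.baseChange B).linearIndependent c h1

end bases

open Adeq Univ

variable {A : Type u} [CommRing A]

/-- transport of an element along an algebra map -/
noncomputable def mapEl (F : MVF A) {B B' : Alg A} (f : B ⟶ B') (x : F.obj (pt B)) : F.obj (pt B') :=
  F.map (ptHom f) x

theorem mapEl_add (F : MVF A) {B B' : Alg A} (f : B ⟶ B') (x y : F.obj (pt B)) :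
    mapEl F f (x + y) = mapEl F f x + mapEl F f y :=
  map_add (F.map (ptHom f)).hom x y

theorem mapEl_zero (F : MVF A) {B B' : Alg A} (f : B ⟶ B') :
    mapEl F f (0 : F.obj (pt B)) = 0 :=
  map_zero (F.map (ptHom f)).hom

theorem mapEl_smul (F : MVF A) {B B' : Alg A} (f : B ⟶ B') (b : B) (x : F.obj (pt B)) :
    mapEl F f (b • x) = f.hom b • mapEl F f x :=
  F.map_smul (ptHom f) b x

theorem mapEl_id (F : MVF A) {B : Alg A} (x : F.obj (pt B)) : mapEl F (𝟙 B) x = x := by
  have := F.map_id (pt B)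
  exact congrArg (fun ψ => ψ x) this

theorem mapEl_comp (F : MVF A) {B B' B'' : Alg A} (f : B ⟶ B') (g : B' ⟶ B'') (x : F.obj (pt B)) :
    mapEl F (f ≫ g) x = mapEl F g (mapEl F f x) := by
  have := F.map_comp (ptHom f) (ptHom g)
  exact congrArg (fun ψ => ψ x) this

theorem app_mapEl {F G : MVF A} (φ : F ⟶ G) {B B' : Alg A} (f : B ⟶ B') (x : F.obj (pt B)) :
    φ.app (pt B') (mapEl F f x) = mapEl G f (φ.app (pt B) x) :=
  PresheafOfModules.naturality_apply φ (ptHom f) x

theorem app_smul {F G : MVF A} (φ : F ⟶ G) (B : Alg A) (b : B) (x : F.obj (pt B)) :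
    φ.app (pt B) (b • x) = b • φ.app (pt B) x :=
  (φ.app (pt B)).hom.map_smul b x

theorem underline_mapEl (M : ModuleCat.{u + 1} A) {B B' : Alg A} (f : B ⟶ B') (x : B ⊗[A] M) :
    mapEl ((underline A).obj M) f x = (f.hom.toLinearMap.rTensor M) x := rfl

theorem exists_extension (P P' M : ModuleCat.{u + 1} A) [Module.Finite A P] [Module.Free A P]
    [Module.Finite A P'] [Module.Free A P'] (φ₀ : P ⟶ P')
    (φ : kernel ((underline A).map φ₀) ⟶ (underline A).obj M) :
    ∃ g : P ⟶ M, kernel.ι ((underline A).map φ₀) ≫ (underline A).map g = φ := by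
  classical
  rcases subsingleton_or_nontrivial A with hA | hA
  · refine ⟨0, ?_⟩
    ext X x
    have : Subsingleton (X.unop.unop ⊗[A] M) := by
      have : Subsingleton M := Module.subsingleton A M
      infer_instance
    exact Subsingleton.elim (α := X.unop.unop ⊗[A] M) _ _
  let L : MVF A := kernel ((underline A).map φ₀)
  let ι : L ⟶ (underline A).obj P := kernel.ι ((underline A).map φ₀)
  have ιinj : ∀ B : Alg A, Function.Injective (ι.app (pt B)) := fun B =>
    PshMod.kernel_ι_injective _ (pt B)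
  have ιex : ∀ B : Alg A, Function.Exact (ι.app (pt B)) (((underline A).map φ₀).app (pt B)) :=
    fun B => PshMod.kernel_ι_exact _ (pt B)
  let n := Module.finrank A P
  let m := Module.finrank A P'
  let eP : Basis (Fin n) A P := Module.finBasis A P
  let eP' : Basis (Fin m) A P' := Module.finBasis A P'
  let a : Fin m → Fin n → A := fun i j => eP'.repr (φ₀.hom (eP j)) i
  let R : Alg A := algOf A (RU a)
  let T : Alg A := algOf A (Polynomial (RU a))
  let ξu : (RU a) ⊗[A] P := ∑ j, xb a j ⊗ₜ[A] eP j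
  have hξu : ((underline A).map φ₀).app (pt R) ξu = 0 := by
    change φ₀.hom.baseChange (RU a) ξu = 0
    rw [baseChange_sum_basis eP eP']
    refine Finset.sum_eq_zero (fun i _ => ?_)
    rw [rel a i, TensorProduct.zero_tmul]
  obtain ⟨ηu, hηu⟩ := (ιex R ξu).1 hξu
  -- naturality of ι
  have ιnat : ∀ {B B' : Alg A} (f : B ⟶ B') (η : L.obj (pt B)),
      ι.app (pt B') (mapEl L f η) = (f.hom.toLinearMap.rTensor P) (ι.app (pt B) η) :=
    fun f η => app_mapEl ι f η
  have φnat : ∀ {B B' : Alg A} (f : B ⟶ B') (η : L.obj (pt B)),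
      φ.app (pt B') (mapEl L f η) = (f.hom.toLinearMap.rTensor M) (φ.app (pt B) η) :=
    fun f η => app_mapEl φ f η
  let w : (RU a) ⊗[A] M := φ.app (pt R) ηu
  let fσ : R ⟶ T := CommAlgCat.ofHom (sigma a)
  let fC : R ⟶ T := CommAlgCat.ofHom (Polynomial.CAlgHom (R := A) (A := RU a))
  have claim1 : mapEl L fσ ηu =
      ((Polynomial.X : Polynomial (RU a)) : T) • mapEl L fC ηu := by
    apply ιinj T
    rw [app_smul, ιnat, ιnat, hηu]
    change (sigma a).toLinearMap.rTensor P ξu = (Polynomial.X : Polynomial (RU a)) •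
      ((Polynomial.CAlgHom (R := A) (A := RU a)).toLinearMap.rTensor P ξu)
    simp only [ξu, map_sum, Finset.smul_sum, LinearMap.rTensor_tmul, TensorProduct.smul_tmul']
    refine Finset.sum_congr rfl (fun j _ => ?_)
    congr 1
    change sigma a (xb a j) = _
    rw [sigma, classify_xb]
    rfl
  have claim2 : (sigma a).toLinearMap.rTensor M w = (Polynomial.X : Polynomial (RU a)) •
      ((Polynomial.CAlgHom (R := A) (A := RU a)).toLinearMap.rTensor M w) := by
    have := congrArg (φ.app (pt T)) claim1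
    rw [app_smul, φnat, φnat] at this
    exact this
  obtain ⟨v, hv⟩ := key a w claim2
  let g₀ : P →ₗ[A] M := eP.constr A v
  have hg₀ : ∀ j, g₀ (eP j) = v j := fun j => eP.constr_basis A v j
  refine ⟨ModuleCat.ofHom g₀, ?_⟩
  ext X ξ
  let B : Alg A := X.unop.unop
  change ((underline A).map (ModuleCat.ofHom g₀)).app (pt B) (ι.app (pt B) ξ) = φ.app (pt B) ξ
  obtain ⟨b, hb⟩ := exists_coords eP B (ι.app (pt B) ξ)
  have h0 : ((underline A).map φ₀).app (pt B) (ι.app (pt B) ξ) = 0 := (ιex B _).2 ⟨ξ, rfl⟩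
  have hrel : ∀ i, ∑ j, a i j • b j = 0 := by
    apply coords_eq_zero eP' B
    rw [← baseChange_sum_basis eP eP' B φ₀.hom b, ← hb]
    exact h0
  let f : R ⟶ B := CommAlgCat.ofHom (classify a b hrel)
  have hξ : mapEl L f ηu = ξ := by
    apply ιinj B
    rw [ιnat, hηu, hb]
    simp only [ξu, map_sum, LinearMap.rTensor_tmul]
    refine Finset.sum_congr rfl (fun j _ => ?_)
    congr 1
    exact classify_xb a b hrel j
  have e1 : φ.app (pt B) ξ = ∑ j, b j ⊗ₜ[A] v j := by
    rw [← hξ, φnat]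
    change (classify a b hrel).toLinearMap.rTensor M w = _
    rw [hv, map_sum]
    refine Finset.sum_congr rfl (fun j _ => ?_)
    rw [LinearMap.rTensor_tmul]
    congr 1
    exact classify_xb a b hrel j
  rw [e1, hb]
  change g₀.baseChange B (∑ j, b j ⊗ₜ[A] eP j) = _
  rw [map_sum]
  refine Finset.sum_congr rfl (fun j _ => ?_)
  rw [LinearMap.baseChange_tmul, hg₀]

end Groth.Agent.Helper13Adeq
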