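import Mathlib

set_option autoImplicit false
universe u v w
open TensorProduct DirectSum

namespace Groth.Agent.Helper13Adeq

namespace Fam

variable {A : Type u} [CommRing A] {M : Type v} [AddCommGroup M] [Module A M]
  {ι : Type v} [DecidableEq ι] {P P' : ι → Type v} [∀ i, AddCommGroup (P i)] [∀ i, Module A (P i)]
  [∀ i, AddCommGroup (P' i)] [∀ i, Module A (P' i)]
  (α : ∀ i, P i →ₗ[A] P' i) (g : ∀ i, P i →ₗ[A] M)

/-- the sum of the `α i` -/
noncomputable def αs : (⨁ i, P i) →ₗ[A] ⨁ i, P' i := DirectSum.lmap α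

/-- the sum of the `g i` -/
noncomputable def gs : (⨁ i, P i) →ₗ[A] M := DirectSum.toModule A ι M g

/-- the submodule of relations -/
noncomputable def W : Submodule A (M × ⨁ i, P' i) := LinearMap.range ((gs g).prod (αs α))

/-- the quotient `Q = (M ⊕ ⨁ P'_i)/(⨁ P_i)` -/
abbrev Q : Type v := (M × ⨁ i, P' i) ⧸ W α g

/-- the map `M → Q` -/
noncomputable def q : M →ₗ[A] Q α g := (W α g).mkQ ∘ₗ LinearMap.inl A M (⨁ i, P' i)

variable (B : Type w) [AddCommGroup B] [Module A B]

theorem decomp (x : B ⊗[A] ⨁ i, P i) : ∃ s : Finset ι, ∀ s' : Finset ι, s ⊆ s' →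
    x = ∑ i ∈ s', (DirectSum.lof A ι P i).lTensor B ((DirectSum.component A ι P i).lTensor B x) := by
  classical
  induction x using TensorProduct.induction_on with
  | zero => exact ⟨∅, fun s' _ => by simp⟩
  | tmul b p =>
    refine ⟨DFinsupp.support p, fun s' hs' => ?_⟩
    simp only [LinearMap.lTensor_tmul]
    rw [← TensorProduct.tmul_sum]
    congr 1
    have h1 : ∑ i ∈ DFinsupp.support p, DirectSum.of P i (p i) = p := DirectSum.sum_support_of p
    conv_lhs => rw [← h1]
    refine Finset.sum_subset hs' (fun i _ hi => ?_) |>.trans ?_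
    · rw [DFinsupp.notMem_support_iff.1 hi, map_zero]
    · rfl
  | add x y hx hy =>
    obtain ⟨s, hs⟩ := hx
    obtain ⟨t, ht⟩ := hy
    refine ⟨s ∪ t, fun s' hs' => ?_⟩
    simp only [map_add, Finset.sum_add_distrib]
    rw [← hs s' (Finset.union_subset_left hs'), ← ht s' (Finset.union_subset_right hs')]

theorem component_αs (i : ι) :
    DirectSum.component A ι P' i ∘ₗ αs α = α i ∘ₗ DirectSum.component A ι P i := by
  refine LinearMap.ext (fun x => ?_)
  rfl

theorem αs_lof (i : ι) : αs α ∘ₗ DirectSum.lof A ι P i = DirectSum.lof A ι P' i ∘ₗ α i := by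
  refine LinearMap.ext (fun x => ?_)
  exact DirectSum.lmap_lof α i x

theorem gs_lof (i : ι) : gs g ∘ₗ DirectSum.lof A ι P i = g i := by
  refine LinearMap.ext (fun x => ?_)
  exact DirectSum.toModule_lof A i x

theorem prod_eq : (gs g).prod (αs α) =
    LinearMap.inl A M (⨁ i, P' i) ∘ₗ gs g + LinearMap.inr A M (⨁ i, P' i) ∘ₗ αs α := by
  refine LinearMap.ext (fun x => ?_)
  simp

theorem q_lTensor_eq_zero_iff (S : AddSubgroup (B ⊗[A] M))
    (h1 : ∀ i (x : B ⊗[A] P i), (α i).lTensor B x = 0 → (g i).lTensor B x ∈ S)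
    (h2 : ∀ s ∈ S, ∃ i, ∃ y : B ⊗[A] P i, (α i).lTensor B y = 0 ∧ (g i).lTensor B y = s)
    (z : B ⊗[A] M) : (q α g).lTensor B z = 0 ↔ z ∈ S := by
  have hex : Function.Exact (((gs g).prod (αs α)).lTensor B) ((W α g).mkQ.lTensor B) := by
    refine lTensor_exact B ?_ (W α g).mkQ_surjective
    exact LinearMap.exact_map_mkQ_range _
  constructor
  · intro hz
    rw [q, LinearMap.lTensor_comp, LinearMap.comp_apply] at hz
    obtain ⟨x, hx⟩ := (hex _).1 hz
    have hx1 : (gs g).lTensor B x = z := by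
      have := congrArg ((LinearMap.fst A M (⨁ i, P' i)).lTensor B) hx
      rw [← LinearMap.comp_apply, ← LinearMap.comp_apply, ← LinearMap.lTensor_comp,
        ← LinearMap.lTensor_comp, LinearMap.fst_prod, LinearMap.fst_comp_inl,
        LinearMap.lTensor_id, LinearMap.id_apply] at this
      exact this
    have hx2 : (αs α).lTensor B x = 0 := by
      have := congrArg ((LinearMap.snd A M (⨁ i, P' i)).lTensor B) hx
      rw [← LinearMap.comp_apply, ← LinearMap.comp_apply, ← LinearMap.lTensor_comp,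
        ← LinearMap.lTensor_comp, LinearMap.snd_prod, LinearMap.snd_comp_inl,
        LinearMap.lTensor_zero, LinearMap.zero_apply] at this
      exact this
    obtain ⟨s, hs⟩ := decomp B x
    have hxs := hs s (Finset.Subset.refl s)
    rw [← hx1, hxs, map_sum]
    refine AddSubgroup.sum_mem _ (fun i _ => ?_)
    rw [← LinearMap.comp_apply, ← LinearMap.lTensor_comp, gs_lof]
    apply h1
    rw [← LinearMap.comp_apply, ← LinearMap.lTensor_comp, ← component_αs, LinearMap.lTensor_comp,
      LinearMap.comp_apply, hx2, map_zero]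
  · intro hz
    obtain ⟨i, y, hy1, hy2⟩ := h2 z hz
    rw [q, LinearMap.lTensor_comp, LinearMap.comp_apply]
    apply (hex _).2
    refine ⟨(DirectSum.lof A ι P i).lTensor B y, ?_⟩
    rw [prod_eq, LinearMap.lTensor_add, LinearMap.add_apply, LinearMap.lTensor_comp,
      LinearMap.lTensor_comp, LinearMap.comp_apply, LinearMap.comp_apply,
      ← LinearMap.comp_apply (f := (gs g).lTensor B), ← LinearMap.lTensor_comp, gs_lof, hy2,
      ← LinearMap.comp_apply (f := (αs α).lTensor B), ← LinearMap.lTensor_comp, αs_lof,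
      LinearMap.lTensor_comp, LinearMap.comp_apply, hy1, map_zero, map_zero, add_zero]

end Fam

end Groth.Agent.Helper13Adeq
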