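import Mathlib
import Groth.Agent.Lib.Helper13AdeqB
import Groth.Agent.Lib.Helper13AdeqD
import Groth.Agent.Lib.Helper13AdeqE

set_option autoImplicit false
universe u v w
open CategoryTheory Limits Opposite TensorProduct

namespace Groth.Agent.Helper13Adeq

open Adeq

variable {A : Type u} [CommRing A]

/-- local data: every element of the image of `φ : F ⟶ underline M` comes from a finite free
presentation whose whole kernel maps into the image. -/
theorem exists_local_data {F : MVF A} (hF : adequate A F) (M : ModuleCat.{u + 1} A)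
    (φ : F ⟶ (underline A).obj M) (B : Alg A) (ξ : F.obj (pt B)) :
    ∃ (P P' : ModuleCat.{u + 1} A) (α : P ⟶ P') (g : P ⟶ M),
      (∀ (B' : Alg A) (x : B' ⊗[A] P), α.hom.lTensor B' x = 0 →
        ∃ ξ' : F.obj (pt B'), φ.app (pt B') ξ' = g.hom.lTensor B' x) ∧
      ∃ y : B ⊗[A] P, α.hom.lTensor B y = 0 ∧ g.hom.lTensor B y = φ.app (pt B) ξ := by
  obtain ⟨L, ψ, hL, η, hη⟩ := exists_linAdequate_hits F hF B ξ
  obtain ⟨P, P', α, _, _, _, _, ⟨e⟩⟩ := hL
  obtain ⟨g, hg⟩ := exists_extension P P' M α (e.inv ≫ ψ ≫ φ)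
  refine ⟨P, P', α, g, fun B' x hx => ?_, ?_⟩
  · obtain ⟨η', hη'⟩ := (PshMod.kernel_ι_exact ((underline A).map α) (pt B') x).1 hx
    refine ⟨ψ.app (pt B') (e.inv.app (pt B') η'), ?_⟩
    have h4 : (kernel.ι ((underline A).map α) ≫ (underline A).map g).app (pt B') η' =
        (e.inv ≫ ψ ≫ φ).app (pt B') η' := by rw [hg]
    rw [PshMod.comp_app_apply, PshMod.comp_app_apply, PshMod.comp_app_apply, hη'] at h4
    rw [← h4]
    rfl
  · refine ⟨(kernel.ι ((underline A).map α)).app (pt B) (e.hom.app (pt B) η), ?_, ?_⟩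
    · exact (PshMod.kernel_ι_exact ((underline A).map α) (pt B) _).2 ⟨_, rfl⟩
    · have h4 : (kernel.ι ((underline A).map α) ≫ (underline A).map g).app (pt B)
          (e.hom.app (pt B) η) = (e.inv ≫ ψ ≫ φ).app (pt B) (e.hom.app (pt B) η) := by rw [hg]
      rw [PshMod.comp_app_apply, PshMod.comp_app_apply, PshMod.comp_app_apply,
        PshMod.hom_inv_app_apply, hη] at h4
      rw [← h4]
      rfl

/-- **image lemma**: the image of an adequate functor in `underline M` is the kernel of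
`underline q` for a module map `q : M ⟶ Q`. -/
theorem exists_image_eq_ker {F : MVF A} (hF : adequate A F) (M : ModuleCat.{u + 1} A)
    (φ : F ⟶ (underline A).obj M) :
    ∃ (Q : ModuleCat.{u + 1} A) (q : M ⟶ Q), ∀ B : Alg A,
      Function.Exact (φ.app (pt B)) (((underline A).map q).app (pt B)) := by
  classical
  let ι : Type (u + 1) := Σ B : Alg A, F.obj (pt B)
  choose P P' α g h1 y hy1 hy2 using fun idx : ι => exists_local_data hF M φ idx.1 idx.2
  let α' : ∀ i : ι, (P i : Type (u + 1)) →ₗ[A] (P' i : Type (u + 1)) := fun i => (α i).hom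
  let g' : ∀ i : ι, (P i : Type (u + 1)) →ₗ[A] (M : Type (u + 1)) := fun i => (g i).hom
  refine ⟨ModuleCat.of A (Fam.Q α' g'), ModuleCat.ofHom (Fam.q α' g'), fun B z => ?_⟩
  let S : AddSubgroup (B ⊗[A] M) := (φ.app (pt B)).hom.toAddMonoidHom.range
  have key := Fam.q_lTensor_eq_zero_iff α' g' B S (fun i x hx => ?_) (fun s hs => ?_) z
  · change (Fam.q α' g').lTensor B z = 0 ↔ _
    rw [key]
    rfl
  · obtain ⟨ξ', hξ'⟩ := h1 i B x hx
    exact ⟨ξ', hξ'⟩
  · obtain ⟨ξ, rfl⟩ := hs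
    exact ⟨⟨B, ξ⟩, y ⟨B, ξ⟩, hy1 ⟨B, ξ⟩, hy2 ⟨B, ξ⟩⟩

/-- cokernels of maps between adequate functors are adequate -/
theorem adequate_cokernel {F G : MVF A} (φ : F ⟶ G) (hF : adequate A F) (hG : adequate A G) :
    adequate A (cokernel φ) := by
  obtain ⟨M, N, θ, i, hi, hex⟩ := (adequate_iff G).1 hG
  obtain ⟨Q, q, hq⟩ := exists_image_eq_ker hF M (φ ≫ i)
  obtain ⟨Q', q', hq'⟩ := exists_image_eq_ker hG Q (i ≫ (underline A).map q)
  have w : φ ≫ (i ≫ (underline A).map q) = 0 := by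
    ext X x
    exact (hq X.unop.unop _).2 ⟨x, rfl⟩
  refine (adequate_iff _).2 ⟨Q, Q', q', cokernel.desc φ _ w, fun B => ?_, fun B => ?_⟩
  · -- injectivity
    rw [injective_iff_map_eq_zero]
    intro c hc
    obtain ⟨z, rfl⟩ := PshMod.cokernel_π_surjective φ (pt B) c
    rw [← PshMod.comp_app_apply, cokernel.π_desc, PshMod.comp_app_apply] at hc
    obtain ⟨x, hx⟩ := (hq B _).1 hc
    rw [PshMod.comp_app_apply] at hx
    have hzx : z = φ.app (pt B) x := (hi B hx).symm
    rw [hzx]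
    exact (PshMod.cokernel_π_exact φ (pt B) _).2 ⟨x, rfl⟩
  · intro t
    rw [hq' B t]
    constructor
    · rintro ⟨z, rfl⟩
      refine ⟨(cokernel.π φ).app (pt B) z, ?_⟩
      rw [← PshMod.comp_app_apply, cokernel.π_desc]
    · rintro ⟨c, rfl⟩
      obtain ⟨z, rfl⟩ := PshMod.cokernel_π_surjective φ (pt B) c
      refine ⟨z, ?_⟩
      rw [← PshMod.comp_app_apply (cokernel.π φ), cokernel.π_desc]

end Groth.Agent.Helper13Adeq
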