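import Groth.Agent.Lib.Helper13AdeqCo

/-!
# Exact sequences of modules on the big sites: local lifting; parasitic modules (helper13)

`subsingleton_of_isZero`, `isZero_shL_cokernel`, `kernel_sections_exact`, `exists_local_lift`
(a section of the middle term of an exact complex of sheaves of modules that dies in the third term
comes locally from the first term), `parasitic_of_exact`, `Fppf.parasitic_of_exact`.
-/

set_option autoImplicit false
universe w w' u
open CategoryTheory Limits Opposite TensorProduct AlgebraicGeometry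

namespace Groth.Agent.Helper13Adeq
open Adeq

noncomputable section

section
variable (K : Precoverage Scheme.{u}) [BigSite.OSh K] {S : Scheme.{u}}

theorem subsingleton_of_isZero (M : BigSite.Mod K S) (hM : IsZero M) (U : Over S) :
    Subsingleton (M.val.obj (op U)) := by
  have h : (𝟙 M : M ⟶ M) = 0 := hM.eq_of_src _ _
  have hx : ∀ z : M.val.obj (op U), z = 0 := fun z => by
    have := congrArg (fun ψ : M ⟶ M => ψ.val.app (op U) z) h
    exact this
  exact ⟨fun x y => by rw [hx x, hx y]⟩

theorem isZero_shL_cokernel {M N : BigSite.Mod K S} (ℓ : M ⟶ N) [Epi ℓ] :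
    IsZero ((shL K).obj (cokernel ((shR K).map ℓ))) := by
  have e1 : Epi ((shL K).map (cokernel.π ((shR K).map ℓ))) := inferInstance
  have e2 : Epi ((shL K).map ((shR K).map ℓ)) := by
    have hnat := (shAdj K).counit.naturality ℓ
    have : Epi ((shL K).map ((shR K).map ℓ) ≫ (shAdj K).counit.app N) := by
      have h' : (shL K).map ((shR K).map ℓ) ≫ (shAdj K).counit.app N =
          (shAdj K).counit.app M ≫ ℓ := hnat
      rw [h']
      infer_instance
    have h3 : (shL K).map ((shR K).map ℓ) =
        ((shL K).map ((shR K).map ℓ) ≫ (shAdj K).counit.app N) ≫ inv ((shAdj K).counit.app N) := by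
      rw [Category.assoc, IsIso.hom_inv_id, Category.comp_id]
    rw [h3]
    infer_instance
  have e3 : (shL K).map (cokernel.π ((shR K).map ℓ)) = 0 := by
    rw [← cancel_epi ((shL K).map ((shR K).map ℓ)), ← Functor.map_comp, cokernel.condition,
      Functor.map_zero, comp_zero]
  exact IsZero.of_epi_eq_zero _ e3

theorem kernel_sections_exact {M N : BigSite.Mod K S} (g : M ⟶ N) (U : Over S) :
    Function.Exact ((kernel.ι g).val.app (op U)) (g.val.app (op U)) := by
  let S₀ : ShortComplex (BigSite.Mod K S) := ShortComplex.mk (kernel.ι g) g (kernel.condition g)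
  have hS₀ : S₀.Exact := ShortComplex.exact_of_f_is_kernel _ (kernelIsKernel g)
  have hmono : Mono S₀.f := inferInstanceAs (Mono (kernel.ι g))
  have hS₁ : (S₀.map (SheafOfModules.forget _)).Exact :=
    hS₀.map_of_mono_of_preservesKernel _ hmono inferInstance
  exact PshMod.exact_app _ hS₁ (op U)

theorem exists_local_lift (C : ShortComplex (BigSite.Mod K S)) (hC : C.Exact) (U : Over S)
    (s : C.X₂.val.obj (op U)) (hs : C.g.val.app (op U) s = 0) :
    ∃ T ∈ QuotSh.J K S U, ∀ {V : Over S} (f : V ⟶ U), T f →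
      ∃ m : C.X₁.val.obj (op V), C.f.val.app (op V) m = C.X₂.val.map f.op s := by
  let ℓ := kernel.lift C.g C.f C.zero
  have hℓ : Epi ℓ := C.exact_iff_epi_kernel_lift.1 hC
  have hℓι : ℓ ≫ kernel.ι C.g = C.f := kernel.lift_ι _ _ _
  obtain ⟨k, hk⟩ := (kernel_sections_exact K C.g U s).1 hs
  have hz := isZero_shL_cokernel K ℓ
  have hsub := subsingleton_of_isZero K _ hz U
  let Q₀ := cokernel ((shR K).map ℓ)
  let π₀ : (shR K).obj (kernel C.g) ⟶ Q₀ := cokernel.π ((shR K).map ℓ)
  let q : Q₀.obj (op U) := π₀.app (op U) k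
  have hsub' : Subsingleton ((shMod K Q₀).val.presheaf.obj (op U)) := hsub
  have hmem := Presheaf.equalizerSieve_mem (QuotSh.J K S) (shτ K Q₀) q 0 (Subsingleton.elim _ _)
  refine ⟨_, hmem, fun {V} f hf => ?_⟩
  have h1 : π₀.app (op V) ((kernel C.g).val.map f.op k) = 0 := by
    have hn := PresheafOfModules.naturality_apply π₀ f.op k
    have hf' : Q₀.map f.op q = Q₀.map f.op 0 := hf
    rw [map_zero] at hf'
    exact hn.trans hf'
  obtain ⟨m, hm⟩ := (PshMod.cokernel_π_exact ((shR K).map ℓ) (op V) _).1 h1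
  refine ⟨m, ?_⟩
  have h2 : C.f.val.app (op V) m = (kernel.ι C.g).val.app (op V) (ℓ.val.app (op V) m) := by
    rw [← hℓι]
    rfl
  have h3 : ℓ.val.app (op V) m = (kernel C.g).val.map f.op k := hm
  rw [h2, h3, ← hk]
  exact PresheafOfModules.naturality_apply (kernel.ι C.g).val f.op k

end

section
variable (P : MorphismProperty Scheme.{u}) [P.IsStableUnderBaseChange]
  [Scheme.IsJointlySurjectivePreserving P] [P.IsStableUnderComposition]
  [P.ContainsIdentities] [P.RespectsIso] [BigSite.OSh (Scheme.precoverage P)]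
  (hPflat : ∀ {X Y : Scheme.{u}} (f : X ⟶ Y), P f → Flat f)
  {S : Scheme.{u}}

include hPflat in
theorem parasitic_of_exact (C : ShortComplex (BigSite.Mod (Scheme.precoverage P) S))
    (hC : C.Exact) (p₁ : parasitic (Scheme.precoverage P) S C.X₁)
    (p₃ : parasitic (Scheme.precoverage P) S C.X₃) :
    parasitic (Scheme.precoverage P) S C.X₂ := by
  intro U hU
  suffices h0 : ∀ s : C.X₂.val.obj (op U), s = 0 from ⟨fun s s' => by rw [h0 s, h0 s']⟩
  intro s
  have hs : C.g.val.app (op U) s = 0 := by
    have := p₃ U hU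
    exact Subsingleton.elim (α := C.X₃.val.obj (op U)) _ _
  obtain ⟨T, hT, hlift⟩ := exists_local_lift (Scheme.precoverage P) C hC U s hs
  rw [GrothendieckTopology.mem_over_iff,
    Precoverage.mem_toGrothendieck_iff_of_isStableUnderComposition] at hT
  obtain ⟨R', hR', hle⟩ := hT
  have hT₁ : Presheaf.equalizerSieve (F := C.X₂.val.presheaf) (X := op U) s 0 ∈
      QuotSh.J (Scheme.precoverage P) S U := by
    rw [GrothendieckTopology.mem_over_iff]
    refine GrothendieckTopology.superset_covering _ ?_
      (Precoverage.generate_mem_toGrothendieck hR')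
    rw [Sieve.generate_le_iff]
    intro W g hg
    rw [Sieve.overEquiv_iff]
    have hTg : T (Over.homMk g : Over.mk (g ≫ U.hom) ⟶ U) :=
      (Sieve.overEquiv_iff _ _).1 (hle _ _ hg)
    obtain ⟨m, hm⟩ := hlift _ hTg
    have hflat : Flat (Over.mk (g ≫ U.hom)).hom := by
      have : Flat g := hPflat _ (hR'.2 hg)
      exact inferInstanceAs (Flat (g ≫ U.hom))
    have := p₁ _ hflat
    have hm0 : m = 0 := Subsingleton.elim (α := C.X₁.val.obj (op (Over.mk (g ≫ U.hom)))) _ _
    change C.X₂.val.presheaf.map _ s = C.X₂.val.presheaf.map _ 0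
    rw [map_zero]
    have hz : C.f.val.app (op (Over.mk (g ≫ U.hom))) (0 : C.X₁.val.obj _) = 0 := map_zero _
    rw [hm0] at hm
    exact hm.symm.trans hz
  exact (C.X₂.isSheaf.isSeparated) _ _ hT₁ s 0 (fun Y f hf => hf)

end

namespace Fppf

theorem parasitic_of_exact {S : Scheme.{u}}
    (C : ShortComplex (BigSite.Mod Scheme.fppfPrecoverage S)) (hC : C.Exact)
    (p₁ : parasitic Scheme.fppfPrecoverage S C.X₁) (p₃ : parasitic Scheme.fppfPrecoverage S C.X₃) :
    parasitic Scheme.fppfPrecoverage S C.X₂ :=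
  Helper13Adeq.parasitic_of_exact PP flat_of_PP C hC p₁ p₃

end Fppf

end

end Groth.Agent.Helper13Adeq
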