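import Groth.Agent.Lib.Helper13SigmaExt
import Groth.Agent.Lib.Helper13AdeqPar
import Mathlib.AlgebraicGeometry.Sites.SheafQuasiCompact
import Mathlib.AlgebraicGeometry.Sites.Fpqc

/-!
# Adequate modules are sheaves for the fpqc topology (helper13)

`sigmaExt_isSheafFor_singleton` (sheaf condition of the extended presheaf for a faithfully flat map
of affine schemes, from `adequate_ff_descent`), `isSheaf_fpqc_of_adequateMod` (via Mathlib's
`isSheaf_type_propQCTopology_iff`), `Fppf.isSheaf_fpqc`, `Zar.isSheaf_fpqc`.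
-/

set_option autoImplicit false
universe u
open CategoryTheory Limits Opposite TensorProduct AlgebraicGeometry

namespace Groth.Agent.Helper13Adeq
open Adeq SigmaExt

noncomputable section

section
variable (K : Precoverage Scheme.{u}) [BigSite.OSh K] {S : Scheme.{u}} (M : BigSite.Mod K S)

/-- the underlying presheaf of types of a module on the big site -/
abbrev typePsh : (Over S)ᵒᵖ ⥤ Type (u + 1) := M.val.presheaf ⋙ forget AddCommGrpCat.{u + 1}

theorem mapEl_toMVF_eq_mapL {R : CommRingCat.{u}} (a : Spec R ⟶ S) {B C : Alg R} (g : B ⟶ C)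
    (z : ((toMVF K a).obj M).obj (pt B)) :
    mapEl ((toMVF K a).obj M) g z =
      mapL (typePsh K M) (Y := (specOver a).obj (op C)) (Z := (specOver a).obj (op B))
        (Spec.map (CommRingCat.ofHom g.hom.toRingHom)) (Over.w ((specOver a).map g.op)) z := rfl

end

section
variable (P : MorphismProperty Scheme.{u}) [P.IsStableUnderBaseChange]
  [Scheme.IsJointlySurjectivePreserving P] [P.IsStableUnderComposition]
  [BigSite.OSh (Scheme.precoverage P)]
  (hPopen : ∀ {X Y : Scheme.{u}} (f : X ⟶ Y), P f → IsOpenMap f)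
  (hPimm : ∀ {X Y : Scheme.{u}} (f : X ⟶ Y) [IsOpenImmersion f], P f)
  {S : Scheme.{u}} (M : BigSite.Mod (Scheme.precoverage P) S)

local notation "G" => typePsh (Scheme.precoverage P) M

include hPopen hPimm in
theorem sigmaExt_isSheafFor_singleton (hM : adequateMod (Scheme.precoverage P) S M)
    {A B : CommRingCat.{u}} (f : A ⟶ B) (hfl : Flat (Spec.map f))
    (hsurj : Surjective (Spec.map f)) :
    Presieve.IsSheafFor (sigmaExt (typePsh (Scheme.precoverage P) M))
      (Presieve.singleton (Spec.map f)) := by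
  rw [Presieve.isSheafFor_singleton]
  intro p hp
  let _ : Algebra A B := f.hom.toAlgebra
  have hff : Module.FaithfullyFlat A B := (flat_and_surjective_SpecMap_iff f).1 ⟨hfl, hsurj⟩
  have hyon : Presieve.IsSheafFor (yoneda.obj S) (Presieve.singleton (Spec.map f)) :=
    (GrothendieckTopology.Subcanonical.isSheaf_of_isRepresentable
      (J := Scheme.fpqcTopology) (yoneda.obj S)).isSheafFor_of_mem_precoverage
        (Scheme.Hom.singleton_mem_fpqcPrecoverage _)
  rw [Presieve.isSheafFor_singleton] at hyon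
  obtain ⟨a, ha, hau⟩ := hyon p.1 (fun p₁ p₂ h => congrArg Sigma.fst (hp p₁ p₂ h))
  obtain ⟨tB, m⟩ := p
  have ha' : Spec.map f ≫ a = tB := ha
  subst ha'
  have hF := adequate_toMVF_of_adequateMod P hPopen hPimm M hM A a
  obtain ⟨hinj, hglue⟩ := adequate_ff_descent (A := A) B _ hF
  have hp' : ∀ {Z : Scheme.{u}} (p₁ p₂ : Z ⟶ Spec B), p₁ ≫ Spec.map f = p₂ ≫ Spec.map f →
      res G p₁ ⟨Spec.map f ≫ a, m⟩ = res G p₂ ⟨Spec.map f ≫ a, m⟩ := fun p₁ p₂ h => hp p₁ p₂ h
  -- the element over `Spec B` as an element of `F(B)`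
  let F : MVF A := (toMVF (Scheme.precoverage P) a).obj M
  let m' : F.obj (pt (algOf A B)) := m
  have hcomm : sp (ffL (A := A) B) ≫ Spec.map f = sp (ffR (A := A) B) ≫ Spec.map f :=
    (sp_spStr (ffL (A := A) B)).trans (sp_spStr (ffR (A := A) B)).symm
  have hm : mapEl F (ffL B) m' = mapEl F (ffR B) m' := by
    have h2 := El.snd_eq G (hp' _ _ hcomm)
    unfold tr res at h2
    dsimp only at h2
    rw [mapL_mapL] at h2
    have hw : 𝟙 _ ≫ (sp (ffR (A := A) B) ≫ Spec.map f ≫ a) =
        ((specOver a).obj (op (algOf A (B ⊗[A] B)))).hom := by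
      rw [Category.id_comp, ← Category.assoc]
      exact congrArg (· ≫ a) (sp_spStr (ffR (A := A) B))
    have h3 := congrArg (mapL G (Y := (specOver a).obj (op (algOf A (B ⊗[A] B))))
      (Z := Over.mk (sp (ffR (A := A) B) ≫ Spec.map f ≫ a)) (𝟙 _) hw) h2
    rw [mapL_mapL, mapL_mapL] at h3
    rw [mapEl_toMVF_eq_mapL, mapEl_toMVF_eq_mapL]
    refine Eq.trans ?_ (h3.trans ?_)
    · refine mapL_congr G ?_ _ _
      exact ((Category.id_comp _).trans (Category.id_comp _)).symm
    · refine mapL_congr G ?_ _ _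
      exact Category.id_comp _
  obtain ⟨x, hx⟩ := hglue m' hm
  have hwA : 𝟙 _ ≫ ((specOver a).obj (op (algOf A A))).hom = (Over.mk a).hom := by
    rw [Category.id_comp]
    change Spec.map (CommRingCat.ofHom (RingHom.id A)) ≫ a = a
    rw [CommRingCat.ofHom_id, Spec.map_id, Category.id_comp]
  have hwA' : 𝟙 _ ≫ (Over.mk a).hom = ((specOver a).obj (op (algOf A A))).hom := by
    rw [Category.id_comp, ← hwA, Category.id_comp]
  refine ⟨⟨a, mapL G (Y := Over.mk a) (Z := (specOver a).obj (op (algOf A A))) (𝟙 _) hwA x⟩, ?_, ?_⟩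
  · change res G (Spec.map f) _ = _
    unfold res
    dsimp only
    rw [mapL_mapL]
    refine congrArg (fun z => (⟨Spec.map f ≫ a, z⟩ : El G (Spec B))) ?_
    have hx' : mapL G (Y := (specOver a).obj (op (algOf A B)))
        (Z := (specOver a).obj (op (algOf A A))) (sp (ffι (A := A) B))
        (Over.w ((specOver a).map (ffι (A := A) B).op)) x = m := hx
    rw [← hx']
    refine mapL_congr G ?_ _ _
    exact Category.comp_id _
  · intro q hq
    obtain ⟨a', x'⟩ := q
    have hq' : res G (Spec.map f) ⟨a', x'⟩ = ⟨Spec.map f ≫ a, m⟩ := hq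
    have ha' : a' = a := hau a' (congrArg Sigma.fst hq')
    subst ha'
    have h2 := El.snd_eq G hq'
    unfold tr res at h2
    dsimp only at h2
    rw [mapL_mapL] at h2
    let x'' : F.obj (pt (algOf A A)) :=
      mapL G (Y := (specOver a').obj (op (algOf A A))) (Z := Over.mk a') (𝟙 _) hwA' x'
    have hx'' : mapEl F (ffι B) x'' = m' := by
      rw [mapEl_toMVF_eq_mapL]
      dsimp only [x'']
      rw [mapL_mapL]
      refine Eq.trans ?_ h2
      refine mapL_congr G ?_ _ _
      exact (Category.comp_id _).trans (Category.id_comp _).symm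
    have hxx : x'' = x := hinj (hx''.trans hx.symm)
    refine congrArg (fun z => (⟨a', z⟩ : El G (Spec A))) ?_
    rw [← hxx]
    dsimp only [x'']
    rw [mapL_mapL]
    exact ((mapL_congr G (Category.id_comp _) _ _).trans (mapL_id G _)).symm

include hPopen hPimm in
/-- an adequate module on the big site for `P` is a sheaf for the fpqc topology -/
theorem isSheaf_fpqc_of_adequateMod (hM : adequateMod (Scheme.precoverage P) S M) :
    Presheaf.IsSheaf (QuotSh.J Scheme.fpqcPrecoverage S) M.val.presheaf := by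
  rw [Presheaf.isSheaf_iff_isSheaf_forget _ _ (forget AddCommGrpCat.{u + 1}),
    isSheaf_iff_isSheaf_of_type]
  apply isSheaf_over_of_sigmaExt _ Scheme.fpqcTopology
  · rw [Scheme.fpqcTopology_eq_propQCTopology, isSheaf_type_propQCTopology_iff]
    refine ⟨?_, fun f hf hs => sigmaExt_isSheafFor_singleton P hPopen hPimm M hM f hf hs⟩
    apply isSheaf_sigmaExt _ Scheme.zariskiTopology
    · refine Presieve.isSheaf_of_le _ ?_ (isSheaf_type (Scheme.precoverage P) M)
      exact BigSite.J_mono (Scheme.precoverage_mono (fun X Y f hf => @hPimm _ _ f hf)) S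
    · exact GrothendieckTopology.Subcanonical.isSheaf_of_isRepresentable _
  · exact (GrothendieckTopology.Subcanonical.isSheaf_of_isRepresentable
      (J := Scheme.fpqcTopology) (yoneda.obj S)).isSeparated

end

theorem Fppf.isSheaf_fpqc {S : Scheme.{u}} (M : BigSite.Mod Scheme.fppfPrecoverage S)
    (hM : adequateMod Scheme.fppfPrecoverage S M) :
    Presheaf.IsSheaf (QuotSh.J Scheme.fpqcPrecoverage S)
      ((BigSite.toAbMod Scheme.fppfPrecoverage S).obj M).obj :=
  isSheaf_fpqc_of_adequateMod Fppf.PP Fppf.isOpenMap_of_PP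
    (fun f _ => Fppf.PP_of_isOpenImmersion f) M hM

theorem Zar.isSheaf_fpqc {S : Scheme.{u}} (M : BigSite.Mod Scheme.zariskiPrecoverage S)
    (hM : adequateMod Scheme.zariskiPrecoverage S M) :
    Presheaf.IsSheaf (QuotSh.J Scheme.fpqcPrecoverage S)
      ((BigSite.toAbMod Scheme.zariskiPrecoverage S).obj M).obj :=
  isSheaf_fpqc_of_adequateMod @IsOpenImmersion
    (fun f hf => by
      have : IsOpenImmersion f := hf
      exact f.isOpenEmbedding.isOpenMap)
    (fun f hf => hf) M hM

end

end Groth.Agent.Helper13Adeq
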