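import Mathlib
import Groth.Agent.Lib.Helper13AdeqF

set_option autoImplicit false
universe u v w
open CategoryTheory Limits Opposite TensorProduct

namespace Groth.Agent.Helper13Adeq

open Adeq

variable {A : Type u} [CommRing A]

theorem lTensor_prod_ext {M N : Type v} [AddCommGroup M] [Module A M] [AddCommGroup N] [Module A N]
    (B : Type w) [AddCommGroup B] [Module A B] (t : B ⊗[A] (M × N))
    (h1 : (LinearMap.fst A M N).lTensor B t = 0) (h2 : (LinearMap.snd A M N).lTensor B t = 0) :
    t = 0 := by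
  have h : (LinearMap.id : (M × N) →ₗ[A] M × N) =
      LinearMap.inl A M N ∘ₗ LinearMap.fst A M N + LinearMap.inr A M N ∘ₗ LinearMap.snd A M N := by
    refine LinearMap.ext (fun x => ?_)
    simp
  have := congrArg (fun f : (M × N) →ₗ[A] M × N => f.lTensor B t) h
  simp only [LinearMap.lTensor_id, LinearMap.id_apply, LinearMap.lTensor_add, LinearMap.add_apply,
    LinearMap.lTensor_comp, LinearMap.comp_apply, h1, h2, map_zero, add_zero] at this
  exact this

/-- kernels of maps between adequate functors are adequate -/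
theorem adequate_kernel {F G : MVF A} (φ : F ⟶ G) (hF : adequate A F) (hG : adequate A G) :
    adequate A (kernel φ) := by
  obtain ⟨MF, NF, θF, iF, hiF, hexF⟩ := (adequate_iff F).1 hF
  obtain ⟨MG, NG, θG, iG, hiG, hexG⟩ := (adequate_iff G).1 hG
  let Mm : ModuleCat.{u + 1} A := ModuleCat.of A (MF × MG)
  let inl' : MF ⟶ Mm := ModuleCat.ofHom (LinearMap.inl A MF MG)
  let inr' : MG ⟶ Mm := ModuleCat.ofHom (LinearMap.inr A MF MG)
  let δ : F ⟶ (underline A).obj Mm := iF ≫ (underline A).map inl' + (φ ≫ iG) ≫ (underline A).map inr'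
  have hδ : ∀ (B : Alg A) (x : F.obj (pt B)), δ.app (pt B) x =
      (LinearMap.inl A MF MG).lTensor B (iF.app (pt B) x) +
      (LinearMap.inr A MF MG).lTensor B (iG.app (pt B) (φ.app (pt B) x)) := fun B x => rfl
  have hfstδ : ∀ (B : Alg A) (x : F.obj (pt B)),
      (LinearMap.fst A MF MG).lTensor B (δ.app (pt B) x) = iF.app (pt B) x := by
    intro B x
    rw [hδ, map_add, ← LinearMap.comp_apply, ← LinearMap.comp_apply, ← LinearMap.lTensor_comp,
      ← LinearMap.lTensor_comp, LinearMap.fst_comp_inl, LinearMap.fst_comp_inr,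
      LinearMap.lTensor_id, LinearMap.lTensor_zero, LinearMap.id_apply, LinearMap.zero_apply,
      add_zero]
  have hsndδ : ∀ (B : Alg A) (x : F.obj (pt B)),
      (LinearMap.snd A MF MG).lTensor B (δ.app (pt B) x) = iG.app (pt B) (φ.app (pt B) x) := by
    intro B x
    rw [hδ, map_add, ← LinearMap.comp_apply, ← LinearMap.comp_apply, ← LinearMap.lTensor_comp,
      ← LinearMap.lTensor_comp, LinearMap.snd_comp_inl, LinearMap.snd_comp_inr,
      LinearMap.lTensor_id, LinearMap.lTensor_zero, LinearMap.id_apply, LinearMap.zero_apply,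
      zero_add]
  obtain ⟨Q, q, hq⟩ := exists_image_eq_ker hF Mm δ
  let θ : Mm ⟶ ModuleCat.of A (Q × MG) :=
    ModuleCat.ofHom (q.hom.prod (LinearMap.snd A MF MG))
  refine (adequate_iff _).2 ⟨Mm, ModuleCat.of A (Q × MG), θ, kernel.ι φ ≫ δ, fun B => ?_, fun B => ?_⟩
  · intro x y hxy
    rw [PshMod.comp_app_apply, PshMod.comp_app_apply] at hxy
    apply PshMod.kernel_ι_injective φ (pt B)
    apply hiF B
    rw [← hfstδ, ← hfstδ, hxy]
  · intro t
    change (q.hom.prod (LinearMap.snd A MF MG)).lTensor B t = 0 ↔ _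
    constructor
    · intro ht
      have h1 : q.hom.lTensor B t = 0 := by
        have := congrArg ((LinearMap.fst A Q MG).lTensor B) ht
        rw [← LinearMap.comp_apply, ← LinearMap.lTensor_comp, LinearMap.fst_prod, map_zero] at this
        exact this
      have h2 : (LinearMap.snd A MF MG).lTensor B t = 0 := by
        have := congrArg ((LinearMap.snd A Q MG).lTensor B) ht
        rw [← LinearMap.comp_apply, ← LinearMap.lTensor_comp, LinearMap.snd_prod, map_zero] at this
        exact this
      obtain ⟨x, hx⟩ := (hq B t).1 h1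
      have h3 : φ.app (pt B) x = 0 := by
        apply hiG B
        rw [← hsndδ, hx, h2, map_zero]
        rfl
      obtain ⟨x', hx'⟩ := (PshMod.kernel_ι_exact φ (pt B) x).1 h3
      exact ⟨x', by rw [PshMod.comp_app_apply, hx', hx]⟩
    · rintro ⟨x', rfl⟩
      rw [PshMod.comp_app_apply]
      set x := (kernel.ι φ).app (pt B) x' with hx
      have h3 : φ.app (pt B) x = 0 := (PshMod.kernel_ι_exact φ (pt B) x).2 ⟨x', rfl⟩
      apply lTensor_prod_ext
      · rw [← LinearMap.comp_apply, ← LinearMap.lTensor_comp, LinearMap.fst_prod]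
        exact (hq B _).2 ⟨x, rfl⟩
      · rw [← LinearMap.comp_apply, ← LinearMap.lTensor_comp, LinearMap.snd_prod, hsndδ, h3, map_zero]
        rfl

end Groth.Agent.Helper13Adeq
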