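import Mathlib
import Groth.Agent.Lib.Helper13AdeqG

set_option autoImplicit false
universe u v w v₁ u₁
open CategoryTheory Limits Opposite TensorProduct

namespace Groth.Agent.Helper13Adeq

namespace PshMod

/-- the legs of a cocone in `ModuleCat` as linear maps -/
def leg {R : Type u} [Ring R] {J : Type w} [Category.{v₁} J]
    {K : J ⥤ ModuleCat.{v} R} (c : Cocone K) (j : J) : K.obj j →ₗ[R] c.pt := (c.ι.app j).hom

theorem moduleCat_iSup_range {R : Type u} [Ring R] {J : Type w} [Category.{v₁} J]
    (K : J ⥤ ModuleCat.{v} R) (c : Cocone K) (hc : IsColimit c) :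
    ⨆ j, LinearMap.range (leg c j) = ⊤ := by
  set S : Submodule R c.pt := ⨆ j, LinearMap.range (leg c j) with hS
  let π : c.pt ⟶ ModuleCat.of R (c.pt ⧸ S) := ModuleCat.ofHom S.mkQ
  have h0 : π = 0 := by
    apply hc.hom_ext
    intro j
    rw [comp_zero]
    ext x
    change S.mkQ ((c.ι.app j).hom x) = 0
    rw [Submodule.mkQ_apply, Submodule.Quotient.mk_eq_zero]
    exact Submodule.mem_iSup_of_mem j ⟨x, rfl⟩
  rw [eq_top_iff]
  intro y _
  have : S.mkQ y = 0 := by
    have := congrArg (fun f => f.hom y) h0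
    exact this
  rwa [Submodule.mkQ_apply, Submodule.Quotient.mk_eq_zero] at this

variable {C : Type u₁} [Category.{v₁} C] {R : Cᵒᵖ ⥤ RingCat.{u}}

/-- every section of a coproduct of presheaves of modules is a finite sum of sections of the
summands -/
theorem exists_sum_of_coproduct {ι : Type v} (f : ι → PresheafOfModules.{v} R) (X : Cᵒᵖ)
    (y : (∐ f).obj X) :
    ∃ (s : Finset ι) (g : ∀ i, (f i).obj X), y = ∑ i ∈ s, (Sigma.ι f i).app X (g i) := by
  classical
  have hc : IsColimit ((PresheafOfModules.evaluation.{v} R X).mapCocone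
      (Cofan.mk (∐ f) (Sigma.ι f))) :=
    isColimitOfPreserves _ (coproductIsCoproduct f)
  have htop := moduleCat_iSup_range _ _ hc
  have hy : y ∈ ⨆ j : Discrete ι, LinearMap.range
      (leg ((PresheafOfModules.evaluation.{v} R X).mapCocone (Cofan.mk (∐ f) (Sigma.ι f))) j) := by
    rw [htop]; trivial
  induction hy using Submodule.iSup_induction' with
  | mem j x hx =>
    obtain ⟨z, rfl⟩ := hx
    obtain ⟨i⟩ := j
    refine ⟨{i}, fun i' => if h : i' = i then h ▸ z else 0, ?_⟩
    rw [Finset.sum_singleton]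
    simp only [dite_true]
    rfl
  | zero => exact ⟨∅, fun _ => 0, by rw [Finset.sum_empty]; rfl⟩
  | add x y _ _ hx hy =>
    obtain ⟨s₁, g₁, rfl⟩ := hx
    obtain ⟨s₂, g₂, rfl⟩ := hy
    refine ⟨s₁ ∪ s₂, fun i => (if i ∈ s₁ then g₁ i else 0) + (if i ∈ s₂ then g₂ i else 0), ?_⟩
    simp only [map_add, Finset.sum_add_distrib]
    congr 1
    · rw [← Finset.sum_subset (Finset.subset_union_left (s₂ := s₂))]
      · exact Finset.sum_congr rfl (fun i hi => by rw [if_pos hi])
      · intro i _ hi
        rw [if_neg hi, map_zero]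
    · rw [← Finset.sum_subset (Finset.subset_union_right (s₁ := s₁))]
      · exact Finset.sum_congr rfl (fun i hi => by rw [if_pos hi])
      · intro i _ hi
        rw [if_neg hi, map_zero]

end PshMod

open Adeq DirectSum

variable {A : Type u} [CommRing A]

/-- arbitrary coproducts of adequate functors are adequate -/
theorem adequate_coproduct {ι : Type (u + 1)} (F : ι → MVF A) (hF : ∀ j, adequate A (F j)) :
    adequate A (∐ F) := by
  classical
  choose M N θ i hi hex using fun j => (adequate_iff (F j)).1 (hF j)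
  let θ' : ∀ j, (M j : Type (u + 1)) →ₗ[A] (N j : Type (u + 1)) := fun j => (θ j).hom
  let Ms : ModuleCat.{u + 1} A := ModuleCat.of A (⨁ j, M j)
  let Ns : ModuleCat.{u + 1} A := ModuleCat.of A (⨁ j, N j)
  let Θ : Ms ⟶ Ns := ModuleCat.ofHom (DirectSum.lmap θ')
  let lofM : ∀ j, M j ⟶ Ms := fun j => ModuleCat.ofHom (DirectSum.lof A ι (fun j => M j) j)
  let κ : ∐ F ⟶ (underline A).obj Ms := Sigma.desc (fun j => i j ≫ (underline A).map (lofM j))
  have hκ : ∀ (B : Alg A) (j : ι) (x : (F j).obj (pt B)),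
      κ.app (pt B) ((Sigma.ι F j).app (pt B) x) =
        (DirectSum.lof A ι (fun j => M j) j).lTensor B ((i j).app (pt B) x) := by
    intro B j x
    rw [← PshMod.comp_app_apply, Sigma.ι_desc]
    rfl
  have hiθ : ∀ j, i j ≫ (underline A).map (θ j) = 0 := by
    intro j
    ext X x
    exact (hex j X.unop.unop _).2 ⟨x, rfl⟩
  have hκΘ : κ ≫ (underline A).map Θ = 0 := by
    apply Sigma.hom_ext
    intro j
    rw [Sigma.ι_desc_assoc, Category.assoc, ← Functor.map_comp, comp_zero]
    have : lofM j ≫ Θ = θ j ≫ ModuleCat.ofHom (DirectSum.lof A ι (fun j => N j) j) := by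
      refine ModuleCat.hom_ext (LinearMap.ext (fun x => ?_))
      exact DirectSum.lmap_lof θ' j x
    rw [this, Functor.map_comp, ← Category.assoc, hiθ, zero_comp]
  refine (adequate_iff _).2 ⟨Ms, Ns, Θ, κ, fun B => ?_, fun B => ?_⟩
  · rw [injective_iff_map_eq_zero]
    intro c hc
    obtain ⟨s, g, rfl⟩ := PshMod.exists_sum_of_coproduct F (pt B) c
    have hc' : ∑ j ∈ s, (DirectSum.lof A ι (fun j => (M j : Type (u + 1))) j).lTensor B
        ((i j).app (pt B) (g j)) = (0 : B ⊗[A] ⨁ j, M j) := by
      have e : κ.app (pt B) (∑ j ∈ s, (Sigma.ι F j).app (pt B) (g j)) =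
          ∑ j ∈ s, (DirectSum.lof A ι (fun j => (M j : Type (u + 1))) j).lTensor B
            ((i j).app (pt B) (g j)) := by
        rw [map_sum]
        exact Finset.sum_congr rfl (fun j _ => hκ B j (g j))
      exact e.symm.trans hc
    refine Finset.sum_eq_zero (fun k hk => ?_)
    have h1 := congrArg ((DirectSum.component A ι (fun j => (M j : Type (u + 1))) k).lTensor B) hc'
    rw [map_sum, map_zero, Finset.sum_eq_single k] at h1
    · rw [← LinearMap.comp_apply, ← LinearMap.lTensor_comp,
        DirectSum.component_comp_lof_same, LinearMap.lTensor_id, LinearMap.id_apply] at h1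
      have : g k = 0 := by
        apply hi k B
        rw [h1, map_zero]
        rfl
      rw [this, map_zero]
    · intro j _ hjk
      rw [← LinearMap.comp_apply, ← LinearMap.lTensor_comp]
      have : DirectSum.component A ι (fun j => (M j : Type (u + 1))) k ∘ₗ
          DirectSum.lof A ι (fun j => (M j : Type (u + 1))) j = 0 := by
        rw [DirectSum.component_comp_lof, dif_neg hjk]
      rw [this, LinearMap.lTensor_zero, LinearMap.zero_apply]
    · intro hk'
      exact absurd hk hk'
  · intro t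
    constructor
    · intro ht
      change (DirectSum.lmap θ').lTensor B t = 0 at ht
      obtain ⟨s, hs⟩ := Fam.decomp (A := A) (P := fun j => (M j : Type (u + 1))) B t
      have hts := hs s (Finset.Subset.refl s)
      have h2 : ∀ j, ∃ x : (F j).obj (pt B), (i j).app (pt B) x =
          (DirectSum.component A ι (fun j => M j) j).lTensor B t := by
        intro j
        apply (hex j B _).1
        change (θ' j).lTensor B _ = 0
        rw [← LinearMap.comp_apply, ← LinearMap.lTensor_comp]
        have := Fam.component_αs θ' j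
        rw [Fam.αs] at this
        rw [← this, LinearMap.lTensor_comp, LinearMap.comp_apply, ht, map_zero]
      choose x hx using h2
      refine ⟨∑ j ∈ s, (Sigma.ι F j).app (pt B) (x j), ?_⟩
      rw [map_sum]
      conv_rhs => rw [hts]
      refine Finset.sum_congr rfl (fun j _ => ?_)
      rw [hκ, hx]
    · rintro ⟨c, rfl⟩
      rw [← PshMod.comp_app_apply, hκΘ]
      rfl

open HasColimitOfHasCoproductsOfHasCoequalizers in
/-- colimits of adequate functors are adequate -/
theorem adequate_colimit {J : Type (u + 1)} [SmallCategory J] (D : J ⥤ MVF A)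
    (hD : ∀ j, adequate A (D.obj j)) : adequate A (colimit D) := by
  let c₂ : Cofan D.obj := Cofan.mk (∐ D.obj) (Sigma.ι D.obj)
  let c₁ : Cofan (fun f : Σ p : J × J, p.1 ⟶ p.2 => D.obj f.1.1) :=
    Cofan.mk (∐ fun f : Σ p : J × J, p.1 ⟶ p.2 => D.obj f.1.1) (Sigma.ι _)
  let s : c₁.pt ⟶ c₂.pt := Sigma.desc (fun f => D.map f.2 ≫ Sigma.ι D.obj f.1.2)
  let t : c₁.pt ⟶ c₂.pt := Sigma.desc (fun f => Sigma.ι D.obj f.1.1)
  have hs : ∀ f : Σ p : J × J, p.1 ⟶ p.2,
      c₁.ι.app ⟨f⟩ ≫ s = D.map f.2 ≫ c₂.ι.app ⟨f.1.2⟩ := fun f => Sigma.ι_desc _ _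
  have ht : ∀ f : Σ p : J × J, p.1 ⟶ p.2, c₁.ι.app ⟨f⟩ ≫ t = c₂.ι.app ⟨f.1.1⟩ :=
    fun f => Sigma.ι_desc _ _
  let ck : CokernelCofork (s - t) := CokernelCofork.ofπ (cokernel.π (s - t)) (cokernel.condition _)
  have hck : IsColimit ck := cokernelIsCokernel (s - t)
  let cf : Cofork s t := Preadditive.coforkOfCokernelCofork ck
  have hcf : IsColimit cf := Preadditive.isColimitCoforkOfCokernelCofork hck
  have hcol : IsColimit (buildColimit s t hs ht cf) :=
    buildIsColimit s t hs ht (coproductIsCoproduct _) (coproductIsCoproduct _) hcf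
  have e : colimit D ≅ cokernel (s - t) :=
    IsColimit.coconePointUniqueUpToIso (colimit.isColimit D) hcol
  have h1 : adequate A (cokernel (s - t)) :=
    adequate_cokernel (s - t) (adequate_coproduct _ (fun f => hD f.1.1)) (adequate_coproduct _ hD)
  exact (adequate A).prop_of_iso e.symm h1

end Groth.Agent.Helper13Adeq
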