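import Mathlib.RingTheory.Flat.IsBaseChange
import Mathlib.RingTheory.RingHom.Flat
import Groth.Agent.Lib.Helper13AdeqD

set_option autoImplicit false
set_option linter.style.haveILetI false
universe u v w
open CategoryTheory Limits Opposite TensorProduct
open Adeq

namespace Groth.Agent.Helper13Adeq

section
variable {A B B' : Type u} [CommRing A] [CommRing B] [CommRing B']
    [Algebra A B] [Algebra A B'] [Algebra B B'] [IsScalarTower A B B']

/-- the map `B ⊗ M → B' ⊗ M`, `B`-linear. -/
noncomputable def tmap (M : Type v) [AddCommGroup M] [Module A M] : B ⊗[A] M →ₗ[B] B' ⊗[A] M :=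
  TensorProduct.AlgebraTensorModule.map (Algebra.linearMap B B') LinearMap.id

@[simp] lemma tmap_tmul (M : Type v) [AddCommGroup M] [Module A M] (b : B) (m : M) :
    tmap (A := A) (B' := B') M (b ⊗ₜ[A] m) = algebraMap B B' b ⊗ₜ[A] m := rfl

lemma tmap_isBaseChange (M : Type v) [AddCommGroup M] [Module A M] :
    IsBaseChange B' (tmap (A := A) (B := B) (B' := B') M) := by
  refine IsBaseChange.of_comp (R := A) (S := B) (T := B') (f := TensorProduct.mk A B M 1)
    (TensorProduct.isBaseChange A M B) ?_
  have : ((tmap (A := A) (B := B) (B' := B') M : B ⊗[A] M →ₗ[A] B' ⊗[A] M) ∘ₗ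
      TensorProduct.mk A B M 1) = TensorProduct.mk A B' M 1 := by
    ext m
    simp
  rw [this]
  exact TensorProduct.isBaseChange A M B'

/-- **abstract flat base change for kernels**.  -/
theorem isBaseChange_of_kernel [Module.Flat B B']
    {M N : Type v} [AddCommGroup M] [Module A M] [AddCommGroup N] [Module A N] (φ : M →ₗ[A] N)
    {X X' : Type v} [AddCommGroup X] [Module B X] [AddCommGroup X'] [Module B' X'] [Module B X']
    [IsScalarTower B B' X'] (ρ : X →ₗ[B] X')
    (iX : X →ₗ[B] B ⊗[A] M) (iX' : X' →ₗ[B'] B' ⊗[A] M)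
    (hinj : Function.Injective iX) (hex : Function.Exact iX (φ.baseChange B))
    (hinj' : Function.Injective iX') (hex' : Function.Exact iX' (φ.baseChange B'))
    (hcomp : ∀ x, iX' (ρ x) = tmap M (iX x)) :
    IsBaseChange B' ρ := by
  refine IsBaseChange.of_left_exact B' ρ (tmap (A := A) (B := B) (B' := B') M)
    (tmap (A := A) (B := B) (B' := B') N) (f := iX) (g := φ.baseChange B) (f' := iX')
    (g' := φ.baseChange B') ?_ ?_ (tmap_isBaseChange M) (tmap_isBaseChange N) hex hinj hex' hinj'
  · ext x
    exact (hcomp x).symm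
  · apply LinearMap.ext
    intro x
    induction x using TensorProduct.induction_on with
    | zero => simp
    | tmul b m => simp
    | add x y hx hy => simp only [map_add, hx, hy]

end

open ChangeOfRings in
theorem isIso_of_isBaseChange {R S : Type u} [CommRing R] [CommRing S] (f : R →+* S)
    {X : ModuleCat.{u + 1} R} {Y : ModuleCat.{u + 1} S}
    (α : (ModuleCat.extendScalars.{u, u, u + 1} f).obj X ⟶ Y)
    (hα : letI := f.toAlgebra
      letI : Module R Y := Module.compHom Y f
      haveI : IsScalarTower R S Y := IsScalarTower.of_algebraMap_smul fun r x => rfl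
      ∃ ρ : X →ₗ[R] Y, IsBaseChange S ρ ∧ ∀ x, α.hom ((1 : S) ⊗ₜ[R,f] x) = ρ x) : IsIso α := by
  letI := f.toAlgebra
  letI : Module R Y := Module.compHom Y f
  haveI : IsScalarTower R S Y := IsScalarTower.of_algebraMap_smul fun r x => rfl
  obtain ⟨ρ, hρ, hα⟩ := hα
  have key : ∀ z : S ⊗[R] X, α.hom z = hρ.equiv z := by
    intro z
    induction z using TensorProduct.induction_on with
    | zero => exact (map_zero α.hom).trans (map_zero hρ.equiv).symm
    | tmul s x =>
      rw [IsBaseChange.equiv_tmul, ← hα x]
      obtain ⟨e1, he1⟩ : ∃ e1 : ((ModuleCat.extendScalars.{u, u, u + 1} f).obj X),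
        e1 = ((1 : S) ⊗ₜ[R,f] x) := ⟨_, rfl⟩
      have : (s ⊗ₜ[R] x : S ⊗[R] X) = s • e1 := by
        have h1 := ModuleCat.ExtendScalars.smul_tmul f s 1 x
        rw [mul_one] at h1
        rw [he1]
        exact h1.symm
      rw [this, map_smul, he1]
      rfl
    | add x y hx hy => 
      rw [map_add (hρ.equiv), ← hx, ← hy]
      exact map_add α.hom _ _
  rw [ConcreteCategory.isIso_iff_bijective]
  have hb : Function.Bijective hρ.equiv := hρ.equiv.bijective
  exact ⟨fun a b hab => hb.1 (((key a).symm.trans hab).trans (key b)),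
    fun y => let ⟨z, hz⟩ := hb.2 y; ⟨z, (key z).trans hz⟩⟩

variable {A : Type u} [CommRing A]

theorem isIso_bc_of_adequate_flat (F : MVF A) (hF : adequate A F) {B B' : Alg A} (f : B ⟶ B')
    (hf : f.hom.toRingHom.Flat) : IsIso (F.bc f) := by
  obtain ⟨M, N, φ, i, hinj, hex⟩ := (adequate_iff F).mp hF
  apply isIso_of_isBaseChange f.hom.toRingHom
  letI : Algebra B B' := f.hom.toRingHom.toAlgebra
  letI : Module B (F.obj (pt B')) := Module.compHom _ f.hom.toRingHom
  haveI : IsScalarTower B B' (F.obj (pt B')) := IsScalarTower.of_algebraMap_smul fun r x => rfl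
  haveI : IsScalarTower A B B' := IsScalarTower.of_algebraMap_eq fun a => (f.hom.commutes a).symm
  haveI : Module.Flat B B' := hf
  let ρ : F.obj (pt B) →ₗ[B] F.obj (pt B') :=
    { toFun := fun x => mapEl F f x
      map_add' := mapEl_add F f
      map_smul' := fun b x => mapEl_smul F f b x }
  refine ⟨ρ, ?_, ?_⟩
  · refine isBaseChange_of_kernel φ.hom ρ (i.app (pt B)).hom (i.app (pt B')).hom (hinj B) (hex B)
      (hinj B') (hex B') (fun x => ?_)
    refine (app_mapEl i f x).trans ?_
    generalize (i.app (pt B)) x = y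
    change (f.hom.toLinearMap.rTensor M) y = tmap M y
    induction y using TensorProduct.induction_on with
    | zero => simp
    | tmul b m => rfl
    | add x y hx hy => simp only [map_add, hx, hy]
  · intro x
    have h := congrArg (fun h => h.hom x) (Equiv.apply_symm_apply
      ((ModuleCat.extendRestrictScalarsAdj.{u + 1, u, u} f.hom.toRingHom).homEquiv
        (F.obj (pt B)) (F.obj (pt B'))) (F.map (ptHom f)))
    exact h

end Groth.Agent.Helper13Adeq
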