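import Mathlib.Algebra.DualNumber
import Mathlib.RingTheory.Flat.Basic
import Groth.Agent.Lib.Helper13AdeqI

set_option autoImplicit false
set_option linter.style.haveILetI false
universe u v w
open CategoryTheory Limits Opposite TensorProduct
open Adeq

namespace Groth.Agent.Helper13Adeq

open ChangeOfRings in
theorem injective_smul_of_isIso {R S : Type u} [CommRing R] [CommRing S] (f : R →+* S)
    {X : ModuleCat.{u + 1} R} {Y : ModuleCat.{u + 1} S}
    (α : (ModuleCat.extendScalars.{u, u, u + 1} f).obj X ⟶ Y) [IsIso α]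
    (r : S →+ R) (hr : ∀ a s, r (f a * s) = a * r s) (e : S) (he : r e = 1) :
    Function.Injective (fun x : X => e • α.hom ((1 : S) ⊗ₜ[R,f] x)) := by
  have hα : Function.Injective α.hom :=
    ((ConcreteCategory.isIso_iff_bijective α).mp inferInstance).1
  let S' := (ModuleCat.restrictScalars f).obj (ModuleCat.of S S)
  let r' : S' →ₗ[R] R :=
    { toFun := fun s => r s
      map_add' := fun s t => r.map_add s t
      map_smul' := fun a s => hr a s }
  let T : S' ⊗[R] X →ₗ[R] X := TensorProduct.lift ((LinearMap.lsmul R X) ∘ₗ r')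
  have h3 : ∀ z : X, ∀ w : (ModuleCat.extendScalars.{u, u, u + 1} f).obj X,
      w = ((1 : S) ⊗ₜ[R,f] z) → T (e • w) = z := by
    intro z w hw
    have h1 := ModuleCat.ExtendScalars.smul_tmul f e 1 z
    rw [mul_one] at h1
    subst hw
    have h4 : T (e ⊗ₜ[R,f] z) = z := by
      change r e • z = z
      rw [he, one_smul]
    exact (congrArg T h1).trans h4
  intro x y hxy
  dsimp only at hxy
  rw [← map_smul, ← map_smul] at hxy
  have h2 := hα hxy
  calc x = T _ := (h3 x _ rfl).symm
    _ = T _ := congrArg T h2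
    _ = y := h3 y _ rfl

end Groth.Agent.Helper13Adeq

namespace Groth.Agent.Helper13Adeq

variable {A : Type u} [CommRing A]

/-- the dual numbers algebra -/
noncomputable abbrev dualAlg (B : Alg A) : Alg A := algOf A (DualNumber B)

noncomputable def dualι (B : Alg A) : B ⟶ dualAlg B :=
  CommAlgCat.ofHom (IsScalarTower.toAlgHom A B (DualNumber B))

theorem dualι_apply (B : Alg A) (b : B) : (dualι B).hom b = TrivSqZeroExt.inl b := rfl

theorem dualι_flat (B : Alg A) : (dualι B).hom.toRingHom.Flat := by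
  have : (dualι B).hom.toRingHom = algebraMap B (DualNumber B) := rfl
  rw [this, RingHom.flat_algebraMap_iff]
  exact inferInstanceAs (Module.Flat B (B × B))

open ChangeOfRings in
theorem bc_one_tmul (G : MVF A) {B B' : Alg A} (f : B ⟶ B') (y : G.obj (pt B)) :
    (G.bc f).hom (((1 : B') ⊗ₜ[B, f.hom.toRingHom] y :)) = mapEl G f y := by
  have h := congrArg (fun h => h.hom y) (Equiv.apply_symm_apply
      ((ModuleCat.extendRestrictScalarsAdj.{u + 1, u, u} f.hom.toRingHom).homEquiv
        (G.obj (pt B)) (G.obj (pt B'))) (G.map (ptHom f)))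
  exact h


open ChangeOfRings in
theorem linear_of_additive_unit (F G : MVF A)
    (φ : ∀ B : Alg A, F.obj (pt B) → G.obj (pt B))
    (hnat : ∀ ⦃B B' : Alg A⦄ (f : B ⟶ B') (x : F.obj (pt B)),
      φ B' (F.map (ptHom f) x) = G.map (ptHom f) (φ B x))
    (hadd : ∀ (B : Alg A) (x y : F.obj (pt B)), φ B (x + y) = φ B x + φ B y)
    (hunit : ∀ (B : Alg A) (v : (B : Type u)ˣ) (x : F.obj (pt B)),
      φ B ((v : B) • x) = (v : B) • φ B x)
    (hG : ∀ ⦃B B' : Alg A⦄ (f : B ⟶ B'), f.hom.toRingHom.Flat → IsIso (G.bc f))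
    (B : Alg A) (b : B) (x : F.obj (pt B)) : φ B (b • x) = b • φ B x := by
  haveI := hG (dualι B) (dualι_flat B)
  have hnat' : ∀ ⦃B B' : Alg A⦄ (f : B ⟶ B') (x : F.obj (pt B)),
      φ B' (mapEl F f x) = mapEl G f (φ B x) := hnat
  have hstep : ∀ (c : (dualAlg B : Type u)) (hc : IsUnit (1 + c)) (η : F.obj (pt (dualAlg B))),
      φ (dualAlg B) (c • η) = c • φ (dualAlg B) η := by
    intro c hc η
    obtain ⟨v, hv⟩ := hc
    have h1 : φ (dualAlg B) ((1 + c) • η) = (1 + c) • φ (dualAlg B) η := by
      rw [← hv]; exact hunit (dualAlg B) v η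
    rw [add_smul, add_smul, one_smul, one_smul, hadd] at h1
    exact add_left_cancel h1
  have hu : ∀ c : B, IsUnit (1 + (DualNumber.eps : DualNumber B) * TrivSqZeroExt.inl c) := by
    intro c
    rw [TrivSqZeroExt.isUnit_iff_isUnit_fst]
    simp
  have hinj := injective_smul_of_isIso (dualι B).hom.toRingHom (G.bc (dualι B))
    (TrivSqZeroExt.sndHom B B).toAddMonoidHom (fun a s => by
      change TrivSqZeroExt.snd (TrivSqZeroExt.inl a * s) = a * TrivSqZeroExt.snd s
      simp) (DualNumber.eps : DualNumber B) DualNumber.snd_eps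
  apply hinj
  have e1 := bc_one_tmul G (dualι B) (φ B (b • x))
  have e2 := bc_one_tmul G (dualι B) (b • φ B x)
  refine (congrArg (fun z => (DualNumber.eps : (dualAlg B : Type u)) • z) e1).trans
    (Eq.trans ?_ (congrArg (fun z => (DualNumber.eps : (dualAlg B : Type u)) • z) e2).symm)
  dsimp only
  have hε : IsUnit (1 + (DualNumber.eps : (dualAlg B : Type u))) := by
    have := hu 1
    rwa [TrivSqZeroExt.inl_one, mul_one] at this
  calc (DualNumber.eps : (dualAlg B : Type u)) • mapEl G (dualι B) (φ B (b • x))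
      = (DualNumber.eps : (dualAlg B : Type u)) • φ (dualAlg B) (mapEl F (dualι B) (b • x)) := by
        rw [hnat']
    _ = φ (dualAlg B) ((DualNumber.eps : (dualAlg B : Type u)) • mapEl F (dualι B) (b • x)) :=
        (hstep _ hε _).symm
    _ = φ (dualAlg B) (((DualNumber.eps : (dualAlg B : Type u)) * TrivSqZeroExt.inl b) •
          mapEl F (dualι B) x) := by
        rw [mapEl_smul, smul_smul, dualι_apply]
    _ = ((DualNumber.eps : (dualAlg B : Type u)) * TrivSqZeroExt.inl b) •
          φ (dualAlg B) (mapEl F (dualι B) x) := hstep _ (hu b) _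
    _ = (DualNumber.eps : (dualAlg B : Type u)) • mapEl G (dualι B) (b • φ B x) := by
        rw [mapEl_smul, smul_smul, dualι_apply, hnat']

end Groth.Agent.Helper13Adeq
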