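import Mathlib.Algebra.DualNumber
import Mathlib.RingTheory.Flat.Basic
import Groth.Agent.Lib.Helper13AdeqJ

set_option autoImplicit false
set_option linter.style.haveILetI false
universe u v w
open CategoryTheory Limits Opposite TensorProduct
open Adeq

namespace Groth.Agent.Helper13Adeq

open TrivSqZeroExt

section dn
variable {A : Type u} [CommRing A] {B : Type u} [CommRing B] [Algebra A B]
  {C : Type u} [CommRing C] [Algebra A C]

/-- algebra maps out of the dual numbers -/
noncomputable def dlift (h : B →ₐ[A] C) (e : C) (he : e * e = 0) : DualNumber B →ₐ[A] C :=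
  DualNumber.lift ⟨(h, e), he, fun _ => Commute.all _ _⟩

@[simp] theorem dlift_inl (h : B →ₐ[A] C) (e : C) (he : e * e = 0) (b : B) :
    dlift h e he (inl b) = h b := DualNumber.lift_apply_inl _ b

@[simp] theorem dlift_eps (h : B →ₐ[A] C) (e : C) (he : e * e = 0) :
    dlift h e he DualNumber.eps = e := DualNumber.lift_apply_eps _

variable (M : Type v) [AddCommGroup M] [Module A M]

noncomputable def fstT : DualNumber B ⊗[A] M →ₗ[A] B ⊗[A] M :=
  (fstHom A B B).toLinearMap.rTensor M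

noncomputable def sndL : DualNumber B →ₗ[A] B :=
  { toFun := snd, map_add' := snd_add, map_smul' := snd_smul }

noncomputable def sndT : DualNumber B ⊗[A] M →ₗ[A] B ⊗[A] M := (sndL (A := A) (B := B)).rTensor M

noncomputable def inlT : B ⊗[A] M →ₗ[A] DualNumber B ⊗[A] M :=
  (IsScalarTower.toAlgHom A B (DualNumber B)).toLinearMap.rTensor M

theorem dn_decomp (z : DualNumber B ⊗[A] M) :
    z = inlT M (fstT M z) + (DualNumber.eps : DualNumber B) • inlT M (sndT M z) := by
  induction z using TensorProduct.induction_on with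
  | zero => simp
  | tmul x m =>
    simp only [fstT, sndT, inlT, LinearMap.rTensor_tmul, TensorProduct.smul_tmul', 
      ← TensorProduct.add_tmul]
    congr 1
    apply TrivSqZeroExt.ext <;> simp [sndL, TrivSqZeroExt.algebraMap_eq_inl]
  | add x y hx hy =>
    rw [map_add, map_add, map_add, map_add, smul_add]
    nth_rewrite 1 [hx, hy]
    abel

theorem fstT_inlT (x : B ⊗[A] M) : fstT M (inlT M x) = x := by
  induction x using TensorProduct.induction_on with
  | zero => simp
  | tmul b m => simp [fstT, inlT, TrivSqZeroExt.algebraMap_eq_inl]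
  | add x y hx hy => rw [map_add, map_add, hx, hy]

theorem sndT_inlT (x : B ⊗[A] M) : sndT M (inlT M x) = 0 := by
  induction x using TensorProduct.induction_on with
  | zero => simp
  | tmul b m => simp [sndT, sndL, inlT, TrivSqZeroExt.algebraMap_eq_inl]
  | add x y hx hy => rw [map_add, map_add, hx, hy, add_zero]

theorem fstT_eps_inlT (x : B ⊗[A] M) :
    fstT M ((DualNumber.eps : DualNumber B) • inlT M x) = 0 := by
  induction x using TensorProduct.induction_on with
  | zero => simp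
  | tmul b m => simp [fstT, inlT, TrivSqZeroExt.algebraMap_eq_inl, TensorProduct.smul_tmul']
  | add x y hx hy => rw [map_add, smul_add, map_add, hx, hy, add_zero]

theorem sndT_eps_inlT (x : B ⊗[A] M) :
    sndT M ((DualNumber.eps : DualNumber B) • inlT M x) = x := by
  induction x using TensorProduct.induction_on with
  | zero => simp
  | tmul b m => simp [sndT, sndL, inlT, TrivSqZeroExt.algebraMap_eq_inl, TensorProduct.smul_tmul']
  | add x y hx hy => rw [map_add, smul_add, map_add, hx, hy]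

theorem fstT_comb (x y : B ⊗[A] M) :
    fstT M (inlT M x + (DualNumber.eps : DualNumber B) • inlT M y) = x := by
  rw [map_add, fstT_inlT, fstT_eps_inlT, add_zero]

theorem sndT_comb (x y : B ⊗[A] M) :
    sndT M (inlT M x + (DualNumber.eps : DualNumber B) • inlT M y) = y := by
  rw [map_add, sndT_inlT, sndT_eps_inlT, zero_add]

end dn


variable {A : Type u} [CommRing A]

/-- the element ε of the dual numbers algebra -/
noncomputable def epsB (B : Alg A) : (dualAlg B : Type u) := (DualNumber.eps : DualNumber B)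

/-- the combination `y₀ + ε y₁` in `F(B[ε])` -/
noncomputable def comb (F : MVF A) (B : Alg A) (y₀ y₁ : F.obj (pt B)) : F.obj (pt (dualAlg B)) :=
  mapEl F (dualι B) y₀ + epsB B • mapEl F (dualι B) y₁

theorem app_comb {F G : MVF A} (φ : F ⟶ G) (B : Alg A) (y₀ y₁ : F.obj (pt B)) :
    φ.app (pt (dualAlg B)) (comb F B y₀ y₁) = comb G B (φ.app (pt B) y₀) (φ.app (pt B) y₁) := by
  unfold comb
  rw [map_add, app_smul, app_mapEl, app_mapEl]

theorem comb_add (F : MVF A) (B : Alg A) (y₀ y₁ z₀ z₁ : F.obj (pt B)) :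
    comb F B (y₀ + z₀) (y₁ + z₁) = comb F B y₀ y₁ + comb F B z₀ z₁ := by
  unfold comb
  rw [mapEl_add, mapEl_add, smul_add]
  abel

theorem comb_zero (F : MVF A) (B : Alg A) : comb F B 0 0 = 0 := by
  unfold comb
  rw [mapEl_zero, smul_zero, add_zero]

theorem comb_neg (F : MVF A) (B : Alg A) (y₀ y₁ : F.obj (pt B)) :
    comb F B (-y₀) (-y₁) = - comb F B y₀ y₁ := by
  have h := comb_add F B y₀ y₁ (-y₀) (-y₁)
  rw [add_neg_cancel, add_neg_cancel, comb_zero] at h
  exact (neg_eq_of_add_eq_zero_right h.symm).symm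

theorem comb_sub (F : MVF A) (B : Alg A) (y₀ y₁ z₀ z₁ : F.obj (pt B)) :
    comb F B (y₀ - z₀) (y₁ - z₁) = comb F B y₀ y₁ - comb F B z₀ z₁ := by
  rw [sub_eq_add_neg, sub_eq_add_neg, comb_add, comb_neg, ← sub_eq_add_neg]

theorem mapEl_comb (F : MVF A) {B C : Alg A} (h : dualAlg B ⟶ C) (y₀ y₁ : F.obj (pt B)) :
    mapEl F h (comb F B y₀ y₁) =
      mapEl F (dualι B ≫ h) y₀ + h.hom (epsB B) • mapEl F (dualι B ≫ h) y₁ := by
  unfold comb
  rw [mapEl_add, mapEl_smul, ← mapEl_comp, ← mapEl_comp]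

/-- `F(B[ε]) = F(B) ⊕ ε F(B)` for all `B` -/
def Dec (F : MVF A) : Prop := ∀ B : Alg A,
  (∀ z : F.obj (pt (dualAlg B)), ∃ y₀ y₁, z = comb F B y₀ y₁) ∧
  (∀ y₀ y₁ : F.obj (pt B), comb F B y₀ y₁ = 0 → y₀ = 0 ∧ y₁ = 0)

theorem Dec.inj {F : MVF A} (h : Dec F) {B : Alg A} {y₀ y₁ z₀ z₁ : F.obj (pt B)}
    (e : comb F B y₀ y₁ = comb F B z₀ z₁) : y₀ = z₀ ∧ y₁ = z₁ := by
  have := (h B).2 (y₀ - z₀) (y₁ - z₁) (by rw [comb_sub, e, sub_self])
  exact ⟨sub_eq_zero.1 this.1, sub_eq_zero.1 this.2⟩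

theorem comb_underline (M : ModuleCat.{u + 1} A) (B : Alg A) (y₀ y₁ : B ⊗[A] M) :
    comb ((underline A).obj M) B y₀ y₁ =
      inlT (A := A) (B := B) M y₀ + (DualNumber.eps : DualNumber B) • inlT (A := A) (B := B) M y₁ :=
  rfl

theorem dec_underline (M : ModuleCat.{u + 1} A) : Dec ((underline A).obj M) := by
  intro B
  constructor
  · intro z
    refine ⟨fstT (A := A) (B := B) M z, sndT (A := A) (B := B) M z, ?_⟩
    exact dn_decomp (A := A) (B := B) M z
  · intro y₀ y₁ h
    have h' : inlT (A := A) (B := B) M y₀ +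
        (DualNumber.eps : DualNumber B) • inlT (A := A) (B := B) M y₁ = 0 := h
    constructor
    · have := fstT_comb (A := A) (B := B) M y₀ y₁
      rw [h', map_zero] at this
      exact this.symm
    · have := sndT_comb (A := A) (B := B) M y₀ y₁
      rw [h', map_zero] at this
      exact this.symm

theorem dec_of_left_exact {F : MVF A} {P P' : ModuleCat.{u + 1} A} (φ : P ⟶ P')
    (i : F ⟶ (underline A).obj P) (hinj : ∀ B : Alg A, Function.Injective (i.app (pt B)))
    (hex : ∀ B : Alg A, Function.Exact (i.app (pt B)) (((underline A).map φ).app (pt B))) :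
    Dec F := by
  intro B
  constructor
  · intro z
    obtain ⟨p₀, p₁, hp⟩ := (dec_underline P B).1 (i.app (pt (dualAlg B)) z)
    have h0 : ((underline A).map φ).app (pt (dualAlg B)) (i.app (pt (dualAlg B)) z) = 0 :=
      (hex (dualAlg B) _).2 ⟨z, rfl⟩
    rw [hp, app_comb] at h0
    obtain ⟨h1, h2⟩ := (dec_underline P' B).2 _ _ h0
    obtain ⟨y₀, hy₀⟩ := (hex B p₀).1 h1
    obtain ⟨y₁, hy₁⟩ := (hex B p₁).1 h2
    refine ⟨y₀, y₁, hinj (dualAlg B) ?_⟩
    rw [app_comb, hy₀, hy₁, hp]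
  · intro y₀ y₁ h
    have := congrArg (i.app (pt (dualAlg B))) h
    rw [app_comb, map_zero] at this
    obtain ⟨h1, h2⟩ := (dec_underline P B).2 _ _ this
    exact ⟨hinj B (h1.trans (map_zero _).symm), hinj B (h2.trans (map_zero _).symm)⟩

theorem dec_of_shortExact {F G H : MVF A} (i : F ⟶ G) (g : G ⟶ H)
    (hinj : ∀ B : Alg A, Function.Injective (i.app (pt B)))
    (hex : ∀ B : Alg A, Function.Exact (i.app (pt B)) (g.app (pt B)))
    (hsurj : ∀ B : Alg A, Function.Surjective (g.app (pt B)))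
    (hF : Dec F) (hH : Dec H) : Dec G := by
  intro B
  constructor
  · intro z
    obtain ⟨l₀, l₁, hl⟩ := (hH B).1 (g.app (pt (dualAlg B)) z)
    obtain ⟨y₀, hy₀⟩ := hsurj B l₀
    obtain ⟨y₁, hy₁⟩ := hsurj B l₁
    have h0 : g.app (pt (dualAlg B)) (z - comb G B y₀ y₁) = 0 := by
      rw [map_sub, app_comb, hy₀, hy₁, hl, sub_self]
    obtain ⟨x, hx⟩ := (hex (dualAlg B) _).1 h0
    obtain ⟨x₀, x₁, hx'⟩ := (hF B).1 x
    refine ⟨y₀ + i.app (pt B) x₀, y₁ + i.app (pt B) x₁, ?_⟩
    rw [comb_add, ← app_comb, ← hx', hx]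
    abel
  · intro y₀ y₁ h
    have := congrArg (g.app (pt (dualAlg B))) h
    rw [app_comb, map_zero] at this
    obtain ⟨h1, h2⟩ := (hH B).2 _ _ this
    obtain ⟨x₀, hx₀⟩ := (hex B y₀).1 h1
    obtain ⟨x₁, hx₁⟩ := (hex B y₁).1 h2
    rw [← hx₀, ← hx₁, ← app_comb] at h
    have h3 := hinj (dualAlg B) (h.trans (map_zero _).symm)
    obtain ⟨h4, h5⟩ := (hF B).2 _ _ h3
    rw [← hx₀, ← hx₁, h4, h5, map_zero]
    exact ⟨rfl, rfl⟩

end Groth.Agent.Helper13Adeq
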