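import Mathlib.Algebra.DualNumber
import Mathlib.RingTheory.Flat.Basic
import Groth.Agent.Lib.Helper13AdeqK

set_option autoImplicit false
set_option linter.style.haveILetI false
universe u v w
open CategoryTheory Limits Opposite TensorProduct
open Adeq

namespace Groth.Agent.Helper13Adeq

open TrivSqZeroExt

variable {A : Type u} [CommRing A]

/-- maps out of the dual numbers algebra, in `Alg A` -/
noncomputable def dl {B C : Alg A} (k : B ⟶ C) (e : C) (he : e * e = 0) : dualAlg B ⟶ C :=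
  CommAlgCat.ofHom (dlift k.hom e he)

theorem dualι_dl {B C : Alg A} (k : B ⟶ C) (e : C) (he : e * e = 0) :
    dualι B ≫ dl k e he = k := by
  ext b
  change dlift k.hom e he (inl b) = k.hom b
  rw [dlift_inl]

theorem dl_eps {B C : Alg A} (k : B ⟶ C) (e : C) (he : e * e = 0) :
    (dl k e he).hom (epsB B) = e := dlift_eps k.hom e he

theorem mapEl_dl_comb (F : MVF A) {B C : Alg A} (k : B ⟶ C) (e : C) (he : e * e = 0)
    (y₀ y₁ : F.obj (pt B)) :
    mapEl F (dl k e he) (comb F B y₀ y₁) = mapEl F k y₀ + e • mapEl F k y₁ := by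
  rw [mapEl_comb, dualι_dl, dl_eps]

theorem epsB_mul_epsB (B : Alg A) : epsB B * epsB B = 0 := DualNumber.eps_mul_eps

theorem eps_smul_comb (F : MVF A) (B : Alg A) (a b : F.obj (pt B)) :
    epsB B • comb F B a b = comb F B 0 a := by
  unfold comb
  rw [smul_add, smul_smul, epsB_mul_epsB, zero_smul, add_zero, mapEl_zero, zero_add]

/-- the projection `B[ε] → B` -/
noncomputable def dπ (B : Alg A) : dualAlg B ⟶ B := dl (𝟙 B) 0 (mul_zero 0)

theorem dualι_dπ (B : Alg A) : dualι B ≫ dπ B = 𝟙 B := dualι_dl _ _ _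

theorem mapEl_πι_comb (F : MVF A) (B : Alg A) (a b : F.obj (pt B)) :
    mapEl F (dπ B ≫ dualι B) (comb F B a b) = comb F B a 0 := by
  rw [mapEl_comp, dπ, mapEl_dl_comb, zero_smul, add_zero, mapEl_id]
  unfold comb
  rw [mapEl_zero, smul_zero, add_zero]


theorem comb_zero_left (F : MVF A) (B : Alg A) (a : F.obj (pt B)) :
    comb F B 0 a = epsB B • mapEl F (dualι B) a := by
  unfold comb
  rw [mapEl_zero, zero_add]

theorem exists_linear_section {G L : MVF A} (g : G ⟶ L) (hG : Dec G) (hL : Dec L)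
    (s₀ : ∀ B : Alg A, L.obj (pt B) → G.obj (pt B))
    (hs₀ : ∀ (B : Alg A) (ξ : L.obj (pt B)), g.app (pt B) (s₀ B ξ) = ξ)
    (hnat : ∀ ⦃B B' : Alg A⦄ (f : B ⟶ B') (ξ : L.obj (pt B)),
      s₀ B' (mapEl L f ξ) = mapEl G f (s₀ B ξ)) :
    ∃ s : L ⟶ G, s ≫ g = 𝟙 L := by
  let Zel : ∀ B : Alg A, L.obj (pt B) → G.obj (pt (dualAlg B)) :=
    fun B ξ => s₀ (dualAlg B) (epsB B • mapEl L (dualι B) ξ)
  have hex : ∀ (B : Alg A) (ξ : L.obj (pt B)), ∃ y₁ y₀, Zel B ξ = comb G B y₀ y₁ :=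
    fun B ξ => let ⟨y₀, y₁, h⟩ := (hG B).1 (Zel B ξ); ⟨y₁, y₀, h⟩
  let s' : ∀ B : Alg A, L.obj (pt B) → G.obj (pt B) := fun B ξ => Classical.choose (hex B ξ)
  have hs'ex : ∀ (B : Alg A) (ξ : L.obj (pt B)), ∃ y₀, Zel B ξ = comb G B y₀ (s' B ξ) :=
    fun B ξ => Classical.choose_spec (hex B ξ)
  have hs' : ∀ (B : Alg A) (ξ : L.obj (pt B)) (y₀ y₁ : G.obj (pt B)),
      Zel B ξ = comb G B y₀ y₁ → s' B ξ = y₁ := by
    intro B ξ y₀ y₁ h
    obtain ⟨z₀, hz⟩ := hs'ex B ξ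
    exact (hG.inj (hz.symm.trans h)).2
  have star : ∀ (B C : Alg A) (k : B ⟶ C) (e : C) (he : e * e = 0) (ξ : L.obj (pt B))
      (y₀ y₁ : G.obj (pt B)), Zel B ξ = comb G B y₀ y₁ →
      s₀ C (e • mapEl L k ξ) = mapEl G k y₀ + e • mapEl G k y₁ := by
    intro B C k e he ξ y₀ y₁ h
    have h1 : mapEl L (dl k e he) (epsB B • mapEl L (dualι B) ξ) = e • mapEl L k ξ := by
      rw [mapEl_smul, ← mapEl_comp, dualι_dl, dl_eps]
    rw [← h1, hnat, ← mapEl_dl_comb G k e he, ← h]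
  -- section property
  have hsec : ∀ (B : Alg A) (ξ : L.obj (pt B)), g.app (pt B) (s' B ξ) = ξ := by
    intro B ξ
    obtain ⟨y₀, hy⟩ := hs'ex B ξ
    have h1 := congrArg (g.app (pt (dualAlg B))) hy
    rw [app_comb, hs₀, ← comb_zero_left] at h1
    exact (hL.inj h1).2.symm
  -- naturality
  have hs'nat : ∀ ⦃B B' : Alg A⦄ (f : B ⟶ B') (ξ : L.obj (pt B)),
      s' B' (mapEl L f ξ) = mapEl G f (s' B ξ) := by
    intro B B' f ξ
    obtain ⟨y₀, hy⟩ := hs'ex B ξ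
    apply hs' B' (mapEl L f ξ) (mapEl G f y₀)
    have h1 := star B (dualAlg B') (f ≫ dualι B') (epsB B') (epsB_mul_epsB B') ξ y₀ _ hy
    rw [mapEl_comp, mapEl_comp, mapEl_comp] at h1
    exact h1
  -- homogeneity
  have hs'smul : ∀ (B : Alg A) (c : B) (ξ : L.obj (pt B)), s' B (c • ξ) = c • s' B ξ := by
    intro B c ξ
    obtain ⟨y₀, hy⟩ := hs'ex B ξ
    apply hs' B (c • ξ) y₀
    have he : ((dualι B).hom c * epsB B) * ((dualι B).hom c * epsB B) = 0 := by
      rw [mul_mul_mul_comm, epsB_mul_epsB, mul_zero]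
    have h1 := star B (dualAlg B) (dualι B) ((dualι B).hom c * epsB B) he ξ y₀ _ hy
    rw [mul_comm, ← smul_smul, ← smul_smul, ← mapEl_smul, ← mapEl_smul] at h1
    exact h1
  -- additivity
  have hs'add : ∀ (B : Alg A) (ξ ξ' : L.obj (pt B)), s' B (ξ + ξ') = s' B ξ + s' B ξ' := by
    intro B ξ ξ'
    let B₁ := dualAlg B
    let ι₁ := dualι B
    let ι₂ := dualι B₁
    let X : L.obj (pt (dualAlg B₁)) :=
      (ι₂.hom (epsB B)) • mapEl L ι₂ (mapEl L ι₁ ξ) + epsB B₁ • mapEl L ι₂ (mapEl L ι₁ ξ')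
    obtain ⟨W₀, W₁, hW⟩ := (hG B₁).1 (s₀ (dualAlg B₁) X)
    have hX : ∀ (k : B₁ ⟶ B₁) (e : B₁) (he : e * e = 0),
        mapEl L (dl k e he) X =
          k.hom (epsB B) • mapEl L (ι₁ ≫ k) ξ + e • mapEl L (ι₁ ≫ k) ξ' := by
      intro k e he
      simp only [X]
      rw [mapEl_add, mapEl_smul, mapEl_smul, ← mapEl_comp, ← mapEl_comp, ← mapEl_comp,
        ← mapEl_comp, dl_eps]
      have : ι₂ ≫ dl k e he = k := dualι_dl k e he
      have h2 : (dl k e he).hom (ι₂.hom (epsB B)) = k.hom (epsB B) :=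
        congrArg (fun h => h.hom (epsB B)) this
      rw [this, h2]
    obtain ⟨y₀, hy⟩ := hs'ex B ξ
    obtain ⟨y₀', hy'⟩ := hs'ex B ξ'
    obtain ⟨y₀'', hy''⟩ := hs'ex B (ξ + ξ')
    obtain ⟨z₀, z₁, hz⟩ := (hG B).1 W₁
    have e1 : W₀ = Zel B ξ := by
      have h1 := congrArg (mapEl G (dl (𝟙 B₁) 0 (mul_zero 0))) hW
      rw [← hnat, hX, mapEl_dl_comb, zero_smul, add_zero, zero_smul, add_zero, mapEl_id,
        Category.comp_id] at h1
      exact h1.symm
    have e3 : W₀ + epsB B • W₁ = Zel B (ξ + ξ') := by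
      have h1 := congrArg (mapEl G (dl (𝟙 B₁) (epsB B) (epsB_mul_epsB B))) hW
      rw [← hnat, hX, mapEl_dl_comb, mapEl_id, mapEl_id, Category.comp_id] at h1
      have h2 : (𝟙 B₁ : B₁ ⟶ B₁).hom (epsB B) = epsB B := rfl
      rw [h2, ← smul_add, ← mapEl_add] at h1
      exact h1.symm
    have e2 : mapEl G (dπ B ≫ ι₁) W₀ + epsB B • mapEl G (dπ B ≫ ι₁) W₁ = Zel B ξ' := by
      have h1 := congrArg (mapEl G (dl (dπ B ≫ ι₁) (epsB B) (epsB_mul_epsB B))) hW
      rw [← hnat, hX, mapEl_dl_comb] at h1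
      have h2 : (dπ B ≫ ι₁).hom (epsB B) = 0 := by
        change ι₁.hom ((dπ B).hom (epsB B)) = 0
        rw [dπ, dl_eps, map_zero]
      have h3 : ι₁ ≫ dπ B ≫ ι₁ = ι₁ := by
        rw [← Category.assoc, dualι_dπ, Category.id_comp]
      rw [h2, h3, zero_smul, zero_add] at h1
      exact h1.symm
    rw [e1, hy, hz] at e2 e3
    rw [mapEl_πι_comb, mapEl_πι_comb, eps_smul_comb, ← comb_add, hy'] at e2
    rw [eps_smul_comb, ← comb_add, hy''] at e3
    have h2 := (hG.inj e2).2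
    have h3 := (hG.inj e3).2
    rw [zero_add] at h2
    rw [← h3, h2]
  let s : L ⟶ G :=
    { app := fun X => ModuleCat.ofHom
        { toFun := s' X.unop.unop
          map_add' := hs'add X.unop.unop
          map_smul' := hs'smul X.unop.unop }
      naturality := fun {X Y} f => by
        refine ModuleCat.hom_ext (LinearMap.ext fun x => ?_)
        exact hs'nat f.unop.unop x }
  refine ⟨s, ?_⟩
  ext X x
  exact hsec X.unop.unop x

end Groth.Agent.Helper13Adeq
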