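import Mathlib.Algebra.DualNumber
import Mathlib.RingTheory.Flat.Basic
import Groth.Agent.Lib.Helper13AdeqL
import Groth.Agent.Lib.Helper13AdeqH

set_option autoImplicit false
set_option linter.style.haveILetI false
universe u v w
open CategoryTheory Limits Opposite TensorProduct
open Adeq

namespace Groth.Agent.Helper13Adeq

open Module Univ

theorem coords_unique {A : Type u} [CommRing A] {P : Type v} [AddCommGroup P] [Module A P]
    {n : ℕ} (eP : Basis (Fin n) A P) (B : Type w) [CommRing B] [Algebra A B] (c c' : Fin n → B)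
    (h : ∑ j, c j ⊗ₜ[A] eP j = ∑ j, c' j ⊗ₜ[A] eP j) : c = c' := by
  funext j
  have h1 : ∑ j, (c j - c' j) ⊗ₜ[A] eP j = 0 := by
    simp only [TensorProduct.sub_tmul, Finset.sum_sub_distrib, h, sub_self]
  exact sub_eq_zero.1 (coords_eq_zero eP B (fun j => c j - c' j) h1 j)

theorem RU_algHom_ext {A : Type u} [CommRing A] {n m : ℕ} (a : Fin m → Fin n → A)
    {B : Type w} [CommRing B] [Algebra A B] (f f' : RU a →ₐ[A] B)
    (h : ∀ j, f (xb a j) = f' (xb a j)) : f = f' := by
  apply Ideal.Quotient.algHom_ext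
  apply MvPolynomial.algHom_ext
  intro j
  exact h j

variable {A : Type u} [CommRing A]

/-- a linearly adequate functor is representable (as a set-valued functor) -/
theorem exists_universal {L : MVF A} {P P' : ModuleCat.{u + 1} A} [Module.Finite A P]
    [Module.Free A P] [Module.Finite A P'] [Module.Free A P'] (φ₀ : P ⟶ P')
    (i : L ⟶ (underline A).obj P) (hinj : ∀ B : Alg A, Function.Injective (i.app (pt B)))
    (hex : ∀ B : Alg A, Function.Exact (i.app (pt B)) (((underline A).map φ₀).app (pt B))) :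
    ∃ (R : Alg A) (ηu : L.obj (pt R)), ∀ (B : Alg A) (ξ : L.obj (pt B)),
      ∃ f : R ⟶ B, mapEl L f ηu = ξ ∧ ∀ f' : R ⟶ B, mapEl L f' ηu = ξ → f' = f := by
  classical
  rcases subsingleton_or_nontrivial A with hA | hA
  · refine ⟨algOf A A, 0, fun B ξ => ?_⟩
    have hB : Subsingleton B := by
      refine ⟨fun x y => ?_⟩
      have h1 : (1 : B) = 0 := by
        rw [← map_one (algebraMap A B), Subsingleton.elim (1 : A) 0, map_zero]
      rw [← one_mul x, ← one_mul y, h1, zero_mul, zero_mul]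
    have hLB : Subsingleton (L.obj (pt B)) := Module.subsingleton B _
    refine ⟨CommAlgCat.ofHom (Algebra.ofId A B), Subsingleton.elim _ _, fun f' _ => ?_⟩
    ext x
  let n := Module.finrank A P
  let m := Module.finrank A P'
  let eP : Basis (Fin n) A P := Module.finBasis A P
  let eP' : Basis (Fin m) A P' := Module.finBasis A P'
  let a : Fin m → Fin n → A := fun i j => eP'.repr (φ₀.hom (eP j)) i
  let R : Alg A := algOf A (RU a)
  let ξu : (RU a) ⊗[A] P := ∑ j, xb a j ⊗ₜ[A] eP j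
  have hξu : ((underline A).map φ₀).app (pt R) ξu = 0 := by
    change φ₀.hom.baseChange (RU a) ξu = 0
    rw [baseChange_sum_basis eP eP']
    refine Finset.sum_eq_zero (fun i _ => ?_)
    rw [rel a i, TensorProduct.zero_tmul]
  obtain ⟨ηu, hηu⟩ := (hex R ξu).1 hξu
  have inat : ∀ {B B' : Alg A} (f : B ⟶ B') (η : L.obj (pt B)),
      i.app (pt B') (mapEl L f η) = (f.hom.toLinearMap.rTensor P) (i.app (pt B) η) :=
    fun f η => app_mapEl i f η
  have hmap : ∀ {B : Alg A} (f : R ⟶ B),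
      i.app (pt B) (mapEl L f ηu) = ∑ j, f.hom (xb a j) ⊗ₜ[A] eP j := by
    intro B f
    rw [inat, hηu]
    simp only [ξu, map_sum, LinearMap.rTensor_tmul]
    rfl
  refine ⟨R, ηu, fun B ξ => ?_⟩
  obtain ⟨b, hb⟩ := exists_coords eP B (i.app (pt B) ξ)
  have h0 : ((underline A).map φ₀).app (pt B) (i.app (pt B) ξ) = 0 := (hex B _).2 ⟨ξ, rfl⟩
  have hrel : ∀ i, ∑ j, a i j • b j = 0 := by
    apply coords_eq_zero eP' B
    rw [← baseChange_sum_basis eP eP' B φ₀.hom b, ← hb]
    exact h0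
  refine ⟨CommAlgCat.ofHom (classify a b hrel), ?_, fun f' hf' => ?_⟩
  · apply hinj B
    rw [hmap, hb]
    refine Finset.sum_congr rfl (fun j _ => ?_)
    congr 1
    exact classify_xb a b hrel j
  · have h1 := hmap f'
    rw [hf', hb] at h1
    have h2 := coords_unique eP B _ _ h1
    ext : 1
    apply RU_algHom_ext a
    intro j
    rw [← congrFun h2 j]
    exact (classify_xb a b hrel j).symm


theorem exists_set_section {G L : MVF A} (g : G ⟶ L)
    (hsurj : ∀ B : Alg A, Function.Surjective (g.app (pt B)))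
    (R : Alg A) (ηu : L.obj (pt R))
    (huniv : ∀ (B : Alg A) (ξ : L.obj (pt B)),
      ∃ f : R ⟶ B, mapEl L f ηu = ξ ∧ ∀ f' : R ⟶ B, mapEl L f' ηu = ξ → f' = f) :
    ∃ s₀ : ∀ B : Alg A, L.obj (pt B) → G.obj (pt B),
      (∀ (B : Alg A) (ξ : L.obj (pt B)), g.app (pt B) (s₀ B ξ) = ξ) ∧
      ∀ ⦃B B' : Alg A⦄ (f : B ⟶ B') (ξ : L.obj (pt B)),
        s₀ B' (mapEl L f ξ) = mapEl G f (s₀ B ξ) := by
  obtain ⟨γ, hγ⟩ := hsurj R ηu
  let cl : ∀ (B : Alg A) (_ : L.obj (pt B)), R ⟶ B := fun B ξ => Classical.choose (huniv B ξ)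
  have hcl : ∀ (B : Alg A) (ξ : L.obj (pt B)), mapEl L (cl B ξ) ηu = ξ :=
    fun B ξ => (Classical.choose_spec (huniv B ξ)).1
  have hcl' : ∀ (B : Alg A) (ξ : L.obj (pt B)) (f' : R ⟶ B), mapEl L f' ηu = ξ → f' = cl B ξ :=
    fun B ξ => (Classical.choose_spec (huniv B ξ)).2
  refine ⟨fun B ξ => mapEl G (cl B ξ) γ, fun B ξ => ?_, fun B B' f ξ => ?_⟩
  · rw [app_mapEl, hγ, hcl]
  · have : cl B ξ ≫ f = cl B' (mapEl L f ξ) := hcl' _ _ _ (by rw [mapEl_comp, hcl])
    change mapEl G (cl B' (mapEl L f ξ)) γ = mapEl G f (mapEl G (cl B ξ) γ)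
    rw [← this, mapEl_comp]

theorem dec_of_iso {F G : MVF A} (e : F ≅ G) (hG : Dec G) : Dec F := by
  intro B
  constructor
  · intro z
    obtain ⟨y₀, y₁, h⟩ := (hG B).1 (e.hom.app _ z)
    refine ⟨e.inv.app _ y₀, e.inv.app _ y₁, ?_⟩
    rw [← app_comb, ← h, PshMod.hom_inv_app_apply]
  · intro y₀ y₁ h
    have := congrArg (e.hom.app _) h
    rw [app_comb, map_zero] at this
    obtain ⟨h1, h2⟩ := (hG B).2 _ _ this
    have h3 := congrArg (e.inv.app (pt B)) h1
    have h4 := congrArg (e.inv.app (pt B)) h2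
    rw [PshMod.hom_inv_app_apply, map_zero] at h3 h4
    exact ⟨h3, h4⟩

theorem adequate_underline (M : ModuleCat.{u + 1} A) : adequate A ((underline A).obj M) := by
  rw [adequate_iff]
  refine ⟨M, M, 0, 𝟙 _, fun B => Function.injective_id, fun B y => ?_⟩
  constructor
  · intro _
    exact ⟨y, rfl⟩
  · intro _
    rw [Functor.map_zero]
    rfl

theorem adequate_biprod (X Y : MVF A) (hX : adequate A X) (hY : adequate A Y) :
    adequate A (X ⊞ Y) := by
  let f : ULift.{u + 1} Bool → MVF A := fun j => bif j.down then X else Y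
  have hf : ∀ j, adequate A (f j) := by
    rintro ⟨_ | _⟩
    · exact hY
    · exact hX
  have h := adequate_coproduct f hf
  let e : ∐ f ≅ X ⊞ Y :=
    { hom := Sigma.desc (fun j => match j with
        | ⟨true⟩ => (biprod.inl : X ⟶ X ⊞ Y)
        | ⟨false⟩ => (biprod.inr : Y ⟶ X ⊞ Y))
      inv := biprod.desc (Sigma.ι f ⟨true⟩) (Sigma.ι f ⟨false⟩)
      hom_inv_id := by
        apply Sigma.hom_ext
        rintro ⟨_ | _⟩
        · simp
        · simp
      inv_hom_id := by
        apply biprod.hom_ext'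
        · simp
        · simp }
  exact (adequate A).prop_of_iso e h

theorem splits_of_underline_linAdequate (S : ShortComplex (MVF A)) (hS : S.ShortExact)
    (M : ModuleCat.{u + 1} A) (e : S.X₁ ≅ (underline A).obj M) (hL : linAdequate A S.X₃) :
    Nonempty S.Splitting ∧ adequate A S.X₂ := by
  obtain ⟨P, P', φ₀, i, hP1, hP2, hP3, hP4, hinj, hex⟩ := (linAdequate_iff S.X₃).mp hL
  have hmono := hS.mono_f
  have hepi := hS.epi_g
  have finj : ∀ B : Alg A, Function.Injective (S.f.app (pt B)) :=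
    fun B => PresheafOfModules.injective_of_mono _ _
  have gsurj : ∀ B : Alg A, Function.Surjective (S.g.app (pt B)) :=
    fun B => PresheafOfModules.surjective_of_epi _ _
  have fgex : ∀ B : Alg A, Function.Exact (S.f.app (pt B)) (S.g.app (pt B)) :=
    fun B => PshMod.exact_app S hS.exact (pt B)
  have hDL : Dec S.X₃ := dec_of_left_exact φ₀ i hinj hex
  have hD1 : Dec S.X₁ := dec_of_iso e (dec_underline M)
  have hDG : Dec S.X₂ := dec_of_shortExact S.f S.g finj fgex gsurj hD1 hDL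
  obtain ⟨R, ηu, huniv⟩ := exists_universal φ₀ i hinj hex
  obtain ⟨s₀, hs₀, hnat⟩ := exists_set_section S.g gsurj R ηu huniv
  obtain ⟨s, hs⟩ := exists_linear_section S.g hDG hDL s₀ hs₀ hnat
  let sp : S.Splitting := ShortComplex.Splitting.ofExactOfSection S hS.exact s hs hS.mono_f
  refine ⟨⟨sp⟩, ?_⟩
  have h1 : adequate A S.X₁ := (adequate A).prop_of_iso e.symm (adequate_underline M)
  have h3 : adequate A S.X₃ := adequate_of_linAdequate hL
  exact (adequate A).prop_of_iso sp.isoBinaryBiproduct.symm (adequate_biprod _ _ h1 h3)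

end Groth.Agent.Helper13Adeq
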