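import Groth.Agent.Lib.Helper13AdeqX

/-!
# Faithfully flat descent for adequate functors along a finite family (helper13)

`ffψ`, `ffΨ` (tensor products of finite products), `ff_multi_inj`, `ff_multi_glue`,
`adequate_mf_descent` (an adequate functor satisfies the sheaf condition for a finite family
`C k` of algebras whose product is faithfully flat).
-/

set_option autoImplicit false
universe u v
open CategoryTheory Limits Opposite TensorProduct

namespace Groth.Agent.Helper13Adeq
open Adeq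


section
variable (A : Type u) [CommRing A] {ι : Type} [Fintype ι] [DecidableEq ι]
  (C : ι → Type u) [∀ k, CommRing (C k)] [∀ k, Algebra A (C k)]
  (M : Type v) [AddCommGroup M] [Module A M]

theorem piLeft_apply_eq (x : (∀ k, C k) ⊗[A] M) (k : ι) :
    TensorProduct.piLeft A M C x k = (LinearMap.rTensor M (LinearMap.proj k)) x := by
  induction x using TensorProduct.induction_on with
  | zero => simp
  | tmul c m => simp
  | add x y hx hy =>
    rw [map_add, Pi.add_apply, hx, hy, map_add]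

/-- `C' ⊗ C' ≃ Π k l, C k ⊗ C l` -/
noncomputable def ffψ : (∀ k, C k) ⊗[A] (∀ k, C k) ≃ₗ[A] ∀ k l, C k ⊗[A] C l :=
  (TensorProduct.piLeft A (∀ k, C k) C) ≪≫ₗ
    LinearEquiv.piCongrRight (fun k => TensorProduct.piRight A A (C k) C)

theorem ffψ_tmul (c c' : ∀ k, C k) (k l : ι) :
    ffψ A C (c ⊗ₜ c') k l = c k ⊗ₜ c' l := by
  simp [ffψ]

theorem ffψ_apply (x : (∀ k, C k) ⊗[A] (∀ k, C k)) (k l : ι) :
    ffψ A C x k l = TensorProduct.map (LinearMap.proj k) (LinearMap.proj l) x := by
  induction x using TensorProduct.induction_on with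
  | zero => simp
  | tmul c c' => rw [ffψ_tmul]; rfl
  | add x y hx hy => rw [map_add, Pi.add_apply, Pi.add_apply, hx, hy, map_add]

end



section
variable (A : Type u) [CommRing A] {ι : Type} [Fintype ι] [DecidableEq ι]
  (C : ι → Type u) [∀ k, CommRing (C k)] [∀ k, Algebra A (C k)]
  (M : Type v) [AddCommGroup M] [Module A M]

theorem piLeft_tmul (c : ∀ k, C k) (m : M) (k : ι) :
    TensorProduct.piLeft A M C (c ⊗ₜ m) k = c k ⊗ₜ m := by simp

/-- `(C' ⊗ C') ⊗ M ≃ Π k l, (C k ⊗ C l) ⊗ M` -/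
noncomputable def ffΨ :
    ((∀ k, C k) ⊗[A] (∀ k, C k)) ⊗[A] M ≃ₗ[A] ∀ k l, (C k ⊗[A] C l) ⊗[A] M :=
  (TensorProduct.congr (ffψ A C) (LinearEquiv.refl A M)) ≪≫ₗ
    (TensorProduct.piLeft A M (fun k => ∀ l, C k ⊗[A] C l)) ≪≫ₗ
      LinearEquiv.piCongrRight (fun k => TensorProduct.piLeft A M (fun l => C k ⊗[A] C l))

theorem ffΨ_apply (x : ((∀ k, C k) ⊗[A] (∀ k, C k)) ⊗[A] M) (k l : ι) :
    ffΨ A C M x k l =
      (LinearMap.rTensor M (TensorProduct.map (LinearMap.proj k) (LinearMap.proj l))) x := by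
  induction x using TensorProduct.induction_on with
  | zero => simp
  | tmul y m =>
    simp only [ffΨ, LinearEquiv.trans_apply, TensorProduct.congr_tmul, LinearEquiv.refl_apply,
      LinearEquiv.piCongrRight_apply, LinearMap.rTensor_tmul]
    rw [piLeft_apply_eq, piLeft_tmul, LinearMap.rTensor_tmul, LinearMap.proj_apply, ffψ_apply]
  | add x y hx hy => rw [map_add, Pi.add_apply, Pi.add_apply, hx, hy, map_add]

theorem ff_multi_inj [Module.FaithfullyFlat A (∀ k, C k)] (m : M)
    (h : ∀ k, (1 : C k) ⊗ₜ[A] m = 0) : m = 0 := by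
  apply Module.FaithfullyFlat.tensorProduct_mk_injective (A := A) (B := ∀ k, C k) M
  rw [map_zero]
  apply (TensorProduct.piLeft A M C).injective
  rw [map_zero]
  funext k
  rw [piLeft_apply_eq]
  simpa using h k

theorem ff_multi_glue [Module.FaithfullyFlat A (∀ k, C k)] (z : ∀ k, C k ⊗[A] M)
    (h : ∀ k l, (LinearMap.rTensor M
        (Algebra.TensorProduct.includeLeft : C k →ₐ[A] C k ⊗[A] C l).toLinearMap) (z k) =
      (LinearMap.rTensor M
        (Algebra.TensorProduct.includeRight : C l →ₐ[A] C k ⊗[A] C l).toLinearMap) (z l)) :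
    ∃ m : M, ∀ k, z k = (1 : C k) ⊗ₜ[A] m := by
  let z' : (∀ k, C k) ⊗[A] M := (TensorProduct.piLeft A M C).symm z
  have hz' : ∀ k, (LinearMap.rTensor M (LinearMap.proj k)) z' = z k := by
    intro k
    rw [← piLeft_apply_eq]
    simp [z']
  have h0 : ffG A (∀ k, C k) M z' = 0 := by
    apply (ffΨ A C M).injective
    rw [map_zero]
    funext k l
    rw [ffΨ_apply]
    unfold ffG Algebra.TensorProduct.includeLeftSubRight
    rw [← LinearMap.comp_apply, ← LinearMap.rTensor_comp, LinearMap.comp_sub]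
    have e1 : (TensorProduct.map (LinearMap.proj k) (LinearMap.proj l)) ∘ₗ
        (Algebra.TensorProduct.includeLeft : (∀ k, C k) →ₐ[A] _).toLinearMap =
        (Algebra.TensorProduct.includeLeft : C k →ₐ[A] C k ⊗[A] C l).toLinearMap ∘ₗ
          (LinearMap.proj k) := by
      ext c
      simp
    have e2 : (TensorProduct.map (LinearMap.proj k) (LinearMap.proj l)) ∘ₗ
        (Algebra.TensorProduct.includeRight : (∀ k, C k) →ₐ[A] _).toLinearMap =
        (Algebra.TensorProduct.includeRight : C l →ₐ[A] C k ⊗[A] C l).toLinearMap ∘ₗ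
          (LinearMap.proj l) := by
      ext c
      simp
    rw [e1, e2, LinearMap.rTensor_sub, LinearMap.sub_apply, LinearMap.rTensor_comp,
      LinearMap.rTensor_comp, LinearMap.comp_apply, LinearMap.comp_apply, hz', hz', h k l, sub_self]
    rfl
  obtain ⟨m, hm⟩ := (ff_exact A (∀ k, C k) M z').1 h0
  refine ⟨m, fun k => ?_⟩
  rw [← hz' k, ← hm]
  simp

end



section
variable {A : Type u} [CommRing A] {ι : Type} [Fintype ι] [DecidableEq ι]
  (C : ι → Type u) [∀ k, CommRing (C k)] [∀ k, Algebra A (C k)]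

abbrev mfL (k l : ι) : algOf A (C k) ⟶ algOf A (C k ⊗[A] C l) :=
  CommAlgCat.ofHom (Algebra.TensorProduct.includeLeft : C k →ₐ[A] C k ⊗[A] C l)
abbrev mfR (k l : ι) : algOf A (C l) ⟶ algOf A (C k ⊗[A] C l) :=
  CommAlgCat.ofHom (Algebra.TensorProduct.includeRight : C l →ₐ[A] C k ⊗[A] C l)

theorem underline_mf_inj [Module.FaithfullyFlat A (∀ k, C k)] (M : ModuleCat.{u + 1} A)
    (z : A ⊗[A] M) (hz : ∀ k, mapEl ((underline A).obj M) (ffι (C k)) z = 0) : z = 0 := by
  apply (TensorProduct.lid A M).injective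
  rw [map_zero]
  apply ff_multi_inj A C M
  intro k
  have := hz k
  rw [underline_ffι_eq] at this
  exact this

theorem underline_mf_glue [Module.FaithfullyFlat A (∀ k, C k)] (M : ModuleCat.{u + 1} A)
    (z : ∀ k, C k ⊗[A] M)
    (hz : ∀ k l, mapEl ((underline A).obj M) (mfL C k l) (z k) =
      mapEl ((underline A).obj M) (mfR C k l) (z l)) :
    ∃ w : A ⊗[A] M, ∀ k, mapEl ((underline A).obj M) (ffι (C k)) w = z k := by
  obtain ⟨m, hm⟩ := ff_multi_glue A C M z (fun k l => by
    have := hz k l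
    rw [underline_mapEl, underline_mapEl] at this
    exact this)
  refine ⟨(1 : A) ⊗ₜ[A] m, fun k => ?_⟩
  rw [underline_ffι_eq, TensorProduct.lid_tmul, one_smul, hm k]
  rfl

theorem adequate_mf_descent [Module.FaithfullyFlat A (∀ k, C k)] (F : MVF A) (hF : adequate A F) :
    (∀ x : F.obj (pt (algOf A A)), (∀ k, mapEl F (ffι (C k)) x = 0) → x = 0) ∧
      ∀ y : ∀ k, F.obj (pt (algOf A (C k))),
        (∀ k l, mapEl F (mfL C k l) (y k) = mapEl F (mfR C k l) (y l)) →
        ∃ x : F.obj (pt (algOf A A)), ∀ k, mapEl F (ffι (C k)) x = y k := by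
  obtain ⟨M, N, φ, i, hi, hex⟩ := (adequate_iff F).1 hF
  constructor
  · intro x hx
    apply hi (algOf A A)
    rw [map_zero]
    apply underline_mf_inj C M
    intro k
    rw [← app_mapEl, hx k, map_zero]
  · intro y hy
    obtain ⟨w, hw⟩ := underline_mf_glue C M (fun k => i.app (pt (algOf A (C k))) (y k))
      (fun k l => by rw [← app_mapEl, ← app_mapEl, hy k l])
    have h2 : ((underline A).map φ).app (pt (algOf A A)) w = 0 := by
      apply underline_mf_inj C N
      intro k
      rw [← app_mapEl, hw k]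
      exact (hex (algOf A (C k)) _).2 ⟨y k, rfl⟩
    obtain ⟨x, rfl⟩ := (hex (algOf A A) w).1 h2
    refine ⟨x, fun k => hi (algOf A (C k)) ?_⟩
    rw [app_mapEl, hw k]

end

end Groth.Agent.Helper13Adeq
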