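import Mathlib.Algebra.DualNumber
import Mathlib.RingTheory.Flat.Basic
import Groth.Agent.Lib.Helper13AdeqM

set_option autoImplicit false
set_option linter.style.haveILetI false
universe u v w
open CategoryTheory Limits Opposite TensorProduct
open Adeq

namespace Groth.Agent.Helper13Adeq

open TrivSqZeroExt

variable {A : Type u} [CommRing A]

/-- linearization (derivative at zero) of a natural transformation of set-valued functors -/
theorem exists_linearization {G L : MVF A} (hG : Dec G)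
    (s₀ : ∀ B : Alg A, L.obj (pt B) → G.obj (pt B))
    (hnat : ∀ ⦃B B' : Alg A⦄ (f : B ⟶ B') (ξ : L.obj (pt B)),
      s₀ B' (mapEl L f ξ) = mapEl G f (s₀ B ξ)) :
    ∃ s : L ⟶ G, ∀ (B : Alg A) (ξ : L.obj (pt B)),
      ∃ y₀, s₀ (dualAlg B) (epsB B • mapEl L (dualι B) ξ) = comb G B y₀ (s.app (pt B) ξ) := by
  let Zel : ∀ B : Alg A, L.obj (pt B) → G.obj (pt (dualAlg B)) :=
    fun B ξ => s₀ (dualAlg B) (epsB B • mapEl L (dualι B) ξ)
  have hex : ∀ (B : Alg A) (ξ : L.obj (pt B)), ∃ y₁ y₀, Zel B ξ = comb G B y₀ y₁ :=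
    fun B ξ => let ⟨y₀, y₁, h⟩ := (hG B).1 (Zel B ξ); ⟨y₁, y₀, h⟩
  let s' : ∀ B : Alg A, L.obj (pt B) → G.obj (pt B) := fun B ξ => Classical.choose (hex B ξ)
  have hs'ex : ∀ (B : Alg A) (ξ : L.obj (pt B)), ∃ y₀, Zel B ξ = comb G B y₀ (s' B ξ) :=
    fun B ξ => Classical.choose_spec (hex B ξ)
  have hs' : ∀ (B : Alg A) (ξ : L.obj (pt B)) (y₀ y₁ : G.obj (pt B)),
      Zel B ξ = comb G B y₀ y₁ → s' B ξ = y₁ := by
    intro B ξ y₀ y₁ h
    obtain ⟨z₀, hz⟩ := hs'ex B ξ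
    exact (hG.inj (hz.symm.trans h)).2
  have star : ∀ (B C : Alg A) (k : B ⟶ C) (e : C) (he : e * e = 0) (ξ : L.obj (pt B))
      (y₀ y₁ : G.obj (pt B)), Zel B ξ = comb G B y₀ y₁ →
      s₀ C (e • mapEl L k ξ) = mapEl G k y₀ + e • mapEl G k y₁ := by
    intro B C k e he ξ y₀ y₁ h
    have h1 : mapEl L (dl k e he) (epsB B • mapEl L (dualι B) ξ) = e • mapEl L k ξ := by
      rw [mapEl_smul, ← mapEl_comp, dualι_dl, dl_eps]
    rw [← h1, hnat, ← mapEl_dl_comb G k e he, ← h]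
  -- naturality
  have hs'nat : ∀ ⦃B B' : Alg A⦄ (f : B ⟶ B') (ξ : L.obj (pt B)),
      s' B' (mapEl L f ξ) = mapEl G f (s' B ξ) := by
    intro B B' f ξ
    obtain ⟨y₀, hy⟩ := hs'ex B ξ
    apply hs' B' (mapEl L f ξ) (mapEl G f y₀)
    have h1 := star B (dualAlg B') (f ≫ dualι B') (epsB B') (epsB_mul_epsB B') ξ y₀ _ hy
    rw [mapEl_comp, mapEl_comp, mapEl_comp] at h1
    exact h1
  -- homogeneity
  have hs'smul : ∀ (B : Alg A) (c : B) (ξ : L.obj (pt B)), s' B (c • ξ) = c • s' B ξ := by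
    intro B c ξ
    obtain ⟨y₀, hy⟩ := hs'ex B ξ
    apply hs' B (c • ξ) y₀
    have he : ((dualι B).hom c * epsB B) * ((dualι B).hom c * epsB B) = 0 := by
      rw [mul_mul_mul_comm, epsB_mul_epsB, mul_zero]
    have h1 := star B (dualAlg B) (dualι B) ((dualι B).hom c * epsB B) he ξ y₀ _ hy
    rw [mul_comm, ← smul_smul, ← smul_smul, ← mapEl_smul, ← mapEl_smul] at h1
    exact h1
  -- additivity
  have hs'add : ∀ (B : Alg A) (ξ ξ' : L.obj (pt B)), s' B (ξ + ξ') = s' B ξ + s' B ξ' := by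
    intro B ξ ξ'
    let B₁ := dualAlg B
    let ι₁ := dualι B
    let ι₂ := dualι B₁
    let X : L.obj (pt (dualAlg B₁)) :=
      (ι₂.hom (epsB B)) • mapEl L ι₂ (mapEl L ι₁ ξ) + epsB B₁ • mapEl L ι₂ (mapEl L ι₁ ξ')
    obtain ⟨W₀, W₁, hW⟩ := (hG B₁).1 (s₀ (dualAlg B₁) X)
    have hX : ∀ (k : B₁ ⟶ B₁) (e : B₁) (he : e * e = 0),
        mapEl L (dl k e he) X =
          k.hom (epsB B) • mapEl L (ι₁ ≫ k) ξ + e • mapEl L (ι₁ ≫ k) ξ' := by
      intro k e he
      simp only [X]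
      rw [mapEl_add, mapEl_smul, mapEl_smul, ← mapEl_comp, ← mapEl_comp, ← mapEl_comp,
        ← mapEl_comp, dl_eps]
      have : ι₂ ≫ dl k e he = k := dualι_dl k e he
      have h2 : (dl k e he).hom (ι₂.hom (epsB B)) = k.hom (epsB B) :=
        congrArg (fun h => h.hom (epsB B)) this
      rw [this, h2]
    obtain ⟨y₀, hy⟩ := hs'ex B ξ
    obtain ⟨y₀', hy'⟩ := hs'ex B ξ'
    obtain ⟨y₀'', hy''⟩ := hs'ex B (ξ + ξ')
    obtain ⟨z₀, z₁, hz⟩ := (hG B).1 W₁
    have e1 : W₀ = Zel B ξ := by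
      have h1 := congrArg (mapEl G (dl (𝟙 B₁) 0 (mul_zero 0))) hW
      rw [← hnat, hX, mapEl_dl_comb, zero_smul, add_zero, zero_smul, add_zero, mapEl_id,
        Category.comp_id] at h1
      exact h1.symm
    have e3 : W₀ + epsB B • W₁ = Zel B (ξ + ξ') := by
      have h1 := congrArg (mapEl G (dl (𝟙 B₁) (epsB B) (epsB_mul_epsB B))) hW
      rw [← hnat, hX, mapEl_dl_comb, mapEl_id, mapEl_id, Category.comp_id] at h1
      have h2 : (𝟙 B₁ : B₁ ⟶ B₁).hom (epsB B) = epsB B := rfl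
      rw [h2, ← smul_add, ← mapEl_add] at h1
      exact h1.symm
    have e2 : mapEl G (dπ B ≫ ι₁) W₀ + epsB B • mapEl G (dπ B ≫ ι₁) W₁ = Zel B ξ' := by
      have h1 := congrArg (mapEl G (dl (dπ B ≫ ι₁) (epsB B) (epsB_mul_epsB B))) hW
      rw [← hnat, hX, mapEl_dl_comb] at h1
      have h2 : (dπ B ≫ ι₁).hom (epsB B) = 0 := by
        change ι₁.hom ((dπ B).hom (epsB B)) = 0
        rw [dπ, dl_eps, map_zero]
      have h3 : ι₁ ≫ dπ B ≫ ι₁ = ι₁ := by
        rw [← Category.assoc, dualι_dπ, Category.id_comp]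
      rw [h2, h3, zero_smul, zero_add] at h1
      exact h1.symm
    rw [e1, hy, hz] at e2 e3
    rw [mapEl_πι_comb, mapEl_πι_comb, eps_smul_comb, ← comb_add, hy'] at e2
    rw [eps_smul_comb, ← comb_add, hy''] at e3
    have h2 := (hG.inj e2).2
    have h3 := (hG.inj e3).2
    rw [zero_add] at h2
    rw [← h3, h2]
  let s : L ⟶ G :=
    { app := fun X => ModuleCat.ofHom
        { toFun := s' X.unop.unop
          map_add' := hs'add X.unop.unop
          map_smul' := hs'smul X.unop.unop }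
      naturality := fun {X Y} f => by
        refine ModuleCat.hom_ext (LinearMap.ext fun x => ?_)
        exact hs'nat f.unop.unop x }
  exact ⟨s, fun B ξ => hs'ex B ξ⟩

theorem exists_linear_lift {G H L : MVF A} (g : G ⟶ H) (π : L ⟶ H) (hG : Dec G) (hH : Dec H)
    (s₀ : ∀ B : Alg A, L.obj (pt B) → G.obj (pt B))
    (hs₀ : ∀ (B : Alg A) (ξ : L.obj (pt B)), g.app (pt B) (s₀ B ξ) = π.app (pt B) ξ)
    (hnat : ∀ ⦃B B' : Alg A⦄ (f : B ⟶ B') (ξ : L.obj (pt B)),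
      s₀ B' (mapEl L f ξ) = mapEl G f (s₀ B ξ)) :
    ∃ t : L ⟶ G, t ≫ g = π := by
  obtain ⟨s, hs⟩ := exists_linearization hG s₀ hnat
  refine ⟨s, ?_⟩
  ext X x
  let B : Alg A := X.unop.unop
  change g.app (pt B) (s.app (pt B) x) = π.app (pt B) x
  obtain ⟨y₀, hy⟩ := hs B x
  have h1 := congrArg (g.app (pt (dualAlg B))) hy
  rw [app_comb, hs₀, app_smul, app_mapEl, ← comb_zero_left] at h1
  exact (hH.inj h1).2.symm


theorem exists_set_lift {G H L : MVF A} (g : G ⟶ H) (π : L ⟶ H)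
    (hsurj : ∀ B : Alg A, Function.Surjective (g.app (pt B)))
    (R : Alg A) (ηu : L.obj (pt R))
    (huniv : ∀ (B : Alg A) (ξ : L.obj (pt B)),
      ∃ f : R ⟶ B, mapEl L f ηu = ξ ∧ ∀ f' : R ⟶ B, mapEl L f' ηu = ξ → f' = f) :
    ∃ s₀ : ∀ B : Alg A, L.obj (pt B) → G.obj (pt B),
      (∀ (B : Alg A) (ξ : L.obj (pt B)), g.app (pt B) (s₀ B ξ) = π.app (pt B) ξ) ∧
      ∀ ⦃B B' : Alg A⦄ (f : B ⟶ B') (ξ : L.obj (pt B)),
        s₀ B' (mapEl L f ξ) = mapEl G f (s₀ B ξ) := by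
  obtain ⟨γ, hγ⟩ := hsurj R (π.app (pt R) ηu)
  let cl : ∀ (B : Alg A) (_ : L.obj (pt B)), R ⟶ B := fun B ξ => Classical.choose (huniv B ξ)
  have hcl : ∀ (B : Alg A) (ξ : L.obj (pt B)), mapEl L (cl B ξ) ηu = ξ :=
    fun B ξ => (Classical.choose_spec (huniv B ξ)).1
  have hcl' : ∀ (B : Alg A) (ξ : L.obj (pt B)) (f' : R ⟶ B), mapEl L f' ηu = ξ → f' = cl B ξ :=
    fun B ξ => (Classical.choose_spec (huniv B ξ)).2
  refine ⟨fun B ξ => mapEl G (cl B ξ) γ, fun B ξ => ?_, fun B B' f ξ => ?_⟩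
  · rw [app_mapEl, hγ, ← app_mapEl, hcl]
  · have : cl B ξ ≫ f = cl B' (mapEl L f ξ) := hcl' _ _ _ (by rw [mapEl_comp, hcl])
    change mapEl G (cl B' (mapEl L f ξ)) γ = mapEl G f (mapEl G (cl B ξ) γ)
    rw [← this, mapEl_comp]

theorem dec_of_adequate {F : MVF A} (hF : adequate A F) : Dec F := by
  obtain ⟨M, N, φ, i, hinj, hex⟩ := (adequate_iff F).mp hF
  exact dec_of_left_exact φ i hinj hex

theorem adequate_extension (S : ShortComplex (MVF A)) (hS : S.ShortExact)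
    (h₁ : adequate A S.X₁) (h₃ : adequate A S.X₃) : adequate A S.X₂ := by
  have hmono := hS.mono_f
  have hepi := hS.epi_g
  have finj : ∀ B : Alg A, Function.Injective (S.f.app (pt B)) :=
    fun B => PresheafOfModules.injective_of_mono _ _
  have gsurj : ∀ B : Alg A, Function.Surjective (S.g.app (pt B)) :=
    fun B => PresheafOfModules.surjective_of_epi _ _
  have fgex : ∀ B : Alg A, Function.Exact (S.f.app (pt B)) (S.g.app (pt B)) :=
    fun B => PshMod.exact_app S hS.exact (pt B)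
  have hD1 := dec_of_adequate h₁
  have hD3 := dec_of_adequate h₃
  have hD2 : Dec S.X₂ := dec_of_shortExact S.f S.g finj fgex gsurj hD1 hD3
  obtain ⟨ι, L, hL, c, hc, π, hπ⟩ := exists_epi_cofan_linAdequate S.X₃ h₃
  have hlift : ∀ i, ∃ t : L i ⟶ S.X₂, t ≫ S.g = c.inj i ≫ π := by
    intro i
    obtain ⟨P, P', φ₀, j, hP1, hP2, hP3, hP4, hinj, hex⟩ := (linAdequate_iff (L i)).mp (hL i)
    obtain ⟨R, ηu, huniv⟩ := exists_universal φ₀ j hinj hex
    obtain ⟨s₀, hs₀, hnat⟩ := exists_set_lift S.g (c.inj i ≫ π) gsurj R ηu huniv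
    exact exists_linear_lift S.g (c.inj i ≫ π) hD2 hD3 s₀ hs₀ hnat
  choose t ht using hlift
  let T : c.pt ⟶ S.X₂ := Cofan.IsColimit.desc hc t
  have hT : T ≫ S.g = π := by
    apply Cofan.IsColimit.hom_ext hc
    intro i
    rw [← Category.assoc, Cofan.IsColimit.fac, ht]
  have hcpt : adequate A c.pt := by
    have h := adequate_coproduct L (fun i => adequate_of_linAdequate (hL i))
    exact (adequate A).prop_of_iso
      (IsColimit.coconePointUniqueUpToIso (colimit.isColimit _) hc) h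
  have hK : adequate A (kernel π) := adequate_kernel π hcpt h₃
  have h0 : (kernel.ι π ≫ T) ≫ S.g = 0 := by rw [Category.assoc, hT, kernel.condition]
  let ψ : kernel π ⟶ S.X₁ := hS.exact.lift (kernel.ι π ≫ T) h0
  have hψ : ψ ≫ S.f = kernel.ι π ≫ T := hS.exact.lift_f _ h0
  let φ : kernel π ⟶ S.X₁ ⊞ c.pt := biprod.lift (-ψ) (kernel.ι π)
  let q : S.X₁ ⊞ c.pt ⟶ S.X₂ := biprod.desc S.f T
  have w : φ ≫ q = 0 := by
    simp only [φ, q, biprod.lift_desc, Preadditive.neg_comp, hψ]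
    exact neg_add_cancel _
  -- pointwise formulas
  have hqz : ∀ (B : Alg A) (z : (S.X₁ ⊞ c.pt).obj (pt B)),
      q.app (pt B) z = S.f.app (pt B) ((biprod.fst : S.X₁ ⊞ c.pt ⟶ _).app (pt B) z) +
        T.app (pt B) ((biprod.snd : S.X₁ ⊞ c.pt ⟶ _).app (pt B) z) := by
    intro B z
    have : q = biprod.fst ≫ S.f + biprod.snd ≫ T := biprod.desc_eq
    rw [this]
    rfl
  have htot : ∀ (B : Alg A) (z : (S.X₁ ⊞ c.pt).obj (pt B)),
      z = (biprod.inl : _ ⟶ S.X₁ ⊞ c.pt).app (pt B) ((biprod.fst : S.X₁ ⊞ c.pt ⟶ _).app (pt B) z) +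
        (biprod.inr : _ ⟶ S.X₁ ⊞ c.pt).app (pt B) ((biprod.snd : S.X₁ ⊞ c.pt ⟶ _).app (pt B) z) := by
    intro B z
    have h := congrArg (fun α => α.app (pt B) z) (biprod.total (X := S.X₁) (Y := c.pt))
    exact h.symm
  have hφk : ∀ (B : Alg A) (k : (kernel π).obj (pt B)),
      φ.app (pt B) k = (biprod.inl : _ ⟶ S.X₁ ⊞ c.pt).app (pt B) (-(ψ.app (pt B) k)) +
        (biprod.inr : _ ⟶ S.X₁ ⊞ c.pt).app (pt B) ((kernel.ι π).app (pt B) k) := by
    intro B k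
    have : φ = (-ψ) ≫ biprod.inl + kernel.ι π ≫ biprod.inr := biprod.lift_eq
    rw [this]
    rfl
  have hTg : ∀ (B : Alg A) (l : c.pt.obj (pt B)), S.g.app (pt B) (T.app (pt B) l) = π.app (pt B) l :=
    fun B l => congrArg (fun α => α.app (pt B) l) hT
  have hfg : ∀ (B : Alg A) (m : S.X₁.obj (pt B)), S.g.app (pt B) (S.f.app (pt B) m) = 0 :=
    fun B m => congrArg (fun α => α.app (pt B) m) S.zero
  have hψf : ∀ (B : Alg A) (k : (kernel π).obj (pt B)),
      S.f.app (pt B) (ψ.app (pt B) k) = T.app (pt B) ((kernel.ι π).app (pt B) k) :=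
    fun B k => congrArg (fun α => α.app (pt B) k) hψ
  have hπsurj : ∀ B : Alg A, Function.Surjective (π.app (pt B)) :=
    fun B => PresheafOfModules.surjective_of_epi _ _
  have hq_surj : ∀ X : (Alg A)ᵒᵖᵒᵖ, Function.Surjective (q.app X) := by
    intro X y
    let B : Alg A := X.unop.unop
    change S.X₂.obj (pt B) at y
    obtain ⟨l, hl⟩ := hπsurj B (S.g.app (pt B) y)
    have h1 : S.g.app (pt B) (y - T.app (pt B) l) = 0 := by
      rw [map_sub, hTg, hl, sub_self]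
    obtain ⟨m, hm⟩ := (fgex B _).1 h1
    refine ⟨(biprod.inl : _ ⟶ S.X₁ ⊞ c.pt).app (pt B) m +
      (biprod.inr : _ ⟶ S.X₁ ⊞ c.pt).app (pt B) l, ?_⟩
    change q.app (pt B) _ = y
    rw [map_add]
    have e1 : q.app (pt B) ((biprod.inl : _ ⟶ S.X₁ ⊞ c.pt).app (pt B) m) = S.f.app (pt B) m :=
      congrArg (fun α => α.app (pt B) m) (biprod.inl_desc S.f T)
    have e2 : q.app (pt B) ((biprod.inr : _ ⟶ S.X₁ ⊞ c.pt).app (pt B) l) = T.app (pt B) l :=
      congrArg (fun α => α.app (pt B) l) (biprod.inr_desc S.f T)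
    rw [e1, e2, hm]
    abel
  have hex' : ∀ X : (Alg A)ᵒᵖᵒᵖ, Function.Exact (φ.app X) (q.app X) := by
    intro X z
    let B : Alg A := X.unop.unop
    change (S.X₁ ⊞ c.pt).obj (pt B) at z
    constructor
    · intro hz
      change q.app (pt B) z = 0 at hz
      rw [hqz] at hz
      have h1 := congrArg (S.g.app (pt B)) hz
      rw [map_add, hfg, hTg, zero_add, map_zero] at h1
      obtain ⟨k, hk⟩ := (PshMod.kernel_ι_exact π (pt B) _).1 h1
      refine ⟨k, ?_⟩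
      change φ.app (pt B) k = z
      rw [hφk, hk]
      have h2 : -(ψ.app (pt B) k) = (biprod.fst : S.X₁ ⊞ c.pt ⟶ _).app (pt B) z := by
        apply finj B
        rw [map_neg, hψf, hk]
        exact (eq_neg_of_add_eq_zero_left hz).symm
      rw [h2]
      exact (htot B z).symm
    · rintro ⟨k, rfl⟩
      exact congrArg (fun α => α.app X k) w
  let S' : ShortComplex (MVF A) := ShortComplex.mk φ q w
  have hS' : S'.Exact := PshMod.exact_of_app S' hex'
  haveI : Epi S'.g := PresheafOfModules.epi_of_surjective hq_surj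
  have iso : cokernel φ ≅ S.X₂ :=
    IsColimit.coconePointUniqueUpToIso (cokernelIsCokernel φ) hS'.gIsCokernel
  exact (adequate A).prop_of_iso iso (adequate_cokernel φ hK (adequate_biprod _ _ h₁ hcpt))

end Groth.Agent.Helper13Adeq
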