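import Mathlib.Algebra.DualNumber
import Mathlib.RingTheory.Flat.Basic
import Groth.Agent.Lib.Helper13AdeqN

set_option autoImplicit false
set_option linter.style.haveILetI false
universe u v w v₁ u₁
open CategoryTheory Limits Opposite TensorProduct

namespace Groth.Agent.Helper13Adeq

namespace PshMod

variable {C : Type u₁} [Category.{v₁} C] {R : Cᵒᵖ ⥤ RingCat.{u}}

/-- induction principle for sections of a colimit of presheaves of modules -/
theorem colimit_induction {J : Type v} [SmallCategory J] (D : J ⥤ PresheafOfModules.{v} R)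
    (c : Cocone D) (hc : IsColimit c) (X : Cᵒᵖ) (P : c.pt.obj X → Prop) (h0 : P 0)
    (hadd : ∀ x y, P x → P y → P (x + y))
    (hleg : ∀ (j : J) (x : (D.obj j).obj X), P ((c.ι.app j).app X x)) : ∀ y, P y := by
  intro y
  have hc' : IsColimit ((PresheafOfModules.evaluation.{v} R X).mapCocone c) :=
    isColimitOfPreserves _ hc
  have htop := moduleCat_iSup_range _ _ hc'
  have hy : y ∈ ⨆ j : J, LinearMap.range
      (leg ((PresheafOfModules.evaluation.{v} R X).mapCocone c) j) := by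
    rw [htop]; trivial
  induction hy using Submodule.iSup_induction' with
  | mem j x hx =>
    obtain ⟨z, rfl⟩ := hx
    exact hleg j z
  | zero => exact h0
  | add x y _ _ hx hy => exact hadd x y hx hy

end PshMod


open Adeq

variable {A : Type u} [CommRing A]

/-- the standard free module of rank `n`, in the universe of values -/
noncomputable abbrev Pstd (A : Type u) [CommRing A] (n : ℕ) : ModuleCat.{u + 1} A :=
  ModuleCat.of A (ULift.{u + 1} (Fin n → A))

/-- indices of standard linearly adequate functors -/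
abbrev Idx (A : Type u) [CommRing A] : Type (u + 1) := Σ (n m : ℕ), (Pstd A n ⟶ Pstd A m)

/-- the standard linearly adequate functors -/
noncomputable def stdL (a : Idx A) : MVF A := kernel ((underline A).map a.2.2)

theorem linAdequate_stdL (a : Idx A) : linAdequate A (stdL a) :=
  ⟨Pstd A a.1, Pstd A a.2.1, a.2.2, inferInstance, inferInstance, inferInstance, inferInstance,
    ⟨Iso.refl _⟩⟩


theorem subsingleton_obj_of_subsingleton [Subsingleton A] (F : MVF A) (X : (Alg A)ᵒᵖᵒᵖ) :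
    Subsingleton (F.obj X) := by
  let B : Alg A := X.unop.unop
  have hB : Subsingleton B := by
    refine ⟨fun x y => ?_⟩
    have h1 : (1 : B) = 0 := by
      rw [← map_one (algebraMap A B), Subsingleton.elim (1 : A) 0, map_zero]
    rw [← one_mul x, ← one_mul y, h1, zero_mul, zero_mul]
  exact Module.subsingleton B (F.obj (pt B))

theorem exists_iso_stdL (L : MVF A) (hL : linAdequate A L) :
    ∃ a : Idx A, Nonempty (L ≅ stdL a) := by
  rcases subsingleton_or_nontrivial A with hA | hA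
  · refine ⟨⟨0, 0, 0⟩, ⟨⟨0, 0, ?_, ?_⟩⟩⟩
    · ext X x
      haveI := subsingleton_obj_of_subsingleton L X
      exact Subsingleton.elim _ _
    · ext X x
      haveI := subsingleton_obj_of_subsingleton (stdL (A := A) ⟨0, 0, 0⟩) X
      exact Subsingleton.elim _ _
  obtain ⟨M, N, φ, hM1, hM2, hN1, hN2, ⟨e⟩⟩ := hL
  let n := Module.finrank A M
  let m := Module.finrank A N
  let iM : M ≅ Pstd A n :=
    ((Module.finBasis A M).equivFun.trans ULift.moduleEquiv.symm).toModuleIso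
  let iN : N ≅ Pstd A m :=
    ((Module.finBasis A N).equivFun.trans ULift.moduleEquiv.symm).toModuleIso
  let φ' : Pstd A n ⟶ Pstd A m := iM.inv ≫ φ ≫ iN.hom
  refine ⟨⟨n, m, φ'⟩, ⟨e ≪≫ kernel.mapIso ((underline A).map φ) ((underline A).map φ')
    ((underline A).mapIso iM) ((underline A).mapIso iN) ?_⟩⟩
  rw [Functor.mapIso_hom, Functor.mapIso_hom, ← Functor.map_comp, ← Functor.map_comp]
  congr 1
  simp only [φ', Iso.hom_inv_id_assoc]


/-- binary trees of indices -/
inductive GTree (α : Type (u + 1)) : Type (u + 1)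
  | leaf : α → GTree α
  | node : GTree α → GTree α → GTree α

/-- the generating family: finite sums of standard linearly adequate functors -/
noncomputable def GX : GTree (Idx A) → MVF A
  | .leaf a => stdL a
  | .node l r => GX l ⊞ GX r

theorem adequate_GX (t : GTree (Idx A)) : adequate A (GX t) := by
  induction t with
  | leaf a => exact adequate_of_linAdequate (linAdequate_stdL a)
  | node l r hl hr => exact adequate_biprod _ _ hl hr

/-- objects of the index category of `Q(F)` -/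
structure QObj (F : MVF A) : Type (u + 1) where
  t : GTree (Idx A)
  φ : GX t ⟶ F

/-- morphisms of the index category of `Q(F)` -/
@[ext]
structure QHom {F : MVF A} (o o' : QObj F) : Type (u + 1) where
  ψ : GX o.t ⟶ GX o'.t
  w : ψ ≫ o'.φ = o.φ

noncomputable instance (F : MVF A) : SmallCategory (QObj F) where
  Hom o o' := QHom o o'
  id o := ⟨𝟙 _, Category.id_comp _⟩
  comp f g := ⟨f.ψ ≫ g.ψ, by rw [Category.assoc, g.w, f.w]⟩
  id_comp f := QHom.ext (Category.id_comp _)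
  comp_id f := QHom.ext (Category.comp_id _)
  assoc f g h := QHom.ext (Category.assoc _ _ _)

/-- the diagram whose colimit is `Q(F)` -/
noncomputable def QD (F : MVF A) : QObj F ⥤ MVF A where
  obj o := GX o.t
  map f := f.ψ

/-- the coreflection `Q(F)` -/
noncomputable def Qf (F : MVF A) : MVF A := colimit (QD F)

theorem adequate_Qf (F : MVF A) : adequate A (Qf F) :=
  adequate_colimit (QD F) (fun o => adequate_GX o.t)

/-- the coprojections -/
noncomputable def Qc {F : MVF A} (o : QObj F) : GX o.t ⟶ Qf F := colimit.ι (QD F) o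

/-- the counit `Q(F) → F` -/
noncomputable def Qε (F : MVF A) : Qf F ⟶ F :=
  colimit.desc (QD F) { pt := F, ι := { app := fun o => o.φ, naturality := fun _ _ f =>
    (f.w.trans (Category.comp_id _).symm) } }

@[reassoc (attr := simp)]
theorem Qc_ε {F : MVF A} (o : QObj F) : Qc o ≫ Qε F = o.φ :=
  colimit.ι_desc _ _

theorem Qc_w {F : MVF A} {o o' : QObj F} (f : o ⟶ o') : f.ψ ≫ Qc o' = Qc o :=
  colimit.w (QD F) f

theorem Qc_of_comp {F : MVF A} (o' : QObj F) {t : GTree (Idx A)} (ψ : GX t ⟶ GX o'.t) :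
    ψ ≫ Qc o' = Qc (⟨t, ψ ≫ o'.φ⟩ : QObj F) :=
  Qc_w (o := ⟨t, ψ ≫ o'.φ⟩) (o' := o') ⟨ψ, rfl⟩

theorem Qc_zero {F : MVF A} (t : GTree (Idx A)) : Qc (⟨t, 0⟩ : QObj F) = 0 := by
  have := Qc_w (o := (⟨t, 0⟩ : QObj F)) (o' := ⟨t, 0⟩) ⟨0, zero_comp⟩
  rw [← this]
  exact zero_comp

theorem Qc_add_aux {F : MVF A} (o₁ o₂ o₃ : QObj F) (i₁ : GX o₁.t ⟶ GX o₃.t)
    (i₂ : GX o₂.t ⟶ GX o₃.t) (h1 : i₁ ≫ Qc o₃ = Qc o₁) (h2 : i₂ ≫ Qc o₃ = Qc o₂) (B : Alg A)
    (x₁ : (GX o₁.t).obj (pt B)) (x₂ : (GX o₂.t).obj (pt B)) :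
    (Qc o₃).app (pt B) (i₁.app (pt B) x₁ + i₂.app (pt B) x₂) =
      (Qc o₁).app (pt B) x₁ + (Qc o₂).app (pt B) x₂ := by
  rw [map_add, ← h1, ← h2]
  rfl

/-- every section of `Q(F)` comes from a single coprojection -/
theorem Qf_exists_single (F : MVF A) (B : Alg A) (z : (Qf F).obj (pt B)) :
    ∃ (o : QObj F) (x : (GX o.t).obj (pt B)), z = (Qc o).app (pt B) x := by
  refine PshMod.colimit_induction (QD F) (colimit.cocone (QD F)) (colimit.isColimit (QD F)) (pt B)
    (fun z => ∃ (o : QObj F) (x : (GX o.t).obj (pt B)), z = (Qc o).app (pt B) x) ?_ ?_ ?_ z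
  · exact ⟨⟨.leaf ⟨0, 0, 0⟩, 0⟩, 0, (map_zero _).symm⟩
  · rintro _ _ ⟨o₁, x₁, rfl⟩ ⟨o₂, x₂, rfl⟩
    let o₃ : QObj F := ⟨.node o₁.t o₂.t, biprod.desc o₁.φ o₂.φ⟩
    have h1 : (biprod.inl : GX o₁.t ⟶ GX o₁.t ⊞ GX o₂.t) ≫ Qc o₃ = Qc o₁ :=
      Qc_w (o := o₁) (o' := o₃) ⟨biprod.inl, biprod.inl_desc _ _⟩
    have h2 : (biprod.inr : GX o₂.t ⟶ GX o₁.t ⊞ GX o₂.t) ≫ Qc o₃ = Qc o₂ :=
      Qc_w (o := o₂) (o' := o₃) ⟨biprod.inr, biprod.inr_desc _ _⟩
    exact ⟨o₃, _, (Qc_add_aux o₁ o₂ o₃ (biprod.inl : GX o₁.t ⟶ GX o₁.t ⊞ GX o₂.t)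
      (biprod.inr : GX o₂.t ⟶ GX o₁.t ⊞ GX o₂.t) h1 h2 B x₁ x₂).symm⟩
  · intro o x
    exact ⟨o, x, rfl⟩

end Groth.Agent.Helper13Adeq
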