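import Mathlib.Algebra.DualNumber
import Mathlib.RingTheory.Flat.Basic
import Mathlib.CategoryTheory.Adjunction.Comma
import Groth.Agent.Lib.Helper13AdeqO

set_option autoImplicit false
set_option linter.style.haveILetI false
universe u v w v₁ u₁
open CategoryTheory Limits Opposite TensorProduct
open Adeq

namespace Groth.Agent.Helper13Adeq

variable {A : Type u} [CommRing A]

theorem exists_set_map {G L : MVF A} (R : Alg A) (ηu : L.obj (pt R))
    (huniv : ∀ (B : Alg A) (ξ : L.obj (pt B)),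
      ∃ f : R ⟶ B, mapEl L f ηu = ξ ∧ ∀ f' : R ⟶ B, mapEl L f' ηu = ξ → f' = f)
    (x : G.obj (pt R)) :
    ∃ s₀ : ∀ B : Alg A, L.obj (pt B) → G.obj (pt B),
      (∀ (B : Alg A) (f : R ⟶ B), s₀ B (mapEl L f ηu) = mapEl G f x) ∧
      ∀ ⦃B B' : Alg A⦄ (f : B ⟶ B') (ξ : L.obj (pt B)),
        s₀ B' (mapEl L f ξ) = mapEl G f (s₀ B ξ) := by
  let cl : ∀ (B : Alg A) (_ : L.obj (pt B)), R ⟶ B := fun B ξ => Classical.choose (huniv B ξ)
  have hcl : ∀ (B : Alg A) (ξ : L.obj (pt B)), mapEl L (cl B ξ) ηu = ξ :=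
    fun B ξ => (Classical.choose_spec (huniv B ξ)).1
  have hcl' : ∀ (B : Alg A) (ξ : L.obj (pt B)) (f' : R ⟶ B), mapEl L f' ηu = ξ → f' = cl B ξ :=
    fun B ξ => (Classical.choose_spec (huniv B ξ)).2
  have h1 : ∀ (B : Alg A) (f : R ⟶ B), mapEl G (cl B (mapEl L f ηu)) x = mapEl G f x := by
    intro B f
    rw [← hcl' B (mapEl L f ηu) f rfl]
  refine ⟨fun B ξ => mapEl G (cl B ξ) x, h1, fun B B' f ξ => ?_⟩
  have : cl B ξ ≫ f = cl B' (mapEl L f ξ) := hcl' _ _ _ (by rw [mapEl_comp, hcl])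
  change mapEl G (cl B' (mapEl L f ξ)) x = mapEl G f (mapEl G (cl B ξ) x)
  rw [← this, mapEl_comp]

theorem GX_leaf (a : Idx A) : GX (.leaf a) = stdL a := rfl

theorem exists_iso_GX_leaf (L : MVF A) (hL : linAdequate A L) :
    ∃ a : Idx A, Nonempty (L ≅ GX (.leaf a)) := exists_iso_stdL L hL

theorem Qε_surj_of_linAdequate {F L : MVF A} (hL : linAdequate A L) (φ : L ⟶ F) :
    ∃ h : L ⟶ Qf F, h ≫ Qε F = φ := by
  obtain ⟨a, ⟨θ⟩⟩ := exists_iso_GX_leaf L hL
  let o : QObj F := ⟨.leaf a, θ.inv ≫ φ⟩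
  refine ⟨θ.hom ≫ Qc o, ?_⟩
  rw [Category.assoc, Qc_ε]
  exact θ.hom_inv_id_assoc φ

theorem Qε_inj_of_linAdequate {F L : MVF A} (hL : linAdequate A L) (α : L ⟶ Qf F)
    (hα : α ≫ Qε F = 0) : α = 0 := by
  obtain ⟨a, ⟨θ⟩⟩ := exists_iso_GX_leaf L hL
  obtain ⟨P, P', φ₀, j, hP1, hP2, hP3, hP4, hinj, hex⟩ := (linAdequate_iff L).mp hL
  obtain ⟨R, ηu, huniv⟩ := exists_universal φ₀ j hinj hex
  obtain ⟨o, x, hx⟩ := Qf_exists_single F R (α.app (pt R) ηu)
  obtain ⟨β₀, hβ₀, hβ₀nat⟩ := exists_set_map (G := GX o.t) R ηu huniv x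
  have hαβ₀ : ∀ (B : Alg A) (ξ : L.obj (pt B)),
      α.app (pt B) ξ = (Qc o).app (pt B) (β₀ B ξ) := by
    intro B ξ
    obtain ⟨f, hf, -⟩ := huniv B ξ
    rw [← hf, app_mapEl, hx, ← app_mapEl, hβ₀]
  obtain ⟨β, hβ⟩ := exists_linearization (dec_of_adequate (adequate_GX o.t)) β₀ hβ₀nat
  have hQ : Dec (Qf F) := dec_of_adequate (adequate_Qf F)
  have hαβ : α = β ≫ Qc o := by
    ext X ξ
    let B : Alg A := X.unop.unop
    change α.app (pt B) ξ = (Qc o).app (pt B) (β.app (pt B) ξ)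
    obtain ⟨y₀, hy⟩ := hβ B ξ
    have h1 := congrArg ((Qc o).app (pt (dualAlg B))) hy
    rw [← hαβ₀, app_comb, app_smul, app_mapEl, ← comb_zero_left] at h1
    exact (hQ.inj h1).2
  have hβφ : β ≫ o.φ = 0 := by
    rw [← Qc_ε, ← Category.assoc, ← hαβ, hα]
  have h2 : (θ.inv ≫ β) ≫ Qc o = 0 := by
    have h3 := Qc_of_comp o (t := .leaf a) (θ.inv ≫ β)
    rw [h3]
    have h4 : (θ.inv ≫ β) ≫ o.φ = 0 := by rw [Category.assoc, hβφ, comp_zero]
    rw [h4]
    exact Qc_zero _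
  rw [hαβ, ← cancel_epi θ.inv, comp_zero, ← Category.assoc]
  exact h2


theorem Qε_inj_of_cofan {F : MVF A} {ι : Type (u + 1)} {L : ι → MVF A}
    (hL : ∀ i, linAdequate A (L i)) (c : Cofan L) (hc : IsColimit c)
    (h₁ h₂ : c.pt ⟶ Qf F) (h : h₁ ≫ Qε F = h₂ ≫ Qε F) : h₁ = h₂ := by
  apply Cofan.IsColimit.hom_ext hc
  intro i
  rw [← sub_eq_zero, ← Preadditive.comp_sub]
  apply Qε_inj_of_linAdequate (hL i)
  rw [Category.assoc, Preadditive.sub_comp, h, sub_self, comp_zero]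

theorem Qε_surj_of_cofan {F : MVF A} {ι : Type (u + 1)} {L : ι → MVF A}
    (hL : ∀ i, linAdequate A (L i)) (c : Cofan L) (hc : IsColimit c) (g : c.pt ⟶ F) :
    ∃ h : c.pt ⟶ Qf F, h ≫ Qε F = g := by
  choose h hh using fun i => Qε_surj_of_linAdequate (hL i) (c.inj i ≫ g)
  refine ⟨Cofan.IsColimit.desc hc h, ?_⟩
  apply Cofan.IsColimit.hom_ext hc
  intro i
  rw [← Category.assoc, Cofan.IsColimit.fac, hh]

theorem Qε_inj_of_adequate {F G : MVF A} (hG : adequate A G) (g₁ g₂ : G ⟶ Qf F)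
    (h : g₁ ≫ Qε F = g₂ ≫ Qε F) : g₁ = g₂ := by
  obtain ⟨ι, L, hL, c, hc, π, hπ⟩ := exists_epi_cofan_linAdequate G hG
  rw [← cancel_epi π]
  apply Qε_inj_of_cofan hL c hc
  rw [Category.assoc, Category.assoc, h]

theorem Qε_surj_of_adequate {F G : MVF A} (hG : adequate A G) (g : G ⟶ F) :
    ∃ h : G ⟶ Qf F, h ≫ Qε F = g := by
  obtain ⟨ι, L, hL, c, hc, π, hπ⟩ := exists_epi_cofan_linAdequate G hG
  obtain ⟨h, hh⟩ := Qε_surj_of_cofan hL c hc (π ≫ g)
  have hcpt : adequate A c.pt := by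
    have h := adequate_coproduct L (fun i => adequate_of_linAdequate (hL i))
    exact (adequate A).prop_of_iso
      (IsColimit.coconePointUniqueUpToIso (colimit.isColimit _) hc) h
  have hK : adequate A (kernel π) := adequate_kernel π hcpt hG
  have h0 : kernel.ι π ≫ h = 0 := by
    apply Qε_inj_of_adequate hK
    rw [Category.assoc, hh, ← Category.assoc, kernel.condition, zero_comp, zero_comp]
  have hcok := Abelian.epiIsCokernelOfKernel (KernelFork.ofι (kernel.ι π) (kernel.condition π))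
    (kernelIsKernel π)
  obtain ⟨g', hg'⟩ := CokernelCofork.IsColimit.desc' hcok h h0
  refine ⟨g', ?_⟩
  rw [← cancel_epi π, ← Category.assoc]
  have : π ≫ g' = h := hg'
  rw [this, hh]


theorem isLeftAdjoint_adequate_ι : (adequate A).ι.IsLeftAdjoint := by
  haveI : ∀ F : MVF A, HasTerminal (CostructuredArrow (adequate A).ι F) := fun F => by
    let QF : (adequate A).FullSubcategory := ⟨Qf F, adequate_Qf F⟩
    let T : CostructuredArrow (adequate A).ι F := CostructuredArrow.mk (Y := QF) (Qε F)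
    have hT : IsTerminal T := by
      refine IsTerminal.ofUniqueHom (fun Y => ?_) (fun Y m => ?_)
      · let h := Classical.choose (Qε_surj_of_adequate Y.left.property Y.hom)
        have hh : h ≫ Qε F = Y.hom := Classical.choose_spec (Qε_surj_of_adequate Y.left.property Y.hom)
        exact CostructuredArrow.homMk (ObjectProperty.homMk h) hh
      · apply CostructuredArrow.hom_ext
        apply ObjectProperty.hom_ext
        apply Qε_inj_of_adequate Y.left.property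
        have h1 : m.left.hom ≫ Qε F = Y.hom := CostructuredArrow.w m
        rw [h1]
        exact (Classical.choose_spec (Qε_surj_of_adequate Y.left.property Y.hom)).symm
    exact hT.hasTerminal
  exact isLeftAdjoint_of_costructuredArrowTerminals _

end Groth.Agent.Helper13Adeq
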