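import Groth.Agent.Lib.Helper13AdeqFpqc

/-!
# Adequate modules on the big sites: pushforward along a qcqs morphism (helper13)

For `f : T ⟶ S` quasi-compact and quasi-separated and `M` adequate on `T`, `f_* M` is adequate.
The functor of `f_* M` at `a : Spec R ⟶ S` is glued (`Push.adequate_of_glue`) from the functors
`B ↦ M(Spec (A_i ⊗ B))` of finitely many affine charts `Spec A_i` of `Spec R ×_S T`, along finitely
many affine charts of the overlaps.  Main results: `Push.adequate_pushF`, `Push.adequate_toMVF_pushMod`,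
`Push.adequateMod_pushMod`, `Fppf.adequateMod_pushMod`.
-/

set_option autoImplicit false
universe u
open CategoryTheory Limits Opposite TensorProduct AlgebraicGeometry

namespace Groth.Agent.Helper13Adeq
open Adeq SigmaExt

noncomputable section

namespace Push

section chart
variable {S T : Scheme.{u}} (f : T ⟶ S) {R : CommRingCat.{u}} (a : Spec R ⟶ S)

/-- the structure morphism `Spec B ⟶ S` -/
abbrev strS (B : Alg R) : Spec (CommRingCat.of B) ⟶ S := spStr B ≫ a

/-- `Spec B ×_S T` -/
abbrev pbX (B : Alg R) : Scheme.{u} := pullback (strS a B) f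

/-- first projection -/
abbrev pbFst (B : Alg R) : pbX f a B ⟶ Spec (CommRingCat.of B) := pullback.fst (strS a B) f

/-- second projection -/
abbrev pbSnd (B : Alg R) : pbX f a B ⟶ T := pullback.snd (strS a B) f

theorem pb_condition (B : Alg R) : pbFst f a B ≫ strS a B = pbSnd f a B ≫ f := pullback.condition

/-- the object `Spec B ×_S T → T` of the big site of `T` -/
abbrev pbObj (B : Alg R) : Over T := Over.mk (pbSnd f a B)

theorem pbObj_eq (B : Alg R) : pbObj f a B = (Over.pullback f).obj ((specOver a).obj (op B)) := rfl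

theorem pbMapL_w {B C : Alg R} (g : B ⟶ C) :
    (pbFst f a C ≫ sp g) ≫ strS a B = pbSnd f a C ≫ f := by
  rw [Category.assoc, ← pb_condition]
  congr 1
  unfold strS
  rw [← Category.assoc, sp_spStr]

/-- the transition map of `B ↦ Spec B ×_S T` -/
def pbMapL {B C : Alg R} (g : B ⟶ C) : pbX f a C ⟶ pbX f a B :=
  pullback.lift (pbFst f a C ≫ sp g) (pbSnd f a C) (pbMapL_w f a g)

theorem pbMapL_fst {B C : Alg R} (g : B ⟶ C) : pbMapL f a g ≫ pbFst f a B = pbFst f a C ≫ sp g :=
  pullback.lift_fst _ _ _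

theorem pbMapL_snd {B C : Alg R} (g : B ⟶ C) : pbMapL f a g ≫ pbSnd f a B = pbSnd f a C :=
  pullback.lift_snd _ _ _

theorem pbMap_left {B C : Alg R} (g : B ⟶ C) :
    ((Over.pullback f).map ((specOver a).map g.op)).left = pbMapL f a g := rfl

variable (A : Type u) [CommRing A] [Algebra R A] (j : Spec (CommRingCat.of A) ⟶ pullback a f)

/-- the structure morphism of a chart of `Spec R ×_S T` to `T` -/
abbrev chartB : Spec (CommRingCat.of A) ⟶ T := j ≫ pullback.snd a f

/-- the object `Spec (A ⊗ B) → Spec A → T` of the big site of `T` -/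
abbrev chartObj (B : Alg R) : Over T :=
  (specOver (chartB f a A j)).obj (op ((Alg.baseChange R A).obj B))

variable (hj : j ≫ pullback.fst a f = Spec.map (CommRingCat.ofHom (algebraMap R A)))

include hj in
theorem chart_comm (B : Alg R) :
    sp (Alg.unit R A B) ≫ strS a B = (spFst A B ≫ chartB f a A j) ≫ f := by
  unfold strS chartB
  rw [← Category.assoc, sp_spStr, Category.assoc, Category.assoc, ← pullback.condition,
    ← Category.assoc j, hj, ← Category.assoc, spFst_str]

/-- the open immersion `Spec (A ⊗ B) ⟶ Spec B ×_S T` -/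
def chartL (B : Alg R) : Spec (CommRingCat.of (A ⊗[R] B)) ⟶ pbX f a B :=
  pullback.lift (sp (Alg.unit R A B)) (spFst A B ≫ chartB f a A j) (chart_comm f a A j hj B)

theorem chartL_fst (B : Alg R) :
    chartL f a A j hj B ≫ pbFst f a B = sp (Alg.unit R A B) := pullback.lift_fst _ _ _

theorem chartL_snd (B : Alg R) :
    chartL f a A j hj B ≫ pbSnd f a B = spFst A B ≫ chartB f a A j := pullback.lift_snd _ _ _

/-- the morphism `U(B) ⟶ Y(B)` of the big site of `T` -/
def chartMor (B : Alg R) : chartObj f a A j B ⟶ pbObj f a B :=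
  Over.homMk (chartL f a A j hj B) (chartL_snd f a A j hj B)

theorem chartMor_left (B : Alg R) : (chartMor f a A j hj B).left = chartL f a A j hj B := rfl

theorem chartL_naturality {B C : Alg R} (g : B ⟶ C) :
    chartL f a A j hj C ≫ pbMapL f a g =
      sp ((Alg.baseChange R A).map g) ≫ chartL f a A j hj B := by
  apply pullback.hom_ext
  · change (chartL f a A j hj C ≫ pbMapL f a g) ≫ pbFst f a B =
      (sp ((Alg.baseChange R A).map g) ≫ chartL f a A j hj B) ≫ pbFst f a B
    rw [Category.assoc, pbMapL_fst, ← Category.assoc, chartL_fst, Category.assoc,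
      chartL_fst, ← sp_comp, unit_naturality, sp_comp]
  · change (chartL f a A j hj C ≫ pbMapL f a g) ≫ pbSnd f a B =
      (sp ((Alg.baseChange R A).map g) ≫ chartL f a A j hj B) ≫ pbSnd f a B
    rw [Category.assoc, pbMapL_snd, chartL_snd, Category.assoc, chartL_snd,
      ← Category.assoc]
    exact congrArg (· ≫ chartB f a A j) (spFst_map A g).symm

theorem chartMor_naturality {B C : Alg R} (g : B ⟶ C) :
    chartMor f a A j hj C ≫ (Over.pullback f).map ((specOver a).map g.op) =
      (specOver (chartB f a A j)).map ((Alg.baseChange R A).map g).op ≫ chartMor f a A j hj B := by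
  apply Over.OverMorphism.ext
  exact chartL_naturality f a A j hj g

end chart

section rho
variable (K : Precoverage Scheme.{u}) [BigSite.OSh K] {S T : Scheme.{u}} (f : T ⟶ S)
  (M : BigSite.Mod K T) {R : CommRingCat.{u}} (a : Spec R ⟶ S)
  (A : Type u) [CommRing A] [Algebra R A] (j : Spec (CommRingCat.of A) ⟶ pullback a f)
  (hj : j ≫ pullback.fst a f = Spec.map (CommRingCat.ofHom (algebraMap R A)))

/-- the functor of `f_* M` at `a` -/
abbrev pushF : MVF R := (toMVF K a).obj ((BigSite.pushMod K f).obj M)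

/-- the functor `B ↦ M(Spec (A ⊗ B))` of a chart -/
abbrev chartG : MVF R := (push R A).obj ((toMVF K (chartB f a A j)).obj M)

example (B : Alg R) : ((pushF K f M a).obj (pt B) : Type _) = M.val.obj (op (pbObj f a B)) := rfl
example (B : Alg R) : ((chartG K f M a A j).obj (pt B) : Type _) =
  M.val.obj (op (chartObj f a A j B)) := rfl

theorem rho_key {B C : Alg R} (g : B ⟶ C) :
    M.val.presheaf.map ((Over.pullback f).map ((specOver a).map g.op)).op ≫
        M.val.presheaf.map (chartMor f a A j hj C).op =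
      M.val.presheaf.map (chartMor f a A j hj B).op ≫
        M.val.presheaf.map ((specOver (chartB f a A j)).map ((Alg.baseChange R A).map g).op).op := by
  have h := chartMor_naturality f a A j hj g
  calc _ = M.val.presheaf.map (chartMor f a A j hj C ≫
            (Over.pullback f).map ((specOver a).map g.op)).op :=
        (M.val.presheaf.map_comp _ _).symm
    _ = M.val.presheaf.map ((specOver (chartB f a A j)).map ((Alg.baseChange R A).map g).op ≫
          chartMor f a A j hj B).op := congrArg (fun m => M.val.presheaf.map m.op) h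
    _ = _ := M.val.presheaf.map_comp _ _

/-- restriction to a chart, on underlying presheaves -/
def rhoPre : (pushF K f M a).presheaf ⟶ (chartG K f M a A j).presheaf where
  app X := M.val.presheaf.map (chartMor f a A j hj X.unop.unop).op
  naturality := by
    intro X Y φ
    exact rho_key K f M a A j hj φ.unop.unop

/-- the ring map `O_S(Spec B) → O_T(Spec B ×_S T)` -/
abbrev phiB (B : Alg R) : (BigSite.ORing K S).obj.obj (op ((specOver a).obj (op B))) →+*
    (BigSite.ORing K T).obj.obj (op (pbObj f a B)) :=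
  ((Sheaf.toPushforwardOverPullback (BigSite.ORingAbs K) f).hom.app (op ((specOver a).obj (op B)))).hom

example (B : Alg R) (r : B) (m : (pushF K f M a).obj (pt B)) :
    r • m = (show M.val.obj (op (pbObj f a B)) from
      (phiB K f a B (toSect K a B r)) • (show M.val.obj (op (pbObj f a B)) from m)) := rfl

theorem toSect_chart (B : Alg R) (r : B) :
    ((BigSite.ORing K T).obj.map (chartMor f a A j hj B).op).hom (phiB K f a B (toSect K a B r)) =
      toSect K (chartB f a A j) ((Alg.baseChange R A).obj B)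
        ((Algebra.TensorProduct.includeRight (R := R) (A := A) (B := B)) r) := by
  apply ULift.ext
  change ((chartL f a A j hj B).appTop).hom ((pbFst f a B).appTop.hom
      ((Scheme.ΓSpecIso (CommRingCat.of B)).inv.hom r)) =
    (Scheme.ΓSpecIso (CommRingCat.of (A ⊗[R] B))).inv.hom
      ((Algebra.TensorProduct.includeRight (R := R) (A := A) (B := B)) r)
  have h1 : (pbFst f a B).appTop ≫ (chartL f a A j hj B).appTop =
      (Spec.map (CommRingCat.ofHom
        (Algebra.TensorProduct.includeRight (R := R) (A := A) (B := B)).toRingHom)).appTop := by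
    rw [← Scheme.Hom.comp_appTop, chartL_fst, sp_unit_eq]
  have h2 := Scheme.ΓSpecIso_inv_naturality
    (CommRingCat.ofHom
      (Algebra.TensorProduct.includeRight (R := R) (A := A) (B := B)).toRingHom)
  have h3 : ((pbFst f a B).appTop ≫ (chartL f a A j hj B).appTop).hom
      ((Scheme.ΓSpecIso (CommRingCat.of B)).inv.hom r) =
      (Scheme.ΓSpecIso (CommRingCat.of (A ⊗[R] B))).inv.hom
      ((Algebra.TensorProduct.includeRight (R := R) (A := A) (B := B)) r) := by
    rw [h1]
    exact (congrArg (fun ψ => ψ.hom r) h2).symm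
  exact h3

/-- restriction to a chart -/
def rho : pushF K f M a ⟶ chartG K f M a A j :=
  PresheafOfModules.homMk (rhoPre K f M a A j hj) (by
    intro X r m
    have h := PresheafOfModules.map_smul M.val (chartMor f a A j hj X.unop.unop).op
      (phiB K f a X.unop.unop (toSect K a X.unop.unop r)) m
    rw [toSect_chart] at h
    exact h)

theorem rho_app_apply (B : Alg R) (m : (pushF K f M a).obj (pt B)) :
    (rho K f M a A j hj).app (pt B) m =
      M.val.presheaf.map (chartMor f a A j hj B).op m := rfl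

end rho

section transRing
variable {R : Type u} [CommRing R] (A : Type u) [CommRing A] [Algebra R A]
  (A'' : Type u) [CommRing A''] [Algebra R A''] (θ : A →ₐ[R] A'')

/-- `Spec (θ ⊗ B)` -/
def transL (B : Alg R) : Spec (CommRingCat.of (A'' ⊗[R] B)) ⟶ Spec (CommRingCat.of (A ⊗[R] B)) :=
  Spec.map (CommRingCat.ofHom (Algebra.TensorProduct.map θ (AlgHom.id R B)).toRingHom)

/-- `Spec θ` -/
abbrev spθ : Spec (CommRingCat.of A'') ⟶ Spec (CommRingCat.of A) :=
  Spec.map (CommRingCat.ofHom θ.toRingHom)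

theorem transL_spFst (B : Alg R) :
    transL A A'' θ B ≫ spFst A B = spFst A'' B ≫ spθ A A'' θ := by
  unfold transL spFst spθ
  rw [specMap_comp_eq _ _ _ rfl, specMap_comp_eq _ _ _ rfl]
  congr 2

theorem transL_unit (B : Alg R) :
    transL A A'' θ B ≫ sp (Alg.unit R A B) = sp (Alg.unit R A'' B) := by
  rw [sp_unit_eq, sp_unit_eq]
  unfold transL
  rw [specMap_comp_eq _ _ _ rfl]
  congr 2
  ext b
  change Algebra.TensorProduct.map θ (AlgHom.id R B) (1 ⊗ₜ b) = 1 ⊗ₜ b
  rw [Algebra.TensorProduct.map_tmul, map_one]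
  rfl

theorem spθ_str : spθ A A'' θ ≫ Spec.map (CommRingCat.ofHom (algebraMap R A)) =
    Spec.map (CommRingCat.ofHom (algebraMap R A'')) := by
  unfold spθ
  rw [specMap_comp_eq]
  ext r
  exact θ.commutes r

theorem transL_naturality {B C : Alg R} (g : B ⟶ C) :
    transL A A'' θ C ≫ sp ((Alg.baseChange R A).map g) =
      sp ((Alg.baseChange R A'').map g) ≫ transL A A'' θ B := by
  unfold transL sp
  rw [specMap_comp_eq _ _ _ rfl, specMap_comp_eq _ _ _ rfl]
  congr 2
  ext x
  · rfl
  · rfl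

end transRing

section trans
variable {S T : Scheme.{u}} (f : T ⟶ S) {R : CommRingCat.{u}} (a : Spec R ⟶ S)
  (A : Type u) [CommRing A] [Algebra R A] (j : Spec (CommRingCat.of A) ⟶ pullback a f)
  (hj : j ≫ pullback.fst a f = Spec.map (CommRingCat.ofHom (algebraMap R A)))
  (A'' : Type u) [CommRing A''] [Algebra R A''] (j'' : Spec (CommRingCat.of A'') ⟶ pullback a f)
  (hj'' : j'' ≫ pullback.fst a f = Spec.map (CommRingCat.ofHom (algebraMap R A'')))
  (θ : A →ₐ[R] A'') (hθ : spθ A A'' θ ≫ j = j'')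

include hθ in
theorem transL_w (B : Alg R) :
    transL A A'' θ B ≫ (spFst A B ≫ chartB f a A j) = spFst A'' B ≫ chartB f a A'' j'' := by
  unfold chartB
  rw [← Category.assoc, transL_spFst, Category.assoc, ← Category.assoc (spθ A A'' θ), hθ]

/-- the transition morphism of charts, in the big site of `T` -/
def transMor (B : Alg R) : chartObj f a A'' j'' B ⟶ chartObj f a A j B :=
  Over.homMk (transL A A'' θ B) (transL_w f a A j A'' j'' θ hθ B)

theorem transMor_left (B : Alg R) :
    (transMor f a A j A'' j'' θ hθ B).left = transL A A'' θ B := rfl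

include hθ in
theorem transL_chartL (B : Alg R) :
    transL A A'' θ B ≫ chartL f a A j hj B = chartL f a A'' j'' hj'' B := by
  apply pullback.hom_ext
  · change (transL A A'' θ B ≫ chartL f a A j hj B) ≫ pbFst f a B =
      chartL f a A'' j'' hj'' B ≫ pbFst f a B
    rw [Category.assoc, chartL_fst, chartL_fst, transL_unit]
  · change (transL A A'' θ B ≫ chartL f a A j hj B) ≫ pbSnd f a B =
      chartL f a A'' j'' hj'' B ≫ pbSnd f a B
    rw [Category.assoc, chartL_snd, chartL_snd, transL_w f a A j A'' j'' θ hθ]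

theorem transMor_chartMor (B : Alg R) :
    transMor f a A j A'' j'' θ hθ B ≫ chartMor f a A j hj B = chartMor f a A'' j'' hj'' B := by
  apply Over.OverMorphism.ext
  exact transL_chartL f a A j hj A'' j'' hj'' θ hθ B

theorem transMor_naturality {B C : Alg R} (g : B ⟶ C) :
    transMor f a A j A'' j'' θ hθ C ≫
        (specOver (chartB f a A j)).map ((Alg.baseChange R A).map g).op =
      (specOver (chartB f a A'' j'')).map ((Alg.baseChange R A'').map g).op ≫
        transMor f a A j A'' j'' θ hθ B := by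
  apply Over.OverMorphism.ext
  exact transL_naturality A A'' θ g

end trans

section sigma
variable (K : Precoverage Scheme.{u}) [BigSite.OSh K] {S T : Scheme.{u}} (f : T ⟶ S)
  (M : BigSite.Mod K T) {R : CommRingCat.{u}} (a : Spec R ⟶ S)
  (A : Type u) [CommRing A] [Algebra R A] (j : Spec (CommRingCat.of A) ⟶ pullback a f)
  (hj : j ≫ pullback.fst a f = Spec.map (CommRingCat.ofHom (algebraMap R A)))
  (A'' : Type u) [CommRing A''] [Algebra R A''] (j'' : Spec (CommRingCat.of A'') ⟶ pullback a f)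
  (hj'' : j'' ≫ pullback.fst a f = Spec.map (CommRingCat.ofHom (algebraMap R A'')))
  (θ : A →ₐ[R] A'') (hθ : spθ A A'' θ ≫ j = j'')

theorem sigma_key {B C : Alg R} (g : B ⟶ C) :
    M.val.presheaf.map ((specOver (chartB f a A j)).map ((Alg.baseChange R A).map g).op).op ≫
        M.val.presheaf.map (transMor f a A j A'' j'' θ hθ C).op =
      M.val.presheaf.map (transMor f a A j A'' j'' θ hθ B).op ≫
        M.val.presheaf.map
          ((specOver (chartB f a A'' j'')).map ((Alg.baseChange R A'').map g).op).op := by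
  have h := transMor_naturality f a A j A'' j'' θ hθ g
  calc _ = M.val.presheaf.map (transMor f a A j A'' j'' θ hθ C ≫
            (specOver (chartB f a A j)).map ((Alg.baseChange R A).map g).op).op :=
        (M.val.presheaf.map_comp _ _).symm
    _ = M.val.presheaf.map ((specOver (chartB f a A'' j'')).map ((Alg.baseChange R A'').map g).op ≫
          transMor f a A j A'' j'' θ hθ B).op := congrArg (fun m => M.val.presheaf.map m.op) h
    _ = _ := M.val.presheaf.map_comp _ _

/-- transition between charts, on underlying presheaves -/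
def sigmaPre : (chartG K f M a A j).presheaf ⟶ (chartG K f M a A'' j'').presheaf where
  app X := M.val.presheaf.map (transMor f a A j A'' j'' θ hθ X.unop.unop).op
  naturality := by
    intro X Y φ
    exact sigma_key K f M a A j A'' j'' θ hθ φ.unop.unop

theorem toSect_trans (B : Alg R) (r : B) :
    ((BigSite.ORing K T).obj.map (transMor f a A j A'' j'' θ hθ B).op).hom
        (toSect K (chartB f a A j) ((Alg.baseChange R A).obj B)
          ((Algebra.TensorProduct.includeRight (R := R) (A := A) (B := B)) r)) =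
      toSect K (chartB f a A'' j'') ((Alg.baseChange R A'').obj B)
        ((Algebra.TensorProduct.includeRight (R := R) (A := A'') (B := B)) r) := by
  apply ULift.ext
  change ((transL A A'' θ B).appTop).hom
      ((Scheme.ΓSpecIso (CommRingCat.of (A ⊗[R] B))).inv.hom
        ((Algebra.TensorProduct.includeRight (R := R) (A := A) (B := B)) r)) =
    (Scheme.ΓSpecIso (CommRingCat.of (A'' ⊗[R] B))).inv.hom
      ((Algebra.TensorProduct.includeRight (R := R) (A := A'') (B := B)) r)
  have h2 := Scheme.ΓSpecIso_inv_naturality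
    (CommRingCat.ofHom (Algebra.TensorProduct.map θ (AlgHom.id R B)).toRingHom)
  have h3 := congrArg (fun ψ => ψ.hom
    ((Algebra.TensorProduct.includeRight (R := R) (A := A) (B := B)) r)) h2
  refine h3.symm.trans ?_
  change (Scheme.ΓSpecIso (CommRingCat.of (A'' ⊗[R] B))).inv.hom
      (Algebra.TensorProduct.map θ (AlgHom.id R B) (1 ⊗ₜ r)) = _
  rw [Algebra.TensorProduct.map_tmul, map_one]
  rfl

/-- transition between charts -/
def sigma : chartG K f M a A j ⟶ chartG K f M a A'' j'' :=
  PresheafOfModules.homMk (sigmaPre K f M a A j A'' j'' θ hθ) (by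
    intro X r m
    have h := PresheafOfModules.map_smul M.val (transMor f a A j A'' j'' θ hθ X.unop.unop).op
      (toSect K (chartB f a A j) ((Alg.baseChange R A).obj X.unop.unop)
          ((Algebra.TensorProduct.includeRight (R := R) (A := A) (B := X.unop.unop)) r)) m
    rw [toSect_trans] at h
    exact h)

theorem sigma_app_apply (B : Alg R) (m : (chartG K f M a A j).obj (pt B)) :
    (sigma K f M a A j A'' j'' θ hθ).app (pt B) m =
      M.val.presheaf.map (transMor f a A j A'' j'' θ hθ B).op m := rfl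

theorem rho_sigma :
    rho K f M a A j hj ≫ sigma K f M a A j A'' j'' θ hθ = rho K f M a A'' j'' hj'' := by
  ext X m
  change M.val.presheaf.map (transMor f a A j A'' j'' θ hθ X.unop.unop).op
    (M.val.presheaf.map (chartMor f a A j hj X.unop.unop).op m) =
      M.val.presheaf.map (chartMor f a A'' j'' hj'' X.unop.unop).op m
  rw [← transMor_chartMor f a A j hj A'' j'' hj'' θ hθ X.unop.unop]
  have := M.val.presheaf.map_comp (chartMor f a A j hj X.unop.unop).op
    (transMor f a A j A'' j'' θ hθ X.unop.unop).op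
  exact (congrArg (fun ψ => ψ m) this).symm

end sigma

section glue
variable {A : Type u} [CommRing A]

/-- a module-valued functor glued from finitely many adequate ones along finitely many adequate
overlaps is adequate -/
theorem adequate_of_glue (F : MVF A) {I : Type (u + 1)} [Finite I] {L : Type (u + 1)} [Finite L]
    (G : I → MVF A) (H : L → MVF A) (hG : ∀ i, adequate A (G i)) (hH : ∀ l, adequate A (H l))
    (s t : L → I) (ρ : ∀ i, F ⟶ G i) (σ : ∀ l, G (s l) ⟶ H l) (τ : ∀ l, G (t l) ⟶ H l)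
    (hρ : ∀ l, ρ (s l) ≫ σ l = ρ (t l) ≫ τ l)
    (hsep : ∀ (B : Alg A) (x : F.obj (pt B)), (∀ i, (ρ i).app (pt B) x = 0) → x = 0)
    (hglue : ∀ (B : Alg A) (y : ∀ i, (G i).obj (pt B)),
      (∀ l, (σ l).app (pt B) (y (s l)) = (τ l).app (pt B) (y (t l))) →
        ∃ x : F.obj (pt B), ∀ i, (ρ i).app (pt B) x = y i) :
    adequate A F := by
  have aG : adequate A (∏ᶜ G) := adequate_pi G hG
  have aH : adequate A (∏ᶜ H) := adequate_pi H hH
  let η : F ⟶ ∏ᶜ G := Pi.lift ρ
  let d0 : ∏ᶜ G ⟶ ∏ᶜ H := Pi.lift (fun l => Pi.π G (s l) ≫ σ l)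
  let d1 : ∏ᶜ G ⟶ ∏ᶜ H := Pi.lift (fun l => Pi.π G (t l) ≫ τ l)
  have hη : ∀ (X : (Alg A)ᵒᵖᵒᵖ) (x : F.obj X) (i : I),
      (Pi.π G i).app X (η.app X x) = (ρ i).app X x :=
    fun X x i => PshMod.pi_lift_π_apply G _ X x i
  have hd0 : ∀ (X : (Alg A)ᵒᵖᵒᵖ) (z : (∏ᶜ G).obj X) (l : L),
      (Pi.π H l).app X (d0.app X z) = (σ l).app X ((Pi.π G (s l)).app X z) :=
    fun X z l => PshMod.pi_lift_π_apply H _ X z l
  have hd1 : ∀ (X : (Alg A)ᵒᵖᵒᵖ) (z : (∏ᶜ G).obj X) (l : L),
      (Pi.π H l).app X (d1.app X z) = (τ l).app X ((Pi.π G (t l)).app X z) :=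
    fun X z l => PshMod.pi_lift_π_apply H _ X z l
  have e : F ≅ kernel (d0 - d1) := by
    refine PshMod.isoKernel η (d0 - d1) (fun X => ?_) (fun X z => ?_)
    · rw [injective_iff_map_eq_zero]
      intro x hx
      refine hsep X.unop.unop x (fun i => ?_)
      have h3 := hη X x i
      rw [hx, map_zero] at h3
      exact h3.symm
    · have key : (d0 - d1).app X z = 0 ↔ d0.app X z = d1.app X z := by
        change d0.app X z - d1.app X z = 0 ↔ _
        exact sub_eq_zero
      rw [key]
      constructor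
      · intro hz
        obtain ⟨x, hx⟩ := hglue X.unop.unop (fun i => (Pi.π G i).app X z) (fun l => by
          have := congrArg (fun w => (Pi.π H l).app X w) hz
          simp only [hd0, hd1] at this
          exact this)
        refine ⟨x, PshMod.pi_ext G X _ _ (fun i => ?_)⟩
        rw [hη]
        exact hx i
      · rintro ⟨x, rfl⟩
        refine PshMod.pi_ext H X _ _ (fun l => ?_)
        rw [hd0, hd1, hη, hη]
        exact congrArg (fun ψ => ψ.app X x) (hρ l)
  exact (adequate A).prop_of_iso e.symm (adequate_kernel _ aG aH)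

end glue

section piB
variable {S T : Scheme.{u}} (f : T ⟶ S) {R : CommRingCat.{u}} (a : Spec R ⟶ S)

theorem piB_w (B : Alg R) : (pbFst f a B ≫ spStr B) ≫ a = pbSnd f a B ≫ f := by
  rw [Category.assoc]
  exact pb_condition f a B

/-- the projection `Spec B ×_S T ⟶ Spec R ×_S T` -/
def piB (B : Alg R) : pbX f a B ⟶ pullback a f :=
  pullback.lift (pbFst f a B ≫ spStr B) (pbSnd f a B) (piB_w f a B)

theorem piB_fst (B : Alg R) : piB f a B ≫ pullback.fst a f = pbFst f a B ≫ spStr B :=
  pullback.lift_fst _ _ _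

theorem piB_snd (B : Alg R) : piB f a B ≫ pullback.snd a f = pbSnd f a B :=
  pullback.lift_snd _ _ _

variable (A : Type u) [CommRing A] [Algebra R A] (j : Spec (CommRingCat.of A) ⟶ pullback a f)
  (hj : j ≫ pullback.fst a f = Spec.map (CommRingCat.ofHom (algebraMap R A)))

theorem chartL_piB (B : Alg R) : chartL f a A j hj B ≫ piB f a B = spFst A B ≫ j := by
  apply pullback.hom_ext
  · rw [Category.assoc, piB_fst, ← Category.assoc, chartL_fst, sp_spStr, Category.assoc, hj,
      spFst_str]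
  · rw [Category.assoc, piB_snd, chartL_snd, Category.assoc]

end piB

section cover
variable (K : Precoverage Scheme.{u}) {S T : Scheme.{u}} (f : T ⟶ S) {R : CommRingCat.{u}}
  (a : Spec R ⟶ S)
  {I : Type (u + 1)} (A : I → Type u) [∀ i, CommRing (A i)] [∀ i, Algebra R (A i)]
  (j : ∀ i, Spec (CommRingCat.of (A i)) ⟶ pullback a f)
  (hj : ∀ i, j i ≫ pullback.fst a f = Spec.map (CommRingCat.ofHom (algebraMap R (A i))))

theorem chart_cover
    (hcov : Sieve.generate (Presieve.ofArrows (fun i => Spec (CommRingCat.of (A i))) j) ∈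
      K.toGrothendieck (pullback a f)) (B : Alg R) :
    Sieve.generate (Presieve.ofArrows (fun i => chartObj f a (A i) (j i) B)
      (fun i => chartMor f a (A i) (j i) (hj i) B)) ∈ QuotSh.J K T (pbObj f a B) := by
  rw [GrothendieckTopology.mem_over_iff]
  refine K.toGrothendieck.superset_covering ?_
    (K.toGrothendieck.pullback_stable (piB f a B) hcov)
  intro Z g hg
  obtain ⟨W, h, f', ⟨i⟩, hfac⟩ := hg
  have hcompat : h ≫ Spec.map (CommRingCat.ofHom (algebraMap R (A i))) =
      (g ≫ pbFst f a B) ≫ spStr B := by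
    rw [← hj i, ← Category.assoc, hfac, Category.assoc, piB_fst, Category.assoc]
  obtain ⟨ℓ, hℓ1, hℓ2⟩ := exists_lift_bc (A i) B h (g ≫ pbFst f a B) hcompat
  have hg' : ℓ ≫ chartL f a (A i) (j i) (hj i) B = g := by
    apply pullback.hom_ext
    · change (ℓ ≫ chartL f a (A i) (j i) (hj i) B) ≫ pbFst f a B = g ≫ pbFst f a B
      rw [Category.assoc, chartL_fst, hℓ2]
    · change (ℓ ≫ chartL f a (A i) (j i) (hj i) B) ≫ pbSnd f a B = g ≫ pbSnd f a B
      rw [Category.assoc, chartL_snd, ← Category.assoc, hℓ1, ← piB_snd, ← Category.assoc,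
        hfac, Category.assoc]
  rw [Sieve.overEquiv_iff]
  let ℓ' : Z ⟶ (chartObj f a (A i) (j i) B).left := ℓ
  have hℓ' : ℓ' ≫ (chartMor f a (A i) (j i) (hj i) B).left = g := hg'
  have hw : ℓ' ≫ (chartObj f a (A i) (j i) B).hom = g ≫ (pbObj f a B).hom := by
    rw [← Over.w (chartMor f a (A i) (j i) (hj i) B), ← Category.assoc, hℓ']
  refine ⟨chartObj f a (A i) (j i) B, Over.homMk ℓ' hw, chartMor f a (A i) (j i) (hj i) B, ⟨i⟩, ?_⟩
  ext
  exact hℓ'

end cover

section overlap
variable {S T : Scheme.{u}} (f : T ⟶ S) {R : CommRingCat.{u}} (a : Spec R ⟶ S)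
  (A : Type u) [CommRing A] [Algebra R A] (j : Spec (CommRingCat.of A) ⟶ pullback a f)
  (hj : j ≫ pullback.fst a f = Spec.map (CommRingCat.ofHom (algebraMap R A)))
  (A' : Type u) [CommRing A'] [Algebra R A'] (j' : Spec (CommRingCat.of A') ⟶ pullback a f)
  (hj' : j' ≫ pullback.fst a f = Spec.map (CommRingCat.ofHom (algebraMap R A')))
  (A'' : Type u) [CommRing A''] [Algebra R A'']
  (θs : A →ₐ[R] A'') (θt : A' →ₐ[R] A'')

theorem overlap_lift (B : Alg R) {V : Scheme.{u}}
    (p : V ⟶ Spec (CommRingCat.of (A ⊗[R] B))) (p' : V ⟶ Spec (CommRingCat.of (A' ⊗[R] B)))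
    (hpp : p ≫ chartL f a A j hj B = p' ≫ chartL f a A' j' hj' B)
    (h : V ⟶ Spec (CommRingCat.of A''))
    (h1 : h ≫ spθ A A'' θs = p ≫ spFst A B) (h2 : h ≫ spθ A' A'' θt = p' ≫ spFst A' B) :
    ∃ ℓ : V ⟶ Spec (CommRingCat.of (A'' ⊗[R] B)),
      ℓ ≫ transL A A'' θs B = p ∧ ℓ ≫ transL A' A'' θt B = p' := by
  have hunit : p ≫ sp (Alg.unit R A B) = p' ≫ sp (Alg.unit R A' B) := by
    rw [← chartL_fst f a A j hj B, ← chartL_fst f a A' j' hj' B, ← Category.assoc,
      ← Category.assoc, hpp]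
  have hcompat : h ≫ Spec.map (CommRingCat.ofHom (algebraMap R A'')) =
      (p ≫ sp (Alg.unit R A B)) ≫ spStr B := by
    rw [← spθ_str A A'' θs, ← Category.assoc, h1, Category.assoc, spFst_str, Category.assoc,
      sp_spStr]
  obtain ⟨ℓ, hℓ1, hℓ2⟩ := exists_lift_bc A'' B h (p ≫ sp (Alg.unit R A B)) hcompat
  refine ⟨ℓ, ?_, ?_⟩
  · refine hom_ext_bc A B _ _ ?_ ?_
    · rw [Category.assoc, transL_spFst, ← Category.assoc, hℓ1, h1]
    · rw [Category.assoc, transL_unit, hℓ2]
  · refine hom_ext_bc A' B _ _ ?_ ?_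
    · rw [Category.assoc, transL_spFst, ← Category.assoc, hℓ1, h2]
    · rw [Category.assoc, transL_unit, hℓ2, hunit]

end overlap

section family
variable (K : Precoverage Scheme.{u}) [BigSite.OSh K] {S T : Scheme.{u}} (f : T ⟶ S)
  (M : BigSite.Mod K T) {R : CommRingCat.{u}} (a : Spec R ⟶ S)
  {I : Type (u + 1)} (A : I → Type u) [∀ i, CommRing (A i)] [∀ i, Algebra R (A i)]
  (j : ∀ i, Spec (CommRingCat.of (A i)) ⟶ pullback a f)
  (hj : ∀ i, j i ≫ pullback.fst a f = Spec.map (CommRingCat.ofHom (algebraMap R (A i))))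
  {L : I → I → Type (u + 1)} (A'' : ∀ i i', L i i' → Type u)
  [∀ i i' l, CommRing (A'' i i' l)] [∀ i i' l, Algebra R (A'' i i' l)]
  (j'' : ∀ i i' l, Spec (CommRingCat.of (A'' i i' l)) ⟶ pullback a f)
  (hj'' : ∀ i i' l, j'' i i' l ≫ pullback.fst a f =
    Spec.map (CommRingCat.ofHom (algebraMap R (A'' i i' l))))
  (θs : ∀ i i' l, A i →ₐ[R] A'' i i' l) (θt : ∀ i i' l, A i' →ₐ[R] A'' i i' l)
  (hs : ∀ i i' l, spθ (A i) (A'' i i' l) (θs i i' l) ≫ j i = j'' i i' l)
  (ht : ∀ i i' l, spθ (A i') (A'' i i' l) (θt i i' l) ≫ j i' = j'' i i' l)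

theorem chart_sep
    (hcov : Sieve.generate (Presieve.ofArrows (fun i => Spec (CommRingCat.of (A i))) j) ∈
      K.toGrothendieck (pullback a f)) (B : Alg R)
    (x : M.val.obj (op (pbObj f a B)))
    (hx : ∀ i, (M.val.map (chartMor f a (A i) (j i) (hj i) B).op).hom x = 0) : x = 0 := by
  have hsh := (Presieve.isSheafFor_arrows_iff _ _).1 ((Presieve.isSheafFor_iff_generate _).2
    (isSheaf_type K M _ (chart_cover K f a A j hj hcov B)))
  have hz : ∀ {X Y : Over T} (g : X ⟶ Y),
      (M.val.map g.op).hom (0 : M.val.obj (op Y)) = (0 : M.val.obj (op X)) := fun g => map_zero _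
  obtain ⟨t, -, ht⟩ := hsh (fun i => (0 : M.val.obj (op (chartObj f a (A i) (j i) B))))
    (fun i i' Z gi gi' _ => by
      exact (hz gi).trans (hz gi').symm)
  have h1 : x = t := ht x (fun i => hx i)
  have h2 : (0 : M.val.obj (op (pbObj f a B))) = t := ht 0 (fun i => by
    exact hz _)
  exact h1.trans h2.symm

theorem chart_glue
    (hcov : Sieve.generate (Presieve.ofArrows (fun i => Spec (CommRingCat.of (A i))) j) ∈
      K.toGrothendieck (pullback a f))
    (hov : ∀ (i i' : I) (Z : Scheme.{u}) (z : Z ⟶ Spec (CommRingCat.of (A i)))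
      (z' : Z ⟶ Spec (CommRingCat.of (A i'))), z ≫ j i = z' ≫ j i' →
      ∃ S₀ : Sieve Z, S₀ ∈ K.toGrothendieck Z ∧ ∀ ⦃V : Scheme.{u}⦄ (v : V ⟶ Z), S₀ v →
        ∃ (l : L i i') (h : V ⟶ Spec (CommRingCat.of (A'' i i' l))),
          h ≫ spθ (A i) (A'' i i' l) (θs i i' l) = v ≫ z ∧
          h ≫ spθ (A i') (A'' i i' l) (θt i i' l) = v ≫ z')
    (B : Alg R)
    (y : ∀ i, M.val.obj (op (chartObj f a (A i) (j i) B)))
    (hy : ∀ i i' l,
      (M.val.map (transMor f a (A i) (j i) (A'' i i' l) (j'' i i' l) (θs i i' l)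
        (hs i i' l) B).op).hom (y i) =
      (M.val.map (transMor f a (A i') (j i') (A'' i i' l) (j'' i i' l) (θt i i' l)
        (ht i i' l) B).op).hom (y i')) :
    ∃ x : M.val.obj (op (pbObj f a B)),
      ∀ i, (M.val.map (chartMor f a (A i) (j i) (hj i) B).op).hom x = y i := by
  have hsh := (Presieve.isSheafFor_arrows_iff _ _).1 ((Presieve.isSheafFor_iff_generate _).2
    (isSheaf_type K M _ (chart_cover K f a A j hj hcov B)))
  have hcomp : ∀ {X Y Z : Over T} (g : X ⟶ Y) (g' : Y ⟶ Z) (m : M.val.obj (op Z)),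
      (M.val.map (g ≫ g').op).hom m = (M.val.map g.op).hom ((M.val.map g'.op).hom m) := by
    intro X Y Z g g' m
    have := M.val.map_comp g'.op g.op
    exact congrArg (fun ψ => ψ m) this
  suffices hcompat : Presieve.Arrows.Compatible (M.val.presheaf ⋙ forget AddCommGrpCat.{u + 1})
      (fun i => chartMor f a (A i) (j i) (hj i) B) y by
    obtain ⟨t, htt, -⟩ := hsh y hcompat
    exact ⟨t, htt⟩
  intro i i' Z gi gi' hgg
  · change (M.val.map gi.op).hom (y i) = (M.val.map gi'.op).hom (y i')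
    -- the two maps to the charts of `Spec R ×_S T`
    let p : Z.left ⟶ Spec (CommRingCat.of (A i ⊗[R] B)) := gi.left
    let p' : Z.left ⟶ Spec (CommRingCat.of (A i' ⊗[R] B)) := gi'.left
    have hpp : p ≫ chartL f a (A i) (j i) (hj i) B = p' ≫ chartL f a (A i') (j i') (hj i') B :=
      congrArg (fun m => m.left) hgg
    have hzz : (p ≫ spFst (A i) B) ≫ j i = (p' ≫ spFst (A i') B) ≫ j i' := by
      rw [Category.assoc, Category.assoc, ← chartL_piB f a (A i) (j i) (hj i) B,
        ← chartL_piB f a (A i') (j i') (hj i') B, ← Category.assoc, ← Category.assoc, hpp]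
    obtain ⟨S₀, hS₀, hlift⟩ := hov i i' Z.left _ _ hzz
    have hmem : (Sieve.overEquiv Z).symm S₀ ∈ QuotSh.J K T Z := by
      rw [GrothendieckTopology.mem_over_iff, OrderIso.apply_symm_apply]
      exact hS₀
    refine (isSheaf_type K M _ hmem).isSeparatedFor.ext (fun V v hv => ?_)
    change (M.val.map v.op).hom ((M.val.map gi.op).hom (y i)) =
      (M.val.map v.op).hom ((M.val.map gi'.op).hom (y i'))
    rw [Sieve.overEquiv_symm_iff] at hv
    obtain ⟨l, h, h1, h2⟩ := hlift v.left hv
    obtain ⟨ℓ, hℓ1, hℓ2⟩ := overlap_lift f a (A i) (j i) (hj i) (A i') (j i') (hj i')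
      (A'' i i' l) (θs i i' l) (θt i i' l) B (v.left ≫ p) (v.left ≫ p')
      (by rw [Category.assoc, Category.assoc, hpp]) h
      (by rw [h1, Category.assoc]) (by rw [h2, Category.assoc])
    let ℓ' : V.left ⟶ (chartObj f a (A'' i i' l) (j'' i i' l) B).left := ℓ
    have hℓ1' : ℓ' ≫ (transMor f a (A i) (j i) (A'' i i' l) (j'' i i' l) (θs i i' l)
        (hs i i' l) B).left = (v ≫ gi).left := hℓ1
    have hℓ2' : ℓ' ≫ (transMor f a (A i') (j i') (A'' i i' l) (j'' i i' l) (θt i i' l)
        (ht i i' l) B).left = (v ≫ gi').left := hℓ2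
    have hw : ℓ' ≫ (chartObj f a (A'' i i' l) (j'' i i' l) B).hom = V.hom := by
      rw [← Over.w (transMor f a (A i) (j i) (A'' i i' l) (j'' i i' l) (θs i i' l)
        (hs i i' l) B), ← Category.assoc, hℓ1', Over.w]
    let lam : V ⟶ chartObj f a (A'' i i' l) (j'' i i' l) B := Over.homMk ℓ' hw
    have e1 : lam ≫ transMor f a (A i) (j i) (A'' i i' l) (j'' i i' l) (θs i i' l)
        (hs i i' l) B = v ≫ gi := by
      apply Over.OverMorphism.ext
      exact hℓ1'
    have e2 : lam ≫ transMor f a (A i') (j i') (A'' i i' l) (j'' i i' l) (θt i i' l)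
        (ht i i' l) B = v ≫ gi' := by
      apply Over.OverMorphism.ext
      exact hℓ2'
    rw [← hcomp, ← hcomp, ← e1, ← e2, hcomp, hcomp, hy i i' l]

include hj hj'' hs ht in
theorem adequate_pushF [Finite I] [∀ i i', Finite (L i i')]
    (hcov : Sieve.generate (Presieve.ofArrows (fun i => Spec (CommRingCat.of (A i))) j) ∈
      K.toGrothendieck (pullback a f))
    (hov : ∀ (i i' : I) (Z : Scheme.{u}) (z : Z ⟶ Spec (CommRingCat.of (A i)))
      (z' : Z ⟶ Spec (CommRingCat.of (A i'))), z ≫ j i = z' ≫ j i' →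
      ∃ S₀ : Sieve Z, S₀ ∈ K.toGrothendieck Z ∧ ∀ ⦃V : Scheme.{u}⦄ (v : V ⟶ Z), S₀ v →
        ∃ (l : L i i') (h : V ⟶ Spec (CommRingCat.of (A'' i i' l))),
          h ≫ spθ (A i) (A'' i i' l) (θs i i' l) = v ≫ z ∧
          h ≫ spθ (A i') (A'' i i' l) (θt i i' l) = v ≫ z')
    (hA : ∀ i, adequate (A i) ((toMVF K (chartB f a (A i) (j i))).obj M))
    (hA'' : ∀ i i' l, adequate (A'' i i' l)
      ((toMVF K (chartB f a (A'' i i' l) (j'' i i' l))).obj M)) :
    adequate R (pushF K f M a) := by
  refine adequate_of_glue (pushF K f M a) (I := I) (L := Σ i, Σ i', L i i')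
    (fun i => chartG K f M a (A i) (j i))
    (fun x => chartG K f M a (A'' x.1 x.2.1 x.2.2) (j'' x.1 x.2.1 x.2.2))
    (fun i => adequate_push R (A i) _ (hA i))
    (fun x => adequate_push R (A'' x.1 x.2.1 x.2.2) _ (hA'' x.1 x.2.1 x.2.2))
    (fun x => x.1) (fun x => x.2.1)
    (fun i => rho K f M a (A i) (j i) (hj i))
    (fun x => sigma K f M a (A x.1) (j x.1) (A'' x.1 x.2.1 x.2.2) (j'' x.1 x.2.1 x.2.2)
      (θs x.1 x.2.1 x.2.2) (hs x.1 x.2.1 x.2.2))
    (fun x => sigma K f M a (A x.2.1) (j x.2.1) (A'' x.1 x.2.1 x.2.2) (j'' x.1 x.2.1 x.2.2)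
      (θt x.1 x.2.1 x.2.2) (ht x.1 x.2.1 x.2.2))
    ?_ ?_ ?_
  · intro x
    rw [rho_sigma K f M a (A x.1) (j x.1) (hj x.1) (A'' x.1 x.2.1 x.2.2) (j'' x.1 x.2.1 x.2.2)
      (hj'' x.1 x.2.1 x.2.2) (θs x.1 x.2.1 x.2.2) (hs x.1 x.2.1 x.2.2),
      rho_sigma K f M a (A x.2.1) (j x.2.1) (hj x.2.1) (A'' x.1 x.2.1 x.2.2) (j'' x.1 x.2.1 x.2.2)
      (hj'' x.1 x.2.1 x.2.2) (θt x.1 x.2.1 x.2.2) (ht x.1 x.2.1 x.2.2)]
  · intro B x hx
    exact chart_sep K f M a A j hj hcov B x hx
  · intro B y hy
    exact chart_glue K f M a A j hj A'' j'' θs θt hs ht hcov hov B y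
      (fun i i' l => hy ⟨i, i', l⟩)

end family

/-- a quasi-compact scheme over `Spec R` has a finite cover by affine charts over `Spec R` -/
theorem exists_affine_charts {R : CommRingCat.{u}} {X : Scheme.{u}} [CompactSpace X]
    (π : X ⟶ Spec R) :
    ∃ (I₀ : Type u) (_ : Finite I₀) (A : I₀ → CommRingCat.{u}) (φ : ∀ k, R ⟶ A k)
      (j : ∀ k, Spec (A k) ⟶ X),
      (∀ k, IsOpenImmersion (j k)) ∧ (∀ k, j k ≫ π = Spec.map (φ k)) ∧
        ∀ x : X, ∃ k, x ∈ Set.range (j k) := by
  let 𝒰 : X.OpenCover := X.affineOpenCover.openCover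
  let 𝒱 : X.OpenCover := 𝒰.finiteSubcover
  refine ⟨𝒱.I₀, inferInstance, fun k => X.affineOpenCover.X (𝒰.idx k.1),
    fun k => Spec.preimage (X.affineOpenCover.f (𝒰.idx k.1) ≫ π),
    fun k => X.affineOpenCover.f (𝒰.idx k.1), fun k => inferInstance,
    fun k => (Spec.map_preimage _).symm, fun x => ⟨𝒱.idx x, 𝒱.covers x⟩⟩

section prop
variable (P : MorphismProperty Scheme.{u}) [P.IsStableUnderBaseChange]
  [Scheme.IsJointlySurjectivePreserving P] [P.IsStableUnderComposition]
  [BigSite.OSh (Scheme.precoverage P)]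
  (hPopen : ∀ {X Y : Scheme.{u}} (f : X ⟶ Y), P f → IsOpenMap f)
  (hPimm : ∀ {X Y : Scheme.{u}} (f : X ⟶ Y) [IsOpenImmersion f], P f)

include hPimm in
omit [P.IsStableUnderBaseChange] [Scheme.IsJointlySurjectivePreserving P]
  [P.IsStableUnderComposition] [BigSite.OSh (Scheme.precoverage P)] in
theorem generate_mem_of_cover {X : Scheme.{u}} {I : Type (u + 1)} (Y : I → Scheme.{u})
    (g : ∀ i, Y i ⟶ X) (hg : ∀ i, IsOpenImmersion (g i))
    (hsurj : ∀ x : X, ∃ i, x ∈ Set.range (g i)) :
    Sieve.generate (Presieve.ofArrows Y g) ∈ (Scheme.precoverage P).toGrothendieck X := by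
  apply Precoverage.generate_mem_toGrothendieck
  rw [Scheme.ofArrows_mem_precoverage_iff]
  exact ⟨hsurj, fun i => hPimm (g i)⟩

include hPopen hPimm in
theorem adequate_toMVF_pushMod {S T : Scheme.{u}} (f : T ⟶ S) [QuasiCompact f] [QuasiSeparated f]
    (M : BigSite.Mod (Scheme.precoverage P) T) (hM : adequateMod (Scheme.precoverage P) T M)
    (R : CommRingCat.{u}) (a : Spec R ⟶ S) :
    adequate R (pushF (Scheme.precoverage P) f M a) := by
  have hqs : QuasiSeparatedSpace ↑(pullback a f) :=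
    quasiSeparatedSpace_of_quasiSeparated (pullback.fst a f)
  obtain ⟨I₀, hI₀, A₀, φ₀, j₀, hopen₀, hφ₀, hsurj₀⟩ := exists_affine_charts (pullback.fst a f)
  have hov₀ : ∀ k k' : I₀, ∃ (L₀ : Type u) (_ : Finite L₀) (A₁ : L₀ → CommRingCat.{u})
      (φ₁ : ∀ l, R ⟶ A₁ l) (w : ∀ l, Spec (A₁ l) ⟶ pullback (j₀ k) (j₀ k')),
      (∀ l, IsOpenImmersion (w l)) ∧
      (∀ l, w l ≫ (pullback.fst (j₀ k) (j₀ k') ≫ j₀ k ≫ pullback.fst a f) = Spec.map (φ₁ l)) ∧
        ∀ x, ∃ l, x ∈ Set.range (w l) := by
    intro k k'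
    have : QuasiCompact (j₀ k') := inferInstance
    exact exists_affine_charts _
  choose L₀ hL₀ A₁ φ₁ w hopen₁ hφ₁ hsurj₁ using hov₀
  -- the data, lifted one universe up
  let I : Type (u + 1) := ULift.{u + 1} I₀
  let A : I → Type u := fun i => A₀ i.down
  let algA : ∀ i, Algebra R (A i) := fun i => (φ₀ i.down).hom.toAlgebra
  let j : ∀ i, Spec (CommRingCat.of (A i)) ⟶ pullback a f := fun i => j₀ i.down
  have hj : ∀ i, j i ≫ pullback.fst a f = Spec.map (CommRingCat.ofHom (algebraMap R (A i))) :=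
    fun i => hφ₀ i.down
  let L : I → I → Type (u + 1) := fun i i' => ULift.{u + 1} (L₀ i.down i'.down)
  let A'' : ∀ i i', L i i' → Type u := fun i i' l => A₁ i.down i'.down l.down
  let algA'' : ∀ i i' l, Algebra R (A'' i i' l) :=
    fun i i' l => (φ₁ i.down i'.down l.down).hom.toAlgebra
  let w' : ∀ i i' l, Spec (CommRingCat.of (A'' i i' l)) ⟶ pullback (j i) (j i') :=
    fun i i' l => w i.down i'.down l.down
  let j'' : ∀ i i' l, Spec (CommRingCat.of (A'' i i' l)) ⟶ pullback a f :=
    fun i i' l => w' i i' l ≫ pullback.fst (j i) (j i') ≫ j i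
  have hj'' : ∀ i i' l, j'' i i' l ≫ pullback.fst a f =
      Spec.map (CommRingCat.ofHom (algebraMap R (A'' i i' l))) := by
    intro i i' l
    have := hφ₁ i.down i'.down l.down
    change (w i.down i'.down l.down ≫ pullback.fst (j₀ i.down) (j₀ i'.down) ≫ j₀ i.down) ≫
      pullback.fst a f = _
    rw [Category.assoc, Category.assoc]
    exact this
  let θs₀ : ∀ i i' l, CommRingCat.of (A i) ⟶ CommRingCat.of (A'' i i' l) :=
    fun i i' l => Spec.preimage (w' i i' l ≫ pullback.fst (j i) (j i'))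
  let θt₀ : ∀ i i' l, CommRingCat.of (A i') ⟶ CommRingCat.of (A'' i i' l) :=
    fun i i' l => Spec.preimage (w' i i' l ≫ pullback.snd (j i) (j i'))
  have hθs₀ : ∀ i i' l, Spec.map (θs₀ i i' l) = w' i i' l ≫ pullback.fst (j i) (j i') :=
    fun _ _ _ => Spec.map_preimage _
  have hθt₀ : ∀ i i' l, Spec.map (θt₀ i i' l) = w' i i' l ≫ pullback.snd (j i) (j i') :=
    fun _ _ _ => Spec.map_preimage _
  have hcs : ∀ i i' l, CommRingCat.ofHom (algebraMap R (A i)) ≫ θs₀ i i' l =
      CommRingCat.ofHom (algebraMap R (A'' i i' l)) := by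
    intro i i' l
    apply Spec.map_injective
    rw [Spec.map_comp, hθs₀, ← hj, ← hj'']
    change _ = (w' i i' l ≫ pullback.fst (j i) (j i') ≫ j i) ≫ pullback.fst a f
    simp only [Category.assoc]
  have hct : ∀ i i' l, CommRingCat.ofHom (algebraMap R (A i')) ≫ θt₀ i i' l =
      CommRingCat.ofHom (algebraMap R (A'' i i' l)) := by
    intro i i' l
    apply Spec.map_injective
    rw [Spec.map_comp, hθt₀, ← hj, ← hj'']
    change _ = (w' i i' l ≫ pullback.fst (j i) (j i') ≫ j i) ≫ pullback.fst a f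
    rw [pullback.condition]
    simp only [Category.assoc]
  let θs : ∀ i i' l, A i →ₐ[R] A'' i i' l := fun i i' l =>
    { toRingHom := (θs₀ i i' l).hom
      commutes' := fun r => congrArg (fun ψ => ψ.hom r) (hcs i i' l) }
  let θt : ∀ i i' l, A i' →ₐ[R] A'' i i' l := fun i i' l =>
    { toRingHom := (θt₀ i i' l).hom
      commutes' := fun r => congrArg (fun ψ => ψ.hom r) (hct i i' l) }
  have hs : ∀ i i' l, spθ (A i) (A'' i i' l) (θs i i' l) ≫ j i = j'' i i' l := by
    intro i i' l
    change Spec.map (θs₀ i i' l) ≫ j i = w' i i' l ≫ pullback.fst (j i) (j i') ≫ j i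
    rw [hθs₀, Category.assoc]
  have ht : ∀ i i' l, spθ (A i') (A'' i i' l) (θt i i' l) ≫ j i' = j'' i i' l := by
    intro i i' l
    change Spec.map (θt₀ i i' l) ≫ j i' = w' i i' l ≫ pullback.fst (j i) (j i') ≫ j i
    rw [hθt₀, Category.assoc, pullback.condition]
  have hcov : Sieve.generate (Presieve.ofArrows (fun i => Spec (CommRingCat.of (A i))) j) ∈
      (Scheme.precoverage P).toGrothendieck (pullback a f) :=
    generate_mem_of_cover P hPimm _ j (fun i => hopen₀ i.down) (fun x => by
      obtain ⟨k, hk⟩ := hsurj₀ x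
      exact ⟨⟨k⟩, hk⟩)
  have hcov₁ : ∀ i i', Sieve.generate (Presieve.ofArrows
      (fun l => Spec (CommRingCat.of (A'' i i' l))) (w' i i')) ∈
        (Scheme.precoverage P).toGrothendieck (pullback (j i) (j i')) := fun i i' =>
    generate_mem_of_cover P hPimm _ (w' i i') (fun l => hopen₁ _ _ l.down) (fun x => by
      obtain ⟨l, hl⟩ := hsurj₁ i.down i'.down x
      exact ⟨⟨l⟩, hl⟩)
  have hov : ∀ (i i' : I) (Z : Scheme.{u}) (z : Z ⟶ Spec (CommRingCat.of (A i)))
      (z' : Z ⟶ Spec (CommRingCat.of (A i'))), z ≫ j i = z' ≫ j i' →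
      ∃ S₀ : Sieve Z, S₀ ∈ (Scheme.precoverage P).toGrothendieck Z ∧
        ∀ ⦃V : Scheme.{u}⦄ (v : V ⟶ Z), S₀ v →
        ∃ (l : L i i') (h : V ⟶ Spec (CommRingCat.of (A'' i i' l))),
          h ≫ spθ (A i) (A'' i i' l) (θs i i' l) = v ≫ z ∧
          h ≫ spθ (A i') (A'' i i' l) (θt i i' l) = v ≫ z' := by
    intro i i' Z z z' hzz
    let q : Z ⟶ pullback (j i) (j i') := pullback.lift z z' hzz
    refine ⟨(Sieve.generate (Presieve.ofArrows _ (w' i i'))).pullback q,
      (Scheme.precoverage P).toGrothendieck.pullback_stable q (hcov₁ i i'), ?_⟩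
    intro V v hv
    obtain ⟨W, h, g, ⟨l⟩, hfac⟩ := hv
    refine ⟨l, h, ?_, ?_⟩
    · change h ≫ Spec.map (θs₀ i i' l) = _
      rw [hθs₀, ← Category.assoc, hfac, Category.assoc, pullback.lift_fst]
    · change h ≫ Spec.map (θt₀ i i' l) = _
      rw [hθt₀, ← Category.assoc, hfac, Category.assoc, pullback.lift_snd]
  have hfinI : Finite I := inferInstance
  have hfinL : ∀ i i', Finite (L i i') := fun i i' => inferInstance
  exact adequate_pushF (Scheme.precoverage P) f M a A j hj A'' j'' hj'' θs θt hs ht hcov hov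
    (fun i => adequate_toMVF_of_adequateMod P hPopen hPimm M hM _ _)
    (fun i i' l => adequate_toMVF_of_adequateMod P hPopen hPimm M hM _ _)

include hPopen hPimm in
theorem adequateMod_pushMod {S T : Scheme.{u}} (f : T ⟶ S) [QuasiCompact f] [QuasiSeparated f]
    (M : BigSite.Mod (Scheme.precoverage P) T) (hM : adequateMod (Scheme.precoverage P) T M) :
    adequateMod (Scheme.precoverage P) S ((BigSite.pushMod (Scheme.precoverage P) f).obj M) :=
  adequateMod_of_forall_affine P hPimm _
    (fun R a => adequate_toMVF_pushMod P hPopen hPimm f M hM R a)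

end prop

end Push

namespace Fppf

theorem adequateMod_pushMod {S T : Scheme.{u}} (f : T ⟶ S) [QuasiCompact f] [QuasiSeparated f]
    (M : BigSite.Mod Scheme.fppfPrecoverage T) (hM : adequateMod Scheme.fppfPrecoverage T M) :
    adequateMod Scheme.fppfPrecoverage S ((BigSite.pushMod Scheme.fppfPrecoverage f).obj M) :=
  Push.adequateMod_pushMod PP isOpenMap_of_PP (fun f _ => PP_of_isOpenImmersion f) f M hM

end Fppf

end

end Groth.Agent.Helper13Adeq
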