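import Mathlib

/-!
# Helper23: presheaves of modules valued one universe above the (u-small-hom) base category and
the rings form a Grothendieck abelian category (free-on-representable separator built by hand).

* `Groth.Agent.Lib.Helper23PshModGroth.isGrothendieckAbelian R : IsGrothendieckAbelian.{u+1} (PresheafOfModules.{u+1} R)`
  for `R : C₀ᵒᵖ ⥤ RingCat.{u}`, `C₀ : Type (u+1)`, `Category.{u} C₀`.
* `enoughInjectives R`.
* `F R X₀` the free presheaf of modules on the representable `X₀`, `toM R M X₀ m : F R X₀ ⟶ M`, `toM_app`.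
-/

universe u
open CategoryTheory Limits Opposite

namespace Groth.Agent.Lib.Helper23PshModGroth
variable {C₀ : Type (u+1)} [Category.{u} C₀] (R : C₀ᵒᵖ ⥤ RingCat.{u})

abbrev Idx (X₀ : C₀) (Y : C₀ᵒᵖ) : Type (u+1) := ULift.{u+1} (Y.unop ⟶ X₀)

noncomputable def tr (X₀ : C₀) {Y Y' : C₀ᵒᵖ} (g : Y ⟶ Y') :
    (Idx X₀ Y →₀ R.obj Y) →+ (Idx X₀ Y' →₀ R.obj Y') :=
  (Finsupp.mapDomain.addMonoidHom (fun h : Idx X₀ Y => (⟨g.unop ≫ h.down⟩ : Idx X₀ Y'))).comp
    (Finsupp.mapRange.addMonoidHom (R.map g).hom.toAddMonoidHom)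

lemma tr_single (X₀ : C₀) {Y Y' : C₀ᵒᵖ} (g : Y ⟶ Y') (h : Idx X₀ Y) (r : R.obj Y) :
    tr R X₀ g (Finsupp.single h r) = Finsupp.single ⟨g.unop ≫ h.down⟩ (R.map g r) := by
  simp [tr, Finsupp.mapDomain_single]

noncomputable def freeAb (X₀ : C₀) : C₀ᵒᵖ ⥤ Ab.{u+1} where
  obj Y := AddCommGrpCat.of (Idx X₀ Y →₀ R.obj Y)
  map {Y Y'} g := AddCommGrpCat.ofHom (tr R X₀ g)
  map_id Y := by
    ext : 1
    refine Finsupp.addHom_ext (fun h r => ?_)
    simp [tr_single]
  map_comp {Y Y' Y''} g g' := by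
    ext : 1
    refine Finsupp.addHom_ext (fun h r => ?_)
    simp [tr_single]

end Groth.Agent.Lib.Helper23PshModGroth

namespace Groth.Agent.Lib.Helper23PshModGroth
variable {C₀ : Type (u+1)} [Category.{u} C₀] (R : C₀ᵒᵖ ⥤ RingCat.{u})

noncomputable instance (X₀ : C₀) (Y : C₀ᵒᵖ) : Module (R.obj Y) ((freeAb R X₀).obj Y) :=
  inferInstanceAs (Module (R.obj Y) (Idx X₀ Y →₀ R.obj Y))

lemma tr_smul (X₀ : C₀) {Y Y' : C₀ᵒᵖ} (g : Y ⟶ Y') (r : R.obj Y)
    (m : Idx X₀ Y →₀ R.obj Y) :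
    tr R X₀ g (r • m) = (R.map g r) • tr R X₀ g m := by
  induction m using Finsupp.induction_linear with
  | zero => simp
  | add a b ha hb => rw [smul_add, map_add, ha, hb, map_add, smul_add]
  | single h s =>
    rw [Finsupp.smul_single, tr_single, tr_single, Finsupp.smul_single]
    simp

lemma freeAb_map_smul (X₀ : C₀) ⦃Y Y' : C₀ᵒᵖ⦄ (g : Y ⟶ Y') (r : R.obj Y)
    (m : (freeAb R X₀).obj Y) :
    (freeAb R X₀).map g (r • m) = (R.map g) r • (freeAb R X₀).map g m :=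
  tr_smul R X₀ g r m

noncomputable def F (X₀ : C₀) : PresheafOfModules.{u+1} R :=
  PresheafOfModules.ofPresheaf (freeAb R X₀) (freeAb_map_smul R X₀)

end Groth.Agent.Lib.Helper23PshModGroth

namespace Groth.Agent.Lib.Helper23PshModGroth
variable {C₀ : Type (u+1)} [Category.{u} C₀] (R : C₀ᵒᵖ ⥤ RingCat.{u})

/-- the linear map on values -/
noncomputable def ev (M : PresheafOfModules.{u+1} R) (X₀ : C₀) (m : M.obj (op X₀)) (Y : C₀ᵒᵖ) :
    (Idx X₀ Y →₀ R.obj Y) →ₗ[R.obj Y] M.obj Y :=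
  Finsupp.linearCombination (R.obj Y) (fun h : Idx X₀ Y => M.restrictₛₗ h.down.op m)

lemma ev_single (M : PresheafOfModules.{u+1} R) (X₀ : C₀) (m : M.obj (op X₀)) (Y : C₀ᵒᵖ)
    (h : Idx X₀ Y) (r : R.obj Y) :
    ev R M X₀ m Y (Finsupp.single h r) = r • M.restrictₛₗ h.down.op m := by
  simp only [ev, Finsupp.linearCombination_single]

lemma restr_comp (M : PresheafOfModules.{u+1} R) {U V W : C₀ᵒᵖ} (i : U ⟶ V) (j : V ⟶ W)
    (x : M.obj U) : M.restrictₛₗ (i ≫ j) x = M.restrictₛₗ j (M.restrictₛₗ i x) :=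
  M.map_comp_apply i j x

lemma ev_tr (M : PresheafOfModules.{u+1} R) (X₀ : C₀) (m : M.obj (op X₀)) {Y Y' : C₀ᵒᵖ}
    (g : Y ⟶ Y') (x : Idx X₀ Y →₀ R.obj Y) :
    ev R M X₀ m Y' (tr R X₀ g x) = M.restrictₛₗ g (ev R M X₀ m Y x) := by
  induction x using Finsupp.induction_linear with
  | zero => simp only [map_zero]
  | add a b ha hb => rw [map_add, map_add, ha, hb, map_add, map_add]
  | single h r =>
    rw [tr_single, ev_single, ev_single, map_smulₛₗ]
    congr 1
    have : (g.unop ≫ h.down).op = h.down.op ≫ g := by simp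
    rw [this, restr_comp]

noncomputable def toM (M : PresheafOfModules.{u+1} R) (X₀ : C₀) (m : M.obj (op X₀)) :
    F R X₀ ⟶ M :=
  PresheafOfModules.homMk
    { app := fun Y => AddCommGrpCat.ofHom (ev R M X₀ m Y).toAddMonoidHom
      naturality := by
        intro Y Y' g
        ext x
        exact ev_tr R M X₀ m g x }
    (fun Y r x => (ev R M X₀ m Y).map_smul r x)

noncomputable def gen (X₀ : C₀) : (F R X₀).obj (op X₀) :=
  (Finsupp.single ⟨𝟙 X₀⟩ 1 : Idx X₀ (op X₀) →₀ R.obj (op X₀))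

lemma toM_app (M : PresheafOfModules.{u+1} R) (X₀ : C₀) (m : M.obj (op X₀)) :
    (toM R M X₀ m).app (op X₀) (gen R X₀) = m := by
  change ev R M X₀ m (op X₀) (Finsupp.single ⟨𝟙 X₀⟩ 1) = m
  rw [ev_single, one_smul]
  change M.map (𝟙 (op X₀)) m = m
  rw [M.map_id]
  rfl

end Groth.Agent.Lib.Helper23PshModGroth

namespace Groth.Agent.Lib.Helper23PshModGroth
variable {C₀ : Type (u+1)} [Category.{u} C₀] (R : C₀ᵒᵖ ⥤ RingCat.{u})

lemma isSeparating : (ObjectProperty.ofObj (F R)).IsSeparating := by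
  intro M N f₁ f₂ h
  ext ⟨X₀⟩ m
  have h1 := h _ ⟨X₀⟩ (toM R M X₀ m)
  have h2 : (toM R M X₀ m ≫ f₁).app (op X₀) (gen R X₀) =
      (toM R M X₀ m ≫ f₂).app (op X₀) (gen R X₀) := by rw [h1]
  change f₁.app (op X₀) ((toM R M X₀ m).app (op X₀) (gen R X₀)) =
    f₂.app (op X₀) ((toM R M X₀ m).app (op X₀) (gen R X₀)) at h2
  rw [toM_app] at h2
  exact h2

theorem reflectsFiniteLimits_toPresheaf :
    ReflectsFiniteLimits (PresheafOfModules.toPresheaf.{u+1} R) := by
  have : (PresheafOfModules.toPresheaf.{u+1} R).ReflectsIsomorphisms := inferInstance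
  exact ⟨fun J _ _ => reflectsLimitsOfShape_of_reflectsIsomorphisms⟩

theorem ab5_presheafOfModules : AB5OfSize.{u+1, u+1} (PresheafOfModules.{u+1} R) := by
  have := reflectsFiniteLimits_toPresheaf R
  exact ⟨fun J _ _ =>
    HasExactColimitsOfShape.domain_of_functor J (PresheafOfModules.toPresheaf.{u+1} R)⟩

theorem isGrothendieckAbelian : IsGrothendieckAbelian.{u+1} (PresheafOfModules.{u+1} R) where
  locallySmall := inferInstance
  hasFilteredColimitsOfSize := inferInstance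
  ab5OfSize := ab5_presheafOfModules R
  hasSeparator := ⟨_, (isSeparating R).isSeparator_coproduct⟩

theorem enoughInjectives : EnoughInjectives (PresheafOfModules.{u+1} R) := by
  have := isGrothendieckAbelian R
  exact IsGrothendieckAbelian.enoughInjectives.{u+1}

end Groth.Agent.Lib.Helper23PshModGroth

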