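import Mathlib.CategoryTheory.Preadditive.Injective.Basic
import Groth.Agent.Lib.Helper13AdeqP
import Groth.Agent.Lib.Helper23PshModGroth

set_option autoImplicit false
universe u
open CategoryTheory Limits Opposite
open Adeq

namespace Groth.Agent.Helper13Adeq

variable {A : Type u} [CommRing A]

instance preservesMonomorphisms_adequate_ι : (adequate A).ι.PreservesMonomorphisms where
  preserves {X Y} f hf := by
    change Mono f.hom
    apply Preadditive.mono_of_kernel_zero
    let K : (adequate A).FullSubcategory :=
      ⟨kernel f.hom, adequate_kernel f.hom X.property Y.property⟩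
    let k : K ⟶ X := ObjectProperty.homMk (kernel.ι f.hom)
    let k' : K ⟶ X := ObjectProperty.homMk 0
    have h : k ≫ f = k' ≫ f := by
      apply ObjectProperty.hom_ext
      change kernel.ι f.hom ≫ f.hom = 0 ≫ f.hom
      rw [kernel.condition, zero_comp]
    have h2 := (cancel_mono f).1 h
    exact congrArg (fun g => g.hom) h2

theorem enoughInjectives_adequate : EnoughInjectives (Adequate A) := by
  haveI : (adequate A).ι.IsLeftAdjoint := isLeftAdjoint_adequate_ι
  haveI : EnoughInjectives (MVF A) :=
    Groth.Agent.Lib.Helper23PshModGroth.enoughInjectives (ringOf A)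
  exact EnoughInjectives.of_adjunction (Adjunction.ofIsLeftAdjoint (adequate A).ι)

end Groth.Agent.Helper13Adeq
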