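import Mathlib
import Groth.Agent.Lib.Helper13AdeqD
import Groth.Agent.Lib.Helper13AdeqB

set_option autoImplicit false
universe u v w
open CategoryTheory Limits Opposite TensorProduct
open Adeq

namespace Groth.Agent.Helper13Adeq

theorem lTensor_comm' {A : Type u} [CommRing A] {P Q : Type*} [AddCommGroup P] [Module A P]
    [AddCommGroup Q] [Module A Q] (B : Type w) [AddCommGroup B] [Module A B] (f : P →ₗ[A] Q)
    (t : P ⊗[A] B) :
    f.lTensor B (TensorProduct.comm A P B t) = TensorProduct.comm A Q B (f.rTensor B t) := by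
  induction t using TensorProduct.induction_on with
  | zero => simp
  | tmul x y => simp
  | add x y hx hy => simp only [map_add, hx, hy]

namespace FiltCol

variable {A : Type u} [CommRing A] {J : Type u} [SmallCategory J] [IsFiltered J]
  (D : J ⥤ Alg A) (c : Cocone D) (hc : IsColimit c)

/-- the underlying-set functor on commutative algebras (preserves filtered colimits) -/
noncomputable abbrev Gset (A : Type u) [CommRing A] : CommAlgCat.{u} A ⥤ Type u :=
  (commAlgCatEquivUnder (.of A)).functor ⋙ Under.forget _ ⋙ forget CommRingCat.{u}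

noncomputable def isColimitGset : IsColimit ((Gset A).mapCocone c) := by
  haveI : IsConnected J := IsFiltered.isConnected J
  exact isColimitOfPreserves (Gset A) hc

include hc

theorem alg_surj (x : c.pt) : ∃ (j : J) (y : D.obj j), (c.ι.app j).hom y = x := by
  obtain ⟨j, y, hy⟩ := Types.jointly_surjective_of_isColimit (isColimitGset D c hc) x
  exact ⟨j, y, hy⟩

theorem alg_inj {j : J} (y y' : D.obj j) (h : (c.ι.app j).hom y = (c.ι.app j).hom y') :
    ∃ (k : J) (f : j ⟶ k), (D.map f).hom y = (D.map f).hom y' := by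
  have := (Types.FilteredColimit.isColimit_eq_iff' (isColimitGset D c hc) (i := j) y y').1 h
  obtain ⟨k, f, hf⟩ := this
  exact ⟨k, f, hf⟩


omit hc in
theorem ι_map_apply {j k : J} (f : j ⟶ k) (y : D.obj j) :
    (c.ι.app k).hom ((D.map f).hom y) = (c.ι.app j).hom y := by
  have h := c.w f
  exact congrArg (fun g => g.hom y) h

theorem alg_surj_fin (n : ℕ) (v : Fin n → c.pt) :
    ∃ (j : J) (w : Fin n → D.obj j), ∀ i, (c.ι.app j).hom (w i) = v i := by
  induction n with
  | zero => exact ⟨IsFiltered.nonempty.some, Fin.elim0, fun i => i.elim0⟩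
  | succ n ih =>
    obtain ⟨j₁, w₁, hw₁⟩ := ih (fun i => v i.succ)
    obtain ⟨j₀, y₀, hy₀⟩ := alg_surj D c hc (v 0)
    refine ⟨IsFiltered.max j₀ j₁, Fin.cons ((D.map (IsFiltered.leftToMax j₀ j₁)).hom y₀)
      (fun i => (D.map (IsFiltered.rightToMax j₀ j₁)).hom (w₁ i)), fun i => ?_⟩
    refine Fin.cases ?_ (fun i => ?_) i
    · rw [Fin.cons_zero, ι_map_apply, hy₀]
    · rw [Fin.cons_succ, ι_map_apply, hw₁]

theorem alg_surj_fintype {ι : Type*} [Fintype ι] (v : ι → c.pt) :
    ∃ (j : J) (w : ι → D.obj j), ∀ i, (c.ι.app j).hom (w i) = v i := by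
  obtain ⟨j, w, hw⟩ := alg_surj_fin D c hc (Fintype.card ι) (fun i => v ((Fintype.equivFin ι).symm i))
  refine ⟨j, fun i => w (Fintype.equivFin ι i), fun i => ?_⟩
  rw [hw, Equiv.symm_apply_apply]

theorem alg_inj_fin {j : J} (n : ℕ) (w w' : Fin n → D.obj j)
    (h : ∀ i, (c.ι.app j).hom (w i) = (c.ι.app j).hom (w' i)) :
    ∃ (k : J) (f : j ⟶ k), ∀ i, (D.map f).hom (w i) = (D.map f).hom (w' i) := by
  induction n with
  | zero => exact ⟨j, 𝟙 j, fun i => i.elim0⟩
  | succ n ih =>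
    obtain ⟨k₁, f₁, hf₁⟩ := ih (fun i => w i.succ) (fun i => w' i.succ) (fun i => h i.succ)
    obtain ⟨k₀, f₀, hf₀⟩ := alg_inj D c hc (w 0) (w' 0) (h 0)
    obtain ⟨k, g₀, g₁, hg⟩ := IsFiltered.span f₀ f₁
    refine ⟨k, f₀ ≫ g₀, fun i => ?_⟩
    refine Fin.cases ?_ (fun i => ?_) i
    · rw [D.map_comp]
      change (D.map g₀).hom ((D.map f₀).hom (w 0)) = (D.map g₀).hom ((D.map f₀).hom (w' 0))
      rw [hf₀]
    · rw [hg, D.map_comp]
      change (D.map g₁).hom ((D.map f₁).hom (w i.succ)) = (D.map g₁).hom ((D.map f₁).hom (w' i.succ))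
      rw [hf₁]

theorem alg_inj_fintype {ι : Type*} [Fintype ι] {j : J} (w w' : ι → D.obj j)
    (h : ∀ i, (c.ι.app j).hom (w i) = (c.ι.app j).hom (w' i)) :
    ∃ (k : J) (f : j ⟶ k), ∀ i, (D.map f).hom (w i) = (D.map f).hom (w' i) := by
  obtain ⟨k, f, hf⟩ := alg_inj_fin D c hc (Fintype.card ι)
    (fun i => w ((Fintype.equivFin ι).symm i)) (fun i => w' ((Fintype.equivFin ι).symm i))
    (fun i => h _)
  refine ⟨k, f, fun i => ?_⟩
  have := hf (Fintype.equivFin ι i)
  rwa [Equiv.symm_apply_apply] at this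


theorem tensor_surj (M : Type v) [AddCommGroup M] [Module A M] (t : c.pt ⊗[A] M) :
    ∃ (j : J) (s : D.obj j ⊗[A] M), (c.ι.app j).hom.toLinearMap.rTensor M s = t := by
  induction t using TensorProduct.induction_on with
  | zero => exact ⟨IsFiltered.nonempty.some, 0, map_zero _⟩
  | tmul x m =>
    obtain ⟨j, y, hy⟩ := alg_surj D c hc x
    exact ⟨j, y ⊗ₜ m, by rw [LinearMap.rTensor_tmul]; exact congrArg (· ⊗ₜ[A] m) hy⟩
  | add t₁ t₂ h₁ h₂ =>
    obtain ⟨j₁, s₁, rfl⟩ := h₁
    obtain ⟨j₂, s₂, rfl⟩ := h₂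
    refine ⟨IsFiltered.max j₁ j₂,
      (D.map (IsFiltered.leftToMax j₁ j₂)).hom.toLinearMap.rTensor M s₁ +
        (D.map (IsFiltered.rightToMax j₁ j₂)).hom.toLinearMap.rTensor M s₂, ?_⟩
    rw [map_add, ← LinearMap.comp_apply, ← LinearMap.comp_apply, ← LinearMap.rTensor_comp,
      ← LinearMap.rTensor_comp]
    have e1 : (c.ι.app (IsFiltered.max j₁ j₂)).hom.toLinearMap ∘ₗ
        (D.map (IsFiltered.leftToMax j₁ j₂)).hom.toLinearMap = (c.ι.app j₁).hom.toLinearMap :=
      LinearMap.ext fun y => ι_map_apply D c _ y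
    have e2 : (c.ι.app (IsFiltered.max j₁ j₂)).hom.toLinearMap ∘ₗ
        (D.map (IsFiltered.rightToMax j₁ j₂)).hom.toLinearMap = (c.ι.app j₂).hom.toLinearMap :=
      LinearMap.ext fun y => ι_map_apply D c _ y
    rw [e1, e2]

theorem tensor_inj (M : Type v) [AddCommGroup M] [Module A M] {j : J} (t : D.obj j ⊗[A] M)
    (ht : (c.ι.app j).hom.toLinearMap.rTensor M t = 0) :
    ∃ (k : J) (f : j ⟶ k), (D.map f).hom.toLinearMap.rTensor M t = 0 := by
  classical
  set x : M ⊗[A] D.obj j := TensorProduct.comm A _ _ t with hx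
  have hx0 : (c.ι.app j).hom.toLinearMap.lTensor M x = 0 := by
    have : (c.ι.app j).hom.toLinearMap.lTensor M x =
        TensorProduct.comm A c.pt M ((c.ι.app j).hom.toLinearMap.rTensor M t) :=
      lTensor_comm' M (c.ι.app j).hom.toLinearMap t
    rw [this, ht, map_zero]
  obtain ⟨P, P', _, _, _, _, _, _, _, _, α, g, h, y, h1, h2, h3⟩ :=
    exists_approx (c.ι.app j).hom.toLinearMap M x hx0
  let bP := Module.Free.chooseBasis A P
  let bP' := Module.Free.chooseBasis A P'
  obtain ⟨j', w, hw⟩ := alg_surj_fintype D c hc (fun i => h (bP' i))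
  let h' : P' →ₗ[A] D.obj j' := bP'.constr A w
  have hh' : (c.ι.app j').hom.toLinearMap ∘ₗ h' = h := by
    apply bP'.ext
    intro i
    rw [LinearMap.comp_apply, Module.Basis.constr_basis]
    exact hw i
  let k₀ := IsFiltered.max j j'
  let fj : j ⟶ k₀ := IsFiltered.leftToMax j j'
  let fj' : j' ⟶ k₀ := IsFiltered.rightToMax j j'
  let g₁ : P →ₗ[A] D.obj k₀ := (D.map fj).hom.toLinearMap ∘ₗ g
  let g₂ : P →ₗ[A] D.obj k₀ := (D.map fj').hom.toLinearMap ∘ₗ h' ∘ₗ α
  have hg12 : ∀ i, (c.ι.app k₀).hom (g₁ (bP i)) = (c.ι.app k₀).hom (g₂ (bP i)) := by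
    intro i
    change (c.ι.app k₀).hom ((D.map fj).hom (g (bP i))) =
      (c.ι.app k₀).hom ((D.map fj').hom (h' (α (bP i))))
    rw [ι_map_apply, ι_map_apply]
    have e1 := LinearMap.congr_fun h1 (bP i)
    have e2 := LinearMap.congr_fun hh' (α (bP i))
    exact e1.trans e2.symm
  obtain ⟨k, f, hf⟩ := alg_inj_fintype D c hc (fun i => g₁ (bP i)) (fun i => g₂ (bP i)) hg12
  have hfg : (D.map f).hom.toLinearMap ∘ₗ g₁ = (D.map f).hom.toLinearMap ∘ₗ g₂ := by
    apply bP.ext
    intro i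
    exact hf i
  refine ⟨k, fj ≫ f, ?_⟩
  have e3 : (D.map (fj ≫ f)).hom.toLinearMap = (D.map f).hom.toLinearMap ∘ₗ (D.map fj).hom.toLinearMap := by
    rw [D.map_comp]
    rfl
  apply (TensorProduct.comm A (D.obj k) M).injective
  rw [map_zero, ← lTensor_comm', ← hx, ← h3, ← LinearMap.comp_apply, ← LinearMap.lTensor_comp, e3,
    LinearMap.comp_assoc]
  change ((D.map f).hom.toLinearMap ∘ₗ g₁).lTensor M y = 0
  rw [hfg]
  change ((D.map f).hom.toLinearMap ∘ₗ (D.map fj').hom.toLinearMap ∘ₗ h' ∘ₗ α).lTensor M y = 0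
  rw [← LinearMap.comp_assoc, ← LinearMap.comp_assoc, LinearMap.lTensor_comp, LinearMap.comp_apply, h2,
    map_zero]


section adequate

variable {F : MVF A} {M N : ModuleCat.{u + 1} A} (φ : M ⟶ N) (i : F ⟶ (underline A).obj M)
  (hinj : ∀ B : Alg A, Function.Injective (i.app (pt B)))
  (hex : ∀ B : Alg A, Function.Exact (i.app (pt B)) (((underline A).map φ).app (pt B)))

include hinj in
theorem adequate_inj {j : J} (y : F.obj (pt (D.obj j))) (hy : mapEl F (c.ι.app j) y = 0) :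
    ∃ (k : J) (f : j ⟶ k), mapEl F (D.map f) y = 0 := by
  have h1 : (c.ι.app j).hom.toLinearMap.rTensor M (i.app (pt (D.obj j)) y) = 0 := by
    have := app_mapEl i (c.ι.app j) y
    rw [hy, map_zero] at this
    exact this.symm
  obtain ⟨k, f, hf⟩ := tensor_inj D c hc M (i.app (pt (D.obj j)) y) h1
  refine ⟨k, f, hinj _ ?_⟩
  rw [app_mapEl, map_zero]
  exact hf

omit [IsFiltered J] hc in
include hex in
theorem aux_surj {B C : Alg A} (q : B ⟶ C) (t : B ⊗[A] M) (x : F.obj (pt C))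
    (ht : q.hom.toLinearMap.rTensor M t = i.app (pt C) x) :
    q.hom.toLinearMap.rTensor N (((underline A).map φ).app (pt B) t) = 0 := by
  have h0 : ((underline A).map φ).app (pt C) (i.app (pt C) x) = 0 := (hex _ _).2 ⟨x, rfl⟩
  have e := app_mapEl ((underline A).map φ) q t
  have e' : mapEl ((underline A).obj M) q t = i.app (pt C) x := ht
  rw [e', h0] at e
  exact e.symm

include hinj hex in
theorem adequate_surj (x : F.obj (pt c.pt)) :
    ∃ (j : J) (y : F.obj (pt (D.obj j))), mapEl F (c.ι.app j) y = x := by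
  obtain ⟨j, t, ht⟩ := tensor_surj D c hc M (i.app (pt c.pt) x)
  have h1 : (c.ι.app j).hom.toLinearMap.rTensor N (((underline A).map φ).app (pt (D.obj j)) t) = 0 :=
    aux_surj φ i hex (c.ι.app j) t x ht
  obtain ⟨k, f, hf⟩ := tensor_inj D c hc N _ h1
  have h2 : ((underline A).map φ).app (pt (D.obj k)) (mapEl ((underline A).obj M) (D.map f) t) = 0 := by
    rw [app_mapEl]
    exact hf
  obtain ⟨y, hy⟩ := (hex _ _).1 h2
  refine ⟨k, y, hinj _ ?_⟩
  rw [app_mapEl, hy, ← mapEl_comp, c.w f]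
  exact ht

end adequate

end FiltCol

variable {A : Type u} [CommRing A]

theorem isColimit_toAb_mapCocone_of_adequate (F : MVF A) (hF : adequate A F) {J : Type u}
    [SmallCategory J] [IsFiltered J] (D : J ⥤ Alg A) (c : Cocone D) (hc : IsColimit c) :
    Nonempty (IsColimit (F.toAb.mapCocone c)) := by
  obtain ⟨M, N, φ, i, hinj, hex⟩ := (adequate_iff F).mp hF
  haveI : PreservesFilteredColimitsOfSize.{u, u} (forget AddCommGrpCat.{u + 1}) :=
    preservesFilteredColimitsOfSize_shrink.{u, u + 1, u, u + 1} _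
  haveI : ReflectsColimit (D ⋙ F.toAb) (forget AddCommGrpCat.{u + 1}) :=
    reflectsColimit_of_reflectsIsomorphisms _ _
  refine ⟨isColimitOfReflects (forget AddCommGrpCat.{u + 1}) ?_⟩
  refine Types.FilteredColimit.isColimitOf' _ _ (fun x => ?_) (fun j y y' h => ?_)
  · obtain ⟨j, y, hy⟩ := FiltCol.adequate_surj D c hc φ i hinj hex x
    exact ⟨j, y, hy.symm⟩
  · have h' : mapEl F (c.ι.app j) y = mapEl F (c.ι.app j) y' := h
    have h1 : mapEl F (c.ι.app j) (y - y') = 0 := by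
      have := map_sub (F.map (ptHom (c.ι.app j))).hom y y'
      exact this.trans (sub_eq_zero.2 h')
    obtain ⟨k, f, hf⟩ := FiltCol.adequate_inj D c hc i hinj (y - y') h1
    refine ⟨k, f, ?_⟩
    have h2 := map_sub (F.map (ptHom (D.map f))).hom y y'
    have h3 : mapEl F (D.map f) y - mapEl F (D.map f) y' = 0 := h2.symm.trans hf
    exact sub_eq_zero.1 h3

end Groth.Agent.Helper13Adeq
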