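import Groth.Agent.Lib.Helper13AdeqA

/-!
# Restriction of adequate functors along a ring map (helper13)

`adequate_of_iso_exact` (criterion), `restrU` (restr of underline M is underline of the base change),
`adequate_restr` (= S8749).
-/

set_option autoImplicit false
universe u
open CategoryTheory Limits Opposite TensorProduct

namespace Groth.Agent.Helper13Adeq
open Adeq

section
variable {A : Type u} [CommRing A]

theorem adequate_of_iso_exact {F G H : MVF A} (i : F ⟶ G) (g : G ⟶ H) (M N : ModuleCat.{u+1} A)
    (φ : M ⟶ N)
    (eG : G ⟶ (underline A).obj M) (eH : H ⟶ (underline A).obj N)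
    (hG : ∀ B : Alg A, Function.Bijective (eG.app (pt B)))
    (hH : ∀ B : Alg A, Function.Injective (eH.app (pt B)))
    (w : g ≫ eH = eG ≫ (underline A).map φ)
    (hi : ∀ B : Alg A, Function.Injective (i.app (pt B)))
    (hex : ∀ B : Alg A, Function.Exact (i.app (pt B)) (g.app (pt B))) : adequate A F := by
  rw [adequate_iff]
  refine ⟨M, N, φ, i ≫ eG, fun B => ?_, fun B => ?_⟩
  · exact (hG B).1.comp (hi B)
  · intro y
    have hw : ∀ z : G.obj (pt B), eH.app (pt B) (g.app (pt B) z) =
        ((underline A).map φ).app (pt B) (eG.app (pt B) z) := fun z =>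
      congrArg (fun ψ => ψ.app (pt B) z) w
    constructor
    · intro hy
      obtain ⟨z, rfl⟩ := (hG B).2 y
      rw [← hw] at hy
      have h0 : g.app (pt B) z = 0 := (hH B) (by rw [hy, map_zero])
      obtain ⟨x, rfl⟩ := (hex B z).1 h0
      exact ⟨x, rfl⟩
    · rintro ⟨x, rfl⟩
      change ((underline A).map φ).app (pt B) (eG.app (pt B) (i.app (pt B) x)) = 0
      rw [← hw, (hex B _).2 ⟨x, rfl⟩, map_zero]

end

section
variable (A A' : Type u) [CommRing A] [CommRing A'] [Algebra A A']

/-- component -/
def restrUEquiv (B' : Alg A') (M : ModuleCat.{u+1} A) :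
    ((Alg.restr A A').obj B' : Type u) ⊗[A] M ≃+ (B' ⊗[A'] (A' ⊗[A] M)) :=
  letI : Algebra A B' := ((algebraMap A' B').comp (algebraMap A A')).toAlgebra
  haveI : IsScalarTower A A' B' := IsScalarTower.of_algebraMap_eq (fun _ => rfl)
  (TensorProduct.AlgebraTensorModule.cancelBaseChange A A' B' B' M).symm.toAddEquiv

end

noncomputable section
variable (A A' : Type u) [CommRing A] [CommRing A'] [Algebra A A']

theorem restr_obj_map_apply (F : MVF A) {B' C' : Alg A'} (f : B' ⟶ C')
    (x : F.obj (pt ((Alg.restr A A').obj B'))) :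
    (((restr A A').obj F).map (ptHom f)).hom x = F.map (ptHom ((Alg.restr A A').map f)) x := rfl

theorem restr_map_app_apply {F G : MVF A} (α : F ⟶ G) (B' : Alg A')
    (x : F.obj (pt ((Alg.restr A A').obj B'))) :
    (((restr A A').map α).app (pt B')).hom x = α.app (pt ((Alg.restr A A').obj B')) x := rfl

theorem restrUEquiv_tmul (B' : Alg A') (M : ModuleCat.{u+1} A) (b : B') (m : M) :
    restrUEquiv A A' B' M (b ⊗ₜ m) = b ⊗ₜ ((1 : A') ⊗ₜ m) := rfl

theorem restrUEquiv_smul (B' : Alg A') (M : ModuleCat.{u+1} A) (b : B')
    (x : ((Alg.restr A A').obj B' : Type u) ⊗[A] M) :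
    restrUEquiv A A' B' M ((show ((Alg.restr A A').obj B' : Type u) from b) • x) =
      b • restrUEquiv A A' B' M x := by
  let _ : Algebra A B' := ((algebraMap A' B').comp (algebraMap A A')).toAlgebra
  have : IsScalarTower A A' B' := IsScalarTower.of_algebraMap_eq (fun _ => rfl)
  exact (TensorProduct.AlgebraTensorModule.cancelBaseChange A A' B' B' M).symm.map_smul b x

def restrU (M : ModuleCat.{u+1} A) :
    (restr A A').obj ((underline A).obj M) ⟶ (underline A').obj (ModuleCat.of A' (A' ⊗[A] M)) :=
  PresheafOfModules.homMk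
    { app X := AddCommGrpCat.ofHom (restrUEquiv A A' X.unop.unop M).toAddMonoidHom
      naturality := by
        intro X Y f
        ext x
        change restrUEquiv A A' Y.unop.unop M
          ((((Alg.restr A A').map f.unop.unop).hom.toLinearMap.rTensor M) x) =
          (f.unop.unop.hom.toLinearMap.rTensor _) (restrUEquiv A A' X.unop.unop M x)
        induction x using TensorProduct.induction_on with
        | zero => simp only [map_zero]
        | tmul b m =>
          rw [LinearMap.rTensor_tmul, restrUEquiv_tmul, restrUEquiv_tmul, LinearMap.rTensor_tmul]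
          rfl
        | add x y hx hy => simp only [map_add, hx, hy] }
    (by
      intro X r m
      exact restrUEquiv_smul A A' X.unop.unop M r m)

theorem restrU_app_apply (M : ModuleCat.{u+1} A) (B' : Alg A')
    (x : ((Alg.restr A A').obj B' : Type u) ⊗[A] M) :
    ((restrU A A' M).app (pt B')).hom x = restrUEquiv A A' B' M x := rfl

theorem restrU_bijective (M : ModuleCat.{u+1} A) (B' : Alg A') :
    Function.Bijective ((restrU A A' M).app (pt B')) :=
  (restrUEquiv A A' B' M).bijective

theorem restrU_naturality {M N : ModuleCat.{u+1} A} (φ : M ⟶ N) :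
    (restr A A').map ((underline A).map φ) ≫ restrU A A' N =
      restrU A A' M ≫ (underline A').map (ModuleCat.ofHom (φ.hom.baseChange A')) := by
  ext X x
  change restrUEquiv A A' X.unop.unop N ((φ.hom.baseChange _) x) =
    ((φ.hom.baseChange A').baseChange X.unop.unop) (restrUEquiv A A' X.unop.unop M x)
  induction x using TensorProduct.induction_on with
  | zero => simp only [map_zero]
  | tmul b m =>
    rw [LinearMap.baseChange_tmul, restrUEquiv_tmul, restrUEquiv_tmul, LinearMap.baseChange_tmul,
      LinearMap.baseChange_tmul]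
  | add x y hx hy => simp only [map_add, hx, hy]

theorem adequate_restr (F : MVF A) (hF : adequate A F) : adequate A' ((restr A A').obj F) := by
  obtain ⟨M, N, φ, i, hi, hex⟩ := (adequate_iff F).1 hF
  refine adequate_of_iso_exact ((restr A A').map i) ((restr A A').map ((underline A).map φ))
    _ _ (ModuleCat.ofHom (φ.hom.baseChange A')) (restrU A A' M) (restrU A A' N)
    (restrU_bijective A A' M) (fun B => (restrU_bijective A A' N B).1)
    (restrU_naturality A A' φ) (fun B' => ?_) (fun B' => ?_)
  · exact hi ((Alg.restr A A').obj B')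
  · exact hex ((Alg.restr A A').obj B')

end

end Groth.Agent.Helper13Adeq
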