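import Groth.Agent.Lib.Helper13AdeqY

/-!
# Adequate modules on the big sites: pullback (helper13)

`pullToMVF` (the functor of `f^* M` at `b` is the functor of `M` at `b ≫ f`),
`adequateMod_pullMod`, `adequateMod_of_cover_pullMod`; namespace `Fppf` for the fppf precoverage.
-/

set_option autoImplicit false
universe u
open CategoryTheory Limits Opposite TensorProduct AlgebraicGeometry

namespace Groth.Agent.Helper13Adeq
open Adeq

noncomputable section

variable (K : Precoverage Scheme.{u}) [BigSite.OSh K] {S T : Scheme.{u}} (f : T ⟶ S)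
variable {R : CommRingCat.{u}} (b : Spec R ⟶ T)

theorem pullOverIso_w (B : Alg R) :
    𝟙 (Spec (CommRingCat.of B)) ≫ (Spec.map (CommRingCat.ofHom (algebraMap R B)) ≫ b ≫ f) =
      (Spec.map (CommRingCat.ofHom (algebraMap R B)) ≫ b) ≫ f := by
  rw [Category.id_comp, Category.assoc]

/-- the two objects of the big site of `S` attached to an `R`-algebra agree -/
def pullOverIso (B : Alg R) :
    (Over.map f).obj ((specOver b).obj (op B)) ≅ (specOver (b ≫ f)).obj (op B) :=
  Over.isoMk (Iso.refl (Spec (CommRingCat.of B))) (pullOverIso_w f b B)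

theorem pullOverIso_hom_left (B : Alg R) :
    (pullOverIso f b B).hom.left = 𝟙 (Spec (CommRingCat.of B)) := rfl

theorem pullOverIso_naturality {B C : Alg R} (φ : B ⟶ C) :
    (Over.map f).map ((specOver b).map φ.op) ≫ (pullOverIso f b B).hom =
      (pullOverIso f b C).hom ≫ (specOver (b ≫ f)).map φ.op := by
  apply Over.OverMorphism.ext
  rw [Over.comp_left, Over.comp_left, pullOverIso_hom_left, pullOverIso_hom_left,
    specOver_map_left']
  exact (Category.comp_id (sp φ)).trans (Category.id_comp (sp φ)).symm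

end


noncomputable section

variable (K : Precoverage Scheme.{u}) [BigSite.OSh K] {S T : Scheme.{u}} (f : T ⟶ S)
variable {R : CommRingCat.{u}} (b : Spec R ⟶ T) (M : BigSite.Mod K S)

theorem pullToMVF_key {B C : Alg R} (φ : B ⟶ C) :
    M.val.presheaf.map ((specOver (b ≫ f)).map φ.op).op ≫
        M.val.presheaf.map (pullOverIso f b C).hom.op =
      M.val.presheaf.map (pullOverIso f b B).hom.op ≫
        M.val.presheaf.map ((Over.map f).map ((specOver b).map φ.op)).op := by
  have h := pullOverIso_naturality f b φ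
  calc M.val.presheaf.map ((specOver (b ≫ f)).map φ.op).op ≫
        M.val.presheaf.map (pullOverIso f b C).hom.op
      = M.val.presheaf.map ((pullOverIso f b C).hom ≫ (specOver (b ≫ f)).map φ.op).op :=
        (M.val.presheaf.map_comp _ _).symm
    _ = M.val.presheaf.map ((Over.map f).map ((specOver b).map φ.op) ≫
          (pullOverIso f b B).hom).op := by rw [h]
    _ = _ := M.val.presheaf.map_comp _ _

/-- comparison `F_{M, b ≫ f} ⟶ F_{f^* M, b}` on underlying presheaves -/
def pullToMVFPre :
    ((toMVF K (b ≫ f)).obj M).presheaf ⟶ ((toMVF K b).obj ((BigSite.pullMod K f).obj M)).presheaf where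
  app X := M.val.presheaf.map (pullOverIso f b X.unop.unop).hom.op
  naturality := by
    intro X Y φ
    exact pullToMVF_key K f b M φ.unop.unop


theorem toSect_pull (B : Alg R) (r : B) :
    ((BigSite.ORing K S).obj.map (pullOverIso f b B).hom.op).hom (toSect K (b ≫ f) B r) =
      toSect K b B r := by
  apply ULift.ext
  change ((𝟙 (Spec (CommRingCat.of B)) : Spec (CommRingCat.of B) ⟶ _).appTop).hom
    ((Scheme.ΓSpecIso (CommRingCat.of B)).inv.hom r) = (Scheme.ΓSpecIso (CommRingCat.of B)).inv.hom r
  simp

/-- comparison `F_{M, b ≫ f} ⟶ F_{f^* M, b}` -/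
def pullToMVF :
    (toMVF K (b ≫ f)).obj M ⟶ (toMVF K b).obj ((BigSite.pullMod K f).obj M) :=
  PresheafOfModules.homMk (pullToMVFPre K f b M) (by
    intro X r m
    have h := PresheafOfModules.map_smul M.val (pullOverIso f b X.unop.unop).hom.op
      (toSect K (b ≫ f) X.unop.unop r) m
    rw [toSect_pull] at h
    exact h)


theorem pullToMVF_bijective (X : (Alg R)ᵒᵖᵒᵖ) :
    Function.Bijective ((pullToMVF K f b M).app X) := by
  have : IsIso (M.val.presheaf.map (pullOverIso f b X.unop.unop).hom.op) := inferInstance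
  exact ConcreteCategory.bijective_of_isIso
    (M.val.presheaf.map (pullOverIso f b X.unop.unop).hom.op)

instance : IsIso (pullToMVF K f b M) :=
  PshMod.isIso_of_bijective _ (pullToMVF_bijective K f b M)

theorem adequate_toMVF_pullMod_iff :
    adequate R ((toMVF K b).obj ((BigSite.pullMod K f).obj M)) ↔
      adequate R ((toMVF K (b ≫ f)).obj M) :=
  ⟨fun h => (adequate R).prop_of_iso (asIso (pullToMVF K f b M)).symm h,
    fun h => (adequate R).prop_of_iso (asIso (pullToMVF K f b M)) h⟩

end

section prop
variable (P : MorphismProperty Scheme.{u}) [P.IsStableUnderBaseChange]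
  [Scheme.IsJointlySurjectivePreserving P] [P.IsStableUnderComposition]
  [BigSite.OSh (Scheme.precoverage P)]
  (hPopen : ∀ {X Y : Scheme.{u}} (f : X ⟶ Y), P f → IsOpenMap f)
  (hPimm : ∀ {X Y : Scheme.{u}} (f : X ⟶ Y) [IsOpenImmersion f], P f)

include hPopen hPimm in
theorem adequateMod_pullMod {S T : Scheme.{u}} (f : T ⟶ S)
    (M : BigSite.Mod (Scheme.precoverage P) S) (hM : adequateMod (Scheme.precoverage P) S M) :
    adequateMod (Scheme.precoverage P) T ((BigSite.pullMod (Scheme.precoverage P) f).obj M) :=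
  adequateMod_of_forall_affine P hPimm _ (fun R b =>
    (adequate_toMVF_pullMod_iff (Scheme.precoverage P) f b M).2
      (adequate_toMVF_of_adequateMod P hPopen hPimm M hM R (b ≫ f)))

omit [P.IsStableUnderBaseChange] [Scheme.IsJointlySurjectivePreserving P] in
theorem adequateMod_of_cover_pullMod {S : Scheme.{u}} (M : BigSite.Mod (Scheme.precoverage P) S)
    (ι : Type u) (T : ι → Scheme.{u}) (f : ∀ i, T i ⟶ S)
    (hcov : Presieve.ofArrows T f ∈ (Scheme.precoverage P).coverings S)
    (h : ∀ i, adequateMod (Scheme.precoverage P) (T i)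
      ((BigSite.pullMod (Scheme.precoverage P) (f i)).obj M)) :
    adequateMod (Scheme.precoverage P) S M := by
  choose σ R b hb hadq using h
  refine ⟨Σ i, σ i, fun p => R p.1 p.2, fun p => b p.1 p.2 ≫ f p.1, ?_, fun p => ?_⟩
  · exact Precoverage.comp_mem_coverings f hcov (fun i j => b i j) hb
  · exact (adequate_toMVF_pullMod_iff (Scheme.precoverage P) (f p.1) (b p.1 p.2) M).1
      (hadq p.1 p.2)

end prop

namespace Fppf

theorem adequateMod_of_cover_pullMod {S : Scheme.{u}} (M : BigSite.Mod Scheme.fppfPrecoverage S)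
    (ι : Type u) (T : ι → Scheme.{u}) (f : ∀ i, T i ⟶ S)
    (hcov : Presieve.ofArrows T f ∈ Scheme.fppfPrecoverage.coverings S)
    (h : ∀ i, adequateMod Scheme.fppfPrecoverage (T i)
      ((BigSite.pullMod Scheme.fppfPrecoverage (f i)).obj M)) :
    adequateMod Scheme.fppfPrecoverage S M :=
  Helper13Adeq.adequateMod_of_cover_pullMod PP M ι T f hcov h

theorem adequateMod_pullMod {S T : Scheme.{u}} (f : T ⟶ S)
    (M : BigSite.Mod Scheme.fppfPrecoverage S) (hM : adequateMod Scheme.fppfPrecoverage S M) :
    adequateMod Scheme.fppfPrecoverage T ((BigSite.pullMod Scheme.fppfPrecoverage f).obj M) :=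
  Helper13Adeq.adequateMod_pullMod PP isOpenMap_of_PP (fun f _ => PP_of_isOpenImmersion f) f M hM

end Fppf

end Groth.Agent.Helper13Adeq
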