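import Groth.Agent.Lib.Helper13AdeqMF
import Groth.Agent.Lib.Helper13AdeqZ

/-!
# Sheafification of a presheaf of modules with adequate `F_{P,R}` is adequate (helper13)

`faithfullyFlat_pi`, `exists_ff_family`, `exists_ff_refinement` (a covering sieve of an affine
object of the big site contains a finite faithfully flat family of affines), `shMod`, `shτ`,
`toShMVF`, `shτ_injective`, `shτ_surjective`, `isIso_toShMVF`, `adequateMod_sheafification`,
`Fppf.adequateMod_sheafification`.
-/

set_option autoImplicit false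
universe u
open CategoryTheory Limits Opposite TensorProduct AlgebraicGeometry

namespace Groth.Agent.Helper13Adeq
open Adeq


section
variable {R : Type u} [CommRing R] {n : ℕ} (C : Fin n → Type u) [∀ k, CommRing (C k)]
  [∀ k, Algebra R (C k)]

theorem faithfullyFlat_pi (hflat : ∀ k, Module.Flat R (C k))
    (hsurj : ∀ p : PrimeSpectrum R, ∃ k, p ∈ Set.range (PrimeSpectrum.comap (algebraMap R (C k)))) :
    Module.FaithfullyFlat R (∀ k, C k) := by
  have : Module.Flat R (∀ k, C k) :=
    Module.Flat.of_linearEquiv (DFinsupp.linearEquivFunOnFintype (R := R) (M := C)).symm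
  apply Module.FaithfullyFlat.of_comap_surjective
  intro p
  obtain ⟨k, q, rfl⟩ := hsurj p
  refine ⟨PrimeSpectrum.comap (Pi.evalRingHom C k) q, ?_⟩
  rfl

end


section
variable (P : MorphismProperty Scheme.{u}) [P.IsStableUnderBaseChange]
  [Scheme.IsJointlySurjectivePreserving P] [P.IsStableUnderComposition]
  [P.ContainsIdentities] [P.RespectsIso]
  (hPopen : ∀ {X Y : Scheme.{u}} (f : X ⟶ Y), P f → IsOpenMap f)
  (hPimm : ∀ {X Y : Scheme.{u}} (f : X ⟶ Y) [IsOpenImmersion f], P f)
  (hPflat : ∀ {X Y : Scheme.{u}} (f : X ⟶ Y), P f → Flat f)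

include hPopen hPimm hPflat in
omit [P.IsStableUnderBaseChange] [Scheme.IsJointlySurjectivePreserving P] [P.ContainsIdentities]
  [P.RespectsIso] in
theorem exists_ff_family {R : CommRingCat.{u}} (R' : Presieve (Spec R))
    (hR' : R' ∈ Scheme.precoverage P (Spec R)) :
    ∃ (n : ℕ) (C : Fin n → Type u) (_ : ∀ k, CommRing (C k)) (_ : ∀ k, Algebra R (C k)),
      Module.FaithfullyFlat R (∀ k, C k) ∧
        (∀ k, (Sieve.generate R') (Spec.map (CommRingCat.ofHom (algebraMap R (C k))))) ∧
        ∀ T'' : Sieve (Spec R), (∀ k, T'' (Spec.map (CommRingCat.ofHom (algebraMap R (C k))))) →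
          T'' ∈ (Scheme.precoverage P).toGrothendieck (Spec R) := by
  let 𝒰 : (Spec R).Cover (Scheme.precoverage P) :=
    { toPreZeroHypercover := R'.preZeroHypercover
      mem₀ := by rw [Presieve.presieve₀_preZeroHypercover]; exact hR' }
  have hqc : QuasiCompactCover 𝒰.toPreZeroHypercover :=
    QuasiCompactCover.of_isOpenMap (fun i => hPopen _ (𝒰.map_prop i))
  obtain ⟨n, idx, V, hV, hU⟩ := QuasiCompactCover.exists_isAffineOpen_of_isCompact
    𝒰.toPreZeroHypercover (U := ⊤) isCompact_univ
  let T' : Fin n → CommRingCat.{u} := fun j => Γ(𝒰.X (idx j), V j)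
  let φ : ∀ j, Spec (T' j) ⟶ Spec R := fun j => (hV j).fromSpec ≫ 𝒰.f (idx j)
  let ψ : ∀ j, R ⟶ T' j := fun j => Spec.preimage (φ j)
  have hψ : ∀ j, Spec.map (ψ j) = φ j := fun j => Spec.map_preimage _
  let algI : ∀ k, Algebra R (T' k) := fun k => (ψ k).hom.toAlgebra
  have hmap : ∀ k, Spec.map (CommRingCat.ofHom (algebraMap R (T' k))) = φ k := fun k => hψ k
  have hPφ : ∀ j, P (φ j) := fun j => P.comp_mem _ _ (hPimm _) (𝒰.map_prop (idx j))
  have hsurj : ∀ x : Spec R, ∃ k, x ∈ Set.range (φ k) := by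
    intro p
    have hx : p ∈ ((⊤ : (Spec R).Opens) : Set (Spec R)) := trivial
    rw [← hU, Set.mem_iUnion] at hx
    obtain ⟨j, y, hy, rfl⟩ := hx
    rw [← (hV j).range_fromSpec] at hy
    obtain ⟨z, rfl⟩ := hy
    exact ⟨j, z, rfl⟩
  refine ⟨n, fun k => T' k, inferInstance, algI, ?_, fun k => ?_, fun T'' hT'' => ?_⟩
  · apply faithfullyFlat_pi
    · intro k
      have h1 : Flat (Spec.map (ψ k)) := by rw [hψ]; exact hPflat _ (hPφ k)
      exact Flat.SpecMap_iff.1 h1
    · change ∀ p : ↥(Spec R), _
      intro p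
      obtain ⟨j, z, hz⟩ := hsurj p
      refine ⟨j, z, ?_⟩
      have := congrArg (fun f => f.base z) (hψ j)
      exact this.trans hz
  · rw [hmap k]
    apply Sieve.downward_closed
    apply Sieve.le_generate
    exact (idx k).2
  · have hmem : Presieve.ofArrows (fun k => Spec (T' k)) φ ∈ Scheme.precoverage P (Spec R) := by
      rw [Scheme.ofArrows_mem_precoverage_iff]
      exact ⟨hsurj, hPφ⟩
    refine (Scheme.precoverage P).toGrothendieck.superset_covering ?_
      (Precoverage.generate_mem_toGrothendieck hmem)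
    rw [Sieve.generate_le_iff]
    rintro _ _ ⟨k⟩
    rw [← hmap k]
    exact hT'' k

omit [P.IsStableUnderBaseChange] [Scheme.IsJointlySurjectivePreserving P]
  [P.IsStableUnderComposition] [P.ContainsIdentities] [P.RespectsIso] in
theorem sieve_specOver_iff {S : Scheme.{u}} {R : CommRingCat.{u}} (a : Spec R ⟶ S)
    {B C : Alg R} (f : B ⟶ C) (T : Sieve ((specOver a).obj (op B))) :
    T ((specOver a).map f.op) ↔
      (Sieve.overEquiv _ T) (Spec.map (CommRingCat.ofHom f.hom.toRingHom)) := by
  have h2 : (Sieve.overEquiv _).symm (Sieve.overEquiv _ T) ((specOver a).map f.op) ↔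
      (Sieve.overEquiv _ T) (Spec.map (CommRingCat.ofHom f.hom.toRingHom)) := by
    rw [Sieve.overEquiv_symm_iff]
    rfl
  rwa [OrderIso.symm_apply_apply] at h2

include hPopen hPimm hPflat in
theorem exists_ff_refinement {S : Scheme.{u}} {R : CommRingCat.{u}} (a : Spec R ⟶ S)
    (T : Sieve ((specOver a).obj (op (algOf R R))))
    (hT : T ∈ QuotSh.J (Scheme.precoverage P) S ((specOver a).obj (op (algOf R R)))) :
    ∃ (n : ℕ) (C : Fin n → Type u) (_ : ∀ k, CommRing (C k)) (_ : ∀ k, Algebra R (C k)),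
      Module.FaithfullyFlat R (∀ k, C k) ∧ (∀ k, T ((specOver a).map (ffι (C k)).op)) ∧
        ∀ T'' : Sieve ((specOver a).obj (op (algOf R R))),
          (∀ k, T'' ((specOver a).map (ffι (C k)).op)) →
            T'' ∈ QuotSh.J (Scheme.precoverage P) S ((specOver a).obj (op (algOf R R))) := by
  rw [GrothendieckTopology.mem_over_iff,
    Precoverage.mem_toGrothendieck_iff_of_isStableUnderComposition] at hT
  obtain ⟨R', hR', hle⟩ := hT
  obtain ⟨n, C, i1, i2, hff, hC, hcov⟩ := exists_ff_family P hPopen hPimm hPflat (R := R) R' hR'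
  refine ⟨n, C, i1, i2, hff, fun k => ?_, fun T'' hT'' => ?_⟩
  · rw [sieve_specOver_iff]
    exact (Sieve.generate_le_iff _ _).2 hle _ (hC k)
  · rw [GrothendieckTopology.mem_over_iff]
    refine hcov _ (fun k => ?_)
    exact (sieve_specOver_iff a (ffι (C k)) T'').1 (hT'' k)

end



noncomputable section

section
variable (K : Precoverage Scheme.{u}) [BigSite.OSh K] {S : Scheme.{u}}
  (P₀ : PresheafOfModules.{u + 1} (BigSite.ORing K S).obj)

/-- the sheafification of a presheaf of modules on the big site -/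
abbrev shMod : BigSite.Mod K S :=
  (PresheafOfModules.sheafification (𝟙 (BigSite.ORing K S).obj)).obj P₀

/-- the sheafification map on underlying presheaves of abelian groups -/
abbrev shτ : P₀.presheaf ⟶ (shMod K P₀).val.presheaf :=
  CategoryTheory.toSheafify (QuotSh.J K S) P₀.presheaf

/-- the sheafification map as a map of presheaves of modules -/
abbrev shη : P₀ ⟶ (PresheafOfModules.restrictScalars (𝟙 (BigSite.ORing K S).obj)).obj
    (shMod K P₀).val :=
  PresheafOfModules.toSheafify (𝟙 (BigSite.ORing K S).obj) (shτ K P₀)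

instance : Presheaf.IsLocallyInjective (QuotSh.J K S) (shτ K P₀) :=
  inferInstanceAs (Presheaf.IsLocallyInjective _
    (CategoryTheory.toSheafify (QuotSh.J K S) P₀.presheaf))

instance : Presheaf.IsLocallySurjective (QuotSh.J K S) (shτ K P₀) :=
  inferInstanceAs (Presheaf.IsLocallySurjective _
    (CategoryTheory.toSheafify (QuotSh.J K S) P₀.presheaf))

theorem shτ_naturality_apply {X Y : Over S} (f : X ⟶ Y) (y : P₀.presheaf.obj (op Y)) :
    (shτ K P₀).app (op X) (P₀.presheaf.map f.op y) =
      (shMod K P₀).val.presheaf.map f.op ((shτ K P₀).app (op Y) y) :=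
  NatTrans.naturality_apply (shτ K P₀) f.op y

theorem shτ_injective_of_iso {X Y : Over S} (e : X ≅ Y)
    (hY : Function.Injective ((shτ K P₀).app (op Y))) :
    Function.Injective ((shτ K P₀).app (op X)) := by
  intro x x' hxx
  have h1 : P₀.presheaf.map e.inv.op x = P₀.presheaf.map e.inv.op x' := by
    apply hY
    rw [shτ_naturality_apply, shτ_naturality_apply, hxx]
  have h2 : ∀ z : P₀.presheaf.obj (op X),
      P₀.presheaf.map e.hom.op (P₀.presheaf.map e.inv.op z) = z := by
    intro z
    rw [← ConcreteCategory.comp_apply, ← Functor.map_comp, ← op_comp, e.hom_inv_id, op_id,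
      CategoryTheory.Functor.map_id]
    rfl
  rw [← h2 x, ← h2 x', h1]

theorem shτ_surjective_of_iso {X Y : Over S} (e : X ≅ Y)
    (hY : Function.Surjective ((shτ K P₀).app (op Y))) :
    Function.Surjective ((shτ K P₀).app (op X)) := by
  intro t
  obtain ⟨y, hy⟩ := hY ((shMod K P₀).val.presheaf.map e.inv.op t)
  refine ⟨P₀.presheaf.map e.hom.op y, ?_⟩
  rw [shτ_naturality_apply, hy, ← ConcreteCategory.comp_apply, ← Functor.map_comp, ← op_comp,
    e.hom_inv_id, op_id, CategoryTheory.Functor.map_id]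
  rfl

variable {R : CommRingCat.{u}} (a : Spec R ⟶ S)

theorem specOverSelf_w (B : Alg R) :
    (Iso.refl (Spec (CommRingCat.of B))).hom ≫
      ((specOver (aComp a B)).obj (op (algOf B B))).hom = ((specOver a).obj (op B)).hom := by
  rw [Iso.refl_hom, Category.id_comp]
  change Spec.map (CommRingCat.ofHom (RingHom.id B)) ≫ aComp a B = _
  rw [CommRingCat.ofHom_id, Spec.map_id, Category.id_comp]
  rfl

/-- `Spec B → Spec R → S` as the object attached to the initial `B`-algebra -/
def specOverSelf (B : Alg R) :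
    (specOver a).obj (op B) ≅ (specOver (aComp a B)).obj (op (algOf B B)) :=
  Over.isoMk (Iso.refl (Spec (CommRingCat.of B))) (specOverSelf_w a B)

/-- `F_{P,R} ⟶ F_{P^#,R}` -/
def toShMVF : (toMVFPre K a).obj P₀ ⟶ (toMVF K a).obj (shMod K P₀) :=
  PresheafOfModules.homMk (Functor.whiskerLeft (specOver a).op (shτ K P₀)) (by
    intro X r m
    exact ((shη K P₀).app (op ((specOver a).obj (op X.unop.unop)))).hom.map_smul
      (toSect K a X.unop.unop r) m)

theorem toShMVF_app_apply (B : Alg R) (x : ((toMVFPre K a).obj P₀).obj (pt B)) :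
    (toShMVF K P₀ a).app (pt B) x = (shτ K P₀).app (op ((specOver a).obj (op B))) x := rfl

end

section
variable (P : MorphismProperty Scheme.{u}) [P.IsStableUnderBaseChange]
  [Scheme.IsJointlySurjectivePreserving P] [P.IsStableUnderComposition]
  [P.ContainsIdentities] [P.RespectsIso] [BigSite.OSh (Scheme.precoverage P)]
  (hPopen : ∀ {X Y : Scheme.{u}} (f : X ⟶ Y), P f → IsOpenMap f)
  (hPimm : ∀ {X Y : Scheme.{u}} (f : X ⟶ Y) [IsOpenImmersion f], P f)
  (hPflat : ∀ {X Y : Scheme.{u}} (f : X ⟶ Y), P f → Flat f)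
  {S : Scheme.{u}} (P₀ : PresheafOfModules.{u + 1} (BigSite.ORing (Scheme.precoverage P) S).obj)

omit [P.IsStableUnderBaseChange] [Scheme.IsJointlySurjectivePreserving P]
  [P.IsStableUnderComposition] [P.ContainsIdentities] [P.RespectsIso] in
theorem mapEl_toMVFPre {R : CommRingCat.{u}} (a : Spec R ⟶ S) {B C : Alg R} (f : B ⟶ C)
    (x : ((toMVFPre (Scheme.precoverage P) a).obj P₀).obj (pt B)) :
    mapEl ((toMVFPre (Scheme.precoverage P) a).obj P₀) f x =
      P₀.presheaf.map ((specOver a).map f.op).op x := rfl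

include hPopen hPimm hPflat in
theorem shτ_injective₀ {R : CommRingCat.{u}} (a : Spec R ⟶ S)
    (h : adequate R ((toMVFPre (Scheme.precoverage P) a).obj P₀)) :
    Function.Injective ((shτ (Scheme.precoverage P) P₀).app
      (op ((specOver a).obj (op (algOf R R))))) := by
  rw [injective_iff_map_eq_zero]
  intro x hx
  have hmem := Presheaf.equalizerSieve_mem (QuotSh.J (Scheme.precoverage P) S)
    (shτ (Scheme.precoverage P) P₀) x 0 (by rw [hx, map_zero])
  obtain ⟨n, C, i1, i2, hff, hC, -⟩ := exists_ff_refinement P hPopen hPimm hPflat a _ hmem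
  refine (adequate_mf_descent C _ h).1 x (fun k => ?_)
  rw [mapEl_toMVFPre]
  exact (hC k).trans (map_zero _)

include hPopen hPimm hPflat in
theorem shτ_injective
    (h : ∀ (R : CommRingCat.{u}) (a : Spec R ⟶ S),
      adequate R ((toMVFPre (Scheme.precoverage P) a).obj P₀))
    {R : CommRingCat.{u}} (a : Spec R ⟶ S) (B : Alg R) :
    Function.Injective ((shτ (Scheme.precoverage P) P₀).app (op ((specOver a).obj (op B)))) :=
  shτ_injective_of_iso _ _ (specOverSelf a B)
    (shτ_injective₀ P hPopen hPimm hPflat P₀ (aComp a B) (h _ _))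

theorem ffι_mfL {R : Type u} [CommRing R] {n : ℕ} (C : Fin n → Type u) [∀ k, CommRing (C k)]
    [∀ k, Algebra R (C k)] (k l : Fin n) :
    ffι (A := R) (C k) ≫ mfL C k l = ffι (A := R) (C l) ≫ mfR C k l := by
  ext

include hPopen hPimm hPflat in
theorem shτ_surjective₀
    (h : ∀ (R : CommRingCat.{u}) (a : Spec R ⟶ S),
      adequate R ((toMVFPre (Scheme.precoverage P) a).obj P₀))
    {R : CommRingCat.{u}} (a : Spec R ⟶ S) :
    Function.Surjective ((shτ (Scheme.precoverage P) P₀).app
      (op ((specOver a).obj (op (algOf R R))))) := by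
  intro t
  have hmem := Presheaf.imageSieve_mem (QuotSh.J (Scheme.precoverage P) S)
    (shτ (Scheme.precoverage P) P₀) (U := op ((specOver a).obj (op (algOf R R)))) t
  obtain ⟨n, C, i1, i2, hff, hC, hcov⟩ := exists_ff_refinement P hPopen hPimm hPflat a _ hmem
  choose s hs using hC
  have hcomp : ∀ {X Y Z : Over S} (g : X ⟶ Y) (g' : Y ⟶ Z)
      (m : (shMod (Scheme.precoverage P) P₀).val.presheaf.obj (op Z)),
      (shMod (Scheme.precoverage P) P₀).val.presheaf.map (g ≫ g').op m =
        (shMod (Scheme.precoverage P) P₀).val.presheaf.map g.op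
          ((shMod (Scheme.precoverage P) P₀).val.presheaf.map g'.op m) := by
    intro X Y Z g g' m
    rw [op_comp, Functor.map_comp]
    rfl
  obtain ⟨x, hx⟩ := (adequate_mf_descent C _ (h R a)).2 s (fun k l => by
    apply shτ_injective P hPopen hPimm hPflat P₀ h a (algOf R (C k ⊗[R] C l))
    rw [mapEl_toMVFPre, mapEl_toMVFPre, shτ_naturality_apply, shτ_naturality_apply, hs k, hs l,
      ← hcomp, ← hcomp, ← Functor.map_comp, ← Functor.map_comp, ← op_comp, ← op_comp, ffι_mfL])
  refine ⟨x, ?_⟩
  refine ((shMod (Scheme.precoverage P) P₀).isSheaf.isSeparated) _ _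
    (hcov (Presheaf.equalizerSieve (F := (shMod (Scheme.precoverage P) P₀).val.presheaf)
      ((shτ (Scheme.precoverage P) P₀).app _ x) t) (fun k => ?_)) _ _ (fun Y f hf => hf)
  change (shMod (Scheme.precoverage P) P₀).val.presheaf.map _ _ =
    (shMod (Scheme.precoverage P) P₀).val.presheaf.map _ _
  rw [← shτ_naturality_apply, ← hs k, ← hx k, mapEl_toMVFPre]

include hPopen hPimm hPflat in
theorem shτ_surjective
    (h : ∀ (R : CommRingCat.{u}) (a : Spec R ⟶ S),
      adequate R ((toMVFPre (Scheme.precoverage P) a).obj P₀))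
    {R : CommRingCat.{u}} (a : Spec R ⟶ S) (B : Alg R) :
    Function.Surjective ((shτ (Scheme.precoverage P) P₀).app (op ((specOver a).obj (op B)))) :=
  shτ_surjective_of_iso _ _ (specOverSelf a B)
    (shτ_surjective₀ P hPopen hPimm hPflat P₀ h (aComp a B))

include hPopen hPimm hPflat in
theorem isIso_toShMVF
    (h : ∀ (R : CommRingCat.{u}) (a : Spec R ⟶ S),
      adequate R ((toMVFPre (Scheme.precoverage P) a).obj P₀))
    {R : CommRingCat.{u}} (a : Spec R ⟶ S) :
    IsIso (toShMVF (Scheme.precoverage P) P₀ a) :=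
  PshMod.isIso_of_bijective _ (fun X =>
    ⟨shτ_injective P hPopen hPimm hPflat P₀ h a X.unop.unop,
      shτ_surjective P hPopen hPimm hPflat P₀ h a X.unop.unop⟩)

include hPopen hPimm hPflat in
/-- the sheafification of a presheaf of modules all of whose `F_{P,R}` are adequate is adequate -/
theorem adequateMod_sheafification
    (h : ∀ (R : CommRingCat.{u}) (a : Spec R ⟶ S),
      adequate R ((toMVFPre (Scheme.precoverage P) a).obj P₀)) :
    adequateMod (Scheme.precoverage P) S (shMod (Scheme.precoverage P) P₀) := by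
  refine adequateMod_of_forall_affine P hPimm _ (fun R a => ?_)
  have := isIso_toShMVF P hPopen hPimm hPflat P₀ h a
  exact (adequate R).prop_of_iso (asIso (toShMVF (Scheme.precoverage P) P₀ a)) (h R a)

end

namespace Fppf

theorem flat_of_PP {X Y : Scheme.{u}} (f : X ⟶ Y) (hf : PP f) : Flat f := hf.1

instance : MorphismProperty.ContainsIdentities PP.{u} :=
  ⟨fun X => PP_of_isOpenImmersion (𝟙 X)⟩

theorem adequateMod_sheafification {S : Scheme.{u}}
    (P₀ : PresheafOfModules.{u + 1} (BigSite.ORing Scheme.fppfPrecoverage S).obj)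
    (h : ∀ (R : CommRingCat.{u}) (a : Spec R ⟶ S),
      adequate R ((toMVFPre Scheme.fppfPrecoverage a).obj P₀)) :
    adequateMod Scheme.fppfPrecoverage S
      ((PresheafOfModules.sheafification (𝟙 (BigSite.ORing Scheme.fppfPrecoverage S).obj)).obj P₀) :=
  Helper13Adeq.adequateMod_sheafification PP isOpenMap_of_PP (fun f _ => PP_of_isOpenImmersion f)
    flat_of_PP P₀ h

end Fppf

end

end Groth.Agent.Helper13Adeq
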