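import Groth.Agent.Lib.Helper13AdeqS

/-!
# Push of adequate functors along a ring map (helper13)

`pushU` (underline of the restricted module is the push of underline), `adequate_push` (= S8750).
-/

set_option autoImplicit false
universe u
open CategoryTheory Limits Opposite TensorProduct

namespace Groth.Agent.Helper13Adeq
open Adeq

noncomputable section
variable (A A' : Type u) [CommRing A] [CommRing A'] [Algebra A A']

theorem push_obj_map_apply (F' : MVF A') {B C : Alg A} (f : B ⟶ C)
    (x : F'.obj (pt ((Alg.baseChange A A').obj B))) :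
    (((push A A').obj F').map (ptHom f)).hom x = F'.map (ptHom ((Alg.baseChange A A').map f)) x := rfl

theorem push_map_app_apply {F G : MVF A'} (α : F ⟶ G) (B : Alg A)
    (x : F.obj (pt ((Alg.baseChange A A').obj B))) :
    (((push A A').map α).app (pt B)).hom x = α.app (pt ((Alg.baseChange A A').obj B)) x := rfl

/-- restriction of scalars of a module to `A`. -/
abbrev rsMod (M' : ModuleCat.{u+1} A') : ModuleCat.{u+1} A :=
  (ModuleCat.restrictScalars (algebraMap A A')).obj M'

/-- component -/
def pushUEquiv (B : Alg A) (M' : ModuleCat.{u+1} A') :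
    (B ⊗[A] rsMod A A' M') ≃+ ((A' ⊗[A] B) ⊗[A'] M') :=
  letI : Module A M' := Module.compHom M' (algebraMap A A')
  haveI : IsScalarTower A A' M' := ⟨fun a a' m => by
    change (a • a') • m = (algebraMap A A' a) • (a' • m)
    rw [Algebra.smul_def, mul_smul]⟩
  ((TensorProduct.comm A' (A' ⊗[A] B) M').toAddEquiv.trans
    ((TensorProduct.AlgebraTensorModule.cancelBaseChange A A' A' M' B).toAddEquiv.trans
      (TensorProduct.comm A M' B).toAddEquiv)).symm

theorem pushUEquiv_tmul (B : Alg A) (M' : ModuleCat.{u+1} A') (b : B) (m : M') :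
    pushUEquiv A A' B M' (b ⊗ₜ m) = ((1 : A') ⊗ₜ b) ⊗ₜ m := rfl

end

noncomputable section
variable (A A' : Type u) [CommRing A] [CommRing A'] [Algebra A A']

theorem pushUEquiv_smul (B : Alg A) (M' : ModuleCat.{u+1} A') (b : B)
    (x : B ⊗[A] rsMod A A' M') :
    pushUEquiv A A' B M' (b • x) =
      ((1 : A') ⊗ₜ[A] b : A' ⊗[A] B) • pushUEquiv A A' B M' x := by
  induction x using TensorProduct.induction_on with
  | zero => simp only [smul_zero, map_zero]
  | tmul b0 m =>
    rw [TensorProduct.smul_tmul', pushUEquiv_tmul, pushUEquiv_tmul, TensorProduct.smul_tmul',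
      smul_eq_mul, smul_eq_mul, Algebra.TensorProduct.tmul_mul_tmul, one_mul]
  | add x y hx hy => simp only [smul_add, map_add, hx, hy]

def pushU (M' : ModuleCat.{u+1} A') :
    (underline A).obj (rsMod A A' M') ⟶ (push A A').obj ((underline A').obj M') :=
  PresheafOfModules.homMk
    { app X := AddCommGrpCat.ofHom (pushUEquiv A A' X.unop.unop M').toAddMonoidHom
      naturality := by
        intro X Y f
        ext x
        change pushUEquiv A A' Y.unop.unop M' ((f.unop.unop.hom.toLinearMap.rTensor _) x) =
          ((((Alg.baseChange A A').map f.unop.unop).hom.toLinearMap.rTensor M'))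
            (pushUEquiv A A' X.unop.unop M' x)
        induction x using TensorProduct.induction_on with
        | zero => simp only [map_zero]
        | tmul b m =>
          rw [LinearMap.rTensor_tmul, pushUEquiv_tmul, pushUEquiv_tmul, LinearMap.rTensor_tmul]
          rfl
        | add x y hx hy => simp only [map_add, hx, hy] }
    (by
      intro X r m
      exact pushUEquiv_smul A A' X.unop.unop M' r m)

theorem pushU_app_apply (M' : ModuleCat.{u+1} A') (B : Alg A) (x : B ⊗[A] rsMod A A' M') :
    ((pushU A A' M').app (pt B)).hom x = pushUEquiv A A' B M' x := rfl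

theorem pushU_bijective (M' : ModuleCat.{u+1} A') (B : Alg A) :
    Function.Bijective ((pushU A A' M').app (pt B)) :=
  (pushUEquiv A A' B M').bijective

instance (M' : ModuleCat.{u+1} A') : IsIso (pushU A A' M') :=
  PshMod.isIso_of_bijective _ (fun X => pushU_bijective A A' M' X.unop.unop)

theorem pushU_naturality {M' N' : ModuleCat.{u+1} A'} (φ : M' ⟶ N') :
    pushU A A' M' ≫ (push A A').map ((underline A').map φ) =
      (underline A).map ((ModuleCat.restrictScalars (algebraMap A A')).map φ) ≫ pushU A A' N' := by
  ext X x
  change ((φ.hom.baseChange _) (pushUEquiv A A' X.unop.unop M' x)) =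
    pushUEquiv A A' X.unop.unop N'
      ((((ModuleCat.restrictScalars (algebraMap A A')).map φ).hom.baseChange X.unop.unop) x)
  induction x using TensorProduct.induction_on with
  | zero => simp only [map_zero]
  | tmul b m =>
    rw [LinearMap.baseChange_tmul, pushUEquiv_tmul, pushUEquiv_tmul, LinearMap.baseChange_tmul]
    rfl
  | add x y hx hy => simp only [map_add, hx, hy]

theorem adequate_push (F' : MVF A') (hF' : adequate A' F') : adequate A ((push A A').obj F') := by
  obtain ⟨M, N, φ, i, hi, hex⟩ := (adequate_iff F').1 hF'
  refine adequate_of_iso_exact ((push A A').map i) ((push A A').map ((underline A').map φ))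
    _ _ ((ModuleCat.restrictScalars (algebraMap A A')).map φ) (inv (pushU A A' M))
    (inv (pushU A A' N))
    (fun B => PshMod.bijective_of_isIso _ _) (fun B => (PshMod.bijective_of_isIso _ _).1)
    ?_ (fun B => ?_) (fun B => ?_)
  · rw [IsIso.comp_inv_eq, Category.assoc, IsIso.eq_inv_comp]
    exact pushU_naturality A A' φ
  · exact hi ((Alg.baseChange A A').obj B)
  · exact hex ((Alg.baseChange A A').obj B)

end

end Groth.Agent.Helper13Adeq
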