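import Groth.Agent.Lib.Helper13AdeqPush

/-!
# Parasitic adequate modules: vanishing on flat objects from vanishing on an affine open cover (helper13)

`Tfae.subsingleton_of_flat` (an adequate functor vanishing at `B` vanishes at every flat `B`-algebra),
`Tfae.subsingleton_of_iso`, `Tfae.baseIso`, `Tfae.subsingleton_of_flat_affine`,
`Tfae.parasitic_of_affine_cover`, `Fppf.parasitic_of_affine_cover`.
-/

set_option autoImplicit false
set_option linter.style.haveILetI false
universe u
open CategoryTheory Limits Opposite TensorProduct AlgebraicGeometry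

namespace Groth.Agent.Helper13Adeq
open Adeq

noncomputable section

namespace Tfae

section alg
variable {A : Type u} [CommRing A]

/-- the value of an adequate functor vanishes on a flat algebra over an algebra where it vanishes -/
theorem subsingleton_of_flat (F : MVF A) (hF : adequate A F) {B B' : Alg A} (f : B ⟶ B')
    (hf : f.hom.toRingHom.Flat) (h : Subsingleton (F.obj (pt B))) :
    Subsingleton (F.obj (pt B')) := by
  have hiso : IsIso (F.bc f) := isIso_bc_of_adequate_flat F hF f hf
  have hbij : Function.Bijective (F.bc f) := ConcreteCategory.bijective_of_isIso (F.bc f)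
  have hsrc : ∀ z : (ModuleCat.extendScalars.{u, u, u + 1} f.hom.toRingHom).obj (F.obj (pt B)),
      z = 0 := by
    intro z
    letI := f.hom.toRingHom.toAlgebra
    change (B' ⊗[B] (F.obj (pt B))) at z
    induction z using TensorProduct.induction_on with
    | zero => rfl
    | tmul b x =>
      rw [Subsingleton.elim x 0, TensorProduct.tmul_zero]
      rfl
    | add x y hx hy =>
      rw [hx, hy]
      exact add_zero _
  refine ⟨fun x y => ?_⟩
  obtain ⟨x', rfl⟩ := hbij.2 x
  obtain ⟨y', rfl⟩ := hbij.2 y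
  rw [hsrc x', hsrc y']

end alg

section iso
variable (K : Precoverage Scheme.{u}) [BigSite.OSh K] {S : Scheme.{u}}

theorem subsingleton_of_iso (M : BigSite.Mod K S) {X Y : Over S} (e : X ≅ Y)
    (h : Subsingleton (M.val.obj (op X))) : Subsingleton (M.val.obj (op Y)) := by
  refine ⟨fun x y => ?_⟩
  have hcomp : ∀ z : M.val.obj (op Y),
      M.val.presheaf.map e.inv.op (M.val.presheaf.map e.hom.op z) = z := by
    intro z
    have h1 := M.val.presheaf.map_comp e.hom.op e.inv.op
    rw [← op_comp, e.inv_hom_id, op_id, CategoryTheory.Functor.map_id] at h1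
    exact (congrArg (fun ψ => ψ z) h1).symm
  have hxy : M.val.presheaf.map e.hom.op x = M.val.presheaf.map e.hom.op y :=
    Subsingleton.elim (α := M.val.obj (op X)) _ _
  rw [← hcomp x, ← hcomp y, hxy]

end iso

section geom
variable (P : MorphismProperty Scheme.{u}) [P.IsStableUnderBaseChange]
  [Scheme.IsJointlySurjectivePreserving P] [P.IsStableUnderComposition]
  [BigSite.OSh (Scheme.precoverage P)]
  (hPopen : ∀ {X Y : Scheme.{u}} (f : X ⟶ Y), P f → IsOpenMap f)
  (hPimm : ∀ {X Y : Scheme.{u}} (f : X ⟶ Y) [IsOpenImmersion f], P f)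
  {S : Scheme.{u}}

/-- the object `Spec Γ(S, U) ⟶ S` attached to the trivial algebra is the open `U` -/
def baseIso {U : S.Opens} (hU : IsAffineOpen U) :
    (specOver hU.fromSpec).obj (op (algOf Γ(S, U) Γ(S, U))) ≅ Over.mk U.ι :=
  Over.isoMk hU.isoSpec.symm (by
    change hU.isoSpec.inv ≫ U.ι =
      Spec.map (CommRingCat.ofHom (algebraMap Γ(S, U) Γ(S, U))) ≫ hU.fromSpec
    have : Spec.map (CommRingCat.ofHom (algebraMap Γ(S, U) Γ(S, U))) = 𝟙 _ := Spec.map_id _
    rw [this, Category.id_comp]
    rfl)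

include hPopen hPimm in
theorem subsingleton_of_flat_affine (M : BigSite.Mod (Scheme.precoverage P) S)
    (hM : adequateMod (Scheme.precoverage P) S M) {U : S.Opens} (hU : IsAffineOpen U)
    (hz : Subsingleton (M.val.obj (op (Over.mk U.ι))))
    (C : Type u) [CommRing C] [Algebra Γ(S, U) C] [Module.Flat Γ(S, U) C] :
    Subsingleton (M.val.obj (op ((specOver hU.fromSpec).obj (op (algOf Γ(S, U) C))))) := by
  have hF := adequate_toMVF_of_adequateMod P hPopen hPimm M hM Γ(S, U) hU.fromSpec
  have h0 : Subsingleton (((toMVF (Scheme.precoverage P) hU.fromSpec).obj M).obj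
      (pt (algOf Γ(S, U) Γ(S, U)))) :=
    subsingleton_of_iso (Scheme.precoverage P) M (baseIso hU).symm hz
  have hflat : (ffι (A := Γ(S, U)) C).hom.toRingHom.Flat := by
    change (algebraMap Γ(S, U) C).Flat
    rw [RingHom.flat_algebraMap_iff]
    infer_instance
  exact subsingleton_of_flat _ hF (ffι (A := Γ(S, U)) C) hflat h0

include hPimm in
omit [P.IsStableUnderBaseChange] [Scheme.IsJointlySurjectivePreserving P]
  [P.IsStableUnderComposition] [BigSite.OSh (Scheme.precoverage P)] in
theorem generate_mem_of_cover' {X : Scheme.{u}} {I : Type u} (Y : I → Scheme.{u})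
    (g : ∀ i, Y i ⟶ X) (hg : ∀ i, IsOpenImmersion (g i))
    (hsurj : ∀ x : X, ∃ i, x ∈ Set.range (g i)) :
    Sieve.generate (Presieve.ofArrows Y g) ∈ (Scheme.precoverage P).toGrothendieck X := by
  apply Precoverage.generate_mem_toGrothendieck
  rw [Scheme.ofArrows_mem_precoverage_iff]
  exact ⟨hsurj, fun i => hPimm (g i)⟩

include hPopen hPimm in
theorem parasitic_of_affine_cover (M : BigSite.Mod (Scheme.precoverage P) S)
    (hM : adequateMod (Scheme.precoverage P) S M) {ι : Type u} (U : ι → S.Opens)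
    (hU : ∀ i, IsAffineOpen (U i)) (hcov : (⨆ i, U i) = ⊤)
    (hz : ∀ i, Subsingleton (M.val.obj (op (Over.mk (U i).ι)))) :
    parasitic (Scheme.precoverage P) S M := by
  intro X hX
  -- the index type of the cover of `X`
  let Λ : Type u := Σ i : ι, {W : X.left.Opens // IsAffineOpen W ∧ W ≤ X.hom ⁻¹ᵁ (U i)}
  let algΛ : ∀ l : Λ, Algebra Γ(S, U l.1) Γ(X.left, l.2.1) :=
    fun l => (X.hom.appLE (U l.1) l.2.1 l.2.2.2).hom.toAlgebra
  have hflatΛ : ∀ l : Λ, Module.Flat Γ(S, U l.1) Γ(X.left, l.2.1) := by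
    intro l
    have := Flat.flat_appLE X.hom (hU l.1) l.2.2.1 l.2.2.2
    exact this
  let Yo : Λ → Over S := fun l =>
    (specOver (hU l.1).fromSpec).obj (op (algOf Γ(S, U l.1) Γ(X.left, l.2.1)))
  have hYz : ∀ l, Subsingleton (M.val.obj (op (Yo l))) := fun l =>
    subsingleton_of_flat_affine P hPopen hPimm M hM (hU l.1) (hz l.1) Γ(X.left, l.2.1)
  let gl : ∀ l : Λ, (Yo l).left ⟶ X.left := fun l => l.2.2.1.fromSpec
  have hgw : ∀ l : Λ, gl l ≫ X.hom = (Yo l).hom := by
    intro l
    exact (IsAffineOpen.SpecMap_appLE_fromSpec X.hom (hU l.1) l.2.2.1 l.2.2.2).symm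
  let g : ∀ l : Λ, Yo l ⟶ X := fun l => Over.homMk (gl l) (hgw l)
  have hsurj : ∀ x : X.left, ∃ l : Λ, x ∈ Set.range (gl l) := by
    intro x
    have hx : X.hom x ∈ (⨆ i, U i) := by
      rw [hcov]
      trivial
    obtain ⟨i, hi⟩ := TopologicalSpace.Opens.mem_iSup.1 hx
    obtain ⟨W, hW, hxW, hWsub⟩ :=
      exists_isAffineOpen_mem_and_subset (x := x) (U := X.hom ⁻¹ᵁ (U i)) hi
    refine ⟨⟨i, ⟨W, hW, hWsub⟩⟩, ?_⟩
    change x ∈ Set.range hW.fromSpec
    rw [hW.range_fromSpec]
    exact hxW
  have hcov₀ : Sieve.generate (Presieve.ofArrows (fun l => (Yo l).left) gl) ∈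
      (Scheme.precoverage P).toGrothendieck X.left :=
    generate_mem_of_cover' P hPimm _ gl (fun l => inferInstanceAs (IsOpenImmersion l.2.2.1.fromSpec))
      hsurj
  have hcov₁ : Sieve.generate (Presieve.ofArrows Yo g) ∈ QuotSh.J (Scheme.precoverage P) S X := by
    rw [GrothendieckTopology.mem_over_iff]
    refine (Scheme.precoverage P).toGrothendieck.superset_covering ?_ hcov₀
    intro Z h hh
    obtain ⟨W, k, f', ⟨l⟩, hfac⟩ := hh
    rw [Sieve.overEquiv_iff]
    have hw : k ≫ (Yo l).hom = h ≫ X.hom := by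
      rw [← hgw l, ← Category.assoc, hfac]
    refine ⟨Yo l, Over.homMk k hw, g l, ⟨l⟩, ?_⟩
    ext
    exact hfac
  refine ⟨fun s t => ?_⟩
  refine (isSheaf_type (Scheme.precoverage P) M _ hcov₁).isSeparatedFor.ext (fun V v hv => ?_)
  obtain ⟨W, k, f', ⟨l⟩, hfac⟩ := hv
  change M.val.presheaf.map v.op s = M.val.presheaf.map v.op t
  rw [← hfac]
  have hcomp : ∀ z : M.val.obj (op X), M.val.presheaf.map (k ≫ g l).op z =
      M.val.presheaf.map k.op (M.val.presheaf.map (g l).op z) := by
    intro z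
    have := M.val.presheaf.map_comp (g l).op k.op
    exact congrArg (fun ψ => ψ z) this
  rw [hcomp, hcomp]
  have := hYz l
  rw [Subsingleton.elim (α := M.val.obj (op (Yo l))) (M.val.presheaf.map (g l).op s)
    (M.val.presheaf.map (g l).op t)]

end geom

end Tfae

namespace Fppf

theorem parasitic_of_affine_cover {S : Scheme.{u}} (M : BigSite.Mod Scheme.fppfPrecoverage S)
    (hM : adequateMod Scheme.fppfPrecoverage S M) {ι : Type u} (U : ι → S.Opens)
    (hU : ∀ i, IsAffineOpen (U i)) (hcov : (⨆ i, U i) = ⊤)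
    (hz : ∀ i, Subsingleton (M.val.obj (op (Over.mk (U i).ι)))) :
    parasitic Scheme.fppfPrecoverage S M :=
  Tfae.parasitic_of_affine_cover PP isOpenMap_of_PP (fun f _ => PP_of_isOpenImmersion f) M hM U hU
    hcov hz

end Fppf

end

end Groth.Agent.Helper13Adeq
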