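import Groth.Agent.Lib.Helper13AdeqT
import Groth.Agent.Lib.Helper13AdeqG

/-!
# Descent of adequacy along a ring map (helper13)

`unitPR` (unit `F ⟶ push (restr F)`), `adequate_of_restr_adequate_of_exact` (= S8751).
-/

set_option autoImplicit false
universe u
open CategoryTheory Limits Opposite TensorProduct

namespace Groth.Agent.Helper13Adeq
open Adeq

noncomputable section
variable (A A' : Type u) [CommRing A] [CommRing A'] [Algebra A A']

theorem unit_naturality {B C : Alg A} (f : B ⟶ C) :
    f ≫ Alg.unit A A' C = Alg.unit A A' B ≫ (Alg.restr A A').map ((Alg.baseChange A A').map f) := by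
  ext
  rfl

def unitPR (F : MVF A) : F ⟶ (push A A').obj ((restr A A').obj F) :=
  PresheafOfModules.homMk
    { app X := F.presheaf.map (ptHom (Alg.unit A A' X.unop.unop))
      naturality := by
        intro X Y f
        change F.presheaf.map f ≫ F.presheaf.map (ptHom (Alg.unit A A' Y.unop.unop)) =
          F.presheaf.map (ptHom (Alg.unit A A' X.unop.unop)) ≫
            F.presheaf.map (ptHom ((Alg.restr A A').map ((Alg.baseChange A A').map f.unop.unop)))
        rw [← Functor.map_comp, ← Functor.map_comp]
        exact congrArg (fun g => F.presheaf.map (ptHom g)) (unit_naturality A A' f.unop.unop) }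
    (by
      intro X r m
      exact PresheafOfModules.map_smul F (ptHom (Alg.unit A A' X.unop.unop)) r m)

theorem unitPR_app_apply (F : MVF A) (B : Alg A) (x : F.obj (pt B)) :
    ((unitPR A A' F).app (pt B)).hom x = F.map (ptHom (Alg.unit A A' B)) x := rfl

end

noncomputable section
variable (A A' : Type u) [CommRing A] [CommRing A'] [Algebra A A']

theorem adequate_of_restr_adequate_of_exact
    (F : Adeq.MVF A) (h₁ : Adeq.adequate A' ((Adeq.restr A A').obj F))
    (h₂ : ∀ B : Adeq.Alg A, Function.Injective (F.map (Adeq.ptHom (Adeq.Alg.unit A A' B))) ∧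
      ∀ y : F.obj (Adeq.pt ((Adeq.Alg.restr A A').obj ((Adeq.Alg.baseChange A A').obj B))),
        F.map (Adeq.ptHom (Adeq.Alg.unit A A' ((Adeq.Alg.restr A A').obj ((Adeq.Alg.baseChange A A').obj B)))) y =
          F.map (Adeq.ptHom ((Adeq.Alg.restr A A').map ((Adeq.Alg.baseChange A A').map (Adeq.Alg.unit A A' B)))) y →
        y ∈ Set.range (F.map (Adeq.ptHom (Adeq.Alg.unit A A' B)))) :
    Adeq.adequate A F := by
  set G : MVF A := (push A A').obj ((restr A A').obj F) with hG
  have aG : adequate A G := adequate_push A A' _ h₁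
  have aGG : adequate A ((push A A').obj ((restr A A').obj G)) :=
    adequate_push A A' _ (adequate_restr A A' _ aG)
  let d1 : G ⟶ (push A A').obj ((restr A A').obj G) :=
    (push A A').map ((restr A A').map (unitPR A A' F))
  let d0 : G ⟶ (push A A').obj ((restr A A').obj G) := unitPR A A' G
  have hd1 : ∀ (B : Alg A) (y : F.obj (pt ((Alg.restr A A').obj ((Alg.baseChange A A').obj B)))),
      (d1.app (pt B)).hom y =
        F.map (ptHom (Alg.unit A A' ((Alg.restr A A').obj ((Alg.baseChange A A').obj B)))) y :=
    fun B y => rfl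
  have hd0 : ∀ (B : Alg A) (y : F.obj (pt ((Alg.restr A A').obj ((Alg.baseChange A A').obj B)))),
      (d0.app (pt B)).hom y =
        F.map (ptHom ((Alg.restr A A').map ((Alg.baseChange A A').map (Alg.unit A A' B)))) y :=
    fun B y => rfl
  have e : F ≅ kernel (d1 - d0) := by
    refine PshMod.isoKernel (unitPR A A' F) (d1 - d0) (fun X => (h₂ X.unop.unop).1) (fun X y => ?_)
    have key : (d1 - d0).app X y = 0 ↔ (d1.app X).hom y = (d0.app X).hom y := by
      change (d1.app X).hom y - (d0.app X).hom y = 0 ↔ _
      exact sub_eq_zero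
    rw [key]
    constructor
    · intro hy
      exact (h₂ X.unop.unop).2 y ((hd1 _ y).symm.trans (hy.trans (hd0 _ y)))
    · rintro ⟨x, rfl⟩
      change (d1.app (pt X.unop.unop)).hom (F.map (ptHom (Alg.unit A A' X.unop.unop)) x) =
        (d0.app (pt X.unop.unop)).hom (F.map (ptHom (Alg.unit A A' X.unop.unop)) x)
      rw [hd1, hd0]
      change mapEl F _ (mapEl F _ x) = mapEl F _ (mapEl F _ x)
      rw [← mapEl_comp, ← mapEl_comp, unit_naturality A A' (Alg.unit A A' X.unop.unop)]
  exact (adequate A).prop_of_iso e.symm (adequate_kernel _ aG aGG)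

end

end Groth.Agent.Helper13Adeq
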