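import Groth.Agent.Lib.Helper13AdeqU
import Groth.Agent.Lib.Helper13AdeqH
import Groth.Agent.Lib.Helper13AdeqM

/-!
# Descent of adequacy along a finite family of ring maps (helper13)

`PshMod.pi_ext/pi_exists` (pointwise products), `adequate_pi`, `adequate_of_family`.
-/

set_option autoImplicit false
universe u v v₁ u₁
open CategoryTheory Limits Opposite TensorProduct

namespace Groth.Agent.Helper13Adeq

namespace PshMod

variable {C : Type u₁} [Category.{v₁} C] {R : Cᵒᵖ ⥤ RingCat.{u}}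

theorem pi_ext {ι : Type v} (G : ι → PresheafOfModules.{v} R) (X : Cᵒᵖ) (y y' : (∏ᶜ G).obj X)
    (h : ∀ k, (Pi.π G k).app X y = (Pi.π G k).app X y') : y = y' := by
  let E := PresheafOfModules.evaluation.{v} R X
  have hl : IsLimit (E.mapCone (limit.cone (Discrete.functor G))) :=
    isLimitOfPreserves E (limit.isLimit _)
  refine Concrete.isLimit_ext _ hl y y' (fun j => ?_)
  exact h j.as

theorem pi_exists {ι : Type v} (G : ι → PresheafOfModules.{v} R) (X : Cᵒᵖ)
    (y : ∀ k, (G k).obj X) :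
    ∃ z : (∏ᶜ G).obj X, ∀ k, (Pi.π G k).app X z = y k := by
  let E := PresheafOfModules.evaluation.{v} R X
  have hl : IsLimit (E.mapCone (limit.cone (Discrete.functor G))) :=
    isLimitOfPreserves E (limit.isLimit _)
  let hl' := isLimitOfPreserves (forget (ModuleCat.{v} (R.obj X))) hl
  let e := Types.isLimitEquivSections hl'
  refine ⟨e.symm ⟨fun j => y j.as, ?_⟩, fun k => ?_⟩
  · intro j j' f
    obtain ⟨j⟩ := j
    obtain ⟨j'⟩ := j'
    have : j = j' := Discrete.eq_of_hom f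
    subst this
    have : f = 𝟙 _ := Subsingleton.elim _ _
    subst this
    simp
  · exact Types.isLimitEquivSections_symm_apply hl' _ ⟨k⟩

theorem pi_lift_π_apply {ι : Type v} (G : ι → PresheafOfModules.{v} R) {F : PresheafOfModules.{v} R}
    (f : ∀ k, F ⟶ G k) (X : Cᵒᵖ) (x : F.obj X) (k : ι) :
    (Pi.π G k).app X ((Pi.lift f).app X x) = (f k).app X x := by
  have := congrArg (fun ψ => ψ.app X x) (Pi.lift_π f k)
  exact this

end PshMod

open Adeq

section
variable {A : Type u} [CommRing A]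

theorem adequate_pi {ι : Type (u + 1)} [Finite ι] (G : ι → MVF A) (hG : ∀ k, adequate A (G k)) :
    adequate A (∏ᶜ G) := by
  have : HasFiniteBiproducts (MVF A) := HasFiniteBiproducts.of_hasFiniteProducts
  have : HasBiproductsOfShape ι (MVF A) := hasBiproductsOfShape_finite (MVF A)
  have e : ∐ G ≅ ∏ᶜ G := (biproduct.isoCoproduct G).symm ≪≫ biproduct.isoProduct G
  exact (adequate A).prop_of_iso e (adequate_coproduct G hG)

end


noncomputable section
variable (A : Type u) [CommRing A] {ι : Type (u + 1)} [Finite ι] (A' : ι → Type u)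
  [∀ k, CommRing (A' k)] [∀ k, Algebra A (A' k)]

omit [Finite ι] in
/-- `F ↦ (B ↦ F(A'_k ⊗ B))` -/
abbrev PRk (k : ι) : MVF A ⥤ MVF A := restr A (A' k) ⋙ push A (A' k)

omit [Finite ι] in
theorem PRk_map_app_apply (k : ι) {F G : MVF A} (α : F ⟶ G) (B : Alg A)
    (x : F.obj (pt ((Alg.restr A (A' k)).obj ((Alg.baseChange A (A' k)).obj B)))) :
    (((PRk A A' k).map α).app (pt B)).hom x =
      α.app (pt ((Alg.restr A (A' k)).obj ((Alg.baseChange A (A' k)).obj B))) x := rfl

omit [Finite ι] in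
theorem unitPR_PRk_app_apply (k l : ι) (F : MVF A) (B : Alg A)
    (x : F.obj (pt ((Alg.restr A (A' l)).obj ((Alg.baseChange A (A' l)).obj B)))) :
    ((unitPR A (A' k) ((PRk A A' l).obj F)).app (pt B)).hom x =
      F.map (ptHom ((Alg.restr A (A' l)).map ((Alg.baseChange A (A' l)).map (Alg.unit A (A' k) B)))) x :=
  rfl

theorem adequate_of_family (F : MVF A)
    (h₁ : ∀ k, adequate (A' k) ((restr A (A' k)).obj F))
    (h₂ : ∀ B : Alg A,
      (∀ x : F.obj (pt B), (∀ k, F.map (ptHom (Alg.unit A (A' k) B)) x = 0) → x = 0) ∧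
      ∀ y : ∀ k, F.obj (pt ((Alg.restr A (A' k)).obj ((Alg.baseChange A (A' k)).obj B))),
        (∀ k l, F.map (ptHom (Alg.unit A (A' l)
              ((Alg.restr A (A' k)).obj ((Alg.baseChange A (A' k)).obj B)))) (y k) =
            F.map (ptHom ((Alg.restr A (A' l)).map ((Alg.baseChange A (A' l)).map
              (Alg.unit A (A' k) B)))) (y l)) →
        ∃ x : F.obj (pt B), ∀ k, F.map (ptHom (Alg.unit A (A' k) B)) x = y k) :
    adequate A F := by
  let Gk : ι → MVF A := fun k => (PRk A A' k).obj F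
  let Hkl : ι × ι → MVF A := fun kl => (PRk A A' kl.1).obj ((PRk A A' kl.2).obj F)
  have aG : adequate A (∏ᶜ Gk) :=
    adequate_pi Gk (fun k => adequate_push A (A' k) _ (h₁ k))
  have aH : adequate A (∏ᶜ Hkl) :=
    adequate_pi Hkl (fun kl => adequate_push A (A' kl.1) _
      (adequate_restr A (A' kl.1) _ (adequate_push A (A' kl.2) _ (h₁ kl.2))))
  let η : F ⟶ ∏ᶜ Gk := Pi.lift (fun k => unitPR A (A' k) F)
  let d0 : ∏ᶜ Gk ⟶ ∏ᶜ Hkl :=
    Pi.lift (fun kl => Pi.π Gk kl.1 ≫ (PRk A A' kl.1).map (unitPR A (A' kl.2) F))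
  let d1 : ∏ᶜ Gk ⟶ ∏ᶜ Hkl :=
    Pi.lift (fun kl => Pi.π Gk kl.2 ≫ unitPR A (A' kl.1) ((PRk A A' kl.2).obj F))
  have hη : ∀ (X : (Alg A)ᵒᵖᵒᵖ) (x : F.obj X) (k : ι),
      (Pi.π Gk k).app X (η.app X x) = F.map (ptHom (Alg.unit A (A' k) X.unop.unop)) x :=
    fun X x k => PshMod.pi_lift_π_apply Gk _ X x k
  have hd0 : ∀ (X : (Alg A)ᵒᵖᵒᵖ) (z : (∏ᶜ Gk).obj X) (kl : ι × ι),
      (Pi.π Hkl kl).app X (d0.app X z) =
        F.map (ptHom (Alg.unit A (A' kl.2)
          ((Alg.restr A (A' kl.1)).obj ((Alg.baseChange A (A' kl.1)).obj X.unop.unop))))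
          ((Pi.π Gk kl.1).app X z) :=
    fun X z kl => PshMod.pi_lift_π_apply Hkl _ X z kl
  have hd1 : ∀ (X : (Alg A)ᵒᵖᵒᵖ) (z : (∏ᶜ Gk).obj X) (kl : ι × ι),
      (Pi.π Hkl kl).app X (d1.app X z) =
        F.map (ptHom ((Alg.restr A (A' kl.2)).map ((Alg.baseChange A (A' kl.2)).map
          (Alg.unit A (A' kl.1) X.unop.unop))))
          ((Pi.π Gk kl.2).app X z) :=
    fun X z kl => PshMod.pi_lift_π_apply Hkl _ X z kl
  have e : F ≅ kernel (d0 - d1) := by
    refine PshMod.isoKernel η (d0 - d1) (fun X => ?_) (fun X z => ?_)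
    · rw [injective_iff_map_eq_zero]
      intro x hx
      refine (h₂ X.unop.unop).1 x (fun k => ?_)
      have h3 := hη X x k
      rw [hx, map_zero] at h3
      exact h3.symm
    · have key : (d0 - d1).app X z = 0 ↔ d0.app X z = d1.app X z := by
        change d0.app X z - d1.app X z = 0 ↔ _
        exact sub_eq_zero
      rw [key]
      constructor
      · intro hz
        obtain ⟨x, hx⟩ := (h₂ X.unop.unop).2 (fun k => (Pi.π Gk k).app X z) (fun k l => by
          have := congrArg (fun w => (Pi.π Hkl (k, l)).app X w) hz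
          simp only [hd0, hd1] at this
          exact this)
        refine ⟨x, PshMod.pi_ext Gk X _ _ (fun k => ?_)⟩
        rw [hη]
        exact hx k
      · rintro ⟨x, rfl⟩
        refine PshMod.pi_ext Hkl X _ _ (fun kl => ?_)
        rw [hd0, hd1, hη, hη]
        change mapEl F _ (mapEl F _ x) = mapEl F _ (mapEl F _ x)
        rw [← mapEl_comp, ← mapEl_comp, unit_naturality A (A' kl.2) (Alg.unit A (A' kl.1) X.unop.unop)]
  exact (adequate A).prop_of_iso e.symm (adequate_kernel _ aG aH)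

end

end Groth.Agent.Helper13Adeq
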