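import Groth.Agent.Lib.Helper13AdeqV
import Groth.Prelude.Def_Adeq2

/-!
# Adequate modules on the big sites: the functor attached to an affine object (helper13)

Bridge between the sheaf condition on the big site and the descent lemma `adequate_of_family`;
`restrToMVF` (restriction of `F_{M,R}` to `R'`-algebras is `F_{M,R'}`);
`adequate_toMVF_of_adequateMod` (for every affine object the functor `F_{M,R}` of an adequate
module is adequate), for the precoverage of a morphism property whose members are open maps.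
-/

set_option autoImplicit false
universe u
open CategoryTheory Limits Opposite TensorProduct AlgebraicGeometry

namespace Groth.Agent.Helper13Adeq
open Adeq

noncomputable section


section L1
variable (R : Type u) [CommRing R] (A B : Type u) [CommRing A] [CommRing B] [Algebra R A] [Algebra R B]

theorem isPullback_Spec_tensor :
    IsPullback
      (Spec.map (CommRingCat.ofHom (Algebra.TensorProduct.includeLeftRingHom : A →+* A ⊗[R] B)))
      (Spec.map (CommRingCat.ofHom
        (Algebra.TensorProduct.includeRight (R := R) (A := A) (B := B)).toRingHom))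
      (Spec.map (CommRingCat.ofHom (algebraMap R A)))
      (Spec.map (CommRingCat.ofHom (algebraMap R B))) :=
  isPullback_SpecMap_of_isPushout _ _ _ _ (CommRingCat.isPushout_tensorProduct R A B)

theorem exists_lift_Spec_tensor {Z : Scheme.{u}} (f : Z ⟶ Spec (CommRingCat.of A))
    (g : Z ⟶ Spec (CommRingCat.of B))
    (h : f ≫ Spec.map (CommRingCat.ofHom (algebraMap R A)) =
      g ≫ Spec.map (CommRingCat.ofHom (algebraMap R B))) :
    ∃ ℓ : Z ⟶ Spec (CommRingCat.of (A ⊗[R] B)),
      ℓ ≫ Spec.map (CommRingCat.ofHom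
        (Algebra.TensorProduct.includeLeftRingHom : A →+* A ⊗[R] B)) = f ∧
      ℓ ≫ Spec.map (CommRingCat.ofHom
        (Algebra.TensorProduct.includeRight (R := R) (A := A) (B := B)).toRingHom) = g :=
  ⟨(isPullback_Spec_tensor R A B).lift f g h, (isPullback_Spec_tensor R A B).lift_fst f g h,
    (isPullback_Spec_tensor R A B).lift_snd f g h⟩

theorem hom_ext_Spec_tensor {Z : Scheme.{u}} (ℓ ℓ' : Z ⟶ Spec (CommRingCat.of (A ⊗[R] B)))
    (h₁ : ℓ ≫ Spec.map (CommRingCat.ofHom
        (Algebra.TensorProduct.includeLeftRingHom : A →+* A ⊗[R] B)) =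
      ℓ' ≫ Spec.map (CommRingCat.ofHom
        (Algebra.TensorProduct.includeLeftRingHom : A →+* A ⊗[R] B)))
    (h₂ : ℓ ≫ Spec.map (CommRingCat.ofHom
        (Algebra.TensorProduct.includeRight (R := R) (A := A) (B := B)).toRingHom) =
      ℓ' ≫ Spec.map (CommRingCat.ofHom
        (Algebra.TensorProduct.includeRight (R := R) (A := A) (B := B)).toRingHom)) : ℓ = ℓ' :=
  (isPullback_Spec_tensor R A B).hom_ext h₁ h₂

end L1




variable (K : Precoverage Scheme.{u}) {S : Scheme.{u}}
variable {R : CommRingCat.{u}} (a : Spec R ⟶ S)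
variable {ι : Type (u + 1)} (A' : ι → Type u) [∀ k, CommRing (A' k)] [∀ k, Algebra R (A' k)]

/-- `A'_k ⊗ B` as an `R`-algebra -/
abbrev Bk (k : ι) (B : Alg R) : Alg R :=
  (Alg.restr R (A' k)).obj ((Alg.baseChange R (A' k)).obj B)

theorem specOver_map_left {B C : Alg R} (f : B ⟶ C) :
    ((specOver a).map f.op).left = Spec.map (CommRingCat.ofHom f.hom.toRingHom) := rfl

theorem specOver_obj_hom (B : Alg R) :
    ((specOver a).obj (op B)).hom = Spec.map (CommRingCat.ofHom (algebraMap R B)) ≫ a := rfl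

theorem cover_specOver
    (hcov : Sieve.generate (Presieve.ofArrows (fun k => Spec (CommRingCat.of (A' k)))
      (fun k => Spec.map (CommRingCat.ofHom (algebraMap R (A' k))))) ∈ K.toGrothendieck (Spec R))
    (B : Alg R) :
    Sieve.generate (Presieve.ofArrows (fun k => (specOver a).obj (op (Bk A' k B)))
      (fun k => (specOver a).map (Alg.unit R (A' k) B).op)) ∈
        QuotSh.J K S ((specOver a).obj (op B)) := by
  rw [GrothendieckTopology.mem_over_iff]
  refine K.toGrothendieck.superset_covering ?_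
    (K.toGrothendieck.pullback_stable (Spec.map (CommRingCat.ofHom (algebraMap R B))) hcov)
  intro Z g hg
  obtain ⟨W, h, f', ⟨k⟩, hfac⟩ := hg
  obtain ⟨ℓ, hℓ1, hℓ2⟩ := exists_lift_Spec_tensor R (A' k) B h g hfac
  rw [Sieve.overEquiv_iff]
  let ℓ' : Z ⟶ ((specOver a).obj (op (Bk A' k B))).left := ℓ
  have hℓ2' : ℓ' ≫ ((specOver a).map (Alg.unit R (A' k) B).op).left = g := hℓ2
  have hw : ℓ' ≫ ((specOver a).obj (op (Bk A' k B))).hom =
      g ≫ ((specOver a).obj (op B)).hom := by
    rw [← Over.w ((specOver a).map (Alg.unit R (A' k) B).op), ← Category.assoc, hℓ2']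
  refine ⟨(specOver a).obj (op (Bk A' k B)), Over.homMk ℓ' hw,
    (specOver a).map (Alg.unit R (A' k) B).op, ⟨k⟩, ?_⟩
  ext
  exact hℓ2'




theorem specMap_comp_eq {A B C : Type u} [CommRing A] [CommRing B] [CommRing C]
    (φ : A →+* B) (ψ : B →+* C) (χ : A →+* C) (h : ψ.comp φ = χ) :
    Spec.map (CommRingCat.ofHom ψ) ≫ Spec.map (CommRingCat.ofHom φ) =
      Spec.map (CommRingCat.ofHom χ) := by
  rw [← Spec.map_comp, ← CommRingCat.ofHom_comp, h]

section sp
variable {R : Type u} [CommRing R]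

/-- `Spec` of a map of algebras -/
abbrev sp {B C : Alg R} (f : B ⟶ C) : Spec (CommRingCat.of C) ⟶ Spec (CommRingCat.of B) :=
  Spec.map (CommRingCat.ofHom f.hom.toRingHom)

/-- the structure morphism to `Spec R` -/
abbrev spStr (B : Alg R) : Spec (CommRingCat.of B) ⟶ Spec (CommRingCat.of R) :=
  Spec.map (CommRingCat.ofHom (algebraMap R B))

theorem sp_comp {B C D : Alg R} (f : B ⟶ C) (g : C ⟶ D) : sp (f ≫ g) = sp g ≫ sp f := by
  unfold sp
  rw [specMap_comp_eq]
  rfl

theorem sp_spStr {B C : Alg R} (f : B ⟶ C) : sp f ≫ spStr B = spStr C := by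
  unfold sp spStr
  rw [specMap_comp_eq]
  ext r
  exact f.hom.commutes r

variable (A' : Type u) [CommRing A'] [Algebra R A']

/-- first projection `Spec (A' ⊗ C) ⟶ Spec A'` -/
abbrev spFst (C : Alg R) : Spec (CommRingCat.of (A' ⊗[R] C)) ⟶ Spec (CommRingCat.of A') :=
  Spec.map (CommRingCat.ofHom (Algebra.TensorProduct.includeLeftRingHom : A' →+* A' ⊗[R] C))

theorem sp_unit_eq (C : Alg R) :
    sp (Alg.unit R A' C) = Spec.map (CommRingCat.ofHom
      (Algebra.TensorProduct.includeRight (R := R) (A := A') (B := C)).toRingHom) := rfl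

theorem spFst_str (C : Alg R) :
    spFst A' C ≫ Spec.map (CommRingCat.ofHom (algebraMap R A')) =
      spStr ((Alg.restr R A').obj ((Alg.baseChange R A').obj C)) := by
  unfold spFst spStr
  rw [specMap_comp_eq]
  rfl

theorem spFst_map {C D : Alg R} (f : C ⟶ D) :
    sp ((Alg.restr R A').map ((Alg.baseChange R A').map f)) ≫ spFst A' C = spFst A' D := by
  unfold sp spFst
  rw [specMap_comp_eq]
  ext x
  change Algebra.TensorProduct.map (AlgHom.id A' A') f.hom (x ⊗ₜ 1) = x ⊗ₜ 1
  rw [Algebra.TensorProduct.map_tmul, map_one]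
  rfl

end sp




section bc
variable {R : Type u} [CommRing R] (A' : Type u) [CommRing A'] [Algebra R A']

theorem exists_lift_bc (C : Alg R) {Z : Scheme.{u}} (f : Z ⟶ Spec (CommRingCat.of A'))
    (g : Z ⟶ Spec (CommRingCat.of C))
    (h : f ≫ Spec.map (CommRingCat.ofHom (algebraMap R A')) = g ≫ spStr C) :
    ∃ ℓ : Z ⟶ Spec (CommRingCat.of (A' ⊗[R] C)),
      ℓ ≫ spFst A' C = f ∧ ℓ ≫ sp (Alg.unit R A' C) = g :=
  exists_lift_Spec_tensor R A' C f g h

theorem hom_ext_bc (C : Alg R) {Z : Scheme.{u}} (ℓ ℓ' : Z ⟶ Spec (CommRingCat.of (A' ⊗[R] C)))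
    (h₁ : ℓ ≫ spFst A' C = ℓ' ≫ spFst A' C)
    (h₂ : ℓ ≫ sp (Alg.unit R A' C) = ℓ' ≫ sp (Alg.unit R A' C)) : ℓ = ℓ' :=
  hom_ext_Spec_tensor R A' C ℓ ℓ' h₁ h₂

end bc

variable (K : Precoverage Scheme.{u}) {S : Scheme.{u}}
variable {R : CommRingCat.{u}} (a : Spec R ⟶ S)
variable {ι : Type (u + 1)} (A' : ι → Type u) [∀ k, CommRing (A' k)] [∀ k, Algebra R (A' k)]

theorem specOver_map_left' {B C : Alg R} (f : B ⟶ C) :
    ((specOver a).map f.op).left = sp f := rfl

theorem exists_overlap_lift (B : Alg R) (k l : ι) {Z : Over S}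
    (gk : Z ⟶ (specOver a).obj (op (Bk A' k B))) (gl : Z ⟶ (specOver a).obj (op (Bk A' l B)))
    (h : gk ≫ (specOver a).map (Alg.unit R (A' k) B).op =
      gl ≫ (specOver a).map (Alg.unit R (A' l) B).op) :
    ∃ hh : Z ⟶ (specOver a).obj (op (Bk A' l (Bk A' k B))),
      hh ≫ (specOver a).map (Alg.unit R (A' l) (Bk A' k B)).op = gk ∧
      hh ≫ (specOver a).map ((Alg.restr R (A' l)).map ((Alg.baseChange R (A' l)).map
        (Alg.unit R (A' k) B))).op = gl := by
  let gk' : Z.left ⟶ Spec (CommRingCat.of (Bk A' k B)) := gk.left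
  let gl' : Z.left ⟶ Spec (CommRingCat.of (Bk A' l B)) := gl.left
  have hleft : gk' ≫ sp (Alg.unit R (A' k) B) = gl' ≫ sp (Alg.unit R (A' l) B) :=
    congrArg (fun m => m.left) h
  let f : Z.left ⟶ Spec (CommRingCat.of (A' l)) := gl' ≫ spFst (A' l) B
  have hcompat : f ≫ Spec.map (CommRingCat.ofHom (algebraMap R (A' l))) =
      gk' ≫ spStr (Bk A' k B) := by
    change (gl' ≫ spFst (A' l) B) ≫ _ = _
    rw [Category.assoc, spFst_str, ← sp_spStr (Alg.unit R (A' l) B), ← Category.assoc, ← hleft,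
      Category.assoc, sp_spStr]
  obtain ⟨ℓ, hℓ1, hℓ2⟩ := exists_lift_bc (A' l) (Bk A' k B) f gk' hcompat
  let ℓ' : Z.left ⟶ ((specOver a).obj (op (Bk A' l (Bk A' k B)))).left := ℓ
  have hℓ2' : ℓ' ≫ ((specOver a).map (Alg.unit R (A' l) (Bk A' k B)).op).left = gk.left := hℓ2
  have hw : ℓ' ≫ ((specOver a).obj (op (Bk A' l (Bk A' k B)))).hom = Z.hom := by
    rw [← Over.w ((specOver a).map (Alg.unit R (A' l) (Bk A' k B)).op), ← Category.assoc, hℓ2',
      Over.w gk]
  refine ⟨Over.homMk ℓ' hw, ?_, ?_⟩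
  · ext
    exact hℓ2'
  · ext
    change ℓ ≫ sp ((Alg.restr R (A' l)).map ((Alg.baseChange R (A' l)).map
        (Alg.unit R (A' k) B))) = gl'
    refine hom_ext_bc (A' l) B _ _ ?_ ?_
    · rw [Category.assoc, spFst_map, hℓ1]
    · rw [Category.assoc, ← sp_comp, ← unit_naturality, sp_comp, ← Category.assoc, hℓ2, hleft]




variable (K : Precoverage Scheme.{u}) [BigSite.OSh K] {S : Scheme.{u}}
variable {R : CommRingCat.{u}} (a : Spec R ⟶ S)
variable {ι : Type (u + 1)} (A' : ι → Type u) [∀ k, CommRing (A' k)] [∀ k, Algebra R (A' k)]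

/-- the underlying sheaf of types of a module on the big site -/
theorem isSheaf_type (M : BigSite.Mod K S) :
    Presieve.IsSheaf (QuotSh.J K S) (M.val.presheaf ⋙ forget AddCommGrpCat.{u + 1}) :=
  (isSheaf_iff_isSheaf_of_type _ _).1
    ((Presheaf.isSheaf_iff_isSheaf_forget _ _ (forget AddCommGrpCat.{u + 1})).1 M.isSheaf)

theorem toMVF_descent (M : BigSite.Mod K S)
    (hcov : Sieve.generate (Presieve.ofArrows (fun k => Spec (CommRingCat.of (A' k)))
      (fun k => Spec.map (CommRingCat.ofHom (algebraMap R (A' k))))) ∈ K.toGrothendieck (Spec R))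
    (B : Alg R) :
    (∀ x : ((toMVF K a).obj M).obj (pt B),
      (∀ k, ((toMVF K a).obj M).map (ptHom (Alg.unit R (A' k) B)) x = 0) → x = 0) ∧
    ∀ y : ∀ k, ((toMVF K a).obj M).obj (pt (Bk A' k B)),
      (∀ k l, ((toMVF K a).obj M).map (ptHom (Alg.unit R (A' l) (Bk A' k B))) (y k) =
        ((toMVF K a).obj M).map (ptHom ((Alg.restr R (A' l)).map ((Alg.baseChange R (A' l)).map
          (Alg.unit R (A' k) B)))) (y l)) →
      ∃ x : ((toMVF K a).obj M).obj (pt B),
        ∀ k, ((toMVF K a).obj M).map (ptHom (Alg.unit R (A' k) B)) x = y k := by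
  have hs := (Presieve.isSheafFor_arrows_iff _ _).1 ((Presieve.isSheafFor_iff_generate _).2
    (isSheaf_type K M _ (cover_specOver K a A' hcov B)))
  have hz : ∀ {X Y : Over S} (g : X ⟶ Y),
      (M.val.map g.op).hom (0 : M.val.obj (op Y)) = (0 : M.val.obj (op X)) := fun g => map_zero _
  have hcomp : ∀ {X Y Z : Over S} (g : X ⟶ Y) (g' : Y ⟶ Z) (m : M.val.obj (op Z)),
      (M.val.map (g ≫ g').op).hom m = (M.val.map g.op).hom ((M.val.map g'.op).hom m) := by
    intro X Y Z g g' m
    have := M.val.map_comp g'.op g.op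
    exact congrArg (fun ψ => ψ m) this
  constructor
  · intro x hx
    obtain ⟨t, -, ht⟩ := hs (fun k => (0 : M.val.obj (op ((specOver a).obj (op (Bk A' k B))))))
      (fun i j Z gi gj _ => by
        exact (hz gi).trans (hz gj).symm)
    have h1 : x = t := ht x (fun k => hx k)
    have h2 : (0 : M.val.obj (op ((specOver a).obj (op B)))) = t := ht 0 (fun k => by
      exact hz _)
    exact h1.trans h2.symm
  · intro y hy
    obtain ⟨t, ht, -⟩ := hs y (fun k l Z gk gl hkl => by
      obtain ⟨hh, h1, h2⟩ := exists_overlap_lift a A' B k l gk gl hkl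
      change (M.val.map gk.op).hom (y k) = (M.val.map gl.op).hom (y l)
      rw [← h1, ← h2, hcomp, hcomp]
      exact congrArg (fun m => (M.val.map hh.op).hom m) (hy k l))
    exact ⟨t, ht⟩




variable (K : Precoverage Scheme.{u}) [BigSite.OSh K] {S : Scheme.{u}}
variable {R : CommRingCat.{u}} (a : Spec R ⟶ S)
variable (R' : Type u) [CommRing R'] [Algebra R R']

/-- the composite `Spec R' ⟶ Spec R ⟶ S` -/
abbrev aComp : Spec (CommRingCat.of R') ⟶ S :=
  Spec.map (CommRingCat.ofHom (algebraMap R R')) ≫ a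

theorem specOverIso_w (B' : Alg R') :
    𝟙 _ ≫ (Spec.map (CommRingCat.ofHom (algebraMap R ((Alg.restr R R').obj B'))) ≫ a) =
      Spec.map (CommRingCat.ofHom (algebraMap R' B')) ≫
        (Spec.map (CommRingCat.ofHom (algebraMap R R')) ≫ a) := by
  rw [Category.id_comp, ← Category.assoc, specMap_comp_eq _ _ _ rfl]

/-- the two objects of the big site attached to an `R'`-algebra agree -/
def specOverIso (B' : Alg R') :
    (specOver (aComp a R')).obj (op B') ≅ (specOver a).obj (op ((Alg.restr R R').obj B')) :=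
  Over.isoMk (Iso.refl (Spec (CommRingCat.of B'))) (specOverIso_w a R' B')

theorem specOverIso_hom_left (B' : Alg R') :
    (specOverIso a R' B').hom.left = 𝟙 (Spec (CommRingCat.of B')) := rfl

theorem sp_restr_map {B' C' : Alg R'} (f : B' ⟶ C') :
    sp ((Alg.restr R R').map f) = sp f := rfl

theorem specOverIso_naturality {B' C' : Alg R'} (f : B' ⟶ C') :
    (specOverIso a R' C').hom ≫ (specOver a).map ((Alg.restr R R').map f).op =
      (specOver (aComp a R')).map f.op ≫ (specOverIso a R' B').hom := by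
  apply Over.OverMorphism.ext
  rw [Over.comp_left, Over.comp_left, specOverIso_hom_left, specOverIso_hom_left,
    specOver_map_left', specOver_map_left', sp_restr_map]
  exact (Category.id_comp (sp f)).trans (Category.comp_id (sp f)).symm




variable (K : Precoverage Scheme.{u}) [BigSite.OSh K] {S : Scheme.{u}}
variable {R : CommRingCat.{u}} (a : Spec R ⟶ S)
variable (R' : Type u) [CommRing R'] [Algebra R R'] (M : BigSite.Mod K S)

theorem restrToMVF_key {B' C' : Alg R'} (f : B' ⟶ C') :
    M.val.presheaf.map ((specOver a).map ((Alg.restr R R').map f).op).op ≫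
        M.val.presheaf.map (specOverIso a R' C').hom.op =
      M.val.presheaf.map (specOverIso a R' B').hom.op ≫
        M.val.presheaf.map ((specOver (aComp a R')).map f.op).op := by
  have h := specOverIso_naturality a R' f
  calc M.val.presheaf.map ((specOver a).map ((Alg.restr R R').map f).op).op ≫
        M.val.presheaf.map (specOverIso a R' C').hom.op
      = M.val.presheaf.map ((specOverIso a R' C').hom ≫
          (specOver a).map ((Alg.restr R R').map f).op).op := (M.val.presheaf.map_comp _ _).symm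
    _ = M.val.presheaf.map ((specOver (aComp a R')).map f.op ≫ (specOverIso a R' B').hom).op := by
        rw [h]
    _ = _ := M.val.presheaf.map_comp _ _

/-- comparison `restr (F_{M,R}) ⟶ F_{M,R'}` on underlying presheaves -/
def restrToMVFPre :
    ((restr R R').obj ((toMVF K a).obj M)).presheaf ⟶ ((toMVF K (aComp a R')).obj M).presheaf where
  app X := M.val.presheaf.map (specOverIso a R' X.unop.unop).hom.op
  naturality := by
    intro X Y f
    exact restrToMVF_key K a R' M f.unop.unop


theorem toSect_specOverIso (B' : Alg R') (r : B') :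
    ((BigSite.ORing K S).obj.map (specOverIso a R' B').hom.op).hom
      (toSect K a ((Alg.restr R R').obj B') r) = toSect K (aComp a R') B' r := by
  apply ULift.ext
  change ((𝟙 (Spec (CommRingCat.of B')) : Spec (CommRingCat.of B') ⟶ _).appTop).hom
    ((Scheme.ΓSpecIso (CommRingCat.of B')).inv.hom r) = (Scheme.ΓSpecIso (CommRingCat.of B')).inv.hom r
  simp

/-- comparison `restr (F_{M,R}) ⟶ F_{M,R'}` -/
def restrToMVF :
    (restr R R').obj ((toMVF K a).obj M) ⟶ (toMVF K (aComp a R')).obj M :=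
  PresheafOfModules.homMk (restrToMVFPre K a R' M) (by
    intro X r m
    have h := PresheafOfModules.map_smul M.val (specOverIso a R' X.unop.unop).hom.op
      (toSect K a ((Alg.restr R R').obj X.unop.unop) r) m
    rw [toSect_specOverIso] at h
    exact h)


theorem restrToMVF_bijective (X : (Alg R')ᵒᵖᵒᵖ) :
    Function.Bijective ((restrToMVF K a R' M).app X) := by
  have : IsIso (M.val.presheaf.map (specOverIso a R' X.unop.unop).hom.op) := inferInstance
  exact ConcreteCategory.bijective_of_isIso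
    (M.val.presheaf.map (specOverIso a R' X.unop.unop).hom.op)

instance : IsIso (restrToMVF K a R' M) :=
  PshMod.isIso_of_bijective _ (restrToMVF_bijective K a R' M)

theorem adequate_toMVF_aComp_iff :
    adequate R' ((toMVF K (aComp a R')).obj M) ↔
      adequate R' ((restr R R').obj ((toMVF K a).obj M)) :=
  ⟨fun h => (adequate R').prop_of_iso (asIso (restrToMVF K a R' M)).symm h,
    fun h => (adequate R').prop_of_iso (asIso (restrToMVF K a R' M)) h⟩




variable (K : Precoverage Scheme.{u}) [BigSite.OSh K] {S : Scheme.{u}} (M : BigSite.Mod K S)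

theorem adequate_toMVF_of_family {R : CommRingCat.{u}} (a : Spec R ⟶ S)
    {ι : Type (u + 1)} [Finite ι] (A' : ι → Type u) [∀ k, CommRing (A' k)] [∀ k, Algebra R (A' k)]
    (hcov : Sieve.generate (Presieve.ofArrows (fun k => Spec (CommRingCat.of (A' k)))
      (fun k => Spec.map (CommRingCat.ofHom (algebraMap R (A' k))))) ∈ K.toGrothendieck (Spec R))
    (hk : ∀ k, adequate (A' k) ((toMVF K (aComp a (A' k))).obj M)) :
    adequate R ((toMVF K a).obj M) :=
  adequate_of_family R A' _ (fun k => (adequate_toMVF_aComp_iff K a (A' k) M).1 (hk k))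
    (toMVF_descent K a A' M hcov)

theorem adequate_toMVF_of_factor {R₀ : CommRingCat.{u}} (a₀ : Spec R₀ ⟶ S)
    (h₀ : adequate R₀ ((toMVF K a₀).obj M)) {T : CommRingCat.{u}} (χ : R₀ ⟶ T) (b : Spec T ⟶ S)
    (hb : b = Spec.map χ ≫ a₀) : adequate T ((toMVF K b).obj M) := by
  subst hb
  let _ : Algebra R₀ T := χ.hom.toAlgebra
  exact (adequate_toMVF_aComp_iff K a₀ T M).2 (adequate_restr R₀ T _ h₀)




variable (P : MorphismProperty Scheme.{u}) [P.IsStableUnderBaseChange]
  [Scheme.IsJointlySurjectivePreserving P] [P.IsStableUnderComposition]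
  [BigSite.OSh (Scheme.precoverage P)]
  (hPopen : ∀ {X Y : Scheme.{u}} (f : X ⟶ Y), P f → IsOpenMap f)
  (hPimm : ∀ {X Y : Scheme.{u}} (f : X ⟶ Y) [IsOpenImmersion f], P f)

include hPopen hPimm in
theorem adequate_toMVF_of_adequateMod {S : Scheme.{u}} (M : BigSite.Mod (Scheme.precoverage P) S)
    (hM : adequateMod (Scheme.precoverage P) S M) (R : CommRingCat.{u}) (a : Spec R ⟶ S) :
    adequate R ((toMVF (Scheme.precoverage P) a).obj M) := by
  obtain ⟨ι₀, R₀, a₀, hcov₀, hadq⟩ := hM
  -- pull the covering back to `Spec R`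
  have hmem : Presieve.ofArrows (fun i => pullback a (a₀ i)) (fun i => pullback.fst a (a₀ i)) ∈
      Scheme.precoverage P (Spec R) :=
    Precoverage.mem_coverings_of_isPullback a₀ hcov₀ a _ (fun i => pullback.snd a (a₀ i))
      (fun i => IsPullback.of_hasPullback a (a₀ i))
  let 𝒰 : (Spec R).Cover (Scheme.precoverage P) :=
    { I₀ := ι₀
      X := fun i => pullback a (a₀ i)
      f := fun i => pullback.fst a (a₀ i)
      mem₀ := hmem }
  have hqc : QuasiCompactCover 𝒰.toPreZeroHypercover :=
    QuasiCompactCover.of_isOpenMap (fun i => hPopen _ (𝒰.map_prop i))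
  obtain ⟨n, idx, V, hV, hU⟩ := QuasiCompactCover.exists_isAffineOpen_of_isCompact
    𝒰.toPreZeroHypercover (U := ⊤) isCompact_univ
  -- the finite affine refinement
  let T : Fin n → CommRingCat.{u} := fun j => Γ(𝒰.X (idx j), V j)
  let φ : ∀ j, Spec (T j) ⟶ Spec R := fun j => (hV j).fromSpec ≫ 𝒰.f (idx j)
  let ψ : ∀ j, R ⟶ T j := fun j => Spec.preimage (φ j)
  have hψ : ∀ j, Spec.map (ψ j) = φ j := fun j => Spec.map_preimage _
  let χ : ∀ j, R₀ (idx j) ⟶ T j := fun j =>
    Spec.preimage ((hV j).fromSpec ≫ pullback.snd a (a₀ (idx j)))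
  have hχ : ∀ j, Spec.map (χ j) = (hV j).fromSpec ≫ pullback.snd a (a₀ (idx j)) :=
    fun j => Spec.map_preimage _
  let A' : ULift.{u + 1} (Fin n) → Type u := fun k => T k.down
  let algI : ∀ k, Algebra R (A' k) := fun k => (ψ k.down).hom.toAlgebra
  have hmap : ∀ k : ULift.{u + 1} (Fin n),
      Spec.map (CommRingCat.ofHom (algebraMap R (A' k))) = φ k.down := fun k => hψ k.down
  have hPφ : ∀ j, P (φ j) := fun j => P.comp_mem _ _ (hPimm _) (𝒰.map_prop (idx j))
  have hsurj : ∀ x : Spec R, ∃ k : ULift.{u + 1} (Fin n), x ∈ Set.range (φ k.down) := by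
    intro x
    have hx : x ∈ ((⊤ : (Spec R).Opens) : Set (Spec R)) := trivial
    rw [← hU, Set.mem_iUnion] at hx
    obtain ⟨j, y, hy, rfl⟩ := hx
    rw [← (hV j).range_fromSpec] at hy
    obtain ⟨z, rfl⟩ := hy
    exact ⟨⟨j⟩, z, rfl⟩
  have hcov : Sieve.generate (Presieve.ofArrows (fun k => Spec (CommRingCat.of (A' k)))
      (fun k => Spec.map (CommRingCat.ofHom (algebraMap R (A' k))))) ∈
        (Scheme.precoverage P).toGrothendieck (Spec R) := by
    apply Precoverage.generate_mem_toGrothendieck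
    rw [Scheme.ofArrows_mem_precoverage_iff]
    refine ⟨fun x => ?_, fun k => ?_⟩
    · obtain ⟨k, hk⟩ := hsurj x
      exact ⟨k, by rw [hmap k]; exact hk⟩
    · rw [hmap k]
      exact hPφ k.down
  refine adequate_toMVF_of_family (Scheme.precoverage P) M a A' hcov (fun k => ?_)
  refine adequate_toMVF_of_factor (Scheme.precoverage P) M (a₀ (idx k.down)) (hadq _)
    (χ k.down) _ ?_
  change Spec.map (CommRingCat.ofHom (algebraMap R (A' k))) ≫ a = _
  rw [hmap k, hχ]
  change ((hV k.down).fromSpec ≫ pullback.fst a (a₀ (idx k.down))) ≫ a = _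
  rw [Category.assoc, Category.assoc, pullback.condition]



end

end Groth.Agent.Helper13Adeq
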