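import Groth.Agent.Lib.Helper13AdeqD

/-!
# Faithfully flat descent for adequate functors (helper13)

`ff_exact` (`M → B ⊗ M ⇉ B ⊗ B ⊗ M` is exact for faithfully flat `B`), `adequate_ff_descent`
(the two-term Cech sequence of an adequate functor along a faithfully flat algebra is exact).
Statements about the concrete functor `underline M` are phrased with `mapEl` to keep the kernel
from comparing `restrictScalars` along different maps.
-/

set_option autoImplicit false
universe u v
open CategoryTheory Limits Opposite TensorProduct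

namespace Groth.Agent.Helper13Adeq
open Adeq

section
variable (A : Type u) (B : Type u) [CommRing A] [CommRing B] [Algebra A B]
  (M : Type v) [AddCommGroup M] [Module A M]

/-- `b ⊗ (b' ⊗ m) ↦ b b' ⊗ m` -/
noncomputable def ffS : B ⊗[A] (B ⊗[A] M) →ₗ[A] B ⊗[A] M :=
  (LinearMap.rTensor M (LinearMap.mul' A B)) ∘ₗ (TensorProduct.assoc A B B M).symm.toLinearMap

/-- `b ⊗ ((b₁ ⊗ b₂) ⊗ m) ↦ b b₁ ⊗ (b₂ ⊗ m)` -/
noncomputable def ffT : B ⊗[A] ((B ⊗[A] B) ⊗[A] M) →ₗ[A] B ⊗[A] (B ⊗[A] M) :=
  (LinearMap.rTensor (B ⊗[A] M) (LinearMap.mul' A B)) ∘ₗ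
    (TensorProduct.assoc A B B (B ⊗[A] M)).symm.toLinearMap ∘ₗ
      (LinearMap.lTensor B (TensorProduct.assoc A B B M).toLinearMap)

/-- the difference of the two coface maps, tensored with `M` -/
noncomputable def ffG : B ⊗[A] M →ₗ[A] (B ⊗[A] B) ⊗[A] M :=
  LinearMap.rTensor M (Algebra.TensorProduct.includeLeftSubRight A B)

theorem ffT_comp :
    ffT A B M ∘ₗ (LinearMap.lTensor B (ffG A B M)) =
      (LinearMap.lTensor B (TensorProduct.mk A B M 1)) ∘ₗ ffS A B M - LinearMap.id := by
  ext b b' m
  simp [ffT, ffS, ffG, TensorProduct.sub_tmul, TensorProduct.tmul_sub]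

theorem ff_exact [Module.FaithfullyFlat A B] :
    Function.Exact (TensorProduct.mk A B M 1) (ffG A B M) := by
  apply Module.FaithfullyFlat.lTensor_reflects_exact A B
  intro w
  constructor
  · intro hw
    have h := LinearMap.congr_fun (ffT_comp A B M) w
    simp only [LinearMap.comp_apply, hw, map_zero, LinearMap.sub_apply, LinearMap.id_apply] at h
    exact ⟨ffS A B M w, (sub_eq_zero.1 h.symm)⟩
  · rintro ⟨z, rfl⟩
    induction z using TensorProduct.induction_on with
    | zero => simp
    | tmul b m => simp [ffG]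
    | add x y hx hy => simp only [map_add, hx, hy, add_zero]

end


section
variable {A : Type u} [CommRing A] (B : Type u) [CommRing B] [Algebra A B]

/-- the three maps of algebras of the two-term Cech complex -/
abbrev ffι : algOf A A ⟶ algOf A B := CommAlgCat.ofHom (Algebra.ofId A B)
abbrev ffL : algOf A B ⟶ algOf A (B ⊗[A] B) :=
  CommAlgCat.ofHom (Algebra.TensorProduct.includeLeft : B →ₐ[A] B ⊗[A] B)
abbrev ffR : algOf A B ⟶ algOf A (B ⊗[A] B) :=
  CommAlgCat.ofHom (Algebra.TensorProduct.includeRight : B →ₐ[A] B ⊗[A] B)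

theorem underline_ffι_eq (M : ModuleCat.{u + 1} A) (z : A ⊗[A] M) :
    mapEl ((underline A).obj M) (ffι B) z = TensorProduct.mk A B M 1 (TensorProduct.lid A M z) := by
  rw [underline_mapEl]
  induction z using TensorProduct.induction_on with
  | zero => simp
  | tmul a m =>
    simp only [LinearMap.rTensor_tmul, TensorProduct.lid_tmul, map_smul, TensorProduct.mk_apply]
    change (Algebra.ofId A B a) ⊗ₜ[A] m = a • (1 : B) ⊗ₜ[A] m
    rw [TensorProduct.smul_tmul', Algebra.ofId_apply, Algebra.algebraMap_eq_smul_one]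
  | add x y hx hy => simp only [map_add, hx, hy]

theorem underline_ffι_injective [Module.FaithfullyFlat A B] (M : ModuleCat.{u + 1} A) :
    Function.Injective (mapEl ((underline A).obj M) (ffι B)) := by
  intro x y hxy
  rw [underline_ffι_eq, underline_ffι_eq] at hxy
  exact (TensorProduct.lid A M).injective
    (Module.FaithfullyFlat.tensorProduct_mk_injective (A := A) (B := B) M hxy)

theorem underline_ff_exact [Module.FaithfullyFlat A B] (M : ModuleCat.{u + 1} A)
    (z : B ⊗[A] M)
    (hz : mapEl ((underline A).obj M) (ffL B) z = mapEl ((underline A).obj M) (ffR B) z) :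
    ∃ w : A ⊗[A] M, mapEl ((underline A).obj M) (ffι B) w = z := by
  rw [underline_mapEl, underline_mapEl] at hz
  have h0 : ffG A B M z = 0 := by
    unfold ffG Algebra.TensorProduct.includeLeftSubRight
    rw [LinearMap.rTensor_sub, LinearMap.sub_apply, sub_eq_zero]
    exact hz
  obtain ⟨m, hm⟩ := (ff_exact A B M z).1 h0
  refine ⟨(1 : A) ⊗ₜ[A] m, ?_⟩
  rw [underline_ffι_eq, TensorProduct.lid_tmul, one_smul]
  exact hm

end


section
variable {A : Type u} [CommRing A] (B : Type u) [CommRing B] [Algebra A B]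

theorem adequate_ff_descent [Module.FaithfullyFlat A B] (F : MVF A) (hF : adequate A F) :
    Function.Injective (mapEl F (ffι B)) ∧
      ∀ y : F.obj (pt (algOf A B)), mapEl F (ffL B) y = mapEl F (ffR B) y →
        ∃ x : F.obj (pt (algOf A A)), mapEl F (ffι B) x = y := by
  obtain ⟨M, N, φ, i, hi, hex⟩ := (adequate_iff F).1 hF
  constructor
  · intro x x' hxx
    apply hi (algOf A A)
    apply underline_ffι_injective B M
    rw [← app_mapEl, ← app_mapEl, hxx]
  · intro y hy
    have h1 : mapEl ((underline A).obj M) (ffL B) (i.app (pt (algOf A B)) y) =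
        mapEl ((underline A).obj M) (ffR B) (i.app (pt (algOf A B)) y) := by
      rw [← app_mapEl, ← app_mapEl, hy]
    obtain ⟨w, hw⟩ := underline_ff_exact B M _ h1
    have h2 : ((underline A).map φ).app (pt (algOf A A)) w = 0 := by
      apply underline_ffι_injective B N
      rw [← app_mapEl, hw, mapEl_zero]
      exact (hex (algOf A B) _).2 ⟨y, rfl⟩
    obtain ⟨x, rfl⟩ := (hex (algOf A A) w).1 h2
    refine ⟨x, hi (algOf A B) ?_⟩
    rw [app_mapEl, hw]

end

end Groth.Agent.Helper13Adeq
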