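import Groth.Agent.Lib.Helper13AdeqW

/-!
# Adequate modules on the big sites: kernels, affine criterion (helper13)

`toMVFKernelIso`, `adequateMod_of_forall_affine`, `adequateMod_iff_forall_affine`, `adequateMod_kernel`;
namespace `Fppf`: the same for `Scheme.fppfPrecoverage`.
-/

set_option autoImplicit false
universe u
open CategoryTheory Limits Opposite TensorProduct AlgebraicGeometry

namespace Groth.Agent.Helper13Adeq
open Adeq

noncomputable section

section general
variable (K : Precoverage Scheme.{u}) [BigSite.OSh K] {S : Scheme.{u}}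

/-- `toMVF` is left exact: the functor attached to a kernel is the kernel. -/
def toMVFKernelIso {R : CommRingCat.{u}} (a : Spec R ⟶ S) {M N : BigSite.Mod K S} (φ : M ⟶ N) :
    (toMVF K a).obj (kernel φ) ≅ kernel ((toMVF K a).map φ) := by
  let S₀ : ShortComplex (BigSite.Mod K S) := ShortComplex.mk (kernel.ι φ) φ (kernel.condition φ)
  have hS₀ : S₀.Exact := ShortComplex.exact_of_f_is_kernel _ (kernelIsKernel φ)
  have hmono : Mono S₀.f := inferInstanceAs (Mono (kernel.ι φ))
  have hS₁ : (S₀.map (SheafOfModules.forget _)).Exact :=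
    hS₀.map_of_mono_of_preservesKernel _ hmono inferInstance
  have hmono₁ : Mono ((SheafOfModules.forget _).map (kernel.ι φ)) := inferInstance
  refine PshMod.isoKernel ((toMVF K a).map (kernel.ι φ)) ((toMVF K a).map φ)
    (fun X => ?_) (fun X => ?_)
  · exact PresheafOfModules.injective_of_mono _ (op ((specOver a).obj (op X.unop.unop)))
  · exact PshMod.exact_app _ hS₁ (op ((specOver a).obj (op X.unop.unop)))

end general


section prop
variable (P : MorphismProperty Scheme.{u}) [P.IsStableUnderBaseChange]
  [Scheme.IsJointlySurjectivePreserving P] [P.IsStableUnderComposition]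
  [BigSite.OSh (Scheme.precoverage P)]
  (hPopen : ∀ {X Y : Scheme.{u}} (f : X ⟶ Y), P f → IsOpenMap f)
  (hPimm : ∀ {X Y : Scheme.{u}} (f : X ⟶ Y) [IsOpenImmersion f], P f)

include hPimm in
omit [P.IsStableUnderBaseChange] [Scheme.IsJointlySurjectivePreserving P]
  [P.IsStableUnderComposition] in
theorem adequateMod_of_forall_affine {S : Scheme.{u}} (M : BigSite.Mod (Scheme.precoverage P) S)
    (h : ∀ (R : CommRingCat.{u}) (a : Spec R ⟶ S),
      adequate R ((toMVF (Scheme.precoverage P) a).obj M)) :
    adequateMod (Scheme.precoverage P) S M := by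
  refine ⟨S.affineOpenCover.I₀, S.affineOpenCover.X, S.affineOpenCover.f, ?_, fun j => h _ _⟩
  rw [Scheme.ofArrows_mem_precoverage_iff]
  exact ⟨fun x => ⟨S.affineOpenCover.idx x, S.affineOpenCover.covers x⟩, fun j => hPimm _⟩

include hPopen hPimm in
theorem adequateMod_iff_forall_affine {S : Scheme.{u}} (M : BigSite.Mod (Scheme.precoverage P) S) :
    adequateMod (Scheme.precoverage P) S M ↔ ∀ (R : CommRingCat.{u}) (a : Spec R ⟶ S),
      adequate R ((toMVF (Scheme.precoverage P) a).obj M) :=
  ⟨fun hM R a => adequate_toMVF_of_adequateMod P hPopen hPimm M hM R a,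
    adequateMod_of_forall_affine P hPimm M⟩

include hPopen hPimm in
theorem adequateMod_kernel {S : Scheme.{u}} {M N : BigSite.Mod (Scheme.precoverage P) S}
    (φ : M ⟶ N) (hM : adequateMod (Scheme.precoverage P) S M)
    (hN : adequateMod (Scheme.precoverage P) S N) :
    adequateMod (Scheme.precoverage P) S (kernel φ) := by
  refine adequateMod_of_forall_affine P hPimm _ (fun R a => ?_)
  refine (adequate R).prop_of_iso (toMVFKernelIso (Scheme.precoverage P) a φ).symm ?_
  exact adequate_kernel _ (adequate_toMVF_of_adequateMod P hPopen hPimm M hM R a)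
    (adequate_toMVF_of_adequateMod P hPopen hPimm N hN R a)

end prop


namespace Fppf

/-- the morphism property defining the fppf precoverage -/
abbrev PP : MorphismProperty Scheme.{u} := @Flat ⊓ @LocallyOfFinitePresentation

instance : BigSite.OSh (Scheme.precoverage PP.{u}) :=
  (inferInstance : BigSite.OSh Scheme.fppfPrecoverage.{u})

theorem isOpenMap_of_PP {X Y : Scheme.{u}} (f : X ⟶ Y) (hf : PP f) : IsOpenMap f := by
  have : Flat f := hf.1
  have : LocallyOfFinitePresentation f := hf.2
  exact f.isOpenMap

theorem PP_of_isOpenImmersion {X Y : Scheme.{u}} (f : X ⟶ Y) [IsOpenImmersion f] : PP f :=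
  ⟨inferInstance, inferInstance⟩

variable {S : Scheme.{u}}

theorem adequate_toMVF (M : BigSite.Mod Scheme.fppfPrecoverage S)
    (hM : adequateMod Scheme.fppfPrecoverage S M) (R : CommRingCat.{u}) (a : Spec R ⟶ S) :
    adequate R ((toMVF Scheme.fppfPrecoverage a).obj M) :=
  adequate_toMVF_of_adequateMod PP isOpenMap_of_PP (fun f _ => PP_of_isOpenImmersion f) M hM R a

theorem adequateMod_of_forall_affine (M : BigSite.Mod Scheme.fppfPrecoverage S)
    (h : ∀ (R : CommRingCat.{u}) (a : Spec R ⟶ S),
      adequate R ((toMVF Scheme.fppfPrecoverage a).obj M)) :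
    adequateMod Scheme.fppfPrecoverage S M :=
  Helper13Adeq.adequateMod_of_forall_affine PP (fun f _ => PP_of_isOpenImmersion f) M h

theorem adequateMod_kernel {M N : BigSite.Mod Scheme.fppfPrecoverage S}
    (φ : M ⟶ N) (hM : adequateMod Scheme.fppfPrecoverage S M)
    (hN : adequateMod Scheme.fppfPrecoverage S N) :
    adequateMod Scheme.fppfPrecoverage S (kernel φ) :=
  Helper13Adeq.adequateMod_kernel PP isOpenMap_of_PP (fun f _ => PP_of_isOpenImmersion f) φ hM hN

end Fppf

end

end Groth.Agent.Helper13Adeq
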