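/-
Helper library (helper4): the punctured spectrum of a Noetherian local ring of dimension `≥ 2` is not
affine.  Algebraic core, via helper8's local cohomology library (Grothendieck non-vanishing).
-/
import Mathlib
import Groth.Agent.Lib.Helper8NV

set_option autoImplicit false
set_option linter.style.haveILetI false
universe u

open CategoryTheory IsLocalRing

namespace Groth.Agent.Lib.Helper4.PunctAffine

open Groth.Agent.Lib.Helper8.LC

/-- If `I B = B` then `H^i_I(B) = 0` for every `A`-algebra `B`. -/
theorem H_eq_zero_of_map_eq_top {A : Type u} [CommRing A] (I : Ideal A) (B : Type u) [CommRing B]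
    [Algebra A B] (htop : Ideal.map (algebraMap A B) I = ⊤) (i : ℕ)
    (x : (localCohomology I i).obj (ModuleCat.of A B)) : x = 0 := by
  obtain ⟨n, hn⟩ := isPowerTorsion_H I i (ModuleCat.of A B) x
  have htopn : Ideal.map (algebraMap A B) (I ^ n) = ⊤ := by
    rw [Ideal.map_pow, htop, Ideal.top_pow]
  have key : ∀ b ∈ Ideal.map (algebraMap A B) (I ^ n),
      (localCohomology I i).map (ModuleCat.ofHom (LinearMap.mulLeft A b)) x = 0 := by
    intro b hb
    induction hb using Submodule.span_induction with
    | mem b hb =>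
      obtain ⟨μ, hμ, rfl⟩ := hb
      have h1 : LinearMap.mulLeft A (algebraMap A B μ) = LinearMap.lsmul A B μ := by
        apply LinearMap.ext
        intro c
        simp [Algebra.smul_def]
      rw [h1, H_map_lsmul]
      exact hn μ hμ
    | zero =>
      have h1 : ModuleCat.ofHom (LinearMap.mulLeft A (0 : B)) = 0 := by
        apply ModuleCat.hom_ext
        apply LinearMap.ext
        intro c
        simp
      rw [h1]
      exact H_map_zero I i x
    | add b b' _ _ hb hb' =>
      have h1 : ModuleCat.ofHom (LinearMap.mulLeft A (b + b')) =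
          ModuleCat.ofHom (LinearMap.mulLeft A b) + ModuleCat.ofHom (LinearMap.mulLeft A b') := by
        apply ModuleCat.hom_ext
        apply LinearMap.ext
        intro c
        simp [add_mul]
      rw [h1, H_map_add, hb, hb', add_zero]
    | smul c b _ hb =>
      have h1 : ModuleCat.ofHom (LinearMap.mulLeft A (c • b)) =
          ModuleCat.ofHom (LinearMap.mulLeft A b) ≫ ModuleCat.ofHom (LinearMap.mulLeft A c) := by
        apply ModuleCat.hom_ext
        apply LinearMap.ext
        intro e
        simp
      rw [h1, CategoryTheory.Functor.map_comp, ModuleCat.comp_apply, hb, map_zero]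
  have h1 := key 1 (htopn ▸ Submodule.mem_top)
  have h2 : ModuleCat.ofHom (LinearMap.mulLeft A (1 : B)) = 𝟙 (ModuleCat.of A B) := by
    apply ModuleCat.hom_ext
    apply LinearMap.ext
    intro c
    simp
  rw [h2, CategoryTheory.Functor.map_id] at h1
  exact h1

/-- **Algebraic core.** Let `A` be a Noetherian local ring and `B` an `A`-algebra with `𝔪 B = B` such
that the kernel and the cokernel of `A → B` are `𝔪`-power torsion (as holds for
`B = Γ(U, O)`, `U` the punctured spectrum, when `U` is affine). Then `dim A ≤ 1`. -/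
theorem ringKrullDim_le_one_of_punctured_affine {A : Type u} [CommRing A] [IsNoetherianRing A]
    [IsLocalRing A] (B : Type u) [CommRing B] [Algebra A B]
    (htop : Ideal.map (algebraMap A B) (maximalIdeal A) = ⊤)
    (hker : ∀ a : A, algebraMap A B a = 0 → a ∈ DRing.torsionSub (maximalIdeal A) A)
    (hcoker : ∀ b : B, ∃ n : ℕ, ∀ t ∈ maximalIdeal A ^ n, ∃ a : A, algebraMap A B a = t • b) :
    ringKrullDim A ≤ 1 := by
  by_contra hdim
  rw [not_le] at hdim
  have hne_top : ringKrullDim A ≠ ⊤ := ringKrullDim_ne_top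
  have hne_bot : ringKrullDim A ≠ ⊥ := ringKrullDim_ne_bot
  obtain ⟨d, hd⟩ : ∃ d : ℕ, ringKrullDim A = (d : WithBot ℕ∞) := by
    obtain ⟨e, he⟩ := WithBot.ne_bot_iff_exists.mp hne_bot
    have he' : e ≠ ⊤ := by
      rintro rfl
      exact hne_top he.symm
    obtain ⟨d, rfl⟩ := ENat.ne_top_iff_exists.mp he'
    exact ⟨d, he.symm⟩
  have hd2 : 2 ≤ d := by
    rw [hd] at hdim
    have : (1 : ℕ) < d := by exact_mod_cast hdim
    omega
  obtain ⟨n, rfl⟩ : ∃ n, d = n + 2 := ⟨d - 2, by omega⟩
  have hsupp : Module.supportDim A A = ((n + 2 : ℕ) : WithBot ℕ∞) := by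
    rw [Module.supportDim_self_eq_ringKrullDim, hd]
  have hnt := Groth.Agent.Lib.Helper8.NV.nonvanishing A A (n + 2) hsupp
  obtain ⟨x, y, hxy⟩ := hnt
  -- the maps
  let φ : A →ₗ[A] B := Algebra.linearMap A B
  let φ₁ : A →ₗ[A] LinearMap.range φ := φ.rangeRestrict
  have hφ₁ : Function.Surjective φ₁ := φ.surjective_rangeRestrict
  have hK : DRing.torsionSub (maximalIdeal A) (LinearMap.ker φ₁) = ⊤ := by
    rw [eq_top_iff]
    rintro ⟨a, ha⟩ -
    have ha' : algebraMap A B a = 0 := by
      have := congrArg Subtype.val (LinearMap.mem_ker.mp ha)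
      simpa [φ₁, φ] using this
    obtain ⟨k, hk⟩ := hker a ha'
    refine ⟨k, fun t ht => ?_⟩
    apply Subtype.ext
    exact hk t ht
  have hC : DRing.torsionSub (maximalIdeal A) (B ⧸ LinearMap.range φ) = ⊤ := by
    rw [eq_top_iff]
    intro c _
    obtain ⟨b, rfl⟩ := Submodule.Quotient.mk_surjective _ c
    obtain ⟨k, hk⟩ := hcoker b
    refine ⟨k, fun t ht => ?_⟩
    obtain ⟨a, ha⟩ := hk t ht
    rw [← Submodule.Quotient.mk_smul, Submodule.Quotient.mk_eq_zero]
    exact ⟨a, ha⟩
  have hb1 := H_map_bijective_of_torsion_left (maximalIdeal A) (LinearMap.ker φ₁).subtype φ₁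
    (Submodule.injective_subtype _) hφ₁ (LinearMap.exact_subtype_ker_map φ₁) hK (n + 1)
  have hb2 := H_map_bijective_of_torsion_right (maximalIdeal A) (LinearMap.range φ).subtype
    (LinearMap.range φ).mkQ (Submodule.injective_subtype _) (Submodule.mkQ_surjective _)
    (LinearMap.exact_subtype_mkQ _) hC n
  have hzero : ∀ z : (localCohomology (maximalIdeal A) (n + 2)).obj (ModuleCat.of A A), z = 0 := by
    intro z
    apply hb1.1
    apply hb2.1
    rw [map_zero, map_zero]
    exact H_eq_zero_of_map_eq_top (maximalIdeal A) B htop (n + 2) _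
  exact hxy ((hzero x).trans (hzero y).symm)

end Groth.Agent.Lib.Helper4.PunctAffine
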