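import Mathlib
import Groth.Agent.Lib.Helper4PunctAffine2

set_option autoImplicit false
set_option linter.style.haveILetI false
universe u
open CategoryTheory AlgebraicGeometry TopologicalSpace IsLocalRing

namespace Groth.Agent.Helper13AffCodim

/-- In the spectrum of a Noetherian ring, a point in the closure of an open set is the
specialization of a point of that open set. -/
theorem exists_specializes_of_mem_closure (R : Type*) [CommRing R] [IsNoetherianRing R]
    (U : Set (PrimeSpectrum R)) (hU : IsOpen U) (P : PrimeSpectrum R) (hP : P ∈ closure U) :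
    ∃ q ∈ U, q ⤳ P := by
  classical
  have hfin : (minimalPrimes R).Finite := minimalPrimes.finite_of_isNoetherianRing R
  let S : Set (Ideal R) :=
    {p | p ∈ minimalPrimes R ∧ ∃ h : p.IsPrime, (⟨p, h⟩ : PrimeSpectrum R) ∈ U}
  have hSfin : S.Finite := hfin.subset (fun p hp => hp.1)
  let Z : Set (PrimeSpectrum R) := ⋃ p ∈ S, PrimeSpectrum.zeroLocus (p : Set R)
  have hZ : IsClosed Z := hSfin.isClosed_biUnion (fun p _ => PrimeSpectrum.isClosed_zeroLocus _)
  have hUZ : U ⊆ Z := by
    intro q hq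
    obtain ⟨p, hp, hpq⟩ := Ideal.exists_minimalPrimes_le (I := ⊥) (J := q.asIdeal) bot_le
    have hpp : p.IsPrime := hp.1.1
    have hspec : (⟨p, hpp⟩ : PrimeSpectrum R) ⤳ q :=
      (PrimeSpectrum.le_iff_specializes _ _).mp hpq
    have hpU : (⟨p, hpp⟩ : PrimeSpectrum R) ∈ U := hspec.mem_open hU hq
    exact Set.mem_biUnion (show p ∈ S from ⟨hp, hpp, hpU⟩) hpq
  have h1 := closure_minimal hUZ hZ hP
  obtain ⟨p, ⟨hp, hpp, hpU⟩, hpP⟩ := Set.mem_iUnion₂.mp h1
  exact ⟨⟨p, hpp⟩, hpU, (PrimeSpectrum.le_iff_specializes _ _).mp hpP⟩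

/-- In a locally Noetherian scheme, a point in the closure of an open is the specialization of a
point of that open. -/
theorem exists_specializes_of_mem_closure_scheme (X : Scheme.{u}) [IsLocallyNoetherian X]
    (U : X.Opens) (ξ : X) (hcl : ξ ∈ closure (U : Set X)) : ∃ y ∈ U, y ⤳ ξ := by
  obtain ⟨_, ⟨W, hW, rfl⟩, hξW, -⟩ := X.isBasis_affineOpens.exists_subset_of_mem_open
    (Set.mem_univ ξ) isOpen_univ
  haveI : IsNoetherianRing Γ(X, W) := IsLocallyNoetherian.component_noetherian ⟨W, hW⟩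
  let P : Spec Γ(X, W) := hW.primeIdealOf ⟨ξ, hξW⟩
  have hP : hW.fromSpec P = ξ := hW.fromSpec_primeIdealOf ⟨ξ, hξW⟩
  have hPcl : P ∈ closure ((hW.fromSpec ⁻¹ᵁ U : (Spec Γ(X, W)).Opens) : Set (Spec Γ(X, W))) := by
    have hopen : IsOpenMap hW.fromSpec := hW.fromSpec.isOpenEmbedding.isOpenMap
    apply hopen.preimage_closure_subset_closure_preimage
    show hW.fromSpec P ∈ closure (U : Set X)
    rw [hP]
    exact hcl
  obtain ⟨q, hqU, hqP⟩ := exists_specializes_of_mem_closure Γ(X, W) _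
    (hW.fromSpec ⁻¹ᵁ U).isOpen P hPcl
  refine ⟨hW.fromSpec q, hqU, ?_⟩
  rw [← hP]
  exact hqP.map hW.fromSpec.continuous

theorem main (X : Scheme.{u}) [IsLocallyNoetherian X]
    (U : X.Opens) [IsAffineHom U.ι] (ξ : X) (hξ : ξ ∉ U) (hgen : ∀ y : X, y ∉ U → y ⤳ ξ → y = ξ)
    (hcl : ξ ∈ closure (U : Set X)) :
    ringKrullDim (X.presheaf.stalk ξ) = 1 := by
  obtain ⟨g, hg⟩ : ∃ g : Spec (X.presheaf.stalk ξ) ⟶ X, g = X.fromSpecStalk ξ := ⟨_, rfl⟩
  have hginj : Function.Injective g := by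
    rw [hg]
    exact (X.fromSpecStalk ξ).isEmbedding.injective
  have hgc : g (closedPoint (X.presheaf.stalk ξ)) = ξ := by
    rw [hg]
    exact Scheme.fromSpecStalk_closedPoint
  have hrange : ∀ y : X, y ⤳ ξ → ∃ q, g q = y := by
    intro y hy
    have : y ∈ Set.range (X.fromSpecStalk ξ) := by
      rw [Scheme.range_fromSpecStalk]
      exact hy
    rw [hg]
    exact this
  have hgspec : ∀ q, g q ⤳ ξ := by
    intro q
    have : g q ∈ Set.range (X.fromSpecStalk ξ) := ⟨q, by rw [hg]⟩
    rw [Scheme.range_fromSpecStalk] at this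
    exact this
  -- the preimage of `U` is affine
  have haff : IsAffineOpen (g ⁻¹ᵁ U) := by
    haveI : IsAffineHom (g ⁻¹ᵁ U).ι :=
      MorphismProperty.of_isPullback (P := @IsAffineHom) (isPullback_morphismRestrict g U)
        inferInstance
    exact isAffine_of_isAffineHom (g ⁻¹ᵁ U).ι
  haveI : IsNoetherianRing (X.presheaf.stalk ξ) := inferInstance
  have hle : ringKrullDim (X.presheaf.stalk ξ) ≤ 1 := by
    refine @Groth.Agent.Lib.Helper4.PunctAffine.ringKrullDim_le_one_of_isAffineOpen_punctured_spec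
      (X.presheaf.stalk ξ) _ ‹_› _ (g ⁻¹ᵁ U) haff ?_ ?_
    · intro hmem
      apply hξ
      rw [← hgc]
      exact hmem
    · intro q hq
      by_contra hqU
      have h1 : g q = ξ := hgen (g q) hqU (hgspec q)
      exact hq (hginj (h1.trans hgc.symm))
  -- dimension at least one
  obtain ⟨y, hyU, hyξ⟩ := exists_specializes_of_mem_closure_scheme X U ξ hcl
  obtain ⟨q, hq⟩ := hrange y hyξ
  have hqne : q ≠ closedPoint (X.presheaf.stalk ξ) := by
    rintro rfl
    apply hξ
    rw [← hgc, hq]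
    exact hyU
  have hnot : ¬ ringKrullDim (X.presheaf.stalk ξ) ≤ 0 := by
    intro h0
    haveI : Ring.KrullDimLE 0 (X.presheaf.stalk ξ) := (Ring.krullDimLE_iff ..).mpr h0
    apply hqne
    apply PrimeSpectrum.ext
    haveI : q.asIdeal.IsMaximal := Ideal.isMaximal_of_isPrime q.asIdeal
    exact IsLocalRing.eq_maximalIdeal inferInstance
  apply le_antisymm hle
  by_contra hlt
  apply hnot
  rw [not_le] at hlt
  generalize ringKrullDim (X.presheaf.stalk ξ) = d at hlt ⊢
  induction d using WithBot.recBotCoe with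
  | bot => exact bot_le
  | coe n =>
    have h1 : n < 1 := by exact_mod_cast hlt
    have h2 : n = 0 := Order.lt_one_iff.mp h1
    rw [h2]
    rfl

end Groth.Agent.Helper13AffCodim
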