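import Groth.Agent.Lib.Helper12CoprodSp
import Groth.Prelude.Def_AlgSpCov

/-!
# The affine criterion for fpqc locality on the base (helper13)
-/

set_option autoImplicit false
set_option linter.style.haveILetI false
universe u
open CategoryTheory CategoryTheory.Limits AlgebraicGeometry Opposite
open AlgSp

namespace Groth.Agent.Helper13AffCrit

open Groth.Agent.S13210 Groth.Agent.Lib.Helper9 Groth.Agent.Lib.Helper12.OpenCoverSp
  Groth.Agent.Lib.Helper12.CoprodSp

variable {S : Scheme.{u}}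

/-- maps out of `h` of a disjoint union are determined by their restrictions to the members -/
lemma sigma_hom_ext {F : AlgSp.Sp S} {ι : Type u} (U : ι → Over S)
    (γ γ' : (AlgSp.yon S).obj (sigmaOver U) ⟶ F)
    (h : ∀ i, (AlgSp.yon S).map (sigmaι U i) ≫ γ = (AlgSp.yon S).map (sigmaι U i) ≫ γ') :
    γ = γ' := by
  have hsh : Presieve.IsSheaf (AlgSp.J S) F.obj := (isSheaf_iff_isSheaf_of_type _ _).1 F.property
  have h1 := hsh.isSheafFor _ (sigmaι_mem U)
  rw [Presieve.isSheafFor_arrows_iff] at h1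
  obtain ⟨t, -, ht⟩ := h1 (fun i => yEquiv (U i) F ((AlgSp.yon S).map (sigmaι U i) ≫ γ)) (by
    intro i j Z gi gj hg
    by_cases hij : i = j
    · subst hij
      rw [(cancel_mono (sigmaι U i)).1 hg]
    · haveI := isEmpty_of_sigmaι_comm U hij gi gj hg
      exact (subsingleton_of_isEmpty F Z).elim _ _)
  apply (yEquiv _ F).injective
  rw [ht (yEquiv _ F γ) (fun i => Groth.Agent.Lib.Helper12.ZarGlue.map_yEquiv _ _),
    ht (yEquiv _ F γ') (fun i => by
      rw [Groth.Agent.Lib.Helper12.ZarGlue.map_yEquiv, h i])]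

/-- `h` of a disjoint union of schemes is the coproduct of the `h`'s -/
noncomputable def isColimitSigma {ι : Type u} (U : ι → Over S) :
    IsColimit (Cofan.mk ((AlgSp.yon S).obj (sigmaOver U))
      (fun i => (AlgSp.yon S).map (sigmaι U i))) :=
  mkCofanColimit _ (fun t => (exists_sigmaDesc U (fun i => t.inj i)).choose)
    (fun t i => (exists_sigmaDesc U (fun i => t.inj i)).choose_spec i)
    (fun t m hm => sigma_hom_ext U _ _ (fun i => by
      rw [(exists_sigmaDesc U (fun i => t.inj i)).choose_spec i]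
      exact hm i))


/-- **the affine criterion for fpqc locality on the base** -/
theorem isLocalOnBase_of_affine_criterion (P : MorphismProperty (AlgSp.Sp S))
    (h1 : ∀ ⦃ι : Type u⦄ [Finite ι] (Xi Yi : ι → AlgSp.Sp S) (fi : ∀ i, Xi i ⟶ Yi i)
      (cX : Cofan Xi) (cY : Cofan Yi) (hcX : IsColimit cX) (hcY : IsColimit cY) (m : cX.pt ⟶ cY.pt),
      (∀ i, AlgSp.IsAlgSpace (Xi i)) → (∀ i, AlgSp.IsAlgSpace (Yi i)) →
      AlgSp.IsAlgSpace cX.pt → AlgSp.IsAlgSpace cY.pt →
      (∀ i, cX.inj i ≫ m = fi i ≫ cY.inj i) → (∀ i, P (fi i)) → P m)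
    (h2 : ∀ ⦃X Y : AlgSp.Sp S⦄, AlgSp.IsAlgSpace X → AlgSp.IsAlgSpace Y → ∀ (f : X ⟶ Y),
      P f ↔ ∀ (Z : Over S), IsAffine Z.left → ∀ (g : (AlgSp.yon S).obj Z ⟶ Y) (W : AlgSp.Sp S)
        (fst : W ⟶ X) (snd : W ⟶ (AlgSp.yon S).obj Z), AlgSp.IsAlgSpace W →
        IsPullback fst snd f g → P snd)
    (h3 : ∀ ⦃Z Z' : Over S⦄ (c : Z' ⟶ Z), IsAffine Z.left → IsAffine Z'.left → Surjective c.left →
      Flat c.left →
      ∀ ⦃X X' : AlgSp.Sp S⦄ (f : X ⟶ (AlgSp.yon S).obj Z) (fst : X' ⟶ X)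
        (f' : X' ⟶ (AlgSp.yon S).obj Z'),
        AlgSp.IsAlgSpace X → AlgSp.IsAlgSpace X' → IsPullback fst f' f ((AlgSp.yon S).map c) →
        P f' → P f) :
    AlgSp.IsLocalOnBase (AlgSp.IsFpqcCover (S := S)) P := by
  intro ι Y Yi g hY hYi hcov X f hX Xi p q hXi sq
  constructor
  · intro hf i
    refine (h2 (hXi i) (hYi i) (p i)).2 fun Z hZ gz W fst snd hW hpb => ?_
    exact (h2 hX hY f).1 hf Z hZ (gz ≫ g i) W (fst ≫ q i) snd hW (hpb.paste_horiz (sq i))
  · intro H
    refine (h2 hX hY f).2 fun Z hZ gz W fst snd hW hpb => ?_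
    obtain ⟨m, W', c, hW'a, hcfl, hcs, hl⟩ := hcov.2 Z hZ gz
    choose i0 l hl using hl
    -- the disjoint union of the standard covering
    have hcw : Limits.Sigma.desc (fun j : ULift.{u} (Fin m) => (c j.down).left) ≫ Z.hom =
        (sigmaOver (fun j : ULift.{u} (Fin m) => W' j.down)).hom := by
      apply Limits.Sigma.hom_ext
      intro j
      rw [Limits.Sigma.ι_desc_assoc, Over.w]
      simp [sigmaOver]
    obtain ⟨cZ, hcZdef⟩ : ∃ cZ : sigmaOver (fun j : ULift.{u} (Fin m) => W' j.down) ⟶ Z,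
        cZ = Over.homMk (Limits.Sigma.desc (fun j : ULift.{u} (Fin m) => (c j.down).left)) hcw :=
      ⟨_, rfl⟩
    have hcZ : ∀ j : ULift.{u} (Fin m),
        sigmaι (fun j : ULift.{u} (Fin m) => W' j.down) j ≫ cZ = c j.down := by
      intro j
      apply Over.OverMorphism.ext
      rw [hcZdef, Over.comp_left]
      simp only [sigmaι, Over.homMk_left]
      exact Limits.Sigma.ι_desc _ _
    have hZ'a : IsAffine (sigmaOver (fun j : ULift.{u} (Fin m) => W' j.down)).left := by
      haveI : ∀ j : ULift.{u} (Fin m), IsAffine (W' j.down).left := fun j => hW'a j.down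
      show IsAffine (∐ fun j : ULift.{u} (Fin m) => (W' j.down).left)
      infer_instance
    have hcZfl : Flat cZ.left := by
      rw [hcZdef]
      exact IsZariskiLocalAtSource.sigmaDesc (P := @Flat) (fun j => hcfl j.down)
    have hcZs : Surjective cZ.left := by
      refine ⟨fun z => ?_⟩
      obtain ⟨j, w, hw⟩ := hcs z
      refine ⟨(Limits.Sigma.ι (fun j : ULift.{u} (Fin m) => (W' j.down).left) ⟨j⟩) w, ?_⟩
      rw [hcZdef]
      show (Limits.Sigma.desc (fun j : ULift.{u} (Fin m) => (c j.down).left))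
        ((Limits.Sigma.ι (fun j : ULift.{u} (Fin m) => (W' j.down).left) ⟨j⟩) w) = z
      rw [← Scheme.Hom.comp_apply, Limits.Sigma.ι_desc]
      exact hw
    have hW'' : AlgSp.IsAlgSpace (pullback snd ((AlgSp.yon S).map cZ)) :=
      Groth.Agent.S9874.isAlgSpace_of_isPullback (AlgSp.IsAlgSpace.yon_obj Z).diag hW
        (AlgSp.IsAlgSpace.yon_obj _) (IsPullback.of_hasPullback _ _)
    refine h3 cZ hZ hZ'a hcZs hcZfl snd (pullback.fst snd ((AlgSp.yon S).map cZ))
      (pullback.snd snd ((AlgSp.yon S).map cZ)) hW hW'' (IsPullback.of_hasPullback _ _) ?_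
    -- the members
    have hXi' : ∀ j : ULift.{u} (Fin m),
        AlgSp.IsAlgSpace (pullback (p (i0 j.down)) (l j.down)) := fun j =>
      Groth.Agent.S9874.isAlgSpace_of_isPullback (hYi (i0 j.down)).diag (hXi (i0 j.down))
        (AlgSp.IsAlgSpace.yon_obj _) (IsPullback.of_hasPullback _ _)
    have hPfi : ∀ j : ULift.{u} (Fin m), P (pullback.snd (p (i0 j.down)) (l j.down)) := fun j =>
      (h2 (hXi (i0 j.down)) (hYi (i0 j.down)) (p (i0 j.down))).1 (H (i0 j.down)) (W' j.down)
        (hW'a j.down) (l j.down) _ _ _ (hXi' j) (IsPullback.of_hasPullback _ _)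
    -- the maps to `W`
    have bigj : ∀ j : ULift.{u} (Fin m),
        IsPullback (pullback.fst (p (i0 j.down)) (l j.down) ≫ q (i0 j.down))
          (pullback.snd (p (i0 j.down)) (l j.down)) f
          ((AlgSp.yon S).map (c j.down) ≫ gz) := by
      intro j
      rw [← hl j.down]
      exact (IsPullback.of_hasPullback _ _).paste_horiz (sq (i0 j.down))
    have hwr : ∀ j : ULift.{u} (Fin m),
        (pullback.fst (p (i0 j.down)) (l j.down) ≫ q (i0 j.down)) ≫ f =
          (pullback.snd (p (i0 j.down)) (l j.down) ≫ (AlgSp.yon S).map (c j.down)) ≫ gz := by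
      intro j
      rw [Category.assoc _ _ gz]
      exact (bigj j).w
    obtain ⟨r, hr⟩ : ∃ r : ∀ j : ULift.{u} (Fin m), pullback (p (i0 j.down)) (l j.down) ⟶ W,
        r = fun j => hpb.lift _ _ (hwr j) := ⟨_, rfl⟩
    have hr1 : ∀ j, r j ≫ fst = pullback.fst (p (i0 j.down)) (l j.down) ≫ q (i0 j.down) := by
      intro j; rw [hr]; exact hpb.lift_fst _ _ _
    have hr2 : ∀ j, r j ≫ snd =
        pullback.snd (p (i0 j.down)) (l j.down) ≫ (AlgSp.yon S).map (c j.down) := by
      intro j; rw [hr]; exact hpb.lift_snd _ _ _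
    have hwi : ∀ j : ULift.{u} (Fin m), r j ≫ snd =
        (pullback.snd (p (i0 j.down)) (l j.down) ≫
          (AlgSp.yon S).map (sigmaι (fun j : ULift.{u} (Fin m) => W' j.down) j)) ≫
          (AlgSp.yon S).map cZ := by
      intro j
      rw [hr2, Category.assoc, ← Functor.map_comp, hcZ]
    obtain ⟨inj, hinj⟩ : ∃ inj : ∀ j : ULift.{u} (Fin m), pullback (p (i0 j.down)) (l j.down) ⟶
        pullback snd ((AlgSp.yon S).map cZ), inj = fun j => pullback.lift _ _ (hwi j) := ⟨_, rfl⟩
    have hinj1 : ∀ j, inj j ≫ pullback.fst snd ((AlgSp.yon S).map cZ) = r j := by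
      intro j; rw [hinj]; exact pullback.lift_fst _ _ _
    have hinj2 : ∀ j, inj j ≫ pullback.snd snd ((AlgSp.yon S).map cZ) =
        pullback.snd (p (i0 j.down)) (l j.down) ≫
          (AlgSp.yon S).map (sigmaι (fun j : ULift.{u} (Fin m) => W' j.down) j) := by
      intro j; rw [hinj]; exact pullback.lift_snd _ _ _
    -- the squares
    have bigW : IsPullback (pullback.fst snd ((AlgSp.yon S).map cZ) ≫ fst)
        (pullback.snd snd ((AlgSp.yon S).map cZ)) f ((AlgSp.yon S).map cZ ≫ gz) :=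
      (IsPullback.of_hasPullback snd ((AlgSp.yon S).map cZ)).paste_horiz hpb
    have sqj : ∀ j : ULift.{u} (Fin m),
        IsPullback (inj j) (pullback.snd (p (i0 j.down)) (l j.down))
          (pullback.snd snd ((AlgSp.yon S).map cZ))
          ((AlgSp.yon S).map (sigmaι (fun j : ULift.{u} (Fin m) => W' j.down) j)) := by
      intro j
      refine IsPullback.of_right ?_ (hinj2 j) bigW
      rw [← Category.assoc, hinj1, hr1, ← Category.assoc, ← Functor.map_comp, hcZ]
      exact bigj j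
    obtain ⟨hcX⟩ := cofan_pullback _ (isColimitSigma (fun j : ULift.{u} (Fin m) => W' j.down))
      (pullback.snd snd ((AlgSp.yon S).map cZ))
      (fun j => pullback.snd (p (i0 j.down)) (l j.down)) inj (fun j => (sqj j).flip)
    exact h1 (fun j : ULift.{u} (Fin m) => pullback (p (i0 j.down)) (l j.down))
      (fun j => (AlgSp.yon S).obj (W' j.down))
      (fun j => pullback.snd (p (i0 j.down)) (l j.down))
      (Cofan.mk _ inj) (Cofan.mk _ (fun j => (AlgSp.yon S).map
        (sigmaι (fun j : ULift.{u} (Fin m) => W' j.down) j))) hcX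
      (isColimitSigma (fun j : ULift.{u} (Fin m) => W' j.down))
      (pullback.snd snd ((AlgSp.yon S).map cZ)) hXi' (fun j => AlgSp.IsAlgSpace.yon_obj _)
      hW'' (AlgSp.IsAlgSpace.yon_obj _) (fun j => hinj2 j) hPfi

end Groth.Agent.Helper13AffCrit
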