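import Mathlib

/-!
# helper13: morphisms into a scheme through affine opens; gluing along opens (pure Mathlib)

* `glue_opens` : glue morphisms `V i ⟶ Z` (opens `V i` covering `X`) agreeing on `V i ⊓ V j`.
* `toAff hU φ : V ⟶ Z` for an affine open `U ⊆ Z` and a ring map `φ : Γ(Z, U) ⟶ Γ(X, V)`;
  `ι_comp_eq_toAff`, `ι_comp_eq_of_appLE_eq`, `toAff_homOfLE`, `toAff_of_le`, `toAff_injective`,
  `le_preimage_of_ι_comp_eq`, `appLE_of_ι_comp_eq`.
* `basicOpen_appLE`, `exists_lift_basicOpen`, `hom_ext_basicOpen`.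
-/

set_option autoImplicit false
universe u

open CategoryTheory CategoryTheory.Limits AlgebraicGeometry TopologicalSpace Opposite

namespace Groth.Agent.Helper13AffMor

variable {X Z : Scheme.{u}}

/-- glue morphisms defined on an open cover by opens, compatible on pairwise intersections -/
theorem glue_opens {ι : Type*} (V : ι → X.Opens) (hV : ∀ x : X, ∃ i, x ∈ V i)
    (g : ∀ i, (V i : Scheme.{u}) ⟶ Z)
    (hg : ∀ i j, X.homOfLE (inf_le_left : V i ⊓ V j ≤ V i) ≫ g i =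
      X.homOfLE (inf_le_right : V i ⊓ V j ≤ V j) ≫ g j) :
    ∃ r : X ⟶ Z, ∀ i, (V i).ι ≫ r = g i := by
  have hcov : IsOpenCover V := by
    rw [IsOpenCover, eq_top_iff]
    intro x _
    obtain ⟨i, hi⟩ := hV x
    exact Opens.mem_iSup.2 ⟨i, hi⟩
  let 𝒰 : X.OpenCover := X.openCoverOfIsOpenCover V hcov
  refine ⟨𝒰.glueMorphisms g ?_, fun i => 𝒰.ι_glueMorphisms g _ i⟩
  intro i j
  let e : pullback (𝒰.f i) (𝒰.f j) ≅ ((V i ⊓ V j : X.Opens) : Scheme.{u}) :=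
    (isPullback_opens_inf (V i) (V j)).isoPullback.symm
  rw [← cancel_epi e.inv]
  have h1 : e.inv ≫ pullback.fst (𝒰.f i) (𝒰.f j) = X.homOfLE inf_le_left :=
    (isPullback_opens_inf (V i) (V j)).isoPullback_hom_fst
  have h2 : e.inv ≫ pullback.snd (𝒰.f i) (𝒰.f j) = X.homOfLE inf_le_right :=
    (isPullback_opens_inf (V i) (V j)).isoPullback_hom_snd
  rw [← Category.assoc, ← Category.assoc, h1, h2]
  exact hg i j

/-- the morphism `V ⟶ Z` through the affine open `U` attached to a ring map `Γ(Z, U) ⟶ Γ(X, V)` -/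
noncomputable def toAff {U : Z.Opens} (hU : IsAffineOpen U) {V : X.Opens} (φ : Γ(Z, U) ⟶ Γ(X, V)) :
    (V : Scheme.{u}) ⟶ Z :=
  V.toSpecΓ ≫ Spec.map φ ≫ hU.fromSpec

theorem ι_comp_eq_toAff {U : Z.Opens} (hU : IsAffineOpen U) {V : X.Opens} (g : X ⟶ Z)
    (hle : V ≤ g ⁻¹ᵁ U) : V.ι ≫ g = toAff hU (g.appLE U V hle) := by
  unfold toAff
  rw [Scheme.Opens.toSpecΓ_SpecMap_appLE_assoc, hU.toSpecΓ_fromSpec, Scheme.Hom.resLE_comp_ι]

/-- two morphisms agreeing on sections over an affine open agree on the preimage -/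
theorem ι_comp_eq_of_appLE_eq {U : Z.Opens} (hU : IsAffineOpen U) {V : X.Opens} (g g' : X ⟶ Z)
    (hle : V ≤ g ⁻¹ᵁ U) (hle' : V ≤ g' ⁻¹ᵁ U) (h : g.appLE U V hle = g'.appLE U V hle') :
    V.ι ≫ g = V.ι ≫ g' := by
  rw [ι_comp_eq_toAff hU g hle, ι_comp_eq_toAff hU g' hle', h]

theorem toAff_homOfLE {U : Z.Opens} (hU : IsAffineOpen U) {V V' : X.Opens} (h : V' ≤ V)
    (φ : Γ(Z, U) ⟶ Γ(X, V)) :
    X.homOfLE h ≫ toAff hU φ = toAff hU (φ ≫ X.presheaf.map (homOfLE h).op) := by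
  unfold toAff
  rw [Spec.map_comp, Category.assoc, ← Scheme.Opens.toSpecΓ_SpecMap_presheaf_map_assoc]

theorem toAff_of_le {U U' : Z.Opens} (hU : IsAffineOpen U) (hU' : IsAffineOpen U') (h : U' ≤ U)
    {V : X.Opens} (φ' : Γ(Z, U') ⟶ Γ(X, V)) :
    toAff hU (Z.presheaf.map (homOfLE h).op ≫ φ') = toAff hU' φ' := by
  unfold toAff
  rw [Spec.map_comp, Category.assoc, hU.map_fromSpec hU']

theorem range_toAff_subset {U : Z.Opens} (hU : IsAffineOpen U) {V : X.Opens} (φ : Γ(Z, U) ⟶ Γ(X, V))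
    (x : (V : Scheme.{u})) : (toAff hU φ) x ∈ U := by
  unfold toAff
  have : (V.toSpecΓ ≫ Spec.map φ ≫ hU.fromSpec) x = hU.fromSpec ((V.toSpecΓ ≫ Spec.map φ) x) := by
    simp
  rw [this]
  have h2 := hU.range_fromSpec
  have h3 : hU.fromSpec ((V.toSpecΓ ≫ Spec.map φ) x) ∈ Set.range hU.fromSpec := ⟨_, rfl⟩
  rw [h2] at h3
  exact h3

theorem toSpecΓ_SpecMap_injective {V : X.Opens} {B : CommRingCat.{u}} (φ φ' : B ⟶ Γ(X, V))
    (h : V.toSpecΓ ≫ Spec.map φ = V.toSpecΓ ≫ Spec.map φ') : φ = φ' := by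
  have h1 := congrArg Scheme.Hom.appTop h
  rw [Scheme.Hom.comp_appTop, Scheme.Hom.comp_appTop, Scheme.Opens.toSpecΓ_appTop] at h1
  have h2 : ∀ ψ : B ⟶ Γ(X, V), (Spec.map ψ).appTop = (Scheme.ΓSpecIso B).hom ≫ ψ ≫ (Scheme.ΓSpecIso _).inv := by
    intro ψ
    rw [← Category.assoc, ← Scheme.ΓSpecIso_naturality, Category.assoc, Iso.hom_inv_id, Category.comp_id]
  rw [h2, h2] at h1
  simp only [Category.assoc, Iso.inv_hom_id_assoc] at h1
  rw [cancel_epi] at h1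
  exact (cancel_mono _).1 h1

theorem toAff_injective {U : Z.Opens} (hU : IsAffineOpen U) {V : X.Opens} (φ φ' : Γ(Z, U) ⟶ Γ(X, V))
    (h : toAff hU φ = toAff hU φ') : φ = φ' := by
  unfold toAff at h
  rw [← Category.assoc, ← Category.assoc, cancel_mono] at h
  exact toSpecΓ_SpecMap_injective φ φ' h

theorem le_preimage_of_ι_comp_eq {U : Z.Opens} (hU : IsAffineOpen U) {V : X.Opens} (g : X ⟶ Z)
    (φ : Γ(Z, U) ⟶ Γ(X, V)) (h : V.ι ≫ g = toAff hU φ) : V ≤ g ⁻¹ᵁ U := by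
  intro x hx
  have h1 : g x = (V.ι ≫ g) ⟨x, hx⟩ := by simp
  change g x ∈ U
  rw [h1, h]
  exact range_toAff_subset hU φ _

theorem appLE_of_ι_comp_eq {U : Z.Opens} (hU : IsAffineOpen U) {V : X.Opens} (g : X ⟶ Z)
    (φ : Γ(Z, U) ⟶ Γ(X, V)) (h : V.ι ≫ g = toAff hU φ) :
    g.appLE U V (le_preimage_of_ι_comp_eq hU g φ h) = φ := by
  apply toAff_injective hU
  rw [← ι_comp_eq_toAff hU g, h]

theorem basicOpen_appLE (g : X ⟶ Z) {U : Z.Opens} {V : X.Opens} (hle : V ≤ g ⁻¹ᵁ U) (h : Γ(Z, U)) :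
    X.basicOpen (g.appLE U V hle h) = V ⊓ g ⁻¹ᵁ (Z.basicOpen h) := by
  rw [Scheme.Hom.appLE, CommRingCat.comp_apply, Scheme.basicOpen_res, Scheme.preimage_basicOpen]

/-- ring maps out of the sections over a basic open of an affine open -/
theorem exists_lift_basicOpen {U : Z.Opens} (hU : IsAffineOpen U) (h : Γ(Z, U)) {W : Z.Opens}
    (hW : W = Z.basicOpen h) (hWU : W ≤ U) {B : CommRingCat.{u}} (α : Γ(Z, U) ⟶ B) (hα : IsUnit (α h)) :
    ∃ α' : Γ(Z, W) ⟶ B, Z.presheaf.map (homOfLE hWU).op ≫ α' = α := by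
  subst hW
  haveI := hU.isLocalization_basicOpen h
  refine ⟨CommRingCat.ofHom (IsLocalization.Away.lift (S := Γ(Z, Z.basicOpen h)) h (g := α.hom) hα), ?_⟩
  ext x
  rw [CommRingCat.comp_apply]
  exact IsLocalization.Away.lift_eq h hα x

theorem hom_ext_basicOpen {U : Z.Opens} (hU : IsAffineOpen U) (h : Γ(Z, U)) {W : Z.Opens}
    (hW : W = Z.basicOpen h) (hWU : W ≤ U) {B : CommRingCat.{u}} (α' β' : Γ(Z, W) ⟶ B)
    (hαβ : Z.presheaf.map (homOfLE hWU).op ≫ α' = Z.presheaf.map (homOfLE hWU).op ≫ β') : α' = β' := by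
  subst hW
  haveI := hU.isLocalization_basicOpen h
  ext1
  apply IsLocalization.ringHom_ext (Submonoid.powers h)
  have := congrArg CommRingCat.Hom.hom hαβ
  exact this

end Groth.Agent.Helper13AffMor
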