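/-
Helper library (helper4): global sections of a normal integral scheme are integrally closed in the
function field.
-/
import Groth.Agent.Lib.Helper4NormIso

set_option autoImplicit false
set_option linter.style.haveILetI false
universe u

open AlgebraicGeometry CategoryTheory

namespace Groth.Agent.Lib.Helper4.NormGlobal

/-- Global sections of a normal integral scheme are integrally closed in the function field. -/
theorem isIntegrallyClosedIn_top_functionField (X : Scheme.{u}) [IsIntegral X]
    (hX : Pi1.IsNormalScheme X) :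
    haveI : Nonempty (⊤ : X.Opens) := ⟨⟨Classical.arbitrary X, trivial⟩⟩
    IsIntegrallyClosedIn Γ(X, ⊤) X.functionField := by
  haveI hne : Nonempty (⊤ : X.Opens) := ⟨⟨Classical.arbitrary X, trivial⟩⟩
  have hinj : Function.Injective (algebraMap Γ(X, ⊤) X.functionField) :=
    X.germToFunctionField_injective ⊤
  haveI : FaithfulSMul Γ(X, ⊤) X.functionField :=
    (faithfulSMul_iff_algebraMap_injective _ _).mpr hinj
  rw [isIntegrallyClosedIn_iff]
  refine ⟨hinj, fun {x} hx => ?_⟩
  -- local sections over the nonempty affine opens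
  have hloc : ∀ W : X.Opens, IsAffineOpen W → ∀ hW : Nonempty W,
      ∃ s : Γ(X, W), (X.germToFunctionField W).hom s = x := by
    intro W hWa hW
    haveI : IsDomain Γ(X, W) := IsIntegral.component_integral W
    haveI := Groth.Agent.Lib.Helper4.NormIso.isIntegrallyClosed_sections hX W hWa
    haveI := functionField_isFractionRing_of_isAffineOpen X W hWa
    have hx' : IsIntegral Γ(X, W) x := by
      letI : Algebra Γ(X, ⊤) Γ(X, W) := (X.presheaf.map (homOfLE le_top).op).hom.toAlgebra
      haveI : IsScalarTower Γ(X, ⊤) Γ(X, W) X.functionField :=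
        IsScalarTower.of_algebraMap_eq' (by
          simp only [RingHom.algebraMap_toAlgebra]
          rw [← CommRingCat.hom_comp, X.presheaf.germ_res])
      exact hx.tower_top
    exact (IsIntegrallyClosed.isIntegral_iff (R := Γ(X, W)) (K := X.functionField)).mp hx'
  -- glue
  let ι := {W : X.affineOpens // Nonempty W.1}
  let U : ι → X.Opens := fun W => W.1.1
  choose! sf hsf using fun W : ι => hloc W.1.1 W.1.2 W.2
  have hcompat : TopCat.Presheaf.IsCompatible X.presheaf U sf := by
    intro i j
    by_cases hij : Nonempty (U i ⊓ U j : X.Opens)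
    · apply X.germToFunctionField_injective (U i ⊓ U j)
      haveI := i.2
      haveI := j.2
      have h1 : (X.germToFunctionField (U i ⊓ U j)).hom
          ((X.presheaf.map (TopologicalSpace.Opens.infLELeft (U i) (U j)).op).hom (sf i)) =
          (X.germToFunctionField (U i)).hom (sf i) := by
        rw [← CommRingCat.comp_apply, X.presheaf.germ_res]
      have h2 : (X.germToFunctionField (U i ⊓ U j)).hom
          ((X.presheaf.map (TopologicalSpace.Opens.infLERight (U i) (U j)).op).hom (sf j)) =
          (X.germToFunctionField (U j)).hom (sf j) := by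
        rw [← CommRingCat.comp_apply, X.presheaf.germ_res]
      exact h1.trans ((hsf i).trans ((hsf j).symm.trans h2.symm))
    · have h0 : U i ⊓ U j = ⊥ := by
        ext y
        simp only [TopologicalSpace.Opens.coe_bot, Set.mem_empty_iff_false, iff_false]
        exact fun hy => hij ⟨⟨y, hy⟩⟩
      haveI : Subsingleton Γ(X, U i ⊓ U j) := by
        rw [h0]; infer_instance
      exact Subsingleton.elim _ _
  have hcover : (⊤ : X.Opens) ≤ iSup U := by
    intro y _
    obtain ⟨_, ⟨W, hW, rfl⟩, hyW, -⟩ := X.isBasis_affineOpens.exists_subset_of_mem_open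
      (Set.mem_univ y) isOpen_univ
    exact TopologicalSpace.Opens.mem_iSup.mpr ⟨⟨⟨W, hW⟩, ⟨⟨y, hyW⟩⟩⟩, hyW⟩
  obtain ⟨s, hs, -⟩ := X.sheaf.existsUnique_gluing' U ⊤ (fun i => homOfLE le_top) hcover sf hcompat
  refine ⟨s, ?_⟩
  obtain ⟨_, ⟨W, hW, rfl⟩, hyW, -⟩ := X.isBasis_affineOpens.exists_subset_of_mem_open
    (Set.mem_univ (Classical.arbitrary X)) isOpen_univ
  let i : ι := ⟨⟨W, hW⟩, ⟨⟨_, hyW⟩⟩⟩
  haveI := i.2
  have h3 := hs i
  have h4 : (X.germToFunctionField W).hom
      ((X.presheaf.map (homOfLE le_top : W ⟶ ⊤).op).hom s) =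
      (X.germToFunctionField ⊤).hom s :=
    X.presheaf.germ_res_apply (homOfLE le_top) _ _ s
  exact h4.symm.trans ((congrArg (X.germToFunctionField W).hom h3).trans (hsf i))

end Groth.Agent.Lib.Helper4.NormGlobal
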