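import Mathlib
import Groth.Prelude.Def_Curv2
import Groth.Prelude.Def_Found
import Groth.Agent.Lib.Helper6Stein
import Groth.Agent.Lib.Helper4NormGlobal
import Groth.Agent.Lib.Helper11GenFlat
import Groth.Agent.Lib.Helper28RegLoc
import Groth.Agent.Lib.Helper13AusBuchUFD

/-!
# Regular alterations: N-1 and generic regularity (helper13)
-/

set_option autoImplicit false
universe u
open CategoryTheory CategoryTheory.Limits AlgebraicGeometry TensorProduct IsLocalRing

namespace Groth.Agent.Helper13Alter

/-- a regular scheme is normal -/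
theorem isNormalScheme_of_regular (X : Scheme.{u})
    (hreg : ∀ x : X, IsRegularLocalRing (X.presheaf.stalk x)) : Pi1.IsNormalScheme X := by
  intro x
  haveI := hreg x
  haveI : IsDomain (X.presheaf.stalk x) := Groth.Agent.Lib.Helper5.isDomain_of_isRegularLocalRing _
  haveI : UniqueFactorizationMonoid (X.presheaf.stalk x) :=
    Groth.Agent.Helper13AusBuch.ufd_of_isRegularLocalRing _
  exact ⟨inferInstance, inferInstance⟩

/-- the regular locus of the target of a surjective finite-type morphism from a regular scheme to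
an integral affine Noetherian scheme contains a nonempty open -/
theorem exists_regular_open (A : Type u) [CommRing A] [IsDomain A] [IsNoetherianRing A]
    (X : Scheme.{u}) (f : X ⟶ Spec (CommRingCat.of A)) [LocallyOfFiniteType f] [QuasiCompact f]
    (hsurj : Function.Surjective f)
    (hreg : ∀ x : X, IsRegularLocalRing (X.presheaf.stalk x)) :
    ∃ U : (Spec (CommRingCat.of A)).Opens, (U : Set (Spec (CommRingCat.of A))).Nonempty ∧
      ∀ y ∈ U, IsRegularLocalRing ((Spec (CommRingCat.of A)).presheaf.stalk y) := by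
  haveI : IsDomain Γ(Spec (CommRingCat.of A), ⊤) :=
    (Scheme.ΓSpecIso (CommRingCat.of A)).commRingCatIsoToRingEquiv.toMulEquiv.isDomain _
  obtain ⟨a, ha0, ha⟩ := Groth.Agent.Lib.Helper11GenFlat.exists_flat_stalkMap f ⊤
    (isAffineOpen_top _)
  refine ⟨(Spec (CommRingCat.of A)).basicOpen a, ?_, ?_⟩
  · by_contra hne
    apply ha0
    rw [← AlgebraicGeometry.basicOpen_eq_bot_iff]
    ext z
    simp only [TopologicalSpace.Opens.coe_bot, Set.mem_empty_iff_false, iff_false]
    exact fun hz => hne ⟨z, hz⟩
  · intro y hy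
    obtain ⟨x, rfl⟩ := hsurj y
    have hflat := ha x hy
    haveI := hreg x
    letI := (f.stalkMap x).hom.toAlgebra
    haveI : Module.Flat ((Spec (CommRingCat.of A)).presheaf.stalk (f x)) (X.presheaf.stalk x) :=
      hflat
    haveI : IsLocalHom (algebraMap ((Spec (CommRingCat.of A)).presheaf.stalk (f x))
        (X.presheaf.stalk x)) :=
      inferInstanceAs (IsLocalHom (f.stalkMap x).hom)
    exact Groth.Agent.Lib.Helper28.isRegularLocalRing_of_flat_of_isLocalHom _ (X.presheaf.stalk x)

/-- the global sections map `A → Γ(X, ⊤)` -/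
noncomputable def φc (A : Type u) [CommRing A] {X : Scheme.{u}} (f : X ⟶ Spec (CommRingCat.of A)) :
    CommRingCat.of A ⟶ Γ(X, ⊤) :=
  (Scheme.ΓSpecIso (CommRingCat.of A)).inv ≫ f.appTop

/-- `Γ(X, ⊤)` as an `A`-algebra -/
noncomputable abbrev algC (A : Type u) [CommRing A] {X : Scheme.{u}}
    (f : X ⟶ Spec (CommRingCat.of A)) : Algebra A Γ(X, ⊤) := (φc A f).hom.toAlgebra

theorem injective_algC (A : Type u) [CommRing A] [IsDomain A] {X : Scheme.{u}}
    (f : X ⟶ Spec (CommRingCat.of A)) [IsDominant f] [QuasiCompact f] :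
    Function.Injective (@algebraMap A Γ(X, ⊤) _ _ (algC A f)) := by
  haveI : IsSchemeTheoreticallyDominant f := IsSchemeTheoreticallyDominant.of_isDominant f
  have h1 : Function.Injective f.appTop.hom := f.app_injective ⊤
  have h2 : Function.Injective (Scheme.ΓSpecIso (CommRingCat.of A)).inv.hom :=
    (ConcreteCategory.bijective_of_isIso (Scheme.ΓSpecIso (CommRingCat.of A)).inv).1
  exact h1.comp h2

/-- Key: elements of `Frac A` integral over `A` come from global sections of a normal integral
scheme dominating `Spec A`. -/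
theorem exists_section_of_isIntegral (A : Type u) [CommRing A] [IsDomain A]
    {X : Scheme.{u}} [IsIntegral X] (f : X ⟶ Spec (CommRingCat.of A)) [IsDominant f]
    [QuasiCompact f] (hX : Pi1.IsNormalScheme X) :
    letI := algC A f
    haveI : Nonempty (⊤ : X.Opens) := ⟨⟨Classical.arbitrary X, trivial⟩⟩
    ∃ ψ : FractionRing A →+* X.functionField,
      (∀ a : A, ψ (algebraMap A (FractionRing A) a) =
        algebraMap Γ(X, ⊤) X.functionField (algebraMap A Γ(X, ⊤) a)) ∧
      ∀ x : FractionRing A, IsIntegral A x →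
        ∃ c : Γ(X, ⊤), algebraMap Γ(X, ⊤) X.functionField c = ψ x := by
  letI := algC A f
  haveI : Nonempty (⊤ : X.Opens) := ⟨⟨Classical.arbitrary X, trivial⟩⟩
  have hinjC : Function.Injective (algebraMap Γ(X, ⊤) X.functionField) :=
    X.germToFunctionField_injective ⊤
  have hinj : Function.Injective
      ((algebraMap Γ(X, ⊤) X.functionField).comp (algebraMap A Γ(X, ⊤))) :=
    hinjC.comp (injective_algC A f)
  let ψ : FractionRing A →+* X.functionField := IsFractionRing.lift hinj
  have hψ : ∀ a : A, ψ (algebraMap A (FractionRing A) a) =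
      algebraMap Γ(X, ⊤) X.functionField (algebraMap A Γ(X, ⊤) a) :=
    fun a => IsFractionRing.lift_algebraMap hinj a
  refine ⟨ψ, hψ, ?_⟩
  intro x hx
  have hic := Groth.Agent.Lib.Helper4.NormGlobal.isIntegrallyClosedIn_top_functionField X hX
  rw [isIntegrallyClosedIn_iff] at hic
  apply hic.2
  -- ψ x is integral over Γ(X, ⊤)
  obtain ⟨p, hp, hpx⟩ := hx
  refine ⟨p.map (algebraMap A Γ(X, ⊤)), hp.map _, ?_⟩
  rw [Polynomial.eval₂_map]
  have h1 : (algebraMap Γ(X, ⊤) X.functionField).comp (algebraMap A Γ(X, ⊤)) =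
      ψ.comp (algebraMap A (FractionRing A)) := by
    ext a
    exact (hψ a).symm
  rw [h1, ← Polynomial.hom_eval₂, hpx, map_zero]

theorem isN1_of_proper_normal (A : Type u) [CommRing A] [IsDomain A] [IsNoetherianRing A]
    {X : Scheme.{u}} [IsIntegral X] (f : X ⟶ Spec (CommRingCat.of A)) [IsProper f] [IsDominant f]
    (hX : Pi1.IsNormalScheme X) : CAlg.IsN1 A := by
  letI := algC A f
  haveI : Module.Finite A Γ(X, ⊤) := Groth.Agent.Lib.Helper6.Stein.finite_toGlobal A X f
  haveI : Nonempty (⊤ : X.Opens) := ⟨⟨Classical.arbitrary X, trivial⟩⟩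
  obtain ⟨ψ, hψ, hkey⟩ := exists_section_of_isIntegral A f hX
  letI : Algebra A X.functionField :=
    ((algebraMap Γ(X, ⊤) X.functionField).comp (algebraMap A Γ(X, ⊤))).toAlgebra
  haveI : IsScalarTower A Γ(X, ⊤) X.functionField := .of_algebraMap_eq (fun _ => rfl)
  let g : Γ(X, ⊤) →ₗ[A] X.functionField :=
    (IsScalarTower.toAlgHom A Γ(X, ⊤) X.functionField).toLinearMap
  let ψl : FractionRing A →ₗ[A] X.functionField :=
    { toFun := ψ
      map_add' := map_add ψ
      map_smul' := fun a x => by
        rw [Algebra.smul_def, map_mul, hψ, RingHom.id_apply, Algebra.smul_def]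
        rfl }
  let h : integralClosure A (FractionRing A) →ₗ[A] X.functionField :=
    ψl.comp (integralClosure A (FractionRing A)).val.toLinearMap
  have hinj : Function.Injective h := by
    intro x y hxy
    exact Subtype.ext (ψ.injective hxy)
  have hle : LinearMap.range h ≤ LinearMap.range g := by
    rintro _ ⟨x, rfl⟩
    obtain ⟨c, hc⟩ := hkey x.1 x.2
    exact ⟨c, hc⟩
  haveI : IsNoetherian A (LinearMap.range g) :=
    isNoetherian_range g
  haveI : IsNoetherian A (LinearMap.range h) := isNoetherian_of_le hle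
  exact Module.Finite.equiv (LinearEquiv.ofInjective h hinj).symm

/-- **S1600.** A Noetherian domain admitting a regular alteration is N-1 and generically regular. -/
theorem alteration_main (A : Type u) [CommRing A] [IsDomain A] [IsNoetherianRing A]
    (X : Scheme.{u}) (f : X ⟶ Spec (CommRingCat.of A)) (hf : Curv2.IsAlteration f)
    (hreg : ∀ x : X, IsRegularLocalRing (X.presheaf.stalk x)) :
    CAlg.IsN1 A ∧ ∃ U : (Spec (CommRingCat.of A)).Opens,
      (U : Set (Spec (CommRingCat.of A))).Nonempty ∧
      ∀ y ∈ U, IsRegularLocalRing ((Spec (CommRingCat.of A)).presheaf.stalk y) := by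
  obtain ⟨hprop, hintX, hintY, hdom, -⟩ := hf
  haveI := hprop
  haveI := hintX
  haveI := hdom
  refine ⟨isN1_of_proper_normal A f (isNormalScheme_of_regular X hreg),
    exists_regular_open A X f ?_ hreg⟩
  exact (surjective_of_isDominant_of_isClosed_range f (f.isClosedMap.isClosed_range)).surj

end Groth.Agent.Helper13Alter
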