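import Groth.Agent.Lib.Helper19ComplDim
import Mathlib.RingTheory.Flat.FaithfullyFlat.Algebra
import Mathlib.RingTheory.Ideal.GoingDown

/-!
# Dimension and regularity of the `I`-adic completion of a Noetherian local ring (helper19)
-/

set_option autoImplicit false
universe u

open IsLocalRing

namespace Groth.Agent.Lib.Helper19

section General

variable {A B : Type u} [CommRing A] [CommRing B] [IsLocalRing A] [IsLocalRing B]
  [IsNoetherianRing A] [IsNoetherianRing B] [Algebra A B]

/-- For a flat local extension with `m_B = m_A B` the dimensions agree. -/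
theorem ringKrullDim_eq_of_flat_of_map_eq [Module.Flat A B]
    (hmap : maximalIdeal B = (maximalIdeal A).map (algebraMap A B)) :
    ringKrullDim B = ringKrullDim A := by
  haveI hloc : IsLocalHom (algebraMap A B) := by
    apply ((IsLocalRing.local_hom_TFAE (algebraMap A B)).out 0 2).mpr
    rw [hmap]
  haveI : (maximalIdeal B).LiesOver (maximalIdeal A) :=
    ⟨(IsLocalRing.maximalIdeal_comap (algebraMap A B)).symm⟩
  have h := Ideal.height_eq_height_add_of_liesOver_of_hasGoingDown (maximalIdeal A) (maximalIdeal B)
  have hne : (maximalIdeal A).map (algebraMap A B) ≠ ⊤ := by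
    rw [← hmap]; exact Ideal.IsPrime.ne_top'
  haveI : Nontrivial (B ⧸ (maximalIdeal A).map (algebraMap A B)) :=
    Ideal.Quotient.nontrivial_iff.2 hne
  have h0 : ((maximalIdeal B).map
      (Ideal.Quotient.mk ((maximalIdeal A).map (algebraMap A B)))).height = 0 := by
    have : (maximalIdeal B).map
      (Ideal.Quotient.mk ((maximalIdeal A).map (algebraMap A B))) = ⊥ := by
      conv_lhs => rw [hmap]
      exact Ideal.map_quotient_self _
    rw [this, Ideal.height_bot]
  rw [h0, add_zero] at h
  rw [← IsLocalRing.maximalIdeal_height_eq_ringKrullDim, ← IsLocalRing.maximalIdeal_height_eq_ringKrullDim, h]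

/-- For a flat local extension with `m_B = m_A B` and trivial residue field extension the embedding
dimensions agree. -/
theorem spanFinrank_maximalIdeal_eq_of_flat_of_map_eq [Module.Flat A B]
    (hmap : maximalIdeal B = (maximalIdeal A).map (algebraMap A B))
    (hres : ∀ b : B, ∃ a : A, b - algebraMap A B a ∈ maximalIdeal B) :
    (maximalIdeal B).spanFinrank = (maximalIdeal A).spanFinrank := by
  haveI hloc : IsLocalHom (algebraMap A B) := by
    apply ((IsLocalRing.local_hom_TFAE (algebraMap A B)).out 0 2).mpr
    rw [hmap]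
  haveI : Module.FaithfullyFlat A B := Module.FaithfullyFlat.of_flat_of_isLocalHom
  have comapeq := IsLocalRing.maximalIdeal_comap (algebraMap A B)
  let f := Ideal.mapCotangent (maximalIdeal A) (maximalIdeal B) (Algebra.ofId A B)
    (le_of_eq comapeq.symm)
  have hsq : maximalIdeal B ^ 2 = (maximalIdeal A ^ 2).map (algebraMap A B) := by
    rw [hmap, Ideal.map_pow]
  have inj : Function.Injective f := by
    rw [← LinearMap.ker_eq_bot, LinearMap.ker_eq_bot']
    intro m hm
    rcases Ideal.toCotangent_surjective _ m with ⟨m', rfl⟩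
    rw [Ideal.mapCotangent_toCotangent, Ideal.toCotangent_eq_zero, hsq] at hm
    rw [Ideal.toCotangent_eq_zero]
    have h1 : (m' : A) ∈ ((maximalIdeal A ^ 2).map (algebraMap A B)).comap (algebraMap A B) := hm
    rwa [Ideal.comap_map_eq_self_of_faithfullyFlat] at h1
  have surj : Function.Surjective f := by
    intro m
    rcases Ideal.toCotangent_surjective _ m with ⟨m', rfl⟩
    -- approximate `m'` by an element of `A`
    have key : ∀ x ∈ (maximalIdeal A).map (algebraMap A B),
        ∃ l ∈ maximalIdeal A, algebraMap A B l - x ∈ maximalIdeal B ^ 2 := by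
      intro x hx
      refine Submodule.span_induction ?_ ?_ ?_ ?_ hx
      · rintro _ ⟨a, ha, rfl⟩
        exact ⟨a, ha, by rw [sub_self]; exact Ideal.zero_mem _⟩
      · exact ⟨0, Ideal.zero_mem _, by simp⟩
      · rintro x y _ _ ⟨l, hl, hlx⟩ ⟨l', hl', hly⟩
        refine ⟨l + l', Ideal.add_mem _ hl hl', ?_⟩
        have : algebraMap A B (l + l') - (x + y) = (algebraMap A B l - x) + (algebraMap A B l' - y) := by
          rw [map_add]; ring
        rw [this]
        exact Ideal.add_mem _ hlx hly
      · rintro b x _ ⟨l, hl, hlx⟩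
        obtain ⟨c, hc⟩ := hres b
        refine ⟨c * l, Ideal.mul_mem_left _ _ hl, ?_⟩
        have hιl : algebraMap A B l ∈ maximalIdeal B := by
          rw [hmap]; exact Ideal.mem_map_of_mem _ hl
        have : algebraMap A B (c * l) - b • x =
            b * (algebraMap A B l - x) - (b - algebraMap A B c) * algebraMap A B l := by
          rw [map_mul, smul_eq_mul]; ring
        rw [this]
        refine Ideal.sub_mem _ (Ideal.mul_mem_left _ _ hlx) ?_
        rw [pow_two]
        exact Ideal.mul_mem_mul hc hιl
    obtain ⟨l, hl, hlm⟩ := key m'.1 (by rw [← hmap]; exact m'.2)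
    refine ⟨(maximalIdeal A).toCotangent ⟨l, hl⟩, ?_⟩
    rw [Ideal.mapCotangent_toCotangent, Ideal.toCotangent_eq]
    exact hlm
  have hresbij : Function.Bijective (IsLocalRing.ResidueField.map (algebraMap A B)) := by
    refine ⟨RingHom.injective _, fun x => ?_⟩
    obtain ⟨b, rfl⟩ := IsLocalRing.residue_surjective x
    obtain ⟨a, ha⟩ := hres b
    refine ⟨IsLocalRing.residue A a, ?_⟩
    rw [IsLocalRing.ResidueField.map_residue]
    exact ((Ideal.Quotient.mk_eq_mk_iff_sub_mem _ _).2 ha).symm
  have rkeq := rank_eq_of_equiv_equiv _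
    (LinearEquiv.ofBijective f ⟨inj, surj⟩).toAddEquiv hresbij (fun r m ↦ by
      rcases IsLocalRing.residue_surjective r with ⟨s, rfl⟩
      rw [IsLocalRing.ResidueField.map_residue]
      change f (s • m) = (algebraMap A B s) • f m
      rw [map_smul, algebraMap_smul])
  rw [IsLocalRing.spanFinrank_maximalIdeal_eq_finrank_cotangentSpace,
    IsLocalRing.spanFinrank_maximalIdeal_eq_finrank_cotangentSpace, eq_comm]
  simp [Module.finrank, CotangentSpace, rkeq]

theorem isRegularLocalRing_iff_of_flat_of_map_eq [Module.Flat A B]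
    (hmap : maximalIdeal B = (maximalIdeal A).map (algebraMap A B))
    (hres : ∀ b : B, ∃ a : A, b - algebraMap A B a ∈ maximalIdeal B) :
    IsRegularLocalRing A ↔ IsRegularLocalRing B := by
  rw [isRegularLocalRing_iff, isRegularLocalRing_iff,
    spanFinrank_maximalIdeal_eq_of_flat_of_map_eq hmap hres,
    ringKrullDim_eq_of_flat_of_map_eq hmap]

end General

section Adic

variable (A : Type u) [CommRing A] [IsLocalRing A] [IsNoetherianRing A] (I : Ideal A)

/-- Every element of the completion is congruent to an element of `A` modulo `I`. -/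
lemma exists_sub_algebraMap_mem_map (b : AdicCompletion I A) :
    ∃ a : A, b - algebraMap A (AdicCompletion I A) a ∈ I.map (algebraMap A (AdicCompletion I A)) := by
  have fg : I.FG := IsNoetherian.noetherian I
  obtain ⟨a, ha⟩ := Ideal.Quotient.mk_surjective (AdicCompletion.evalOneₐ I b)
  refine ⟨a, ?_⟩
  rw [← AdicCompletion.ker_evalOneₐ_eq_map I fg, RingHom.mem_ker]
  show AdicCompletion.evalOneₐ I (b - algebraMap A (AdicCompletion I A) a) = 0
  rw [map_sub, sub_eq_zero, ← ha]
  exact (AdicCompletion.evalOneₐ_of I a).symm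

variable {I} in
/-- The `I`-adic completion of a Noetherian local ring at a proper ideal is local. -/
theorem isLocalRing_adicCompletion (hI : I ≠ ⊤) : IsLocalRing (AdicCompletion I A) := by
  have fg : I.FG := IsNoetherian.noetherian I
  have le : I ≤ maximalIdeal A := IsLocalRing.le_maximalIdeal hI
  have hmax := AdicCompletion.isMaximal_map_of_le I (maximalIdeal A) le fg
  haveI := AdicCompletion.isAdicComplete_self I fg
  have hjac : I.map (algebraMap A (AdicCompletion I A)) ≤ (⊥ : Ideal (AdicCompletion I A)).jacobson :=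
    IsAdicComplete.le_jacobson_bot _
  refine IsLocalRing.of_unique_max_ideal ⟨_, hmax, fun J hJ => ?_⟩
  have hIJ : I.map (algebraMap A (AdicCompletion I A)) ≤ J :=
    hjac.trans (sInf_le ⟨bot_le, hJ⟩)
  have hle : (maximalIdeal A).map (algebraMap A (AdicCompletion I A)) ≤ J := by
    rw [Ideal.map_le_iff_le_comap]
    intro a ha
    rw [Ideal.mem_comap]
    by_contra hnot
    obtain ⟨b, j, hj, hbj⟩ := hJ.exists_inv hnot
    obtain ⟨c, hc⟩ := exists_sub_algebraMap_mem_map A I b
    -- `1 - c a` is a unit of `A` whose image lies in `J`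
    have hu : IsUnit (1 - c * a) := by
      by_contra hnu
      have h1 : 1 - c * a ∈ maximalIdeal A := (IsLocalRing.mem_maximalIdeal _).2 hnu
      have h2 := Ideal.add_mem _ h1 (Ideal.mul_mem_left _ c ha)
      rw [sub_add_cancel] at h2
      exact (IsLocalRing.maximalIdeal.isMaximal A).ne_top ((Ideal.eq_top_iff_one _).2 h2)
    have hmem : algebraMap A (AdicCompletion I A) (1 - c * a) ∈ J := by
      have h3 : algebraMap A (AdicCompletion I A) (1 - c * a) =
          j + (b - algebraMap A (AdicCompletion I A) c) * algebraMap A (AdicCompletion I A) a := by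
        rw [map_sub, map_one, map_mul, ← hbj]; ring
      rw [h3]
      exact Ideal.add_mem _ hj (Ideal.mul_mem_right _ _ (hIJ hc))
    exact hJ.ne_top (Ideal.eq_top_of_isUnit_mem _ hmem (hu.map _))
  exact (hmax.eq_of_le hJ.ne_top hle).symm

variable {I} in
/-- Dimension and regularity of the `I`-adic completion of a Noetherian local ring. -/
theorem adicCompletion_dim_and_regular (hI : I ≠ ⊤) :
    ringKrullDim (AdicCompletion I A) = ringKrullDim A ∧
      (IsRegularLocalRing A ↔ IsRegularLocalRing (AdicCompletion I A)) := by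
  have fg : I.FG := IsNoetherian.noetherian I
  have le : I ≤ maximalIdeal A := IsLocalRing.le_maximalIdeal hI
  haveI := isLocalRing_adicCompletion A hI
  haveI : IsNoetherianRing (AdicCompletion I A) := isNoetherianRing_adicCompletion I
  have hmax := AdicCompletion.isMaximal_map_of_le I (maximalIdeal A) le fg
  have hmap : maximalIdeal (AdicCompletion I A) =
      (maximalIdeal A).map (algebraMap A (AdicCompletion I A)) :=
    (IsLocalRing.eq_maximalIdeal hmax).symm
  have hres : ∀ b : AdicCompletion I A, ∃ a : A,
      b - algebraMap A (AdicCompletion I A) a ∈ maximalIdeal (AdicCompletion I A) := by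
    intro b
    obtain ⟨a, ha⟩ := exists_sub_algebraMap_mem_map A I b
    exact ⟨a, by rw [hmap]; exact Ideal.map_mono le ha⟩
  exact ⟨ringKrullDim_eq_of_flat_of_map_eq hmap, isRegularLocalRing_iff_of_flat_of_map_eq hmap hres⟩

end Adic

end Groth.Agent.Lib.Helper19
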