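import Mathlib
import Groth.Prelude.Def_Curv2
import Groth.Agent.Lib.Helper19ComplDim2
import Groth.Agent.Lib.Helper6BcBridge

/-!
# Regularity and base change to the completion (helper13)

`A` Noetherian local, `X` locally of finite type over `A`, `Y = X ×_A Â`.  At a point `y` of `Y` over the
closed point of `Spec Â`, `O_{Y,y}` is regular iff `O_{X,x}` is (`x` the image of `y`).
-/

set_option autoImplicit false
universe u
open CategoryTheory CategoryTheory.Limits AlgebraicGeometry TensorProduct IsLocalRing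

namespace Groth.Agent.Helper13RegCpl


section CA

variable {A : Type u} [CommRing A] [IsLocalRing A]
  {A' : Type u} [CommRing A'] [IsLocalRing A'] [Algebra A A']
  (hm : maximalIdeal A' = (maximalIdeal A).map (algebraMap A A'))
  (hres : ∀ b : A', ∃ a : A, b - algebraMap A A' a ∈ maximalIdeal A')
  {R : Type u} [CommRing R] [Algebra A R]
  (Q : Ideal (R ⊗[A] A')) [Q.IsPrime]
  (hQ : Q.comap (Algebra.TensorProduct.includeRight : A' →ₐ[A] R ⊗[A] A').toRingHom =
    maximalIdeal A')

include hm hQ in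
lemma tmul_mem_map (r : R) (μ : A') (hμ : μ ∈ maximalIdeal A') :
    r ⊗ₜ[A] μ ∈ (Q.comap (Algebra.TensorProduct.includeLeftRingHom : R →+* R ⊗[A] A')).map
      (Algebra.TensorProduct.includeLeftRingHom : R →+* R ⊗[A] A') := by
  set ι : R →+* R ⊗[A] A' := Algebra.TensorProduct.includeLeftRingHom with hι
  set P := (Q.comap ι).map ι with hP
  let J : Ideal A' :=
    { carrier := {μ | ∀ r : R, r ⊗ₜ[A] μ ∈ P}
      add_mem' := by
        intro a b ha hb r
        rw [tmul_add]
        exact P.add_mem (ha r) (hb r)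
      zero_mem' := by
        intro r
        rw [tmul_zero]
        exact P.zero_mem
      smul_mem' := by
        intro c x hx r
        have : r ⊗ₜ[A] (c • x) = ((1 : R) ⊗ₜ[A] c) * (r ⊗ₜ[A] x) := by
          rw [Algebra.TensorProduct.tmul_mul_tmul, one_mul, smul_eq_mul]
        rw [this]
        exact P.mul_mem_left _ (hx r) }
  have hJ : (maximalIdeal A).map (algebraMap A A') ≤ J := by
    rw [Ideal.map_le_iff_le_comap]
    intro m hmm
    change ∀ r : R, r ⊗ₜ[A] (algebraMap A A' m) ∈ P
    intro r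
    have h1 : r ⊗ₜ[A] (algebraMap A A' m) = ι (algebraMap A R m * r) := by
      rw [hι, Algebra.TensorProduct.includeLeftRingHom_apply, ← Algebra.smul_def,
        TensorProduct.smul_tmul, Algebra.algebraMap_eq_smul_one]
    rw [h1]
    apply Ideal.mem_map_of_mem
    apply Ideal.mul_mem_right
    rw [Ideal.mem_comap]
    have h2 : ι (algebraMap A R m) =
        (Algebra.TensorProduct.includeRight : A' →ₐ[A] R ⊗[A] A') (algebraMap A A' m) := by
      rw [hι, Algebra.TensorProduct.includeLeftRingHom_apply,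
        Algebra.TensorProduct.includeRight_apply, Algebra.algebraMap_eq_smul_one,
        Algebra.algebraMap_eq_smul_one, TensorProduct.smul_tmul]
    rw [h2]
    have h3 : algebraMap A A' m ∈ maximalIdeal A' := by
      rw [hm]
      exact Ideal.mem_map_of_mem _ hmm
    rw [← hQ] at h3
    exact h3
  rw [hm] at hμ
  exact hJ hμ r

include hm hres hQ in
lemma exists_sub_mem (s : R ⊗[A] A') :
    ∃ r : R, s - r ⊗ₜ[A] 1 ∈
      (Q.comap (Algebra.TensorProduct.includeLeftRingHom : R →+* R ⊗[A] A')).map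
        (Algebra.TensorProduct.includeLeftRingHom : R →+* R ⊗[A] A') := by
  induction s using TensorProduct.induction_on with
  | zero => exact ⟨0, by simp⟩
  | add x y hx hy =>
    obtain ⟨r₁, h₁⟩ := hx
    obtain ⟨r₂, h₂⟩ := hy
    refine ⟨r₁ + r₂, ?_⟩
    have : x + y - (r₁ + r₂) ⊗ₜ[A] (1 : A') = (x - r₁ ⊗ₜ[A] 1) + (y - r₂ ⊗ₜ[A] 1) := by
      rw [add_tmul]; ring
    rw [this]
    exact Ideal.add_mem _ h₁ h₂
  | tmul r b =>
    obtain ⟨a, ha⟩ := hres b
    refine ⟨a • r, ?_⟩
    have : r ⊗ₜ[A] b - (a • r) ⊗ₜ[A] (1 : A') = r ⊗ₜ[A] (b - algebraMap A A' a) := by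
      rw [tmul_sub, TensorProduct.smul_tmul, Algebra.algebraMap_eq_smul_one]
    rw [this]
    exact tmul_mem_map hm Q hQ r _ ha

include hm hres hQ in
lemma eq_map_comap :
    Q = (Q.comap (Algebra.TensorProduct.includeLeftRingHom : R →+* R ⊗[A] A')).map
      (Algebra.TensorProduct.includeLeftRingHom : R →+* R ⊗[A] A') := by
  apply le_antisymm
  · intro s hs
    obtain ⟨r, hr⟩ := exists_sub_mem hm hres Q hQ s
    have hle : (Q.comap (Algebra.TensorProduct.includeLeftRingHom : R →+* R ⊗[A] A')).map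
        (Algebra.TensorProduct.includeLeftRingHom : R →+* R ⊗[A] A') ≤ Q :=
      Ideal.map_le_iff_le_comap.mpr le_rfl
    have h1 : r ⊗ₜ[A] (1 : A') ∈ Q := by
      have := Q.sub_mem hs (hle hr)
      rwa [sub_sub_cancel] at this
    have h2 : r ⊗ₜ[A] (1 : A') ∈
        (Q.comap (Algebra.TensorProduct.includeLeftRingHom : R →+* R ⊗[A] A')).map
        (Algebra.TensorProduct.includeLeftRingHom : R →+* R ⊗[A] A') :=
      Ideal.mem_map_of_mem _ (by rw [Ideal.mem_comap]; exact h1)
    have := Ideal.add_mem _ hr h2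
    rwa [sub_add_cancel] at this
  · exact Ideal.map_le_iff_le_comap.mpr le_rfl

end CA


section CA2

variable {A : Type u} [CommRing A] [IsLocalRing A] [IsNoetherianRing A]
  {A' : Type u} [CommRing A'] [IsLocalRing A'] [IsNoetherianRing A'] [Algebra A A']
  [Module.Flat A A']
  (hm : maximalIdeal A' = (maximalIdeal A).map (algebraMap A A'))
  (hres : ∀ b : A', ∃ a : A, b - algebraMap A A' a ∈ maximalIdeal A')
  {R : Type u} [CommRing R] [Algebra A R] [Algebra.FiniteType A R]
  (Q : Ideal (R ⊗[A] A')) [Q.IsPrime]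
  (hQ : Q.comap (Algebra.TensorProduct.includeRight : A' →ₐ[A] R ⊗[A] A').toRingHom =
    maximalIdeal A')

include hm hres hQ in
theorem isRegularLocalRing_iff (p : Ideal R) [p.IsPrime]
    (hp : p = Q.comap (Algebra.TensorProduct.includeLeftRingHom : R →+* R ⊗[A] A')) :
    IsRegularLocalRing (Localization.AtPrime p) ↔ IsRegularLocalRing (Localization.AtPrime Q) := by
  set ι : R →+* R ⊗[A] A' := Algebra.TensorProduct.includeLeftRingHom with hι
  let S := R ⊗[A] A'
  let Rp := Localization.AtPrime p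
  let SQ := Localization.AtPrime Q
  haveI : IsNoetherianRing R := Algebra.FiniteType.isNoetherianRing A R
  haveI : IsNoetherianRing (A' ⊗[A] R) := Algebra.FiniteType.isNoetherianRing A' (A' ⊗[A] R)
  haveI : IsNoetherianRing S :=
    isNoetherianRing_of_ringEquiv (A' ⊗[A] R) (Algebra.TensorProduct.comm A A' R).toRingEquiv
  haveI : IsNoetherianRing Rp := IsLocalization.isNoetherianRing p.primeCompl Rp inferInstance
  haveI : IsNoetherianRing SQ := IsLocalization.isNoetherianRing Q.primeCompl SQ inferInstance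
  letI : Algebra Rp SQ := (Localization.localRingHom p Q ι hp).toAlgebra
  have hcomp : (algebraMap Rp SQ).comp (algebraMap R Rp) = (algebraMap S SQ).comp ι := by
    ext x
    exact Localization.localRingHom_to_map p Q ι hp x
  haveI : Module.Flat Rp SQ :=
    RingHom.Flat.localRingHom (f := ι) (RingHom.flat_algebraMap_iff.mpr
      (inferInstanceAs (Module.Flat R (R ⊗[A] A')))) Q p hp
  have hQP : Q = p.map ι := by
    rw [hp]
    exact eq_map_comap hm hres Q hQ
  have hmap : maximalIdeal SQ = (maximalIdeal Rp).map (algebraMap Rp SQ) := by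
    rw [← Localization.AtPrime.map_eq_maximalIdeal, ← Localization.AtPrime.map_eq_maximalIdeal,
      Ideal.map_map, hcomp, ← Ideal.map_map, ← hQP]
  refine Groth.Agent.Lib.Helper19.isRegularLocalRing_iff_of_flat_of_map_eq hmap ?_
  intro b
  obtain ⟨s, t, rfl⟩ := IsLocalization.exists_mk'_eq Q.primeCompl b
  obtain ⟨r, hr⟩ := exists_sub_mem hm hres Q hQ s
  obtain ⟨r', hr'⟩ := exists_sub_mem hm hres Q hQ (t : S)
  rw [← hp, ← hQP] at hr hr'
  have hr'p : r' ∉ p := by
    intro h
    have h1 : r' ⊗ₜ[A] (1 : A') ∈ Q := by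
      rw [hp] at h
      exact h
    have := Q.add_mem hr' h1
    rw [sub_add_cancel] at this
    exact t.2 this
  refine ⟨IsLocalization.mk' Rp r (⟨r', hr'p⟩ : p.primeCompl), ?_⟩
  -- unit
  have hu : IsUnit (algebraMap S SQ ((t : S) * ι r')) := by
    apply IsLocalization.map_units SQ (⟨(t : S) * ι r', ?_⟩ : Q.primeCompl)
    apply Q.primeCompl.mul_mem t.2
    change ι r' ∉ Q
    intro h
    exact hr'p (by rw [hp]; exact h)
  have hkey : (IsLocalization.mk' SQ s t - algebraMap Rp SQ (IsLocalization.mk' Rp r (⟨r', hr'p⟩ : p.primeCompl))) *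
      algebraMap S SQ ((t : S) * ι r') = algebraMap S SQ (s * ι r' - (t : S) * ι r) := by
    have e1 : IsLocalization.mk' SQ s t * algebraMap S SQ (t : S) = algebraMap S SQ s :=
      IsLocalization.mk'_spec SQ s t
    have e2 : algebraMap Rp SQ (IsLocalization.mk' Rp r (⟨r', hr'p⟩ : p.primeCompl)) * algebraMap S SQ (ι r') =
        algebraMap S SQ (ι r) := by
      have e3 : IsLocalization.mk' Rp r (⟨r', hr'p⟩ : p.primeCompl) * algebraMap R Rp r' = algebraMap R Rp r :=
        IsLocalization.mk'_spec Rp r ⟨r', hr'p⟩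
      have e4 := congrArg (algebraMap Rp SQ) e3
      rw [map_mul] at e4
      have e5 : ∀ x : R, algebraMap Rp SQ (algebraMap R Rp x) = algebraMap S SQ (ι x) :=
        fun x => RingHom.congr_fun hcomp x
      rw [e5, e5] at e4
      exact e4
    rw [map_mul, map_sub, map_mul, map_mul, sub_mul]
    rw [← e1, ← e2]
    ring
  have hmem : algebraMap S SQ (s * ι r' - (t : S) * ι r) ∈ maximalIdeal SQ := by
    rw [← Localization.AtPrime.map_eq_maximalIdeal]
    apply Ideal.mem_map_of_mem
    have : s * ι r' - (t : S) * ι r =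
        (s - r ⊗ₜ[A] (1 : A')) * ι r' - ((t : S) - r' ⊗ₜ[A] (1 : A')) * ι r := by
      rw [hι, Algebra.TensorProduct.includeLeftRingHom_apply,
        Algebra.TensorProduct.includeLeftRingHom_apply]
      ring
    rw [this]
    exact Q.sub_mem (Q.mul_mem_right _ hr) (Q.mul_mem_right _ hr')
  rw [← hkey] at hmem
  exact (Ideal.unit_mul_mem_iff_mem _ hu).mp (by rwa [mul_comm] at hmem)

end CA2

section Chart

variable (A : Type u) [CommRing A] (A' : Type u) [CommRing A'] [Algebra A A']
  {X : Scheme.{u}} (f : X ⟶ Spec (CommRingCat.of A))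
  {R : Type u} [CommRing R] [Algebra A R] (ι : Spec (CommRingCat.of R) ⟶ X) [IsOpenImmersion ι]
  (hι : ι ≫ f = Spec.map (CommRingCat.ofHom (algebraMap A R)))

/-- the chart of `X ×_A A'` over an affine chart of `X` -/
noncomputable def chartMap : Spec (CommRingCat.of (R ⊗[A] A')) ⟶
    pullback f (Spec.map (CommRingCat.ofHom (algebraMap A A'))) :=
  (pullbackSpecIso A R A').inv ≫
    pullback.map (Spec.map (CommRingCat.ofHom (algebraMap A R)))
      (Spec.map (CommRingCat.ofHom (algebraMap A A')))
      f (Spec.map (CommRingCat.ofHom (algebraMap A A')))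
      ι (𝟙 _) (𝟙 _) (by rw [Category.comp_id, hι]) (by simp)

instance : IsOpenImmersion (chartMap A A' f ι hι) := by
  unfold chartMap
  infer_instance

omit [IsOpenImmersion ι] in
theorem chartMap_fst :
    chartMap A A' f ι hι ≫ pullback.fst f (Spec.map (CommRingCat.ofHom (algebraMap A A'))) =
      Spec.map (CommRingCat.ofHom (Algebra.TensorProduct.includeLeftRingHom)) ≫ ι := by
  unfold chartMap
  rw [Category.assoc, pullback.lift_fst, ← Category.assoc, pullbackSpecIso_inv_fst]

omit [IsOpenImmersion ι] in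
theorem chartMap_snd :
    chartMap A A' f ι hι ≫ pullback.snd f (Spec.map (CommRingCat.ofHom (algebraMap A A'))) =
      Spec.map (CommRingCat.ofHom
        (Algebra.TensorProduct.includeRight : A' →ₐ[A] R ⊗[A] A').toRingHom) := by
  unfold chartMap
  rw [Category.assoc, pullback.lift_snd, Category.comp_id, pullbackSpecIso_inv_snd]
  rfl

omit [IsOpenImmersion ι] in
theorem range_chartMap :
    Set.range (chartMap A A' f ι hι) =
      (pullback.fst f (Spec.map (CommRingCat.ofHom (algebraMap A A')))) ⁻¹' Set.range ι := by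
  unfold chartMap
  rw [Scheme.Hom.comp_base, TopCat.coe_comp, Set.range_comp, Set.range_eq_univ.mpr, Set.image_univ,
    Scheme.Pullback.range_map]
  · simp
  · exact (pullbackSpecIso A R A').inv.surjective

include hι in
/-- every point of `X ×_A A'` over the chart is a prime `Q` of `R ⊗ A'`, with the expected local
rings and image in `Spec A'`. -/
theorem exists_prime_of_point (y : ↑(pullback f (Spec.map (CommRingCat.ofHom (algebraMap A A')))))
    (hy : pullback.fst f (Spec.map (CommRingCat.ofHom (algebraMap A A'))) y ∈ Set.range ι) :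
    ∃ Q : PrimeSpectrum (R ⊗[A] A'),
      (pullback.snd f (Spec.map (CommRingCat.ofHom (algebraMap A A'))) y).asIdeal =
        Q.asIdeal.comap (Algebra.TensorProduct.includeRight : A' →ₐ[A] R ⊗[A] A').toRingHom ∧
      Nonempty ((pullback f (Spec.map (CommRingCat.ofHom (algebraMap A A')))).presheaf.stalk y ≃+*
        Localization.AtPrime Q.asIdeal) ∧
      Nonempty (X.presheaf.stalk
          (pullback.fst f (Spec.map (CommRingCat.ofHom (algebraMap A A'))) y) ≃+*
        Localization.AtPrime (Q.asIdeal.comap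
          (Algebra.TensorProduct.includeLeftRingHom : R →+* R ⊗[A] A'))) := by
  have hy' : y ∈ Set.range (chartMap A A' f ι hι) := by
    rw [range_chartMap]
    exact hy
  obtain ⟨Q, rfl⟩ := hy'
  refine ⟨Q, ?_, ⟨Groth.Agent.Lib.Helper6.BcBridge.stalkEquivSpec _ Q⟩, ?_⟩
  · rw [← Scheme.Hom.comp_apply, chartMap_snd]
    rfl
  · have h1 : pullback.fst f (Spec.map (CommRingCat.ofHom (algebraMap A A')))
        (chartMap A A' f ι hι Q) =
        ι (PrimeSpectrum.comap (Algebra.TensorProduct.includeLeftRingHom) Q) := by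
      rw [← Scheme.Hom.comp_apply, chartMap_fst]
      rfl
    rw [h1]
    exact ⟨Groth.Agent.Lib.Helper6.BcBridge.stalkEquivSpec ι _⟩

end Chart

/-- every point lies in an affine chart -/
theorem exists_chart (A : Type u) [CommRing A] {X : Scheme.{u}} (f : X ⟶ Spec (CommRingCat.of A))
    (x : X) :
    ∃ (R : Type u) (_ : CommRing R) (_ : Algebra A R) (ι : Spec (CommRingCat.of R) ⟶ X)
      (_ : IsOpenImmersion ι)
      (_ : ι ≫ f = Spec.map (CommRingCat.ofHom (algebraMap A R))), x ∈ Set.range ι := by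
  let 𝒜 := X.affineOpenCover
  obtain ⟨z, hz⟩ := 𝒜.covers x
  let R : Type u := 𝒜.X (𝒜.idx x)
  let ι : Spec (CommRingCat.of R) ⟶ X := 𝒜.f (𝒜.idx x)
  let φ : CommRingCat.of A ⟶ CommRingCat.of R := Spec.preimage (ι ≫ f)
  letI : Algebra A R := φ.hom.toAlgebra
  refine ⟨R, inferInstance, inferInstance, ι, inferInstanceAs (IsOpenImmersion (𝒜.f (𝒜.idx x))),
    ?_, ⟨z, hz⟩⟩
  exact (Spec.map_preimage _).symm

theorem regular_iff_closedFibre (A : Type u) [CommRing A] [IsLocalRing A] [IsNoetherianRing A]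
    (X : Scheme.{u}) (f : X ⟶ Spec (CommRingCat.of A)) [LocallyOfFiniteType f]
    (y : Curv2.bcCpl A f)
    (hy : (Curv2.bcCplSnd A f).base y = IsLocalRing.closedPoint (Curv2.cpl A)) :
    IsRegularLocalRing ((Curv2.bcCpl A f).presheaf.stalk y) ↔
      IsRegularLocalRing (X.presheaf.stalk ((Curv2.bcCplFst A f).base y)) := by
  obtain ⟨R, _, _, ι, _, hι, hx⟩ := exists_chart A f ((Curv2.bcCplFst A f).base y)
  haveI : Algebra.FiniteType A R := by
    have h1 : LocallyOfFiniteType (ι ≫ f) := inferInstance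
    rw [hι, HasRingHomProperty.Spec_iff (P := @LocallyOfFiniteType)] at h1
    exact RingHom.finiteType_algebraMap.mp h1
  obtain ⟨Q, hQsnd, ⟨e1⟩, ⟨e2⟩⟩ := exists_prime_of_point A (Curv2.cpl A) f ι hι y hx
  have hm : maximalIdeal (Curv2.cpl A) = (maximalIdeal A).map (algebraMap A (Curv2.cpl A)) :=
    AdicCompletion.maximalIdeal_eq_map
  have hres : ∀ b : Curv2.cpl A, ∃ a : A, b - algebraMap A (Curv2.cpl A) a ∈
      maximalIdeal (Curv2.cpl A) := by
    intro b
    obtain ⟨a, ha⟩ := Groth.Agent.Lib.Helper19.exists_sub_algebraMap_mem_map A (maximalIdeal A) b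
    exact ⟨a, hm ▸ ha⟩
  have hQ : Q.asIdeal.comap
      (Algebra.TensorProduct.includeRight : Curv2.cpl A →ₐ[A] R ⊗[A] Curv2.cpl A).toRingHom =
      maximalIdeal (Curv2.cpl A) := by
    rw [← hQsnd]
    have := congrArg PrimeSpectrum.asIdeal hy
    exact this
  have key := isRegularLocalRing_iff hm hres Q.asIdeal hQ
    (Q.asIdeal.comap (Algebra.TensorProduct.includeLeftRingHom : R →+* R ⊗[A] Curv2.cpl A)) rfl
  constructor
  · intro h
    haveI : IsRegularLocalRing (Localization.AtPrime Q.asIdeal) :=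
      IsRegularLocalRing.of_ringEquiv e1
    haveI := key.mpr inferInstance
    exact IsRegularLocalRing.of_ringEquiv e2.symm
  · intro h
    haveI : IsRegularLocalRing (Localization.AtPrime (Q.asIdeal.comap
        (Algebra.TensorProduct.includeLeftRingHom : R →+* R ⊗[A] Curv2.cpl A))) :=
      IsRegularLocalRing.of_ringEquiv e2
    haveI := key.mp inferInstance
    exact IsRegularLocalRing.of_ringEquiv e1.symm

end Groth.Agent.Helper13RegCpl
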