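import Mathlib

/-!
# Specialization maps on stalks are localizations (helper5)

* `exists_isLocalization_stalkSpecializes`: for `x ⤳ x'` in a scheme `X`, the specialization map
  `𝒪_{X,x'} → 𝒪_{X,x}` is a localization.
* `ker_eq_map_of_isLocalization`: compatibility of kernels with localization in a commutative square.
* `ringKrullDim_stalk_eq_zero_of_maximal`: the local ring at a point without proper generizations
  has Krull dimension zero.
-/

set_option autoImplicit false
set_option linter.style.haveILetI false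
universe u

open AlgebraicGeometry CategoryTheory

namespace Groth.Agent.Lib.Helper5.StalkSpec

theorem exists_isLocalization_stalkSpecializes (X : Scheme.{u}) {x x' : X} (h : x ⤳ x') :
    letI := (X.presheaf.stalkSpecializes h).hom.toAlgebra
    ∃ M : Submonoid (X.presheaf.stalk x'), IsLocalization M (X.presheaf.stalk x) := by
  letI := (X.presheaf.stalkSpecializes h).hom.toAlgebra
  obtain ⟨U, hU, hx'U, -⟩ := exists_isAffineOpen_mem_and_subset (x := x') (U := ⊤) trivial
  have hxU : x ∈ U := h.mem_open U.2 hx'U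
  letI a1 : Algebra Γ(X, U) (X.presheaf.stalk x') :=
    TopCat.Presheaf.algebra_section_stalk X.presheaf ⟨x', hx'U⟩
  letI a2 : Algebra Γ(X, U) (X.presheaf.stalk x) :=
    TopCat.Presheaf.algebra_section_stalk X.presheaf ⟨x, hxU⟩
  haveI l1 : IsLocalization.AtPrime (X.presheaf.stalk x') (hU.primeIdealOf ⟨x', hx'U⟩).asIdeal :=
    hU.isLocalization_stalk ⟨x', hx'U⟩
  haveI l2 : IsLocalization.AtPrime (X.presheaf.stalk x) (hU.primeIdealOf ⟨x, hxU⟩).asIdeal :=
    hU.isLocalization_stalk ⟨x, hxU⟩
  have hcomp : ∀ f : Γ(X, U), algebraMap Γ(X, U) (X.presheaf.stalk x) f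
      = algebraMap (X.presheaf.stalk x') (X.presheaf.stalk x)
        (algebraMap Γ(X, U) (X.presheaf.stalk x') f) := by
    intro f
    have := X.presheaf.germ_stalkSpecializes hx'U h
    exact (DFunLike.congr_fun (CommRingCat.hom_ext_iff.mp this) f).symm
  haveI : IsScalarTower Γ(X, U) (X.presheaf.stalk x') (X.presheaf.stalk x) :=
    IsScalarTower.of_algebraMap_eq hcomp
  have hle : (hU.primeIdealOf ⟨x', hx'U⟩).asIdeal.primeCompl
      ≤ (hU.primeIdealOf ⟨x, hxU⟩).asIdeal.primeCompl := by
    intro f hf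
    have h1 : IsUnit (algebraMap Γ(X, U) (X.presheaf.stalk x') f) :=
      IsLocalization.map_units (M := (hU.primeIdealOf ⟨x', hx'U⟩).asIdeal.primeCompl) _ ⟨f, hf⟩
    have h2 : IsUnit (algebraMap Γ(X, U) (X.presheaf.stalk x) f) := by
      rw [hcomp]
      exact h1.map _
    exact (IsLocalization.AtPrime.isUnit_to_map_iff (X.presheaf.stalk x)
      (hU.primeIdealOf ⟨x, hxU⟩).asIdeal f).mp h2
  exact ⟨_, IsLocalization.isLocalization_of_submonoid_le (X.presheaf.stalk x')
    (X.presheaf.stalk x) _ _ hle⟩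

/-- In a commutative square `ψ ∘ iy = iz ∘ φ` where `φ`, `ψ` are localizations, `iy` is surjective
and `iz` is local, the kernel of `iz` is the extension of the kernel of `iy`. -/
theorem ker_eq_map_of_isLocalization {R R' T T' : Type*} [CommRing R] [CommRing R'] [CommRing T]
    [CommRing T'] (φ : R →+* R') (ψ : T →+* T') (iy : R →+* T) (iz : R' →+* T')
    (hsq : ∀ a, ψ (iy a) = iz (φ a)) (hiy : Function.Surjective iy) [IsLocalHom iz]
    (M : Submonoid R) (hM : @IsLocalization _ _ M R' _ φ.toAlgebra)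
    (N : Submonoid T) (hN : @IsLocalization _ _ N T' _ ψ.toAlgebra) :
    RingHom.ker iz = (RingHom.ker iy).map φ := by
  letI := φ.toAlgebra
  letI := ψ.toAlgebra
  apply le_antisymm
  · intro a' ha'
    rw [RingHom.mem_ker] at ha'
    obtain ⟨⟨b, s⟩, hbs⟩ := IsLocalization.surj M a'
    have hbs' : a' * φ s = φ b := hbs
    have hs : IsUnit (φ s) := IsLocalization.map_units R' s
    have h0 : ψ (iy b) = 0 := by rw [hsq, ← hbs', map_mul, ha', zero_mul]
    have h0' : algebraMap T T' (iy b) = 0 := h0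
    rw [IsLocalization.map_eq_zero_iff N T'] at h0'
    obtain ⟨t, ht⟩ := h0'
    obtain ⟨s', hs'⟩ := hiy t
    have hmem : s' * b ∈ RingHom.ker iy := by
      rw [RingHom.mem_ker, map_mul, hs', ht]
    have hu : IsUnit (φ s') := by
      have : IsUnit (iz (φ s')) := by
        rw [← hsq, hs']
        exact IsLocalization.map_units T' t
      exact isUnit_of_map_unit iz _ this
    have h1 : φ s' * φ b ∈ (RingHom.ker iy).map φ := by
      rw [← map_mul]
      exact Ideal.mem_map_of_mem _ hmem
    have h2 : φ b ∈ (RingHom.ker iy).map φ := (Ideal.unit_mul_mem_iff_mem _ hu).mp h1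
    rw [← hbs'] at h2
    exact (Ideal.mul_unit_mem_iff_mem _ hs).mp h2
  · rw [Ideal.map_le_iff_le_comap]
    intro a ha
    rw [RingHom.mem_ker] at ha
    rw [Ideal.mem_comap, RingHom.mem_ker, ← hsq, ha, map_zero]

theorem ringKrullDim_stalk_eq_zero_of_maximal (Y : Scheme.{u}) (z : Y)
    (hmax : ∀ z' : Y, z' ⤳ z → z' = z) : ringKrullDim (Y.presheaf.stalk z) = 0 := by
  have h0 : Ring.KrullDimLE 0 (Y.presheaf.stalk z) := by
    refine Ring.KrullDimLE.mk₀ fun q hq => ?_
    have hmem : (Y.fromSpecStalk z) (⟨q, hq⟩ : PrimeSpectrum (Y.presheaf.stalk z))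
        ∈ Set.range (Y.fromSpecStalk z) := ⟨_, rfl⟩
    rw [Scheme.range_fromSpecStalk] at hmem
    have h1 := hmax _ hmem
    have h2 : (Y.fromSpecStalk z) (IsLocalRing.closedPoint (Y.presheaf.stalk z)) = z :=
      Scheme.fromSpecStalk_closedPoint
    have hinj : Function.Injective (Y.fromSpecStalk z) :=
      (Scheme.Hom.isEmbedding (Y.fromSpecStalk z)).injective
    have h3 : (⟨q, hq⟩ : PrimeSpectrum (Y.presheaf.stalk z))
        = IsLocalRing.closedPoint (Y.presheaf.stalk z) := hinj (h1.trans h2.symm)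
    have h4 : q = IsLocalRing.maximalIdeal (Y.presheaf.stalk z) :=
      congrArg PrimeSpectrum.asIdeal h3
    rw [h4]
    infer_instance
  exact le_antisymm (Ring.krullDimLE_iff.mp h0) ringKrullDim_nonneg_of_nontrivial

end Groth.Agent.Lib.Helper5.StalkSpec
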