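import Mathlib
import Groth.Prelude.Def_Curv2
import Groth.Agent.Lib.Helper13RegCpl
import Groth.Agent.Lib.Helper28RegLoc
import Groth.Agent.Lib.Helper5StalkSpec

/-!
# Regularity of a proper scheme over a Noetherian local ring vs. its base change to the completion
(helper13)
-/

set_option autoImplicit false
universe u
open CategoryTheory CategoryTheory.Limits AlgebraicGeometry TensorProduct IsLocalRing

namespace Groth.Agent.Helper13RegCplProper

/-- a local localization of a regular local ring is regular -/
theorem isRegularLocalRing_of_isLocalization (R : Type u) [CommRing R] [IsRegularLocalRing R]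
    (S : Type u) [CommRing S] [Algebra R S] [IsLocalRing S] (M : Submonoid R)
    [IsLocalization M S] : IsRegularLocalRing S := by
  let p : Ideal R := (maximalIdeal S).comap (algebraMap R S)
  haveI : p.IsPrime := Ideal.comap_isPrime _ _
  have key : ∀ r : R, IsUnit (algebraMap R S r) ↔ r ∈ p.primeCompl := by
    intro r
    change _ ↔ ¬ (algebraMap R S r ∈ maximalIdeal S)
    rw [IsLocalRing.mem_maximalIdeal, mem_nonunits_iff, not_not]
  haveI : IsLocalization.AtPrime S p :=
    IsLocalization.of_le M p.primeCompl
      (fun m hm => (key m).mp (IsLocalization.map_units S ⟨m, hm⟩))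
      (fun r hr => (key r).mpr hr)
  haveI := Groth.Agent.Lib.Helper28.isRegularLocalRing_localization_of_isRegularLocalRing R p
  exact IsRegularLocalRing.of_ringEquiv
    (IsLocalization.algEquiv p.primeCompl (Localization.AtPrime p) S).toRingEquiv

/-- regularity generizes -/
theorem isRegularLocalRing_of_specializes (X : Scheme.{u}) {x x' : X} (h : x ⤳ x')
    [IsRegularLocalRing (X.presheaf.stalk x')] : IsRegularLocalRing (X.presheaf.stalk x) := by
  letI := (X.presheaf.stalkSpecializes h).hom.toAlgebra
  obtain ⟨M, hM⟩ := Groth.Agent.Lib.Helper5.StalkSpec.exists_isLocalization_stalkSpecializes X h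
  exact isRegularLocalRing_of_isLocalization (X.presheaf.stalk x') (X.presheaf.stalk x) M


theorem regular_iff_proper (A : Type u) [CommRing A] [IsLocalRing A] [IsNoetherianRing A]
    (X : Scheme.{u}) (f : X ⟶ Spec (CommRingCat.of A)) [IsProper f] :
    (∀ x : X, IsRegularLocalRing (X.presheaf.stalk x)) ↔
      ∀ y : Curv2.bcCpl A f, IsRegularLocalRing ((Curv2.bcCpl A f).presheaf.stalk y) := by
  haveI : IsLocallyNoetherian X := LocallyOfFiniteType.isLocallyNoetherian f
  constructor
  · intro hX y
    -- specialize to the closed fibre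
    have hcl : IsClosed ((Curv2.bcCplSnd A f).base '' closure {y}) :=
      (Curv2.bcCplSnd A f).isClosedMap _ isClosed_closure
    have hmem : closedPoint (Curv2.cpl A) ∈ (Curv2.bcCplSnd A f).base '' closure {y} :=
      (IsLocalRing.specializes_closedPoint _).mem_closed hcl ⟨y, subset_closure rfl, rfl⟩
    obtain ⟨y₀, hy₀, hy₀'⟩ := hmem
    have hsp : y ⤳ y₀ := specializes_iff_mem_closure.mpr hy₀
    haveI : IsRegularLocalRing ((Curv2.bcCpl A f).presheaf.stalk y₀) :=
      (Groth.Agent.Helper13RegCpl.regular_iff_closedFibre A X f y₀ hy₀').mpr (hX _)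
    exact isRegularLocalRing_of_specializes _ hsp
  · intro hY x
    haveI : Module.FaithfullyFlat A (Curv2.cpl A) := Module.FaithfullyFlat.of_flat_of_isLocalHom
    haveI : Surjective (Spec.map (CommRingCat.ofHom (algebraMap A (Curv2.cpl A)))) :=
      ⟨PrimeSpectrum.comap_surjective_of_faithfullyFlat⟩
    obtain ⟨y, rfl⟩ := (Curv2.bcCplFst A f).surjective x
    haveI := hY y
    haveI : Flat (Spec.map (CommRingCat.ofHom (algebraMap A (Curv2.cpl A)))) :=
      Flat.SpecMap_iff.mpr (RingHom.flat_algebraMap_iff.mpr inferInstance)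
    have hflat := Flat.stalkMap (Curv2.bcCplFst A f) y
    letI := ((Curv2.bcCplFst A f).stalkMap y).hom.toAlgebra
    haveI : Module.Flat (X.presheaf.stalk ((Curv2.bcCplFst A f) y))
      ((Curv2.bcCpl A f).presheaf.stalk y) := hflat
    haveI : IsLocalHom (algebraMap (X.presheaf.stalk ((Curv2.bcCplFst A f) y))
      ((Curv2.bcCpl A f).presheaf.stalk y)) :=
      inferInstanceAs (IsLocalHom ((Curv2.bcCplFst A f).stalkMap y).hom)
    exact Groth.Agent.Lib.Helper28.isRegularLocalRing_of_flat_of_isLocalHom _
      ((Curv2.bcCpl A f).presheaf.stalk y)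

end Groth.Agent.Helper13RegCplProper
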