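import Mathlib
import Groth.Prelude.Def_FSRel

universe u
namespace Groth.Agent.Lib.Helper6.AdicFS
open TensorProduct

section General
variable {R S : Type*} [CommRing R] [CommRing S] [Algebra R S] (I : Ideal R) (K : Ideal S)

lemma smul_top_eq_coe_map (n : ℕ) :
    ((I ^ n • ⊤ : Submodule R S) : Set S) = ((I.map (algebraMap R S)) ^ n : Ideal S) := by
  rw [Ideal.smul_top_eq_map, Ideal.map_pow]; rfl

lemma smul_top_subset (h : I.map (algebraMap R S) ≤ K) (n : ℕ) :
    ((I ^ n • ⊤ : Submodule R S) : Set S) ⊆ ((K ^ n • ⊤ : Submodule S S) : Set S) := by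
  rw [smul_top_eq_coe_map]
  intro x hx
  have : x ∈ K ^ n := Ideal.pow_right_mono h n hx
  simpa using this

lemma smul_top_subset' {m : ℕ} (h : K ^ m ≤ I.map (algebraMap R S)) (n : ℕ) :
    ((K ^ (m * n) • ⊤ : Submodule S S) : Set S) ⊆ ((I ^ n • ⊤ : Submodule R S) : Set S) := by
  rw [smul_top_eq_coe_map I]
  intro x hx
  have hx' : x ∈ K ^ (m * n) := by simpa using hx
  rw [pow_mul] at hx'
  exact Ideal.pow_right_mono h n hx'

/-- comparison of quotients -/
noncomputable def phi (h : I.map (algebraMap R S) ≤ K) (n : ℕ) :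
    S ⧸ (I ^ n • ⊤ : Submodule R S) →ₗ[R] S ⧸ (K ^ n • ⊤ : Submodule S S) :=
  Submodule.liftQ _ ((Submodule.mkQ (K ^ n • ⊤ : Submodule S S)).restrictScalars R) (by
    intro x hx
    simp only [LinearMap.mem_ker, LinearMap.coe_restrictScalars, Submodule.mkQ_apply,
      Submodule.Quotient.mk_eq_zero]
    exact smul_top_subset I K h n hx)

@[simp] lemma phi_mk (h : I.map (algebraMap R S) ≤ K) (n : ℕ) (s : S) :
    phi I K h n (Submodule.Quotient.mk (p := (I ^ n • ⊤ : Submodule R S)) s) =
      Submodule.Quotient.mk (p := (K ^ n • ⊤ : Submodule S S)) s := by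
  simp [phi]

lemma phi_compat (h : I.map (algebraMap R S) ≤ K) {m n : ℕ} (hmn : m ≤ n) (s : S) :
    AdicCompletion.transitionMap K S hmn (phi I K h n (Submodule.Quotient.mk s)) =
      phi I K h m (Submodule.Quotient.mk s) := by
  rw [phi_mk, phi_mk]
  rfl

/-- the comparison map of completions -/
noncomputable def kappa (h : I.map (algebraMap R S) ≤ K) :
    AdicCompletion I S →+ AdicCompletion K S where
  toFun x := ⟨fun n => phi I K h n (x.val n), by
    intro m n hmn
    have hx := AdicCompletion.transitionMap_comp_eval_apply I S hmn x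
    obtain ⟨s, hs⟩ := Submodule.Quotient.mk_surjective _ (x.val n)
    beta_reduce
    rw [← hx, ← hs]
    exact phi_compat I K h hmn s⟩
  map_zero' := by ext n; simp
  map_add' x y := by ext n; simp

@[simp] lemma kappa_val (h : I.map (algebraMap R S) ≤ K) (x : AdicCompletion I S) (n : ℕ) :
    (kappa I K h x).val n = phi I K h n (x.val n) := rfl

lemma kappa_injective (h : I.map (algebraMap R S) ≤ K) {m : ℕ} (hm : 0 < m)
    (hK : K ^ m ≤ I.map (algebraMap R S)) : Function.Injective (kappa I K h) := by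
  rw [injective_iff_map_eq_zero]
  intro y hy
  ext n
  have hn : n ≤ m * n := Nat.le_mul_of_pos_left n hm
  have hx := AdicCompletion.transitionMap_comp_eval_apply I S hn y
  obtain ⟨s, hs⟩ := Submodule.Quotient.mk_surjective _ (y.val (m * n))
  have h0 : (kappa I K h y).val (m * n) = 0 := by rw [hy]; rfl
  rw [kappa_val, ← hs, phi_mk, Submodule.Quotient.mk_eq_zero] at h0
  have h1 : s ∈ (I ^ n • ⊤ : Submodule R S) := smul_top_subset' I K hK n h0
  rw [← hx, ← hs]
  simp only [AdicCompletion.transitionMap, Submodule.factorPow]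
  erw [Submodule.factor_mk]
  rw [AdicCompletion.val_zero_apply, Submodule.mkQ_apply, Submodule.Quotient.mk_eq_zero]
  exact h1

lemma kappa_surjective (h : I.map (algebraMap R S) ≤ K) {m : ℕ} (hm : 0 < m)
    (hK : K ^ m ≤ I.map (algebraMap R S)) : Function.Surjective (kappa I K h) := by
  intro z
  obtain ⟨g, rfl⟩ := AdicCompletion.mk_surjective K S z
  have hf : AdicCompletion.IsAdicCauchy I S (fun n => g (m * n)) := by
    intro a b hab
    have h1 : g (m * a) ≡ g (m * b) [SMOD (K ^ (m * a) • ⊤ : Submodule S S)] :=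
      g.2 (Nat.mul_le_mul_left m hab)
    rw [SModEq.sub_mem] at h1 ⊢
    exact smul_top_subset' I K hK a h1
  refine ⟨AdicCompletion.mk I S ⟨_, hf⟩, ?_⟩
  ext n
  rw [kappa_val, AdicCompletion.mk_apply_coe, AdicCompletion.mk_apply_coe]
  simp only [Submodule.mkQ_apply]
  erw [phi_mk]
  have hn : n ≤ m * n := Nat.le_mul_of_pos_left n hm
  have h2 : g n ≡ g (m * n) [SMOD (K ^ n • ⊤ : Submodule S S)] := g.2 hn
  exact h2.symm

lemma pow_le_comap (h : I.map (algebraMap R S) ≤ K) (n : ℕ) :
    I ^ n ≤ (K ^ n).comap (Algebra.ofId R S) := by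
  rw [← Ideal.map_le_iff_le_comap]
  change Ideal.map (algebraMap R S) (I ^ n) ≤ K ^ n
  rw [Ideal.map_pow]
  exact Ideal.pow_right_mono h n

lemma complMap_compat (h : I.map (algebraMap R S) ≤ K) {m n : ℕ} (hmn : m ≤ n) :
    (Ideal.Quotient.factorₐ R (Ideal.pow_le_pow_right hmn)).comp
      ((Ideal.quotientMapₐ (K ^ n) (Algebra.ofId R S) (pow_le_comap I K h n)).comp
        (AdicCompletion.evalₐ I n)) =
    (Ideal.quotientMapₐ (K ^ m) (Algebra.ofId R S) (pow_le_comap I K h m)).comp
        (AdicCompletion.evalₐ I m) := by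
  ext x
  obtain ⟨a, rfl⟩ := AdicCompletion.mk_surjective I R x
  simp only [AlgHom.coe_comp, Function.comp_apply, AdicCompletion.evalₐ_mk]
  rw [Ideal.quotient_map_mkₐ, Ideal.quotient_map_mkₐ]
  simp only [Ideal.Quotient.mkₐ_eq_mk]
  erw [Ideal.Quotient.factor_mk]
  rw [Ideal.Quotient.mk_eq_mk_iff_sub_mem, ← map_sub]
  have h1 : a n - a m ∈ I ^ m := by
    have := (a.2 hmn).symm
    rw [SModEq.sub_mem] at this
    simpa using this
  · exact pow_le_comap I K h m h1
  · exact Ideal.pow_le_pow_right hmn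

/-- the natural map of completions `Â₀ → Â` -/
noncomputable def complMap (h : I.map (algebraMap R S) ≤ K) :
    AdicCompletion I R →ₐ[R] AdicCompletion K S :=
  AdicCompletion.liftAlgHom K
    (fun n => (Ideal.quotientMapₐ (K ^ n) (Algebra.ofId R S) (pow_le_comap I K h n)).comp
      (AdicCompletion.evalₐ I n))
    (fun hmn => complMap_compat I K h hmn)

@[simp] lemma evalₐ_complMap_mk (h : I.map (algebraMap R S) ≤ K) (n : ℕ)
    (a : AdicCompletion.AdicCauchySequence I R) :
    AdicCompletion.evalₐ K n (complMap I K h (AdicCompletion.mk I R a)) =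
      Ideal.Quotient.mk (K ^ n) (algebraMap R S (a n)) := by
  rw [complMap, AdicCompletion.evalₐ_liftAlgHom K _ (fun hmn => complMap_compat I K h hmn)]
  simp only [AlgHom.coe_comp, Function.comp_apply, AdicCompletion.evalₐ_mk]
  rw [Ideal.quotient_map_mkₐ]
  rfl

lemma evalₐ_kappa (h : I.map (algebraMap R S) ≤ K) (n : ℕ)
    (y : AdicCompletion I S) (s : S) (hs : Submodule.Quotient.mk s = y.val n) :
    AdicCompletion.evalₐ K n (kappa I K h y) = Ideal.Quotient.mk (K ^ n) s := by
  have : (kappa I K h y).val n = Submodule.Quotient.mk s := by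
    rw [kappa_val, ← hs, phi_mk]
  rw [← AdicCompletion.factor_eval_eq_evalₐ K _ (le_of_eq (Ideal.mul_top _)),
    AdicCompletion.eval_apply, this]
  rfl

/-- the comparison algebra map `S ⊗ Â₀ → Ŝ` -/
noncomputable def theta (h : I.map (algebraMap R S) ≤ K) :
    S ⊗[R] AdicCompletion I R →ₐ[S] AdicCompletion K S :=
  Algebra.TensorProduct.lift (Algebra.ofId S (AdicCompletion K S)) (complMap I K h)
    (fun _ _ => Commute.all _ _)

lemma theta_eq (h : I.map (algebraMap R S) ≤ K) (t : S ⊗[R] AdicCompletion I R) :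
    theta I K h t =
      kappa I K h (AdicCompletion.ofTensorProduct I S (TensorProduct.comm R _ _ t)) := by
  induction t using TensorProduct.induction_on with
  | zero => simp
  | add x y hx hy => simp only [map_add, hx, hy]
  | tmul s x =>
    obtain ⟨a, rfl⟩ := AdicCompletion.mk_surjective I R x
    apply AdicCompletion.ext_evalₐ
    intro n
    rw [theta, Algebra.TensorProduct.lift_tmul, map_mul, evalₐ_complMap_mk]
    rw [TensorProduct.comm_tmul, AdicCompletion.ofTensorProduct_tmul]
    rw [evalₐ_kappa I K h n _ (a n • s) ?_]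
    · rw [Algebra.smul_def, map_mul, mul_comm]
      congr 1
    · rw [AdicCompletion.smul_eval]
      rfl

lemma theta_bijective {R S : Type u} [CommRing R] [CommRing S] [Algebra R S] (I : Ideal R)
    (K : Ideal S) [IsNoetherianRing R] [Module.Finite R S]
    (h : I.map (algebraMap R S) ≤ K) {m : ℕ} (hm : 0 < m)
    (hK : K ^ m ≤ I.map (algebraMap R S)) : Function.Bijective (theta I K h) := by
  have h1 : (theta I K h : S ⊗[R] AdicCompletion I R → AdicCompletion K S) =
      (kappa I K h) ∘ (AdicCompletion.ofTensorProduct I S) ∘ (TensorProduct.comm R _ _) := by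
    funext t
    exact theta_eq I K h t
  rw [h1]
  have hk : Function.Bijective (kappa I K h) :=
    ⟨kappa_injective I K h hm hK, kappa_surjective I K h hm hK⟩
  exact Function.Bijective.comp hk
    (Function.Bijective.comp (AdicCompletion.ofTensorProduct_bijective_of_finite_of_isNoetherian I S)
      (TensorProduct.comm R _ _).bijective)

theorem exists_lift {R S : Type u} [CommRing R] [CommRing S] [Algebra R S] (I : Ideal R)
    (K : Ideal S) [IsNoetherianRing R] [Module.Finite R S]
    (h : I.map (algebraMap R S) ≤ K) {m : ℕ} (hm : 0 < m)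
    (hK : K ^ m ≤ I.map (algebraMap R S))
    (C : Type u) [CommRing C] [Algebra S C] [Algebra R C] [IsScalarTower R S C] (J : Ideal C)
    (u₀ : AdicCompletion K S →ₐ[S] C ⧸ J) (u : AdicCompletion K S →ₐ[R] C)
    (hu : (Ideal.Quotient.mkₐ R J).comp u = u₀.restrictScalars R) :
    ∃ v : AdicCompletion K S →ₐ[S] C, (Ideal.Quotient.mkₐ S J).comp v = u₀ := by
  let e : S ⊗[R] AdicCompletion I R ≃ₐ[S] AdicCompletion K S :=
    AlgEquiv.ofBijective (theta I K h) (theta_bijective I K h hm hK)
  let w : AdicCompletion I R →ₐ[R] C := u.comp (complMap I K h)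
  let l : S ⊗[R] AdicCompletion I R →ₐ[S] C :=
    Algebra.TensorProduct.lift (Algebra.ofId S C) w (fun _ _ => Commute.all _ _)
  have key : (Ideal.Quotient.mkₐ S J).comp l = u₀.comp (theta I K h) := by
    apply Algebra.TensorProduct.ext
    · ext
    · ext x
      have h1 := AlgHom.congr_fun hu (complMap I K h x)
      simp only [AlgHom.coe_comp, Function.comp_apply, AlgHom.coe_restrictScalars',
        Ideal.Quotient.mkₐ_eq_mk] at h1
      simp only [AlgHom.coe_comp, AlgHom.coe_restrictScalars', Function.comp_apply,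
        Algebra.TensorProduct.includeRight_apply, Ideal.Quotient.mkₐ_eq_mk, l, w, theta,
        Algebra.TensorProduct.lift_tmul, map_one, one_mul]
      exact h1
  refine ⟨l.comp e.symm.toAlgHom, ?_⟩
  ext x
  have h2 := AlgHom.congr_fun key (e.symm x)
  simp only [AlgHom.coe_comp, Function.comp_apply] at h2
  have h3 : theta I K h (e.symm x) = x := e.apply_symm_apply x
  rw [h3] at h2
  exact h2

end General

section Semilocal
variable {A₀ A : Type u} [CommRing A₀] [CommRing A] [Algebra A₀ A]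

lemma map_jacobson_le [Algebra.IsIntegral A₀ A] :
    (Ideal.jacobson (⊥ : Ideal A₀)).map (algebraMap A₀ A) ≤ Ideal.jacobson (⊥ : Ideal A) := by
  rw [Ideal.map_le_iff_le_comap]
  intro x hx
  rw [Ideal.mem_comap, Ideal.jacobson, Ideal.mem_sInf]
  intro M hM
  haveI : M.IsMaximal := hM.2
  have hmax : (M.comap (algebraMap A₀ A)).IsMaximal :=
    Ideal.isMaximal_comap_of_isIntegral_of_isMaximal (R := A₀) M
  have : x ∈ M.comap (algebraMap A₀ A) := by
    rw [Ideal.jacobson, Ideal.mem_sInf] at hx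
    exact hx ⟨bot_le, hmax⟩
  exact this

/-- a semilocal ring modulo its Jacobson radical is Artinian -/
lemma isArtinianRing_quot_jacobson [IsNoetherianRing A₀] [Finite (MaximalSpectrum A₀)] :
    IsArtinianRing (A₀ ⧸ Ideal.jacobson (⊥ : Ideal A₀)) := by
  rw [isArtinianRing_iff_isNoetherianRing_krullDimLE_zero]
  refine ⟨inferInstance, ?_⟩
  rw [Ring.krullDimLE_zero_iff]
  intro P hP
  classical
  haveI := Fintype.ofFinite (MaximalSpectrum A₀)
  have hr : Ideal.jacobson (⊥ : Ideal A₀) =
      Finset.univ.inf (fun m : MaximalSpectrum A₀ => m.asIdeal) := by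
    apply le_antisymm
    · apply Finset.le_inf
      intro m _
      exact sInf_le ⟨bot_le, m.isMaximal⟩
    · apply le_sInf
      rintro M ⟨_, hM⟩
      exact Finset.inf_le (f := fun m : MaximalSpectrum A₀ => m.asIdeal)
        (Finset.mem_univ (⟨M, hM⟩ : MaximalSpectrum A₀))
  set Q := P.comap (Ideal.Quotient.mk (Ideal.jacobson (⊥ : Ideal A₀))) with hQdef
  haveI hQp : Q.IsPrime := Ideal.comap_isPrime _ P
  have hle : Ideal.jacobson (⊥ : Ideal A₀) ≤ Q := by
    intro x hx
    rw [hQdef, Ideal.mem_comap, Ideal.Quotient.eq_zero_iff_mem.2 hx]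
    exact P.zero_mem
  rw [hr, Ideal.IsPrime.inf_le' hQp] at hle
  obtain ⟨m, _, hm⟩ := hle
  have hQ : m.asIdeal = Q := m.isMaximal.eq_of_le hQp.ne_top hm
  have hQmax : Q.IsMaximal := hQ ▸ m.isMaximal
  have hPeq : Q.map (Ideal.Quotient.mk (Ideal.jacobson (⊥ : Ideal A₀))) = P :=
    Ideal.map_comap_of_surjective _ Ideal.Quotient.mk_surjective P
  rw [← hPeq]
  refine (Ideal.map_eq_top_or_isMaximal_of_surjective _ Ideal.Quotient.mk_surjective
    hQmax).resolve_left ?_
  rw [hPeq]
  exact hP.ne_top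

lemma exists_pow_jacobson_le [IsNoetherianRing A₀] [Finite (MaximalSpectrum A₀)]
    [Module.Finite A₀ A] :
    ∃ m : ℕ, 0 < m ∧ (Ideal.jacobson (⊥ : Ideal A)) ^ m ≤
      (Ideal.jacobson (⊥ : Ideal A₀)).map (algebraMap A₀ A) := by
  set r₀ := Ideal.jacobson (⊥ : Ideal A₀) with hr₀
  set I' := r₀.map (algebraMap A₀ A) with hI'
  haveI : IsArtinianRing (A₀ ⧸ r₀) := isArtinianRing_quot_jacobson
  haveI : Module.Finite (A₀ ⧸ r₀) (A ⧸ I') :=
    Module.Finite.of_restrictScalars_finite A₀ (A₀ ⧸ r₀) (A ⧸ I')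
  haveI : IsArtinianRing (A ⧸ I') := IsArtinianRing.of_finite (A₀ ⧸ r₀) (A ⧸ I')
  obtain ⟨m, hm⟩ := IsArtinianRing.isNilpotent_jacobson_bot (R := A ⧸ I')
  refine ⟨m + 1, Nat.succ_pos m, ?_⟩
  have h1 : (Ideal.jacobson (⊥ : Ideal A)).map (Ideal.Quotient.mk I') ≤
      Ideal.jacobson (⊥ : Ideal (A ⧸ I')) := by
    have h2 : Ideal.map (Ideal.Quotient.mk I') (Ideal.jacobson I') =
        Ideal.jacobson (Ideal.map (Ideal.Quotient.mk I') I') :=
      Ideal.map_jacobson_of_surjective Ideal.Quotient.mk_surjective (by simp)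
    rw [Ideal.map_quotient_self] at h2
    rw [← h2]
    exact Ideal.map_mono (Ideal.jacobson_mono bot_le)
  have h3 : ((Ideal.jacobson (⊥ : Ideal A)) ^ m).map (Ideal.Quotient.mk I') = ⊥ := by
    rw [Ideal.map_pow, ← le_bot_iff]
    calc _ ≤ (Ideal.jacobson (⊥ : Ideal (A ⧸ I'))) ^ m := Ideal.pow_right_mono h1 m
      _ = ⊥ := by rw [hm]; rfl
  rw [Ideal.map_eq_bot_iff_le_ker, Ideal.mk_ker] at h3
  exact (Ideal.pow_le_pow_right (Nat.le_succ m)).trans h3

theorem formallySmoothRel_completion [IsNoetherianRing A₀] [Finite (MaximalSpectrum A₀)]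
    [Module.Finite A₀ A] :
    EGA41.IsFormallySmoothRel A₀ A (AdicCompletion (Ideal.jacobson (⊥ : Ideal A)) A) := by
  intro C _ _ _ _ J _ u₀ ⟨u, hu⟩
  obtain ⟨m, hm, hK⟩ := exists_pow_jacobson_le (A₀ := A₀) (A := A)
  exact exists_lift (Ideal.jacobson (⊥ : Ideal A₀)) (Ideal.jacobson (⊥ : Ideal A))
    map_jacobson_le hm hK C J u₀ u hu

end Semilocal
end Groth.Agent.Lib.Helper6.AdicFS
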