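import Mathlib
import Groth.Prelude.Def_EGA4b
import Groth.Agent.Lib.Helper6NormCrit
import Groth.Agent.Lib.Helper6SmNorm
import Groth.Agent.Lib.Helper6SepNorm

set_option autoImplicit false

open TensorProduct Polynomial

namespace Groth.Agent.Lib.Helper6.NormInt

universe u

section N1

variable {R₁ R₁' : Type u} [CommRing R₁] [CommRing R₁']

/-- An element of an overring of a normal ring which is integral and has a denominator `m`
(with `φ m` a unit) lies in the ring. -/
theorem mem_range_of_isIntegral (h : EGA4.IsNormalRing R₁) (φ : R₁ →+* R₁')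
    (hφ : Function.Injective φ) (x : R₁') (m r : R₁) (hm : IsUnit (φ m)) (hmx : φ m * x = φ r)
    (g : R₁[X]) (hg : g.Monic) (hgx : g.eval₂ φ x = 0) : x ∈ φ.range := by
  have hcrit := Groth.Agent.Lib.Helper6.NormCrit.icCrit_of_isNormalRing R₁ h
  have h1 : (g.scaleRoots m).eval r = 0 := by
    apply hφ
    rw [map_zero, ← eval₂_at_apply, ← hmx, scaleRoots_eval₂_mul, hgx, mul_zero]
  obtain ⟨u, v, huv, hu, hv⟩ := hcrit r m g hg h1
  have hu0 : u = 0 := by
    apply hφ
    have : φ u * φ m = 0 := by rw [← map_mul, hu, map_zero]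
    rw [map_zero]
    exact hm.mul_left_eq_zero.mp this
  have hv1 : v = 1 := by rw [hu0, zero_add] at huv; exact huv
  rw [hv1, one_mul] at hv
  obtain ⟨c, hc⟩ := hv
  refine ⟨c, ?_⟩
  have : φ m * φ c = φ m * x := by rw [← map_mul, ← hc, hmx]
  exact hm.mul_left_cancel this

end N1

section L0

/-- a localization of a normal ring is a normal ring -/
theorem isNormalRing_of_isLocalization {R' : Type u} [CommRing R'] (M : Submonoid R')
    (T' : Type u) [CommRing T'] [Algebra R' T'] [IsLocalization M T']
    (h : EGA4.IsNormalRing R') : EGA4.IsNormalRing T' := by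
  intro P hP
  haveI hP₀ : (P.comap (algebraMap R' T')).IsPrime := Ideal.comap_isPrime _ _
  haveI : IsLocalization.AtPrime (Localization.AtPrime P) (P.comap (algebraMap R' T')) :=
    IsLocalization.isLocalization_isLocalization_atPrime_isLocalization M
      (Localization.AtPrime P) P
  exact Groth.Agent.Lib.Helper6.EtNormal.normal_of_ringEquiv
    (IsLocalization.algEquiv (P.comap (algebraMap R' T')).primeCompl
      (Localization.AtPrime (P.comap (algebraMap R' T')))
      (Localization.AtPrime P)).symm.toRingEquiv (h (P.comap (algebraMap R' T')))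

end L0

section N2

variable {R R' : Type u} [CommRing R] [CommRing R'] [Algebra R R']

/-- **Key lemma.** A subring `R` of a Noetherian normal ring `R'` which is integrally closed in
`R'` is a normal ring. -/
theorem isNormalRing_of_integrallyClosedIn [IsNoetherianRing R']
    (hinj : Function.Injective (algebraMap R R')) (hR' : EGA4.IsNormalRing R')
    (hic : ∀ x : R', IsIntegral R x → x ∈ (algebraMap R R').range) : EGA4.IsNormalRing R := by
  intro p hp
  let T := Localization.AtPrime p
  let M' := Algebra.algebraMapSubmonoid R' p.primeCompl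
  let T' := Localization M'
  have hj : Function.Injective (algebraMap T T') :=
    localizationAlgebra_injective (Rₘ := T) (Sₘ := T') hinj
  haveI : Nontrivial T' := hj.nontrivial
  haveI : IsNoetherianRing T' := IsLocalization.isNoetherianRing M' T' inferInstance
  have hT' : EGA4.IsNormalRing T' := isNormalRing_of_isLocalization M' T' hR'
  -- integral elements of T' over T lie in T
  have hicT : ∀ y : T', IsIntegral T y → y ∈ (algebraMap T T').range := by
    intro y hy
    obtain ⟨⟨x', ⟨n', n, hn, rfl⟩⟩, hx'⟩ := IsLocalization.surj M' y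
    simp only at hx'
    -- x'/1 = n * y is integral over T
    have h1 : IsIntegral T (algebraMap R' T' x') := by
      rw [← hx']
      refine hy.mul ?_
      rw [← IsScalarTower.algebraMap_apply R R' T', IsScalarTower.algebraMap_apply R T T']
      exact isIntegral_algebraMap
    obtain ⟨⟨m, hm⟩, hm1⟩ :=
      IsIntegral.exists_multiple_integral_of_isLocalization p.primeCompl (Rₘ := T) _ h1
    have h2 : IsIntegral R (algebraMap R' T' (m • x')) := by
      rw [Algebra.smul_def, map_mul, ← IsScalarTower.algebraMap_apply R R' T', ← Algebra.smul_def]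
      exact hm1
    obtain ⟨m₂, hm₂, h3⟩ :=
      IsLocalization.exists_isIntegral_smul_of_isIntegral_map (Sₘ := T') p.primeCompl h2
    obtain ⟨r, hr⟩ := hic _ h3
    have hs : m₂ * m * n ∈ p.primeCompl :=
      p.primeCompl.mul_mem (p.primeCompl.mul_mem hm₂ hm) hn
    refine ⟨IsLocalization.mk' T r (⟨m₂ * m * n, hs⟩ : p.primeCompl), ?_⟩
    have hu : IsUnit (algebraMap R T' (m₂ * m * n)) := by
      rw [IsScalarTower.algebraMap_apply R T T']
      exact (IsLocalization.map_units T (⟨m₂ * m * n, hs⟩ : p.primeCompl)).map _
    apply hu.mul_left_cancel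
    have e1 : algebraMap R T' (m₂ * m * n) *
        algebraMap T T' (IsLocalization.mk' T r (⟨m₂ * m * n, hs⟩ : p.primeCompl)) =
        algebraMap R T' r := by
      have e1' : algebraMap R T (m₂ * m * n) *
          IsLocalization.mk' T r (⟨m₂ * m * n, hs⟩ : p.primeCompl) = algebraMap R T r := by
        rw [mul_comm]
        exact IsLocalization.mk'_spec T r (⟨m₂ * m * n, hs⟩ : p.primeCompl)
      rw [IsScalarTower.algebraMap_apply R T T', ← map_mul, e1',
        ← IsScalarTower.algebraMap_apply R T T']
    have e2 : algebraMap R T' r = algebraMap R' T' (m₂ • m • x') := by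
      rw [IsScalarTower.algebraMap_apply R R' T', hr]
    have e3 : algebraMap R' T' (m₂ • m • x') =
        algebraMap R T' m₂ * (algebraMap R T' m * algebraMap R' T' x') := by
      rw [Algebra.smul_def, Algebra.smul_def, map_mul, map_mul,
        ← IsScalarTower.algebraMap_apply R R' T', ← IsScalarTower.algebraMap_apply R R' T']
    have e4 : algebraMap R' T' x' = y * algebraMap R T' n := by
      rw [← hx', IsScalarTower.algebraMap_apply R R' T']
    rw [e1, e2, e3, e4, map_mul, map_mul]
    ring
  -- T' is a domain
  haveI hT'dom : IsDomain T' := by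
    refine Groth.Agent.Lib.Helper6.SmNorm.isDomain_of_isDomain_localization
      (fun P _ => (hT' P).1) (fun e he => ?_)
    obtain ⟨t, rfl⟩ := hicT e ⟨X ^ 2 - X, by
      apply Polynomial.monic_X_pow_sub
      simp, by
      simp only [eval₂_sub, eval₂_X_pow, eval₂_X]
      rw [pow_two, he.eq, sub_self]⟩
    have ht : IsIdempotentElem t := by
      apply hj
      rw [map_mul]
      exact he
    rcases Groth.Agent.Lib.Helper6.SmNorm.eq_zero_or_one_of_isIdempotentElem ht with h | h
    · left; rw [h, map_zero]
    · right; rw [h, map_one]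
  haveI hT'ic : IsIntegrallyClosed T' :=
    IsIntegrallyClosed.of_localization_maximal (fun P _ hP => (hT' P).2)
  haveI hTdom : IsDomain T := hj.isDomain (algebraMap T T')
  refine ⟨hTdom, (Groth.Agent.Lib.Helper6.EtNormal.isIntegrallyClosed_iff_nc T).mpr ?_⟩
  intro a b g hg hb hab
  have hNC := (Groth.Agent.Lib.Helper6.EtNormal.isIntegrallyClosed_iff_nc T').mp hT'ic
  set f := algebraMap T T' with hf
  have hb' : f b ≠ 0 := fun h0 => hb (hj (h0.trans (map_zero _).symm))
  have h1 : ((g.map f).scaleRoots (f b)).eval (f a) = 0 := by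
    rw [← Groth.Agent.Lib.Helper6.NormCrit.map_scaleRoots_monic f g hg b, eval_map,
      eval₂_at_apply, hab, map_zero]
  obtain ⟨t', ht'⟩ := hNC _ _ _ (hg.map _) hb' h1
  have hint : IsIntegral T t' := by
    refine ⟨g, hg, ?_⟩
    have h2 := scaleRoots_eval₂_mul (p := g) f t' b
    rw [← ht'] at h2
    have h3 : eval₂ f (f a) (g.scaleRoots b) = 0 := by
      rw [eval₂_at_apply, hab, map_zero]
    rw [h3] at h2
    exact (mul_eq_zero.mp h2.symm).resolve_left (pow_ne_zero _ hb')
  obtain ⟨t, rfl⟩ := hicT t' hint
  refine ⟨t, hj ?_⟩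
  rw [map_mul, ht']

end N2

end Groth.Agent.Lib.Helper6.NormInt
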