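import Mathlib
import Groth.Prelude.Def_Found
import Groth.Prelude.Def_EGA4b
import Groth.Agent.Lib.Helper6HomBC
import Groth.Agent.Lib.Helper28FormalFibres

set_option autoImplicit false

open TensorProduct

namespace Groth.Agent.Lib.Helper6.NormRed

universe u

theorem isReduced_of_isNormalRing (R : Type u) [CommRing R] (h : EGA4.IsNormalRing R) :
    IsReduced R := by
  apply isReduced_ofLocalizationMaximal
  intro J hJ
  haveI := (h J).1
  infer_instance

theorem isNormalRing_of_isGeomNormal (k F : Type u) [Field k] [CommRing F] [Algebra k F]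
    (h : EGA4.IsGeomNormal k F) : EGA4.IsNormalRing F :=
  Groth.Agent.Lib.Helper6.SepNorm.isNormalRing_of_ringEquiv
    (Algebra.TensorProduct.lid k F).toRingEquiv (h k inferInstance)

section FT

variable (A A' : Type u) [CommRing A] [CommRing A'] [IsNoetherianRing A] [IsNoetherianRing A']
  [Algebra A A']

/-- finite type reduced case -/
theorem isReduced_tensor_of_finiteType (h : EGA4.IsNormalHom A A') (B : Type u) [CommRing B]
    [Algebra A B] [Algebra.FiniteType A B] [IsReduced B] : IsReduced (B ⊗[A] A') := by
  haveI : IsNoetherianRing B := Algebra.FiniteType.isNoetherianRing A B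
  haveI : Algebra.FiniteType A' (A' ⊗[A] B) := inferInstance
  haveI : IsNoetherianRing (A' ⊗[A] B) := Algebra.FiniteType.isNoetherianRing A' _
  haveI : IsNoetherianRing (B ⊗[A] A') :=
    isNoetherianRing_of_ringEquiv _ (Algebra.TensorProduct.comm A A' B).toRingEquiv
  have h2 : EGA4.IsNormalHom B (B ⊗[A] A') :=
    Groth.Agent.Lib.Helper6.HomBC.normalHom_baseChange A A' B h
  haveI := h2.1
  refine Groth.Agent.Lib.Helper28.isReduced_of_flat_of_forall_isReduced_fiber
    (A := B) (B := B ⊗[A] A') fun p _ => ?_
  exact isReduced_of_isNormalRing _ (isNormalRing_of_isGeomNormal _ _ (h2.2 p))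

end FT

section General

variable (A A' : Type u) [CommRing A] [CommRing A'] [Algebra A A'] (B : Type u) [CommRing B]
  [Algebra A B]

/-- the comparison map for a subalgebra -/
noncomputable def incl (C : Subalgebra A B) : C ⊗[A] A' →ₐ[A] B ⊗[A] A' :=
  Algebra.TensorProduct.map C.val (AlgHom.id A A')

theorem incl_injective [Module.Flat A A'] (C : Subalgebra A B) :
    Function.Injective (incl A A' B C) :=
  Module.Flat.rTensor_preserves_injective_linearMap (M := A') C.val.toLinearMap
    Subtype.val_injective

theorem range_incl_mono {C₁ C₂ : Subalgebra A B} (h : C₁ ≤ C₂) :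
    (incl A A' B C₁).range ≤ (incl A A' B C₂).range := by
  rintro _ ⟨x, rfl⟩
  refine ⟨Algebra.TensorProduct.map (Subalgebra.inclusion h) (AlgHom.id A A') x, ?_⟩
  induction x using TensorProduct.induction_on with
  | zero => simp
  | tmul c y => rfl
  | add x y hx hy => simp only [map_add, hx, hy]

theorem exists_fg_mem_range (x : B ⊗[A] A') :
    ∃ C : Subalgebra A B, C.FG ∧ x ∈ (incl A A' B C).range := by
  induction x using TensorProduct.induction_on with
  | zero => exact ⟨⊥, Subalgebra.fg_bot, Subalgebra.zero_mem _⟩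
  | tmul c y =>
    refine ⟨Algebra.adjoin A {c}, ?_, ?_⟩
    · have := Subalgebra.fg_adjoin_finset (R := A) ({c} : Finset B)
      simpa using this
    · exact ⟨⟨c, Algebra.subset_adjoin (by simp)⟩ ⊗ₜ y, rfl⟩
  | add x y hx hy =>
    obtain ⟨C₁, h₁, hx⟩ := hx
    obtain ⟨C₂, h₂, hy⟩ := hy
    refine ⟨C₁ ⊔ C₂, h₁.sup h₂, Subalgebra.add_mem _ ?_ ?_⟩
    · exact range_incl_mono A A' B le_sup_left hx
    · exact range_incl_mono A A' B le_sup_right hy

theorem isReduced_tensor [IsNoetherianRing A] [IsNoetherianRing A'] (h : EGA4.IsNormalHom A A')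
    [IsReduced B] : IsReduced (B ⊗[A] A') := by
  haveI := h.1
  constructor
  intro x hx
  obtain ⟨C, hC, y, rfl⟩ := exists_fg_mem_range A A' B x
  haveI : Algebra.FiniteType A C := (Subalgebra.fg_iff_finiteType C).mp hC
  haveI : IsReduced C := isReduced_of_injective C.val Subtype.val_injective
  haveI := isReduced_tensor_of_finiteType A A' h C
  have hy : IsNilpotent y := by
    obtain ⟨n, hn⟩ := hx
    refine ⟨n, incl_injective A A' B C ?_⟩
    rw [map_pow, map_zero]
    exact hn
  rw [hy.eq_zero, map_zero]

theorem main2729 [IsNoetherianRing A] [IsNoetherianRing A'] (h : EGA4.IsNormalHom A A')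
    [IsReduced B] : IsReduced (A' ⊗[A] B) :=
  haveI := isReduced_tensor A A' B h
  isReduced_of_injective (Algebra.TensorProduct.comm A A' B).toRingEquiv
    (Algebra.TensorProduct.comm A A' B).injective

end General

end Groth.Agent.Lib.Helper6.NormRed
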