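import Mathlib
import Groth.Prelude.Def_EGA4b
import Groth.Agent.Lib.Helper6NormCrit
import Groth.Agent.Lib.Helper6NormInt
import Groth.Agent.Lib.Helper6NormRed
import Groth.Agent.Lib.Helper6EtNormal
import Groth.Agent.Lib.Helper6AdicFS
import Groth.Agent.Lib.Helper19ComplNoeth

/-!
# Normality of the completion of a sub-finite-algebra (helper13)

`B ⊆ C` finite algebras over a Noetherian local ring `A`, `B` normal, `Ĉ` normal ⟹ `B̂` normal.
Elementary proof: `Ĉ = B̂ ⊗[B] C`; localise; kill the `B`-torsion `T` of `C`; `C/T` and `(C/T)/B` are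
torsion-free, hence every nonzerodivisor of a flat `B`-algebra `R` acts injectively on their base
changes (Lemma T); conclude that `R` is integrally closed in its total ring of fractions and that
a reduced local Noetherian ring with this property is an integrally closed domain.
-/

set_option autoImplicit false
open TensorProduct Polynomial

namespace Groth.Agent.Helper13SubFin

universe u

section LemmaT

variable {B : Type*} [CommRing B] (R : Type*) [CommRing R] [Algebra B R]
  (M : Type*) [AddCommGroup M] [Module B M]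

lemma smul_eq_rTensor (s : R) (x : R ⊗[B] M) :
    s • x = (LinearMap.mulLeft B s).rTensor M x := by
  induction x using TensorProduct.induction_on with
  | zero => simp
  | add x y hx hy => rw [smul_add, map_add, hx, hy]
  | tmul r m => rw [smul_tmul', LinearMap.rTensor_tmul, LinearMap.mulLeft_apply, smul_eq_mul]

variable [IsDomain B] [Module.Flat B R]

/-- **Lemma T.** A nonzerodivisor of a flat algebra `R` over a domain `B` acts injectively on
`R ⊗[B] M` for any torsion-free `B`-module `M`. -/
theorem eq_zero_of_smul_tensor (hM : ∀ (b : B) (m : M), b ≠ 0 → b • m = 0 → m = 0)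
    (s : R) (hs : s ∈ nonZeroDivisors R) (x : R ⊗[B] M) (hx : s • x = 0) : x = 0 := by
  let K := FractionRing B
  let W := K ⊗[B] M
  let j : M →ₗ[B] W := TensorProduct.mk B K M 1
  have hloc : IsLocalizedModule (nonZeroDivisors B) j :=
    (isLocalizedModule_iff_isBaseChange (nonZeroDivisors B) K j).mpr
      (TensorProduct.isBaseChange B M K)
  have hj : Function.Injective j := by
    rw [injective_iff_map_eq_zero]
    intro m hm
    obtain ⟨c, hc⟩ := (IsLocalizedModule.eq_zero_iff (nonZeroDivisors B) j).mp hm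
    exact hM c m (nonZeroDivisors.coe_ne_zero c) hc
  have hj' : Function.Injective (j.lTensor R) :=
    Module.Flat.lTensor_preserves_injective_linearMap j hj
  haveI : Module.Flat B W := Module.Flat.trans B K W
  have hs' : Function.Injective (LinearMap.mulLeft B s) := by
    intro a b hab
    simp only [LinearMap.mulLeft_apply] at hab
    exact (mul_cancel_left_mem_nonZeroDivisors hs).mp hab
  have hsW : Function.Injective ((LinearMap.mulLeft B s).rTensor W) :=
    Module.Flat.rTensor_preserves_injective_linearMap _ hs'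
  apply hj'
  apply hsW
  rw [map_zero, map_zero]
  have := congrArg (j.lTensor R) hx
  rw [smul_eq_rTensor, map_zero] at this
  rw [← this]
  rw [← LinearMap.comp_apply, ← LinearMap.comp_apply, LinearMap.rTensor_comp_lTensor,
    LinearMap.lTensor_comp_rTensor]

end LemmaT

section Torsion

variable (B : Type*) [CommRing B] [IsDomain B] (C : Type*) [CommRing C] [Algebra B C]

/-- the ideal of `B`-torsion elements of a `B`-algebra `C` (`B` a domain) -/
def torsionIdeal : Ideal C where
  carrier := {c | ∃ b : B, b ≠ 0 ∧ b • c = 0}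
  add_mem' := by
    rintro x y ⟨b, hb, hx⟩ ⟨b', hb', hy⟩
    refine ⟨b * b', mul_ne_zero hb hb', ?_⟩
    rw [smul_add, mul_smul, mul_smul, hy, smul_zero, smul_comm, hx, smul_zero, zero_add]
  zero_mem' := ⟨1, one_ne_zero, smul_zero _⟩
  smul_mem' := by
    rintro c x ⟨b, hb, hx⟩
    exact ⟨b, hb, by rw [smul_eq_mul, ← mul_smul_comm, hx, mul_zero]⟩

lemma mem_torsionIdeal (c : C) : c ∈ torsionIdeal B C ↔ ∃ b : B, b ≠ 0 ∧ b • c = 0 := Iff.rfl

/-- `C ⧸ T` is torsion-free -/
lemma quot_torsionFree (b : B) (x : C ⧸ torsionIdeal B C) (hb : b ≠ 0) (hx : b • x = 0) :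
    x = 0 := by
  obtain ⟨c, rfl⟩ := Ideal.Quotient.mk_surjective x
  have h1 : b • c ∈ torsionIdeal B C := by
    rw [← Ideal.Quotient.eq_zero_iff_mem]
    rw [Algebra.smul_def, map_mul]
    rw [Algebra.smul_def] at hx
    exact hx
  obtain ⟨b', hb', h2⟩ := h1
  rw [Ideal.Quotient.eq_zero_iff_mem]
  exact ⟨b' * b, mul_ne_zero hb' hb, by rw [mul_smul, h2]⟩

variable {B C}

lemma algebraMap_quot_injective (hinj : Function.Injective (algebraMap B C)) :
    Function.Injective (algebraMap B (C ⧸ torsionIdeal B C)) := by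
  rw [injective_iff_map_eq_zero]
  intro b hb
  rw [IsScalarTower.algebraMap_apply B C (C ⧸ torsionIdeal B C), Ideal.Quotient.algebraMap_eq,
    Ideal.Quotient.eq_zero_iff_mem] at hb
  obtain ⟨b', hb', h2⟩ := hb
  rw [Algebra.smul_def, ← map_mul] at h2
  have := hinj (h2.trans (map_zero _).symm)
  rcases mul_eq_zero.mp this with h | h
  · exact absurd h hb'
  · exact h

variable (B C)

/-- the cokernel of `B → C ⧸ T` -/
abbrev Coker : Type _ :=
  (C ⧸ torsionIdeal B C) ⧸ LinearMap.range (Algebra.linearMap B (C ⧸ torsionIdeal B C))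

variable {B C}

/-- if `B` is integrally closed and `C` is integral over `B`, the cokernel of `B → C ⧸ T`
is torsion-free. -/
lemma coker_torsionFree [IsIntegrallyClosed B] [Algebra.IsIntegral B C]
    (hinj : Function.Injective (algebraMap B C))
    (b : B) (y : Coker B C) (hb : b ≠ 0) (hy : b • y = 0) : y = 0 := by
  obtain ⟨c, rfl⟩ := Submodule.mkQ_surjective _ y
  rw [← map_smul, Submodule.mkQ_apply, Submodule.Quotient.mk_eq_zero] at hy
  obtain ⟨b', hb'⟩ := hy
  rw [Algebra.linearMap_apply] at hb'
  set f := algebraMap B (C ⧸ torsionIdeal B C) with hf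
  have hfinj : Function.Injective f := algebraMap_quot_injective hinj
  have hc : IsIntegral B c := by
    obtain ⟨c₀, rfl⟩ := Ideal.Quotient.mk_surjective c
    exact (Algebra.IsIntegral.isIntegral (R := B) c₀).map (Ideal.Quotient.mkₐ B (torsionIdeal B C))
  obtain ⟨g, hg, hgc⟩ := hc
  have h1 : (g.scaleRoots b).eval b' = 0 := by
    apply hfinj
    rw [map_zero, ← eval₂_at_apply, hb', Algebra.smul_def, scaleRoots_eval₂_mul, hgc, mul_zero]
  have hNC := (Groth.Agent.Lib.Helper6.EtNormal.isIntegrallyClosed_iff_nc B).mp inferInstance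
  obtain ⟨b'', rfl⟩ := hNC b' b g hg hb h1
  have h2 : b • (c - f b'') = 0 := by
    rw [smul_sub, ← hb', Algebra.smul_def b (f b''), ← map_mul, sub_self]
  have h3 := quot_torsionFree B C b _ hb h2
  rw [Submodule.mkQ_apply, Submodule.Quotient.mk_eq_zero]
  exact ⟨b'', by rw [Algebra.linearMap_apply]; exact (sub_eq_zero.mp h3).symm⟩

end Torsion

lemma algebraMap_tensor_injective' {B : Type*} [CommRing B] (R : Type*) [CommRing R] [Algebra B R]
    [Module.Flat B R] {C : Type*} [CommRing C] [Algebra B C]
    (hinj : Function.Injective (algebraMap B C)) :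
    Function.Injective (algebraMap R (R ⊗[B] C)) := by
  have h1 : Function.Injective ((Algebra.linearMap B C).lTensor R) :=
    Module.Flat.lTensor_preserves_injective_linearMap _ hinj
  have h2 : ∀ r : R, algebraMap R (R ⊗[B] C) r =
      (Algebra.linearMap B C).lTensor R ((TensorProduct.rid B R).symm r) := by
    intro r
    rw [TensorProduct.rid_symm_apply, LinearMap.lTensor_tmul, Algebra.linearMap_apply, map_one,
      Algebra.TensorProduct.algebraMap_apply, Algebra.algebraMap_self, RingHom.id_apply]
  intro a b hab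
  rw [h2, h2] at hab
  exact (TensorProduct.rid B R).symm.injective (h1 hab)


section Main

variable {B : Type u} [CommRing B] [IsDomain B] [IsIntegrallyClosed B]
  (C : Type u) [CommRing C] [Algebra B C] [Algebra.IsIntegral B C]
  (R : Type u) [CommRing R] [Algebra B R] [Module.Flat B R]

theorem dvd_of_scaleRoots (hinj : Function.Injective (algebraMap B C))
    (hN : EGA4.IsNormalRing (R ⊗[B] C))
    (a s : R) (hs : s ∈ nonZeroDivisors R) (g : R[X]) (hg : g.Monic)
    (h : (g.scaleRoots s).eval a = 0) : s ∣ a := by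
  let T := torsionIdeal B C
  let C₁ := C ⧸ T
  let N := R ⊗[B] C
  let N₁ := R ⊗[B] C₁
  let ι : R →+* N := algebraMap R N
  let ι₁ : R →+* N₁ := algebraMap R N₁
  have hcrit := Groth.Agent.Lib.Helper6.NormCrit.icCrit_of_isNormalRing N hN
  have h0 : ((g.map ι).scaleRoots (ι s)).eval (ι a) = 0 := by
    rw [Groth.Agent.Lib.Helper6.NormCrit.eval_scaleRoots_map ι g hg, h, map_zero]
  obtain ⟨u, v, huv, hu, hv⟩ := hcrit (ι a) (ι s) (g.map ι) (hg.map ι) h0
  let ρ : N →ₐ[R] N₁ := Algebra.TensorProduct.map (AlgHom.id R R) (Ideal.Quotient.mkₐ B T)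
  have hρι : ∀ r : R, ρ (ι r) = ι₁ r := fun r => ρ.commutes r
  have hT1 : ∀ (b : B) (m : C₁), b ≠ 0 → b • m = 0 → m = 0 :=
    fun b m hb hm => quot_torsionFree B C b m hb hm
  have hsm : ∀ (t : R) (x : N₁), t • x = ι₁ t * x := fun t x => Algebra.smul_def t x
  -- ρ u = 0
  have hu0 : ρ u = 0 := by
    apply eq_zero_of_smul_tensor R C₁ hT1 s hs
    rw [hsm, mul_comm, ← hρι, ← map_mul, hu, map_zero]
  have hv1 : ρ v = 1 := by
    have := congrArg ρ huv
    rw [map_add, hu0, zero_add, map_one] at this
    exact this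
  obtain ⟨w₀, hw₀⟩ := hv
  have hw : ι₁ a = s • ρ w₀ := by
    have := congrArg ρ hw₀
    rw [map_mul, map_mul, hv1, one_mul, hρι, hρι] at this
    rw [this, hsm]
  set w := ρ w₀ with hwdef
  -- the cokernel
  let f : B →ₗ[B] C₁ := Algebra.linearMap B C₁
  let q : C₁ →ₗ[B] Coker B C := Submodule.mkQ (LinearMap.range f)
  have hex : Function.Exact (f.lTensor R) (q.lTensor R) :=
    lTensor_exact R (LinearMap.exact_map_mkQ_range f) (Submodule.mkQ_surjective _)
  have hT2 : ∀ (b : B) (m : Coker B C), b ≠ 0 → b • m = 0 → m = 0 :=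
    fun b m hb hm => coker_torsionFree hinj b m hb hm
  have hq1 : q 1 = 0 := by
    rw [Submodule.mkQ_apply, Submodule.Quotient.mk_eq_zero]
    exact ⟨1, by rw [Algebra.linearMap_apply, map_one]⟩
  have hqa : q.lTensor R (ι₁ a) = 0 := by
    change q.lTensor R (algebraMap R N₁ a) = 0
    rw [Algebra.TensorProduct.algebraMap_apply, LinearMap.lTensor_tmul, hq1, tmul_zero]
  have hqw : q.lTensor R w = 0 := by
    apply eq_zero_of_smul_tensor R (Coker B C) hT2 s hs
    rw [smul_eq_rTensor, ← LinearMap.comp_apply, LinearMap.rTensor_comp_lTensor,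
      ← LinearMap.lTensor_comp_rTensor, LinearMap.comp_apply, ← smul_eq_rTensor, ← hw, hqa]
  obtain ⟨z, hz⟩ := (hex w).mp hqw
  obtain ⟨r, rfl⟩ := (TensorProduct.rid B R).symm.surjective z
  have hwr : w = ι₁ r := by
    rw [← hz, TensorProduct.rid_symm_apply, LinearMap.lTensor_tmul, Algebra.linearMap_apply, map_one]
    change _ = algebraMap R N₁ r
    rw [Algebra.TensorProduct.algebraMap_apply, Algebra.algebraMap_self, RingHom.id_apply]
  have hι₁ : Function.Injective ι₁ :=
    algebraMap_tensor_injective' R (algebraMap_quot_injective hinj)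
  refine ⟨r, hι₁ ?_⟩
  rw [hw, hwr, hsm, map_mul]

end Main

section Local

variable {R : Type*} [CommRing R]

/-- In a Noetherian ring, an ideal with zero annihilator contains a nonzerodivisor. -/
theorem exists_nonZeroDivisor_mem [IsNoetherianRing R] (I : Ideal R)
    (h : ∀ z : R, (∀ i ∈ I, i * z = 0) → z = 0) : ∃ w ∈ I, w ∈ nonZeroDivisors R := by
  classical
  by_contra hcon
  push Not at hcon
  have hsub : (I : Set R) ⊆ ⋃ p ∈ ((associatedPrimes.finite R R).toFinset : Set (Ideal R)),
      ((id p : Ideal R) : Set R) := by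
    have h1 : (I : Set R) ⊆ (nonZeroDivisors R : Set R)ᶜ := fun w hw => hcon w hw
    rw [← biUnion_associatedPrimes_eq_compl_nonZeroDivisors] at h1
    simpa using h1
  rw [Ideal.subset_union_prime (f := id) ⊥ ⊥ (fun p hp _ _ => by
    rw [Set.Finite.mem_toFinset] at hp
    exact hp.isPrime)] at hsub
  obtain ⟨p, hp, hIp⟩ := hsub
  rw [Set.Finite.mem_toFinset, AssociatedPrimes.mem_iff, isAssociatedPrime_iff] at hp
  obtain ⟨hpp, x, hx⟩ := hp
  have hx0 : x = 0 := by
    apply h
    intro i hi
    have : i ∈ (⊥ : Submodule R R).colon {x} := hx ▸ hIp hi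
    rw [Submodule.mem_colon_singleton] at this
    simpa using this
  apply hpp.ne_top
  rw [hx, hx0]
  ext r
  rw [Submodule.mem_colon_singleton]
  simp

/-- A reduced Noetherian local ring in which `s ∣ a` whenever `s` is a nonzerodivisor and `a / s`
is integral, is an integrally closed domain. -/
theorem isDomain_and_isIntegrallyClosed_of_local [IsNoetherianRing R] [IsLocalRing R]
    [IsReduced R]
    (H : ∀ (a s : R) (g : R[X]), s ∈ nonZeroDivisors R → g.Monic →
      (g.scaleRoots s).eval a = 0 → s ∣ a) :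
    IsDomain R ∧ IsIntegrallyClosed R := by
  have hdom : NoZeroDivisors R := by
    refine ⟨fun {x y} hxy => ?_⟩
    by_contra hcon
    push Not at hcon
    obtain ⟨hx, hy⟩ := hcon
    -- I = Ann x, J = Ann I
    let I : Ideal R := LinearMap.ker (LinearMap.toSpanSingleton R R x)
    have hI : ∀ r, r ∈ I ↔ r * x = 0 := by
      intro r
      simp only [I, LinearMap.mem_ker, LinearMap.toSpanSingleton_apply, smul_eq_mul]
    let J : Ideal R := (I : Submodule R R).annihilator
    have hJ : ∀ r, r ∈ J ↔ ∀ i ∈ I, r * i = 0 := by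
      intro r
      simp only [J, Submodule.mem_annihilator, smul_eq_mul]
    obtain ⟨w, hwIJ, hw⟩ := exists_nonZeroDivisor_mem (I ⊔ J) (by
      intro z hz
      have hzJ : z ∈ J := by
        rw [hJ]
        intro i hi
        rw [mul_comm]
        exact hz i (Ideal.mem_sup_left hi)
      have hzz : z * z = 0 := hz z (Ideal.mem_sup_right hzJ)
      exact (IsReduced.eq_zero z ⟨2, by rw [pow_two]; exact hzz⟩))
    obtain ⟨i, hi, j, hj, rfl⟩ := Submodule.mem_sup.mp hwIJ
    have hji : j * i = 0 := (hJ j).mp hj i hi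
    have hjy : j * y = 0 := (hJ j).mp hj y ((hI y).mpr (by rw [mul_comm]; exact hxy))
    have hix : i * x = 0 := (hI i).mp hi
    -- the polynomial X^2 - X
    have hmon : (X ^ 2 - X : R[X]).Monic := by
      apply Polynomial.monic_X_pow_sub
      simp
    have hnd : (X ^ 2 - X : R[X]).natDegree = 2 := by
      rcases subsingleton_or_nontrivial R with h | h
      · exact absurd (Subsingleton.elim x 0) hx
      · rw [natDegree_sub_eq_left_of_natDegree_lt] <;> simp
    have hev : ((X ^ 2 - X : R[X]).scaleRoots (i + j)).eval j = 0 := by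
      rw [eval_eq_sum_range, natDegree_scaleRoots, hnd]
      simp only [Finset.sum_range_succ, Finset.sum_range_zero, coeff_scaleRoots, hnd]
      simp [coeff_X, coeff_X_pow]
      linear_combination (-1 : R) * hji
    obtain ⟨e, he⟩ := H j (i + j) _ hw hmon hev
    have hee : e * e = e := by
      have h1 : (i + j) * (i + j) * (e * e - e) = 0 := by
        have h2 : j * (i + j) = j * j := by rw [mul_add, hji, zero_add]
        calc (i + j) * (i + j) * (e * e - e)
            = ((i + j) * e) * ((i + j) * e) - ((i + j) * e) * (i + j) := by ring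
          _ = j * j - j * (i + j) := by rw [← he]
          _ = 0 := by rw [h2, sub_self]
      have h3 := (mul_mem (s := nonZeroDivisors R) hw hw)
      rw [mul_comm] at h1
      exact sub_eq_zero.mp ((mem_nonZeroDivisors_iff.mp h3).2 _ h1)
    rcases IsLocalRing.isUnit_or_isUnit_one_sub_self e with hu | hu
    · -- e unit, e (1 - e) = 0 so e = 1
      have h1 : e * (1 - e) = 0 := by rw [mul_sub, mul_one, hee, sub_self]
      have h2 : 1 - e = 0 := hu.mul_right_eq_zero.mp h1
      have he1 : e = 1 := (sub_eq_zero.mp h2).symm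
      rw [he1, mul_one] at he
      -- j = i + j nonzerodivisor, j y = 0
      rw [← he] at hw
      apply hy
      rw [mul_comm] at hjy
      exact (mem_nonZeroDivisors_iff.mp hw).2 _ hjy
    · have h1 : (1 - e) * e = 0 := by rw [sub_mul, one_mul, hee, sub_self]
      have he0 : e = 0 := hu.mul_right_eq_zero.mp h1
      rw [he0, mul_zero] at he
      rw [he, add_zero] at hw
      apply hx
      rw [mul_comm] at hix
      exact (mem_nonZeroDivisors_iff.mp hw).2 _ hix
  haveI : IsDomain R := { hdom with toNontrivial := inferInstance }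
  refine ⟨inferInstance, (Groth.Agent.Lib.Helper6.EtNormal.isIntegrallyClosed_iff_nc R).mpr ?_⟩
  intro a b p hp hb hab
  exact H a b p (mem_nonZeroDivisors_of_ne_zero hb) hp hab

end Local

/-- **Local main lemma.** `B` an integrally closed domain, `C` an integral `B`-algebra containing
`B`, `R` a flat Noetherian local `B`-algebra with `R ⊗[B] C` normal. Then `R` is an integrally
closed domain. -/
theorem local_main {B : Type u} [CommRing B] [IsDomain B] [IsIntegrallyClosed B]
    (C : Type u) [CommRing C] [Algebra B C] [Algebra.IsIntegral B C]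
    (hinj : Function.Injective (algebraMap B C))
    (R : Type u) [CommRing R] [Algebra B R] [Module.Flat B R] [IsNoetherianRing R] [IsLocalRing R]
    (hN : EGA4.IsNormalRing (R ⊗[B] C)) : IsDomain R ∧ IsIntegrallyClosed R := by
  haveI : IsReduced (R ⊗[B] C) := Groth.Agent.Lib.Helper6.NormRed.isReduced_of_isNormalRing _ hN
  haveI : IsReduced R :=
    isReduced_of_injective (algebraMap R (R ⊗[B] C)) (algebraMap_tensor_injective' R hinj)
  exact isDomain_and_isIntegrallyClosed_of_local
    (fun a s g hs hg h => dvd_of_scaleRoots C R hinj hN a s hs g hg h)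

/-- **Global theorem.** `B` a normal ring, `B'` a flat Noetherian `B`-algebra, `C` an integral
`B`-algebra containing `B`, with `B' ⊗[B] C` normal. Then `B'` is normal. -/
theorem isNormalRing_of_flat_of_tensor {B : Type u} [CommRing B] (hB : EGA4.IsNormalRing B)
    (B' : Type u) [CommRing B'] [Algebra B B'] [Module.Flat B B'] [IsNoetherianRing B']
    (C : Type u) [CommRing C] [Algebra B C] [Algebra.IsIntegral B C]
    (hinj : Function.Injective (algebraMap B C))
    (hN : EGA4.IsNormalRing (B' ⊗[B] C)) : EGA4.IsNormalRing B' := by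
  intro Q' hQ'
  obtain ⟨Q, hQdef⟩ : ∃ Q : Ideal B, Q = Q'.comap (algebraMap B B') := ⟨_, rfl⟩
  haveI hQ : Q.IsPrime := hQdef ▸ Ideal.comap_isPrime _ _
  let B₀ := Localization.AtPrime Q
  let R := Localization.AtPrime Q'
  haveI : IsDomain B₀ := (hB Q).1
  haveI : IsIntegrallyClosed B₀ := (hB Q).2
  letI : Algebra B₀ R := (Localization.localRingHom Q Q' (algebraMap B B') hQdef).toAlgebra
  haveI : IsScalarTower B B₀ R := .of_algebraMap_eq fun x => by
    rw [RingHom.algebraMap_toAlgebra, Localization.localRingHom_to_map]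
    exact IsScalarTower.algebraMap_apply B B' R x
  haveI : Module.Flat B₀ R :=
    RingHom.Flat.localRingHom (RingHom.flat_algebraMap_iff.mpr inferInstance) Q' Q hQdef
  haveI : IsNoetherianRing R := IsLocalization.isNoetherianRing Q'.primeCompl R inferInstance
  -- C₀
  let C₀ := B₀ ⊗[B] C
  have hinj₀ : Function.Injective (algebraMap B₀ C₀) := algebraMap_tensor_injective' B₀ hinj
  -- R ⊗[B] C is a localization of B' ⊗[B] C
  letI : Algebra (B' ⊗[B] C) (R ⊗[B] C) :=
    (Algebra.TensorProduct.map (IsScalarTower.toAlgHom B B' R) (AlgHom.id B C)).toRingHom.toAlgebra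
  haveI : IsScalarTower B' (B' ⊗[B] C) (R ⊗[B] C) := .of_algebraMap_eq fun x => by
    rw [RingHom.algebraMap_toAlgebra]
    simp [Algebra.TensorProduct.algebraMap_apply]
    try rfl
  haveI hloc : IsLocalization (Algebra.algebraMapSubmonoid (B' ⊗[B] C) Q'.primeCompl)
      (R ⊗[B] C) :=
    IsLocalization.tensorProduct_tensorProduct B C Q'.primeCompl R (by
      ext c
      simp [RingHom.algebraMap_toAlgebra])
  have hN1 : EGA4.IsNormalRing (R ⊗[B] C) :=
    Groth.Agent.Lib.Helper6.NormInt.isNormalRing_of_isLocalization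
      (Algebra.algebraMapSubmonoid (B' ⊗[B] C) Q'.primeCompl) (R ⊗[B] C) hN
  have hN2 : EGA4.IsNormalRing (R ⊗[B₀] C₀) :=
    Groth.Agent.Lib.Helper6.SepNorm.isNormalRing_of_ringEquiv
      (Algebra.TensorProduct.cancelBaseChange B B₀ R R C).symm.toRingEquiv hN1
  exact local_main C₀ hinj₀ R hN2

theorem completion_normal (A : Type u) [CommRing A] [IsLocalRing A] [IsNoetherianRing A]
    (B C : Type u) [CommRing B] [CommRing C] [Algebra A B] [Algebra A C] [Algebra B C]
    [IsScalarTower A B C]
    [Module.Finite A B] [Module.Finite A C] (hinj : Function.Injective (algebraMap B C))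
    (hB : EGA4.IsNormalRing B)
    (hC : EGA4.IsNormalRing
      (AdicCompletion ((IsLocalRing.maximalIdeal A).map (algebraMap A C)) C)) :
    EGA4.IsNormalRing
      (AdicCompletion ((IsLocalRing.maximalIdeal A).map (algebraMap A B)) B) := by
  obtain ⟨I, hI⟩ : ∃ I : Ideal B, I = (IsLocalRing.maximalIdeal A).map (algebraMap A B) :=
    ⟨_, rfl⟩
  obtain ⟨K, hK⟩ : ∃ K : Ideal C, K = (IsLocalRing.maximalIdeal A).map (algebraMap A C) :=
    ⟨_, rfl⟩
  rw [← hI]
  rw [← hK] at hC
  haveI : IsNoetherianRing B := IsNoetherianRing.of_finite A B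
  haveI : Module.Finite B C := Module.Finite.of_restrictScalars_finite A B C
  haveI : Algebra.IsIntegral B C := inferInstance
  haveI : IsNoetherianRing (AdicCompletion I B) :=
    Groth.Agent.Lib.Helper19.isNoetherianRing_adicCompletion I
  have hIK : I.map (algebraMap B C) = K := by
    rw [hI, hK, Ideal.map_map, ← IsScalarTower.algebraMap_eq]
  have hbij := Groth.Agent.Lib.Helper6.AdicFS.theta_bijective I K (le_of_eq hIK) (m := 1)
    one_pos (by rw [pow_one, hIK])
  let e : C ⊗[B] AdicCompletion I B ≃ₐ[C] AdicCompletion K C := AlgEquiv.ofBijective _ hbij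
  apply isNormalRing_of_flat_of_tensor hB (AdicCompletion I B) C hinj
  exact Groth.Agent.Lib.Helper6.SepNorm.isNormalRing_of_ringEquiv
    ((Algebra.TensorProduct.comm B (AdicCompletion I B) C).toRingEquiv.trans e.toRingEquiv).symm hC

end Groth.Agent.Helper13SubFin
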