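import Mathlib
import Groth.Agent.Lib.Helper28Normal

set_option autoImplicit false
set_option linter.style.haveILetI false
set_option linter.unusedSectionVars false

namespace Groth.Agent.Lib.Helper20.Hartogs

variable {B K : Type*} [CommRing B] [IsDomain B] [IsNoetherianRing B] [Field K] [Algebra B K]
  [IsFractionRing B K]

/-- The ideal of denominators of `f ∈ K = Frac B`. -/
def denom (f : K) : Ideal B where
  carrier := {b | ∃ a : B, f * algebraMap B K b = algebraMap B K a}
  zero_mem' := ⟨0, by simp⟩
  add_mem' := by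
    rintro x y ⟨a, ha⟩ ⟨a', ha'⟩
    exact ⟨a + a', by rw [map_add, mul_add, ha, ha', map_add]⟩
  smul_mem' := by
    rintro c x ⟨a, ha⟩
    exact ⟨c * a, by rw [smul_eq_mul, map_mul, mul_left_comm, ha, map_mul]⟩

theorem mem_denom {f : K} {b : B} :
    b ∈ denom (B := B) f ↔ ∃ a : B, f * algebraMap B K b = algebraMap B K a := Iff.rfl

/-- Key step: a prime of the form `(B : h)` with `h ∉ B`, at which `B` is normal, has height one. -/
theorem height_eq_one_of_colon (q : Ideal B) [hq : q.IsPrime]
    (hnorm : IsIntegrallyClosed (Localization.AtPrime q)) (h : K)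
    (hqh : ∀ b : B, b ∈ q ↔ ∃ a : B, h * algebraMap B K b = algebraMap B K a) :
    q.height = 1 := by
  classical
  let ι := algebraMap B K
  have hι : Function.Injective ι := IsFractionRing.injective B K
  obtain ⟨c, d, hd, hcd⟩ := IsFractionRing.div_surjective (A := B) h
  have hd0 : d ≠ 0 := nonZeroDivisors.ne_zero hd
  have hιd : ι d ≠ 0 := fun h0 => hd0 (hι (by rw [h0, map_zero]))
  -- `h * ι d = ι c`
  have hhd : h * ι d = ι c := by
    rw [← hcd]; exact div_mul_cancel₀ _ hιd
  have hdq : d ∈ q := (hqh d).mpr ⟨c, hhd⟩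
  -- translation of membership
  have hmem : ∀ b : B, b ∈ q ↔ ∃ e : B, c * b = d * e := by
    intro b
    rw [hqh b]
    constructor
    · rintro ⟨e, he⟩
      refine ⟨e, hι ?_⟩
      rw [map_mul, map_mul, ← hhd, ← he]; ring
    · rintro ⟨e, he⟩
      refine ⟨e, ?_⟩
      have : ι d * (h * ι b) = ι d * ι e := by
        rw [← map_mul (algebraMap B K) d e, ← he, map_mul (algebraMap B K) c b, ← hhd]; ring
      exact mul_left_cancel₀ hιd this
  let A' := Localization.AtPrime q
  let ι' := algebraMap B A'
  have hι' : Function.Injective ι' :=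
    IsLocalization.injective A' q.primeCompl_le_nonZeroDivisors
  have hdom : IsDomain A' := IsLocalization.isDomain_localization q.primeCompl_le_nonZeroDivisors
  have hprinc : (IsLocalRing.maximalIdeal A').IsPrincipal := by
    refine Groth.Agent.Lib.Helper28.isPrincipal_maximalIdeal_of_colon (a := ι' d) (b := ι' c)
      ?_ ?_ ?_ ?_
    · intro h0; exact hd0 (hι' (by rw [h0, map_zero]))
    · exact (IsLocalization.AtPrime.to_map_mem_maximal_iff A' q d).mpr hdq
    · intro hmem'
      obtain ⟨z, hz⟩ := Ideal.mem_span_singleton'.mp hmem'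
      obtain ⟨e, s, rfl⟩ := IsLocalization.exists_mk'_eq q.primeCompl z
      have h1 : ι' (e * d) = ι' (c * s) := by
        have := IsLocalization.mk'_spec A' e s
        rw [map_mul, map_mul, ← hz]
        calc ι' e * ι' d = (IsLocalization.mk' A' e s * ι' s) * ι' d := by rw [this]
          _ = IsLocalization.mk' A' e s * ι' d * ι' s := by ring
      have h2 : c * s = d * e := by rw [← hι' h1]; ring
      exact s.2 ((hmem s).mpr ⟨e, h2⟩)
    · intro x hx
      obtain ⟨y, s, rfl⟩ := IsLocalization.exists_mk'_eq q.primeCompl x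
      have hy : y ∈ q := (IsLocalization.AtPrime.mk'_mem_maximal_iff A' q y s).mp hx
      obtain ⟨e, he⟩ := (hmem y).mp hy
      rw [Ideal.mem_span_singleton']
      refine ⟨IsLocalization.mk' A' e s, ?_⟩
      rw [mul_comm]
      change algebraMap B A' d * _ = algebraMap B A' c * _
      rw [IsLocalization.mul_mk'_eq_mk'_of_mul, IsLocalization.mul_mk'_eq_mk'_of_mul, he]
  -- height bound
  have hle : ringKrullDim A' ≤ ((IsLocalRing.maximalIdeal A').spanFinrank : ℕ) :=
    ringKrullDim_le_spanFinrank_maximalIdeal A'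
  obtain ⟨t, ht⟩ := hprinc
  have hsf : (IsLocalRing.maximalIdeal A').spanFinrank ≤ 1 := by
    rw [ht]
    have := Submodule.spanFinrank_span_le_ncard_of_finite (R := A') (Set.finite_singleton t)
    rwa [Set.ncard_singleton] at this
  have hdim : ringKrullDim A' = q.height := IsLocalization.AtPrime.ringKrullDim_eq_height q A'
  have hle1 : q.height ≤ 1 := by
    have h3 : ((q.height : ℕ∞) : WithBot ℕ∞) ≤ ((1 : ℕ) : WithBot ℕ∞) := by
      rw [← hdim]; exact hle.trans (by exact_mod_cast hsf)
    exact_mod_cast h3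
  have hne : q.height ≠ 0 := by
    intro h0
    have hmin : q ∈ minimalPrimes B := Ideal.height_eq_zero_iff.mp h0
    rw [IsDomain.minimalPrimes_eq_singleton_bot, Set.mem_singleton_iff] at hmin
    rw [hmin] at hdq
    exact hd0 hdq
  exact le_antisymm hle1 (Order.one_le_iff_pos.mpr (pos_iff_ne_zero.mpr hne))

/-- **Algebraic Hartogs** (local form): let `B` be a Noetherian domain with fraction field `K`,
`p` a prime such that `B_q` is integrally closed for every prime `q ≤ p`. If `f ∈ K` lies in
`B_q` for every height-one prime `q ≤ p`, then `f ∈ B_p`. -/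
theorem exists_of_forall_heightOne (p : Ideal B) [hp : p.IsPrime]
    (hnorm : ∀ q : Ideal B, ∀ _ : q.IsPrime, q ≤ p → IsIntegrallyClosed (Localization.AtPrime q))
    (f : K)
    (h : ∀ q : Ideal B, q.IsPrime → q ≤ p → q.height = 1 →
      ∃ a b : B, b ∉ q ∧ f * algebraMap B K b = algebraMap B K a) :
    ∃ a b : B, b ∉ p ∧ f * algebraMap B K b = algebraMap B K a := by
  classical
  by_contra hcon
  push Not at hcon
  have hIp : denom (B := B) f ≤ p := by
    intro b hb
    by_contra hbp
    obtain ⟨a, ha⟩ := hb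
    exact hcon a b hbp ha
  obtain ⟨q, hqmin, hqp⟩ := Ideal.exists_minimalPrimes_le hIp
  have hqprime : q.IsPrime := hqmin.1.1
  have hIq : denom (B := B) f ≤ q := hqmin.1.2
  -- `q` is an associated prime of `B ⧸ I`
  have hass : q ∈ associatedPrimes B (B ⧸ denom (B := B) f) := by
    apply Module.associatedPrimes.minimalPrimes_annihilator_subset_associatedPrimes
    rw [Ideal.annihilator_quotient]
    exact hqmin
  obtain ⟨_, x, hx⟩ := Submodule.isAssociatedPrime_iff.mp hass
  obtain ⟨g, rfl⟩ := Ideal.Quotient.mk_surjective x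
  have hqg : ∀ b : B, b ∈ q ↔ ∃ a : B, (f * algebraMap B K g) * algebraMap B K b =
      algebraMap B K a := by
    intro b
    rw [hx, Submodule.mem_colon_singleton, Submodule.mem_bot]
    have e1 : b • (Ideal.Quotient.mk (denom (B := B) f)) g =
        Ideal.Quotient.mk (denom (B := B) f) (b * g) := by
      rw [map_mul]; rfl
    rw [e1, Ideal.Quotient.eq_zero_iff_mem, mem_denom]
    simp only [map_mul]
    constructor
    · rintro ⟨a, ha⟩; exact ⟨a, by rw [← ha]; ring⟩
    · rintro ⟨a, ha⟩; exact ⟨a, by rw [← ha]; ring⟩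
  have hht : q.height = 1 :=
    height_eq_one_of_colon q (hnorm q hqprime hqp) (f * algebraMap B K g) hqg
  obtain ⟨a, b, hbq, hab⟩ := h q hqprime hqp hht
  exact hbq (hIq ⟨a, hab⟩)

end Groth.Agent.Lib.Helper20.Hartogs
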