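import Mathlib
import Groth.Agent.Lib.Helper20EffCartier
import Groth.Agent.Lib.Helper20Hartogs

/-!
# Helper20CDivEq: comparing effective Cartier ideal sheaves on a normal locally Noetherian scheme
through a closed surjective morphism (Hartogs + comparison at points with DVR local ring).
-/

set_option autoImplicit false
set_option linter.style.haveILetI false
universe u
open AlgebraicGeometry CategoryTheory

namespace Groth.Agent.Lib.Helper20CDivEq


/-- If the localization of a Noetherian ring at a prime `p` is a domain, then so is the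
localization away from some `g ∉ p`. -/
theorem exists_away_isDomain {A : Type*} [CommRing A] [IsNoetherianRing A] (p : Ideal A) [p.IsPrime]
    (Ap : Type*) [CommRing Ap] [Algebra A Ap] [IsLocalization.AtPrime Ap p] [IsDomain Ap] :
    ∃ g : A, g ∉ p ∧ ∀ (Ag : Type*) [CommRing Ag] [Algebra A Ag] [IsLocalization.Away g Ag],
      IsDomain Ag := by
  classical
  set K := RingHom.ker (algebraMap A Ap) with hK
  have hKfg : K.FG := IsNoetherian.noetherian K
  obtain ⟨T, hT⟩ := hKfg
  have hex : ∀ t : A, t ∈ K → ∃ s : A, s ∈ p.primeCompl ∧ s * t = 0 := by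
    intro t ht
    rw [hK, RingHom.mem_ker, IsLocalization.map_eq_zero_iff p.primeCompl] at ht
    obtain ⟨s, hs⟩ := ht
    exact ⟨s.1, s.2, hs⟩
  choose! σ hσ using hex
  set g := ∏ t ∈ T, σ t with hg
  have hgmem : g ∈ p.primeCompl := by
    apply Submonoid.prod_mem
    intro t ht
    refine (hσ t ?_).1
    rw [← hT]
    exact Submodule.subset_span ht
  have hgK : ∀ k ∈ K, g * k = 0 := by
    intro k hk
    rw [← hT] at hk
    induction hk using Submodule.span_induction with
    | mem t ht =>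
      have h1 : σ t * t = 0 := (hσ t (by rw [← hT]; exact Submodule.subset_span ht)).2
      have h2 : σ t ∣ g := Finset.dvd_prod_of_mem σ ht
      obtain ⟨c, hc⟩ := h2
      rw [hc, mul_comm (σ t) c, mul_assoc, h1, mul_zero]
    | zero => simp
    | add x y _ _ hx hy => rw [mul_add, hx, hy, add_zero]
    | smul a x _ hx => rw [smul_eq_mul, mul_left_comm, hx, mul_zero]
  refine ⟨g, hgmem, ?_⟩
  intro Ag _ _ _
  have hunit : IsUnit (algebraMap A Ap g) :=
    IsLocalization.map_units Ap (⟨g, hgmem⟩ : p.primeCompl)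
  let φ : Ag →+* Ap := IsLocalization.Away.lift g hunit
  have hφ : ∀ a : A, φ (algebraMap A Ag a) = algebraMap A Ap a := fun a =>
    IsLocalization.Away.lift_eq g hunit a
  have hinj : Function.Injective φ := by
    rw [injective_iff_map_eq_zero]
    intro x hx
    obtain ⟨n, a, hxa⟩ := IsLocalization.Away.surj g x
    have h1 : algebraMap A Ap a = 0 := by
      rw [← hφ, ← hxa, map_mul, hx, zero_mul]
    have h2 : g * a = 0 := hgK a h1
    have hgu : IsUnit (algebraMap A Ag g) := IsLocalization.Away.algebraMap_isUnit g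
    have h3 : x * (algebraMap A Ag g) ^ (n + 1) = 0 := by
      rw [pow_succ, ← mul_assoc, hxa, ← map_mul, mul_comm, h2, map_zero]
    exact (IsUnit.mul_left_eq_zero (hgu.pow (n + 1))).mp h3
  have hnt : Nontrivial Ag := by
    refine ⟨⟨0, 1, fun h01 => ?_⟩⟩
    have := congrArg φ h01
    rw [map_zero, map_one] at this
    exact zero_ne_one this
  exact hinj.isDomain φ

/-- integral affine neighbourhoods. -/
theorem exists_affineOpen_isDomain {S : Scheme.{u}} [IsLocallyNoetherian S] (x : S)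
    [IsDomain (S.presheaf.stalk x)] (W₀ : S.Opens) (hx : x ∈ W₀) :
    ∃ (W : S.Opens) (_ : IsAffineOpen W), x ∈ W ∧ W ≤ W₀ ∧ IsDomain Γ(S, W) := by
  obtain ⟨_, ⟨W₁, hW₁, rfl⟩, hx₁, hW₁W₀⟩ :=
    S.isBasis_affineOpens.exists_subset_of_mem_open hx W₀.2
  haveI : IsNoetherianRing Γ(S, W₁) := IsLocallyNoetherian.component_noetherian ⟨W₁, hW₁⟩
  letI := S.presheaf.algebra_section_stalk ⟨x, hx₁⟩
  haveI := hW₁.isLocalization_stalk ⟨x, hx₁⟩
  obtain ⟨g, hgp, hg⟩ := exists_away_isDomain (hW₁.primeIdealOf ⟨x, hx₁⟩).asIdeal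
    (S.presheaf.stalk x)
  refine ⟨S.basicOpen g, hW₁.basicOpen g, ?_, (S.basicOpen_le g).trans hW₁W₀, ?_⟩
  · rw [Scheme.mem_basicOpen _ _ _ hx₁]
    have : S.presheaf.germ W₁ x hx₁ g = algebraMap Γ(S, W₁) (S.presheaf.stalk x) g := rfl
    rw [this, IsLocalization.AtPrime.isUnit_to_map_iff (S.presheaf.stalk x)
      (hW₁.primeIdealOf ⟨x, hx₁⟩).asIdeal]
    exact hgp
  · haveI := hW₁.isLocalization_basicOpen g
    exact hg Γ(S, S.basicOpen g)



/-- Hartogs for divisibility: in a Noetherian domain which is normal at all primes, `d ∣ e` as soon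
as this holds at all primes of height one. -/
theorem mem_span_of_forall_heightOne {B : Type*} [CommRing B] [IsDomain B] [IsNoetherianRing B]
    (hnorm : ∀ q : Ideal B, ∀ _ : q.IsPrime, IsIntegrallyClosed (Localization.AtPrime q))
    (d e : B) (hd : d ≠ 0)
    (h : ∀ q : Ideal B, q.IsPrime → q.height = 1 → ∃ a b : B, b ∉ q ∧ b * e = a * d) :
    e ∈ Ideal.span {d} := by
  let K := FractionRing B
  let f : K := algebraMap B K e / algebraMap B K d
  have hdK : algebraMap B K d ≠ 0 := by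
    intro h0
    exact hd (IsFractionRing.injective B K (by rw [h0, map_zero]))
  let J : Ideal B := (Ideal.span {d}).colon (Ideal.span {e})
  have hJ : ∀ b : B, b ∈ J ↔ b * e ∈ Ideal.span {d} := by
    intro b
    simp only [J]
    rw [Submodule.mem_colon]
    constructor
    · intro hb
      have := hb e (Ideal.subset_span rfl)
      simpa [smul_eq_mul] using this
    · intro hb x hx
      obtain ⟨c, rfl⟩ := Ideal.mem_span_singleton'.mp hx
      rw [smul_eq_mul, mul_left_comm]
      exact Ideal.mul_mem_left _ _ hb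
  have hJtop : J = ⊤ := by
    by_contra hne
    obtain ⟨p, hpmax, hJp⟩ := Ideal.exists_le_maximal J hne
    haveI : p.IsPrime := hpmax.isPrime
    obtain ⟨a, b, hbp, hab⟩ := Groth.Agent.Lib.Helper20.Hartogs.exists_of_forall_heightOne
      (B := B) (K := K) p (fun q hq _ => hnorm q hq) f (by
        intro q hq _ hht
        obtain ⟨a, b, hbq, hab⟩ := h q hq hht
        refine ⟨a, b, hbq, ?_⟩
        simp only [f]
        rw [div_mul_eq_mul_div, div_eq_iff hdK, ← map_mul, ← map_mul, mul_comm e b, hab])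
    apply hbp
    apply hJp
    rw [hJ]
    simp only [f] at hab
    rw [div_mul_eq_mul_div, div_eq_iff hdK, ← map_mul, ← map_mul] at hab
    have := IsFractionRing.injective B K hab
    rw [Ideal.mem_span_singleton']
    exact ⟨a, by rw [mul_comm b e, this]⟩
  have h1 : (1 : B) ∈ J := by rw [hJtop]; trivial
  rw [hJ, one_mul] at h1
  exact h1



/-- Algebraic core of the comparison at a codimension one point. -/
theorem dvd_of_map_mem_span {R O' Rξ Ξ : Type*} [CommRing R] [IsDomain R]
    [IsDiscreteValuationRing R] [CommRing O'] [IsLocalRing O'] [CommRing Rξ] [CommRing Ξ]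
    [Nontrivial Ξ] (ψ : R →+* O') [IsLocalHom ψ] (ρ : R →+* Rξ) (χ : Rξ →+* Ξ) (θ : O' →+* Ξ)
    (hcomm : θ.comp ψ = χ.comp ρ) (d e : R) (hd : IsUnit (ρ d)) (he : IsUnit (ρ e))
    (h : ψ e ∈ Ideal.span {ψ d}) : d ∣ e := by
  haveI : Nontrivial Rξ := by
    refine ⟨⟨0, 1, fun h01 => ?_⟩⟩
    have := congrArg χ h01
    rw [map_zero, map_one] at this
    exact zero_ne_one this
  have hd0 : d ≠ 0 := by
    rintro rfl
    rw [map_zero] at hd
    exact not_isUnit_zero hd
  have he0 : e ≠ 0 := by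
    rintro rfl
    rw [map_zero] at he
    exact not_isUnit_zero he
  obtain ⟨π, hπ⟩ := IsDiscreteValuationRing.exists_irreducible R
  obtain ⟨a, u, hdu⟩ := IsDiscreteValuationRing.eq_unit_mul_pow_irreducible hd0 hπ
  obtain ⟨b, v, hev⟩ := IsDiscreteValuationRing.eq_unit_mul_pow_irreducible he0 hπ
  by_cases hab : a ≤ b
  · refine ⟨(↑(v * u⁻¹) : R) * π ^ (b - a), ?_⟩
    rw [hdu, hev]
    have : π ^ b = π ^ a * π ^ (b - a) := by rw [← pow_add, Nat.add_sub_cancel' hab]
    rw [this, Units.val_mul]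
    have hu : (↑u : R) * ↑u⁻¹ = 1 := Units.mul_inv u
    calc (↑v : R) * (π ^ a * π ^ (b - a)) = (↑v : R) * ((↑u : R) * ↑u⁻¹) * (π ^ a * π ^ (b - a)) := by
          rw [hu, mul_one]
      _ = ↑u * π ^ a * (↑v * ↑u⁻¹ * π ^ (b - a)) := by ring
  · exfalso
    push Not at hab
    -- `a ≥ 1`, so `ρ π` is a unit
    have ha1 : 1 ≤ a := by omega
    have hρπ : IsUnit (ρ π) := by
      rw [hdu, map_mul, map_pow] at hd
      have h1 : IsUnit (ρ π ^ a) := isUnit_of_mul_isUnit_right hd
      exact (isUnit_pow_iff (by omega)).mp h1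
    obtain ⟨τ, hτ⟩ := Ideal.mem_span_singleton'.mp h
    -- `ψ π ^ b * (ψ v - τ * ψ u * ψ π ^ (a - b)) = 0`
    have hπm : ψ π ∈ IsLocalRing.maximalIdeal O' := by
      rw [IsLocalRing.mem_maximalIdeal, mem_nonunits_iff]
      intro hu
      exact hπ.not_isUnit (isUnit_of_map_unit ψ π hu)
    have hfac : ψ π ^ b * (ψ ↑v - τ * ψ ↑u * ψ π ^ (a - b)) = 0 := by
      have h1 : ψ e = ψ ↑v * ψ π ^ b := by rw [hev, map_mul, map_pow]
      have h2 : ψ d = ψ ↑u * ψ π ^ a := by rw [hdu, map_mul, map_pow]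
      have h3 : ψ π ^ a = ψ π ^ b * ψ π ^ (a - b) := by
        rw [← pow_add, Nat.add_sub_cancel' hab.le]
      rw [h1, h2, h3] at hτ
      linear_combination -hτ
    have hunit : IsUnit (ψ ↑v - τ * ψ ↑u * ψ π ^ (a - b)) := by
      have hv : IsUnit (ψ (↑v : R)) := (v.isUnit).map ψ
      have hm : τ * ψ ↑u * ψ π ^ (a - b) ∈ IsLocalRing.maximalIdeal O' := by
        apply Ideal.mul_mem_left
        have : a - b = (a - b - 1) + 1 := by omega
        rw [this, pow_succ]
        exact Ideal.mul_mem_left _ _ hπm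
      by_contra hnu
      have hmem : ψ ↑v - τ * ψ ↑u * ψ π ^ (a - b) ∈ IsLocalRing.maximalIdeal O' := by
        rwa [IsLocalRing.mem_maximalIdeal, mem_nonunits_iff]
      have : ψ (↑v : R) ∈ IsLocalRing.maximalIdeal O' := by
        have := Ideal.add_mem _ hmem hm
        simpa using this
      rw [IsLocalRing.mem_maximalIdeal, mem_nonunits_iff] at this
      exact this hv
    have hzero : ψ π ^ b = 0 := (IsUnit.mul_left_eq_zero hunit).mp hfac
    have h4 : χ (ρ π) ^ b = 0 := by
      have : χ (ρ π) = θ (ψ π) := by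
        have := congrArg (fun g : R →+* Ξ => g π) hcomm
        simpa using this.symm
      rw [this, ← map_pow, hzero, map_zero]
    have h5 : IsUnit (χ (ρ π) ^ b) := ((hρπ.map χ).pow b)
    rw [h4] at h5
    exact not_isUnit_zero h5

open Groth.Agent.Lib.Helper20.EffCartier in
/-- Geometric comparison at a point with DVR local ring. -/
theorem dvd_germ_of_comap_le {S S' : Scheme.{u}} (f : S' ⟶ S) (D E : S.IdealSheafData)
    (h : E.comap f ≤ D.comap f)
    {W : S.Opens} (hW : IsAffineOpen W) (d e : Γ(S, W))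
    (hD : D.ideal ⟨W, hW⟩ = Ideal.span {d}) (hE : E.ideal ⟨W, hW⟩ = Ideal.span {e})
    (η' y' : S') (hηy : η' ⤳ y') (hy : f.base y' ∈ W) (hη : f.base η' ∈ W)
    [IsDomain (S.presheaf.stalk (f.base y'))]
    [IsDiscreteValuationRing (S.presheaf.stalk (f.base y'))]
    (hdη : IsUnit (S.presheaf.germ W (f.base η') hη d))
    (heη : IsUnit (S.presheaf.germ W (f.base η') hη e)) :
    S.presheaf.germ W (f.base y') hy d ∣ S.presheaf.germ W (f.base y') hy e := by
  obtain ⟨_, ⟨W', hW', rfl⟩, hy'W', hW'W⟩ :=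
    S'.isBasis_affineOpens.exists_subset_of_mem_open (show y' ∈ (f ⁻¹ᵁ W : Set S') from hy)
      (f ⁻¹ᵁ W).2
  have hW'W' : W' ≤ f ⁻¹ᵁ W := hW'W
  have hle := h ⟨W', hW'⟩
  rw [ideal_comap_eq_map f E hW' hW hW'W', ideal_comap_eq_map f D hW' hW hW'W', hD, hE,
    Ideal.map_span, Ideal.map_span, Set.image_singleton, Set.image_singleton,
    Ideal.span_singleton_le_span_singleton] at hle
  obtain ⟨t, ht⟩ := hle
  -- stalk map on germs
  have hgerm : ∀ s : Γ(S, W), (f.stalkMap y').hom (S.presheaf.germ W (f.base y') hy s) =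
      S'.presheaf.germ W' y' hy'W' ((f.appLE W W' hW'W').hom s) := by
    intro s
    have h1 := Scheme.Hom.germ_stalkMap_apply f W y' hy s
    rw [Scheme.Hom.appLE]
    change (f.stalkMap y') _ = _
    rw [h1]
    exact (TopCat.Presheaf.germ_res_apply S'.presheaf (homOfLE hW'W') y' hy'W' _).symm
  apply dvd_of_map_mem_span (f.stalkMap y').hom
    (S.presheaf.stalkSpecializes (f.base.hom.map_specializes hηy)).hom
    (f.stalkMap η').hom (S'.presheaf.stalkSpecializes hηy).hom
  · rw [← CommRingCat.hom_comp, ← CommRingCat.hom_comp, Scheme.Hom.stalkSpecializes_stalkMap]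
  · have := TopCat.Presheaf.germ_stalkSpecializes_apply S.presheaf hy
      (f.base.hom.map_specializes hηy) d
    change IsUnit ((S.presheaf.stalkSpecializes (f.base.hom.map_specializes hηy))
      (S.presheaf.germ W (f.base y') hy d))
    rw [this]
    exact hdη
  · have := TopCat.Presheaf.germ_stalkSpecializes_apply S.presheaf hy
      (f.base.hom.map_specializes hηy) e
    change IsUnit ((S.presheaf.stalkSpecializes (f.base.hom.map_specializes hηy))
      (S.presheaf.germ W (f.base y') hy e))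
    rw [this]
    exact heη
  · rw [hgerm, hgerm, ht, map_mul, Ideal.mem_span_singleton']
    exact ⟨_, mul_comm _ _⟩

/-- A Noetherian normal local domain which is the localization at a height one prime is a DVR. -/
theorem isDiscreteValuationRing_of_height_one {B R : Type*} [CommRing B] [CommRing R] [Algebra B R]
    (q : Ideal B) [q.IsPrime] [IsLocalization.AtPrime R q] (hq : q.height = 1)
    [IsDomain R] [IsIntegrallyClosed R] [IsNoetherianRing R] :
    IsDiscreteValuationRing R := by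
  haveI : IsLocalRing R := IsLocalization.AtPrime.isLocalRing R q
  have hdim : ringKrullDim R = 1 := by
    rw [IsLocalization.AtPrime.ringKrullDim_eq_height q R, hq]; rfl
  have hnf : ¬ IsField R := fun hf => by
    have := ringKrullDim_eq_zero_of_isField hf
    rw [hdim] at this
    exact one_ne_zero this
  haveI : Ring.KrullDimLE 1 R := by
    rw [Ring.krullDimLE_iff, hdim]; rfl
  have hne : IsLocalRing.maximalIdeal R ≠ ⊥ :=
    IsLocalRing.isField_iff_maximalIdeal_eq.not.mp hnf
  have h03 : IsDiscreteValuationRing R ↔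
      (IsIntegrallyClosed R ∧ ∃! P : Ideal R, P ≠ ⊥ ∧ P.IsPrime) :=
    (IsDiscreteValuationRing.TFAE R hnf).out 0 3
  rw [h03]
  refine ⟨inferInstance, IsLocalRing.maximalIdeal _, ⟨hne, inferInstance⟩, ?_⟩
  rintro P ⟨hP0, hP⟩
  exact IsLocalRing.eq_maximalIdeal (hP.isMaximal_of_ne_bot hP0)

theorem fromSpec_mem {X : Scheme.{u}} {W : X.Opens} (hW : IsAffineOpen W)
    (z : PrimeSpectrum Γ(X, W)) : hW.fromSpec z ∈ W := by
  have : hW.fromSpec z ∈ Set.range hW.fromSpec := Set.mem_range_self z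
  rw [hW.range_fromSpec] at this
  exact this

/-- divisibility of germs at points with DVR local ring -/
theorem dvd_germ_of_dvr {S S' : Scheme.{u}} (f : S' ⟶ S) (hcl : IsClosedMap f.base)
    (hsurj : Function.Surjective f.base) (D E : S.IdealSheafData)
    (h : E.comap f ≤ D.comap f)
    {W : S.Opens} (hW : IsAffineOpen W) (d e : Γ(S, W))
    (hD : D.ideal ⟨W, hW⟩ = Ideal.span {d}) (hE : E.ideal ⟨W, hW⟩ = Ideal.span {e})
    (ξ : S) (hξW : ξ ∈ W) (hdξ : IsUnit (S.presheaf.germ W ξ hξW d))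
    (heξ : IsUnit (S.presheaf.germ W ξ hξW e))
    (y : S) (hyW : y ∈ W) (hξy : ξ ⤳ y) [IsDomain (S.presheaf.stalk y)]
    [IsDiscreteValuationRing (S.presheaf.stalk y)] :
    S.presheaf.germ W y hyW d ∣ S.presheaf.germ W y hyW e := by
  obtain ⟨η', rfl⟩ := hsurj ξ
  obtain ⟨y', hηy', rfl⟩ := hcl.specializingMap hξy
  exact dvd_germ_of_comap_le f D E h hW d e hD hE η' y' hηy' hyW hξW hdξ heξ

/-- global divisibility from the comparison upstairs -/
theorem mem_span_of_comap_le {S S' : Scheme.{u}} [IsLocallyNoetherian S]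
    (hnorm : ∀ x : S, IsDomain (S.presheaf.stalk x) ∧ IsIntegrallyClosed (S.presheaf.stalk x))
    (f : S' ⟶ S) (hcl : IsClosedMap f.base)
    (hsurj : Function.Surjective f.base) (D E : S.IdealSheafData)
    (h : E.comap f ≤ D.comap f)
    {W : S.Opens} (hW : IsAffineOpen W) [IsDomain Γ(S, W)] (d e : Γ(S, W)) (hd0 : d ≠ 0)
    (hD : D.ideal ⟨W, hW⟩ = Ideal.span {d}) (hE : E.ideal ⟨W, hW⟩ = Ideal.span {e})
    (ξ : S) (hξW : ξ ∈ W) (hξ : ∀ y ∈ W, ξ ⤳ y)
    (hdξ : IsUnit (S.presheaf.germ W ξ hξW d))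
    (heξ : IsUnit (S.presheaf.germ W ξ hξW e)) :
    e ∈ Ideal.span {d} := by
  haveI : IsNoetherianRing Γ(S, W) := IsLocallyNoetherian.component_noetherian ⟨W, hW⟩
  apply mem_span_of_forall_heightOne _ d e hd0
  · intro q hq hht
    have hyW : hW.fromSpec ⟨q, hq⟩ ∈ W := fromSpec_mem hW _
    letI := S.presheaf.algebra_section_stalk ⟨hW.fromSpec ⟨q, hq⟩, hyW⟩
    haveI : IsLocalization.AtPrime (S.presheaf.stalk (hW.fromSpec ⟨q, hq⟩)) q :=
      hW.isLocalization_stalk' ⟨q, hq⟩ hyW
    haveI : IsDomain (S.presheaf.stalk (hW.fromSpec ⟨q, hq⟩)) := (hnorm _).1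
    haveI : IsIntegrallyClosed (S.presheaf.stalk (hW.fromSpec ⟨q, hq⟩)) := (hnorm _).2
    haveI : IsDiscreteValuationRing (S.presheaf.stalk (hW.fromSpec ⟨q, hq⟩)) :=
      isDiscreteValuationRing_of_height_one q hht
    obtain ⟨c, hc⟩ := dvd_germ_of_dvr f hcl hsurj D E h hW d e hD hE ξ hξW hdξ heξ
      (hW.fromSpec ⟨q, hq⟩) hyW (hξ _ hyW)
    obtain ⟨a, b, rfl⟩ := IsLocalization.exists_mk'_eq q.primeCompl c
    refine ⟨a, b.1, b.2, ?_⟩
    have hinj : Function.Injective
        (algebraMap Γ(S, W) (S.presheaf.stalk (hW.fromSpec ⟨q, hq⟩))) :=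
      IsLocalization.injective _ (M := q.primeCompl) q.primeCompl_le_nonZeroDivisors
    apply hinj
    have hg : ∀ s : Γ(S, W), S.presheaf.germ W (hW.fromSpec ⟨q, hq⟩) hyW s =
        algebraMap Γ(S, W) (S.presheaf.stalk (hW.fromSpec ⟨q, hq⟩)) s := fun s => rfl
    rw [hg, hg] at hc
    rw [map_mul, map_mul, hc, mul_comm (algebraMap _ _ d), ← mul_assoc,
      IsLocalization.mk'_spec']
  · intro q hq
    have hyW : hW.fromSpec ⟨q, hq⟩ ∈ W := fromSpec_mem hW _
    letI := S.presheaf.algebra_section_stalk ⟨hW.fromSpec ⟨q, hq⟩, hyW⟩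
    haveI : IsLocalization.AtPrime (S.presheaf.stalk (hW.fromSpec ⟨q, hq⟩)) q :=
      hW.isLocalization_stalk' ⟨q, hq⟩ hyW
    haveI : IsIntegrallyClosed (S.presheaf.stalk (hW.fromSpec ⟨q, hq⟩)) := (hnorm _).2
    exact IsIntegrallyClosed.of_equiv
      (IsLocalization.algEquiv q.primeCompl (S.presheaf.stalk (hW.fromSpec ⟨q, hq⟩))
        (Localization.AtPrime q)).toRingEquiv


/-- germs of a nonzerodivisor over an affine open are nonzerodivisors. -/
theorem germ_mem_nonZeroDivisors {X : Scheme.{u}} {U : X.Opens} (hU : IsAffineOpen U) (s : Γ(X, U))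
    (hs : s ∈ nonZeroDivisors Γ(X, U)) (x : U) :
    X.presheaf.germ U x.1 x.2 s ∈ nonZeroDivisors (X.presheaf.stalk x.1) := by
  have inst := hU.isLocalization_stalk x
  have h1 : (X.presheaf.germ U x.1 x.2).hom = algebraMap Γ(X, U) (X.presheaf.stalk x.1) := rfl
  change (X.presheaf.germ U x.1 x.2).hom s ∈ _
  rw [h1]
  exact IsLocalization.map_nonZeroDivisors_le (hU.primeIdealOf x).asIdeal.primeCompl _
    (Submonoid.mem_map_of_mem _ hs)

end Groth.Agent.Lib.Helper20CDivEq
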