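import Mathlib
import Groth.Prelude.Def_Pi1
import Groth.Prelude.Def_EGA4b
import Groth.Agent.Lib.Helper20CDivEq

/-!
# helper20: normality of rings of sections of normal schemes

* sheaf-level tools: `section_ext'`, `isOpen_setOf_germ_ne_zero`, `exists_glue_zero`,
  `exists_support_idempotent`, `exists_eq_mul_of_forall_germ_dvd` (divisibility is stalk-local)
* `isNormalRing_of_sections`: if `X` is a normal locally Noetherian scheme, `U` an open and `A'` a ring
  mapping injectively onto a subring of `Γ(X, U)` that is integrally closed in `Γ(X, U)`, then `A'` is a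
  normal ring (all localizations at primes are integrally closed domains).
-/

set_option autoImplicit false
set_option linter.style.haveILetI false
universe u
open AlgebraicGeometry CategoryTheory TopologicalSpace Opposite Polynomial

namespace Groth.Agent.Lib.Helper20NormalSec

open Groth.Agent.Lib.Helper20CDivEq



variable {X : Scheme.{u}}

/-- Two sections with the same germs are equal. -/
theorem section_ext' {U : X.Opens} (a b : Γ(X, U))
    (h : ∀ (x : X) (hx : x ∈ U), X.presheaf.germ U x hx a = X.presheaf.germ U x hx b) : a = b :=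
  TopCat.Presheaf.section_ext X.sheaf U a b h

theorem germ_map {U V : X.Opens} (i : V ≤ U) (a : Γ(X, U)) (x : X) (hx : x ∈ V) :
    X.presheaf.germ V x hx (X.presheaf.map (homOfLE i).op a) = X.presheaf.germ U x (i hx) a :=
  TopCat.Presheaf.germ_res_apply X.presheaf (homOfLE i) x hx a

/-- On an integral affine open the germ maps are injective. -/
theorem germ_injective_of_isDomain {W : X.Opens} (hW : IsAffineOpen W) [IsDomain Γ(X, W)]
    (x : X) (hx : x ∈ W) : Function.Injective (X.presheaf.germ W x hx) := by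
  letI := X.presheaf.algebra_section_stalk ⟨x, hx⟩
  haveI := hW.isLocalization_stalk ⟨x, hx⟩
  have := IsLocalization.injective (X.presheaf.stalk x)
    (M := (hW.primeIdealOf ⟨x, hx⟩).asIdeal.primeCompl)
    (Ideal.primeCompl_le_nonZeroDivisors _)
  exact this

/-- The vanishing locus of the germs of a section is open. -/
theorem isOpen_setOf_germ_eq_zero {U : X.Opens} (a : Γ(X, U)) :
    IsOpen {x : X | ∃ hx : x ∈ U, X.presheaf.germ U x hx a = 0} := by
  rw [isOpen_iff_forall_mem_open]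
  rintro x ⟨hxU, hx⟩
  have h0 : X.presheaf.germ U x hxU a = X.presheaf.germ U x hxU 0 := by rw [hx, map_zero]
  obtain ⟨W, hxW, iU, iV, hW⟩ := TopCat.Presheaf.germ_eq X.presheaf x hxU hxU a 0 h0
  refine ⟨W, ?_, W.2, hxW⟩
  intro z hz
  refine ⟨iU.le hz, ?_⟩
  have := TopCat.Presheaf.germ_res_apply X.presheaf iU z hz a
  rw [← this, hW, map_zero, map_zero]

/-- In a locally Noetherian scheme whose local rings are domains the support of a section is
open. -/
theorem isOpen_setOf_germ_ne_zero [IsLocallyNoetherian X]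
    (hX : ∀ x : X, IsDomain (X.presheaf.stalk x)) {U : X.Opens} (a : Γ(X, U)) :
    IsOpen {x : X | ∃ hx : x ∈ U, X.presheaf.germ U x hx a ≠ 0} := by
  rw [isOpen_iff_forall_mem_open]
  rintro x ⟨hxU, hx⟩
  haveI := hX x
  obtain ⟨W, hW, hxW, hWU, hdom⟩ := exists_affineOpen_isDomain x U hxU
  haveI := hdom
  refine ⟨W, ?_, W.2, hxW⟩
  intro z hz
  refine ⟨hWU hz, ?_⟩
  have hne : X.presheaf.map (homOfLE hWU).op a ≠ 0 := by
    intro h0
    apply hx
    rw [← germ_map hWU a x hxW, h0, map_zero]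
  rw [← germ_map hWU a z hz]
  intro h0
  apply hne
  apply germ_injective_of_isDomain hW z hz
  rw [h0, map_zero]

/-- Gluing a section on `U₁` with zero on a disjoint open `U₂`. -/
theorem exists_glue_zero (U₁ U₂ U : X.Opens) (hdisj : U₁ ⊓ U₂ = ⊥) (h₁ : U₁ ≤ U) (h₂ : U₂ ≤ U)
    (hU : U ≤ U₁ ⊔ U₂) (s₁ : Γ(X, U₁)) :
    ∃ s : Γ(X, U), X.presheaf.map (homOfLE h₁).op s = s₁ ∧
      X.presheaf.map (homOfLE h₂).op s = 0 := by
  haveI : Subsingleton Γ(X, U₁ ⊓ U₂) := by rw [hdisj]; infer_instance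
  let x : (CommRingCat.of <| RingHom.eqLocus
      (RingHom.comp (X.sheaf.obj.map (homOfLE inf_le_left : U₁ ⊓ U₂ ⟶ U₁).op).hom
        (RingHom.fst (X.sheaf.obj.obj <| op U₁) (X.sheaf.obj.obj <| op U₂)))
      (RingHom.comp (X.sheaf.obj.map (homOfLE inf_le_right : U₁ ⊓ U₂ ⟶ U₂).op).hom
        (RingHom.snd (X.sheaf.obj.obj <| op U₁) (X.sheaf.obj.obj <| op U₂)))) :=
    ⟨(s₁, (0 : Γ(X, U₂))), Subsingleton.elim (α := Γ(X, U₁ ⊓ U₂)) _ _⟩
  obtain ⟨e₀, he₀⟩ : ∃ e₀ : Γ(X, U₁ ⊔ U₂), e₀ = (X.sheaf.objSupIsoProdEqLocus U₁ U₂).inv x :=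
    ⟨_, rfl⟩
  have h1 : X.presheaf.map (homOfLE (le_sup_left : U₁ ≤ U₁ ⊔ U₂)).op e₀ = s₁ := by
    rw [he₀]; exact X.sheaf.objSupIsoProdEqLocus_inv_fst U₁ U₂ x
  have h2 : X.presheaf.map (homOfLE (le_sup_right : U₂ ≤ U₁ ⊔ U₂)).op e₀ = 0 := by
    rw [he₀]; exact X.sheaf.objSupIsoProdEqLocus_inv_snd U₁ U₂ x
  refine ⟨X.presheaf.map (homOfLE hU).op e₀, ?_, ?_⟩
  · rw [← h1, ← ConcreteCategory.comp_apply, ← Functor.map_comp]; rfl
  · rw [← h2, ← ConcreteCategory.comp_apply, ← Functor.map_comp]; rfl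

/-- The idempotent cutting out the support of a section. -/
theorem exists_support_idempotent [IsLocallyNoetherian X]
    (hX : ∀ x : X, IsDomain (X.presheaf.stalk x)) {U : X.Opens} (a : Γ(X, U)) :
    ∃ e : Γ(X, U),
      (∀ (x : X) (hx : x ∈ U), X.presheaf.germ U x hx a ≠ 0 → X.presheaf.germ U x hx e = 1) ∧
      (∀ (x : X) (hx : x ∈ U), X.presheaf.germ U x hx a = 0 → X.presheaf.germ U x hx e = 0) := by
  let U₁ : X.Opens := ⟨_, isOpen_setOf_germ_ne_zero hX a⟩
  let U₂ : X.Opens := ⟨_, isOpen_setOf_germ_eq_zero a⟩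
  have h₁ : U₁ ≤ U := fun x hx => hx.1
  have h₂ : U₂ ≤ U := fun x hx => hx.1
  have hdisj : U₁ ⊓ U₂ = ⊥ := by
    rw [eq_bot_iff]
    rintro x ⟨⟨hx, h1⟩, ⟨_, h2⟩⟩
    exact (h1 h2).elim
  have hU : U ≤ U₁ ⊔ U₂ := by
    intro x hx
    by_cases h0 : X.presheaf.germ U x hx a = 0
    · exact Or.inr ⟨hx, h0⟩
    · exact Or.inl ⟨hx, h0⟩
  obtain ⟨e, he1, he2⟩ := exists_glue_zero U₁ U₂ U hdisj h₁ h₂ hU 1
  refine ⟨e, ?_, ?_⟩
  · intro x hx hne
    have hx1 : x ∈ U₁ := ⟨hx, hne⟩
    rw [← germ_map h₁ e x hx1, he1, map_one]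
  · intro x hx h0
    have hx2 : x ∈ U₂ := ⟨hx, h0⟩
    rw [← germ_map h₂ e x hx2, he2, map_zero]

/-- Divisibility of sections can be checked on germs, if the divisor is a nonzerodivisor in all
local rings. -/
theorem exists_eq_mul_of_forall_germ_dvd {U : X.Opens} (a b : Γ(X, U))
    (hb : ∀ (x : X) (hx : x ∈ U), X.presheaf.germ U x hx b ∈ nonZeroDivisors (X.presheaf.stalk x))
    (h : ∀ (x : X) (hx : x ∈ U), X.presheaf.germ U x hx b ∣ X.presheaf.germ U x hx a) :
    ∃ d : Γ(X, U), a = d * b := by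
  have hloc : ∀ x : U, ∃ (V : X.Opens) (i : V ⟶ U) (_ : x.1 ∈ V) (d : Γ(X, V)),
      X.presheaf.map i.op a = d * X.presheaf.map i.op b := by
    rintro ⟨x, hx⟩
    obtain ⟨δ, hδ⟩ := h x hx
    obtain ⟨V₀, hxV₀, d₀, rfl⟩ := TopCat.Presheaf.exists_germ_eq X.presheaf δ
    have hxV₁ : x ∈ V₀ ⊓ U := ⟨hxV₀, hx⟩
    let t : Γ(X, V₀ ⊓ U) := X.presheaf.map (homOfLE (inf_le_left : V₀ ⊓ U ≤ V₀)).op d₀ *
      X.presheaf.map (homOfLE (inf_le_right : V₀ ⊓ U ≤ U)).op b
    have ht : X.presheaf.germ U x hx a = X.presheaf.germ (V₀ ⊓ U) x hxV₁ t := by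
      rw [hδ, map_mul, germ_map, germ_map, mul_comm]
    obtain ⟨W, hxW, iU, iV, hW⟩ := TopCat.Presheaf.germ_eq X.presheaf x hx hxV₁ a t ht
    refine ⟨W, iU, hxW, X.presheaf.map iV.op
      (X.presheaf.map (homOfLE (inf_le_left : V₀ ⊓ U ≤ V₀)).op d₀), ?_⟩
    rw [hW, map_mul]
    congr 1
    rw [← ConcreteCategory.comp_apply, ← Functor.map_comp]
    rfl
  choose V iVU m d hd using hloc
  have hcover : U ≤ iSup V := by
    intro x hxU
    simp only [Opens.mem_iSup]
    exact ⟨⟨x, hxU⟩, m ⟨x, hxU⟩⟩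
  have ic : TopCat.Presheaf.IsCompatible X.sheaf.obj V d := by
    intro x y
    apply TopCat.Presheaf.section_ext X.sheaf (V x ⊓ V y)
    rintro z ⟨hzVx, hzVy⟩
    rw [TopCat.Presheaf.germ_res_apply, TopCat.Presheaf.germ_res_apply]
    have hzU : z ∈ U := (iVU x).le hzVx
    have h1 : X.presheaf.germ (V x) z hzVx (d x) * X.presheaf.germ U z hzU b =
        X.presheaf.germ U z hzU a := by
      have := congrArg (X.presheaf.germ (V x) z hzVx) (hd x)
      rw [map_mul, TopCat.Presheaf.germ_res_apply, TopCat.Presheaf.germ_res_apply] at this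
      exact this.symm
    have h2 : X.presheaf.germ (V y) z hzVy (d y) * X.presheaf.germ U z hzU b =
        X.presheaf.germ U z hzU a := by
      have := congrArg (X.presheaf.germ (V y) z hzVy) (hd y)
      rw [map_mul, TopCat.Presheaf.germ_res_apply, TopCat.Presheaf.germ_res_apply] at this
      exact this.symm
    exact mul_cancel_right_mem_nonZeroDivisors (hb z hzU) |>.mp (h1.trans h2.symm)
  obtain ⟨gl, gl_spec, -⟩ :
      ∃ gl : X.presheaf.obj (op U), (∀ i, (X.sheaf.obj.map (iVU i).op) gl = d i) ∧ _ :=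
    X.sheaf.existsUnique_gluing' V U iVU hcover d ic
  refine ⟨gl, ?_⟩
  apply X.sheaf.eq_of_locally_eq' V U iVU hcover
  intro i
  change (X.presheaf.map (iVU i).op).hom a = (X.presheaf.map (iVU i).op).hom (gl * b)
  rw [map_mul]
  have : (X.presheaf.map (iVU i).op).hom gl = d i := gl_spec i
  rw [this]
  exact hd i




/-- In an integrally closed domain, a homogenised integral equation gives divisibility. -/
theorem dvd_of_eval₂_scaleRoots_eq_zero {R O : Type*} [CommRing R] [CommRing O] [IsDomain O]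
    [IsIntegrallyClosed O] (f : R →+* O) (q : R[X]) (hq : q.Monic) (a b : R) (hb : f b ≠ 0)
    (h : eval₂ f (f a) (scaleRoots q b) = 0) : f b ∣ f a := by
  let K := FractionRing O
  let F : R →+* K := (algebraMap O K).comp f
  have hFb : F b ≠ 0 := by
    change algebraMap O K (f b) ≠ 0
    rwa [Ne, map_eq_zero_iff _ (IsFractionRing.injective O K)]
  set ξ : K := F a / F b with hξ
  have h1 : eval₂ F (F b * ξ) (scaleRoots q b) = F b ^ q.natDegree * eval₂ F ξ q :=
    scaleRoots_eval₂_mul F ξ b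
  have h2 : F b * ξ = F a := by rw [hξ]; exact mul_div_cancel₀ _ hFb
  have h3 : eval₂ F (F a) (scaleRoots q b) = 0 := by
    have := hom_eval₂ (scaleRoots q b) f (algebraMap O K) (f a)
    rw [h, map_zero] at this
    exact this.symm
  rw [h2, h3] at h1
  have h4 : eval₂ F ξ q = 0 := by
    rcases mul_eq_zero.mp h1.symm with h | h
    · exact (pow_ne_zero _ hFb h).elim
    · exact h
  have hint : IsIntegral O ξ := by
    refine ⟨q.map f, hq.map f, ?_⟩
    rw [eval₂_map]
    exact h4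
  obtain ⟨d, hd⟩ := (isIntegrallyClosed_iff K).mp ‹_› hint
  refine ⟨d, ?_⟩
  apply IsFractionRing.injective O K
  rw [map_mul, hd, hξ]
  change F a = algebraMap O K (f b) * (F a / F b)
  change F a = F b * (F a / F b)
  exact (mul_div_cancel₀ _ hFb).symm

/-- If `a = d * b` and the homogenised equation holds, then `q(d) = 0` (in a domain). -/
theorem eval₂_eq_zero_of_eval₂_scaleRoots {R O : Type*} [CommRing R] [CommRing O] [IsDomain O]
    (f : R →+* O) (q : R[X]) (a b : R) (d : O) (hb : f b ≠ 0) (hd : f a = d * f b)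
    (h : eval₂ f (f a) (scaleRoots q b) = 0) : eval₂ f d q = 0 := by
  have h1 : eval₂ f (f b * d) (scaleRoots q b) = f b ^ q.natDegree * eval₂ f d q :=
    scaleRoots_eval₂_mul f d b
  rw [mul_comm (f b) d, ← hd, h] at h1
  rcases mul_eq_zero.mp h1.symm with h | h
  · exact (pow_ne_zero _ hb h).elim
  · exact h

/-- Homogeneity of the homogenised polynomial. -/
theorem eval_scaleRoots_mul_mul {R : Type*} [CommRing R] (q : R[X]) (a b v : R) :
    eval (v * a) (scaleRoots q (b * v)) = v ^ q.natDegree * eval a (scaleRoots q b) := by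
  rw [scaleRoots_mul, scaleRoots_eval_mul, natDegree_scaleRoots]


section main

variable [IsLocallyNoetherian X] (hX : Pi1.IsNormalScheme X) (U : X.Opens)
  {A' : Type u} [CommRing A'] [Algebra A' Γ(X, U)]
  (hinj : Function.Injective (algebraMap A' Γ(X, U)))
  (hcl : ∀ b : Γ(X, U), IsIntegral A' b → ∃ a' : A', algebraMap A' Γ(X, U) a' = b)

include hX hinj hcl

/-- the support idempotent of (the image of) an element of `A'`, as an element of `A'`. -/
theorem exists_support_idempotent' (a : A') :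
    ∃ e : A', e * a = a ∧
      (∀ (x : X) (hx : x ∈ U), X.presheaf.germ U x hx (algebraMap A' Γ(X, U) a) ≠ 0 →
        X.presheaf.germ U x hx (algebraMap A' Γ(X, U) e) = 1) ∧
      (∀ (x : X) (hx : x ∈ U), X.presheaf.germ U x hx (algebraMap A' Γ(X, U) a) = 0 →
        X.presheaf.germ U x hx (algebraMap A' Γ(X, U) e) = 0) := by
  obtain ⟨e, he1, he0⟩ := exists_support_idempotent (fun x => (hX x).1) (algebraMap A' Γ(X, U) a)
  have hidem : e * e = e := by
    apply section_ext'
    intro x hx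
    rw [map_mul]
    by_cases h0 : X.presheaf.germ U x hx (algebraMap A' Γ(X, U) a) = 0
    · rw [he0 x hx h0, mul_zero]
    · rw [he1 x hx h0, mul_one]
  have hint : IsIntegral A' e := by
    refine ⟨(Polynomial.X : Polynomial A') ^ 2 - Polynomial.X, monic_X_pow_sub (degree_X_le.trans_lt (by norm_num)), ?_⟩
    simp [pow_two, hidem]
  obtain ⟨e', he'⟩ := hcl e hint
  refine ⟨e', ?_, ?_, ?_⟩
  · apply hinj
    rw [map_mul, he']
    apply section_ext'
    intro x hx
    rw [map_mul]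
    by_cases h0 : X.presheaf.germ U x hx (algebraMap A' Γ(X, U) a) = 0
    · rw [h0, mul_zero]
    · rw [he1 x hx h0, one_mul]
  · rw [he']; exact he1
  · rw [he']; exact he0

theorem isDomain_localization (P : Ideal A') [P.IsPrime] :
    IsDomain (Localization.AtPrime P) := by
  haveI : Nontrivial (Localization.AtPrime P) := inferInstance
  haveI : NoZeroDivisors (Localization.AtPrime P) := by
    refine ⟨fun {l₁ l₂} h => ?_⟩
    obtain ⟨a, s, rfl⟩ := IsLocalization.exists_mk'_eq P.primeCompl l₁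
    obtain ⟨b, t, rfl⟩ := IsLocalization.exists_mk'_eq P.primeCompl l₂
    rw [← IsLocalization.mk'_mul, IsLocalization.mk'_eq_zero_iff] at h
    obtain ⟨c, hc⟩ := h
    obtain ⟨ea, hea, hea1, hea0⟩ := exists_support_idempotent' hX U hinj hcl a
    obtain ⟨eb, heb, heb1, heb0⟩ := exists_support_idempotent' hX U hinj hcl b
    obtain ⟨ec, hec, hec1, hec0⟩ := exists_support_idempotent' hX U hinj hcl c.1
    have key : ea * eb * ec = 0 := by
      apply hinj
      rw [map_zero]
      apply section_ext'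
      intro x hx
      haveI := (hX x).1
      have h0 : X.presheaf.germ U x hx (algebraMap A' Γ(X, U) c.1) *
          (X.presheaf.germ U x hx (algebraMap A' Γ(X, U) a) *
            X.presheaf.germ U x hx (algebraMap A' Γ(X, U) b)) = 0 := by
        rw [← map_mul, ← map_mul, ← map_mul, ← map_mul, hc, map_zero, map_zero]
      rw [map_mul, map_mul, map_mul, map_mul, map_zero]
      rcases mul_eq_zero.mp h0 with h1 | h1
      · rw [hec0 x hx h1, mul_zero]
      · rcases mul_eq_zero.mp h1 with h2 | h2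
        · rw [hea0 x hx h2, zero_mul, zero_mul]
        · rw [heb0 x hx h2, mul_zero, zero_mul]
    have hmem : ea * eb * ec ∈ P := by rw [key]; exact P.zero_mem
    have hone : ∀ e : A', e ∈ P → (1 - e) ∈ P.primeCompl := by
      intro e he h1
      apply (Ideal.ne_top_iff_one P).mp (Ideal.IsPrime.ne_top ‹_›)
      have := P.add_mem he h1
      rwa [add_sub_cancel] at this
    rcases (Ideal.IsPrime.mem_or_mem ‹_› hmem) with h1 | h1
    · rcases (Ideal.IsPrime.mem_or_mem ‹_› h1) with h2 | h2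
      · left
        rw [IsLocalization.mk'_eq_zero_iff]
        refine ⟨⟨1 - ea, hone ea h2⟩, ?_⟩
        change (1 - ea) * a = 0
        rw [sub_mul, one_mul, hea, sub_self]
      · right
        rw [IsLocalization.mk'_eq_zero_iff]
        refine ⟨⟨1 - eb, hone eb h2⟩, ?_⟩
        change (1 - eb) * b = 0
        rw [sub_mul, one_mul, heb, sub_self]
    · exfalso
      apply c.2
      rw [← hec]
      exact P.mul_mem_right _ h1
  exact NoZeroDivisors.to_isDomain _

set_option maxHeartbeats 1600000 in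
theorem isIntegrallyClosed_localization (P : Ideal A') [P.IsPrime]
    [IsDomain (Localization.AtPrime P)] :
    IsIntegrallyClosed (Localization.AtPrime P) := by
  let K := FractionRing (Localization.AtPrime P)
  rw [isIntegrallyClosed_iff K]
  intro ξ hξ
  let φ : A' →+* Γ(X, U) := algebraMap A' Γ(X, U)
  let ψ : A' →+* K := algebraMap A' K
  let ι : Localization.AtPrime P →+* K := algebraMap (Localization.AtPrime P) K
  have hιinj : Function.Injective ι := IsFractionRing.injective _ _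
  have hψ : ∀ a : A', ψ a = ι (algebraMap A' (Localization.AtPrime P) a) := fun a =>
    IsScalarTower.algebraMap_apply A' (Localization.AtPrime P) K a
  have hψunit : ∀ w : P.primeCompl, ψ w.1 ≠ 0 := by
    intro w
    rw [hψ, Ne, map_eq_zero_iff _ hιinj]
    exact (IsLocalization.map_units (Localization.AtPrime P) w).ne_zero
  -- Step a: make integral over A'
  obtain ⟨m, hm⟩ := IsIntegral.exists_multiple_integral_of_isLocalization P.primeCompl ξ hξ
  obtain ⟨q₀, hq₀, hq₀e⟩ := hm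
  obtain ⟨ξ', hξ'⟩ : ∃ ξ' : K, ξ' = ψ m.1 * ξ := ⟨_, rfl⟩
  have hq₀e' : eval₂ ψ ξ' q₀ = 0 := by
    rw [Submonoid.smul_def, Algebra.smul_def] at hq₀e
    rw [hξ']
    exact hq₀e
  obtain ⟨q, hq⟩ : ∃ q : A'[X], q = q₀ * Polynomial.X := ⟨_, rfl⟩
  have hqm : q.Monic := by rw [hq]; exact hq₀.mul monic_X
  have hqe : eval₂ ψ ξ' q = 0 := by rw [hq, eval₂_mul, hq₀e', zero_mul]
  have hqdeg : 1 ≤ q.natDegree := by
    haveI : Nontrivial A' := (algebraMap A' (Localization.AtPrime P)).domain_nontrivial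
    rw [hq, hq₀.natDegree_mul monic_X, natDegree_X]
    omega
  -- Step c: numerator and denominator
  obtain ⟨lam, mu, hmu, hlm⟩ := IsFractionRing.div_surjective (A := Localization.AtPrime P) ξ'
  obtain ⟨a, s, rfl⟩ := IsLocalization.exists_mk'_eq P.primeCompl lam
  obtain ⟨b, t, rfl⟩ := IsLocalization.exists_mk'_eq P.primeCompl mu
  have hA : ι (IsLocalization.mk' (Localization.AtPrime P) a s) * ψ s.1 = ψ a := by
    rw [hψ, hψ, ← map_mul, IsLocalization.mk'_spec]
  have hB : ι (IsLocalization.mk' (Localization.AtPrime P) b t) * ψ t.1 = ψ b := by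
    rw [hψ, hψ, ← map_mul, IsLocalization.mk'_spec]
  have hmu0 : ι (IsLocalization.mk' (Localization.AtPrime P) b t) ≠ 0 := by
    rw [Ne, map_eq_zero_iff _ hιinj]
    exact nonZeroDivisors.ne_zero hmu
  obtain ⟨a₁, ha₁⟩ : ∃ a₁ : A', a₁ = a * t.1 := ⟨_, rfl⟩
  obtain ⟨b₁, hb₁⟩ : ∃ b₁ : A', b₁ = b * s.1 := ⟨_, rfl⟩
  have hb₁0 : ψ b₁ ≠ 0 := by
    rw [hb₁, map_mul, ← hB]
    exact mul_ne_zero (mul_ne_zero hmu0 (hψunit t)) (hψunit s)
  have hAB : ι (IsLocalization.mk' (Localization.AtPrime P) a s) =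
      ξ' * ι (IsLocalization.mk' (Localization.AtPrime P) b t) := by
    have hlm' : ι (IsLocalization.mk' (Localization.AtPrime P) a s) /
        ι (IsLocalization.mk' (Localization.AtPrime P) b t) = ξ' := hlm
    rw [← hlm', div_mul_cancel₀ _ hmu0]
  have hξab : ψ b₁ * ξ' = ψ a₁ := by
    rw [hb₁, ha₁, map_mul, map_mul, ← hA, ← hB, hAB]
    ring
  -- Step d
  obtain ⟨E, hE⟩ : ∃ E : A', E = eval a₁ (scaleRoots q b₁) := ⟨_, rfl⟩
  have hψE : ψ E = 0 := by
    have h1 : eval₂ ψ (ψ b₁ * ξ') (scaleRoots q b₁) = ψ b₁ ^ q.natDegree * eval₂ ψ ξ' q :=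
      scaleRoots_eval₂_mul ψ ξ' b₁
    rw [hξab, hqe, mul_zero] at h1
    have h2 := hom_eval₂ (scaleRoots q b₁) (RingHom.id A') ψ a₁
    rw [RingHom.comp_id] at h2
    rw [hE]
    exact h2.trans h1
  have hLE : algebraMap A' (Localization.AtPrime P) E = 0 := by
    apply hιinj
    rw [← hψ, hψE, map_zero]
  obtain ⟨v, hv⟩ := (IsLocalization.map_eq_zero_iff P.primeCompl (Localization.AtPrime P) E).mp hLE
  -- Step e
  obtain ⟨a₂, ha₂⟩ : ∃ a₂ : A', a₂ = v.1 * a₁ := ⟨_, rfl⟩
  obtain ⟨b₂, hb₂⟩ : ∃ b₂ : A', b₂ = b₁ * v.1 := ⟨_, rfl⟩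
  have hE2 : eval a₂ (scaleRoots q b₂) = 0 := by
    rw [ha₂, hb₂, eval_scaleRoots_mul_mul, ← hE]
    obtain ⟨k, hk⟩ := Nat.exists_eq_add_of_le hqdeg
    rw [hk, add_comm, pow_succ, mul_assoc, hv, mul_zero]
  have hg : ∀ {O : Type u} [CommRing O] (g : A' →+* O),
      eval₂ g (g a₂) (scaleRoots q b₂) = 0 := by
    intro O _ g
    have h2 := hom_eval₂ (scaleRoots q b₂) (RingHom.id A') g a₂
    rw [RingHom.comp_id] at h2
    rw [← h2]
    change g (eval a₂ (scaleRoots q b₂)) = 0
    rw [hE2, map_zero]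
  have hψb₂ : ψ b₂ ≠ 0 := by
    rw [hb₂, map_mul]
    exact mul_ne_zero hb₁0 (hψunit v)
  -- Step g : the support idempotent of b₂
  obtain ⟨eb, heb, heb1, heb0⟩ := exists_support_idempotent' hX U hinj hcl b₂
  have hebP : eb ∈ P.primeCompl := by
    intro hmem
    have h1 : (1 - eb) ∈ P.primeCompl := by
      intro h1
      apply (Ideal.ne_top_iff_one P).mp (Ideal.IsPrime.ne_top ‹_›)
      have := P.add_mem hmem h1
      rwa [add_sub_cancel] at this
    have h2 : (1 - eb) * b₂ = 0 := by rw [sub_mul, one_mul, heb, sub_self]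
    apply hψb₂
    have h3 := congrArg ψ h2
    rw [map_mul, map_zero] at h3
    exact (mul_eq_zero.mp h3).resolve_left (hψunit ⟨1 - eb, h1⟩)
  -- the open where b₂ does not vanish
  let Ub : X.Opens := ⟨_, isOpen_setOf_germ_ne_zero (fun x => (hX x).1) (φ b₂)⟩
  let U₂ : X.Opens := ⟨_, isOpen_setOf_germ_eq_zero (φ b₂)⟩
  have hUb : Ub ≤ U := fun x hx => hx.1
  have hU₂ : U₂ ≤ U := fun x hx => hx.1
  have hdisj : Ub ⊓ U₂ = ⊥ := by
    rw [eq_bot_iff]
    rintro x ⟨⟨hx, h1⟩, ⟨_, h2⟩⟩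
    exact (h1 h2).elim
  have hUcov : U ≤ Ub ⊔ U₂ := by
    intro x hx
    by_cases h0 : X.presheaf.germ U x hx (φ b₂) = 0
    · exact Or.inr ⟨hx, h0⟩
    · exact Or.inl ⟨hx, h0⟩
  -- divisibility on Ub
  obtain ⟨d₀, hd₀⟩ := exists_eq_mul_of_forall_germ_dvd
    (X.presheaf.map (homOfLE hUb).op (φ a₂)) (X.presheaf.map (homOfLE hUb).op (φ b₂))
    (by
      intro x hx
      haveI := (hX x).1
      rw [germ_map]
      exact mem_nonZeroDivisors_of_ne_zero hx.2)
    (by
      intro x hx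
      haveI := (hX x).1
      haveI := (hX x).2
      rw [germ_map, germ_map]
      let g : A' →+* X.presheaf.stalk x := (X.presheaf.germ U x hx.1).hom.comp φ
      exact dvd_of_eval₂_scaleRoots_eq_zero g q hqm a₂ b₂ hx.2 (hg g))
  obtain ⟨d, hd1, hd2⟩ := exists_glue_zero Ub U₂ U hdisj hUb hU₂ hUcov d₀
  -- germs of d
  have hdgerm : ∀ (x : X) (hx : x ∈ U), X.presheaf.germ U x hx (φ b₂) ≠ 0 →
      X.presheaf.germ U x hx (φ a₂) = X.presheaf.germ U x hx d * X.presheaf.germ U x hx (φ b₂) := by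
    intro x hx hne
    have hxb : x ∈ Ub := ⟨hx, hne⟩
    have h1 : X.presheaf.germ Ub x hxb (X.presheaf.map (homOfLE hUb).op (φ a₂)) =
        X.presheaf.germ U x hx (φ a₂) := germ_map hUb _ x hxb
    have h2 : X.presheaf.germ Ub x hxb (X.presheaf.map (homOfLE hUb).op (φ b₂)) =
        X.presheaf.germ U x hx (φ b₂) := germ_map hUb _ x hxb
    have h3 : X.presheaf.germ Ub x hxb d₀ = X.presheaf.germ U x hx d := by
      rw [← hd1]; exact germ_map hUb d x hxb
    calc X.presheaf.germ U x hx (φ a₂)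
        = X.presheaf.germ Ub x hxb (X.presheaf.map (homOfLE hUb).op (φ a₂)) := h1.symm
      _ = X.presheaf.germ Ub x hxb (d₀ * X.presheaf.map (homOfLE hUb).op (φ b₂)) :=
          congrArg _ hd₀
      _ = X.presheaf.germ Ub x hxb d₀ *
          X.presheaf.germ Ub x hxb (X.presheaf.map (homOfLE hUb).op (φ b₂)) := map_mul _ _ _
      _ = _ := by rw [h3, h2]
  have hdgerm0 : ∀ (x : X) (hx : x ∈ U), X.presheaf.germ U x hx (φ b₂) = 0 →
      X.presheaf.germ U x hx d = 0 := by
    intro x hx h0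
    have hx2 : x ∈ U₂ := ⟨hx, h0⟩
    rw [← germ_map hU₂ d x hx2, hd2, map_zero]
  -- d is integral over A'
  have hdint : IsIntegral A' d := by
    refine ⟨q * Polynomial.X, hqm.mul monic_X, ?_⟩
    rw [eval₂_mul, eval₂_X]
    apply section_ext'
    intro x hx
    haveI := (hX x).1
    rw [map_mul, map_zero]
    by_cases h0 : X.presheaf.germ U x hx (φ b₂) = 0
    · rw [hdgerm0 x hx h0, mul_zero]
    · let g : A' →+* X.presheaf.stalk x := (X.presheaf.germ U x hx).hom.comp φ
      have h1 : eval₂ g (X.presheaf.germ U x hx d) q = 0 :=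
        eval₂_eq_zero_of_eval₂_scaleRoots g q a₂ b₂ _ h0 (hdgerm x hx h0) (hg g)
      have h2 := hom_eval₂ q φ (X.presheaf.germ U x hx).hom d
      change (X.presheaf.germ U x hx).hom (eval₂ φ d q) * _ = 0
      rw [h2, h1, zero_mul]
  obtain ⟨d', hd'⟩ := hcl d hdint
  -- the relation in A'
  have hrel : d' * b₂ = eb * a₂ := by
    apply hinj
    rw [map_mul, map_mul, hd']
    apply section_ext'
    intro x hx
    rw [map_mul, map_mul]
    by_cases h0 : X.presheaf.germ U x hx (φ b₂) = 0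
    · rw [heb0 x hx h0, hdgerm0 x hx h0, zero_mul, zero_mul]
    · rw [heb1 x hx h0, one_mul, hdgerm x hx h0]
  -- conclusion
  have hw : eb * m.1 ∈ P.primeCompl := mul_mem hebP m.2
  refine ⟨IsLocalization.mk' (Localization.AtPrime P) d' ⟨eb * m.1, hw⟩, ?_⟩
  have hψw : ψ (eb * m.1) ≠ 0 := hψunit ⟨eb * m.1, hw⟩
  have h1 := congrArg ψ hrel
  rw [map_mul, map_mul, hb₂, ha₂, map_mul, map_mul, ← hξab] at h1
  have h2 : ψ d' * (ψ b₁ * ψ v.1) = (ψ eb * ξ') * (ψ b₁ * ψ v.1) := by
    rw [h1]; ring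
  have h3 := mul_right_cancel₀ (mul_ne_zero hb₁0 (hψunit v)) h2
  have hl : ι (IsLocalization.mk' (Localization.AtPrime P) d' ⟨eb * m.1, hw⟩) * ψ (eb * m.1) =
      ψ d' := by
    rw [hψ (eb * m.1), ← map_mul, IsLocalization.mk'_spec, ← hψ]
  apply mul_right_cancel₀ hψw
  change ι (IsLocalization.mk' (Localization.AtPrime P) d' ⟨eb * m.1, hw⟩) * ψ (eb * m.1) =
    ξ * ψ (eb * m.1)
  rw [hl, h3, hξ', map_mul]
  ring

/-- **Normality of rings of sections.** A ring mapping injectively onto an integrally closed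
subring of the ring of sections of a normal locally Noetherian scheme is normal. -/
theorem isNormalRing_of_sections : EGA4.IsNormalRing A' := by
  intro P _
  haveI := isDomain_localization hX U hinj hcl P
  exact ⟨inferInstance, isIntegrallyClosed_localization hX U hinj hcl P⟩

end main

/-- A scheme covered by affine opens with normal coordinate rings is normal. -/
theorem isNormalScheme_of_forall_exists_affine {Y : Scheme.{u}}
    (h : ∀ y : Y, ∃ V : Y.Opens, IsAffineOpen V ∧ y ∈ V ∧ EGA4.IsNormalRing Γ(Y, V)) :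
    Pi1.IsNormalScheme Y := by
  intro y
  obtain ⟨V, hV, hyV, hN⟩ := h y
  letI := TopCat.Presheaf.algebra_section_stalk Y.presheaf ⟨y, hyV⟩
  haveI hloc := hV.isLocalization_stalk ⟨y, hyV⟩
  obtain ⟨hd, hic⟩ := hN (hV.primeIdealOf ⟨y, hyV⟩).asIdeal
  let e : Localization.AtPrime (hV.primeIdealOf ⟨y, hyV⟩).asIdeal ≃ₐ[Γ(Y, V)] Y.presheaf.stalk y :=
    IsLocalization.algEquiv (hV.primeIdealOf ⟨y, hyV⟩).asIdeal.primeCompl _ _
  exact ⟨e.symm.toMulEquiv.isDomain _, IsIntegrallyClosed.of_equiv e.toRingEquiv⟩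

/-- If `O_Y → f_* O_X` is bijective on affine opens and `X` is normal and locally Noetherian, then
`Y` is normal. -/
theorem isNormalScheme_of_app_bijective {X Y : Scheme.{u}} [IsLocallyNoetherian X]
    (hX : Pi1.IsNormalScheme X) (f : X ⟶ Y)
    (hf : ∀ V : Y.Opens, IsAffineOpen V → Function.Bijective (f.app V)) :
    Pi1.IsNormalScheme Y := by
  apply isNormalScheme_of_forall_exists_affine
  intro y
  obtain ⟨_, ⟨V, hV, rfl⟩, hyV, -⟩ := Y.isBasis_affineOpens.exists_subset_of_mem_open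
    (Set.mem_univ y) isOpen_univ
  refine ⟨V, hV, hyV, ?_⟩
  letI : Algebra Γ(Y, V) Γ(X, f ⁻¹ᵁ V) := (f.app V).hom.toAlgebra
  exact isNormalRing_of_sections hX (f ⁻¹ᵁ V) (hf V hV).1 (fun b _ => (hf V hV).2 b)


end Groth.Agent.Lib.Helper20NormalSec
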