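import Mathlib
import Groth.Prelude.Def_EGA4b
import Groth.Agent.Lib.Helper6NormInt

set_option autoImplicit false

open TensorProduct Polynomial

namespace Groth.Agent.Lib.Helper6.NormInt

universe u

section T

variable (k A B K L : Type u) [Field k] [CommRing A] [CommRing B] [Field K] [Field L]
  [Algebra k A] [Algebra k B] [Algebra k K] [Algebra k L] [Algebra A K] [Algebra B L]
  [IsScalarTower k A K] [IsScalarTower k B L]

/-- `K ⊗ B → K ⊗ L` -/
noncomputable def φ₁ : K ⊗[k] B →ₐ[k] K ⊗[k] L :=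
  Algebra.TensorProduct.map (AlgHom.id k K) (IsScalarTower.toAlgHom k B L)

/-- `A ⊗ L → K ⊗ L` -/
noncomputable def φ₂ : A ⊗[k] L →ₐ[k] K ⊗[k] L :=
  Algebra.TensorProduct.map (IsScalarTower.toAlgHom k A K) (AlgHom.id k L)

/-- `A ⊗ B → K ⊗ B` -/
noncomputable def ψ₁ : A ⊗[k] B →ₐ[k] K ⊗[k] B :=
  Algebra.TensorProduct.map (IsScalarTower.toAlgHom k A K) (AlgHom.id k B)

/-- `A ⊗ B → A ⊗ L` -/
noncomputable def ψ₂ : A ⊗[k] B →ₐ[k] A ⊗[k] L :=
  Algebra.TensorProduct.map (AlgHom.id k A) (IsScalarTower.toAlgHom k B L)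

/-- `A ⊗ B → K ⊗ L` -/
noncomputable def ι : A ⊗[k] B →ₐ[k] K ⊗[k] L :=
  Algebra.TensorProduct.map (IsScalarTower.toAlgHom k A K) (IsScalarTower.toAlgHom k B L)

theorem φ₁_ψ₁ (x : A ⊗[k] B) : φ₁ k B K L (ψ₁ k A B K x) = ι k A B K L x := by
  induction x using TensorProduct.induction_on with
  | zero => simp
  | tmul a b => rfl
  | add x y hx hy => simp only [map_add, hx, hy]

theorem φ₂_ψ₂ (x : A ⊗[k] B) : φ₂ k A K L (ψ₂ k A B L x) = ι k A B K L x := by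
  induction x using TensorProduct.induction_on with
  | zero => simp
  | tmul a b => rfl
  | add x y hx hy => simp only [map_add, hx, hy]

variable (hA : Function.Injective (algebraMap A K)) (hB : Function.Injective (algebraMap B L))

include hB in
theorem φ₁_injective : Function.Injective (φ₁ k B K L) :=
  Module.Flat.lTensor_preserves_injective_linearMap (M := K)
    (IsScalarTower.toAlgHom k B L).toLinearMap hB

include hA in
theorem φ₂_injective : Function.Injective (φ₂ k A K L) :=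
  Module.Flat.rTensor_preserves_injective_linearMap (M := L)
    (IsScalarTower.toAlgHom k A K).toLinearMap hA

include hA in
theorem ψ₁_injective : Function.Injective (ψ₁ k A B K) :=
  Module.Flat.rTensor_preserves_injective_linearMap (M := B)
    (IsScalarTower.toAlgHom k A K).toLinearMap hA

include hA hB in
theorem ι_injective : Function.Injective (ι k A B K L) := by
  intro x y hxy
  rw [← φ₁_ψ₁, ← φ₁_ψ₁] at hxy
  exact ψ₁_injective k A B K hA (φ₁_injective k B K L hB hxy)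

include hB in
/-- intersection lemma -/
theorem mem_range_ι (x : K ⊗[k] L) (h1 : x ∈ (φ₁ k B K L).range) (h2 : x ∈ (φ₂ k A K L).range) :
    x ∈ (ι k A B K L).range := by
  obtain ⟨π, hπ⟩ := LinearMap.exists_leftInverse_of_injective
    (IsScalarTower.toAlgHom k B L).toLinearMap (LinearMap.ker_eq_bot.mpr hB)
  have hπ' : ∀ b : B, π (algebraMap B L b) = b := fun b => LinearMap.congr_fun hπ b
  obtain ⟨z, rfl⟩ := h1
  obtain ⟨y, hy⟩ := h2
  let PK : K ⊗[k] L →ₗ[k] K ⊗[k] B := TensorProduct.map LinearMap.id π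
  let PA : A ⊗[k] L →ₗ[k] A ⊗[k] B := TensorProduct.map LinearMap.id π
  have e1 : ∀ w : K ⊗[k] B, PK (φ₁ k B K L w) = w := by
    intro w
    induction w using TensorProduct.induction_on with
    | zero => simp
    | tmul c b =>
      change (c ⊗ₜ[k] π (algebraMap B L b) : K ⊗[k] B) = _
      rw [hπ']
    | add x y hx hy => simp only [map_add, hx, hy]
  have e2 : ∀ w : A ⊗[k] L, ψ₁ k A B K (PA w) = PK (φ₂ k A K L w) := by
    intro w
    induction w using TensorProduct.induction_on with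
    | zero => simp
    | tmul a l => rfl
    | add x y hx hy => simp only [map_add, hx, hy]
  have hy' : φ₂ k A K L y = φ₁ k B K L z := hy
  refine ⟨PA y, ?_⟩
  change ι k A B K L (PA y) = φ₁ k B K L z
  rw [← φ₁_ψ₁, e2, hy', e1]

variable (hdB : ∀ l : L, ∃ b b' : B, b ≠ 0 ∧ algebraMap B L b * l = algebraMap B L b')

include hB hdB in
theorem exists_denom₁ (x : K ⊗[k] L) :
    ∃ b : B, b ≠ 0 ∧ ((1 : K) ⊗ₜ[k] algebraMap B L b) * x ∈ (φ₁ k B K L).range := by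
  haveI : Nontrivial B := (algebraMap B L).domain_nontrivial
  induction x using TensorProduct.induction_on with
  | zero => exact ⟨1, one_ne_zero, by rw [mul_zero]; exact Subalgebra.zero_mem _⟩
  | tmul c l =>
    obtain ⟨b, b', hb, hbl⟩ := hdB l
    refine ⟨b, hb, c ⊗ₜ b', ?_⟩
    rw [Algebra.TensorProduct.tmul_mul_tmul, one_mul, hbl]
    rfl
  | add x y hx hy =>
    obtain ⟨b₁, hb₁, hx⟩ := hx
    obtain ⟨b₂, hb₂, hy⟩ := hy
    haveI : IsDomain B := hB.isDomain (algebraMap B L)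
    refine ⟨b₁ * b₂, mul_ne_zero hb₁ hb₂, ?_⟩
    have e : ((1 : K) ⊗ₜ[k] algebraMap B L (b₁ * b₂)) * (x + y) =
        φ₁ k B K L ((1 : K) ⊗ₜ[k] b₂) * (((1 : K) ⊗ₜ[k] algebraMap B L b₁) * x) +
        φ₁ k B K L ((1 : K) ⊗ₜ[k] b₁) * (((1 : K) ⊗ₜ[k] algebraMap B L b₂) * y) := by
      have h1 : φ₁ k B K L ((1 : K) ⊗ₜ[k] b₂) = (1 : K) ⊗ₜ[k] algebraMap B L b₂ := rfl
      have h2 : φ₁ k B K L ((1 : K) ⊗ₜ[k] b₁) = (1 : K) ⊗ₜ[k] algebraMap B L b₁ := rfl
      rw [h1, h2, map_mul, ← mul_one (1 : K), ← Algebra.TensorProduct.tmul_mul_tmul, mul_one]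
      ring
    rw [e]
    exact Subalgebra.add_mem _ (Subalgebra.mul_mem _ ⟨_, rfl⟩ hx)
      (Subalgebra.mul_mem _ ⟨_, rfl⟩ hy)

variable (hdA : ∀ c : K, ∃ a a' : A, a ≠ 0 ∧ algebraMap A K a * c = algebraMap A K a')

include hA hdA in
theorem exists_denom₂ (x : K ⊗[k] L) :
    ∃ a : A, a ≠ 0 ∧ (algebraMap A K a ⊗ₜ[k] (1 : L)) * x ∈ (φ₂ k A K L).range := by
  haveI : Nontrivial A := (algebraMap A K).domain_nontrivial
  induction x using TensorProduct.induction_on with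
  | zero => exact ⟨1, one_ne_zero, by rw [mul_zero]; exact Subalgebra.zero_mem _⟩
  | tmul c l =>
    obtain ⟨a, a', ha, hac⟩ := hdA c
    refine ⟨a, ha, a' ⊗ₜ l, ?_⟩
    rw [Algebra.TensorProduct.tmul_mul_tmul, one_mul, hac]
    rfl
  | add x y hx hy =>
    obtain ⟨a₁, ha₁, hx⟩ := hx
    obtain ⟨a₂, ha₂, hy⟩ := hy
    haveI : IsDomain A := hA.isDomain (algebraMap A K)
    refine ⟨a₁ * a₂, mul_ne_zero ha₁ ha₂, ?_⟩
    have e : (algebraMap A K (a₁ * a₂) ⊗ₜ[k] (1 : L)) * (x + y) =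
        φ₂ k A K L (a₂ ⊗ₜ[k] (1 : L)) * ((algebraMap A K a₁ ⊗ₜ[k] (1 : L)) * x) +
        φ₂ k A K L (a₁ ⊗ₜ[k] (1 : L)) * ((algebraMap A K a₂ ⊗ₜ[k] (1 : L)) * y) := by
      have h1 : φ₂ k A K L (a₂ ⊗ₜ[k] (1 : L)) = algebraMap A K a₂ ⊗ₜ[k] (1 : L) := rfl
      have h2 : φ₂ k A K L (a₁ ⊗ₜ[k] (1 : L)) = algebraMap A K a₁ ⊗ₜ[k] (1 : L) := rfl
      rw [h1, h2, map_mul, ← mul_one (1 : L), ← Algebra.TensorProduct.tmul_mul_tmul, mul_one]
      ring
    rw [e]
    exact Subalgebra.add_mem _ (Subalgebra.mul_mem _ ⟨_, rfl⟩ hx)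
      (Subalgebra.mul_mem _ ⟨_, rfl⟩ hy)

include hA hB hdA hdB in
/-- `A ⊗ B` is integrally closed in `K ⊗ L`. -/
theorem mem_range_ι_of_isIntegral (hKB : EGA4.IsNormalRing (K ⊗[k] B))
    (hAL : EGA4.IsNormalRing (A ⊗[k] L)) (x : K ⊗[k] L) (g : (A ⊗[k] B)[X]) (hg : g.Monic)
    (hgx : g.eval₂ (ι k A B K L).toRingHom x = 0) : x ∈ (ι k A B K L).range := by
  apply mem_range_ι k A B K L hB
  · obtain ⟨b, hb, r, hr⟩ := exists_denom₁ k B K L hB hdB x
    have hb' : algebraMap B L b ≠ 0 := fun h0 => hb (hB (h0.trans (map_zero _).symm))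
    refine mem_range_of_isIntegral hKB (φ₁ k B K L).toRingHom (φ₁_injective k B K L hB) x
      ((1 : K) ⊗ₜ[k] b) r ?_ hr.symm (g.map (ψ₁ k A B K).toRingHom) (hg.map _) ?_
    · refine IsUnit.of_mul_eq_one ((1 : K) ⊗ₜ[k] (algebraMap B L b)⁻¹) ?_
      change ((1 : K) ⊗ₜ[k] algebraMap B L b) * ((1 : K) ⊗ₜ[k] (algebraMap B L b)⁻¹) = 1
      rw [Algebra.TensorProduct.tmul_mul_tmul, one_mul, mul_inv_cancel₀ hb']
      rfl
    · rw [eval₂_map]
      have : (φ₁ k B K L).toRingHom.comp (ψ₁ k A B K).toRingHom = (ι k A B K L).toRingHom :=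
        RingHom.ext fun w => φ₁_ψ₁ k A B K L w
      rw [this]
      exact hgx
  · obtain ⟨a, ha, r, hr⟩ := exists_denom₂ k A K L hA hdA x
    have ha' : algebraMap A K a ≠ 0 := fun h0 => ha (hA (h0.trans (map_zero _).symm))
    refine mem_range_of_isIntegral hAL (φ₂ k A K L).toRingHom (φ₂_injective k A K L hA) x
      (a ⊗ₜ[k] (1 : L)) r ?_ hr.symm (g.map (ψ₂ k A B L).toRingHom) (hg.map _) ?_
    · refine IsUnit.of_mul_eq_one ((algebraMap A K a)⁻¹ ⊗ₜ[k] (1 : L)) ?_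
      change (algebraMap A K a ⊗ₜ[k] (1 : L)) * ((algebraMap A K a)⁻¹ ⊗ₜ[k] (1 : L)) = 1
      rw [Algebra.TensorProduct.tmul_mul_tmul, one_mul, mul_inv_cancel₀ ha']
      rfl
    · rw [eval₂_map]
      have : (φ₂ k A K L).toRingHom.comp (ψ₂ k A B L).toRingHom = (ι k A B K L).toRingHom :=
        RingHom.ext fun w => φ₂_ψ₂ k A B K L w
      rw [this]
      exact hgx

include hA hB hdA hdB in
/-- **Theorem T.** -/
theorem isNormalRing_tensor (hKB : EGA4.IsNormalRing (K ⊗[k] B))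
    (hAL : EGA4.IsNormalRing (A ⊗[k] L)) (hKL : EGA4.IsNormalRing (K ⊗[k] L))
    [IsNoetherianRing (K ⊗[k] L)] : EGA4.IsNormalRing (A ⊗[k] B) := by
  letI : Algebra (A ⊗[k] B) (K ⊗[k] L) := (ι k A B K L).toRingHom.toAlgebra
  refine isNormalRing_of_integrallyClosedIn (R := A ⊗[k] B) (R' := K ⊗[k] L)
    (ι_injective k A B K L hA hB) hKL ?_
  rintro x ⟨g, hg, hgx⟩
  exact mem_range_ι_of_isIntegral k A B K L hA hB hdB hdA hKB hAL x g hg hgx

end T

end Groth.Agent.Lib.Helper6.NormInt
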