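import Mathlib
import Groth.Prelude.Def_EGA4b
import Groth.Agent.Lib.Helper6NormInt2
import Groth.Agent.Lib.Helper6SepBC

set_option autoImplicit false

open TensorProduct Polynomial

namespace Groth.Agent.Lib.Helper6.NormInt

universe u

section Sub

variable (k B : Type u) [Field k] [CommRing B] [Algebra k B] [IsDomain B]

local notation "L" => FractionRing B

/-- `B ∩ F` -/
noncomputable def sub (F : IntermediateField k L) : Subalgebra k B :=
  F.toSubalgebra.comap (IsScalarTower.toAlgHom k B L)

theorem mem_sub {F : IntermediateField k L} {b : B} :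
    b ∈ sub k B F ↔ algebraMap B L b ∈ F := Iff.rfl

/-- the map `B ∩ F → F` -/
noncomputable def subToField (F : IntermediateField k L) : sub k B F →ₐ[k] F :=
  ((IsScalarTower.toAlgHom k B L).comp (sub k B F).val).codRestrict F.toSubalgebra
    (fun x => x.2)

theorem subToField_injective (F : IntermediateField k L) :
    Function.Injective (subToField k B F) := by
  intro x y hxy
  have h1 : algebraMap B L x.1 = algebraMap B L y.1 := congrArg Subtype.val hxy
  exact Subtype.ext (IsFractionRing.injective B L h1)

theorem sub_mono {F₁ F₂ : IntermediateField k L} (h : F₁ ≤ F₂) : sub k B F₁ ≤ sub k B F₂ :=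
  fun _ hb => h hb

instance (F : IntermediateField k L) : IsDomain (sub k B F) :=
  (Subtype.val_injective).isDomain (sub k B F).val.toRingHom

theorem isIntegrallyClosed_sub [IsIntegrallyClosed B] (F : IntermediateField k L) :
    IsIntegrallyClosed (sub k B F) := by
  rw [Groth.Agent.Lib.Helper6.EtNormal.isIntegrallyClosed_iff_nc]
  intro a b g hg hb hab
  have hNC := (Groth.Agent.Lib.Helper6.EtNormal.isIntegrallyClosed_iff_nc B).mp inferInstance
  have hb' : (b : B) ≠ 0 := fun h0 => hb (Subtype.ext h0)
  have h1 : ((g.map (sub k B F).val.toRingHom).scaleRoots (b : B)).eval (a : B) = 0 := by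
    have := Groth.Agent.Lib.Helper6.NormCrit.eval_scaleRoots_map (sub k B F).val.toRingHom g hg a b
    rw [hab, map_zero] at this
    exact this
  obtain ⟨t, ht⟩ := hNC _ _ _ (hg.map _) hb' h1
  have hbL : algebraMap B L (b : B) ≠ 0 :=
    fun h0 => hb' (IsFractionRing.injective B L (h0.trans (map_zero _).symm))
  have htF : algebraMap B L t ∈ F := by
    have : algebraMap B L t = algebraMap B L (a : B) / algebraMap B L (b : B) := by
      rw [ht, map_mul, mul_div_cancel_left₀ _ hbL]
    rw [this]
    exact F.div_mem a.2 b.2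
  exact ⟨⟨t, htF⟩, Subtype.ext ht⟩

theorem exists_denom_sub (S : Set B) (l : IntermediateField.adjoin k (algebraMap B L '' S)) :
    ∃ b b' : sub k B (IntermediateField.adjoin k (algebraMap B L '' S)), b ≠ 0 ∧
      subToField k B _ b * l = subToField k B _ b' := by
  obtain ⟨l, hl⟩ := l
  obtain ⟨r, hr, s, hs, rfl⟩ := IntermediateField.mem_adjoin_iff_div.mp hl
  have himg : Algebra.adjoin k (algebraMap B L '' S) =
      (Algebra.adjoin k S).map (IsScalarTower.toAlgHom k B L) :=
    (AlgHom.map_adjoin (IsScalarTower.toAlgHom k B L) S).symm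
  rw [himg] at hr hs
  obtain ⟨r₀, hr₀, rfl⟩ := hr
  obtain ⟨s₀, hs₀, rfl⟩ := hs
  have hmem : ∀ c ∈ Algebra.adjoin k S,
      c ∈ sub k B (IntermediateField.adjoin k (algebraMap B L '' S)) := by
    intro c hc
    rw [mem_sub]
    apply IntermediateField.algebra_adjoin_le_adjoin
    rw [himg]
    exact ⟨c, hc, rfl⟩
  by_cases hs0 : s₀ = 0
  · refine ⟨1, 0, one_ne_zero, ?_⟩
    apply Subtype.ext
    simp [hs0]
  · refine ⟨⟨s₀, hmem s₀ hs₀⟩, ⟨r₀, hmem r₀ hr₀⟩, fun h0 => hs0 (congrArg Subtype.val h0), ?_⟩
    apply Subtype.ext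
    have hsL : algebraMap B L s₀ ≠ 0 :=
      fun h0 => hs0 (IsFractionRing.injective B L (h0.trans (map_zero _).symm))
    change algebraMap B L s₀ * (algebraMap B L r₀ / algebraMap B L s₀) = algebraMap B L r₀
    rw [mul_div_cancel₀ _ hsL]

end Sub

section DU

variable (k A B : Type u) [Field k] [CommRing A] [Algebra k A] [CommRing B] [Algebra k B]
  [IsDomain B]

local notation "L" => FractionRing B

/-- the field generated by a finite subset of `B` -/
noncomputable def fld (s : Finset B) : IntermediateField k L :=
  IntermediateField.adjoin k (algebraMap B L '' (s : Set B))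

theorem fld_mono {s t : Finset B} (h : s ⊆ t) : fld k B s ≤ fld k B t :=
  IntermediateField.adjoin.mono k _ _ (Set.image_mono (Finset.coe_subset.mpr h))

theorem mem_sub_fld {s : Finset B} {b : B} (hb : b ∈ s) : b ∈ sub k B (fld k B s) :=
  IntermediateField.subset_adjoin k _ ⟨b, hb, rfl⟩

/-- comparison map -/
noncomputable def inclS (C : Subalgebra k B) : A ⊗[k] C →ₐ[k] A ⊗[k] B :=
  Algebra.TensorProduct.map (AlgHom.id k A) C.val

theorem inclS_injective (C : Subalgebra k B) : Function.Injective (inclS k A B C) :=
  Module.Flat.lTensor_preserves_injective_linearMap (M := A) C.val.toLinearMap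
    Subtype.val_injective

theorem range_inclS_mono {C₁ C₂ : Subalgebra k B} (h : C₁ ≤ C₂) :
    (inclS k A B C₁).range ≤ (inclS k A B C₂).range := by
  rintro _ ⟨x, rfl⟩
  refine ⟨Algebra.TensorProduct.map (AlgHom.id k A) (Subalgebra.inclusion h) x, ?_⟩
  induction x using TensorProduct.induction_on with
  | zero => simp
  | tmul c y => rfl
  | add x y hx hy => simp only [map_add, hx, hy]

theorem exists_mem_range_inclS (x : A ⊗[k] B) :
    ∃ s : Finset B, x ∈ (inclS k A B (sub k B (fld k B s))).range := by
  classical
  induction x using TensorProduct.induction_on with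
  | zero => exact ⟨∅, Subalgebra.zero_mem _⟩
  | tmul a b =>
    exact ⟨{b}, ⟨a ⊗ₜ ⟨b, mem_sub_fld k B (Finset.mem_singleton_self b)⟩, rfl⟩⟩
  | add x y hx hy =>
    obtain ⟨s, hs⟩ := hx
    obtain ⟨t, ht⟩ := hy
    refine ⟨s ∪ t, Subalgebra.add_mem _ ?_ ?_⟩
    · exact range_inclS_mono k A B (sub_mono k B (fld_mono k B Finset.subset_union_left)) hs
    · exact range_inclS_mono k A B (sub_mono k B (fld_mono k B Finset.subset_union_right)) ht

/-- reduction to finitely generated fraction fields -/
theorem isNormalRing_of_forall_fld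
    (h : ∀ s : Finset B, EGA4.IsNormalRing (A ⊗[k] (sub k B (fld k B s)))) :
    EGA4.IsNormalRing (A ⊗[k] B) := by
  classical
  refine Groth.Agent.Lib.Helper6.NormCrit.isNormalRing_of_directed_union (ι := Finset B)
    (fun s => A ⊗[k] (sub k B (fld k B s)))
    (fun s => (inclS k A B (sub k B (fld k B s))).toRingHom)
    (fun s => inclS_injective k A B _) (fun s t => ⟨s ∪ t, ?_, ?_⟩) (fun x => ?_) h
  · exact range_inclS_mono k A B (sub_mono k B (fld_mono k B Finset.subset_union_left))
  · exact range_inclS_mono k A B (sub_mono k B (fld_mono k B Finset.subset_union_right))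
  · exact exists_mem_range_inclS k A B x

end DU

section PerS

variable (k A B : Type u) [Field k] [CommRing A] [Algebra k A] [CommRing B] [Algebra k B]
  [IsDomain A] [IsDomain B] [IsIntegrallyClosed B]

local notation "K" => FractionRing A
local notation "L" => FractionRing B

/-- Theorem T applied to `B ∩ F` for a finitely generated subfield `F` of `Frac B`. -/
theorem isNormalRing_tensor_sub [Algebra.IsGeometricallyReduced k K] (s : Finset B)
    (hAF : EGA4.IsNormalRing (A ⊗[k] (fld k B s))) :
    EGA4.IsNormalRing (A ⊗[k] (sub k B (fld k B s))) := by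
  letI alg : Algebra (sub k B (fld k B s)) (fld k B s) := (subToField k B (fld k B s)).toRingHom.toAlgebra
  haveI : IsScalarTower k (sub k B (fld k B s)) (fld k B s) :=
    IsScalarTower.of_algebraMap_eq fun c => ((subToField k B (fld k B s)).commutes c).symm
  haveI := isIntegrallyClosed_sub k B (fld k B s)
  have hBs : EGA4.IsNormalRing (sub k B (fld k B s)) :=
    Groth.Agent.Lib.Helper6.SepBC.isNormalRing_of_normal _
  have hF : EGA4.IsNormalRing (fld k B s) :=
    Groth.Agent.Lib.Helper6.SepBC.isNormalRing_of_normal _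
  haveI : Algebra.EssFiniteType k (fld k B s) :=
    IntermediateField.essFiniteType_iff.mpr
      (IntermediateField.fg_adjoin_of_finite ((Finset.finite_toSet s).image _))
  haveI : Algebra.EssFiniteType K (K ⊗[k] (fld k B s)) := inferInstance
  haveI : IsNoetherianRing (K ⊗[k] (fld k B s)) :=
    Algebra.EssFiniteType.isNoetherianRing K (K ⊗[k] (fld k B s))
  refine isNormalRing_tensor k A (sub k B (fld k B s)) K (fld k B s)
    (IsFractionRing.injective A K) (subToField_injective k B _) ?_ ?_
    (Groth.Agent.Lib.Helper6.SepNorm.main2690 k _ K hBs) hAF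
    (Groth.Agent.Lib.Helper6.SepNorm.main2690 k _ K hF)
  · exact exists_denom_sub k B _
  · intro c
    obtain ⟨a', a, ha, rfl⟩ := IsFractionRing.div_surjective (A := A) c
    have ha0 : a ≠ 0 := nonZeroDivisors.ne_zero ha
    have haK : algebraMap A K a ≠ 0 :=
      fun h0 => ha0 (IsFractionRing.injective A K (h0.trans (map_zero _).symm))
    exact ⟨a, a', ha0, mul_div_cancel₀ _ haK⟩

end PerS

section Main2691

theorem main2691 (k A B : Type u) [Field k] [CommRing A] [CommRing B] [IsDomain A] [IsDomain B]
    [IsIntegrallyClosed A] [IsIntegrallyClosed B] [Algebra k A] [Algebra k B]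
    [Algebra.IsGeometricallyReduced k (FractionRing A)]
    [Algebra.IsGeometricallyReduced k (FractionRing B)] :
    EGA4.IsNormalRing (A ⊗[k] B) := by
  refine isNormalRing_of_forall_fld k A B fun s => ?_
  refine isNormalRing_tensor_sub k A B s ?_
  haveI : Algebra.IsGeometricallyReduced k (fld k B s) :=
    Algebra.IsGeometricallyReduced.of_injective (fld k B s).val (fld k B s).val.injective
  exact Groth.Agent.Lib.Helper6.SepNorm.isNormalRing_tensor_right k A (fld k B s)
    (Groth.Agent.Lib.Helper6.SepBC.isNormalRing_of_normal A)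

end Main2691

end Groth.Agent.Lib.Helper6.NormInt
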