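import Mathlib
import Groth.Prelude.Def_EGA4b
import Groth.Agent.Lib.Helper6NormInt3
import Groth.Agent.Lib.Helper6GeomBC
import Groth.Agent.Lib.Helper6NormRed
import Groth.Agent.Lib.Helper28GeomFibre3

set_option autoImplicit false

open TensorProduct Polynomial

namespace Groth.Agent.Lib.Helper6.NormInt

universe u

section GeomRedFrac

variable (k A : Type u) [Field k] [CommRing A] [Algebra k A] [IsDomain A]

local notation "K" => FractionRing A

/-- the fraction field of a geometrically normal domain is separable over the base field -/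
theorem isGeometricallyReduced_fractionRing (hA : EGA4.IsGeomNormal k A) :
    Algebra.IsGeometricallyReduced k K := by
  refine Groth.Agent.Lib.Helper28.isGeometricallyReduced_of_forall_finite k K fun F _ _ hfin => ?_
  haveI : IsReduced (F ⊗[k] A) :=
    Groth.Agent.Lib.Helper6.NormRed.isReduced_of_isNormalRing _ (hA F hfin)
  have hinjA : Function.Injective (algebraMap A K) := IsFractionRing.injective A K
  have hd : ∀ l : K, ∃ b b' : A, b ≠ 0 ∧ algebraMap A K b * l = algebraMap A K b' := by
    intro c
    obtain ⟨a', a, ha, rfl⟩ := IsFractionRing.div_surjective (A := A) c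
    have ha0 : a ≠ 0 := nonZeroDivisors.ne_zero ha
    have haK : algebraMap A K a ≠ 0 :=
      fun h0 => ha0 (hinjA (h0.trans (map_zero _).symm))
    exact ⟨a, a', ha0, mul_div_cancel₀ _ haK⟩
  constructor
  intro x hx
  obtain ⟨a, ha, r, hr⟩ := exists_denom₁ k A F K hinjA hd x
  have haK : algebraMap A K a ≠ 0 :=
    fun h0 => ha (hinjA (h0.trans (map_zero _).symm))
  have hu : IsUnit ((1 : F) ⊗ₜ[k] algebraMap A K a) := by
    refine IsUnit.of_mul_eq_one ((1 : F) ⊗ₜ[k] (algebraMap A K a)⁻¹) ?_
    rw [Algebra.TensorProduct.tmul_mul_tmul, one_mul, mul_inv_cancel₀ haK]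
    rfl
  have hr' : φ₁ k A F K r = ((1 : F) ⊗ₜ[k] algebraMap A K a) * x := hr
  have hrnil : IsNilpotent r := by
    obtain ⟨n, hn⟩ := hx
    refine ⟨n, φ₁_injective k A F K hinjA ?_⟩
    rw [map_pow, hr', mul_pow, hn, mul_zero, map_zero]
  rw [hrnil.eq_zero, map_zero] at hr'
  exact (hu.mul_right_eq_zero.mp hr'.symm)

end GeomRedFrac

section StageIII

theorem normal_tensor_domains (k A B : Type u) [Field k] [CommRing A] [CommRing B] [Algebra k A]
    [Algebra k B] [IsDomain A] [IsDomain B] [IsIntegrallyClosed B]
    (hA : EGA4.IsGeomNormal k A) : EGA4.IsNormalRing (A ⊗[k] B) := by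
  haveI := isGeometricallyReduced_fractionRing k A hA
  refine isNormalRing_of_forall_fld k A B fun s => isNormalRing_tensor_sub k A B s ?_
  have h1 : EGA4.IsNormalRing ((fld k B s) ⊗[k] A) :=
    Groth.Agent.Lib.Helper6.GeomBC.normal_of_purelyInseparable_field k A (fld k B s)
      (fun k' _ _ hfin _ => hA k' hfin)
  exact Groth.Agent.Lib.Helper6.SepNorm.isNormalRing_of_ringEquiv
    (Algebra.TensorProduct.comm k (fld k B s) A).toRingEquiv h1

end StageIII

section L1

attribute [local instance] Algebra.TensorProduct.rightAlgebra in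
/-- normality can be checked after localizing the base -/
theorem isNormalRing_of_forall_localization_tensor (A S : Type u) [CommRing A] [CommRing S]
    [Algebra A S]
    (h : ∀ (p : Ideal A) [p.IsPrime], EGA4.IsNormalRing (Localization.AtPrime p ⊗[A] S)) :
    EGA4.IsNormalRing S := by
  intro Q hQ
  let p := Q.comap (algebraMap A S)
  haveI hp : p.IsPrime := Ideal.comap_isPrime _ _
  let M := Algebra.algebraMapSubmonoid S p.primeCompl
  haveI : IsLocalization M (Localization.AtPrime p ⊗[A] S) :=
    IsLocalization.tensorRight (R := A) (S := S) (Localization.AtPrime p) p.primeCompl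
  have hdisj : Disjoint (M : Set S) (Q : Set S) := by
    rw [Set.disjoint_left]
    rintro x ⟨a, ha, rfl⟩ hxQ
    exact ha hxQ
  let Q' := Q.map (algebraMap S (Localization.AtPrime p ⊗[A] S))
  haveI hQ' : Q'.IsPrime :=
    IsLocalization.isPrime_of_isPrime_disjoint M _ Q hQ hdisj
  have hcomap : Q'.comap (algebraMap S (Localization.AtPrime p ⊗[A] S)) = Q :=
    IsLocalization.under_map_of_isPrime_disjoint M _ hQ hdisj
  have key := h p Q'
  haveI : IsLocalization.AtPrime (Localization.AtPrime Q')
      (Q'.comap (algebraMap S (Localization.AtPrime p ⊗[A] S))) :=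
    IsLocalization.isLocalization_isLocalization_atPrime_isLocalization M
      (Localization.AtPrime Q') Q'
  haveI : IsLocalization.AtPrime (Localization.AtPrime Q') Q := by
    convert this
    exact hcomap.symm
  exact Groth.Agent.Lib.Helper6.EtNormal.normal_of_ringEquiv
    (IsLocalization.algEquiv Q.primeCompl (Localization.AtPrime Q)
      (Localization.AtPrime Q')).toRingEquiv key

attribute [local instance] Algebra.TensorProduct.rightAlgebra in
theorem isGeomNormal_localization (k A : Type u) [Field k] [CommRing A] [Algebra k A]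
    (hA : EGA4.IsGeomNormal k A) (p : Ideal A) [p.IsPrime] :
    EGA4.IsGeomNormal k (Localization.AtPrime p) := by
  intro F _ _ hfin
  have h1 : EGA4.IsNormalRing (A ⊗[k] F) :=
    Groth.Agent.Lib.Helper6.SepNorm.isNormalRing_of_ringEquiv
      (Algebra.TensorProduct.comm k F A).toRingEquiv (hA F hfin)
  haveI : IsLocalization (Algebra.algebraMapSubmonoid (A ⊗[k] F) p.primeCompl)
      (Localization.AtPrime p ⊗[A] (A ⊗[k] F)) :=
    IsLocalization.tensorRight (R := A) (S := A ⊗[k] F) (Localization.AtPrime p) p.primeCompl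
  have h2 : EGA4.IsNormalRing (Localization.AtPrime p ⊗[A] (A ⊗[k] F)) :=
    isNormalRing_of_isLocalization (Algebra.algebraMapSubmonoid (A ⊗[k] F) p.primeCompl) _ h1
  have h3 : EGA4.IsNormalRing (Localization.AtPrime p ⊗[k] F) :=
    Groth.Agent.Lib.Helper6.SepNorm.isNormalRing_of_ringEquiv
      (Algebra.TensorProduct.cancelBaseChange k A (Localization.AtPrime p)
        (Localization.AtPrime p) F).toRingEquiv h2
  exact Groth.Agent.Lib.Helper6.SepNorm.isNormalRing_of_ringEquiv
    (Algebra.TensorProduct.comm k (Localization.AtPrime p) F).toRingEquiv h3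

end L1

section Main9413

variable (k A B : Type u) [Field k] [CommRing A] [Algebra k A] [CommRing B] [Algebra k B]

/-- Stage II: `A` a geometrically normal domain, `B` any normal ring. -/
theorem normal_tensor_of_isDomain [IsDomain A] (hA : EGA4.IsGeomNormal k A)
    (hB : EGA4.IsNormalRing B) : EGA4.IsNormalRing (A ⊗[k] B) := by
  have h1 : EGA4.IsNormalRing (B ⊗[k] A) := by
    refine isNormalRing_of_forall_localization_tensor B (B ⊗[k] A) fun q _ => ?_
    obtain ⟨hd, hic⟩ := hB q
    have h2 : EGA4.IsNormalRing (A ⊗[k] Localization.AtPrime q) :=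
      normal_tensor_domains k A (Localization.AtPrime q) hA
    have h3 : EGA4.IsNormalRing (Localization.AtPrime q ⊗[k] A) :=
      Groth.Agent.Lib.Helper6.SepNorm.isNormalRing_of_ringEquiv
        (Algebra.TensorProduct.comm k A (Localization.AtPrime q)).toRingEquiv h2
    exact Groth.Agent.Lib.Helper6.SepNorm.isNormalRing_of_ringEquiv
      (Algebra.TensorProduct.cancelBaseChange k B (Localization.AtPrime q)
        (Localization.AtPrime q) A).toRingEquiv.symm h3
  exact Groth.Agent.Lib.Helper6.SepNorm.isNormalRing_of_ringEquiv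
    (Algebra.TensorProduct.comm k B A).toRingEquiv h1

theorem main9413 (hA : EGA4.IsGeomNormal k A) (hB : EGA4.IsNormalRing B) :
    EGA4.IsNormalRing (A ⊗[k] B) := by
  have hAn : EGA4.IsNormalRing A :=
    Groth.Agent.Lib.Helper6.NormRed.isNormalRing_of_isGeomNormal k A hA
  refine isNormalRing_of_forall_localization_tensor A (A ⊗[k] B) fun p _ => ?_
  obtain ⟨hd, hic⟩ := hAn p
  have h2 : EGA4.IsNormalRing (Localization.AtPrime p ⊗[k] B) :=
    normal_tensor_of_isDomain k (Localization.AtPrime p) B
      (isGeomNormal_localization k A hA p) hB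
  exact Groth.Agent.Lib.Helper6.SepNorm.isNormalRing_of_ringEquiv
    (Algebra.TensorProduct.cancelBaseChange k A (Localization.AtPrime p)
      (Localization.AtPrime p) B).toRingEquiv.symm h2

end Main9413

end Groth.Agent.Lib.Helper6.NormInt
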