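import Mathlib
import Groth.Agent.Lib.Helper28WeakKrull5
import Groth.Agent.Lib.Helper6NormInt4
import Groth.Agent.Lib.Helper6NormRed

set_option autoImplicit false
set_option linter.unusedSectionVars false
set_option linter.style.haveILetI false
set_option linter.deprecated false
universe u
open Polynomial IsLocalRing TensorProduct

namespace Groth.Agent.Lib.Helper28.WeakKrull

section Normal

variable (C C' : Type u) [CommRing C] [IsDomain C] [IsNoetherianRing C] [CommRing C']
  [IsNoetherianRing C'] [Algebra C C']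
  (K : Type u) [Field K] [Algebra C K] [IsFractionRing C K]

/-- the generic fibre `C' ⊗ K` is a Noetherian ring -/
theorem isNoetherianRing_tensor_fractionRing : IsNoetherianRing (C' ⊗[C] K) :=
  IsLocalization.isNoetherianRing (Algebra.algebraMapSubmonoid C' (nonZeroDivisors C)) _
    inferInstance

/-- the generic fibre `C' ⊗ K` of a normal homomorphism is a normal ring -/
theorem isNormalRing_tensor_fractionRing (h : EGA4.IsNormalHom C C') :
    EGA4.IsNormalRing (C' ⊗[C] K) := by
  have h1 : EGA4.IsNormalRing ((⊥ : Ideal C).ResidueField ⊗[C] C') :=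
    Groth.Agent.Lib.Helper6.NormRed.isNormalRing_of_isGeomNormal _ _ (h.2 ⊥)
  let e : K ≃ₐ[C] (⊥ : Ideal C).ResidueField :=
    IsLocalization.algEquiv (nonZeroDivisors C) K (⊥ : Ideal C).ResidueField
  let E : C' ⊗[C] K ≃ₐ[C] (⊥ : Ideal C).ResidueField ⊗[C] C' :=
    (Algebra.TensorProduct.congr AlgEquiv.refl e).trans (Algebra.TensorProduct.comm C C' _)
  exact Groth.Agent.Lib.Helper6.SepNorm.isNormalRing_of_ringEquiv E.toRingEquiv.symm h1


variable (B : Type u) [CommRing B] [IsDomain B] [Algebra C B] [Algebra B K] [IsScalarTower C B K]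

/-- the comparison map `C' ⊗ B → C' ⊗ K`. -/
noncomputable def toGeneric : C' ⊗[C] B →ₐ[C'] C' ⊗[C] K :=
  Algebra.TensorProduct.map (AlgHom.id C' C') (IsScalarTower.toAlgHom C B K)

theorem toGeneric_injective [Module.Flat C C'] [IsFractionRing B K] :
    Function.Injective (toGeneric C C' K B) := by
  have h1 : Function.Injective (LinearMap.lTensor C' (IsScalarTower.toAlgHom C B K).toLinearMap) :=
    Module.Flat.lTensor_preserves_injective_linearMap _ (IsFractionRing.injective B K)
  intro x y hxy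
  apply h1
  have hcomp : ∀ z : C' ⊗[C] B, LinearMap.lTensor C' (IsScalarTower.toAlgHom C B K).toLinearMap z =
      toGeneric C C' K B z := by
    intro z
    induction z using TensorProduct.induction_on with
    | zero => simp
    | tmul a b => simp [toGeneric]
    | add a b ha hb => rw [map_add, map_add, ha, hb]
  rw [hcomp, hcomp, hxy]

theorem exists_denom (x : C' ⊗[C] K) :
    ∃ s : C, s ≠ 0 ∧ ∃ r : C' ⊗[C] B,
      toGeneric C C' K B r = algebraMap C (C' ⊗[C] K) s * x := by
  induction x using TensorProduct.induction_on with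
  | zero => exact ⟨1, one_ne_zero, 0, by simp⟩
  | tmul c' k =>
    obtain ⟨⟨c₀, ⟨s, hs⟩⟩, hk⟩ := IsLocalization.surj (nonZeroDivisors C) k
    refine ⟨s, nonZeroDivisors.ne_zero hs, c' ⊗ₜ[C] algebraMap C B c₀, ?_⟩
    simp only at hk
    rw [toGeneric, Algebra.TensorProduct.map_tmul, Algebra.TensorProduct.algebraMap_apply',
      Algebra.TensorProduct.tmul_mul_tmul, one_mul, mul_comm, hk]
    simp [← IsScalarTower.algebraMap_apply]
  | add x y hx hy =>
    obtain ⟨s₁, hs₁, r₁, h₁⟩ := hx
    obtain ⟨s₂, hs₂, r₂, h₂⟩ := hy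
    refine ⟨s₁ * s₂, mul_ne_zero hs₁ hs₂,
      algebraMap C (C' ⊗[C] B) s₂ * r₁ + algebraMap C (C' ⊗[C] B) s₁ * r₂, ?_⟩
    have hc : ∀ c : C, toGeneric C C' K B (algebraMap C (C' ⊗[C] B) c) =
        algebraMap C (C' ⊗[C] K) c := by
      intro c
      rw [IsScalarTower.algebraMap_apply C C' (C' ⊗[C] B),
        IsScalarTower.algebraMap_apply C C' (C' ⊗[C] K)]
      exact (toGeneric C C' K B).commutes _
    rw [map_add, map_mul, map_mul, hc, hc, h₁, h₂, map_mul]
    ring

include K in
/-- **Normal base change for integral closures.** -/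
theorem isNormalRing_tensor_of_isIntegral (h : EGA4.IsNormalHom C C') [IsIntegrallyClosed B]
    [Algebra.IsIntegral C B] [IsFractionRing B K] : EGA4.IsNormalRing (C' ⊗[C] B) := by
  haveI := h.1
  have hred : ∀ (κ : Type u) [Field κ] [Algebra C κ], IsReduced (C' ⊗[C] κ) :=
    fun κ _ _ => Groth.Agent.Lib.Helper6.NormRed.main2729 C C' κ h
  haveI : IsNoetherianRing (C' ⊗[C] K) := isNoetherianRing_tensor_fractionRing C C' K
  have hnor : EGA4.IsNormalRing (C' ⊗[C] K) := isNormalRing_tensor_fractionRing C C' K h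
  letI : Algebra (C' ⊗[C] B) (C' ⊗[C] K) := (toGeneric C C' K B).toRingHom.toAlgebra
  refine Groth.Agent.Lib.Helper6.NormInt.isNormalRing_of_integrallyClosedIn
    (R := C' ⊗[C] B) (R' := C' ⊗[C] K) (toGeneric_injective C C' K B) hnor ?_
  intro x hx
  obtain ⟨p, hp, hpx⟩ := hx
  obtain ⟨s, hs, r, hr⟩ := exists_denom C C' K B x
  have hc : ∀ c : C, toGeneric C C' K B (algebraMap C (C' ⊗[C] B) c) =
      algebraMap C (C' ⊗[C] K) c := by
    intro c
    rw [IsScalarTower.algebraMap_apply C C' (C' ⊗[C] B),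
      IsScalarTower.algebraMap_apply C C' (C' ⊗[C] K)]
    exact (toGeneric C C' K B).commutes _
  -- `r` is integral over the ideal `(s)`
  have h1 : (p.scaleRoots (algebraMap C (C' ⊗[C] B) s)).eval r = 0 := by
    apply toGeneric_injective C C' K B
    rw [map_zero]
    have h2 := scaleRoots_eval₂_mul (p := p) (toGeneric C C' K B).toRingHom x
      (algebraMap C (C' ⊗[C] B) s)
    have h3 : (toGeneric C C' K B).toRingHom (algebraMap C (C' ⊗[C] B) s) * x =
        (toGeneric C C' K B) r := by rw [hr]; congr 1; exact hc s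
    rw [h3] at h2
    have h4 : eval₂ (toGeneric C C' K B).toRingHom x p = 0 := hpx
    rw [h4, mul_zero] at h2
    rw [← h2]
    exact (eval₂_at_apply _ _).symm
  obtain ⟨r₁, rfl⟩ := sGood_of_isIntegral K B hred s hs r p hp h1
  refine ⟨r₁, ?_⟩
  have hunit : IsUnit (algebraMap C (C' ⊗[C] K) s) := by
    have hsK : algebraMap C K s ≠ 0 := by
      rw [Ne, map_eq_zero_iff _ (IsFractionRing.injective C K)]; exact hs
    refine IsUnit.of_mul_eq_one ((1 : C') ⊗ₜ[C] (algebraMap C K s)⁻¹) ?_
    rw [Algebra.TensorProduct.algebraMap_apply', Algebra.TensorProduct.tmul_mul_tmul, one_mul,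
      mul_inv_cancel₀ hsK]
    rfl
  apply hunit.mul_left_cancel
  rw [← hr, map_mul, hc]
  rfl

end Normal

end Groth.Agent.Lib.Helper28.WeakKrull
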