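import Mathlib
import Groth.Agent.Lib.Helper28WeakKrull6
import Groth.Agent.Lib.Helper6EtNormal
import Groth.Agent.Lib.Helper6HomBC
import Groth.Agent.Lib.Helper6NormCrit

set_option autoImplicit false
set_option linter.unusedSectionVars false
set_option linter.style.haveILetI false
set_option linter.deprecated false
universe u
open Polynomial IsLocalRing TensorProduct

namespace Groth.Agent.Lib.Helper28.WeakKrull

section FracClosure

variable {A B : Type u} [CommRing A] [CommRing B] [IsDomain B] [Algebra A B]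

/-- the elements of `B` which are integral over the subalgebra `D` and lie in the fraction field
of `D`. -/
def fracClosure (D : Subalgebra A B) : Subalgebra A B where
  carrier := {b | IsIntegral D b ∧ ∃ c : D, c ≠ 0 ∧ (c : B) * b ∈ D}
  mul_mem' := by
    rintro x y ⟨hx, c, hc, hcx⟩ ⟨hy, c', hc', hcy⟩
    refine ⟨hx.mul hy, c * c', mul_ne_zero hc hc', ?_⟩
    have : ((c * c' : D) : B) * (x * y) = ((c : B) * x) * ((c' : B) * y) := by
      push_cast; ring
    rw [this]
    exact D.mul_mem hcx hcy
  add_mem' := by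
    rintro x y ⟨hx, c, hc, hcx⟩ ⟨hy, c', hc', hcy⟩
    refine ⟨hx.add hy, c * c', mul_ne_zero hc hc', ?_⟩
    have : ((c * c' : D) : B) * (x + y) = (c' : B) * ((c : B) * x) + (c : B) * ((c' : B) * y) := by
      push_cast; ring
    rw [this]
    exact D.add_mem (D.mul_mem c'.2 hcx) (D.mul_mem c.2 hcy)
  algebraMap_mem' a := by
    refine ⟨?_, 1, one_ne_zero, ?_⟩
    · have : algebraMap A B a = algebraMap D B (algebraMap A D a) := rfl
      rw [this]
      exact isIntegral_algebraMap
    · simp only [OneMemClass.coe_one, one_mul]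
      exact D.algebraMap_mem a

theorem le_fracClosure (D : Subalgebra A B) : D ≤ fracClosure D := by
  intro x hx
  refine ⟨?_, 1, one_ne_zero, ?_⟩
  · have : x = algebraMap D B ⟨x, hx⟩ := rfl
    rw [this]
    exact isIntegral_algebraMap
  · simpa using hx

theorem fracClosure_mono {D D' : Subalgebra A B} (h : D ≤ D') :
    fracClosure D ≤ fracClosure D' := by
  rintro x ⟨hx, c, hc, hcx⟩
  refine ⟨?_, ⟨c, h c.2⟩, ?_, h hcx⟩
  · exact IsIntegral.map_of_comp_eq (Subalgebra.inclusion h).toRingHom (RingHom.id B) rfl hx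
  · intro h0
    apply hc
    have h1 : (c : B) = 0 := congrArg Subtype.val h0
    exact Subtype.ext h1


variable (D : Subalgebra A B)

/-- `fracClosure D` as a `D`-algebra. -/
@[reducible] noncomputable def algFrac : Algebra D (fracClosure D) :=
  (Subalgebra.inclusion (le_fracClosure D)).toRingHom.toAlgebra

attribute [local instance] algFrac

theorem isScalarTower_algFrac : IsScalarTower A D (fracClosure D) :=
  IsScalarTower.of_algebraMap_eq fun _ => rfl

theorem isScalarTower_algFrac' : IsScalarTower D (fracClosure D) B :=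
  IsScalarTower.of_algebraMap_eq fun _ => rfl

attribute [local instance] isScalarTower_algFrac isScalarTower_algFrac'

theorem isIntegral_algFrac : Algebra.IsIntegral D (fracClosure D) := by
  refine ⟨fun e => ?_⟩
  have h1 : IsIntegral D (algebraMap (fracClosure D) B e) := e.2.1
  exact (isIntegral_algebraMap_iff (Subtype.val_injective)).mp h1

attribute [local instance] isIntegral_algFrac

theorem isIntegrallyClosed_fracClosure [IsIntegrallyClosed B] :
    IsIntegrallyClosed (fracClosure D) := by
  rw [Groth.Agent.Lib.Helper6.EtNormal.isIntegrallyClosed_iff_nc]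
  intro a b p hp hb hab
  have hB := (Groth.Agent.Lib.Helper6.EtNormal.isIntegrallyClosed_iff_nc B).mp inferInstance
  set φ : fracClosure D →+* B := algebraMap (fracClosure D) B with hφ
  have hφb : φ b ≠ 0 := by
    intro h0
    exact hb (Subtype.ext h0)
  have h1 := eval_scaleRoots_map_eq_zero φ p hp b a hab
  obtain ⟨t, ht⟩ := hB _ _ _ (hp.map φ) hφb h1
  -- `t` is a root of `p`
  have h2 : (p.map φ).eval t = 0 := by
    rw [ht, scaleRoots_eval_mul] at h1
    exact (mul_eq_zero.mp h1).resolve_left (pow_ne_zero _ hφb)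
  have h3 : IsIntegral (fracClosure D) t := ⟨p, hp, by rw [← eval_map]; exact h2⟩
  have h4 : IsIntegral D t := isIntegral_trans t h3
  obtain ⟨-, ca, hca, hcaa⟩ := a.2
  obtain ⟨-, cb, hcb, hcbb⟩ := b.2
  have hmem : t ∈ fracClosure D := by
    refine ⟨h4, ca * ⟨(cb : B) * b, hcbb⟩, ?_, ?_⟩
    · refine mul_ne_zero hca ?_
      intro h0
      have h5 : (cb : B) * (b : B) = 0 := congrArg Subtype.val h0
      rcases mul_eq_zero.mp h5 with h6 | h6
      · exact hcb (Subtype.ext h6)
      · exact hφb h6
    · have h5 : ((ca * ⟨(cb : B) * b, hcbb⟩ : D) : B) * t = (cb : B) * ((ca : B) * (a : B)) := by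
        push_cast
        have : (a : B) = (b : B) * t := ht
        rw [this]; ring
      rw [h5]
      exact D.mul_mem cb.2 hcaa
  exact ⟨⟨t, hmem⟩, Subtype.ext ht⟩

theorem isFractionRing_fracClosure :
    IsFractionRing D (FractionRing (fracClosure D)) := by
  haveI : FaithfulSMul D (FractionRing (fracClosure D)) := by
    rw [faithfulSMul_iff_algebraMap_injective]
    rw [IsScalarTower.algebraMap_eq D (fracClosure D) (FractionRing (fracClosure D))]
    exact (IsFractionRing.injective (fracClosure D) _).comp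
      (Subalgebra.inclusion_injective (le_fracClosure D))
  apply IsFractionRing.of_field
  intro z
  obtain ⟨e₁, e₂, he₂, rfl⟩ := IsFractionRing.div_surjective (A := fracClosure D) z
  have he₂0 : e₂ ≠ 0 := nonZeroDivisors.ne_zero he₂
  obtain ⟨-, c₁, hc₁, hc₁e⟩ := e₁.2
  obtain ⟨-, c₂, hc₂, hc₂e⟩ := e₂.2
  -- numerator `c₂ * (c₁ e₁)`, denominator `c₁ * (c₂ e₂)`
  refine ⟨c₂ * ⟨(c₁ : B) * e₁, hc₁e⟩, c₁ * ⟨(c₂ : B) * e₂, hc₂e⟩, ?_⟩
  have hinjE := IsFractionRing.injective (fracClosure D) (FractionRing (fracClosure D))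
  set γ : FractionRing (fracClosure D) := algebraMap (fracClosure D) (FractionRing (fracClosure D))
      (algebraMap D (fracClosure D) (c₁ * c₂)) with hγ
  have hnum : algebraMap D (FractionRing (fracClosure D)) (c₂ * ⟨(c₁ : B) * e₁, hc₁e⟩) =
      γ * algebraMap (fracClosure D) _ e₁ := by
    rw [IsScalarTower.algebraMap_apply D (fracClosure D) (FractionRing (fracClosure D)), hγ,
      ← map_mul]
    congr 1
    apply Subtype.ext
    change (c₂ : B) * ((c₁ : B) * (e₁ : B)) = ((c₁ : B) * (c₂ : B)) * (e₁ : B)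
    ring
  have hden : algebraMap D (FractionRing (fracClosure D)) (c₁ * ⟨(c₂ : B) * e₂, hc₂e⟩) =
      γ * algebraMap (fracClosure D) _ e₂ := by
    rw [IsScalarTower.algebraMap_apply D (fracClosure D) (FractionRing (fracClosure D)), hγ,
      ← map_mul]
    congr 1
    apply Subtype.ext
    change (c₁ : B) * ((c₂ : B) * (e₂ : B)) = ((c₁ : B) * (c₂ : B)) * (e₂ : B)
    ring
  have hc : γ ≠ 0 := by
    have hinjD : Function.Injective (algebraMap D (fracClosure D)) :=
      Subalgebra.inclusion_injective (le_fracClosure D)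
    rw [hγ, Ne, map_eq_zero_iff _ hinjE, map_eq_zero_iff _ hinjD]
    exact mul_ne_zero hc₁ hc₂
  rw [hnum, hden, mul_div_mul_left _ _ hc]

end FracClosure


section Assembly

variable (A A' : Type u) [CommRing A] [CommRing A'] [IsNoetherianRing A] [IsNoetherianRing A']
  [Algebra A A'] (B : Type u) [CommRing B] [Algebra A B]

attribute [local instance] algFrac isScalarTower_algFrac isScalarTower_algFrac'
  isIntegral_algFrac

/-- **T1**: the stage of the directed union. -/
theorem isNormalRing_fracClosure_tensor [IsDomain B] [IsIntegrallyClosed B]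
    (h : EGA4.IsNormalHom A A') (D : Subalgebra A B) (hD : D.FG) :
    EGA4.IsNormalRing ((fracClosure D) ⊗[A] A') := by
  haveI : Algebra.FiniteType A D := (Subalgebra.fg_iff_finiteType D).mp hD
  haveI : IsNoetherianRing D := Algebra.FiniteType.isNoetherianRing A D
  haveI : IsNoetherianRing (D ⊗[A] A') :=
    Groth.Agent.Lib.Helper6.HomBC.isNoetherianRing_tensor_of_finiteType A A' D (Or.inr inferInstance)
  have hN : EGA4.IsNormalHom D (D ⊗[A] A') :=
    Groth.Agent.Lib.Helper6.HomBC.normalHom_baseChange A A' D h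
  haveI : IsIntegrallyClosed (fracClosure D) := isIntegrallyClosed_fracClosure D
  haveI : IsFractionRing D (FractionRing (fracClosure D)) := isFractionRing_fracClosure D
  have h1 : EGA4.IsNormalRing ((D ⊗[A] A') ⊗[D] (fracClosure D)) :=
    isNormalRing_tensor_of_isIntegral D (D ⊗[A] A') (FractionRing (fracClosure D))
      (fracClosure D) hN
  have h2 : EGA4.IsNormalRing ((fracClosure D) ⊗[D] (D ⊗[A] A')) :=
    Groth.Agent.Lib.Helper6.SepNorm.isNormalRing_of_ringEquiv
      (Algebra.TensorProduct.comm D (D ⊗[A] A') (fracClosure D)).toRingEquiv h1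
  exact Groth.Agent.Lib.Helper6.SepNorm.isNormalRing_of_ringEquiv
    (Algebra.TensorProduct.cancelBaseChange A D D (fracClosure D) A').toRingEquiv h2


/-- **T2**: the case of an integrally closed domain. -/
theorem isNormalRing_tensor_of_isIntegrallyClosed [IsDomain B] [IsIntegrallyClosed B]
    (h : EGA4.IsNormalHom A A') : EGA4.IsNormalRing (B ⊗[A] A') := by
  haveI := h.1
  haveI : Nonempty {D : Subalgebra A B // D.FG} := ⟨⟨⊥, Subalgebra.fg_bot⟩⟩
  refine Groth.Agent.Lib.Helper6.NormCrit.isNormalRing_of_directed_union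
    (ι := {D : Subalgebra A B // D.FG})
    (fun D => (fracClosure D.1) ⊗[A] A')
    (fun D => (Groth.Agent.Lib.Helper6.NormRed.incl A A' B (fracClosure D.1)).toRingHom)
    (fun D => Groth.Agent.Lib.Helper6.NormRed.incl_injective A A' B (fracClosure D.1))
    ?_ ?_ (fun D => isNormalRing_fracClosure_tensor A A' B h D.1 D.2)
  · intro D₁ D₂
    refine ⟨⟨D₁.1 ⊔ D₂.1, D₁.2.sup D₂.2⟩, ?_, ?_⟩
    · intro x hx
      exact Groth.Agent.Lib.Helper6.NormRed.range_incl_mono A A' B
        (fracClosure_mono (le_sup_left : D₁.1 ≤ D₁.1 ⊔ D₂.1)) hx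
    · intro x hx
      exact Groth.Agent.Lib.Helper6.NormRed.range_incl_mono A A' B
        (fracClosure_mono (le_sup_right : D₂.1 ≤ D₁.1 ⊔ D₂.1)) hx
  · intro x
    obtain ⟨D, hD, hx⟩ := Groth.Agent.Lib.Helper6.NormRed.exists_fg_mem_range A A' B x
    exact ⟨⟨D, hD⟩, Groth.Agent.Lib.Helper6.NormRed.range_incl_mono A A' B (le_fracClosure D) hx⟩

/-- **T3**: the general case (EGA IV 6.14.1). -/
theorem isNormalRing_tensor_of_isNormalHom (h : EGA4.IsNormalHom A A')
    (hB : EGA4.IsNormalRing B) : EGA4.IsNormalRing (A' ⊗[A] B) := by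
  have h1 : EGA4.IsNormalRing (B ⊗[A] A') := by
    refine Groth.Agent.Lib.Helper6.NormInt.isNormalRing_of_forall_localization_tensor B (B ⊗[A] A')
      fun q _ => ?_
    obtain ⟨hd, hic⟩ := hB q
    have h3 : EGA4.IsNormalRing (Localization.AtPrime q ⊗[A] A') :=
      isNormalRing_tensor_of_isIntegrallyClosed A A' (Localization.AtPrime q) h
    exact Groth.Agent.Lib.Helper6.SepNorm.isNormalRing_of_ringEquiv
      (Algebra.TensorProduct.cancelBaseChange A B (Localization.AtPrime q)
        (Localization.AtPrime q) A').toRingEquiv.symm h3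
  exact Groth.Agent.Lib.Helper6.SepNorm.isNormalRing_of_ringEquiv
    (Algebra.TensorProduct.comm A B A').toRingEquiv h1

end Assembly

end Groth.Agent.Lib.Helper28.WeakKrull
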