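import Mathlib
import Groth.Agent.Lib.Helper28FormalFibres
import Groth.Agent.Lib.Helper28GeomFibre
import Groth.Agent.Lib.Helper28RegDescent
import Groth.Agent.S2670
import Groth.Agent.Lib.Helper19ComplNoeth

/-!
# Helper28OnePlus: the localization `A_T` at `T = 1 + J` versus the `J`-adic completion

`A_T → Â` is faithfully flat (Noetherian `A`), `A_T ⊗[A] Â ≃ Â`; consequently regularity and
normality of `A_T` and `Â` are equivalent when `A → Â` is a regular, resp. normal, homomorphism.
-/

set_option autoImplicit false
universe u

namespace Groth.Agent.Lib.Helper28.OnePlus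
open TensorProduct

variable {A : Type u} [CommRing A] (J : Ideal A)

/-- `T = 1 + J`. -/
abbrev T : Submonoid A := MonoidHom.mker (Ideal.Quotient.mk J)

lemma mem_T_iff {t : A} : t ∈ T J ↔ t - 1 ∈ J := by
  rw [MonoidHom.mem_mker, ← map_one (Ideal.Quotient.mk J), Ideal.Quotient.eq]

lemma isUnit_algebraMap_cpl (hJ : J.FG) {t : A} (ht : t ∈ T J) :
    IsUnit (algebraMap A (AdicCompletion J A) t) := by
  have hc := AdicCompletion.isAdicComplete_self J hJ
  have hle := IsAdicComplete.le_jacobson_bot (J.map (algebraMap A (AdicCompletion J A)))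
  have h1 : algebraMap A (AdicCompletion J A) (t - 1) ∈ (⊥ : Ideal (AdicCompletion J A)).jacobson :=
    hle (Ideal.mem_map_of_mem _ ((mem_T_iff J).mp ht))
  have h2 := Ideal.mem_jacobson_bot.mp h1 1
  simpa using h2

section Loc

variable (S : Type u) [CommRing S] [Algebra A S] [IsLocalization (T J) S]

/-- `J S` lies in the Jacobson radical of `S = (1+J)⁻¹ A`. -/
lemma map_le_jacobson_bot : J.map (algebraMap A S) ≤ (⊥ : Ideal S).jacobson := by
  rw [Ideal.map_le_iff_le_comap]
  intro j hj
  rw [Ideal.mem_comap, Ideal.mem_jacobson_bot]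
  intro y
  obtain ⟨a, t, rfl⟩ := IsLocalization.exists_mk'_eq (T J) y
  have ht : (j * a + t : A) ∈ T J := by
    rw [mem_T_iff]
    have h1 : (t : A) - 1 ∈ J := (mem_T_iff J).mp t.2
    have h2 : j * a + t - 1 = j * a + (t - 1) := by ring
    rw [h2]
    exact J.add_mem (J.mul_mem_right _ hj) h1
  have h1 : (algebraMap A S j * IsLocalization.mk' S a t + 1) * algebraMap A S t =
      algebraMap A S (j * a + t) := by
    rw [add_mul, mul_assoc, IsLocalization.mk'_spec, one_mul, map_add, map_mul]
  have hu : IsUnit (algebraMap A S (j * a + t)) := IsLocalization.map_units S ⟨_, ht⟩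
  rw [← h1] at hu
  exact isUnit_of_mul_isUnit_left hu

variable {S} in
lemma le_comap_of_isMaximal (M : Ideal S) [M.IsMaximal] : J ≤ M.comap (algebraMap A S) := by
  rw [← Ideal.map_le_iff_le_comap]
  refine (map_le_jacobson_bot J S).trans ?_
  exact sInf_le ⟨bot_le, inferInstance⟩

variable [Algebra S (AdicCompletion J A)] [IsScalarTower A S (AdicCompletion J A)]

lemma flat_cpl [Module.Flat A (AdicCompletion J A)] : Module.Flat S (AdicCompletion J A) :=
  (Module.flat_iff_of_isLocalization S (T J) (AdicCompletion J A)).mpr inferInstance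

lemma map_ne_top_of_isMaximal (M : Ideal S) [hM : M.IsMaximal] :
    M.map (algebraMap S (AdicCompletion J A)) ≠ ⊤ := by
  intro htop
  set p := M.comap (algebraMap A S) with hp
  have hJp : J ≤ p := le_comap_of_isMaximal J M
  have hMp : M = p.map (algebraMap A S) := (IsLocalization.map_under (T J) S M).symm
  let φ : AdicCompletion J A →+* A ⧸ p :=
    (Ideal.Quotient.factor hJp).comp (AdicCompletion.evalOneₐ J).toRingHom
  have hφ : φ.comp (algebraMap A (AdicCompletion J A)) = Ideal.Quotient.mk p := by
    ext a
    simp [φ]
  have h1 : (M.map (algebraMap S (AdicCompletion J A))).map φ = ⊥ := by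
    rw [hMp, Ideal.map_map, Ideal.map_map, RingHom.comp_assoc, ← IsScalarTower.algebraMap_eq, hφ,
      Ideal.map_quotient_self]
  rw [htop, Ideal.map_top] at h1
  have hpp : p.IsPrime := Ideal.comap_isPrime _ M
  have : Nontrivial (A ⧸ p) := Ideal.Quotient.nontrivial_iff.mpr hpp.ne_top
  exact top_ne_bot h1

lemma faithfullyFlat_cpl [Module.Flat A (AdicCompletion J A)] :
    Module.FaithfullyFlat S (AdicCompletion J A) := by
  have := flat_cpl J S
  refine ⟨fun M hM ↦ ?_⟩
  rw [Ideal.smul_top_eq_map]
  exact (Submodule.restrictScalars_eq_top_iff _ _ _).ne.mpr (map_ne_top_of_isMaximal J S M)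

end Loc

section Main

variable (A) [IsNoetherianRing A]

theorem regular_iff (hf : CAlg.IsRegularHom A (AdicCompletion J A)) :
    IsRegularRing (Localization (T J)) ↔ IsRegularRing (AdicCompletion J A) := by
  have hunit : ∀ t : T J, IsUnit (algebraMap A (AdicCompletion J A) t) :=
    fun t => isUnit_algebraMap_cpl J (IsNoetherian.noetherian J) t.2
  have hNB : IsNoetherianRing (AdicCompletion J A) :=
    Groth.Agent.Lib.Helper19.isNoetherianRing_adicCompletion J
  let : Algebra (Localization (T J)) (AdicCompletion J A) :=
    (IsLocalization.lift (M := T J) (g := algebraMap A (AdicCompletion J A)) hunit).toAlgebra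
  have : IsScalarTower A (Localization (T J)) (AdicCompletion J A) :=
    IsScalarTower.of_algebraMap_eq (fun a => (IsLocalization.lift_eq hunit a).symm)
  have : Module.Flat A (AdicCompletion J A) := hf.1
  have := faithfullyFlat_cpl J (Localization (T J))
  let e : Localization (T J) ⊗[A] AdicCompletion J A ≃ₐ[Localization (T J)] AdicCompletion J A :=
    IsLocalization.algebraLid (T J) (Localization (T J)) (AdicCompletion J A)
  constructor
  · intro h
    have : IsNoetherianRing (Localization (T J) ⊗[A] AdicCompletion J A) :=
      isNoetherianRing_of_ringEquiv _ e.symm.toRingEquiv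
    have := isRegularRing_tensorProduct_of_quasiFinite (R := A) (S := AdicCompletion J A)
      (A := Localization (T J)) (fun q _ => (hf.2 q).2)
    exact IsRegularRing.of_ringEquiv e.toRingEquiv
  · intro h
    exact isRegularRing_of_faithfullyFlat (R := Localization (T J)) (S := AdicCompletion J A)

theorem normal_iff (hf : EGA4.IsNormalHom A (AdicCompletion J A)) :
    EGA4.IsNormalRing (Localization (T J)) ↔ EGA4.IsNormalRing (AdicCompletion J A) := by
  have hunit : ∀ t : T J, IsUnit (algebraMap A (AdicCompletion J A) t) :=
    fun t => isUnit_algebraMap_cpl J (IsNoetherian.noetherian J) t.2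
  have hNB : IsNoetherianRing (AdicCompletion J A) :=
    Groth.Agent.Lib.Helper19.isNoetherianRing_adicCompletion J
  let : Algebra (Localization (T J)) (AdicCompletion J A) :=
    (IsLocalization.lift (M := T J) (g := algebraMap A (AdicCompletion J A)) hunit).toAlgebra
  have : IsScalarTower A (Localization (T J)) (AdicCompletion J A) :=
    IsScalarTower.of_algebraMap_eq (fun a => (IsLocalization.lift_eq hunit a).symm)
  have : Module.Flat A (AdicCompletion J A) := hf.1
  have := faithfullyFlat_cpl J (Localization (T J))
  let e : Localization (T J) ⊗[A] AdicCompletion J A ≃ₐ[Localization (T J)] AdicCompletion J A :=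
    IsLocalization.algebraLid (T J) (Localization (T J)) (AdicCompletion J A)
  constructor
  · intro h
    have h1 := Groth.Agent.S2670.result A (AdicCompletion J A) hf (Localization (T J)) h
    exact isNormalRing_of_ringEquiv
      ((Algebra.TensorProduct.comm A (AdicCompletion J A) (Localization (T J))).toRingEquiv.trans
        e.toRingEquiv) h1
  · intro h
    exact isNormalRing_of_faithfullyFlat (A := Localization (T J)) (B := AdicCompletion J A) h

end Main

end Groth.Agent.Lib.Helper28.OnePlus
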