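import Mathlib
import Groth.Agent.Lib.Helper28OnePlus

/-!
# Helper28OnePlus2: connectedness / idempotents for `A_T` versus the `J`-adic completion
-/

set_option autoImplicit false
universe u

namespace Groth.Agent.Lib.Helper28.OnePlus


/-- A ring with only trivial idempotents and `0 ≠ 1` has connected spectrum. -/
theorem connectedSpace_of_idempotents (R : Type u) [CommRing R] [Nontrivial R]
    (h : ∀ e : R, IsIdempotentElem e → e = 0 ∨ e = 1) : ConnectedSpace (PrimeSpectrum R) := by
  have : PreconnectedSpace (PrimeSpectrum R) := by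
    rw [preconnectedSpace_iff_clopen]
    intro s hs
    obtain ⟨e, he, rfl⟩ := PrimeSpectrum.isClopen_iff.mp hs
    rcases h e he with rfl | rfl
    · left; simp
    · right; simp
  exact ConnectedSpace.mk inferInstance

lemma eq_zero_of_basicOpen_eq_bot {R : Type u} [CommRing R] (e : R) (he : IsIdempotentElem e)
    (h : PrimeSpectrum.basicOpen e = ⊥) : e = 0 := by
  rw [PrimeSpectrum.basicOpen_eq_bot_iff] at h
  obtain ⟨n, hn⟩ := h
  rcases Nat.eq_zero_or_pos n with rfl | hpos
  · have : Subsingleton R := subsingleton_of_zero_eq_one (by simpa using hn.symm)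
    exact Subsingleton.elim _ _
  · obtain ⟨m, rfl⟩ := Nat.exists_eq_succ_of_ne_zero hpos.ne'
    rwa [Nat.succ_eq_add_one, he.pow_succ_eq] at hn

/-- A ring with connected spectrum has only trivial idempotents. -/
theorem idempotent_of_connectedSpace (R : Type u) [CommRing R] [ConnectedSpace (PrimeSpectrum R)]
    (e : R) (he : IsIdempotentElem e) : e = 0 ∨ e = 1 := by
  have hcl : IsClopen ((PrimeSpectrum.basicOpen e : TopologicalSpace.Opens (PrimeSpectrum R)) :
      Set (PrimeSpectrum R)) := PrimeSpectrum.isClopen_iff.mpr ⟨e, he, rfl⟩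
  rcases isClopen_iff.mp hcl with h | h
  · left
    exact eq_zero_of_basicOpen_eq_bot e he (TopologicalSpace.Opens.ext h)
  · right
    have h' : PrimeSpectrum.basicOpen e = ⊤ := TopologicalSpace.Opens.ext h
    have h1 : PrimeSpectrum.basicOpen (1 - e) = ⊥ := by
      have h2 : PrimeSpectrum.basicOpen ((1 - e) * e) =
          PrimeSpectrum.basicOpen (1 - e) ⊓ PrimeSpectrum.basicOpen e :=
        PrimeSpectrum.basicOpen_mul _ _
      rw [h', inf_top_eq] at h2
      rw [← h2]
      have h3 : (1 - e) * e = 0 := by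
        rw [sub_mul, one_mul, he.eq, sub_self]
      rw [h3]
      exact PrimeSpectrum.basicOpen_zero
    have := eq_zero_of_basicOpen_eq_bot (1 - e) he.one_sub h1
    exact (sub_eq_zero.mp this).symm




section LocDomain

variable {R : Type u} [CommRing R]

/-- If `R_P` is a domain, then any minimal prime of `R` inside `P` is the kernel of `R → R_P`. -/
lemma eq_ker_of_mem_minimalPrimes (P : Ideal R) [P.IsPrime] [IsDomain (Localization.AtPrime P)]
    (q : Ideal R) (hq : q ∈ minimalPrimes R) (hqP : q ≤ P) :
    q = RingHom.ker (algebraMap R (Localization.AtPrime P)) := by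
  have hqprime : q.IsPrime := hq.1.1
  have hker : (RingHom.ker (algebraMap R (Localization.AtPrime P))).IsPrime :=
    RingHom.ker_isPrime _
  have hle : RingHom.ker (algebraMap R (Localization.AtPrime P)) ≤ q := by
    intro x hx
    rw [RingHom.mem_ker, IsLocalization.map_eq_zero_iff P.primeCompl] at hx
    obtain ⟨s, hs⟩ := hx
    have h1 : (s : R) * x ∈ q := by rw [hs]; exact q.zero_mem
    rcases hqprime.mem_or_mem h1 with h2 | h2
    · exact absurd (hqP h2) s.2
    · exact h2
  exact le_antisymm (hq.2 ⟨hker, bot_le⟩ hle) hle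

theorem isDomain_of_forall_isDomain_localization [IsNoetherianRing R]
    (h : ∀ (P : Ideal R) [P.IsPrime], IsDomain (Localization.AtPrime P))
    [ConnectedSpace (PrimeSpectrum R)] : IsDomain R := by
  have hne : Nonempty (PrimeSpectrum R) := inferInstance
  have : Nontrivial R := (PrimeSpectrum.nonempty_iff_nontrivial).mp hne
  obtain ⟨p, hp⟩ := Ideal.nonempty_minimalPrimes (R := R) (I := ⊥) (by simp)
  have hpprime : p.IsPrime := hp.1.1
  -- uniqueness of minimal primes inside a given prime
  have huniq : ∀ (P : Ideal R) [P.IsPrime] (q₁ q₂ : Ideal R), q₁ ∈ minimalPrimes R →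
      q₂ ∈ minimalPrimes R → q₁ ≤ P → q₂ ≤ P → q₁ = q₂ := by
    intro P _ q₁ q₂ h1 h2 h1P h2P
    have := h P
    rw [eq_ker_of_mem_minimalPrimes P q₁ h1 h1P, eq_ker_of_mem_minimalPrimes P q₂ h2 h2P]
  have hfin : (minimalPrimes R).Finite := minimalPrimes.finite_of_isNoetherianRing R
  have hcompl : (PrimeSpectrum.zeroLocus (p : Set R))ᶜ =
      ⋃ q ∈ (minimalPrimes R \ {p}), PrimeSpectrum.zeroLocus (q : Set R) := by
    ext P
    simp only [Set.mem_compl_iff, PrimeSpectrum.mem_zeroLocus, SetLike.coe_subset_coe,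
      Set.mem_iUnion, exists_prop]
    constructor
    · intro hP
      obtain ⟨q, hq, hqP⟩ := Ideal.exists_minimalPrimes_le (bot_le : ⊥ ≤ P.asIdeal)
      refine ⟨q, ⟨hq, ?_⟩, hqP⟩
      rintro rfl
      exact hP hqP
    · rintro ⟨q, ⟨hq, hqp⟩, hqP⟩ hpP
      exact hqp (huniq P.asIdeal q p hq hp hqP hpP)
  have hclopen : IsClopen (PrimeSpectrum.zeroLocus (p : Set R)) := by
    refine ⟨PrimeSpectrum.isClosed_zeroLocus _, ?_⟩
    rw [← isClosed_compl_iff, hcompl]
    exact (hfin.subset Set.sdiff_subset).isClosed_biUnion fun q _ =>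
      PrimeSpectrum.isClosed_zeroLocus _
  have huniv : PrimeSpectrum.zeroLocus (p : Set R) = Set.univ :=
    hclopen.eq_univ ⟨⟨p, hpprime⟩, by simp⟩
  have hle : ∀ (P : Ideal R) [P.IsPrime], p ≤ P := by
    intro P hP
    have : (⟨P, hP⟩ : PrimeSpectrum R) ∈ PrimeSpectrum.zeroLocus (p : Set R) := by
      rw [huniv]; trivial
    simpa using this
  have hbot : p = ⊥ := by
    rw [eq_bot_iff]
    intro x hx
    rw [Ideal.mem_bot]
    apply eq_zero_of_localization
    intro M hM
    have := h M
    have h1 := eq_ker_of_mem_minimalPrimes M p hp (hle M)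
    rw [h1] at hx
    exact hx
  rw [hbot] at hpprime
  exact IsDomain.of_bot_isPrime R

end LocDomain



section Idem
open Polynomial

variable {A : Type u} [CommRing A] (J : Ideal A)

lemma mem_map_iff_evalOne (hJ : J.FG) (x : AdicCompletion J A) :
    x ∈ J.map (algebraMap A (AdicCompletion J A)) ↔ AdicCompletion.evalOneₐ J x = 0 := by
  rw [← AdicCompletion.ker_evalOneₐ_eq_map J hJ, RingHom.mem_ker]
  rfl

/-- Idempotents of `A ⧸ J` lift to the `J`-adic completion. -/
lemma exists_idempotent_lift (hJ : J.FG) (e : A ⧸ J) (he : IsIdempotentElem e) :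
    ∃ x : AdicCompletion J A, IsIdempotentElem x ∧ AdicCompletion.evalOneₐ J x = e := by
  have hc := AdicCompletion.isAdicComplete_self J hJ
  have hH : HenselianRing (AdicCompletion J A) (J.map (algebraMap A (AdicCompletion J A))) :=
    inferInstance
  obtain ⟨x₀, hx₀⟩ := AdicCompletion.evalOneₐ_surjective J e
  let f : Polynomial (AdicCompletion J A) := X ^ 2 - X
  have hmonic : f.Monic := by
    apply Polynomial.monic_X_pow_sub
    exact Polynomial.degree_X_le.trans_lt (by norm_num)
  have h1 : f.eval x₀ ∈ J.map (algebraMap A (AdicCompletion J A)) := by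
    rw [mem_map_iff_evalOne J hJ]
    simp only [f, eval_sub, eval_pow, eval_X, map_sub, map_pow, hx₀]
    rw [pow_two, he.eq, sub_self]
  have hder : f.derivative.eval x₀ = 2 * x₀ - 1 := by
    simp [f]
    ring
  have h2 : IsUnit (Ideal.Quotient.mk (J.map (algebraMap A (AdicCompletion J A)))
      (f.derivative.eval x₀)) := by
    apply IsUnit.of_mul_eq_one (b := Ideal.Quotient.mk _ (f.derivative.eval x₀))
    rw [← map_mul, ← map_one (Ideal.Quotient.mk _), Ideal.Quotient.eq, hder]
    have h3 : (2 * x₀ - 1) * (2 * x₀ - 1) - 1 = 4 * f.eval x₀ := by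
      simp only [f, eval_sub, eval_pow, eval_X]
      ring
    rw [h3]
    exact Ideal.mul_mem_left _ _ h1
  obtain ⟨x, hx, hxx₀⟩ := HenselianRing.is_henselian f hmonic x₀ h1 h2
  refine ⟨x, ?_, ?_⟩
  · have h4 : x ^ 2 - x = 0 := by simpa [f, IsRoot] using hx
    rw [IsIdempotentElem, ← pow_two]
    exact sub_eq_zero.mp h4
  · rw [mem_map_iff_evalOne J hJ, map_sub, sub_eq_zero] at hxx₀
    rw [hxx₀, hx₀]

/-- An idempotent of the completion mapping to `0` in `A ⧸ J` is `0`. -/
lemma idempotent_eq_zero_of_evalOne (hJ : J.FG) (x : AdicCompletion J A) (hx : IsIdempotentElem x)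
    (h0 : AdicCompletion.evalOneₐ J x = 0) : x = 0 := by
  have hc := AdicCompletion.isAdicComplete_self J hJ
  have hle := IsAdicComplete.le_jacobson_bot (J.map (algebraMap A (AdicCompletion J A)))
  have h1 : x ∈ (⊥ : Ideal (AdicCompletion J A)).jacobson := hle ((mem_map_iff_evalOne J hJ x).mpr h0)
  have h2 := Ideal.mem_jacobson_bot.mp h1 (-1)
  have h3 : x * (x * -1 + 1) = 0 := by
    rw [mul_add, mul_one, ← mul_assoc, hx.eq]; ring
  exact (h2.mul_left_eq_zero).mp h3


end Idem

section NormalDomain

theorem isNormalRing_of_isIntegrallyClosed (R : Type u) [CommRing R] [IsDomain R]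
    [IsIntegrallyClosed R] : EGA4.IsNormalRing R := by
  intro p hp
  have hle : p.primeCompl ≤ nonZeroDivisors R := p.primeCompl_le_nonZeroDivisors
  exact ⟨IsLocalization.isDomain_localization hle,
    isIntegrallyClosed_of_isLocalization (Localization.AtPrime p) p.primeCompl hle⟩

theorem isIntegrallyClosed_of_isNormalRing (R : Type u) [CommRing R] [IsDomain R]
    (h : EGA4.IsNormalRing R) : IsIntegrallyClosed R :=
  IsIntegrallyClosed.of_localization_maximal fun p _ _ => (h p).2

theorem isDomain_localization_of_isDomain_cpl (A : Type u) [CommRing A] [IsNoetherianRing A]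
    (J : Ideal A) (hflat : Module.Flat A (AdicCompletion J A)) [IsDomain (AdicCompletion J A)] :
    IsDomain (Localization (T J)) := by
  have hunit : ∀ t : T J, IsUnit (algebraMap A (AdicCompletion J A) t) :=
    fun t => isUnit_algebraMap_cpl J (IsNoetherian.noetherian J) t.2
  let : Algebra (Localization (T J)) (AdicCompletion J A) :=
    (IsLocalization.lift (M := T J) (g := algebraMap A (AdicCompletion J A)) hunit).toAlgebra
  have : IsScalarTower A (Localization (T J)) (AdicCompletion J A) :=
    IsScalarTower.of_algebraMap_eq (fun a => (IsLocalization.lift_eq hunit a).symm)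
  have := faithfullyFlat_cpl J (Localization (T J))
  exact (FaithfulSMul.algebraMap_injective (Localization (T J)) (AdicCompletion J A)).isDomain
    (algebraMap (Localization (T J)) (AdicCompletion J A))

end NormalDomain

end Groth.Agent.Lib.Helper28.OnePlus
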