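import Mathlib
import Groth.Prelude.Def_Curv2
import Groth.Prelude.Def_Found
import Groth.Agent.Lib.Helper13Alter
import Groth.Agent.Lib.Helper13SubFinNormal
import Groth.Agent.Lib.Helper13RegCplProper
import Groth.Agent.Lib.Helper12AffineDescent
import Groth.Agent.Lib.Helper20NormalSec
import Groth.Agent.Lib.Helper28OnePlus2

/-!
# Completion of the integral closure of a local domain with a regular alteration (helper13)
-/

set_option autoImplicit false
universe u
open CategoryTheory CategoryTheory.Limits AlgebraicGeometry TensorProduct IsLocalRing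

namespace Groth.Agent.Helper13AlterCpl

open Groth.Agent.Helper13Alter

/-- global sections of a normal locally Noetherian scheme form a normal ring -/
theorem isNormalRing_globalSections (Y : Scheme.{u}) [IsLocallyNoetherian Y]
    (hY : Pi1.IsNormalScheme Y) : EGA4.IsNormalRing Γ(Y, ⊤) :=
  Groth.Agent.Lib.Helper20NormalSec.isNormalRing_of_sections hY ⊤ (A' := Γ(Y, ⊤))
    Function.injective_id (fun b _ => ⟨b, rfl⟩)

/-- flat base change of global sections to a ring: `Γ(X ×_A A', ⊤) ≅ A' ⊗[A] Γ(X, ⊤)` -/
theorem nonempty_ringEquiv_globalSections_baseChange (A : Type u) [CommRing A]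
    (A' : Type u) [CommRing A'] [Algebra A A'] [Module.Flat A A']
    {X : Scheme.{u}} (f : X ⟶ Spec (CommRingCat.of A)) [CompactSpace X] [QuasiSeparatedSpace X] :
    letI := algC A f
    Nonempty (Γ(pullback f (Spec.map (CommRingCat.ofHom (algebraMap A A'))), ⊤) ≃+*
      A' ⊗[A] Γ(X, ⊤)) := by
  letI := algC A f
  haveI : Flat (Spec.map (CommRingCat.ofHom (algebraMap A A'))) :=
    Flat.SpecMap_iff.mpr (RingHom.flat_algebraMap_iff.mpr inferInstance)
  have H : IsPullback (pullback.fst f (Spec.map (CommRingCat.ofHom (algebraMap A A'))))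
      (pullback.snd f (Spec.map (CommRingCat.ofHom (algebraMap A A')))) f
      (Spec.map (CommRingCat.ofHom (algebraMap A A'))) := IsPullback.of_hasPullback _ _
  have hpo := Groth.Agent.Lib.Helper12.isPushout_appTop H
  have hpo' : IsPushout (CommRingCat.ofHom (algebraMap A A'))
      (CommRingCat.ofHom (algebraMap A Γ(X, ⊤)))
      ((Scheme.ΓSpecIso (CommRingCat.of A')).inv ≫
        (pullback.snd f (Spec.map (CommRingCat.ofHom (algebraMap A A')))).appTop)
      (pullback.fst f (Spec.map (CommRingCat.ofHom (algebraMap A A')))).appTop := by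
    refine IsPushout.of_iso hpo.flip (Scheme.ΓSpecIso (CommRingCat.of A))
      (Scheme.ΓSpecIso (CommRingCat.of A')) (Iso.refl _) (Iso.refl _) ?_ ?_ ?_ ?_
    · exact Scheme.ΓSpecIso_naturality (CommRingCat.ofHom (algebraMap A A'))
    · rw [Iso.refl_hom, Category.comp_id]
      change _ = (Scheme.ΓSpecIso (CommRingCat.of A)).hom ≫
        ((Scheme.ΓSpecIso (CommRingCat.of A)).inv ≫ f.appTop)
      rw [Iso.hom_inv_id_assoc]
    · rw [Iso.refl_hom, Category.comp_id, Iso.hom_inv_id_assoc]
    · rw [Iso.refl_hom, Category.comp_id, Iso.refl_hom, Category.id_comp]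
  have HT := CommRingCat.isPushout_tensorProduct A A' Γ(X, ⊤)
  exact ⟨(HT.isoPushout ≪≫ hpo'.isoPushout.symm).symm.commRingCatIsoToRingEquiv⟩


theorem completion_integralClosure_normal (A : Type u) [CommRing A] [IsDomain A] [IsLocalRing A]
    [IsNoetherianRing A]
    (X : Scheme.{u}) (f : X ⟶ Spec (CommRingCat.of A)) (hf : Curv2.IsAlteration f)
    (hreg : ∀ x : X, IsRegularLocalRing (X.presheaf.stalk x)) :
    EGA4.IsNormalRing (AdicCompletion ((IsLocalRing.maximalIdeal A).map
      (algebraMap A (integralClosure A (FractionRing A)))) (integralClosure A (FractionRing A))) := by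
  obtain ⟨hprop, hintX, hintY, hdom, -⟩ := hf
  haveI := hprop
  haveI := hintX
  haveI := hdom
  have hX : Pi1.IsNormalScheme X := isNormalScheme_of_regular X hreg
  letI := algC A f
  haveI : Module.Finite A Γ(X, ⊤) := Groth.Agent.Lib.Helper6.Stein.finite_toGlobal A X f
  haveI : Nonempty (⊤ : X.Opens) := ⟨⟨Classical.arbitrary X, trivial⟩⟩
  haveI : Module.Finite A (integralClosure A (FractionRing A)) := isN1_of_proper_normal A f hX
  obtain ⟨ψ, hψ, hkey⟩ := exists_section_of_isIntegral A f hX
  have hinjC : Function.Injective (algebraMap Γ(X, ⊤) X.functionField) :=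
    X.germToFunctionField_injective ⊤
  -- the ring map B → C
  choose ρf hρf using fun b : integralClosure A (FractionRing A) => hkey b.1 b.2
  let ρ : integralClosure A (FractionRing A) →+* Γ(X, ⊤) :=
    { toFun := ρf
      map_one' := hinjC (by rw [hρf, map_one]; exact (map_one ψ))
      map_mul' := fun a b => hinjC (by rw [hρf, map_mul, hρf, hρf]; exact map_mul ψ _ _)
      map_zero' := hinjC (by rw [hρf, map_zero]; exact (map_zero ψ))
      map_add' := fun a b => hinjC (by rw [hρf, map_add, hρf, hρf]; exact map_add ψ _ _) }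
  letI : Algebra (integralClosure A (FractionRing A)) Γ(X, ⊤) := ρ.toAlgebra
  haveI : IsScalarTower A (integralClosure A (FractionRing A)) Γ(X, ⊤) :=
    .of_algebraMap_eq fun a => hinjC (by
      change _ = algebraMap Γ(X, ⊤) X.functionField
        (ρf (algebraMap A (integralClosure A (FractionRing A)) a))
      rw [hρf, ← hψ]
      rfl)
  have hinj : Function.Injective (algebraMap (integralClosure A (FractionRing A)) Γ(X, ⊤)) := by
    intro a b hab
    have h1 : ψ a.1 = ψ b.1 := by
      rw [← hρf a, ← hρf b]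
      exact congrArg _ hab
    exact Subtype.ext (ψ.injective h1)
  -- B is normal
  haveI : IsIntegrallyClosed (integralClosure A (FractionRing A)) :=
    integralClosure.isIntegrallyClosedOfFiniteExtension (FractionRing A)
  have hB : EGA4.IsNormalRing (integralClosure A (FractionRing A)) :=
    Groth.Agent.Lib.Helper28.OnePlus.isNormalRing_of_isIntegrallyClosed _
  -- Ĉ is normal
  haveI : CompactSpace X := (quasiCompact_iff_compactSpace f).1 inferInstance
  haveI : QuasiSeparatedSpace X := (quasiSeparated_iff_quasiSeparatedSpace f).1 inferInstance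
  haveI : IsLocallyNoetherian (Curv2.bcCpl A f) :=
    LocallyOfFiniteType.isLocallyNoetherian (Curv2.bcCplSnd A f)
  have hYreg := (Groth.Agent.Helper13RegCplProper.regular_iff_proper A X f).mp hreg
  have hY : Pi1.IsNormalScheme (Curv2.bcCpl A f) := isNormalScheme_of_regular _ hYreg
  have hΓ : EGA4.IsNormalRing Γ(Curv2.bcCpl A f, ⊤) := isNormalRing_globalSections _ hY
  obtain ⟨e1⟩ := nonempty_ringEquiv_globalSections_baseChange A (Curv2.cpl A) f
  have hIK : (maximalIdeal A).map (algebraMap A Γ(X, ⊤)) ≤
      (maximalIdeal A).map (algebraMap A Γ(X, ⊤)) := le_rfl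
  have hbij := Groth.Agent.Lib.Helper6.AdicFS.theta_bijective (maximalIdeal A)
    ((maximalIdeal A).map (algebraMap A Γ(X, ⊤))) hIK (m := 1) one_pos (by rw [pow_one])
  let e2 : Γ(X, ⊤) ⊗[A] AdicCompletion (maximalIdeal A) A ≃ₐ[Γ(X, ⊤)]
      AdicCompletion ((maximalIdeal A).map (algebraMap A Γ(X, ⊤))) Γ(X, ⊤) :=
    AlgEquiv.ofBijective _ hbij
  have hC : EGA4.IsNormalRing
      (AdicCompletion ((maximalIdeal A).map (algebraMap A Γ(X, ⊤))) Γ(X, ⊤)) :=
    Groth.Agent.Lib.Helper6.SepNorm.isNormalRing_of_ringEquiv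
      ((e1.trans (Algebra.TensorProduct.comm A (Curv2.cpl A) Γ(X, ⊤)).toRingEquiv).trans
        e2.toRingEquiv) hΓ
  exact Groth.Agent.Helper13SubFin.completion_normal A (integralClosure A (FractionRing A))
    Γ(X, ⊤) hinj hB hC

end Groth.Agent.Helper13AlterCpl
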