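import Mathlib
import Groth.Prelude
import Groth.Agent.Lib.Helper18Cart1
import Groth.Agent.Lib.Helper23InvDual
import Groth.Agent.Lib.Helper23PB
import Groth.Agent.Lib.Helper23AmpleIso
import Groth.Agent.Lib.Helper23AmpleFam2
import Groth.Agent.Lib.Helper23LocGen
import Groth.Agent.Lib.Helper23TensorUnit
import Groth.Agent.Lib.Helper23RestrTensor

/-!
helper18: the normal sheaf of an effective Cartier divisor is `i^* O(D)` (S16088), via uniqueness of
tensor-inverses of `O_X`-modules.
-/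

set_option autoImplicit false
universe u
open CategoryTheory CategoryTheory.Limits AlgebraicGeometry TopologicalSpace

namespace Groth.Agent.Helper18CartDual

open Groth.Agent.Lib.Helper23.AmpleIso Groth.Agent.Lib.Helper23.AmpleFam2
  Groth.Agent.Lib.Helper23.LocGen Groth.Agent.Lib.Helper23.TensorUnit
  Groth.Agent.Lib.Helper23.RestrTensor Groth.Agent.Lib.Helper23.PB
  Groth.Agent.Lib.Helper23.InvDual

/-- uniqueness of tensor-inverses: `M ⊗ A ≅ O ≅ M ⊗ B` implies `A ≅ B`. -/
theorem nonempty_iso_of_tensor_iso {X : Scheme.{u}} (M A B : X.Modules)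
    (α : CohB1.tensorMod M A ≅ Coh.structureModule X)
    (β : CohB1.tensorMod M B ≅ Coh.structureModule X) : Nonempty (A ≅ B) := by
  refine ⟨(tensorUnitIso A).symm ≪≫ tensorModIso (Iso.refl A) β.symm ≪≫
    (tensorAssoc A M B).symm ≪≫ tensorModIso (tensorBraid A M ≪≫ α) (Iso.refl B) ≪≫
    unitTensorIso B⟩

/-- the conormal sheaf of the closed subscheme of an ideal sheaf is the pullback of that ideal. -/
noncomputable def conormalSubschemeIso {S : Scheme.{u}} (𝓓 : S.IdealSheafData) :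
    Omega.conormal 𝓓.subschemeι ≅
      (Scheme.Modules.pullback 𝓓.subschemeι).obj (ClSub.idealMod 𝓓) :=
  eqToIso (by
    unfold Omega.conormal
    rw [Scheme.IdealSheafData.ker_subschemeι 𝓓])

theorem main_S16088 (S : Scheme.{u}) (𝓓 : S.IdealSheafData)
    (hD : BlowUp.IsEffCartierIdeal 𝓓) :
    Nonempty (RefHull.dual (Omega.conormal 𝓓.subschemeι) ≅
      (Scheme.Modules.pullback 𝓓.subschemeι).obj (RefHull.dual (ClSub.idealMod 𝓓))) := by
  have hL : PicF.IsInvertible (ClSub.idealMod 𝓓) :=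
    Groth.Agent.Helper18Cart.isInvertible_of_isEffCartier 𝓓 hD
  have e0 := conormalSubschemeIso 𝓓
  have hM : PicF.IsInvertible (Omega.conormal 𝓓.subschemeι) :=
    isInvertible_of_iso e0.symm (isInvertible_pullback 𝓓.subschemeι _ hL)
  obtain ⟨α⟩ := nonempty_tensorMod_dual_iso (Omega.conormal 𝓓.subschemeι) hM
  obtain ⟨γ⟩ := nonempty_tensorMod_dual_iso (ClSub.idealMod 𝓓) hL
  have β : CohB1.tensorMod (Omega.conormal 𝓓.subschemeι)
      ((Scheme.Modules.pullback 𝓓.subschemeι).obj (RefHull.dual (ClSub.idealMod 𝓓))) ≅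
      Coh.structureModule _ :=
    tensorModIso e0 (Iso.refl _) ≪≫
      (pullbackTensorIso (ClSub.idealMod 𝓓) (RefHull.dual (ClSub.idealMod 𝓓)) 𝓓.subschemeι).symm ≪≫
      (Scheme.Modules.pullback 𝓓.subschemeι).mapIso γ ≪≫ pullbackUnitIso 𝓓.subschemeι
  exact nonempty_iso_of_tensor_iso _ _ _ α β

end Groth.Agent.Helper18CartDual
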