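import Mathlib
import Groth.Prelude.Def_ArSurf
import Groth.Agent.Lib.Helper27ProjSpaceFibres
import Groth.Agent.Lib.Helper12SnapB
import Groth.Agent.Lib.Helper4CurveDegT
import Groth.Agent.Lib.Helper4CartDeg
import Groth.Agent.Lib.Helper18CartDual
import Groth.Agent.Lib.Helper2TensorInv
import Groth.Agent.Lib.Helper23QAffSec

/-!
# Degrees on vertical prime divisors of an arithmetic surface (helper13)

* `isProper_hom`, `isProper_curve`: an arithmetic surface is proper over `Spec R`, a vertical prime divisor is proper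
  over the residue field.
* `curveDeg_eq`: `ArSurf.curveDeg = Curv2.deg · 1` on a vertical prime divisor.
* `pullTensorIso`: `ι^*L ⊗ ι^*M ≅ O_Γ` when `L ⊗ M ≅ O_X`.
* `deg_add_deg_eq_zero`: `deg A + deg B = 0` when `A ⊗ B ≅ O` on a vertical prime divisor.
-/

set_option autoImplicit false
set_option linter.style.haveILetI false
universe u
open CategoryTheory CategoryTheory.Limits AlgebraicGeometry

namespace Groth.Agent.Lib.Helper13.ArSurfDeg

open Groth.Agent.Lib.Helper23.AmpleIso Groth.Agent.Lib.Helper23.AmpleFam2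
  Groth.Agent.Lib.Helper23.LocGen Groth.Agent.Lib.Helper23.TensorUnit
  Groth.Agent.Lib.Helper23.RestrTensor Groth.Agent.Lib.Helper23.PB

variable (R : Type u) [CommRing R] [IsDomain R]

theorem isProper_hom (X : Over (Spec (CommRingCat.of R))) (hX : ArSurf.IsArithSurface R X) :
    IsProper X.hom := by
  obtain ⟨-, -, -, -, n, i, hi, hw⟩ := hX
  haveI := Groth.Agent.Lib.Helper27ProjSpaceFibres.isProper_toBase n (Spec (CommRingCat.of R))
  rw [← hw]
  infer_instance

variable [IsDiscreteValuationRing R]

theorem isProper_curve (X : Over (Spec (CommRingCat.of R))) (hX : ArSurf.IsArithSurface R X)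
    (Γ : ArSurf.VertComp R X) :
    IsProper (Γ.curve.left ↘ Spec (CommRingCat.of (IsLocalRing.ResidueField R))) := by
  change IsProper Γ.curve.hom
  haveI := isProper_hom R X hX
  have h : IsProper (Γ.curve.hom ≫ Spec.map (CommRingCat.ofHom (IsLocalRing.residue R))) := by
    rw [← Γ.w]
    infer_instance
  exact IsProper.of_comp _ (Spec.map (CommRingCat.ofHom (IsLocalRing.residue R)))

theorem curveDeg_eq (X : Over (Spec (CommRingCat.of R))) (hX : ArSurf.IsArithSurface R X)
    (Γ : ArSurf.VertComp R X) (M : Γ.curve.left.Modules) :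
    ArSurf.curveDeg (IsLocalRing.ResidueField R) Γ.curve.left M =
      Curv2.deg (IsLocalRing.ResidueField R) Γ.curve.left M 1 := by
  haveI := isProper_curve R X hX Γ
  unfold ArSurf.curveDeg Curv2.deg
  rw [Groth.Agent.Lib.Helper12.Snap.eulerCharLE_eq_euler _ _ 1 Γ.dim_eq.le,
    Groth.Agent.Lib.Helper12.Snap.eulerCharLE_eq_euler _ _ 1 Γ.dim_eq.le]
  push_cast
  ring

/-- the pullback of a pair of mutually inverse modules is a pair of mutually inverse modules -/
noncomputable def pullTensorIso {X Y : Scheme.{u}} (f : Y ⟶ X) (L M : X.Modules)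
    (e : CohB1.tensorMod L M ≅ Coh.structureModule X) :
    CohB1.tensorMod ((Scheme.Modules.pullback f).obj L) ((Scheme.Modules.pullback f).obj M) ≅
      Coh.structureModule Y :=
  (pullbackTensorIso L M f).symm ≪≫ (Scheme.Modules.pullback f).mapIso e ≪≫ pullbackUnitIso f

/-- on a proper scheme of dimension `≤ 1` over a field, `deg A + deg B = 0` if `A ⊗ B ≅ O` -/
theorem deg_add_deg_eq_zero (k : Type u) [Field k] (Y : Scheme.{u}) [Y.Over (Spec (CommRingCat.of k))]
    [IsProper (Y ↘ (Spec (CommRingCat.of k)))] (hdim : topologicalKrullDim Y ≤ 1) (A B : Y.Modules)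
    (e : CohB1.tensorMod A B ≅ Coh.structureModule Y) :
    Curv2.deg k Y A 1 + Curv2.deg k Y B 1 = 0 := by
  have hA : PicF.IsInvertible A := Groth.Agent.Lib.Helper2.TensorInv.isInvertible_of_tensor_iso A B e
  have hB : PicF.IsInvertible B :=
    Groth.Agent.Lib.Helper2.TensorInv.isInvertible_of_tensor_iso B A (tensorBraid B A ≪≫ e)
  have h := Groth.Agent.Lib.Helper4.CurveDegT.deg_tensor k Y hdim 1 1 A B
    (Groth.Agent.Lib.Helper23.SecTw.isFinLocFreeOfRank_one_of_isInvertible A hA)
    (Groth.Agent.Lib.Helper23.SecTw.isFinLocFreeOfRank_one_of_isInvertible B hB)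
  have h0 : Curv2.deg k Y (CohB1.tensorMod A B) (1 * 1) = 0 := by
    unfold Curv2.deg
    rw [Groth.Agent.Lib.Helper4.CurveChi.euler_congr_iso k e]
    push_cast
    ring
  rw [h0] at h
  push_cast at h
  linarith

end Groth.Agent.Lib.Helper13.ArSurfDeg
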