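import Mathlib
import Groth.Agent.Lib.Helper23InvDual
import Groth.Agent.Lib.Helper4DevA

/-!
# Sections of the dual of an invertible module defined by morphisms `M ⟶ O_X` (helper4)

* `dsec u : O_X ⟶ M^∨` for `u : M ⟶ O_X`
* `genLocus_dsec_inf` : on a frame `(W, a)` of `M`, the generating locus of `dsec u` is `D(u(a))`
* `mem_genLocus_dsec` : `z` lies in the generating locus of `dsec u` as soon as `u` is surjective on stalks at `z`
-/

set_option autoImplicit false
set_option linter.style.haveILetI false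
universe u
open CategoryTheory CategoryTheory.Limits AlgebraicGeometry TopologicalSpace Opposite

namespace Groth.Agent.Lib.Helper4.DualSec
open Groth.Agent.Lib.Helper23.SecTw Groth.Agent.Lib.Helper6 Groth.Agent.Lib.Helper23.GenLocus
open Groth.Agent.Lib.Helper23.Extend Groth.Agent.Lib.Helper23.InvDual Groth.Agent.Lib.Helper4.Dev

variable {X : Scheme.{u}} {M : X.Modules}

/-- the global section of the dual defined by a morphism `u : M ⟶ O_X` -/
noncomputable def dsec (u : M ⟶ Coh.structureModule X) : Coh.structureModule X ⟶ RefHull.dual M :=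
  secHom (RefHull.dual M) (RefHull.ofHom u ⊤)

theorem sv_dsec (u : M ⟶ Coh.structureModule X) (W : X.Opens) : sv (dsec u) W = RefHull.ofHom u W := by
  rw [dsec, sv_secHom]
  rfl

theorem ofHom_eq_smul {W : X.Opens} {a : Γ(M, W)} (ha : IsGen M W a) (u : M ⟶ Coh.structureModule X) :
    RefHull.ofHom u W = ofS W (u.app W a) • dualFrame ha := by
  apply Subtype.ext
  funext x
  rw [smul_dual_apply, dualFrame_apply, RefHull.ofHom_apply]
  apply stalkHom_ext ha x.1 x.2
  rw [RefHull.stalkMapₗ_germ, LinearMap.smul_apply, phi_gen]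
  have := germ_toS x.1 x.2 (ofS W (u.app W a))
  rw [toS_ofS] at this
  exact this

theorem genLocus_dsec_inf {W : X.Opens} {a : Γ(M, W)} (ha : IsGen M W a) (u : M ⟶ Coh.structureModule X) :
    CohB1.genLocus (RefHull.dual M) (dsec u) ⊓ W = X.basicOpen (ofS W (u.app W a)) :=
  genLocus_inf_eq_of_isGen _ (dsec u) W (dualFrame ha) _ (isGen_dualFrame ha)
    (by rw [sv_dsec, ofHom_eq_smul ha])

theorem mem_genLocus_dsec (hM : PicF.IsInvertible M) (u : M ⟶ Coh.structureModule X) (z : X)
    (h : Function.Surjective (stalkL u z)) : z ∈ CohB1.genLocus (RefHull.dual M) (dsec u) := by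
  obtain ⟨W, a, hzW, ha⟩ := exists_gen M hM z
  suffices hz : z ∈ X.basicOpen (ofS W (u.app W a)) from ((genLocus_dsec_inf ha u).ge hz).1
  rw [Scheme.mem_basicOpen X _ z hzW]
  obtain ⟨m, hm⟩ := h (oneAt z)
  obtain ⟨t, rfl⟩ := (mulGerm_bijective ha z hzW).2 m
  rw [mulGerm_apply, map_smul, stalkL_germ] at hm
  have h1 := germ_toS z hzW (ofS W (u.app W a))
  rw [toS_ofS] at h1
  rw [h1, smul_smul] at hm
  have hztop : z ∈ (⊤ : X.Opens) := trivial
  have hinj := (mulGerm_bijective (isGen_one (⊤ : X.Opens)) z hztop).1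
  have h2 : t * X.presheaf.germ W z hzW (ofS W (u.app W a)) = 1 := by
    apply hinj
    change (t * X.presheaf.germ W z hzW (ofS W (u.app W a))) • oneAt z = (1 : X.presheaf.stalk z) • oneAt z
    rw [one_smul]
    exact hm
  exact IsUnit.of_mul_eq_one _ (by rw [mul_comm]; exact h2)

end Groth.Agent.Lib.Helper4.DualSec
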