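import Mathlib
import Groth.Prelude.Def_ArSurf
import Groth.Agent.Lib.Helper13ArSurfDeg
import Groth.Agent.Lib.Helper4DualSec
import Groth.Agent.Lib.Helper6CurveDeg
import Groth.Agent.Lib.Helper6DegZero
import Groth.Agent.Lib.Helper21ExtCartier2
import Groth.Agent.Lib.Helper18Cart1
import Groth.Agent.Lib.Helper23PB

/-!
# The canonical section of `O(E)` restricted to a curve (helper13)

* `stalkL_idealModι_surjective_iff`: `I_x ⟶ O_x` is surjective iff `x ∉ Supp I`.
* `mem_genLocus_dsec_iff`: the canonical section of `I^∨` generates at `x` iff `x ∉ Supp I`.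
* `deg_pullback_inverse`: for `ι : Y ⟶ X` from an integral proper curve over a field, `I` an effective Cartier divisor on `X`
  not containing the generic point of `Y`, and `L ⊗ I ≅ O_X`: `0 ≤ deg ι^*L`, with equality iff `ι(Y)` is disjoint from
  `Supp I`.
-/

set_option autoImplicit false
set_option linter.style.haveILetI false
universe u
open CategoryTheory CategoryTheory.Limits AlgebraicGeometry TopologicalSpace Opposite

namespace Groth.Agent.Lib.Helper13.ArSurfSec

open Groth.Agent.Lib.Helper23.SecTw Groth.Agent.Lib.Helper6 Groth.Agent.Lib.Helper23.GenLocus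
open Groth.Agent.Lib.Helper23.Extend Groth.Agent.Lib.Helper23.InvDual Groth.Agent.Lib.Helper4.Dev
open Groth.Agent.Lib.Helper4.DualSec Groth.Agent.Lib.Helper21.ExtCartier

section General

variable {X : Scheme.{u}}

theorem not_subsingleton_stalk_structureModule (x : X) :
    ¬ Subsingleton ((Coh.structureModule X).presheaf.stalk x) := by
  intro h
  have hbij := mulGerm_bijective (isGen_one (⊤ : X.Opens)) x trivial
  have : (1 : X.presheaf.stalk x) = 0 := hbij.1 (Subsingleton.elim _ _)
  exact one_ne_zero this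

variable (I : X.IdealSheafData)

theorem stalkL_surjective_of_not_mem_support (x : X) (hx : x ∉ I.support) :
    Function.Surjective (stalkL (ClSub.idealModι I) x) := by
  have hS := idealSES_shortExact I
  have hsub : Subsingleton ((ClSub.quotMod I).presheaf.stalk x) := by
    by_contra hns
    have hmem : x ∈ CohB1.support (ClSub.quotMod I) := hns
    have := support_push_subset I.subschemeι (Coh.structureModule I.subscheme) hmem
    rw [Scheme.IdealSheafData.range_subschemeι] at this
    exact hx this
  intro w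
  haveI : Subsingleton ((idealSES I).X₃.presheaf.stalk x) := hsub
  exact (stalkL_exact _ hS x w).1 (Subsingleton.elim _ _)

theorem not_mem_support_of_stalkL_surjective (x : X)
    (h : Function.Surjective (stalkL (ClSub.idealModι I) x)) : x ∉ I.support := by
  intro hx
  have hx' : x ∈ Set.range ⇑I.subschemeι := by
    rw [Scheme.IdealSheafData.range_subschemeι]
    exact hx
  obtain ⟨z, rfl⟩ := hx'
  have hS := idealSES_shortExact I
  haveI : Epi (idealSES I).g := hS.epi_g
  have hsurj : Function.Surjective (stalkL (idealSES I).g (I.subschemeι z)) :=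
    stalkL_surjective_of_epi _ _
  have hsub : Subsingleton ((ClSub.quotMod I).presheaf.stalk (I.subschemeι z)) := by
    refine ⟨fun a b => ?_⟩
    have key : ∀ c : (ClSub.quotMod I).presheaf.stalk (I.subschemeι z), c = 0 := by
      intro c
      obtain ⟨b, rfl⟩ := hsurj c
      obtain ⟨a, rfl⟩ := h b
      exact (stalkL_exact _ hS (I.subschemeι z) _).2 ⟨a, rfl⟩
    rw [key a, key b]
  have hmem : I.subschemeι z ∈ CohB1.support (ClSub.quotMod I) := by
    have hz : z ∈ CohB1.support (Coh.structureModule I.subscheme) :=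
      not_subsingleton_stalk_structureModule z
    have hsub' : ⇑I.subschemeι '' CohB1.support (Coh.structureModule I.subscheme) ⊆
        CohB1.support (ClSub.quotMod I) := by
      rintro _ ⟨z', hz', rfl⟩
      have hnt : Nontrivial ((Coh.structureModule I.subscheme).presheaf.stalk z') :=
        not_subsingleton_iff_nontrivial.1 hz'
      have := nontrivial_stalk_push I.subschemeι (Coh.structureModule I.subscheme) z' hnt
      exact not_subsingleton_iff_nontrivial.2 this
    exact hsub' ⟨z, hz, rfl⟩
  exact hmem hsub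

theorem stalkL_surjective_of_mem_genLocus_dsec {M : X.Modules} (hM : PicF.IsInvertible M)
    (u : M ⟶ Coh.structureModule X) (x : X) (hx : x ∈ CohB1.genLocus (RefHull.dual M) (dsec u)) :
    Function.Surjective (stalkL u x) := by
  obtain ⟨W, a, hxW, ha⟩ := exists_gen M hM x
  have h1 := genLocus_dsec_inf ha u
  have hx' : x ∈ X.basicOpen (ofS W (u.app W a)) := by
    rw [← h1]
    exact ⟨hx, hxW⟩
  rw [Scheme.mem_basicOpen X _ x hxW] at hx'
  obtain ⟨g', hg'⟩ := hx'.exists_right_inv
  intro c
  obtain ⟨t, rfl⟩ := (mulGerm_bijective (isGen_one (⊤ : X.Opens)) x trivial).2 c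
  refine ⟨(t * g') • M.presheaf.germ W x hxW a, ?_⟩
  rw [map_smul, stalkL_germ]
  have h2 := germ_toS x hxW (ofS W (u.app W a))
  rw [toS_ofS] at h2
  rw [h2, smul_smul, mul_assoc, mul_comm g', hg', mul_one, mulGerm_apply]
  rfl

theorem mem_genLocus_dsec_iff (hM : PicF.IsInvertible (ClSub.idealMod I)) (x : X) :
    x ∈ CohB1.genLocus (RefHull.dual (ClSub.idealMod I)) (dsec (ClSub.idealModι I)) ↔
      x ∉ I.support :=
  ⟨fun hx => not_mem_support_of_stalkL_surjective I x
      (stalkL_surjective_of_mem_genLocus_dsec hM _ x hx),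
    fun hx => mem_genLocus_dsec hM _ x (stalkL_surjective_of_not_mem_support I x hx)⟩

end General

section Curve

open Groth.Agent.Lib.Helper23.PB Groth.Agent.Lib.Helper23.AmpleFam2 Groth.Agent.Lib.Helper6.CurveDeg
  Groth.Agent.Lib.Helper6.DegZero

variable (k : Type u) [Field k] (Y : Scheme.{u}) [Y.Over (Spec (CommRingCat.of k))]
  [IsIntegral Y] [IsProper (Y ↘ (Spec (CommRingCat.of k)))]

/-- the degree of the restriction of `O(E)` to an integral proper curve not contained in `E` is nonnegative, and vanishes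
iff the curve is disjoint from `E`. -/
theorem deg_pullback_inverse (hdim : topologicalKrullDim Y = 1) {X : Scheme.{u}} (ι : Y ⟶ X)
    (I : X.IdealSheafData) (hI : BlowUp.IsEffCartierIdeal I)
    (hη : ι (genericPoint Y) ∉ I.support) (L : X.Modules)
    (hL : ClSub.IsInverseOf L (ClSub.idealMod I)) :
    0 ≤ Curv2.deg k Y ((Scheme.Modules.pullback ι).obj L) 1 ∧
      (Curv2.deg k Y ((Scheme.Modules.pullback ι).obj L) 1 = 0 ↔
        Disjoint (Set.range ι) (I.support : Set X)) := by
  have hM := Groth.Agent.Helper18Cart.isInvertible_of_isEffCartier I hI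
  obtain ⟨e⟩ := hL
  obtain ⟨β⟩ := nonempty_tensorMod_dual_iso (ClSub.idealMod I) hM
  obtain ⟨φ⟩ := Groth.Agent.Helper18CartDual.nonempty_iso_of_tensor_iso (ClSub.idealMod I) L
    (RefHull.dual (ClSub.idealMod I)) (tensorBraid _ _ ≪≫ e) β
  have hL' : PicF.IsInvertible (RefHull.dual (ClSub.idealMod I)) := isInvertible_dual _ hM
  have hdeg : Curv2.deg k Y ((Scheme.Modules.pullback ι).obj L) 1 =
      Curv2.deg k Y ((Scheme.Modules.pullback ι).obj (RefHull.dual (ClSub.idealMod I))) 1 := by
    unfold Curv2.deg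
    rw [Groth.Agent.Lib.Helper4.CurveChi.euler_congr_iso k ((Scheme.Modules.pullback ι).mapIso φ)]
  rw [hdeg]
  have hN : PicF.IsInvertible ((Scheme.Modules.pullback ι).obj (RefHull.dual (ClSub.idealMod I))) :=
    isInvertible_pullback ι _ hL'
  obtain ⟨s, hsdef⟩ : ∃ s : Coh.structureModule Y ⟶
      (Scheme.Modules.pullback ι).obj (RefHull.dual (ClSub.idealMod I)),
      s = (pullbackUnitIso ι).symm.hom ≫ (Scheme.Modules.pullback ι).map (dsec (ClSub.idealModι I)) :=
    ⟨_, rfl⟩
  have hgen : CohB1.genLocus _ s = ι ⁻¹ᵁ CohB1.genLocus _ (dsec (ClSub.idealModι I)) := by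
    rw [hsdef]
    exact genLocus_pullback ι _ hL' (dsec (ClSub.idealModι I)) (pullbackUnitIso ι).symm
  have hmem : ∀ y : Y, y ∈ CohB1.genLocus _ s ↔ ι y ∉ I.support := by
    intro y
    rw [hgen]
    exact mem_genLocus_dsec_iff I hM (ι y)
  have hs : s ≠ 0 := by
    intro h0
    have := (hmem (genericPoint Y)).2 hη
    rw [h0, Groth.Agent.Lib.Helper6.DegZero.genLocus_zero] at this
    exact this
  refine ⟨deg_nonneg k Y hdim _ hN s hs, ?_, ?_⟩
  · intro h0
    haveI := iso_of_deg_le_zero k Y hdim _ hN s hs h0.le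
    have htop := genLocus_eq_top_of_isIso _ s
    rw [Set.disjoint_left]
    rintro _ ⟨y, rfl⟩ hy
    exact (hmem y).1 (htop ▸ trivial) hy
  · intro hdis
    have htop : CohB1.genLocus _ s = ⊤ := by
      rw [eq_top_iff]
      intro y _
      exact (hmem y).2 (fun hy => Set.disjoint_left.1 hdis ⟨y, rfl⟩ hy)
    haveI := isIso_of_genLocus_eq_top _ s htop
    unfold Curv2.deg
    rw [← Groth.Agent.Lib.Helper4.CurveChi.euler_congr_iso k (asIso s)]
    push_cast
    ring

end Curve

end Groth.Agent.Lib.Helper13.ArSurfSec
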