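import Groth.Agent.Lib.Helper17FBC3
import Groth.Agent.Lib.Helper23QCohLocal

/-!
# The cohomology of a quasi-coherent module along an affine morphism, linearly (helper6)

`Coh.HH Y M n ≃ₗ[A] Coh.HH X (f_* M) n` for an affine morphism `f : Y ⟶ X` of schemes over
`Spec A`, `X` quasi-compact and quasi-separated, `M` quasi-coherent.
-/

set_option autoImplicit false
universe u
open CategoryTheory Limits AlgebraicGeometry TopologicalSpace Opposite Abelian

namespace Groth.Agent.Lib.Helper6.AffPushLin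

open Groth.Agent.Lib.Helper17.ExtAct Groth.Agent.Lib.Helper21.PushAcyc
  Groth.Agent.Lib.Helper17.LerayTop Groth.Agent.Lib.Helper17.FBC
  Groth.Agent.Lib.Helper23.AffVanish Groth.Agent.Lib.Helper17.FBC3

section Cmp

variable {A : Type u} [CommRing A] {X Y : Scheme.{u}}
  (fX : X ⟶ Spec (CommRingCat.of A)) (fY : Y ⟶ Spec (CommRingCat.of A)) (f : Y ⟶ X)
  (M : Y.Modules)

/-- the counit `f⁻¹ f_* M ⟶ M` on underlying abelian sheaves -/
noncomputable def kap : (pullF f).obj (Coh.toAb ((Scheme.Modules.pushforward f).obj M)) ⟶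
    Coh.toAb M :=
  ((adjP (Opens.grothendieckTopology Y) (Opens.grothendieckTopology X)
    (Opens.map f.base)).homEquiv _ _).symm
      (𝟙 ((CohSite.push (Opens.grothendieckTopology Y) (Opens.grothendieckTopology X)
        (Opens.map f.base)).obj (Coh.toAb M)))

include fX fY in
theorem push_smul (hw : f ≫ fX = fY ≫ Spec.map (CommRingCat.ofHom (algebraMap A A))) (a : A) :
    Coh.smulAb ((Scheme.Modules.pushforward f).obj M) (Coh.toGlobal fX a) =
      (CohSite.push (Opens.grothendieckTopology Y) (Opens.grothendieckTopology X)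
        (Opens.map f.base)).map (Coh.smulAb M (Coh.toGlobal fY a)) := by
  ext U m
  change (Coh.smulAb ((Scheme.Modules.pushforward f).obj M) (Coh.toGlobal fX a)).hom.app U m =
    (Coh.smulAb M (Coh.toGlobal fY (algebraMap A A a))).hom.app ((Opens.map f.base).op.obj U) m
  rw [Coh.smulAb_app, Coh.smulAb_app, ← ringMap_toGlobal fX fY f hw a, ← ringMap_resTop]
  rfl

/-- the comparison data for the direct image along `f` -/
noncomputable def cmpPush
    (hw : f ≫ fX = fY ≫ Spec.map (CommRingCat.ofHom (algebraMap A A))) :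
    Cmp (pullF f) A A (Coh.toAb ((Scheme.Modules.pushforward f).obj M)) (Coh.toAb M) where
  α := actOf fX ((Scheme.Modules.pushforward f).obj M)
  α' := actOf fY M
  κ := kap f M
  compat a := by
    apply ((adjP (Opens.grothendieckTopology Y) (Opens.grothendieckTopology X)
      (Opens.map f.base)).homEquiv _ _).injective
    rw [Adjunction.homEquiv_naturality_left, Adjunction.homEquiv_naturality_right]
    unfold kap
    rw [Equiv.apply_symm_apply]
    refine (Category.comp_id _).trans (Eq.trans ?_ (Category.id_comp _).symm)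
    exact push_smul fX fY f M hw a

end Cmp

section Zero

variable {A : Type u} [CommRing A] {X Y : Scheme.{u}}
  (fX : X ⟶ Spec (CommRingCat.of A)) (fY : Y ⟶ Spec (CommRingCat.of A)) (f : Y ⟶ X)
  (hw : f ≫ fX = fY ≫ Spec.map (CommRingCat.ofHom (algebraMap A A)))
  (M : Y.Modules) (U : X.Opens)

theorem t0_phi_push (x : EE (actOf fX ((Scheme.Modules.pushforward f).obj M)) (ZU U) 0) :
    t0 f M U (phi (cmpPush fX fY f M hw) (ZU U) 0 x) =
      (h0 fX ((Scheme.Modules.pushforward f).obj M) U x : Γ(M, f ⁻¹ᵁ U)) := by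
  obtain ⟨ψ, rfl⟩ := (Ext.mk₀_bijective _ _).2
    (show Ext (ZU U) (Coh.toAb ((Scheme.Modules.pushforward f).obj M)) 0 from x)
  change t0 f M U (((Ext.mk₀ ψ).mapExactFunctor (pullF f)).comp (Ext.mk₀ (kap f M)) (add_zero 0)) =
      h0Equiv (ab' ((Scheme.Modules.pushforward f).obj M)) U (Ext.mk₀ ψ)
  rw [Ext.mapExactFunctor_mk₀, Ext.mk₀_comp_mk₀, t0_mk₀, h0Equiv_mk₀,
    Adjunction.homEquiv_naturality_left]
  unfold kap
  rw [Equiv.apply_symm_apply]
  exact congrArg (CohFree.evalGen (Opens.grothendieckTopology X) U _) (Category.comp_id ψ)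

theorem phi_zero_bijective :
    Function.Bijective (phi (cmpPush fX fY f M hw) (ZU U) 0) := by
  have h1 : (t0 f M U) ∘ (phi (cmpPush fX fY f M hw) (ZU U) 0) =
      (h0 fX ((Scheme.Modules.pushforward f).obj M) U) := by
    funext x
    exact t0_phi_push fX fY f hw M U x
  have h2 : Function.Bijective ((t0 f M U) ∘ (phi (cmpPush fX fY f M hw) (ZU U) 0)) := by
    rw [h1]
    exact (h0 fX ((Scheme.Modules.pushforward f).obj M) U).bijective
  exact (Function.Bijective.of_comp_iff' (t0 f M U).bijective _).1 h2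

end Zero

section Gen

open TensorProduct

variable {𝒜 : Type*} [Category 𝒜] [Abelian 𝒜] [HasExt.{u} 𝒜]
  {𝒜' : Type*} [Category 𝒜'] [Abelian 𝒜'] [HasExt.{u} 𝒜']
  {Φ : 𝒜 ⥤ 𝒜'} [Φ.Additive] [PreservesFiniteLimits Φ] [PreservesFiniteColimits Φ]
  {A : Type*} {B : Type*} [CommRing A] [CommRing B] [Algebra A B]
  {F : 𝒜} {G : 𝒜'} (c : Cmp Φ A B F G)

theorem beta_bijective_of_phi (hAB : Function.Surjective (algebraMap A B)) (P : 𝒜) (n : ℕ)
    (h : Function.Bijective (phi c P n)) : Function.Bijective (beta c P n) := by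
  have hone : ∀ z : B ⊗[A] EE c.α P n, ∃ x : EE c.α P n, z = (1 : B) ⊗ₜ[A] x := by
    intro z
    induction z using TensorProduct.induction_on with
    | zero => exact ⟨0, (tmul_zero _ _).symm⟩
    | tmul b x =>
      obtain ⟨a, rfl⟩ := hAB b
      refine ⟨a • x, ?_⟩
      rw [← smul_tmul, Algebra.smul_def, mul_one]
    | add z z' hz hz' =>
      obtain ⟨x, rfl⟩ := hz
      obtain ⟨x', rfl⟩ := hz'
      exact ⟨x + x', (tmul_add _ _ _).symm⟩
  have hb : ∀ x : EE c.α P n, beta c P n ((1 : B) ⊗ₜ[A] x) = phi c P n x := by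
    intro x
    rw [beta_tmul, one_smul]
  constructor
  · intro z z' hzz
    obtain ⟨x, rfl⟩ := hone z
    obtain ⟨x', rfl⟩ := hone z'
    rw [hb, hb] at hzz
    rw [h.1 hzz]
  · intro y
    obtain ⟨x, rfl⟩ := h.2 y
    exact ⟨(1 : B) ⊗ₜ[A] x, hb x⟩

end Gen

section Higher

open TensorProduct

variable {A : Type u} [CommRing A] {X Y : Scheme.{u}}
  (fX : X ⟶ Spec (CommRingCat.of A)) (fY : Y ⟶ Spec (CommRingCat.of A)) (f : Y ⟶ X)
  [IsAffineHom f]
  (hw : f ≫ fX = fY ≫ Spec.map (CommRingCat.ofHom (algebraMap A A)))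
  (M : Y.Modules) [M.IsQuasicoherent] {U : X.Opens} (hU : IsAffineOpen U)

include hU in
/-- the affine case -/
theorem good_ZU_push : Good (cmpPush fX fY f M hw) (ZU U) := by
  intro n
  cases n with
  | zero =>
    exact beta_bijective_of_phi _ (fun a => ⟨a, rfl⟩) _ _ (phi_zero_bijective fX fY f hw M U)
  | succ n =>
    have hU' : IsAffineOpen (f ⁻¹ᵁ U) := hU.preimage f
    haveI : ((Scheme.Modules.pushforward f).obj M).IsQuasicoherent :=
      Groth.Agent.Lib.Helper23.QCohLocal.isQuasicoherent_pushforward f M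
    have h1 : ∀ x : EE (cmpPush fX fY f M hw).α (ZU U) (n + 1), x = 0 := by
      intro x
      haveI := subsingleton_HE_of_isAffineOpen hU ((Scheme.Modules.pushforward f).obj M) n
      exact Subsingleton.elim
        (α := HE (ab' ((Scheme.Modules.pushforward f).obj M)) (n + 1) U) x 0
    have h2 : ∀ z : A ⊗[A] EE (cmpPush fX fY f M hw).α (ZU U) (n + 1), z = 0 := by
      intro z
      induction z using TensorProduct.induction_on with
      | zero => rfl
      | tmul b x => rw [h1 x, tmul_zero]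
      | add x y hx hy => rw [hx, hy, add_zero]
    have h3 : ∀ y : EB (cmpPush fX fY f M hw) ((pullF f).obj (ZU U)) (n + 1), y = 0 := by
      intro y
      refine Groth.Agent.Lib.Helper21.AcyclicAdj.ext_eq_zero_of_iso
        (pullFreeSheafIso (Opens.grothendieckTopology Y) (Opens.grothendieckTopology X)
          (Opens.map f.base) U) (n + 1) ?_ y
      intro y'
      haveI := subsingleton_HE_of_isAffineOpen hU' M n
      exact Subsingleton.elim (α := HE (ab' M) (n + 1) (f ⁻¹ᵁ U)) y' 0
    refine ⟨fun a b _ => (h2 a).trans (h2 b).symm, fun y => ⟨0, ?_⟩⟩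
    rw [h3 y, map_zero]

end Higher

section Final

open TensorProduct

variable {A : Type u} [CommRing A] {X Y : Scheme.{u}} [X.Over (Spec (CommRingCat.of A))]
  [Y.Over (Spec (CommRingCat.of A))] (f : Y ⟶ X) [IsAffineHom f]
  (hf : f ≫ (X ↘ Spec (CommRingCat.of A)) = Y ↘ Spec (CommRingCat.of A))
  (M : Y.Modules) [M.IsQuasicoherent]

include hf in
/-- **cohomology along an affine morphism, linearly** -/
theorem nonempty_linearEquiv [CompactSpace X] [QuasiSeparatedSpace X] (n : ℕ) :
    Nonempty (Coh.HH X ((Scheme.Modules.pushforward f).obj M) n ≃ₗ[A] Coh.HH Y M n) := by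
  have hw : f ≫ (X ↘ Spec (CommRingCat.of A)) =
      (Y ↘ Spec (CommRingCat.of A)) ≫ Spec.map (CommRingCat.ofHom (algebraMap A A)) := by
    rw [hf]
    have : CommRingCat.ofHom (algebraMap A A) = 𝟙 (CommRingCat.of A) := rfl
    rw [this, Spec.map_id, Category.comp_id]
  set c := cmpPush (X ↘ Spec (CommRingCat.of A)) (Y ↘ Spec (CommRingCat.of A)) f M hw with hc
  have hgood := good_Zc f c (fun U hU => good_ZU_push _ _ f hw M hU) n
  let e₀ := (TensorProduct.lid A (Coh.HH X ((Scheme.Modules.pushforward f).obj M) n)).symm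
  let e₁ := TensorProduct.AlgebraTensorModule.congr (LinearEquiv.refl A A)
    (eeEquivHH A X ((Scheme.Modules.pushforward f).obj M) n).symm
  let e₂ := LinearEquiv.ofBijective (beta c (Zc (TopCat.of X)) n) hgood
  let e₃ := preEquiv c.α' (pullZcIso f.base).symm n
  let e₄ := eeEquivHH A Y M n
  exact ⟨e₀.trans (e₁.trans (e₂.trans (e₃.trans e₄)))⟩

end Final

end Groth.Agent.Lib.Helper6.AffPushLin
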