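import Mathlib
import Groth.Agent.Lib.Helper6AffPushLin
import Groth.Agent.Lib.Helper27PnCohVanish
import Groth.Agent.Lib.Helper27AmpleSerre
import Groth.Agent.Lib.Helper27ProjSpaceFibres
import Groth.Agent.Lib.Helper4CurveChi
import Groth.Agent.Lib.Helper4DevI

/-!
# Cohomology of the structure sheaf is invariant under isomorphisms of schemes; `H¹(P¹, O) = 0` (helper4)

* `isIso_unitToPush` : for an isomorphism `f : X ⟶ Y` the comparison `O_Y ⟶ f_* O_X` is an isomorphism
* `nonempty_linearEquiv_of_isIso` : `H^n(X, O_X) ≃ H^n(Y, O_Y)` for an isomorphism `Y ⟶ X` over a field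
* `subsingleton_HH_projSpace` : `H^q(P^n_R, O) = 0` for `q > 0`
* `subsingleton_h1_of_iso_P1` : `H¹(X, O_X) = 0` if `X ≅ P^1_k` over `k`
-/

set_option autoImplicit false
set_option linter.style.haveILetI false
universe u
open CategoryTheory CategoryTheory.Limits AlgebraicGeometry TopologicalSpace Opposite

namespace Groth.Agent.Lib.Helper4.IsoCoh

/-- for an isomorphism `f`, the comparison `O_Y ⟶ f_* O_X` is an isomorphism -/
theorem isIso_unitToPush {X Y : Scheme.{u}} (f : X ⟶ Y) [IsIso f] : IsIso (ClSub.unitToPush f) := by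
  rw [Scheme.Modules.Hom.isIso_iff_isIso_app]
  intro U
  have hb : Function.Bijective (f.app U).hom := ConcreteCategory.bijective_of_isIso (f.app U)
  exact (ConcreteCategory.isIso_iff_bijective _).2 hb

/-- cohomology of the structure sheaf is invariant under isomorphisms over the base field -/
theorem nonempty_linearEquiv_of_isIso {k : Type u} [Field k] {X Y : Scheme.{u}}
    [X.Over (Spec (CommRingCat.of k))] [Y.Over (Spec (CommRingCat.of k))] (f : Y ⟶ X) [IsIso f]
    (hf : f ≫ (X ↘ Spec (CommRingCat.of k)) = Y ↘ Spec (CommRingCat.of k))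
    [CompactSpace X] [QuasiSeparatedSpace X] (n : ℕ) :
    Nonempty (Coh.HH X (Coh.structureModule X) n ≃ₗ[k] Coh.HH Y (Coh.structureModule Y) n) := by
  haveI : (Coh.structureModule Y).IsQuasicoherent :=
    Groth.Agent.Lib.Helper4.Dev.isQuasicoherent_structureModule Y
  obtain ⟨e₂⟩ := Groth.Agent.Lib.Helper6.AffPushLin.nonempty_linearEquiv f hf (Coh.structureModule Y) n
  haveI := isIso_unitToPush f
  exact ⟨(Groth.Agent.Lib.Helper4.CurveChi.HHequiv k (asIso (ClSub.unitToPush f)) n).trans e₂⟩

/-- the structure sheaf of projective space has no higher cohomology -/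
theorem subsingleton_HH_projSpace (n : ℕ) (R : Type u) [CommRing R] (q : ℕ) (hq : 0 < q) :
    Subsingleton (Coh.HH (CohB1.ProjSpace n R) (Coh.structureModule (CohB1.ProjSpace n R)) q) := by
  obtain ⟨e⟩ := Groth.Agent.Lib.Helper27AmpleSerre.nonempty_twist_zero_iso n R
  refine Groth.Agent.Lib.Helper27PnCohVanish.subsingleton_HH_of_iso e q ?_
  refine Groth.Agent.Lib.Helper27PnCohVanish.subsingleton_HH n R 0 q ?_ ?_
  · rintro ⟨rfl, -⟩
    exact lt_irrefl _ hq
  · rintro ⟨-, h⟩
    have : (0 : ℤ) ≤ n := Int.natCast_nonneg n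
    omega

end Groth.Agent.Lib.Helper4.IsoCoh
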