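import Mathlib
import Groth.Agent.Lib.Helper13ArSurfSec
import Groth.Agent.Lib.Helper13AffBC
import Groth.Agent.Lib.Helper6AffPushLin
import Groth.Agent.Lib.Helper20PullbackAff
import Groth.Agent.Lib.Helper4DevI
import Groth.Agent.Lib.Helper4IsoCoh

/-!
# Degree of `O(D)` on a curve as the length of the scheme-theoretic intersection (helper13)

* `deg_eq_finrank_push`: for `ι : Y ⟶ X` from an integral proper curve over `k`, `D` an effective Cartier divisor on `X` not
  containing the generic point of `Y`, `L ⊗ I_D ≅ O_X`: `deg ι^*L = dim_k H⁰(Y, p_* O_P)`, `P = Y ×_X D`, `p : P ⟶ Y`.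
* `deg_eq_finrank_pullback`: the same with `dim_k H⁰(P, O_P)`.
-/

set_option autoImplicit false
set_option linter.style.haveILetI false
universe u
open CategoryTheory CategoryTheory.Limits AlgebraicGeometry TopologicalSpace Opposite

namespace Groth.Agent.Lib.Helper13.ArSurfLen

open Groth.Agent.Lib.Helper4.Dev Groth.Agent.Lib.Helper21.ExtCartier Groth.Agent.Lib.Helper23.PB
  Groth.Agent.Lib.Helper23.AmpleIso Groth.Agent.Lib.Helper23.TensorUnit

section General

variable {X : Scheme.{u}}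

theorem subsingleton_stalk_of_iso {M M' : X.Modules} (e : M ≅ M') (x : X)
    (h : Subsingleton (M.presheaf.stalk x)) : Subsingleton (M'.presheaf.stalk x) := by
  refine ⟨fun a b => ?_⟩
  have key : ∀ c : M'.presheaf.stalk x, c = stalkL e.hom x (stalkL e.inv x c) := by
    intro c
    rw [← stalkL_comp_apply, e.inv_hom_id, stalkL_id]
    rfl
  rw [key a, key b, Subsingleton.elim (stalkL e.inv x a) (stalkL e.inv x b)]

theorem nonempty_cokernel_iso_of_eq_zero {C : Type*} [Category C] [HasZeroMorphisms C] {A B : C}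
    (φ : A ⟶ B) [HasCokernel φ] (h : φ = 0) : Nonempty (cokernel φ ≅ B) := by
  subst h
  exact ⟨cokernelZeroIsoTarget⟩

end General

section Curve

variable (k : Type u) [Field k] (Y : Scheme.{u}) [Y.Over (Spec (CommRingCat.of k))]
  [IsIntegral Y] [IsProper (Y ↘ (Spec (CommRingCat.of k)))]

theorem deg_eq_finrank_push (hdim : topologicalKrullDim Y = 1) {X : Scheme.{u}}
    [IsLocallyNoetherian X] (ι : Y ⟶ X)
    (D : X.IdealSheafData) (hD : BlowUp.IsEffCartierIdeal D)
    (hη : ι (genericPoint Y) ∉ D.support) (L : X.Modules)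
    (hL : ClSub.IsInverseOf L (ClSub.idealMod D)) :
    Curv2.deg k Y ((Scheme.Modules.pullback ι).obj L) 1 =
      (Module.finrank k (Coh.HH Y ((Scheme.Modules.pushforward (pullback.fst ι D.subschemeι)).obj
        (Coh.structureModule (pullback ι D.subschemeι))) 0) : ℤ) := by
  have hM := Groth.Agent.Helper18Cart.isInvertible_of_isEffCartier D hD
  obtain ⟨e⟩ := hL
  have hN : PicF.IsInvertible ((Scheme.Modules.pullback ι).obj (ClSub.idealMod D)) :=
    isInvertible_pullback ι _ hM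
  have eA : (Scheme.Modules.pullback ι).obj (Coh.structureModule X) ≅ Coh.structureModule Y :=
    pullbackUnitIso ι
  have hA : PicF.IsInvertible ((Scheme.Modules.pullback ι).obj (Coh.structureModule X)) :=
    isInvertible_of_iso eA.symm (isInvertible_structureModule Y)
  -- the cokernel of `ι^*(I ⟶ O)`
  have hS := idealSES_shortExact D
  have e1 : cokernel (ClSub.idealModι D) ≅ ClSub.quotMod D :=
    (cokernelIsCokernel (ClSub.idealModι D)).coconePointUniqueUpToIso hS.gIsCokernel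
  have e2 := PreservesCokernel.iso (Scheme.Modules.pullback ι) (ClSub.idealModι D)
  have e3 : cokernel ((Scheme.Modules.pullback ι).map (ClSub.idealModι D)) ≅
      (Scheme.Modules.pullback ι).obj (ClSub.quotMod D) :=
    e2.symm ≪≫ (Scheme.Modules.pullback ι).mapIso e1
  -- base change
  have hpb : IsPullback (pullback.snd ι D.subschemeι) (pullback.fst ι D.subschemeι)
      D.subschemeι ι := (IsPullback.of_hasPullback ι D.subschemeι).flip
  haveI : (Coh.structureModule D.subscheme).IsQuasicoherent :=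
    isQuasicoherent_structureModule D.subscheme
  haveI := Groth.Agent.Helper13AffBC.isIso_bcMap D.subschemeι ι (pullback.snd ι D.subschemeι)
    (pullback.fst ι D.subschemeι) hpb (Coh.structureModule D.subscheme)
  have e4 := asIso (Groth.Agent.Helper13AffBC.bcMap D.subschemeι ι (pullback.snd ι D.subschemeι)
    (pullback.fst ι D.subschemeι) hpb (Coh.structureModule D.subscheme))
  have e5 := (Scheme.Modules.pushforward (pullback.fst ι D.subschemeι)).mapIso
    (pullbackUnitIso (pullback.snd ι D.subschemeι))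
  -- nonvanishing
  have hφ : (Scheme.Modules.pullback ι).map (ClSub.idealModι D) ≠ 0 := by
    intro h0
    have hcQ : Coh.IsCoh (ClSub.quotMod D) :=
      isCoh_push_closed D.subschemeι _ (isCoh_structureModule D.subscheme)
    haveI : (ClSub.quotMod D).IsQuasicoherent := hcQ.1
    haveI : SheafOfModules.IsFiniteType (R := X.ringCatSheaf) (ClSub.quotMod D) := hcQ.2
    have hQη : Subsingleton ((ClSub.quotMod D).presheaf.stalk (ι (genericPoint Y))) := by
      by_contra hns
      have hmem : ι (genericPoint Y) ∈ CohB1.support (ClSub.quotMod D) := hns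
      have := support_push_subset D.subschemeι (Coh.structureModule D.subscheme) hmem
      rw [Scheme.IdealSheafData.range_subschemeι] at this
      exact hη this
    have h1 := (Groth.Agent.Lib.Helper20.PullbackAff.subsingleton_stalk_pullback_iff ι
      (ClSub.quotMod D) (genericPoint Y)).2 hQη
    obtain ⟨e6⟩ := nonempty_cokernel_iso_of_eq_zero
      ((Scheme.Modules.pullback ι).map (ClSub.idealModι D)) h0
    have h2 := subsingleton_stalk_of_iso (e3.symm ≪≫ e6 ≪≫ eA) (genericPoint Y) h1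
    exact Groth.Agent.Lib.Helper13.ArSurfSec.not_subsingleton_stalk_structureModule _ h2
  obtain ⟨h1, -⟩ := Groth.Agent.Lib.Helper6.CurveDeg.main k Y hdim _ _ hN hA _ hφ
  have h2 := Groth.Agent.Lib.Helper13.ArSurfDeg.deg_add_deg_eq_zero k Y hdim.le
    ((Scheme.Modules.pullback ι).obj L) _
    (Groth.Agent.Lib.Helper13.ArSurfDeg.pullTensorIso ι L (ClSub.idealMod D) e)
  rw [Groth.Agent.Lib.Helper4.CurveChi.euler_congr_iso k eA,
    (Groth.Agent.Lib.Helper4.CurveChi.HHequiv k (e3 ≪≫ e4 ≪≫ e5) 0).finrank_eq] at h1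
  unfold Curv2.deg at h2 ⊢
  push_cast at h2 ⊢
  linarith

end Curve

section H0

variable (k : Type u) [Field k]

/-- `dim_k H⁰(P, O_P)` for a scheme with a structure morphism to `Spec k` -/
noncomputable def h0 (P : Scheme.{u}) (a : P ⟶ Spec (CommRingCat.of k)) : ℕ :=
  letI : P.Over (Spec (CommRingCat.of k)) := ⟨a⟩
  Module.finrank k (Coh.HH P (Coh.structureModule P) 0)

theorem h0_congr_iso {P P' : Scheme.{u}} (θ : P' ⟶ P) [IsIso θ] (a : P ⟶ Spec (CommRingCat.of k))
    (a' : P' ⟶ Spec (CommRingCat.of k)) (h : θ ≫ a = a') [CompactSpace P] [QuasiSeparatedSpace P] :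
    h0 k P a = h0 k P' a' := by
  letI : P.Over (Spec (CommRingCat.of k)) := ⟨a⟩
  letI : P'.Over (Spec (CommRingCat.of k)) := ⟨a'⟩
  obtain ⟨e⟩ := Groth.Agent.Lib.Helper4.IsoCoh.nonempty_linearEquiv_of_isIso (k := k) θ h 0
  exact e.finrank_eq

theorem finrank_push_eq_h0 (Y : Scheme.{u}) [Y.Over (Spec (CommRingCat.of k))] [CompactSpace Y]
    [QuasiSeparatedSpace Y] {P : Scheme.{u}} (q : P ⟶ Y) [IsAffineHom q] :
    Module.finrank k (Coh.HH Y ((Scheme.Modules.pushforward q).obj (Coh.structureModule P)) 0) =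
      h0 k P (q ≫ (Y ↘ Spec (CommRingCat.of k))) := by
  letI : P.Over (Spec (CommRingCat.of k)) := ⟨q ≫ (Y ↘ Spec (CommRingCat.of k))⟩
  haveI : (Coh.structureModule P).IsQuasicoherent := isQuasicoherent_structureModule P
  obtain ⟨e⟩ := Groth.Agent.Lib.Helper6.AffPushLin.nonempty_linearEquiv (A := k) q rfl
    (Coh.structureModule P) 0
  exact e.finrank_eq

/-- `deg ι^*O(D) = dim_k H⁰(Y ×_X D, O)` -/
theorem deg_eq_h0 (Y : Scheme.{u}) [Y.Over (Spec (CommRingCat.of k))]
    [IsIntegral Y] [IsProper (Y ↘ (Spec (CommRingCat.of k)))] (hdim : topologicalKrullDim Y = 1)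
    {X : Scheme.{u}} [IsLocallyNoetherian X] (ι : Y ⟶ X)
    (D : X.IdealSheafData) (hD : BlowUp.IsEffCartierIdeal D)
    (hη : ι (genericPoint Y) ∉ D.support) (L : X.Modules)
    (hL : ClSub.IsInverseOf L (ClSub.idealMod D)) :
    Curv2.deg k Y ((Scheme.Modules.pullback ι).obj L) 1 =
      (h0 k (pullback ι D.subschemeι)
        (pullback.fst ι D.subschemeι ≫ (Y ↘ Spec (CommRingCat.of k))) : ℤ) := by
  haveI : IsNoetherian Y := Groth.Agent.Lib.Helper4.CurveRR.isNoetherian_of_proper k Y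
  rw [deg_eq_finrank_push k Y hdim ι D hD hη L hL, finrank_push_eq_h0]

end H0

section Sym

variable (k : Type u) [Field k] {S X Y₁ Y₂ : Scheme.{u}} (r : Spec (CommRingCat.of k) ⟶ S) [Mono r]
  (p : X ⟶ S) (a₁ : Y₁ ⟶ Spec (CommRingCat.of k)) (a₂ : Y₂ ⟶ Spec (CommRingCat.of k))
  (ι₁ : Y₁ ⟶ X) (ι₂ : Y₂ ⟶ X) [IsClosedImmersion ι₁] [IsClosedImmersion ι₂]

include r p in
/-- symmetry of the scheme-theoretic intersection of two closed subschemes lying over `Spec k ⟶ S` -/
theorem h0_pullback_symm (h₁ : ι₁ ≫ p = a₁ ≫ r) (h₂ : ι₂ ≫ p = a₂ ≫ r)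
    [CompactSpace Y₁] [QuasiSeparatedSpace Y₁] [CompactSpace Y₂] [QuasiSeparatedSpace Y₂] :
    h0 k (pullback ι₁ ι₂.ker.subschemeι) (pullback.fst ι₁ ι₂.ker.subschemeι ≫ a₁) =
      h0 k (pullback ι₂ ι₁.ker.subschemeι) (pullback.fst ι₂ ι₁.ker.subschemeι ≫ a₂) := by
  haveI : CompactSpace ↥(pullback ι₁ ι₂) :=
    QuasiCompact.compactSpace_of_compactSpace (pullback.fst ι₁ ι₂)
  haveI : QuasiSeparatedSpace ↥(pullback ι₁ ι₂) :=
    quasiSeparatedSpace_of_quasiSeparated (pullback.fst ι₁ ι₂)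
  haveI : CompactSpace ↥(pullback ι₂ ι₁) :=
    QuasiCompact.compactSpace_of_compactSpace (pullback.fst ι₂ ι₁)
  haveI : QuasiSeparatedSpace ↥(pullback ι₂ ι₁) :=
    quasiSeparatedSpace_of_quasiSeparated (pullback.fst ι₂ ι₁)
  haveI : CompactSpace ↥(pullback ι₁ ι₂.ker.subschemeι) :=
    QuasiCompact.compactSpace_of_compactSpace (pullback.fst ι₁ ι₂.ker.subschemeι)
  haveI : QuasiSeparatedSpace ↥(pullback ι₁ ι₂.ker.subschemeι) :=
    quasiSeparatedSpace_of_quasiSeparated (pullback.fst ι₁ ι₂.ker.subschemeι)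
  haveI : CompactSpace ↥(pullback ι₂ ι₁.ker.subschemeι) :=
    QuasiCompact.compactSpace_of_compactSpace (pullback.fst ι₂ ι₁.ker.subschemeι)
  haveI : QuasiSeparatedSpace ↥(pullback ι₂ ι₁.ker.subschemeι) :=
    quasiSeparatedSpace_of_quasiSeparated (pullback.fst ι₂ ι₁.ker.subschemeι)
  -- step 1: replace `V(ker ι₂)` by `Y₂`
  have s1 : h0 k (pullback ι₁ ι₂.ker.subschemeι) (pullback.fst ι₁ ι₂.ker.subschemeι ≫ a₁) =
      h0 k (pullback ι₁ ι₂) (pullback.fst ι₁ ι₂ ≫ a₁) := by
    let θ : pullback ι₁ ι₂ ⟶ pullback ι₁ ι₂.ker.subschemeι :=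
      pullback.map ι₁ ι₂ ι₁ ι₂.ker.subschemeι (𝟙 Y₁) ι₂.toImage (𝟙 X) (by simp)
        (by rw [Category.comp_id]; exact (Scheme.Hom.toImage_imageι ι₂).symm)
    haveI : IsIso θ := by
      dsimp only [θ]
      infer_instance
    refine h0_congr_iso k θ _ _ ?_
    dsimp only [θ]
    rw [← Category.assoc, pullback.lift_fst, Category.comp_id]
  have s2 : h0 k (pullback ι₂ ι₁.ker.subschemeι) (pullback.fst ι₂ ι₁.ker.subschemeι ≫ a₂) =
      h0 k (pullback ι₂ ι₁) (pullback.fst ι₂ ι₁ ≫ a₂) := by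
    let θ : pullback ι₂ ι₁ ⟶ pullback ι₂ ι₁.ker.subschemeι :=
      pullback.map ι₂ ι₁ ι₂ ι₁.ker.subschemeι (𝟙 Y₂) ι₁.toImage (𝟙 X) (by simp)
        (by rw [Category.comp_id]; exact (Scheme.Hom.toImage_imageι ι₁).symm)
    haveI : IsIso θ := by
      dsimp only [θ]
      infer_instance
    refine h0_congr_iso k θ _ _ ?_
    dsimp only [θ]
    rw [← Category.assoc, pullback.lift_fst, Category.comp_id]
  -- step 2: symmetry
  have s3 : h0 k (pullback ι₂ ι₁) (pullback.fst ι₂ ι₁ ≫ a₂) =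
      h0 k (pullback ι₁ ι₂) (pullback.fst ι₁ ι₂ ≫ a₁) := by
    refine h0_congr_iso k (pullbackSymmetry ι₁ ι₂).hom _ _ ?_
    rw [← Category.assoc, pullbackSymmetry_hom_comp_fst]
    rw [← cancel_mono r, Category.assoc, Category.assoc, ← h₁, ← h₂, ← Category.assoc,
      ← Category.assoc, pullback.condition]
  rw [s1, s2, s3]

end Sym

end Groth.Agent.Lib.Helper13.ArSurfLen
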