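import Mathlib
import Groth.Prelude.Def_ModelsG
import Groth.Agent.Lib.Helper13ArSurfSec

/-!
# Intersection numbers of vertical prime divisors on a proper scheme over a DVR (helper13)

* `isProper_curve'`, `curveDeg_eq'`: versions of `ArSurfDeg.isProper_curve`, `curveDeg_eq` with properness of `X.hom` as
  only hypothesis on `X`.
* `isEffCartier_ker_of_isInverseOf`: `L ⊗ I ≅ O` implies `I` effective Cartier.
* `inter_nonneg_and_eq_zero_iff`: `(Γ₁ · Γ₂) ≥ 0` with equality iff disjoint, when the generic point of `Γ₁` is not on `Γ₂`.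
* `genericPoint_not_mem_range_of_maximal`.
-/

set_option autoImplicit false
set_option linter.style.haveILetI false
universe u
open CategoryTheory CategoryTheory.Limits AlgebraicGeometry

namespace Groth.Agent.Lib.Helper13.ModelsInt

variable (R : Type u) [CommRing R] [IsDomain R] [IsDiscreteValuationRing R]
  (X : Over (Spec (CommRingCat.of R)))

theorem isProper_curve' (hp : IsProper X.hom) (Γ : ArSurf.VertComp R X) :
    IsProper (Γ.curve.left ↘ Spec (CommRingCat.of (IsLocalRing.ResidueField R))) := by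
  change IsProper Γ.curve.hom
  haveI := hp
  have h : IsProper (Γ.curve.hom ≫ Spec.map (CommRingCat.ofHom (IsLocalRing.residue R))) := by
    rw [← Γ.w]
    infer_instance
  exact IsProper.of_comp _ (Spec.map (CommRingCat.ofHom (IsLocalRing.residue R)))

theorem curveDeg_eq' (hp : IsProper X.hom) (Γ : ArSurf.VertComp R X) (M : Γ.curve.left.Modules) :
    ArSurf.curveDeg (IsLocalRing.ResidueField R) Γ.curve.left M =
      Curv2.deg (IsLocalRing.ResidueField R) Γ.curve.left M 1 := by
  haveI := isProper_curve' R X hp Γ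
  unfold ArSurf.curveDeg Curv2.deg
  rw [Groth.Agent.Lib.Helper12.Snap.eulerCharLE_eq_euler _ _ 1 Γ.dim_eq.le,
    Groth.Agent.Lib.Helper12.Snap.eulerCharLE_eq_euler _ _ 1 Γ.dim_eq.le]
  push_cast
  ring

theorem isEffCartier_of_isInverseOf {Y : Scheme.{u}} (I : Y.IdealSheafData) (L : Y.Modules)
    (hL : ClSub.IsInverseOf L (ClSub.idealMod I)) : BlowUp.IsEffCartierIdeal I := by
  obtain ⟨e⟩ := hL
  apply Groth.Agent.Helper18Cart.isEffCartier_of_isInvertible
  exact Groth.Agent.Lib.Helper2.TensorInv.isInvertible_of_tensor_iso _ L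
    (Groth.Agent.Lib.Helper23.AmpleFam2.tensorBraid _ _ ≪≫ e)

theorem coe_support_ker_of_isClosedImmersion {Z Y : Scheme.{u}} (i : Z ⟶ Y) [IsClosedImmersion i] :
    (i.ker.support : Set Y) = Set.range i := by
  rw [Scheme.Hom.support_ker]
  exact i.isClosedEmbedding.isClosed_range.closure_eq

/-- `(Γ₁ · Γ₂) ≥ 0`, with equality iff `Γ₁ ∩ Γ₂ = ∅`, for vertical prime divisors such that the generic point of `Γ₁` is
not on `Γ₂`. -/
theorem inter_nonneg_and_eq_zero_iff (hp : IsProper X.hom) (Γ₁ Γ₂ : ArSurf.VertComp R X)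
    (hγ : Γ₁.ι (genericPoint Γ₁.curve.left) ∉ Set.range Γ₂.ι)
    (L : X.left.Modules) (hL : ClSub.IsInverseOf L (ClSub.idealMod Γ₂.ι.ker)) :
    0 ≤ ArSurf.inter R X L Γ₁ ∧
      (ArSurf.inter R X L Γ₁ = 0 ↔ Disjoint (Set.range Γ₁.ι) (Set.range Γ₂.ι)) := by
  haveI := isProper_curve' R X hp Γ₁
  have hsupp := coe_support_ker_of_isClosedImmersion Γ₂.ι
  have hη : Γ₁.ι (genericPoint Γ₁.curve.left) ∉ Γ₂.ι.ker.support := by
    intro h
    apply hγ
    rw [← hsupp]
    exact h
  have h := Groth.Agent.Lib.Helper13.ArSurfSec.deg_pullback_inverse (IsLocalRing.ResidueField R)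
    Γ₁.curve.left Γ₁.dim_eq Γ₁.ι Γ₂.ι.ker (isEffCartier_of_isInverseOf _ L hL) hη L hL
  unfold ArSurf.inter
  rw [curveDeg_eq' R X hp Γ₁, ← hsupp]
  exact h

/-- the generic point of a maximal irreducible closed subset is not on another one -/
theorem genericPoint_not_mem_range_of_maximal (Γ₁ Γ₂ : ArSurf.VertComp R X) (S : Set X.left)
    (h₁ : Maximal (fun T : Set X.left => IsIrreducible T ∧ T ⊆ S) (Set.range Γ₁.ι))
    (h₂ : Maximal (fun T : Set X.left => IsIrreducible T ∧ T ⊆ S) (Set.range Γ₂.ι))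
    (hne : Set.range Γ₁.ι ≠ Set.range Γ₂.ι) :
    Γ₁.ι (genericPoint Γ₁.curve.left) ∉ Set.range Γ₂.ι := by
  intro hmem
  apply hne
  have hsub : Set.range Γ₁.ι ⊆ Set.range Γ₂.ι := by
    rintro _ ⟨z, rfl⟩
    have hz : z ∈ closure ({genericPoint Γ₁.curve.left} : Set Γ₁.curve.left) := by
      rw [genericPoint_spec Γ₁.curve.left]
      trivial
    have h1 := image_closure_subset_closure_image Γ₁.ι.continuous ⟨z, hz, rfl⟩
    rw [Set.image_singleton] at h1
    exact (Γ₂.ι.isClosedEmbedding.isClosed_range.closure_subset_iff.2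
      (Set.singleton_subset_iff.2 hmem)) h1
  exact le_antisymm hsub (h₁.2 h₂.1 hsub)

end Groth.Agent.Lib.Helper13.ModelsInt
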