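import Mathlib
import Groth.Agent.Lib.Helper13ModelsInt
import Groth.Agent.Lib.Helper13ArSurfLen

/-!
# Symmetry of the intersection number of two vertical prime divisors (helper13)

* `inter_eq_h0`: `(D · Γ) = dim_k H⁰(Γ ×_X D, O)`.
* `inter_symm`: `(Γ₂ · Γ₁) = (Γ₁ · Γ₂)` for vertical prime divisors none of which contains the generic point of the other.
* `genericPoint_not_mem_range_of_ne`: two distinct vertical prime divisors do not contain each other's generic point.
-/

set_option autoImplicit false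
set_option linter.style.haveILetI false
universe u
open CategoryTheory CategoryTheory.Limits AlgebraicGeometry

namespace Groth.Agent.Lib.Helper13.ModelsSym

open Groth.Agent.Lib.Helper13.ModelsInt Groth.Agent.Lib.Helper13.ArSurfLen

variable (R : Type u) [CommRing R] [IsDomain R] [IsDiscreteValuationRing R]
  (X : Over (Spec (CommRingCat.of R)))

theorem isLocallyNoetherian_of_proper (hp : IsProper X.hom) : IsLocallyNoetherian X.left := by
  haveI := hp
  exact LocallyOfFiniteType.isLocallyNoetherian X.hom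

theorem inter_eq_h0 (hp : IsProper X.hom) (Γ : ArSurf.VertComp R X) (D : X.left.IdealSheafData)
    (hD : BlowUp.IsEffCartierIdeal D) (hη : Γ.ι (genericPoint Γ.curve.left) ∉ D.support)
    (L : X.left.Modules) (hL : ClSub.IsInverseOf L (ClSub.idealMod D)) :
    ArSurf.inter R X L Γ =
      (h0 (IsLocalRing.ResidueField R) (pullback Γ.ι D.subschemeι)
        (pullback.fst Γ.ι D.subschemeι ≫ Γ.curve.hom) : ℤ) := by
  haveI := isProper_curve' R X hp Γ
  haveI := isLocallyNoetherian_of_proper R X hp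
  unfold ArSurf.inter
  rw [curveDeg_eq' R X hp Γ]
  exact deg_eq_h0 (IsLocalRing.ResidueField R) Γ.curve.left Γ.dim_eq Γ.ι D hD hη L hL

theorem inter_symm (hp : IsProper X.hom) (Γ₁ Γ₂ : ArSurf.VertComp R X)
    (hγ₁ : Γ₁.ι (genericPoint Γ₁.curve.left) ∉ Set.range Γ₂.ι)
    (hγ₂ : Γ₂.ι (genericPoint Γ₂.curve.left) ∉ Set.range Γ₁.ι)
    (L₁ L₂ : X.left.Modules) (h₁ : ClSub.IsInverseOf L₁ (ClSub.idealMod Γ₁.ι.ker))
    (h₂ : ClSub.IsInverseOf L₂ (ClSub.idealMod Γ₂.ι.ker)) :
    ArSurf.inter R X L₂ Γ₁ = ArSurf.inter R X L₁ Γ₂ := by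
  have hη₁ : Γ₁.ι (genericPoint Γ₁.curve.left) ∉ Γ₂.ι.ker.support := by
    intro h
    apply hγ₁
    rw [← coe_support_ker_of_isClosedImmersion Γ₂.ι]
    exact h
  have hη₂ : Γ₂.ι (genericPoint Γ₂.curve.left) ∉ Γ₁.ι.ker.support := by
    intro h
    apply hγ₂
    rw [← coe_support_ker_of_isClosedImmersion Γ₁.ι]
    exact h
  rw [inter_eq_h0 R X hp Γ₁ Γ₂.ι.ker (isEffCartier_of_isInverseOf _ L₂ h₂) hη₁ L₂ h₂,
    inter_eq_h0 R X hp Γ₂ Γ₁.ι.ker (isEffCartier_of_isInverseOf _ L₁ h₁) hη₂ L₁ h₁]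
  haveI := isProper_curve' R X hp Γ₁
  haveI := isProper_curve' R X hp Γ₂
  haveI : IsNoetherian Γ₁.curve.left :=
    Groth.Agent.Lib.Helper4.CurveRR.isNoetherian_of_proper (IsLocalRing.ResidueField R) Γ₁.curve.left
  haveI : IsNoetherian Γ₂.curve.left :=
    Groth.Agent.Lib.Helper4.CurveRR.isNoetherian_of_proper (IsLocalRing.ResidueField R) Γ₂.curve.left
  haveI : IsClosedImmersion (Spec.map (CommRingCat.ofHom (IsLocalRing.residue R))) :=
    IsClosedImmersion.spec_of_surjective _ Ideal.Quotient.mk_surjective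
  congr 1
  exact h0_pullback_symm (IsLocalRing.ResidueField R)
    (Spec.map (CommRingCat.ofHom (IsLocalRing.residue R))) X.hom Γ₁.curve.hom Γ₂.curve.hom
    Γ₁.ι Γ₂.ι Γ₁.w Γ₂.w

/-- two vertical prime divisors with distinct supports do not contain each other's generic point -/
theorem genericPoint_not_mem_range_of_ne (Γ₁ Γ₂ : ArSurf.VertComp R X)
    (hne : Set.range Γ₁.ι ≠ Set.range Γ₂.ι) :
    Γ₁.ι (genericPoint Γ₁.curve.left) ∉ Set.range Γ₂.ι := by
  intro hmem
  apply hne
  have hsub : Set.range Γ₁.ι ⊆ Set.range Γ₂.ι := by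
    rintro _ ⟨z, rfl⟩
    have hz : z ∈ closure ({genericPoint Γ₁.curve.left} : Set Γ₁.curve.left) := by
      rw [genericPoint_spec Γ₁.curve.left]
      trivial
    have h1 := image_closure_subset_closure_image Γ₁.ι.continuous ⟨z, hz, rfl⟩
    rw [Set.image_singleton] at h1
    exact (Γ₂.ι.isClosedEmbedding.isClosed_range.closure_subset_iff.2
      (Set.singleton_subset_iff.2 hmem)) h1
  refine le_antisymm hsub ?_
  -- the closed subset `Z = Γ₂.ι ⁻¹ (range Γ₁.ι)` of `Γ₂` has dimension one, hence is everything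
  set Z : Set Γ₂.curve.left := Γ₂.ι ⁻¹' Set.range Γ₁.ι with hZ
  have hZc : IsClosed Z := Γ₁.ι.isClosedEmbedding.isClosed_range.preimage Γ₂.ι.continuous
  by_contra hnot
  have hZne : Z ≠ Set.univ := by
    intro hZu
    apply hnot
    rintro _ ⟨w, rfl⟩
    have : w ∈ Z := hZu ▸ Set.mem_univ w
    exact this
  have hdimZ := Groth.Agent.Lib.Helper6.CurveDeg.topologicalKrullDim_le_zero_of_ne_univ
    Γ₂.dim_eq.le Z hZc hZne
  -- but `Γ₁` embeds into `Z`
  have hlift : ∀ z : Γ₁.curve.left, ∃ w : Γ₂.curve.left, Γ₂.ι w = Γ₁.ι z := fun z => hsub ⟨z, rfl⟩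
  choose g hg using hlift
  have hgZ : ∀ z, g z ∈ Z := fun z => by
    show Γ₂.ι (g z) ∈ Set.range Γ₁.ι
    rw [hg z]
    exact ⟨z, rfl⟩
  let g' : Γ₁.curve.left → Z := fun z => ⟨g z, hgZ z⟩
  have hind : Topology.IsInducing g' := by
    have hcomp : Topology.IsInducing (fun z => Γ₂.ι ((g' z : Γ₂.curve.left))) := by
      have : (fun z => Γ₂.ι ((g' z : Γ₂.curve.left))) = Γ₁.ι := funext hg
      rw [this]
      exact Γ₁.ι.isClosedEmbedding.isInducing
    have h2 : Topology.IsInducing (fun w : Z => Γ₂.ι (w : Γ₂.curve.left)) :=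
      Γ₂.ι.isClosedEmbedding.isInducing.comp Topology.IsInducing.subtypeVal
    have hcont : Continuous g' := by
      rw [h2.continuous_iff]
      exact hcomp.continuous
    exact Topology.IsInducing.of_comp hcont h2.continuous hcomp
  have := hind.topologicalKrullDim_le
  rw [Γ₁.dim_eq] at this
  exact absurd (this.trans hdimZ) (by decide)

end Groth.Agent.Lib.Helper13.ModelsSym
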