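import Mathlib
import Groth.Agent.Lib.Helper13ModelsSym
import Groth.Agent.Lib.Helper17StalkBC3

/-!
# The intersection number as an `R`-length (helper13)

* `toGlobal_comp_specMap`, `length_toNat_eq_finrank_of_residue`: the `R`-length of the cohomology of a scheme over the
  residue field of `R` is its dimension over the residue field.
* `nonempty_linearEquiv_of_isIso'`: `H^n(V, O_V) ≃ₗ[A] H^n(P, O_P)` for an isomorphism over any ring `A`.
* `exists_iso_sup`: `Y ×_X V(D) ≅ V(D ⊔ ker ι)` for a closed immersion `ι : Y ⟶ X`.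
* `inter_eq_lengthH`: S7926.
-/

set_option autoImplicit false
set_option linter.style.haveILetI false
universe u
open CategoryTheory CategoryTheory.Limits AlgebraicGeometry

namespace Groth.Agent.Lib.Helper13.ArSurfLenR

open Groth.Agent.Lib.Helper13.ModelsInt Groth.Agent.Lib.Helper13.ArSurfLen
  Groth.Agent.Lib.Helper13.ModelsSym

theorem toGlobal_comp_specMap {A B : Type u} [CommRing A] [CommRing B] (φ : A →+* B)
    {P : Scheme.{u}} (a : P ⟶ Spec (CommRingCat.of B)) (r : A) :
    Coh.toGlobal (a ≫ Spec.map (CommRingCat.ofHom φ)) r = Coh.toGlobal a (φ r) := by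
  have h2 := Scheme.ΓSpecIso_inv_naturality (CommRingCat.ofHom φ)
  have e2 := ConcreteCategory.congr_hom h2 r
  unfold Coh.toGlobal
  rw [Scheme.Hom.comp_appTop]
  change a.appTop.hom ((Spec.map (CommRingCat.ofHom φ)).appTop.hom
    ((Scheme.ΓSpecIso (CommRingCat.of A)).inv.hom r)) =
    a.appTop.hom ((Scheme.ΓSpecIso (CommRingCat.of B)).inv.hom (φ r))
  exact congrArg a.appTop.hom e2.symm

/-- the length over `A` of `H^i(P, F)`, for `P` with a structure morphism `a` to `Spec A` -/
noncomputable def lenOver (A : Type u) [CommRing A] (P : Scheme.{u}) (a : P ⟶ Spec (CommRingCat.of A))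
    (F : P.Modules) (i : ℕ) : ℕ :=
  letI : P.Over (Spec (CommRingCat.of A)) := ⟨a⟩
  (Module.length A (Coh.HH P F i)).toNat

/-- the dimension over `k` of `H^i(P, F)`, for `P` with a structure morphism `a` to `Spec k` -/
noncomputable def rankOver (k : Type u) [Field k] (P : Scheme.{u}) (a : P ⟶ Spec (CommRingCat.of k))
    (F : P.Modules) (i : ℕ) : ℕ :=
  letI : P.Over (Spec (CommRingCat.of k)) := ⟨a⟩
  Module.finrank k (Coh.HH P F i)

theorem h0_eq_rankOver (k : Type u) [Field k] (P : Scheme.{u}) (a : P ⟶ Spec (CommRingCat.of k)) :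
    h0 k P a = rankOver k P a (Coh.structureModule P) 0 := rfl

/-- the `R`-length of cohomology of a scheme over the residue field is the dimension over the residue field -/
theorem lenOver_eq_rankOver_of_residue (R : Type u) [CommRing R] [IsLocalRing R]
    (P : Scheme.{u}) (a : P ⟶ Spec (CommRingCat.of (IsLocalRing.ResidueField R)))
    (F : P.Modules) (i : ℕ) :
    lenOver R P (a ≫ Spec.map (CommRingCat.ofHom (IsLocalRing.residue R))) F i =
      rankOver (IsLocalRing.ResidueField R) P a F i := by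
  letI inst1 : Module R (Coh.HH P F i) :=
    Module.compHom (Coh.HH P F i)
      (Coh.toGlobal (a ≫ Spec.map (CommRingCat.ofHom (IsLocalRing.residue R))))
  letI inst2 : Module (IsLocalRing.ResidueField R) (Coh.HH P F i) :=
    Module.compHom (Coh.HH P F i) (Coh.toGlobal a)
  haveI : IsScalarTower R (IsLocalRing.ResidueField R) (Coh.HH P F i) := by
    refine ⟨fun r c x => ?_⟩
    change Coh.toGlobal a (r • c) • x =
      Coh.toGlobal (a ≫ Spec.map (CommRingCat.ofHom (IsLocalRing.residue R))) r •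
        (Coh.toGlobal a c • x)
    rw [toGlobal_comp_specMap, Algebra.smul_def, map_mul, mul_smul]
    rfl
  have h1 : Module.length R (Coh.HH P F i) =
      Module.length (IsLocalRing.ResidueField R) (Coh.HH P F i) :=
    Module.length_eq_of_surjective (S := R) (R := IsLocalRing.ResidueField R)
      IsLocalRing.residue_surjective
  change (Module.length R (Coh.HH P F i)).toNat =
    Module.finrank (IsLocalRing.ResidueField R) (Coh.HH P F i)
  rw [h1, Module.length_eq_rank]
  rfl

/-- cohomology of the structure sheaf is invariant under isomorphisms over any base ring -/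
theorem nonempty_linearEquiv_of_isIso' {A : Type u} [CommRing A] {V P : Scheme.{u}}
    [V.Over (Spec (CommRingCat.of A))] [P.Over (Spec (CommRingCat.of A))] (θ : P ⟶ V) [IsIso θ]
    (hθ : θ ≫ (V ↘ Spec (CommRingCat.of A)) = P ↘ Spec (CommRingCat.of A))
    [CompactSpace V] [QuasiSeparatedSpace V] (n : ℕ) :
    Nonempty (Coh.HH V (Coh.structureModule V) n ≃ₗ[A] Coh.HH P (Coh.structureModule P) n) := by
  haveI : (Coh.structureModule P).IsQuasicoherent :=
    Groth.Agent.Lib.Helper4.Dev.isQuasicoherent_structureModule P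
  obtain ⟨e₂⟩ := Groth.Agent.Lib.Helper6.AffPushLin.nonempty_linearEquiv θ hθ
    (Coh.structureModule P) n
  haveI := Groth.Agent.Lib.Helper4.IsoCoh.isIso_unitToPush θ
  exact ⟨(Groth.Agent.Lib.Helper17.StalkBC.hhEquiv A (asIso (ClSub.unitToPush θ)) n).trans e₂⟩

/-- `Y ×_X V(D) ≅ V(D ⊔ ker ι)` for a closed immersion `ι : Y ⟶ X` -/
theorem exists_iso_sup {X Y : Scheme.{u}} (ι : Y ⟶ X) [IsClosedImmersion ι] (D : X.IdealSheafData) :
    ∃ θ : pullback ι D.subschemeι ⟶ (D ⊔ ι.ker).subscheme, IsIso θ ∧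
      θ ≫ (D ⊔ ι.ker).subschemeι = pullback.fst ι D.subschemeι ≫ ι := by
  set c : pullback ι D.subschemeι ⟶ X := pullback.fst ι D.subschemeι ≫ ι with hc
  have hc' : c = pullback.snd ι D.subschemeι ≫ D.subschemeι := pullback.condition
  have hle : (D ⊔ ι.ker).subschemeι.ker ≤ c.ker := by
    rw [Scheme.IdealSheafData.ker_subschemeι]
    refine sup_le ?_ ?_
    · have := Scheme.Hom.le_ker_comp (pullback.snd ι D.subschemeι) D.subschemeι
      rw [Scheme.IdealSheafData.ker_subschemeι, ← hc'] at this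
      exact this
    · exact Scheme.Hom.le_ker_comp (pullback.fst ι D.subschemeι) ι
  let β : pullback ι D.subschemeι ⟶ (D ⊔ ι.ker).subscheme :=
    IsClosedImmersion.lift (D ⊔ ι.ker).subschemeι c hle
  have hβ : β ≫ (D ⊔ ι.ker).subschemeι = c := IsClosedImmersion.lift_fac _ _ _
  let α₁ : (D ⊔ ι.ker).subscheme ⟶ Y :=
    IsClosedImmersion.lift ι (D ⊔ ι.ker).subschemeι (by
      rw [Scheme.IdealSheafData.ker_subschemeι]; exact le_sup_right)
  have hα₁ : α₁ ≫ ι = (D ⊔ ι.ker).subschemeι := IsClosedImmersion.lift_fac _ _ _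
  let α₂ : (D ⊔ ι.ker).subscheme ⟶ D.subscheme :=
    IsClosedImmersion.lift D.subschemeι (D ⊔ ι.ker).subschemeι (by
      rw [Scheme.IdealSheafData.ker_subschemeι, Scheme.IdealSheafData.ker_subschemeι]
      exact le_sup_left)
  have hα₂ : α₂ ≫ D.subschemeι = (D ⊔ ι.ker).subschemeι := IsClosedImmersion.lift_fac _ _ _
  let α : (D ⊔ ι.ker).subscheme ⟶ pullback ι D.subschemeι :=
    pullback.lift α₁ α₂ (hα₁.trans hα₂.symm)
  have hα : α ≫ c = (D ⊔ ι.ker).subschemeι := by
    rw [hc, ← Category.assoc, pullback.lift_fst, hα₁]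
  haveI : Mono c := by
    rw [hc]
    infer_instance
  refine ⟨β, ⟨⟨α, ?_, ?_⟩⟩, hβ⟩
  · rw [← cancel_mono c, Category.assoc, hα, hβ, Category.id_comp]
  · rw [← cancel_mono (D ⊔ ι.ker).subschemeι, Category.assoc, hβ, hα, Category.id_comp]

theorem lenOver_congr_iso {A : Type u} [CommRing A] {V P : Scheme.{u}} (θ : P ⟶ V) [IsIso θ]
    (b : V ⟶ Spec (CommRingCat.of A)) [CompactSpace V] [QuasiSeparatedSpace V] (n : ℕ) :
    lenOver A V b (Coh.structureModule V) n = lenOver A P (θ ≫ b) (Coh.structureModule P) n := by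
  letI : V.Over (Spec (CommRingCat.of A)) := ⟨b⟩
  letI : P.Over (Spec (CommRingCat.of A)) := ⟨θ ≫ b⟩
  obtain ⟨e⟩ := nonempty_linearEquiv_of_isIso' (A := A) θ rfl n
  exact congrArg ENat.toNat e.length_eq

theorem lenOver_push {A : Type u} [CommRing A] {X V : Scheme.{u}} (b : X ⟶ Spec (CommRingCat.of A))
    (j : V ⟶ X) [IsAffineHom j] [CompactSpace X] [QuasiSeparatedSpace X] (n : ℕ) :
    lenOver A X b ((Scheme.Modules.pushforward j).obj (Coh.structureModule V)) n =
      lenOver A V (j ≫ b) (Coh.structureModule V) n := by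
  letI : X.Over (Spec (CommRingCat.of A)) := ⟨b⟩
  letI : V.Over (Spec (CommRingCat.of A)) := ⟨j ≫ b⟩
  haveI : (Coh.structureModule V).IsQuasicoherent :=
    Groth.Agent.Lib.Helper4.Dev.isQuasicoherent_structureModule V
  obtain ⟨e⟩ := Groth.Agent.Lib.Helper6.AffPushLin.nonempty_linearEquiv (A := A) j rfl
    (Coh.structureModule V) n
  exact congrArg ENat.toNat e.length_eq

variable (R : Type u) [CommRing R] [IsDomain R] [IsDiscreteValuationRing R]
  (X : Over (Spec (CommRingCat.of R)))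

/-- **S7926**: `(D · Γ) = length_R H⁰(X, O_X/(I_D + I_Γ))` -/
theorem inter_eq_lengthH (hp : IsProper X.hom) (Γ : ArSurf.VertComp R X) (D : X.left.IdealSheafData)
    (hD : BlowUp.IsEffCartierIdeal D) (hη : Γ.ι (genericPoint Γ.curve.left) ∉ D.support)
    (L : X.left.Modules) (hL : ClSub.IsInverseOf L (ClSub.idealMod D)) :
    ArSurf.inter R X L Γ = (Models.lengthH R X (ClSub.quotMod (D ⊔ Γ.ι.ker)) 0 : ℤ) := by
  rw [inter_eq_h0 R X hp Γ D hD hη L hL]
  congr 1
  haveI := hp
  haveI : CompactSpace X.left := QuasiCompact.compactSpace_of_compactSpace X.hom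
  haveI : QuasiSeparatedSpace X.left := quasiSeparatedSpace_of_quasiSeparated X.hom
  haveI : CompactSpace ↥(D ⊔ Γ.ι.ker).subscheme :=
    QuasiCompact.compactSpace_of_compactSpace (D ⊔ Γ.ι.ker).subschemeι
  haveI : QuasiSeparatedSpace ↥(D ⊔ Γ.ι.ker).subscheme :=
    quasiSeparatedSpace_of_quasiSeparated (D ⊔ Γ.ι.ker).subschemeι
  obtain ⟨θ, hθiso, hθ⟩ := exists_iso_sup Γ.ι D
  haveI := hθiso
  have h1 : Models.lengthH R X (ClSub.quotMod (D ⊔ Γ.ι.ker)) 0 =
      lenOver R X.left X.hom (ClSub.quotMod (D ⊔ Γ.ι.ker)) 0 := rfl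
  rw [h1, lenOver_push X.hom (D ⊔ Γ.ι.ker).subschemeι 0,
    lenOver_congr_iso θ ((D ⊔ Γ.ι.ker).subschemeι ≫ X.hom) 0]
  have h2 : θ ≫ (D ⊔ Γ.ι.ker).subschemeι ≫ X.hom =
      (pullback.fst Γ.ι D.subschemeι ≫ Γ.curve.hom) ≫
        Spec.map (CommRingCat.ofHom (IsLocalRing.residue R)) := by
    rw [← Category.assoc, hθ, Category.assoc, Γ.w, Category.assoc]
  rw [h2, lenOver_eq_rankOver_of_residue]
  rfl

end Groth.Agent.Lib.Helper13.ArSurfLenR
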