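import Mathlib
import Groth.Agent.S0595
import Groth.Agent.Lib.Helper26SmoothLift
import Groth.Agent.Lib.Helper19ComplNoeth

set_option autoImplicit false
set_option linter.style.haveILetI false
universe u

namespace Groth.Agent.Helper13ArtinApprox

/-- **Existence form of approximation**: for a Noetherian ring `A`, Henselian along `I`, with regular
completion map, any finite polynomial system having a solution in the completion has a solution
in `A`. -/
theorem exists_solution (A : Type u) [CommRing A] [IsNoetherianRing A]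
    (I : Ideal A) [HenselianRing A I] (hreg : CAlg.IsRegularHom A (AdicCompletion I A))
    {σ ι : Type} [Finite σ] [Finite ι] (F : ι → MvPolynomial σ A)
    (a : σ → AdicCompletion I A) (ha : ∀ j, MvPolynomial.aeval a (F j) = 0) :
    ∃ b : σ → A, ∀ j, MvPolynomial.eval b (F j) = 0 := by
  classical
  haveI : IsNoetherianRing (AdicCompletion I A) :=
    Groth.Agent.Lib.Helper19.isNoetherianRing_adicCompletion I
  let K : Ideal (MvPolynomial σ A) := Ideal.span (Set.range F)
  have hKfg : K.FG := (Submodule.fg_span (Set.finite_range F))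
  haveI : Algebra.FinitePresentation A (MvPolynomial σ A ⧸ K) :=
    Algebra.FinitePresentation.quotient hKfg
  let φ : (MvPolynomial σ A ⧸ K) →ₐ[A] AdicCompletion I A :=
    Ideal.Quotient.liftₐ K (MvPolynomial.aeval a) (by
      intro x hx
      have hle : K ≤ RingHom.ker (MvPolynomial.aeval a : MvPolynomial σ A →ₐ[A] _).toRingHom := by
        rw [Ideal.span_le]
        rintro _ ⟨j, rfl⟩
        exact ha j
      exact hle hx)
  obtain ⟨B, _, _, hB, g, h, hgh⟩ :=
    Groth.Agent.S0595.result A (AdicCompletion I A) hreg (MvPolynomial σ A ⧸ K) φ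
  haveI := hB
  obtain ⟨τ, -⟩ := Groth.Agent.Lib.Helper26.SmoothLift.exists_lift_of_smooth (R := A) (S := B)
    (C := A) I ((AdicCompletion.evalOneₐ I).comp h)
  let ψ : MvPolynomial σ A →ₐ[A] A := (τ.comp g).comp (Ideal.Quotient.mkₐ A K)
  refine ⟨fun i => ψ (MvPolynomial.X i), fun j => ?_⟩
  have h1 : MvPolynomial.aeval (fun i => ψ (MvPolynomial.X i)) = ψ := by
    apply MvPolynomial.algHom_ext
    intro i
    simp
  rw [← MvPolynomial.coe_aeval_eq_eval, h1]
  change τ (g (Ideal.Quotient.mk K (F j))) = 0
  have : Ideal.Quotient.mk K (F j) = 0 :=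
    Ideal.Quotient.eq_zero_iff_mem.mpr (Ideal.subset_span ⟨j, rfl⟩)
  rw [this, map_zero, map_zero]

end Groth.Agent.Helper13ArtinApprox
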