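import Mathlib
import Groth.Agent.Lib.Helper13ArtinApproxA

set_option autoImplicit false
set_option linter.style.haveILetI false
universe u

namespace Groth.Agent.Helper13ArtinApprox

/-- **Approximation for Henselian pairs with regular completion map** (= statement S0597). -/
theorem approximation (A : Type u) [CommRing A] [IsNoetherianRing A]
    (I : Ideal A) [HenselianRing A I] (hreg : CAlg.IsRegularHom A (AdicCompletion I A)) (n m : ℕ)
    (F : Fin m → MvPolynomial (Fin n) A) (a : Fin n → (AdicCompletion I A))
    (ha : ∀ j, MvPolynomial.eval a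
      (MvPolynomial.map (algebraMap A (AdicCompletion I A)) (F j)) = 0) (N : ℕ) :
    ∃ b : Fin n → A, (∀ j, MvPolynomial.eval b (F j) = 0) ∧
      ∀ i, a i - algebraMap A (AdicCompletion I A) (b i) ∈
        (I ^ N).map (algebraMap A (AdicCompletion I A)) := by
  classical
  have hIfg : I.FG := IsNoetherian.noetherian I
  -- Step 1: approximate `a` modulo `I ^ N`
  have hc : ∀ i, ∃ c : A, a i - algebraMap A (AdicCompletion I A) c ∈
      (I ^ N).map (algebraMap A (AdicCompletion I A)) := by
    intro i
    obtain ⟨c, hc⟩ := Submodule.Quotient.mk_surjective _ (AdicCompletion.eval I A N (a i))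
    refine ⟨c, ?_⟩
    have h1 : a i - algebraMap A (AdicCompletion I A) c ∈
        LinearMap.ker (AdicCompletion.eval I A N) := by
      rw [LinearMap.mem_ker, map_sub, ← hc]
      exact sub_self _
    rw [← AdicCompletion.pow_smul_top_eq_ker_eval hIfg, Ideal.smul_top_eq_map] at h1
    exact h1
  choose c hc using hc
  -- Step 2: generators of `I ^ N`
  obtain ⟨s, g, hg⟩ := Submodule.fg_iff_exists_fin_generating_family.1
    (IsNoetherian.noetherian (I ^ N))
  have hy : ∀ i, ∃ y : Fin s → AdicCompletion I A, a i - algebraMap A (AdicCompletion I A) (c i) =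
      ∑ k, y k * algebraMap A (AdicCompletion I A) (g k) := by
    intro i
    have h1 := hc i
    rw [← hg, Ideal.submodule_span_eq, Ideal.map_span, ← Set.range_comp] at h1
    obtain ⟨y, hy⟩ := (Ideal.mem_span_range_iff_exists_fun).mp h1
    exact ⟨y, hy.symm⟩
  choose y hy using hy
  -- Step 3: substitution
  let sub : Fin n → MvPolynomial (Fin n × Fin s) A := fun i =>
    MvPolynomial.C (c i) + ∑ k, MvPolynomial.C (g k) * MvPolynomial.X (i, k)
  let G : Fin m → MvPolynomial (Fin n × Fin s) A := fun j => MvPolynomial.bind₁ sub (F j)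
  have hsub : ∀ i, MvPolynomial.aeval (fun p : Fin n × Fin s => y p.1 p.2) (sub i) = a i := by
    intro i
    simp only [sub, map_add, map_sum, map_mul, MvPolynomial.aeval_C, MvPolynomial.aeval_X]
    rw [eq_comm, ← sub_eq_iff_eq_add', hy i]
    exact Finset.sum_congr rfl fun k _ => mul_comm _ _
  have hG : ∀ j, MvPolynomial.aeval (fun p : Fin n × Fin s => y p.1 p.2) (G j) = 0 := by
    intro j
    simp only [G, MvPolynomial.aeval_bind₁]
    simp_rw [hsub]
    rw [MvPolynomial.aeval_def, ← MvPolynomial.eval_map]
    exact ha j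
  obtain ⟨z, hz⟩ := exists_solution A I hreg G (fun p : Fin n × Fin s => y p.1 p.2) hG
  refine ⟨fun i => MvPolynomial.eval z (sub i), fun j => ?_, fun i => ?_⟩
  · exact (MvPolynomial.eval₂Hom_bind₁ (RingHom.id A) z sub (F j)).symm.trans (hz j)
  · have hb : MvPolynomial.eval z (sub i) = c i + ∑ k, g k * z (i, k) := by
      simp [sub]
    beta_reduce
    rw [hb, map_add, ← sub_sub]
    refine Ideal.sub_mem _ (hc i) (Ideal.mem_map_of_mem _ ?_)
    refine Ideal.sum_mem _ fun k _ => Ideal.mul_mem_right _ _ ?_
    rw [← hg]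
    exact Submodule.subset_span ⟨k, rfl⟩

end Groth.Agent.Helper13ArtinApprox
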