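import Mathlib

/-!
Helper13ArtinLift: Artin's formal versality along etale maps and finite residue extensions.

* `Good R` : a subring `R` of a local ring `C` containing `m_C`, closed under inverses of units, with `C`
  finitely generated over `R` modulo `m_C`; then `R` is local (`Good.isLocalRing`), `R ⊆ C` is a local hom,
  `C` is a finite `R`-module and `R` is Artinian if `C` is (`Good.isArtinianRing`, via Cohen's theorem).
* `sub θ` : the subring of elements congruent mod `m_C` to the image of `θ : A →+* C`; `good_sub`, `good_comap`.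
* `mk x ψ = Spec.map ψ ≫ X.fromSpecStalk x` with `exists_mk`, `mk_inj`, `specMap_mk`, `mk_comp`,
  `mk_closedPoint`, `resSurj_iff`, `exists_of_finite`, `surjective_residueFieldMap_mk`.
* `desc` : formal versality (liftings for residue-trivial `a`) gives liftings for all `a` with finite
  residue field extension (no hypotheses on `T`, `t`).
* `finite_residueFieldMap` : unramified + locally of finite type ⇒ residue field maps are finite.
* `exists_lift_of_formallySmooth`, `etale_lift` : formal versality passes along etale maps.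
-/

set_option autoImplicit false
set_option linter.style.haveILetI false
universe u
open IsLocalRing AlgebraicGeometry CategoryTheory

namespace Groth.Agent.Helper13ArtinLift


section Ring

variable {C : Type u} [CommRing C] [IsLocalRing C]

/-- A subring `R` of a local ring `C` containing the maximal ideal, closed under inverses of units,
and over which `C` is generated by finitely many elements modulo the maximal ideal. -/
structure Good (R : Subring C) : Prop where
  max_le : ∀ x ∈ maximalIdeal C, x ∈ R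
  inv_mem : ∀ x ∈ R, ∀ y : C, x * y = 1 → y ∈ R
  fin : ∃ (n : ℕ) (b : Fin n → C), ∀ c : C, ∃ r : Fin n → R, c - ∑ i, (r i : C) * b i ∈ maximalIdeal C

variable {R : Subring C}

theorem Good.isLocalHom (h : Good R) : IsLocalHom R.subtype := by
  constructor
  intro x hx
  obtain ⟨y, hy⟩ := isUnit_iff_exists_inv.mp hx
  have hyR := h.inv_mem x x.2 y hy
  exact isUnit_iff_exists_inv.mpr ⟨⟨y, hyR⟩, Subtype.ext hy⟩

theorem Good.isLocalRing (h : Good R) : IsLocalRing R :=
  haveI := h.isLocalHom
  R.subtype.domain_isLocalRing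

theorem Good.finite (h : Good R) : Module.Finite R C := by
  obtain ⟨n, b, hb⟩ := h.fin
  let b' : Fin (n + 1) → C := Fin.cons 1 b
  refine Module.Finite.of_surjective (Fintype.linearCombination R b') ?_
  intro c
  obtain ⟨r, hr⟩ := hb c
  refine ⟨Fin.cons ⟨_, h.max_le _ hr⟩ r, ?_⟩
  rw [Fintype.linearCombination_apply, Fin.sum_univ_succ]
  simp only [b', Fin.cons_zero, Fin.cons_succ]
  simp only [Subring.smul_def, smul_eq_mul, mul_one]
  ring

theorem Good.mem_maximalIdeal_iff (h : Good R) (x : R) :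
    haveI := h.isLocalRing
    x ∈ maximalIdeal R ↔ (x : C) ∈ maximalIdeal C := by
  haveI := h.isLocalRing
  haveI := h.isLocalHom
  rw [mem_maximalIdeal, mem_maximalIdeal, mem_nonunits_iff, mem_nonunits_iff]
  exact not_congr (isUnit_map_iff R.subtype x).symm

theorem Good.isArtinianRing [IsArtinianRing C] (h : Good R) : IsArtinianRing R := by
  haveI := h.isLocalRing
  haveI := h.isLocalHom
  haveI := h.finite
  obtain ⟨n, hn⟩ := (isArtinianRing_iff_isNilpotent_maximalIdeal C).mp inferInstance
  have hinj : Function.Injective R.subtype := Subtype.val_injective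
  -- the maximal ideal of `R` is nilpotent
  have hnil : maximalIdeal R ^ n = ⊥ := by
    rw [eq_bot_iff]
    have h1 : (maximalIdeal R ^ n).map R.subtype ≤ ⊥ := by
      rw [Ideal.map_pow]
      refine le_trans (Ideal.pow_right_mono ?_ n) (le_of_eq (hn.trans Ideal.zero_eq_bot))
      rw [Ideal.map_le_iff_le_comap]
      intro x hx
      exact (h.mem_maximalIdeal_iff x).mp hx
    intro x hx
    have h2 := h1 (Ideal.mem_map_of_mem R.subtype hx)
    rw [Ideal.mem_bot] at h2 ⊢
    exact hinj (by simpa using h2)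
  -- the maximal ideal of `R` is finitely generated
  have hfg : (maximalIdeal R).FG := by
    haveI : Module.Finite C (maximalIdeal C) := Module.Finite.of_fg (IsNoetherian.noetherian _)
    haveI : Module.Finite R (maximalIdeal C) := Module.Finite.trans C _
    let f : maximalIdeal R →ₗ[R] maximalIdeal C :=
      { toFun := fun x => ⟨(x : R), (h.mem_maximalIdeal_iff x).mp x.2⟩
        map_add' := fun x y => rfl
        map_smul' := fun r x => rfl }
    have hf : Function.Bijective f := by
      constructor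
      · intro x y hxy
        have : ((x : R) : C) = ((y : R) : C) := congrArg (fun z : maximalIdeal C => (z : C)) hxy
        exact Subtype.ext (Subtype.ext this)
      · intro y
        refine ⟨⟨⟨y, h.max_le _ y.2⟩, (h.mem_maximalIdeal_iff _).mpr y.2⟩, rfl⟩
    haveI : Module.Finite R (maximalIdeal R) :=
      Module.Finite.equiv (LinearEquiv.ofBijective f hf).symm
    exact Module.Finite.iff_fg.mp inferInstance
  haveI : IsNoetherianRing R := by
    refine IsNoetherianRing.of_prime fun P hP => ?_
    have : P = maximalIdeal R := by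
      refine le_antisymm (le_maximalIdeal hP.ne_top) ?_
      exact hP.le_of_pow_le (hnil.le.trans bot_le)
    rw [this]
    exact hfg
  exact (isArtinianRing_iff_isNilpotent_maximalIdeal R).mpr ⟨n, hnil.trans Ideal.zero_eq_bot.symm⟩

/-- the subring of elements congruent modulo `m_C` to an element of the image of `θ` -/
def sub {A : Type u} [CommRing A] (θ : A →+* C) : Subring C where
  carrier := {c | ∃ y, c - θ y ∈ maximalIdeal C}
  mul_mem' := by
    rintro a b ⟨y, hy⟩ ⟨z, hz⟩
    refine ⟨y * z, ?_⟩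
    have : a * b - θ (y * z) = a * (b - θ z) + θ z * (a - θ y) := by rw [map_mul]; ring
    rw [this]
    exact Ideal.add_mem _ (Ideal.mul_mem_left _ _ hz) (Ideal.mul_mem_left _ _ hy)
  one_mem' := ⟨1, by simp⟩
  add_mem' := by
    rintro a b ⟨y, hy⟩ ⟨z, hz⟩
    refine ⟨y + z, ?_⟩
    have : a + b - θ (y + z) = (a - θ y) + (b - θ z) := by rw [map_add]; ring
    rw [this]
    exact Ideal.add_mem _ hy hz
  zero_mem' := ⟨0, by simp⟩
  neg_mem' := by
    rintro a ⟨y, hy⟩
    refine ⟨-y, ?_⟩
    have : -a - θ (-y) = -(a - θ y) := by rw [map_neg]; ring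
    rw [this]
    exact Ideal.neg_mem_iff _ |>.mpr hy

theorem mem_sub {A : Type u} [CommRing A] (θ : A →+* C) (c : C) :
    c ∈ sub θ ↔ ∃ y, c - θ y ∈ maximalIdeal C := Iff.rfl

theorem map_mem_sub {A : Type u} [CommRing A] (θ : A →+* C) (y : A) : θ y ∈ sub θ :=
  ⟨y, by simp⟩

theorem good_sub {A : Type u} [CommRing A] [IsLocalRing A] (θ : A →+* C) [IsLocalHom θ]
    (hfin : ∃ (n : ℕ) (b : Fin n → C), ∀ c : C, ∃ y : Fin n → A,
      c - ∑ i, θ (y i) * b i ∈ maximalIdeal C) : Good (sub θ) where
  max_le x hx := ⟨0, by simpa using hx⟩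
  inv_mem := by
    rintro x ⟨y, hy⟩ z hxz
    have hxu : IsUnit x := isUnit_iff_exists_inv.mpr ⟨z, hxz⟩
    have hyu : IsUnit (θ y) := by
      by_contra hθ
      have h1 : θ y ∈ maximalIdeal C := (mem_maximalIdeal _).mpr hθ
      have h2 : x ∈ maximalIdeal C := by
        have := Ideal.add_mem _ hy h1
        simpa using this
      exact (mem_maximalIdeal _).mp h2 hxu
    have hyA : IsUnit y := isUnit_of_map_unit θ y hyu
    obtain ⟨w, hw⟩ := isUnit_iff_exists_inv.mp hyA
    refine ⟨w, ?_⟩
    have hθw : θ y * θ w = 1 := by rw [← map_mul, hw, map_one]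
    have : z - θ w = - (z * θ w * (x - θ y)) := by
      have e1 : z * θ w * (x - θ y) = (x * z) * θ w - z * (θ y * θ w) := by ring
      rw [e1, hxz, hθw]; ring
    rw [this]
    exact (Ideal.neg_mem_iff _).mpr (Ideal.mul_mem_left _ _ hy)
  fin := by
    obtain ⟨n, b, hb⟩ := hfin
    refine ⟨n, b, fun c => ?_⟩
    obtain ⟨y, hy⟩ := hb c
    exact ⟨fun i => ⟨θ (y i), map_mem_sub θ (y i)⟩, hy⟩

theorem good_comap {C' : Type u} [CommRing C'] [IsLocalRing C'] (π : C' →+* C)
    (hπ : Function.Surjective π) {R : Subring C} (h : Good R) : Good (R.comap π) := by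
  haveI : IsLocalHom π := IsLocalHom.of_surjective π hπ
  have hmax : ∀ x : C', x ∈ maximalIdeal C' ↔ π x ∈ maximalIdeal C := fun x => by
    rw [← IsLocalRing.maximalIdeal_comap π, Ideal.mem_comap]
  refine ⟨fun x hx => ?_, fun x hx y hxy => ?_, ?_⟩
  · exact h.max_le _ ((hmax x).mp hx)
  · refine h.inv_mem (π x) hx (π y) ?_
    rw [← map_mul, hxy, map_one]
  · obtain ⟨n, b, hb⟩ := h.fin
    choose b' hb' using fun i => hπ (b i)
    refine ⟨n, b', fun c => ?_⟩
    obtain ⟨r, hr⟩ := hb (π c)
    choose r' hr' using fun i => hπ (r i : C)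
    refine ⟨fun i => ⟨r' i, by rw [Subring.mem_comap, hr' i]; exact (r i).2⟩, ?_⟩
    rw [hmax, map_sub, map_sum]
    simp only [map_mul, hr', hb']
    exact hr

end Ring




section Res

variable {A B : Type u} [CommRing A] [CommRing B] [IsLocalRing A] [IsLocalRing B]
  (φ : A →+* B) [IsLocalHom φ]

theorem residue_sub_mem_iff (b : B) (a : A) :
    b - φ a ∈ maximalIdeal B ↔ residue B b = ResidueField.map φ (residue A a) := by
  rw [ResidueField.map_residue, ← sub_eq_zero, ← map_sub, residue_eq_zero_iff]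

theorem surjective_residueMap_iff :
    Function.Surjective (ResidueField.map φ) ↔ ∀ b : B, ∃ a : A, b - φ a ∈ maximalIdeal B := by
  constructor
  · intro h b
    obtain ⟨k, hk⟩ := h (residue B b)
    obtain ⟨a, rfl⟩ := residue_surjective k
    exact ⟨a, (residue_sub_mem_iff φ b a).mpr hk.symm⟩
  · intro h k
    obtain ⟨b, rfl⟩ := residue_surjective k
    obtain ⟨a, ha⟩ := h b
    exact ⟨residue A a, ((residue_sub_mem_iff φ b a).mp ha).symm⟩

theorem exists_of_finite_residueMap (h : (ResidueField.map φ).Finite) :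
    ∃ (n : ℕ) (b : Fin n → B), ∀ c : B, ∃ y : Fin n → A,
      c - ∑ i, φ (y i) * b i ∈ maximalIdeal B := by
  letI := (ResidueField.map φ).toAlgebra
  have hfin : Module.Finite (ResidueField A) (ResidueField B) := h
  obtain ⟨n, s, hs⟩ := Module.Finite.exists_fin (R := ResidueField A) (M := ResidueField B)
  choose b hb using fun i => residue_surjective (s i)
  refine ⟨n, b, fun c => ?_⟩
  have hc : residue B c ∈ Submodule.span (ResidueField A) (Set.range s) := by rw [hs]; trivial
  obtain ⟨l, hl⟩ := (Submodule.mem_span_range_iff_exists_fun _).mp hc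
  choose y hy using fun i => residue_surjective (l i)
  refine ⟨y, ?_⟩
  rw [← residue_eq_zero_iff, map_sub, sub_eq_zero, ← hl, map_sum]
  refine Finset.sum_congr rfl fun i _ => ?_
  rw [map_mul, hb, ← ResidueField.map_residue, hy, Algebra.smul_def]
  rfl

end Res




section Sch

variable {X Y : Scheme.{u}} {R R' : Type u} [CommRing R] [IsLocalRing R] [CommRing R'] [IsLocalRing R']

/-- the morphism `Spec R ⟶ X` attached to a point and a ring map from its stalk -/
noncomputable def mk (x : X) (ψ : X.presheaf.stalk x ⟶ CommRingCat.of R) :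
    Spec (CommRingCat.of R) ⟶ X := Spec.map ψ ≫ X.fromSpecStalk x

theorem exists_mk (f : Spec (CommRingCat.of R) ⟶ X) (x : X) (h : f (closedPoint R) = x) :
    ∃ ψ : X.presheaf.stalk x ⟶ CommRingCat.of R, IsLocalHom ψ.hom ∧ f = mk x ψ := by
  subst h
  exact ⟨Scheme.stalkClosedPointTo f, inferInstance,
    (Scheme.Spec_stalkClosedPointTo_fromSpecStalk f).symm⟩

theorem mk_inj {x : X} {ψ₁ ψ₂ : X.presheaf.stalk x ⟶ CommRingCat.of R} (h : mk x ψ₁ = mk x ψ₂) :
    ψ₁ = ψ₂ := by
  unfold mk at h
  exact Spec.map_injective ((cancel_mono _).mp h)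

theorem specMap_mk (θ : CommRingCat.of R ⟶ CommRingCat.of R') (x : X)
    (ψ : X.presheaf.stalk x ⟶ CommRingCat.of R) :
    Spec.map θ ≫ mk x ψ = mk x (ψ ≫ θ) := by
  unfold mk
  rw [Spec.map_comp, Category.assoc]

theorem mk_comp (g : X ⟶ Y) (x : X) (ψ : X.presheaf.stalk x ⟶ CommRingCat.of R) :
    mk x ψ ≫ g = mk (g x) (g.stalkMap x ≫ ψ) := by
  unfold mk
  rw [Spec.map_comp, Category.assoc, Category.assoc, Scheme.SpecMap_stalkMap_fromSpecStalk]

theorem mk_closedPoint (x : X) (ψ : X.presheaf.stalk x ⟶ CommRingCat.of R) [IsLocalHom ψ.hom] :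
    (mk x ψ) (closedPoint R) = x := by
  unfold mk
  rw [Scheme.Hom.comp_apply, Spec_closedPoint, Scheme.fromSpecStalk_closedPoint]

theorem stalkClosedPointTo_mk (x : X) (ψ : X.presheaf.stalk x ⟶ CommRingCat.of R)
    [hψ : IsLocalHom ψ.hom] :
    (SpecToEquivOfLocalRing X (CommRingCat.of R)) (mk x ψ) = ⟨x, ψ, hψ⟩ :=
  (SpecToEquivOfLocalRing X (CommRingCat.of R)).apply_symm_apply ⟨x, ψ, hψ⟩

/-- transfer of a "span modulo the maximal ideal" condition along a ring isomorphism -/
theorem mem_maximalIdeal_equiv {B B' : Type u} [CommRing B] [CommRing B'] [IsLocalRing B] [IsLocalRing B']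
    (σ : B ≃+* B') (z : B) : σ z ∈ maximalIdeal B' ↔ z ∈ maximalIdeal B := by
  rw [mem_maximalIdeal, mem_maximalIdeal, mem_nonunits_iff, mem_nonunits_iff]
  exact not_congr (isUnit_map_iff σ z)

theorem resSurj_iff (f : Spec (CommRingCat.of R) ⟶ X) :
    Function.Surjective (f.residueFieldMap (closedPoint R)).hom ↔
      ∀ r : R, ∃ y, r - (Scheme.stalkClosedPointTo f).hom y ∈ maximalIdeal R := by
  let σ : (Spec (CommRingCat.of R)).presheaf.stalk (closedPoint R) ≃+* R :=
    (stalkClosedPointIso (CommRingCat.of R)).commRingCatIsoToRingEquiv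
  have hσ : ∀ y, (Scheme.stalkClosedPointTo f).hom y = σ ((f.stalkMap (closedPoint R)).hom y) :=
    fun y => rfl
  change Function.Surjective (ResidueField.map (f.stalkMap (closedPoint R)).hom) ↔ _
  rw [surjective_residueMap_iff]
  constructor
  · intro h r
    obtain ⟨y, hy⟩ := h (σ.symm r)
    refine ⟨y, ?_⟩
    rw [hσ, ← mem_maximalIdeal_equiv σ.symm, map_sub, RingEquiv.symm_apply_apply]
    exact hy
  · intro h c
    obtain ⟨y, hy⟩ := h (σ c)
    refine ⟨y, ?_⟩
    rw [hσ, ← map_sub, mem_maximalIdeal_equiv] at hy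
    exact hy

theorem exists_of_finite (f : Spec (CommRingCat.of R) ⟶ X)
    (h : (f.residueFieldMap (closedPoint R)).hom.Finite) :
    ∃ (n : ℕ) (b : Fin n → R), ∀ c : R, ∃ y : Fin n → X.presheaf.stalk (f (closedPoint R)),
      c - ∑ i, (Scheme.stalkClosedPointTo f).hom (y i) * b i ∈ maximalIdeal R := by
  let σ : (Spec (CommRingCat.of R)).presheaf.stalk (closedPoint R) ≃+* R :=
    (stalkClosedPointIso (CommRingCat.of R)).commRingCatIsoToRingEquiv
  have hσ : ∀ y, (Scheme.stalkClosedPointTo f).hom y = σ ((f.stalkMap (closedPoint R)).hom y) :=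
    fun y => rfl
  have h' : (ResidueField.map (f.stalkMap (closedPoint R)).hom).Finite := h
  obtain ⟨n, b, hb⟩ := exists_of_finite_residueMap _ h'
  refine ⟨n, fun i => σ (b i), fun c => ?_⟩
  obtain ⟨y, hy⟩ := hb (σ.symm c)
  refine ⟨y, ?_⟩
  rw [← mem_maximalIdeal_equiv σ.symm, map_sub, map_sum]
  simp only [hσ, map_mul, RingEquiv.symm_apply_apply]
  exact hy

theorem surjective_residueFieldMap_mk (x : X) (ψ : X.presheaf.stalk x ⟶ CommRingCat.of R)
    [hψ : IsLocalHom ψ.hom] (h : ∀ r : R, ∃ y, r - ψ.hom y ∈ maximalIdeal R) :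
    Function.Surjective ((mk x ψ).residueFieldMap (closedPoint R)).hom := by
  rw [resSurj_iff]
  have key : ∀ σ : (Σ x, { f : X.presheaf.stalk x ⟶ CommRingCat.of R // IsLocalHom f.hom }),
      σ = ⟨x, ψ, hψ⟩ → ∀ r : R, ∃ y, r - σ.2.1.hom y ∈ maximalIdeal R := by
    rintro _ rfl
    exact h
  exact key _ (stalkClosedPointTo_mk x ψ)

end Sch




theorem desc {S T : Scheme.{u}} (g : T ⟶ S) (t : T)
    (hT : ∀ (C C' : Type u) [CommRing C] [CommRing C'] [IsLocalRing C] [IsLocalRing C'] [IsArtinianRing C]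
        [IsArtinianRing C'] (π : C' →+* C), Function.Surjective π →
        ∀ (a : Spec (CommRingCat.of C) ⟶ T) (b : Spec (CommRingCat.of C') ⟶ S),
          a (IsLocalRing.closedPoint C) = t →
          Function.Surjective (a.residueFieldMap (IsLocalRing.closedPoint C)).hom →
          Spec.map (CommRingCat.ofHom π) ≫ b = a ≫ g →
          ∃ c : Spec (CommRingCat.of C') ⟶ T, Spec.map (CommRingCat.ofHom π) ≫ c = a ∧ c ≫ g = b)
    (C C' : Type u) [CommRing C] [CommRing C'] [IsLocalRing C] [IsLocalRing C'] [IsArtinianRing C]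
    [IsArtinianRing C'] (π : C' →+* C) (hπ : Function.Surjective π)
    (a : Spec (CommRingCat.of C) ⟶ T) (b : Spec (CommRingCat.of C') ⟶ S)
    (ha : a (closedPoint C) = t) (hfin : (a.residueFieldMap (closedPoint C)).hom.Finite)
    (hab : Spec.map (CommRingCat.ofHom π) ≫ b = a ≫ g) :
    ∃ c : Spec (CommRingCat.of C') ⟶ T, Spec.map (CommRingCat.ofHom π) ≫ c = a ∧ c ≫ g = b := by
  subst ha
  haveI hπloc : IsLocalHom (CommRingCat.ofHom π).hom := IsLocalHom.of_surjective π hπ
  -- the stalk description of `a`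
  have hθ : mk (a (closedPoint C)) (Scheme.stalkClosedPointTo a) = a :=
    Scheme.Spec_stalkClosedPointTo_fromSpecStalk a
  obtain ⟨n, bb, hbb⟩ := exists_of_finite a hfin
  -- the subrings
  have hD : Good (sub (Scheme.stalkClosedPointTo a).hom) := good_sub _ ⟨n, bb, hbb⟩
  have hD' : Good ((sub (Scheme.stalkClosedPointTo a).hom).comap π) := good_comap π hπ hD
  haveI := hD.isLocalRing
  haveI := hD.isArtinianRing
  haveI := hD'.isLocalRing
  haveI := hD'.isArtinianRing
  haveI := hD.isLocalHom
  haveI := hD'.isLocalHom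
  -- the stalk description of `b`
  have hbpt : b (closedPoint C') = g (a (closedPoint C)) := by
    have h1 := congrArg (fun f : Spec (CommRingCat.of C) ⟶ S => f (closedPoint C)) hab
    simp only [Scheme.Hom.comp_apply] at h1
    rw [Spec_closedPoint] at h1
    exact h1
  obtain ⟨β, hβloc, hb⟩ := exists_mk b _ hbpt
  have hR2 : β ≫ CommRingCat.ofHom π = g.stalkMap _ ≫ Scheme.stalkClosedPointTo a := by
    apply mk_inj
    rw [← specMap_mk, ← hb, hab, ← mk_comp, hθ]
  have hR2' : ∀ z, π (β.hom z) = (Scheme.stalkClosedPointTo a).hom ((g.stalkMap _).hom z) :=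
    fun z => congrArg (fun f => f.hom z) hR2
  -- notation
  set θ := (Scheme.stalkClosedPointTo a).hom with hθdef
  -- the restricted maps
  let ρ : ((sub θ).comap π) →+* (sub θ) :=
    (π.comp ((sub θ).comap π).subtype).codRestrict (sub θ) (fun x => x.2)
  have hρ : Function.Surjective ρ := by
    rintro ⟨d, hd⟩
    obtain ⟨c', rfl⟩ := hπ d
    exact ⟨⟨c', hd⟩, rfl⟩
  let α₀ : T.presheaf.stalk (a (closedPoint C)) ⟶ CommRingCat.of (sub θ) :=
    CommRingCat.ofHom (θ.codRestrict (sub θ) (map_mem_sub θ))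
  let β₀ : S.presheaf.stalk (g (a (closedPoint C))) ⟶ CommRingCat.of ((sub θ).comap π) :=
    CommRingCat.ofHom (β.hom.codRestrict ((sub θ).comap π) (fun z => by
      rw [Subring.mem_comap, hR2']
      exact map_mem_sub θ _))
  haveI hα₀loc : IsLocalHom α₀.hom := by
    constructor
    intro y hy
    have h1 : IsUnit ((sub θ).subtype (α₀.hom y)) := hy.map _
    exact isUnit_of_map_unit θ y h1
  haveI hβ₀loc : IsLocalHom β₀.hom := by
    constructor
    intro z hz
    have h1 : IsUnit (((sub θ).comap π).subtype (β₀.hom z)) := hz.map _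
    exact isUnit_of_map_unit β.hom z h1
  have hαι : α₀ ≫ CommRingCat.ofHom (sub θ).subtype = Scheme.stalkClosedPointTo a := by
    ext y; rfl
  have hβι : β₀ ≫ CommRingCat.ofHom ((sub θ).comap π).subtype = β := by
    ext z; rfl
  have hρι : CommRingCat.ofHom ((sub θ).comap π).subtype ≫ CommRingCat.ofHom π =
      CommRingCat.ofHom ρ ≫ CommRingCat.ofHom (sub θ).subtype := by
    ext x; rfl
  have hβρ : β₀ ≫ CommRingCat.ofHom ρ = g.stalkMap _ ≫ α₀ := by
    ext z
    exact hR2' z
  -- apply versality
  obtain ⟨c₀, hc1, hc2⟩ := hT (sub θ) ((sub θ).comap π) ρ hρ (mk _ α₀) (mk _ β₀)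
    (mk_closedPoint _ α₀)
    (surjective_residueFieldMap_mk _ α₀ (fun d => by
      obtain ⟨y, hy⟩ := d.2
      exact ⟨y, (hD.mem_maximalIdeal_iff _).mpr hy⟩))
    (by rw [specMap_mk, mk_comp, hβρ])
  refine ⟨Spec.map (CommRingCat.ofHom ((sub θ).comap π).subtype) ≫ c₀, ?_, ?_⟩
  · rw [← Category.assoc, ← Spec.map_comp, hρι, Spec.map_comp, Category.assoc, hc1, specMap_mk,
      hαι, hθ]
  · rw [Category.assoc, hc2, specMap_mk, hβι, hb]




/-- residue field extensions of an unramified morphism locally of finite type are finite -/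
theorem finite_residueFieldMap {X Y : Scheme.{u}} (f : X ⟶ Y) [FormallyUnramified f]
    [LocallyOfFiniteType f] (x : X) : (f.residueFieldMap x).hom.Finite := by
  algebraize [(f.stalkMap x).hom]
  have : IsLocalHom (algebraMap (Y.presheaf.stalk (f x)) (X.presheaf.stalk x)) :=
    inferInstanceAs <| IsLocalHom (f.stalkMap x).hom
  have : Algebra.EssFiniteType (Y.presheaf.stalk (f x)) (X.presheaf.stalk x) := by
    rw [← RingHom.essFiniteType_algebraMap, RingHom.algebraMap_toAlgebra]
    exact LocallyOfFiniteType.stalkMap f x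
  have : Algebra.FormallyUnramified (Y.presheaf.stalk (f x)) (X.presheaf.stalk x) := by
    rw [← RingHom.formallyUnramified_algebraMap, RingHom.algebraMap_toAlgebra]
    exact FormallyUnramified.stalkMap f x
  have h : Module.Finite (IsLocalRing.ResidueField <| Y.presheaf.stalk (f x))
      (IsLocalRing.ResidueField <| X.presheaf.stalk x) := inferInstance
  have h2 := RingHom.finite_algebraMap.mpr h
  convert! h2

theorem exists_lift_of_formallySmooth {A B C C' : Type u} [CommRing A] [CommRing B] [CommRing C]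
    [CommRing C'] (ψ : A →+* B) (hψ : ψ.FormallySmooth) (π : C' →+* C)
    (hπ : Function.Surjective π) (hnil : IsNilpotent (RingHom.ker π)) (α : B →+* C) (μ : A →+* C')
    (h : π.comp μ = α.comp ψ) : ∃ l : B →+* C', π.comp l = α ∧ l.comp ψ = μ := by
  letI := ψ.toAlgebra
  haveI : Algebra.FormallySmooth A B := hψ
  letI : Algebra A C' := μ.toAlgebra
  letI : Algebra A C := (α.comp ψ).toAlgebra
  let πₐ : C' →ₐ[A] C := ⟨π, fun r => congrArg (fun f : A →+* C => f r) h⟩
  let αₐ : B →ₐ[A] C := ⟨α, fun r => rfl⟩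
  let l := Algebra.FormallySmooth.liftOfSurjective αₐ πₐ hπ hnil
  refine ⟨l.toRingHom, ?_, ?_⟩
  · ext x
    exact Algebra.FormallySmooth.liftOfSurjective_apply αₐ πₐ hπ hnil x
  · ext r
    exact l.commutes r

theorem isNilpotent_ker {C C' : Type u} [CommRing C] [CommRing C'] [IsLocalRing C] [IsLocalRing C']
    [IsArtinianRing C'] (π : C' →+* C) : IsNilpotent (RingHom.ker π) := by
  obtain ⟨n, hn⟩ := (isArtinianRing_iff_isNilpotent_maximalIdeal C').mp inferInstance
  refine ⟨n, ?_⟩
  rw [Ideal.zero_eq_bot, eq_bot_iff, ← Ideal.zero_eq_bot, ← hn]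
  exact Ideal.pow_right_mono (le_maximalIdeal (RingHom.ker_ne_top π)) n




theorem etale_lift {S T U : Scheme.{u}} (g : T ⟶ S) (e : U ⟶ T) [Etale e] (u : U)
    (hT : ∀ (C C' : Type u) [CommRing C] [CommRing C'] [IsLocalRing C] [IsLocalRing C'] [IsArtinianRing C]
        [IsArtinianRing C'] (π : C' →+* C), Function.Surjective π →
        ∀ (a : Spec (CommRingCat.of C) ⟶ T) (b : Spec (CommRingCat.of C') ⟶ S),
          a (IsLocalRing.closedPoint C) = e u →
          Function.Surjective (a.residueFieldMap (IsLocalRing.closedPoint C)).hom →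
          Spec.map (CommRingCat.ofHom π) ≫ b = a ≫ g →
          ∃ c : Spec (CommRingCat.of C') ⟶ T, Spec.map (CommRingCat.ofHom π) ≫ c = a ∧ c ≫ g = b)
    (C C' : Type u) [CommRing C] [CommRing C'] [IsLocalRing C] [IsLocalRing C'] [IsArtinianRing C]
    [IsArtinianRing C'] (π : C' →+* C) (hπ : Function.Surjective π)
    (a : Spec (CommRingCat.of C) ⟶ U) (b : Spec (CommRingCat.of C') ⟶ S)
    (ha : a (closedPoint C) = u)
    (hres : Function.Surjective (a.residueFieldMap (closedPoint C)).hom)
    (hab : Spec.map (CommRingCat.ofHom π) ≫ b = a ≫ (e ≫ g)) :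
    ∃ c : Spec (CommRingCat.of C') ⟶ U, Spec.map (CommRingCat.ofHom π) ≫ c = a ∧
      c ≫ (e ≫ g) = b := by
  subst ha
  haveI hπloc : IsLocalHom (CommRingCat.ofHom π).hom := IsLocalHom.of_surjective π hπ
  -- finiteness of the residue field extension of `a ≫ e`
  have hfin : ((a ≫ e).residueFieldMap (closedPoint C)).hom.Finite := by
    rw [Scheme.residueFieldMap_comp]
    exact RingHom.Finite.comp (RingHom.Finite.of_surjective _ hres) (finite_residueFieldMap e _)
  obtain ⟨c₁, hc1, hc2⟩ := desc g (e (a (closedPoint C))) hT C C' π hπ (a ≫ e) b rfl hfin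
    (by rw [hab, Category.assoc])
  -- stalk descriptions
  have hα : mk (a (closedPoint C)) (Scheme.stalkClosedPointTo a) = a :=
    Scheme.Spec_stalkClosedPointTo_fromSpecStalk a
  have hc₁pt : c₁ (closedPoint C') = e (a (closedPoint C)) := by
    have h1 := congrArg (fun f : Spec (CommRingCat.of C) ⟶ T => f (closedPoint C)) hc1
    simp only [Scheme.Hom.comp_apply] at h1
    rw [Spec_closedPoint] at h1
    exact h1
  obtain ⟨μ, hμloc, hμ⟩ := exists_mk c₁ _ hc₁pt
  have hR3 : μ ≫ CommRingCat.ofHom π = e.stalkMap _ ≫ Scheme.stalkClosedPointTo a := by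
    apply mk_inj
    rw [← specMap_mk, ← hμ, hc1, ← mk_comp, hα]
  have hsm : (e.stalkMap (a (closedPoint C))).hom.FormallySmooth := by
    have h1 := e.smoothLocus_eq_top
    have h2 : a (closedPoint C) ∈ e.smoothLocus := by rw [h1]; trivial
    exact Scheme.Hom.mem_smoothLocus.mp h2
  obtain ⟨l, hl1, hl2⟩ := exists_lift_of_formallySmooth _ hsm π hπ (isNilpotent_ker π)
    (Scheme.stalkClosedPointTo a).hom μ.hom (by
      have := congrArg CommRingCat.Hom.hom hR3
      simpa using this)
  refine ⟨mk _ (CommRingCat.ofHom l), ?_, ?_⟩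
  · rw [specMap_mk]
    have : CommRingCat.ofHom l ≫ CommRingCat.ofHom π = Scheme.stalkClosedPointTo a := by
      ext x
      exact congrArg (fun f : _ →+* C => f x) hl1
    exact (congrArg (mk _) this).trans hα
  · rw [← Category.assoc, mk_comp]
    have : e.stalkMap _ ≫ CommRingCat.ofHom l = μ := by
      ext x
      exact congrArg (fun f : _ →+* C' => f x) hl2
    rw [(congrArg (mk _) this).trans hμ.symm, hc2]


end Groth.Agent.Helper13ArtinLift
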