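import Mathlib

set_option autoImplicit false

namespace Groth.Agent.Helper13RL

open CategoryTheory CategoryTheory.Limits AlgebraicGeometry Opposite TopologicalSpace

universe u

section SchemeGeneral

/-- a property respecting isomorphisms holds for the restriction over the range of an open immersion
iff it holds for the other side of a pullback square -/
theorem restrict_iff_of_isPullback (P : MorphismProperty Scheme.{u}) [P.RespectsIso]
    {U V X Y : Scheme.{u}} {g : U ⟶ V} {iU : U ⟶ X} {iV : V ⟶ Y} {f : X ⟶ Y}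
    [IsOpenImmersion iV] (h : IsPullback g iU iV f) :
    P (f ∣_ iV.opensRange) ↔ P g := by
  rw [P.arrow_mk_iso_iff (morphismRestrictOpensRange f iV)]
  have e : h.flip.isoPullback.hom ≫ pullback.snd f iV = g := h.flip.isoPullback_hom_snd
  rw [← e, P.cancel_left_of_respectsIso]

theorem specMap_isClosedImmersion_iff {R S : CommRingCat.{u}} (f : R ⟶ S) :
    IsClosedImmersion (Spec.map f) ↔ Function.Surjective f.hom := by
  constructor
  · intro h
    have h2 := (IsClosedImmersion.isAffine_surjective_of_isAffine (Spec.map f)).2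
    have hnat : (Spec.map f).appTop ≫ (Scheme.ΓSpecIso S).hom = (Scheme.ΓSpecIso R).hom ≫ f :=
      Scheme.ΓSpecIso_naturality f
    intro y
    obtain ⟨x, hx⟩ := h2 ((Scheme.ΓSpecIso S).inv.hom y)
    refine ⟨(Scheme.ΓSpecIso R).hom.hom x, ?_⟩
    have := congr_arg (fun t => t.hom x) hnat
    simp only [CommRingCat.hom_comp, RingHom.comp_apply] at this
    rw [← this, hx]
    exact congr_arg (fun t => t.hom y) (Scheme.ΓSpecIso S).inv_hom_id
  · intro h
    exact IsClosedImmersion.spec_of_surjective f h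

/-- an immersion restricts to a closed immersion over opens inside the coborder of its range -/
theorem isClosedImmersion_restrict_of_le_coborder {X Y : Scheme.{u}} (f : X ⟶ Y) [IsImmersion f]
    (D : Y.Opens) (hD : D ≤ f.coborderRange) : IsClosedImmersion (f ∣_ D) := by
  have H : (f ⁻¹ᵁ D).ι ≫ f.liftCoborder = (f ∣_ D) ≫ Y.homOfLE hD := by
    rw [← cancel_mono f.coborderRange.ι, Category.assoc, Category.assoc, f.liftCoborder_ι,
      Scheme.homOfLE_ι, morphismRestrict_ι]
  have H' : f.liftCoborder ⁻¹ᵁ (Y.homOfLE hD).opensRange = (f ⁻¹ᵁ D).ι.opensRange := by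
    rw [f.liftCoborder_preimage, ← Scheme.Hom.opensRange_comp, Scheme.Opens.opensRange_ι]
    congr 1
    have : (Y.homOfLE hD ≫ f.coborderRange.ι).opensRange = D.ι.opensRange := by
      apply Opens.ext
      simp only [Scheme.Hom.coe_opensRange]
      rw [Scheme.homOfLE_ι]
    rw [this, Scheme.Opens.opensRange_ι]
  have hpb := IsOpenImmersion.isPullback (f ∣_ D) (f ⁻¹ᵁ D).ι (Y.homOfLE hD) f.liftCoborder H H'
  exact IsZariskiLocalAtTarget.of_isPullback (P := @IsClosedImmersion) hpb.flip inferInstance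

/-- an open immersion restricts to an isomorphism over opens inside its range -/
theorem isIso_restrict_of_le_opensRange {X Y : Scheme.{u}} (f : X ⟶ Y) [IsOpenImmersion f]
    (D : Y.Opens) (hD : D ≤ f.opensRange) : IsIso (f ∣_ D) := by
  haveI : IsOpenImmersion (f ∣_ D) :=
    IsZariskiLocalAtTarget.restrict (P := @IsOpenImmersion) (f := f) ‹_› D
  haveI : Epi (f ∣_ D).base := by
    rw [TopCat.epi_iff_surjective]
    rintro ⟨d, hd⟩
    obtain ⟨x, rfl⟩ := hD hd
    refine ⟨⟨x, hd⟩, ?_⟩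
    apply Subtype.ext
    rw [morphismRestrict_base_coe]
  exact IsOpenImmersion.isIso _

end SchemeGeneral

open HomogeneousLocalization

section Pure3

variable {A B σ τ : Type u} [CommRing A] [SetLike σ A] [AddSubgroupClass σ A]
  [CommRing B] [SetLike τ B] [AddSubgroupClass τ B]
  {𝒜 : ℕ → σ} {ℬ : ℕ → τ} [GradedRing 𝒜] [GradedRing ℬ] (φ : 𝒜 →+*ᵍ ℬ)

theorem awayMk_eq_zero_iff {n : ℕ} {s : A} (hs : s ∈ 𝒜 n) (m : ℕ) (a : A) (ha : a ∈ 𝒜 (m • n)) :
    Away.mk 𝒜 hs m a ha = 0 ↔ ∃ k : ℕ, s ^ k * a = 0 := by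
  rw [← (HomogeneousLocalization.val_injective (Submonoid.powers s)).eq_iff, Away.val_mk,
    HomogeneousLocalization.val_zero, Localization.mk_eq_mk'_apply, IsLocalization.mk'_eq_zero_iff]
  constructor
  · rintro ⟨⟨_, k, rfl⟩, hk⟩
    exact ⟨k, hk⟩
  · rintro ⟨k, hk⟩
    exact ⟨⟨s ^ k, k, rfl⟩, hk⟩

/-- condition (iv): injectivity of the map of degree-zero localizations -/
theorem awayMap_injective_iff {n : ℕ} {s : A} (hs : s ∈ 𝒜 n) :
    Function.Injective (Away.map φ s) ↔
      ∀ (m : ℕ), 0 < m → ∀ a ∈ 𝒜 (m * n), φ a = 0 → ∃ k : ℕ, 0 < k ∧ s ^ k * a = 0 := by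
  constructor
  · intro hinj m hm a ha hφa
    have ha' : a ∈ 𝒜 (m • n) := by rwa [smul_eq_mul]
    have h0 : Away.map φ s (Away.mk 𝒜 hs m a ha') = 0 := by
      rw [Away.map_mk, awayMk_eq_zero_iff]
      exact ⟨0, by rw [hφa, mul_zero]⟩
    have h1 : Away.mk 𝒜 hs m a ha' = 0 := hinj (by rw [h0, map_zero])
    obtain ⟨k, hk⟩ := (awayMk_eq_zero_iff hs m a ha').mp h1
    exact ⟨k + 1, Nat.succ_pos _, by rw [pow_succ, mul_assoc, mul_comm s, ← mul_assoc, hk, zero_mul]⟩
  · intro H
    rw [injective_iff_map_eq_zero]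
    intro α hα
    obtain ⟨m, a, ha, rfl⟩ := Away.mk_surjective 𝒜 hs α
    rw [Away.map_mk, awayMk_eq_zero_iff] at hα
    obtain ⟨k, hk⟩ := hα
    have h1 : s ^ (k + 1) * a ∈ 𝒜 ((k + 1 + m) * n) := by
      have h2 : s ^ (k + 1) ∈ 𝒜 ((k + 1) • n) := SetLike.pow_mem_graded _ hs
      have h3 := SetLike.mul_mem_graded h2 ha
      have e : (k + 1) • n + m • n = (k + 1 + m) * n := by
        simp only [smul_eq_mul]; ring
      rwa [e] at h3
    have h4 : φ (s ^ (k + 1) * a) = 0 := by
      rw [map_mul, map_pow, pow_succ, mul_assoc, mul_comm (φ s), ← mul_assoc, hk, zero_mul]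
    obtain ⟨k', -, hk'⟩ := H (k + 1 + m) (by omega) _ h1 h4
    rw [awayMk_eq_zero_iff]
    exact ⟨k' + (k + 1), by rw [pow_add, mul_assoc, hk']⟩

end Pure3

end Groth.Agent.Helper13RL
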