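import Groth.Agent.Lib.Helper13KzDescC
import Groth.Agent.Lib.Helper5KzLocal
import Groth.Agent.Lib.Helper13RLf

/-!
# Koszul-regular immersions: affine communication and fpqc descent (helper13)
-/

set_option autoImplicit false
set_option linter.style.haveILetI false
universe u

open AlgebraicGeometry CategoryTheory CategoryTheory.Limits TopologicalSpace

namespace Groth.Agent.Helper13KzSch

open Groth.Agent.Lib.Helper5.ImmBC Groth.Agent.Lib.Helper5.KindFlat Groth.Agent.Lib.Helper5.KzIdeal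

/-- **Affine communication, 1.** If `i` restricts to a closed immersion over the affine open `U` and is
a Koszul-regular immersion at all points over `U`, then the ideal of `i` on `U` is Koszul-regular. -/
theorem isKoszulRegularIdeal_ker_of_isRegularImmersionAt {Z X : Scheme.{u}} (i : Z ⟶ X)
    {U : X.Opens} (hU : IsAffineOpen U) [hcl : IsClosedImmersion (i ∣_ U)]
    (h : ∀ z : Z, i z ∈ U → RegImm.IsRegularImmersionAt .koszul i z) :
    LCI.IsKoszulRegularIdeal (RingHom.ker (i.app U).hom) := by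
  rw [kr_iff]
  intro 𝔭 h𝔭 hI
  have hW := isAffineOpen_preimage_of_isClosedImmersion_restrict i hU
  have hsurj := app_surjective_of_isClosedImmersion_restrict i hU
  have hmem : (⟨𝔭, h𝔭⟩ : PrimeSpectrum Γ(X, U)) ∈
      PrimeSpectrum.zeroLocus (RingHom.ker (i.app U).hom : Set Γ(X, U)) := hI
  rw [← range_comap_of_surjective _ _ hsurj] at hmem
  obtain ⟨𝔮, h𝔮⟩ := hmem
  have hz : i (hW.fromSpec 𝔮) = hU.fromSpec ⟨𝔭, h𝔭⟩ := by
    have h1 := IsAffineOpen.SpecMap_appLE_fromSpec i hU hW le_rfl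
    have h2 := congr($h1 𝔮)
    simp only [Scheme.Hom.comp_apply] at h2
    rw [← h2, Scheme.Hom.appLE_eq_app]
    congr 1
  have hzU : i (hW.fromSpec 𝔮) ∈ U := by
    rw [hz]
    have := hU.range_fromSpec
    rw [← SetLike.mem_coe, ← this]
    exact ⟨_, rfl⟩
  obtain ⟨⟨V, hV⟩, hzV, hclV, rs, hrs, hker⟩ := h _ hzU
  simp only at hzV hclV hrs hker
  haveI := hclV
  obtain ⟨f, g, hfg, hxf⟩ := exists_basicOpen_le_affine_inter hU hV (i (hW.fromSpec 𝔮)) ⟨hzU, hzV⟩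
  have hD : IsAffineOpen (X.basicOpen f) := hU.basicOpen f
  have hDV : X.basicOpen f ≤ V := hfg ▸ X.basicOpen_le g
  have hDU : X.basicOpen f ≤ U := X.basicOpen_le f
  obtain ⟨hcl₁, hker₁⟩ := restrict_baseChange (IsPullback.id_horiz i) hV hD
    (show X.basicOpen f ≤ (𝟙 X) ⁻¹ᵁ V from hDV)
  obtain ⟨hcl₂, hker₂⟩ := restrict_baseChange (IsPullback.id_horiz i) hU hD
    (show X.basicOpen f ≤ (𝟙 X) ⁻¹ᵁ U from hDU)
  have hfl : ((𝟙 X : X ⟶ X).appLE V (X.basicOpen f) hDV).hom.Flat :=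
    Scheme.Hom.flat_appLE (𝟙 X) hV hD _
  refine ⟨f, ?_, Γ(X, X.basicOpen f), inferInstance, inferInstance, hU.isLocalization_basicOpen f,
    rs.map ((𝟙 X : X ⟶ X).appLE V (X.basicOpen f) hDV).hom,
    isKoszulRegularSeq_map_of_flat _ hfl rs hrs, ?_⟩
  · intro hf𝔭
    rw [hz] at hxf
    have h3 : (⟨𝔭, h𝔭⟩ : PrimeSpectrum Γ(X, U)) ∈ hU.fromSpec ⁻¹ᵁ X.basicOpen f := hxf
    rw [hU.fromSpec_preimage_basicOpen] at h3
    exact h3 hf𝔭
  · rw [← Ideal.map_ofList, ← hker, ← hker₁, hker₂]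
    congr 1

/-- **Affine communication, 2.** If `i` restricts to a closed immersion over the affine open `U` with
Koszul-regular ideal, then `i` is a Koszul-regular immersion at all points over `U`. -/
theorem isRegularImmersionAt_of_isKoszulRegularIdeal_ker {Z X : Scheme.{u}} (i : Z ⟶ X)
    {U : X.Opens} (hU : IsAffineOpen U) [hcl : IsClosedImmersion (i ∣_ U)]
    (h : LCI.IsKoszulRegularIdeal (RingHom.ker (i.app U).hom)) (z : Z) (hz : i z ∈ U) :
    RegImm.IsRegularImmersionAt .koszul i z := by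
  have hI : RingHom.ker (i.app U).hom ≤ (hU.primeIdealOf ⟨i z, hz⟩).asIdeal := by
    intro a ha
    by_contra hna
    have h1 : hU.primeIdealOf ⟨i z, hz⟩ ∈ hU.fromSpec ⁻¹ᵁ X.basicOpen a := by
      rw [hU.fromSpec_preimage_basicOpen]
      exact hna
    have h2 : i z ∈ X.basicOpen a := by
      have : hU.fromSpec (hU.primeIdealOf ⟨i z, hz⟩) ∈ X.basicOpen a := h1
      rwa [hU.fromSpec_primeIdealOf] at this
    have h3 : z ∈ i ⁻¹ᵁ X.basicOpen a := h2
    rw [Scheme.preimage_basicOpen] at h3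
    have h4 : (i.app U).hom a = 0 := ha
    rw [h4, Scheme.basicOpen_zero] at h3
    exact h3
  obtain ⟨g₀, hg₀, l, hl, hIl⟩ := h (hU.primeIdealOf ⟨i z, hz⟩) hI
  have hD : IsAffineOpen (X.basicOpen g₀) := hU.basicOpen g₀
  have hDU : X.basicOpen g₀ ≤ U := X.basicOpen_le g₀
  have hzD : i z ∈ X.basicOpen g₀ := by
    have h1 : hU.primeIdealOf ⟨i z, hz⟩ ∈ hU.fromSpec ⁻¹ᵁ X.basicOpen g₀ := by
      rw [hU.fromSpec_preimage_basicOpen]
      exact hg₀
    have : hU.fromSpec (hU.primeIdealOf ⟨i z, hz⟩) ∈ X.basicOpen g₀ := h1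
    rwa [hU.fromSpec_primeIdealOf] at this
  obtain ⟨hcl₂, hker₂⟩ := restrict_baseChange (IsPullback.id_horiz i) hU hD
    (show X.basicOpen g₀ ≤ (𝟙 X) ⁻¹ᵁ U from hDU)
  haveI := hU.isLocalization_basicOpen g₀
  let e : Localization.Away g₀ ≃ₐ[Γ(X, U)] Γ(X, X.basicOpen g₀) :=
    IsLocalization.algEquiv (Submonoid.powers g₀) _ _
  refine ⟨⟨X.basicOpen g₀, hD⟩, hzD, hcl₂, l.map e,
    isKoszulRegularSeq_map_ringEquiv e.toRingEquiv l hl, ?_⟩
  change RingHom.ker (i.app (X.basicOpen g₀)).hom = _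
  have h1 : algebraMap Γ(X, U) Γ(X, X.basicOpen g₀) =
      (e.toRingEquiv : Localization.Away g₀ →+* Γ(X, X.basicOpen g₀)).comp
        (algebraMap Γ(X, U) (Localization.Away g₀)) := by
    ext a
    exact (e.commutes a).symm
  have h2 : ((𝟙 X : X ⟶ X).appLE U (X.basicOpen g₀) hDU).hom =
      algebraMap Γ(X, U) Γ(X, X.basicOpen g₀) := by
    congr 1
  rw [hker₂, h2, h1, ← Ideal.map_map, hIl, ← Ideal.ofList, Ideal.map_ofList]
  rfl

end Groth.Agent.Helper13KzSch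

namespace Groth.Agent.Helper13KzSch

open Groth.Agent.Lib.Helper5.ImmBC Groth.Agent.Lib.Helper5.KindFlat Groth.Agent.Lib.Helper5.KzIdeal

/-- an affine open neighbourhood over which an immersion is a closed immersion -/
theorem exists_affine_isClosedImmersion {Y X : Scheme.{u}} (i : Y ⟶ X) [IsImmersion i] (z : Y) :
    ∃ U : X.Opens, IsAffineOpen U ∧ i z ∈ U ∧ IsClosedImmersion (i ∣_ U) := by
  have hmem : i z ∈ (i.coborderRange : Set X) := subset_coborder ⟨z, rfl⟩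
  obtain ⟨_, ⟨U, hU, rfl⟩, hzU, hle⟩ :=
    X.isBasis_affineOpens.exists_subset_of_mem_open hmem i.coborderRange.2
  exact ⟨U, hU, hzU, Groth.Agent.Helper13RL.isClosedImmersion_restrict_of_le_coborder i U hle⟩

/-- a quasi-compact flat surjective morphism is dominated, over an affine open of the target, by a
faithfully flat map of rings -/
theorem exists_affine_faithfullyFlat {X X' : Scheme.{u}} (g : X' ⟶ X) [Flat g] [Surjective g]
    [QuasiCompact g] {U : X.Opens} (hU : IsAffineOpen U) :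
    ∃ (T : Scheme.{u}) (q : T ⟶ X') (_ : IsAffine T) (_ : Flat q) (e : ⊤ ≤ (q ≫ g) ⁻¹ᵁ U),
      ((q ≫ g).appLE U ⊤ e).hom.FaithfullyFlat := by
  haveI : CompactSpace ((g ⁻¹ᵁ U : X'.Opens) : Scheme.{u}) :=
    isCompact_iff_compactSpace.mp (QuasiCompact.isCompact_preimage (f := g) _ U.2 hU.isCompact)
  obtain ⟨T, p, hsurj, hloc, hT⟩ :=
    Scheme.exists_hom_isAffine_of_isZariskiLocalAtSource @IsLocalIso ((g ⁻¹ᵁ U : X'.Opens) : Scheme)
  haveI : Flat p := IsLocalIso.le_of_isZariskiLocalAtSource @Flat _ _ p hloc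
  have e : ⊤ ≤ ((p ≫ (g ⁻¹ᵁ U).ι) ≫ g) ⁻¹ᵁ U := by
    intro t _
    change g ((g ⁻¹ᵁ U).ι (p t)) ∈ U
    exact (p t).2
  refine ⟨T, p ≫ (g ⁻¹ᵁ U).ι, hT, inferInstance, e, ?_⟩
  rw [RingHom.FaithfullyFlat.iff_flat_and_comap_surjective]
  refine ⟨Scheme.Hom.flat_appLE _ hU (isAffineOpen_top T) e, fun 𝔭 => ?_⟩
  -- the point of `U` and a preimage in `T`
  have hx : hU.fromSpec 𝔭 ∈ U := by
    have := hU.range_fromSpec
    rw [← SetLike.mem_coe, ← this]
    exact ⟨_, rfl⟩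
  obtain ⟨x', hx'⟩ := ‹Surjective g›.surj (hU.fromSpec 𝔭)
  have hx'U : x' ∈ g ⁻¹ᵁ U := by
    change g x' ∈ U
    rw [hx']; exact hx
  obtain ⟨t, ht⟩ := hsurj.surj ⟨x', hx'U⟩
  have htx : ((p ≫ (g ⁻¹ᵁ U).ι) ≫ g) t = hU.fromSpec 𝔭 := by
    change g ((g ⁻¹ᵁ U).ι (p t)) = _
    rw [ht]
    exact hx'
  refine ⟨(isAffineOpen_top T).primeIdealOf ⟨t, trivial⟩, ?_⟩
  have h1 := IsAffineOpen.comap_primeIdealOf_appLE (f := (p ≫ (g ⁻¹ᵁ U).ι) ≫ g) (x := t) U hU ⊤
    (isAffineOpen_top T) e trivial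
  have h2 : hU.primeIdealOf ⟨((p ≫ (g ⁻¹ᵁ U).ι) ≫ g) t, e trivial⟩ = 𝔭 := by
    have h3 : (⟨((p ≫ (g ⁻¹ᵁ U).ι) ≫ g) t, e trivial⟩ : U) = hU.isoSpec.inv 𝔭 :=
      Subtype.ext htx
    rw [h3]
    change hU.isoSpec.hom (hU.isoSpec.inv 𝔭) = 𝔭
    rw [← Scheme.Hom.comp_apply, Iso.inv_hom_id]
    rfl
  rw [h1, h2]

/-- **fpqc descent of Koszul-regular immersions** (pointwise form). -/
theorem isRegularImmersionAt_koszul_of_fpqc {X Y X' Y' : Scheme.{u}} (i : Y ⟶ X) [IsImmersion i]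
    (g : X' ⟶ X) [Flat g] [Surjective g] [QuasiCompact g]
    (i' : Y' ⟶ X') (g' : Y' ⟶ Y) (hsq : IsPullback g' i' i g)
    (hi' : ∀ z' : Y', RegImm.IsRegularImmersionAt .koszul i' z') (z : Y) :
    RegImm.IsRegularImmersionAt .koszul i z := by
  obtain ⟨U, hU, hzU, hcl⟩ := exists_affine_isClosedImmersion i z
  haveI := hcl
  obtain ⟨T, q, hT, hq, e, hff⟩ := exists_affine_faithfullyFlat g hU
  haveI := hT
  haveI := hq
  -- base change to `T`
  have H : IsPullback (pullback.fst i' q ≫ g') (pullback.snd i' q) i (q ≫ g) :=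
    (IsPullback.of_hasPullback i' q).paste_horiz hsq
  have hreg : ∀ w : ↥(pullback i' q), RegImm.IsRegularImmersionAt .koszul (pullback.snd i' q) w :=
    fun w => isRegularImmersionAt_flat_baseChange .koszul (IsPullback.of_hasPullback i' q) w (hi' _)
  obtain ⟨hclT, hkerT⟩ := restrict_baseChange H hU (isAffineOpen_top T) e
  haveI := hclT
  have hKR := isKoszulRegularIdeal_ker_of_isRegularImmersionAt (pullback.snd i' q)
    (isAffineOpen_top T) (fun w _ => hreg w)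
  rw [hkerT] at hKR
  -- descend
  algebraize [((q ≫ g).appLE U ⊤ e).hom]
  haveI : Module.FaithfullyFlat Γ(X, U) Γ(T, ⊤) := by
    rw [← RingHom.faithfullyFlat_algebraMap_iff]
    exact hff
  have hKR' : LCI.IsKoszulRegularIdeal (RingHom.ker (i.app U).hom) :=
    Groth.Agent.Helper13KzDesc.isKoszulRegularIdeal_of_faithfullyFlat Γ(X, U) Γ(T, ⊤) _ hKR
  exact isRegularImmersionAt_of_isKoszulRegularIdeal_ker i hU hKR' z hzU

end Groth.Agent.Helper13KzSch
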