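import Groth.Agent.Lib.Helper13H1C
import Groth.Agent.Lib.Helper13KzSch

/-!
# Descent of regular immersions of kind koszul / h1 / quasi along flat "quasi-compact coverings"
(e.g. flat surjective open maps such as étale surjective maps; no quasi-compactness of the
morphism is needed)  (helper13)
-/

set_option autoImplicit false
set_option linter.style.haveILetI false
universe u

open AlgebraicGeometry CategoryTheory CategoryTheory.Limits TopologicalSpace

namespace Groth.Agent.Helper13EtDesc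

open Groth.Agent.Lib.Helper5.ImmBC Groth.Agent.Lib.Helper5.KindFlat Groth.Agent.Helper13H1
  Groth.Agent.Helper13KzSch

/-- `g` is a quasi-compact covering: every affine open of the target is the image of a compact
open of the source. -/
def QCCov {X X' : Scheme.{u}} (g : X' ⟶ X) : Prop :=
  ∀ U : X.Opens, IsAffineOpen U → ∃ V : X'.Opens, IsCompact (V : Set X') ∧ g '' (V : Set X') = U

theorem qcCov_of_isOpenMap {X X' : Scheme.{u}} (g : X' ⟶ X) [Surjective g] (h : IsOpenMap g) :
    QCCov g := by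
  intro U hU
  obtain ⟨V, hV, hVU⟩ := h.exists_opens_image_eq_of_prespectralSpace g.continuous
    (fun x _ => ‹Surjective g›.surj x) U.2 hU.isCompact
  exact ⟨V, hV, hVU⟩

theorem qcCov_of_quasiCompact {X X' : Scheme.{u}} (g : X' ⟶ X) [Surjective g] [QuasiCompact g] :
    QCCov g := by
  intro U hU
  refine ⟨g ⁻¹ᵁ U, QuasiCompact.isCompact_preimage (f := g) _ U.2 hU.isCompact, ?_⟩
  exact Set.image_preimage_eq _ (fun x => ‹Surjective g›.surj x)

/-- a flat quasi-compact covering is dominated, over an affine open of the target, by a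
faithfully flat map of rings -/
theorem exists_affine_faithfullyFlat {X X' : Scheme.{u}} (g : X' ⟶ X) [Flat g] (hg : QCCov g)
    {U : X.Opens} (hU : IsAffineOpen U) :
    ∃ (T : Scheme.{u}) (q : T ⟶ X') (_ : IsAffine T) (_ : Flat q) (e : ⊤ ≤ (q ≫ g) ⁻¹ᵁ U),
      ((q ≫ g).appLE U ⊤ e).hom.FaithfullyFlat := by
  obtain ⟨V, hVc, hVU⟩ := hg U hU
  haveI : CompactSpace ((V : X'.Opens) : Scheme.{u}) := isCompact_iff_compactSpace.mp hVc
  obtain ⟨T, p, hsurj, hloc, hT⟩ :=
    Scheme.exists_hom_isAffine_of_isZariskiLocalAtSource @IsLocalIso ((V : X'.Opens) : Scheme)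
  haveI : Flat p := IsLocalIso.le_of_isZariskiLocalAtSource @Flat _ _ p hloc
  have hmem : ∀ v : ↥((V : X'.Opens) : Scheme.{u}), g (V.ι v) ∈ U := by
    intro v
    have : g (V.ι v) ∈ g '' (V : Set X') := ⟨_, v.2, rfl⟩
    rw [hVU] at this
    exact this
  have e : ⊤ ≤ ((p ≫ V.ι) ≫ g) ⁻¹ᵁ U := by
    intro t _
    change g (V.ι (p t)) ∈ U
    exact hmem _
  refine ⟨T, p ≫ V.ι, hT, inferInstance, e, ?_⟩
  rw [RingHom.FaithfullyFlat.iff_flat_and_comap_surjective]
  refine ⟨Scheme.Hom.flat_appLE _ hU (isAffineOpen_top T) e, fun 𝔭 => ?_⟩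
  have hx : hU.fromSpec 𝔭 ∈ U := by
    have := hU.range_fromSpec
    rw [← SetLike.mem_coe, ← this]
    exact ⟨_, rfl⟩
  have hx2 : hU.fromSpec 𝔭 ∈ g '' (V : Set X') := by rw [hVU]; exact hx
  obtain ⟨x', hx'V, hx'⟩ := hx2
  obtain ⟨t, ht⟩ := hsurj.surj ⟨x', hx'V⟩
  have htx : ((p ≫ V.ι) ≫ g) t = hU.fromSpec 𝔭 := by
    change g (V.ι (p t)) = _
    rw [ht]
    exact hx'
  refine ⟨(isAffineOpen_top T).primeIdealOf ⟨t, trivial⟩, ?_⟩
  have h1 := IsAffineOpen.comap_primeIdealOf_appLE (f := (p ≫ V.ι) ≫ g) (x := t) U hU ⊤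
    (isAffineOpen_top T) e trivial
  have h2 : hU.primeIdealOf ⟨((p ≫ V.ι) ≫ g) t, e trivial⟩ = 𝔭 := by
    have h3 : (⟨((p ≫ V.ι) ≫ g) t, e trivial⟩ : U) = hU.isoSpec.inv 𝔭 :=
      Subtype.ext htx
    rw [h3]
    change hU.isoSpec.hom (hU.isoSpec.inv 𝔭) = 𝔭
    rw [← Scheme.Hom.comp_apply, Iso.inv_hom_id]
    rfl
  rw [h1, h2]

/-- **descent of Koszul-regular immersions along flat quasi-compact coverings** (pointwise). -/
theorem isRegularImmersionAt_koszul_of_qcCov {X Y X' Y' : Scheme.{u}} (i : Y ⟶ X) [IsImmersion i]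
    (g : X' ⟶ X) [Flat g] (hg : QCCov g)
    (i' : Y' ⟶ X') (g' : Y' ⟶ Y) (hsq : IsPullback g' i' i g)
    (hi' : ∀ z' : Y', RegImm.IsRegularImmersionAt .koszul i' z') (z : Y) :
    RegImm.IsRegularImmersionAt .koszul i z := by
  obtain ⟨U, hU, hzU, hcl⟩ := exists_affine_isClosedImmersion i z
  haveI := hcl
  obtain ⟨T, q, hT, hq, e, hff⟩ := exists_affine_faithfullyFlat g hg hU
  haveI := hT
  haveI := hq
  have H : IsPullback (pullback.fst i' q ≫ g') (pullback.snd i' q) i (q ≫ g) :=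
    (IsPullback.of_hasPullback i' q).paste_horiz hsq
  have hreg : ∀ w : ↥(pullback i' q), RegImm.IsRegularImmersionAt .koszul (pullback.snd i' q) w :=
    fun w => isRegularImmersionAt_flat_baseChange .koszul (IsPullback.of_hasPullback i' q) w (hi' _)
  obtain ⟨hclT, hkerT⟩ := restrict_baseChange H hU (isAffineOpen_top T) e
  haveI := hclT
  have hKR := isKoszulRegularIdeal_ker_of_isRegularImmersionAt (pullback.snd i' q)
    (isAffineOpen_top T) (fun w _ => hreg w)
  rw [hkerT] at hKR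
  algebraize [((q ≫ g).appLE U ⊤ e).hom]
  haveI : Module.FaithfullyFlat Γ(X, U) Γ(T, ⊤) := by
    rw [← RingHom.faithfullyFlat_algebraMap_iff]
    exact hff
  have hKR' : LCI.IsKoszulRegularIdeal (RingHom.ker (i.app U).hom) :=
    Groth.Agent.Helper13KzDesc.isKoszulRegularIdeal_of_faithfullyFlat Γ(X, U) Γ(T, ⊤) _ hKR
  exact isRegularImmersionAt_of_isKoszulRegularIdeal_ker i hU hKR' z hzU

/-- **descent of `H_1`-regular and quasi-regular immersions along flat quasi-compact coverings**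
(pointwise). -/
theorem isRegularImmersionAt_h1q_of_qcCov (k : RegImm.Kind) (hk : k = .h1 ∨ k = .quasi)
    {X Y X' Y' : Scheme.{u}} (i : Y ⟶ X) [IsImmersion i]
    (g : X' ⟶ X) [Flat g] (hg : QCCov g)
    (i' : Y' ⟶ X') (g' : Y' ⟶ Y) (hsq : IsPullback g' i' i g)
    (hi' : ∀ z' : Y', RegImm.IsRegularImmersionAt k i' z') (z : Y) :
    RegImm.IsRegularImmersionAt k i z := by
  obtain ⟨U, hU, hzU, hcl⟩ := exists_affine_isClosedImmersion i z
  haveI := hcl
  obtain ⟨T, q, hT, hq, e, hff⟩ := exists_affine_faithfullyFlat g hg hU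
  haveI := hT
  haveI := hq
  have H : IsPullback (pullback.fst i' q ≫ g') (pullback.snd i' q) i (q ≫ g) :=
    (IsPullback.of_hasPullback i' q).paste_horiz hsq
  have hreg : ∀ w : ↥(pullback i' q), RegImm.IsRegularImmersionAt k (pullback.snd i' q) w :=
    fun w => isRegularImmersionAt_flat_baseChange k (IsPullback.of_hasPullback i' q) w (hi' _)
  obtain ⟨hclT, hkerT⟩ := restrict_baseChange H hU (isAffineOpen_top T) e
  haveI := hclT
  have hKR := ki_ker_of_isRegularImmersionAt k hk (pullback.snd i' q)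
    (isAffineOpen_top T) (fun w _ => hreg w)
  rw [hkerT] at hKR
  algebraize [((q ≫ g).appLE U ⊤ e).hom]
  haveI : Module.FaithfullyFlat Γ(X, U) Γ(T, ⊤) := by
    rw [← RingHom.faithfullyFlat_algebraMap_iff]
    exact hff
  have hKR' : KI k (RingHom.ker (i.app U).hom) :=
    ki_of_faithfullyFlat k hk Γ(X, U) Γ(T, ⊤) _ hKR
  exact isRegularImmersionAt_of_ki_ker k hk i hU hKR' z hzU

/-- all three kinds -/
theorem isRegularImmersionAt_of_qcCov (k : RegImm.Kind) (hk : k ≠ .regular)
    {X Y X' Y' : Scheme.{u}} (i : Y ⟶ X) [IsImmersion i]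
    (g : X' ⟶ X) [Flat g] (hg : QCCov g)
    (i' : Y' ⟶ X') (g' : Y' ⟶ Y) (hsq : IsPullback g' i' i g)
    (hi' : ∀ z' : Y', RegImm.IsRegularImmersionAt k i' z') (z : Y) :
    RegImm.IsRegularImmersionAt k i z := by
  cases k with
  | regular => exact absurd rfl hk
  | koszul => exact isRegularImmersionAt_koszul_of_qcCov i g hg i' g' hsq hi' z
  | h1 => exact isRegularImmersionAt_h1q_of_qcCov .h1 (Or.inl rfl) i g hg i' g' hsq hi' z
  | quasi => exact isRegularImmersionAt_h1q_of_qcCov .quasi (Or.inr rfl) i g hg i' g' hsq hi' z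

/-- global form: descent of regular immersions of kind `k ≠ regular` along a flat quasi-compact
covering, given that `i` is an immersion. -/
theorem isRegularImmersion_of_qcCov (k : RegImm.Kind) (hk : k ≠ .regular)
    {X Y X' Y' : Scheme.{u}} (i : Y ⟶ X) [IsImmersion i]
    (g : X' ⟶ X) [Flat g] (hg : QCCov g)
    (i' : Y' ⟶ X') (g' : Y' ⟶ Y) (hsq : IsPullback g' i' i g)
    (hi' : RegImm.IsRegularImmersion k i') : RegImm.IsRegularImmersion k i :=
  ⟨inferInstance, fun z => isRegularImmersionAt_of_qcCov k hk i g hg i' g' hsq hi'.2 z⟩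

/-- étale surjective maps are quasi-compact coverings -/
theorem qcCov_of_etale {X X' : Scheme.{u}} (g : X' ⟶ X) [Etale g] [Surjective g] : QCCov g :=
  qcCov_of_isOpenMap g g.isOpenMap

end Groth.Agent.Helper13EtDesc
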