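import Mathlib
import Groth.Prelude.Def_AlgSpMor6
import Groth.Agent.Lib.Helper13EtDescA
import Groth.Agent.Lib.Helper12ImmDescent
import Groth.Agent.Lib.Helper12LocPGen

/-!
# Regular immersions of algebraic spaces: pullback along flat maps from schemes (helper13)
-/

set_option autoImplicit false
set_option linter.style.haveILetI false
universe u

open AlgebraicGeometry CategoryTheory CategoryTheory.Limits TopologicalSpace
open AlgSp

namespace Groth.Agent.Helper13AspRI

variable {S : Scheme.{u}}

/-- a regular immersion of algebraic spaces (any kind) is an immersion -/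
theorem repWith_isImmersion_of_isRegImmMor (k : RegImm.Kind) {F X : AlgSp.Sp S}
    (hX : AlgSp.IsAlgSpace X) (f : F ⟶ X) (hf : AlgSp.IsRegImmMor k f) :
    AlgSp.RepWith @IsImmersion f := by
  obtain ⟨X0, p, hpe, hps⟩ := hX.atlas
  obtain ⟨E, e, a, sqE⟩ := hf.1 p
  have he : RegImm.IsRegularImmersion k e.left := hf.2 p a e hpe sqE
  haveI : IsImmersion e.left := he.1
  exact Groth.Agent.Lib.Helper12.ImmDescent.repWith_isImmersion_of_chart f p hpe hps a
    ((AlgSp.yon S).map e) sqE ((AlgSp.repWith_yon_map_iff _ _).2 inferInstance)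

/-- **pullback of a regular immersion of algebraic spaces along a flat map from a scheme** is a
regular immersion of schemes of the same kind (kinds koszul, h1, quasi). -/
theorem regImm_of_flat_chart (k : RegImm.Kind) (hk : k ≠ .regular) {F X : AlgSp.Sp S}
    (hX : AlgSp.IsAlgSpace X) (f : F ⟶ X) (hf : AlgSp.IsRegImmMor k f)
    {V W : Over S} (c : (AlgSp.yon S).obj V ⟶ X) (fst : (AlgSp.yon S).obj W ⟶ F) (snd : W ⟶ V)
    (sq : IsPullback fst ((AlgSp.yon S).map snd) f c) (hc : AlgSp.LocP @Flat c) :
    RegImm.IsRegularImmersion k snd.left := by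
  haveI : IsImmersion snd.left := (repWith_isImmersion_of_isRegImmMor k hX f hf).2 c fst snd sq
  obtain ⟨X0, p, hpe, hps⟩ := hX.atlas
  obtain ⟨V', π, κ', sqV⟩ := hpe.1 c
  obtain ⟨κ, rfl⟩ := (AlgSp.yon S).map_surjective κ'
  haveI : Etale π.left := hpe.2 _ _ π sqV
  haveI : Surjective π.left := hps.2 _ _ π sqV
  haveI hκ : Flat κ.left := hc ((AlgSp.yon S).map π) p κ
    ((AlgSp.repWith_yon_map_iff _ _).2 inferInstance) hpe sqV.w.symm
  obtain ⟨E, e, a, sqE⟩ := hf.1 p
  have he : RegImm.IsRegularImmersion k e.left := hf.2 p a e hpe sqE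
  -- the big square
  have sqπ : IsPullback ((AlgSp.yon S).map (pullback.fst snd π))
      ((AlgSp.yon S).map (pullback.snd snd π)) ((AlgSp.yon S).map snd) ((AlgSp.yon S).map π) :=
    (IsPullback.of_hasPullback snd π).map (AlgSp.yon S)
  have big : IsPullback ((AlgSp.yon S).map (pullback.fst snd π) ≫ fst)
      ((AlgSp.yon S).map (pullback.snd snd π)) f ((AlgSp.yon S).map π ≫ c) :=
    sqπ.paste_horiz sq
  rw [← sqV.w] at big
  obtain ⟨l', hl'⟩ : ∃ l' : (AlgSp.yon S).obj (pullback snd π) ⟶ (AlgSp.yon S).obj E,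
      l' = sqE.lift ((AlgSp.yon S).map (pullback.fst snd π) ≫ fst)
        ((AlgSp.yon S).map (pullback.snd snd π) ≫ (AlgSp.yon S).map κ)
        (by rw [Category.assoc]; exact big.w) := ⟨_, rfl⟩
  have hl1 : l' ≫ a = (AlgSp.yon S).map (pullback.fst snd π) ≫ fst := by
    rw [hl', sqE.lift_fst]
  have hl2 : l' ≫ (AlgSp.yon S).map e =
      (AlgSp.yon S).map (pullback.snd snd π) ≫ (AlgSp.yon S).map κ := by
    rw [hl', sqE.lift_snd]
  obtain ⟨l, rfl⟩ := (AlgSp.yon S).map_surjective l'
  have left : IsPullback ((AlgSp.yon S).map l) ((AlgSp.yon S).map (pullback.snd snd π))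
      ((AlgSp.yon S).map e) ((AlgSp.yon S).map κ) := by
    refine IsPullback.of_right ?_ hl2 sqE
    rw [hl1]
    exact big
  have hOver : IsPullback l (pullback.snd snd π) e κ := IsPullback.of_map (AlgSp.yon S)
    ((AlgSp.yon S).map_injective (by
      rw [Functor.map_comp, Functor.map_comp]; exact left.w)) left
  have hSch : IsPullback l.left (pullback.snd snd π).left e.left κ.left :=
    hOver.map (Over.forget S)
  have hreg : RegImm.IsRegularImmersion k (pullback.snd snd π).left :=
    ⟨MorphismProperty.of_isPullback (P := @IsImmersion) hSch he.1, fun w =>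
      Groth.Agent.Lib.Helper5.KindFlat.isRegularImmersionAt_flat_baseChange k hSch w (he.2 _)⟩
  have hsq : IsPullback (pullback.fst snd π).left (pullback.snd snd π).left snd.left π.left :=
    (IsPullback.of_hasPullback snd π).map (Over.forget S)
  exact Groth.Agent.Helper13EtDesc.isRegularImmersion_of_qcCov k hk snd.left π.left
    (Groth.Agent.Helper13EtDesc.qcCov_of_etale π.left) (pullback.snd snd π).left
    (pullback.fst snd π).left hsq hreg

end Groth.Agent.Helper13AspRI
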