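import Mathlib

set_option autoImplicit false

namespace Groth.Agent.Helper13AwayBC

open HomogeneousLocalization TensorProduct CategoryTheory
open scoped HomogeneousIdeal

universe u

section awayProj

variable {B σ : Type*} [CommRing B] [SetLike σ B] [AddSubgroupClass σ B] (ℬ : ℕ → σ) [GradedRing ℬ]
  {d : ℕ} {f : B} (hf : f ∈ ℬ d)

theorem proj_mem (N : ℕ) (b : B) : GradedRing.proj ℬ N b ∈ ℬ N := by
  rw [GradedRing.proj_apply]; exact SetLike.coe_mem _

/-- `b ↦ b_{nd} / f^n` -/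
noncomputable def awayProj (n : ℕ) : B →+ Away ℬ f where
  toFun b := Away.mk ℬ hf n (GradedRing.proj ℬ (n • d) b) (proj_mem ℬ _ b)
  map_zero' := by
    apply HomogeneousLocalization.val_injective
    rw [Away.val_mk, map_zero, HomogeneousLocalization.val_zero, Localization.mk_zero]
  map_add' a b := by
    apply HomogeneousLocalization.val_injective
    rw [HomogeneousLocalization.val_add, Away.val_mk, Away.val_mk, Away.val_mk, map_add,
      Localization.add_mk_self]

theorem val_awayProj (n : ℕ) (b : B) :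
    (awayProj ℬ hf n b).val = Localization.mk (GradedRing.proj ℬ (n • d) b) (⟨f ^ n, n, rfl⟩ : Submonoid.powers f) :=
  Away.val_mk ℬ n hf _ _

theorem awayProj_of_mem (n : ℕ) {b : B} (hb : b ∈ ℬ (n • d)) :
    awayProj ℬ hf n b = Away.mk ℬ hf n b hb := by
  apply HomogeneousLocalization.val_injective
  rw [val_awayProj, Away.val_mk, GradedRing.proj_apply, DirectSum.decompose_of_mem_same ℬ hb]

theorem proj_proj (N : ℕ) (b : B) :
    GradedRing.proj ℬ N (GradedRing.proj ℬ N b) = GradedRing.proj ℬ N b := by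
  rw [GradedRing.proj_apply ℬ N (GradedRing.proj ℬ N b),
    DirectSum.decompose_of_mem_same ℬ (proj_mem ℬ N b)]

theorem awayProj_proj (n : ℕ) (b : B) :
    awayProj ℬ hf n (GradedRing.proj ℬ (n • d) b) = awayProj ℬ hf n b := by
  apply HomogeneousLocalization.val_injective
  rw [val_awayProj, val_awayProj, proj_proj]

theorem proj_zero_mul (N : ℕ) {c : B} (hc : c ∈ ℬ 0) (b : B) :
    GradedRing.proj ℬ N (c * b) = c * GradedRing.proj ℬ N b := by
  rw [GradedRing.proj_apply, GradedRing.proj_apply, DirectSum.coe_decompose_mul_of_left_mem_zero ℬ hc]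

theorem val_awayProj_zero_mul (n : ℕ) {c : B} (hc : c ∈ ℬ 0) (b : B) :
    (awayProj ℬ hf n (c * b)).val =
      algebraMap B (Localization.Away f) c * (awayProj ℬ hf n b).val := by
  rw [val_awayProj, val_awayProj, proj_zero_mul ℬ _ hc, ← Localization.mk_one_eq_algebraMap,
    Localization.mk_mul, one_mul]

include hf in
theorem pow_mem_graded (m : ℕ) : f ^ m ∈ ℬ (m • d) := SetLike.pow_mem_graded m hf

include hf in
theorem proj_pow_mul (n m : ℕ) (b : B) :
    GradedRing.proj ℬ ((n + m) • d) (f ^ m * b) = f ^ m * GradedRing.proj ℬ (n • d) b := by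
  rw [GradedRing.proj_apply, GradedRing.proj_apply, add_smul, add_comm (n • d) (m • d),
    DirectSum.coe_decompose_mul_add_of_left_mem ℬ (pow_mem_graded ℬ hf m)]

theorem awayProj_pow_mul (n m : ℕ) (b : B) :
    awayProj ℬ hf (n + m) (f ^ m * b) = awayProj ℬ hf n b := by
  apply HomogeneousLocalization.val_injective
  rw [val_awayProj, val_awayProj, proj_pow_mul ℬ hf, Localization.mk_eq_mk_iff, Localization.r_iff_exists]
  refine ⟨1, ?_⟩
  simp only [OneMemClass.coe_one, one_mul]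
  rw [pow_add]
  ring

end awayProj

section natural

variable {B A σ τ : Type*} [CommRing B] [SetLike σ B] [AddSubgroupClass σ B]
  [CommRing A] [SetLike τ A] [AddSubgroupClass τ A]
  {ℬ : ℕ → σ} {𝒜 : ℕ → τ} [GradedRing ℬ] [GradedRing 𝒜] (φ : ℬ →+*ᵍ 𝒜)
  {d : ℕ} {f : B} (hf : f ∈ ℬ d)

theorem map_proj (N : ℕ) (b : B) : φ (GradedRing.proj ℬ N b) = GradedRing.proj 𝒜 N (φ b) := by
  rw [GradedRing.proj_apply, GradedRing.proj_apply, GradedRingHom.map_directSumDecompose]

theorem map_awayProj (n : ℕ) (b : B) :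
    Away.map φ f (awayProj ℬ hf n b) = awayProj 𝒜 (Graded.map_mem φ hf) n (φ b) := by
  have h1 : awayProj ℬ hf n b = Away.mk ℬ hf n (GradedRing.proj ℬ (n • d) b) (proj_mem ℬ _ b) := rfl
  rw [h1, Away.map_mk]
  apply HomogeneousLocalization.val_injective
  rw [Away.val_mk, val_awayProj, map_proj]

end natural

section linear

variable {K B σ : Type*} [CommRing K] [CommRing B] [SetLike σ B] [AddSubgroupClass σ B]
  (ℬ : ℕ → σ) [GradedRing ℬ] [Algebra K B] {d : ℕ} {f : B} (hf : f ∈ ℬ d)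
  [Algebra K (Away ℬ f)]
  (h0 : ∀ r : K, algebraMap K B r ∈ ℬ 0)
  (hval : ∀ r : K, (algebraMap K (Away ℬ f) r).val =
    algebraMap B (Localization.Away f) (algebraMap K B r))

/-- the projection to the degree `N` part, as a linear map -/
noncomputable def projₗ (N : ℕ) : B →ₗ[K] B :=
  { GradedRing.proj ℬ N with
    map_smul' := fun r b => by
      change GradedRing.proj ℬ N (r • b) = r • GradedRing.proj ℬ N b
      rw [Algebra.smul_def, Algebra.smul_def, proj_zero_mul ℬ N (h0 r)] }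

theorem projₗ_apply (N : ℕ) (b : B) : projₗ ℬ h0 N b = GradedRing.proj ℬ N b := rfl

/-- `b ↦ b_{nd} / f^n` as a linear map -/
noncomputable def awayProjₗ (n : ℕ) : B →ₗ[K] Away ℬ f :=
  { awayProj ℬ hf n with
    map_smul' := fun r b => by
      change awayProj ℬ hf n (r • b) = r • awayProj ℬ hf n b
      apply HomogeneousLocalization.val_injective
      rw [Algebra.smul_def, Algebra.smul_def, val_awayProj_zero_mul ℬ hf n (h0 r),
        HomogeneousLocalization.val_mul, hval] }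

theorem awayProjₗ_apply (n : ℕ) (b : B) : awayProjₗ ℬ hf h0 hval n b = awayProj ℬ hf n b := rfl

theorem awayProjₗ_comp_mulLeft (n m : ℕ) :
    awayProjₗ ℬ hf h0 hval (n + m) ∘ₗ LinearMap.mulLeft K (f ^ m) = awayProjₗ ℬ hf h0 hval n := by
  refine LinearMap.ext fun b => ?_
  simp only [LinearMap.comp_apply, LinearMap.mulLeft_apply, awayProjₗ_apply]
  exact awayProj_pow_mul ℬ hf n m b

theorem awayProjₗ_comp_projₗ (n : ℕ) :
    awayProjₗ ℬ hf h0 hval n ∘ₗ projₗ ℬ h0 (n • d) = awayProjₗ ℬ hf h0 hval n := by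
  refine LinearMap.ext fun b => ?_
  simp only [LinearMap.comp_apply, awayProjₗ_apply, projₗ_apply]
  exact awayProj_proj ℬ hf n b

end linear

section main

variable {R' R B A : Type u} [CommRing R'] [CommRing R] [CommRing B] [CommRing A]
  {σ τ : Type*} [SetLike σ B] [AddSubgroupClass σ B] [SetLike τ A] [AddSubgroupClass τ A]
  {ℬ : ℕ → σ} {𝒜 : ℕ → τ} [GradedRing ℬ] [GradedRing 𝒜]
  [Algebra R' R] [Algebra R' B] [Algebra R A] [Algebra R' A] [IsScalarTower R' R A]
  [Algebra B A] [IsScalarTower R' B A] [Algebra.IsPushout R' R B A]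
  (φ : ℬ →+*ᵍ 𝒜) (hφA : ∀ b, φ b = algebraMap B A b)
  (h0B : ∀ r, algebraMap R' B r ∈ ℬ 0) (h0A : ∀ r, algebraMap R A r ∈ 𝒜 0)
  {d : ℕ} {f : B} (hf : f ∈ ℬ d)
  [Algebra R' (Away ℬ f)] [Algebra R (Away 𝒜 (φ f))] [Algebra R' (Away 𝒜 (φ f))]
  [Algebra (Away ℬ f) (Away 𝒜 (φ f))] [IsScalarTower R' R (Away 𝒜 (φ f))]
  [IsScalarTower R' (Away ℬ f) (Away 𝒜 (φ f))]
  (hmap : ∀ x, algebraMap (Away ℬ f) (Away 𝒜 (φ f)) x = Away.map φ f x)
  (hB : ∀ r : R', (algebraMap R' (Away ℬ f) r).val =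
    algebraMap B (Localization.Away f) (algebraMap R' B r))
  (hA : ∀ r : R, (algebraMap R (Away 𝒜 (φ f)) r).val =
    algebraMap A (Localization.Away (φ f)) (algebraMap R A r))

include hφA h0B h0A hf hmap hB hA in
theorem isPushout_away_aux : Algebra.IsPushout R' R (Away ℬ f) (Away 𝒜 (φ f)) := by
  classical
  have hφf : φ f ∈ 𝒜 d := Graded.map_mem φ hf
  let g : Away ℬ f →ₗ[R'] Away 𝒜 (φ f) :=
    (IsScalarTower.toAlgHom R' (Away ℬ f) (Away 𝒜 (φ f))).toLinearMap
  have hg : ∀ x, g x = Away.map φ f x := fun x => hmap x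
  let Θ : R ⊗[R'] Away ℬ f →ₗ[R] Away 𝒜 (φ f) := g.liftBaseChange R
  let ε := Algebra.IsPushout.equiv R' R B A
  let ρB := awayProjₗ (K := R') ℬ hf h0B hB
  let ρA := awayProjₗ (K := R) 𝒜 hφf h0A hA
  have E3 : ∀ (n : ℕ) (s : R ⊗[R'] B), Θ ((ρB n).lTensor R s) = ρA n (ε s) := by
    intro n s
    induction s using TensorProduct.induction_on with
    | zero => simp
    | tmul r b =>
      rw [LinearMap.lTensor_tmul, LinearMap.liftBaseChange_tmul, hg]
      change r • Away.map φ f (awayProj ℬ hf n b) = awayProj 𝒜 hφf n (ε (r ⊗ₜ b))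
      rw [map_awayProj, Algebra.IsPushout.equiv_tmul, ← hφA, ← Algebra.smul_def]
      exact ((ρA n).map_smul r (φ b)).symm
    | add x y hx hy => simp only [map_add, hx, hy]
  have hsurj : Function.Surjective Θ := by
    intro y
    obtain ⟨n, a, ha, rfl⟩ := Away.mk_surjective 𝒜 hφf y
    refine ⟨(ρB n).lTensor R (ε.symm a), ?_⟩
    rw [E3, AlgEquiv.apply_symm_apply]
    exact awayProj_of_mem 𝒜 hφf n ha
  have E4 : ∀ (N m : ℕ) (s : R ⊗[R'] B),
      ε ((LinearMap.mulLeft R' (f ^ m) ∘ₗ projₗ ℬ h0B N).lTensor R s) =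
        (φ f) ^ m * GradedRing.proj 𝒜 N (ε s) := by
    intro N m s
    induction s using TensorProduct.induction_on with
    | zero => simp
    | tmul r b =>
      rw [LinearMap.lTensor_tmul, Algebra.IsPushout.equiv_tmul, Algebra.IsPushout.equiv_tmul]
      simp only [LinearMap.comp_apply, LinearMap.mulLeft_apply, projₗ_apply]
      rw [← hφA, ← hφA, map_mul, map_pow, map_proj, proj_zero_mul 𝒜 N (h0A r)]
      ring
    | add x y hx hy => simp only [map_add, hx, hy, mul_add]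
  have step1 : ∀ t : R ⊗[R'] Away ℬ f, ∃ (n : ℕ) (s : R ⊗[R'] B),
      t = (ρB n).lTensor R s := by
    intro t
    induction t using TensorProduct.induction_on with
    | zero => exact ⟨0, 0, by simp⟩
    | tmul r x =>
      obtain ⟨n, b, hb, rfl⟩ := Away.mk_surjective ℬ hf x
      refine ⟨n, r ⊗ₜ b, ?_⟩
      rw [LinearMap.lTensor_tmul]
      congr 1
      exact (awayProj_of_mem ℬ hf n hb).symm
    | add x y hx hy =>
      obtain ⟨n1, s1, rfl⟩ := hx
      obtain ⟨n2, s2, rfl⟩ := hy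
      refine ⟨n1 + n2, (LinearMap.mulLeft R' (f ^ n2)).lTensor R s1 +
        (LinearMap.mulLeft R' (f ^ n1)).lTensor R s2, ?_⟩
      have e1 : ρB n1 = ρB (n1 + n2) ∘ₗ LinearMap.mulLeft R' (f ^ n2) :=
        (awayProjₗ_comp_mulLeft ℬ hf h0B hB n1 n2).symm
      have e2 : ρB n2 = ρB (n1 + n2) ∘ₗ LinearMap.mulLeft R' (f ^ n1) := by
        rw [add_comm n1 n2]
        exact (awayProjₗ_comp_mulLeft ℬ hf h0B hB n2 n1).symm
      rw [map_add, e1, e2, LinearMap.lTensor_comp, LinearMap.lTensor_comp, LinearMap.comp_apply,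
        LinearMap.comp_apply]
  have hinj : Function.Injective Θ := by
    rw [injective_iff_map_eq_zero]
    intro t ht
    obtain ⟨n, s, rfl⟩ := step1 t
    rw [E3] at ht
    have h1 : ∃ m : ℕ, (φ f) ^ m * GradedRing.proj 𝒜 (n • d) (ε s) = 0 := by
      have h2 := congr_arg HomogeneousLocalization.val ht
      change (awayProj 𝒜 hφf n (ε s)).val = _ at h2
      rw [val_awayProj, HomogeneousLocalization.val_zero, Localization.mk_eq_mk',
        IsLocalization.mk'_eq_zero_iff] at h2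
      obtain ⟨⟨_, m, rfl⟩, hm⟩ := h2
      exact ⟨m, hm⟩
    obtain ⟨m, hm⟩ := h1
    rw [← E4] at hm
    have hs' : (LinearMap.mulLeft R' (f ^ m) ∘ₗ projₗ ℬ h0B (n • d)).lTensor R s = 0 := by
      apply ε.injective
      rw [hm, map_zero]
    have e3 : ρB n = ρB (n + m) ∘ₗ (LinearMap.mulLeft R' (f ^ m) ∘ₗ projₗ ℬ h0B (n • d)) := by
      rw [← LinearMap.comp_assoc]
      change _ = (awayProjₗ ℬ hf h0B hB (n + m) ∘ₗ LinearMap.mulLeft R' (f ^ m)) ∘ₗ _
      rw [awayProjₗ_comp_mulLeft, awayProjₗ_comp_projₗ]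
    rw [e3, LinearMap.lTensor_comp, LinearMap.comp_apply, hs', map_zero]
  refine ⟨IsBaseChange.of_equiv (LinearEquiv.ofBijective Θ ⟨hinj, hsurj⟩) fun x => ?_⟩
  change Θ (1 ⊗ₜ x) = _
  rw [LinearMap.liftBaseChange_tmul, one_smul]

end main

section cat

variable {R' R B A : Type u} [CommRing R'] [CommRing R] [CommRing B] [CommRing A]
  {σ τ : Type*} [SetLike σ B] [AddSubgroupClass σ B] [SetLike τ A] [AddSubgroupClass τ A]
  {ℬ : ℕ → σ} {𝒜 : ℕ → τ} [GradedRing ℬ] [GradedRing 𝒜]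
  [Algebra R' R] [Algebra R' B] [Algebra R A] [Algebra R' A] [IsScalarTower R' R A]
  [Algebra B A] [IsScalarTower R' B A] [Algebra.IsPushout R' R B A]
  (φ : ℬ →+*ᵍ 𝒜) (hφA : ∀ b, φ b = algebraMap B A b)
  (h0B : ∀ r, algebraMap R' B r ∈ ℬ 0) (h0A : ∀ r, algebraMap R A r ∈ 𝒜 0)
  {d : ℕ} {f : B} (hf : f ∈ ℬ d)

theorem eq_mk_zero_of_val {c : B} (hc : c ∈ ℬ 0) (x : Away ℬ f)
    (hx : x.val = algebraMap B (Localization.Away f) c) :
    x = Away.mk ℬ hf 0 c (by rw [zero_smul]; exact hc) := by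
  apply HomogeneousLocalization.val_injective
  rw [hx, Away.val_mk, ← Localization.mk_one_eq_algebraMap]
  congr 1
  exact Subtype.ext (pow_zero f).symm

include hφA h0B h0A hf in
/-- Homogeneous localization commutes with base change (categorical form). -/
theorem isPushout_away
    (a' : R' →+* Away ℬ f)
    (ha' : ∀ r, (a' r).val = algebraMap B (Localization.Away f) (algebraMap R' B r))
    (a : R →+* Away 𝒜 (φ f))
    (ha : ∀ r, (a r).val = algebraMap A (Localization.Away (φ f)) (algebraMap R A r)) :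
    IsPushout (CommRingCat.ofHom (algebraMap R' R)) (CommRingCat.ofHom a')
      (CommRingCat.ofHom a) (CommRingCat.ofHom (Away.map φ f)) := by
  letI : Algebra R' (Away ℬ f) := a'.toAlgebra
  letI : Algebra R (Away 𝒜 (φ f)) := a.toAlgebra
  letI : Algebra (Away ℬ f) (Away 𝒜 (φ f)) := (Away.map φ f).toAlgebra
  letI : Algebra R' (Away 𝒜 (φ f)) := (a.comp (algebraMap R' R)).toAlgebra
  haveI : IsScalarTower R' R (Away 𝒜 (φ f)) := .of_algebraMap_eq' rfl
  haveI : IsScalarTower R' (Away ℬ f) (Away 𝒜 (φ f)) := .of_algebraMap_eq' (by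
    refine RingHom.ext fun r => ?_
    change a (algebraMap R' R r) = Away.map φ f (a' r)
    rw [eq_mk_zero_of_val hf (h0B r) (a' r) (ha' r), Away.map_mk]
    apply HomogeneousLocalization.val_injective
    rw [ha, Away.val_mk, ← Localization.mk_one_eq_algebraMap, hφA (algebraMap R' B r),
      ← IsScalarTower.algebraMap_apply R' R A, ← IsScalarTower.algebraMap_apply R' B A]
    congr 1
    exact Subtype.ext (pow_zero _).symm)
  haveI := isPushout_away_aux φ hφA h0B h0A hf (fun _ => rfl) ha' ha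
  exact CommRingCat.isPushout_of_isPushout R' R (Away ℬ f) (Away 𝒜 (φ f))

end cat

section geom

open AlgebraicGeometry CategoryTheory.Limits

variable {B A σ τ : Type u} [CommRing B] [SetLike σ B] [AddSubgroupClass σ B]
  [CommRing A] [SetLike τ A] [AddSubgroupClass τ A]
  {ℬ : ℕ → σ} {𝒜 : ℕ → τ} [GradedRing ℬ] [GradedRing 𝒜]
  (φ : ℬ →+*ᵍ 𝒜) (hφ : 𝒜₊ ≤ ℬ₊.map φ)

theorem isPullback_awayι_map {d : ℕ} (hd : 0 < d) {f : B} (hf : f ∈ ℬ d) :
    IsPullback (Proj.awayι 𝒜 (φ f) (Graded.map_mem φ hf) hd)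
      (Spec.map (CommRingCat.ofHom (Away.map φ f))) (Proj.map φ hφ) (Proj.awayι ℬ f hf hd) := by
  refine (IsOpenImmersion.isPullback (Spec.map (CommRingCat.ofHom (Away.map φ f)))
    (Proj.awayι 𝒜 (φ f) (Graded.map_mem φ hf) hd) (Proj.awayι ℬ f hf hd) (Proj.map φ hφ)
    (Proj.awayι_comp_map φ hφ hd f hf) ?_).flip
  rw [Proj.opensRange_awayι, Proj.opensRange_awayι]
  rfl

/-- `Proj.map φ` is a base change as soon as it is on the standard affine charts. -/
theorem isPullback_map_of_forall_away {Y Z : Scheme.{u}} (fWY : Proj 𝒜 ⟶ Y) (fXZ : Proj ℬ ⟶ Z)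
    (fYZ : Y ⟶ Z)
    (H : ∀ (d : ℕ) (hd : 0 < d) (f : B) (hf : f ∈ ℬ d),
      IsPullback (Spec.map (CommRingCat.ofHom (Away.map φ f)))
        (Proj.awayι 𝒜 (φ f) (Graded.map_mem φ hf) hd ≫ fWY) (Proj.awayι ℬ f hf hd ≫ fXZ) fYZ) :
    IsPullback (Proj.map φ hφ) fWY fXZ fYZ := by
  refine Scheme.isPullback_of_openCover _ _ _ _ (Proj.affineOpenCover ℬ).openCover fun i => ?_
  have hsq := isPullback_awayι_map φ hφ i.1.2 i.2.2
  have h1 := H i.1 i.1.2 i.2 i.2.2
  refine IsPullback.of_iso h1 hsq.isoPullback (Iso.refl _) (Iso.refl _) (Iso.refl _) ?_ ?_ ?_ ?_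
  · simp only [Iso.refl_hom, Category.comp_id]
    exact (hsq.isoPullback_hom_snd).symm
  · simp only [Iso.refl_hom, Category.comp_id]
    rw [← Category.assoc]
    congr 1
    exact (hsq.isoPullback_hom_fst).symm
  · simp only [Iso.refl_hom, Category.comp_id, Category.id_comp]
    rfl
  · simp only [Iso.refl_hom, Category.comp_id, Category.id_comp]

end geom

end Groth.Agent.Helper13AwayBC
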