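import Mathlib

/-!
# Base change of `Tor₁(R/I, M)` when `M/IM` is flat over `R/I` (helper13)

* `lTensor_injective_of_flat_cokernel`: a short exact sequence of `R̄`-modules with flat cokernel
  stays injective after tensoring (over `R`) with any `R`-module.
* `mem_span_of_rTensor_eq_zero`: Stacks 10.99.7-type statement in elementwise form.
-/

set_option autoImplicit false
universe u

namespace Groth.Agent.Helper13BCTor

open TensorProduct

section P

variable {R : Type u} [CommRing R] {Rb : Type u} [CommRing Rb] [Algebra R Rb]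
  {X Y P : Type u} [AddCommGroup X] [AddCommGroup Y] [AddCommGroup P]
  [Module Rb X] [Module Rb Y] [Module Rb P] [Module R X] [Module R Y]
  [IsScalarTower R Rb X] [IsScalarTower R Rb Y]

/-- A short exact sequence `0 → X → Y → P → 0` of `R̄`-modules with `P` flat over `R̄` stays
injective after tensoring over `R` with any `R`-module `A`. -/
theorem lTensor_injective_of_flat_cokernel [Module.Flat Rb P]
    (g : X →ₗ[Rb] Y) (f : Y →ₗ[Rb] P) (hg : Function.Injective g) (hf : Function.Surjective f)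
    (hex : Function.Exact g f) (A : Type u) [AddCommGroup A] [Module R A] :
    Function.Injective ((g.restrictScalars R).lTensor A) := by
  rw [LinearMap.lTensor_inj_iff_rTensor_inj]
  have h1 : Function.Injective (g.lTensor (Rb ⊗[R] A)) :=
    LinearMap.lTensor_injective_of_exact_of_flat f hf g hg hex (Rb ⊗[R] A)
  rw [LinearMap.lTensor_inj_iff_rTensor_inj] at h1
  have hsq : ∀ t : X ⊗[Rb] (Rb ⊗[R] A),
      ((g.restrictScalars R).rTensor A) (AlgebraTensorModule.cancelBaseChange R Rb Rb X A t) =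
      AlgebraTensorModule.cancelBaseChange R Rb Rb Y A (g.rTensor (Rb ⊗[R] A) t) := by
    intro t
    induction t using TensorProduct.induction_on with
    | zero => simp
    | tmul x t =>
      induction t using TensorProduct.induction_on with
      | zero => simp
      | tmul r a => simp
      | add t₁ t₂ h₁ h₂ => simp only [tmul_add, map_add, h₁, h₂]
    | add t₁ t₂ h₁ h₂ => simp only [map_add, h₁, h₂]
  intro a b hab
  obtain ⟨a', rfl⟩ := (AlgebraTensorModule.cancelBaseChange R Rb Rb X A).surjective a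
  obtain ⟨b', rfl⟩ := (AlgebraTensorModule.cancelBaseChange R Rb Rb X A).surjective b
  rw [hsq, hsq] at hab
  have := h1 ((AlgebraTensorModule.cancelBaseChange R Rb Rb Y A).injective hab)
  rw [this]

end P

section A

variable {R : Type u} [CommRing R] (I : Ideal R)

/-- Every element of `(R ⧸ I) ⊗ K` is of the form `1 ⊗ k`. -/
theorem exists_one_tmul {K : Type u} [AddCommGroup K] [Module R K] (t : (R ⧸ I) ⊗[R] K) :
    ∃ k : K, t = (1 : R ⧸ I) ⊗ₜ[R] k := by
  induction t using TensorProduct.induction_on with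
  | zero => exact ⟨0, by simp⟩
  | tmul r k =>
    obtain ⟨r, rfl⟩ := Ideal.Quotient.mk_surjective r
    refine ⟨r • k, ?_⟩
    rw [← TensorProduct.smul_tmul]
    congr 1
    rw [Algebra.smul_def, mul_one]
    rfl
  | add t₁ t₂ h₁ h₂ =>
    obtain ⟨k₁, rfl⟩ := h₁
    obtain ⟨k₂, rfl⟩ := h₂
    exact ⟨k₁ + k₂, by rw [TensorProduct.tmul_add]⟩

variable {M : Type u} [AddCommGroup M] [Module R M]
  {A J : Type u} [AddCommGroup A] [Module R A] [AddCommGroup J] [Module R J]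
  {F : Type u} [AddCommGroup F] [Module R F]

/-- the multiplication map `I ⊗ F → F`. -/
noncomputable def mulMap (F : Type u) [AddCommGroup F] [Module R F] : ↥I ⊗[R] F →ₗ[R] F :=
  (TensorProduct.lid R F).toLinearMap ∘ₗ I.subtype.rTensor F

@[simp] theorem mulMap_tmul (i : ↥I) (f : F) : mulMap I F (i ⊗ₜ f) = (i : R) • f := by
  simp [mulMap]

theorem mulMap_injective [Module.Flat R F] : Function.Injective (mulMap I F) :=
  (TensorProduct.lid R F).injective.comp
    (Module.Flat.rTensor_preserves_injective_linearMap I.subtype Subtype.val_injective)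

theorem mulMap_eq_zero_iff (z : ↥I ⊗[R] M) : mulMap I M z = 0 ↔ I.subtype.rTensor M z = 0 := by
  unfold mulMap
  rw [LinearMap.comp_apply]
  exact (TensorProduct.lid R M).map_eq_zero_iff

theorem mulMap_natural (π : F →ₗ[R] M) (t : ↥I ⊗[R] F) :
    mulMap I M (π.lTensor ↥I t) = π (mulMap I F t) := by
  induction t using TensorProduct.induction_on with
  | zero => simp
  | tmul i f => simp
  | add t₁ t₂ h₁ h₂ => simp only [map_add, h₁, h₂]

/-- `1 ⊗ f = 0` in `(R/I) ⊗ F` implies `f ∈ I F`. -/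
theorem exists_mulMap_eq (f : F) (hf : (1 : R ⧸ I) ⊗ₜ[R] f = 0) : ∃ ξ, mulMap I F ξ = f := by
  have hex := rTensor_exact F (LinearMap.exact_subtype_mkQ I) (Submodule.mkQ_surjective I)
  have h1 : (Submodule.mkQ I).rTensor F ((1 : R) ⊗ₜ[R] f) = 0 := by
    rw [LinearMap.rTensor_tmul]
    exact hf
  obtain ⟨ξ₀, hξ₀⟩ := (hex _).mp h1
  refine ⟨ξ₀, ?_⟩
  unfold mulMap
  rw [LinearMap.comp_apply, hξ₀]
  simp

/-- `J ⊗ F → A ⊗ F → A ⊗ (R/I ⊗ F)` is zero when `j(J) ⊆ I A`. -/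
theorem lTensor_mk_rTensor_eq_zero (j : J →ₗ[R] A) (hJ : ∀ c, j c ∈ I • (⊤ : Submodule R A))
    (t : J ⊗[R] F) :
    (TensorProduct.mk R (R ⧸ I) F 1).lTensor A (j.rTensor F t) = 0 := by
  induction t using TensorProduct.induction_on with
  | zero => simp
  | tmul c f =>
    rw [LinearMap.rTensor_tmul, LinearMap.lTensor_tmul]
    refine Submodule.smul_induction_on (hJ c) ?_ ?_
    · intro i hi a _
      rw [TensorProduct.smul_tmul, TensorProduct.mk_apply, TensorProduct.smul_tmul']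
      have : (i • (1 : R ⧸ I)) = 0 := by
        rw [Algebra.smul_def, mul_one]
        exact Ideal.Quotient.eq_zero_iff_mem.mpr hi
      rw [this, TensorProduct.zero_tmul, TensorProduct.tmul_zero]
    · intro a b ha hb
      rw [TensorProduct.add_tmul, ha, hb, add_zero]
  | add t₁ t₂ h₁ h₂ => simp only [map_add, h₁, h₂, add_zero]

end A

section B

variable {R : Type u} [CommRing R] (I : Ideal R)
  {M : Type u} [AddCommGroup M] [Module R M]
  {F : Type u} [AddCommGroup F] [Module R F]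

/-- the reduction map `ker π → ker (π ⊗ R/I)`. -/
noncomputable def redKer (π : F →ₗ[R] M) :
    ↥(LinearMap.ker π) →ₗ[R] ↥(LinearMap.ker (π.baseChange (R ⧸ I))) where
  toFun k := ⟨(1 : R ⧸ I) ⊗ₜ[R] (k : F), by
    rw [LinearMap.mem_ker, LinearMap.baseChange_tmul, LinearMap.mem_ker.mp k.2,
      TensorProduct.tmul_zero]⟩
  map_add' a b := by
    apply Subtype.ext
    simp [TensorProduct.tmul_add]
  map_smul' r a := by
    apply Subtype.ext
    simp

theorem redKer_coe (π : F →ₗ[R] M) (k : ↥(LinearMap.ker π)) :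
    ((redKer I π k : ↥(LinearMap.ker (π.baseChange (R ⧸ I)))) : (R ⧸ I) ⊗[R] F) =
      (1 : R ⧸ I) ⊗ₜ[R] (k : F) := rfl

theorem redKer_surjective (π : F →ₗ[R] M) (hπ : Function.Surjective π) :
    Function.Surjective (redKer I π) := by
  rintro ⟨x, hx⟩
  have hx' : π.lTensor (R ⧸ I) x = 0 := LinearMap.mem_ker.mp hx
  obtain ⟨t, ht⟩ := (lTensor_exact (R ⧸ I) (LinearMap.exact_subtype_ker_map π) hπ _).mp hx'
  obtain ⟨k, rfl⟩ := exists_one_tmul I t
  refine ⟨k, Subtype.ext ?_⟩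
  rw [redKer_coe]
  change (1 : R ⧸ I) ⊗ₜ[R] (k : F) = x
  rw [← ht, LinearMap.lTensor_tmul]
  rfl

theorem exists_mem_ker_of_mem_ker_redKer (π : F →ₗ[R] M) (k₀ : ↥(LinearMap.ker (redKer I π))) :
    ∃ ξ₀ : ↥(LinearMap.ker (π ∘ₗ mulMap I F)),
      mulMap I F (ξ₀ : ↥I ⊗[R] F) = ((k₀ : ↥(LinearMap.ker π)) : F) := by
  have hk₀ : (1 : R ⧸ I) ⊗ₜ[R] ((k₀ : ↥(LinearMap.ker π)) : F) = 0 := by
    have := LinearMap.mem_ker.mp k₀.2
    exact congrArg Subtype.val this
  obtain ⟨ξ₀, hξ₀⟩ := exists_mulMap_eq I _ hk₀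
  refine ⟨⟨ξ₀, ?_⟩, hξ₀⟩
  rw [LinearMap.mem_ker, LinearMap.comp_apply, hξ₀]
  exact LinearMap.mem_ker.mp (k₀ : ↥(LinearMap.ker π)).2

theorem exists_lTensor_ker_of_comp {K K₁ Fb A : Type u} [AddCommGroup K] [Module R K]
    [AddCommGroup K₁] [Module R K₁] [AddCommGroup Fb] [Module R Fb] [AddCommGroup A] [Module R A]
    (ρ₁ : K →ₗ[R] K₁) (hρ₁ : Function.Surjective ρ₁) (ι₁ : K₁ →ₗ[R] Fb)
    (hι : Function.Injective (ι₁.lTensor A)) (kt : A ⊗[R] K)
    (h : (ι₁ ∘ₗ ρ₁).lTensor A kt = 0) :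
    ∃ kt₀ : A ⊗[R] ↥(LinearMap.ker ρ₁), (LinearMap.ker ρ₁).subtype.lTensor A kt₀ = kt := by
  have h0 : ρ₁.lTensor A kt = 0 := by
    apply hι
    rw [map_zero, ← LinearMap.comp_apply, ← LinearMap.lTensor_comp]
    exact h
  exact (lTensor_exact A (LinearMap.exact_subtype_ker_map ρ₁) hρ₁ _).mp h0

theorem exists_lTensor_eq (π : F →ₗ[R] M) (hπ : Function.Surjective π)
    (h2 : Module.Flat (R ⧸ I) ((R ⧸ I) ⊗[R] M))
    {A : Type u} [AddCommGroup A] [Module R A]
    (k' : A ⊗[R] F) (h1 : π.lTensor A k' = 0)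
    (h1' : (TensorProduct.mk R (R ⧸ I) F 1).lTensor A k' = 0) :
    ∃ ξ : A ⊗[R] ↥(LinearMap.ker (π ∘ₗ mulMap I F)),
      (mulMap I F ∘ₗ (LinearMap.ker (π ∘ₗ mulMap I F)).subtype).lTensor A ξ = k' := by
  obtain ⟨kt, hkt⟩ := (lTensor_exact A (LinearMap.exact_subtype_ker_map π) hπ _).mp h1
  have hπb : Function.Surjective (π.baseChange (R ⧸ I)) := by
    intro x
    obtain ⟨w, hw⟩ := LinearMap.lTensor_surjective (R ⧸ I) hπ x
    exact ⟨w, hw⟩
  have hinj1 := @lTensor_injective_of_flat_cokernel R _ (R ⧸ I) _ _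
    ↥(LinearMap.ker (π.baseChange (R ⧸ I)))
    ((R ⧸ I) ⊗[R] F) ((R ⧸ I) ⊗[R] M) _ _ _ _ _ _ _ _ _ _ h2
    (LinearMap.ker (π.baseChange (R ⧸ I))).subtype (π.baseChange (R ⧸ I))
    (Submodule.subtype_injective _) hπb (LinearMap.exact_subtype_ker_map _) A
  have hcomp : ((LinearMap.ker (π.baseChange (R ⧸ I))).subtype.restrictScalars R) ∘ₗ
      redKer I π = (TensorProduct.mk R (R ⧸ I) F 1) ∘ₗ (LinearMap.ker π).subtype := by
    ext k
    rfl
  have hkt0 : (((LinearMap.ker (π.baseChange (R ⧸ I))).subtype.restrictScalars R) ∘ₗ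
      redKer I π).lTensor A kt = 0 := by
    rw [hcomp, LinearMap.lTensor_comp, LinearMap.comp_apply, hkt]
    exact h1'
  have hh := @exists_lTensor_ker_of_comp R _ ↥(LinearMap.ker π)
    ↥(LinearMap.ker (π.baseChange (R ⧸ I))) ((R ⧸ I) ⊗[R] F) A _ _ _ _ _ _ _ _
    (redKer I π) (redKer_surjective I π hπ)
    ((LinearMap.ker (π.baseChange (R ⧸ I))).subtype.restrictScalars R)
  have hh2 := hh hinj1 kt
  have hh3 := hh2 hkt0
  obtain ⟨kt₀, hkt₀⟩ := hh3
  have hstep5 : ∀ t : A ⊗[R] ↥(LinearMap.ker (redKer I π)),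
      ∃ ξ : A ⊗[R] ↥(LinearMap.ker (π ∘ₗ mulMap I F)),
      (mulMap I F ∘ₗ (LinearMap.ker (π ∘ₗ mulMap I F)).subtype).lTensor A ξ =
        ((LinearMap.ker π).subtype ∘ₗ (LinearMap.ker (redKer I π)).subtype).lTensor A t := by
    intro t
    induction t using TensorProduct.induction_on with
    | zero => exact ⟨0, by simp⟩
    | tmul a k₀ =>
      obtain ⟨ξ₀, hξ₀⟩ := exists_mem_ker_of_mem_ker_redKer I π k₀
      refine ⟨a ⊗ₜ ξ₀, ?_⟩
      rw [LinearMap.lTensor_tmul, LinearMap.lTensor_tmul]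
      congr 1
    | add t₁ t₂ h₁ h₂ =>
      obtain ⟨ξ₁, h₁⟩ := h₁
      obtain ⟨ξ₂, h₂⟩ := h₂
      exact ⟨ξ₁ + ξ₂, by rw [map_add, map_add, h₁, h₂]⟩
  obtain ⟨ξ, hξ⟩ := hstep5 kt₀
  refine ⟨ξ, ?_⟩
  rw [hξ, LinearMap.lTensor_comp, LinearMap.comp_apply, hkt₀, hkt]

end B

section C

variable {R : Type u} [CommRing R] (I : Ideal R)
  {M : Type u} [AddCommGroup M] [Module R M]
  {A J : Type u} [AddCommGroup A] [Module R A] [AddCommGroup J] [Module R J]

/-- the map `A ⊗ (I ⊗ N) → J ⊗ N`, `a ⊗ (i ⊗ n) ↦ ℓ a i ⊗ n`. -/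
noncomputable def lam (ℓ : A →ₗ[R] ↥I →ₗ[R] J) (N : Type u) [AddCommGroup N] [Module R N] :
    A ⊗[R] (↥I ⊗[R] N) →ₗ[R] J ⊗[R] N :=
  TensorProduct.lift ((LinearMap.rTensorHom N) ∘ₗ ℓ)

@[simp] theorem lam_tmul (ℓ : A →ₗ[R] ↥I →ₗ[R] J) (N : Type u) [AddCommGroup N] [Module R N]
    (a : A) (s : ↥I ⊗[R] N) : lam I ℓ N (a ⊗ₜ s) = (ℓ a).rTensor N s := by
  simp [lam]

theorem rTensor_lam (ℓ : A →ₗ[R] ↥I →ₗ[R] J) (j : J →ₗ[R] A)
    (hℓ : ∀ (a : A) (i : ↥I), j (ℓ a i) = (i : R) • a)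
    (N : Type u) [AddCommGroup N] [Module R N] (t : A ⊗[R] (↥I ⊗[R] N)) :
    j.rTensor N (lam I ℓ N t) = (mulMap I N).lTensor A t := by
  induction t using TensorProduct.induction_on with
  | zero => simp
  | tmul a s =>
    rw [lam_tmul, LinearMap.lTensor_tmul]
    induction s using TensorProduct.induction_on with
    | zero => simp
    | tmul i f =>
      rw [LinearMap.rTensor_tmul, LinearMap.rTensor_tmul, hℓ, mulMap_tmul,
        TensorProduct.smul_tmul]
    | add s₁ s₂ h₁ h₂ => simp only [map_add, TensorProduct.tmul_add, h₁, h₂]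
  | add t₁ t₂ h₁ h₂ => simp only [map_add, h₁, h₂]

theorem lTensor_lam (ℓ : A →ₗ[R] ↥I →ₗ[R] J)
    {N N' : Type u} [AddCommGroup N] [Module R N] [AddCommGroup N'] [Module R N']
    (π : N →ₗ[R] N') (t : A ⊗[R] (↥I ⊗[R] N)) :
    π.lTensor J (lam I ℓ N t) = lam I ℓ N' ((π.lTensor ↥I).lTensor A t) := by
  induction t using TensorProduct.induction_on with
  | zero => simp
  | tmul a s =>
    rw [lam_tmul, LinearMap.lTensor_tmul, lam_tmul]
    induction s using TensorProduct.induction_on with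
    | zero => simp
    | tmul i f => simp
    | add s₁ s₂ h₁ h₂ => simp only [map_add, h₁, h₂]
  | add t₁ t₂ h₁ h₂ => simp only [map_add, h₁, h₂]

/-- Auxiliary form of `mem_span_of_rTensor_eq_zero` with a chosen flat presentation. -/
theorem mem_span_of_rTensor_eq_zero_aux
    {F : Type u} [AddCommGroup F] [Module R F] [Module.Flat R F]
    (π : F →ₗ[R] M) (hπ : Function.Surjective π)
    (h2 : Module.Flat (R ⧸ I) ((R ⧸ I) ⊗[R] M))
    (j : J →ₗ[R] A) (hj : Function.Injective j) (hJ : ∀ c, j c ∈ I • (⊤ : Submodule R A))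
    (ℓ : A →ₗ[R] ↥I →ₗ[R] J) (hℓ : ∀ (a : A) (i : ↥I), j (ℓ a i) = (i : R) • a)
    (y : J ⊗[R] M) (hy : j.rTensor M y = 0) :
    y ∈ Submodule.span R {w | ∃ (a : A) (z : ↥I ⊗[R] M),
      I.subtype.rTensor M z = 0 ∧ w = (ℓ a).rTensor M z} := by
  have hjF : Function.Injective (j.rTensor F) :=
    Module.Flat.rTensor_preserves_injective_linearMap j hj
  obtain ⟨yt, rfl⟩ := LinearMap.lTensor_surjective J hπ y
  have hk' : π.lTensor A (j.rTensor F yt) = 0 := by
    rw [← LinearMap.comp_apply, LinearMap.lTensor_comp_rTensor, ← LinearMap.rTensor_comp_lTensor]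
    exact hy
  obtain ⟨ξt, hξt⟩ := exists_lTensor_eq I π hπ h2 (j.rTensor F yt) hk'
    (lTensor_mk_rTensor_eq_zero I j hJ yt)
  have hyt : yt = lam I ℓ F ((LinearMap.ker (π ∘ₗ mulMap I F)).subtype.lTensor A ξt) := by
    apply hjF
    rw [rTensor_lam I ℓ j hℓ, ← LinearMap.comp_apply, ← LinearMap.lTensor_comp, hξt]
  rw [hyt, lTensor_lam]
  have hfinal : ∀ ξ : A ⊗[R] ↥(LinearMap.ker (π ∘ₗ mulMap I F)),
      lam I ℓ M ((π.lTensor ↥I).lTensor A
        ((LinearMap.ker (π ∘ₗ mulMap I F)).subtype.lTensor A ξ)) ∈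
      Submodule.span R {w | ∃ (a : A) (z : ↥I ⊗[R] M),
        I.subtype.rTensor M z = 0 ∧ w = (ℓ a).rTensor M z} := by
    intro ξ
    induction ξ using TensorProduct.induction_on with
    | zero => simp
    | tmul a ξ₀ =>
      rw [LinearMap.lTensor_tmul, LinearMap.lTensor_tmul, lam_tmul]
      apply Submodule.subset_span
      refine ⟨a, π.lTensor ↥I (ξ₀ : ↥I ⊗[R] F), ?_, rfl⟩
      rw [← mulMap_eq_zero_iff, mulMap_natural]
      exact LinearMap.mem_ker.mp ξ₀.2
    | add ξ₁ ξ₂ h₁ h₂ =>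
      simp only [map_add]
      exact Submodule.add_mem _ h₁ h₂
  exact hfinal ξt

/-- **Base change of `Tor₁(R/I, M)`** (Stacks 10.99.7-type statement, elementwise form).
If `M/IM` is flat over `R/I`, `A` is an `R`-module and `j : J ↪ A` has image `I A` (with
`ℓ a i ↦ i • a` the structure map `A → Hom(I, J)`), then the kernel of `J ⊗ M → A ⊗ M` is generated
by the images of `Z = ker (I ⊗ M → M)` under the maps `ℓ a ⊗ M`, `a ∈ A`. -/
theorem mem_span_of_rTensor_eq_zero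
    (h2 : Module.Flat (R ⧸ I) ((R ⧸ I) ⊗[R] M))
    (j : J →ₗ[R] A) (hj : Function.Injective j) (hJ : ∀ c, j c ∈ I • (⊤ : Submodule R A))
    (ℓ : A →ₗ[R] ↥I →ₗ[R] J) (hℓ : ∀ (a : A) (i : ↥I), j (ℓ a i) = (i : R) • a)
    (y : J ⊗[R] M) (hy : j.rTensor M y = 0) :
    y ∈ Submodule.span R {w | ∃ (a : A) (z : ↥I ⊗[R] M),
      I.subtype.rTensor M z = 0 ∧ w = (ℓ a).rTensor M z} :=
  mem_span_of_rTensor_eq_zero_aux I (F := M →₀ R) (Finsupp.linearCombination R (id : M → M))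
    (Finsupp.linearCombination_surjective R Function.surjective_id) h2 j hj hJ ℓ hℓ y hy

end C

end Groth.Agent.Helper13BCTor
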