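import Mathlib
import Groth.Prelude.Def_GrSyz

/-!
# A `GrSyz.FreeRes` gives a projective resolution in `ModuleCat`   (helper13)
-/

set_option autoImplicit false
universe u v
open CategoryTheory Limits

namespace Groth.Agent.Helper13FreeRes

variable {R : Type u} [CommRing R] {σ' : Type u} [SetLike σ' R]
  {𝒜 : ℤ → σ'} {M : Type u} [AddCommGroup M] [Module R M] {τ : Type u} [SetLike τ M]
  [AddSubgroupClass τ M] {ℳ : ℤ → τ} [DirectSum.Decomposition ℳ] [SetLike.GradedSMul 𝒜 ℳ]
  (F : GrSyz.FreeRes 𝒜 ℳ)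

theorem dLin_comp (i : ℕ) (v : Fin (F.rk (i + 1 + 1)) → R) : F.dLin i (F.dLin (i + 1) v) = 0 := by
  have : F.dLin (i + 1) v ∈ LinearMap.ker (F.dLin i) := by
    rw [F.exact_succ i]
    exact ⟨v, rfl⟩
  exact this

theorem aug_dLin (v : Fin (F.rk 1) → R) : F.augLin (F.dLin 0 v) = 0 := by
  have : F.dLin 0 v ∈ LinearMap.ker F.augLin := by
    rw [F.exact_zero]
    exact ⟨v, rfl⟩
  exact this

/-- the complex of free modules -/
noncomputable def cx : ChainComplex (ModuleCat.{u} R) ℕ :=
  ChainComplex.of (fun i => ModuleCat.of R (Fin (F.rk i) → R))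
    (fun i => ModuleCat.ofHom (F.dLin i))
    (fun i => by
      apply ModuleCat.hom_ext
      apply LinearMap.ext
      intro v
      exact dLin_comp F i v)

theorem cx_d (i : ℕ) : (cx F).d (i + 1) i = ModuleCat.ofHom (F.dLin i) := by
  show ChainComplex.of.d (fun i => ModuleCat.of R (Fin (F.rk i) → R))
    (fun i => ModuleCat.ofHom (F.dLin i)) (i + 1) i = _
  rw [ChainComplex.of_d]

theorem cx_exactAt_succ (n : ℕ) : (cx F).ExactAt (n + 1) := by
  rw [HomologicalComplex.exactAt_iff' _ (n + 2) (n + 1) n (by simp) (by simp),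
    ShortComplex.moduleCat_exact_iff]
  intro x hx
  have hx' : ((cx F).d (n + 1) n).hom x = 0 := hx
  rw [cx_d] at hx'
  have hmem : (show Fin (F.rk (n + 1)) → R from x) ∈ LinearMap.ker (F.dLin n) := hx'
  rw [F.exact_succ n] at hmem
  obtain ⟨y, hy⟩ := hmem
  refine ⟨y, ?_⟩
  show ((cx F).d (n + 1 + 1) (n + 1)).hom y = x
  rw [cx_d]
  exact hy

theorem d_aug : (cx F).d 1 0 ≫ ModuleCat.ofHom F.augLin = 0 := by
  rw [cx_d]
  apply ModuleCat.hom_ext
  apply LinearMap.ext
  intro v
  exact aug_dLin F v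

theorem aug_exact : (ShortComplex.mk ((cx F).d 1 0) (ModuleCat.ofHom F.augLin) (d_aug F)).Exact := by
  rw [ShortComplex.moduleCat_exact_iff]
  intro x hx
  have hmem : (show Fin (F.rk 0) → R from x) ∈ LinearMap.ker F.augLin := hx
  rw [F.exact_zero] at hmem
  obtain ⟨y, hy⟩ := hmem
  refine ⟨y, ?_⟩
  show ((cx F).d (0 + 1) 0).hom y = x
  rw [cx_d]
  exact hy

instance aug_epi : Epi (ModuleCat.ofHom F.augLin) := by
  rw [ModuleCat.epi_iff_surjective]
  exact F.aug_surjective

/-- the projective resolution of `M` attached to a free resolution -/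
noncomputable def res : ProjectiveResolution (ModuleCat.of R M) where
  complex := cx F
  projective n := by
    show Projective (ModuleCat.of R (Fin (F.rk n) → R))
    exact (IsProjective.iff_projective _).1 inferInstance
  π := (ChainComplex.toSingle₀Equiv _ _).symm ⟨ModuleCat.ofHom F.augLin, d_aug F⟩
  quasiIso := ⟨fun n => by
    cases n with
    | zero =>
      rw [ChainComplex.quasiIsoAt₀_iff]
      have hg₁ : ((HomologicalComplex.shortComplexFunctor' (ModuleCat.{u} R)
          (ComplexShape.down ℕ) 1 0 0).obj (cx F)).g = 0 := by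
        show (cx F).d 0 0 = 0
        exact HomologicalComplex.shape _ _ _ (by simp)
      rw [ShortComplex.quasiIso_iff_of_zeros' _ hg₁ rfl rfl]
      have hτ : ((ChainComplex.toSingle₀Equiv (cx F) (ModuleCat.of R M)).symm
          ⟨ModuleCat.ofHom F.augLin, d_aug F⟩).f 0 = ModuleCat.ofHom F.augLin :=
        ChainComplex.toSingle₀Equiv_symm_apply_f_zero _ _
      refine ⟨?_, ?_⟩
      · refine ShortComplex.exact_of_iso ?_ (aug_exact F)
        refine ShortComplex.isoMk (Iso.refl _) (Iso.refl _) (Iso.refl _) ?_ ?_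
        · show 𝟙 _ ≫ (cx F).d 1 0 = (cx F).d 1 0 ≫ 𝟙 _
          rw [Category.id_comp, Category.comp_id]
        · show 𝟙 _ ≫ ((ChainComplex.toSingle₀Equiv (cx F) (ModuleCat.of R M)).symm
            ⟨ModuleCat.ofHom F.augLin, d_aug F⟩).f 0 = ModuleCat.ofHom F.augLin ≫ 𝟙 _
          rw [hτ, Category.id_comp, Category.comp_id]
      · show Epi (((ChainComplex.toSingle₀Equiv (cx F) (ModuleCat.of R M)).symm
            ⟨ModuleCat.ofHom F.augLin, d_aug F⟩).f 0)
        rw [hτ]
        exact aug_epi F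
    | succ n =>
      rw [quasiIsoAt_iff_exactAt']
      · exact cx_exactAt_succ F n
      · apply ChainComplex.exactAt_succ_single_obj⟩

end Groth.Agent.Helper13FreeRes

namespace Groth.Agent.Helper13FreeRes

section maximal
variable (k : Type u) [Field k] (σ : Type v)

theorem irrel_stdGr_eq_ker :
    (GrSyz.irrel (GrSyz.stdGr k σ)).toIdeal =
      RingHom.ker (MvPolynomial.constantCoeff : MvPolynomial σ k →+* k) := by
  classical
  apply le_antisymm
  · show Ideal.span _ ≤ _
    rw [Ideal.span_le]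
    rintro p ⟨n, hn, hp⟩
    rw [SetLike.mem_coe, RingHom.mem_ker, MvPolynomial.constantCoeff_eq]
    rw [GrSyz.mem_stdGr_iff] at hp
    apply hp.coeff_eq_zero
    rw [map_zero]
    exact hn.ne
  · intro p hp
    rw [RingHom.mem_ker, MvPolynomial.constantCoeff_eq] at hp
    rw [p.as_sum]
    refine Ideal.sum_mem _ (fun d hd => ?_)
    have hd0 : d ≠ 0 := by
      rintro rfl
      exact (MvPolynomial.mem_support_iff.1 hd) hp
    obtain ⟨i, hi⟩ : ∃ i, d i ≠ 0 := by
      by_contra hcon
      push Not at hcon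
      exact hd0 (Finsupp.ext hcon)
    have hpos : 0 < Finsupp.weight (fun _ : σ => (1 : ℤ)) d := by
      rw [Finsupp.weight_apply, Finsupp.sum]
      have hnn : ∀ j ∈ d.support, 0 ≤ d j • (1 : ℤ) := fun j _ => by positivity
      refine lt_of_lt_of_le ?_ (Finset.single_le_sum hnn (Finsupp.mem_support_iff.2 hi))
      have : 0 < d i := Nat.pos_of_ne_zero hi
      simpa using this
    exact Ideal.subset_span ⟨_, hpos, (GrSyz.mem_stdGr_iff k σ _ _).2
      (MvPolynomial.isWeightedHomogeneous_monomial _ d _ rfl)⟩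

theorem isMaximal_irrel_stdGr : ((GrSyz.irrel (GrSyz.stdGr k σ)).toIdeal).IsMaximal := by
  rw [irrel_stdGr_eq_ker]
  apply RingHom.ker_isMaximal_of_surjective
  intro c
  exact ⟨MvPolynomial.C c, MvPolynomial.constantCoeff_C _ c⟩

end maximal

section tensor
variable {S : Type u} [CommRing S] (𝔪 : Ideal S)

theorem tmul_eq_zero_of_forall_mem {n : ℕ} (x : S ⧸ 𝔪) (w : Fin n → S) (hw : ∀ a, w a ∈ 𝔪) :
    x ⊗ₜ[S] w = 0 := by
  classical
  have h1 : w = ∑ a, w a • (Pi.single a (1 : S) : Fin n → S) := by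
    ext b
    simp [Finset.sum_apply, Pi.single_apply]
  have h2 : ∀ a, w a • x = 0 := by
    intro a
    obtain ⟨y, rfl⟩ := Ideal.Quotient.mk_surjective x
    rw [Algebra.smul_def, Ideal.Quotient.algebraMap_eq, ← map_mul,
      Ideal.Quotient.eq_zero_iff_mem]
    exact Ideal.mul_mem_right _ _ (hw a)
  rw [h1, TensorProduct.tmul_sum]
  refine Finset.sum_eq_zero (fun a _ => ?_)
  rw [TensorProduct.tmul_smul, TensorProduct.smul_tmul', h2, TensorProduct.zero_tmul]

theorem lTensor_mulVecLin_eq_zero {m n : ℕ} (D : Matrix (Fin m) (Fin n) S)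
    (hD : ∀ a b, D a b ∈ 𝔪) :
    LinearMap.lTensor (S ⧸ 𝔪) (Matrix.mulVecLin D) = 0 := by
  apply TensorProduct.ext'
  intro x v
  rw [LinearMap.lTensor_tmul, LinearMap.zero_apply]
  apply tmul_eq_zero_of_forall_mem
  intro a
  rw [Matrix.mulVecLin_apply, Matrix.mulVec, dotProduct]
  exact Ideal.sum_mem _ (fun b _ => Ideal.mul_mem_right _ _ (hD a b))

theorem length_tensor_pi [h𝔪 : 𝔪.IsMaximal] (n : ℕ) :
    Module.length S (TensorProduct S (S ⧸ 𝔪) (Fin n → S)) = n := by
  haveI : IsSimpleModule S (S ⧸ 𝔪) := isSimpleModule_iff_isCoatom.2 (Ideal.isMaximal_def.1 h𝔪)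
  rw [(TensorProduct.piScalarRight S S (S ⧸ 𝔪) (Fin n)).length_eq, Module.length_pi,
    Module.length_eq_one]
  simp

end tensor

end Groth.Agent.Helper13FreeRes
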