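import Mathlib
import Groth.Prelude.Def_GrSyz

/-!
# Hilbert function of a graded module via a graded free resolution

* `finrank_stdGr`: `dim_k k[x_0..x_r]_n = C(r + n, r)` (and `0` for `n < 0`);
* degree strands of a `GrSyz.FreeRes` and their exactness;
* `finrank_piece_eq`: `dim_k M_d = Σ_i (-1)^i Σ_b dim_k S_{d - a_{i,b}}`.
-/

set_option autoImplicit false
universe u
open MvPolynomial

namespace Groth.Agent.Helper13Hilb

section finrank

variable (k : Type u) [Field k] (σ : Type*) [Fintype σ] [DecidableEq σ]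

theorem weight_one_int (d : σ →₀ ℕ) :
    Finsupp.weight (fun _ : σ => (1 : ℤ)) d = (d.degree : ℤ) := by
  simp [Finsupp.weight_apply, Finsupp.sum, Finsupp.degree]

theorem stdGr_eq_restrictSupport (n : ℤ) :
    GrSyz.stdGr k σ n = MvPolynomial.restrictSupport k {d : σ →₀ ℕ | (d.degree : ℤ) = n} := by
  unfold GrSyz.stdGr
  rw [weightedHomogeneousSubmodule_eq_finsupp_supported]
  simp only [weight_one_int]
  rfl

theorem setOf_degree_eq (m : ℕ) :
    {d : σ →₀ ℕ | (d.degree : ℤ) = (m : ℤ)} = ↑((Finset.univ : Finset σ).finsuppAntidiag m) := by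
  ext d
  simp only [Set.mem_ofPred_eq, Finset.mem_coe, Finset.mem_finsuppAntidiag, Finset.subset_univ,
    and_true, Nat.cast_inj]
  rw [Finsupp.degree_apply, Finset.sum_subset (Finset.subset_univ d.support)
    (fun x _ hx => Finsupp.notMem_support_iff.1 hx)]

theorem finrank_stdGr_nat (m : ℕ) :
    Module.finrank k (GrSyz.stdGr k σ (m : ℤ)) = (Fintype.card σ + m - 1).choose m := by
  rw [stdGr_eq_restrictSupport, setOf_degree_eq]
  rw [Module.finrank_eq_nat_card_basis (basisRestrictSupport k _)]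
  rw [Nat.card_coe_set_eq, Set.ncard_coe_finset, Finset.card_finsuppAntidiag_nat_eq_choose]
  simp

theorem finrank_stdGr_neg (n : ℤ) (hn : n < 0) :
    Module.finrank k (GrSyz.stdGr k σ n) = 0 := by
  rw [stdGr_eq_restrictSupport]
  have : {d : σ →₀ ℕ | (d.degree : ℤ) = n} = ∅ := by
    ext d
    simp only [Set.mem_ofPred_eq, Set.mem_empty_iff_false, iff_false]
    omega
  rw [this, Module.finrank_eq_nat_card_basis (basisRestrictSupport k _)]
  simp

instance finite_stdGr (n : ℤ) : Module.Finite k (GrSyz.stdGr k σ n) := by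
  rw [stdGr_eq_restrictSupport]
  by_cases hn : 0 ≤ n
  · obtain ⟨m, rfl⟩ := Int.eq_ofNat_of_zero_le hn
    rw [setOf_degree_eq]
    exact Module.Finite.of_basis (basisRestrictSupport k _)
  · have : {d : σ →₀ ℕ | (d.degree : ℤ) = n} = ∅ := by
      ext d
      simp only [Set.mem_ofPred_eq, Set.mem_empty_iff_false, iff_false]
      omega
    rw [this]
    exact Module.Finite.of_basis (basisRestrictSupport k _)

theorem finrank_stdGr (r : ℕ) (n : ℤ) :
    Module.finrank k (GrSyz.stdGr k (Fin (r + 1)) n) =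
      if 0 ≤ n then (r + n.toNat).choose r else 0 := by
  split_ifs with hn
  · obtain ⟨m, rfl⟩ := Int.eq_ofNat_of_zero_le hn
    rw [finrank_stdGr_nat, Fintype.card_fin, Int.toNat_natCast]
    have : r + 1 + m - 1 = r + m := by omega
    rw [this, add_comm r m, Nat.choose_symm_add]
  · exact finrank_stdGr_neg k _ n (by omega)

end finrank

section strand

variable {k : Type u} [Field k] {R : Type u} [CommRing R] [Algebra k R]
  (𝒜 : ℤ → Submodule k R) [GradedAlgebra 𝒜]

/-- degree `d` strand of the free module whose basis vectors have degrees `a`. -/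
def strand {n : ℕ} (a : Fin n → ℤ) (d : ℤ) : Submodule k (Fin n → R) :=
  Submodule.pi Set.univ (fun b => 𝒜 (d - a b))

theorem mem_strand {n : ℕ} (a : Fin n → ℤ) (d : ℤ) (v : Fin n → R) :
    v ∈ strand 𝒜 a d ↔ ∀ b, v b ∈ 𝒜 (d - a b) := by
  simp [strand, Submodule.mem_pi]

/-- projection onto the strand. -/
noncomputable def proj {n : ℕ} (a : Fin n → ℤ) (d : ℤ) : (Fin n → R) →ₗ[k] (Fin n → R) :=
  LinearMap.pi (fun b => (GradedAlgebra.proj 𝒜 (d - a b)) ∘ₗ LinearMap.proj b)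

theorem proj_apply {n : ℕ} (a : Fin n → ℤ) (d : ℤ) (v : Fin n → R) (b : Fin n) :
    proj 𝒜 a d v b = (DirectSum.decompose 𝒜 (v b) (d - a b) : R) := by
  simp [proj, GradedAlgebra.proj_apply]

theorem proj_mem {n : ℕ} (a : Fin n → ℤ) (d : ℤ) (v : Fin n → R) :
    proj 𝒜 a d v ∈ strand 𝒜 a d := by
  rw [mem_strand]
  intro b
  rw [proj_apply]
  exact SetLike.coe_mem _

theorem proj_eq_self {n : ℕ} (a : Fin n → ℤ) (d : ℤ) (v : Fin n → R) (hv : v ∈ strand 𝒜 a d) :
    proj 𝒜 a d v = v := by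
  ext b
  rw [proj_apply, DirectSum.decompose_of_mem_same 𝒜 ((mem_strand 𝒜 a d v).1 hv b)]

theorem mulVec_proj {m n : ℕ} (a₁ : Fin m → ℤ) (a₂ : Fin n → ℤ) (D : Matrix (Fin m) (Fin n) R)
    (hD : ∀ i j, D i j ∈ 𝒜 (a₂ j - a₁ i)) (d : ℤ) (w : Fin n → R) :
    D.mulVec (proj 𝒜 a₂ d w) = proj 𝒜 a₁ d (D.mulVec w) := by
  ext i
  rw [proj_apply]
  simp only [Matrix.mulVec, dotProduct]
  rw [DirectSum.decompose_sum, DFinsupp.finsetSum_apply, AddSubmonoidClass.coe_finsetSum]
  refine Finset.sum_congr rfl (fun j _ => ?_)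
  rw [proj_apply]
  have h : d - a₁ i = (a₂ j - a₁ i) + (d - a₂ j) := by ring
  rw [h, DirectSum.coe_decompose_mul_add_of_left_mem 𝒜 (hD i j)]

theorem mulVec_mem_strand {m n : ℕ} (a₁ : Fin m → ℤ) (a₂ : Fin n → ℤ)
    (D : Matrix (Fin m) (Fin n) R)
    (hD : ∀ i j, D i j ∈ 𝒜 (a₂ j - a₁ i)) (d : ℤ) (w : Fin n → R) (hw : w ∈ strand 𝒜 a₂ d) :
    D.mulVec w ∈ strand 𝒜 a₁ d := by
  have := mulVec_proj 𝒜 a₁ a₂ D hD d w
  rw [proj_eq_self 𝒜 a₂ d w hw] at this
  rw [this]
  exact proj_mem 𝒜 a₁ d _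

/-- the strand is the product of the pieces. -/
def strandEquiv {n : ℕ} (a : Fin n → ℤ) (d : ℤ) :
    strand 𝒜 a d ≃ₗ[k] (∀ b, 𝒜 (d - a b)) where
  toFun v b := ⟨v.1 b, (mem_strand 𝒜 a d v.1).1 v.2 b⟩
  invFun w := ⟨fun b => (w b : R), (mem_strand 𝒜 a d _).2 (fun b => (w b).2)⟩
  map_add' _ _ := rfl
  map_smul' _ _ := rfl
  left_inv _ := rfl
  right_inv _ := rfl

theorem finrank_strand [∀ j, Module.Finite k (𝒜 j)] {n : ℕ} (a : Fin n → ℤ) (d : ℤ) :
    Module.finrank k (strand 𝒜 a d) = ∑ b, Module.finrank k (𝒜 (d - a b)) := by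
  rw [(strandEquiv 𝒜 a d).finrank_eq, Module.finrank_pi_fintype]

instance finite_strand [∀ j, Module.Finite k (𝒜 j)] {n : ℕ} (a : Fin n → ℤ) (d : ℤ) :
    Module.Finite k (strand 𝒜 a d) :=
  Module.Finite.equiv (strandEquiv 𝒜 a d).symm

end strand

section module

variable {k : Type u} [Field k] {R : Type u} [CommRing R] [Algebra k R]
  (𝒜 : ℤ → Submodule k R) [GradedAlgebra 𝒜]
  {M : Type u} [AddCommGroup M] [Module k M] [Module R M] [IsScalarTower k R M]
  (ℳ : ℤ → Submodule k M) [DirectSum.Decomposition ℳ] [SetLike.GradedSMul 𝒜 ℳ]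

theorem decompose_smul_of_mem (d j : ℤ) (a : R) (y : M) (hy : y ∈ ℳ j) :
    (DirectSum.decompose ℳ (a • y) d : M) = (DirectSum.decompose 𝒜 a (d - j) : R) • y := by
  induction a using DirectSum.Decomposition.inductionOn 𝒜 with
  | zero => simp
  | @homogeneous n a =>
    have hmem : (a : R) • y ∈ ℳ (n + j) := SetLike.GradedSMul.smul_mem a.2 hy
    by_cases h : n + j = d
    · have h' : d - j = n := by omega
      rw [h', DirectSum.decompose_coe, DirectSum.of_eq_same, ← h,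
        DirectSum.decompose_of_mem_same ℳ hmem]
    · have h' : n ≠ d - j := by omega
      rw [DirectSum.decompose_of_mem_ne ℳ hmem h, DirectSum.decompose_coe,
        DirectSum.of_eq_of_ne _ _ _ h'.symm]
      simp
  | add a a' ha ha' =>
    rw [add_smul, DirectSum.decompose_add, DirectSum.add_apply, Submodule.coe_add, ha, ha',
      DirectSum.decompose_add, DirectSum.add_apply, Submodule.coe_add, add_smul]

variable {𝒜 ℳ} (F : GrSyz.FreeRes 𝒜 ℳ)

theorem augLin_apply (v : Fin (F.rk 0) → R) : F.augLin v = ∑ b, v b • F.aug b := by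
  simp [GrSyz.FreeRes.augLin, Fintype.linearCombination_apply]

theorem augLin_mem (d : ℤ) (v : Fin (F.rk 0) → R) (hv : v ∈ strand 𝒜 (F.deg 0) d) :
    F.augLin v ∈ ℳ d := by
  rw [augLin_apply]
  refine Submodule.sum_mem _ (fun b _ => ?_)
  have h := SetLike.GradedSMul.smul_mem (A := 𝒜) (B := ℳ) ((mem_strand 𝒜 _ d v).1 hv b)
    (F.aug_mem b)
  have e : (d - F.deg 0 b) +ᵥ F.deg 0 b = d := by simp
  rwa [e] at h

theorem augLin_proj (d : ℤ) (v : Fin (F.rk 0) → R) :
    F.augLin (proj 𝒜 (F.deg 0) d v) = (DirectSum.decompose ℳ (F.augLin v) d : M) := by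
  rw [augLin_apply, augLin_apply, DirectSum.decompose_sum, DFinsupp.finsetSum_apply,
    AddSubmonoidClass.coe_finsetSum]
  refine Finset.sum_congr rfl (fun b _ => ?_)
  rw [proj_apply, decompose_smul_of_mem 𝒜 ℳ d (F.deg 0 b) (v b) (F.aug b) (F.aug_mem b)]

theorem exists_strand_aug (d : ℤ) (x : M) (hx : x ∈ ℳ d) :
    ∃ v ∈ strand 𝒜 (F.deg 0) d, F.augLin v = x := by
  obtain ⟨v, rfl⟩ := F.aug_surjective x
  refine ⟨proj 𝒜 (F.deg 0) d v, proj_mem 𝒜 _ d v, ?_⟩
  rw [augLin_proj]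
  exact DirectSum.decompose_of_mem_same ℳ hx

theorem exists_strand_zero (d : ℤ) (v : Fin (F.rk 0) → R) (hv : v ∈ strand 𝒜 (F.deg 0) d)
    (h0 : F.augLin v = 0) :
    ∃ w ∈ strand 𝒜 (F.deg 1) d, F.dLin 0 w = v := by
  have : v ∈ LinearMap.ker (Fintype.linearCombination R F.aug) := h0
  rw [F.exact_zero] at this
  obtain ⟨w, rfl⟩ := this
  refine ⟨proj 𝒜 (F.deg 1) d w, proj_mem 𝒜 _ d w, ?_⟩
  have h := mulVec_proj 𝒜 (F.deg 0) (F.deg (0 + 1)) (F.d 0) (F.d_mem 0) d w
  have h2 := proj_eq_self 𝒜 (F.deg 0) d _ hv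
  exact h.trans h2

theorem exists_strand_succ (i : ℕ) (d : ℤ) (v : Fin (F.rk (i + 1)) → R)
    (hv : v ∈ strand 𝒜 (F.deg (i + 1)) d) (h0 : F.dLin i v = 0) :
    ∃ w ∈ strand 𝒜 (F.deg (i + 2)) d, F.dLin (i + 1) w = v := by
  have : v ∈ LinearMap.ker (Matrix.mulVecLin (F.d i)) := h0
  rw [F.exact_succ] at this
  obtain ⟨w, rfl⟩ := this
  refine ⟨proj 𝒜 (F.deg (i + 2)) d w, proj_mem 𝒜 _ d w, ?_⟩
  have h := mulVec_proj 𝒜 (F.deg (i + 1)) (F.deg (i + 1 + 1)) (F.d (i + 1)) (F.d_mem (i + 1)) d w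
  have h2 := proj_eq_self 𝒜 (F.deg (i + 1)) d _ hv
  exact h.trans h2

end module

section euler

theorem alt_sum_telescope (y : ℤ) (z a : ℕ → ℤ) (h0 : a 0 = y + z 0)
    (hs : ∀ i, a (i + 1) = z i + z (i + 1)) (n : ℕ) :
    ∑ i ∈ Finset.range (n + 1), (-1 : ℤ) ^ i * a i = y + (-1) ^ n * z n := by
  induction n with
  | zero => simp [h0]
  | succ n ih =>
    rw [Finset.sum_range_succ, ih, hs n, pow_succ]
    ring

variable {k : Type u} [Field k] {R : Type u} [CommRing R] [Algebra k R]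
  {𝒜 : ℤ → Submodule k R} [GradedAlgebra 𝒜]
  {M : Type u} [AddCommGroup M] [Module k M] [Module R M] [IsScalarTower k R M]
  {ℳ : ℤ → Submodule k M} [DirectSum.Decomposition ℳ] [SetLike.GradedSMul 𝒜 ℳ]
  (F : GrSyz.FreeRes 𝒜 ℳ)

/-- the differential on strands. -/
noncomputable def dStrand (i : ℕ) (d : ℤ) :
    strand 𝒜 (F.deg (i + 1)) d →ₗ[k] strand 𝒜 (F.deg i) d :=
  ((F.dLin i).restrictScalars k).restrict
    (fun w hw => mulVec_mem_strand 𝒜 _ _ (F.d i) (F.d_mem i) d w hw)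

/-- the augmentation on strands. -/
noncomputable def augStrand (d : ℤ) : strand 𝒜 (F.deg 0) d →ₗ[k] ℳ d :=
  ((F.augLin).restrictScalars k).restrict (fun v hv => augLin_mem F d v hv)

theorem augStrand_surjective (d : ℤ) : Function.Surjective (augStrand F d) := by
  rintro ⟨x, hx⟩
  obtain ⟨v, hv, rfl⟩ := exists_strand_aug F d x hx
  exact ⟨⟨v, hv⟩, rfl⟩

theorem ker_augStrand (d : ℤ) : LinearMap.ker (augStrand F d) = LinearMap.range (dStrand F 0 d) := by
  ext ⟨v, hv⟩
  simp only [LinearMap.mem_ker, LinearMap.mem_range]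
  constructor
  · intro h
    have h0 : F.augLin v = 0 := congrArg Subtype.val h
    obtain ⟨w, hw, hwv⟩ := exists_strand_zero F d v hv h0
    exact ⟨⟨w, hw⟩, Subtype.ext hwv⟩
  · rintro ⟨⟨w, hw⟩, hwv⟩
    have h1 : F.dLin 0 w = v := congrArg Subtype.val hwv
    apply Subtype.ext
    show F.augLin v = 0
    rw [← h1]
    have : F.dLin 0 w ∈ LinearMap.ker (Fintype.linearCombination R F.aug) := by
      rw [F.exact_zero]; exact ⟨w, rfl⟩
    exact this

theorem ker_dStrand (i : ℕ) (d : ℤ) :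
    LinearMap.ker (dStrand F i d) = LinearMap.range (dStrand F (i + 1) d) := by
  ext ⟨v, hv⟩
  simp only [LinearMap.mem_ker, LinearMap.mem_range]
  constructor
  · intro h
    have h0 : F.dLin i v = 0 := congrArg Subtype.val h
    obtain ⟨w, hw, hwv⟩ := exists_strand_succ F i d v hv h0
    exact ⟨⟨w, hw⟩, Subtype.ext hwv⟩
  · rintro ⟨⟨w, hw⟩, hwv⟩
    have h1 : F.dLin (i + 1) w = v := congrArg Subtype.val hwv
    apply Subtype.ext
    show F.dLin i v = 0
    rw [← h1]
    have : F.dLin (i + 1) w ∈ LinearMap.ker (Matrix.mulVecLin (F.d i)) := by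
      rw [F.exact_succ]; exact ⟨w, rfl⟩
    exact this

variable [∀ j, Module.Finite k (𝒜 j)]

/-- **Hilbert function via a finite graded free resolution** (abstract form). -/
theorem finrank_piece_eq (m : ℕ) (hF : F.HasLengthLE m) (d : ℤ) :
    (Module.finrank k (ℳ d) : ℤ) =
      ∑ i ∈ Finset.range (m + 1), (-1 : ℤ) ^ i *
        ∑ b : Fin (F.rk i), (Module.finrank k (𝒜 (d - F.deg i b)) : ℤ) := by
  have key := alt_sum_telescope (Module.finrank k (ℳ d) : ℤ)
    (fun i => (Module.finrank k (LinearMap.range (dStrand F i d)) : ℤ))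
    (fun i => (Module.finrank k (strand 𝒜 (F.deg i) d) : ℤ)) ?_ ?_ m
  · have hz : Module.finrank k (LinearMap.range (dStrand F m d)) = 0 := by
      have h1 := LinearMap.finrank_range_le (dStrand F m d)
      have h2 : Module.finrank k (strand 𝒜 (F.deg (m + 1)) d) = 0 := by
        rw [finrank_strand]
        have : F.rk (m + 1) = 0 := hF (m + 1) (by omega)
        have hemp : IsEmpty (Fin (F.rk (m + 1))) := by rw [this]; infer_instance
        exact Finset.sum_of_isEmpty _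
      omega
    simp only [hz, Nat.cast_zero, mul_zero, add_zero] at key
    rw [← key]
    refine Finset.sum_congr rfl (fun i _ => ?_)
    rw [finrank_strand]
    push_cast
    rfl
  · have h := LinearMap.finrank_range_add_finrank_ker (augStrand F d)
    rw [ker_augStrand, LinearMap.range_eq_top.2 (augStrand_surjective F d), finrank_top] at h
    show (Module.finrank k (strand 𝒜 (F.deg 0) d) : ℤ) = _
    rw [← h]
    push_cast
    rfl
  · intro i
    have h := LinearMap.finrank_range_add_finrank_ker (dStrand F i d)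
    rw [ker_dStrand] at h
    show (Module.finrank k (strand 𝒜 (F.deg (i + 1)) d) : ℤ) = _
    rw [← h]
    push_cast
    rfl

end euler

end Groth.Agent.Helper13Hilb
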