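import Mathlib
import Groth.Prelude.Def_GrSyz
import Groth.Agent.Lib.Helper13Hilb
import Groth.Agent.Lib.Helper13FreeRes

/-!
# Comparison of graded free resolutions; Betti numbers of a minimal resolution are minimal
-/

set_option autoImplicit false
universe u
open MvPolynomial

namespace Groth.Agent.Helper13Betti

open Groth.Agent.Helper13Hilb

section comparison

variable {k : Type u} [Field k] {R : Type u} [CommRing R] [Algebra k R]
  {𝒜 : ℤ → Submodule k R} [GradedAlgebra 𝒜]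
  {M : Type u} [AddCommGroup M] [Module k M] [Module R M] [IsScalarTower k R M]
  {ℳ : ℤ → Submodule k M} [DirectSum.Decomposition ℳ] [SetLike.GradedSMul 𝒜 ℳ]

/-- lifting a homogeneous matrix through a homogeneous matrix. -/
theorem exists_lift_matrix {m n p : ℕ} (a : Fin m → ℤ) (a' : Fin n → ℤ) (c : Fin p → ℤ)
    (D : Matrix (Fin m) (Fin n) R) (hD : ∀ i j, D i j ∈ 𝒜 (a' j - a i))
    (T : Matrix (Fin m) (Fin p) R) (hT : ∀ i l, T i l ∈ 𝒜 (c l - a i))
    (hrange : ∀ l, (fun i => T i l) ∈ LinearMap.range (Matrix.mulVecLin D)) :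
    ∃ L : Matrix (Fin n) (Fin p) R, (∀ j l, L j l ∈ 𝒜 (c l - a' j)) ∧ D * L = T := by
  have hcol : ∀ l, ∃ w : Fin n → R, w ∈ strand 𝒜 a' (c l) ∧ D.mulVec w = fun i => T i l := by
    intro l
    obtain ⟨w, hw⟩ := hrange l
    refine ⟨proj 𝒜 a' (c l) w, proj_mem 𝒜 _ _ w, ?_⟩
    have h := mulVec_proj 𝒜 a a' D hD (c l) w
    have hw' : D.mulVec w = fun i => T i l := hw
    rw [h, hw']
    exact proj_eq_self 𝒜 a (c l) _ ((mem_strand 𝒜 a (c l) _).2 (fun i => hT i l))
  choose w hw1 hw2 using hcol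
  refine ⟨Matrix.of (fun j l => w l j), fun j l => (mem_strand 𝒜 a' (c l) (w l)).1 (hw1 l) j, ?_⟩
  ext i l
  have := congrFun (hw2 l) i
  simpa [Matrix.mul_apply, Matrix.mulVec, dotProduct] using this

theorem mul_mem_of_hom {m n p : ℕ} (a : Fin m → ℤ) (a' : Fin n → ℤ) (c : Fin p → ℤ)
    (D : Matrix (Fin m) (Fin n) R) (hD : ∀ i j, D i j ∈ 𝒜 (a' j - a i))
    (E : Matrix (Fin n) (Fin p) R) (hE : ∀ j l, E j l ∈ 𝒜 (c l - a' j)) (i : Fin m) (l : Fin p) :
    (D * E) i l ∈ 𝒜 (c l - a i) := by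
  rw [Matrix.mul_apply]
  refine Submodule.sum_mem _ (fun j _ => ?_)
  have h := SetLike.GradedMul.mul_mem (hD i j) (hE j l)
  have e : a' j - a i + (c l - a' j) = c l - a i := by ring
  rwa [e] at h

variable (F F' : GrSyz.FreeRes 𝒜 ℳ)

/-- comparison data in degree `i`. -/
structure Cmp (i : ℕ) where
  Φ : Matrix (Fin (F'.rk i)) (Fin (F.rk i)) R
  hom : ∀ a b, Φ a b ∈ 𝒜 (F.deg i b - F'.deg i a)
  bd : ∀ v, Φ.mulVec (F.dLin i v) ∈ LinearMap.range (F'.dLin i)

theorem exists_cmp_zero :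
    ∃ c : Cmp F F' 0, ∀ v, F'.augLin (c.Φ.mulVec v) = F.augLin v := by
  have hcol : ∀ b, ∃ w : Fin (F'.rk 0) → R, w ∈ strand 𝒜 (F'.deg 0) (F.deg 0 b) ∧
      F'.augLin w = F.aug b := fun b => exists_strand_aug F' (F.deg 0 b) (F.aug b) (F.aug_mem b)
  choose w hw1 hw2 using hcol
  have key : ∀ v, F'.augLin ((Matrix.of (fun a b => w b a)).mulVec v) = F.augLin v := by
    intro v
    have h1 : (Matrix.of (fun a b => w b a)).mulVec v = ∑ b, v b • w b := by
      ext a
      simp [Matrix.mulVec, dotProduct, Finset.sum_apply, mul_comm]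
    rw [h1, map_sum, augLin_apply F]
    refine Finset.sum_congr rfl (fun b _ => ?_)
    rw [map_smul, hw2 b]
  refine ⟨⟨Matrix.of (fun a b => w b a),
    fun a b => (mem_strand 𝒜 (F'.deg 0) (F.deg 0 b) (w b)).1 (hw1 b) a, ?_⟩, key⟩
  intro v
  rw [← F'.exact_zero, LinearMap.mem_ker]
  show F'.augLin _ = 0
  rw [key]
  exact Groth.Agent.Helper13FreeRes.aug_dLin F v

theorem exists_cmp_succ (i : ℕ) (c : Cmp F F' i) :
    ∃ c' : Cmp F F' (i + 1), F'.d i * c'.Φ = c.Φ * F.d i := by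
  obtain ⟨L, hL, hLeq⟩ := exists_lift_matrix (𝒜 := 𝒜) (F'.deg i) (F'.deg (i + 1)) (F.deg (i + 1))
    (F'.d i) (F'.d_mem i) (c.Φ * F.d i)
    (mul_mem_of_hom (F'.deg i) (F.deg i) (F.deg (i + 1)) c.Φ c.hom (F.d i) (F.d_mem i))
    (fun l => by
      have h := c.bd (Pi.single l 1)
      have e : c.Φ.mulVec (F.dLin i (Pi.single l 1)) = fun a => (c.Φ * F.d i) a l := by
        ext a
        simp [GrSyz.FreeRes.dLin, Matrix.mulVec, dotProduct, Matrix.mul_apply, Pi.single_apply]
      rwa [e] at h)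
  refine ⟨⟨L, hL, ?_⟩, hLeq⟩
  intro v
  rw [← F'.exact_succ, LinearMap.mem_ker]
  show (F'.d i).mulVec (L.mulVec ((F.d (i + 1)).mulVec v)) = 0
  rw [Matrix.mulVec_mulVec, hLeq, ← Matrix.mulVec_mulVec]
  have := Groth.Agent.Helper13FreeRes.dLin_comp F i v
  have h0 : (F.d i).mulVec ((F.d (i + 1)).mulVec v) = 0 := this
  rw [h0, Matrix.mulVec_zero]

/-- comparison maps, chosen recursively. -/
noncomputable def cmp : ∀ i, Cmp F F' i
  | 0 => (exists_cmp_zero F F').choose
  | i + 1 => (exists_cmp_succ F F' i (cmp i)).choose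

theorem cmp_zero_spec (v : Fin (F.rk 0) → R) :
    F'.augLin ((cmp F F' 0).Φ.mulVec v) = F.augLin v :=
  (exists_cmp_zero F F').choose_spec v

theorem cmp_succ_spec (i : ℕ) : F'.d i * (cmp F F' (i + 1)).Φ = (cmp F F' i).Φ * F.d i :=
  (exists_cmp_succ F F' i (cmp F F' i)).choose_spec

end comparison

section homotopy

open CategoryTheory Groth.Agent.Helper13FreeRes

variable {R : Type u} [CommRing R] {σ' : Type u} [SetLike σ' R]
  {𝒜 : ℤ → σ'} {M : Type u} [AddCommGroup M] [Module R M] {τ : Type u} [SetLike τ M]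
  [AddSubgroupClass τ M] {ℳ : ℤ → τ} [DirectSum.Decomposition ℳ] [SetLike.GradedSMul 𝒜 ℳ]
  (F : GrSyz.FreeRes 𝒜 ℳ)

theorem mulVec_mem_of_entries {m n : ℕ} (𝔪 : Ideal R) (D : Matrix (Fin m) (Fin n) R)
    (hD : ∀ a b, D a b ∈ 𝔪) (v : Fin n → R) (a : Fin m) : D.mulVec v a ∈ 𝔪 := by
  rw [Matrix.mulVec, dotProduct]
  exact Ideal.sum_mem _ (fun b _ => Ideal.mul_mem_right _ _ (hD a b))

theorem linearMap_mem_of_coords {m n : ℕ} (𝔪 : Ideal R) (g : (Fin n → R) →ₗ[R] (Fin m → R))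
    (v : Fin n → R) (hv : ∀ b, v b ∈ 𝔪) (a : Fin m) : g v a ∈ 𝔪 := by
  classical
  have h1 : v = ∑ b, v b • (Pi.single b (1 : R) : Fin n → R) := by
    ext c
    simp [Finset.sum_apply, Pi.single_apply]
  rw [h1, map_sum, Finset.sum_apply]
  refine Ideal.sum_mem _ (fun b _ => ?_)
  rw [map_smul, Pi.smul_apply, smul_eq_mul]
  exact Ideal.mul_mem_right _ _ (hv b)

/-- an endomorphism of a minimal resolution lifting the identity is the identity modulo `𝔪`. -/
theorem sub_one_mem_of_lift_id (𝔪 : Ideal R) (hF : F.IsMinimal 𝔪)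
    (Θ : ∀ i, Matrix (Fin (F.rk i)) (Fin (F.rk i)) R)
    (h0 : ∀ v, F.augLin ((Θ 0).mulVec v) = F.augLin v)
    (hs : ∀ i, F.d i * Θ (i + 1) = Θ i * F.d i) (i : ℕ) (a b : Fin (F.rk i)) :
    (Θ i - 1) a b ∈ 𝔪 := by
  classical
  let θ : (res F).complex ⟶ (res F).complex := ChainComplex.ofHom (X := cx F) (Y := cx F)
    (fun i => ModuleCat.ofHom (Matrix.mulVecLin (Θ i))) (fun i => by
      rw [cx_d]
      apply ModuleCat.hom_ext
      apply LinearMap.ext
      intro v
      show (F.d i).mulVec ((Θ (i + 1)).mulVec v) = (Θ i).mulVec ((F.d i).mulVec v)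
      rw [Matrix.mulVec_mulVec, Matrix.mulVec_mulVec, hs])
  have hπ : (res F).π.f 0 = ModuleCat.ofHom F.augLin :=
    ChainComplex.toSingle₀Equiv_symm_apply_f_zero _ _
  have hθ : θ ≫ (res F).π = (res F).π ≫ (ChainComplex.single₀ _).map (𝟙 (ModuleCat.of R M)) := by
    rw [CategoryTheory.Functor.map_id, Category.comp_id]
    apply HomologicalComplex.to_single_hom_ext
    rw [HomologicalComplex.comp_f, hπ]
    apply ModuleCat.hom_ext
    apply LinearMap.ext
    intro v
    exact h0 v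
  have h1 : 𝟙 (res F).complex ≫ (res F).π =
      (res F).π ≫ (ChainComplex.single₀ _).map (𝟙 (ModuleCat.of R M)) := by
    rw [CategoryTheory.Functor.map_id, Category.comp_id, Category.id_comp]
  let H : Homotopy θ (𝟙 (res F).complex) :=
    ProjectiveResolution.liftHomotopy (𝟙 (ModuleCat.of R M)) θ (𝟙 _) hθ h1
  -- the entry is a coordinate of `(Θ i - 1) e_b`
  have hcol : ∀ v : Fin (F.rk i) → R, ∀ a, ((Θ i).mulVec v - v) a ∈ 𝔪 := by
    intro v a
    have hc := H.comm i
    cases i with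
    | zero =>
      rw [Homotopy.dNext_zero_chainComplex, Homotopy.prevD_chainComplex, zero_add] at hc
      have hd : (res F).complex.d (0 + 1) 0 = ModuleCat.ofHom (F.dLin 0) := cx_d F 0
      rw [hd] at hc
      have hc' := congrArg (fun g => (ModuleCat.Hom.hom g) v) hc
      change (Θ 0).mulVec v = (F.d 0).mulVec ((H.hom 0 1).hom v) + v at hc'
      rw [hc', add_sub_cancel_right]
      exact mulVec_mem_of_entries 𝔪 _ (hF 0) _ a
    | succ j =>
      rw [Homotopy.dNext_succ_chainComplex, Homotopy.prevD_chainComplex] at hc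
      have hd : (res F).complex.d (j + 1) j = ModuleCat.ofHom (F.dLin j) := cx_d F j
      have hd' : (res F).complex.d (j + 1 + 1) (j + 1) = ModuleCat.ofHom (F.dLin (j + 1)) :=
        cx_d F (j + 1)
      rw [hd, hd'] at hc
      have hc' := congrArg (fun g => (ModuleCat.Hom.hom g) v) hc
      let g : (Fin (F.rk j) → R) →ₗ[R] (Fin (F.rk (j + 1)) → R) := (H.hom j (j + 1)).hom
      change (Θ (j + 1)).mulVec v = g ((F.d j).mulVec v) +
        (F.d (j + 1)).mulVec ((H.hom (j + 1) (j + 1 + 1)).hom v) + v at hc'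
      rw [hc', add_sub_cancel_right, Pi.add_apply]
      refine Ideal.add_mem _ ?_ (mulVec_mem_of_entries 𝔪 _ (hF (j + 1)) _ a)
      exact linearMap_mem_of_coords 𝔪 g _
        (fun c => mulVec_mem_of_entries 𝔪 _ (hF j) v c) a
  have := hcol (Pi.single b 1) a
  have e : ((Θ i).mulVec (Pi.single b 1) - Pi.single b 1 : Fin (F.rk i) → R) a = (Θ i - 1) a b := by
    simp [Pi.single_apply, Matrix.one_apply]
  rwa [e] at this

end homotopy

section betti

variable {k : Type u} [Field k] {σ : Type}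
  {M : Type u} [AddCommGroup M] [Module k M] [Module (MvPolynomial σ k) M]
  [IsScalarTower k (MvPolynomial σ k) M]
  {ℳ : ℤ → Submodule k M} [DirectSum.Decomposition ℳ] [SetLike.GradedSMul (GrSyz.stdGr k σ) ℳ]

theorem constantCoeff_eq_zero_of_mem_stdGr {n : ℤ} (hn : n ≠ 0) {p : MvPolynomial σ k}
    (hp : p ∈ GrSyz.stdGr k σ n) : MvPolynomial.constantCoeff p = 0 := by
  rw [MvPolynomial.constantCoeff_eq]
  rw [GrSyz.mem_stdGr_iff] at hp
  apply hp.coeff_eq_zero
  rw [map_zero]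
  exact hn.symm

theorem betti_eq_card (F : GrSyz.FreeRes (GrSyz.stdGr k σ) ℳ) (i : ℕ) (j : ℤ) :
    F.betti i j = Fintype.card {b : Fin (F.rk i) // F.deg i b = j} := by
  unfold GrSyz.FreeRes.betti
  rw [Fintype.card_subtype]

/-- the Betti numbers of a minimal resolution are at most those of any other resolution. -/
theorem betti_le (F F' : GrSyz.FreeRes (GrSyz.stdGr k σ) ℳ)
    (hF : F.IsMinimal (GrSyz.irrel (GrSyz.stdGr k σ)).toIdeal) (i : ℕ) (j : ℤ) :
    F.betti i j ≤ F'.betti i j := by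
  classical
  let Φ := fun i => (cmp F F' i).Φ
  let Ψ := fun i => (cmp F' F i).Φ
  have h0 : ∀ v, F.augLin ((Ψ 0 * Φ 0).mulVec v) = F.augLin v := by
    intro v
    rw [← Matrix.mulVec_mulVec, cmp_zero_spec F' F, cmp_zero_spec F F']
  have hs : ∀ i, F.d i * (Ψ (i + 1) * Φ (i + 1)) = (Ψ i * Φ i) * F.d i := by
    intro i
    rw [← Matrix.mul_assoc, cmp_succ_spec F' F i, Matrix.mul_assoc, cmp_succ_spec F F' i,
      Matrix.mul_assoc]
  have hΘ := sub_one_mem_of_lift_id F _ hF (fun i => Ψ i * Φ i) h0 hs i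
  rw [Groth.Agent.Helper13FreeRes.irrel_stdGr_eq_ker] at hΘ
  -- constant coefficient matrices
  let A : Matrix (Fin (F'.rk i)) (Fin (F.rk i)) k := (Φ i).map MvPolynomial.constantCoeff
  let B : Matrix (Fin (F.rk i)) (Fin (F'.rk i)) k := (Ψ i).map MvPolynomial.constantCoeff
  have hBA : B * A = 1 := by
    have h1 : B * A = (Ψ i * Φ i).map MvPolynomial.constantCoeff :=
      (Matrix.map_mul (f := (MvPolynomial.constantCoeff : MvPolynomial σ k →+* k))).symm
    rw [h1]
    ext a b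
    have h2 := hΘ a b
    rw [RingHom.mem_ker, Matrix.sub_apply, map_sub, sub_eq_zero] at h2
    rw [Matrix.map_apply, h2, Matrix.one_apply, Matrix.one_apply]
    split_ifs <;> simp
  have hB0 : ∀ b a, F'.deg i a ≠ F.deg i b → B b a = 0 := by
    intro b a hne
    exact constantCoeff_eq_zero_of_mem_stdGr (sub_ne_zero.2 hne) ((cmp F' F i).hom b a)
  -- blocks
  let A' : Matrix {a : Fin (F'.rk i) // F'.deg i a = j} {b : Fin (F.rk i) // F.deg i b = j} k :=
    A.submatrix (↑) (↑)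
  let B' : Matrix {b : Fin (F.rk i) // F.deg i b = j} {a : Fin (F'.rk i) // F'.deg i a = j} k :=
    B.submatrix (↑) (↑)
  have hB'A' : B' * A' = 1 := by
    ext b b'
    rw [Matrix.mul_apply]
    have h1 : ∑ a : {a : Fin (F'.rk i) // F'.deg i a = j}, B' b a * A' a b' =
        ∑ a : Fin (F'.rk i), B b a * A a b' := by
      have h2 : ∑ a : {a : Fin (F'.rk i) // F'.deg i a = j}, B' b a * A' a b' =
          ∑ a ∈ Finset.univ.filter (fun a : Fin (F'.rk i) => F'.deg i a = j),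
            B b a * A a b' :=
        (Finset.sum_subtype (Finset.univ.filter (fun a : Fin (F'.rk i) => F'.deg i a = j))
          (p := fun a => F'.deg i a = j) (fun a => by simp) (fun a => B b a * A a b')).symm
      rw [h2]
      apply Finset.sum_subset (Finset.filter_subset _ _)
      intro a _ ha
      have hne : F'.deg i a ≠ F.deg i b := by
        rw [b.2]
        intro h
        exact ha (Finset.mem_filter.2 ⟨Finset.mem_univ _, h⟩)
      rw [hB0 b a hne, zero_mul]
    rw [h1, ← Matrix.mul_apply, hBA, Matrix.one_apply, Matrix.one_apply]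
    simp [Subtype.ext_iff]
  rw [betti_eq_card, betti_eq_card]
  calc Fintype.card {b : Fin (F.rk i) // F.deg i b = j}
      = (1 : Matrix {b : Fin (F.rk i) // F.deg i b = j} _ k).rank := (Matrix.rank_one).symm
    _ = (B' * A').rank := by rw [hB'A']
    _ ≤ A'.rank := Matrix.rank_mul_le_right _ _
    _ ≤ Fintype.card {a : Fin (F'.rk i) // F'.deg i a = j} := Matrix.rank_le_card_height _

theorem betti_eq (F F' : GrSyz.FreeRes (GrSyz.stdGr k σ) ℳ)
    (hF : F.IsMinimal (GrSyz.irrel (GrSyz.stdGr k σ)).toIdeal)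
    (hF' : F'.IsMinimal (GrSyz.irrel (GrSyz.stdGr k σ)).toIdeal) (i : ℕ) (j : ℤ) :
    F.betti i j = F'.betti i j :=
  le_antisymm (betti_le F F' hF i j) (betti_le F' F hF' i j)

end betti

end Groth.Agent.Helper13Betti
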