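import Mathlib
import Groth.Agent.Lib.Helper3FlatDescA

set_option autoImplicit false
set_option linter.style.haveILetI false
universe u

open TensorProduct

namespace Groth.Agent.Helper13ConsEx

open Groth.Agent.Lib.Helper3.FlatDesc

section ModelMap

variable {T₀ : Type*} [CommRing T₀] {ι₁ κ₁ ι₂ κ₂ : Type*} [Fintype κ₁] [Fintype ι₁] [Fintype κ₂]
  (w₁ : κ₁ → ι₁ → T₀) (w₂ : κ₂ → ι₂ → T₀) (U : ι₁ → ι₂ → T₀)

/-- the matrix `U` maps the relations `w₁` into the relation module of `w₂` (over `T₀`). -/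
def Compat : Prop := ∀ j, WT U T₀ (w₁ j) ∈ KT w₂ T₀

variable {w₁ w₂ U}

theorem wT_self (j : κ₁) : wT w₁ T₀ j = w₁ j := by
  ext i; simp [wT]

theorem WT_wT_mem_KT (h : Compat w₁ w₂ U) (T : Type*) [CommRing T] [Algebra T₀ T] (j : κ₁) :
    WT U T (wT w₁ T j) ∈ KT w₂ T := by
  have h1 : wT w₁ T j = Fmap T₀ T ι₁ (w₁ j) := by
    rw [← Fmap_wT w₁ T₀ T j, wT_self]
  rw [h1, WT_Fmap]
  exact Fmap_mem_KT w₂ T₀ T (h j)

theorem WT_mem_KT (h : Compat w₁ w₂ U) (T : Type*) [CommRing T] [Algebra T₀ T] {x : ι₁ → T}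
    (hx : x ∈ KT w₁ T) : WT U T x ∈ KT w₂ T := by
  obtain ⟨a, rfl⟩ := hx
  rw [WT_apply w₁ T a, map_sum]
  refine Submodule.sum_mem _ (fun j _ => ?_)
  rw [map_smul]
  exact Submodule.smul_mem _ _ (WT_wT_mem_KT h T j)

/-- the induced map of presented modules. -/
noncomputable def modelMap (h : Compat w₁ w₂ U) (T : Type*) [CommRing T] [Algebra T₀ T] :
    ((ι₁ → T) ⧸ KT w₁ T) →ₗ[T] ((ι₂ → T) ⧸ KT w₂ T) :=
  (KT w₁ T).mapQ (KT w₂ T) (WT U T) (fun _ hx => WT_mem_KT h T hx)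

@[simp]
theorem modelMap_mk (h : Compat w₁ w₂ U) (T : Type*) [CommRing T] [Algebra T₀ T] (x : ι₁ → T) :
    modelMap h T (Submodule.Quotient.mk x) = Submodule.Quotient.mk (WT U T x) := rfl

theorem Mmap_modelMap (h : Compat w₁ w₂ U) (T T' : Type*) [CommRing T] [Algebra T₀ T]
    [CommRing T'] [Algebra T₀ T'] [Algebra T T'] [IsScalarTower T₀ T T']
    (x : (ι₁ → T) ⧸ KT w₁ T) :
    Mmap w₂ T T' (modelMap h T x) = modelMap h T' (Mmap w₁ T T' x) := by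
  obtain ⟨x, rfl⟩ := Submodule.Quotient.mk_surjective _ x
  rw [modelMap_mk, Mmap_mk, Mmap_mk, modelMap_mk, WT_Fmap]

end ModelMap

end Groth.Agent.Helper13ConsEx
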