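import Mathlib
import Groth.Agent.Lib.Helper13ConsExA
import Groth.Agent.Lib.Helper3FlatBC
import Groth.Agent.Lib.Helper3FlatDescB

set_option autoImplicit false
set_option linter.style.haveILetI false
universe u

open TensorProduct

namespace Groth.Agent.Helper13ConsEx

open Groth.Agent.Lib.Helper3.FlatDesc Groth.Agent.Lib.Helper3.FlatLoc

section Ladder

variable {A A' : Type*} [CommRing A] [CommRing A'] [Algebra A A']
  {M₁ M₂ M₃ M₁' M₂' M₃' : Type*}
  [AddCommGroup M₁] [Module A M₁] [AddCommGroup M₂] [Module A M₂] [AddCommGroup M₃] [Module A M₃]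
  [AddCommGroup M₁'] [Module A' M₁'] [Module A M₁'] [IsScalarTower A A' M₁']
  [AddCommGroup M₂'] [Module A' M₂'] [Module A M₂'] [IsScalarTower A A' M₂']
  [AddCommGroup M₃'] [Module A' M₃'] [Module A M₃'] [IsScalarTower A A' M₃']

/-- exactness of a sequence which is a base change can be tested on the tensor product. -/
theorem exact_iff_baseChange_of_isBaseChange
    (u : M₁ →ₗ[A] M₂) (v : M₂ →ₗ[A] M₃) (u' : M₁' →ₗ[A'] M₂') (v' : M₂' →ₗ[A'] M₃')
    (g₁ : M₁ →ₗ[A] M₁') (g₂ : M₂ →ₗ[A] M₂') (g₃ : M₃ →ₗ[A] M₃')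
    (h₁ : IsBaseChange A' g₁) (h₂ : IsBaseChange A' g₂) (h₃ : IsBaseChange A' g₃)
    (hu : ∀ x, g₂ (u x) = u' (g₁ x)) (hv : ∀ x, g₃ (v x) = v' (g₂ x)) :
    Function.Exact u' v' ↔ Function.Exact (u.baseChange A') (v.baseChange A') := by
  refine Function.Exact.iff_of_ladder_linearEquiv (e₁ := h₁.equiv) (e₂ := h₂.equiv)
    (e₃ := h₃.equiv) ?_ ?_
  · apply TensorProduct.AlgebraTensorModule.curry_injective
    ext x
    simp [IsBaseChange.equiv_tmul, hu]
  · apply TensorProduct.AlgebraTensorModule.curry_injective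
    ext x
    simp [IsBaseChange.equiv_tmul, hv]

theorem exact_baseChange_of_flat [Module.Flat A A'] (u : M₁ →ₗ[A] M₂) (v : M₂ →ₗ[A] M₃)
    (h : Function.Exact u v) : Function.Exact (u.baseChange A') (v.baseChange A') := by
  have := Module.Flat.lTensor_exact A' h
  exact this

theorem exact_of_exact_baseChange_of_faithfullyFlat [Module.FaithfullyFlat A A']
    (u : M₁ →ₗ[A] M₂) (v : M₂ →ₗ[A] M₃)
    (h : Function.Exact (u.baseChange A') (v.baseChange A')) : Function.Exact u v := by
  have h' : Function.Exact (u.lTensor A') (v.lTensor A') := h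
  exact (Module.FaithfullyFlat.lTensor_exact_iff_exact A A' u v).mp h'

end Ladder

end Groth.Agent.Helper13ConsEx

namespace Groth.Agent.Helper13ConsEx

open Groth.Agent.Lib.Helper3.FlatDesc Groth.Agent.Lib.Helper3.FlatLoc

section Poly

attribute [local instance] MvPolynomial.algebraMvPolynomial

variable {Λ : Type*} [CommRing Λ] {σ : Type*}
  {ι₁ κ₁ ι₂ κ₂ ι₃ κ₃ : Type*} [Fintype κ₁] [Fintype ι₁] [Fintype κ₂] [Fintype ι₂] [Fintype κ₃]
  [Finite ι₃]
  {w₁ : κ₁ → ι₁ → MvPolynomial σ Λ} {w₂ : κ₂ → ι₂ → MvPolynomial σ Λ}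
  {w₃ : κ₃ → ι₃ → MvPolynomial σ Λ}
  {U : ι₁ → ι₂ → MvPolynomial σ Λ} {V : ι₂ → ι₃ → MvPolynomial σ Λ}
  (hU : Compat w₁ w₂ U) (hV : Compat w₂ w₃ V)

/-- exactness of the model sequence over the polynomial ring with coefficients in `A`. -/
def Ex (A : Type*) [CommRing A] [Algebra Λ A] : Prop :=
  Function.Exact (modelMap hU (MvPolynomial σ A)) (modelMap hV (MvPolynomial σ A))

theorem ex_iff_exact_baseChange (A A' : Type*) [CommRing A] [CommRing A'] [Algebra Λ A]
    [Algebra Λ A'] [Algebra A A'] [IsScalarTower Λ A A'] :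
    Ex hU hV A' ↔
      Function.Exact (((modelMap hU (MvPolynomial σ A)).restrictScalars A).baseChange A')
        (((modelMap hV (MvPolynomial σ A)).restrictScalars A).baseChange A') := by
  haveI := isScalarTower_mvPolynomial (σ := σ) Λ A A'
  have h₁ : IsBaseChange A' ((Mmap w₁ (MvPolynomial σ A) (MvPolynomial σ A')).restrictScalars A) :=
    isBaseChange_restrictScalars_of_isPushout _ (isBaseChange_Mmap w₁ _ _)
  have h₂ : IsBaseChange A' ((Mmap w₂ (MvPolynomial σ A) (MvPolynomial σ A')).restrictScalars A) :=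
    isBaseChange_restrictScalars_of_isPushout _ (isBaseChange_Mmap w₂ _ _)
  have h₃ : IsBaseChange A' ((Mmap w₃ (MvPolynomial σ A) (MvPolynomial σ A')).restrictScalars A) :=
    isBaseChange_restrictScalars_of_isPushout _ (isBaseChange_Mmap w₃ _ _)
  have key := exact_iff_baseChange_of_isBaseChange
    ((modelMap hU (MvPolynomial σ A)).restrictScalars A)
    ((modelMap hV (MvPolynomial σ A)).restrictScalars A)
    ((modelMap hU (MvPolynomial σ A')).restrictScalars A')
    ((modelMap hV (MvPolynomial σ A')).restrictScalars A') _ _ _ h₁ h₂ h₃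
    (fun x => Mmap_modelMap hU _ _ x) (fun x => Mmap_modelMap hV _ _ x)
  exact key

/-- invariance under extension of fields. -/
theorem ex_iff_of_field (k k' : Type*) [Field k] [Field k'] [Algebra Λ k] [Algebra Λ k']
    [Algebra k k'] [IsScalarTower Λ k k'] : Ex hU hV k' ↔ Ex hU hV k := by
  rw [ex_iff_exact_baseChange hU hV k k']
  constructor
  · intro h
    have h1 := exact_of_exact_baseChange_of_faithfullyFlat (A := k) (A' := k')
      ((modelMap hU (MvPolynomial σ k)).restrictScalars k)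
      ((modelMap hV (MvPolynomial σ k)).restrictScalars k) h
    exact h1
  · intro h
    have h0 : Function.Exact ((modelMap hU (MvPolynomial σ k)).restrictScalars k)
      ((modelMap hV (MvPolynomial σ k)).restrictScalars k) := h
    exact exact_baseChange_of_flat (A := k) (A' := k') _ _ h0

end Poly

end Groth.Agent.Helper13ConsEx
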