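import Mathlib
import Groth.Agent.Lib.Helper2GenFree2

set_option autoImplicit false
set_option linter.style.haveILetI false
universe u

open TensorProduct

namespace Groth.Agent.Helper13ConsEx

open Groth.Agent.Lib.Helper2.GenFree

section KL

variable {A : Type u} [CommRing A] [IsDomain A]

/-- nontriviality of the fibre of a quotient algebra in which `A` embeds, away from `f`. -/
theorem nontrivial_tensor_of_freeAway {S' : Type u} [AddCommGroup S'] [Module A S'] (f : A)
    (hfree : FreeAway A f S') (x : S') (hx : ∀ n : ℕ, f ^ n • x ≠ 0)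
    (κ : Type u) [Field κ] [Algebra A κ] (hκ : IsUnit (algebraMap A κ f)) :
    Nontrivial (κ ⊗[A] S') := by
  letI : Algebra (Localization.Away f) κ := (IsLocalization.Away.lift f hκ).toAlgebra
  haveI : IsScalarTower A (Localization.Away f) κ := IsScalarTower.of_algebraMap_eq' (by
    ext r
    rw [RingHom.algebraMap_toAlgebra, RingHom.comp_apply, IsLocalization.Away.lift_eq])
  haveI hfr : Module.Free (Localization.Away f) (Localization.Away f ⊗[A] S') :=
    hfree.free (Localization.Away f) (TensorProduct.mk A (Localization.Away f) S' 1)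
  haveI hnt : Nontrivial (Localization.Away f ⊗[A] S') := by
    refine ⟨⟨(1 : Localization.Away f) ⊗ₜ[A] x, 0, fun h => ?_⟩⟩
    obtain ⟨n, hn⟩ := exists_pow_smul_eq_zero_of_one_tmul f h
    exact hx n hn
  haveI : Module.FaithfullyFlat (Localization.Away f) (Localization.Away f ⊗[A] S') :=
    inferInstance
  haveI : Nontrivial (κ ⊗[Localization.Away f] (Localization.Away f ⊗[A] S')) :=
    inferInstance
  exact (AlgebraTensorModule.cancelBaseChange A (Localization.Away f) κ κ S').injective.nontrivial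

theorem exists_forall_one_tmul_ne_zero (A S : Type u) {M : Type u} [CommRing A] [IsDomain A]
    [CommRing S] [Algebra A S] [Algebra.FiniteType A S] [AddCommGroup M] [Module S M]
    [Module A M] [IsScalarTower A S M] [Module.Finite S M]
    (m : M) (hm : ∀ a : A, a • m = 0 → a = 0) :
    ∃ f : A, f ≠ 0 ∧ ∀ (κ : Type u) [Field κ] [Algebra A κ], IsUnit (algebraMap A κ f) →
      (1 : κ) ⊗ₜ[A] m ≠ 0 := by
  classical
  obtain ⟨ρ, hρ⟩ : ∃ ρ : S →ₗ[S] M, ρ = LinearMap.toSpanSingleton S M m := ⟨_, rfl⟩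
  have hρ1 : ∀ s : S, ρ s = s • m := fun s => by rw [hρ]; rfl
  obtain ⟨I, hI⟩ : ∃ I : Ideal S, I = LinearMap.ker ρ := ⟨_, rfl⟩
  obtain ⟨N, hN⟩ : ∃ N : Submodule S M, N = LinearMap.range ρ := ⟨_, rfl⟩
  obtain ⟨f₁, hf₁, -, hQ, -, -⟩ := exists_freeAway A S (M ⧸ N)
  obtain ⟨f₂, hf₂, -, hS', -, -⟩ := exists_freeAway A S (S ⧸ I)
  have hf : f₁ * f₂ ≠ 0 := mul_ne_zero hf₁ hf₂
  refine ⟨f₁ * f₂, hf, fun κ _ _ hκ => ?_⟩
  -- the embedding `S/I → M`
  let ν₀ : (S ⧸ I) →ₗ[S] M := I.liftQ ρ (le_of_eq hI)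
  have hν₀inj : Function.Injective ν₀ := by
    rw [← LinearMap.ker_eq_bot]
    exact Submodule.ker_liftQ_eq_bot _ _ _ (le_of_eq hI.symm)
  let ν : (S ⧸ I) →ₗ[A] M := ν₀.restrictScalars A
  have hνinj : Function.Injective ν := hν₀inj
  have hν1 : ν (Submodule.Quotient.mk (1 : S)) = m := by
    show ρ 1 = m
    rw [hρ1, one_smul]
  have hrange : N.restrictScalars A = LinearMap.range ν := by
    ext y
    rw [Submodule.restrictScalars_mem, hN, LinearMap.mem_range, LinearMap.mem_range]
    constructor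
    · rintro ⟨s, rfl⟩
      exact ⟨Submodule.Quotient.mk s, rfl⟩
    · rintro ⟨z, rfl⟩
      obtain ⟨s, rfl⟩ := Submodule.Quotient.mk_surjective _ z
      exact ⟨s, rfl⟩
  -- nontriviality of the fibre of `S/I`
  haveI hnt : Nontrivial (κ ⊗[A] (S ⧸ I)) := by
    refine nontrivial_tensor_of_freeAway (f₁ * f₂) (hS'.mul_left f₁)
      (Submodule.Quotient.mk (1 : S)) (fun n h0 => ?_) κ hκ
    have h1 : ν ((f₁ * f₂) ^ n • Submodule.Quotient.mk (1 : S)) = 0 := by rw [h0, map_zero]
    rw [map_smul, hν1] at h1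
    exact hf (pow_eq_zero_iff (M₀ := A) (by
      rintro rfl
      exact hf (by simpa using hm _ h1)) |>.mp (hm _ h1))
  -- injectivity after base change
  have hflat : Module.Flat (Localization.Away (f₁ * f₂))
      (Localization.Away (f₁ * f₂) ⊗[A] (M ⧸ LinearMap.range ν)) := by
    have e : (M ⧸ N) ≃ₗ[A] (M ⧸ LinearMap.range ν) :=
      (Submodule.Quotient.restrictScalarsEquiv A N).symm ≪≫ₗ
        Submodule.quotEquivOfEq (N.restrictScalars A) (LinearMap.range ν) hrange
    have h1 : FreeAway A (f₁ * f₂) (M ⧸ LinearMap.range ν) :=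
      (hQ.mul_right f₂).of_linearEquiv e
    haveI := h1.free (Localization.Away (f₁ * f₂))
      (TensorProduct.mk A (Localization.Away (f₁ * f₂)) (M ⧸ LinearMap.range ν) 1)
    infer_instance
  have hex := exact_baseChange_of_flat_coker_away (f₁ * f₂) (0 : PUnit.{u + 1} →ₗ[A] (S ⧸ I)) ν
    (fun x => ⟨0, by simp⟩)
    (fun y hy => ⟨0, by
      have : y = 0 := hνinj (by rw [hy, map_zero])
      rw [this]; simp⟩) hflat κ hκ
  intro h0
  have h1 : ν.baseChange κ ((1 : κ) ⊗ₜ[A] Submodule.Quotient.mk (1 : S)) = 0 := by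
    rw [LinearMap.baseChange_tmul, hν1, h0]
  obtain ⟨w, hw⟩ := (hex _).mp h1
  rw [LinearMap.baseChange_zero, LinearMap.zero_apply] at hw
  have h2 : (1 : κ ⊗[A] (S ⧸ I)) = 0 := by
    rw [Algebra.TensorProduct.one_def]
    exact hw.symm
  exact one_ne_zero h2

end KL

end Groth.Agent.Helper13ConsEx
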