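import Mathlib
import Groth.Agent.Lib.Helper13ConsExC

set_option autoImplicit false
set_option linter.style.haveILetI false
universe u

open TensorProduct

namespace Groth.Agent.Helper13ConsEx

section Neg

theorem one_tmul_eq_zero_iff {A : Type*} [CommRing A] {M : Type*} [AddCommGroup M] [Module A M]
    (m : M) : (1 : FractionRing A) ⊗ₜ[A] m = 0 ↔ ∃ a ∈ nonZeroDivisors A, a • m = 0 := by
  have := IsLocalizedModule.eq_zero_iff (nonZeroDivisors A)
    (TensorProduct.mk A (FractionRing A) M 1) (m := m)
  rw [TensorProduct.mk_apply] at this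
  rw [this]
  constructor
  · rintro ⟨⟨a, ha⟩, h⟩
    exact ⟨a, ha, h⟩
  · rintro ⟨a, ha, h⟩
    exact ⟨⟨a, ha⟩, h⟩

theorem exists_smul_eq_one_tmul {A : Type*} [CommRing A] {M : Type*} [AddCommGroup M] [Module A M]
    (z : FractionRing A ⊗[A] M) : ∃ s ∈ nonZeroDivisors A, ∃ m : M, s • z = 1 ⊗ₜ[A] m := by
  obtain ⟨⟨m, s⟩, h⟩ := IsLocalizedModule.surj (nonZeroDivisors A)
    (TensorProduct.mk A (FractionRing A) M 1) z
  exact ⟨s.1, s.2, m, h⟩

theorem exists_forall_not_exact (A S : Type u) [CommRing A] [IsDomain A] [CommRing S] [Algebra A S]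
    [Algebra.FiniteType A S]
    {M₁ M₂ M₃ : Type u} [AddCommGroup M₁] [Module S M₁] [Module A M₁] [IsScalarTower A S M₁]
    [AddCommGroup M₂] [Module S M₂] [Module A M₂] [IsScalarTower A S M₂] [Module.Finite S M₂]
    [AddCommGroup M₃] [Module S M₃] [Module A M₃] [IsScalarTower A S M₃] [Module.Finite S M₃]
    (u : M₁ →ₗ[S] M₂) (v : M₂ →ₗ[S] M₃)
    (hgen : ¬ Function.Exact ((u.restrictScalars A).baseChange (FractionRing A))
      ((v.restrictScalars A).baseChange (FractionRing A))) :
    ∃ f : A, f ≠ 0 ∧ ∀ (κ : Type u) [Field κ] [Algebra A κ], IsUnit (algebraMap A κ f) →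
      ¬ Function.Exact ((u.restrictScalars A).baseChange κ)
        ((v.restrictScalars A).baseChange κ) := by
  classical
  by_cases hcase : ∃ x : M₁, ∀ a : A, a • v (u x) = 0 → a = 0
  · obtain ⟨x, hx⟩ := hcase
    obtain ⟨f, hf, H⟩ := exists_forall_one_tmul_ne_zero A S (v (u x)) hx
    refine ⟨f, hf, fun κ _ _ hκ hex => ?_⟩
    have h1 := hex.apply_apply_eq_zero ((1 : κ) ⊗ₜ[A] x)
    rw [LinearMap.baseChange_tmul, LinearMap.baseChange_tmul] at h1
    exact H κ hκ h1
  · push_neg at hcase
    set uK := (u.restrictScalars A).baseChange (FractionRing A) with huK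
    set vK := (v.restrictScalars A).baseChange (FractionRing A) with hvK
    have hcomp : ∀ z, vK (uK z) = 0 := by
      intro z
      induction z using TensorProduct.induction_on with
      | zero => simp
      | tmul c x =>
        obtain ⟨a, ha, ha0⟩ := hcase x
        rw [huK, hvK, LinearMap.baseChange_tmul, LinearMap.baseChange_tmul]
        have h1 : (1 : FractionRing A) ⊗ₜ[A] (v.restrictScalars A) ((u.restrictScalars A) x) = 0 :=
          (one_tmul_eq_zero_iff _).mpr ⟨a, mem_nonZeroDivisors_of_ne_zero ha0, ha⟩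
        have h2 : c ⊗ₜ[A] (v.restrictScalars A) ((u.restrictScalars A) x) =
            c • ((1 : FractionRing A) ⊗ₜ[A] (v.restrictScalars A) ((u.restrictScalars A) x)) := by
          rw [TensorProduct.smul_tmul', smul_eq_mul, mul_one]
        rw [h2, h1, smul_zero]
      | add z₁ z₂ h₁ h₂ => rw [map_add, map_add, h₁, h₂, add_zero]
    obtain ⟨z, hz0, hzr⟩ : ∃ z, vK z = 0 ∧ z ∉ LinearMap.range uK := by
      by_contra hno
      push_neg at hno
      apply hgen
      intro z
      constructor
      · intro hz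
        exact hno z hz
      · rintro ⟨w, rfl⟩
        exact hcomp w
    obtain ⟨s, hs, g, hsg⟩ := exists_smul_eq_one_tmul z
    have h1 : (1 : FractionRing A) ⊗ₜ[A] (v g) = 0 := by
      have : vK ((1 : FractionRing A) ⊗ₜ[A] g) = 0 := by
        rw [← hsg, LinearMap.map_smul_of_tower, hz0, smul_zero]
      rw [hvK, LinearMap.baseChange_tmul] at this
      exact this
    obtain ⟨t, ht, htg⟩ := (one_tmul_eq_zero_iff _).mp h1
    have hs0 : s ≠ 0 := nonZeroDivisors.ne_zero hs
    have ht0 : t ≠ 0 := nonZeroDivisors.ne_zero ht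
    -- the class of `t • g` in the cokernel of `u` is not torsion
    have hnt : ∀ a : A, a • (Submodule.Quotient.mk (t • g) : M₂ ⧸ LinearMap.range u) = 0 →
        a = 0 := by
      intro a ha
      by_contra ha0
      rw [← Submodule.Quotient.mk_smul, Submodule.Quotient.mk_eq_zero] at ha
      obtain ⟨x, hx⟩ := ha
      apply hzr
      set c : FractionRing A := algebraMap A (FractionRing A) (a * t * s) with hc
      have hc0 : c ≠ 0 := by
        rw [hc]
        exact (map_ne_zero_iff _ (IsFractionRing.injective A (FractionRing A))).mpr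
          (mul_ne_zero (mul_ne_zero ha0 ht0) hs0)
      refine ⟨c⁻¹ • ((1 : FractionRing A) ⊗ₜ[A] x), ?_⟩
      rw [map_smul, huK, LinearMap.baseChange_tmul]
      have h2 : (1 : FractionRing A) ⊗ₜ[A] (u.restrictScalars A) x = c • z := by
        rw [hc, algebraMap_smul, mul_smul, mul_smul, hsg, ← TensorProduct.tmul_smul,
          ← TensorProduct.tmul_smul, show (u.restrictScalars A) x = a • t • g from hx]
      rw [h2, smul_smul, inv_mul_cancel₀ hc0, one_smul]
    obtain ⟨f, hf, H⟩ := exists_forall_one_tmul_ne_zero A S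
      (Submodule.Quotient.mk (t • g) : M₂ ⧸ LinearMap.range u) hnt
    refine ⟨f, hf, fun κ _ _ hκ hex => ?_⟩
    have h3 : ((v.restrictScalars A).baseChange κ) ((1 : κ) ⊗ₜ[A] (t • g)) = 0 := by
      rw [LinearMap.baseChange_tmul]
      have : (v.restrictScalars A) (t • g) = 0 := by
        show v (t • g) = 0
        rw [LinearMap.map_smul_of_tower, htg]
      rw [this, TensorProduct.tmul_zero]
    obtain ⟨w, hw⟩ := (hex _).mp h3
    let q : M₂ →ₗ[A] (M₂ ⧸ LinearMap.range u) := (LinearMap.range u).mkQ.restrictScalars A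
    have hq : ∀ w, (q.baseChange κ) (((u.restrictScalars A).baseChange κ) w) = 0 := by
      intro w
      induction w using TensorProduct.induction_on with
      | zero => simp
      | tmul c x =>
        rw [LinearMap.baseChange_tmul, LinearMap.baseChange_tmul]
        have : q ((u.restrictScalars A) x) = 0 := by
          show Submodule.Quotient.mk (u x) = 0
          rw [Submodule.Quotient.mk_eq_zero]
          exact ⟨x, rfl⟩
        rw [this, TensorProduct.tmul_zero]
      | add z₁ z₂ h₁ h₂ => rw [map_add, map_add, h₁, h₂, add_zero]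
    have h4 := hq w
    rw [hw, LinearMap.baseChange_tmul] at h4
    exact H κ hκ h4

end Neg

end Groth.Agent.Helper13ConsEx
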