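import Mathlib
import Groth.Agent.Lib.Helper13ConsExD
import Groth.Agent.S4801

set_option autoImplicit false
set_option linter.style.haveILetI false
universe u

open TensorProduct

namespace Groth.Agent.Helper13ConsEx

theorem dichotomy (A S : Type u) [CommRing A] [IsDomain A] [CommRing S] [Algebra A S]
    [Algebra.FinitePresentation A S]
    {M₁ M₂ M₃ : Type u} [AddCommGroup M₁] [Module S M₁] [Module A M₁] [IsScalarTower A S M₁]
    [Module.FinitePresentation S M₁]
    [AddCommGroup M₂] [Module S M₂] [Module A M₂] [IsScalarTower A S M₂]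
    [Module.FinitePresentation S M₂]
    [AddCommGroup M₃] [Module S M₃] [Module A M₃] [IsScalarTower A S M₃]
    [Module.FinitePresentation S M₃]
    (u : M₁ →ₗ[S] M₂) (v : M₂ →ₗ[S] M₃) :
    ∃ f : A, f ≠ 0 ∧
      ((∀ p : PrimeSpectrum A, f ∉ p.asIdeal →
        Function.Exact ((u.restrictScalars A).baseChange p.asIdeal.ResidueField)
          ((v.restrictScalars A).baseChange p.asIdeal.ResidueField)) ∨
      (∀ p : PrimeSpectrum A, f ∉ p.asIdeal →
        ¬ Function.Exact ((u.restrictScalars A).baseChange p.asIdeal.ResidueField)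
          ((v.restrictScalars A).baseChange p.asIdeal.ResidueField))) := by
  by_cases hgen : Function.Exact ((u.restrictScalars A).baseChange (FractionRing A))
      ((v.restrictScalars A).baseChange (FractionRing A))
  · obtain ⟨f, hf, H⟩ := Groth.Agent.S4801.result u v hgen
    exact ⟨f, hf, Or.inl H⟩
  · haveI : Algebra.FiniteType A S := inferInstance
    obtain ⟨f, hf, H⟩ := exists_forall_not_exact A S u v hgen
    refine ⟨f, hf, Or.inr (fun p hp => H p.asIdeal.ResidueField ?_)⟩
    rw [isUnit_iff_ne_zero]
    intro h0
    exact hp ((Ideal.algebraMap_residueField_eq_zero).mp h0)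

end Groth.Agent.Helper13ConsEx
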