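import Mathlib
import Groth.Agent.Lib.Helper13ConsExB

set_option autoImplicit false
set_option linter.style.haveILetI false
universe u

open TensorProduct

namespace Groth.Agent.Helper13ConsEx

open Groth.Agent.Lib.Helper3.FlatDesc Groth.Agent.Lib.Helper3.FlatLoc

section Poly

attribute [local instance] MvPolynomial.algebraMvPolynomial

variable {Λ : Type*} [CommRing Λ] {σ : Type*}
  {ι₁ κ₁ ι₂ κ₂ ι₃ κ₃ : Type*} [Fintype κ₁] [Fintype ι₁] [Fintype κ₂] [Fintype ι₂] [Fintype κ₃]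
  [Finite ι₃]
  {w₁ : κ₁ → ι₁ → MvPolynomial σ Λ} {w₂ : κ₂ → ι₂ → MvPolynomial σ Λ}
  {w₃ : κ₃ → ι₃ → MvPolynomial σ Λ}
  {U : ι₁ → ι₂ → MvPolynomial σ Λ} {V : ι₂ → ι₃ → MvPolynomial σ Λ}
  (hU : Compat w₁ w₂ U) (hV : Compat w₂ w₃ V)

/-- the exactness at the residue field of `p` only depends on the contraction of `p`. -/
theorem ex_residueField_iff (A : Type*) [CommRing A] [Algebra Λ A] (p : Ideal A) [p.IsPrime]
    (𝔭 : Ideal Λ) [𝔭.IsPrime] (h : 𝔭 = p.comap (algebraMap Λ A)) :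
    Ex hU hV p.ResidueField ↔ Ex hU hV 𝔭.ResidueField := by
  letI := (Ideal.ResidueField.map 𝔭 p (algebraMap Λ A) h).toAlgebra
  haveI : IsScalarTower Λ 𝔭.ResidueField p.ResidueField := by
    refine IsScalarTower.of_algebraMap_eq' ?_
    ext r
    rw [RingHom.comp_apply, RingHom.algebraMap_toAlgebra, Ideal.ResidueField.map_algebraMap]
    exact IsScalarTower.algebraMap_apply Λ A p.ResidueField r
  exact ex_iff_of_field hU hV 𝔭.ResidueField p.ResidueField

end Poly

end Groth.Agent.Helper13ConsEx
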