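import Mathlib
import Groth.Agent.Lib.Helper13ConsExE
import Groth.Agent.Lib.Helper13ConsExF
import Groth.Agent.S2396
import Groth.Agent.Lib.Helper3LocusFam

set_option autoImplicit false
set_option linter.style.haveILetI false
universe u

open TensorProduct

namespace Groth.Agent.Helper13ConsEx

open Groth.Agent.Lib.Helper3.FlatDesc Groth.Agent.Lib.Helper3.FlatLoc

theorem finitePresentation_model {T₀ : Type*} [CommRing T₀] {ι κ : Type*} [Fintype κ] [Finite ι]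
    (w : κ → ι → T₀) (T : Type*) [CommRing T] [Algebra T₀ T] :
    Module.FinitePresentation T ((ι → T) ⧸ KT w T) := by
  refine Module.finitePresentation_of_free_of_surjective (KT w T).mkQ
    (Submodule.mkQ_surjective _) ?_
  rw [Submodule.ker_mkQ]
  show (LinearMap.range (WT w T)).FG
  rw [LinearMap.range_eq_map]
  exact Submodule.FG.map _ (Module.Finite.fg_top)

section Poly

attribute [local instance] MvPolynomial.algebraMvPolynomial

variable {Λ : Type u} [CommRing Λ] {σ : Type} [Finite σ]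
  {ι₁ κ₁ ι₂ κ₂ ι₃ κ₃ : Type} [Fintype κ₁] [Fintype ι₁] [Fintype κ₂] [Fintype ι₂] [Fintype κ₃]
  [Finite ι₃]
  {w₁ : κ₁ → ι₁ → MvPolynomial σ Λ} {w₂ : κ₂ → ι₂ → MvPolynomial σ Λ}
  {w₃ : κ₃ → ι₃ → MvPolynomial σ Λ}
  {U : ι₁ → ι₂ → MvPolynomial σ Λ} {V : ι₂ → ι₃ → MvPolynomial σ Λ}
  (hU : Compat w₁ w₂ U) (hV : Compat w₂ w₃ V)

/-- dichotomy for the models over a domain. -/
theorem dichotomy_model (A : Type u) [CommRing A] [IsDomain A] [Algebra Λ A] :
    ∃ f : A, f ≠ 0 ∧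
      ((∀ p : PrimeSpectrum A, f ∉ p.asIdeal → Ex hU hV p.asIdeal.ResidueField) ∨
      (∀ p : PrimeSpectrum A, f ∉ p.asIdeal → ¬ Ex hU hV p.asIdeal.ResidueField)) := by
  haveI := finitePresentation_model w₁ (MvPolynomial σ A)
  haveI := finitePresentation_model w₂ (MvPolynomial σ A)
  haveI := finitePresentation_model w₃ (MvPolynomial σ A)
  obtain ⟨f, hf, H⟩ := dichotomy A (MvPolynomial σ A) (modelMap hU (MvPolynomial σ A))
    (modelMap hV (MvPolynomial σ A))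
  refine ⟨f, hf, ?_⟩
  rcases H with H | H
  · left
    intro p hp
    exact (ex_iff_exact_baseChange hU hV A p.asIdeal.ResidueField).mpr (H p hp)
  · right
    intro p hp h
    exact H p hp ((ex_iff_exact_baseChange hU hV A p.asIdeal.ResidueField).mp h)

end Poly

end Groth.Agent.Helper13ConsEx

namespace Groth.Agent.Helper13ConsEx

open Groth.Agent.Lib.Helper3.FlatDesc Groth.Agent.Lib.Helper3.FlatLoc

section Poly2

attribute [local instance] MvPolynomial.algebraMvPolynomial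

variable {Λ : Type u} [CommRing Λ] {σ : Type} [Finite σ]
  {ι₁ κ₁ ι₂ κ₂ ι₃ κ₃ : Type} [Fintype κ₁] [Fintype ι₁] [Fintype κ₂] [Fintype ι₂] [Fintype κ₃]
  [Finite ι₃]
  {w₁ : κ₁ → ι₁ → MvPolynomial σ Λ} {w₂ : κ₂ → ι₂ → MvPolynomial σ Λ}
  {w₃ : κ₃ → ι₃ → MvPolynomial σ Λ}
  {U : ι₁ → ι₂ → MvPolynomial σ Λ} {V : ι₂ → ι₃ → MvPolynomial σ Λ}
  (hU : Compat w₁ w₂ U) (hV : Compat w₂ w₃ V)

theorem isConstructible_setOf_ex [IsNoetherianRing Λ] :
    Topology.IsConstructible {𝔭 : PrimeSpectrum Λ | Ex hU hV 𝔭.asIdeal.ResidueField} := by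
  rw [Groth.Agent.S2396.result]
  intro Y hYc hYi
  have hprime : (PrimeSpectrum.vanishingIdeal Y).IsPrime :=
    (PrimeSpectrum.isIrreducible_iff_vanishingIdeal_isPrime (s := Y)).mp hYi
  obtain ⟨𝔭, h𝔭⟩ : ∃ 𝔭 : Ideal Λ, 𝔭 = PrimeSpectrum.vanishingIdeal Y := ⟨_, rfl⟩
  haveI : 𝔭.IsPrime := h𝔭 ▸ hprime
  have hYeq : Y = PrimeSpectrum.zeroLocus (𝔭 : Set Λ) := by
    rw [h𝔭, PrimeSpectrum.zeroLocus_vanishingIdeal_eq_closure]
    exact hYc.closure_eq.symm
  obtain ⟨f', hf', H⟩ := dichotomy_model hU hV (Λ ⧸ 𝔭)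
  obtain ⟨f, rfl⟩ := Ideal.Quotient.mk_surjective f'
  have hf : f ∉ 𝔭 := fun h => hf' (Ideal.Quotient.eq_zero_iff_mem.mpr h)
  have hgen : (⟨𝔭, inferInstance⟩ : PrimeSpectrum Λ) ∈
      (PrimeSpectrum.basicOpen f : Set (PrimeSpectrum Λ)) ∩ Y := by
    refine ⟨hf, ?_⟩
    rw [hYeq]
    exact fun x hx => hx
  -- points of `D(f) ∩ Y` come from the quotient
  have key : ∀ q : PrimeSpectrum Λ, q ∈ (PrimeSpectrum.basicOpen f : Set (PrimeSpectrum Λ)) ∩ Y →
      ∃ q' : PrimeSpectrum (Λ ⧸ 𝔭), Ideal.Quotient.mk 𝔭 f ∉ q'.asIdeal ∧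
        (Ex hU hV q'.asIdeal.ResidueField ↔ Ex hU hV q.asIdeal.ResidueField) := by
    rintro q ⟨hqf, hqY⟩
    have hq : q ∈ Set.range (PrimeSpectrum.comap (Ideal.Quotient.mk 𝔭)) := by
      rw [range_comap_of_surjective _ _ Ideal.Quotient.mk_surjective,
        Ideal.mk_ker, ← hYeq]
      exact hqY
    obtain ⟨q', rfl⟩ := hq
    refine ⟨q', fun h => hqf h, ?_⟩
    exact ex_residueField_iff hU hV (Λ ⧸ 𝔭) q'.asIdeal _ rfl
  rcases H with H | H
  · right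
    refine ⟨PrimeSpectrum.basicOpen f, (PrimeSpectrum.basicOpen f).isOpen, ⟨_, hgen⟩, ?_⟩
    intro q hq
    obtain ⟨q', hq'f, hiff⟩ := key q hq
    exact hiff.mp (H q' hq'f)
  · left
    refine Groth.Agent.Lib.Helper3.LocusFam.isNowhereDense_of_open_inter hYi
      (PrimeSpectrum.basicOpen f).isOpen ⟨_, hgen⟩ ?_
    intro q hq
    obtain ⟨q', hq'f, hiff⟩ := key q hq
    exact fun h => H q' hq'f (hiff.mpr h)

end Poly2

end Groth.Agent.Helper13ConsEx
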