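import Mathlib

set_option autoImplicit false
set_option linter.style.haveILetI false
universe u

open TensorProduct

namespace Groth.Agent.Helper13ConsEx

section StepA

variable {P : Type*} [CommRing P]

/-- a linear map from a finite free module is the linear combination of the images of the basis. -/
theorem eq_linearCombination {m : ℕ} {N : Type*} [AddCommGroup N] [Module P N]
    (g : (Fin m → P) →ₗ[P] N) :
    g = Fintype.linearCombination P (fun j => g (Pi.single j 1)) := by
  classical
  apply LinearMap.pi_ext'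
  intro j
  ext
  simp [Fintype.linearCombination_apply_single]

/-- a finitely presented module is the cokernel of a matrix. -/
theorem exists_matrix_presentation (M : Type*) [AddCommGroup M] [Module P M]
    [Module.FinitePresentation P M] :
    ∃ (n m : ℕ) (w : Fin m → Fin n → P) (π : (Fin n → P) →ₗ[P] M),
      Function.Surjective π ∧ LinearMap.ker π = LinearMap.range (Fintype.linearCombination P w) := by
  obtain ⟨n, m, π, g, hπ, hex⟩ := Module.FinitePresentation.exists_fin' P M
  refine ⟨n, m, fun j => g (Pi.single j 1), π, hπ, ?_⟩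
  rw [← eq_linearCombination g]
  exact LinearMap.exact_iff.mp hex

/-- a linear map between quotients of finite free modules lifts to a matrix. -/
theorem exists_matrix_lift {n₁ n₂ : ℕ} {M₁ M₂ : Type*} [AddCommGroup M₁] [Module P M₁]
    [AddCommGroup M₂] [Module P M₂] (π₁ : (Fin n₁ → P) →ₗ[P] M₁) (π₂ : (Fin n₂ → P) →ₗ[P] M₂)
    (hπ₂ : Function.Surjective π₂) (u : M₁ →ₗ[P] M₂) :
    ∃ U : Fin n₁ → Fin n₂ → P, ∀ x, u (π₁ x) = π₂ (Fintype.linearCombination P U x) := by
  choose U hU using fun i : Fin n₁ => hπ₂ (u (π₁ (Pi.single i 1)))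
  refine ⟨U, fun x => ?_⟩
  have h : u ∘ₗ π₁ = π₂ ∘ₗ Fintype.linearCombination P U := by
    rw [eq_linearCombination (u ∘ₗ π₁), eq_linearCombination (π₂ ∘ₗ Fintype.linearCombination P U)]
    congr 1
    funext i
    classical
    simp [Fintype.linearCombination_apply_single, hU]
  exact LinearMap.congr_fun h x

/-- the lifted matrix is compatible with the relations. -/
theorem exists_compat_witness {n₁ m₁ n₂ m₂ : ℕ} {M₁ M₂ : Type*} [AddCommGroup M₁] [Module P M₁]
    [AddCommGroup M₂] [Module P M₂] (π₁ : (Fin n₁ → P) →ₗ[P] M₁) (π₂ : (Fin n₂ → P) →ₗ[P] M₂)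
    (w₁ : Fin m₁ → Fin n₁ → P) (w₂ : Fin m₂ → Fin n₂ → P)
    (h₁ : LinearMap.ker π₁ = LinearMap.range (Fintype.linearCombination P w₁))
    (h₂ : LinearMap.ker π₂ = LinearMap.range (Fintype.linearCombination P w₂))
    (u : M₁ →ₗ[P] M₂) (U : Fin n₁ → Fin n₂ → P)
    (hU : ∀ x, u (π₁ x) = π₂ (Fintype.linearCombination P U x)) :
    ∃ c : Fin m₁ → Fin m₂ → P, ∀ j,
      Fintype.linearCombination P w₂ (c j) = Fintype.linearCombination P U (w₁ j) := by
  have h : ∀ j, Fintype.linearCombination P U (w₁ j) ∈
      LinearMap.range (Fintype.linearCombination P w₂) := by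
    intro j
    rw [← h₂, LinearMap.mem_ker, ← hU]
    have : w₁ j ∈ LinearMap.ker π₁ := by
      rw [h₁]
      classical
      refine ⟨Pi.single j 1, ?_⟩
      simp [Fintype.linearCombination_apply_single]
    rw [LinearMap.mem_ker.mp this, map_zero]
  choose c hc using h
  exact ⟨c, hc⟩

end StepA

end Groth.Agent.Helper13ConsEx
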