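import Mathlib
import Groth.Agent.Lib.Helper13ConsExA
import Groth.Agent.Lib.Helper13ConsExH

set_option autoImplicit false
set_option linter.style.haveILetI false
universe u

open TensorProduct

namespace Groth.Agent.Helper13ConsEx

open Groth.Agent.Lib.Helper3.FlatDesc

section StepB

attribute [local instance] MvPolynomial.algebraMvPolynomial

variable {R : Type u} [CommRing R] {σ : Type*}

/-- the set of coefficients of a matrix of polynomials. -/
def matCoeffs {α β : Type*} (w : α → β → MvPolynomial σ R) : Set R :=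
  ⋃ j, ⋃ i, ((w j i).coeffs : Set R)

theorem matCoeffs_finite {α β : Type*} [Finite α] [Finite β] (w : α → β → MvPolynomial σ R) :
    (matCoeffs w).Finite :=
  Set.finite_iUnion fun _ => Set.finite_iUnion fun _ => Finset.finite_toSet _

/-- a matrix of polynomials with coefficients in a subalgebra descends. -/
theorem exists_matrix_descent {α β : Type*} (Λ : Subalgebra ℤ R) (w : α → β → MvPolynomial σ R)
    (h : matCoeffs w ⊆ (Λ : Set R)) :
    ∃ w' : α → β → MvPolynomial σ Λ, ∀ j i, algebraMap _ (MvPolynomial σ R) (w' j i) = w j i := by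
  have : ∀ j i, ∃ f : MvPolynomial σ Λ, MvPolynomial.map (algebraMap Λ R) f = w j i := by
    intro j i
    apply MvPolynomial.mem_range_map_iff_coeffs_subset.mpr
    intro c hc
    exact ⟨⟨c, h (Set.mem_iUnion.mpr ⟨j, Set.mem_iUnion.mpr ⟨i, hc⟩⟩)⟩, rfl⟩
  choose w' hw' using this
  exact ⟨w', hw'⟩

theorem Fmap_injective_of_subalgebra (Λ : Subalgebra ℤ R) (ι : Type*) :
    Function.Injective (Fmap (MvPolynomial σ Λ) (MvPolynomial σ R) ι) := by
  intro x y hxy
  funext i
  have := congrFun hxy i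
  rw [Fmap_apply, Fmap_apply] at this
  exact MvPolynomial.map_injective _ Subtype.val_injective this

theorem WT_eq_of_descent {α β : Type*} [Fintype α] (Λ : Subalgebra ℤ R)
    (w : α → β → MvPolynomial σ R) (w' : α → β → MvPolynomial σ Λ)
    (hw : ∀ j i, algebraMap _ (MvPolynomial σ R) (w' j i) = w j i) :
    WT w' (MvPolynomial σ R) = Fintype.linearCombination (MvPolynomial σ R) w := by
  have : wT w' (MvPolynomial σ R) = w := by
    funext j i
    exact hw j i
  rw [WT, this]

theorem Fmap_eq_of_descent {α β : Type*} (Λ : Subalgebra ℤ R)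
    (w : α → β → MvPolynomial σ R) (w' : α → β → MvPolynomial σ Λ)
    (hw : ∀ j i, algebraMap _ (MvPolynomial σ R) (w' j i) = w j i) (j : α) :
    Fmap (MvPolynomial σ Λ) (MvPolynomial σ R) β (w' j) = w j := by
  funext i
  rw [Fmap_apply]
  exact hw j i

theorem WT_self {α β : Type*} [Fintype α] {T : Type*} [CommRing T] (w : α → β → T) :
    WT w T = Fintype.linearCombination T w := by
  have : wT w T = w := by
    funext j i
    simp [wT]
  rw [WT, this]

/-- compatibility descends along the injective coefficient extension. -/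
theorem compat_of_descent {κ₁ ι₁ κ₂ ι₂ : Type*} [Fintype κ₁] [Fintype ι₁] [Fintype κ₂]
    (Λ : Subalgebra ℤ R)
    (w₁ : κ₁ → ι₁ → MvPolynomial σ R) (w₂ : κ₂ → ι₂ → MvPolynomial σ R)
    (U : ι₁ → ι₂ → MvPolynomial σ R) (c : κ₁ → κ₂ → MvPolynomial σ R)
    (hc : ∀ j, Fintype.linearCombination (MvPolynomial σ R) w₂ (c j) =
      Fintype.linearCombination (MvPolynomial σ R) U (w₁ j))
    (w₁' : κ₁ → ι₁ → MvPolynomial σ Λ) (w₂' : κ₂ → ι₂ → MvPolynomial σ Λ)
    (U' : ι₁ → ι₂ → MvPolynomial σ Λ) (c' : κ₁ → κ₂ → MvPolynomial σ Λ)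
    (hw₁ : ∀ j i, algebraMap _ (MvPolynomial σ R) (w₁' j i) = w₁ j i)
    (hw₂ : ∀ j i, algebraMap _ (MvPolynomial σ R) (w₂' j i) = w₂ j i)
    (hU : ∀ j i, algebraMap _ (MvPolynomial σ R) (U' j i) = U j i)
    (hc' : ∀ j i, algebraMap _ (MvPolynomial σ R) (c' j i) = c j i) :
    Compat w₁' w₂' U' := by
  intro j
  refine ⟨c' j, ?_⟩
  apply Fmap_injective_of_subalgebra Λ ι₂
  rw [← WT_Fmap, ← WT_Fmap, WT_eq_of_descent Λ w₂ w₂' hw₂, WT_eq_of_descent Λ U U' hU,
    Fmap_eq_of_descent Λ c c' hc', Fmap_eq_of_descent Λ w₁ w₁' hw₁]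
  exact hc j

end StepB

end Groth.Agent.Helper13ConsEx
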