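import Mathlib
import Groth.Agent.Lib.Helper13ConsExI

set_option autoImplicit false
set_option linter.style.haveILetI false
universe u

open TensorProduct

namespace Groth.Agent.Helper13ConsEx

open Groth.Agent.Lib.Helper3.FlatDesc

section StepAB

attribute [local instance] MvPolynomial.algebraMvPolynomial

/-- the equivalence of a model with a presented module. -/
noncomputable def modelEquiv {R : Type u} [CommRing R] {σ : Type*} (Λ : Subalgebra ℤ R)
    {κ ι : Type*} [Fintype κ] (w : κ → ι → MvPolynomial σ R) (w' : κ → ι → MvPolynomial σ Λ)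
    (hw : ∀ j i, algebraMap _ (MvPolynomial σ R) (w' j i) = w j i)
    {M : Type*} [AddCommGroup M] [Module (MvPolynomial σ R) M]
    (π : (ι → MvPolynomial σ R) →ₗ[MvPolynomial σ R] M) (hπ : Function.Surjective π)
    (hker : LinearMap.ker π = LinearMap.range (Fintype.linearCombination (MvPolynomial σ R) w)) :
    ((ι → MvPolynomial σ R) ⧸ KT w' (MvPolynomial σ R)) ≃ₗ[MvPolynomial σ R] M :=
  (Submodule.quotEquivOfEq _ _ (by rw [KT, WT_eq_of_descent Λ w w' hw, hker])) ≪≫ₗ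
    (LinearMap.quotKerEquivOfSurjective π hπ)

theorem modelEquiv_mk {R : Type u} [CommRing R] {σ : Type*} (Λ : Subalgebra ℤ R)
    {κ ι : Type*} [Fintype κ] (w : κ → ι → MvPolynomial σ R) (w' : κ → ι → MvPolynomial σ Λ)
    (hw : ∀ j i, algebraMap _ (MvPolynomial σ R) (w' j i) = w j i)
    {M : Type*} [AddCommGroup M] [Module (MvPolynomial σ R) M]
    (π : (ι → MvPolynomial σ R) →ₗ[MvPolynomial σ R] M) (hπ : Function.Surjective π)
    (hker : LinearMap.ker π = LinearMap.range (Fintype.linearCombination (MvPolynomial σ R) w))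
    (x : ι → MvPolynomial σ R) :
    modelEquiv Λ w w' hw π hπ hker (Submodule.Quotient.mk x) = π x := rfl

theorem exists_model_maps {R : Type u} [CommRing R] {σ : Type*} {F G H : Type*}
    [AddCommGroup F] [Module (MvPolynomial σ R) F] [Module.FinitePresentation (MvPolynomial σ R) F]
    [AddCommGroup G] [Module (MvPolynomial σ R) G] [Module.FinitePresentation (MvPolynomial σ R) G]
    [AddCommGroup H] [Module (MvPolynomial σ R) H] [Module.FinitePresentation (MvPolynomial σ R) H]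
    (u : F →ₗ[MvPolynomial σ R] G) (v : G →ₗ[MvPolynomial σ R] H) :
    ∃ (Λ : Subalgebra ℤ R) (_ : Λ.FG) (n₁ m₁ n₂ m₂ n₃ m₃ : ℕ)
      (w₁ : Fin m₁ → Fin n₁ → MvPolynomial σ Λ) (w₂ : Fin m₂ → Fin n₂ → MvPolynomial σ Λ)
      (w₃ : Fin m₃ → Fin n₃ → MvPolynomial σ Λ)
      (U : Fin n₁ → Fin n₂ → MvPolynomial σ Λ) (V : Fin n₂ → Fin n₃ → MvPolynomial σ Λ)
      (hU : Compat w₁ w₂ U) (hV : Compat w₂ w₃ V)
      (e₁ : ((Fin n₁ → MvPolynomial σ R) ⧸ KT w₁ (MvPolynomial σ R)) ≃ₗ[MvPolynomial σ R] F)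
      (e₂ : ((Fin n₂ → MvPolynomial σ R) ⧸ KT w₂ (MvPolynomial σ R)) ≃ₗ[MvPolynomial σ R] G)
      (e₃ : ((Fin n₃ → MvPolynomial σ R) ⧸ KT w₃ (MvPolynomial σ R)) ≃ₗ[MvPolynomial σ R] H),
      (∀ x, u (e₁ x) = e₂ (modelMap hU (MvPolynomial σ R) x)) ∧
      (∀ x, v (e₂ x) = e₃ (modelMap hV (MvPolynomial σ R) x)) := by
  obtain ⟨n₁, m₁, w₁, π₁, hπ₁, hk₁⟩ := exists_matrix_presentation (P := MvPolynomial σ R) F
  obtain ⟨n₂, m₂, w₂, π₂, hπ₂, hk₂⟩ := exists_matrix_presentation (P := MvPolynomial σ R) G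
  obtain ⟨n₃, m₃, w₃, π₃, hπ₃, hk₃⟩ := exists_matrix_presentation (P := MvPolynomial σ R) H
  obtain ⟨U, hU⟩ := exists_matrix_lift π₁ π₂ hπ₂ u
  obtain ⟨V, hV⟩ := exists_matrix_lift π₂ π₃ hπ₃ v
  obtain ⟨c, hc⟩ := exists_compat_witness π₁ π₂ w₁ w₂ hk₁ hk₂ u U hU
  obtain ⟨d, hd⟩ := exists_compat_witness π₂ π₃ w₂ w₃ hk₂ hk₃ v V hV
  let cs : Set R := matCoeffs w₁ ∪ matCoeffs w₂ ∪ matCoeffs w₃ ∪ matCoeffs U ∪ matCoeffs V ∪
    matCoeffs c ∪ matCoeffs d
  have hcs : cs.Finite :=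
    ((((((matCoeffs_finite w₁).union (matCoeffs_finite w₂)).union (matCoeffs_finite w₃)).union
      (matCoeffs_finite U)).union (matCoeffs_finite V)).union (matCoeffs_finite c)).union
      (matCoeffs_finite d)
  let Λ : Subalgebra ℤ R := Algebra.adjoin ℤ cs
  have hΛ : Λ.FG := Subalgebra.fg_def.mpr ⟨cs, hcs, rfl⟩
  have hsub : cs ⊆ (Λ : Set R) := Algebra.subset_adjoin
  obtain ⟨w₁', hw₁⟩ := exists_matrix_descent Λ w₁ (fun x hx => hsub (by
    simp only [cs, Set.mem_union]; tauto))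
  obtain ⟨w₂', hw₂⟩ := exists_matrix_descent Λ w₂ (fun x hx => hsub (by
    simp only [cs, Set.mem_union]; tauto))
  obtain ⟨w₃', hw₃⟩ := exists_matrix_descent Λ w₃ (fun x hx => hsub (by
    simp only [cs, Set.mem_union]; tauto))
  obtain ⟨U', hU'⟩ := exists_matrix_descent Λ U (fun x hx => hsub (by
    simp only [cs, Set.mem_union]; tauto))
  obtain ⟨V', hV'⟩ := exists_matrix_descent Λ V (fun x hx => hsub (by
    simp only [cs, Set.mem_union]; tauto))
  obtain ⟨c', hc'⟩ := exists_matrix_descent Λ c (fun x hx => hsub (by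
    simp only [cs, Set.mem_union]; tauto))
  obtain ⟨d', hd'⟩ := exists_matrix_descent Λ d (fun x hx => hsub (by
    simp only [cs, Set.mem_union]; tauto))
  have hcU : Compat w₁' w₂' U' := compat_of_descent Λ w₁ w₂ U c hc w₁' w₂' U' c' hw₁ hw₂ hU' hc'
  have hcV : Compat w₂' w₃' V' := compat_of_descent Λ w₂ w₃ V d hd w₂' w₃' V' d' hw₂ hw₃ hV' hd'
  refine ⟨Λ, hΛ, n₁, m₁, n₂, m₂, n₃, m₃, w₁', w₂', w₃', U', V', hcU, hcV,
    modelEquiv Λ w₁ w₁' hw₁ π₁ hπ₁ hk₁, modelEquiv Λ w₂ w₂' hw₂ π₂ hπ₂ hk₂,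
    modelEquiv Λ w₃ w₃' hw₃ π₃ hπ₃ hk₃, ?_, ?_⟩
  · intro x
    obtain ⟨x, rfl⟩ := Submodule.Quotient.mk_surjective _ x
    rw [modelMap_mk, modelEquiv_mk, modelEquiv_mk, hU, WT_eq_of_descent Λ U U' hU']
  · intro x
    obtain ⟨x, rfl⟩ := Submodule.Quotient.mk_surjective _ x
    rw [modelMap_mk, modelEquiv_mk, modelEquiv_mk, hV, WT_eq_of_descent Λ V V' hV']

end StepAB

end Groth.Agent.Helper13ConsEx
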