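import Mathlib
import Groth.Agent.Lib.Helper13ConsExG
import Groth.Agent.Lib.Helper13ConsExJ

set_option autoImplicit false
set_option linter.style.haveILetI false
universe u

open TensorProduct

namespace Groth.Agent.Helper13ConsEx

open Groth.Agent.Lib.Helper3.FlatDesc Groth.Agent.Lib.Helper3.FlatLoc

section PolyCase

attribute [local instance] MvPolynomial.algebraMvPolynomial

/-- preimages of constructible sets under maps of prime spectra are constructible. -/
theorem isConstructible_comap_preimage {R S : Type u} [CommRing R] [CommRing S] (φ : R →+* S)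
    {s : Set (PrimeSpectrum R)} (hs : Topology.IsConstructible s) :
    Topology.IsConstructible (PrimeSpectrum.comap φ ⁻¹' s) := by
  have := (AlgebraicGeometry.Spec.map (CommRingCat.ofHom φ)).isConstructible_preimage
    (s := (s : Set (AlgebraicGeometry.Spec (CommRingCat.of R)))) hs
  exact this

theorem exact_baseChange_iff_of_equiv {A A' : Type*} [CommRing A] [CommRing A'] [Algebra A A']
    {M₁ M₂ M₃ N₁ N₂ N₃ : Type*}
    [AddCommGroup M₁] [Module A M₁] [AddCommGroup M₂] [Module A M₂] [AddCommGroup M₃] [Module A M₃]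
    [AddCommGroup N₁] [Module A N₁] [AddCommGroup N₂] [Module A N₂] [AddCommGroup N₃] [Module A N₃]
    (u : M₁ →ₗ[A] M₂) (v : M₂ →ₗ[A] M₃) (u' : N₁ →ₗ[A] N₂) (v' : N₂ →ₗ[A] N₃)
    (e₁ : M₁ ≃ₗ[A] N₁) (e₂ : M₂ ≃ₗ[A] N₂) (e₃ : M₃ ≃ₗ[A] N₃)
    (hu : ∀ x, u' (e₁ x) = e₂ (u x)) (hv : ∀ x, v' (e₂ x) = e₃ (v x)) :
    Function.Exact (u.baseChange A') (v.baseChange A') ↔
      Function.Exact (u'.baseChange A') (v'.baseChange A') := by
  refine (Function.Exact.iff_of_ladder_linearEquiv (e₁ := e₁.baseChange A A')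
    (e₂ := e₂.baseChange A A') (e₃ := e₃.baseChange A A') ?_ ?_).symm
  · apply TensorProduct.AlgebraTensorModule.curry_injective
    ext x
    simp [hu]
  · apply TensorProduct.AlgebraTensorModule.curry_injective
    ext x
    simp [hv]

end PolyCase

end Groth.Agent.Helper13ConsEx
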