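import Mathlib
import Groth.Agent.Lib.Helper13ConsExK

set_option autoImplicit false
set_option linter.style.haveILetI false
universe u

open TensorProduct

namespace Groth.Agent.Helper13ConsEx

open Groth.Agent.Lib.Helper3.FlatDesc Groth.Agent.Lib.Helper3.FlatLoc

section PolyCase

attribute [local instance] MvPolynomial.algebraMvPolynomial

/-- the case of modules over a polynomial ring. -/
theorem isConstructible_poly {R : Type u} [CommRing R] {n : ℕ} {F G H : Type u}
    [AddCommGroup F] [Module (MvPolynomial (Fin n) R) F] [Module R F]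
    [IsScalarTower R (MvPolynomial (Fin n) R) F]
    [Module.FinitePresentation (MvPolynomial (Fin n) R) F]
    [AddCommGroup G] [Module (MvPolynomial (Fin n) R) G] [Module R G]
    [IsScalarTower R (MvPolynomial (Fin n) R) G]
    [Module.FinitePresentation (MvPolynomial (Fin n) R) G]
    [AddCommGroup H] [Module (MvPolynomial (Fin n) R) H] [Module R H]
    [IsScalarTower R (MvPolynomial (Fin n) R) H]
    [Module.FinitePresentation (MvPolynomial (Fin n) R) H]
    (u : F →ₗ[MvPolynomial (Fin n) R] G) (v : G →ₗ[MvPolynomial (Fin n) R] H) :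
    Topology.IsConstructible {p : PrimeSpectrum R |
      Function.Exact ((u.restrictScalars R).baseChange p.asIdeal.ResidueField)
        ((v.restrictScalars R).baseChange p.asIdeal.ResidueField)} := by
  obtain ⟨Λ, hΛ, n₁, m₁, n₂, m₂, n₃, m₃, w₁, w₂, w₃, U, V, hU, hV, e₁, e₂, e₃, hu, hv⟩ :=
    exists_model_maps u v
  haveI : Algebra.FiniteType ℤ Λ := Λ.fg_iff_finiteType.mp hΛ
  haveI : IsNoetherianRing Λ := Algebra.FiniteType.isNoetherianRing ℤ Λ
  have hE := isConstructible_setOf_ex (Λ := Λ) hU hV
  have hpre := isConstructible_comap_preimage (algebraMap Λ R) hE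
  convert hpre using 1
  ext p
  simp only [Set.mem_setOf_eq, Set.mem_preimage]
  refine Iff.trans ?_ (ex_residueField_iff hU hV R p.asIdeal
    (PrimeSpectrum.comap (algebraMap (↥Λ) R) p).asIdeal rfl)
  refine Iff.trans ?_ (ex_iff_exact_baseChange hU hV R p.asIdeal.ResidueField).symm
  exact (exact_baseChange_iff_of_equiv
    ((modelMap hU (MvPolynomial (Fin n) R)).restrictScalars R)
    ((modelMap hV (MvPolynomial (Fin n) R)).restrictScalars R)
    (u.restrictScalars R) (v.restrictScalars R)
    (e₁.restrictScalars R) (e₂.restrictScalars R) (e₃.restrictScalars R) hu hv).symm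

end PolyCase

end Groth.Agent.Helper13ConsEx
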