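import Groth.Agent.Lib.Helper13GrTildeFrac

/-!
# Dehomogenization `A → Γ(Proj 𝒜, D₊(f))` for `f` of degree one (helper13)

* `fun_ext`: functions on an open of `Proj 𝒜` are determined by their values (`funVal`).
* `dehom hf : A →+* Γ(Proj 𝒜, D₊(f))`, `a ∈ 𝒜 j ↦ a / f^j`; `funVal_dehom`, `dehom_self`,
  `dehom_overlap` (`a/g^j = (f/g)^j (a/f^j)` on `D₊(f) ∩ D₊(g)`), `dehom_mul_dehom`, `dehom_cocycle`,
  `basicOpen_dehom` (the non-vanishing locus of `f/g` in `D₊(g)` is `D₊(f) ∩ D₊(g)`).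
-/

set_option autoImplicit false
set_option linter.unusedSectionVars false
universe u

open CategoryTheory CategoryTheory.Limits AlgebraicGeometry TopologicalSpace Opposite
  HomogeneousLocalization

namespace Groth.Agent.Helper13Dehom

open Groth.Agent.Lib.Helper27GrTildeSect Groth.Agent.Helper13GrTildeFrac

variable {R A : Type u} [CommRing R] [CommRing A] [Algebra R A] (𝒜 : ℕ → Submodule R A)
  [GradedAlgebra 𝒜]

/-- functions on an open of `Proj` are determined by their values -/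
theorem fun_ext (W : (Proj 𝒜).Opens) (c c' : Γ(Proj 𝒜, W))
    (h : ∀ (y : ProjectiveSpectrum 𝒜) (hy : y ∈ W),
      (funVal 𝒜 W c y hy).val = (funVal 𝒜 W c' y hy).val) : c = c' := by
  have h1 : toFun 𝒜 W c = toFun 𝒜 W c' :=
    Subtype.ext (funext fun y => HomogeneousLocalization.val_injective _ (h y.1 y.2))
  exact h1

theorem funVal_mul (W : (Proj 𝒜).Opens) (c c' : Γ(Proj 𝒜, W)) (y : ProjectiveSpectrum 𝒜)
    (hy : y ∈ W) : funVal 𝒜 W (c * c') y hy = funVal 𝒜 W c y hy * funVal 𝒜 W c' y hy := rfl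

theorem funVal_add (W : (Proj 𝒜).Opens) (c c' : Γ(Proj 𝒜, W)) (y : ProjectiveSpectrum 𝒜)
    (hy : y ∈ W) : funVal 𝒜 W (c + c') y hy = funVal 𝒜 W c y hy + funVal 𝒜 W c' y hy := rfl

theorem funVal_one (W : (Proj 𝒜).Opens) (y : ProjectiveSpectrum 𝒜)
    (hy : y ∈ W) : funVal 𝒜 W 1 y hy = 1 := rfl

theorem funVal_zero (W : (Proj 𝒜).Opens) (y : ProjectiveSpectrum 𝒜)
    (hy : y ∈ W) : funVal 𝒜 W 0 y hy = 0 := rfl

variable {𝒜}

theorem mem_smul_one {a : A} {j : ℕ} (ha : a ∈ 𝒜 j) : a ∈ 𝒜 (j • 1) := by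
  simpa using ha

/-- the degree-`j` piece of dehomogenization: `a ↦ a / f^j` -/
noncomputable def dehomPiece {f : A} (hf : f ∈ 𝒜 1) (j : ℕ) :
    𝒜 j →+ Γ(Proj 𝒜, Proj.basicOpen 𝒜 f) where
  toFun a := (Proj.awayToSection 𝒜 f).hom (Away.mk 𝒜 hf j a.1 (mem_smul_one a.2))
  map_zero' := by
    apply fun_ext
    intro y hy
    rw [funVal_awayToSection_val hf j _ _ y hy, funVal_zero]
    simp [Localization.mk_zero]
  map_add' a b := by
    apply fun_ext
    intro y hy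
    rw [funVal_add, HomogeneousLocalization.val_add, funVal_awayToSection_val hf j _ _ y hy,
      funVal_awayToSection_val hf j _ _ y hy, funVal_awayToSection_val hf j _ _ y hy]
    rw [Localization.add_mk_self]
    rfl

theorem funVal_dehomPiece {f : A} (hf : f ∈ 𝒜 1) (j : ℕ) (a : 𝒜 j) (y : ProjectiveSpectrum 𝒜)
    (hy : y ∈ Proj.basicOpen 𝒜 f) :
    (funVal 𝒜 _ (dehomPiece hf j a) y hy).val =
      (Localization.mk a.1 (⟨f ^ j, pow_not_mem j y hy⟩ :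
        y.asHomogeneousIdeal.toIdeal.primeCompl) : Twist.Loc 𝒜 y) := rfl

/-- dehomogenization `A → Γ(Proj, D₊(f))`, `a ∈ 𝒜 j ↦ a / f^j`, for `f` of degree one -/
noncomputable def dehom {f : A} (hf : f ∈ 𝒜 1) : A →+* Γ(Proj 𝒜, Proj.basicOpen 𝒜 f) :=
  (DirectSum.toSemiring (dehomPiece hf)
    (by
      apply fun_ext
      intro y hy
      rw [funVal_dehomPiece, funVal_one, HomogeneousLocalization.val_one]
      rw [← Localization.mk_one]
      rw [Localization.mk_eq_mk_iff, Localization.r_iff_exists]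
      exact ⟨1, by simp [GradedMonoid.GOne.one]⟩)
    (by
      intro i j a b
      apply fun_ext
      intro y hy
      rw [funVal_mul, HomogeneousLocalization.val_mul, funVal_dehomPiece, funVal_dehomPiece,
        funVal_dehomPiece, Localization.mk_mul]
      rw [Localization.mk_eq_mk_iff, Localization.r_iff_exists]
      exact ⟨1, by simp [GradedMonoid.GMul.mul, pow_add]⟩)).comp
    (DirectSum.decomposeRingEquiv 𝒜).toRingHom

theorem dehom_of_mem {f : A} (hf : f ∈ 𝒜 1) {j : ℕ} {a : A} (ha : a ∈ 𝒜 j) :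
    dehom hf a = dehomPiece hf j ⟨a, ha⟩ := by
  unfold dehom
  rw [RingHom.comp_apply]
  have : (DirectSum.decomposeRingEquiv 𝒜).toRingHom a = DirectSum.of (fun i => 𝒜 i) j ⟨a, ha⟩ :=
    DirectSum.decompose_of_mem 𝒜 ha
  rw [this, DirectSum.toSemiring_of]

theorem funVal_dehom {f : A} (hf : f ∈ 𝒜 1) {j : ℕ} {a : A} (ha : a ∈ 𝒜 j)
    (y : ProjectiveSpectrum 𝒜) (hy : y ∈ Proj.basicOpen 𝒜 f) :
    (funVal 𝒜 _ (dehom hf a) y hy).val =
      (Localization.mk a (⟨f ^ j, pow_not_mem j y hy⟩ :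
        y.asHomogeneousIdeal.toIdeal.primeCompl) : Twist.Loc 𝒜 y) := by
  rw [dehom_of_mem hf ha, funVal_dehomPiece]

theorem dehom_eq_awayToSection {f : A} (hf : f ∈ 𝒜 1) {j : ℕ} {a : A} (ha : a ∈ 𝒜 (j • 1)) :
    dehom hf a = (Proj.awayToSection 𝒜 f).hom (Away.mk 𝒜 hf j a ha) := by
  rw [dehom_of_mem hf (by simpa using ha : a ∈ 𝒜 j)]
  rfl

theorem dehom_self {f : A} (hf : f ∈ 𝒜 1) : dehom hf f = 1 := by
  apply fun_ext
  intro y hy
  rw [funVal_dehom hf hf, funVal_one, HomogeneousLocalization.val_one, ← Localization.mk_one,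
    Localization.mk_eq_mk_iff, Localization.r_iff_exists]
  exact ⟨1, by simp⟩

/-- restriction of functions -/
noncomputable abbrev resO {V W : (Proj 𝒜).Opens} (h : V ≤ W) : Γ(Proj 𝒜, W) →+* Γ(Proj 𝒜, V) :=
  ((Proj 𝒜).presheaf.map (homOfLE h).op).hom

theorem funVal_resO {V W : (Proj 𝒜).Opens} (h : V ≤ W) (c : Γ(Proj 𝒜, W))
    (y : ProjectiveSpectrum 𝒜) (hy : y ∈ V) :
    funVal 𝒜 V (resO h c) y hy = funVal 𝒜 W c y (h hy) := rfl

/-- `a / g^j = (f/g)^j * (a / f^j)` on `D₊(f) ∩ D₊(g)` -/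
theorem dehom_overlap {f g : A} (hf : f ∈ 𝒜 1) (hg : g ∈ 𝒜 1) {j : ℕ} {a : A} (ha : a ∈ 𝒜 j)
    {W : (Proj 𝒜).Opens} (hWf : W ≤ Proj.basicOpen 𝒜 f) (hWg : W ≤ Proj.basicOpen 𝒜 g) :
    resO hWg (dehom hg a) = resO hWg (dehom hg f) ^ j * resO hWf (dehom hf a) := by
  apply fun_ext
  intro y hy
  rw [funVal_mul, funVal_pow, funVal_resO, funVal_resO, funVal_resO,
    HomogeneousLocalization.val_mul, HomogeneousLocalization.val_pow,
    funVal_dehom hg ha, funVal_dehom hg hf, funVal_dehom hf ha, Localization.mk_pow,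
    Localization.mk_mul, Localization.mk_eq_mk_iff, Localization.r_iff_exists]
  refine ⟨1, ?_⟩
  simp only [OneMemClass.coe_one, one_mul, Submonoid.coe_mul, SubmonoidClass.coe_pow, pow_one]
  ring

theorem dehom_mul_dehom {f g : A} (hf : f ∈ 𝒜 1) (hg : g ∈ 𝒜 1)
    {W : (Proj 𝒜).Opens} (hWf : W ≤ Proj.basicOpen 𝒜 f) (hWg : W ≤ Proj.basicOpen 𝒜 g) :
    resO hWg (dehom hg f) * resO hWf (dehom hf g) = 1 := by
  have h := dehom_overlap hf hg hg hWf hWg
  rw [dehom_self, map_one, pow_one] at h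
  exact h.symm

theorem dehom_cocycle {f g h : A} (hf : f ∈ 𝒜 1) (hg : g ∈ 𝒜 1) (hh : h ∈ 𝒜 1)
    {W : (Proj 𝒜).Opens} (hWg : W ≤ Proj.basicOpen 𝒜 g)
    (hWh : W ≤ Proj.basicOpen 𝒜 h) :
    resO hWh (dehom hh g) * resO hWg (dehom hg f) = resO hWh (dehom hh f) := by
  have h := dehom_overlap hg hh hf hWg hWh
  rw [pow_one] at h
  exact h.symm

/-- the non-vanishing locus of `f/g` on `D₊(g)` is `D₊(f) ∩ D₊(g)` -/
theorem basicOpen_dehom {f g : A} (hf : f ∈ 𝒜 1) (hg : g ∈ 𝒜 1) :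
    (Proj 𝒜).basicOpen (dehom hg f) = Proj.basicOpen 𝒜 f ⊓ Proj.basicOpen 𝒜 g := by
  ext y
  rw [dehom_eq_awayToSection hg (j := 1) (by simpa using hf)]
  refine (mem_basicOpen_awayToSection_iff hg 1 f _ y).trans ?_
  rw [← Proj.basicOpen_mul]
  rfl

theorem dehom_pow_of_mem {f : A} (hf : f ∈ 𝒜 1) (a : A) (k : ℕ) :
    dehom hf (a ^ k) = dehom hf a ^ k := map_pow _ _ _

theorem pow_mem_deg {g : A} (hg : g ∈ 𝒜 1) (k : ℕ) : g ^ k ∈ 𝒜 k := by
  have := pow_mem' hg k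
  simpa using this

theorem resO_resO {U V W : (Proj 𝒜).Opens} (h₁ : V ≤ U) (h₂ : W ≤ V) (r : Γ(Proj 𝒜, U)) :
    resO h₂ (resO h₁ r) = resO (h₂.trans h₁) r := by
  apply fun_ext
  intro y hy
  rfl

end Groth.Agent.Helper13Dehom
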