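import Mathlib
import Groth.Agent.Lib.Helper28DepthFlat2
import Groth.Agent.Lib.Helper28LocLoc
import Groth.Agent.Lib.Helper19ComplNoeth
import Groth.Prelude.Def_Formal2

/-!
# Depth at minimal primes over an extended prime along a flat map (helper13, for S8796/S8827)

* `comap_eq_of_mem_minimalPrimes`: going-down + minimality.
* `depth_localization_eq_of_mem_minimalPrimes`: `A → B` flat Noetherian, `P` minimal over `pB`,
  `N` a base change of a finite `A`-module `M`: `depth N_P = depth M_p`.
* `exists_prime_adicCompletion`, `core`, `depth_gt` (S8796), `dimBetween_mono`.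
-/

set_option autoImplicit false
set_option linter.style.haveILetI false
universe u
open IsLocalRing TensorProduct

namespace Groth.Agent.Helper13DepthMin

open Groth.Agent.Lib.Helper28

section Part1

/-- going down + minimality: a minimal prime over `pB` (for flat `A → B`) lies over `p`. -/
theorem comap_eq_of_mem_minimalPrimes {A B : Type*} [CommRing A] [CommRing B] [Algebra A B]
    [Algebra.HasGoingDown A B] (p : Ideal A) [p.IsPrime] (P : Ideal B)
    (hP : P ∈ (p.map (algebraMap A B)).minimalPrimes) : P.comap (algebraMap A B) = p := by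
  haveI : P.IsPrime := hP.1.1
  have hle : p ≤ P.under A := Ideal.map_le_iff_le_comap.mp hP.1.2
  obtain ⟨P0, hP0, hP0prime, hP0over⟩ :=
    Ideal.exists_ideal_le_liesOver_of_le (p := p) (q := P.under A) P hle
  have h1 : p.map (algebraMap A B) ≤ P0 := by
    rw [Ideal.map_le_iff_le_comap]
    exact (hP0over.over).le
  have h2 : P ≤ P0 := hP.2 ⟨hP0prime, h1⟩ hP0
  have h3 : P = P0 := le_antisymm h2 hP0
  rw [h3]
  exact (hP0over.over).symm

set_option maxHeartbeats 1000000 in
/-- Depth is unchanged along a flat map at a minimal prime over the extended prime. -/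
theorem depth_localization_eq_of_mem_minimalPrimes
    {A B : Type u} [CommRing A] [CommRing B] [IsNoetherianRing A] [IsNoetherianRing B]
    [Algebra A B] [Module.Flat A B]
    (p : Ideal A) [p.IsPrime] (P : Ideal B) [P.IsPrime]
    (hP : P ∈ (p.map (algebraMap A B)).minimalPrimes)
    (M : Type u) [AddCommGroup M] [Module A M] [Module.Finite A M]
    (N : Type u) [AddCommGroup N] [Module A N] [Module B N] [IsScalarTower A B N]
    (f : M →ₗ[A] N) (hf : IsBaseChange B f) :
    LocCoh.depth (Localization.AtPrime P) (LocalizedModule P.primeCompl N) =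
      LocCoh.depth (Localization.AtPrime p) (LocalizedModule p.primeCompl M) := by
  have hcomap : P.comap (algebraMap A B) = p := comap_eq_of_mem_minimalPrimes p P hP
  letI algC : Algebra (Localization.AtPrime p) (Localization.AtPrime P) :=
    (Localization.localRingHom p P (algebraMap A B) hcomap.symm).toAlgebra
  haveI tow : IsScalarTower A (Localization.AtPrime p) (Localization.AtPrime P) :=
    IsScalarTower.of_algebraMap_eq fun x => by
      rw [IsScalarTower.algebraMap_apply A B (Localization.AtPrime P)]
      exact (Localization.localRingHom_to_map p P (algebraMap A B) hcomap.symm x).symm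
  haveI : IsLocalHom (algebraMap (Localization.AtPrime p) (Localization.AtPrime P)) :=
    Localization.isLocalHom_localRingHom p P (algebraMap A B) hcomap.symm
  haveI flatC : Module.Flat (Localization.AtPrime p) (Localization.AtPrime P) := by
    have h1 : (algebraMap A B).Flat := RingHom.flat_algebraMap_iff.mpr inferInstance
    have h2 := h1.localRingHom P p hcomap.symm
    exact RingHom.flat_algebraMap_iff.mp h2
  -- the module isomorphisms
  have hg2 : IsBaseChange (Localization.AtPrime P) (LocalizedModule.mkLinearMap P.primeCompl N) :=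
    IsLocalizedModule.isBaseChange P.primeCompl (Localization.AtPrime P) _
  have hg1 : IsBaseChange (Localization.AtPrime p) (LocalizedModule.mkLinearMap p.primeCompl M) :=
    IsLocalizedModule.isBaseChange p.primeCompl (Localization.AtPrime p) _
  let e1 : LocalizedModule P.primeCompl N ≃ₗ[Localization.AtPrime P]
      Localization.AtPrime P ⊗[B] N := hg2.equiv.symm
  let e2 : Localization.AtPrime P ⊗[B] N ≃ₗ[Localization.AtPrime P]
      Localization.AtPrime P ⊗[B] (B ⊗[A] M) :=
    TensorProduct.AlgebraTensorModule.congr (LinearEquiv.refl _ _) hf.equiv.symm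
  let e3 : Localization.AtPrime P ⊗[B] (B ⊗[A] M) ≃ₗ[Localization.AtPrime P]
      Localization.AtPrime P ⊗[A] M :=
    TensorProduct.AlgebraTensorModule.cancelBaseChange A B (Localization.AtPrime P)
      (Localization.AtPrime P) M
  let e4 : Localization.AtPrime P ⊗[Localization.AtPrime p] (Localization.AtPrime p ⊗[A] M)
      ≃ₗ[Localization.AtPrime P] Localization.AtPrime P ⊗[A] M :=
    TensorProduct.AlgebraTensorModule.cancelBaseChange A (Localization.AtPrime p)
      (Localization.AtPrime P) (Localization.AtPrime P) M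
  let e5 : Localization.AtPrime P ⊗[Localization.AtPrime p] (Localization.AtPrime p ⊗[A] M)
      ≃ₗ[Localization.AtPrime P]
      Localization.AtPrime P ⊗[Localization.AtPrime p] (LocalizedModule p.primeCompl M) :=
    TensorProduct.AlgebraTensorModule.congr (LinearEquiv.refl _ _) hg1.equiv
  let e : LocalizedModule P.primeCompl N ≃ₗ[Localization.AtPrime P]
      Localization.AtPrime P ⊗[Localization.AtPrime p] (LocalizedModule p.primeCompl M) :=
    e1 ≪≫ₗ e2 ≪≫ₗ e3 ≪≫ₗ e4.symm ≪≫ₗ e5
  have hd1 : LocCoh.depth (Localization.AtPrime P) (LocalizedModule P.primeCompl N) =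
      LocCoh.depth (Localization.AtPrime P)
        (Localization.AtPrime P ⊗[Localization.AtPrime p] (LocalizedModule p.primeCompl M)) :=
    idealDepth_congr e _
  rw [hd1, depth_tensor_of_flat (R := Localization.AtPrime p) (S := Localization.AtPrime P)
    (LocalizedModule p.primeCompl M) (Localization.AtPrime P)]
  have hmin : maximalIdeal (Localization.AtPrime P) ∈
      ((maximalIdeal (Localization.AtPrime p)).map
        (algebraMap (Localization.AtPrime p) (Localization.AtPrime P))).minimalPrimes := by
    have h1 : (maximalIdeal (Localization.AtPrime p)).map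
        (algebraMap (Localization.AtPrime p) (Localization.AtPrime P)) =
        (p.map (algebraMap A B)).map (algebraMap B (Localization.AtPrime P)) := by
      rw [← IsLocalization.AtPrime.map_eq_maximalIdeal p (Localization.AtPrime p), Ideal.map_map,
        Ideal.map_map, ← IsScalarTower.algebraMap_eq, ← IsScalarTower.algebraMap_eq]
    rw [h1, IsLocalization.minimalPrimes_map P.primeCompl (Localization.AtPrime P)]
    change (maximalIdeal (Localization.AtPrime P)).under B ∈ (p.map (algebraMap A B)).minimalPrimes
    rw [IsLocalization.AtPrime.under_maximalIdeal (Localization.AtPrime P) P]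
    exact hP
  rw [depth_quotient_eq_zero_of_mem_minimalPrimes _ hmin, add_zero]

end Part1

section Part2

theorem exists_prime_adicCompletion {B : Type u} [CommRing B] [IsNoetherianRing B] [IsLocalRing B]
    (J : Ideal B) (hJ : J ≤ maximalIdeal B)
    (pB : Ideal B) [pB.IsPrime] (hpJ : ¬ J ≤ pB)
    (hmin : maximalIdeal B ∈ (pB ⊔ J).minimalPrimes) :
    ∃ p' : Ideal (AdicCompletion J B),
      p' ∈ (pB.map (algebraMap B (AdicCompletion J B))).minimalPrimes ∧
      ¬ J.map (algebraMap B (AdicCompletion J B)) ≤ p' ∧
      ∀ q' : Ideal (AdicCompletion J B), q'.IsPrime → p' ≤ q' →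
        J.map (algebraMap B (AdicCompletion J B)) ≤ q' → q'.IsMaximal := by
  have hJfg : J.FG := IsNoetherian.noetherian J
  let φ' : AdicCompletion J B →+* ResidueField B :=
    (Ideal.Quotient.factor hJ).comp (AdicCompletion.evalOneₐ J).toRingHom
  have hφ : ∀ b : B, φ' (algebraMap B (AdicCompletion J B) b) =
      IsLocalRing.residue B b := by
    intro b
    change (Ideal.Quotient.factor hJ) ((AdicCompletion.evalOneₐ J) (algebraMap B _ b)) = _
    rw [AlgHom.commutes]
    rfl
  have hsurj : Function.Surjective φ' :=
    (Ideal.Quotient.factor_surjective hJ).comp (AdicCompletion.evalOneₐ_surjective J)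
  have hmax : (RingHom.ker φ').IsMaximal := RingHom.ker_isMaximal_of_surjective φ' hsurj
  have hPle : pB.map (algebraMap B (AdicCompletion J B)) ≤ RingHom.ker φ' := by
    rw [Ideal.map_le_iff_le_comap]
    intro b hb
    rw [Ideal.mem_comap, RingHom.mem_ker, hφ, IsLocalRing.residue_eq_zero_iff]
    exact IsLocalRing.le_maximalIdeal (Ideal.IsPrime.ne_top inferInstance) hb
  have hPne : pB.map (algebraMap B (AdicCompletion J B)) ≠ ⊤ := fun h =>
    hmax.ne_top (top_le_iff.mp (h ▸ hPle))
  obtain ⟨p', hp'⟩ := Ideal.nonempty_minimalPrimes hPne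
  have hcomap : p'.comap (algebraMap B (AdicCompletion J B)) = pB :=
    comap_eq_of_mem_minimalPrimes pB p' hp'
  refine ⟨p', hp', ?_, ?_⟩
  · intro hle
    apply hpJ
    rw [← hcomap]
    exact Ideal.map_le_iff_le_comap.mp hle
  · intro q' hq' hp'q' hJq'
    have hr1 : pB ≤ q'.comap (algebraMap B (AdicCompletion J B)) := by
      rw [← hcomap]
      exact Ideal.comap_mono hp'q'
    have hr2 : J ≤ q'.comap (algebraMap B (AdicCompletion J B)) :=
      Ideal.map_le_iff_le_comap.mp hJq'
    have hr3 : maximalIdeal B ≤ q'.comap (algebraMap B (AdicCompletion J B)) :=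
      hmin.2 ⟨Ideal.IsPrime.comap _, sup_le hr1 hr2⟩
        (IsLocalRing.le_maximalIdeal (Ideal.IsPrime.ne_top (Ideal.IsPrime.comap _)))
    have hker : RingHom.ker φ' ≤ q' := by
      intro x hx
      obtain ⟨b, hb⟩ := Ideal.Quotient.mk_surjective ((AdicCompletion.evalOneₐ J) x)
      have hbm : b ∈ maximalIdeal B := by
        rw [← IsLocalRing.residue_eq_zero_iff]
        have h1 : φ' x = 0 := hx
        change (Ideal.Quotient.factor hJ) ((AdicCompletion.evalOneₐ J) x) = 0 at h1
        rw [← hb] at h1
        exact h1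
      have h2 : x - algebraMap B (AdicCompletion J B) b ∈
          RingHom.ker (AdicCompletion.evalOneₐ J).toRingHom := by
        rw [RingHom.mem_ker, map_sub]
        change (AdicCompletion.evalOneₐ J) x - (AdicCompletion.evalOneₐ J) (algebraMap B _ b) = 0
        rw [AlgHom.commutes, ← hb]
        exact sub_self _
      rw [AdicCompletion.ker_evalOneₐ_eq_map J hJfg] at h2
      have h3 : algebraMap B (AdicCompletion J B) b ∈ q' := hr3 hbm
      have h4 := q'.add_mem (hJq' h2) h3
      rwa [sub_add_cancel] at h4
    rw [← hmax.eq_of_le hq'.ne_top hker]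
    exact hmax

end Part2

section Part3

set_option maxHeartbeats 1000000 in
theorem core {A : Type u} [CommRing A] [IsNoetherianRing A] (I : Ideal A)
    (M : Type u) [AddCommGroup M] [Module A M] [Module.Finite A M]
    (p q0 : Ideal A) [p.IsPrime] [q0.IsPrime] (hp : ¬ I ≤ p)
    (hmin : q0 ∈ (p ⊔ I).minimalPrimes)
    (B : Type u) [CommRing B] [Algebra A B] [IsLocalization.AtPrime B q0]
    (MB : Type u) [AddCommGroup MB] [Module A MB] [Module B MB] [IsScalarTower A B MB]
    (g : M →ₗ[A] MB) [IsLocalizedModule q0.primeCompl g] :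
    ∃ p' : Ideal (AdicCompletion (I.map (algebraMap A B)) B), ∃ _ : p'.IsPrime,
      ¬ I.map (algebraMap A (AdicCompletion (I.map (algebraMap A B)) B)) ≤ p' ∧
      (∀ q' : Ideal (AdicCompletion (I.map (algebraMap A B)) B), q'.IsPrime → p' ≤ q' →
        I.map (algebraMap A (AdicCompletion (I.map (algebraMap A B)) B)) ≤ q' → q'.IsMaximal) ∧
      LocCoh.depth (Localization.AtPrime p')
        (LocalizedModule p'.primeCompl (AdicCompletion (I.map (algebraMap A B)) MB)) =
      LocCoh.depth (Localization.AtPrime p) (LocalizedModule p.primeCompl M) := by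
  have hpq : p ≤ q0 := le_sup_left.trans hmin.1.2
  have hIq : I ≤ q0 := le_sup_right.trans hmin.1.2
  haveI : IsLocalRing B := IsLocalization.AtPrime.isLocalRing B q0
  haveI : IsNoetherianRing B := IsLocalization.isNoetherianRing q0.primeCompl B inferInstance
  haveI : Module.Flat A B := IsLocalization.flat B q0.primeCompl
  haveI : Module.Finite B MB := Module.Finite.of_isLocalizedModule q0.primeCompl g
  have hJ : I.map (algebraMap A B) ≤ maximalIdeal B := by
    rw [Ideal.map_le_iff_le_comap]
    change I ≤ (maximalIdeal B).under A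
    rw [IsLocalization.AtPrime.under_maximalIdeal B q0]
    exact hIq
  have hdisj : Disjoint (q0.primeCompl : Set A) (p : Set A) :=
    Set.disjoint_left.mpr fun x hx hxp => hx (hpq hxp)
  haveI hpB : (p.map (algebraMap A B)).IsPrime :=
    IsLocalization.isPrime_of_isPrime_disjoint q0.primeCompl B p inferInstance hdisj
  have hpBcomap : (p.map (algebraMap A B)).comap (algebraMap A B) = p :=
    IsLocalization.under_map_of_isPrime_disjoint q0.primeCompl B inferInstance hdisj
  have hpJ : ¬ I.map (algebraMap A B) ≤ p.map (algebraMap A B) := fun h =>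
    hp (Ideal.le_comap_map.trans ((Ideal.comap_mono h).trans hpBcomap.le))
  have hminB : maximalIdeal B ∈ (p.map (algebraMap A B) ⊔ I.map (algebraMap A B)).minimalPrimes := by
    rw [← Ideal.map_sup, IsLocalization.minimalPrimes_map q0.primeCompl B]
    change (maximalIdeal B).under A ∈ (p ⊔ I).minimalPrimes
    rw [IsLocalization.AtPrime.under_maximalIdeal B q0]
    exact hmin
  obtain ⟨p', hp'min, hp'J, hp'max⟩ := exists_prime_adicCompletion (I.map (algebraMap A B)) hJ
    (p.map (algebraMap A B)) hpJ hminB
  haveI hp'prime : p'.IsPrime := hp'min.1.1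
  have hIJ : I.map (algebraMap A (AdicCompletion (I.map (algebraMap A B)) B)) =
      (I.map (algebraMap A B)).map (algebraMap B (AdicCompletion (I.map (algebraMap A B)) B)) := by
    rw [Ideal.map_map, ← IsScalarTower.algebraMap_eq]
  refine ⟨p', hp'prime, ?_, ?_, ?_⟩
  · rw [hIJ]; exact hp'J
  · intro q' hq' h1 h2
    rw [hIJ] at h2
    exact hp'max q' hq' h1 h2
  · haveI : IsNoetherianRing (AdicCompletion (I.map (algebraMap A B)) B) :=
      Groth.Agent.Lib.Helper19.isNoetherianRing_adicCompletion _
    have hbc : IsBaseChange (AdicCompletion (I.map (algebraMap A B)) B)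
        (AdicCompletion.of (I.map (algebraMap A B)) MB) :=
      IsBaseChange.of_equiv
        (AdicCompletion.ofTensorProductEquivOfFiniteNoetherian (I.map (algebraMap A B)) MB)
        (fun x => by simp [AdicCompletion.ofTensorProduct_tmul])
    have step1 := depth_localization_eq_of_mem_minimalPrimes (A := B)
      (B := AdicCompletion (I.map (algebraMap A B)) B) (p.map (algebraMap A B)) p' hp'min MB
      (AdicCompletion (I.map (algebraMap A B)) MB) (AdicCompletion.of (I.map (algebraMap A B)) MB) hbc
    have hpBmin : p.map (algebraMap A B) ∈ (p.map (algebraMap A B)).minimalPrimes := by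
      rw [Ideal.minimalPrimes_eq_subsingleton_self]
      rfl
    have step2 := depth_localization_eq_of_mem_minimalPrimes (A := A) (B := B) p
      (p.map (algebraMap A B)) hpBmin M MB g (IsLocalizedModule.isBaseChange q0.primeCompl B g)
    rw [step1, step2]

end Part3

section Part4

/-- the core of S8796 -/
theorem depth_gt (A : Type u) [CommRing A] [IsNoetherianRing A] (I : Ideal A)
    (M : Type u) [AddCommGroup M] [Module A M] [Module.Finite A M]
    (T : Set (PrimeSpectrum A)) (s : ℕ)
    (h6 : ∀ q : PrimeSpectrum A, q ∈ T → ∀ p' : PrimeSpectrum (AdicCompletion (I.map (algebraMap A (Localization.AtPrime q.asIdeal))) (Localization.AtPrime q.asIdeal)), ¬ (I.map (algebraMap A (AdicCompletion (I.map (algebraMap A (Localization.AtPrime q.asIdeal))) (Localization.AtPrime q.asIdeal)))) ≤ p'.asIdeal → (∀ q' : PrimeSpectrum (AdicCompletion (I.map (algebraMap A (Localization.AtPrime q.asIdeal))) (Localization.AtPrime q.asIdeal)), p' ≤ q' → (I.map (algebraMap A (AdicCompletion (I.map (algebraMap A (Localization.AtPrime q.asIdeal))) (Localization.AtPrime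 q.asIdeal)))) ≤ q'.asIdeal → q'.asIdeal.IsMaximal) → (s : ℕ∞) < LocCoh.depth (Localization.AtPrime p'.asIdeal) (LocalizedModule p'.asIdeal.primeCompl (AdicCompletion (I.map (algebraMap A (Localization.AtPrime q.asIdeal))) (LocalizedModule q.asIdeal.primeCompl M))))
    (p q : PrimeSpectrum A) (hpq : p ≤ q) (hp : ¬ I ≤ p.asIdeal) (hIq : I ≤ q.asIdeal)
    (hr : ∀ r : PrimeSpectrum A, p ≤ r → r ≤ q → I ≤ r.asIdeal → r ∈ T) :
    (s : ℕ∞) < LocCoh.depth (Localization.AtPrime p.asIdeal)
      (LocalizedModule p.asIdeal.primeCompl M) := by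
  obtain ⟨q0, hq0min, hq0q⟩ := Ideal.exists_minimalPrimes_le (I := p.asIdeal ⊔ I) (J := q.asIdeal)
    (sup_le hpq hIq)
  haveI hq0prime : q0.IsPrime := hq0min.1.1
  have hq0T : (⟨q0, hq0prime⟩ : PrimeSpectrum A) ∈ T :=
    hr ⟨q0, hq0prime⟩ (le_sup_left.trans hq0min.1.2) hq0q (le_sup_right.trans hq0min.1.2)
  obtain ⟨p', hp'prime, h1, h2, h3⟩ := core I M p.asIdeal q0 hp hq0min (Localization.AtPrime q0)
    (LocalizedModule q0.primeCompl M) (LocalizedModule.mkLinearMap q0.primeCompl M)
  have h := h6 ⟨q0, hq0prime⟩ hq0T ⟨p', hp'prime⟩ h1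
    (fun q' hq'1 hq'2 => h2 q'.asIdeal q'.isPrime hq'1 hq'2)
  rw [← h3]
  exact h

theorem dimBetween_mono {A : Type u} [CommRing A] (p r q : Ideal A) [p.IsPrime] [r.IsPrime]
    [q.IsPrime] (hpr : p ≤ r) (hrq : r ≤ q) :
    Formal2.dimBetween A p r ≤ Formal2.dimBetween A p q := by
  unfold Formal2.dimBetween
  rw [Groth.Agent.Lib.Helper28.ringKrullDim_localization_quotient_eq_height p r hpr,
    Groth.Agent.Lib.Helper28.ringKrullDim_localization_quotient_eq_height p q (hpr.trans hrq)]
  exact WithBot.coe_le_coe.mpr (Ideal.height_mono (Ideal.map_mono hrq))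

end Part4

end Groth.Agent.Helper13DepthMin
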