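import Groth.Agent.Lib.Helper13WiebeE

/-!
# Chain-level Wiebe theorem, part F: the explicit cocycle and the theorem (helper13)

`wiebe`: if `f = c · g` are two Koszul-regular sequences of the same length `n` in a commutative ring,
then `(f) : (g) = (det c) + (f)`.
-/

set_option autoImplicit false
set_option linter.unusedSimpArgs false
universe u

namespace Groth.Agent.Helper13Wiebe
open CategoryTheory CochainComplex
open Groth.Agent.Lib.Helper21 Groth.Agent.Helper13Kz Groth.Agent.Helper13KzPerm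

variable {A : Type u} [CommRing A]

lemma dotp_zero : ∀ l : List A, dotp l 0 = 0
  | [] => rfl
  | a :: l => by
    show (0 : A) * a + dotp l (fun _ => 0) = 0
    rw [zero_mul, zero_add]
    exact dotp_zero l

lemma ext0_succ (n : ℕ) (v : Fin (n + 1) → A) :
    (fun j : ℕ => ext0 (n + 1) v (j + 1)) = ext0 n (fun i => v i.succ) := by
  funext j
  by_cases h : j < n
  · rw [ext0_apply_of_lt (n + 1) v (j + 1) (by omega), ext0_apply_of_lt n _ j h]
    rfl
  · rw [ext0_apply_of_ge (n + 1) v (j + 1) (by omega), ext0_apply_of_ge n _ j (by omega)]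

lemma dotp_ofFn : ∀ (n : ℕ) (g v : Fin n → A), dotp (List.ofFn g) (ext0 n v) = ∑ j, v j * g j
  | 0, _, _ => by simp [dotp]
  | n + 1, g, v => by
    rw [List.ofFn_succ, dotp, ext0_succ, dotp_ofFn n, Fin.sum_univ_succ,
      ext0_apply_of_lt (n + 1) v 0 (by omega)]
    rfl

lemma d_oneT (l : List A) (p p' : ℤ) : ((T l (K0 A)).d p p').hom (oneT A l p) = 0 := by
  by_cases h : p + 1 = p'
  · subst h
    rw [oneT, inrAll_d, K0_d, ModuleCat.hom_zero, LinearMap.zero_apply, map_zero]
  · rw [(T l (K0 A)).shape p p' h, ModuleCat.hom_zero, LinearMap.zero_apply]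

lemma ofList_ofFn {n : ℕ} (f : Fin n → A) : Ideal.ofList (List.ofFn f) = Ideal.span (Set.range f) := by
  unfold Ideal.ofList
  congr 1
  ext x
  simp [List.mem_ofFn]

/-- **Wiebe's theorem** for Koszul-regular sequences in an arbitrary commutative ring. -/
theorem wiebe {n : ℕ} (f g : Fin n → A) (c : Matrix (Fin n) (Fin n) A)
    (hf : LCI.IsKoszulRegularSeq A (List.ofFn f)) (hg : LCI.IsKoszulRegularSeq A (List.ofFn g))
    (hc : ∀ i, f i = ∑ j, c i j * g j) (x : A) (hx : ∀ j, x * g j ∈ Ideal.span (Set.range f)) :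
    x ∈ Ideal.span {Matrix.det c} ⊔ Ideal.span (Set.range f) := by
  let lf := List.ofFn f
  let lg := List.ofFn g
  let q' : ℤ := -(n : ℤ) - 1
  have hlf : lf.length = n := List.length_ofFn
  have hlg : lg.length = n := List.length_ofFn
  have hqf : sh lf (q' + 1) = 0 := by rw [sh_eq, hlf]; simp [q']
  have hqg : sh lg (q' + 1) = 0 := by rw [sh_eq, hlg]; simp [q']
  have hI : Ideal.ofList lf = Ideal.span (Set.range f) := ofList_ofFn f
  -- the lift of `x`
  obtain ⟨zX, hdzX, hzX⟩ := exists_cocycle_lift lf lg hf (q' + 1) hqg x (by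
    intro b hb
    obtain ⟨j, rfl⟩ := (List.mem_ofFn' _ _).1 hb
    rw [hI, mul_comm]
    exact hx j)
  let z : (T lf (T lg (K0 A))).X (q' + 1) := ((Xi lg lf (K0 A)).hom.f (q' + 1)).hom zX
  have hdz : ((T lf (T lg (K0 A))).d (q' + 1) (q' + 1 + 1)).hom z = 0 := by
    have := (Xi lg lf (K0 A)).hom.comm (q' + 1) (q' + 1 + 1)
    have h2 := congr($(this).hom zX)
    rw [ModuleCat.hom_comp, ModuleCat.hom_comp, LinearMap.comp_apply, LinearMap.comp_apply, hdzX,
      map_zero] at h2
    exact h2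
  have hσz : toR A (sh lg (q' + 1)) (fstAll (K0 A) lg (q' + 1)
      (sndAll (T lg (K0 A)) lf (q' + 1) z)) - x ∈ Ideal.ofList lf := by
    rw [Xi_track lg lf (K0 A) (q' + 1) zX]
    exact hzX
  -- the explicit cocycle
  let row : ℕ → ℕ → A := fun i => if h : i < n then ext0 n (c ⟨i, h⟩) else 0
  let hs : ℕ → Op2 (T lg (K0 A)) := fun i => two (hFam (K0 A) lg (row i))
  have hh : ∀ i, IsHtpy2 (lf.getD i 0) (hs i) := by
    intro i
    apply isHtpy2_two
    have h1 : dotp lg (row i) = lf.getD i 0 := by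
      by_cases h : i < n
      · have : row i = ext0 n (c ⟨i, h⟩) := dif_pos h
        rw [this, dotp_ofFn, ← hc]
        simp [lf, h]
      · have : row i = 0 := dif_neg h
        rw [this, dotp_zero]
        simp [lf, h]
    rw [← h1]
    exact isHtpy_hFam (K0 A) lg (row i)
  let E : (T lf (T lg (K0 A))).X (q' + 1) := Phi (T lg (K0 A)) lf hs (q' + 1) (oneT A lg (sh lf (q' + 1)))
  have hdE : ((T lf (T lg (K0 A))).d (q' + 1) (q' + 1 + 1)).hom E = 0 := by
    rw [d_Phi (T lg (K0 A)) lf hs hh, d_oneT, map_zero, smul_zero]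
  have hτE : toR A (sh lf (q' + 1)) (sndAll (K0 A) lg (sh lf (q' + 1))
      (fstAll (T lg (K0 A)) lf (q' + 1) E)) = 1 := by
    rw [fstAll_Phi, oneT, sndAll_inrAll, toR_fromR A _ hqf]
  have hσE : toR A (sh lg (q' + 1)) (fstAll (K0 A) lg (q' + 1)
      (sndAll (T lg (K0 A)) lf (q' + 1) E)) =
      eps n * Matrix.det (Matrix.of fun i => c (Fin.rev i)) := by
    rw [sndAll_Phi (T lg (K0 A)) lf hs (oneT A lg) (q' + 1), hlf, PP_eq_prod]
    have h1 : (fun i : Fin n => tot2 (T lg (K0 A)) (hs (n - 1 - i))) =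
        fun i : Fin n => iotaL lg (ext0 n (c (Fin.rev i))) := by
      funext i
      have hi : n - 1 - (i : ℕ) < n := by have := i.2; omega
      have : row (n - 1 - i) = ext0 n (c (Fin.rev i)) := by
        show (if h : n - 1 - (i : ℕ) < n then ext0 n (c ⟨n - 1 - i, h⟩) else 0) = _
        rw [dif_pos hi]
        congr 2
        ext
        rw [Fin.val_rev]
        show n - 1 - (i : ℕ) = n - ((i : ℕ) + 1)
        omega
      show tot2 (T lg (K0 A)) (two (hFam (K0 A) lg (row (n - 1 - i)))) = _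
      rw [tot2_two, this, iotaL_apply]
    rw [h1, map_smul, map_smul, smul_eq_mul]
    have h2 := FL_eq_det lg n hlg (q' + 1) hqg (fun i => c (Fin.rev i))
    rw [FL_apply] at h2
    have h3 : ((eps n : A) • ((List.ofFn fun i => iotaL lg (ext0 n (c (Fin.rev i)))).prod
        (oneT A lg))) (q' + 1) = (eps n : A) •
          (((List.ofFn fun i => iotaL lg (ext0 n (c (Fin.rev i)))).prod (oneT A lg)) (q' + 1)) := rfl
    rw [h2]
  have hdet : Matrix.det (Matrix.of fun i => c (Fin.rev i)) =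
      ((Equiv.Perm.sign (Fin.revPerm : Equiv.Perm (Fin n)) : ℤˣ) : ℤ) * Matrix.det c := by
    have := Matrix.det_permute (Fin.revPerm : Equiv.Perm (Fin n)) c
    rw [← this]
    rfl
  -- the comparison
  let a : A := toR A (sh lf (q' + 1)) (sndAll (K0 A) lg (sh lf (q' + 1))
    (fstAll (T lg (K0 A)) lf (q' + 1) z))
  obtain ⟨k, hk⟩ := exists_d_eq_of_cocycle lf lg hg q' hqf (z - a • E) (by
    rw [map_sub, map_smul, hdz, hdE, smul_zero, sub_zero]) (by
    rw [map_sub, map_sub, map_sub, map_smul, map_smul, map_smul, hτE, smul_eq_mul, mul_one, sub_self]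
    exact Submodule.zero_mem _)
  have h3 := sigma_d_mem lf lg q' k
  rw [hk, map_sub, map_sub, map_sub, map_smul, map_smul, map_smul, hσE, hdet, smul_eq_mul, hI] at h3
  rw [hI] at hσz
  -- conclude
  have h4 : x - a * ((eps n : A) * (((Equiv.Perm.sign (Fin.revPerm : Equiv.Perm (Fin n)) : ℤˣ) : ℤ) *
      Matrix.det c)) ∈ Ideal.span (Set.range f) := by
    have := Submodule.sub_mem _ h3 hσz
    have e : toR A (sh lg (q' + 1)) (fstAll (K0 A) lg (q' + 1)
        (sndAll (T lg (K0 A)) lf (q' + 1) z)) -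
        a * ((eps n : A) * (((Equiv.Perm.sign (Fin.revPerm : Equiv.Perm (Fin n)) : ℤˣ) : ℤ) *
          Matrix.det c)) -
        (toR A (sh lg (q' + 1)) (fstAll (K0 A) lg (q' + 1)
          (sndAll (T lg (K0 A)) lf (q' + 1) z)) - x) =
        x - a * ((eps n : A) * (((Equiv.Perm.sign (Fin.revPerm : Equiv.Perm (Fin n)) : ℤˣ) : ℤ) *
          Matrix.det c)) := by ring
    rw [e] at this
    exact this
  rw [Submodule.mem_sup]
  refine ⟨a * ((eps n : A) * (((Equiv.Perm.sign (Fin.revPerm : Equiv.Perm (Fin n)) : ℤˣ) : ℤ) *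
      Matrix.det c)), ?_, _, h4, by ring⟩
  rw [Ideal.mem_span_singleton']
  exact ⟨a * ((eps n : A) * (((Equiv.Perm.sign (Fin.revPerm : Equiv.Perm (Fin n)) : ℤˣ) : ℤ))),
    by ring⟩

end Groth.Agent.Helper13Wiebe
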