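import Groth.Agent.Lib.Helper13KzIdeal
import Groth.Agent.Lib.Helper13WiebeF

/-!
# The diagonal of a polynomial algebra after base change (helper13)

For an `A`-algebra `B` and `x̄ : Fin n → B`: the isomorphism `ee : A[x] ⊗_A B ≃ B[x]`, the generators
`gg j = x_j ⊗ 1 - 1 ⊗ x̄_j` of the kernel of `A[x] ⊗_A B → B` (`span_gg`), their Koszul-regularity
(`isKoszulRegularSeq_gg`), and the Jacobian identity `productMap_coeff`: if `p ⊗ 1 = ∑ c_j g_j` then
`c_k(x̄, x̄) = (∂p/∂x_k)(x̄)`.
-/

set_option autoImplicit false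
open TensorProduct MvPolynomial
universe u
namespace Groth.Agent.Helper13DiagPoly
variable {A : Type u} [CommRing A] {n : ℕ} (B : Type u) [CommRing B] [Algebra A B] (xbar : Fin n → B)

/-- `A[x] ⊗_A B ≃ B[x]` -/
noncomputable def ee : MvPolynomial (Fin n) A ⊗[A] B ≃ₐ[A] MvPolynomial (Fin n) B :=
  (Algebra.TensorProduct.comm A _ _).trans
    ((MvPolynomial.algebraTensorAlgEquiv A B).restrictScalars A)

lemma ee_tmul (p : MvPolynomial (Fin n) A) (b : B) :
    ee (n := n) B (p ⊗ₜ[A] b) = b • MvPolynomial.map (algebraMap A B) p := by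
  simp [ee]

variable {B}

lemma eval_ee (m : MvPolynomial (Fin n) A ⊗[A] B) :
    MvPolynomial.eval xbar (ee B m) =
      Algebra.TensorProduct.productMap (MvPolynomial.aeval xbar) (AlgHom.id A B) m := by
  induction m using TensorProduct.induction_on with
  | zero => simp
  | tmul p b =>
    rw [ee_tmul, Algebra.smul_def, map_mul, MvPolynomial.algebraMap_eq, MvPolynomial.eval_C,
      MvPolynomial.eval_map, ← MvPolynomial.aeval_def,
      Algebra.TensorProduct.productMap_apply_tmul, mul_comm]
    rfl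
  | add x y hx hy => rw [map_add, map_add, map_add, hx, hy]

/-- the generators of the diagonal ideal -/
noncomputable def gg : Fin n → MvPolynomial (Fin n) A ⊗[A] B :=
  fun j => (ee B).symm (X j - C (xbar j))

lemma ee_gg (j : Fin n) : ee (A := A) B (gg (A := A) xbar j) = X j - C (xbar j) :=
  (ee (A := A) (n := n) B).apply_symm_apply _

lemma isKoszulRegularSeq_gg :
    LCI.IsKoszulRegularSeq (MvPolynomial (Fin n) A ⊗[A] B) (List.ofFn (gg (A := A) xbar)) := by
  have h1 := Groth.Agent.Helper13KzIdeal.isKoszulRegularSeq_xsub n xbar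
  let φ : MvPolynomial (Fin n) B →+* MvPolynomial (Fin n) A ⊗[A] B :=
    (ee (A := A) B).symm.toRingEquiv.toRingHom
  have hφ : φ.Flat := RingHom.Flat.of_bijective (f := φ) (ee (A := A) (n := n) B).symm.bijective
  have h2 := Groth.Agent.Lib.Helper5.KindFlat.isKoszulRegularSeq_map_of_flat φ hφ _ h1
  unfold Groth.Agent.Helper13KzIdeal.xsub at h2
  rw [List.map_ofFn] at h2
  exact h2

lemma span_gg : Ideal.span (Set.range (gg (A := A) xbar)) =
    RingHom.ker (Algebra.TensorProduct.productMap (MvPolynomial.aeval xbar) (AlgHom.id A B)) := by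
  apply le_antisymm
  · rw [Ideal.span_le]
    rintro _ ⟨j, rfl⟩
    rw [SetLike.mem_coe, RingHom.mem_ker, ← eval_ee, ee_gg, map_sub, MvPolynomial.eval_X,
      MvPolynomial.eval_C, sub_self]
  · intro m hm
    rw [RingHom.mem_ker, ← eval_ee, ← RingHom.mem_ker,
      Groth.Agent.Helper13KzIdeal.ker_eval_eq] at hm
    have h1 : Ideal.ofList (Groth.Agent.Helper13KzIdeal.xsub n xbar) =
        Ideal.span (Set.range fun j : Fin n => (X j - C (xbar j) : MvPolynomial (Fin n) B)) :=
      Groth.Agent.Helper13Wiebe.ofList_ofFn _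
    rw [h1] at hm
    have h2 := Ideal.mem_map_of_mem ((ee (A := A) B).symm.toRingEquiv.toRingHom) hm
    rw [Ideal.map_span, ← Set.range_comp] at h2
    have h3 : (ee (A := A) B).symm.toRingEquiv.toRingHom (ee B m) = m := (ee B).symm_apply_apply m
    rw [h3] at h2
    exact h2

/-- the Jacobian identity: if `p ⊗ 1 = ∑ c_j g_j` then `c_k(x̄) = ∂p/∂x_k (x̄)` -/
lemma productMap_coeff (p : MvPolynomial (Fin n) A) (c : Fin n → MvPolynomial (Fin n) A ⊗[A] B)
    (hc : p ⊗ₜ[A] (1 : B) = ∑ j, c j * gg (A := A) xbar j) (k : Fin n) :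
    Algebra.TensorProduct.productMap (MvPolynomial.aeval xbar) (AlgHom.id A B) (c k) =
      MvPolynomial.aeval xbar (MvPolynomial.pderiv k p) := by
  have h1 := congrArg (ee B) hc
  rw [ee_tmul, one_smul, map_sum] at h1
  simp only [map_mul, ee_gg] at h1
  have h2 := congrArg (MvPolynomial.pderiv k) h1
  rw [MvPolynomial.pderiv_map, map_sum] at h2
  have h3 := congrArg (MvPolynomial.eval xbar) h2
  rw [MvPolynomial.eval_map, ← MvPolynomial.aeval_def, map_sum] at h3
  rw [h3, ← eval_ee]
  have h4 : ∀ j : Fin n, MvPolynomial.eval xbar (MvPolynomial.pderiv k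
      (ee B (c j) * (X j - C (xbar j)))) = if j = k then MvPolynomial.eval xbar (ee B (c j)) else 0 := by
    intro j
    rw [Derivation.leibniz, map_sub, MvPolynomial.pderiv_X, MvPolynomial.pderiv_C, sub_zero,
      smul_eq_mul, smul_eq_mul, map_add, map_mul, map_mul, map_sub, MvPolynomial.eval_X,
      MvPolynomial.eval_C, sub_self, zero_mul, add_zero]
    by_cases hjk : j = k
    · subst hjk
      simp
    · rw [if_neg hjk, Pi.single_eq_of_ne hjk]
      simp
  simp only [h4]
  simp

end Groth.Agent.Helper13DiagPoly
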