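import Mathlib
import Groth.Prelude.Def_Disc

/-!
# Noether different of a finite free algebra via the trace element
-/

namespace Groth.Agent.Lib.Helper27NoetherDiff

open TensorProduct

universe u v

variable {A : Type u} {B : Type v} [CommRing A] [CommRing B] [Algebra A B]

/-- the pairing `λ ⊗ id : B ⊗ B → B` -/
noncomputable def pair (l : B →ₗ[A] A) : B ⊗[A] B →ₗ[A] B :=
  TensorProduct.lift ((LinearMap.lsmul A B).comp l)

@[simp] theorem pair_tmul (l : B →ₗ[A] A) (x y : B) : pair l (x ⊗ₜ[A] y) = l x • y := by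
  simp [pair]

theorem pair_add (l l' : B →ₗ[A] A) (ξ : B ⊗[A] B) :
    pair (l + l') ξ = pair l ξ + pair l' ξ := by
  induction ξ using TensorProduct.induction_on with
  | zero => simp
  | tmul x y => simp [add_smul]
  | add x y hx hy => rw [map_add, hx, hy, map_add, map_add]; abel

theorem pair_mul_left (l : B →ₗ[A] A) (c : B) (ξ : B ⊗[A] B) :
    pair l ((c ⊗ₜ[A] (1 : B)) * ξ) = pair (l ∘ₗ LinearMap.mulLeft A c) ξ := by
  induction ξ using TensorProduct.induction_on with
  | zero => simp
  | tmul x y => simp [Algebra.TensorProduct.tmul_mul_tmul]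
  | add x y hx hy => rw [mul_add, map_add, hx, hy, map_add]

theorem pair_mul_right (l : B →ₗ[A] A) (c : B) (ξ : B ⊗[A] B) :
    pair l (((1 : B) ⊗ₜ[A] c) * ξ) = c * pair l ξ := by
  induction ξ using TensorProduct.induction_on with
  | zero => simp
  | tmul x y => simp [Algebra.TensorProduct.tmul_mul_tmul]
  | add x y hx hy => rw [mul_add, map_add, hx, hy, map_add, mul_add]

section Basis

variable {ι : Type*} [Fintype ι] [DecidableEq ι] (b : Module.Basis ι A B)

theorem sum_mul_pair (ξ : B ⊗[A] B) :
    ∑ j, b j * pair (b.coord j) ξ = Algebra.TensorProduct.lmul' (S := B) A ξ := by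
  induction ξ using TensorProduct.induction_on with
  | zero => simp
  | tmul x y =>
    simp only [pair_tmul, Algebra.TensorProduct.lmul'_apply_tmul, Module.Basis.coord_apply]
    conv_rhs => rw [← b.sum_repr x]
    rw [Finset.sum_mul]
    refine Finset.sum_congr rfl (fun j _ => ?_)
    rw [mul_smul_comm, smul_mul_assoc]
  | add x y hx hy =>
    simp only [map_add, mul_add, Finset.sum_add_distrib, hx, hy]

theorem eq_sum_tmul_pair (ξ : B ⊗[A] B) :
    ξ = ∑ j, b j ⊗ₜ[A] pair (b.coord j) ξ := by
  induction ξ using TensorProduct.induction_on with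
  | zero => simp
  | tmul x y =>
    simp only [pair_tmul, Module.Basis.coord_apply]
    conv_lhs => rw [← b.sum_repr x]
    rw [TensorProduct.sum_tmul]
    refine Finset.sum_congr rfl (fun j _ => ?_)
    rw [TensorProduct.smul_tmul]
  | add x y hx hy =>
    simp only [map_add, TensorProduct.tmul_add, Finset.sum_add_distrib]
    rw [← hx, ← hy]

theorem trace_eq_sum (x : B) : Algebra.trace A B x = ∑ j, b.coord j (b j * x) := by
  rw [Algebra.trace_eq_matrix_trace b, Matrix.trace]
  refine Finset.sum_congr rfl (fun j _ => ?_)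
  rw [Matrix.diag_apply, Algebra.leftMulMatrix_eq_repr_mul, Module.Basis.coord_apply, mul_comm]

theorem pair_trace (ξ : B ⊗[A] B) :
    pair (Algebra.trace A B) ξ = ∑ j, pair (b.coord j) ((b j ⊗ₜ[A] (1 : B)) * ξ) := by
  induction ξ using TensorProduct.induction_on with
  | zero => simp
  | tmul x y =>
    simp only [pair_tmul, Algebra.TensorProduct.tmul_mul_tmul, one_mul]
    rw [trace_eq_sum b, Finset.sum_smul]
  | add x y hx hy =>
    simp only [map_add, mul_add, Finset.sum_add_distrib, hx, hy]

end Basis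

theorem mem_ann_iff (ξ : B ⊗[A] B) :
    ξ ∈ Submodule.annihilator (RingHom.ker (Algebra.TensorProduct.lmul' (S := B) A)) ↔
      ∀ c : B, (c ⊗ₜ[A] (1 : B)) * ξ = ((1 : B) ⊗ₜ[A] c) * ξ := by
  have hker : (RingHom.ker (Algebra.TensorProduct.lmul' (S := B) A) : Ideal (B ⊗[A] B)) =
      Ideal.span (Set.range fun s : B => (1 : B) ⊗ₜ[A] s - s ⊗ₜ[A] (1 : B)) :=
    (KaehlerDifferential.span_range_eq_ideal A B).symm
  rw [hker, Ideal.span, Submodule.mem_annihilator_span]
  constructor
  · intro h c
    have := h ⟨_, ⟨c, rfl⟩⟩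
    simp only [smul_eq_mul, mul_sub] at this
    rw [sub_eq_zero] at this
    rw [mul_comm _ ξ, mul_comm _ ξ]
    exact this.symm
  · rintro h ⟨_, ⟨c, rfl⟩⟩
    simp only [smul_eq_mul, mul_sub]
    rw [sub_eq_zero, mul_comm ξ, mul_comm ξ]
    exact (h c).symm

variable [Module.Finite A B] [Module.Free A B]

theorem main : (Disc.noetherDifferent A B : Set B) =
    Set.range (fun φ : Disc.Omega A B →ₗ[B] B => φ (Disc.Omega.trace A B)) := by
  classical
  let ι := Module.Free.ChooseBasisIndex A B
  let b : Module.Basis ι A B := Module.Free.chooseBasis A B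
  have hsurj : Function.Surjective (Algebra.TensorProduct.lmul' (S := B) A) :=
    fun x => ⟨x ⊗ₜ 1, by simp⟩
  have key : ∀ ξ : B ⊗[A] B,
      ξ ∈ Submodule.annihilator (RingHom.ker (Algebra.TensorProduct.lmul' (S := B) A)) →
      pair (Algebra.trace A B) ξ = Algebra.TensorProduct.lmul' (S := B) A ξ := by
    intro ξ hξ
    rw [mem_ann_iff] at hξ
    rw [pair_trace b, ← sum_mul_pair b]
    refine Finset.sum_congr rfl (fun j _ => ?_)
    rw [hξ, pair_mul_right]
  ext x
  constructor
  · intro hx
    have hx' : x ∈ Ideal.map (Algebra.TensorProduct.lmul' (S := B) A)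
      (Submodule.annihilator (RingHom.ker (Algebra.TensorProduct.lmul' (S := B) A))) := hx
    rw [Ideal.mem_map_iff_of_surjective _ hsurj] at hx'
    obtain ⟨ξ, hξ, rfl⟩ := hx'
    have hξ' := (mem_ann_iff ξ).mp hξ
    refine ⟨{ toFun := fun l => pair l.toLinearMap ξ
              map_add' := fun l l' => pair_add _ _ _
              map_smul' := fun c l => ?_ }, ?_⟩
    · show pair (l.toLinearMap ∘ₗ LinearMap.mulLeft A c) ξ = c • pair l.toLinearMap ξ
      rw [← pair_mul_left, hξ', pair_mul_right, smul_eq_mul]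
    · show pair (Algebra.trace A B) ξ = _
      exact key ξ hξ
  · rintro ⟨φ, rfl⟩
    set ξ : B ⊗[A] B := ∑ j, b j ⊗ₜ[A] φ ⟨b.coord j⟩ with hξdef
    have hpair : ∀ l : Disc.Omega A B, pair l.toLinearMap ξ = φ l := by
      intro l
      have hl : l = ∑ j, (algebraMap A B (l.toLinearMap (b j))) • (⟨b.coord j⟩ : Disc.Omega A B) := by
        apply Disc.Omega.toLinearMap_injective
        apply b.ext
        intro i
        let toLM : Disc.Omega A B →+ (B →ₗ[A] A) :=
          { toFun := Disc.Omega.toLinearMap, map_zero' := rfl, map_add' := fun _ _ => rfl }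
        have h1 : (∑ j, (algebraMap A B (l.toLinearMap (b j))) •
            (⟨b.coord j⟩ : Disc.Omega A B)).toLinearMap =
            ∑ j, ((algebraMap A B (l.toLinearMap (b j))) •
              (⟨b.coord j⟩ : Disc.Omega A B)).toLinearMap := map_sum toLM _ _
        rw [h1, LinearMap.sum_apply, Finset.sum_eq_single i]
        · rw [Disc.Omega.smul_toLinearMap_apply, ← Algebra.smul_def, map_smul]
          simp
        · intro j _ hji
          rw [Disc.Omega.smul_toLinearMap_apply, ← Algebra.smul_def, map_smul]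
          simp [Ne.symm hji]
        · intro h
          exact absurd (Finset.mem_univ i) h
      conv_rhs => rw [hl]
      rw [hξdef, map_sum, map_sum]
      refine Finset.sum_congr rfl (fun j _ => ?_)
      rw [pair_tmul, map_smul, Algebra.smul_def, smul_eq_mul]
    have hann : ξ ∈ Submodule.annihilator
        (RingHom.ker (Algebra.TensorProduct.lmul' (S := B) A)) := by
      rw [mem_ann_iff]
      intro c
      rw [← sub_eq_zero, eq_sum_tmul_pair b ((c ⊗ₜ[A] (1 : B)) * ξ - ((1 : B) ⊗ₜ[A] c) * ξ)]
      refine Finset.sum_eq_zero (fun j _ => ?_)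
      rw [map_sub, pair_mul_left, pair_mul_right]
      have h1 : pair (b.coord j ∘ₗ LinearMap.mulLeft A c) ξ =
          φ (c • (⟨b.coord j⟩ : Disc.Omega A B)) := hpair ⟨b.coord j ∘ₗ LinearMap.mulLeft A c⟩
      have h2 : pair (b.coord j) ξ = φ ⟨b.coord j⟩ := hpair ⟨b.coord j⟩
      rw [h1, h2, map_smul, smul_eq_mul, sub_self, TensorProduct.tmul_zero]
    show φ (Disc.Omega.trace A B) ∈ Ideal.map (Algebra.TensorProduct.lmul' (S := B) A)
      (Submodule.annihilator (RingHom.ker (Algebra.TensorProduct.lmul' (S := B) A)))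
    rw [Ideal.mem_map_iff_of_surjective _ hsurj]
    refine ⟨ξ, hann, ?_⟩
    rw [← key ξ hann]
    exact hpair (Disc.Omega.trace A B)

end Groth.Agent.Lib.Helper27NoetherDiff
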