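import Mathlib
import Groth.Prelude.Def_Disc

set_option autoImplicit false
set_option linter.style.haveILetI false
universe u v

namespace Groth.Agent.Lib.Helper18Disc
open TensorProduct Polynomial

variable {A : Type u} {B : Type v} [CommRing A] [CommRing B] [Algebra A B]

theorem lmul_surj : Function.Surjective (Algebra.TensorProduct.lmul' (S := B) A) := fun b =>
  ⟨b ⊗ₜ 1, by simp⟩

/-- the Noether different kills the Kähler differentials -/
theorem different_le_annihilator :
    Disc.noetherDifferent A B ≤ Module.annihilator B (Ω[B⁄A]) := by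
  intro b hb
  rw [Disc.noetherDifferent, Ideal.mem_map_iff_of_surjective _ lmul_surj] at hb
  obtain ⟨t, ht, rfl⟩ := hb
  rw [Module.mem_annihilator]
  intro ω
  obtain ⟨x, rfl⟩ := KaehlerDifferential.fromIdeal_surjective A B ω
  have h1 : (Algebra.TensorProduct.lmul' (S := B) A t) • KaehlerDifferential.fromIdeal A B x =
      ((Algebra.TensorProduct.lmul' (S := B) A t) ⊗ₜ[A] (1 : B)) •
        KaehlerDifferential.fromIdeal A B x := by
    rw [← algebraMap_smul (B ⊗[A] B) (Algebra.TensorProduct.lmul' (S := B) A t)
      (KaehlerDifferential.fromIdeal A B x)]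
    rfl
  rw [h1, ← map_smul]
  have htx : t • x = 0 := by
    rw [Submodule.mem_annihilator] at ht
    apply Subtype.ext
    exact ht x.1 x.2
  have h2 : (((Algebra.TensorProduct.lmul' (S := B) A t) ⊗ₜ[A] (1 : B)) • x : KaehlerDifferential.ideal A B) =
      (((Algebra.TensorProduct.lmul' (S := B) A t) ⊗ₜ[A] (1 : B)) - t) • x := by
    apply Subtype.ext
    have := congrArg Subtype.val htx
    simp only [Submodule.coe_smul, smul_eq_mul, ZeroMemClass.coe_zero] at this ⊢
    rw [sub_mul, this, sub_zero]
  rw [h2]
  change (KaehlerDifferential.ideal A B).toCotangent _ = 0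
  rw [Ideal.toCotangent_eq_zero, pow_two]
  refine Ideal.mul_mem_mul ?_ x.2
  change _ ∈ RingHom.ker _
  rw [RingHom.mem_ker, map_sub]
  simp


/-- elements killing the Kähler differentials have a power in the Noether different -/
theorem annihilator_le_radical [Algebra.FiniteType A B] :
    Module.annihilator B (Ω[B⁄A]) ≤ (Disc.noetherDifferent A B).radical := by
  intro b hb
  rw [Module.mem_annihilator] at hb
  set I := KaehlerDifferential.ideal A B with hI
  have hfg : I.FG := KaehlerDifferential.ideal_fg A B
  haveI : Module.Finite (B ⊗[A] B) I := Module.Finite.iff_fg.mpr hfg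
  set t : B ⊗[A] B := b ⊗ₜ[A] (1 : B) with ht
  let f : Module.End (B ⊗[A] B) I := algebraMap (B ⊗[A] B) (Module.End (B ⊗[A] B) I) t
  have hf : ∀ x : I, f x = t • x := fun x => rfl
  have hrange : LinearMap.range f ≤ I • (⊤ : Submodule (B ⊗[A] B) I) := by
    rintro _ ⟨x, rfl⟩
    have h0 : I.toCotangent (f x) = 0 := by
      rw [hf, map_smul]
      have := hb (KaehlerDifferential.fromIdeal A B x)
      rw [← algebraMap_smul (B ⊗[A] B) b (KaehlerDifferential.fromIdeal A B x)] at this
      exact this
    have h1 : f x ∈ LinearMap.ker I.toCotangent := h0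
    rw [Ideal.mem_toCotangent_ker, pow_two] at h1
    rw [Submodule.mem_smul_top_iff]
    exact h1
  obtain ⟨p, hmonic, -, hcoeff, hp⟩ :=
    LinearMap.exists_monic_and_natDegree_eq_and_coeff_mem_pow_and_aeval_eq_zero
      (B ⊗[A] B) f I hrange
  set s : B ⊗[A] B := p.eval t with hs
  have hsann : s ∈ Submodule.annihilator I := by
    rw [Submodule.mem_annihilator]
    intro x hx
    have h1 : (Polynomial.aeval f p) ⟨x, hx⟩ = 0 := by rw [hp]; rfl
    rw [Polynomial.aeval_algebraMap_apply_eq_algebraMap_eval] at h1
    have h2 := congrArg Subtype.val h1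
    exact h2
  have hμs : Algebra.TensorProduct.lmul' (S := B) A s = b ^ p.natDegree := by
    change (Algebra.TensorProduct.lmul' (S := B) A).toRingHom s = _
    rw [hs, ← Polynomial.eval₂_id, Polynomial.hom_eval₂, RingHom.comp_id,
      Polynomial.eval₂_eq_sum_range, Finset.sum_range_succ]
    have ht' : (Algebra.TensorProduct.lmul' (S := B) A).toRingHom t = b := by simp [ht]
    rw [ht', Finset.sum_eq_zero, zero_add]
    · have : p.coeff p.natDegree = 1 := hmonic
      rw [this, map_one, one_mul]
    · intro k hk
      have hk' : k < p.natDegree := Finset.mem_range.mp hk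
      have h1 : p.coeff k ∈ I := by
        have h2 := hcoeff k
        have h3 : I ^ (p.natDegree - k) ≤ I := Ideal.pow_le_self (by omega)
        exact h3 h2
      have h4 : (Algebra.TensorProduct.lmul' (S := B) A).toRingHom (p.coeff k) = 0 := h1
      rw [h4, zero_mul]
  refine ⟨p.natDegree, ?_⟩
  rw [← hμs]
  exact Ideal.mem_map_of_mem _ hsann

theorem main [Algebra.FiniteType A B] :
    {q : PrimeSpectrum B | Disc.noetherDifferent A B ≤ q.asIdeal} =
      (Algebra.unramifiedLocus A B)ᶜ := by
  rw [Algebra.unramifiedLocus_eq_compl_support, compl_compl]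
  ext q
  rw [Set.mem_ofPred_eq, Module.mem_support_iff_of_finite]
  constructor
  · intro h
    have := annihilator_le_radical (A := A) (B := B)
    refine this.trans ?_
    exact (Ideal.IsPrime.radical_le_iff q.isPrime).mpr h
  · intro h
    exact different_le_annihilator.trans h

end Groth.Agent.Lib.Helper18Disc
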