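import Mathlib
import Groth.Prelude.Def_Disc
import Groth.Agent.S2196
import Groth.Agent.S2215
import Groth.Agent.Lib.Helper27NoetherDiff

set_option autoImplicit false
universe u v
open TensorProduct

namespace Groth.Agent.Helper13DiffSet

open Groth.Agent.Lib.Helper27NoetherDiff

variable {A : Type u} {B : Type v} [CommRing A] [CommRing B] [Algebra A B]

/-- the swap of the two factors -/
noncomputable abbrev sw : B ⊗[A] B ≃ₐ[A] B ⊗[A] B := Algebra.TensorProduct.comm A B B

theorem sw_mem_ann (ξ : B ⊗[A] B)
    (hξ : ξ ∈ Submodule.annihilator (RingHom.ker (Algebra.TensorProduct.lmul' (S := B) A))) :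
    sw ξ ∈ Submodule.annihilator (RingHom.ker (Algebra.TensorProduct.lmul' (S := B) A)) := by
  rw [mem_ann_iff] at hξ ⊢
  intro c
  have h := congrArg (sw (A := A) (B := B)) (hξ c)
  rw [map_mul, map_mul] at h
  have h1 : sw (A := A) (B := B) (c ⊗ₜ[A] (1 : B)) = (1 : B) ⊗ₜ[A] c := by simp [sw]
  have h2 : sw (A := A) (B := B) ((1 : B) ⊗ₜ[A] c) = c ⊗ₜ[A] (1 : B) := by simp [sw]
  rw [h1, h2] at h
  exact h.symm

theorem lmul_sw (ξ : B ⊗[A] B) :
    Algebra.TensorProduct.lmul' (S := B) A (sw ξ) = Algebra.TensorProduct.lmul' (S := B) A ξ := by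
  induction ξ using TensorProduct.induction_on with
  | zero => simp
  | tmul x y => simp [sw, mul_comm]
  | add x y hx hy => rw [map_add, map_add, hx, hy, map_add]

theorem trace_pair [Module.Finite A B] [Module.Free A B] (φ : B →ₗ[A] A) (ζ : B ⊗[A] B) :
    Algebra.trace A B (pair φ ζ) = φ (pair (Algebra.trace A B) (sw ζ)) := by
  induction ζ using TensorProduct.induction_on with
  | zero => simp
  | tmul x y => simp [sw, mul_comm]
  | add x y hx hy => simp only [map_add, hx, hy]

theorem pair_trace_eq [Module.Finite A B] [Module.Free A B] (ξ : B ⊗[A] B)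
    (hξ : ξ ∈ Submodule.annihilator (RingHom.ker (Algebra.TensorProduct.lmul' (S := B) A))) :
    pair (Algebra.trace A B) ξ = Algebra.TensorProduct.lmul' (S := B) A ξ := by
  classical
  let b : Module.Basis (Module.Free.ChooseBasisIndex A B) A B := Module.Free.chooseBasis A B
  have h := (mem_ann_iff ξ).1 hξ
  rw [pair_trace b, ← sum_mul_pair b]
  refine Finset.sum_congr rfl (fun j _ => ?_)
  rw [h, pair_mul_right]

/-- the Noether different is contained in the different. -/
theorem noetherDifferent_subset_differentSet [Module.Finite A B] [Module.Free A B] :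
    (Disc.noetherDifferent A B : Set B) ⊆ Disc.differentSet A B := by
  intro b hb
  have hsurj : Function.Surjective (Algebra.TensorProduct.lmul' (S := B) A) :=
    fun x => ⟨x ⊗ₜ 1, by simp⟩
  have hb' : b ∈ Ideal.map (Algebra.TensorProduct.lmul' (S := B) A)
      (Submodule.annihilator (RingHom.ker (Algebra.TensorProduct.lmul' (S := B) A))) := hb
  rw [Ideal.mem_map_iff_of_surjective _ hsurj] at hb'
  obtain ⟨ξ, hξ, rfl⟩ := hb'
  intro φ
  refine ⟨pair φ ξ, fun x => ?_⟩
  have hsw := sw_mem_ann ξ hξ
  have h1 : pair φ ξ * x = pair φ (((1 : B) ⊗ₜ[A] x) * ξ) := by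
    rw [pair_mul_right, mul_comm]
  rw [h1, trace_pair]
  have h2 : sw (A := A) (B := B) ((1 : B) ⊗ₜ[A] x) = x ⊗ₜ[A] (1 : B) := by simp [sw]
  have h3 : sw (A := A) (B := B) (((1 : B) ⊗ₜ[A] x) * ξ) = (x ⊗ₜ[A] (1 : B)) * sw ξ := by
    rw [map_mul, h2]
  rw [h3, (mem_ann_iff _).1 hsw x, pair_mul_right, pair_trace_eq _ hsw, lmul_sw, mul_comm]

/-- the square of an element of the different lies in the Noether different. -/
theorem sq_mem_noetherDifferent [IsNoetherianRing A] [Module.Finite A B] [Module.Free A B]
    (b : B) (hb : b ∈ Disc.differentSet A B) : b * b ∈ Disc.noetherDifferent A B := by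
  classical
  let bas : Module.Basis (Module.Free.ChooseBasisIndex A B) A B := Module.Free.chooseBasis A B
  -- well-definedness
  have hW : ∀ c c' : B, (∀ x, Algebra.trace A B (c * x) = Algebra.trace A B (c' * x)) →
      b * c = b * c' := by
    intro c c' h
    have hd : ∀ x, Algebra.trace A B ((c - c') * x) = 0 := by
      intro x; rw [sub_mul, map_sub, h x, sub_self]
    have h0 : b * (c - c') = 0 := by
      apply bas.ext_elem
      intro j
      obtain ⟨e, he⟩ := hb (bas.coord j)
      have := he (c - c')
      rw [Module.Basis.coord_apply] at this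
      rw [this, mul_comm e, hd e, map_zero, Finsupp.zero_apply]
    rw [mul_sub, sub_eq_zero] at h0
    exact h0
  choose cc hcc using fun φ : B →ₗ[A] A => hb φ
  let Φ : Disc.Omega A B →ₗ[B] B :=
    { toFun := fun l => b * cc l.toLinearMap
      map_add' := by
        intro l l'
        rw [← mul_add]
        apply hW
        intro x
        rw [← hcc, add_mul, map_add, ← hcc, ← hcc]
        rfl
      map_smul' := by
        intro y l
        rw [RingHom.id_apply, smul_eq_mul, mul_left_comm]
        apply hW
        intro x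
        rw [← hcc, mul_assoc, mul_left_comm, ← hcc]
        show l.toLinearMap (y * (b * x)) = l.toLinearMap (b * (y * x))
        rw [mul_left_comm] }
  have hΦ : Φ (Disc.Omega.trace A B) = b * b := by
    show b * cc (Algebra.trace A B) = b * b
    apply hW
    intro x
    rw [← hcc]
  have := Groth.Agent.S2215.result (A := A) (B := B)
  have hmem : b * b ∈ (Disc.noetherDifferent A B : Set B) := by
    rw [this]
    exact ⟨Φ, hΦ⟩
  exact hmem

theorem differentSet_subset_iff [IsNoetherianRing A] [Module.Finite A B] [Module.Free A B]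
    (q : Ideal B) [q.IsPrime] :
    Disc.differentSet A B ⊆ q ↔ Disc.noetherDifferent A B ≤ q := by
  constructor
  · intro h x hx
    exact h (noetherDifferent_subset_differentSet hx)
  · intro h b hb
    have h1 := h (sq_mem_noetherDifferent b hb)
    exact (Ideal.IsPrime.mem_or_mem inferInstance h1).elim id id

end Groth.Agent.Helper13DiffSet
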