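import Mathlib

/-!
# Flat base change of the conormal module `J/J²` (helper19)

For a flat ring map `R → R'` and an ideal `J` of `R` with extension `J' = J R'`:
`J'/J'² ≅ (R'/J') ⊗_{R/J} J/J²`, functionals `J/J² → R/J` extend to `J'/J'² → R'/J'`, and `R'/J'` is
faithfully flat over `R/J` when `R'` is faithfully flat over `R`.
-/

set_option autoImplicit false
set_option linter.style.haveILetI false
open TensorProduct

namespace Groth.Agent.Lib.Helper19.CotBC

theorem isBaseChange_idealMap {R S : Type*} [CommRing R] [CommRing S] [Algebra R S]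
    [Module.Flat R S] (I : Ideal R) : IsBaseChange S (Algebra.idealMap I (S := S)) := by
  let f : S ⊗[R] I →ₗ[S] S :=
    (AlgebraTensorModule.rid _ _ _).toLinearMap ∘ₗ AlgebraTensorModule.lTensor S S I.subtype
  have hf : Function.Injective f := by
    simp only [f, LinearMap.coe_comp, LinearEquiv.coe_coe, EmbeddingLike.comp_injective]
    exact Module.Flat.lTensor_preserves_injective_linearMap (M := S) I.subtype
      I.injective_subtype
  have : I.map (algebraMap R S) = LinearMap.range f := by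
    refine le_antisymm ?_ ?_
    · rw [Ideal.map_le_iff_le_comap]
      intro x hx
      use 1 ⊗ₜ ⟨x, hx⟩
      simp [f, Algebra.smul_def]
    · rintro - ⟨x, rfl⟩
      induction x with
      | zero => simp
      | add _ _ _ _ => simp_all [Ideal.add_mem]
      | tmul s x =>
        have : f (s ⊗ₜ[R] x) = s • f (1 ⊗ₜ x) := by simp [f]
        rw [this]
        apply Ideal.mul_mem_left
        simpa [f, Algebra.smul_def] using Ideal.mem_map_of_mem _ x.2
  let e : S ⊗[R] I ≃ₗ[S] I.map (algebraMap R S) := .ofInjective _ hf ≪≫ₗ .ofEq _ _ this.symm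
  apply IsBaseChange.of_equiv e
  intro x
  apply Subtype.ext
  simp [e, f, Algebra.smul_def]

theorem isBaseChange_toCotangent {R : Type*} [CommRing R] (I : Ideal R) :
    IsBaseChange (R ⧸ I) I.toCotangent := by
  let e₀ : (R ⧸ I) ⊗[R] I ≃ₗ[R] I.Cotangent := TensorProduct.quotTensorEquivQuotSMul I I
  let e : (R ⧸ I) ⊗[R] I ≃ₗ[R ⧸ I] I.Cotangent :=
    e₀.extendScalarsOfSurjective Ideal.Quotient.mk_surjective
  apply IsBaseChange.of_equiv e
  intro x
  change e₀ (1 ⊗ₜ x) = _
  exact TensorProduct.quotTensorEquivQuotSMul_mk_one_tmul I x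

variable {R R' : Type*} [CommRing R] [CommRing R'] [Algebra R R'] (J : Ideal R)

/-- the `R ⧸ J`-module structure on the conormal module of the extended ideal -/
@[reducible] noncomputable def modQuot : Module (R ⧸ J) (J.map (algebraMap R R')).Cotangent :=
  Module.compHom _ (algebraMap (R ⧸ J) (R' ⧸ J.map (algebraMap R R')))

instance towerRQ : IsScalarTower R (R' ⧸ J.map (algebraMap R R'))
    (J.map (algebraMap R R')).Cotangent :=
  IsScalarTower.of_algebraMap_smul fun r n => by
    rw [IsScalarTower.algebraMap_apply R R' (R' ⧸ J.map (algebraMap R R')), algebraMap_smul,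
      algebraMap_smul]

theorem cotangent_baseChange [Module.Flat R R'] :
    Nonempty ((R' ⧸ J.map (algebraMap R R')) ⊗[R ⧸ J] J.Cotangent
      ≃ₗ[R' ⧸ J.map (algebraMap R R')] (J.map (algebraMap R R')).Cotangent) ∧
    ∀ μ : J.Cotangent →ₗ[R ⧸ J] R ⧸ J,
      ∃ ν : (J.map (algebraMap R R')).Cotangent →ₗ[R' ⧸ J.map (algebraMap R R')]
          R' ⧸ J.map (algebraMap R R'),
        ∀ y : J, ν ((J.map (algebraMap R R')).toCotangent
          ⟨algebraMap R R' y, Ideal.mem_map_of_mem _ y.2⟩) =
          algebraMap (R ⧸ J) (R' ⧸ J.map (algebraMap R R')) (μ (J.toCotangent y)) := by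
  letI := modQuot (R' := R') J
  haveI t1 : IsScalarTower (R ⧸ J) (R' ⧸ J.map (algebraMap R R'))
      (J.map (algebraMap R R')).Cotangent :=
    IsScalarTower.of_algebraMap_smul fun r n => rfl
  haveI t2 : IsScalarTower R (R ⧸ J) (J.map (algebraMap R R')).Cotangent :=
    IsScalarTower.of_algebraMap_smul fun r n => by
      change algebraMap (R ⧸ J) (R' ⧸ J.map (algebraMap R R')) (algebraMap R (R ⧸ J) r) • n = r • n
      rw [← IsScalarTower.algebraMap_apply R (R ⧸ J) (R' ⧸ J.map (algebraMap R R')), algebraMap_smul]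
  let h₀ : J.Cotangent →ₗ[R] (J.map (algebraMap R R')).Cotangent :=
    Ideal.mapCotangent J (J.map (algebraMap R R')) (Algebra.ofId R R') Ideal.le_comap_map
  let h : J.Cotangent →ₗ[R ⧸ J] (J.map (algebraMap R R')).Cotangent :=
    h₀.extendScalarsOfSurjective Ideal.Quotient.mk_surjective
  have hy : ∀ y : J, h (J.toCotangent y) = (J.map (algebraMap R R')).toCotangent
      ⟨algebraMap R R' y, Ideal.mem_map_of_mem _ y.2⟩ := fun y => rfl
  have hc : IsBaseChange (R' ⧸ J.map (algebraMap R R'))
      ((h.restrictScalars R) ∘ₗ J.toCotangent) := by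
    have := (isBaseChange_idealMap (S := R') J).comp
      (isBaseChange_toCotangent (J.map (algebraMap R R')))
    convert this using 1
    ext y
    exact hy y
  have hB : IsBaseChange (R' ⧸ J.map (algebraMap R R')) h :=
    IsBaseChange.of_comp (isBaseChange_toCotangent J) hc
  refine ⟨⟨hB.equiv⟩, fun μ => ?_⟩
  refine ⟨hB.lift ((Algebra.linearMap (R ⧸ J) (R' ⧸ J.map (algebraMap R R'))) ∘ₗ μ), fun y => ?_⟩
  rw [← hy y, hB.lift_eq]
  rfl

theorem faithfullyFlat_quotient [Module.FaithfullyFlat R R'] :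
    Module.FaithfullyFlat (R ⧸ J) (R' ⧸ J.map (algebraMap R R')) := by
  let e₀ : (R' ⧸ J.map (algebraMap R R')) ≃ₗ[R] (R ⧸ J) ⊗[R] R' :=
    ((Ideal.qoutMapEquivTensorQout R' (I := J)).restrictScalars R) ≪≫ₗ TensorProduct.comm R R' (R ⧸ J)
  let e : (R' ⧸ J.map (algebraMap R R')) ≃ₗ[R ⧸ J] (R ⧸ J) ⊗[R] R' :=
    e₀.extendScalarsOfSurjective Ideal.Quotient.mk_surjective
  exact Module.FaithfullyFlat.of_linearEquiv (R := R ⧸ J) (M := (R ⧸ J) ⊗[R] R') e


end Groth.Agent.Lib.Helper19.CotBC
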