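import Groth.Agent.Lib.Helper13KzLiftG

set_option autoImplicit false

namespace Groth.Agent.Helper13KzLift
open CategoryTheory CochainComplex MonoidalCategory CohIII Pointwise
open Groth.Agent.Lib.Helper21 Groth.Agent.Helper13Kz
open scoped TensorProduct

universe u

section tens
variable {B : Type u} [CommRing B] (F : ModuleCat.{u} B)

/-- Koszul complexes commute with tensoring the coefficient module -/
noncomputable def tensIso (M : ModuleCat.{u} B) : ∀ l : List B,
    ((tensorRight F).mapHomologicalComplex (ComplexShape.up ℤ)).obj (koszulCx M l) ≅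
      koszulCx (M ⊗ F) l
  | [] => (HomologicalComplex.singleMapHomologicalComplex (tensorRight F)
      (ComplexShape.up ℤ) 0).app M
  | f :: l =>
      (mappingCone.mapHomologicalComplexIso (f • 𝟙 (koszulCx M l)) (tensorRight F)) ≪≫
      (eqToIso (by rw [map_smul_id]; rfl)) ≪≫ coneIso (tensIso M l) f

theorem isZero_homology_tensor_flat [Module.Flat B F] (M : ModuleCat.{u} B) (l : List B) (i : ℤ)
    (h : Limits.IsZero ((koszulCx M l).homology i)) :
    Limits.IsZero ((koszulCx (M ⊗ F) l).homology i) := by
  rw [← HomologicalComplex.exactAt_iff_isZero_homology] at h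
  have h1 : (((tensorRight F).mapHomologicalComplex (ComplexShape.up ℤ)).obj
      (koszulCx M l)).ExactAt i := by
    have := Module.Flat.rTensor_shortComplex_exact (M := F) _ h
    exact this
  rw [HomologicalComplex.exactAt_iff_isZero_homology] at h1
  exact Limits.IsZero.of_iso h1
    ((HomologicalComplex.homologyFunctor _ _ i).mapIso (tensIso F M l)).symm

theorem subsingleton_KH_tensor_flat (M N : Type u) [AddCommGroup M] [Module B M]
    [AddCommGroup N] [Module B N] [Module.Flat B N] (l : List B) (i : ℤ)
    (h : Subsingleton (KH l M i)) : Subsingleton (KH l (M ⊗[B] N) i) := by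
  have h1 := isZero_homology_tensor_flat (ModuleCat.of B N) (ModuleCat.of B M) l i
    (ModuleCat.isZero_of_subsingleton _)
  exact ModuleCat.subsingleton_of_isZero h1

end tens


section finsupp
variable {A' : Type u} {R' : Type u} [CommRing A'] [CommRing R'] [Algebra A' R'] {l' : List R'}

open Classical in
theorem AcycAt.finsupp {i : ℤ} (N : Type u) [AddCommGroup N] [Module A' N] (ι : Type u)
    (h : AcycAt A' l' i N) : AcycAt A' l' i (ι →₀ N) := by
  have h1 : Subsingleton (KH l' ((R' ⊗[A'] N) ⊗[R'] (ι →₀ R')) i) :=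
    subsingleton_KH_tensor_flat (R' ⊗[A'] N) (ι →₀ R') l' i h
  have e : ((R' ⊗[A'] N) ⊗[R'] (ι →₀ R')) ≃ₗ[R'] R' ⊗[A'] (ι →₀ N) :=
    (TensorProduct.finsuppScalarRight R' R' (R' ⊗[A'] N) ι) ≪≫ₗ
      (TensorProduct.finsuppRight A' R' R' N ι).symm
  exact subsingleton_KH_of_equiv l' e i h1

end finsupp

end Groth.Agent.Helper13KzLift
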