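import Mathlib
import Groth.Prelude.Def_CAlgX
import Groth.Agent.Lib.Helper13GenFlat

/-!
# Base change of a quasi-regular sequence with flat quotient (helper5)

`A → B`, `f : Fin r → B` quasi-regular with `B/(f)` flat over `A`: then `1 ⊗ f` is quasi-regular
in `A' ⊗[A] B` for every `A`-algebra `A'`.  The proof: `J^n/J^(n+1)` is free over `B/J` on the
monomials of degree `n`, so all `B/J^n` are `A`-flat and the injection
`(B/J)^(monomials) → B/J^(n+1)` stays injective after tensoring with `A'`.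
-/

set_option autoImplicit false
universe u

open TensorProduct

namespace Groth.Agent.Lib.Helper5.QuasiRegBC

section Basic

variable {B : Type u} [CommRing B] {r : ℕ} (f : Fin r → B)

/-- the monomial `f^d` -/
noncomputable def mon (d : Fin r →₀ ℕ) : B := d.prod fun i k => f i ^ k

lemma mon_zero : mon f 0 = 1 := by simp [mon]

lemma mon_add_single (d : Fin r →₀ ℕ) (i : Fin r) :
    mon f (d + Finsupp.single i 1) = mon f d * f i := by
  unfold mon
  rw [Finsupp.prod_add_index' (fun a => pow_zero _) (fun a b c => pow_add _ _ _)]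
  congr 1
  rw [Finsupp.prod_single_index (h := fun a k => f a ^ k) (pow_zero _)]
  exact pow_one _

/-- the ideal of the sequence -/
abbrev JJ : Ideal B := Ideal.span (Set.range f)

lemma mon_mem (d : Fin r →₀ ℕ) : mon f d ∈ JJ f ^ d.degree := by
  unfold mon Finsupp.prod
  rw [Finsupp.degree_apply, ← Finset.prod_pow_eq_pow_sum]
  exact Ideal.prod_mem_prod fun i _ => Ideal.pow_mem_pow (Ideal.subset_span (Set.mem_range_self i)) _

/-- exponents of degree `n` -/
abbrev D (r n : ℕ) : Type := {d : Fin r →₀ ℕ // d.degree = n}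

/-- `b ↦ Σ b_d f^d` -/
noncomputable def Phi (n : ℕ) : (D r n →₀ B) →ₗ[B] B :=
  Finsupp.linearCombination B fun d : D r n => mon f d.1

lemma Phi_single (n : ℕ) (d : D r n) (a : B) :
    Phi f n (Finsupp.single d a) = a * mon f d.1 := by
  simp [Phi, Finsupp.linearCombination_single]

lemma range_Phi_le (n : ℕ) : LinearMap.range (Phi f n) ≤ JJ f ^ n := by
  rw [Phi, Finsupp.range_linearCombination, Submodule.span_le]
  rintro _ ⟨d, rfl⟩
  have := mon_mem f d.1
  rwa [d.2] at this

lemma pow_le_range_Phi : ∀ n : ℕ, JJ f ^ n ≤ LinearMap.range (Phi f n)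
  | 0 => by
    intro x _
    exact ⟨Finsupp.single ⟨0, by simp⟩ x, by rw [Phi_single, mon_zero, mul_one]⟩
  | n + 1 => by
    rw [pow_succ, Ideal.mul_le]
    intro y hy j hj
    obtain ⟨b, rfl⟩ := pow_le_range_Phi n hy
    have hstep : ∀ i : Fin r, ∀ b : D r n →₀ B,
        Phi f n b * f i ∈ LinearMap.range (Phi f (n + 1)) := by
      intro i b
      induction b using Finsupp.induction_linear with
      | zero => simp
      | add b₁ b₂ h₁ h₂ => rw [map_add, add_mul]; exact Submodule.add_mem _ h₁ h₂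
      | single d a =>
        refine ⟨Finsupp.single ⟨d.1 + Finsupp.single i 1, ?_⟩ a, ?_⟩
        · rw [map_add, Finsupp.degree_single, d.2]
        · rw [Phi_single, Phi_single, mon_add_single, mul_assoc]
    refine Submodule.span_induction
      (p := fun j _ => Phi f n b * j ∈ LinearMap.range (Phi f (n + 1))) ?_ ?_ ?_ ?_ hj
    · rintro _ ⟨i, rfl⟩; exact hstep i b
    · simp
    · intro x y _ _ hx hy; rw [mul_add]; exact Submodule.add_mem _ hx hy
    · intro c x _ hx
      rw [smul_eq_mul, mul_left_comm]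
      exact Submodule.smul_mem _ c hx

lemma mem_of_Phi_mem (hq : CAlgX.IsQuasiRegular f) (n : ℕ) (b : D r n →₀ B)
    (h : Phi f n b ∈ JJ f ^ (n + 1)) (d : D r n) : b d ∈ JJ f := by
  classical
  let P : MvPolynomial (Fin r) B := ∑ e ∈ b.support, MvPolynomial.monomial e.1 (b e)
  have hP : P.IsHomogeneous n :=
    MvPolynomial.IsHomogeneous.sum _ _ _ fun e _ => MvPolynomial.isHomogeneous_monomial _ e.2
  have heval : MvPolynomial.eval f P = Phi f n b := by
    simp only [P, map_sum, MvPolynomial.eval_monomial, Phi, Finsupp.linearCombination_apply,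
      Finsupp.sum, smul_eq_mul, mon]
  have hcoeff : MvPolynomial.coeff d.1 P = b d := by
    simp only [P, MvPolynomial.coeff_sum, MvPolynomial.coeff_monomial]
    rw [Finset.sum_eq_single d]
    · simp
    · intro e _ hne
      rw [if_neg]
      intro h
      exact hne (Subtype.ext h)
    · intro hd
      rw [Finsupp.notMem_support_iff.mp hd]
      simp
  rw [← hcoeff]
  exact hq n P hP (by rw [heval]; exact h) d.1

end Basic

section Tensor

variable {A B A' : Type u} [CommRing A] [CommRing B] [CommRing A'] [Algebra A B] [Algebra A A']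

/-- the `A`-linear quotient map -/
noncomputable abbrev qmap (I : Ideal B) : B →ₗ[A] B ⧸ I := (Ideal.Quotient.mkₐ A I).toLinearMap

lemma lTensor_qmap_eq (I : Ideal B) (c : A' ⊗[A] B) :
    (Algebra.TensorProduct.tensorQuotientEquiv (R := A) A' B A' I).symm
      (Ideal.Quotient.mk _ c) = (qmap (A := A) I).lTensor A' c := by
  induction c using TensorProduct.induction_on with
  | zero => simp
  | tmul a b => rfl
  | add x y hx hy => rw [map_add, map_add, map_add, hx, hy]

lemma lTensor_qmap_eq_zero_iff (I : Ideal B) (c : A' ⊗[A] B) :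
    (qmap (A := A) I).lTensor A' c = 0 ↔
      c ∈ I.map (Algebra.TensorProduct.includeRight : B →ₐ[A] A' ⊗[A] B) := by
  rw [← lTensor_qmap_eq, EmbeddingLike.map_eq_zero_iff, Ideal.Quotient.eq_zero_iff_mem]

lemma lTensor_mulRight (m : B) (c : A' ⊗[A] B) :
    (LinearMap.mulRight A m).lTensor A' c = c * ((1 : A') ⊗ₜ[A] m) := by
  induction c using TensorProduct.induction_on with
  | zero => simp
  | tmul a b =>
    rw [LinearMap.lTensor_tmul, LinearMap.mulRight_apply, Algebra.TensorProduct.tmul_mul_tmul,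
      mul_one]
  | add x y hx hy => rw [map_add, add_mul, hx, hy]

lemma exists_factor {M N P : Type*} [AddCommGroup M] [AddCommGroup N] [AddCommGroup P]
    [Module A M] [Module A N] [Module A P] (ρ : M →ₗ[A] N) (hρ : Function.Surjective ρ)
    (φ : M →ₗ[A] P) (h : LinearMap.ker ρ ≤ LinearMap.ker φ) :
    ∃ ψ : N →ₗ[A] P, ∀ m, ψ (ρ m) = φ m := by
  refine ⟨(LinearMap.ker ρ).liftQ φ h ∘ₗ (ρ.quotKerEquivOfSurjective hρ).symm.toLinearMap,
    fun m => ?_⟩
  have h1 : (ρ.quotKerEquivOfSurjective hρ).symm (ρ m) = Submodule.Quotient.mk m := by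
    rw [LinearEquiv.symm_apply_eq]
    rfl
  rw [LinearMap.comp_apply, LinearEquiv.coe_coe, h1, Submodule.liftQ_apply]

variable {r : ℕ} (f : Fin r → B)

/-- `b ↦ Σ b_d f^d` modulo `J^(n+1)`, as an `A`-linear map -/
noncomputable def PhiBar (n : ℕ) : (D r n →₀ B) →ₗ[A] B ⧸ JJ f ^ (n + 1) :=
  qmap (A := A) (JJ f ^ (n + 1)) ∘ₗ (Phi f n).restrictScalars A

lemma PhiBar_apply (n : ℕ) (b : D r n →₀ B) :
    PhiBar (A := A) f n b = Ideal.Quotient.mk _ (Phi f n b) := rfl

/-- coefficientwise reduction modulo `J` -/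
noncomputable def rho (n : ℕ) : (D r n →₀ B) →ₗ[A] (D r n →₀ B ⧸ JJ f) :=
  Finsupp.mapRange.linearMap (qmap (A := A) (JJ f))

lemma rho_apply (n : ℕ) (b : D r n →₀ B) (d : D r n) :
    rho (A := A) f n b d = Ideal.Quotient.mk _ (b d) := rfl

lemma rho_surjective (n : ℕ) : Function.Surjective (rho (A := A) f n) := by
  intro c
  obtain ⟨b, hb⟩ := Finsupp.mapRange_surjective (Ideal.Quotient.mk (JJ f)) (map_zero _)
    Ideal.Quotient.mk_surjective c
  refine ⟨b, ?_⟩
  ext d
  rw [← hb, rho_apply, Finsupp.mapRange_apply]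

lemma rho_eq_zero_iff (n : ℕ) (b : D r n →₀ B) :
    rho (A := A) f n b = 0 ↔ ∀ d, b d ∈ JJ f := by
  constructor
  · intro h d
    have := DFunLike.congr_fun h d
    rwa [rho_apply, Finsupp.zero_apply, Ideal.Quotient.eq_zero_iff_mem] at this
  · intro h
    ext d
    rw [rho_apply, Finsupp.zero_apply, Ideal.Quotient.eq_zero_iff_mem]
    exact h d

lemma Phi_mem_of_forall_mem (n : ℕ) (b : D r n →₀ B) (h : ∀ d, b d ∈ JJ f) :
    Phi f n b ∈ JJ f ^ (n + 1) := by
  rw [Phi, Finsupp.linearCombination_apply, Finsupp.sum]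
  refine Ideal.sum_mem _ fun d _ => ?_
  rw [smul_eq_mul, pow_succ']
  refine Ideal.mul_mem_mul (h d) ?_
  have := mon_mem f d.1
  rwa [d.2] at this

theorem exists_Psi (hq : CAlgX.IsQuasiRegular f) (n : ℕ) :
    ∃ Ψ : (D r n →₀ B ⧸ JJ f) →ₗ[A] B ⧸ JJ f ^ (n + 1),
      (∀ b, Ψ (rho (A := A) f n b) = PhiBar (A := A) f n b) ∧ Function.Injective Ψ ∧
      Function.Exact Ψ (Ideal.Quotient.factorₐ A
        (Ideal.pow_le_pow_right (Nat.le_succ n) : JJ f ^ (n + 1) ≤ JJ f ^ n)).toLinearMap := by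
  have h1 : LinearMap.ker (rho (A := A) f n) ≤ LinearMap.ker (PhiBar (A := A) f n) := by
    intro b hb
    rw [LinearMap.mem_ker] at hb ⊢
    rw [PhiBar_apply, Ideal.Quotient.eq_zero_iff_mem]
    exact Phi_mem_of_forall_mem f n b ((rho_eq_zero_iff f n b).mp hb)
  obtain ⟨Ψ, hΨ⟩ := exists_factor _ (rho_surjective (A := A) f n) _ h1
  refine ⟨Ψ, hΨ, ?_, ?_⟩
  · rw [injective_iff_map_eq_zero]
    intro c hc
    obtain ⟨b, rfl⟩ := rho_surjective (A := A) f n c
    rw [hΨ, PhiBar_apply, Ideal.Quotient.eq_zero_iff_mem] at hc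
    exact (rho_eq_zero_iff f n b).mpr (mem_of_Phi_mem f hq n b hc)
  · intro y
    obtain ⟨x, rfl⟩ := Ideal.Quotient.mk_surjective y
    constructor
    · intro h
      have hx : x ∈ JJ f ^ n := by
        rw [← Ideal.Quotient.eq_zero_iff_mem]
        exact h
      obtain ⟨b, hb⟩ := pow_le_range_Phi f n hx
      refine ⟨rho (A := A) f n b, ?_⟩
      rw [hΨ, PhiBar_apply, hb]
    · rintro ⟨c, hc⟩
      obtain ⟨b, rfl⟩ := rho_surjective (A := A) f n c
      rw [hΨ, PhiBar_apply] at hc
      rw [← hc]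
      show Ideal.Quotient.mk (JJ f ^ n) (Phi f n b) = 0
      rw [Ideal.Quotient.eq_zero_iff_mem]
      exact range_Phi_le f n ⟨b, rfl⟩

theorem flat_quot_pow (hq : CAlgX.IsQuasiRegular f) [Module.Flat A (B ⧸ JJ f)] :
    ∀ n : ℕ, Module.Flat A (B ⧸ JJ f ^ n)
  | 0 => by
    haveI : Subsingleton (B ⧸ JJ f ^ 0) := by
      rw [pow_zero, Ideal.one_eq_top]
      exact Ideal.Quotient.subsingleton_iff.mpr rfl
    haveI := Module.Free.of_subsingleton A (B ⧸ JJ f ^ 0)
    infer_instance
  | n + 1 => by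
    classical
    haveI := flat_quot_pow hq n
    haveI : Module.Flat A (D r n →₀ B ⧸ JJ f) :=
      Module.Flat.of_linearEquiv (finsuppLEquivDirectSum A (B ⧸ JJ f) (D r n))
    obtain ⟨Ψ, -, hinj, hex⟩ := exists_Psi (A := A) f hq n
    exact Groth.Agent.Helper13GenFlat.flat_of_exact Ψ _ hinj
      (Ideal.Quotient.factor_surjective
        (Ideal.pow_le_pow_right (Nat.le_succ n) : JJ f ^ (n + 1) ≤ JJ f ^ n)) hex

set_option maxHeartbeats 800000 in
/-- **Base change of a quasi-regular sequence with flat quotient.** -/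
theorem isQuasiRegular_baseChange (hflat : Module.Flat A (B ⧸ Ideal.span (Set.range f)))
    (hq : CAlgX.IsQuasiRegular f) :
    CAlgX.IsQuasiRegular (fun i => ((1 : A') ⊗ₜ[A] f i : A' ⊗[A] B)) := by
  classical
  intro n P hP hmem d
  have hJ' : Ideal.span (Set.range fun i => ((1 : A') ⊗ₜ[A] f i : A' ⊗[A] B)) =
      (JJ f).map (Algebra.TensorProduct.includeRight : B →ₐ[A] A' ⊗[A] B) := by
    rw [JJ, Ideal.map_span, ← Set.range_comp]
    rfl
  rw [hJ'] at hmem ⊢
  by_cases hd : d.degree = n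
  swap
  · rw [hP.coeff_eq_zero hd]
    exact Submodule.zero_mem _
  haveI : Module.Flat A (B ⧸ JJ f) := hflat
  haveI := flat_quot_pow (A := A) f hq n
  obtain ⟨Ψ, hΨ, hinj, hex⟩ := exists_Psi (A := A) f hq n
  have hinj' : Function.Injective (Ψ.lTensor A') :=
    LinearMap.lTensor_injective_of_exact_of_flat _ (Ideal.Quotient.factor_surjective
      (Ideal.pow_le_pow_right (Nat.le_succ n) : JJ f ^ (n + 1) ≤ JJ f ^ n)) Ψ hinj hex A'
  let ι : (Fin r →₀ ℕ) → ((B ⧸ JJ f) →ₗ[A] (D r n →₀ B ⧸ JJ f)) := fun e =>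
    if h : e.degree = n then Finsupp.lsingle ⟨e, h⟩ else 0
  let x : A' ⊗[A] (D r n →₀ B ⧸ JJ f) :=
    ∑ e ∈ P.support, ((ι e) ∘ₗ qmap (A := A) (JJ f)).lTensor A' (MvPolynomial.coeff e P)
  have hdeg : ∀ e ∈ P.support, e.degree = n := by
    intro e he
    by_contra hne
    exact (MvPolynomial.mem_support_iff.mp he) (hP.coeff_eq_zero hne)
  have hcomp : ∀ e ∈ P.support, Ψ ∘ₗ (ι e) ∘ₗ qmap (A := A) (JJ f) =
      qmap (A := A) (JJ f ^ (n + 1)) ∘ₗ LinearMap.mulRight A (mon f e) := by
    intro e he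
    ext b
    simp only [LinearMap.comp_apply, ι, dif_pos (hdeg e he), Finsupp.lsingle_apply]
    have h2 : Finsupp.single (⟨e, hdeg e he⟩ : D r n) (qmap (A := A) (JJ f) b) =
        rho (A := A) f n (Finsupp.single ⟨e, hdeg e he⟩ b) := by
      rw [rho, Finsupp.mapRange.linearMap_apply, Finsupp.mapRange_single]
    rw [h2, hΨ, PhiBar_apply, Phi_single, LinearMap.mulRight_apply]
    rfl
  have hx : Ψ.lTensor A' x = 0 := by
    simp only [x, map_sum]
    have h3 : ∀ e ∈ P.support, Ψ.lTensor A'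
        (((ι e) ∘ₗ qmap (A := A) (JJ f)).lTensor A' (MvPolynomial.coeff e P)) =
        (qmap (A := A) (JJ f ^ (n + 1))).lTensor A'
          (MvPolynomial.coeff e P * ((1 : A') ⊗ₜ[A] mon f e)) := by
      intro e he
      rw [← LinearMap.lTensor_comp_apply, hcomp e he, LinearMap.lTensor_comp_apply,
        lTensor_mulRight]
    rw [Finset.sum_congr rfl h3, ← map_sum, lTensor_qmap_eq_zero_iff, Ideal.map_pow]
    convert hmem using 1
    rw [MvPolynomial.eval_eq]
    refine Finset.sum_congr rfl fun e _ => ?_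
    congr 1
    simp only [mon, Finsupp.prod]
    rw [← Algebra.TensorProduct.includeRight_apply, map_prod]
    simp [map_pow]
  have hx0 : x = 0 := hinj' (by rw [hx, map_zero])
  have hproj : ((Finsupp.lapply (⟨d, hd⟩ : D r n) :
      (D r n →₀ B ⧸ JJ f) →ₗ[A] _).lTensor A') x =
      (qmap (A := A) (JJ f)).lTensor A' (MvPolynomial.coeff d P) := by
    simp only [x, map_sum]
    have h4 : ∀ e ∈ P.support, (Finsupp.lapply (⟨d, hd⟩ : D r n) :
        (D r n →₀ B ⧸ JJ f) →ₗ[A] _).lTensor A'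
        (((ι e) ∘ₗ qmap (A := A) (JJ f)).lTensor A' (MvPolynomial.coeff e P)) =
        if e = d then (qmap (A := A) (JJ f)).lTensor A' (MvPolynomial.coeff d P) else 0 := by
      intro e he
      rw [← LinearMap.lTensor_comp_apply]
      split_ifs with hed
      · subst hed
        congr 2
        ext b
        simp [ι, dif_pos hd]
      · have h5 : (Finsupp.lapply (⟨d, hd⟩ : D r n) : (D r n →₀ B ⧸ JJ f) →ₗ[A] _) ∘ₗ
            (ι e) ∘ₗ qmap (A := A) (JJ f) = 0 := by
          ext b
          simp only [ι, dif_pos (hdeg e he), LinearMap.comp_apply, Finsupp.lsingle_apply,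
            Finsupp.lapply_apply, LinearMap.zero_apply]
          rw [Finsupp.single_apply, if_neg]
          intro h
          exact hed (congrArg Subtype.val h)
        rw [h5, LinearMap.lTensor_zero, LinearMap.zero_apply]
    rw [Finset.sum_congr rfl h4, Finset.sum_ite_eq']
    split_ifs with hmem'
    · rfl
    · rw [MvPolynomial.notMem_support_iff.mp hmem', map_zero]
  rw [hx0, map_zero] at hproj
  exact (lTensor_qmap_eq_zero_iff (JJ f) _).mp hproj.symm

end Tensor

end Groth.Agent.Lib.Helper5.QuasiRegBC
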