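import Mathlib
import Groth.Prelude.Def_RegImm
import Groth.Agent.Lib.Helper5QuasiRegBC
import Groth.Agent.S9273

/-!
# Flat base change and flat-quotient base change of `H_1`-regular and quasi-regular sequences
(helper5)

* `isQuasiRegular_baseChange_of_injective`: the base change criterion behind both cases.
* `isQuasiRegular_map_of_flat`, `isH1Regular_map_of_flat`: images under a flat ring map.
* `seq_map_of_flat`, `seq_map_of_isPushout`: the list forms (`RegImm.Kind.Seq`, kinds h1 and quasi)
  for a flat ring map, and for the pushout of `R' ← R → A` when `A/(rs)` is `R`-flat.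
* `ker_eq_map_of_isPushout`: in a pushout square of commutative rings with one leg surjective the
  kernel of the opposite leg is the extension of the kernel.
-/

set_option autoImplicit false
set_option linter.style.haveILetI false
universe u

open TensorProduct CategoryTheory CategoryTheory.Limits

namespace Groth.Agent.Lib.Helper5.QuasiRegFlat

open Groth.Agent.Lib.Helper5.QuasiRegBC

section Tensor

variable {A B A' : Type u} [CommRing A] [CommRing B] [CommRing A'] [Algebra A B] [Algebra A A']
variable {r : ℕ} (f : Fin r → B)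

set_option maxHeartbeats 800000 in
/-- base change of a quasi-regular sequence, as soon as tensoring with `A'` keeps the maps
`(B/J)^(monomials of degree n) → B/J^(n+1)` injective. -/
theorem isQuasiRegular_baseChange_of_injective (hq : CAlgX.IsQuasiRegular f)
    (hT : ∀ (n : ℕ) (Ψ : (D r n →₀ B ⧸ JJ f) →ₗ[A] B ⧸ JJ f ^ (n + 1)),
      Function.Injective Ψ → Function.Injective (Ψ.lTensor A')) :
    CAlgX.IsQuasiRegular (fun i => ((1 : A') ⊗ₜ[A] f i : A' ⊗[A] B)) := by
  classical
  intro n P hP hmem d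
  have hJ' : Ideal.span (Set.range fun i => ((1 : A') ⊗ₜ[A] f i : A' ⊗[A] B)) =
      (JJ f).map (Algebra.TensorProduct.includeRight : B →ₐ[A] A' ⊗[A] B) := by
    rw [JJ, Ideal.map_span, ← Set.range_comp]
    rfl
  rw [hJ'] at hmem ⊢
  by_cases hd : d.degree = n
  swap
  · rw [hP.coeff_eq_zero hd]
    exact Submodule.zero_mem _
  obtain ⟨Ψ, hΨ, hinj, hex⟩ := exists_Psi (A := A) f hq n
  have hinj' : Function.Injective (Ψ.lTensor A') := hT n Ψ hinj
  let ι : (Fin r →₀ ℕ) → ((B ⧸ JJ f) →ₗ[A] (D r n →₀ B ⧸ JJ f)) := fun e =>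
    if h : e.degree = n then Finsupp.lsingle ⟨e, h⟩ else 0
  let x : A' ⊗[A] (D r n →₀ B ⧸ JJ f) :=
    ∑ e ∈ P.support, ((ι e) ∘ₗ qmap (A := A) (JJ f)).lTensor A' (MvPolynomial.coeff e P)
  have hdeg : ∀ e ∈ P.support, e.degree = n := by
    intro e he
    by_contra hne
    exact (MvPolynomial.mem_support_iff.mp he) (hP.coeff_eq_zero hne)
  have hcomp : ∀ e ∈ P.support, Ψ ∘ₗ (ι e) ∘ₗ qmap (A := A) (JJ f) =
      qmap (A := A) (JJ f ^ (n + 1)) ∘ₗ LinearMap.mulRight A (mon f e) := by
    intro e he
    ext b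
    simp only [LinearMap.comp_apply, ι, dif_pos (hdeg e he), Finsupp.lsingle_apply]
    have h2 : Finsupp.single (⟨e, hdeg e he⟩ : D r n) (qmap (A := A) (JJ f) b) =
        rho (A := A) f n (Finsupp.single ⟨e, hdeg e he⟩ b) := by
      rw [rho, Finsupp.mapRange.linearMap_apply, Finsupp.mapRange_single]
    rw [h2, hΨ, PhiBar_apply, Phi_single, LinearMap.mulRight_apply]
    rfl
  have hx : Ψ.lTensor A' x = 0 := by
    simp only [x, map_sum]
    have h3 : ∀ e ∈ P.support, Ψ.lTensor A'
        (((ι e) ∘ₗ qmap (A := A) (JJ f)).lTensor A' (MvPolynomial.coeff e P)) =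
        (qmap (A := A) (JJ f ^ (n + 1))).lTensor A'
          (MvPolynomial.coeff e P * ((1 : A') ⊗ₜ[A] mon f e)) := by
      intro e he
      rw [← LinearMap.lTensor_comp_apply, hcomp e he, LinearMap.lTensor_comp_apply,
        lTensor_mulRight]
    rw [Finset.sum_congr rfl h3, ← map_sum, lTensor_qmap_eq_zero_iff, Ideal.map_pow]
    convert hmem using 1
    rw [MvPolynomial.eval_eq]
    refine Finset.sum_congr rfl fun e _ => ?_
    congr 1
    simp only [mon, Finsupp.prod]
    rw [← Algebra.TensorProduct.includeRight_apply, map_prod]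
    simp [map_pow]
  have hx0 : x = 0 := hinj' (by rw [hx, map_zero])
  have hproj : ((Finsupp.lapply (⟨d, hd⟩ : D r n) :
      (D r n →₀ B ⧸ JJ f) →ₗ[A] _).lTensor A') x =
      (qmap (A := A) (JJ f)).lTensor A' (MvPolynomial.coeff d P) := by
    simp only [x, map_sum]
    have h4 : ∀ e ∈ P.support, (Finsupp.lapply (⟨d, hd⟩ : D r n) :
        (D r n →₀ B ⧸ JJ f) →ₗ[A] _).lTensor A'
        (((ι e) ∘ₗ qmap (A := A) (JJ f)).lTensor A' (MvPolynomial.coeff e P)) =
        if e = d then (qmap (A := A) (JJ f)).lTensor A' (MvPolynomial.coeff d P) else 0 := by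
      intro e he
      rw [← LinearMap.lTensor_comp_apply]
      split_ifs with hed
      · subst hed
        congr 2
        ext b
        simp [ι, dif_pos hd]
      · have h5 : (Finsupp.lapply (⟨d, hd⟩ : D r n) : (D r n →₀ B ⧸ JJ f) →ₗ[A] _) ∘ₗ
            (ι e) ∘ₗ qmap (A := A) (JJ f) = 0 := by
          ext b
          simp only [ι, dif_pos (hdeg e he), LinearMap.comp_apply, Finsupp.lsingle_apply,
            Finsupp.lapply_apply, LinearMap.zero_apply]
          rw [Finsupp.single_apply, if_neg]
          intro h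
          exact hed (congrArg Subtype.val h)
        rw [h5, LinearMap.lTensor_zero, LinearMap.zero_apply]
    rw [Finset.sum_congr rfl h4, Finset.sum_ite_eq']
    split_ifs with hmem'
    · rfl
    · rw [MvPolynomial.notMem_support_iff.mp hmem', map_zero]
  rw [hx0, map_zero] at hproj
  exact (lTensor_qmap_eq_zero_iff (JJ f) _).mp hproj.symm

theorem isQuasiRegular_baseChange_of_flat [Module.Flat A A'] (hq : CAlgX.IsQuasiRegular f) :
    CAlgX.IsQuasiRegular (fun i => ((1 : A') ⊗ₜ[A] f i : A' ⊗[A] B)) :=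
  isQuasiRegular_baseChange_of_injective f hq fun _ Ψ h =>
    Module.Flat.lTensor_preserves_injective_linearMap Ψ h

end Tensor

section Maps

variable {R R' : Type u} [CommRing R] [CommRing R']

theorem isQuasiRegular_map_ringEquiv (e : R ≃+* R') {c : ℕ} (f : Fin c → R)
    (h : CAlgX.IsQuasiRegular f) : CAlgX.IsQuasiRegular (fun i => e (f i)) := by
  intro n P hP hmem d
  have hJ : Ideal.span (Set.range fun i => e (f i)) =
      (Ideal.span (Set.range f)).map (e : R →+* R') := by
    rw [Ideal.map_span, ← Set.range_comp]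
    rfl
  rw [hJ, ← Ideal.map_pow, Ideal.map_comap_of_equiv, Ideal.mem_comap] at hmem
  rw [hJ, Ideal.map_comap_of_equiv, Ideal.mem_comap]
  have hQ : (MvPolynomial.map (e.symm : R' →+* R) P).IsHomogeneous n := hP.map _
  have hev : MvPolynomial.eval f (MvPolynomial.map (e.symm : R' →+* R) P) =
      e.symm (MvPolynomial.eval (fun i => e (f i)) P) := by
    rw [MvPolynomial.eval_map]
    have h1 := MvPolynomial.eval₂_comp_left (e.symm : R' →+* R) (RingHom.id R')
      (fun i => e (f i)) P
    have h2 : ((e.symm : R' →+* R) ∘ fun i => e (f i)) = f := by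
      funext i
      simp
    rw [h2, RingHom.comp_id] at h1
    exact h1.symm
  have hmemQ : MvPolynomial.eval f (MvPolynomial.map (e.symm : R' →+* R) P) ∈
      Ideal.span (Set.range f) ^ (n + 1) := by
    rw [hev]
    exact hmem
  have h3 := h n _ hQ hmemQ d
  rw [MvPolynomial.coeff_map] at h3
  exact h3

theorem isQuasiRegular_map_of_flat (φ : R →+* R') (hφ : φ.Flat) {c : ℕ} (f : Fin c → R)
    (h : CAlgX.IsQuasiRegular f) : CAlgX.IsQuasiRegular (fun i => φ (f i)) := by
  algebraize [φ]
  have h1 := isQuasiRegular_baseChange_of_flat (A := R) (B := R) (A' := R') f h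
  have h2 := isQuasiRegular_map_ringEquiv
    (Algebra.TensorProduct.rid R R' R').toRingEquiv _ h1
  have h3 : (fun i => (Algebra.TensorProduct.rid R R' R').toRingEquiv
      ((1 : R') ⊗ₜ[R] f i)) = fun i => φ (f i) := by
    funext i
    show (Algebra.TensorProduct.rid R R' R') ((1 : R') ⊗ₜ[R] f i) = φ (f i)
    rw [Algebra.TensorProduct.rid_tmul, Algebra.smul_def, mul_one]
    rfl
  rw [h3] at h2
  exact h2

/-- the span of the trivial relations -/
def triv {c : ℕ} (f : Fin c → R) : Submodule R (Fin c → R) :=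
  Submodule.span R {v : Fin c → R | ∃ i j : Fin c, v = Pi.single i (f j) - Pi.single j (f i)}

lemma map_mem_triv (φ : R →+* R') {c : ℕ} (f : Fin c → R) (v : Fin c → R) (hv : v ∈ triv f) :
    (fun i => φ (v i)) ∈ triv (fun i => φ (f i)) := by
  unfold triv at hv
  induction hv using Submodule.span_induction with
  | mem v hv =>
    obtain ⟨i, j, rfl⟩ := hv
    refine Submodule.subset_span ⟨i, j, ?_⟩
    funext k
    simp only [Pi.sub_apply, Pi.single_apply, map_sub]
    split_ifs <;> simp
  | zero =>
    have : (fun i => φ ((0 : Fin c → R) i)) = 0 := by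
      funext i
      simp
    rw [this]
    exact Submodule.zero_mem _
  | add a b _ _ ha hb =>
    have : (fun i => φ ((a + b) i)) = (fun i => φ (a i)) + fun i => φ (b i) := by
      funext i
      simp
    rw [this]
    exact Submodule.add_mem _ ha hb
  | smul t a _ ha =>
    have : (fun i => φ ((t • a) i)) = φ t • fun i => φ (a i) := by
      funext i
      simp
    rw [this]
    exact Submodule.smul_mem _ _ ha

theorem isH1Regular_map_of_flat (φ : R →+* R') (hφ : φ.Flat) {c : ℕ} (f : Fin c → R)
    (h : CAlgX.IsH1Regular f) : CAlgX.IsH1Regular (fun i => φ (f i)) := by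
  algebraize [φ]
  intro a' ha'
  show a' ∈ triv (fun i => φ (f i))
  have hrel : ∑ i, f i • a' i = 0 := by
    rw [← ha']
    refine Finset.sum_congr rfl fun i _ => ?_
    rw [Algebra.smul_def, mul_comm]
    rfl
  obtain ⟨k, a, y, hxy, hcol⟩ := Module.Flat.isTrivialRelation_of_sum_smul_eq_zero
    (R := R) (M := R') (f := f) (x := a') (by exact hrel)
  have hcolmem : ∀ j, (fun i => a i j) ∈ triv f := by
    intro j
    refine h (fun i => a i j) ?_
    rw [← hcol j]
    exact Finset.sum_congr rfl fun i _ => mul_comm _ _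
  have ha'eq : a' = ∑ j, y j • (fun i => φ (a i j)) := by
    funext i
    rw [hxy i, Finset.sum_apply]
    refine Finset.sum_congr rfl fun j _ => ?_
    rw [Pi.smul_apply, smul_eq_mul, Algebra.smul_def, mul_comm]
    rfl
  rw [ha'eq]
  exact Submodule.sum_mem _ fun j _ => Submodule.smul_mem _ _ (map_mem_triv φ f _ (hcolmem j))

end Maps


section Lists

variable {R R' : Type u} [CommRing R] [CommRing R']

lemma cast_iff {c c' : ℕ} (h : c = c') (P : ∀ n : ℕ, (Fin n → R') → Prop) (g : Fin c' → R') :
    P c (g ∘ Fin.cast h) ↔ P c' g := by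
  subst h
  exact Iff.rfl

lemma get_map (φ : R → R') (rs : List R) :
    ∃ h : (rs.map φ).length = rs.length,
      (rs.map φ).get = (fun j => φ (rs.get j)) ∘ Fin.cast h := by
  refine ⟨by simp, ?_⟩
  funext j
  simp

lemma ofList_eq_span_range_get (rs : List R) :
    Ideal.ofList rs = Ideal.span (Set.range rs.get) := by
  rw [Set.range_list_get]

/-- flat ring maps preserve `H_1`-regular and quasi-regular sequences (list form). -/
theorem seq_map_of_flat (k : RegImm.Kind) (hk : k = .h1 ∨ k = .quasi) (φ : R →+* R')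
    (hφ : φ.Flat) (rs : List R) (h : k.Seq R rs) : k.Seq R' (rs.map φ) := by
  obtain ⟨hl, hget⟩ := get_map φ rs
  rcases hk with rfl | rfl
  · show CAlgX.IsH1Regular (rs.map φ).get
    rw [hget]
    exact (cast_iff hl (fun n g => CAlgX.IsH1Regular g) _).mpr
      (isH1Regular_map_of_flat φ hφ _ h)
  · show CAlgX.IsQuasiRegular (rs.map φ).get
    rw [hget]
    exact (cast_iff hl (fun n g => CAlgX.IsQuasiRegular g) _).mpr
      (isQuasiRegular_map_of_flat φ hφ _ h)

end Lists

section Pushout

set_option maxHeartbeats 800000 in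
/-- `H_1`-regular and quasi-regular sequences with `R`-flat quotient stay so in a pushout. -/
theorem seq_map_of_isPushout (k : RegImm.Kind) (hk : k = .h1 ∨ k = .quasi)
    {R A R' P : CommRingCat.{u}} {α : R ⟶ A} {β : R ⟶ R'} {a : A ⟶ P} {b : R' ⟶ P}
    (H : IsPushout α β a b) (rs : List A) (h : k.Seq A rs)
    (hflat : ((Ideal.Quotient.mk (Ideal.ofList rs)).comp α.hom).Flat) :
    k.Seq P (rs.map a.hom) := by
  algebraize [α.hom, β.hom]
  let e : (R' ⊗[R] A) ≃+* P :=
    ((CommRingCat.isPushout_tensorProduct R R' A).isoIsPushout _ _ H.flip).commRingCatIsoToRingEquiv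
  have he : ∀ x : A, e ((1 : R') ⊗ₜ[R] x) = a.hom x := by
    intro x
    have h1 := (CommRingCat.isPushout_tensorProduct R R' A).inr_isoIsPushout_hom _ _ H.flip
    exact congr($h1 x)
  have hflat' : Module.Flat R (A ⧸ Ideal.span (Set.range rs.get)) := by
    rw [← ofList_eq_span_range_get]
    have h1 : (algebraMap R (A ⧸ Ideal.ofList rs)).Flat := hflat
    exact RingHom.flat_algebraMap_iff.mp h1
  obtain ⟨hl, hget⟩ := get_map a.hom rs
  have hfun : (fun j => a.hom (rs.get j)) = fun j => e ((1 : R') ⊗ₜ[R] rs.get j) := by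
    funext j
    exact (he _).symm
  rcases hk with rfl | rfl
  · show CAlgX.IsH1Regular (rs.map a.hom).get
    rw [hget]
    refine (cast_iff hl (fun n g => CAlgX.IsH1Regular g) _).mpr ?_
    rw [hfun]
    exact isH1Regular_map_of_flat e.toRingHom (RingHom.Flat.of_bijective e.bijective) _
      (Groth.Agent.S9273.result R A R' _ rs.get hflat' h)
  · show CAlgX.IsQuasiRegular (rs.map a.hom).get
    rw [hget]
    refine (cast_iff hl (fun n g => CAlgX.IsQuasiRegular g) _).mpr ?_
    rw [hfun]
    exact isQuasiRegular_map_ringEquiv e _ (isQuasiRegular_baseChange rs.get hflat' h)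

/-- in a pushout square of commutative rings with `φ` surjective, the kernel of the leg opposite
to `φ` is the extension of `ker φ`. -/
theorem ker_eq_map_of_isPushout {B Bq C P : CommRingCat.{u}} {φ : B ⟶ Bq} {γ : B ⟶ C}
    {a : Bq ⟶ P} {c : C ⟶ P} (H : IsPushout φ γ a c) (hφ : Function.Surjective φ.hom) :
    RingHom.ker c.hom = (RingHom.ker φ.hom).map γ.hom := by
  apply le_antisymm
  · obtain ⟨I, hI⟩ : ∃ I : Ideal C, I = (RingHom.ker φ.hom).map γ.hom := ⟨_, rfl⟩
    rw [← hI]
    have hle : RingHom.ker φ.hom ≤ RingHom.ker ((Ideal.Quotient.mk I).comp γ.hom) := by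
      intro x hx
      rw [RingHom.mem_ker, RingHom.comp_apply, Ideal.Quotient.eq_zero_iff_mem, hI]
      exact Ideal.mem_map_of_mem _ hx
    let ψ : Bq →+* C ⧸ I :=
      RingHom.liftOfSurjective φ.hom hφ ⟨(Ideal.Quotient.mk I).comp γ.hom, hle⟩
    have hψ : ψ.comp φ.hom = (Ideal.Quotient.mk I).comp γ.hom :=
      RingHom.liftOfSurjective_comp φ.hom hφ ⟨(Ideal.Quotient.mk I).comp γ.hom, hle⟩
    let d : P ⟶ CommRingCat.of (C ⧸ I) :=
      H.desc (CommRingCat.ofHom ψ) (CommRingCat.ofHom (Ideal.Quotient.mk I)) (by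
        ext x
        exact congr($hψ x))
    have hd : c ≫ d = CommRingCat.ofHom (Ideal.Quotient.mk I) := H.inr_desc _ _ _
    intro x hx
    rw [RingHom.mem_ker] at hx
    have h1 : d.hom (c.hom x) = Ideal.Quotient.mk I x := congr($hd x)
    rw [hx, map_zero] at h1
    exact Ideal.Quotient.eq_zero_iff_mem.mp h1.symm
  · rw [Ideal.map_le_iff_le_comap]
    intro x hx
    rw [Ideal.mem_comap, RingHom.mem_ker]
    rw [RingHom.mem_ker] at hx
    have h1 : a.hom (φ.hom x) = c.hom (γ.hom x) := congr($(H.w) x)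
    rw [← h1, hx, map_zero]

end Pushout

end Groth.Agent.Lib.Helper5.QuasiRegFlat
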