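import Mathlib
import Groth.Prelude.Def_RegImm
import Groth.Agent.Lib.Helper5QuasiRegFlat

/-!
# Base change of `H_1`-regular and quasi-regular immersions with flat source (helper5)

* `restrict_baseChange`: for a pullback square `Z' → X'` over `Z → X`, affine opens `U' ⊆ X'` over
  `U ⊆ X` with `i ∣_ U` a closed immersion: `i' ∣_ U'` is a closed immersion and the kernel of
  `i'.app U'` is the extension of the kernel of `i.app U`.
* `isRegularImmersionAt_of_isPullback`: base change of a relative `H_1`-regular or quasi-regular immersion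
  at a point.
-/

set_option autoImplicit false
set_option linter.style.haveILetI false
universe u

open AlgebraicGeometry CategoryTheory CategoryTheory.Limits TopologicalSpace

namespace Groth.Agent.Lib.Helper5.ImmBC

open Groth.Agent.Lib.Helper5.QuasiRegFlat

section Ring

theorem flat_mk_comp_of_surjective {R B C : Type u} [CommRing R] [CommRing B] [CommRing C]
    (α : R →+* B) (π : B →+* C) (hπ : Function.Surjective π) (I : Ideal B)
    (hI : RingHom.ker π = I) (h : (π.comp α).Flat) :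
    ((Ideal.Quotient.mk I).comp α).Flat := by
  subst hI
  let Q := RingHom.quotientKerEquivOfSurjective hπ
  have h1 : (Ideal.Quotient.mk (RingHom.ker π)).comp α =
      (Q.symm : C →+* B ⧸ RingHom.ker π).comp (π.comp α) := by
    ext x
    simp only [RingHom.comp_apply, RingHom.coe_coe]
    rw [RingEquiv.eq_symm_apply]
    rfl
  rw [h1]
  exact RingHom.Flat.comp h (RingHom.Flat.of_bijective Q.symm.bijective)

end Ring

section Sch

variable {Z X : Scheme.{u}}

theorem isAffineOpen_preimage_of_isClosedImmersion_restrict (i : Z ⟶ X) {U : X.Opens}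
    (hU : IsAffineOpen U) [IsClosedImmersion (i ∣_ U)] : IsAffineOpen (i ⁻¹ᵁ U) := by
  haveI : IsAffine (U : Scheme.{u}) := hU
  exact isAffine_of_isAffineHom (i ∣_ U)

theorem app_surjective_of_isClosedImmersion_restrict (i : Z ⟶ X) {U : X.Opens}
    (hU : IsAffineOpen U) [hcl : IsClosedImmersion (i ∣_ U)] :
    Function.Surjective (i.app U).hom := by
  haveI : IsAffine (U : Scheme.{u}) := hU
  haveI : IsClosedImmersion (i.resLE U (i ⁻¹ᵁ U) le_rfl) := by
    rw [Scheme.Hom.resLE_eq_morphismRestrict]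
    exact hcl
  obtain ⟨-, hs⟩ := IsClosedImmersion.isAffine_surjective_of_isAffine
    (i.resLE U (i ⁻¹ᵁ U) le_rfl)
  have hw : (Scheme.Opens.topIso U).hom ≫ i.appLE U (i ⁻¹ᵁ U) le_rfl =
      (i.resLE U (i ⁻¹ᵁ U) le_rfl).appTop ≫ (Scheme.Opens.topIso (i ⁻¹ᵁ U)).hom :=
    (arrowResLEAppIso i U (i ⁻¹ᵁ U) le_rfl).hom.w
  rw [Scheme.Hom.appLE_eq_app] at hw
  intro y
  obtain ⟨y', rfl⟩ := (ConcreteCategory.bijective_of_isIso
    (Scheme.Opens.topIso (i ⁻¹ᵁ U)).hom).2 y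
  obtain ⟨x', rfl⟩ := hs y'
  exact ⟨(Scheme.Opens.topIso U).hom.hom x', congr($hw x')⟩

set_option maxHeartbeats 800000 in
theorem restrict_baseChange {Z X Z' X' : Scheme.{u}} {i : Z ⟶ X} {p : X' ⟶ X} {i' : Z' ⟶ X'}
    {pZ : Z' ⟶ Z} (H : IsPullback pZ i' i p) {U : X.Opens} (hU : IsAffineOpen U)
    [hcl : IsClosedImmersion (i ∣_ U)] {U' : X'.Opens} (hU' : IsAffineOpen U')
    (hUU' : U' ≤ p ⁻¹ᵁ U) :
    IsClosedImmersion (i' ∣_ U') ∧
      RingHom.ker (i'.app U').hom =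
        (RingHom.ker (i.app U).hom).map (p.appLE U U' hUU').hom := by
  have hUY : i' ⁻¹ᵁ U' = pZ ⁻¹ᵁ (i ⁻¹ᵁ U) ⊓ i' ⁻¹ᵁ U' := by
    refine le_antisymm (le_inf ?_ le_rfl) inf_le_right
    intro z hz
    have h1 : (pZ ≫ i) z ∈ U := by
      rw [H.w]
      exact hUU' hz
    exact h1
  have PB := Scheme.Hom.isPullback_resLE H hUU' (le_refl (i ⁻¹ᵁ U)) hUY
  have hZaff := isAffineOpen_preimage_of_isClosedImmersion_restrict i hU
  constructor
  · have h1 : IsClosedImmersion (i.resLE U (i ⁻¹ᵁ U) le_rfl) := by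
      rw [Scheme.Hom.resLE_eq_morphismRestrict]
      exact hcl
    have h2 := MorphismProperty.of_isPullback (P := @IsClosedImmersion) PB h1
    rwa [Scheme.Hom.resLE_eq_morphismRestrict] at h2
  · have hPO := (isIso_pushoutSection_iff H hUU' (le_refl (i ⁻¹ᵁ U)) hUY).mp
      (isIso_pushoutSection_of_isAffineOpen H hUU' (le_refl _) hUY hU hU' hZaff)
    have hs : Function.Surjective (i.appLE U (i ⁻¹ᵁ U) (le_refl _)).hom := by
      rw [Scheme.Hom.appLE_eq_app]
      exact app_surjective_of_isClosedImmersion_restrict i hU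
    have hk := ker_eq_map_of_isPushout hPO hs
    rw [Scheme.Hom.appLE_eq_app, Scheme.Hom.appLE_eq_app] at hk
    exact hk

set_option maxHeartbeats 1600000 in
/-- base change of a relative `H_1`-regular / quasi-regular immersion, at a point. -/
theorem isRegularImmersionAt_of_isPullback (k : RegImm.Kind) (hk : k = .h1 ∨ k = .quasi)
    {Z X S S' X' Z' : Scheme.{u}} {f : X ⟶ S} {i : Z ⟶ X} {g : S' ⟶ S} {p : X' ⟶ X}
    {q : X' ⟶ S'} {pZ : Z' ⟶ Z} {i' : Z' ⟶ X'} (HX : IsPullback p q f g)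
    (HZ : IsPullback pZ i' i p) [Flat (i ≫ f)] (z' : Z')
    (hz : RegImm.IsRegularImmersionAt k i (pZ z')) :
    RegImm.IsRegularImmersionAt k i' z' := by
  obtain ⟨⟨U, hU⟩, hzU, hcl, rs, hseq, hker⟩ := hz
  simp only at hzU hcl hker hseq
  haveI := hcl
  have hpi : p (i' z') = i (pZ z') := by
    have h2 := congr($(HZ.w) z')
    simp only [Scheme.Hom.comp_apply] at h2
    exact h2.symm
  have hgq : g (q (i' z')) = f (p (i' z')) := by
    have h2 := congr($(HX.w) (i' z'))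
    simp only [Scheme.Hom.comp_apply] at h2
    exact h2.symm
  obtain ⟨_, ⟨V : S.Opens, hV, rfl⟩, hsV, -⟩ :=
    S.isBasis_affineOpens.exists_subset_of_mem_open (Set.mem_univ (f (i (pZ z')))) isOpen_univ
  obtain ⟨h, hle, hmem⟩ := hU.exists_basicOpen_le (V := U ⊓ f ⁻¹ᵁ V)
    ⟨i (pZ z'), ⟨hzU, hsV⟩⟩ hzU
  have hU₁ : IsAffineOpen (X.basicOpen h) := hU.basicOpen h
  have hU₁U : X.basicOpen h ≤ U := hle.trans inf_le_left
  have hU₁V : X.basicOpen h ≤ f ⁻¹ᵁ V := hle.trans inf_le_right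
  obtain ⟨hcl₁, hker₁⟩ := restrict_baseChange (IsPullback.id_horiz i) hU hU₁
    (show X.basicOpen h ≤ (𝟙 X) ⁻¹ᵁ U from hU₁U)
  haveI := hcl₁
  have hflatres : ((𝟙 X : X ⟶ X).appLE U (X.basicOpen h) hU₁U).hom.Flat :=
    Scheme.Hom.flat_appLE (𝟙 X) hU hU₁ _
  obtain ⟨rs₁, hrs₁⟩ : ∃ rs₁ : List Γ(X, X.basicOpen h),
      rs₁ = rs.map ((𝟙 X : X ⟶ X).appLE U (X.basicOpen h) hU₁U).hom := ⟨_, rfl⟩
  have hseq₁ : k.Seq Γ(X, X.basicOpen h) rs₁ := by
    rw [hrs₁]
    exact seq_map_of_flat k hk _ hflatres rs hseq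
  have hker₁' : RingHom.ker (i.app (X.basicOpen h)).hom = Ideal.ofList rs₁ := by
    rw [hker₁, hker, Ideal.map_ofList, hrs₁]
  have hgV : q (i' z') ∈ g ⁻¹ᵁ V := by
    show g (q (i' z')) ∈ V
    rw [hgq, hpi]
    exact hsV
  obtain ⟨_, ⟨W : S'.Opens, hW, rfl⟩, hsW, hWle⟩ :=
    S'.isBasis_affineOpens.exists_subset_of_mem_open hgV (g ⁻¹ᵁ V).2
  have eW : W ≤ g ⁻¹ᵁ V := hWle
  obtain ⟨U', hU'def⟩ : ∃ U' : X'.Opens, U' = p ⁻¹ᵁ X.basicOpen h ⊓ q ⁻¹ᵁ W := ⟨_, rfl⟩
  have hU'aff : IsAffineOpen U' := by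
    haveI : IsAffine (V : Scheme.{u}) := hV
    haveI : IsAffine (W : Scheme.{u}) := hW
    haveI : IsAffine ((X.basicOpen h : X.Opens) : Scheme.{u}) := hU₁
    exact .of_isIso (Scheme.Hom.isPullback_resLE HX eW hU₁V hU'def).isoPullback.hom
  have hPO := (isIso_pushoutSection_iff HX eW hU₁V hU'def).mp
    (isIso_pushoutSection_of_isAffineOpen HX eW hU₁V hU'def hV hW hU₁)
  have hU'le : U' ≤ p ⁻¹ᵁ X.basicOpen h := by
    rw [hU'def]
    exact inf_le_left
  have hz'U' : i' z' ∈ U' := by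
    rw [hU'def]
    refine ⟨?_, hsW⟩
    show p (i' z') ∈ X.basicOpen h
    rw [hpi]
    exact hmem
  obtain ⟨hcl', hker'⟩ := restrict_baseChange HZ hU₁ hU'aff hU'le
  have hZaff := isAffineOpen_preimage_of_isClosedImmersion_restrict i hU₁
  have hflat₁ : ((Ideal.Quotient.mk (Ideal.ofList rs₁)).comp
      (f.appLE V (X.basicOpen h) hU₁V).hom).Flat := by
    have e' : i ⁻¹ᵁ X.basicOpen h ≤ (i ≫ f) ⁻¹ᵁ V := by
      intro y hy
      exact hU₁V hy
    have hfl : ((i ≫ f).appLE V (i ⁻¹ᵁ X.basicOpen h) e').hom.Flat :=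
      Scheme.Hom.flat_appLE (i ≫ f) hV hZaff e'
    have hcomp : f.appLE V (X.basicOpen h) hU₁V ≫
        i.appLE (X.basicOpen h) (i ⁻¹ᵁ X.basicOpen h) le_rfl =
        (i ≫ f).appLE V (i ⁻¹ᵁ X.basicOpen h) e' :=
      Scheme.Hom.appLE_comp_appLE _ _ _ _ _ _ _
    rw [← hcomp, Scheme.Hom.appLE_eq_app, CommRingCat.hom_comp] at hfl
    exact flat_mk_comp_of_surjective _ _
      (app_surjective_of_isClosedImmersion_restrict i hU₁) _ hker₁' hfl
  have hseq' := seq_map_of_isPushout k hk hPO rs₁ hseq₁ hflat₁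
  refine ⟨⟨U', hU'aff⟩, hz'U', hcl', rs₁.map (p.appLE (X.basicOpen h) U' hU'le).hom, hseq', ?_⟩
  rw [hker', hker₁', Ideal.map_ofList]

end Sch

end Groth.Agent.Lib.Helper5.ImmBC
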