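import Groth.Prelude.Def_Mor2
import Groth.Agent.Lib.Helper5RegSeq

/-!
# Composition of regular closed immersions (helper5)
-/

set_option autoImplicit false
set_option linter.style.haveILetI false
universe u

open AlgebraicGeometry CategoryTheory RingTheory.Sequence TopologicalSpace

namespace Groth.Agent.Lib.Helper5.RegImmComp

open Groth.Agent.Lib.Helper5.RegSeq

theorem exists_regular_ker_comp' {R S T : Type*} [CommRing R] [CommRing S] [CommRing T]
    [Nontrivial T] (π : R →+* S) (hπ : Function.Surjective π) (ρ : S →+* T)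
    (is : List R) (his : IsWeaklyRegular R is) (hI : RingHom.ker π = Ideal.ofList is) (js : List S)
    (hjs : IsWeaklyRegular S js) (hJ : RingHom.ker ρ = Ideal.ofList js) :
    ∃ ks : List R, IsRegular R ks ∧ RingHom.ker (ρ.comp π) = Ideal.ofList ks := by
  obtain ⟨bs, rfl⟩ := List.map_surjective_iff.mpr hπ js
  have hK : RingHom.ker (ρ.comp π) = Ideal.ofList (is ++ bs) := by
    rw [← RingHom.comap_ker, hJ, ← Ideal.map_ofList, Ideal.comap_map_of_surjective π hπ,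
      ← RingHom.ker_eq_comap_bot, hI, Ideal.ofList_append, sup_comm]
  refine ⟨is ++ bs, ⟨?_, ?_⟩, hK⟩
  · rw [isWeaklyRegular_iff_regOn, regOn_append]
    refine ⟨(isWeaklyRegular_iff_regOn is).mp his, ?_⟩
    rw [bot_sup_eq, ← hI, ← regOn_map_of_surjective π hπ _ le_rfl,
      (Ideal.map_eq_bot_iff_le_ker π).mpr le_rfl]
    exact (isWeaklyRegular_iff_regOn _).mp hjs
  · rw [smul_eq_mul, Ideal.mul_top, ← hK]
    exact (RingHom.ker_ne_top _).symm

theorem flat_map_of_le {Y : Scheme.{u}} {V W : Y.Opens} (hV : IsAffineOpen V)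
    (hW : IsAffineOpen W) (h : W ≤ V) : (Y.presheaf.map (homOfLE h).op).hom.Flat := by
  have h1 := Scheme.Hom.flat_appLE (𝟙 Y) hV hW h
  have h2 : (𝟙 Y : Y ⟶ Y).appLE V W h = Y.presheaf.map (homOfLE h).op := by
    unfold Scheme.Hom.appLE
    rw [Scheme.Hom.id_app]
    exact Category.id_comp _
  rw [h2] at h1
  exact h1

theorem isWeaklyRegular_map_of_flat {R S : Type*} [CommRing R] [CommRing S] (φ : R →+* S)
    (hφ : φ.Flat) (rs : List R) (h : IsWeaklyRegular R rs) : IsWeaklyRegular S (rs.map φ) := by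
  letI := φ.toAlgebra
  haveI : Module.Flat R S := hφ
  exact h.of_flat

theorem comp {Z Y X : Scheme.{u}} (i : Z ⟶ Y) (j : Y ⟶ X)
    (hi : Mor2.IsRegularClosedImmersion i) (hj : Mor2.IsRegularClosedImmersion j) :
    Mor2.IsRegularClosedImmersion (i ≫ j) := by
  obtain ⟨hic, hi'⟩ := hi
  obtain ⟨hjc, hj'⟩ := hj
  haveI := hic
  haveI := hjc
  refine ⟨inferInstance, fun z => ?_⟩
  obtain ⟨U, hU, hyU, as, has, hkerU⟩ := hj' (i z)
  obtain ⟨V, hV, hzV, bs, hbs, hkerV⟩ := hi' z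
  have hU' : IsAffineOpen (j ⁻¹ᵁ U) := hU.preimage j
  obtain ⟨fbar, hfle, hyf⟩ := hU'.exists_basicOpen_le (V := j ⁻¹ᵁ U ⊓ V) ⟨i z, ⟨hyU, hzV⟩⟩ hyU
  obtain ⟨f, rfl⟩ := j.app_surjective U hU fbar
  have hW : IsAffineOpen (X.basicOpen f) := hU.basicOpen f
  have hpre : j ⁻¹ᵁ X.basicOpen f = Y.basicOpen ((j.app U).hom f) := Scheme.preimage_basicOpen j f
  have hyW' : i z ∈ j ⁻¹ᵁ X.basicOpen f := by
    rw [hpre]
    exact hyf
  have hW' : IsAffineOpen (j ⁻¹ᵁ X.basicOpen f) := hW.preimage j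
  have hW'V : j ⁻¹ᵁ X.basicOpen f ≤ V := by
    rw [hpre]
    exact hfle.trans inf_le_right
  -- kernel of `j` on `W`
  haveI : IsLocalization.Away f Γ(X, X.basicOpen f) := hU.isLocalization_basicOpen f
  have hflat1 : (algebraMap Γ(X, U) Γ(X, X.basicOpen f)).Flat := by
    change Module.Flat Γ(X, U) Γ(X, X.basicOpen f)
    exact IsLocalization.flat _ (Submonoid.powers f)
  have hker1 : RingHom.ker (j.app (X.basicOpen f)).hom
      = Ideal.ofList (as.map (algebraMap Γ(X, U) Γ(X, X.basicOpen f))) := by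
    rw [← Scheme.Hom.ker_apply j ⟨X.basicOpen f, hW⟩, ← Ideal.map_ofList, ← hkerU]
    exact (j.ker.map_ideal_basicOpen ⟨U, hU⟩ f).symm
  have hreg1 := isWeaklyRegular_map_of_flat _ hflat1 as has.toIsWeaklyRegular
  -- kernel of `i` on `j⁻¹ W`
  have hker2 : RingHom.ker (i.app (j ⁻¹ᵁ X.basicOpen f)).hom
      = Ideal.ofList (bs.map (Y.presheaf.map (homOfLE hW'V).op).hom) := by
    rw [← Scheme.Hom.ker_apply i ⟨j ⁻¹ᵁ X.basicOpen f, hW'⟩, ← Ideal.map_ofList, ← hkerV]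
    exact (i.ker.map_ideal (U := ⟨j ⁻¹ᵁ X.basicOpen f, hW'⟩) (V := ⟨V, hV⟩) hW'V).symm
  have hreg2 := isWeaklyRegular_map_of_flat _ (flat_map_of_le hV hW' hW'V) bs
    hbs.toIsWeaklyRegular
  haveI : Nonempty ↥(i ⁻¹ᵁ (j ⁻¹ᵁ X.basicOpen f)) := ⟨⟨z, hyW'⟩⟩
  obtain ⟨ks, hks, hK⟩ := exists_regular_ker_comp' (j.app (X.basicOpen f)).hom
    (j.app_surjective _ hW) (i.app (j ⁻¹ᵁ X.basicOpen f)).hom _ hreg1 hker1 _ hreg2 hker2
  refine ⟨X.basicOpen f, hW, hyW', ks, hks, ?_⟩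
  rw [Scheme.Hom.ker_apply, Scheme.Hom.comp_app]
  exact hK

end Groth.Agent.Lib.Helper5.RegImmComp
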