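import Mathlib
import Groth.Prelude.Def_RegImm
import Groth.Agent.Lib.Helper5ImmBC
import Groth.Agent.Lib.Helper5RegImmComp
import Groth.Agent.Lib.Helper13KzLiftH

/-!
# Flat base change of regular immersions of the four kinds (helper5)

* `isKoszulRegularSeq_map_of_flat`: flat ring maps preserve Koszul-regular sequences.
* `isRegularImmersionAt_flat_baseChange`: flat base change of an immersion which is regular of kind
  `k` at a point.
-/

set_option autoImplicit false
set_option linter.style.haveILetI false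
universe u

open AlgebraicGeometry CategoryTheory CategoryTheory.Limits TopologicalSpace
open RingTheory.Sequence

namespace Groth.Agent.Lib.Helper5.KindFlat

open Groth.Agent.Lib.Helper5.QuasiRegFlat Groth.Agent.Lib.Helper5.ImmBC
open Groth.Agent.Helper13KzLift Groth.Agent.Helper13Kz CohIII
open scoped TensorProduct

section Koszul

variable {S T : Type u} [CommRing S] [CommRing T] (φ : S →+* T)

theorem isZero_homology_of_restrict (M : ModuleCat.{u} T) (l : List S) (i : ℤ)
    (h : Limits.IsZero ((koszulCx ((ModuleCat.restrictScalars φ).obj M) l).homology i)) :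
    Limits.IsZero ((koszulCx M (l.map φ)).homology i) := by
  have h0 : Limits.IsZero ((((ModuleCat.restrictScalars φ).mapHomologicalComplex
      (ComplexShape.up ℤ)).obj (koszulCx M (l.map φ))).homology i) :=
    Limits.IsZero.of_iso h
      ((HomologicalComplex.homologyFunctor _ _ i).mapIso (restrictIso φ M l))
  rw [← HomologicalComplex.exactAt_iff_isZero_homology] at h0 ⊢
  have h1 : (((koszulCx M (l.map φ)).sc i).map (ModuleCat.restrictScalars φ)).Exact := h0
  exact (ShortComplex.exact_map_iff_of_faithful _ (ModuleCat.restrictScalars φ)).mp h1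

theorem isKoszulRegularSeq_map_of_flat (hφ : φ.Flat) (l : List S)
    (h : LCI.IsKoszulRegularSeq S l) : LCI.IsKoszulRegularSeq T (l.map φ) := by
  algebraize [φ]
  rw [isKoszulRegularSeq_iff] at h
  unfold LCI.IsKoszulRegularSeq
  intro i hi
  have h1 : Subsingleton (KH l (S ⊗[S] T) i) := subsingleton_KH_tensor_flat S T l i (h i hi)
  let e' : T ≃ₗ[S] ((ModuleCat.restrictScalars φ).obj (ModuleCat.of T T)) :=
    { toFun := fun t => t
      invFun := fun t => t
      left_inv := fun _ => rfl
      right_inv := fun _ => rfl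
      map_add' := fun _ _ => rfl
      map_smul' := fun _ _ => rfl }
  have h2 : Subsingleton (KH l ((ModuleCat.restrictScalars φ).obj (ModuleCat.of T T)) i) :=
    subsingleton_KH_of_equiv l ((TensorProduct.lid S T).trans e') i h1
  have h3 := isZero_homology_of_restrict φ (ModuleCat.of T T) l i
    (ModuleCat.isZero_of_subsingleton _)
  exact (isZero_congr (koszul_eq T (l.map φ)) i).mpr h3

end Koszul

section Sch

set_option maxHeartbeats 800000 in
theorem isRegularImmersionAt_flat_baseChange (k : RegImm.Kind) {Z X X' Z' : Scheme.{u}}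
    {i : Z ⟶ X} {g : X' ⟶ X} [Flat g] {pZ : Z' ⟶ Z} {i' : Z' ⟶ X'}
    (H : IsPullback pZ i' i g) (z' : Z') (hz : RegImm.IsRegularImmersionAt k i (pZ z')) :
    RegImm.IsRegularImmersionAt k i' z' := by
  obtain ⟨⟨U, hU⟩, hzU, hcl, rs, hseq, hker⟩ := hz
  simp only at hzU hcl hker hseq
  haveI := hcl
  have hgi : g (i' z') = i (pZ z') := by
    have h2 := congr($(H.w) z')
    simp only [Scheme.Hom.comp_apply] at h2
    exact h2.symm
  have hmem : i' z' ∈ ((g ⁻¹ᵁ U : X'.Opens) : Set X') := by
    show g (i' z') ∈ U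
    rw [hgi]
    exact hzU
  obtain ⟨_, ⟨U' : X'.Opens, hU', rfl⟩, hxU', hU'le⟩ :=
    X'.isBasis_affineOpens.exists_subset_of_mem_open hmem (g ⁻¹ᵁ U).2
  have eU' : U' ≤ g ⁻¹ᵁ U := hU'le
  obtain ⟨hcl', hker'⟩ := restrict_baseChange H hU hU' eU'
  have hfl : (g.appLE U U' eU').hom.Flat := Scheme.Hom.flat_appLE g hU hU' eU'
  have hk : RingHom.ker (i'.app U').hom = Ideal.ofList (rs.map (g.appLE U U' eU').hom) := by
    rw [hker', hker, Ideal.map_ofList]
  refine ⟨⟨U', hU'⟩, hxU', hcl', rs.map (g.appLE U U' eU').hom, ?_, hk⟩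
  cases k with
  | regular =>
    have hreg : RingTheory.Sequence.IsRegular Γ(X, U) rs := hseq
    refine ⟨Groth.Agent.Lib.Helper5.RegImmComp.isWeaklyRegular_map_of_flat _ hfl rs
      hreg.toIsWeaklyRegular, ?_⟩
    rw [smul_eq_mul, Ideal.mul_top, ← hk]
    haveI : Nonempty ↥(i' ⁻¹ᵁ U') := ⟨⟨z', hxU'⟩⟩
    exact (RingHom.ker_ne_top _).symm
  | koszul => exact isKoszulRegularSeq_map_of_flat _ hfl rs hseq
  | h1 => exact seq_map_of_flat .h1 (Or.inl rfl) _ hfl rs hseq
  | quasi => exact seq_map_of_flat .quasi (Or.inr rfl) _ hfl rs hseq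

end Sch

end Groth.Agent.Lib.Helper5.KindFlat
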