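import Mathlib

/-! # Azumaya algebras over commutative rings: base change (lead) -/

namespace Groth.Agent.Lib.LeadAzumaya

open TensorProduct

section HomBaseChange

variable {R : Type*} [CommRing R] (S : Type*) [CommRing S] [Algebra R S]
  (M : Type*) [AddCommGroup M] [Module R M] (N : Type*) [AddCommGroup N] [Module R N]

/-- For `M` finite projective, `S ⊗ Hom_R(M,N) → Hom_S(S ⊗ M, S ⊗ N)` is bijective. -/
theorem tensorProduct_bijective [Module.Finite R M] [Module.Projective R M] :
    Function.Bijective (LinearMap.tensorProduct R S M N) := by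
  classical
  obtain ⟨n, f, g, -, -, hfg⟩ := Module.Finite.exists_comp_eq_id_of_projective R M
  -- dual basis
  let x : Fin n → M := fun i => f (Pi.single i 1)
  let ξ : Fin n → M →ₗ[R] R := fun i => (LinearMap.proj i) ∘ₗ g
  have hx : ∀ m : M, m = ∑ i, ξ i m • x i := by
    intro m
    have h1 : f (g m) = m := by
      have := congrArg (fun h => h m) hfg
      simpa using this
    conv_lhs => rw [← h1]
    have h2 : g m = ∑ i, (g m i) • (Pi.single i (1 : R) : Fin n → R) := by
      funext j
      simp [Finset.sum_apply, Pi.single_apply]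
    rw [h2, map_sum]
    refine Finset.sum_congr rfl fun i _ => ?_
    rw [map_smul]
    rfl
  -- rank one maps
  let ρ : Fin n → N →ₗ[R] (M →ₗ[R] N) := fun i =>
    { toFun := fun y => (ξ i).smulRight y
      map_add' := fun y y' => by ext m; simp
      map_smul' := fun r y => by
        ext m
        simp only [LinearMap.smulRight_apply, LinearMap.smul_apply, RingHom.id_apply]
        rw [smul_comm] }
  have hρ : ∀ i y m, ρ i y m = ξ i m • y := fun i y m => rfl
  -- the inverse
  let T := LinearMap.tensorProduct R S M N
  have hT : ∀ (s : S) (h : M →ₗ[R] N) (t : S) (m : M), T (s ⊗ₜ h) (t ⊗ₜ m) = (s * t) ⊗ₜ h m := by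
    intro s h t m
    simp [T, LinearMap.tensorProduct, TensorProduct.smul_tmul']
  let Tinv : ((S ⊗[R] M) →ₗ[S] (S ⊗[R] N)) → S ⊗[R] (M →ₗ[R] N) := fun φ =>
    ∑ i, (LinearMap.lTensor S (ρ i)) (φ (1 ⊗ₜ x i))
  have hleft : ∀ z, Tinv (T z) = z := by
    intro z
    induction z using TensorProduct.induction_on with
    | zero => simp [Tinv]
    | add z z' hz hz' =>
      simp only [Tinv, map_add, LinearMap.add_apply, Finset.sum_add_distrib] at hz hz' ⊢
      rw [hz, hz']
    | tmul s h =>
      simp only [Tinv, hT, mul_one, LinearMap.lTensor_tmul]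
      rw [← TensorProduct.tmul_sum]
      congr 1
      ext m
      rw [LinearMap.sum_apply]
      simp only [hρ]
      conv_rhs => rw [hx m, map_sum]
      refine Finset.sum_congr rfl fun i _ => ?_
      rw [map_smul]
  have hright : ∀ φ, T (Tinv φ) = φ := by
    intro φ
    apply TensorProduct.AlgebraTensorModule.ext
    intro t m
    have key : ∀ (w : S ⊗[R] N) (i : Fin n), T (LinearMap.lTensor S (ρ i) w) (t ⊗ₜ m)
        = ξ i m • (t • w) := by
      intro w i
      induction w using TensorProduct.induction_on with
      | zero => simp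
      | add w w' hw hw' => simp only [map_add, LinearMap.add_apply, hw, hw', smul_add]
      | tmul s y =>
        rw [LinearMap.lTensor_tmul, hT, hρ, TensorProduct.smul_tmul', TensorProduct.tmul_smul,
          smul_eq_mul, mul_comm]
    simp only [Tinv, map_sum, LinearMap.sum_apply, key]
    have h3 : (t ⊗ₜ[R] m : S ⊗[R] M) = ∑ i, ξ i m • (t • ((1 : S) ⊗ₜ[R] x i)) := by
      conv_lhs => rw [hx m, TensorProduct.tmul_sum]
      refine Finset.sum_congr rfl fun i _ => ?_
      rw [TensorProduct.tmul_smul]
      congr 1
      rw [TensorProduct.smul_tmul', smul_eq_mul, mul_one]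
    conv_rhs => rw [h3, map_sum]
    refine Finset.sum_congr rfl fun i _ => ?_
    rw [LinearMap.map_smul_of_tower, map_smul]
  exact Function.bijective_iff_has_inverse.mpr ⟨Tinv, hleft, hright⟩

theorem tensorProductEnd_bijective [Module.Finite R M] [Module.Projective R M] :
    Function.Bijective (LinearMap.tensorProductEnd R S M) :=
  tensorProduct_bijective S M M


theorem tensorProductEnd_tmul_apply (s : S) (h : Module.End R M) (t : S) (m : M) :
    LinearMap.tensorProductEnd R S M (s ⊗ₜ h) (t ⊗ₜ m) = (s * t) ⊗ₜ h m := by
  simp [LinearMap.tensorProductEnd, LinearMap.tensorProduct, TensorProduct.smul_tmul']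

end HomBaseChange

section Faithful

variable {R : Type*} [CommRing R] {M : Type*} [AddCommGroup M] [Module R M]

theorem faithfullyFlat_of_finite_of_faithful [Module.Finite R M] [Module.Flat R M]
    [FaithfulSMul R M] : Module.FaithfullyFlat R M := by
  rw [Module.FaithfullyFlat.iff_flat_and_ideal_smul_eq_top]
  refine ⟨inferInstance, fun I hI => ?_⟩
  obtain ⟨r, hr, hr0⟩ := Submodule.exists_sub_one_mem_and_smul_eq_zero_of_fg_of_le_smul I
    (⊤ : Submodule R M) Module.Finite.fg_top (by rw [hI])
  have h0 : r = 0 := by
    apply FaithfulSMul.eq_of_smul_eq_smul (α := M)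
    intro m
    rw [hr0 m Submodule.mem_top, zero_smul]
  rw [h0, zero_sub] at hr
  rw [Ideal.eq_top_iff_one]
  simpa using I.neg_mem hr

theorem faithfulSMul_of_faithfullyFlat [Module.FaithfullyFlat R M] : FaithfulSMul R M := by
  constructor
  intro r s h
  have h1 : (LinearMap.lsmul R R (r - s) : R →ₗ[R] R) = 0 := by
    rw [Module.FaithfullyFlat.zero_iff_lTensor_zero R M]
    apply TensorProduct.ext'
    intro m t
    simp only [LinearMap.lTensor_tmul, LinearMap.lsmul_apply, LinearMap.zero_apply]
    rw [← TensorProduct.smul_tmul, sub_smul, h m, sub_self, TensorProduct.zero_tmul]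
  have h2 := congrArg (fun f => f 1) h1
  simpa [sub_eq_zero] using h2

end Faithful

section Descent

variable {R : Type*} [CommRing R] (S : Type*) [CommRing S] [Algebra R S]

/-- (after helper22's `finite_baseChange_ker_of_flat`) If `f : F → L` is surjective with `F` finite,
`L` flat and `S ⊗ L` finitely presented over `S`, then `S ⊗ ker f` is a finite `S`-module. -/
theorem finite_baseChange_ker_of_flat
    {F L : Type*} [AddCommGroup F] [Module R F] [Module.Finite R F] [AddCommGroup L] [Module R L]
    [Module.Flat R L] [Module.FinitePresentation S (S ⊗[R] L)] (f : F →ₗ[R] L)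
    (hf : Function.Surjective f) :
    Module.Finite S (S ⊗[R] (LinearMap.ker f)) := by
  have hinj : Function.Injective ((LinearMap.ker f).subtype.lTensor S) :=
    LinearMap.lTensor_injective_of_exact_of_flat f hf (LinearMap.ker f).subtype
      (LinearMap.ker f).subtype_injective (LinearMap.exact_subtype_ker_map f) S
  have hex : Function.Exact ((LinearMap.ker f).subtype.lTensor S) (f.lTensor S) :=
    lTensor_exact S (LinearMap.exact_subtype_ker_map f) hf
  have hsurj : Function.Surjective (f.baseChange S) := by
    rw [LinearMap.baseChange_eq_ltensor]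
    exact LinearMap.lTensor_surjective S hf
  have hfg : (LinearMap.ker (f.baseChange S)).FG :=
    Module.FinitePresentation.fg_ker (f.baseChange S) hsurj
  have hinj' : Function.Injective ((LinearMap.ker f).subtype.baseChange S) := by
    rw [LinearMap.baseChange_eq_ltensor]
    exact hinj
  have hrange : LinearMap.range ((LinearMap.ker f).subtype.baseChange S) =
      LinearMap.ker (f.baseChange S) := by
    ext x
    rw [LinearMap.mem_range, LinearMap.mem_ker, LinearMap.baseChange_eq_ltensor,
      LinearMap.baseChange_eq_ltensor]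
    exact ((hex x).symm)
  rw [← hrange] at hfg
  have : Module.Finite S (LinearMap.range ((LinearMap.ker f).subtype.baseChange S)) :=
    Module.Finite.iff_fg.mpr hfg
  exact Module.Finite.equiv
    (LinearEquiv.ofInjective ((LinearMap.ker f).subtype.baseChange S) hinj').symm

/-- finite projective modules descend along faithfully flat ring maps -/
theorem finite_projective_of_faithfullyFlat_baseChange [Module.FaithfullyFlat R S]
    (M : Type*) [AddCommGroup M] [Module R M]
    [Module.Finite S (S ⊗[R] M)] [Module.Projective S (S ⊗[R] M)] :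
    Module.Finite R M ∧ Module.Projective R M := by
  haveI : Module.Finite R M := Module.Finite.of_finite_tensorProduct_of_faithfullyFlat S
  haveI : Module.Flat R M := Module.Flat.of_flat_tensorProduct (R := R) (M := M) S
  haveI : Module.FinitePresentation S (S ⊗[R] M) := Module.finitePresentation_of_projective S _
  haveI : Module.FinitePresentation R M := by
    obtain ⟨n, f, hf⟩ := Module.Finite.exists_fin' R M
    haveI h1 := finite_baseChange_ker_of_flat S f hf
    have h2 : Module.Finite R (LinearMap.ker f) :=
      Module.Finite.of_finite_tensorProduct_of_faithfullyFlat S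
    exact Module.finitePresentation_of_surjective f hf (Module.Finite.iff_fg.mp h2)
  exact ⟨inferInstance, Module.Flat.projective_of_finitePresentation⟩

end Descent

section AzumayaBaseChange

variable {R : Type*} [CommRing R] (S : Type*) [CommRing S] [Algebra R S]
  (A : Type*) [Ring A] [Algebra R A]

/-- the Azumaya map of `S ⊗ A` is the base change of the Azumaya map of `A` -/
theorem bijective_mulLeftRight_baseChange_iff [Module.Finite R A] [Module.Projective R A] :
    Function.Bijective (AlgHom.mulLeftRight S (S ⊗[R] A)) ↔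
      Function.Bijective (LinearMap.lTensor S (AlgHom.mulLeftRight R A).toLinearMap) := by
  classical
  let opS : S ⊗[R] Aᵐᵒᵖ ≃ₗ[S] (S ⊗[R] A)ᵐᵒᵖ :=
    (LinearEquiv.baseChange R S Aᵐᵒᵖ A (MulOpposite.opLinearEquiv R).symm) ≪≫ₗ
      (MulOpposite.opLinearEquiv S)
  let Ψ : S ⊗[R] (A ⊗[R] Aᵐᵒᵖ) ≃ₗ[S] (S ⊗[R] A) ⊗[S] (S ⊗[R] A)ᵐᵒᵖ :=
    (TensorProduct.AlgebraTensorModule.distribBaseChange R S A Aᵐᵒᵖ) ≪≫ₗ
      (TensorProduct.congr (LinearEquiv.refl S _) opS)
  let T : S ⊗[R] Module.End R A ≃ₗ[S] Module.End S (S ⊗[R] A) :=
    LinearEquiv.ofBijective (LinearMap.tensorProductEnd R S A).toLinearMap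
      (tensorProductEnd_bijective S A)
  have hcomm : ∀ z, AlgHom.mulLeftRight S (S ⊗[R] A) (Ψ z) =
      T (LinearMap.lTensor S (AlgHom.mulLeftRight R A).toLinearMap z) := by
    intro z
    induction z using TensorProduct.induction_on with
    | zero => simp
    | add x y hx hy => simp only [map_add, hx, hy]
    | tmul s y =>
      induction y using TensorProduct.induction_on with
      | zero => simp
      | add y y' hy hy' => simp only [TensorProduct.tmul_add, map_add, hy, hy']
      | tmul a a' =>
        apply TensorProduct.AlgebraTensorModule.ext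
        intro t x
        have h1 : Ψ (s ⊗ₜ[R] (a ⊗ₜ[R] a')) =
            (s ⊗ₜ[R] a) ⊗ₜ[S] MulOpposite.op ((1 : S) ⊗ₜ[R] a'.unop) := by
          simp [Ψ, opS]
        have h2 : T (LinearMap.lTensor S (AlgHom.mulLeftRight R A).toLinearMap
            (s ⊗ₜ[R] (a ⊗ₜ[R] a'))) (t ⊗ₜ[R] x) = (s * t) ⊗ₜ[R] (a * x * a'.unop) := by
          simp only [T, LinearMap.lTensor_tmul, LinearEquiv.ofBijective_apply,
            AlgHom.toLinearMap_apply, tensorProductEnd_tmul_apply, AlgHom.mulLeftRight_apply]
        rw [h1, h2, AlgHom.mulLeftRight_apply]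
        simp [Algebra.TensorProduct.tmul_mul_tmul]
  have h1 : ⇑(AlgHom.mulLeftRight S (S ⊗[R] A)) ∘ ⇑Ψ =
      ⇑T ∘ ⇑(LinearMap.lTensor S (AlgHom.mulLeftRight R A).toLinearMap) := funext hcomm
  constructor
  · intro h
    have h2 : Function.Bijective
        (⇑T ∘ ⇑(LinearMap.lTensor S (AlgHom.mulLeftRight R A).toLinearMap)) := by
      rw [← h1]
      exact h.comp Ψ.bijective
    exact (Function.Bijective.of_comp_iff' T.bijective _).mp h2
  · intro h
    have h2 : Function.Bijective (⇑(AlgHom.mulLeftRight S (S ⊗[R] A)) ∘ ⇑Ψ) := by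
      rw [h1]
      exact T.bijective.comp h
    exact (Function.Bijective.of_comp_iff _ Ψ.bijective).mp h2

/-- base change of an Azumaya algebra is Azumaya -/
theorem isAzumaya_baseChange [IsAzumaya R A] : IsAzumaya S (S ⊗[R] A) := by
  have hbij : Function.Bijective (AlgHom.mulLeftRight S (S ⊗[R] A)) := by
    rw [bijective_mulLeftRight_baseChange_iff]
    have e : A ⊗[R] Aᵐᵒᵖ ≃ₗ[R] Module.End R A :=
      LinearEquiv.ofBijective (AlgHom.mulLeftRight R A).toLinearMap IsAzumaya.bij
    have h := (LinearEquiv.lTensor S
      (LinearEquiv.ofBijective (AlgHom.mulLeftRight R A).toLinearMap IsAzumaya.bij)).bijective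
    exact h
  haveI : Module.FaithfullyFlat R A := faithfullyFlat_of_finite_of_faithful
  haveI : FaithfulSMul S (S ⊗[R] A) := faithfulSMul_of_faithfullyFlat
  exact { bij := hbij }

/-- Azumaya algebras descend along faithfully flat ring maps -/
theorem isAzumaya_of_faithfullyFlat [Module.FaithfullyFlat R S] [IsAzumaya S (S ⊗[R] A)] :
    IsAzumaya R A := by
  obtain ⟨hfin, hproj⟩ := finite_projective_of_faithfullyFlat_baseChange (R := R) S A
  have hbij : Function.Bijective (AlgHom.mulLeftRight R A) := by
    have h1 := (bijective_mulLeftRight_baseChange_iff (R := R) S A).mp (IsAzumaya.bij (R := S) (A := S ⊗[R] A))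
    exact (Module.FaithfullyFlat.lTensor_bijective_iff_bijective R S _).mp h1
  haveI : FaithfulSMul R A := by
    constructor
    intro r r' h
    have hS : Function.Injective (algebraMap R S) := FaithfulSMul.algebraMap_injective R S
    apply hS
    apply FaithfulSMul.eq_of_smul_eq_smul (α := S ⊗[R] A)
    intro z
    induction z using TensorProduct.induction_on with
    | zero => simp
    | add x y hx hy => rw [smul_add, smul_add, hx, hy]
    | tmul s a =>
      rw [algebraMap_smul, algebraMap_smul, ← TensorProduct.tmul_smul, ← TensorProduct.tmul_smul, h]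
  exact { bij := hbij }

end AzumayaBaseChange

end Groth.Agent.Lib.LeadAzumaya
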