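import Groth.Agent.Lib.Helper13KzDescA
import Groth.Agent.Lib.Helper13KzDescB
import Groth.Agent.Lib.Helper19CotBC
import Groth.Agent.Lib.LeadAzumaya
import Groth.Agent.Lib.Helper5KindFlat

/-!
# Faithfully flat descent of Koszul-regular ideals (helper13)
-/

set_option autoImplicit false
set_option linter.style.haveILetI false
universe u

namespace Groth.Agent.Helper13KzDesc

open Groth.Agent.Lib.Helper19.QRegConv Groth.Agent.Helper13KzIdeal Groth.Agent.Lib.Helper5.KzMin
  Groth.Agent.Lib.Helper19.CotBC Groth.Agent.Helper13KzLift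

section conv

variable {R : Type u} [CommRing R] (J : Ideal R)

/-- Koszul-regularity of an ideal from `FG + projective conormal module` and an abstract
Koszul-regularity hypothesis on local coordinate systems (after helper19's
`isLocallyQuasiRegular_of_fg_projective_of_qr`). -/
theorem isKoszulRegularIdeal_of_fg_projective (hFG : J.FG)
    (hproj : Module.Projective (R ⧸ J) J.Cotangent)
    (hK : ∀ (r : ℕ) (μ : Fin r → (J.Cotangent →ₗ[R ⧸ J] R ⧸ J)) (x : Fin r → J) (g c : R),
      (∀ i j, μ i (J.toCotangent (x j)) = if i = j then Ideal.Quotient.mk J g else 0) →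
      (∀ y ∈ J, ∃ l : ℕ, (g * c) ^ l * y ∈ Ideal.span (Set.range fun i => (x i : R))) →
      LCI.IsKoszulRegularSeq (Localization.Away (g * c))
        (List.ofFn fun i => algebraMap R (Localization.Away (g * c)) (x i))) :
    LCI.IsKoszulRegularIdeal J := by
  classical
  rintro ⟨P, hP⟩ hJP
  change J ≤ P at hJP
  haveI : Module.Finite R J := Module.Finite.iff_fg.2 hFG
  haveI : Module.Finite R J.Cotangent :=
    Module.Finite.of_surjective J.toCotangent J.toCotangent_surjective
  haveI : Module.Finite (R ⧸ J) J.Cotangent := Module.Finite.of_restrictScalars_finite R _ _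
  let Pbar := P.map (Ideal.Quotient.mk J)
  haveI : Pbar.IsPrime := Ideal.map_isPrime_of_surjective Ideal.Quotient.mk_surjective
    (by rw [Ideal.mk_ker]; exact hJP)
  obtain ⟨r, α, β, s, hs, h1, h2⟩ := exists_local_coords (A := R ⧸ J) (N := J.Cotangent) Pbar
  obtain ⟨g, rfl⟩ := Ideal.Quotient.mk_surjective s
  have hgP : g ∉ P := fun h => hs (Ideal.mem_map_of_mem _ h)
  choose x hx using fun i : Fin r => Ideal.toCotangent_surjective J (β (Finsupp.single i 1))
  let μ : Fin r → (J.Cotangent →ₗ[R ⧸ J] R ⧸ J) := fun i =>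
    (Finsupp.lapply i : (Fin r →₀ R ⧸ J) →ₗ[R ⧸ J] R ⧸ J) ∘ₗ α
  have hμ : ∀ i j, μ i (J.toCotangent (x j)) =
      if i = j then Ideal.Quotient.mk J g else 0 := by
    intro i j
    change (α (J.toCotangent (x j))) i = _
    rw [hx, h2, Finsupp.smul_apply, Finsupp.single_apply, smul_eq_mul]
    by_cases h : i = j
    · rw [if_pos h, if_pos h.symm, mul_one]
    · rw [if_neg h, if_neg (Ne.symm h), mul_zero]
  have hrel : ∀ y : J, ∃ a : Fin r → R, g * (y : R) - ∑ i, a i * (x i : R) ∈ J ^ 2 := by
    intro y
    choose a ha using fun i => Ideal.Quotient.mk_surjective (α (J.toCotangent y) i)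
    refine ⟨a, ?_⟩
    have h3 : J.toCotangent (g • y - ∑ i, a i • x i) = 0 := by
      rw [map_sub, map_smul, map_sum, ← mk_smul_cot, ← h1, sub_eq_zero]
      conv_lhs => rw [← Finsupp.univ_sum_single (α (J.toCotangent y)), map_sum]
      refine Finset.sum_congr rfl fun i _ => ?_
      rw [← Finsupp.smul_single_one, map_smul, ← hx, ← ha i, mk_smul_cot, map_smul]
    rw [Ideal.toCotangent_eq_zero] at h3
    convert h3 using 1
    rw [Submodule.coe_sub, Submodule.coe_sum]
    simp
  -- Nakayama in the localization
  let φ := algebraMap R (Localization.Away g)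
  let J' : Ideal (Localization.Away g) := J.map φ
  let X' : Ideal (Localization.Away g) := Ideal.span (Set.range fun i => φ (x i))
  have hupow : ∀ l : ℕ, IsUnit (φ (g ^ l)) := fun l =>
    IsLocalization.map_units (Localization.Away g) (⟨g ^ l, l, rfl⟩ : Submonoid.powers g)
  have hJ'fg : J'.FG := hFG.map φ
  have hle : J' ≤ X' ⊔ J' • J' := by
    rw [Ideal.map_le_iff_le_comap]
    intro y hy
    rw [Ideal.mem_comap]
    obtain ⟨a, ha⟩ := hrel ⟨y, hy⟩
    have h4 : φ (g ^ 1) * φ y ∈ X' ⊔ J' • J' := by
      have : φ (g ^ 1) * φ y =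
          ∑ i, φ (a i) * φ (x i) + φ (g * y - ∑ i, a i * (x i : R)) := by
        simp [map_sub, map_sum, map_mul]
      rw [this]
      refine Submodule.add_mem_sup (Ideal.sum_mem _ fun i _ =>
        Ideal.mul_mem_left _ _ (Ideal.subset_span ⟨i, rfl⟩)) ?_
      rw [smul_eq_mul, ← pow_two, ← Ideal.map_pow]
      exact Ideal.mem_map_of_mem _ ha
    exact (Ideal.unit_mul_mem_iff_mem _ (hupow 1)).1 h4
  obtain ⟨t, ht1, ht2⟩ :=
    Submodule.exists_sub_one_mem_and_smul_le_of_fg_of_le_sup hJ'fg le_rfl hle
  obtain ⟨⟨c, ⟨_, k, rfl⟩⟩, hc⟩ := IsLocalization.surj (Submonoid.powers g) t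
  simp only at hc
  have hcP : c ∉ P := by
    intro hcP
    have h5 : φ (c - g ^ k) ∈ J' := by
      rw [map_sub, ← hc]
      have : t * φ (g ^ k) - φ (g ^ k) = (t - 1) * φ (g ^ k) := by ring
      rw [this]
      exact Ideal.mul_mem_right _ _ ht1
    obtain ⟨m, ⟨l, rfl⟩, hm⟩ := (IsLocalization.algebraMap_mem_map_algebraMap_iff
      (Submonoid.powers g) (Localization.Away g) _ _).1 h5
    have h6 : g ^ (l + k) ∈ P := by
      have e : g ^ (l + k) = g ^ l * c - g ^ l * (c - g ^ k) := by ring
      rw [e]
      exact sub_mem (Ideal.mul_mem_left _ _ hcP) (hJP hm)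
    exact hgP (hP.mem_of_pow_mem _ h6)
  have hg₂ : g * c ∉ P := fun h => (hP.mem_or_mem h).elim hgP hcP
  have hgen : ∀ y ∈ J, ∃ l : ℕ, (g * c) ^ l * y ∈ Ideal.span (Set.range fun i => (x i : R)) := by
    intro y hy
    have h7 : t • φ y ∈ X' :=
      ht2 (Submodule.smul_mem_pointwise_smul _ _ _ (Ideal.mem_map_of_mem _ hy))
    have h8 : φ (c * y) ∈ (Ideal.span (Set.range fun i => (x i : R))).map φ := by
      have e0 : (Ideal.span (Set.range fun i => (x i : R))).map φ = X' := by
        rw [Ideal.map_span]
        congr 1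
        ext y
        constructor
        · rintro ⟨_, ⟨i, rfl⟩, rfl⟩; exact ⟨i, rfl⟩
        · rintro ⟨i, rfl⟩; exact ⟨(x i : R), ⟨i, rfl⟩, rfl⟩
      rw [e0, map_mul, ← hc]
      have : t * φ (g ^ k) * φ y = φ (g ^ k) * (t • φ y) := by
        rw [smul_eq_mul]; ring
      rw [this]
      exact Ideal.mul_mem_left _ _ h7
    obtain ⟨m, ⟨l, rfl⟩, hm⟩ := (IsLocalization.algebraMap_mem_map_algebraMap_iff
      (Submonoid.powers g) (Localization.Away g) _ _).1 h8
    refine ⟨l + 1, ?_⟩
    have e : (g * c) ^ (l + 1) * y = (g * c ^ l) * (g ^ l * (c * y)) := by ring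
    rw [e]
    exact Ideal.mul_mem_left _ _ hm
  refine ⟨g * c, hg₂, List.ofFn fun i => algebraMap R (Localization.Away (g * c)) (x i),
    hK r μ x g c hμ hgen, ?_⟩
  rw [← span_eq_of_gen (fun i => (x i).2) hgen]
  exact (ofList_ofFn _).symm

end conv

end Groth.Agent.Helper13KzDesc

namespace Groth.Agent.Helper13KzDesc

open Groth.Agent.Lib.Helper19.QRegConv Groth.Agent.Helper13KzIdeal Groth.Agent.Lib.Helper5.KzMin
  Groth.Agent.Lib.Helper19.CotBC Groth.Agent.Helper13KzLift

section pointwise

variable {A B' : Type u} [CommRing A] [CommRing B'] [Algebra A B'] [Module.Flat A B']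

/-- **Pointwise analysis.** In a flat `A`-algebra `B'` in which `I B'` is generated by a
Koszul-regular sequence, a family of generators of `I B'` coming from `I` and admitting a dual family of
functionals on the conormal module of `I` (up to an element invertible in `B'`) is Koszul-regular. -/
theorem isKoszulRegularSeq_of_dual (I : Ideal A) (r : ℕ)
    (μ : Fin r → (I.Cotangent →ₗ[A ⧸ I] A ⧸ I)) (x : Fin r → I) (g : A)
    (hμ : ∀ i j, μ i (I.toCotangent (x j)) = if i = j then Ideal.Quotient.mk I g else 0)
    (hg : IsUnit (algebraMap A B' g))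
    (hgen : I.map (algebraMap A B') = Ideal.ofList (List.ofFn fun i => algebraMap A B' (x i)))
    (l' : List B') (hl' : LCI.IsKoszulRegularSeq B' l')
    (hl'I : Ideal.ofList l' = I.map (algebraMap A B')) :
    LCI.IsKoszulRegularSeq B' (List.ofFn fun i => algebraMap A B' (x i)) := by
  classical
  by_cases htop : I.map (algebraMap A B') = ⊤
  · exact isKoszulRegularSeq_of_ofList_eq_top _ (hgen.symm.trans htop)
  refine Groth.Agent.Lib.Helper5.KzPerm.isKoszulRegularSeq_of_ofList_eq l' _ hl'
    (hgen.symm.trans hl'I.symm) ?_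
  rw [List.length_ofFn]
  haveI : Nontrivial (B' ⧸ I.map (algebraMap A B')) := Ideal.Quotient.nontrivial_iff.mpr htop
  obtain ⟨-, hext⟩ := cotangent_baseChange (R := A) (R' := B') I
  choose ν hν using fun i => hext (μ i)
  let x' : Fin r → I.map (algebraMap A B') := fun i =>
    ⟨algebraMap A B' (x i), Ideal.mem_map_of_mem _ (x i).2⟩
  have hν' : ∀ i j, ν i ((I.map (algebraMap A B')).toCotangent (x' j)) =
      if i = j then Ideal.Quotient.mk (I.map (algebraMap A B')) (algebraMap A B' g) else 0 := by
    intro i j
    rw [hν i (x j), hμ i j]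
    split_ifs
    · rfl
    · rw [map_zero]
  have hgu : IsUnit (Ideal.Quotient.mk (I.map (algebraMap A B')) (algebraMap A B' g)) :=
    hg.map _
  have hli : LinearIndependent (B' ⧸ I.map (algebraMap A B'))
      (fun j => (I.map (algebraMap A B')).toCotangent (x' j)) := by
    rw [Fintype.linearIndependent_iff]
    intro c hc i
    have h1 := congrArg (ν i) hc
    rw [map_sum, map_zero] at h1
    simp only [map_smul, hν', smul_eq_mul, mul_ite, mul_zero, Finset.sum_ite_eq,
      Finset.mem_univ, if_true] at h1
    exact (hgu.mul_left_eq_zero).1 h1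
  -- the basis given by `l'`
  have hmem : ∀ i : Fin l'.length, l'.get i ∈ I.map (algebraMap A B') := by
    intro i
    rw [← hl'I]
    exact Ideal.subset_span (List.get_mem l' i)
  obtain ⟨b, -⟩ := exists_basis_cotangent (I := I.map (algebraMap A B')) l'.length
    (fun i => ⟨l'.get i, hmem i⟩)
    (by
      have : (List.ofFn fun i : Fin l'.length => l'.get i) = l' := List.ofFn_get l'
      change LCI.IsKoszulRegularSeq B' (List.ofFn fun i : Fin l'.length => l'.get i)
      rw [this]; exact hl')
    (by
      change Ideal.span (Set.range fun i : Fin l'.length => l'.get i) = _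
      rw [Set.range_list_get]
      exact hl'I)
  have := b.card_le_card_of_linearIndependent hli
  simpa using this

end pointwise

end Groth.Agent.Helper13KzDesc

namespace Groth.Agent.Helper13KzDesc

open Groth.Agent.Lib.Helper19.QRegConv Groth.Agent.Helper13KzIdeal Groth.Agent.Lib.Helper5.KzMin
  Groth.Agent.Lib.Helper19.CotBC Groth.Agent.Helper13KzLift Groth.Agent.Lib.Helper5.KindFlat

theorem prime_away {R : Type u} [CommRing R] (g : R) (q : Ideal R) [hq : q.IsPrime] (hg : g ∉ q) :
    (q.map (algebraMap R (Localization.Away g))).IsPrime ∧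
      (q.map (algebraMap R (Localization.Away g))).comap (algebraMap R (Localization.Away g)) = q := by
  have hd : Disjoint (Submonoid.powers g : Set R) ↑q :=
    (Ideal.disjoint_powers_iff_notMem_of_isPrime g).mpr hg
  exact ⟨IsLocalization.isPrime_of_isPrime_disjoint (Submonoid.powers g) _ q hq hd,
    IsLocalization.under_map_of_isPrime_disjoint (Submonoid.powers g) _ hq hd⟩

/-- a Koszul-regular ideal is, around *every* prime, generated by a Koszul-regular sequence of
elements of the ideal -/
theorem exists_list_of_isKoszulRegularIdeal' {R : Type u} [CommRing R] (J : Ideal R)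
    (hJ : LCI.IsKoszulRegularIdeal J) (q : Ideal R) [hq : q.IsPrime] :
    ∃ g : R, g ∉ q ∧ ∃ l : List R,
      LCI.IsKoszulRegularSeq (Localization.Away g) (l.map (algebraMap R (Localization.Away g))) ∧
      J.map (algebraMap R (Localization.Away g)) =
        Ideal.ofList (l.map (algebraMap R (Localization.Away g))) := by
  by_cases hle : J ≤ q
  · obtain ⟨g, hg, l, -, h1, h2⟩ := exists_list_of_isKoszulRegularIdeal J hJ ⟨q, hq⟩ hle
    exact ⟨g, hg, l, h1, h2⟩
  · obtain ⟨y, hyJ, hyq⟩ := SetLike.not_le_iff_exists.1 hle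
    have hu : IsUnit (algebraMap R (Localization.Away y) y) :=
      IsLocalization.Away.algebraMap_isUnit y
    have htop : Ideal.ofList ([y].map (algebraMap R (Localization.Away y))) = ⊤ := by
      rw [eq_top_iff]
      rw [← Ideal.span_singleton_eq_top.2 hu]
      apply Ideal.span_mono
      intro z hz
      rw [Set.mem_singleton_iff] at hz
      subst hz
      simp
    refine ⟨y, hyq, [y], isKoszulRegularSeq_of_ofList_eq_top _ htop, ?_⟩
    rw [htop, eq_top_iff, ← Ideal.span_singleton_eq_top.2 hu, Ideal.span_le]
    intro z hz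
    rw [Set.mem_singleton_iff] at hz
    subst hz
    exact Ideal.mem_map_of_mem _ hyJ

end Groth.Agent.Helper13KzDesc

namespace Groth.Agent.Helper13KzDesc

open Groth.Agent.Lib.Helper19.QRegConv Groth.Agent.Helper13KzIdeal Groth.Agent.Lib.Helper5.KzMin
  Groth.Agent.Lib.Helper19.CotBC Groth.Agent.Helper13KzLift Groth.Agent.Lib.Helper5.KindFlat

section main

variable (A B : Type u) [CommRing A] [CommRing B] [Algebra A B] [Module.FaithfullyFlat A B]

/-- the local step: Koszul-regularity of a local coordinate system descends -/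
theorem isKoszulRegularSeq_away_of_faithfullyFlat (I : Ideal A)
    (h : LCI.IsKoszulRegularIdeal (Ideal.map (algebraMap A B) I))
    (r : ℕ) (μ : Fin r → (I.Cotangent →ₗ[A ⧸ I] A ⧸ I)) (x : Fin r → I) (g c : A)
    (hμ : ∀ i j, μ i (I.toCotangent (x j)) = if i = j then Ideal.Quotient.mk I g else 0)
    (hgen : ∀ y ∈ I, ∃ l : ℕ, (g * c) ^ l * y ∈ Ideal.span (Set.range fun i => (x i : A))) :
    LCI.IsKoszulRegularSeq (Localization.Away (g * c))
      (List.ofFn fun i => algebraMap A (Localization.Away (g * c)) (x i)) := by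
  classical
  apply isKoszulRegularSeq_of_flat_local
  intro 𝔪 h𝔪
  haveI := h𝔪.isPrime
  -- the prime of `A` below `𝔪`
  have ht𝔪 : algebraMap A (Localization.Away (g * c)) (g * c) ∉ 𝔪 := fun hmem =>
    h𝔪.ne_top (Ideal.eq_top_of_isUnit_mem _ hmem (IsLocalization.Away.algebraMap_isUnit (g * c)))
  let p : Ideal A := 𝔪.comap (algebraMap A (Localization.Away (g * c)))
  haveI hp : p.IsPrime := Ideal.comap_isPrime _ _
  have htp : g * c ∉ p := ht𝔪
  -- a prime of `B` above it
  obtain ⟨⟨q, hq⟩, hqp⟩ := PrimeSpectrum.comap_surjective_of_faithfullyFlat (A := A) (B := B) ⟨p, hp⟩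
  have hqp' : q.comap (algebraMap A B) = p := congrArg PrimeSpectrum.asIdeal hqp
  haveI := hq
  have huq : algebraMap A B (g * c) ∉ q := by
    intro hmem
    apply htp
    rw [← hqp']
    exact hmem
  obtain ⟨g', hg'q, l₀, hreg, hgen'⟩ :=
    exists_list_of_isKoszulRegularIdeal' (I.map (algebraMap A B)) h q
  -- the rings
  let Bg := Localization.Away g'
  let u' : Bg := algebraMap B Bg (algebraMap A B (g * c))
  let S' := Localization.Away u'
  haveI : Module.Flat A Bg := inferInstance
  haveI : Module.Flat A S' := Localization.flat (R := A) (S := Bg) _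
  have hu'unit : IsUnit (algebraMap A S' (g * c)) := by
    have : algebraMap A S' (g * c) = algebraMap Bg S' u' := by
      rw [IsScalarTower.algebraMap_apply A Bg S', IsScalarTower.algebraMap_apply A B Bg]
    rw [this]
    exact IsLocalization.Away.algebraMap_isUnit u'
  let ψ : Localization.Away (g * c) →+* S' := IsLocalization.Away.lift (g * c) hu'unit
  letI : Algebra (Localization.Away (g * c)) S' := ψ.toAlgebra
  haveI : IsScalarTower A (Localization.Away (g * c)) S' :=
    IsScalarTower.of_algebraMap_eq fun a => (IsLocalization.Away.lift_eq (g * c) hu'unit a).symm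
  haveI : Module.Flat (Localization.Away (g * c)) S' :=
    (Module.flat_iff_of_isLocalization (Localization.Away (g * c)) (Submonoid.powers (g * c)) S').2
      inferInstance
  refine ⟨S', inferInstance, inferInstance, inferInstance, ?_, ?_⟩
  · -- `𝔪` survives in `S'`
    obtain ⟨hq1, hq1'⟩ := prime_away g' q hg'q
    haveI := hq1
    have hu'q : u' ∉ q.map (algebraMap B Bg) := by
      intro hmem
      apply huq
      rw [← hq1']
      exact hmem
    obtain ⟨hq2, hq2'⟩ := prime_away u' (q.map (algebraMap B Bg)) hu'q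
    let q' : Ideal S' := (q.map (algebraMap B Bg)).map (algebraMap Bg S')
    have hq'A : q'.comap (algebraMap A S') = p := by
      rw [IsScalarTower.algebraMap_eq A Bg S', ← Ideal.comap_comap, hq2',
        IsScalarTower.algebraMap_eq A B Bg, ← Ideal.comap_comap, hq1', hqp']
    have h𝔪' : 𝔪 = q'.comap (algebraMap (Localization.Away (g * c)) S') := by
      rw [← IsLocalization.map_under (Submonoid.powers (g * c)) (Localization.Away (g * c)) 𝔪,
        ← IsLocalization.map_under (Submonoid.powers (g * c)) (Localization.Away (g * c))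
          (q'.comap (algebraMap (Localization.Away (g * c)) S'))]
      congr 1
      change p = (q'.comap (algebraMap (Localization.Away (g * c)) S')).comap
        (algebraMap A (Localization.Away (g * c)))
      rw [Ideal.comap_comap, ← IsScalarTower.algebraMap_eq, hq'A]
    intro htop
    have hle : 𝔪.map (algebraMap (Localization.Away (g * c)) S') ≤ q' := by
      rw [Ideal.map_le_iff_le_comap, ← h𝔪']
    rw [htop, top_le_iff] at hle
    exact hq2.ne_top hle
  · -- Koszul-regularity in `S'`
    have hmap : (List.ofFn fun i => algebraMap A (Localization.Away (g * c)) (x i)).map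
        (algebraMap (Localization.Away (g * c)) S') =
        List.ofFn fun i => algebraMap A S' (x i) := by
      rw [List.map_ofFn]
      congr 1
      funext i
      simp only [Function.comp_apply]
      rw [← IsScalarTower.algebraMap_apply]
    rw [hmap]
    have hgunit : IsUnit (algebraMap A S' g) := by
      rw [map_mul] at hu'unit
      exact isUnit_of_mul_isUnit_left hu'unit
    have hgenS : I.map (algebraMap A S') =
        Ideal.ofList (List.ofFn fun i => algebraMap A S' (x i)) := by
      rw [ofList_ofFn]
      apply le_antisymm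
      · rw [Ideal.map_le_iff_le_comap]
        intro y hy
        obtain ⟨l, hl⟩ := hgen y hy
        rw [Ideal.mem_comap]
        have h1 := Ideal.mem_map_of_mem (algebraMap A S') hl
        rw [map_mul, map_pow] at h1
        have h2 := (Ideal.unit_mul_mem_iff_mem _ (hu'unit.pow l)).1 h1
        have e : (Ideal.span (Set.range fun i => (x i : A))).map (algebraMap A S') =
            Ideal.span (Set.range fun i => algebraMap A S' (x i)) := by
          rw [Ideal.map_span]
          congr 1
          ext z
          constructor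
          · rintro ⟨_, ⟨i, rfl⟩, rfl⟩; exact ⟨i, rfl⟩
          · rintro ⟨i, rfl⟩; exact ⟨(x i : A), ⟨i, rfl⟩, rfl⟩
        rw [← e]
        exact h2
      · rw [Ideal.span_le]
        rintro _ ⟨i, rfl⟩
        exact Ideal.mem_map_of_mem _ (x i).2
    -- the Koszul-regular generators of `I S'`
    have hflat : (algebraMap Bg S').Flat := RingHom.flat_algebraMap_iff.2 inferInstance
    have hreg' := isKoszulRegularSeq_map_of_flat (algebraMap Bg S') hflat _ hreg
    have hI' : Ideal.ofList ((l₀.map (algebraMap B Bg)).map (algebraMap Bg S')) =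
        I.map (algebraMap A S') := by
      rw [← Ideal.map_ofList, ← hgen', Ideal.map_map, Ideal.map_map,
        IsScalarTower.algebraMap_eq A Bg S', IsScalarTower.algebraMap_eq A B Bg, RingHom.comp_assoc]
    exact isKoszulRegularSeq_of_dual I r μ x g hμ hgunit hgenS _ hreg' hI'

end main

end Groth.Agent.Helper13KzDesc

namespace Groth.Agent.Helper13KzDesc

open Groth.Agent.Lib.Helper19.QRegConv Groth.Agent.Helper13KzIdeal Groth.Agent.Lib.Helper5.KzMin
  Groth.Agent.Lib.Helper19.CotBC Groth.Agent.Helper13KzLift Groth.Agent.Lib.Helper5.KindFlat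

/-- **Faithfully flat descent of Koszul-regular ideals.** -/
theorem isKoszulRegularIdeal_of_faithfullyFlat (A B : Type u) [CommRing A] [CommRing B]
    [Algebra A B] [Module.FaithfullyFlat A B] (I : Ideal A)
    (h : LCI.IsKoszulRegularIdeal (Ideal.map (algebraMap A B) I)) :
    LCI.IsKoszulRegularIdeal I := by
  classical
  have hFG' := fg_of_isKoszulRegularIdeal h
  have hFG : I.FG := Ideal.FG.of_FG_map_of_faithfullyFlat hFG'
  haveI hproj' := projective_of_isKoszulRegularIdeal h
  haveI : Module.Finite B (I.map (algebraMap A B)) := Module.Finite.iff_fg.2 hFG'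
  haveI : Module.Finite B (I.map (algebraMap A B)).Cotangent :=
    Module.Finite.of_surjective (I.map (algebraMap A B)).toCotangent
      (I.map (algebraMap A B)).toCotangent_surjective
  haveI : Module.Finite (B ⧸ I.map (algebraMap A B)) (I.map (algebraMap A B)).Cotangent :=
    Module.Finite.of_restrictScalars_finite B _ _
  obtain ⟨⟨e⟩, -⟩ := cotangent_baseChange (R := A) (R' := B) I
  haveI := faithfullyFlat_quotient (R := A) (R' := B) I
  haveI : Module.Finite (B ⧸ I.map (algebraMap A B))
      (TensorProduct (A ⧸ I) (B ⧸ I.map (algebraMap A B)) I.Cotangent) :=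
    Module.Finite.equiv e.symm
  haveI : Module.Projective (B ⧸ I.map (algebraMap A B))
      (TensorProduct (A ⧸ I) (B ⧸ I.map (algebraMap A B)) I.Cotangent) :=
    Module.Projective.of_equiv e.symm
  have hproj : Module.Projective (A ⧸ I) I.Cotangent :=
    (Groth.Agent.Lib.LeadAzumaya.finite_projective_of_faithfullyFlat_baseChange
      (B ⧸ I.map (algebraMap A B)) I.Cotangent).2
  refine isKoszulRegularIdeal_of_fg_projective I hFG hproj ?_
  intro r μ x g c hμ hgen
  exact isKoszulRegularSeq_away_of_faithfullyFlat A B I h r μ x g c hμ hgen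

end Groth.Agent.Helper13KzDesc
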