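import Groth.Agent.Lib.Helper13LciSmD
import Groth.Agent.Lib.Helper12FpqcCover
import Groth.Agent.Lib.Helper5LciDesc
import Groth.Agent.Lib.Helper13KzDescC

/-!
# Descent of local complete intersection morphisms along flat surjective open maps (helper13)
-/

set_option autoImplicit false
set_option linter.style.haveILetI false
universe u

open AlgebraicGeometry CategoryTheory CategoryTheory.Limits TopologicalSpace

namespace Groth.Agent.Helper13EtDesc

open Groth.Agent.Lib.Helper5.LciLocal

theorem krDescent : Groth.Agent.Lib.Helper5.LciDesc.KRDescent.{u} := by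
  intro A B _ _ _ _ I hI
  exact Groth.Agent.Helper13KzDesc.isKoszulRegularIdeal_of_faithfullyFlat A B I hI

/-- the fpqc cover given by one flat surjective open map -/
noncomputable def openCov {Y Y' : Scheme.{u}} (g : Y' ⟶ Y) [Flat g] [Surjective g]
    (hopen : IsOpenMap g) : Scheme.Cover.{u} Scheme.fpqcPrecoverage Y :=
  haveI : QuasiCompactCover (Scheme.Hom.cover.{u} (P := @Flat) g inferInstance).toPreZeroHypercover :=
    QuasiCompactCover.of_isOpenMap (fun _ => hopen)
  (Scheme.Cover.ofQuasiCompactCover (Scheme.Hom.cover.{u} (P := @Flat) g inferInstance) :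
    Scheme.Cover.{u} (Scheme.propQCPrecoverage @Flat) Y)

/-- **descent of lci morphisms along a flat surjective open base change.** -/
theorem lciMor_of_flat_surjective_open {X Y X' Y' : Scheme.{u}} (f : X ⟶ Y) (g : Y' ⟶ Y)
    [Flat g] [Surjective g] (hopen : IsOpenMap g)
    (f' : X' ⟶ Y') (g' : X' ⟶ X) (hsq : IsPullback g' f' f g) (hf' : LciMor f') : LciMor f := by
  refine Groth.Agent.Lib.Helper12.of_fpqcCover (P := LciMor)
    (Groth.Agent.Lib.Helper5.LciDesc.descendsAlong krDescent) f (openCov g hopen) (fun i => ?_)
  change LciMor (pullback.snd f g)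
  have e := hsq.isoPullback_inv_snd
  rw [← e]
  exact (MorphismProperty.cancel_left_of_respectsIso LciMor _ _).2 hf'

end Groth.Agent.Helper13EtDesc
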