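import Groth.Agent.Lib.Helper13EtDescA

/-!
# Pointwise descent of regular immersions along flat open (not necessarily surjective) maps
(helper13)
-/

set_option autoImplicit false
set_option linter.style.haveILetI false
universe u

open AlgebraicGeometry CategoryTheory CategoryTheory.Limits TopologicalSpace

namespace Groth.Agent.Helper13EtDesc

open Groth.Agent.Lib.Helper5.ImmBC Groth.Agent.Lib.Helper5.KindFlat Groth.Agent.Helper13H1
  Groth.Agent.Helper13KzSch

/-- an affine open neighbourhood, inside a given open set, over which an immersion is a closed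
immersion -/
theorem exists_affine_isClosedImmersion_le {Y X : Scheme.{u}} (i : Y ⟶ X) [IsImmersion i] (z : Y)
    (O : X.Opens) (hz : i z ∈ O) :
    ∃ U : X.Opens, IsAffineOpen U ∧ i z ∈ U ∧ U ≤ O ∧ IsClosedImmersion (i ∣_ U) := by
  have hmem : i z ∈ ((i.coborderRange ⊓ O : X.Opens) : Set X) :=
    ⟨subset_coborder ⟨z, rfl⟩, hz⟩
  obtain ⟨_, ⟨U, hU, rfl⟩, hzU, hle⟩ :=
    X.isBasis_affineOpens.exists_subset_of_mem_open hmem (i.coborderRange ⊓ O).2
  exact ⟨U, hU, hzU, fun x hx => (hle hx).2,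
    Groth.Agent.Helper13RL.isClosedImmersion_restrict_of_le_coborder i U
      (fun x hx => (hle hx).1)⟩

/-- a flat open map is dominated, over an affine open contained in its image, by a faithfully
flat map of rings -/
theorem exists_affine_faithfullyFlat_of_le_range {X X' : Scheme.{u}} (g : X' ⟶ X) [Flat g]
    (hopen : IsOpenMap g) {U : X.Opens} (hU : IsAffineOpen U)
    (hUr : (U : Set X) ⊆ Set.range g) :
    ∃ (T : Scheme.{u}) (q : T ⟶ X') (_ : IsAffine T) (_ : Flat q) (e : ⊤ ≤ (q ≫ g) ⁻¹ᵁ U),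
      ((q ≫ g).appLE U ⊤ e).hom.FaithfullyFlat := by
  obtain ⟨V, hVc, hVU⟩ := hopen.exists_opens_image_eq_of_prespectralSpace g.continuous
    (fun x hx => hUr hx) U.2 hU.isCompact
  haveI : CompactSpace ((V : X'.Opens) : Scheme.{u}) := isCompact_iff_compactSpace.mp hVc
  obtain ⟨T, p, hsurj, hloc, hT⟩ :=
    Scheme.exists_hom_isAffine_of_isZariskiLocalAtSource @IsLocalIso ((V : X'.Opens) : Scheme)
  haveI : Flat p := IsLocalIso.le_of_isZariskiLocalAtSource @Flat _ _ p hloc
  have hmem : ∀ v : ↥((V : X'.Opens) : Scheme.{u}), g ((Scheme.Opens.ι V) v) ∈ U := by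
    intro v
    have : g ((Scheme.Opens.ι V) v) ∈ g '' (V : Set X') := ⟨_, v.2, rfl⟩
    rw [hVU] at this
    exact this
  have e : ⊤ ≤ ((p ≫ (Scheme.Opens.ι V)) ≫ g) ⁻¹ᵁ U := by
    intro t _
    change g ((Scheme.Opens.ι V) (p t)) ∈ U
    exact hmem _
  refine ⟨T, p ≫ (Scheme.Opens.ι V), hT, inferInstance, e, ?_⟩
  rw [RingHom.FaithfullyFlat.iff_flat_and_comap_surjective]
  refine ⟨Scheme.Hom.flat_appLE _ hU (isAffineOpen_top T) e, fun 𝔭 => ?_⟩
  have hx : hU.fromSpec 𝔭 ∈ U := by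
    have := hU.range_fromSpec
    rw [← SetLike.mem_coe, ← this]
    exact ⟨_, rfl⟩
  have hx2 : hU.fromSpec 𝔭 ∈ g '' (V : Set X') := by rw [hVU]; exact hx
  obtain ⟨x', hx'V, hx'⟩ := hx2
  obtain ⟨t, ht⟩ := hsurj.surj ⟨x', hx'V⟩
  have htx : ((p ≫ (Scheme.Opens.ι V)) ≫ g) t = hU.fromSpec 𝔭 := by
    change g ((Scheme.Opens.ι V) (p t)) = _
    rw [ht]
    exact hx'
  refine ⟨(isAffineOpen_top T).primeIdealOf ⟨t, trivial⟩, ?_⟩
  have h1 := IsAffineOpen.comap_primeIdealOf_appLE (f := (p ≫ (Scheme.Opens.ι V)) ≫ g) (x := t) U hU ⊤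
    (isAffineOpen_top T) e trivial
  have h2 : hU.primeIdealOf ⟨((p ≫ (Scheme.Opens.ι V)) ≫ g) t, e trivial⟩ = 𝔭 := by
    have h3 : (⟨((p ≫ (Scheme.Opens.ι V)) ≫ g) t, e trivial⟩ : U) = hU.isoSpec.inv 𝔭 :=
      Subtype.ext htx
    rw [h3]
    change hU.isoSpec.hom (hU.isoSpec.inv 𝔭) = 𝔭
    rw [← Scheme.Hom.comp_apply, Iso.inv_hom_id]
    rfl
  rw [h1, h2]

/-- **pointwise descent of Koszul-regular immersions along a flat open map**: `i` is
Koszul-regular at every point whose image lies in the image of `g`. -/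
theorem isRegularImmersionAt_koszul_of_flat_open {X Y X' Y' : Scheme.{u}} (i : Y ⟶ X)
    [IsImmersion i] (g : X' ⟶ X) [Flat g] (hopen : IsOpenMap g)
    (i' : Y' ⟶ X') (g' : Y' ⟶ Y) (hsq : IsPullback g' i' i g)
    (hi' : ∀ z' : Y', RegImm.IsRegularImmersionAt .koszul i' z') (z : Y)
    (hz : i z ∈ Set.range g) :
    RegImm.IsRegularImmersionAt .koszul i z := by
  obtain ⟨U, hU, hzU, hUr, hcl⟩ := exists_affine_isClosedImmersion_le i z
    ⟨Set.range g, hopen.isOpen_range⟩ hz
  haveI := hcl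
  obtain ⟨T, q, hT, hq, e, hff⟩ := exists_affine_faithfullyFlat_of_le_range g hopen hU hUr
  haveI := hT
  haveI := hq
  have H : IsPullback (pullback.fst i' q ≫ g') (pullback.snd i' q) i (q ≫ g) :=
    (IsPullback.of_hasPullback i' q).paste_horiz hsq
  have hreg : ∀ w : ↥(pullback i' q), RegImm.IsRegularImmersionAt .koszul (pullback.snd i' q) w :=
    fun w => isRegularImmersionAt_flat_baseChange .koszul (IsPullback.of_hasPullback i' q) w (hi' _)
  obtain ⟨hclT, hkerT⟩ := restrict_baseChange H hU (isAffineOpen_top T) e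
  haveI := hclT
  have hKR := isKoszulRegularIdeal_ker_of_isRegularImmersionAt (pullback.snd i' q)
    (isAffineOpen_top T) (fun w _ => hreg w)
  rw [hkerT] at hKR
  algebraize [((q ≫ g).appLE U ⊤ e).hom]
  haveI : Module.FaithfullyFlat Γ(X, U) Γ(T, ⊤) := by
    rw [← RingHom.faithfullyFlat_algebraMap_iff]
    exact hff
  have hKR' : LCI.IsKoszulRegularIdeal (RingHom.ker (i.app U).hom) :=
    Groth.Agent.Helper13KzDesc.isKoszulRegularIdeal_of_faithfullyFlat Γ(X, U) Γ(T, ⊤) _ hKR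
  exact isRegularImmersionAt_of_isKoszulRegularIdeal_ker i hU hKR' z hzU

/-- **pointwise descent of `H_1`-regular and quasi-regular immersions along a flat open map** -/
theorem isRegularImmersionAt_h1q_of_flat_open (k : RegImm.Kind) (hk : k = .h1 ∨ k = .quasi)
    {X Y X' Y' : Scheme.{u}} (i : Y ⟶ X) [IsImmersion i]
    (g : X' ⟶ X) [Flat g] (hopen : IsOpenMap g)
    (i' : Y' ⟶ X') (g' : Y' ⟶ Y) (hsq : IsPullback g' i' i g)
    (hi' : ∀ z' : Y', RegImm.IsRegularImmersionAt k i' z') (z : Y)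
    (hz : i z ∈ Set.range g) :
    RegImm.IsRegularImmersionAt k i z := by
  obtain ⟨U, hU, hzU, hUr, hcl⟩ := exists_affine_isClosedImmersion_le i z
    ⟨Set.range g, hopen.isOpen_range⟩ hz
  haveI := hcl
  obtain ⟨T, q, hT, hq, e, hff⟩ := exists_affine_faithfullyFlat_of_le_range g hopen hU hUr
  haveI := hT
  haveI := hq
  have H : IsPullback (pullback.fst i' q ≫ g') (pullback.snd i' q) i (q ≫ g) :=
    (IsPullback.of_hasPullback i' q).paste_horiz hsq
  have hreg : ∀ w : ↥(pullback i' q), RegImm.IsRegularImmersionAt k (pullback.snd i' q) w :=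
    fun w => isRegularImmersionAt_flat_baseChange k (IsPullback.of_hasPullback i' q) w (hi' _)
  obtain ⟨hclT, hkerT⟩ := restrict_baseChange H hU (isAffineOpen_top T) e
  haveI := hclT
  have hKR := ki_ker_of_isRegularImmersionAt k hk (pullback.snd i' q)
    (isAffineOpen_top T) (fun w _ => hreg w)
  rw [hkerT] at hKR
  algebraize [((q ≫ g).appLE U ⊤ e).hom]
  haveI : Module.FaithfullyFlat Γ(X, U) Γ(T, ⊤) := by
    rw [← RingHom.faithfullyFlat_algebraMap_iff]
    exact hff
  have hKR' : KI k (RingHom.ker (i.app U).hom) :=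
    ki_of_faithfullyFlat k hk Γ(X, U) Γ(T, ⊤) _ hKR
  exact isRegularImmersionAt_of_ki_ker k hk i hU hKR' z hzU

/-- all three kinds -/
theorem isRegularImmersionAt_of_flat_open (k : RegImm.Kind) (hk : k ≠ .regular)
    {X Y X' Y' : Scheme.{u}} (i : Y ⟶ X) [IsImmersion i]
    (g : X' ⟶ X) [Flat g] (hopen : IsOpenMap g)
    (i' : Y' ⟶ X') (g' : Y' ⟶ Y) (hsq : IsPullback g' i' i g)
    (hi' : ∀ z' : Y', RegImm.IsRegularImmersionAt k i' z') (z : Y)
    (hz : i z ∈ Set.range g) :
    RegImm.IsRegularImmersionAt k i z := by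
  cases k with
  | regular => exact absurd rfl hk
  | koszul => exact isRegularImmersionAt_koszul_of_flat_open i g hopen i' g' hsq hi' z hz
  | h1 => exact isRegularImmersionAt_h1q_of_flat_open .h1 (Or.inl rfl) i g hopen i' g' hsq hi' z hz
  | quasi =>
    exact isRegularImmersionAt_h1q_of_flat_open .quasi (Or.inr rfl) i g hopen i' g' hsq hi' z hz

end Groth.Agent.Helper13EtDesc
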