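import Mathlib

/-!
# eta-etale morphisms and `p^n Ω` (helper13, for S14383)

`part1`, `part2`: the two halves of S14383.  Key steps: `exists_pow_smul_kaehler_eq_zero`
(localisation of Kaehler differentials), `formallyEtale_of_rank` (Jacobi--Zariski + rank count),
`smooth_data` (smooth of relative dimension `d` over a field, ring side), `etale_of_killed`.
-/

set_option autoImplicit false
set_option linter.style.haveILetI false
universe u
open IsLocalRing TensorProduct KaehlerDifferential AlgebraicGeometry CategoryTheory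

namespace Groth.Agent.Helper13EtaEtale

section Part1

/-- `p = u ϖ^e` with `e ≥ 1` in a mixed characteristic DVR -/
theorem exists_p_eq (V : Type u) [CommRing V] [IsDomain V] [IsDiscreteValuationRing V] [CharZero V]
    (ϖ : V) (hϖ : Irreducible ϖ) (p : ℕ) [Fact p.Prime] [CharP (ResidueField V) p] :
    ∃ (u : Vˣ) (e : ℕ), 1 ≤ e ∧ (p : V) = u * ϖ ^ e := by
  have hp0 : (p : V) ≠ 0 := Nat.cast_ne_zero.mpr (Fact.out : p.Prime).ne_zero
  obtain ⟨e, u, hu⟩ := IsDiscreteValuationRing.eq_unit_mul_pow_irreducible hp0 hϖ
  refine ⟨u, e, ?_, hu⟩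
  by_contra he
  have he0 : e = 0 := by omega
  rw [he0, pow_zero, mul_one] at hu
  have h1 : residue V (p : V) = 0 := by
    rw [map_natCast]
    exact CharP.cast_eq_zero _ p
  rw [residue_eq_zero_iff, hu] at h1
  exact (mem_maximalIdeal _).mp h1 u.isUnit

variable {A R : Type u} [CommRing A] [CommRing R] [Algebra A R]

/-- a finite module whose localization away from `x` vanishes is killed by a power of `x` -/
theorem exists_pow_smul_eq_zero {M : Type u} [AddCommGroup M] [Module R M] [Module.Finite R M]
    (x : R) (h : ∀ m : M, ∃ k : ℕ, x ^ k • m = 0) : ∃ k : ℕ, ∀ m : M, x ^ k • m = 0 := by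
  obtain ⟨n, s, hs⟩ := Module.Finite.exists_fin (R := R) (M := M)
  choose k hk using fun i => h (s i)
  refine ⟨Finset.univ.sup k, fun m => ?_⟩
  have hm : m ∈ Submodule.span R (Set.range s) := by rw [hs]; trivial
  induction hm using Submodule.span_induction with
  | mem y hy =>
    obtain ⟨i, rfl⟩ := hy
    have hle : k i ≤ Finset.univ.sup k := Finset.le_sup (Finset.mem_univ i)
    obtain ⟨j, hj⟩ := Nat.exists_eq_add_of_le hle
    rw [hj, pow_add, mul_comm, mul_smul, hk i, smul_zero]
  | zero => simp
  | add y z _ _ hy hz => rw [smul_add, hy, hz, add_zero]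
  | smul r y _ hy => rw [smul_comm, hy, smul_zero]

end Part1

section Part2

variable {A R : Type u} [CommRing A] [CommRing R] [Algebra A R]

theorem exists_pow_smul_kaehler_eq_zero [Algebra.FiniteType A R] (x : R) (R' : Type u)
    [CommRing R'] [Algebra R R'] [Algebra A R'] [IsScalarTower A R R'] [IsLocalization.Away x R']
    [Subsingleton Ω[R'⁄A]] : ∃ k : ℕ, ∀ ω : Ω[R⁄A], x ^ k • ω = 0 := by
  apply exists_pow_smul_eq_zero
  intro ω
  have h0 : map A A R R' ω = 0 := Subsingleton.elim _ _
  obtain ⟨⟨s, k, rfl⟩, hs⟩ :=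
    (IsLocalizedModule.eq_zero_iff (Submonoid.powers x) (map A A R R')).mp h0
  exact ⟨k, hs⟩

/-- converse: if a power of `x` kills `Ω[R⁄A]` then the differentials of `R[1/x]` vanish -/
theorem subsingleton_kaehler_of_pow_smul_eq_zero (x : R) (R' : Type u)
    [CommRing R'] [Algebra R R'] [Algebra A R'] [IsScalarTower A R R'] [IsLocalization.Away x R']
    (k : ℕ) (hk : ∀ ω : Ω[R⁄A], x ^ k • ω = 0) : Subsingleton Ω[R'⁄A] := by
  refine ⟨fun y z => ?_⟩
  have h0 : ∀ w : Ω[R'⁄A], w = 0 := by
    intro w
    obtain ⟨⟨ω, s⟩, hw⟩ := IsLocalizedModule.surj (Submonoid.powers x) (map A A R R') w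
    have h1 : map A A R R' ω = 0 := by
      rw [IsLocalizedModule.eq_zero_iff (Submonoid.powers x)]
      exact ⟨⟨x ^ k, k, rfl⟩, hk ω⟩
    rw [h1] at hw
    have hu := IsLocalizedModule.map_units (map A A R R') s
    refine ((Module.End.isUnit_iff _).mp hu).injective ?_
    rw [map_zero, Module.algebraMap_end_apply]
    exact hw
  rw [h0 y, h0 z]

end Part2

section Part3

theorem part1 (V : Type u) [CommRing V] [IsDomain V] [IsDiscreteValuationRing V] [CharZero V]
    (ϖ : V) (hϖ : Irreducible ϖ) (p : ℕ) [Fact p.Prime] [CharP (IsLocalRing.ResidueField V) p]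
    (A : Type u) [CommRing A] [Algebra V A]
    (R : Type u) [CommRing R] [Algebra V R] [Algebra.FiniteType V R] [Algebra A R] [IsScalarTower V A R]
    (a : R) (hsup : Ideal.span {a} ⊔ Ideal.span {algebraMap V R ϖ} = ⊤)
    (hEt : ((algebraMap R (Localization.Away (a * algebraMap V R ϖ))).comp (algebraMap A R)).Etale) :
    ∃ n : ℕ, Ideal.span {((p : R)) ^ n} • (⊤ : Submodule R (Ω[R⁄A])) ≤
        Ideal.span {algebraMap V R ϖ * (p : R) ^ n} • (⊤ : Submodule R (Ω[R⁄A])) := by
  obtain ⟨u, e, he, hp⟩ := exists_p_eq V ϖ hϖ p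
  haveI : Algebra.FiniteType A R := Algebra.FiniteType.of_restrictScalars_finiteType V A R
  rw [← IsScalarTower.algebraMap_eq A R (Localization.Away (a * algebraMap V R ϖ)),
    RingHom.etale_algebraMap] at hEt
  haveI : Subsingleton Ω[Localization.Away (a * algebraMap V R ϖ)⁄A] := inferInstance
  obtain ⟨m, hm⟩ := exists_pow_smul_kaehler_eq_zero (A := A) (a * algebraMap V R ϖ)
    (Localization.Away (a * algebraMap V R ϖ))
  refine ⟨m, ?_⟩
  -- `p = u ϖ^e` in `R`
  have hpR : (p : R) = algebraMap V R u * algebraMap V R ϖ ^ e := by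
    rw [← map_pow, ← map_mul, ← hp, map_natCast]
  have hkill : ∀ ω : Ω[R⁄A], (a ^ m * (p : R) ^ m) • ω = 0 := by
    intro ω
    obtain ⟨j, hj⟩ := Nat.exists_eq_add_of_le (Nat.le_mul_of_pos_left m he)
    have : a ^ m * (p : R) ^ m =
        (algebraMap V R u ^ m * algebraMap V R ϖ ^ j) * (a * algebraMap V R ϖ) ^ m := by
      rw [hpR, mul_pow, ← pow_mul, hj, pow_add, mul_pow]
      ring
    rw [this, mul_smul, hm, smul_zero]
  have hcop : IsCoprime (a ^ m) (algebraMap V R ϖ) := by
    have h1 : IsCoprime a (algebraMap V R ϖ) := by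
      rw [← Ideal.isCoprime_span_singleton_iff, Ideal.isCoprime_iff_sup_eq]
      exact hsup
    exact h1.pow_left
  obtain ⟨r', s', h1⟩ := hcop
  rw [Submodule.ideal_span_singleton_smul, Submodule.ideal_span_singleton_smul]
  rintro x hx
  obtain ⟨ω, -, rfl⟩ := (Submodule.mem_smul_pointwise_iff_exists _ _ _).mp hx
  rw [Submodule.mem_smul_pointwise_iff_exists]
  refine ⟨s' • ω, trivial, ?_⟩
  have h2 : (p : R) ^ m • ω = (r' * a ^ m + s' * algebraMap V R ϖ) • ((p : R) ^ m • ω) := by
    rw [h1, one_smul]
  rw [h2, add_smul, mul_smul r', ← mul_smul (a ^ m), hkill, smul_zero, zero_add, ← mul_smul,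
    ← mul_smul]
  congr 1
  ring

end Part3

section Part4

/-- A surjection between finite projective modules of the same rank is injective.
(copy of helper24's `Helper24OT.injective_of_surjective_of_rankAtStalk`, to avoid a heavy import) -/
theorem injective_of_surjective_of_rankAtStalk {R : Type u} [CommRing R]
    {P Q : Type u} [AddCommGroup P] [Module R P]
    [AddCommGroup Q] [Module R Q] [Module.Finite R P] [Module.Projective R P]
    [Module.Finite R Q] [Module.Projective R Q] (f : P →ₗ[R] Q) (hf : Function.Surjective f)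
    (hr : ∀ q : PrimeSpectrum R, Module.rankAtStalk P q = Module.rankAtStalk Q q) :
    Function.Injective f := by
  obtain ⟨s, hs⟩ := Module.projective_lifting_property f LinearMap.id hf
  have hfs : ∀ y, f (s y) = y := fun y => congrArg (fun g : Q →ₗ[R] Q => g y) hs
  let K := LinearMap.ker f
  let π : P →ₗ[R] K := (LinearMap.id - s ∘ₗ f).codRestrict K (by
    intro x
    rw [LinearMap.mem_ker, LinearMap.sub_apply, map_sub, LinearMap.id_apply, LinearMap.comp_apply,
      hfs, sub_self])
  have hπK : π ∘ₗ K.subtype = LinearMap.id := by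
    apply LinearMap.ext
    intro k
    apply Subtype.ext
    change (k : P) - s (f k) = k
    rw [LinearMap.mem_ker.mp k.2, map_zero, sub_zero]
  haveI : Module.Finite R K := Module.Finite.of_surjective π
    (fun k => ⟨k, congrArg (fun g : K →ₗ[R] K => g k) hπK⟩)
  haveI : Module.Projective R K := Module.Projective.of_split _ _ hπK
  let e : P ≃ₗ[R] Q × K :=
    { toFun := fun x => (f x, π x)
      map_add' := fun x y => by simp
      map_smul' := fun c x => by simp
      invFun := fun yk => s yk.1 + yk.2
      left_inv := fun x => by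
        change s (f x) + (x - s (f x)) = x
        abel
      right_inv := fun yk => by
        apply Prod.ext
        · change f (s yk.1 + yk.2) = yk.1
          rw [map_add, hfs, LinearMap.mem_ker.mp yk.2.2, add_zero]
        · apply Subtype.ext
          change (s yk.1 + (yk.2 : P)) - s (f (s yk.1 + yk.2)) = yk.2
          rw [map_add, hfs, LinearMap.mem_ker.mp yk.2.2, add_zero]
          abel }
  have h1 : Module.rankAtStalk (R := R) K = 0 := by
    funext q
    have h2 := congrFun (Module.rankAtStalk_prod (R := R) Q K) q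
    rw [← Module.rankAtStalk_eq_of_equiv e, Pi.add_apply, hr q] at h2
    simpa using h2
  haveI := Module.rankAtStalk_eq_zero_iff_subsingleton.mp h1
  rw [← LinearMap.ker_eq_bot]
  exact Submodule.eq_bot_of_subsingleton

/-- an unramified map between algebras with projective differentials of the same constant rank over
`K`, the target formally smooth over `K`, is formally etale -/
theorem formallyEtale_of_rank {K B C : Type u} [CommRing K] [CommRing B] [CommRing C]
    [Algebra K B] [Algebra K C] [Algebra B C] [IsScalarTower K B C]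
    [Algebra.FormallySmooth K C]
    [Module.Finite B Ω[B⁄K]] [Module.Projective B Ω[B⁄K]] [Module.Finite C Ω[C⁄K]]
    (d : ℕ) (hB : ∀ q : PrimeSpectrum B, Module.rankAtStalk Ω[B⁄K] q = d)
    (hC : ∀ q : PrimeSpectrum C, Module.rankAtStalk Ω[C⁄K] q = d)
    [Subsingleton Ω[C⁄B]] : Algebra.FormallyEtale B C := by
  refine ⟨inferInstance, ?_⟩
  have hsurj : Function.Surjective (mapBaseChange K B C) := by
    intro y
    have h1 : map K B C C y = 0 := Subsingleton.elim _ _
    exact (KaehlerDifferential.exact_mapBaseChange_map K B C y).mp h1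
  have hinj : Function.Injective (mapBaseChange K B C) := by
    apply injective_of_surjective_of_rankAtStalk _ hsurj
    intro q
    rw [Module.rankAtStalk_baseChange, hB, hC]
  have hδ : ∀ x, Algebra.H1Cotangent.δ K B C x = 0 := by
    intro x
    apply hinj
    rw [map_zero]
    exact (Algebra.H1Cotangent.exact_δ_mapBaseChange K B C _).mpr ⟨x, rfl⟩
  refine ⟨fun x y => ?_⟩
  have h0 : ∀ z : Algebra.H1Cotangent B C, z = 0 := by
    intro z
    obtain ⟨w, rfl⟩ := (Algebra.H1Cotangent.exact_map_δ K B C z).mp (hδ z)
    rw [Subsingleton.elim w 0, map_zero]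
  rw [h0 x, h0 y]

end Part4

section Part5

/-- the algebra data of a morphism `Spec B → Spec K` smooth of relative dimension `d` -/
theorem smooth_data {K B : Type u} [CommRing K] [CommRing B] [Algebra K B] (d : ℕ)
    (h : SmoothOfRelativeDimension d (Spec.map (CommRingCat.ofHom (algebraMap K B)))) :
    Algebra.Smooth K B ∧ ∀ q : PrimeSpectrum B, Module.rankAtStalk Ω[B⁄K] q = d := by
  have hsm : Algebra.Smooth K B := by
    have h1 : Smooth (Spec.map (CommRingCat.ofHom (algebraMap K B))) :=
      SmoothOfRelativeDimension.smooth d _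
    have h2 := (HasRingHomProperty.Spec_iff (P := @Smooth)).mp h1
    exact RingHom.smooth_algebraMap.mp h2
  refine ⟨hsm, fun q => ?_⟩
  obtain ⟨s, hs, hP⟩ := (HasRingHomProperty.Spec_iff (P := @SmoothOfRelativeDimension d)).mp h
  -- an element of `s` outside `q`
  obtain ⟨t, hts, htq⟩ : ∃ t ∈ s, t ∉ q.asIdeal := by
    by_contra hcon
    push Not at hcon
    have : Ideal.span s ≤ q.asIdeal := Ideal.span_le.mpr hcon
    rw [hs] at this
    exact q.2.ne_top (top_le_iff.mp this)
  have h3 := hP t hts
  rw [CommRingCat.hom_ofHom, ← IsScalarTower.algebraMap_eq K B (Localization.Away t),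
    RingHom.isStandardSmoothOfRelativeDimension_algebraMap] at h3
  haveI := h3
  haveI : Algebra.IsStandardSmooth K (Localization.Away t) := h3.isStandardSmooth
  -- the prime of the localization over `q`
  have hdisj : Disjoint (Submonoid.powers t : Set B) (q.asIdeal : Set B) := by
    rw [Set.disjoint_left]
    rintro x ⟨k, rfl⟩ hx
    exact htq (q.2.mem_of_pow_mem k hx)
  let q' : PrimeSpectrum (Localization.Away t) :=
    ⟨q.asIdeal.map (algebraMap B (Localization.Away t)),
      IsLocalization.isPrime_of_isPrime_disjoint (Submonoid.powers t) _ _ q.2 hdisj⟩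
  have hq' : q'.comap (algebraMap B (Localization.Away t)) = q :=
    PrimeSpectrum.ext (IsLocalization.comap_map_of_isPrime_disjoint (Submonoid.powers t) _ q.2 hdisj)
  haveI : Nontrivial (Localization.Away t) := q'.nontrivial
  have e := KaehlerDifferential.tensorKaehlerEquivOfFormallyEtale K B (Localization.Away t)
  have hrk : Module.rank (Localization.Away t) Ω[Localization.Away t⁄K] = d :=
    Algebra.IsStandardSmoothOfRelativeDimension.rank_kaehlerDifferential d
  rw [← hq', ← Module.rankAtStalk_baseChange, Module.rankAtStalk_eq_of_equiv e,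
    Module.rankAtStalk_eq_finrank_of_free, Module.finrank, hrk]
  simp

end Part5

section Part6

attribute [local instance] Algebra.TensorProduct.rightAlgebra

set_option maxHeartbeats 1000000 in
theorem etale_of_killed (V : Type u) [CommRing V] [IsDomain V] [IsDiscreteValuationRing V]
    (ϖ : V) (hϖ : Irreducible ϖ)
    (A : Type u) [CommRing A] [Algebra V A] [Algebra.FiniteType V A]
    (R : Type u) [CommRing R] [Algebra V R] [Algebra.FiniteType V R] [Algebra A R] [IsScalarTower V A R]
    (R' : Type u) [CommRing R'] [Algebra R R'] [Algebra A R'] [Algebra V R'] [IsScalarTower A R R']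
    [IsScalarTower V R R'] [IsScalarTower V A R'] (x : R) [IsLocalization.Away x R']
    (hunit : IsUnit (algebraMap V R' ϖ)) [Subsingleton Ω[R'⁄A]] (d : ℕ)
    (hA : SmoothOfRelativeDimension d
        (Spec.map (CommRingCat.ofHom (algebraMap (FractionRing V) (FractionRing V ⊗[V] A)))))
    (hR : SmoothOfRelativeDimension d
        (Spec.map (CommRingCat.ofHom (algebraMap (FractionRing V) (FractionRing V ⊗[V] R))))) :
    Algebra.Etale A R' := by
  -- nonzero elements of `V` become units in `R'`
  have hunits : ∀ y : nonZeroDivisors V, IsUnit (algebraMap V R' y) := by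
    intro y
    obtain ⟨k, w, hw⟩ := IsDiscreteValuationRing.eq_unit_mul_pow_irreducible
      (nonZeroDivisors.ne_zero y.2) hϖ
    rw [hw, map_mul, map_pow]
    exact (w.isUnit.map _).mul (hunit.pow k)
  -- `K`-algebra structure on `R'`
  let ψK : FractionRing V →+* R' := IsLocalization.lift (M := nonZeroDivisors V) hunits
  letI algK : Algebra (FractionRing V) R' := ψK.toAlgebra
  haveI tVK : IsScalarTower V (FractionRing V) R' :=
    IsScalarTower.of_algebraMap_eq (fun v => (IsLocalization.lift_eq hunits v).symm)
  -- `K ⊗ A`-algebra structure on `R'`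
  have hunitsA : ∀ y : Algebra.algebraMapSubmonoid A (nonZeroDivisors V),
      IsUnit (algebraMap A R' y) := by
    rintro ⟨_, v, hv, rfl⟩
    rw [← IsScalarTower.algebraMap_apply V A R']
    exact hunits ⟨v, hv⟩
  let ψA : FractionRing V ⊗[V] A →+* R' :=
    IsLocalization.lift (M := Algebra.algebraMapSubmonoid A (nonZeroDivisors V)) hunitsA
  letI algA : Algebra (FractionRing V ⊗[V] A) R' := ψA.toAlgebra
  haveI tAAK : IsScalarTower A (FractionRing V ⊗[V] A) R' :=
    IsScalarTower.of_algebraMap_eq (fun v => (IsLocalization.lift_eq hunitsA v).symm)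
  haveI tKAK : IsScalarTower (FractionRing V) (FractionRing V ⊗[V] A) R' := by
    refine IsScalarTower.of_algebraMap_eq' (R := FractionRing V) (S := FractionRing V ⊗[V] A)
      (A := R') ?_
    refine IsLocalization.ringHom_ext (R := V) (S := FractionRing V) (nonZeroDivisors V) ?_
    refine RingHom.ext fun v => ?_
    simp only [RingHom.comp_apply]
    rw [← IsScalarTower.algebraMap_apply V (FractionRing V) R',
      ← IsScalarTower.algebraMap_apply V (FractionRing V) (FractionRing V ⊗[V] A),
      IsScalarTower.algebraMap_apply V A (FractionRing V ⊗[V] A),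
      ← IsScalarTower.algebraMap_apply A (FractionRing V ⊗[V] A) R',
      ← IsScalarTower.algebraMap_apply V A R']
  -- `K ⊗ R`-algebra structure on `R'`
  have hunitsR : ∀ y : Algebra.algebraMapSubmonoid R (nonZeroDivisors V),
      IsUnit (algebraMap R R' y) := by
    rintro ⟨_, v, hv, rfl⟩
    rw [← IsScalarTower.algebraMap_apply V R R']
    exact hunits ⟨v, hv⟩
  let ψR : FractionRing V ⊗[V] R →+* R' :=
    IsLocalization.lift (M := Algebra.algebraMapSubmonoid R (nonZeroDivisors V)) hunitsR
  letI algR : Algebra (FractionRing V ⊗[V] R) R' := ψR.toAlgebra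
  haveI tRRK : IsScalarTower R (FractionRing V ⊗[V] R) R' :=
    IsScalarTower.of_algebraMap_eq (fun v => (IsLocalization.lift_eq hunitsR v).symm)
  haveI tKRK : IsScalarTower (FractionRing V) (FractionRing V ⊗[V] R) R' := by
    refine IsScalarTower.of_algebraMap_eq' (R := FractionRing V) (S := FractionRing V ⊗[V] R)
      (A := R') ?_
    refine IsLocalization.ringHom_ext (R := V) (S := FractionRing V) (nonZeroDivisors V) ?_
    refine RingHom.ext fun v => ?_
    simp only [RingHom.comp_apply]
    rw [← IsScalarTower.algebraMap_apply V (FractionRing V) R',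
      ← IsScalarTower.algebraMap_apply V (FractionRing V) (FractionRing V ⊗[V] R),
      IsScalarTower.algebraMap_apply V R (FractionRing V ⊗[V] R),
      ← IsScalarTower.algebraMap_apply R (FractionRing V ⊗[V] R) R',
      ← IsScalarTower.algebraMap_apply V R R']
  -- smoothness data
  obtain ⟨hsmA, hrkA⟩ := smooth_data d hA
  obtain ⟨hsmR, hrkR⟩ := smooth_data d hR
  -- `R'` is formally etale over `K ⊗ R`
  haveI : Algebra.FormallyEtale R (FractionRing V ⊗[V] R) :=
    Algebra.FormallyEtale.of_isLocalization (Algebra.algebraMapSubmonoid R (nonZeroDivisors V))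
  haveI : Algebra.FormallyEtale R R' := Algebra.FormallyEtale.of_isLocalization (Submonoid.powers x)
  haveI hRKR' : Algebra.FormallyEtale (FractionRing V ⊗[V] R) R' :=
    Algebra.FormallyEtale.of_restrictScalars (R := R)
  haveI : Algebra.FormallySmooth (FractionRing V) R' :=
    Algebra.FormallySmooth.comp (FractionRing V) (FractionRing V ⊗[V] R) R'
  -- differentials of `R'` over `K`
  let e := KaehlerDifferential.tensorKaehlerEquivOfFormallyEtale (FractionRing V)
    (FractionRing V ⊗[V] R) R'
  haveI := hsmR.finitePresentation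
  haveI := hsmA.finitePresentation
  haveI : Algebra.FormallySmooth (FractionRing V) (FractionRing V ⊗[V] A) := hsmA.formallySmooth
  haveI : Algebra.FormallySmooth (FractionRing V) (FractionRing V ⊗[V] R) := hsmR.formallySmooth
  haveI hfinR' : Module.Finite R' Ω[R'⁄FractionRing V] := Module.Finite.equiv e
  have hrkR' : ∀ q : PrimeSpectrum R', Module.rankAtStalk Ω[R'⁄FractionRing V] q = d := by
    intro q
    rw [← Module.rankAtStalk_eq_of_equiv e, Module.rankAtStalk_baseChange, hrkR]
  haveI hsub : Subsingleton Ω[R'⁄(FractionRing V ⊗[V] A)] :=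
    (KaehlerDifferential.map_surjective A (FractionRing V ⊗[V] A) R').subsingleton
  haveI hAKR' : Algebra.FormallyEtale (FractionRing V ⊗[V] A) R' :=
    formallyEtale_of_rank (K := FractionRing V) (B := FractionRing V ⊗[V] A) (C := R') d hrkA hrkR'
  haveI : Algebra.FormallyEtale A (FractionRing V ⊗[V] A) :=
    Algebra.FormallyEtale.of_isLocalization (Algebra.algebraMapSubmonoid A (nonZeroDivisors V))
  haveI : Algebra.FormallyEtale A R' := Algebra.FormallyEtale.comp A (FractionRing V ⊗[V] A) R'
  haveI : IsNoetherianRing V := inferInstance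
  haveI : IsNoetherianRing A := Algebra.FiniteType.isNoetherianRing V A
  haveI : Algebra.FiniteType A R := Algebra.FiniteType.of_restrictScalars_finiteType V A R
  haveI : Algebra.FinitePresentation A R := Algebra.FinitePresentation.of_finiteType.mp inferInstance
  haveI : Algebra.FinitePresentation R R' := IsLocalization.Away.finitePresentation x
  haveI : Algebra.FinitePresentation A R' := Algebra.FinitePresentation.trans A R R'
  exact { }

end Part6

section Part7

set_option maxHeartbeats 1000000 in
theorem part2 (V : Type u) [CommRing V] [IsDomain V] [IsDiscreteValuationRing V] [CharZero V]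
    (ϖ : V) (hϖ : Irreducible ϖ) (p : ℕ) [Fact p.Prime] [CharP (IsLocalRing.ResidueField V) p]
    (A : Type u) [CommRing A] [Algebra V A] [Algebra.FiniteType V A]
    (R : Type u) [CommRing R] [Algebra V R] [Algebra.FiniteType V R] [Algebra A R] [IsScalarTower V A R]
    (d : ℕ)
    (hA : SmoothOfRelativeDimension d
        (Spec.map (CommRingCat.ofHom (algebraMap (FractionRing V) (FractionRing V ⊗[V] A)))))
    (hR : SmoothOfRelativeDimension d
        (Spec.map (CommRingCat.ofHom (algebraMap (FractionRing V) (FractionRing V ⊗[V] R)))))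
    (n : ℕ) (hn : Ideal.span {((p : R)) ^ n} • (⊤ : Submodule R (Ω[R⁄A])) ≤
        Ideal.span {algebraMap V R ϖ * (p : R) ^ n} • (⊤ : Submodule R (Ω[R⁄A]))) :
    ∃ a : R, Ideal.span {a} ⊔ Ideal.span {algebraMap V R ϖ} = ⊤ ∧
        ((algebraMap R (Localization.Away (a * algebraMap V R ϖ))).comp (algebraMap A R)).Etale := by
  obtain ⟨u, e, he, hp⟩ := exists_p_eq V ϖ hϖ p
  haveI : Algebra.FiniteType A R := Algebra.FiniteType.of_restrictScalars_finiteType V A R
  haveI : IsNoetherianRing R := Algebra.FiniteType.isNoetherianRing V R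
  -- `p = u ϖ^e` in `R`
  have hpR : (p : R) = algebraMap V R u * algebraMap V R ϖ ^ e := by
    rw [← map_pow, ← map_mul, ← hp, map_natCast]
  have huu : algebraMap V R (↑u⁻¹ : V) * algebraMap V R u = 1 := by
    rw [← map_mul, Units.inv_mul, map_one]
  -- Nakayama
  have hN : (Ideal.span {((p : R)) ^ n} • (⊤ : Submodule R (Ω[R⁄A]))).FG :=
    IsNoetherian.noetherian _
  have hle : Ideal.span {((p : R)) ^ n} • (⊤ : Submodule R (Ω[R⁄A])) ≤
      Ideal.span {algebraMap V R ϖ} • (Ideal.span {((p : R)) ^ n} • (⊤ : Submodule R (Ω[R⁄A]))) := by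
    rw [← Submodule.mul_smul, Ideal.span_singleton_mul_span_singleton]
    exact hn
  obtain ⟨a, ha1, ha⟩ := Submodule.exists_sub_one_mem_and_smul_eq_zero_of_fg_of_le_smul _ _ hN hle
  refine ⟨a, ?_, ?_⟩
  · rw [Ideal.eq_top_iff_one, Submodule.mem_sup]
    exact ⟨a, Ideal.mem_span_singleton_self a, -(a - 1), neg_mem ha1, by ring⟩
  have hkill0 : ∀ ω : Ω[R⁄A], a • ((p : R) ^ n • ω) = 0 := fun ω =>
    ha _ (Submodule.smul_mem_smul (Ideal.mem_span_singleton_self _) trivial)
  have hkill : ∀ ω : Ω[R⁄A], (a * algebraMap V R ϖ) ^ (e * n + 1) • ω = 0 := by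
    intro ω
    have huun : algebraMap V R (↑u⁻¹ : V) ^ n * algebraMap V R u ^ n = 1 := by
      rw [← mul_pow, huu, one_pow]
    have : (a * algebraMap V R ϖ) ^ (e * n + 1) =
        (a ^ (e * n) * algebraMap V R ϖ * algebraMap V R (↑u⁻¹ : V) ^ n) * (a * (p : R) ^ n) := by
      rw [hpR, mul_pow, mul_pow, ← pow_mul]
      linear_combination (-(a ^ (e * n + 1) * algebraMap V R ϖ ^ (e * n + 1))) * huun
    rw [this, mul_smul, mul_smul a, hkill0, smul_zero]
  haveI : Subsingleton Ω[Localization.Away (a * algebraMap V R ϖ)⁄A] :=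
    subsingleton_kaehler_of_pow_smul_eq_zero (A := A) (a * algebraMap V R ϖ)
      (Localization.Away (a * algebraMap V R ϖ)) _ hkill
  have hunit : IsUnit (algebraMap V (Localization.Away (a * algebraMap V R ϖ)) ϖ) := by
    rw [IsScalarTower.algebraMap_apply V R (Localization.Away (a * algebraMap V R ϖ))]
    have h1 := IsLocalization.Away.algebraMap_isUnit (S := Localization.Away (a * algebraMap V R ϖ))
      (a * algebraMap V R ϖ)
    rw [map_mul] at h1
    exact isUnit_of_mul_isUnit_right h1
  have hE := etale_of_killed V ϖ hϖ A R (Localization.Away (a * algebraMap V R ϖ))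
    (a * algebraMap V R ϖ) hunit d hA hR
  rw [← IsScalarTower.algebraMap_eq A R (Localization.Away (a * algebraMap V R ϖ)),
    RingHom.etale_algebraMap]
  exact hE

end Part7

end Groth.Agent.Helper13EtaEtale
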