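import Mathlib
import Groth.Prelude.Def_RelProj

/-!
# helper13: relative Proj toolbox, part A

Chart-level lemmas about Mathlib's `Proj.map` (compatibility with `toSpecZero`, restriction to
basic opens, transfer of target-local properties from the `Away` ring maps) and the glueing of
such properties along `RelProj.IsRelProjMap`.
-/

set_option autoImplicit false

namespace Groth.Agent.Helper13RelProj

open CategoryTheory CategoryTheory.Limits AlgebraicGeometry Opposite TopologicalSpace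
open HomogeneousLocalization
open scoped HomogeneousIdeal

universe u

section RingLevel
variable {A B σ τ : Type u} [CommRing A] [SetLike σ A] [AddSubgroupClass σ A]
  [CommRing B] [SetLike τ B] [AddSubgroupClass τ B]
  {𝒜 : ℕ → σ} {ℬ : ℕ → τ} [GradedRing 𝒜] [GradedRing ℬ]
  (f : 𝒜 →+*ᵍ ℬ)

theorem exists_mem_of_surjective (hsurj : Function.Surjective f) {d : ℕ} {b : B} (hb : b ∈ ℬ d) :
    ∃ a ∈ 𝒜 d, f a = b := by
  classical
  obtain ⟨a, rfl⟩ := hsurj b
  refine ⟨DirectSum.decompose 𝒜 a d, SetLike.coe_mem _, ?_⟩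
  rw [GradedRingHom.map_directSumDecompose, DirectSum.decompose_of_mem_same ℬ hb]

theorem awayMap_surjective (hsurj : ∀ d, 0 < d → ∀ b ∈ ℬ d, ∃ a ∈ 𝒜 d, f a = b)
    {i : ℕ} (hi : 0 < i) (s : A) (hs : s ∈ 𝒜 i) : Function.Surjective (Away.map f s) := by
  intro z
  obtain ⟨n, b, hb, rfl⟩ := Away.mk_surjective ℬ (Graded.map_mem f hs) z
  have hb' : b * f s ∈ ℬ ((n + 1) • i) := by
    have := SetLike.mul_mem_graded hb (Graded.map_mem f hs)
    convert this using 2
    simp [add_mul]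
  obtain ⟨a, ha, hfa⟩ := hsurj ((n + 1) • i) (by positivity) _ hb'
  refine ⟨Away.mk 𝒜 hs (n + 1) a ha, ?_⟩
  rw [Away.map_mk]
  ext
  simp only [Away.val_mk, hfa]
  rw [Localization.mk_eq_mk_iff, Localization.r_iff_exists]
  exact ⟨1, by simp [pow_succ]; ring⟩

theorem awayMap_injective (hinj : ∀ d, 0 < d → ∀ a ∈ 𝒜 d, f a = 0 → a = 0)
    {i : ℕ} (hi : 0 < i) (s : A) (hs : s ∈ 𝒜 i) : Function.Injective (Away.map f s) := by
  rw [injective_iff_map_eq_zero]
  intro z hz
  obtain ⟨n, a, ha, rfl⟩ := Away.mk_surjective 𝒜 hs z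
  rw [Away.map_mk] at hz
  have hz' := congr_arg HomogeneousLocalization.val hz
  simp only [Away.val_mk, HomogeneousLocalization.val_zero] at hz'
  rw [Localization.mk_eq_mk'_apply, IsLocalization.mk'_eq_zero_iff] at hz'
  obtain ⟨⟨_, k, rfl⟩, hk⟩ := hz'
  have h1 : s ^ (k + 1) * a ∈ 𝒜 ((k + 1) • i + n • i) :=
    SetLike.mul_mem_graded (SetLike.pow_mem_graded _ hs) ha
  have h2 : f (s ^ (k + 1) * a) = 0 := by
    have hk' : f s ^ k * f a = 0 := hk
    rw [map_mul, map_pow, pow_succ, mul_assoc, mul_comm (f s), ← mul_assoc, hk', zero_mul]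
  have h3 := hinj _ (by positivity) _ h1 h2
  ext
  simp only [Away.val_mk, HomogeneousLocalization.val_zero]
  rw [Localization.mk_eq_mk'_apply, IsLocalization.mk'_eq_zero_iff]
  exact ⟨⟨s ^ (k + 1), k + 1, rfl⟩, h3⟩

end RingLevel

section ProjLevel
variable {A B σ τ : Type u} [CommRing A] [SetLike σ A] [AddSubgroupClass σ A]
  [CommRing B] [SetLike τ B] [AddSubgroupClass τ B]
  {𝒜 : ℕ → σ} {ℬ : ℕ → τ} [GradedRing 𝒜] [GradedRing ℬ]
  (f : 𝒜 →+*ᵍ ℬ) (hf : ℬ₊ ≤ 𝒜₊.map f)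

set_option backward.isDefEq.respectTransparency false in
@[reassoc]
theorem map_toSpecZero : Proj.map f hf ≫ Proj.toSpecZero 𝒜 =
    Proj.toSpecZero ℬ ≫ Spec.map (CommRingCat.ofHom f.gradedZeroRingHom) := by
  refine (Proj.mapAffineOpenCover f hf).openCover.hom_ext _ _ fun s => ?_
  simp only [Scheme.AffineOpenCover.openCover_f, Proj.mapAffineOpenCover_f]
  rw [Proj.awayι_comp_map_assoc f hf s.1.2 _ s.2.2, Proj.awayι_toSpecZero,
    Proj.awayι_toSpecZero_assoc, ← Spec.map_comp, ← Spec.map_comp]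
  congr 1
  ext x
  simp [fromZeroRingHom, Away.map, HomogeneousLocalization.map_mk]

variable (𝒜) in
theorem iSup_basicOpen_pos_eq_top :
    ⨆ s : (Σ i : ℕ+, 𝒜 i), Proj.basicOpen 𝒜 (s.2 : A) = ⊤ := by
  classical
  apply Proj.iSup_basicOpen_eq_top
  intro z hz
  rw [← DirectSum.sum_support_decompose 𝒜 z]
  refine Ideal.sum_mem _ fun c hc ↦ if hc0 : c = 0 then ?_ else
    Ideal.subset_span ⟨⟨⟨c, Nat.pos_iff_ne_zero.mpr hc0⟩, _⟩, rfl⟩
  convert! Ideal.zero_mem _
  subst hc0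
  exact hz

set_option backward.isDefEq.respectTransparency false in
theorem map_restrict_basicOpen {i : ℕ} (hi : 0 < i) (s : A) (hs : s ∈ 𝒜 i) :
    Proj.map f hf ∣_ Proj.basicOpen 𝒜 s =
      (Proj.basicOpenIsoSpec ℬ (f s) (f.2 hs) hi).hom ≫
        Spec.map (CommRingCat.ofHom (Away.map f s)) ≫ (Proj.basicOpenIsoSpec 𝒜 s hs hi).inv := by
  rw [← cancel_mono (Proj.basicOpen 𝒜 s).ι, morphismRestrict_ι]
  simp only [Category.assoc, Proj.basicOpenIsoSpec_inv_ι]
  rw [← Proj.awayι_comp_map f hf hi s hs, ← Category.assoc, ← Proj.basicOpenIsoSpec_inv_ι,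
    Iso.hom_inv_id_assoc]
  rfl

/-- A target-local property holds for `Proj.map f` as soon as it holds for `Spec` of all the
induced maps on degree-zero localizations. -/
theorem map_of_forall_away (P : MorphismProperty Scheme.{u}) [IsZariskiLocalAtTarget P]
    (H : ∀ (i : ℕ) (_ : 0 < i) (s : A) (_ : s ∈ 𝒜 i),
      P (Spec.map (CommRingCat.ofHom (Away.map f s)))) :
    P (Proj.map f hf) := by
  rw [IsZariskiLocalAtTarget.iff_of_iSup_eq_top (P := P)
    (fun s : (Σ i : ℕ+, 𝒜 i) => Proj.basicOpen 𝒜 (s.2 : A)) (iSup_basicOpen_pos_eq_top 𝒜)]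
  rintro ⟨i, s⟩
  rw [map_restrict_basicOpen f hf i.2 s.1 s.2]
  have h2 : P ((Proj.basicOpenIsoSpec ℬ (f s.1) (f.2 s.2) i.2).hom ≫
      Spec.map (CommRingCat.ofHom (Away.map f s.1)) ≫ (Proj.basicOpenIsoSpec 𝒜 s.1 s.2 i.2).inv) := by
    rw [MorphismProperty.cancel_left_of_respectsIso (P := P),
      MorphismProperty.cancel_right_of_respectsIso (P := P)]
    exact H i i.2 s.1 s.2
  exact h2

/-- `Proj.map` of a graded homomorphism that is surjective in positive degrees is a closed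
immersion. -/
theorem isClosedImmersion_map_of_surjective_pos
    (hsurj : ∀ d, 0 < d → ∀ b ∈ ℬ d, ∃ a ∈ 𝒜 d, f a = b) :
    IsClosedImmersion (Proj.map f hf) :=
  map_of_forall_away f hf @IsClosedImmersion fun _ hi s hs =>
    IsClosedImmersion.spec_of_surjective _ (awayMap_surjective f hsurj hi s hs)

theorem isClosedImmersion_map_of_surjective (hsurj : Function.Surjective f) :
    IsClosedImmersion (Proj.map f hf) :=
  isClosedImmersion_map_of_surjective_pos f hf fun _ _ _ hb => exists_mem_of_surjective f hsurj hb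

/-- `Proj.map` of a graded homomorphism that is bijective in positive degrees is an
isomorphism. -/
theorem isIso_map_of_bijOn_pos (hbij : ∀ d, 0 < d → Set.BijOn f (𝒜 d) (ℬ d)) :
    IsIso (Proj.map f hf) := by
  refine map_of_forall_away f hf (MorphismProperty.isomorphisms Scheme.{u}) fun i hi s hs => ?_
  have hb : Function.Bijective (Away.map f s) := by
    constructor
    · refine awayMap_injective f (fun d hd a ha h0 => ?_) hi s hs
      exact (hbij d hd).injOn ha (zero_mem _) (by rw [h0, map_zero])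
    · refine awayMap_surjective f (fun d hd b hb => ?_) hi s hs
      obtain ⟨a, ha, rfl⟩ := (hbij d hd).surjOn hb
      exact ⟨a, ha, rfl⟩
  have : IsIso (CommRingCat.ofHom (Away.map f s)) :=
    (ConcreteCategory.isIso_iff_bijective _).mpr hb
  change IsIso (Spec.map (CommRingCat.ofHom (Away.map f s)))
  infer_instance

end ProjLevel

section Glue

variable {S : Scheme.{u}} {𝒜 ℬ : RelProj.QCGrAlg S}
  (φ : 𝒜.toQCAlg ⟶ ℬ.toQCAlg) (hφ : RelProj.IsGradedHom φ)

theorem strZero_comp_gradedZero (U : S.Opens) (hU : IsAffineOpen U) :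
    𝒜.strZero U hU ≫ CommRingCat.ofHom (RelProj.gradedHomAt φ hφ U hU).gradedZeroRingHom =
      ℬ.strZero U hU := by
  ext r
  exact congr_arg (fun t => (t.app (op U)).hom r) φ.comm

variable (hirr : ∀ (U : S.Opens) (hU : IsAffineOpen U),
      (ℬ.deg U hU)₊ ≤ ((𝒜.deg U hU)₊).map (RelProj.gradedHomAt φ hφ U hU))
    {PA PB : Scheme.{u}} {pA : PA ⟶ S} {pB : PB ⟶ S}
    {chartA : ∀ (U : S.Opens) (hU : IsAffineOpen U),
      ((pA ⁻¹ᵁ U : PA.Opens) : Scheme.{u}) ≅ Proj (𝒜.deg U hU)}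
    {chartB : ∀ (U : S.Opens) (hU : IsAffineOpen U),
      ((pB ⁻¹ᵁ U : PB.Opens) : Scheme.{u}) ≅ Proj (ℬ.deg U hU)}
    (hA : RelProj.IsRelProj 𝒜 pA chartA) (hB : RelProj.IsRelProj ℬ pB chartB)
    {h : PB ⟶ PA} (hh : RelProj.IsRelProjMap φ hφ hirr chartA chartB h)

include hA hB hh in
/-- The morphism of relative Proj's induced by a graded homomorphism lies over the base. -/
theorem relProjMap_comp : h ≫ pA = pB := by
  refine Scheme.hom_ext_of_forall _ _ fun x => ?_
  obtain ⟨_, ⟨U, hU, rfl⟩, hxU, -⟩ := S.isBasis_affineOpens.exists_subset_of_mem_open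
    (Set.mem_univ (pB.base x)) isOpen_univ
  replace hU : IsAffineOpen U := hU
  refine ⟨pB ⁻¹ᵁ U, hxU, ?_⟩
  rw [← Category.assoc, hh U hU]
  simp only [Category.assoc]
  rw [← hA.chart_over U hU, Iso.inv_hom_id_assoc, ← hB.chart_over U hU,
    ← strZero_comp_gradedZero φ hφ U hU, Spec.map_comp, map_toSpecZero_assoc]
  simp only [Category.assoc]

end Glue

theorem iSup_preimage_affineOpens {S P : Scheme.{u}} (p : P ⟶ S) :
    ⨆ U : S.affineOpens, p ⁻¹ᵁ U.1 = ⊤ := by
  rw [← Scheme.Hom.preimage_iSup, iSup_affineOpens_eq_top, Scheme.Hom.preimage_top]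

section Glue2

variable {S : Scheme.{u}} {𝒜 ℬ : RelProj.QCGrAlg S}
  (φ : 𝒜.toQCAlg ⟶ ℬ.toQCAlg) (hφ : RelProj.IsGradedHom φ)

variable (hirr : ∀ (U : S.Opens) (hU : IsAffineOpen U),
      (ℬ.deg U hU)₊ ≤ ((𝒜.deg U hU)₊).map (RelProj.gradedHomAt φ hφ U hU))
    {PA PB : Scheme.{u}} {pA : PA ⟶ S} {pB : PB ⟶ S}
    {chartA : ∀ (U : S.Opens) (hU : IsAffineOpen U),
      ((pA ⁻¹ᵁ U : PA.Opens) : Scheme.{u}) ≅ Proj (𝒜.deg U hU)}
    {chartB : ∀ (U : S.Opens) (hU : IsAffineOpen U),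
      ((pB ⁻¹ᵁ U : PB.Opens) : Scheme.{u}) ≅ Proj (ℬ.deg U hU)}
    (hA : RelProj.IsRelProj 𝒜 pA chartA) (hB : RelProj.IsRelProj ℬ pB chartB)
    {h : PB ⟶ PA} (hh : RelProj.IsRelProjMap φ hφ hirr chartA chartB h)

include hA hB hh in
/-- A target-local property holds for the morphism of relative Proj's induced by `φ` as soon as
it holds chartwise for Mathlib's `Proj.map`. -/
theorem relProjMap_of_forall (P : MorphismProperty Scheme.{u}) [IsZariskiLocalAtTarget P]
    (H : ∀ (U : S.Opens) (hU : IsAffineOpen U),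
      P (Proj.map (RelProj.gradedHomAt φ hφ U hU) (hirr U hU))) : P h := by
  rw [IsZariskiLocalAtTarget.iff_of_iSup_eq_top (P := P) (fun U : S.affineOpens => pA ⁻¹ᵁ U.1)
    (iSup_preimage_affineOpens pA)]
  rintro ⟨U, hU⟩
  replace hU : IsAffineOpen U := hU
  have e : h ⁻¹ᵁ (pA ⁻¹ᵁ U) = pB ⁻¹ᵁ U := by
    rw [← relProjMap_comp φ hφ hirr hA hB hh]; rfl
  have key : h ∣_ (pA ⁻¹ᵁ U) = (Scheme.isoOfEq _ e).hom ≫ (chartB U hU).hom ≫
      Proj.map (RelProj.gradedHomAt φ hφ U hU) (hirr U hU) ≫ (chartA U hU).inv := by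
    rw [← cancel_mono (pA ⁻¹ᵁ U).ι, morphismRestrict_ι]
    simp only [Category.assoc]
    rw [← hh U hU, Scheme.isoOfEq_hom_ι_assoc]
  change P (h ∣_ (pA ⁻¹ᵁ U))
  rw [key, MorphismProperty.cancel_left_of_respectsIso (P := P),
    MorphismProperty.cancel_left_of_respectsIso (P := P),
    MorphismProperty.cancel_right_of_respectsIso (P := P)]
  exact H U hU

end Glue2

end Groth.Agent.Helper13RelProj
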