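import Mathlib
import Groth.Agent.Lib.Helper13RelProjA

/-!
# helper13: the partial morphism `G(φ) ⟶ Proj 𝒜` induced by a graded ring homomorphism `φ : 𝒜 → ℬ`
(no hypothesis on irrelevant ideals): construction by glueing, uniqueness, preimages of basic opens,
target-local criterion, (TN)-surjective / (TN)-bijective cases.
-/

set_option autoImplicit false

namespace Groth.Agent.Helper13RelProj

open CategoryTheory CategoryTheory.Limits AlgebraicGeometry Opposite TopologicalSpace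
open HomogeneousLocalization
open scoped HomogeneousIdeal

universe u

section PMap

variable {A B σ τ : Type u} [CommRing A] [SetLike σ A] [AddSubgroupClass σ A]
  [CommRing B] [SetLike τ B] [AddSubgroupClass τ B]
  {𝒜 : ℕ → σ} {ℬ : ℕ → τ} [GradedRing 𝒜] [GradedRing ℬ]
  (φ : 𝒜 →+*ᵍ ℬ)

/-- `Away.map` with a propositionally given target element. -/
def mapTo {x : A} {y : B} (h : φ x = y) : Away 𝒜 x →+* Away ℬ y :=
  HomogeneousLocalization.map φ (by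
    rintro _ ⟨n, rfl⟩
    exact ⟨n, by simp [← h]⟩)

theorem mapTo_rfl (x : A) : mapTo φ (rfl : φ x = φ x) = Away.map φ x := rfl

theorem val_mapTo_mk {x : A} {y : B} (h : φ x = y) {d : ℕ} (hx : x ∈ 𝒜 d) (n : ℕ) (a : A)
    (ha : a ∈ 𝒜 (n • d)) :
    (mapTo φ h (Away.mk 𝒜 hx n a ha)).val =
      Localization.mk (φ a) ⟨y ^ n, pow_mem (Submonoid.mem_powers y) n⟩ := by
  subst h
  rw [mapTo_rfl, Away.map_mk, Away.val_mk]

theorem mapTo_comp_awayMap {d e : ℕ} {f g : A} (hf : f ∈ 𝒜 d) (hg : g ∈ 𝒜 e) {x : A}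
    (hx : x = f * g) {y : B} (hy : y = φ f * φ g) (h : φ x = y) :
    (mapTo φ h).comp (awayMap 𝒜 hg hx) = (awayMap ℬ (Graded.map_mem φ hg) hy).comp (Away.map φ f) := by
  ext a
  obtain ⟨n, a, ha, rfl⟩ := a.mk_surjective _ hf
  simp only [RingHom.comp_apply]
  rw [awayMap_mk 𝒜 hg hx n hf a ha, val_mapTo_mk, Away.map_mk, awayMap_mk, Away.val_mk]
  simp


theorem awayι_congr {x : A} {m m' : ℕ} (h : m = m') (hx : x ∈ 𝒜 m) (hm : 0 < m)
    (hx' : x ∈ 𝒜 m') (hm' : 0 < m') :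
    Proj.awayι 𝒜 x hx hm = Proj.awayι 𝒜 x hx' hm' := by
  subst h; rfl

/-- key compatibility: restricting the chart-level map for `f` to `D₊(φ (f g))` -/
theorem specMap_awayMap_comp {d e : ℕ} {f g : A} (hf : f ∈ 𝒜 d) (hd : 0 < d) (hg : g ∈ 𝒜 e)
    {x : A} (hx : x = f * g) {y : B} (hy : y = φ f * φ g) (h : φ x = y) :
    Spec.map (CommRingCat.ofHom (awayMap ℬ (Graded.map_mem φ hg) hy)) ≫
        Spec.map (CommRingCat.ofHom (Away.map φ f)) ≫ Proj.awayι 𝒜 f hf hd =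
      Spec.map (CommRingCat.ofHom (mapTo φ h)) ≫
        Proj.awayι 𝒜 x (hx ▸ SetLike.mul_mem_graded hf hg) (hd.trans_le (d.le_add_right e)) := by
  rw [← Proj.SpecMap_awayMap_awayι 𝒜 hf hd hg hx, ← Spec.map_comp_assoc, ← Spec.map_comp_assoc,
    ← CommRingCat.ofHom_comp, ← CommRingCat.ofHom_comp, mapTo_comp_awayMap φ hf hg hx hy h]


section Dom

variable {X : Scheme.{u}} (j : X ⟶ Proj ℬ) [IsOpenImmersion j]

/-- `j` is an open immersion onto the open `G(φ) ⊆ Proj ℬ` where `Proj φ` is defined. -/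
def IsDomOf : Prop :=
  ∀ x : Proj ℬ, x ∈ Set.range j.base ↔
    ∃ (d : ℕ) (f : A), 0 < d ∧ f ∈ 𝒜 d ∧ x ∈ Proj.basicOpen ℬ (φ f)

variable {φ j}

theorem range_awayι_subset (hj : IsDomOf φ j) {d : ℕ} {f : A} (hf : f ∈ 𝒜 d) (hd : 0 < d) :
    Set.range (Proj.awayι ℬ (φ f) (Graded.map_mem φ hf) hd).base ⊆ Set.range j.base := by
  rintro _ ⟨y, rfl⟩
  rw [hj]
  refine ⟨d, f, hd, hf, ?_⟩
  rw [← Proj.opensRange_awayι ℬ (φ f) (Graded.map_mem φ hf) hd]
  exact ⟨y, rfl⟩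

/-- the standard chart `Spec ℬ_(φ f) ⟶ X` -/
noncomputable def chartX (hj : IsDomOf φ j) {d : ℕ} {f : A} (hf : f ∈ 𝒜 d) (hd : 0 < d) :
    Spec (.of (Away ℬ (φ f))) ⟶ X :=
  IsOpenImmersion.lift j (Proj.awayι ℬ (φ f) (Graded.map_mem φ hf) hd) (range_awayι_subset hj hf hd)

@[reassoc (attr := simp)]
theorem chartX_fac (hj : IsDomOf φ j) {d : ℕ} {f : A} (hf : f ∈ 𝒜 d) (hd : 0 < d) :
    chartX hj hf hd ≫ j = Proj.awayι ℬ (φ f) (Graded.map_mem φ hf) hd :=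
  IsOpenImmersion.lift_fac _ _ _

instance (hj : IsDomOf φ j) {d : ℕ} {f : A} (hf : f ∈ 𝒜 d) (hd : 0 < d) :
    IsOpenImmersion (chartX hj hf hd) := by
  have : IsOpenImmersion (chartX hj hf hd ≫ j) := by rw [chartX_fac]; infer_instance
  exact IsOpenImmersion.of_comp _ j

theorem exists_chartX_eq (hj : IsDomOf φ j) (x : X) :
    ∃ (d : ℕ) (f : A) (hd : 0 < d) (hf : f ∈ 𝒜 d) (y : Spec (.of (Away ℬ (φ f)))),
      (chartX hj hf hd).base y = x := by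
  obtain ⟨d, f, hd, hf, hx⟩ := (hj (j.base x)).mp ⟨x, rfl⟩
  rw [← Proj.opensRange_awayι ℬ (φ f) (Graded.map_mem φ hf) hd] at hx
  obtain ⟨y, hy⟩ := hx
  refine ⟨d, f, hd, hf, y, ?_⟩
  apply j.isOpenEmbedding.injective
  rw [← Scheme.Hom.comp_apply, chartX_fac, hy]

variable (𝒜) in
/-- index type: homogeneous elements of positive degree -/
abbrev Idx := Σ d : ℕ, {f : A // 0 < d ∧ f ∈ 𝒜 d}

/-- the cover of `X` by the standard charts -/
noncomputable def coverX (hj : IsDomOf φ j) : X.OpenCover :=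
  Scheme.Cover.mkOfCovers (Idx 𝒜) (fun i => Spec (.of (Away ℬ (φ i.2.1))))
    (fun i => chartX hj i.2.2.2 i.2.2.1)
    (fun x => by
      obtain ⟨d, f, hd, hf, y, hy⟩ := exists_chartX_eq hj x
      exact ⟨⟨d, f, hd, hf⟩, y, hy⟩)
    (fun i => by change IsOpenImmersion _; infer_instance)

end Dom


section Glue

variable {X : Scheme.{u}} {j : X ⟶ Proj ℬ} [IsOpenImmersion j]

/-- the chart-level morphisms to be glued -/
noncomputable def pmapLoc (φ : 𝒜 →+*ᵍ ℬ) (i : Idx 𝒜) :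
    Spec (.of (Away ℬ (φ i.2.1))) ⟶ Proj 𝒜 :=
  Spec.map (CommRingCat.ofHom (Away.map φ i.2.1)) ≫ Proj.awayι 𝒜 i.2.1 i.2.2.2 i.2.2.1

theorem pmapLoc_compat (hj : IsDomOf φ j) (a b : Idx 𝒜) :
    pullback.fst ((coverX hj).f a) ((coverX hj).f b) ≫ pmapLoc φ a =
      pullback.snd ((coverX hj).f a) ((coverX hj).f b) ≫ pmapLoc φ b := by
  obtain ⟨d, f, hd, hf⟩ := a
  obtain ⟨e, g, he, hg⟩ := b
  change pullback.fst (chartX hj hf hd) (chartX hj hg he) ≫ _ =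
    pullback.snd (chartX hj hf hd) (chartX hj hg he) ≫ _
  have hpb : IsPullback (pullback.fst (chartX hj hf hd) (chartX hj hg he))
      (pullback.snd (chartX hj hf hd) (chartX hj hg he))
      (Proj.awayι ℬ (φ f) (Graded.map_mem φ hf) hd) (Proj.awayι ℬ (φ g) (Graded.map_mem φ hg) he) := by
    have h0 : IsPullback (pullback.fst (chartX hj hf hd) (chartX hj hg he))
        (pullback.snd (chartX hj hf hd) (chartX hj hg he))
        (chartX hj hf hd ≫ j) (chartX hj hg he ≫ j) :=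
      IsPullback.of_isLimit (pullbackIsPullbackOfCompMono (chartX hj hf hd) (chartX hj hg he) j)
    rw [chartX_fac, chartX_fac] at h0
    exact h0
  have e1 := hpb.isoPullback_hom_fst
  have e2 := hpb.isoPullback_hom_snd
  have hy : φ f * φ g = φ f * φ g := rfl
  conv_lhs => rw [← e1]
  conv_rhs => rw [← e2]
  rw [Category.assoc, Category.assoc]
  congr 1
  rw [← Proj.pullbackAwayιIso_hom_SpecMap_awayMap_left ℬ (Graded.map_mem φ hf) hd
      (Graded.map_mem φ hg) he hy,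
    ← Proj.pullbackAwayιIso_hom_SpecMap_awayMap_right ℬ (Graded.map_mem φ hf) hd
      (Graded.map_mem φ hg) he hy, Category.assoc, Category.assoc]
  congr 1
  have hφ : φ (f * g) = φ f * φ g := map_mul φ f g
  change Spec.map _ ≫ Spec.map _ ≫ Proj.awayι 𝒜 f hf hd = Spec.map _ ≫ Spec.map _ ≫ Proj.awayι 𝒜 g hg he
  rw [specMap_awayMap_comp φ hf hd hg rfl hy hφ,
    specMap_awayMap_comp φ hg he hf (mul_comm f g) (hy.trans (mul_comm _ _)) hφ]
  congr 1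

end Glue


section Main

variable {X : Scheme.{u}} (j : X ⟶ Proj ℬ) [IsOpenImmersion j]

/-- `p : X ⟶ Proj 𝒜` is the morphism induced by `φ` on `X ≅ G(φ)`: on every standard chart it is
`Spec` of `Away.map φ f`. -/
def IsPMap (p : X ⟶ Proj 𝒜) : Prop :=
  ∀ (d : ℕ) (f : A) (hd : 0 < d) (hf : f ∈ 𝒜 d) (c : Spec (.of (Away ℬ (φ f))) ⟶ X),
    c ≫ j = Proj.awayι ℬ (φ f) (Graded.map_mem φ hf) hd →
      c ≫ p = Spec.map (CommRingCat.ofHom (Away.map φ f)) ≫ Proj.awayι 𝒜 f hf hd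

variable {φ j}

theorem IsPMap.chartX_comp {p : X ⟶ Proj 𝒜} (hp : IsPMap φ j p) (hj : IsDomOf φ j)
    {d : ℕ} {f : A} (hf : f ∈ 𝒜 d) (hd : 0 < d) :
    chartX hj hf hd ≫ p = Spec.map (CommRingCat.ofHom (Away.map φ f)) ≫ Proj.awayι 𝒜 f hf hd :=
  hp d f hd hf _ (chartX_fac hj hf hd)

theorem isPMap_of_chartX (hj : IsDomOf φ j) {p : X ⟶ Proj 𝒜}
    (hp : ∀ (d : ℕ) (f : A) (hd : 0 < d) (hf : f ∈ 𝒜 d),
      chartX hj hf hd ≫ p = Spec.map (CommRingCat.ofHom (Away.map φ f)) ≫ Proj.awayι 𝒜 f hf hd) :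
    IsPMap φ j p := by
  intro d f hd hf c hc
  have : c = chartX hj hf hd := by
    rw [← cancel_mono j, hc, chartX_fac]
  rw [this, hp]

theorem exists_isPMap (hj : IsDomOf φ j) : ∃ p : X ⟶ Proj 𝒜, IsPMap φ j p := by
  refine ⟨(coverX hj).glueMorphisms (pmapLoc φ) (pmapLoc_compat φ hj), isPMap_of_chartX hj ?_⟩
  intro d f hd hf
  exact (coverX hj).ι_glueMorphisms (pmapLoc φ) (pmapLoc_compat φ hj) ⟨d, f, hd, hf⟩

theorem IsPMap.unique (hj : IsDomOf φ j) {p p' : X ⟶ Proj 𝒜} (hp : IsPMap φ j p)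
    (hp' : IsPMap φ j p') : p = p' := by
  refine (coverX hj).hom_ext _ _ fun i => ?_
  obtain ⟨d, f, hd, hf⟩ := i
  change chartX hj hf hd ≫ p = chartX hj hf hd ≫ p'
  rw [hp.chartX_comp hj, hp'.chartX_comp hj]

end Main


section Preimage

variable {X : Scheme.{u}} {j : X ⟶ Proj ℬ} [IsOpenImmersion j]

theorem map_isLocalizationElem {d e : ℕ} {f g : A} (hf : f ∈ 𝒜 d) (hg : g ∈ 𝒜 e) :
    Away.map φ g (Away.isLocalizationElem hg hf) =
      Away.isLocalizationElem (Graded.map_mem φ hg) (Graded.map_mem φ hf) := by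
  unfold Away.isLocalizationElem
  rw [Away.map_mk]
  ext
  simp

variable {φ}

theorem IsPMap.preimage_basicOpen {p : X ⟶ Proj 𝒜} (hp : IsPMap φ j p) (hj : IsDomOf φ j)
    {d : ℕ} {f : A} (hf : f ∈ 𝒜 d) (hd : 0 < d) :
    p ⁻¹ᵁ Proj.basicOpen 𝒜 f = j ⁻¹ᵁ Proj.basicOpen ℬ (φ f) := by
  ext x
  obtain ⟨e, g, he, hg, y, rfl⟩ := exists_chartX_eq hj x
  have h1 : (chartX hj hg he).base y ∈ p ⁻¹ᵁ Proj.basicOpen 𝒜 f ↔
      y ∈ (chartX hj hg he ≫ p) ⁻¹ᵁ Proj.basicOpen 𝒜 f := Iff.rfl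
  have h2 : (chartX hj hg he).base y ∈ j ⁻¹ᵁ Proj.basicOpen ℬ (φ f) ↔
      y ∈ (chartX hj hg he ≫ j) ⁻¹ᵁ Proj.basicOpen ℬ (φ f) := Iff.rfl
  simp only [SetLike.mem_coe]
  rw [h1, h2, hp.chartX_comp hj, chartX_fac, Scheme.Hom.comp_preimage,
    Proj.awayι_preimage_basicOpen 𝒜 hg he hf hd,
    Proj.awayι_preimage_basicOpen ℬ (Graded.map_mem φ hg) he (Graded.map_mem φ hf) hd,
    ← map_isLocalizationElem φ hf hg]
  rfl

end Preimage


section Local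

variable {X : Scheme.{u}} {j : X ⟶ Proj ℬ} [IsOpenImmersion j]
variable {φ}

theorem range_chartX (hj : IsDomOf φ j) {d : ℕ} {f : A} (hf : f ∈ 𝒜 d) (hd : 0 < d) :
    Set.range (chartX hj hf hd).base = j.base ⁻¹' (Proj.basicOpen ℬ (φ f) : Set (Proj ℬ)) := by
  ext x
  constructor
  · rintro ⟨y, rfl⟩
    change j.base ((chartX hj hf hd).base y) ∈ Proj.basicOpen ℬ (φ f)
    rw [← Scheme.Hom.comp_apply, chartX_fac,
      ← Proj.opensRange_awayι ℬ (φ f) (Graded.map_mem φ hf) hd]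
    exact ⟨y, rfl⟩
  · intro hx
    have hx' : j.base x ∈ Proj.basicOpen ℬ (φ f) := hx
    rw [← Proj.opensRange_awayι ℬ (φ f) (Graded.map_mem φ hf) hd] at hx'
    obtain ⟨y, hy⟩ := hx'
    refine ⟨y, j.isOpenEmbedding.injective ?_⟩
    rw [← Scheme.Hom.comp_apply, chartX_fac, hy]

/-- the chart as an isomorphism onto `p⁻¹(D₊ f)` -/
noncomputable def chartIso {p : X ⟶ Proj 𝒜} (hp : IsPMap φ j p) (hj : IsDomOf φ j)
    {d : ℕ} {f : A} (hf : f ∈ 𝒜 d) (hd : 0 < d) :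
    Spec (.of (Away ℬ (φ f))) ≅ ((p ⁻¹ᵁ Proj.basicOpen 𝒜 f : X.Opens) : Scheme.{u}) :=
  IsOpenImmersion.isoOfRangeEq (chartX hj hf hd) (p ⁻¹ᵁ Proj.basicOpen 𝒜 f).ι (by
    rw [range_chartX, Scheme.Opens.range_ι, hp.preimage_basicOpen hj hf hd]
    rfl)

@[reassoc (attr := simp)]
theorem chartIso_hom_ι {p : X ⟶ Proj 𝒜} (hp : IsPMap φ j p) (hj : IsDomOf φ j)
    {d : ℕ} {f : A} (hf : f ∈ 𝒜 d) (hd : 0 < d) :
    (chartIso hp hj hf hd).hom ≫ (p ⁻¹ᵁ Proj.basicOpen 𝒜 f).ι = chartX hj hf hd :=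
  IsOpenImmersion.isoOfRangeEq_hom_fac _ _ _

theorem IsPMap.restrict_basicOpen {p : X ⟶ Proj 𝒜} (hp : IsPMap φ j p) (hj : IsDomOf φ j)
    {d : ℕ} {f : A} (hf : f ∈ 𝒜 d) (hd : 0 < d) :
    (chartIso hp hj hf hd).hom ≫ (p ∣_ Proj.basicOpen 𝒜 f) ≫
        (Proj.basicOpenIsoSpec 𝒜 f hf hd).hom =
      Spec.map (CommRingCat.ofHom (Away.map φ f)) := by
  rw [← cancel_mono (Proj.basicOpenIsoSpec 𝒜 f hf hd).inv, ← cancel_mono (Proj.basicOpen 𝒜 f).ι]
  simp only [Category.assoc, Iso.hom_inv_id_assoc, morphismRestrict_ι, chartIso_hom_ι_assoc]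
  rw [hp.chartX_comp hj hf hd, Proj.basicOpenIsoSpec_inv_ι]

/-- A target-local property holds for the partial morphism induced by `φ` as soon as it holds for
`Spec` of all the induced maps on degree-zero localizations. -/
theorem IsPMap.of_forall_away {p : X ⟶ Proj 𝒜} (hp : IsPMap φ j p) (hj : IsDomOf φ j)
    (P : MorphismProperty Scheme.{u}) [IsZariskiLocalAtTarget P]
    (H : ∀ (i : ℕ) (_ : 0 < i) (s : A) (_ : s ∈ 𝒜 i),
      P (Spec.map (CommRingCat.ofHom (Away.map φ s)))) :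
    P p := by
  rw [IsZariskiLocalAtTarget.iff_of_iSup_eq_top (P := P)
    (fun s : (Σ i : ℕ+, 𝒜 i) => Proj.basicOpen 𝒜 (s.2 : A)) (iSup_basicOpen_pos_eq_top 𝒜)]
  rintro ⟨i, s⟩
  have h := hp.restrict_basicOpen hj s.2 i.2
  have h2 : P ((chartIso hp hj s.2 i.2).hom ≫ (p ∣_ Proj.basicOpen 𝒜 (s : A)) ≫
        (Proj.basicOpenIsoSpec 𝒜 (s : A) s.2 i.2).hom) := by
    rw [h]; exact H i i.2 s.1 s.2
  rw [MorphismProperty.cancel_left_of_respectsIso (P := P),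
    MorphismProperty.cancel_right_of_respectsIso (P := P)] at h2
  exact h2

end Local


section TN

theorem awayMap_surjective_TN (n : ℕ) (hsurj : ∀ k, n ≤ k → ∀ b ∈ ℬ k, ∃ a ∈ 𝒜 k, φ a = b)
    {i : ℕ} (hi : 0 < i) (s : A) (hs : s ∈ 𝒜 i) : Function.Surjective (Away.map φ s) := by
  intro z
  obtain ⟨k, b, hb, rfl⟩ := Away.mk_surjective ℬ (Graded.map_mem φ hs) z
  have hb' : b * φ s ^ n ∈ ℬ ((k + n) • i) := by
    have := SetLike.mul_mem_graded hb (SetLike.pow_mem_graded n (Graded.map_mem φ hs))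
    convert this using 2
    simp [add_mul]
  have hle : n ≤ (k + n) • i := by
    calc n ≤ k + n := Nat.le_add_left _ _
      _ = (k + n) * 1 := (mul_one _).symm
      _ ≤ (k + n) * i := Nat.mul_le_mul_left _ hi
  obtain ⟨a, ha, hfa⟩ := hsurj ((k + n) • i) hle _ hb'
  refine ⟨Away.mk 𝒜 hs (k + n) a ha, ?_⟩
  rw [Away.map_mk]
  ext
  simp only [Away.val_mk, hfa]
  rw [Localization.mk_eq_mk_iff, Localization.r_iff_exists]
  exact ⟨1, by simp [pow_add]; ring⟩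

theorem awayMap_injective_TN (n : ℕ) (hinj : ∀ k, n ≤ k → ∀ a ∈ 𝒜 k, φ a = 0 → a = 0)
    {i : ℕ} (hi : 0 < i) (s : A) (hs : s ∈ 𝒜 i) : Function.Injective (Away.map φ s) := by
  rw [injective_iff_map_eq_zero]
  intro z hz
  obtain ⟨m, a, ha, rfl⟩ := Away.mk_surjective 𝒜 hs z
  rw [Away.map_mk] at hz
  have hz' := congr_arg HomogeneousLocalization.val hz
  simp only [Away.val_mk, HomogeneousLocalization.val_zero] at hz'
  rw [Localization.mk_eq_mk'_apply, IsLocalization.mk'_eq_zero_iff] at hz'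
  obtain ⟨⟨_, k, rfl⟩, hk⟩ := hz'
  have h1 : s ^ (k + n) * a ∈ 𝒜 ((k + n) • i + m • i) :=
    SetLike.mul_mem_graded (SetLike.pow_mem_graded _ hs) ha
  have h2 : φ (s ^ (k + n) * a) = 0 := by
    have hk' : φ s ^ k * φ a = 0 := hk
    rw [map_mul, map_pow, pow_add, mul_comm (φ s ^ k), mul_assoc, hk', mul_zero]
  have hle : n ≤ (k + n) • i + m • i := by
    calc n ≤ k + n := Nat.le_add_left _ _
      _ = (k + n) * 1 := (mul_one _).symm
      _ ≤ (k + n) * i := Nat.mul_le_mul_left _ hi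
      _ ≤ (k + n) • i + m • i := Nat.le_add_right _ _
  have h3 := hinj _ hle _ h1 h2
  ext
  simp only [Away.val_mk, HomogeneousLocalization.val_zero]
  rw [Localization.mk_eq_mk'_apply, IsLocalization.mk'_eq_zero_iff]
  exact ⟨⟨s ^ (k + n), k + n, rfl⟩, h3⟩

variable {X : Scheme.{u}} {j : X ⟶ Proj ℬ} [IsOpenImmersion j]
variable {φ}

set_option backward.isDefEq.respectTransparency false in
theorem IsPMap.isAffineHom {p : X ⟶ Proj 𝒜} (hp : IsPMap φ j p) (hj : IsDomOf φ j) :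
    IsAffineHom p :=
  hp.of_forall_away hj @IsAffineHom fun _ _ _ _ => inferInstance

theorem IsPMap.isClosedImmersion_of_TN {p : X ⟶ Proj 𝒜} (hp : IsPMap φ j p) (hj : IsDomOf φ j)
    (n : ℕ) (hsurj : ∀ k, n ≤ k → ∀ b ∈ ℬ k, ∃ a ∈ 𝒜 k, φ a = b) :
    IsClosedImmersion p :=
  hp.of_forall_away hj @IsClosedImmersion fun _ hi s hs =>
    IsClosedImmersion.spec_of_surjective _ (awayMap_surjective_TN φ n hsurj hi s hs)

theorem IsPMap.isIso_of_TN {p : X ⟶ Proj 𝒜} (hp : IsPMap φ j p) (hj : IsDomOf φ j)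
    (n : ℕ) (hinj : ∀ k, n ≤ k → ∀ a ∈ 𝒜 k, φ a = 0 → a = 0)
    (hsurj : ∀ k, n ≤ k → ∀ b ∈ ℬ k, ∃ a ∈ 𝒜 k, φ a = b) :
    IsIso p := by
  refine hp.of_forall_away hj (MorphismProperty.isomorphisms Scheme.{u}) fun i hi s hs => ?_
  have hb : Function.Bijective (Away.map φ s) :=
    ⟨awayMap_injective_TN φ n hinj hi s hs, awayMap_surjective_TN φ n hsurj hi s hs⟩
  have : IsIso (CommRingCat.ofHom (Away.map φ s)) :=
    (ConcreteCategory.isIso_iff_bijective _).mpr hb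
  change IsIso (Spec.map (CommRingCat.ofHom (Away.map φ s)))
  infer_instance

/-- under (TN)-surjectivity every point of `Proj ℬ` lies in some `D₊(φ f)` -/
theorem isDomOf_id_of_TN (n : ℕ) (hsurj : ∀ k, n ≤ k → ∀ b ∈ ℬ k, ∃ a ∈ 𝒜 k, φ a = b) :
    IsDomOf φ (𝟙 (Proj ℬ)) := by
  intro x
  refine ⟨fun _ => ?_, fun _ => ⟨x, rfl⟩⟩
  let x' : ProjectiveSpectrum ℬ := x
  have hx := x'.not_irrelevant_le
  rw [HomogeneousIdeal.irrelevant_le] at hx
  push Not at hx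
  obtain ⟨i, hi, hx2⟩ := hx
  obtain ⟨b, hb, hbx⟩ := SetLike.not_le_iff_exists.mp hx2
  replace hb : b ∈ ℬ i := hb
  replace hbx : b ∉ x'.asHomogeneousIdeal := hbx
  have hb' : b ^ (n + 1) ∈ ℬ ((n + 1) • i) := SetLike.pow_mem_graded _ hb
  have hle : n ≤ (n + 1) • i := by
    calc n ≤ n + 1 := Nat.le_succ _
      _ = (n + 1) * 1 := (mul_one _).symm
      _ ≤ (n + 1) * i := Nat.mul_le_mul_left _ hi
  obtain ⟨a, ha, hfa⟩ := hsurj _ hle _ hb'
  refine ⟨(n + 1) • i, a, by positivity, ha, ?_⟩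
  rw [hfa]
  change b ^ (n + 1) ∉ x'.asHomogeneousIdeal
  intro hmem
  exact hbx (x'.isPrime.mem_of_pow_mem _ hmem)

end TN

end PMap

end Groth.Agent.Helper13RelProj
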