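import Mathlib

/-!
# A graded ring `B = A[z]` with `z` of degree one: structure of the graded pieces (helper27)
-/

set_option autoImplicit false
universe u

open scoped HomogeneousIdeal

namespace Groth.Agent.Lib.Helper27PolyGraded

variable {A B σ τ : Type u} [CommRing A] [CommRing B] [SetLike σ A] [AddSubgroupClass σ A]
  [SetLike τ B] [AddSubgroupClass τ B] {𝒜 : ℕ → σ} {ℬ : ℕ → τ} [GradedRing 𝒜] [GradedRing ℬ]
  (ψ : 𝒜 →+*ᵍ ℬ) {z : B} (hz : z ∈ ℬ 1)

include hz in
theorem pow_mem (j : ℕ) : z ^ j ∈ ℬ j := by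
  have := SetLike.pow_mem_graded j hz
  rwa [smul_eq_mul, mul_one] at this

include hz in
/-- the `n`-th component of `ψ c * z ^ j`. -/
theorem proj_mul_pow (c : A) (j n : ℕ) :
    (DirectSum.decompose ℬ (ψ c * z ^ j) n : B) =
      if j ≤ n then ψ (DirectSum.decompose 𝒜 c (n - j) : A) * z ^ j else 0 := by
  have hzj : z ^ j ∈ ℬ j := pow_mem hz j
  split_ifs with h
  · rw [DirectSum.coe_decompose_mul_of_right_mem_of_le ℬ hzj h,
      GradedRingHom.map_directSumDecompose]
  · exact DirectSum.coe_decompose_mul_of_right_mem_of_not_le ℬ hzj h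

include hz in
/-- if `p(z)` is homogeneous of degree `n`, the coefficient of `z^j` has degree `n - j`. -/
theorem coeff_mem (hinj : Function.Injective (Polynomial.eval₂RingHom (ψ : A →+* B) z)) {n : ℕ}
    (p : Polynomial A) (hp : Polynomial.eval₂ (ψ : A →+* B) z p ∈ ℬ n) (j : ℕ) :
    (j ≤ n → p.coeff j ∈ 𝒜 (n - j)) ∧ (n < j → p.coeff j = 0) := by
  classical
  let c : ℕ → A := fun j => (DirectSum.decompose 𝒜 (p.coeff j) (n - j) : A)
  let p' : Polynomial A := ∑ j ∈ Finset.range (n + 1), Polynomial.monomial j (c j)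
  have h1 : Polynomial.eval₂ (ψ : A →+* B) z p' =
      ∑ j ∈ Finset.range (n + 1), ψ (c j) * z ^ j := by
    rw [Polynomial.eval₂_finset_sum]
    refine Finset.sum_congr rfl fun j _ => ?_
    rw [Polynomial.eval₂_monomial]
    rfl
  set N := p.natDegree + n + 2 with hN
  have h2 : Polynomial.eval₂ (ψ : A →+* B) z p =
      ∑ j ∈ Finset.range N, ψ (p.coeff j) * z ^ j :=
    Polynomial.eval₂_eq_sum_range' _ (by omega) _
  have h3 : Polynomial.eval₂ (ψ : A →+* B) z p =
      ∑ j ∈ Finset.range (n + 1), ψ (c j) * z ^ j := by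
    conv_lhs => rw [← DirectSum.decompose_of_mem_same ℬ hp]
    rw [h2, DirectSum.decompose_sum, DFinsupp.finset_sum_apply, AddSubmonoidClass.coe_finset_sum]
    have : ∀ j ∈ Finset.range N, ((DirectSum.decompose ℬ (ψ (p.coeff j) * z ^ j)) n : B) =
        if j ≤ n then ψ (c j) * z ^ j else 0 := fun j _ => proj_mul_pow ψ hz _ j n
    rw [Finset.sum_congr rfl this, Finset.sum_ite, Finset.sum_const_zero, add_zero]
    refine Finset.sum_congr ?_ fun _ _ => rfl
    ext j
    simp only [Finset.mem_filter, Finset.mem_range]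
    omega
  have h4 : p' = p := hinj (by
    change Polynomial.eval₂ (ψ : A →+* B) z p' = Polynomial.eval₂ (ψ : A →+* B) z p
    rw [h1, h3])
  have h5 : p.coeff j = if j ≤ n then c j else 0 := by
    rw [← h4, Polynomial.finset_sum_coeff]
    simp only [Polynomial.coeff_monomial]
    rw [Finset.sum_ite_eq' (Finset.range (n + 1)) j (fun k => c k)]
    simp only [Finset.mem_range, Nat.lt_succ_iff]
  constructor
  · intro hj
    rw [h5, if_pos hj]
    exact SetLike.coe_mem _
  · intro hj
    rw [h5, if_neg (by omega)]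

include hz in
theorem natDegree_lt (hinj : Function.Injective (Polynomial.eval₂RingHom (ψ : A →+* B) z))
    {n : ℕ} (p : Polynomial A) (hp : Polynomial.eval₂ (ψ : A →+* B) z p ∈ ℬ n) :
    p.natDegree < n + 1 := by
  rw [Nat.lt_succ_iff, Polynomial.natDegree_le_iff_coeff_eq_zero]
  intro j hj
  exact (coeff_mem ψ hz hinj p hp j).2 hj

include hz in
/-- homogeneous `p(z)` with `p(1) = 0` vanishes. -/
theorem eq_zero_of_eval_one (hinj : Function.Injective (Polynomial.eval₂RingHom (ψ : A →+* B) z))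
    {n : ℕ} (p : Polynomial A) (hp : Polynomial.eval₂ (ψ : A →+* B) z p ∈ ℬ n)
    (h1 : p.eval 1 = 0) : p = 0 := by
  classical
  rw [Polynomial.eval_eq_sum_range' (natDegree_lt ψ hz hinj p hp)] at h1
  simp only [one_pow, mul_one] at h1
  ext j
  rw [Polynomial.coeff_zero]
  by_cases hj : j ≤ n
  · have hmem := fun k => (coeff_mem ψ hz hinj p hp k).1
    have h2 : ((DirectSum.decompose 𝒜 (∑ x ∈ Finset.range (n + 1), p.coeff x)) (n - j) : A) =
        0 := by
      rw [h1, DirectSum.decompose_zero, DirectSum.zero_apply, ZeroMemClass.coe_zero]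
    rw [DirectSum.decompose_sum, DFinsupp.finset_sum_apply,
      AddSubmonoidClass.coe_finset_sum] at h2
    have h3 : ∀ k ∈ Finset.range (n + 1), ((DirectSum.decompose 𝒜 (p.coeff k)) (n - j) : A) =
        if k = j then p.coeff j else 0 := by
      intro k hk
      have hk' : k ≤ n := Nat.lt_succ_iff.mp (Finset.mem_range.mp hk)
      split_ifs with hkj
      · subst hkj
        exact DirectSum.decompose_of_mem_same 𝒜 (hmem k hk')
      · exact DirectSum.decompose_of_mem_ne 𝒜 (hmem k hk') (by omega)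
    rw [Finset.sum_congr rfl h3, Finset.sum_ite_eq' (Finset.range (n + 1)) j
      (fun _ => p.coeff j)] at h2
    simpa [Nat.lt_succ_iff, hj] using h2
  · exact (coeff_mem ψ hz hinj p hp j).2 (by omega)

include hz in
/-- elements of positive degree lie in the ideal generated by `ψ(A_+)` and `z`. -/
theorem mem_span_of_pos (hbij : Function.Bijective (Polynomial.eval₂RingHom (ψ : A →+* B) z))
    {n : ℕ} (hn : 0 < n) (b : B) (hb : b ∈ ℬ n) :
    b ∈ Ideal.span ((ψ '' ((𝒜₊).toIdeal : Set A)) ∪ {z}) := by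
  obtain ⟨p, rfl⟩ := hbij.2 b
  change Polynomial.eval₂ (ψ : A →+* B) z p ∈ ℬ n at hb
  change Polynomial.eval₂ (ψ : A →+* B) z p ∈ _
  rw [Polynomial.eval₂_eq_sum_range' _ (natDegree_lt ψ hz hbij.1 p hb)]
  refine Ideal.sum_mem _ fun j hj => ?_
  have hj' : j ≤ n := Nat.lt_succ_iff.mp (Finset.mem_range.mp hj)
  rcases Nat.eq_zero_or_pos j with rfl | hjpos
  · rw [pow_zero, mul_one]
    apply Ideal.subset_span
    left
    refine ⟨p.coeff 0, ?_, rfl⟩
    exact HomogeneousIdeal.mem_irrelevant_of_mem _ hn ((coeff_mem ψ hz hbij.1 p hb 0).1 hj')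
  · obtain ⟨k, rfl⟩ : ∃ k, j = k + 1 := ⟨j - 1, by omega⟩
    rw [pow_succ, ← mul_assoc]
    exact Ideal.mul_mem_left _ _ (Ideal.subset_span (Or.inr rfl))

end Groth.Agent.Lib.Helper27PolyGraded
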