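import Groth.Agent.Lib.Helper27AwayLaurent
import Groth.Agent.Lib.Helper27PolyGraded

/-!
# `S[z]_(f) = S_(f)[T]` for `f` homogeneous of degree one (helper27)
-/

set_option autoImplicit false
universe u

open HomogeneousLocalization Polynomial

namespace Groth.Agent.Lib.Helper27AwayPoly

open Helper27AwayLaurent

variable {A B σ τ : Type u} [CommRing A] [CommRing B] [SetLike σ A] [AddSubgroupClass σ A]
  [SetLike τ B] [AddSubgroupClass τ B] {𝒜 : ℕ → σ} {ℬ : ℕ → τ} [GradedRing 𝒜] [GradedRing ℬ]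
  (ψ : 𝒜 →+*ᵍ ℬ) {z : B} (hz : z ∈ ℬ 1)
  (hbij : Function.Bijective (Polynomial.eval₂RingHom (ψ : A →+* B) z))
  {f : A} (hf : f ∈ 𝒜 1)

/-- the element `z / ψ f`. -/
noncomputable def zeta : Away ℬ (ψ f) :=
  Away.mk ℬ (ψ.2 hf) 1 z (mem_smul_one ℬ hz)

theorem zeta_val : (zeta ψ hz hf).val =
    Localization.mk z (⟨ψ f ^ 1, ⟨1, rfl⟩⟩ : Submonoid.powers (ψ f)) :=
  Away.val_mk ..

/-- `S_(f)[T] → S[z]_(ψ f)`, `T ↦ z / ψ f`. -/
noncomputable def polyToAway : (Away 𝒜 f)[X] →+* Away ℬ (ψ f) :=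
  Polynomial.eval₂RingHom (Away.map ψ f) (zeta ψ hz hf)

theorem polyToAway_C (c : Away 𝒜 f) : polyToAway ψ hz hf (C c) = Away.map ψ f c :=
  Polynomial.eval₂_C _ _

theorem polyToAway_X : polyToAway ψ hz hf X = zeta ψ hz hf :=
  Polynomial.eval₂_X _ _

/-- `S[z] → S_(f)[T]`: dehomogenise the coefficients. -/
noncomputable def toPoly : B →+* (Away 𝒜 f)[X] :=
  (Polynomial.mapRingHom (dehom 𝒜 hf)).comp (RingEquiv.ofBijective _ hbij).symm.toRingHom

theorem toPoly_eval₂ (P : A[X]) :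
    toPoly ψ hbij hf (Polynomial.eval₂ (ψ : A →+* B) z P) = P.map (dehom 𝒜 hf) := by
  unfold toPoly
  rw [RingHom.comp_apply]
  have h1 : (RingEquiv.ofBijective _ hbij).symm.toRingHom
      (Polynomial.eval₂ (ψ : A →+* B) z P) = P :=
    (RingEquiv.ofBijective _ hbij).symm_apply_apply P
  rw [h1]
  rfl

theorem toPoly_map (a : A) : toPoly ψ hbij hf (ψ a) = C (dehom 𝒜 hf a) := by
  have h1 := toPoly_eval₂ ψ hbij hf (C a)
  rw [Polynomial.eval₂_C, Polynomial.map_C] at h1
  exact h1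

theorem toPoly_z : toPoly ψ hbij hf z = X := by
  have h1 := toPoly_eval₂ ψ hbij hf X
  rw [Polynomial.eval₂_X, Polynomial.map_X] at h1
  exact h1

theorem toPoly_f : toPoly ψ hbij hf (ψ f) = 1 := by
  rw [toPoly_map, dehom_self, map_one]

/-- `S[z]_{ψ f} → S_(f)[T]`. -/
noncomputable def locToPoly : Localization.Away (ψ f) →+* (Away 𝒜 f)[X] :=
  IsLocalization.Away.lift (ψ f) (g := toPoly ψ hbij hf)
    (by rw [toPoly_f]; exact isUnit_one)

theorem locToPoly_mk (b : B) (n : ℕ) :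
    locToPoly ψ hbij hf (Localization.mk b (⟨ψ f ^ n, ⟨n, rfl⟩⟩ : Submonoid.powers (ψ f))) =
      toPoly ψ hbij hf b := by
  have h1 : Localization.mk b (⟨ψ f ^ n, ⟨n, rfl⟩⟩ : Submonoid.powers (ψ f)) *
      algebraMap B (Localization.Away (ψ f)) (ψ f ^ n) =
      algebraMap B (Localization.Away (ψ f)) b := by
    rw [Localization.mk_eq_mk']
    exact IsLocalization.mk'_spec _ _ _
  have h2 := congrArg (locToPoly ψ hbij hf) h1
  unfold locToPoly at h2 ⊢
  rw [map_mul, IsLocalization.Away.lift_eq, IsLocalization.Away.lift_eq, map_pow, toPoly_f,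
    one_pow, mul_one] at h2
  exact h2

/-- `S[z]_(ψ f) → S_(f)[T]`. -/
noncomputable def awayToPoly : Away ℬ (ψ f) →+* (Away 𝒜 f)[X] :=
  (locToPoly ψ hbij hf).comp (algebraMap (Away ℬ (ψ f)) (Localization.Away (ψ f)))

theorem awayToPoly_mk (n : ℕ) (b : B) (hb : b ∈ ℬ (n • 1)) :
    awayToPoly ψ hbij hf (Away.mk ℬ (ψ.2 hf) n b hb) = toPoly ψ hbij hf b := by
  unfold awayToPoly
  rw [RingHom.comp_apply, HomogeneousLocalization.algebraMap_apply, Away.val_mk, locToPoly_mk]

theorem awayToPoly_polyToAway (Q : (Away 𝒜 f)[X]) :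
    awayToPoly ψ hbij hf (polyToAway ψ hz hf Q) = Q := by
  have key : (awayToPoly ψ hbij hf).comp (polyToAway ψ hz hf) = RingHom.id _ := by
    apply Polynomial.ringHom_ext
    · intro c
      simp only [RingHom.comp_apply, RingHom.id_apply]
      rw [polyToAway_C]
      obtain ⟨n, a, ha, rfl⟩ := Away.mk_surjective 𝒜 hf c
      have ha' : a ∈ 𝒜 n := by rwa [smul_eq_mul, mul_one] at ha
      rw [Away.map_mk, awayToPoly_mk, toPoly_map, dehom_of_mem 𝒜 hf ha']
    · simp only [RingHom.comp_apply, RingHom.id_apply]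
      rw [polyToAway_X]
      unfold zeta
      rw [awayToPoly_mk, toPoly_z]
  exact RingHom.congr_fun key Q

include hbij in
theorem polyToAway_injective : Function.Injective (polyToAway ψ hz hf) :=
  Function.LeftInverse.injective (awayToPoly_polyToAway ψ hz hbij hf)

theorem mk_mul_pow (g b : B) (m : ℕ) :
    Localization.mk b (⟨g ^ m, ⟨m, rfl⟩⟩ : Submonoid.powers g) *
      algebraMap B (Localization.Away g) g ^ m = algebraMap B (Localization.Away g) b := by
  rw [← map_pow, Localization.mk_eq_mk']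
  exact IsLocalization.mk'_spec _ _ _

include hbij in
theorem polyToAway_surjective : Function.Surjective (polyToAway ψ hz hf) := by
  intro q
  obtain ⟨n, b, hb, rfl⟩ := Away.mk_surjective ℬ (ψ.2 hf) q
  have hb' : b ∈ ℬ n := by rwa [smul_eq_mul, mul_one] at hb
  obtain ⟨P, rfl⟩ := hbij.2 b
  have hb'' : Polynomial.eval₂ (ψ : A →+* B) z P ∈ ℬ n := hb'
  have hdeg := Helper27PolyGraded.natDegree_lt ψ hz hbij.1 P hb''
  have hcoeff := fun j => (Helper27PolyGraded.coeff_mem ψ hz hbij.1 P hb'' j).1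
  refine ⟨∑ j ∈ Finset.range (n + 1), C (dehom 𝒜 hf (P.coeff j)) * X ^ j, ?_⟩
  apply HomogeneousLocalization.val_injective
  have hu : IsUnit (algebraMap B (Localization.Away (ψ f)) (ψ f) ^ n) :=
    (IsLocalization.Away.algebraMap_isUnit (ψ f)).pow n
  apply hu.mul_left_injective
  change _ * _ = _ * _
  rw [Away.val_mk]
  refine Eq.trans ?_ (mk_mul_pow (ψ f) (Polynomial.eval₂ (ψ : A →+* B) z P) n).symm
  rw [Polynomial.eval₂_eq_sum_range' _ hdeg, map_sum, map_sum,
    ← HomogeneousLocalization.algebraMap_apply, map_sum, Finset.sum_mul]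
  refine Finset.sum_congr rfl fun j hj => ?_
  have hjn : j ≤ n := Nat.lt_succ_iff.mp (Finset.mem_range.mp hj)
  rw [map_mul, map_pow, polyToAway_C, polyToAway_X, dehom_of_mem 𝒜 hf (hcoeff j hjn), Away.map_mk,
    map_mul, map_pow, HomogeneousLocalization.algebraMap_apply,
    HomogeneousLocalization.algebraMap_apply, Away.val_mk, zeta_val]
  have h1 : algebraMap B (Localization.Away (ψ f)) (ψ f) ^ n =
      algebraMap B (Localization.Away (ψ f)) (ψ f) ^ (n - j) *
        algebraMap B (Localization.Away (ψ f)) (ψ f) ^ j := by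
    rw [← pow_add, Nat.sub_add_cancel hjn]
  have h2 := mk_mul_pow (ψ f) (ψ (P.coeff j)) (n - j)
  have h3 := mk_mul_pow (ψ f) z 1
  have e1 : algebraMap B (Localization.Away (ψ f)) (ψ f) ^ 1 =
      algebraMap B (Localization.Away (ψ f)) (ψ f) := pow_one _
  rw [e1] at h3
  rw [h1, map_mul, map_pow]
  have h4 : ∀ (X1 X2 u a1 a2 : Localization.Away (ψ f)) (m : ℕ), X1 * u ^ m = a1 →
      X2 * u = a2 → X1 * X2 ^ j * (u ^ m * u ^ j) = a1 * a2 ^ j := by
    intro X1 X2 u a1 a2 m e1 e2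
    rw [← e1, ← e2]
    ring
  exact h4 _ _ _ _ _ _ h2 h3

include hbij in
theorem polyToAway_bijective : Function.Bijective (polyToAway ψ hz hf) :=
  ⟨polyToAway_injective ψ hz hbij hf, polyToAway_surjective ψ hz hbij hf⟩

include hz hbij hf in
theorem finiteType_awayMap : (Away.map ψ f).FiniteType := by
  have h1 : Away.map ψ f = (polyToAway ψ hz hf).comp
      (algebraMap (Away 𝒜 f) (Away 𝒜 f)[X]) := by
    ext c
    exact congrArg val (polyToAway_C ψ hz hf c).symm
  rw [h1]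
  refine RingHom.FiniteType.comp
    (RingHom.FiniteType.of_surjective _ (polyToAway_surjective ψ hz hbij hf)) ?_
  rw [RingHom.finiteType_algebraMap]
  infer_instance

section Pushout

open CategoryTheory CategoryTheory.Limits

attribute [local instance] Polynomial.algebra

include hz hbij hf in
theorem exists_isPushout_poly (K : CommRingCat.{u}) (χ : CommRingCat.of (Away 𝒜 f) ⟶ K) :
    ∃ β : CommRingCat.of (Away ℬ (ψ f)) ⟶ CommRingCat.of (Polynomial K),
      IsPushout (CommRingCat.ofHom (Away.map ψ f)) χ β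
        (CommRingCat.ofHom (algebraMap K (Polynomial K))) := by
  let _ : Algebra (Away 𝒜 f) K := χ.hom.toAlgebra
  have h1 := CommRingCat.isPushout_of_isPushout (Away 𝒜 f) (Polynomial (Away 𝒜 f)) K
    (Polynomial K)
  let e : CommRingCat.of (Polynomial (Away 𝒜 f)) ≅ CommRingCat.of (Away ℬ (ψ f)) :=
    (RingEquiv.ofBijective (polyToAway ψ hz hf)
      (polyToAway_bijective ψ hz hbij hf)).toCommRingCatIso
  refine ⟨e.inv ≫ CommRingCat.ofHom
    (algebraMap (Polynomial (Away 𝒜 f)) (Polynomial K)), ?_⟩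
  refine h1.of_iso (Iso.refl _) e (Iso.refl _) (Iso.refl _) ?_ ?_ ?_ ?_
  · ext c
    exact congrArg val (polyToAway_C ψ hz hf c)
  · rfl
  · simp
  · simp

end Pushout

end Groth.Agent.Lib.Helper27AwayPoly
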