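import Mathlib

/-!
# Fibres of a morphism through a chart and a pushout of rings (helper27)
-/

set_option autoImplicit false
universe u

open CategoryTheory CategoryTheory.Limits AlgebraicGeometry

namespace Groth.Agent.Lib.Helper27Fibre

/-- If over an affine chart `a : Spec B₀ ⟶ X` containing `x` the morphism `π` is
`Spec.map α : Spec B ⟶ Spec B₀`, and `K` is the pushout of `B` along every `B₀ ⟶ κ(x)`, then the
fibre of `π` at `x` is `Spec K`. -/
theorem exists_fibre_iso {E X : Scheme.{u}} (π : E ⟶ X) (x : X) {B₀ B K : CommRingCat.{u}}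
    (a : Spec B₀ ⟶ X) [IsOpenImmersion a] (c : Spec B ⟶ E) [IsOpenImmersion c]
    (α : B₀ ⟶ B) (hsq : c ≫ π = Spec.map α ≫ a)
    (hrange : π ⁻¹ᵁ a.opensRange = c.opensRange) (hx : x ∈ a.opensRange)
    (γ : X.residueField x ⟶ K)
    (hpo : ∀ ψ : B₀ ⟶ X.residueField x, ∃ β : B ⟶ K, IsPushout α ψ β γ) :
    ∃ e : pullback π (X.fromSpecResidueField x) ≅ Spec K,
      e.hom ≫ Spec.map γ = pullback.snd π (X.fromSpecResidueField x) := by
  have hr : Set.range (X.fromSpecResidueField x) ⊆ Set.range a := by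
    rw [Scheme.range_fromSpecResidueField]
    rintro _ rfl
    exact hx
  let l : Spec (X.residueField x) ⟶ Spec B₀ :=
    IsOpenImmersion.lift a (X.fromSpecResidueField x) hr
  have hl : l ≫ a = X.fromSpecResidueField x := IsOpenImmersion.lift_fac _ _ _
  obtain ⟨β, hβ⟩ := hpo (Spec.preimage l)
  have h1 := isPullback_SpecMap_of_isPushout _ _ _ _ hβ
  rw [Spec.map_preimage] at h1
  have h2 : IsPullback c (Spec.map α) π a :=
    (IsOpenImmersion.isPullback (Spec.map α) c a π hsq hrange).flip
  have h3 := h1.paste_horiz h2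
  rw [hl] at h3
  exact ⟨h3.isoPullback.symm, h3.isoPullback_inv_snd⟩

end Groth.Agent.Lib.Helper27Fibre
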