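import Groth.Prelude.Def_PCone
import Groth.Agent.Lib.Helper13ProjPMap
import Groth.Agent.Lib.Helper27AwayPoly
import Groth.Agent.Lib.Helper27Fibre

/-!
# The retraction of the pointed projective cone (affine base): finite type and fibres (helper27)
-/

set_option autoImplicit false
universe u

open CategoryTheory CategoryTheory.Limits AlgebraicGeometry HomogeneousLocalization
  TopologicalSpace Opposite
open scoped HomogeneousIdeal

namespace Groth.Agent.Lib.Helper27PConeFibre

open Groth.Agent.Helper13RelProj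

variable {R A : Type u} [CommRing R] [CommRing A] [Algebra R A] {𝒜 : ℕ → Submodule R A}
  [GradedAlgebra 𝒜] {B : Type u} [CommRing B] [Algebra R B] {ℬ : ℕ → Submodule R B}
  [GradedAlgebra ℬ] (φ : 𝒜 →+*ᵍ ℬ)

theorem isDomOf_dom : IsDomOf φ (PCone.dom φ).ι := by
  intro x
  rw [Scheme.Opens.range_ι]
  constructor
  · intro hx
    obtain ⟨⟨f, d, hd, hf⟩, hxf⟩ := Opens.mem_iSup.mp hx
    exact ⟨d, f, hd, hf, hxf⟩
  · rintro ⟨d, f, hd, hf, hxf⟩
    exact Opens.mem_iSup.mpr ⟨⟨f, d, hd, hf⟩, hxf⟩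

theorem chart_eq_chartX {d : ℕ} {f : A} (hf : f ∈ 𝒜 d) (hd : 0 < d) :
    PCone.chart φ hf hd = chartX (isDomOf_dom φ) hf hd := rfl

instance chart_isOpenImmersion {d : ℕ} {f : A} (hf : f ∈ 𝒜 d) (hd : 0 < d) :
    IsOpenImmersion (PCone.chart φ hf hd) := by
  rw [chart_eq_chartX]
  infer_instance

variable (p : (PCone.dom φ : Scheme.{u}) ⟶ Proj 𝒜)
  (hp : ∀ (d : ℕ) (f : A) (hd : 0 < d) (hf : f ∈ 𝒜 d),
    PCone.chart φ hf hd ≫ p =
      Spec.map (CommRingCat.ofHom (HomogeneousLocalization.Away.map φ f)) ≫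
        Proj.awayι 𝒜 f hf hd)

include hp in
theorem isPMap_of_chart : IsPMap φ (PCone.dom φ).ι p := by
  intro d f hd hf c hc
  have : c = PCone.chart φ hf hd := by
    rw [← cancel_mono (PCone.dom φ).ι, hc]
    exact (IsOpenImmersion.lift_fac _ _ _).symm
  rw [this, hp]

theorem exists_degOne_not_mem
    (hgen : (HomogeneousIdeal.irrelevant 𝒜).toIdeal = Ideal.span (𝒜 1 : Set A))
    (I : Ideal A) (hI : ¬ (HomogeneousIdeal.irrelevant 𝒜).toIdeal ≤ I) :
    ∃ f ∈ 𝒜 1, f ∉ I := by
  by_contra hcon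
  push Not at hcon
  apply hI
  rw [hgen, Ideal.span_le]
  intro f hf
  exact hcon f hf

/-- every point of the pointed projective cone lies on a degree-one chart. -/
theorem exists_chart_one_eq
    (hgen : (HomogeneousIdeal.irrelevant 𝒜).toIdeal = Ideal.span (𝒜 1 : Set A))
    (y : (PCone.dom φ : Scheme.{u})) :
    ∃ (f : A) (hf : f ∈ 𝒜 1) (q : Spec (CommRingCat.of (Away ℬ (φ f)))),
      PCone.chart φ hf one_pos q = y := by
  obtain ⟨d, g, hd, hg, hy⟩ := (isDomOf_dom φ ((PCone.dom φ).ι y)).mp ⟨y, rfl⟩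
  have hI : ¬ (HomogeneousIdeal.irrelevant 𝒜).toIdeal ≤
      Ideal.comap (φ : A →+* B) ((PCone.dom φ).ι y).asHomogeneousIdeal.toIdeal := by
    intro hle
    exact (Proj.mem_basicOpen _ _ _).mp hy
      (hle (HomogeneousIdeal.mem_irrelevant_of_mem 𝒜 hd hg))
  obtain ⟨f, hf, hfy⟩ := exists_degOne_not_mem hgen _ hI
  have hmem : y ∈ Set.range (chartX (isDomOf_dom φ) hf one_pos).base := by
    rw [range_chartX]
    exact (Proj.mem_basicOpen _ _ _).mpr hfy
  obtain ⟨q, hq⟩ := hmem
  exact ⟨f, hf, q, hq⟩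

/-- the cover of the pointed projective cone by the degree-one charts. -/
noncomputable def coverOne
    (hgen : (HomogeneousIdeal.irrelevant 𝒜).toIdeal = Ideal.span (𝒜 1 : Set A)) :
    (PCone.dom φ : Scheme.{u}).OpenCover :=
  Scheme.Cover.mkOfCovers {f : A // f ∈ 𝒜 1}
    (fun i => Spec (CommRingCat.of (Away ℬ (φ i.1))))
    (fun i => PCone.chart φ i.2 one_pos)
    (fun y => by
      obtain ⟨f, hf, q, hq⟩ := exists_chart_one_eq φ hgen y
      exact ⟨⟨f, hf⟩, q, hq⟩)
    (fun i => by change IsOpenImmersion _; infer_instance)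

variable {z : B} (hz : z ∈ ℬ 1)
  (hbij : Function.Bijective (Polynomial.eval₂RingHom (φ : A →+* B) z))

set_option backward.isDefEq.respectTransparency.types false in
include hp hz hbij in
theorem locallyOfFiniteType_retraction
    (hgen : (HomogeneousIdeal.irrelevant 𝒜).toIdeal = Ideal.span (𝒜 1 : Set A)) :
    LocallyOfFiniteType p := by
  rw [IsZariskiLocalAtSource.iff_of_openCover (P := @LocallyOfFiniteType) (coverOne φ hgen)]
  intro i
  change LocallyOfFiniteType (PCone.chart φ i.2 one_pos ≫ p)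
  rw [hp 1 i.1 one_pos i.2]
  have h1 : LocallyOfFiniteType (Spec.map (CommRingCat.ofHom
      (HomogeneousLocalization.Away.map φ i.1))) := by
    rw [HasRingHomProperty.Spec_iff (P := @LocallyOfFiniteType)]
    exact Helper27AwayPoly.finiteType_awayMap φ hz hbij i.2
  infer_instance

include hp in
theorem isAffineHom_retraction : IsAffineHom p :=
  (isPMap_of_chart φ p hp).isAffineHom (isDomOf_dom φ)

include hp hz hbij in
theorem exists_fibre_iso_retraction
    (hgen : (HomogeneousIdeal.irrelevant 𝒜).toIdeal = Ideal.span (𝒜 1 : Set A)) (x : Proj 𝒜) :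
    ∃ e : pullback p ((Proj 𝒜).fromSpecResidueField x) ≅
        Spec (CommRingCat.of (Polynomial ((Proj 𝒜).residueField x))),
      e.hom ≫ Spec.map (CommRingCat.ofHom (algebraMap ((Proj 𝒜).residueField x)
        (Polynomial ((Proj 𝒜).residueField x)))) =
        pullback.snd p ((Proj 𝒜).fromSpecResidueField x) := by
  obtain ⟨f, hf, hfx⟩ := exists_degOne_not_mem hgen x.asHomogeneousIdeal.toIdeal
    x.not_irrelevant_le
  have hx : x ∈ (Proj.awayι 𝒜 f hf one_pos).opensRange := by
    rw [Proj.opensRange_awayι]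
    exact (Proj.mem_basicOpen _ _ _).mpr hfx
  have hrange : p ⁻¹ᵁ (Proj.awayι 𝒜 f hf one_pos).opensRange =
      (PCone.chart φ hf one_pos).opensRange := by
    rw [Proj.opensRange_awayι,
      (isPMap_of_chart φ p hp).preimage_basicOpen (isDomOf_dom φ) hf one_pos]
    ext y
    change _ ↔ y ∈ Set.range (chartX (isDomOf_dom φ) hf one_pos).base
    rw [range_chartX]
    rfl
  exact Helper27Fibre.exists_fibre_iso p x (Proj.awayι 𝒜 f hf one_pos)
    (PCone.chart φ hf one_pos) _ (hp 1 f one_pos hf) hrange hx _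
    (fun χ => Helper27AwayPoly.exists_isPushout_poly φ hz hbij hf _ χ)

end Groth.Agent.Lib.Helper27PConeFibre
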