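import Mathlib
import Groth.Agent.Lib.Helper4Proj

/-!
# `Proj S = ∅` iff `S_k = 0` for large `k` (irrelevant ideal finitely generated)
-/

set_option autoImplicit false
universe u
open AlgebraicGeometry CategoryTheory

namespace Groth.Agent.Lib.Helper27ProjEmpty

variable {R A : Type u} [CommRing R] [CommRing A] [Algebra R A] (𝒜 : ℕ → Submodule R A)
  [GradedAlgebra 𝒜]

/-- graded pieces of high degree lie in high powers of the irrelevant ideal -/
theorem piece_le_pow (T : Finset A)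
    (hspan : (HomogeneousIdeal.irrelevant 𝒜).toIdeal = Ideal.span (T : Set A))
    (d : A → ℕ) (D : ℕ) (hD : ∀ t ∈ T, 0 < d t ∧ t ∈ 𝒜 (d t) ∧ d t ≤ D) (m : ℕ) :
    ∀ k, m * D + 1 ≤ k → ∀ s ∈ 𝒜 k, s ∈ (HomogeneousIdeal.irrelevant 𝒜).toIdeal ^ (m + 1) := by
  induction m with
  | zero =>
    intro k hk s hs
    rw [zero_add, pow_one]
    exact HomogeneousIdeal.mem_irrelevant_of_mem 𝒜 (by omega) hs
  | succ m ih =>
    intro k hk s hs
    have hs1 : s ∈ (HomogeneousIdeal.irrelevant 𝒜).toIdeal :=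
      HomogeneousIdeal.mem_irrelevant_of_mem 𝒜 (by omega) hs
    rw [hspan] at hs1
    obtain ⟨f, -, hf⟩ := Submodule.mem_span_finset.mp hs1
    have h1 : s = ∑ t ∈ T, (DirectSum.decompose 𝒜 (f t * t) k : A) := by
      conv_lhs => rw [← DirectSum.decompose_of_mem_same 𝒜 hs, ← hf]
      rw [DirectSum.decompose_sum, DFinsupp.finset_sum_apply, AddSubmonoidClass.coe_finset_sum]
      rfl
    rw [h1]
    refine Ideal.sum_mem _ (fun t ht => ?_)
    obtain ⟨hi0, hti', hiD⟩ := hD t ht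
    generalize d t = i at hi0 hti' hiD
    have hik : i ≤ k := by nlinarith
    rw [DirectSum.coe_decompose_mul_of_right_mem_of_le 𝒜 hti' hik, pow_succ]
    refine Ideal.mul_mem_mul ?_ ?_
    · refine ih (k - i) ?_ _ (SetLike.coe_mem _)
      have : (m + 1) * D = m * D + D := by ring
      omega
    · exact HomogeneousIdeal.mem_irrelevant_of_mem 𝒜 hi0 hti'


theorem exists_homogeneous_gens (hfg : (HomogeneousIdeal.irrelevant 𝒜).toIdeal.FG) :
    ∃ (T : Finset A) (d : A → ℕ) (D : ℕ),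
      (HomogeneousIdeal.irrelevant 𝒜).toIdeal = Ideal.span (T : Set A) ∧
      ∀ t ∈ T, 0 < d t ∧ t ∈ 𝒜 (d t) ∧ d t ≤ D := by
  rw [HomogeneousIdeal.irrelevant_eq_span] at hfg ⊢
  obtain ⟨T, hT, hspan⟩ := (Submodule.fg_span_iff_fg_span_finset_subset _).mp hfg
  have hex : ∀ t : A, ∃ i : ℕ, t ∈ T → 0 < i ∧ t ∈ 𝒜 i := by
    intro t
    by_cases ht : t ∈ T
    · obtain ⟨i, hi⟩ := Set.mem_iUnion.mp (hT ht)
      obtain ⟨hi0, hti⟩ := Set.mem_iUnion.mp hi
      exact ⟨i, fun _ => ⟨hi0, hti⟩⟩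
    · exact ⟨0, fun h => absurd h ht⟩
  choose d hd using hex
  refine ⟨T, d, T.sup d, hspan, fun t ht => ⟨(hd t ht).1, (hd t ht).2, Finset.le_sup ht⟩⟩

theorem eventually_bot_of_isEmpty (hfg : (HomogeneousIdeal.irrelevant 𝒜).toIdeal.FG)
    (hE : IsEmpty (Proj 𝒜)) : ∃ n : ℕ, ∀ k : ℕ, n ≤ k → 𝒜 k = ⊥ := by
  have h1 : Proj.basicOpen 𝒜 (1 : A) = ⊥ := eq_bot_iff.mpr (fun x _ => (hE.false x).elim)
  have h2 : (HomogeneousIdeal.irrelevant 𝒜).toIdeal ≤ nilradical A := by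
    intro b hb
    have := Groth.Agent.Lib.Helper4.isNilpotent_mul_of_basicOpen_eq_bot 𝒜 1 h1 b hb
    rwa [one_mul] at this
  obtain ⟨N, hN⟩ := (Ideal.FG.isNilpotent_iff_le_nilradical hfg).mpr h2
  obtain ⟨T, d, D, hspan, hD⟩ := exists_homogeneous_gens 𝒜 hfg
  refine ⟨N * D + 1, fun k hk => ?_⟩
  rw [eq_bot_iff]
  intro s hs
  have h3 := piece_le_pow 𝒜 T hspan d D hD N k hk s hs
  rw [pow_succ, hN] at h3
  simpa using h3

theorem isEmpty_of_eventually_bot (n : ℕ) (hn : ∀ k : ℕ, n ≤ k → 𝒜 k = ⊥) :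
    IsEmpty (Proj 𝒜) := by
  constructor
  intro x
  obtain ⟨m, s, hm, hs, hx⟩ := Groth.Agent.Lib.Helper4.exists_basicOpen 𝒜 x
  rw [Proj.mem_basicOpen] at hx
  apply hx
  have h1 : s ^ n ∈ 𝒜 (n • m) := SetLike.pow_mem_graded n hs
  have h2 : n ≤ n • m := by
    rw [smul_eq_mul]
    exact Nat.le_mul_of_pos_right n hm
  rw [hn _ h2, Submodule.mem_bot] at h1
  exact x.isPrime.mem_of_pow_mem n (by rw [h1]; exact Ideal.zero_mem _)

end Groth.Agent.Lib.Helper27ProjEmpty
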