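import Groth.Prelude
import Mathlib

/-! Graded-ring lemmas (EGA II §2): irrelevant ideal vs. generation, Noetherian graded rings,
`V_+(E)` and nilpotents. -/

open AlgebraicGeometry DirectSum

namespace Groth.Agent.Lib.Helper6

universe u



section
variable {R A : Type u} [CommRing R] [CommRing A] [Algebra R A]
    (𝒜 : ℕ → Submodule R A) [GradedAlgebra 𝒜]

/-- If all graded pieces lie in a subalgebra (over `𝒜 0`), then it is everything. -/
theorem subalgebra_eq_top_of_forall_le (B : Subalgebra (𝒜 0) A)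
    (h : ∀ n, ∀ x ∈ 𝒜 n, x ∈ B) : B = ⊤ := by
  classical
  rw [eq_top_iff]
  rintro x -
  rw [← DirectSum.sum_support_decompose 𝒜 x]
  exact Subalgebra.sum_mem _ fun i _ => h i _ (SetLike.coe_mem _)

theorem adjoin_eq_top_of_irrelevant_eq_span
    (E : Set A) (hE : ∀ e ∈ E, ∃ d : ℕ, 0 < d ∧ e ∈ 𝒜 d)
    (h : (HomogeneousIdeal.irrelevant 𝒜).toIdeal = Ideal.span E) :
    Algebra.adjoin (𝒜 0) E = ⊤ := by
  classical
  apply subalgebra_eq_top_of_forall_le
  intro n
  induction n using Nat.strong_induction_on with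
  | _ n ih =>
    intro x hx
    rcases Nat.eq_zero_or_pos n with rfl | hn
    · exact Subalgebra.algebraMap_mem _ (⟨x, hx⟩ : 𝒜 0)
    · have hxI : x ∈ Ideal.span E := by
        rw [← h]; exact HomogeneousIdeal.mem_irrelevant_of_mem _ hn hx
      -- strengthened predicate
      have key : ∀ y ∈ Ideal.span E, ∀ a : A,
          (DirectSum.decompose 𝒜 (a * y) n : A) ∈ Algebra.adjoin (𝒜 0) E := by
        intro y hy
        induction hy using Submodule.span_induction with
        | mem e he =>
          intro a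
          obtain ⟨d, hd, hed⟩ := hE e he
          rw [DirectSum.coe_decompose_mul_of_right_mem 𝒜 n hed]
          split_ifs with hdn
          · exact Subalgebra.mul_mem _ (ih (n - d) (by omega) _ (SetLike.coe_mem _))
              (Algebra.subset_adjoin he)
          · exact Subalgebra.zero_mem _
        | zero => intro a; simp [Subalgebra.zero_mem]
        | add y z _ _ hy hz =>
          intro a
          rw [mul_add, DirectSum.decompose_add, DirectSum.add_apply, Submodule.coe_add]
          exact Subalgebra.add_mem _ (hy a) (hz a)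
        | smul b y _ hy =>
          intro a
          rw [smul_eq_mul, ← mul_assoc]
          exact hy (a * b)
      have := key x hxI 1
      rwa [one_mul, DirectSum.decompose_of_mem_same 𝒜 hx] at this

theorem irrelevant_eq_span_of_adjoin_eq_top
    (E : Set A) (hE : ∀ e ∈ E, ∃ d : ℕ, 0 < d ∧ e ∈ 𝒜 d)
    (h : Algebra.adjoin (𝒜 0) E = ⊤) :
    (HomogeneousIdeal.irrelevant 𝒜).toIdeal = Ideal.span E := by
  classical
  apply le_antisymm
  · intro x hx
    have hx0 : GradedRing.projZeroRingHom 𝒜 x = 0 := hx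
    have hxB : x ∈ Algebra.adjoin (𝒜 0) E := by rw [h]; trivial
    have key : ∀ y ∈ Algebra.adjoin (𝒜 0) E,
        y - GradedRing.projZeroRingHom 𝒜 y ∈ Ideal.span E := by
      intro y hy
      induction hy using Algebra.adjoin_induction with
      | mem e he =>
        obtain ⟨d, hd, hed⟩ := hE e he
        have : GradedRing.projZeroRingHom 𝒜 e = 0 :=
          HomogeneousIdeal.mem_irrelevant_of_mem _ hd hed
        rw [this, sub_zero]
        exact Ideal.subset_span he
      | algebraMap r =>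
        have : GradedRing.projZeroRingHom 𝒜 (algebraMap (𝒜 0) A r) = algebraMap (𝒜 0) A r := by
          change (DirectSum.decompose 𝒜 (r : A) 0 : A) = r
          exact DirectSum.decompose_of_mem_same 𝒜 r.2
        rw [this, sub_self]
        exact Ideal.zero_mem _
      | add y z _ _ hy hz =>
        rw [map_add]
        have : y + z - (GradedRing.projZeroRingHom 𝒜 y + GradedRing.projZeroRingHom 𝒜 z) =
          (y - GradedRing.projZeroRingHom 𝒜 y) + (z - GradedRing.projZeroRingHom 𝒜 z) := by ring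
        rw [this]
        exact Ideal.add_mem _ hy hz
      | mul y z _ _ hy hz =>
        rw [map_mul]
        have : y * z - GradedRing.projZeroRingHom 𝒜 y * GradedRing.projZeroRingHom 𝒜 z =
          (y - GradedRing.projZeroRingHom 𝒜 y) * z +
            GradedRing.projZeroRingHom 𝒜 y * (z - GradedRing.projZeroRingHom 𝒜 z) := by ring
        rw [this]
        exact Ideal.add_mem _ (Ideal.mul_mem_right _ _ hy) (Ideal.mul_mem_left _ _ hz)
    have := key x hxB
    rwa [hx0, sub_zero] at this
  · rw [Ideal.span_le]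
    intro e he
    obtain ⟨d, hd, hed⟩ := hE e he
    exact HomogeneousIdeal.mem_irrelevant_of_mem _ hd hed

theorem irrelevant_eq_span_iff_adjoin_eq_top
    (E : Set A) (hE : ∀ e ∈ E, ∃ d : ℕ, 0 < d ∧ e ∈ 𝒜 d) :
    (HomogeneousIdeal.irrelevant 𝒜).toIdeal = Ideal.span E ↔ Algebra.adjoin (𝒜 0) E = ⊤ :=
  ⟨adjoin_eq_top_of_irrelevant_eq_span 𝒜 E hE, irrelevant_eq_span_of_adjoin_eq_top 𝒜 E hE⟩

end




section
variable {R A : Type u} [CommRing R] [CommRing A] [Algebra R A]
    (𝒜 : ℕ → Submodule R A) [GradedAlgebra 𝒜]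

theorem irrelevant_fg_iff_finiteType :
    (HomogeneousIdeal.irrelevant 𝒜).toIdeal.FG ↔ Algebra.FiniteType (𝒜 0) A := by
  classical
  constructor
  · rintro ⟨T, hT⟩
    let E : Finset A := T.biUnion fun t =>
      ((DirectSum.decompose 𝒜 t).support.filter (0 < ·)).image
        fun i => (DirectSum.decompose 𝒜 t i : A)
    have hE : ∀ e ∈ (E : Set A), ∃ d : ℕ, 0 < d ∧ e ∈ 𝒜 d := by
      intro e he
      simp only [E, Finset.coe_biUnion, Set.mem_iUnion, Finset.coe_image, Set.mem_image,
        Finset.mem_coe, Finset.mem_filter] at he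
      obtain ⟨t, _, i, ⟨_, hi⟩, rfl⟩ := he
      exact ⟨i, hi, SetLike.coe_mem _⟩
    have hspan : (HomogeneousIdeal.irrelevant 𝒜).toIdeal = Ideal.span (E : Set A) := by
      apply le_antisymm
      · rw [← hT, Ideal.span_le]
        intro t ht
        have ht0 : (DirectSum.decompose 𝒜 t 0 : A) = 0 := by
          have : t ∈ (HomogeneousIdeal.irrelevant 𝒜).toIdeal := by
            rw [← hT]; exact Ideal.subset_span ht
          exact this
        rw [← DirectSum.sum_support_decompose 𝒜 t]
        refine Ideal.sum_mem _ fun i hi => Ideal.subset_span ?_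
        have hi0 : 0 < i := by
          rcases Nat.eq_zero_or_pos i with rfl | h
          · exfalso
            have h1 : DirectSum.decompose 𝒜 t 0 ≠ 0 := DFinsupp.mem_support_iff.mp hi
            exact h1 (Subtype.ext ht0)
          · exact h
        simp only [E, Finset.coe_biUnion, Set.mem_iUnion, Finset.coe_image, Set.mem_image,
          Finset.mem_coe, Finset.mem_filter]
        exact ⟨t, ht, i, ⟨hi, hi0⟩, rfl⟩
      · rw [Ideal.span_le]
        intro e he
        obtain ⟨d, hd, hed⟩ := hE e he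
        exact HomogeneousIdeal.mem_irrelevant_of_mem _ hd hed
    exact ⟨⟨E, adjoin_eq_top_of_irrelevant_eq_span 𝒜 _ hE hspan⟩⟩
  · intro h
    obtain ⟨s, hs, hs'⟩ := GradedAlgebra.exists_finset_adjoin_eq_top_and_homogeneous_ne_zero 𝒜
    refine ⟨s, ?_⟩
    symm
    apply irrelevant_eq_span_of_adjoin_eq_top 𝒜 _ _ hs
    intro e he
    obtain ⟨n, hn, hen⟩ := hs' e he
    exact ⟨n, Nat.pos_of_ne_zero hn, hen⟩

theorem isNoetherianRing_iff_gradeZero_and_finiteType :
    IsNoetherianRing A ↔ IsNoetherianRing (𝒜 0) ∧ Algebra.FiniteType (𝒜 0) A := by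
  constructor
  · intro h
    refine ⟨GradedRing.GradeZero.isNoetherianRing 𝒜, ?_⟩
    rw [← irrelevant_fg_iff_finiteType]
    exact (isNoetherianRing_iff_ideal_fg A).mp h _
  · rintro ⟨h0, hft⟩
    exact Algebra.FiniteType.isNoetherianRing (𝒜 0) A

end




theorem zeroLocus_eq_univ_iff_nilpotent {R A : Type u} [CommRing R] [CommRing A] [Algebra R A]
    (𝒜 : ℕ → Submodule R A) [GradedAlgebra 𝒜]
    (E : Set A) (hE : E ⊆ (HomogeneousIdeal.irrelevant 𝒜).toIdeal) :
    ProjectiveSpectrum.zeroLocus 𝒜 E = Set.univ ↔ ∀ e ∈ E, IsNilpotent e := by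
  constructor
  · intro h e he
    rw [← mem_nilradical, nilradical, Ideal.zero_eq_bot, (Ideal.IsHomogeneous.bot 𝒜).radical_eq]
    rw [Ideal.mem_sInf]
    rintro J ⟨hJ, -, hJp⟩
    by_cases hirr : HomogeneousIdeal.irrelevant 𝒜 ≤ ⟨J, hJ⟩
    · exact hirr (hE he)
    · let x : ProjectiveSpectrum 𝒜 := ⟨⟨J, hJ⟩, hJp, hirr⟩
      have hx : x ∈ ProjectiveSpectrum.zeroLocus 𝒜 E := by rw [h]; trivial
      exact hx he
  · intro h
    ext x
    simp only [Set.mem_univ, iff_true]
    intro e he
    obtain ⟨n, hn⟩ := h e he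
    have : e ^ n ∈ x.asHomogeneousIdeal.toIdeal := by rw [hn]; exact Ideal.zero_mem _
    exact x.isPrime.mem_of_pow_mem n this




theorem irrelevant_inf_vanishingIdeal_zeroLocus {R A : Type u} [CommRing R] [CommRing A] [Algebra R A]
    (𝒜 : ℕ → Submodule R A) [GradedAlgebra 𝒜]
    (E : Set A) (hE : E ⊆ (HomogeneousIdeal.irrelevant 𝒜).toIdeal) :
    (HomogeneousIdeal.irrelevant 𝒜).toIdeal ⊓
        (ProjectiveSpectrum.vanishingIdeal (ProjectiveSpectrum.zeroLocus 𝒜 E)).toIdeal =
      (HomogeneousIdeal.irrelevant 𝒜).toIdeal ⊓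
        (Ideal.homogeneousHull 𝒜 (Ideal.span E)).toIdeal.radical := by
  ext a
  simp only [Ideal.mem_inf]
  refine and_congr_right fun ha => ?_
  rw [HomogeneousIdeal.mem_iff, ProjectiveSpectrum.mem_vanishingIdeal]
  constructor
  · intro h
    rw [(Ideal.homogeneousHull 𝒜 (Ideal.span E)).isHomogeneous.radical_eq, Ideal.mem_sInf]
    rintro J ⟨hJ, hle, hJp⟩
    by_cases hirr : HomogeneousIdeal.irrelevant 𝒜 ≤ ⟨J, hJ⟩
    · exact hirr ha
    · let x : ProjectiveSpectrum 𝒜 := ⟨⟨J, hJ⟩, hJp, hirr⟩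
      have hx : x ∈ ProjectiveSpectrum.zeroLocus 𝒜 E := fun e he =>
        hle (Ideal.le_toIdeal_homogeneousHull 𝒜 _ (Ideal.subset_span he))
      exact h x hx
  · intro h x hx
    have h1 : Ideal.span E ≤ x.asHomogeneousIdeal.toIdeal := Ideal.span_le.mpr hx
    have h2 : Ideal.homogeneousHull 𝒜 (Ideal.span E) ≤ x.asHomogeneousIdeal :=
      (Ideal.homogeneousHull.gc 𝒜 _ _).mpr h1
    have h3 : (Ideal.homogeneousHull 𝒜 (Ideal.span E)).toIdeal.radical ≤
        x.asHomogeneousIdeal.toIdeal :=
      (x.isPrime.radical_le_iff).mpr h2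
    exact h3 h


end Groth.Agent.Lib.Helper6
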