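import Mathlib
import Groth.Agent.Lib.Helper27ProjEmpty
import Groth.Agent.Lib.Helper6Graded
import Groth.Agent.Lib.Helper27PConeFibre

set_option autoImplicit false

namespace Groth.Agent.Helper13EvPow

open DirectSum CategoryTheory AlgebraicGeometry HomogeneousLocalization TopologicalSpace
open Groth.Agent.Helper13RelProj Groth.Agent.Lib.Helper27PConeFibre
open scoped HomogeneousIdeal

universe u

section Pieces

variable {R B : Type u} [CommRing R] [CommRing B] [Algebra R B] (ℬ : ℕ → Submodule R B)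
  [GradedAlgebra ℬ]

theorem pow_one_le (n : ℕ) : ℬ 1 ^ n ≤ ℬ n := by
  induction n with
  | zero =>
    rw [pow_zero, Submodule.one_le]
    exact SetLike.GradedOne.one_mem
  | succ n ih =>
    rw [pow_succ, Submodule.mul_le]
    intro x hx y hy
    exact SetLike.mul_mem_graded (ih hx) hy

/-- homogeneous coefficients for a homogeneous element of an ideal spanned by homogeneous elements -/
theorem exists_coeff_of_mem_span (T : Finset B) (d : B → ℕ) (hd : ∀ t ∈ T, t ∈ ℬ (d t)) {n : ℕ}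
    {b : B} (hb : b ∈ ℬ n) (hbT : b ∈ Ideal.span (T : Set B)) :
    ∃ c : B → B, (∀ t ∈ T, d t ≤ n → c t ∈ ℬ (n - d t)) ∧
      b = ∑ t ∈ T.filter (fun t => d t ≤ n), c t * t := by
  classical
  obtain ⟨f, -, hf⟩ := Submodule.mem_span_finset.mp hbT
  refine ⟨fun t => (decompose ℬ (f t) (n - d t) : B), fun t _ _ => SetLike.coe_mem _, ?_⟩
  have h1 : b = ∑ t ∈ T, (decompose ℬ (f t * t) n : B) := by
    conv_lhs => rw [← decompose_of_mem_same ℬ hb, ← hf]
    rw [decompose_sum, DFinsupp.finset_sum_apply, AddSubmonoidClass.coe_finset_sum]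
    rfl
  rw [h1, Finset.sum_filter]
  refine Finset.sum_congr rfl fun t ht => ?_
  by_cases h : d t ≤ n
  · rw [if_pos h, coe_decompose_mul_of_right_mem_of_le ℬ (hd t ht) h]
  · rw [if_neg h, coe_decompose_mul_of_right_mem_of_not_le ℬ (hd t ht) h]

variable [Algebra.FiniteType (ℬ 0) B]

/-- graded pieces of a graded algebra of finite type are finitely generated over degree zero -/
theorem piece_fg (n : ℕ) : ∃ C : Finset B, (∀ c ∈ C, c ∈ ℬ n) ∧
    ∀ b ∈ ℬ n, b ∈ Submodule.span (ℬ 0) (C : Set B) := by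
  classical
  have hfg : (HomogeneousIdeal.irrelevant ℬ).toIdeal.FG :=
    (Groth.Agent.Lib.Helper6.irrelevant_fg_iff_finiteType ℬ).mpr inferInstance
  obtain ⟨T, d, D, hspan, hD⟩ := Groth.Agent.Lib.Helper27ProjEmpty.exists_homogeneous_gens ℬ hfg
  induction n using Nat.strong_induction_on with
  | _ n IH =>
    rcases Nat.eq_zero_or_pos n with rfl | hn
    · refine ⟨{1}, ?_, fun b hb => ?_⟩
      · intro c hc
        rw [Finset.mem_singleton] at hc
        rw [hc]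
        exact SetLike.GradedOne.one_mem
      · have : b = (⟨b, hb⟩ : ℬ 0) • (1 : B) := by
          change b = b * 1
          rw [mul_one]
        rw [this]
        exact Submodule.smul_mem _ _ (Submodule.subset_span (by simp))
    · choose! C hC using IH
      refine ⟨(T.filter (fun t => d t ≤ n)).biUnion (fun t => (C (n - d t)).image (fun c => c * t)),
        ?_, fun b hb => ?_⟩
      · intro x hx
        rw [Finset.mem_biUnion] at hx
        obtain ⟨t, ht, hx⟩ := hx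
        rw [Finset.mem_filter] at ht
        rw [Finset.mem_image] at hx
        obtain ⟨c, hc, rfl⟩ := hx
        obtain ⟨hd0, hdt, -⟩ := hD t ht.1
        have h1 := (hC (n - d t) (by omega)).1 c hc
        have h2 : c * t ∈ ℬ ((n - d t) + d t) := SetLike.mul_mem_graded h1 hdt
        rwa [Nat.sub_add_cancel ht.2] at h2
      · have hb1 : b ∈ Ideal.span (T : Set B) := by
          rw [← hspan]
          exact HomogeneousIdeal.mem_irrelevant_of_mem ℬ hn hb
        obtain ⟨c, hc, hbc⟩ := exists_coeff_of_mem_span ℬ T d (fun t ht => (hD t ht).2.1) hb hb1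
        rw [hbc]
        refine Submodule.sum_mem _ fun t ht => ?_
        rw [Finset.mem_filter] at ht
        obtain ⟨hd0, hdt, -⟩ := hD t ht.1
        have h1 := (hC (n - d t) (by omega)).2 (c t) (hc t ht.1 ht.2)
        -- multiply the span by `t`
        have hle : Submodule.span (ℬ 0) ((C (n - d t) : Finset B) : Set B) ≤
            Submodule.comap ((LinearMap.mulRight (ℬ 0) t : B →ₗ[ℬ 0] B))
              (Submodule.span (ℬ 0) (((T.filter (fun t => d t ≤ n)).biUnion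
                (fun t => (C (n - d t)).image (fun c => c * t)) : Finset B) : Set B)) := by
          rw [Submodule.span_le]
          intro x hx
          refine Submodule.subset_span ?_
          simp only [LinearMap.mulRight_apply, Finset.coe_biUnion, Finset.coe_filter,
            Finset.coe_image, Set.mem_iUnion, Set.mem_image, Set.mem_setOf_eq]
          exact ⟨t, ⟨ht.1, ht.2⟩, x, hx, rfl⟩
        exact hle h1

theorem mem_mul_of_mem_span {n : ℕ} {b : B} (hb : b ∈ ℬ (n + 1))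
    (hbs : b ∈ Ideal.span (ℬ 1 : Set B)) : b ∈ ℬ n * ℬ 1 := by
  classical
  obtain ⟨T, hT, hbT⟩ := Submodule.mem_span_finite_of_mem_span hbs
  obtain ⟨c, hc, hbc⟩ := exists_coeff_of_mem_span ℬ T (fun _ => 1) (fun t ht => hT ht) hb hbT
  rw [hbc]
  refine Submodule.sum_mem _ fun t ht => ?_
  rw [Finset.mem_filter] at ht
  have h1 := hc t ht.1 ht.2
  rw [Nat.add_sub_cancel] at h1
  exact Submodule.mul_mem_mul h1 (hT ht.1)

theorem exists_le_mul
    (hrad : (HomogeneousIdeal.irrelevant ℬ).toIdeal ≤ (Ideal.span (ℬ 1 : Set B)).radical) :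
    ∃ N0 : ℕ, ∀ n, N0 ≤ n → ℬ (n + 1) ≤ ℬ n * ℬ 1 := by
  have hfg : (HomogeneousIdeal.irrelevant ℬ).toIdeal.FG :=
    (Groth.Agent.Lib.Helper6.irrelevant_fg_iff_finiteType ℬ).mpr inferInstance
  obtain ⟨K, hK⟩ := Ideal.exists_pow_le_of_le_radical_of_fg hrad hfg
  obtain ⟨T, d, D, hspan, hD⟩ := Groth.Agent.Lib.Helper27ProjEmpty.exists_homogeneous_gens ℬ hfg
  refine ⟨K * D, fun n hn b hb => ?_⟩
  have h1 := Groth.Agent.Lib.Helper27ProjEmpty.piece_le_pow ℬ T hspan d D hD K (n + 1) (by omega)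
    b hb
  exact mem_mul_of_mem_span ℬ hb (hK (Ideal.pow_le_pow_right (Nat.le_succ K) h1))

theorem le_mul_pow (N0 : ℕ) (h : ∀ n, N0 ≤ n → ℬ (n + 1) ≤ ℬ n * ℬ 1) (m : ℕ) :
    ℬ (N0 + m) ≤ ℬ N0 * ℬ 1 ^ m := by
  induction m with
  | zero => rw [pow_zero, mul_one, add_zero]
  | succ m ih =>
    rw [← add_assoc, pow_succ, ← mul_assoc]
    exact (h (N0 + m) (Nat.le_add_right _ _)).trans (Submodule.mul_le.mpr fun x hx y hy => Submodule.mul_mem_mul (ih hx) hy)

end Pieces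

section Main

variable {R A B : Type u} [CommRing R] [CommRing A] [Algebra R A] {𝒜 : ℕ → Submodule R A}
  [GradedAlgebra 𝒜] [CommRing B] [Algebra R B] {ℬ : ℕ → Submodule R B} [GradedAlgebra ℬ]
  (φ : 𝒜 →+*ᵍ ℬ)

omit [GradedAlgebra 𝒜] [GradedAlgebra ℬ] in
theorem map_mem_pow' (n : ℕ) {a : A} (ha : a ∈ 𝒜 1 ^ (n + 1)) : φ a ∈ ℬ 1 ^ (n + 1) := by
  induction n generalizing a with
  | zero =>
    rw [zero_add, pow_one] at ha ⊢
    exact Graded.map_mem φ ha
  | succ n ih =>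
    rw [pow_succ] at ha ⊢
    refine Submodule.mul_induction_on ha (fun x hx y hy => ?_) (fun x y hx hy => ?_)
    · rw [map_mul]
      exact Submodule.mul_mem_mul (ih hx) (Graded.map_mem φ hy)
    · rw [map_add]
      exact add_mem hx hy

theorem map_mem_pow (hgen : ∀ n : ℕ, 1 ≤ n → 𝒜 n = 𝒜 1 ^ n) {n : ℕ} (hn : 1 ≤ n) {a : A}
    (ha : a ∈ 𝒜 n) : φ a ∈ ℬ 1 ^ n := by
  obtain ⟨k, rfl⟩ : ∃ k, n = k + 1 := ⟨n - 1, by omega⟩
  rw [hgen _ hn] at ha
  exact map_mem_pow' φ k ha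

omit [GradedAlgebra ℬ] in
theorem exists_of_mem_pow' (h1 : Set.BijOn φ (𝒜 1) (ℬ 1)) (n : ℕ) {b : B}
    (hb : b ∈ ℬ 1 ^ (n + 1)) : ∃ a ∈ 𝒜 (n + 1), φ a = b := by
  induction n generalizing b with
  | zero =>
    rw [zero_add, pow_one] at hb
    obtain ⟨a, ha, hab⟩ := h1.surjOn hb
    exact ⟨a, ha, hab⟩
  | succ n ih =>
    rw [pow_succ] at hb
    refine Submodule.mul_induction_on hb (fun x hx y hy => ?_) (fun x y hx hy => ?_)
    · obtain ⟨a, ha, rfl⟩ := ih hx
      obtain ⟨f, hf, rfl⟩ := h1.surjOn hy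
      exact ⟨a * f, SetLike.mul_mem_graded ha hf, map_mul φ a f⟩
    · obtain ⟨a, ha, rfl⟩ := hx
      obtain ⟨a', ha', rfl⟩ := hy
      exact ⟨a + a', add_mem ha ha', map_add φ a a'⟩

theorem mem_of_map_mem (hφ : Function.Injective φ) {m : ℕ} {a : A} (h : φ a ∈ ℬ m) : a ∈ 𝒜 m := by
  have h2 : φ (decompose 𝒜 a m) = φ a := by
    rw [GradedRingHom.map_directSumDecompose, decompose_of_mem_same ℬ h]
  rw [← hφ h2]
  exact SetLike.coe_mem _

/-- the ideal of elements of `A` carrying `ℬ N0` into the image of `φ` -/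
def transp (N0 : ℕ) : Ideal A where
  carrier := {a | ∀ b ∈ ℬ N0, ∃ a', φ a' = φ a * b}
  add_mem' := by
    intro x y hx hy b hb
    obtain ⟨x', hx'⟩ := hx b hb
    obtain ⟨y', hy'⟩ := hy b hb
    exact ⟨x' + y', by rw [map_add, map_add, hx', hy', add_mul]⟩
  zero_mem' := fun b _ => ⟨0, by rw [map_zero, zero_mul]⟩
  smul_mem' := by
    intro c x hx b hb
    obtain ⟨x', hx'⟩ := hx b hb
    exact ⟨c * x', by rw [smul_eq_mul, map_mul, map_mul, hx', mul_assoc]⟩

omit [GradedAlgebra 𝒜] [GradedAlgebra ℬ] in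
theorem mem_transp {N0 : ℕ} {a : A} :
    a ∈ transp φ N0 ↔ ∀ b ∈ ℬ N0, ∃ a', φ a' = φ a * b := Iff.rfl

theorem eventually_eq_pow [Algebra.FiniteType (ℬ 0) B] (hφ : Function.Injective φ)
    (h0 : Set.BijOn φ (𝒜 0) (ℬ 0)) (h1 : Set.BijOn φ (𝒜 1) (ℬ 1))
    (hgen : ∀ n : ℕ, 1 ≤ n → 𝒜 n = 𝒜 1 ^ n)
    (hrad : (HomogeneousIdeal.irrelevant ℬ).toIdeal ≤ (Ideal.span (ℬ 1 : Set B)).radical)
    (hloc : ∀ f ∈ 𝒜 1, ∀ (n : ℕ) (b : B), b ∈ ℬ n → ∃ (N : ℕ) (a : A), φ a = φ f ^ N * b) :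
    ∃ n₀ : ℕ, ∀ n : ℕ, n₀ ≤ n → ℬ n = ℬ 1 ^ n := by
  classical
  obtain ⟨N0', hN0'⟩ := exists_le_mul ℬ hrad
  set N0 := N0' + 1 with hN0def
  have hstep : ∀ n, N0 ≤ n → ℬ (n + 1) ≤ ℬ n * ℬ 1 := fun n hn => hN0' n (by omega)
  obtain ⟨C, hC, hCspan⟩ := piece_fg ℬ N0
  obtain ⟨G, hG, hGspan⟩ := piece_fg ℬ 1
  have hpre : ∀ g ∈ G, ∃ f ∈ 𝒜 1, φ f = g := fun g hg => h1.surjOn (hG g hg)
  choose! pre hpre1 hpre2 using hpre
  set I : Ideal A := Ideal.span ((G.image pre : Finset A) : Set A) with hI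
  -- Claim 1
  have c1aux : ∀ y ∈ Submodule.span (ℬ 0) (G : Set B), ∃ x ∈ I, φ x = y := by
    intro y hy
    induction hy using Submodule.span_induction with
    | mem g hg =>
      exact ⟨pre g, Ideal.subset_span (Finset.mem_coe.mpr (Finset.mem_image_of_mem pre hg)),
        hpre2 g hg⟩
    | zero => exact ⟨0, zero_mem _, map_zero φ⟩
    | add y z _ _ hy hz =>
      obtain ⟨x, hx, rfl⟩ := hy
      obtain ⟨x', hx', rfl⟩ := hz
      exact ⟨x + x', add_mem hx hx', map_add φ x x'⟩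
    | smul c y _ hy =>
      obtain ⟨x, hx, rfl⟩ := hy
      obtain ⟨c', -, hc'⟩ := h0.surjOn c.2
      refine ⟨c' * x, Ideal.mul_mem_left _ _ hx, ?_⟩
      rw [map_mul, hc']
      rfl
  have c1 : ∀ f ∈ 𝒜 1, f ∈ I := by
    intro f hf
    obtain ⟨x, hx, hxf⟩ := c1aux (φ f) (hGspan _ (Graded.map_mem φ hf))
    rw [← hφ hxf]
    exact hx
  -- Claim 2
  have c2 : ∀ k : ℕ, ∀ a ∈ 𝒜 1 ^ k, a ∈ I ^ k := by
    intro k
    induction k with
    | zero =>
      intro a _
      rw [pow_zero, Ideal.one_eq_top]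
      exact Submodule.mem_top
    | succ k ih =>
      intro a ha
      rw [pow_succ] at ha ⊢
      refine Submodule.mul_induction_on ha (fun x hx y hy => ?_) (fun x y hx hy => ?_)
      · exact Ideal.mul_mem_mul (ih x hx) (c1 y hy)
      · exact add_mem hx hy
  -- Claim 3
  have c3 : ∀ f ∈ 𝒜 1, f ∈ (transp φ N0 : Ideal A).radical := by
    intro f hf
    have hex : ∀ c ∈ C, ∃ (N : ℕ) (a : A), φ a = φ f ^ N * c := fun c hc =>
      hloc f hf N0 c (hC c hc)
    choose! Nc ac hac using hex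
    refine ⟨C.sup Nc, ?_⟩
    rw [mem_transp]
    intro b hb
    have aux : ∀ b ∈ Submodule.span (ℬ 0) (C : Set B),
        ∃ a', φ a' = φ (f ^ C.sup Nc) * b := by
      intro b hb'
      induction hb' using Submodule.span_induction with
      | mem c hc =>
        have hle : Nc c ≤ C.sup Nc := Finset.le_sup (Finset.mem_coe.mp hc)
        refine ⟨f ^ (C.sup Nc - Nc c) * ac c, ?_⟩
        rw [map_mul, hac c (Finset.mem_coe.mp hc), map_pow, map_pow, ← mul_assoc, ← pow_add,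
          Nat.sub_add_cancel hle]
      | zero => exact ⟨0, by rw [map_zero, mul_zero]⟩
      | add y z _ _ hy' hz' =>
        obtain ⟨x, hx⟩ := hy'
        obtain ⟨x', hx'⟩ := hz'
        exact ⟨x + x', by rw [map_add, hx, hx', mul_add]⟩
      | smul r y _ hy' =>
        obtain ⟨x, hx⟩ := hy'
        obtain ⟨r', -, hr'⟩ := h0.surjOn r.2
        refine ⟨r' * x, ?_⟩
        rw [map_mul, hx, hr']
        change (r : B) * (φ (f ^ C.sup Nc) * y) = φ (f ^ C.sup Nc) * ((r : B) * y)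
        ring
    exact aux b (hCspan b hb)
  -- Claim 4
  have c4 : I ≤ (transp φ N0 : Ideal A).radical := by
    rw [hI, Ideal.span_le]
    intro x hx
    rw [Finset.mem_coe, Finset.mem_image] at hx
    obtain ⟨g, hg, rfl⟩ := hx
    exact c3 _ (hpre1 g hg)
  obtain ⟨K, hK⟩ := Ideal.exists_pow_le_of_le_radical_of_fg c4 ⟨G.image pre, rfl⟩
  refine ⟨N0 + K + 1, fun n hn => le_antisymm ?_ (pow_one_le ℬ n)⟩
  obtain ⟨m, rfl⟩ : ∃ m, n = N0 + m := ⟨n - N0, by omega⟩
  have hm : K + 1 ≤ m := by omega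
  refine (le_mul_pow ℬ N0 hstep m).trans ?_
  rw [Submodule.mul_le]
  intro b hb x hx
  obtain ⟨k, rfl⟩ : ∃ k, m = k + 1 := ⟨m - 1, by omega⟩
  obtain ⟨a, ha, rfl⟩ := exists_of_mem_pow' φ h1 k hx
  have haI : a ∈ transp φ N0 := by
    apply hK
    apply Ideal.pow_le_pow_right (show K ≤ k + 1 by omega)
    apply c2
    rw [← hgen (k + 1) (by omega)]
    exact ha
  obtain ⟨a', ha'⟩ := (mem_transp φ).mp haI b hb
  have hmem : φ a' ∈ ℬ (N0 + (k + 1)) := by
    rw [ha', add_comm N0]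
    exact SetLike.mul_mem_graded (Graded.map_mem φ ha) hb
  rw [mul_comm, ← ha']
  exact map_mem_pow φ hgen (by omega) (mem_of_map_mem φ hφ hmem)

end Main

section Geo

variable {R A B : Type u} [CommRing R] [CommRing A] [Algebra R A] {𝒜 : ℕ → Submodule R A}
  [GradedAlgebra 𝒜] [CommRing B] [Algebra R B] {ℬ : ℕ → Submodule R B} [GradedAlgebra ℬ]
  (φ : 𝒜 →+*ᵍ ℬ)

omit [GradedAlgebra ℬ] in
theorem pow_le_span (k : ℕ) {y : B} (hy : y ∈ ℬ 1 ^ (k + 1)) : y ∈ Ideal.span (ℬ 1 : Set B) := by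
  rw [pow_succ] at hy
  refine Submodule.mul_induction_on hy (fun x _ z hz => ?_) (fun x z hx hz => add_mem hx hz)
  exact Ideal.mul_mem_left _ x (Ideal.subset_span hz)

theorem irrelevant_le_radical (hgen : ∀ n : ℕ, 1 ≤ n → 𝒜 n = 𝒜 1 ^ n)
    (hdom : PCone.dom φ = ⊤) :
    (HomogeneousIdeal.irrelevant ℬ).toIdeal ≤ (Ideal.span (ℬ 1 : Set B)).radical := by
  have hhom : (Ideal.span (ℬ 1 : Set B)).IsHomogeneous ℬ :=
    Ideal.homogeneous_span ℬ _ (fun x hx => ⟨1, hx⟩)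
  rw [hhom.radical_eq]
  intro b hb
  rw [Submodule.mem_sInf]
  rintro J ⟨hJhom, hIJ, hJprime⟩
  by_contra hbJ
  have hnot : ¬ (HomogeneousIdeal.irrelevant ℬ).toIdeal ≤ J := fun h => hbJ (h hb)
  let x : Proj ℬ := ⟨⟨J, hJhom⟩, hJprime, hnot⟩
  have hx : x ∈ PCone.dom φ := by rw [hdom]; trivial
  obtain ⟨⟨f, d, hd, hf⟩, hxf⟩ := Opens.mem_iSup.mp hx
  rw [Proj.mem_basicOpen] at hxf
  apply hxf
  obtain ⟨k, rfl⟩ : ∃ k, d = k + 1 := ⟨d - 1, by omega⟩
  exact hIJ (pow_le_span k (map_mem_pow φ hgen hd hf))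

theorem awayMap_bijective (p : (PCone.dom φ : Scheme.{u}) ⟶ Proj 𝒜)
    (hp : ∀ (d : ℕ) (f : A) (hd : 0 < d) (hf : f ∈ 𝒜 d),
      PCone.chart φ hf hd ≫ p =
        Spec.map (CommRingCat.ofHom (HomogeneousLocalization.Away.map φ f)) ≫
          Proj.awayι 𝒜 f hf hd)
    [IsIso p] {f : A} (hf : f ∈ 𝒜 1) : Function.Bijective (Away.map φ f) := by
  have hP := isPMap_of_chart φ p hp
  have h := hP.restrict_basicOpen (isDomOf_dom φ) hf one_pos
  have hiso : IsIso (Spec.map (CommRingCat.ofHom (Away.map φ f))) := by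
    rw [← h]
    infer_instance
  have hiso' : IsIso (CommRingCat.ofHom (Away.map φ f)) := by
    have : IsIso (Scheme.Spec.map (CommRingCat.ofHom (Away.map φ f)).op) := hiso
    have := isIso_of_reflects_iso (CommRingCat.ofHom (Away.map φ f)).op Scheme.Spec
    exact isIso_of_op _
  exact (ConcreteCategory.isIso_iff_bijective _).mp hiso'

theorem exists_of_awayMap_surjective {f : A} (hf : f ∈ 𝒜 1)
    (hs : Function.Surjective (Away.map φ f)) (n : ℕ) (b : B) (hb : b ∈ ℬ n) :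
    ∃ (N : ℕ) (a : A), φ a = φ f ^ N * b := by
  have hb' : b ∈ ℬ (n • 1) := by simpa using hb
  obtain ⟨x, hx⟩ := hs (Away.mk ℬ (Graded.map_mem φ hf) n b hb')
  obtain ⟨m, a, ha, rfl⟩ := Away.mk_surjective 𝒜 hf x
  rw [Away.map_mk] at hx
  have hv := congrArg HomogeneousLocalization.val hx
  rw [Away.val_mk, Away.val_mk, Localization.mk_eq_mk_iff, Localization.r_iff_exists] at hv
  obtain ⟨⟨c, k, rfl⟩, hc⟩ := hv
  simp only at hc
  refine ⟨k + m, f ^ (k + n) * a, ?_⟩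
  rw [map_mul, map_pow, pow_add, pow_add, mul_assoc, mul_assoc]
  exact hc

end Geo

end Groth.Agent.Helper13EvPow
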