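import Mathlib

/-!
# External graded modules from graded pieces inside a module (helper13; pure Mathlib)

Given a graded `R`-algebra `𝒜` on `A`, an `A`-module `P` and additive subgroups `Mn n ≤ P` with
`𝒜 i • Mn n ⊆ Mn (i + n)` (the sum of the `Mn n` need NOT be direct in `P`), the external direct sum
`GMod 𝒜 Mn = ⨁ n, Mn n` is a graded `A`-module: `Module A`, `Module R`, `IsScalarTower R A`, the grading
`gr 𝒜 Mn : ℕ → Submodule R (GMod 𝒜 Mn)` with `DirectSum.Decomposition` and `SetLike.GradedSMul 𝒜`;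
`ofDeg`, `toGr`, `comp` relate `Mn n` and `gr n`; `smul_ofDeg`, `comp_smul`.
-/

set_option autoImplicit false
set_option linter.unusedSectionVars false
universe u

open DirectSum

namespace Groth.Agent.Helper13ExtGraded

variable {R A : Type u} [CommRing R] [CommRing A] [Algebra R A] (𝒜 : ℕ → Submodule R A)
  [GradedAlgebra 𝒜]
variable {P : Type u} [AddCommGroup P] [Module A P] (Mn : ℕ → AddSubgroup P)
  [SetLike.GradedSMul 𝒜 Mn]

/-- the external direct sum of the pieces `Mn n` -/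
@[nolint unusedArguments]
def GMod {R A : Type u} [CommRing R] [CommRing A] [Algebra R A] (_𝒜 : ℕ → Submodule R A)
    {P : Type u} [AddCommGroup P] (Mn : ℕ → AddSubgroup P) : Type u := ⨁ n, Mn n

instance : AddCommGroup (GMod 𝒜 Mn) := inferInstanceAs (AddCommGroup (⨁ n, Mn n))

noncomputable instance instModuleA : Module A (GMod 𝒜 Mn) := GradedModule.isModule 𝒜 Mn

noncomputable instance instModuleR : Module R (GMod 𝒜 Mn) := Module.compHom _ (algebraMap R A)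

theorem smul_def_R (r : R) (x : GMod 𝒜 Mn) : r • x = algebraMap R A r • x := rfl

instance : IsScalarTower R A (GMod 𝒜 Mn) where
  smul_assoc r a x := by
    rw [smul_def_R, Algebra.smul_def, mul_smul]

/-- inclusion of the degree `n` piece -/
noncomputable def ofDeg (n : ℕ) : Mn n →+ GMod 𝒜 Mn := DirectSum.of (fun n => Mn n) n

theorem smul_ofDeg {i n : ℕ} {a : A} (ha : a ∈ 𝒜 i) (m : Mn n) :
    a • ofDeg 𝒜 Mn n m =
      ofDeg 𝒜 Mn (i + n) ⟨a • m.1, SetLike.GradedSMul.smul_mem ha m.2⟩ := by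
  change DirectSum.decompose 𝒜 a • DirectSum.of (fun n => Mn n) n m = _
  rw [DirectSum.decompose_of_mem 𝒜 ha, DirectSum.Gmodule.of_smul_of]
  rfl

theorem ofDeg_injective (n : ℕ) : Function.Injective (ofDeg 𝒜 Mn n) :=
  DirectSum.of_injective n

theorem ofDeg_cast {k n : ℕ} (h : k = n) (m : Mn k) :
    ofDeg 𝒜 Mn k m = ofDeg 𝒜 Mn n ⟨m.1, h ▸ m.2⟩ := by
  subst h; rfl

/-- the grading of `GMod` -/
noncomputable def gr (n : ℕ) : Submodule R (GMod 𝒜 Mn) where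
  carrier := Set.range (ofDeg 𝒜 Mn n)
  add_mem' := by
    rintro _ _ ⟨a, rfl⟩ ⟨b, rfl⟩
    exact ⟨a + b, map_add _ _ _⟩
  zero_mem' := ⟨0, map_zero _⟩
  smul_mem' := by
    rintro r _ ⟨m, rfl⟩
    rw [smul_def_R, smul_ofDeg 𝒜 Mn (SetLike.algebraMap_mem_graded 𝒜 r) m,
      ofDeg_cast 𝒜 Mn (zero_add n)]
    exact ⟨_, rfl⟩

theorem mem_gr_iff (n : ℕ) (x : GMod 𝒜 Mn) : x ∈ gr 𝒜 Mn n ↔ ∃ m, ofDeg 𝒜 Mn n m = x := Iff.rfl

theorem ofDeg_mem (n : ℕ) (m : Mn n) : ofDeg 𝒜 Mn n m ∈ gr 𝒜 Mn n := ⟨m, rfl⟩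

/-- the component map `gr n → Mn n` -/
noncomputable def comp (n : ℕ) : gr 𝒜 Mn n →+ Mn n where
  toFun x := (show ⨁ n, Mn n from x.1) n
  map_zero' := rfl
  map_add' _ _ := rfl

theorem comp_ofDeg (n : ℕ) (m : Mn n) : comp 𝒜 Mn n ⟨ofDeg 𝒜 Mn n m, ofDeg_mem 𝒜 Mn n m⟩ = m :=
  DirectSum.of_eq_same (β := fun n => Mn n) n m

theorem ofDeg_comp (n : ℕ) (x : gr 𝒜 Mn n) : ofDeg 𝒜 Mn n (comp 𝒜 Mn n x) = x.1 := by
  obtain ⟨x, m, rfl⟩ := x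
  rw [comp_ofDeg]

/-- `Mn n → gr n` -/
noncomputable def toGr (n : ℕ) : Mn n →+ gr 𝒜 Mn n where
  toFun m := ⟨ofDeg 𝒜 Mn n m, ofDeg_mem 𝒜 Mn n m⟩
  map_zero' := Subtype.ext (map_zero _)
  map_add' _ _ := Subtype.ext (map_add _ _ _)

theorem toGr_comp (n : ℕ) (x : gr 𝒜 Mn n) : toGr 𝒜 Mn n (comp 𝒜 Mn n x) = x :=
  Subtype.ext (ofDeg_comp 𝒜 Mn n x)

theorem addHom_ext {N : Type*} [AddCommMonoid N] (φ ψ : GMod 𝒜 Mn →+ N)
    (h : ∀ n m, φ (ofDeg 𝒜 Mn n m) = ψ (ofDeg 𝒜 Mn n m)) : φ = ψ :=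
  DirectSum.addHom_ext (β := fun n => Mn n) h

/-- the decomposition map -/
noncomputable def decompHom : GMod 𝒜 Mn →+ ⨁ i, gr 𝒜 Mn i :=
  (DirectSum.toAddMonoid fun n => (DirectSum.of (fun i => gr 𝒜 Mn i) n).comp (toGr 𝒜 Mn n) :
    (⨁ n, Mn n) →+ ⨁ i, gr 𝒜 Mn i)

theorem decompHom_ofDeg (n : ℕ) (m : Mn n) :
    decompHom 𝒜 Mn (ofDeg 𝒜 Mn n m) = DirectSum.of (fun i => gr 𝒜 Mn i) n (toGr 𝒜 Mn n m) :=
  DirectSum.toAddMonoid_of (β := fun n => Mn n) _ n m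

noncomputable instance : DirectSum.Decomposition (gr 𝒜 Mn) :=
  DirectSum.Decomposition.ofAddHom (gr 𝒜 Mn) (decompHom 𝒜 Mn)
    (by
      refine addHom_ext 𝒜 Mn _ _ fun n m => ?_
      rw [AddMonoidHom.comp_apply, decompHom_ofDeg, DirectSum.coeAddMonoidHom_of]
      rfl)
    (by
      refine DirectSum.addHom_ext fun n x => ?_
      rw [AddMonoidHom.comp_apply, DirectSum.coeAddMonoidHom_of, ← ofDeg_comp 𝒜 Mn n x,
        decompHom_ofDeg, toGr_comp]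
      rfl)

instance : SetLike.GradedSMul 𝒜 (gr 𝒜 Mn) where
  smul_mem := by
    rintro i n a _ ha ⟨m, rfl⟩
    rw [smul_ofDeg 𝒜 Mn ha m]
    exact ⟨_, rfl⟩

theorem comp_toGr (n : ℕ) (m : Mn n) : comp 𝒜 Mn n (toGr 𝒜 Mn n m) = m := comp_ofDeg 𝒜 Mn n m

theorem comp_injective (n : ℕ) : Function.Injective (comp 𝒜 Mn n) := by
  intro x y h
  rw [← toGr_comp 𝒜 Mn n x, ← toGr_comp 𝒜 Mn n y, h]

theorem comp_surjective (n : ℕ) : Function.Surjective (comp 𝒜 Mn n) :=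
  fun m => ⟨toGr 𝒜 Mn n m, comp_toGr 𝒜 Mn n m⟩

/-- the component of `a • x` for homogeneous `a`, `x` -/
theorem comp_smul {i n : ℕ} {a : A} (ha : a ∈ 𝒜 i) (x : gr 𝒜 Mn n) :
    (comp 𝒜 Mn (i + n) ⟨a • x.1, SetLike.GradedSMul.smul_mem ha x.2⟩).1 =
      a • (comp 𝒜 Mn n x).1 := by
  have h1 : a • x.1 = ofDeg 𝒜 Mn (i + n)
      ⟨a • (comp 𝒜 Mn n x).1, SetLike.GradedSMul.smul_mem ha (comp 𝒜 Mn n x).2⟩ := by
    rw [← smul_ofDeg 𝒜 Mn ha, ofDeg_comp]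
  have h2 : (⟨a • x.1, SetLike.GradedSMul.smul_mem ha x.2⟩ : gr 𝒜 Mn (i + n)) =
      toGr 𝒜 Mn (i + n)
        ⟨a • (comp 𝒜 Mn n x).1, SetLike.GradedSMul.smul_mem ha (comp 𝒜 Mn n x).2⟩ :=
    Subtype.ext h1
  rw [h2, comp_toGr]

theorem smul_toGr {i n : ℕ} {a : A} (ha : a ∈ 𝒜 i) (m : Mn n) :
    a • (toGr 𝒜 Mn n m).1 =
      (toGr 𝒜 Mn (i + n) ⟨a • m.1, SetLike.GradedSMul.smul_mem ha m.2⟩).1 :=
  smul_ofDeg 𝒜 Mn ha m

end Groth.Agent.Helper13ExtGraded
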