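import Mathlib
import Groth.Agent.S2009

/-!
# Lifting extensions by torsion modules along a flat map `R → S` with `R/I = S/IS` (helper13)

For `I` finitely generated, `M` an `I`-power torsion module: every extension
`0 → S ⊗ N → E' → S ⊗ M → 0` comes from an extension `0 → N → E → M → 0`.  The module `E` is built
inside `E' × M × ∏ N_{f_i}` as the triples with compatible numerators.  Used for S2010.
-/

set_option autoImplicit false
set_option linter.style.haveILetI false
set_option linter.unusedSectionVars false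
universe u
open TensorProduct

namespace Groth.Agent.Helper13ExtTors


section Basic

variable (R S : Type u) [CommRing R] [CommRing S] [Algebra R S] (I : Ideal R)

theorem ff_of_bij
    (hq : Function.Bijective (Ideal.quotientMap (I.map (algebraMap R S)) (algebraMap R S)
      Ideal.le_comap_map)) :
    Module.FaithfullyFlat (R ⧸ I) (S ⧸ I.map (algebraMap R S)) := by
  have h : (algebraMap (R ⧸ I) (S ⧸ I.map (algebraMap R S))) =
      Ideal.quotientMap (I.map (algebraMap R S)) (algebraMap R S) Ideal.le_comap_map := rfl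
  let e : (R ⧸ I) ≃ₗ[R ⧸ I] (S ⧸ I.map (algebraMap R S)) :=
    LinearEquiv.ofBijective (Algebra.linearMap (R ⧸ I) (S ⧸ I.map (algebraMap R S))) (by
      rw [Algebra.coe_linearMap, h]; exact hq)
  exact Module.FaithfullyFlat.of_linearEquiv _ _ e.symm

variable [Module.Flat R S]
  (hq : Function.Bijective (Ideal.quotientMap (I.map (algebraMap R S)) (algebraMap R S)
      Ideal.le_comap_map))

include hq

/-- `M → S ⊗ M` is bijective for `I`-power torsion `M`. -/
theorem mk_bij (M : Type u) [AddCommGroup M] [Module R M]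
    (hM : ∀ m : M, ∃ n : ℕ, ∀ a ∈ I ^ n, a • m = 0) :
    Function.Bijective (TensorProduct.mk R S M 1) := by
  haveI := ff_of_bij R S I hq
  exact ⟨Groth.Agent.S2009.inj_mk R S I M hM, Groth.Agent.S2009.surj_mk R S I hq.2 M hM⟩

/-- a torsion element dying in `S ⊗ N` is zero -/
theorem eq_zero_of_tors (N : Type u) [AddCommGroup N] [Module R N] (ν : N) (k : ℕ)
    (hν : ∀ a ∈ I ^ k, a • ν = 0) (h : ((1 : S) ⊗ₜ[R] ν : S ⊗[R] N) = 0) : ν = 0 := by
  have hT : ∀ t : Submodule.span R ({ν} : Set N), ∃ n : ℕ, ∀ a ∈ I ^ n, a • t = 0 := by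
    rintro ⟨t, ht⟩
    obtain ⟨c, rfl⟩ := Submodule.mem_span_singleton.mp ht
    refine ⟨k, fun a ha => Subtype.ext ?_⟩
    change a • c • ν = 0
    rw [smul_comm, hν a ha, smul_zero]
  have hinj := (mk_bij R S I hq _ hT).1
  have hflat := Module.Flat.lTensor_preserves_injective_linearMap (M := S)
    (Submodule.span R ({ν} : Set N)).subtype Subtype.val_injective
  have h0 : (⟨ν, Submodule.mem_span_singleton_self ν⟩ : Submodule.span R ({ν} : Set N)) = 0 := by
    apply hinj
    apply hflat
    rw [map_zero, map_zero, TensorProduct.mk_apply, LinearMap.lTensor_tmul]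
    exact h
  exact congrArg Subtype.val h0

/-- if `X ⧸ X₀` is torsion then `S ⊗ X = 1 ⊗ X + im (S ⊗ X₀)` -/
theorem exists_decomp (X : Type u) [AddCommGroup X] [Module R X] (X₀ : Submodule R X)
    (hX : ∀ x : X, ∃ n : ℕ, ∀ a ∈ I ^ n, a • x ∈ X₀) (t : S ⊗[R] X) :
    ∃ (x : X) (w : S ⊗[R] X₀), t = (1 : S) ⊗ₜ[R] x + X₀.subtype.lTensor S w := by
  have hT : ∀ q : X ⧸ X₀, ∃ n : ℕ, ∀ a ∈ I ^ n, a • q = 0 := by
    intro q
    obtain ⟨x, rfl⟩ := Submodule.mkQ_surjective X₀ q
    obtain ⟨n, hn⟩ := hX x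
    refine ⟨n, fun a ha => ?_⟩
    rw [← map_smul, Submodule.mkQ_apply, Submodule.Quotient.mk_eq_zero]
    exact hn a ha
  obtain ⟨q, hq'⟩ := (mk_bij R S I hq _ hT).2 (X₀.mkQ.lTensor S t)
  obtain ⟨x, rfl⟩ := Submodule.mkQ_surjective X₀ q
  have hex := lTensor_exact S (LinearMap.exact_subtype_mkQ X₀) (Submodule.mkQ_surjective X₀)
  have hker : X₀.mkQ.lTensor S (t - (1 : S) ⊗ₜ[R] x) = 0 := by
    rw [map_sub, LinearMap.lTensor_tmul, ← hq', TensorProduct.mk_apply, sub_self]
  obtain ⟨w, hw⟩ := (hex _).mp hker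
  exact ⟨x, w, by rw [hw]; abel⟩

end Basic



section Comp

variable (R S : Type u) [CommRing R] [CommRing S] [Algebra R S]
  {κ : Type u} [Fintype κ] [DecidableEq κ] (X : Type u) [AddCommGroup X] [Module R X]

/-- components of an element of `S ⊗ (κ → X)` -/
noncomputable def comp (i : κ) : S ⊗[R] (κ → X) →ₗ[R] S ⊗[R] X :=
  (LinearMap.proj i : (κ → X) →ₗ[R] X).lTensor S

theorem piRight_eq_comp (z : S ⊗[R] (κ → X)) (i : κ) :
    TensorProduct.piRight R R S (fun _ : κ => X) z i = comp R S X i z := by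
  induction z using TensorProduct.induction_on with
  | zero => simp
  | tmul s f =>
    rw [TensorProduct.piRight_apply, TensorProduct.piRightHom_tmul]
    rfl
  | add x y hx hy => rw [map_add, map_add, Pi.add_apply, hx, hy]

theorem tensor_pi_ext {z z' : S ⊗[R] (κ → X)} (h : ∀ i, comp R S X i z = comp R S X i z') :
    z = z' := by
  apply (TensorProduct.piRight R R S (fun _ : κ => X)).injective
  funext i
  rw [piRight_eq_comp, piRight_eq_comp, h]

theorem exists_comp_eq (y : κ → S ⊗[R] X) :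
    ∃ Y : S ⊗[R] (κ → X), ∀ i, comp R S X i Y = y i := by
  refine ⟨(TensorProduct.piRight R R S (fun _ : κ => X)).symm y, fun i => ?_⟩
  rw [← piRight_eq_comp, LinearEquiv.apply_symm_apply]

end Comp

section Family

variable (R S : Type u) [CommRing R] [CommRing S] [Algebra R S] (I : Ideal R)
  {ι : Type u} [Fintype ι] [DecidableEq ι] (a : ι → R)

/-- `x ↦ (a_i x)_i` -/
def delta (X : Type u) [AddCommGroup X] [Module R X] : X →ₗ[R] (ι → X) :=
  LinearMap.pi (fun i => a i • LinearMap.id)

/-- `y ↦ (a_j y_i - a_i y_j)_{ij}` -/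
def Dmap (X : Type u) [AddCommGroup X] [Module R X] : (ι → X) →ₗ[R] (ι × ι → X) :=
  LinearMap.pi (fun ij => a ij.2 • LinearMap.proj ij.1 - a ij.1 • LinearMap.proj ij.2)

theorem delta_apply (X : Type u) [AddCommGroup X] [Module R X] (x : X) (i : ι) :
    delta R a X x i = a i • x := rfl

theorem Dmap_apply (X : Type u) [AddCommGroup X] [Module R X] (y : ι → X) (ij : ι × ι) :
    Dmap R a X y ij = a ij.2 • y ij.1 - a ij.1 • y ij.2 := rfl

theorem mem_ker_Dmap (X : Type u) [AddCommGroup X] [Module R X] (y : ι → X) :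
    y ∈ LinearMap.ker (Dmap R a X) ↔ ∀ i j, a j • y i = a i • y j := by
  rw [LinearMap.mem_ker]
  constructor
  · intro h i j
    have := congrFun h (i, j)
    rw [Dmap_apply, Pi.zero_apply, sub_eq_zero] at this
    exact this
  · intro h
    funext ij
    rw [Dmap_apply, Pi.zero_apply, sub_eq_zero]
    exact h ij.1 ij.2

theorem smul_eq_delta (X : Type u) [AddCommGroup X] [Module R X] (y : ι → X)
    (hy : ∀ i j, a j • y i = a i • y j) (k : ι) : a k • y = delta R a X (y k) := by
  funext i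
  rw [Pi.smul_apply, delta_apply]
  exact hy i k

theorem comp_delta (X : Type u) [AddCommGroup X] [Module R X] (s : S ⊗[R] X) (i : ι) :
    comp R S X i ((delta R a X).lTensor S s) = a i • s := by
  induction s using TensorProduct.induction_on with
  | zero => simp
  | tmul t n =>
    rw [LinearMap.lTensor_tmul]
    change t ⊗ₜ[R] (delta R a X n i) = _
    rw [delta_apply, TensorProduct.tmul_smul]
  | add x y hx hy => rw [map_add, map_add, hx, hy, smul_add]

theorem comp_Dmap (X : Type u) [AddCommGroup X] [Module R X] (Y : S ⊗[R] (ι → X)) (ij : ι × ι) :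
    comp R S X ij ((Dmap R a X).lTensor S Y) =
      a ij.2 • comp R S X ij.1 Y - a ij.1 • comp R S X ij.2 Y := by
  induction Y using TensorProduct.induction_on with
  | zero => simp
  | tmul t y =>
    rw [LinearMap.lTensor_tmul]
    change t ⊗ₜ[R] (Dmap R a X y ij) = a ij.2 • (t ⊗ₜ[R] y ij.1) - a ij.1 • (t ⊗ₜ[R] y ij.2)
    rw [Dmap_apply, TensorProduct.tmul_sub, TensorProduct.tmul_smul, TensorProduct.tmul_smul]
  | add x y hx hy =>
    rw [map_add, map_add, hx, hy, map_add, map_add, smul_add, smul_add]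
    abel

variable (ha : ∃ k : ℕ, I ^ k ≤ Ideal.span (Set.range a))

include ha in
theorem tors_of_killed (X : Type u) [AddCommGroup X] [Module R X] (X₀ : Submodule R X) (x : X)
    (h : ∀ i, a i • x ∈ X₀) : ∃ n : ℕ, ∀ b ∈ I ^ n, b • x ∈ X₀ := by
  obtain ⟨k, hk⟩ := ha
  have key : ∀ b ∈ Ideal.span (Set.range a), b • x ∈ X₀ := by
    intro b hb
    induction hb using Submodule.span_induction with
    | mem b hb' =>
      obtain ⟨i, rfl⟩ := hb'
      exact h i
    | zero => rw [zero_smul]; exact zero_mem _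
    | add b c _ _ hb' hc' => rw [add_smul]; exact add_mem hb' hc'
    | smul c b _ hb' => rw [smul_eq_mul, mul_smul]; exact Submodule.smul_mem _ _ hb'
  exact ⟨k, fun b hb => key b (hk hb)⟩

variable [Module.Flat R S]
  (hq : Function.Bijective (Ideal.quotientMap (I.map (algebraMap R S)) (algebraMap R S)
      Ideal.le_comap_map))

include ha hq in
theorem liftA (N : Type u) [AddCommGroup N] [Module R N] (s : S ⊗[R] N) (y : ι → N)
    (hy : ∀ i j, a j • y i = a i • y j) (hs : ∀ i, a i • s = (1 : S) ⊗ₜ[R] y i) :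
    ∃ ν : N, (1 : S) ⊗ₜ[R] ν = s ∧ ∀ i, a i • ν = y i := by
  -- Step 1: `y = delta ν₀`
  have h1 : ((1 : S) ⊗ₜ[R] y : S ⊗[R] (ι → N)) = (delta R a N).lTensor S s := by
    apply tensor_pi_ext
    intro i
    rw [comp_delta, hs i]
    rfl
  have hq0 : (LinearMap.range (delta R a N)).mkQ y = 0 := by
    obtain ⟨n, hn⟩ := tors_of_killed R I a ha ((ι → N) ⧸ LinearMap.range (delta R a N)) ⊥
      ((LinearMap.range (delta R a N)).mkQ y) (fun k => by
        rw [Submodule.mem_bot, ← map_smul, smul_eq_delta R a N y hy k, Submodule.mkQ_apply,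
          Submodule.Quotient.mk_eq_zero]
        exact LinearMap.mem_range_self _ _)
    refine eq_zero_of_tors R S I hq _ _ n (fun b hb => (Submodule.mem_bot R).mp (hn b hb)) ?_
    have : ((1 : S) ⊗ₜ[R] ((LinearMap.range (delta R a N)).mkQ y) :
        S ⊗[R] ((ι → N) ⧸ LinearMap.range (delta R a N))) =
        ((LinearMap.range (delta R a N)).mkQ.lTensor S) ((1 : S) ⊗ₜ[R] y) := rfl
    rw [this, h1, ← LinearMap.comp_apply, ← LinearMap.lTensor_comp]
    have h0 : (LinearMap.range (delta R a N)).mkQ ∘ₗ (delta R a N) = 0 := by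
      ext x : 1
      rw [LinearMap.comp_apply, LinearMap.zero_apply, Submodule.mkQ_apply,
        Submodule.Quotient.mk_eq_zero]
      exact LinearMap.mem_range_self _ _
    rw [h0, LinearMap.lTensor_zero, LinearMap.zero_apply]
  rw [Submodule.mkQ_apply, Submodule.Quotient.mk_eq_zero] at hq0
  obtain ⟨ν₀, hν₀⟩ := hq0
  have hν₀' : ∀ i, a i • ν₀ = y i := fun i => by rw [← hν₀]; rfl
  -- Step 2: correct by a torsion element
  have h2 : (delta R a N).lTensor S (s - (1 : S) ⊗ₜ[R] ν₀) = 0 := by
    apply tensor_pi_ext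
    intro i
    rw [comp_delta, map_zero, smul_sub, hs i, TensorProduct.smul_tmul', sub_eq_zero]
    rw [← hν₀' i, TensorProduct.smul_tmul, ]
  have hex := Module.Flat.lTensor_exact S (LinearMap.exact_subtype_ker_map (delta R a N))
  obtain ⟨t, ht⟩ := (hex _).mp h2
  have hT : ∀ τ : LinearMap.ker (delta R a N), ∃ n : ℕ, ∀ b ∈ I ^ n, b • τ = 0 := by
    intro τ
    obtain ⟨n, hn⟩ := tors_of_killed R I a ha _ ⊥ τ (fun i => by
      rw [Submodule.mem_bot]
      apply Subtype.ext
      have := congrFun (LinearMap.mem_ker.mp τ.2) i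
      exact this)
    exact ⟨n, fun b hb => (Submodule.mem_bot R).mp (hn b hb)⟩
  obtain ⟨τ, hτ⟩ := (mk_bij R S I hq _ hT).2 t
  refine ⟨ν₀ + τ.1, ?_, fun i => ?_⟩
  · rw [TensorProduct.tmul_add]
    have : ((1 : S) ⊗ₜ[R] (τ.1 : N) : S ⊗[R] N) = s - (1 : S) ⊗ₜ[R] ν₀ := by
      rw [← ht, ← hτ, TensorProduct.mk_apply, LinearMap.lTensor_tmul]
      rfl
    rw [this]
    abel
  · rw [smul_add, hν₀' i]
    have := congrFun (LinearMap.mem_ker.mp τ.2) i
    rw [delta_apply] at this
    rw [this, Pi.zero_apply, add_zero]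

include ha hq in
theorem decompB (N : Type u) [AddCommGroup N] [Module R N] (y : ι → S ⊗[R] N)
    (hy : ∀ i j, a j • y i = a i • y j) :
    ∃ (y' : ι → N) (s : S ⊗[R] N), (∀ i j, a j • y' i = a i • y' j) ∧
      ∀ i, y i = (1 : S) ⊗ₜ[R] y' i + a i • s := by
  obtain ⟨Y, hY⟩ := exists_comp_eq R S N y
  have hDY : (Dmap R a N).lTensor S Y = 0 := by
    apply tensor_pi_ext
    intro ij
    rw [comp_Dmap, hY, hY, map_zero, sub_eq_zero]
    exact hy ij.1 ij.2
  have hex := Module.Flat.lTensor_exact S (LinearMap.exact_subtype_ker_map (Dmap R a N))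
  obtain ⟨t, ht⟩ := (hex _).mp hDY
  -- decompose `t`
  obtain ⟨z', w, hw⟩ := exists_decomp R S I hq (LinearMap.ker (Dmap R a N))
    (Submodule.comap (LinearMap.ker (Dmap R a N)).subtype (LinearMap.range (delta R a N)))
    (fun z => tors_of_killed R I a ha _ _ z (fun k => by
      rw [Submodule.mem_comap, map_smul, Submodule.subtype_apply,
        smul_eq_delta R a N z.1 ((mem_ker_Dmap R a N z.1).mp z.2) k]
      exact LinearMap.mem_range_self _ _)) t
  have hclaim : ∀ w : S ⊗[R] (Submodule.comap (LinearMap.ker (Dmap R a N)).subtype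
      (LinearMap.range (delta R a N))), ∃ s : S ⊗[R] N,
      (LinearMap.ker (Dmap R a N)).subtype.lTensor S
        ((Submodule.comap (LinearMap.ker (Dmap R a N)).subtype
          (LinearMap.range (delta R a N))).subtype.lTensor S w) = (delta R a N).lTensor S s := by
    intro w
    induction w using TensorProduct.induction_on with
    | zero => exact ⟨0, by simp⟩
    | tmul σ x₀ =>
      obtain ⟨ν, hν⟩ := x₀.2
      refine ⟨σ ⊗ₜ[R] ν, ?_⟩
      rw [LinearMap.lTensor_tmul, LinearMap.lTensor_tmul, LinearMap.lTensor_tmul, hν]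
      rfl
    | add x y hx hy =>
      obtain ⟨s1, h1⟩ := hx
      obtain ⟨s2, h2⟩ := hy
      exact ⟨s1 + s2, by rw [map_add, map_add, map_add, h1, h2]⟩
  obtain ⟨s, hs⟩ := hclaim w
  refine ⟨z'.1, s, (mem_ker_Dmap R a N z'.1).mp z'.2, fun i => ?_⟩
  rw [← hY i, ← ht, hw, map_add, hs, map_add, comp_delta, LinearMap.lTensor_tmul]
  rfl

end Family



section Constr

variable (R S : Type u) [CommRing R] [CommRing S] [Algebra R S] (I : Ideal R)
  {ι : Type u} [Fintype ι] [DecidableEq ι] (f : ι → R)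

theorem pow_family (hf : Ideal.span (Set.range f) = I) (n : ℕ) :
    ∃ k : ℕ, I ^ k ≤ Ideal.span (Set.range (fun i => f i ^ n)) := by
  apply Ideal.exists_pow_le_of_le_radical_of_fg
  · rw [← hf, Ideal.span_le]
    rintro _ ⟨i, rfl⟩
    exact ⟨n, Ideal.subset_span ⟨i, rfl⟩⟩
  · rw [← hf]
    exact Submodule.fg_span (Set.finite_range f)

variable (N M : Type u) [AddCommGroup N] [Module R N] [AddCommGroup M] [Module R M]
  (E' : Type u) [AddCommGroup E'] [Module S E'] [Module R E'] [IsScalarTower R S E']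
  (i' : S ⊗[R] N →ₗ[S] E') (p' : E' →ₗ[S] S ⊗[R] M)

/-- the ambient module -/
abbrev Amb : Type u := E' × M × (∀ i, LocalizedModule (Submonoid.powers (f i)) N)

/-- the denominators -/
def den (i : ι) (n : ℕ) : Submonoid.powers (f i) := ⟨f i ^ n, n, rfl⟩

theorem den_mul (i : ι) (n n' : ℕ) : den R f i n * den R f i n' = den R f i (n + n') :=
  Subtype.ext (pow_add _ _ _).symm

/-- membership predicate for the extension -/
def IsMem (x : Amb R f N M E') : Prop :=
  p' x.1 = (1 : S) ⊗ₜ[R] x.2.1 ∧ ∃ (n : ℕ) (y : ι → N),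
    (∀ i j, f j ^ n • y i = f i ^ n • y j) ∧ (∀ i, f i ^ n • x.1 = i' ((1 : S) ⊗ₜ[R] y i)) ∧
      ∀ i, x.2.2 i = LocalizedModule.mk (y i) (den R f i n)

/-- the extension module -/
def Esub : Submodule R (Amb R f N M E') where
  carrier := {x | IsMem R S f N M E' i' p' x}
  zero_mem' := by
    refine ⟨by simp, 0, 0, by simp, by simp, fun i => ?_⟩
    rw [Pi.zero_apply, LocalizedModule.zero_mk]
    rfl
  add_mem' := by
    rintro x x' ⟨h1, n, y, hy, he, hx⟩ ⟨h1', n', y', hy', he', hx'⟩
    refine ⟨?_, n + n', fun i => f i ^ n' • y i + f i ^ n • y' i, ?_, ?_, ?_⟩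
    · change p' (x.1 + x'.1) = (1 : S) ⊗ₜ[R] (x.2.1 + x'.2.1)
      rw [map_add, h1, h1', TensorProduct.tmul_add]
    · intro i j
      have e1 : f j ^ (n + n') • (f i ^ n' • y i) = f i ^ (n + n') • (f j ^ n' • y j) := by
        calc f j ^ (n + n') • (f i ^ n' • y i)
            = (f j ^ n' * f i ^ n') • (f j ^ n • y i) := by
              rw [smul_smul, smul_smul, pow_add]; congr 1; ring
          _ = (f j ^ n' * f i ^ n') • (f i ^ n • y j) := by rw [hy]
          _ = f i ^ (n + n') • (f j ^ n' • y j) := by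
              rw [smul_smul, smul_smul, pow_add]; congr 1; ring
      have e2 : f j ^ (n + n') • (f i ^ n • y' i) = f i ^ (n + n') • (f j ^ n • y' j) := by
        calc f j ^ (n + n') • (f i ^ n • y' i)
            = (f j ^ n * f i ^ n) • (f j ^ n' • y' i) := by
              rw [smul_smul, smul_smul, pow_add]; congr 1; ring
          _ = (f j ^ n * f i ^ n) • (f i ^ n' • y' j) := by rw [hy']
          _ = f i ^ (n + n') • (f j ^ n • y' j) := by
              rw [smul_smul, smul_smul, pow_add]; congr 1; ring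
      rw [smul_add, smul_add, e1, e2]
    · intro i
      change f i ^ (n + n') • (x.1 + x'.1) = _
      have e1 : f i ^ (n + n') • x.1 = f i ^ n' • (f i ^ n • x.1) := by
        rw [smul_smul, pow_add, mul_comm]
      have e2 : f i ^ (n + n') • x'.1 = f i ^ n • (f i ^ n' • x'.1) := by
        rw [smul_smul, pow_add]
      rw [smul_add, e1, e2, he i, he' i, TensorProduct.tmul_add, map_add,
        TensorProduct.tmul_smul, TensorProduct.tmul_smul, LinearMap.map_smul_of_tower,
        LinearMap.map_smul_of_tower]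
    · intro i
      change x.2.2 i + x'.2.2 i = _
      rw [hx i, hx' i, LocalizedModule.mk_add_mk, den_mul]
      rfl
  smul_mem' := by
    rintro c x ⟨h1, n, y, hy, he, hx⟩
    refine ⟨?_, n, fun i => c • y i, ?_, ?_, ?_⟩
    · change p' (c • x.1) = (1 : S) ⊗ₜ[R] (c • x.2.1)
      rw [LinearMap.map_smul_of_tower, h1, TensorProduct.tmul_smul]
    · intro i j
      rw [smul_comm, hy i j, smul_comm]
    · intro i
      change f i ^ n • (c • x.1) = _
      rw [smul_comm, he i, TensorProduct.tmul_smul, LinearMap.map_smul_of_tower]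
    · intro i
      change c • x.2.2 i = _
      rw [hx i, LocalizedModule.smul'_mk]

end Constr



section Main

variable (R S : Type u) [CommRing R] [CommRing S] [Algebra R S] (I : Ideal R)
  {ι : Type u} [Fintype ι] [DecidableEq ι] (f : ι → R)
  (N M : Type u) [AddCommGroup N] [Module R N] [AddCommGroup M] [Module R M]
  (E' : Type u) [AddCommGroup E'] [Module S E'] [Module R E'] [IsScalarTower R S E']
  (i' : S ⊗[R] N →ₗ[S] E') (p' : E' →ₗ[S] S ⊗[R] M)

/-- `N → Amb` -/
noncomputable def iE0 : N →ₗ[R] Amb R f N M E' :=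
  LinearMap.prod ((i'.restrictScalars R).comp (TensorProduct.mk R S N 1))
    (LinearMap.prod 0
      (LinearMap.pi (fun i => LocalizedModule.mkLinearMap (Submonoid.powers (f i)) N)))

theorem iE0_apply (ν : N) :
    iE0 R S f N M E' i' ν = (i' ((1 : S) ⊗ₜ[R] ν), 0, fun i => LocalizedModule.mk ν 1) := rfl

theorem p'_i' (hex' : LinearMap.range i' = LinearMap.ker p') (z : S ⊗[R] N) : p' (i' z) = 0 :=
  LinearMap.mem_ker.mp (hex' ▸ LinearMap.mem_range_self i' z)

theorem iE0_mem (hex' : LinearMap.range i' = LinearMap.ker p') (ν : N) :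
    iE0 R S f N M E' i' ν ∈ Esub R S f N M E' i' p' := by
  refine ⟨?_, 0, fun _ => ν, ?_, ?_, ?_⟩
  · rw [iE0_apply]
    change p' (i' _) = (1 : S) ⊗ₜ[R] (0 : M)
    rw [p'_i' R S N M E' i' p' hex', TensorProduct.tmul_zero]
  · intro i j
    rw [pow_zero, pow_zero]
  · intro i
    rw [pow_zero, one_smul]
    rfl
  · intro i
    rw [iE0_apply]
    change LocalizedModule.mk ν 1 = LocalizedModule.mk ν (den R f i 0)
    congr 1
    exact Subtype.ext (pow_zero _).symm

/-- `N → E` -/
noncomputable def iE (hex' : LinearMap.range i' = LinearMap.ker p') :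
    N →ₗ[R] Esub R S f N M E' i' p' :=
  (iE0 R S f N M E' i').codRestrict _ (iE0_mem R S f N M E' i' p' hex')

/-- `E → M` -/
def pE : Esub R S f N M E' i' p' →ₗ[R] M :=
  (LinearMap.fst R M _).comp ((LinearMap.snd R E' _).comp (Esub R S f N M E' i' p').subtype)

/-- `E → E'` -/
def gE : Esub R S f N M E' i' p' →ₗ[R] E' :=
  (LinearMap.fst R E' _).comp (Esub R S f N M E' i' p').subtype

variable [Module.Flat R S]

theorem main (hf : Ideal.span (Set.range f) = I)
    (hq : Function.Bijective (Ideal.quotientMap (I.map (algebraMap R S)) (algebraMap R S)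
      Ideal.le_comap_map))
    (hM : ∀ m : M, ∃ n : ℕ, ∀ a ∈ I ^ n, a • m = 0)
    (hi' : Function.Injective i') (hp' : Function.Surjective p')
    (hex' : LinearMap.range i' = LinearMap.ker p') :
    ∃ (E : Type u) (_ : AddCommGroup E) (_ : Module R E) (i : N →ₗ[R] E) (p : E →ₗ[R] M)
      (g : E →ₗ[R] E'),
      Function.Injective i ∧ Function.Surjective p ∧ LinearMap.range i = LinearMap.ker p ∧
      (∀ n : N, g (i n) = i' ((1 : S) ⊗ₜ[R] n)) ∧ (∀ e : E, p' (g e) = (1 : S) ⊗ₜ[R] p e) := by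
  refine ⟨Esub R S f N M E' i' p', inferInstance, inferInstance, iE R S f N M E' i' p' hex',
    pE R S f N M E' i' p', gE R S f N M E' i' p', ?_, ?_, ?_, fun n => rfl, fun e => e.2.1⟩
  · -- injectivity
    rw [injective_iff_map_eq_zero]
    intro ν hν
    have h0 : iE0 R S f N M E' i' ν = 0 := congrArg Subtype.val hν
    rw [iE0_apply] at h0
    have h1 : i' ((1 : S) ⊗ₜ[R] ν) = 0 := congrArg Prod.fst h0
    have h2 : ∀ i, (LocalizedModule.mk ν 1 : LocalizedModule (Submonoid.powers (f i)) N) = 0 :=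
      fun i => congrFun (congrArg (fun z => z.2.2) h0) i
    have h1' : ((1 : S) ⊗ₜ[R] ν : S ⊗[R] N) = 0 := hi' (by rw [h1, map_zero])
    have h3 : ∀ i, ∃ c : ℕ, f i ^ c • ν = 0 := by
      intro i
      have := h2 i
      rw [← LocalizedModule.zero_mk (1 : Submonoid.powers (f i)), LocalizedModule.mk_eq] at this
      obtain ⟨⟨_, c, rfl⟩, hu⟩ := this
      refine ⟨c, ?_⟩
      have hu' : (⟨f i ^ c, c, rfl⟩ : Submonoid.powers (f i)) • ν = 0 := by simpa using hu
      exact hu'
    choose c hc using h3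
    have h4 : ∀ i, f i ^ (∑ j, c j) • ν = 0 := by
      intro i
      have hle : c i ≤ ∑ j, c j := Finset.single_le_sum (fun _ _ => Nat.zero_le _) (Finset.mem_univ i)
      rw [← Nat.sub_add_cancel hle, pow_add, mul_smul, hc i, smul_zero]
    obtain ⟨k, hk⟩ := tors_of_killed R I (fun i => f i ^ (∑ j, c j))
      (pow_family R I f hf _) N ⊥ ν (fun i => by rw [Submodule.mem_bot]; exact h4 i)
    exact eq_zero_of_tors R S I hq N ν k (fun b hb => (Submodule.mem_bot R).mp (hk b hb)) h1'
  · -- surjectivity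
    intro m
    obtain ⟨n, hn⟩ := hM m
    obtain ⟨e0, he0⟩ := hp' ((1 : S) ⊗ₜ[R] m)
    have hfi : ∀ i, f i ∈ I := fun i => hf ▸ Ideal.subset_span ⟨i, rfl⟩
    have h1 : ∀ i, f i ^ n • e0 ∈ LinearMap.range i' := by
      intro i
      rw [hex', LinearMap.mem_ker, LinearMap.map_smul_of_tower, he0, ← TensorProduct.tmul_smul,
        hn _ (Ideal.pow_mem_pow (hfi i) n), TensorProduct.tmul_zero]
    choose y hy using h1
    have hcompat : ∀ i j, f j ^ n • y i = f i ^ n • y j := by
      intro i j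
      apply hi'
      rw [LinearMap.map_smul_of_tower, LinearMap.map_smul_of_tower, hy, hy, smul_comm]
    obtain ⟨y', s, hy', hdec⟩ := decompB R S I (fun i => f i ^ n) (pow_family R I f hf n) hq N y
      hcompat
    refine ⟨⟨(e0 - i' s, m, fun i => LocalizedModule.mk (y' i) (den R f i n)), ?_, n, y', hy', ?_,
      fun i => rfl⟩, rfl⟩
    · change p' (e0 - i' s) = (1 : S) ⊗ₜ[R] m
      rw [map_sub, he0, p'_i' R S N M E' i' p' hex', sub_zero]
    · intro i
      change f i ^ n • (e0 - i' s) = _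
      rw [smul_sub, ← hy i, hdec i, map_add, LinearMap.map_smul_of_tower, add_sub_cancel_right]
  · -- exactness
    apply le_antisymm
    · rintro _ ⟨ν, rfl⟩
      rw [LinearMap.mem_ker]
      rfl
    · rintro ⟨⟨e, m, x⟩, hmem⟩ hker
      have hm : m = 0 := hker
      subst hm
      obtain ⟨h1, n, y, hy, he, hx⟩ := hmem
      have h1' : p' e = 0 := by
        have : p' e = (1 : S) ⊗ₜ[R] (0 : M) := h1
        rw [this, TensorProduct.tmul_zero]
      obtain ⟨s, rfl⟩ : e ∈ LinearMap.range i' := by rw [hex']; exact h1'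
      have hs : ∀ i, f i ^ n • s = (1 : S) ⊗ₜ[R] y i := by
        intro i
        apply hi'
        rw [LinearMap.map_smul_of_tower]
        exact he i
      obtain ⟨ν, hν1, hν2⟩ := liftA R S I (fun i => f i ^ n) (pow_family R I f hf n) hq N s y hy hs
      refine ⟨ν, ?_⟩
      apply Subtype.ext
      change iE0 R S f N M E' i' ν = (i' s, 0, x)
      rw [iE0_apply, hν1]
      refine Prod.ext rfl (Prod.ext rfl ?_)
      funext i
      change LocalizedModule.mk ν 1 = x i
      have hxi : x i = LocalizedModule.mk (y i) (den R f i n) := hx i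
      rw [hxi, ← hν2 i]
      exact (LocalizedModule.mk_cancel (den R f i n) ν).symm

end Main


end Groth.Agent.Helper13ExtTors
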