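import Mathlib
import Groth.Agent.Lib.Helper28FGDim

set_option autoImplicit false
set_option linter.style.haveILetI false
universe u

namespace Groth.Agent.Helper13FibSeq

open RingTheory.Sequence Groth.Agent.Lib.Helper28

section

variable {A : Type u} [CommRing A]

theorem ofList_ne_top [IsLocalRing A] (ys : List A)
    (hmem : ∀ y ∈ ys, y ∈ IsLocalRing.maximalIdeal A) : Ideal.ofList ys ≠ ⊤ := by
  intro h
  have hle : Ideal.ofList ys ≤ IsLocalRing.maximalIdeal A := by
    rw [Ideal.ofList, Ideal.span_le]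
    intro y hy
    exact hmem y hy
  rw [h] at hle
  exact (IsLocalRing.maximalIdeal.isMaximal A).ne_top (top_le_iff.mp hle)

/-- Krull: `dim A ≤ dim A/(ys) + length ys`. -/
theorem dim_le_dim_quot_add_length [IsNoetherianRing A] [IsLocalRing A] (ys : List A)
    (hmem : ∀ y ∈ ys, y ∈ IsLocalRing.maximalIdeal A) :
    ringKrullDim A ≤ ringKrullDim (A ⧸ Ideal.ofList ys) + ys.length := by
  have h1 := supportDim_le_supportDim_quot_ofList_add_length_local ys A hmem
  rw [Module.supportDim_self_eq_ringKrullDim] at h1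
  have e : (A ⧸ (Ideal.ofList ys • ⊤ : Submodule A A)) ≃ₗ[A] (A ⧸ Ideal.ofList ys) :=
    Submodule.quotEquivOfEq _ _ (by rw [smul_eq_mul, Ideal.mul_top])
  rw [Module.supportDim_eq_of_equiv e, Module.supportDim_quotient_eq_ringKrullDim] at h1
  exact h1

/-- in a CM local ring, a sequence in the maximal ideal is regular iff the dimension drops by its
length. -/
theorem isRegular_iff_dim_le [hA : LocCoh.IsCohenMacaulayLocalRing A] (ys : List A)
    (hmem : ∀ y ∈ ys, y ∈ IsLocalRing.maximalIdeal A) :
    IsRegular A ys ↔ ringKrullDim (A ⧸ Ideal.ofList ys) + ys.length ≤ ringKrullDim A := by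
  have hN : IsNoetherianRing A := inferInstance
  have hne := ofList_ne_top ys hmem
  constructor
  · intro h
    exact le_of_eq (ringKrullDim_add_length_eq_ringKrullDim_of_isRegular ys h)
  · intro h
    have h1 := height_add_ringKrullDim_quotient_eq_of_isCohenMacaulayLocalRing (Ideal.ofList ys) hne
    haveI : Nontrivial (A ⧸ Ideal.ofList ys) := Ideal.Quotient.nontrivial_iff.mpr hne
    haveI : IsLocalRing (A ⧸ Ideal.ofList ys) :=
      IsLocalRing.of_surjective' (Ideal.Quotient.mk _) Ideal.Quotient.mk_surjective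
    have hfin : ringKrullDim (A ⧸ Ideal.ofList ys) ≠ ⊤ := ringKrullDim_ne_top
    have hbot : ringKrullDim (A ⧸ Ideal.ofList ys) ≠ ⊥ := ringKrullDim_ne_bot
    obtain ⟨x, hx⟩ := WithBot.ne_bot_iff_exists.mp hbot
    have hxtop : x ≠ ⊤ := by
      intro hx'
      rw [hx'] at hx
      exact hfin hx.symm
    rw [← h1, ← hx] at h
    have h2 : ((x + (ys.length : ℕ∞) : ℕ∞) : WithBot ℕ∞) ≤
        (((Ideal.ofList ys).height + x : ℕ∞) : WithBot ℕ∞) := by
      rw [WithBot.coe_add, WithBot.coe_add]
      exact h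
    have h3 : x + (ys.length : ℕ∞) ≤ (Ideal.ofList ys).height + x := WithBot.coe_le_coe.mp h2
    have hht : (ys.length : ℕ∞) ≤ (Ideal.ofList ys).height := by
      rw [add_comm] at h3
      exact (ENat.add_le_add_iff_right hxtop).mp h3
    obtain ⟨hreg, -, -⟩ := isWeaklyRegular_of_length_le_height ys hmem hht
    refine ⟨hreg, ?_⟩
    rw [smul_eq_mul, Ideal.mul_top]
    exact hne.symm

end

end Groth.Agent.Helper13FibSeq
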