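import Mathlib
import Groth.Prelude.Def_EssEt
import Groth.Agent.Lib.Helper3EssEt

/-!
# Henselization, part A (helper3): the directed system of strictly essentially étale local algebras
-/

namespace Groth.Agent.Lib.Helper3.Hz

open IsLocalRing TensorProduct Groth.Agent.Lib.Helper3.EssEt

universe u

variable (R : Type u) [CommRing R] [IsLocalRing R]

/-- Index: a presentation `(MvPolynomial (Fin n) R ⧸ J, q)` of a strictly essentially étale local
`R`-algebra. -/
structure Idx where
  n : ℕ
  J : Ideal (MvPolynomial (Fin n) R)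
  q : Ideal (MvPolynomial (Fin n) R ⧸ J)
  prime : q.IsPrime
  etale : Algebra.Etale R (MvPolynomial (Fin n) R ⧸ J)
  comap : q.comap (algebraMap R (MvPolynomial (Fin n) R ⧸ J)) = maximalIdeal R
  surj : Function.Surjective (algebraMap R q.ResidueField)

variable {R}

namespace Idx

/-- the étale algebra of an index -/
def C (i : Idx R) : Type u := MvPolynomial (Fin i.n) R ⧸ i.J

noncomputable instance (i : Idx R) : CommRing i.C :=
  inferInstanceAs (CommRing (MvPolynomial (Fin i.n) R ⧸ i.J))
noncomputable instance (i : Idx R) : Algebra R i.C :=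
  inferInstanceAs (Algebra R (MvPolynomial (Fin i.n) R ⧸ i.J))
instance (i : Idx R) : Algebra.Etale R i.C := i.etale

/-- the prime of an index -/
def Q (i : Idx R) : Ideal i.C := i.q

instance (i : Idx R) : i.Q.IsPrime := i.prime

theorem comap_Q (i : Idx R) : i.Q.comap (algebraMap R i.C) = maximalIdeal R := i.comap

theorem surj_Q (i : Idx R) : Function.Surjective (algebraMap R i.Q.ResidueField) := i.surj

/-- the local ring of an index -/
def L (i : Idx R) : Type u := Localization.AtPrime i.Q

noncomputable instance (i : Idx R) : CommRing i.L :=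
  inferInstanceAs (CommRing (Localization.AtPrime i.Q))
noncomputable instance (i : Idx R) : Algebra R i.L :=
  inferInstanceAs (Algebra R (Localization.AtPrime i.Q))
noncomputable instance (i : Idx R) : Algebra i.C i.L :=
  inferInstanceAs (Algebra i.C (Localization.AtPrime i.Q))
instance (i : Idx R) : IsScalarTower R i.C i.L :=
  inferInstanceAs (IsScalarTower R i.C (Localization.AtPrime i.Q))
instance (i : Idx R) : IsLocalization.AtPrime i.L i.Q :=
  inferInstanceAs (IsLocalization.AtPrime (Localization.AtPrime i.Q) i.Q)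
instance (i : Idx R) : IsLocalRing i.L :=
  inferInstanceAs (IsLocalRing (Localization.AtPrime i.Q))

/-- the identification with the localization -/
noncomputable def equivLoc (i : Idx R) : i.L ≃ₐ[R] Localization.AtPrime i.Q := AlgEquiv.refl

theorem isEssentiallyEtale (i : Idx R) : EGA4loc.IsEssentiallyEtale R i.L :=
  ⟨i.C, inferInstance, inferInstance, i.Q, inferInstance, inferInstance, i.comap_Q, ⟨i.equivLoc⟩⟩

instance isLocalHom (i : Idx R) : IsLocalHom (algebraMap R i.L) := by
  constructor
  intro a ha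
  rw [IsScalarTower.algebraMap_apply R i.C i.L,
    IsLocalization.AtPrime.isUnit_to_map_iff i.L i.Q] at ha
  by_contra hna
  have : a ∈ maximalIdeal R := hna
  rw [← i.comap_Q] at this
  exact ha this

theorem isStrict (i : Idx R) : EGA4loc.IsStrictlyEssentiallyEtale R i.L := by
  refine ⟨i.isEssentiallyEtale, RingHom.injective _, ?_⟩
  intro z
  obtain ⟨a, rfl⟩ := i.surj_Q z
  refine ⟨residue R a, ?_⟩
  rw [ResidueField.map_residue]
  rfl

/-- the residue field of `L i` is a quotient of `R` -/
theorem exists_sub_mem (i : Idx R) (x : i.L) :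
    ∃ r : R, x - algebraMap R i.L r ∈ maximalIdeal i.L := by
  obtain ⟨y, hy⟩ := i.isStrict.2.2 (residue i.L x)
  obtain ⟨r, rfl⟩ := residue_surjective y
  refine ⟨r, ?_⟩
  rw [ResidueField.map_residue] at hy
  rw [← residue_eq_zero_iff, map_sub, sub_eq_zero]
  exact hy.symm

end Idx

/-- Every strictly essentially étale local algebra is isomorphic to `L i` for some index. -/
theorem exists_idx (A' : Type u) [CommRing A'] [IsLocalRing A'] [Algebra R A']
    [IsLocalHom (algebraMap R A')] (h : EGA4loc.IsStrictlyEssentiallyEtale R A') :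
    ∃ i : Idx R, Nonempty (A' ≃ₐ[R] i.L) := by
  obtain ⟨⟨C, _, _, q, _, hEt, hq, ⟨e⟩⟩, hb⟩ := h
  obtain ⟨n, φ, hφ, -⟩ := (Algebra.Etale.finitePresentation (R := R) (A := C)).out
  let ε : (MvPolynomial (Fin n) R ⧸ RingHom.ker φ.toRingHom) ≃ₐ[R] C :=
    Ideal.quotientKerAlgEquivOfSurjective hφ
  let q' : Ideal (MvPolynomial (Fin n) R ⧸ RingHom.ker φ.toRingHom) := q.comap ε.toRingHom
  haveI : q'.IsPrime := Ideal.comap_isPrime _ _
  have hmap : Submonoid.map ε q'.primeCompl = q.primeCompl := by
    ext x
    constructor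
    · rintro ⟨y, hy, rfl⟩
      exact hy
    · intro hx
      refine ⟨ε.symm x, ?_, ε.apply_symm_apply x⟩
      change ε.symm x ∉ q'
      rw [Ideal.mem_comap]
      have : ε.toRingHom (ε.symm x) = x := ε.apply_symm_apply x
      rw [this]
      exact hx
  let E : Localization.AtPrime q' ≃ₐ[R] Localization.AtPrime q :=
    IsLocalization.algEquivOfAlgEquiv (M := q'.primeCompl) (T := q.primeCompl)
      (Localization.AtPrime q') (Localization.AtPrime q) ε hmap
  have hEt' : Algebra.Etale R (MvPolynomial (Fin n) R ⧸ RingHom.ker φ.toRingHom) :=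
    Algebra.Etale.of_equiv ε.symm
  have hcomap : q'.comap (algebraMap R _) = maximalIdeal R := by
    rw [← hq]
    ext a
    simp only [q', Ideal.mem_comap]
    have : ε.toRingHom (algebraMap R _ a) = algebraMap R C a := ε.commutes a
    rw [this]
  have hsurj := algebraMap_residueField_surjective R A' hb _ q' (e.trans E.symm)
  let k : Idx R := ⟨n, RingHom.ker φ.toRingHom, q', inferInstance, hEt', hcomap, hsurj⟩
  exact ⟨k, ⟨(e.trans E.symm).trans k.equivLoc.symm⟩⟩

/-- `R` itself is strictly essentially étale over `R`. -/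
theorem isStrict_self : EGA4loc.IsStrictlyEssentiallyEtale R R := by
  refine ⟨⟨R, inferInstance, inferInstance, maximalIdeal R, inferInstance, inferInstance, ?_, ?_⟩,
    ?_⟩
  · rfl
  · refine ⟨IsLocalization.atUnits R (maximalIdeal R).primeCompl ?_⟩
    intro x hx
    by_contra hx'
    exact hx hx'
  · have : ResidueField.map (algebraMap R R) = RingHom.id _ := by
      ext x
      simp
    rw [this]
    exact Function.bijective_id

instance : Nonempty (Idx R) := by
  obtain ⟨i, -⟩ := exists_idx R isStrict_self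
  exact ⟨i⟩

instance : Preorder (Idx R) where
  le i j := Nonempty (i.L →ₐ[R] j.L)
  le_refl i := ⟨AlgHom.id R _⟩
  le_trans i j k := fun ⟨f⟩ ⟨g⟩ => ⟨g.comp f⟩

instance : IsDirectedOrder (Idx R) := by
  constructor
  intro i j
  obtain ⟨A₃, _, _, _, _, h₃, ⟨f₁⟩, ⟨f₂⟩⟩ := exists_common R i.L j.L i.isStrict j.isStrict
  obtain ⟨k, ⟨e⟩⟩ := exists_idx A₃ h₃
  exact ⟨k, ⟨e.toAlgHom.comp f₁⟩, ⟨e.toAlgHom.comp f₂⟩⟩

instance (i j : Idx R) : Subsingleton (i.L →ₐ[R] j.L) :=
  subsingleton_algHom R i.L j.L i.isStrict

/-- transition maps -/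
noncomputable def fmap (i j : Idx R) (h : i ≤ j) : i.L →ₐ[R] j.L := h.some

/-- transition maps as ring homs -/
noncomputable def fmap' (i j : Idx R) (h : i ≤ j) : i.L →+* j.L := (fmap i j h).toRingHom

instance : DirectedSystem (fun i : Idx R => i.L) (fun _ _ h => fmap' _ _ h) where
  map_self i x := by
    have : fmap i i le_rfl = AlgHom.id R _ := Subsingleton.elim _ _
    change fmap i i le_rfl x = x
    rw [this]; rfl
  map_map k j i hij hjk x := by
    have : (fmap j k hjk).comp (fmap i j hij) = fmap i k (hij.trans hjk) := Subsingleton.elim _ _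
    change (fmap j k hjk) ((fmap i j hij) x) = fmap i k (hij.trans hjk) x
    rw [← this]; rfl

instance (i j : Idx R) (h : i ≤ j) : IsLocalHom (fmap' i j h) := by
  constructor
  intro a ha
  by_contra hna
  have h1 : a ∈ maximalIdeal i.L := hna
  have h2 := map_mem_maximalIdeal R i.L j.L i.isEssentiallyEtale (fmap i j h) h1
  exact h2 ha

variable (R) in
/-- The henselization of `R` (as a ring). -/
abbrev Rh : Type u := Ring.DirectLimit (fun i : Idx R => i.L) (fun _ _ h => fmap' _ _ h)

/-- the canonical maps -/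
noncomputable abbrev ofL (i : Idx R) : i.L →+* Rh R :=
  Ring.DirectLimit.of (fun i : Idx R => i.L) (fun _ _ h => fmap' _ _ h) i

theorem ofL_fmap {i j : Idx R} (h : i ≤ j) (x : i.L) : ofL j (fmap' i j h x) = ofL i x :=
  Ring.DirectLimit.of_f h x

theorem ofL_algebraMap (i j : Idx R) (r : R) :
    ofL i (algebraMap R i.L r) = ofL j (algebraMap R j.L r) := by
  obtain ⟨k, hik, hjk⟩ := exists_ge_ge i j
  rw [← ofL_fmap hik, ← ofL_fmap hjk]
  congr 1
  exact ((fmap i k hik).commutes r).trans ((fmap j k hjk).commutes r).symm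

noncomputable instance : Algebra R (Rh R) :=
  ((ofL (Classical.arbitrary (Idx R))).comp (algebraMap R _)).toAlgebra

theorem algebraMap_eq (i : Idx R) (r : R) : algebraMap R (Rh R) r = ofL i (algebraMap R i.L r) :=
  ofL_algebraMap _ i r

/-- the canonical maps as algebra homs -/
noncomputable def ofLₐ (i : Idx R) : i.L →ₐ[R] Rh R :=
  { ofL i with commutes' := fun r => (algebraMap_eq i r).symm }

theorem ofLₐ_apply (i : Idx R) (x : i.L) : ofLₐ i x = ofL i x := rfl

end Groth.Agent.Lib.Helper3.Hz
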