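import Mathlib
import Groth.Agent.Lib.Helper3HzA

/-!
# Henselization, part B (helper3): `Rh R` is a local ring with residue field `κ(R)`
-/

namespace Groth.Agent.Lib.Helper3.Hz

open IsLocalRing TensorProduct Groth.Agent.Lib.Helper3.EssEt

universe u

variable {R : Type u} [CommRing R] [IsLocalRing R]

theorem exists_ofL (z : Rh R) : ∃ i x, ofL i x = z := Ring.DirectLimit.exists_of z

theorem exists_ofL₂ (z w : Rh R) : ∃ i x y, ofL i x = z ∧ ofL i y = w := by
  obtain ⟨i, x, rfl⟩ := exists_ofL z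
  obtain ⟨j, y, rfl⟩ := exists_ofL w
  obtain ⟨k, hik, hjk⟩ := exists_ge_ge i j
  exact ⟨k, fmap' i k hik x, fmap' j k hjk y, ofL_fmap hik x, ofL_fmap hjk y⟩

theorem ofL_eq_zero {i : Idx R} {x : i.L} (h : ofL i x = 0) :
    ∃ (j : Idx R) (hij : i ≤ j), fmap' i j hij x = 0 :=
  Ring.DirectLimit.of.zero_exact (f' := fun i j h => fmap' (R := R) i j h) h

theorem ofL_eq {i : Idx R} {x y : i.L} (h : ofL i x = ofL i y) :
    ∃ (j : Idx R) (hij : i ≤ j), fmap' i j hij x = fmap' i j hij y := by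
  have h0 : ofL i (x - y) = 0 := by rw [map_sub, h, sub_self]
  obtain ⟨j, hij, hj⟩ := ofL_eq_zero h0
  exact ⟨j, hij, by rwa [map_sub, sub_eq_zero] at hj⟩

instance : Nontrivial (Rh R) := by
  refine ⟨0, 1, fun h01 => ?_⟩
  let i : Idx R := Classical.arbitrary _
  have h : ofL i (1 : i.L) = 0 := by rw [map_one]; exact h01.symm
  obtain ⟨j, hij, hj⟩ := ofL_eq_zero h
  rw [map_one] at hj
  exact one_ne_zero hj

theorem isUnit_ofL_iff {i : Idx R} {x : i.L} : IsUnit (ofL i x) ↔ IsUnit x := by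
  refine ⟨fun hu => ?_, fun hu => hu.map _⟩
  obtain ⟨w, hw⟩ := hu.exists_right_inv
  obtain ⟨j, y, rfl⟩ := exists_ofL w
  obtain ⟨k, hik, hjk⟩ := exists_ge_ge i j
  have h1 : ofL k (fmap' i k hik x * fmap' j k hjk y) = ofL k 1 := by
    rw [map_mul, ofL_fmap, ofL_fmap, hw, map_one]
  obtain ⟨l, hkl, hl⟩ := ofL_eq h1
  rw [map_mul, map_one] at hl
  have h2 : IsUnit (fmap' k l hkl (fmap' i k hik x)) := IsUnit.of_mul_eq_one _ hl
  exact (isUnit_of_map_unit (fmap' i k hik) x (isUnit_of_map_unit (fmap' k l hkl) _ h2))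

instance : IsLocalRing (Rh R) := by
  apply IsLocalRing.of_isUnit_or_isUnit_one_sub_self
  intro a
  obtain ⟨i, x, rfl⟩ := exists_ofL a
  rcases IsLocalRing.isUnit_or_isUnit_one_sub_self x with h | h
  · exact Or.inl (h.map _)
  · right
    have := h.map (ofL i)
    rwa [map_sub, map_one] at this

instance (i : Idx R) : IsLocalHom (ofL i) := ⟨fun _ h => isUnit_ofL_iff.mp h⟩

instance : IsLocalHom (algebraMap R (Rh R)) := by
  constructor
  intro a ha
  let i : Idx R := Classical.arbitrary _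
  rw [algebraMap_eq i] at ha
  exact isUnit_of_map_unit (algebraMap R i.L) a (isUnit_ofL_iff.mp ha)

theorem ofL_mem_maximalIdeal_iff {i : Idx R} {x : i.L} :
    ofL i x ∈ maximalIdeal (Rh R) ↔ x ∈ maximalIdeal i.L := by
  simp only [mem_maximalIdeal, mem_nonunits_iff, isUnit_ofL_iff]

/-- every element of `Rh R` is congruent to an element of `R` modulo the maximal ideal -/
theorem exists_sub_mem_maximalIdeal (z : Rh R) :
    ∃ r : R, z - algebraMap R (Rh R) r ∈ maximalIdeal (Rh R) := by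
  obtain ⟨i, x, rfl⟩ := exists_ofL z
  obtain ⟨r, hr⟩ := i.exists_sub_mem x
  refine ⟨r, ?_⟩
  rw [algebraMap_eq i, ← map_sub]
  exact ofL_mem_maximalIdeal_iff.mpr hr

theorem residueField_map_bijective :
    Function.Bijective (ResidueField.map (algebraMap R (Rh R))) := by
  refine ⟨RingHom.injective _, fun z => ?_⟩
  obtain ⟨w, rfl⟩ := residue_surjective z
  obtain ⟨r, hr⟩ := exists_sub_mem_maximalIdeal w
  refine ⟨residue R r, ?_⟩
  rw [ResidueField.map_residue]
  rw [← residue_eq_zero_iff, map_sub, sub_eq_zero] at hr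
  exact hr.symm

end Groth.Agent.Lib.Helper3.Hz
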