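import Mathlib
import Groth.Agent.Lib.Helper3HzB

/-!
# Henselization, part C (helper3): `Rh R` is henselian
-/

namespace Groth.Agent.Lib.Helper3.Hz

open Polynomial IsLocalRing Groth.Agent.Lib.Helper3.EssEt

universe u

/-- derivative of `scaleRoots`, evaluated -/
theorem derivative_scaleRoots_eval_mul {L : Type*} [CommRing L] (p : L[X]) (s x : L) :
    (derivative (scaleRoots p s)).eval (s * x) * s = s ^ p.natDegree * (derivative p).eval x := by
  have h1 : (scaleRoots p s).comp (C s * X) = C (s ^ p.natDegree) * p := by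
    have := scaleRoots_eval₂_mul (p := p) (C : L →+* L[X]) X s
    simp only [← C_pow] at this
    rw [comp]
    convert this using 2
    simp [eval₂_C_X]
  have h2 := congrArg derivative h1
  rw [derivative_comp, derivative_mul, derivative_C, zero_mul, zero_add, derivative_mul,
    derivative_C, zero_mul, zero_add, derivative_X, mul_one] at h2
  have h3 := congrArg (eval x) h2
  simp only [eval_mul, eval_comp, eval_C, eval_X] at h3
  rw [mul_comm s x] at h3 ⊢
  rw [mul_comm] at h3
  linear_combination h3

/-- A monic polynomial over a localization is, after scaling the roots, the image of a monic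
polynomial. -/
theorem exists_monic_map_eq_scaleRoots {A₀ : Type*} [CommRing A₀] (M : Submonoid A₀) {L : Type*}
    [CommRing L] [Algebra A₀ L] [IsLocalization M L] (f : L[X]) (hf : f.Monic) :
    ∃ (s : M) (F : A₀[X]), F.Monic ∧ F.map (algebraMap A₀ L) = scaleRoots f (algebraMap A₀ L s) := by
  classical
  rcases subsingleton_or_nontrivial L with hL | hL
  · exact ⟨1, 1, monic_one, Subsingleton.elim _ _⟩
  obtain ⟨b, hb⟩ := IsLocalization.exist_integer_multiples_of_finset M
    (f.support.image f.coeff)
  have hb' : ∀ k, ∃ c : A₀, algebraMap A₀ L c = algebraMap A₀ L b * f.coeff k := by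
    intro k
    by_cases hk : k ∈ f.support
    · obtain ⟨c, hc⟩ := hb (f.coeff k) (Finset.mem_image_of_mem _ hk)
      exact ⟨c, by rw [hc, Algebra.smul_def]⟩
    · rw [notMem_support_iff] at hk
      exact ⟨0, by simp [hk]⟩
  choose c hc using hb'
  set n := f.natDegree with hn
  -- the polynomial
  let G : A₀[X] := ∑ k ∈ Finset.range n, C (c k * b ^ (n - k - 1)) * X ^ k
  have hGdeg : G.degree < n := by
    refine (degree_sum_le _ _).trans_lt ?_
    refine (Finset.sup_lt_iff (WithBot.bot_lt_coe n)).mpr ?_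
    intro k hk
    refine (degree_C_mul_X_pow_le _ _).trans_lt ?_
    exact WithBot.coe_lt_coe.mpr (Finset.mem_range.mp hk)
  refine ⟨b, X ^ n + G, monic_X_pow_add hGdeg, ?_⟩
  ext k
  rw [coeff_map, coeff_scaleRoots, ← hn, coeff_add, coeff_X_pow, map_add]
  by_cases hkn : k = n
  · subst hkn
    have : G.coeff n = 0 := coeff_eq_zero_of_degree_lt hGdeg
    rw [this, if_pos rfl, map_one, map_zero, add_zero, Nat.sub_self, pow_zero, mul_one]
    exact hf.coeff_natDegree.symm
  · rw [if_neg hkn, map_zero, zero_add]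
    by_cases hk : k < n
    · have : G.coeff k = c k * b ^ (n - k - 1) := by
        simp only [G, finsetSum_coeff, coeff_C_mul, coeff_X_pow]
        rw [Finset.sum_eq_single k]
        · simp
        · intro j _ hjk
          rw [if_neg (Ne.symm hjk), mul_zero]
        · intro hk'
          exact absurd (Finset.mem_range.mpr hk) hk'
      rw [this, map_mul, hc, map_pow]
      have hexp : n - k = (n - k - 1) + 1 := by omega
      conv_rhs => rw [hexp, pow_succ]
      ring
    · have hk' : n < k := lt_of_le_of_ne (not_lt.mp hk) (Ne.symm hkn)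
      have h1 : G.coeff k = 0 :=
        coeff_eq_zero_of_degree_lt (hGdeg.trans (by exact_mod_cast hk'))
      rw [h1, map_zero, coeff_eq_zero_of_natDegree_lt hk', zero_mul]

/-- **Lemma K'**: kernel of an algebra map to a field quotient of the local base. -/
theorem ker_algHom_field (A : Type*) [CommRing A] [IsLocalRing A] (E : Type*) [CommRing E]
    [Algebra A E] (K : Type*) [Field K] [Algebra A K] (hK : Function.Surjective (algebraMap A K))
    (χ : E →ₐ[A] K) :
    (RingHom.ker χ).IsMaximal ∧ (RingHom.ker χ).comap (algebraMap A E) = maximalIdeal A ∧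
      ∀ [(RingHom.ker χ).IsPrime], Function.Surjective (algebraMap A (RingHom.ker χ).ResidueField) := by
  have hχsurj : Function.Surjective χ := by
    intro z
    obtain ⟨a, rfl⟩ := hK z
    exact ⟨algebraMap A E a, χ.commutes a⟩
  have hmax : (RingHom.ker χ).IsMaximal := RingHom.ker_isMaximal_of_surjective χ hχsurj
  have hkerA : RingHom.ker (algebraMap A K) = maximalIdeal A :=
    eq_maximalIdeal (RingHom.ker_isMaximal_of_surjective _ hK)
  refine ⟨hmax, ?_, ?_⟩
  · ext a
    rw [Ideal.mem_comap, RingHom.mem_ker, χ.commutes, ← hkerA, RingHom.mem_ker]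
  · intro _ z
    obtain ⟨y, rfl⟩ := (Ideal.bijective_algebraMap_quotient_residueField (RingHom.ker χ)).2 z
    obtain ⟨d, rfl⟩ := Ideal.Quotient.mk_surjective y
    obtain ⟨a, ha⟩ := hK (χ d)
    refine ⟨a, ?_⟩
    have hmem : algebraMap A E a - d ∈ RingHom.ker χ := by
      rw [RingHom.mem_ker, map_sub, χ.commutes, ha, sub_self]
    rw [← Ideal.algebraMap_residueField_eq_zero, map_sub, sub_eq_zero] at hmem
    rw [IsScalarTower.algebraMap_apply A E (RingHom.ker χ).ResidueField, hmem]
    rfl

/-- **Lemma K''**: localizing an étale algebra at the kernel of an algebra map to a field quotient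
of the base gives a strictly essentially étale local algebra. -/
theorem strict_of_algHom (A : Type u) [CommRing A] [IsLocalRing A] (E : Type u) [CommRing E]
    [Algebra A E] [Algebra.Etale A E] (K : Type*) [Field K] [Algebra A K]
    (hK : Function.Surjective (algebraMap A K)) (χ : E →ₐ[A] K) [(RingHom.ker χ).IsPrime] :
    ∃ (_ : IsLocalHom (algebraMap A (Localization.AtPrime (RingHom.ker χ)))),
      EGA4loc.IsStrictlyEssentiallyEtale A (Localization.AtPrime (RingHom.ker χ)) := by
  obtain ⟨-, hcomap, hsurj⟩ := ker_algHom_field A E K hK χ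
  have hloc : IsLocalHom (algebraMap A (Localization.AtPrime (RingHom.ker χ))) := by
    constructor
    intro a ha
    rw [IsScalarTower.algebraMap_apply A E (Localization.AtPrime (RingHom.ker χ)),
      IsLocalization.AtPrime.isUnit_to_map_iff _ (RingHom.ker χ)] at ha
    by_contra hna
    have : a ∈ maximalIdeal A := hna
    rw [← hcomap] at this
    exact ha this
  refine ⟨hloc, ⟨E, inferInstance, inferInstance, RingHom.ker χ, inferInstance, inferInstance,
    hcomap, ⟨AlgEquiv.refl⟩⟩, RingHom.injective _, ?_⟩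
  intro z
  obtain ⟨a, rfl⟩ := hsurj z
  refine ⟨residue A a, ?_⟩
  rw [ResidueField.map_residue]
  rfl

variable {R : Type u} [CommRing R] [IsLocalRing R]

theorem algebraMap_residueField_L_surjective (i : Idx R) :
    Function.Surjective (algebraMap R (ResidueField i.L)) := by
  intro z
  obtain ⟨x, rfl⟩ := residue_surjective z
  obtain ⟨r, hr⟩ := i.exists_sub_mem x
  refine ⟨r, ?_⟩
  rw [← residue_eq_zero_iff, map_sub, sub_eq_zero] at hr
  exact hr.symm

theorem algebraMap_C_residueField_eq_zero_iff (i : Idx R) (c : i.C) :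
    algebraMap i.C (ResidueField i.L) c = 0 ↔ c ∈ i.Q := by
  rw [← IsLocalization.AtPrime.to_map_mem_maximal_iff i.L i.Q, ← residue_eq_zero_iff]
  rfl

set_option maxHeartbeats 2000000 in
/-- **C1**: simple roots lift in the system. -/
theorem exists_root_stage (i : Idx R) (f : i.L[X]) (hf : f.Monic) (r : R)
    (h0 : f.eval (algebraMap R i.L r) ∈ maximalIdeal i.L)
    (h1 : IsUnit ((derivative f).eval (algebraMap R i.L r))) :
    ∃ (j : Idx R) (hij : i ≤ j) (y : j.L), (f.map (fmap' i j hij)).eval y = 0 ∧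
      y - algebraMap R j.L r ∈ maximalIdeal j.L := by
  classical
  obtain ⟨s, F, hF, hFmap⟩ := exists_monic_map_eq_scaleRoots i.Q.primeCompl (L := i.L) f hf
  set φ : i.C →+* i.L := algebraMap i.C i.L with hφ
  set ŝ : i.L := φ s with hŝdef
  have hŝ : IsUnit ŝ := IsLocalization.map_units i.L s
  set c₀ : i.C := s * algebraMap R i.C r with hc₀def
  have hc₀ : φ c₀ = ŝ * algebraMap R i.L r := by
    rw [hc₀def, map_mul, IsScalarTower.algebraMap_apply R i.C i.L]
  have hφeval : ∀ (p : i.C[X]) (c : i.C), φ (p.eval c) = (p.map φ).eval (φ c) := by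
    intro p c
    rw [eval_map, eval₂_at_apply]
  -- F(c₀) ∈ q
  have hFc₀ : F.eval c₀ ∈ i.Q := by
    rw [← IsLocalization.AtPrime.to_map_mem_maximal_iff i.L i.Q, ← hφ, hφeval, hFmap, hc₀,
      scaleRoots_eval_mul]
    exact Ideal.mul_mem_left _ _ h0
  -- F'(c₀) ∉ q
  have hF'c₀ : (derivative F).eval c₀ ∉ i.Q := by
    intro hmem
    rw [← IsLocalization.AtPrime.to_map_mem_maximal_iff i.L i.Q, ← hφ, hφeval, ← derivative_map,
      hFmap, hc₀] at hmem
    have h2 := derivative_scaleRoots_eval_mul f ŝ (algebraMap R i.L r)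
    have h3 : IsUnit ((derivative (scaleRoots f ŝ)).eval (ŝ * algebraMap R i.L r) * ŝ) := by
      rw [h2]
      exact (hŝ.pow _).mul h1
    exact hmem (isUnit_of_mul_isUnit_left h3)
  let P : StandardEtalePair i.C := ⟨F, hF, derivative F, ⟨1, 0, 1, by ring⟩⟩
  have hPf : P.f = F := rfl
  have hPg : P.g = derivative F := rfl
  let κ := ResidueField i.L
  let x₀ : κ := algebraMap i.C κ c₀
  have hmap : P.HasMap x₀ := by
    refine ⟨?_, ?_⟩
    · rw [hPf, aeval_def, eval₂_at_apply, algebraMap_C_residueField_eq_zero_iff]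
      exact hFc₀
    · rw [hPg, aeval_def, eval₂_at_apply, isUnit_iff_ne_zero, Ne,
        algebraMap_C_residueField_eq_zero_iff]
      exact hF'c₀
  let χ : P.Ring →ₐ[i.C] κ := P.lift x₀ hmap
  have hχX : χ P.X = x₀ := P.lift_X x₀ hmap
  letI : Algebra R P.Ring := ((algebraMap i.C P.Ring).comp (algebraMap R i.C)).toAlgebra
  haveI : IsScalarTower R i.C P.Ring := IsScalarTower.of_algebraMap_eq (fun _ => rfl)
  haveI : Algebra.Etale R P.Ring := Algebra.Etale.comp R i.C P.Ring
  let χR : P.Ring →ₐ[R] κ := χ.restrictScalars R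
  have hχR : ∀ z, χR z = χ z := fun _ => rfl
  haveI : (RingHom.ker χR).IsPrime := RingHom.ker_isPrime χR
  obtain ⟨hloc, hstrict⟩ :=
    strict_of_algHom R P.Ring κ (algebraMap_residueField_L_surjective i) χR
  obtain ⟨j, ⟨e⟩⟩ := exists_idx (Localization.AtPrime (RingHom.ker χR)) hstrict
  -- the map `L i → A'`
  let g₀ : i.C →ₐ[R] Localization.AtPrime (RingHom.ker χR) :=
    (IsScalarTower.toAlgHom R P.Ring _).comp (IsScalarTower.toAlgHom R i.C P.Ring)
  have hg₀ : ∀ c, g₀ c = algebraMap P.Ring _ (algebraMap i.C P.Ring c) := fun _ => rfl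
  have hunits : ∀ y : i.Q.primeCompl, IsUnit (g₀ y) := by
    intro y
    rw [hg₀, IsLocalization.AtPrime.isUnit_to_map_iff _ (RingHom.ker χR)]
    intro hy
    have : χR (algebraMap i.C P.Ring y) = 0 := hy
    rw [hχR, χ.commutes, algebraMap_C_residueField_eq_zero_iff] at this
    exact y.2 this
  let g : i.L →ₐ[R] Localization.AtPrime (RingHom.ker χR) :=
    IsLocalization.liftAlgHom (M := i.Q.primeCompl) (S := i.L) hunits
  have hg : ∀ c : i.C, g (φ c) = g₀ c := fun c => IsLocalization.lift_eq _ c
  let G : i.L →ₐ[R] j.L := e.toAlgHom.comp g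
  have hij : i ≤ j := ⟨G⟩
  have hG : fmap i j hij = G := Subsingleton.elim _ _
  have hGφ : ∀ c : i.C, G (φ c) = e (algebraMap P.Ring _ (algebraMap i.C P.Ring c)) := by
    intro c
    change e (g (φ c)) = _
    rw [hg, hg₀]
  -- the root of the scaled polynomial
  let ψ' : P.Ring →+* j.L := (e : Localization.AtPrime (RingHom.ker χR) →+* j.L).comp
    (algebraMap P.Ring _)
  let y₀ : j.L := ψ' P.X
  have hψ' : ∀ c : i.C, ψ' (algebraMap i.C P.Ring c) = G (φ c) := fun c => (hGφ c).symm
  have hroot₀ : ((scaleRoots f ŝ).map G.toRingHom).eval y₀ = 0 := by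
    rw [← hFmap, Polynomial.map_map, eval_map]
    have hcomp : G.toRingHom.comp φ = ψ'.comp (algebraMap i.C P.Ring) := by
      ext c
      exact (hψ' c).symm
    rw [hcomp, ← hom_eval₂]
    have : eval₂ (algebraMap i.C P.Ring) P.X F = 0 := P.hasMap_X.1
    rw [this, map_zero]
  set u : j.L := G ŝ with hu
  have huu : IsUnit u := hŝ.map G
  have hmapscale : (scaleRoots f ŝ).map G.toRingHom = scaleRoots (f.map G.toRingHom) u := by
    apply map_scaleRoots
    rw [hf.leadingCoeff, map_one]
    exact one_ne_zero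
  obtain ⟨v, hv⟩ := huu.exists_left_inv
  let y : j.L := v * y₀
  have hy₀ : y₀ = u * y := by
    change y₀ = u * (v * y₀)
    rw [← mul_assoc, mul_comm u v, hv, one_mul]
  have hroot : (f.map G.toRingHom).eval y = 0 := by
    rw [hmapscale, hy₀, scaleRoots_eval_mul] at hroot₀
    exact (huu.pow _).mul_right_eq_zero.mp hroot₀
  -- congruence
  have hQ : P.X - algebraMap i.C P.Ring c₀ ∈ RingHom.ker χR := by
    rw [RingHom.mem_ker, hχR, map_sub, hχX, χ.commutes, sub_self]
  have hmem₀ : y₀ - u * algebraMap R j.L r ∈ maximalIdeal j.L := by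
    have h3 : u * algebraMap R j.L r = ψ' (algebraMap i.C P.Ring c₀) := by
      rw [hψ', hc₀, map_mul, G.commutes]
    rw [h3]
    change ψ' P.X - ψ' _ ∈ _
    rw [← map_sub]
    have h4 : algebraMap P.Ring (Localization.AtPrime (RingHom.ker χR))
        (P.X - algebraMap i.C P.Ring c₀) ∈ maximalIdeal _ :=
      (IsLocalization.AtPrime.to_map_mem_maximal_iff _ (RingHom.ker χR) _).mpr hQ
    intro hcon
    apply h4
    have := hcon.map (e.symm : j.L →+* Localization.AtPrime (RingHom.ker χR))
    simpa [ψ'] using this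
  refine ⟨j, hij, y, ?_, ?_⟩
  · have : fmap' i j hij = G.toRingHom := by
      change (fmap i j hij).toRingHom = _
      rw [hG]
    rw [this]
    exact hroot
  · have h5 : y - algebraMap R j.L r = v * (y₀ - u * algebraMap R j.L r) := by
      rw [mul_sub, ← mul_assoc, hv, one_mul]
    rw [h5]
    exact Ideal.mul_mem_left _ _ hmem₀

end Groth.Agent.Lib.Helper3.Hz
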