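import Mathlib
import Groth.Agent.Lib.Helper3HzC
import Groth.Prelude.Def_Hensel
import Groth.Agent.S2778

/-!
# Henselization, part D (helper3): `Rh R` is henselian and has the universal property
-/

namespace Groth.Agent.Lib.Helper3.Hz

open Polynomial IsLocalRing Groth.Agent.Lib.Helper3.EssEt

universe u

variable {R : Type u} [CommRing R] [IsLocalRing R]

theorem eval_sub_mem {S : Type*} [CommRing S] (I : Ideal S) (p : S[X]) {x y : S}
    (h : x - y ∈ I) : p.eval x - p.eval y ∈ I := by
  obtain ⟨c, hc⟩ := Polynomial.sub_dvd_eval_sub x y p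
  rw [hc]
  exact Ideal.mul_mem_right _ _ h

theorem isUnit_of_sub_mem_maximalIdeal {S : Type*} [CommRing S] [IsLocalRing S] {x y : S}
    (hx : IsUnit x) (h : x - y ∈ maximalIdeal S) : IsUnit y := by
  by_contra hy
  have hy' : y ∈ maximalIdeal S := hy
  have : x ∈ maximalIdeal S := by
    have := Ideal.add_mem _ h hy'
    rwa [sub_add_cancel] at this
  exact this hx

set_option maxHeartbeats 1000000 in
instance henselian : HenselianLocalRing (Rh R) := by
  constructor
  intro f hf a₀ h0 h1
  obtain ⟨r, hr⟩ := exists_sub_mem_maximalIdeal a₀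
  set ρ : Rh R := algebraMap R (Rh R) r with hρ
  -- descend `f`
  obtain ⟨i, p, hp⟩ := Ring.DirectLimit.Polynomial.exists_of
    (f' := fun i j h => fmap' (R := R) i j h) f
  have hlift : f ∈ Polynomial.lifts (ofL i) := (Polynomial.mem_lifts _).mpr ⟨p, hp⟩
  obtain ⟨fi, hfi, -, hfimonic⟩ := Polynomial.lifts_and_natDegree_eq_and_monic hlift hf
  have hρi : ofL i (algebraMap R i.L r) = ρ := (algebraMap_eq i r).symm
  have hev : ∀ (g : i.L[X]) (x : i.L), ofL i (g.eval x) = (g.map (ofL i)).eval (ofL i x) := by
    intro g x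
    rw [eval_map, eval₂_at_apply]
  have h0' : fi.eval (algebraMap R i.L r) ∈ maximalIdeal i.L := by
    rw [← ofL_mem_maximalIdeal_iff, hev, hfi, hρi]
    have := eval_sub_mem (maximalIdeal (Rh R)) f hr
    have h2 := Ideal.sub_mem _ h0 this
    rwa [sub_sub_cancel] at h2
  have h1' : IsUnit ((derivative fi).eval (algebraMap R i.L r)) := by
    rw [← isUnit_ofL_iff, hev, ← derivative_map, hfi, hρi]
    exact isUnit_of_sub_mem_maximalIdeal h1 (eval_sub_mem _ _ hr)
  obtain ⟨j, hij, y, hy0, hy1⟩ := exists_root_stage i fi hfimonic r h0' h1'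
  refine ⟨ofL j y, ?_, ?_⟩
  · have hfj : f = (fi.map (fmap' i j hij)).map (ofL j) := by
      rw [Polynomial.map_map, ← hfi]
      congr 1
      ext x
      exact (ofL_fmap hij x).symm
    rw [IsRoot, hfj, eval_map, eval₂_at_apply, hy0, map_zero]
  · have h3 : ofL j y - ρ ∈ maximalIdeal (Rh R) := by
      rw [hρ, algebraMap_eq j, ← map_sub]
      exact ofL_mem_maximalIdeal_iff.mpr hy1
    have := Ideal.sub_mem _ h3 hr
    have h4 : ofL j y - ρ - (a₀ - ρ) = ofL j y - a₀ := by ring
    rwa [h4] at this


set_option maxHeartbeats 1000000 in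
/-- The universal property of `Rh R`. -/
theorem universal (T : Type u) [CommRing T] [HenselianLocalRing T] (f : R →+* T)
    (hf : IsLocalHom f) : ∃! g : Rh R →+* T, g.comp (algebraMap R (Rh R)) = f := by
  have hex : ∀ i : Idx R, ∃! ψ' : i.L →+* T, IsLocalHom ψ' ∧ ψ'.comp (algebraMap R i.L) = f :=
    fun i => Groth.Agent.S2778.result R i.L i.isStrict T f
  choose g hg huniq using hex
  have hcompat : ∀ (i j : Idx R) (h : i ≤ j) (x : i.L), g j (fmap' i j h x) = g i x := by
    intro i j h x
    have : (g j).comp (fmap' i j h) = g i := by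
      apply huniq i
      haveI := (hg j).1
      refine ⟨RingHom.isLocalHom_comp _ _, ?_⟩
      ext r
      simp only [RingHom.comp_apply]
      have h1 : fmap' i j h (algebraMap R i.L r) = algebraMap R j.L r := (fmap i j h).commutes r
      rw [h1]
      exact congrArg (fun φ => φ r) (hg j).2
    exact congrArg (fun φ => φ x) this
  let G : Rh R →+* T := Ring.DirectLimit.lift _ _ T g hcompat
  have hG : ∀ i x, G (ofL i x) = g i x := fun i x => Ring.DirectLimit.lift_of _ _ _ _ _
  refine ⟨G, ?_, ?_⟩
  · ext r
    let i : Idx R := Classical.arbitrary _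
    simp only [RingHom.comp_apply]
    rw [algebraMap_eq i, hG]
    exact congrArg (fun φ => φ r) (hg i).2
  · intro G' hG'
    apply Ring.DirectLimit.hom_ext
    intro i
    have h2 : (G'.comp (ofL i)).comp (algebraMap R i.L) = f := by
      ext r
      simp only [RingHom.comp_apply]
      rw [← algebraMap_eq i]
      exact congrArg (fun φ => φ r) hG'
    have hloc : IsLocalHom (G'.comp (ofL i)) := by
      constructor
      intro x hx
      by_contra hnx
      have hxm : x ∈ maximalIdeal i.L := hnx
      rw [← map_maximalIdeal R i.L i.isEssentiallyEtale] at hxm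
      have hle : (maximalIdeal R).map (algebraMap R i.L) ≤
          (maximalIdeal T).comap (G'.comp (ofL i)) := by
        rw [Ideal.map_le_iff_le_comap, Ideal.comap_comap, h2]
        exact ((local_hom_TFAE f).out 0 3 rfl rfl).mp hf
      exact (hle hxm) hx
    have h3 : G'.comp (ofL i) = g i := huniq i _ ⟨hloc, h2⟩
    rw [h3]
    ext x
    exact (hG i x).symm

instance isHenselization : Hensel.IsHenselization R (Rh R) where
  henselian := henselian
  universal T _ _ f hf := universal T f hf

end Groth.Agent.Lib.Helper3.Hz
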