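import Mathlib
import Groth.Agent.Lib.Helper3HzD

/-!
# Henselization, part E (helper3): uniqueness and flatness
-/

namespace Groth.Agent.Lib.Helper3.Hz

open Polynomial IsLocalRing Groth.Agent.Lib.Helper3.EssEt

universe u

variable {R : Type u} [CommRing R] [IsLocalRing R]

/-- finitely many elements of `Rh R` come from a common stage -/
theorem exists_ofL_fin {l : ℕ} (x : Fin l → Rh R) :
    ∃ (i : Idx R) (x' : Fin l → i.L), ∀ k, ofL i (x' k) = x k := by
  classical
  have h : ∀ k, ∃ (i : Idx R) (y : i.L), ofL i y = x k := fun k => exists_ofL (x k)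
  choose idx y hy using h
  obtain ⟨M, hM⟩ := Finset.exists_le (Finset.univ.image idx)
  have hle : ∀ k, idx k ≤ M := fun k => hM _ (Finset.mem_image_of_mem _ (Finset.mem_univ k))
  exact ⟨M, fun k => fmap' (idx k) M (hle k) (y k), fun k => by rw [ofL_fmap, hy]⟩

instance flat_L (i : Idx R) : Module.Flat R i.L := by
  haveI : Module.Flat i.C i.L := IsLocalization.flat i.L i.Q.primeCompl
  exact Module.Flat.trans R i.C i.L

theorem ofL_smul (i : Idx R) (r : R) (x : i.L) : ofL i (r • x) = r • ofL i x := by
  rw [Algebra.smul_def, Algebra.smul_def, map_mul, algebraMap_eq i]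

instance flat : Module.Flat R (Rh R) := by
  rw [Module.Flat.iff_forall_isTrivialRelation]
  intro l f x hfx
  obtain ⟨i, x', hx'⟩ := exists_ofL_fin x
  have h0 : ofL i (∑ k, f k • x' k) = 0 := by
    rw [map_sum, ← hfx]
    exact Finset.sum_congr rfl (fun k _ => by rw [ofL_smul, hx'])
  obtain ⟨j, hij, hj⟩ := ofL_eq_zero h0
  have h1 : ∑ k, f k • fmap i j hij (x' k) = 0 := by
    have : fmap' i j hij (∑ k, f k • x' k) = ∑ k, f k • fmap i j hij (x' k) := by
      change fmap i j hij (∑ k, f k • x' k) = _
      rw [map_sum]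
      exact Finset.sum_congr rfl (fun k _ => map_smul _ _ _)
    rw [← this, hj]
  obtain ⟨m, a, y, hy1, hy2⟩ := Module.Flat.iff_forall_isTrivialRelation.mp (flat_L j) h1
  refine ⟨m, a, fun t => ofL j (y t), ?_, hy2⟩
  intro k
  rw [← hx' k, ← ofL_fmap hij]
  change ofL j (fmap i j hij (x' k)) = _
  have hy1k : fmap i j hij (x' k) = ∑ t, a k t • y t := hy1 k
  rw [hy1k, map_sum]
  exact Finset.sum_congr rfl (fun t _ => ofL_smul j _ _)

instance faithfullyFlat : Module.FaithfullyFlat R (Rh R) :=
  Module.FaithfullyFlat.of_flat_of_isLocalHom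

/-- Any henselization of `R` is isomorphic to `Rh R`. -/
theorem nonempty_algEquiv (S : Type u) [CommRing S] [IsLocalRing S] [Algebra R S]
    [IsLocalHom (algebraMap R S)] [hS : Hensel.IsHenselization R S] :
    Nonempty (S ≃ₐ[R] Rh R) := by
  haveI : HenselianLocalRing S := hS.henselian
  obtain ⟨g, hg, -⟩ := universal (R := R) S (algebraMap R S) inferInstance
  obtain ⟨g', hg', -⟩ := hS.universal (Rh R) (algebraMap R (Rh R)) inferInstance
  have h1 : g.comp g' = RingHom.id S := by
    obtain ⟨u, -, huniq⟩ := hS.universal S (algebraMap R S) inferInstance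
    rw [huniq (g.comp g') (by show (g.comp g').comp _ = _; rw [RingHom.comp_assoc, hg', hg]),
      huniq (RingHom.id S) (by show (RingHom.id S).comp _ = _; simp)]
  have h2 : g'.comp g = RingHom.id (Rh R) := by
    obtain ⟨u, -, huniq⟩ := universal (R := R) (Rh R) (algebraMap R (Rh R)) inferInstance
    rw [huniq (g'.comp g) (by show (g'.comp g).comp _ = _; rw [RingHom.comp_assoc, hg, hg']),
      huniq (RingHom.id _) (by show (RingHom.id _).comp _ = _; simp)]
  exact ⟨{ toFun := g'
           invFun := g
           left_inv := fun x => congrArg (fun φ => φ x) h1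
           right_inv := fun x => congrArg (fun φ => φ x) h2
           map_mul' := map_mul g'
           map_add' := map_add g'
           commutes' := fun r => congrArg (fun φ => φ r) hg' }⟩

end Groth.Agent.Lib.Helper3.Hz
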