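import Mathlib
import Groth.Agent.Lib.Helper3HenselJ

set_option autoImplicit false
universe u v

namespace Groth.Agent.Lib.Helper3.Hensel

open Polynomial IsLocalRing TensorProduct

/-- **E1**: `R[X]/(p)` is étale when `p` is monic and `p'` is invertible modulo `p`. -/
theorem etale_adjoinRoot {R : Type*} [CommRing R] (p : R[X]) (hp : p.Monic)
    (hu : IsUnit (AdjoinRoot.mk p (derivative p))) : Algebra.Etale R (AdjoinRoot p) := by
  let P : StandardEtalePair R := ⟨p, hp, derivative p, ⟨1, 0, 1, by ring⟩⟩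
  have hmap : P.HasMap (AdjoinRoot.root p) := by
    refine ⟨?_, ?_⟩
    · change aeval (AdjoinRoot.root p) p = 0
      rw [AdjoinRoot.aeval_eq, AdjoinRoot.mk_self]
    · change IsUnit (aeval (AdjoinRoot.root p) (derivative p))
      rw [AdjoinRoot.aeval_eq]; exact hu
  let bwd : P.Ring →ₐ[R] AdjoinRoot p := P.lift (AdjoinRoot.root p) hmap
  let fwd : AdjoinRoot p →ₐ[R] P.Ring :=
    AdjoinRoot.liftAlgHom p (Algebra.ofId R P.Ring) P.X (by
      have := P.hasMap_X.1
      rwa [aeval_def] at this)
  have h1 : fwd.comp bwd = AlgHom.id R P.Ring := by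
    apply P.hom_ext
    simp [fwd, bwd]
  have h2 : bwd.comp fwd = AlgHom.id R (AdjoinRoot p) := by
    apply AdjoinRoot.algHom_ext
    simp [fwd, bwd]
  exact Algebra.Etale.of_equiv (AlgEquiv.ofAlgHom bwd fwd h2 h1)

/-- separable reduction gives invertible derivative -/
theorem isUnit_mk_derivative {R : Type*} [CommRing R] [IsLocalRing R] (p : R[X]) (hp : p.Monic)
    (hsep : (p.map (residue R)).Separable) : IsUnit (AdjoinRoot.mk p (derivative p)) := by
  haveI : Module.Finite R (AdjoinRoot p) := hp.finite_adjoinRoot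
  obtain ⟨a, b, hab⟩ := hsep
  obtain ⟨A, hA⟩ := map_surjective (residue R) residue_surjective a
  obtain ⟨B, hB⟩ := map_surjective (residue R) residue_surjective b
  apply isUnit_of_mul_sub_one_mem (R := R) _ (AdjoinRoot.mk p B)
  have h1 : AdjoinRoot.mk p (derivative p) * AdjoinRoot.mk p B - 1 =
      AdjoinRoot.mk p (derivative p * B - 1 + A * p) := by
    simp only [map_add, map_sub, map_mul, map_one, AdjoinRoot.mk_self, mul_zero, add_zero]
  rw [h1]
  apply mk_mem_map_of_map_eq_zero
  simp only [Polynomial.map_add, Polynomial.map_sub, Polynomial.map_mul, Polynomial.map_one, hA, hB,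
    ← derivative_map]
  linear_combination hab

open IntermediateField in
/-- **E2**: lifting a finite separable extension of the residue field -/
theorem exists_lift_of_separable {R : Type u} [CommRing R] [IsLocalRing R] (L : Type u) [Field L]
    [Algebra (ResidueField R) L] [Module.Finite (ResidueField R) L]
    [Algebra.IsSeparable (ResidueField R) L] :
    ∃ p : R[X], p.Monic ∧ Algebra.Etale R (AdjoinRoot p) ∧
      Nonempty (ResidueField R ⊗[R] AdjoinRoot p ≃ₐ[ResidueField R] L) := by
  let κ := ResidueField R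
  obtain ⟨α, hα⟩ := Field.exists_primitive_element κ L
  have hint : IsIntegral κ α := Algebra.IsIntegral.isIntegral α
  have hmonic : (minpoly κ α).Monic := minpoly.monic hint
  have hsep : (minpoly κ α).Separable := Algebra.IsSeparable.isSeparable κ α
  obtain ⟨p, hpmap, -, hpmonic⟩ := lifts_and_natDegree_eq_and_monic
    ((mem_lifts (minpoly κ α)).mpr (map_surjective (residue R) residue_surjective _)) hmonic
  refine ⟨p, hpmonic, etale_adjoinRoot p hpmonic
    (isUnit_mk_derivative p hpmonic (by rw [hpmap]; exact hsep)), ?_⟩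
  let q : (κ ⊗[R] R)[X] := p.map (Algebra.TensorProduct.includeRight (R := R) (A := κ) (B := R)).toRingHom
  let e1 : κ ⊗[R] AdjoinRoot p ≃ₐ[κ] AdjoinRoot q :=
    AdjoinRoot.tensorAlgEquiv (R := R) (S := R) (T := κ) p q rfl
  have hq : q.map (Algebra.TensorProduct.rid R κ κ : κ ⊗[R] R →+* κ) = minpoly κ α := by
    rw [← hpmap, Polynomial.map_map]
    congr 1
    ext r
    simp only [RingHom.coe_comp, Function.comp_apply]
    change (Algebra.TensorProduct.rid R κ κ) ((1 : κ) ⊗ₜ[R] r) = residue R r
    rw [Algebra.TensorProduct.rid_tmul, Algebra.smul_def, mul_one]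
    rfl
  let e2 : AdjoinRoot q ≃ₐ[κ] AdjoinRoot (minpoly κ α) :=
    AdjoinRoot.mapAlgEquiv (Algebra.TensorProduct.rid R κ κ) q (minpoly κ α) (by rw [hq])
  let e3 : AdjoinRoot (minpoly κ α) ≃ₐ[κ] κ⟮α⟯ := adjoinRootEquivAdjoin κ hint
  let e4 : κ⟮α⟯ ≃ₐ[κ] L := (IntermediateField.equivOfEq hα).trans IntermediateField.topEquiv
  exact ⟨((e1.trans e2).trans e3).trans e4⟩

end Groth.Agent.Lib.Helper3.Hensel
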