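import Mathlib
import Groth.Prelude.Def_EssEt
import Groth.Agent.Lib.Helper3EssEt

/-!
# Strict henselization, part A (helper3): the directed system of pointed essentially étale local
algebras `(L, κ(L) → Ω)`.
-/

namespace Groth.Agent.Lib.Helper3.Sh

open IsLocalRing TensorProduct Groth.Agent.Lib.Helper3.EssEt

universe u

section resMap

variable {R : Type*} [CommRing R] {A₁ A₂ : Type*} [CommRing A₁] [CommRing A₂] [IsLocalRing A₁]
  [IsLocalRing A₂] [Algebra R A₁] [Algebra R A₂]

/-- the map induced on residue fields by a local algebra map -/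
noncomputable def resMap (φ : A₁ →ₐ[R] A₂) [IsLocalHom φ.toRingHom] :
    ResidueField A₁ →ₐ[R] ResidueField A₂ :=
  { ResidueField.map φ.toRingHom with
    commutes' := fun r => by
      change ResidueField.map φ.toRingHom (residue A₁ (algebraMap R A₁ r)) = _
      rw [ResidueField.map_residue]
      change residue A₂ (φ (algebraMap R A₁ r)) = _
      rw [φ.commutes]
      rfl }

theorem resMap_residue (φ : A₁ →ₐ[R] A₂) [IsLocalHom φ.toRingHom] (x : A₁) :
    resMap φ (residue A₁ x) = residue A₂ (φ x) :=
  ResidueField.map_residue φ.toRingHom x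

end resMap

variable (R : Type u) [CommRing R] [IsLocalRing R] (Ω : Type u) [Field Ω] [Algebra R Ω]

/-- Index: a presentation `(MvPolynomial (Fin n) R ⧸ J, q)` of an essentially étale local
`R`-algebra, together with an embedding of its residue field in `Ω`. -/
structure Idx where
  n : ℕ
  J : Ideal (MvPolynomial (Fin n) R)
  q : Ideal (MvPolynomial (Fin n) R ⧸ J)
  prime : q.IsPrime
  etale : Algebra.Etale R (MvPolynomial (Fin n) R ⧸ J)
  comap : q.comap (algebraMap R (MvPolynomial (Fin n) R ⧸ J)) = maximalIdeal R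
  emb : haveI := prime; q.ResidueField →ₐ[R] Ω

variable {R Ω}

namespace Idx

/-- the étale algebra of an index -/
def C (i : Idx R Ω) : Type u := MvPolynomial (Fin i.n) R ⧸ i.J

noncomputable instance (i : Idx R Ω) : CommRing i.C :=
  inferInstanceAs (CommRing (MvPolynomial (Fin i.n) R ⧸ i.J))
noncomputable instance (i : Idx R Ω) : Algebra R i.C :=
  inferInstanceAs (Algebra R (MvPolynomial (Fin i.n) R ⧸ i.J))
instance (i : Idx R Ω) : Algebra.Etale R i.C := i.etale

/-- the prime of an index -/
def Q (i : Idx R Ω) : Ideal i.C := i.q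

instance (i : Idx R Ω) : i.Q.IsPrime := i.prime

theorem comap_Q (i : Idx R Ω) : i.Q.comap (algebraMap R i.C) = maximalIdeal R := i.comap

/-- the local ring of an index -/
def L (i : Idx R Ω) : Type u := Localization.AtPrime i.Q

noncomputable instance (i : Idx R Ω) : CommRing i.L :=
  inferInstanceAs (CommRing (Localization.AtPrime i.Q))
noncomputable instance (i : Idx R Ω) : Algebra R i.L :=
  inferInstanceAs (Algebra R (Localization.AtPrime i.Q))
noncomputable instance (i : Idx R Ω) : Algebra i.C i.L :=
  inferInstanceAs (Algebra i.C (Localization.AtPrime i.Q))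
instance (i : Idx R Ω) : IsScalarTower R i.C i.L :=
  inferInstanceAs (IsScalarTower R i.C (Localization.AtPrime i.Q))
instance (i : Idx R Ω) : IsLocalization.AtPrime i.L i.Q :=
  inferInstanceAs (IsLocalization.AtPrime (Localization.AtPrime i.Q) i.Q)
instance (i : Idx R Ω) : IsLocalRing i.L :=
  inferInstanceAs (IsLocalRing (Localization.AtPrime i.Q))

/-- the identification with the localization -/
noncomputable def equivLoc (i : Idx R Ω) : i.L ≃ₐ[R] Localization.AtPrime i.Q := AlgEquiv.refl

/-- the embedding of the residue field -/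
noncomputable def embL (i : Idx R Ω) : ResidueField i.L →ₐ[R] Ω := i.emb

theorem isEssentiallyEtale (i : Idx R Ω) : EGA4loc.IsEssentiallyEtale R i.L :=
  ⟨i.C, inferInstance, inferInstance, i.Q, inferInstance, inferInstance, i.comap_Q, ⟨i.equivLoc⟩⟩

instance isLocalHom (i : Idx R Ω) : IsLocalHom (algebraMap R i.L) := by
  constructor
  intro a ha
  rw [IsScalarTower.algebraMap_apply R i.C i.L,
    IsLocalization.AtPrime.isUnit_to_map_iff i.L i.Q] at ha
  by_contra hna
  have : a ∈ maximalIdeal R := hna
  rw [← i.comap_Q] at this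
  exact ha this

/-- the composite `L → κ(L) → Ω` -/
noncomputable def toΩ (i : Idx R Ω) : i.L →ₐ[R] Ω :=
  i.embL.comp (IsScalarTower.toAlgHom R i.L (ResidueField i.L))

theorem toΩ_apply (i : Idx R Ω) (x : i.L) : i.toΩ x = i.embL (residue i.L x) := rfl

theorem toΩ_eq_zero_iff (i : Idx R Ω) (x : i.L) : i.toΩ x = 0 ↔ x ∈ maximalIdeal i.L := by
  rw [toΩ_apply, map_eq_zero_iff i.embL (RingHom.injective i.embL.toRingHom), residue_eq_zero_iff]

theorem algebraMap_Ω_eq_zero_iff (i : Idx R Ω) (a : R) :
    algebraMap R Ω a = 0 ↔ a ∈ maximalIdeal R := by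
  rw [← i.toΩ.commutes, toΩ_eq_zero_iff]
  constructor
  · intro h
    by_contra hna
    have hu : IsUnit a := by
      by_contra hu; exact hna hu
    exact h (hu.map _)
  · intro h hu
    exact h (isUnit_of_map_unit (algebraMap R i.L) a hu)

end Idx

omit [IsLocalRing R] in
theorem isLocalHom_algEquiv {A₁ A₂ : Type*} [Semiring A₁] [Semiring A₂] [Algebra R A₁]
    [Algebra R A₂] (e : A₁ ≃ₐ[R] A₂) : IsLocalHom e.toAlgHom.toRingHom :=
  ⟨fun a ha => by
    have := ha.map e.symm.toAlgHom.toRingHom
    simpa using this⟩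

set_option maxHeartbeats 1000000 in
/-- Every pointed essentially étale local algebra is presented by an index. -/
theorem exists_idx (A' : Type u) [CommRing A'] [IsLocalRing A'] [Algebra R A']
    (C : Type u) [CommRing C] [Algebra R C] [Algebra.Etale R C] (q : Ideal C) [q.IsPrime]
    (hq : q.comap (algebraMap R C) = maximalIdeal R) (e : A' ≃ₐ[R] Localization.AtPrime q)
    (β : ResidueField A' →ₐ[R] Ω) :
    ∃ (i : Idx R Ω) (e' : A' ≃ₐ[R] i.L), ∀ x, i.toΩ (e' x) = β (residue A' x) := by
  obtain ⟨n, φ, hφ, -⟩ := (Algebra.Etale.finitePresentation (R := R) (A := C)).out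
  let ε : (MvPolynomial (Fin n) R ⧸ RingHom.ker φ.toRingHom) ≃ₐ[R] C :=
    Ideal.quotientKerAlgEquivOfSurjective hφ
  let q' : Ideal (MvPolynomial (Fin n) R ⧸ RingHom.ker φ.toRingHom) := q.comap ε.toRingHom
  haveI : q'.IsPrime := Ideal.comap_isPrime _ _
  have hmap : Submonoid.map ε q'.primeCompl = q.primeCompl := by
    ext x
    constructor
    · rintro ⟨y, hy, rfl⟩
      exact hy
    · intro hx
      refine ⟨ε.symm x, ?_, ε.apply_symm_apply x⟩
      change ε.symm x ∉ q'
      rw [Ideal.mem_comap]
      have : ε.toRingHom (ε.symm x) = x := ε.apply_symm_apply x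
      rw [this]
      exact hx
  let E : Localization.AtPrime q' ≃ₐ[R] Localization.AtPrime q :=
    IsLocalization.algEquivOfAlgEquiv (M := q'.primeCompl) (T := q.primeCompl)
      (Localization.AtPrime q') (Localization.AtPrime q) ε hmap
  have hEt' : Algebra.Etale R (MvPolynomial (Fin n) R ⧸ RingHom.ker φ.toRingHom) :=
    Algebra.Etale.of_equiv ε.symm
  have hcomap : q'.comap (algebraMap R _) = maximalIdeal R := by
    rw [← hq]
    ext a
    simp only [q', Ideal.mem_comap]
    have : ε.toRingHom (algebraMap R _ a) = algebraMap R C a := ε.commutes a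
    rw [this]
  let e₀ : A' ≃ₐ[R] Localization.AtPrime q' := e.trans E.symm
  haveI := isLocalHom_algEquiv e₀.symm
  let emb : q'.ResidueField →ₐ[R] Ω := β.comp (resMap e₀.symm.toAlgHom)
  let k : Idx R Ω := ⟨n, RingHom.ker φ.toRingHom, q', inferInstance, hEt', hcomap, emb⟩
  refine ⟨k, e₀.trans k.equivLoc.symm, ?_⟩
  intro x
  change β (resMap e₀.symm.toAlgHom (residue _ (e₀ x))) = _
  rw [resMap_residue]
  congr 2
  exact e₀.symm_apply_apply x

end Groth.Agent.Lib.Helper3.Sh
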