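import Mathlib
import Groth.Agent.Lib.Helper3ShA

/-!
# Strict henselization, part B (helper3): the directed preorder and the direct limit
-/

namespace Groth.Agent.Lib.Helper3.Sh

open IsLocalRing TensorProduct Groth.Agent.Lib.Helper3.EssEt

universe u

variable {R : Type u} [CommRing R] [IsLocalRing R] {Ω : Type u} [Field Ω] [Algebra R Ω]

/-- compatible maps -/
def IsCompat (i j : Idx R Ω) (φ : i.L →ₐ[R] j.L) : Prop := ∀ x, j.toΩ (φ x) = i.toΩ x

theorem IsCompat.unique {i j : Idx R Ω} {φ φ' : i.L →ₐ[R] j.L} (h : IsCompat i j φ)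
    (h' : IsCompat i j φ') : φ = φ' := by
  apply algHom_ext_of_residue R i.L j.L i.isEssentiallyEtale
  intro x
  have := (h x).trans (h' x).symm
  rw [Idx.toΩ_apply, Idx.toΩ_apply] at this
  exact RingHom.injective j.embL.toRingHom this

theorem IsCompat.isLocalHom {i j : Idx R Ω} {φ : i.L →ₐ[R] j.L} (h : IsCompat i j φ) :
    IsLocalHom φ.toRingHom := by
  constructor
  intro a ha
  by_contra hna
  have h1 : a ∈ maximalIdeal i.L := hna
  rw [← Idx.toΩ_eq_zero_iff, ← h a, Idx.toΩ_eq_zero_iff] at h1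
  exact h1 ha

instance : Preorder (Idx R Ω) where
  le i j := ∃ φ : i.L →ₐ[R] j.L, IsCompat i j φ
  le_refl i := ⟨AlgHom.id R _, fun _ => rfl⟩
  le_trans i j k := fun ⟨f, hf⟩ ⟨g, hg⟩ => ⟨g.comp f, fun x => (hg (f x)).trans (hf x)⟩

/-- transition maps -/
noncomputable def fmap (i j : Idx R Ω) (h : i ≤ j) : i.L →ₐ[R] j.L := h.choose

theorem fmap_compat (i j : Idx R Ω) (h : i ≤ j) : IsCompat i j (fmap i j h) := h.choose_spec

/-- transition maps as ring homs -/
noncomputable def fmap' (i j : Idx R Ω) (h : i ≤ j) : i.L →+* j.L := (fmap i j h).toRingHom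

theorem fmap_eq {i j : Idx R Ω} (h : i ≤ j) {φ : i.L →ₐ[R] j.L} (hφ : IsCompat i j φ) :
    fmap i j h = φ := (fmap_compat i j h).unique hφ

instance : DirectedSystem (fun i : Idx R Ω => i.L) (fun _ _ h => fmap' _ _ h) where
  map_self i x := by
    have : fmap i i le_rfl = AlgHom.id R _ := fmap_eq _ (fun _ => rfl)
    change fmap i i le_rfl x = x
    rw [this]; rfl
  map_map k j i hij hjk x := by
    have : fmap i k (hij.trans hjk) = (fmap j k hjk).comp (fmap i j hij) :=
      fmap_eq _ (fun x => ((fmap_compat j k hjk) _).trans ((fmap_compat i j hij) x))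
    change (fmap j k hjk) ((fmap i j hij) x) = fmap i k (hij.trans hjk) x
    rw [this]; rfl

instance (i j : Idx R Ω) (h : i ≤ j) : IsLocalHom (fmap' i j h) :=
  (fmap_compat i j h).isLocalHom

set_option maxHeartbeats 2000000 in
instance : IsDirectedOrder (Idx R Ω) := by
  constructor
  intro i j
  -- the compositum
  let χi : i.C →ₐ[R] Ω := i.toΩ.comp (IsScalarTower.toAlgHom R i.C i.L)
  let χj : j.C →ₐ[R] Ω := j.toΩ.comp (IsScalarTower.toAlgHom R j.C j.L)
  let χ : i.C ⊗[R] j.C →ₐ[R] Ω := Algebra.TensorProduct.productMap χi χj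
  haveI hprime : (RingHom.ker χ).IsPrime := RingHom.ker_isPrime χ
  have hEt : Algebra.Etale R (i.C ⊗[R] j.C) := Algebra.Etale.comp R i.C _
  have hχi : ∀ c, χi c = 0 ↔ c ∈ i.Q := by
    intro c
    change i.toΩ (algebraMap i.C i.L c) = 0 ↔ _
    rw [Idx.toΩ_eq_zero_iff, IsLocalization.AtPrime.to_map_mem_maximal_iff i.L i.Q]
  have hχj : ∀ c, χj c = 0 ↔ c ∈ j.Q := by
    intro c
    change j.toΩ (algebraMap j.C j.L c) = 0 ↔ _
    rw [Idx.toΩ_eq_zero_iff, IsLocalization.AtPrime.to_map_mem_maximal_iff j.L j.Q]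
  have hcomap : (RingHom.ker χ).comap (algebraMap R (i.C ⊗[R] j.C)) = maximalIdeal R := by
    ext a
    rw [Ideal.mem_comap, RingHom.mem_ker, χ.commutes, i.algebraMap_Ω_eq_zero_iff]
  let β : ResidueField (Localization.AtPrime (RingHom.ker χ)) →ₐ[R] Ω :=
    Ideal.ResidueField.liftₐ (RingHom.ker χ) χ le_rfl (by
      intro a ha
      rw [Submonoid.mem_comap, IsUnit.mem_submonoid_iff]
      exact IsUnit.mk0 _ (fun h0 => ha h0))
  have hβ : ∀ d, β (residue _ (algebraMap (i.C ⊗[R] j.C) _ d)) = χ d := fun d =>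
    Ideal.ResidueField.liftₐ_algebraMap (RingHom.ker χ) χ _ _ d
  obtain ⟨k, e, he⟩ := exists_idx (Localization.AtPrime (RingHom.ker χ)) (i.C ⊗[R] j.C)
    (RingHom.ker χ) hcomap AlgEquiv.refl β
  refine ⟨k, ?_, ?_⟩
  · -- `i ≤ k`
    let g₀ : i.C →ₐ[R] Localization.AtPrime (RingHom.ker χ) :=
      (IsScalarTower.toAlgHom R (i.C ⊗[R] j.C) _).comp Algebra.TensorProduct.includeLeft
    have hg₀ : ∀ c, g₀ c = algebraMap (i.C ⊗[R] j.C) _ (c ⊗ₜ 1) := fun _ => rfl
    have hunits : ∀ y : i.Q.primeCompl, IsUnit (g₀ y) := by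
      intro y
      rw [hg₀, IsLocalization.AtPrime.isUnit_to_map_iff _ (RingHom.ker χ)]
      intro hy
      have h1 : χ ((y : i.C) ⊗ₜ 1) = 0 := hy
      rw [Algebra.TensorProduct.productMap_apply_tmul, map_one, mul_one, hχi] at h1
      exact y.2 h1
    let g : i.L →ₐ[R] Localization.AtPrime (RingHom.ker χ) :=
      IsLocalization.liftAlgHom (M := i.Q.primeCompl) (S := i.L) hunits
    have hg : ∀ c : i.C, g (algebraMap i.C i.L c) = g₀ c := fun c => IsLocalization.lift_eq _ c
    refine ⟨e.toAlgHom.comp g, ?_⟩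
    intro x
    change k.toΩ (e (g x)) = _
    rw [he]
    -- compare ring homs on `i.L`
    have hcomp : (β.toRingHom.comp (residue _)).comp g.toRingHom = i.toΩ.toRingHom := by
      apply IsLocalization.ringHom_ext i.Q.primeCompl
      ext c
      change β (residue _ (g (algebraMap i.C i.L c))) = i.toΩ (algebraMap i.C i.L c)
      rw [hg, hg₀, hβ, Algebra.TensorProduct.productMap_apply_tmul, map_one, mul_one]
      rfl
    exact congrArg (fun ψ => ψ x) hcomp
  · -- `j ≤ k`
    let g₀ : j.C →ₐ[R] Localization.AtPrime (RingHom.ker χ) :=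
      (IsScalarTower.toAlgHom R (i.C ⊗[R] j.C) _).comp Algebra.TensorProduct.includeRight
    have hg₀ : ∀ c, g₀ c = algebraMap (i.C ⊗[R] j.C) _ (1 ⊗ₜ c) := fun _ => rfl
    have hunits : ∀ y : j.Q.primeCompl, IsUnit (g₀ y) := by
      intro y
      rw [hg₀, IsLocalization.AtPrime.isUnit_to_map_iff _ (RingHom.ker χ)]
      intro hy
      have h1 : χ (1 ⊗ₜ (y : j.C)) = 0 := hy
      rw [Algebra.TensorProduct.productMap_apply_tmul, map_one, one_mul, hχj] at h1
      exact y.2 h1
    let g : j.L →ₐ[R] Localization.AtPrime (RingHom.ker χ) :=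
      IsLocalization.liftAlgHom (M := j.Q.primeCompl) (S := j.L) hunits
    have hg : ∀ c : j.C, g (algebraMap j.C j.L c) = g₀ c := fun c => IsLocalization.lift_eq _ c
    refine ⟨e.toAlgHom.comp g, ?_⟩
    intro x
    change k.toΩ (e (g x)) = _
    rw [he]
    have hcomp : (β.toRingHom.comp (residue _)).comp g.toRingHom = j.toΩ.toRingHom := by
      apply IsLocalization.ringHom_ext j.Q.primeCompl
      ext c
      change β (residue _ (g (algebraMap j.C j.L c))) = j.toΩ (algebraMap j.C j.L c)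
      rw [hg, hg₀, hβ, Algebra.TensorProduct.productMap_apply_tmul, map_one, one_mul]
      rfl
    exact congrArg (fun ψ => ψ x) hcomp

end Groth.Agent.Lib.Helper3.Sh
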