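import Mathlib
import Groth.Agent.Lib.Helper3ShB

/-!
# Strict henselization, part C (helper3): the direct limit `Rsh R Ω` is a local ring
-/

namespace Groth.Agent.Lib.Helper3.Sh

open IsLocalRing TensorProduct Groth.Agent.Lib.Helper3.EssEt

universe u

variable {R : Type u} [CommRing R] [IsLocalRing R] {Ω : Type u} [Field Ω] [Algebra R Ω]

section base

variable [Algebra (ResidueField R) Ω] [IsScalarTower R (ResidueField R) Ω]

instance : Nonempty (Idx R Ω) := by
  have hunits : (maximalIdeal R).primeCompl ≤ IsUnit.submonoid R := by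
    intro x hx
    by_contra hx'
    exact hx hx'
  obtain ⟨i, -, -⟩ := exists_idx (Ω := Ω) R R (maximalIdeal R) rfl
    (IsLocalization.atUnits R (maximalIdeal R).primeCompl hunits)
    (IsScalarTower.toAlgHom R (ResidueField R) Ω)
  exact ⟨i⟩

end base

variable (R Ω) in
/-- The (strict) henselization of `R` with residue field inside `Ω` (as a ring). -/
abbrev Rsh : Type u := Ring.DirectLimit (fun i : Idx R Ω => i.L) (fun _ _ h => fmap' _ _ h)

/-- the canonical maps -/
noncomputable abbrev ofL (i : Idx R Ω) : i.L →+* Rsh R Ω :=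
  Ring.DirectLimit.of (fun i : Idx R Ω => i.L) (fun _ _ h => fmap' _ _ h) i

theorem ofL_fmap {i j : Idx R Ω} (h : i ≤ j) (x : i.L) : ofL j (fmap' i j h x) = ofL i x :=
  Ring.DirectLimit.of_f h x

theorem ofL_algebraMap (i j : Idx R Ω) (r : R) :
    ofL i (algebraMap R i.L r) = ofL j (algebraMap R j.L r) := by
  obtain ⟨k, hik, hjk⟩ := exists_ge_ge i j
  rw [← ofL_fmap hik, ← ofL_fmap hjk]
  congr 1
  exact ((fmap i k hik).commutes r).trans ((fmap j k hjk).commutes r).symm

variable [Algebra (ResidueField R) Ω] [IsScalarTower R (ResidueField R) Ω]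

noncomputable instance : Algebra R (Rsh R Ω) :=
  ((ofL (Classical.arbitrary (Idx R Ω))).comp (algebraMap R _)).toAlgebra

theorem algebraMap_eq (i : Idx R Ω) (r : R) :
    algebraMap R (Rsh R Ω) r = ofL i (algebraMap R i.L r) :=
  ofL_algebraMap _ i r

/-- the canonical maps as algebra homs -/
noncomputable def ofLₐ (i : Idx R Ω) : i.L →ₐ[R] Rsh R Ω :=
  { ofL i with commutes' := fun r => (algebraMap_eq i r).symm }

theorem ofLₐ_apply (i : Idx R Ω) (x : i.L) : ofLₐ i x = ofL i x := rfl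

theorem exists_ofL (z : Rsh R Ω) : ∃ i x, ofL i x = z := Ring.DirectLimit.exists_of z

theorem exists_ofL₂ (z w : Rsh R Ω) : ∃ i x y, ofL i x = z ∧ ofL i y = w := by
  obtain ⟨i, x, rfl⟩ := exists_ofL z
  obtain ⟨j, y, rfl⟩ := exists_ofL w
  obtain ⟨k, hik, hjk⟩ := exists_ge_ge i j
  exact ⟨k, fmap' i k hik x, fmap' j k hjk y, ofL_fmap hik x, ofL_fmap hjk y⟩

omit [Algebra (ResidueField R) Ω] [IsScalarTower R (ResidueField R) Ω] in
theorem ofL_eq_zero {i : Idx R Ω} {x : i.L} (h : ofL i x = 0) :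
    ∃ (j : Idx R Ω) (hij : i ≤ j), fmap' i j hij x = 0 :=
  Ring.DirectLimit.of.zero_exact (f' := fun i j h => fmap' (R := R) (Ω := Ω) i j h) h

theorem ofL_eq {i : Idx R Ω} {x y : i.L} (h : ofL i x = ofL i y) :
    ∃ (j : Idx R Ω) (hij : i ≤ j), fmap' i j hij x = fmap' i j hij y := by
  have h0 : ofL i (x - y) = 0 := by rw [map_sub, h, sub_self]
  obtain ⟨j, hij, hj⟩ := ofL_eq_zero h0
  exact ⟨j, hij, by rwa [map_sub, sub_eq_zero] at hj⟩

instance : Nontrivial (Rsh R Ω) := by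
  refine ⟨0, 1, fun h01 => ?_⟩
  let i : Idx R Ω := Classical.arbitrary _
  have h : ofL i (1 : i.L) = 0 := by rw [map_one]; exact h01.symm
  obtain ⟨j, hij, hj⟩ := ofL_eq_zero h
  rw [map_one] at hj
  exact one_ne_zero hj

theorem isUnit_ofL_iff {i : Idx R Ω} {x : i.L} : IsUnit (ofL i x) ↔ IsUnit x := by
  refine ⟨fun hu => ?_, fun hu => hu.map _⟩
  obtain ⟨w, hw⟩ := hu.exists_right_inv
  obtain ⟨j, y, rfl⟩ := exists_ofL w
  obtain ⟨k, hik, hjk⟩ := exists_ge_ge i j
  have h1 : ofL k (fmap' i k hik x * fmap' j k hjk y) = ofL k 1 := by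
    rw [map_mul, ofL_fmap, ofL_fmap, hw, map_one]
  obtain ⟨l, hkl, hl⟩ := ofL_eq h1
  rw [map_mul, map_one] at hl
  have h2 : IsUnit (fmap' k l hkl (fmap' i k hik x)) := IsUnit.of_mul_eq_one _ hl
  exact (isUnit_of_map_unit (fmap' i k hik) x (isUnit_of_map_unit (fmap' k l hkl) _ h2))

instance : IsLocalRing (Rsh R Ω) := by
  apply IsLocalRing.of_isUnit_or_isUnit_one_sub_self
  intro a
  obtain ⟨i, x, rfl⟩ := exists_ofL a
  rcases IsLocalRing.isUnit_or_isUnit_one_sub_self x with h | h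
  · exact Or.inl (h.map _)
  · right
    have := h.map (ofL i)
    rwa [map_sub, map_one] at this

instance (i : Idx R Ω) : IsLocalHom (ofL i) := ⟨fun _ h => isUnit_ofL_iff.mp h⟩

instance : IsLocalHom (algebraMap R (Rsh R Ω)) := by
  constructor
  intro a ha
  let i : Idx R Ω := Classical.arbitrary _
  rw [algebraMap_eq i] at ha
  exact isUnit_of_map_unit (algebraMap R i.L) a (isUnit_ofL_iff.mp ha)

theorem ofL_mem_maximalIdeal_iff {i : Idx R Ω} {x : i.L} :
    ofL i x ∈ maximalIdeal (Rsh R Ω) ↔ x ∈ maximalIdeal i.L := by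
  simp only [mem_maximalIdeal, mem_nonunits_iff, isUnit_ofL_iff]

/-- the map to `Ω` -/
noncomputable def toΩ : Rsh R Ω →+* Ω :=
  Ring.DirectLimit.lift _ _ Ω (fun i => i.toΩ.toRingHom) (fun i j hij x => fmap_compat i j hij x)

omit [Algebra (ResidueField R) Ω] [IsScalarTower R (ResidueField R) Ω] in
theorem toΩ_ofL (i : Idx R Ω) (x : i.L) : toΩ (ofL i x) = i.toΩ x :=
  Ring.DirectLimit.lift_of _ _ _ _ _

theorem toΩ_eq_zero_iff (z : Rsh R Ω) : toΩ z = 0 ↔ z ∈ maximalIdeal (Rsh R Ω) := by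
  obtain ⟨i, x, rfl⟩ := exists_ofL z
  rw [toΩ_ofL, Idx.toΩ_eq_zero_iff, ofL_mem_maximalIdeal_iff]

theorem toΩ_algebraMap (r : R) : toΩ (algebraMap R (Rsh R Ω) r) = algebraMap R Ω r := by
  let i : Idx R Ω := Classical.arbitrary _
  rw [algebraMap_eq i, toΩ_ofL, AlgHom.commutes]

instance : IsLocalHom (toΩ (R := R) (Ω := Ω)) := by
  constructor
  intro a ha
  by_contra hna
  have : a ∈ maximalIdeal (Rsh R Ω) := hna
  rw [← toΩ_eq_zero_iff] at this
  rw [this] at ha
  exact not_isUnit_zero ha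

/-- the embedding of the residue field of `Rsh R Ω` into `Ω` -/
noncomputable def embΩ : ResidueField (Rsh R Ω) →ₐ[R] Ω :=
  { ResidueField.lift (toΩ (R := R) (Ω := Ω)) with
    commutes' := fun r => by
      change ResidueField.lift toΩ (residue _ (algebraMap R (Rsh R Ω) r)) = _
      rw [ResidueField.lift_residue_apply, toΩ_algebraMap] }

theorem embΩ_residue (z : Rsh R Ω) : embΩ (residue _ z) = toΩ z :=
  ResidueField.lift_residue_apply _ _

end Groth.Agent.Lib.Helper3.Sh
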