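import Mathlib
import Groth.Agent.Lib.Helper3ShC
import Groth.Agent.Lib.Helper3HzD

/-!
# Strict henselization, part D (helper3): `Rsh R Ω` is henselian
-/

namespace Groth.Agent.Lib.Helper3.Sh

open Polynomial IsLocalRing Groth.Agent.Lib.Helper3.EssEt

universe u

/-- scaling a monic polynomial over a localization and an element into the base -/
theorem exists_scale {A₀ : Type*} [CommRing A₀] (M : Submonoid A₀) {L : Type*}
    [CommRing L] [Algebra A₀ L] [IsLocalization M L] (f : L[X]) (hf : f.Monic) (a : L) :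
    ∃ (s : M) (F : A₀[X]) (c₀ : A₀), F.Monic ∧
      F.map (algebraMap A₀ L) = scaleRoots f (algebraMap A₀ L s) ∧
      algebraMap A₀ L c₀ = algebraMap A₀ L s * a := by
  rcases subsingleton_or_nontrivial L with hL | hL
  · exact ⟨1, 1, 0, monic_one, Subsingleton.elim _ _, Subsingleton.elim _ _⟩
  obtain ⟨s₁, F₁, hF₁, hF₁map⟩ := Hz.exists_monic_map_eq_scaleRoots M f hf
  obtain ⟨⟨b, t⟩, hbt⟩ := IsLocalization.surj M a
  refine ⟨s₁ * t, scaleRoots F₁ t, s₁ * b, (monic_scaleRoots_iff _).mpr hF₁, ?_, ?_⟩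
  · rw [map_scaleRoots, hF₁map, Submonoid.coe_mul, map_mul, scaleRoots_mul]
    rw [hF₁.leadingCoeff, map_one]
    exact one_ne_zero
  · simp only [Submonoid.coe_mul, map_mul] at hbt ⊢
    rw [← hbt]
    ring

variable {R : Type u} [CommRing R] [IsLocalRing R] {Ω : Type u} [Field Ω] [Algebra R Ω]

theorem algebraMap_C_residueField_eq_zero_iff (i : Idx R Ω) (c : i.C) :
    algebraMap i.C (ResidueField i.L) c = 0 ↔ c ∈ i.Q := by
  rw [← IsLocalization.AtPrime.to_map_mem_maximal_iff i.L i.Q, ← residue_eq_zero_iff]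
  rfl

set_option maxHeartbeats 2000000 in
/-- simple roots lift in the system. -/
theorem exists_root_stage (i : Idx R Ω) (f : i.L[X]) (hf : f.Monic) (a : i.L)
    (h0 : f.eval a ∈ maximalIdeal i.L) (h1 : IsUnit ((derivative f).eval a)) :
    ∃ (j : Idx R Ω) (hij : i ≤ j) (y : j.L), (f.map (fmap' i j hij)).eval y = 0 ∧
      y - fmap' i j hij a ∈ maximalIdeal j.L := by
  classical
  obtain ⟨s, F, c₀, hF, hFmap, hc₀⟩ := exists_scale i.Q.primeCompl (L := i.L) f hf a
  set φ : i.C →+* i.L := algebraMap i.C i.L with hφ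
  set ŝ : i.L := φ s with hŝdef
  have hŝ : IsUnit ŝ := IsLocalization.map_units i.L s
  have hφeval : ∀ (p : i.C[X]) (c : i.C), φ (p.eval c) = (p.map φ).eval (φ c) := by
    intro p c
    rw [eval_map, eval₂_at_apply]
  have hFc₀ : F.eval c₀ ∈ i.Q := by
    rw [← IsLocalization.AtPrime.to_map_mem_maximal_iff i.L i.Q, ← hφ, hφeval, hFmap, hc₀,
      scaleRoots_eval_mul]
    exact Ideal.mul_mem_left _ _ h0
  have hF'c₀ : (derivative F).eval c₀ ∉ i.Q := by
    intro hmem
    rw [← IsLocalization.AtPrime.to_map_mem_maximal_iff i.L i.Q, ← hφ, hφeval, ← derivative_map,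
      hFmap, hc₀] at hmem
    have h2 := Hz.derivative_scaleRoots_eval_mul f ŝ a
    have h3 : IsUnit ((derivative (scaleRoots f ŝ)).eval (ŝ * a) * ŝ) := by
      rw [h2]
      exact (hŝ.pow _).mul h1
    exact hmem (isUnit_of_mul_isUnit_left h3)
  let P : StandardEtalePair i.C := ⟨F, hF, derivative F, ⟨1, 0, 1, by ring⟩⟩
  have hPf : P.f = F := rfl
  have hPg : P.g = derivative F := rfl
  let κ := ResidueField i.L
  let x₀ : κ := algebraMap i.C κ c₀
  have hmap : P.HasMap x₀ := by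
    refine ⟨?_, ?_⟩
    · rw [hPf, aeval_def, eval₂_at_apply, algebraMap_C_residueField_eq_zero_iff]
      exact hFc₀
    · rw [hPg, aeval_def, eval₂_at_apply, isUnit_iff_ne_zero, Ne,
        algebraMap_C_residueField_eq_zero_iff]
      exact hF'c₀
  let χ : P.Ring →ₐ[i.C] κ := P.lift x₀ hmap
  have hχX : χ P.X = x₀ := P.lift_X x₀ hmap
  letI : Algebra R P.Ring := ((algebraMap i.C P.Ring).comp (algebraMap R i.C)).toAlgebra
  haveI : IsScalarTower R i.C P.Ring := IsScalarTower.of_algebraMap_eq (fun _ => rfl)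
  haveI : Algebra.Etale R P.Ring := Algebra.Etale.comp R i.C P.Ring
  let χΩ : P.Ring →ₐ[R] Ω := i.embL.comp (χ.restrictScalars R)
  have hχΩ : ∀ z, χΩ z = i.embL (χ z) := fun _ => rfl
  have hχΩ0 : ∀ z, χΩ z = 0 ↔ χ z = 0 := fun z => by
    rw [hχΩ, map_eq_zero_iff i.embL (RingHom.injective i.embL.toRingHom)]
  haveI : (RingHom.ker χΩ).IsPrime := RingHom.ker_isPrime χΩ
  have hcomap : (RingHom.ker χΩ).comap (algebraMap R P.Ring) = maximalIdeal R := by
    ext r
    rw [Ideal.mem_comap, RingHom.mem_ker, χΩ.commutes, i.algebraMap_Ω_eq_zero_iff]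
  let β : ResidueField (Localization.AtPrime (RingHom.ker χΩ)) →ₐ[R] Ω :=
    Ideal.ResidueField.liftₐ (RingHom.ker χΩ) χΩ le_rfl (by
      intro z hz
      rw [Submonoid.mem_comap, IsUnit.mem_submonoid_iff]
      exact IsUnit.mk0 _ (fun h0 => hz h0))
  have hβ : ∀ d, β (residue _ (algebraMap P.Ring _ d)) = χΩ d := fun d =>
    Ideal.ResidueField.liftₐ_algebraMap (RingHom.ker χΩ) χΩ _ _ d
  obtain ⟨j, e, he⟩ := exists_idx (Localization.AtPrime (RingHom.ker χΩ)) P.Ring
    (RingHom.ker χΩ) hcomap AlgEquiv.refl β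
  -- the map `L i → A'`
  let g₀ : i.C →ₐ[R] Localization.AtPrime (RingHom.ker χΩ) :=
    (IsScalarTower.toAlgHom R P.Ring _).comp (IsScalarTower.toAlgHom R i.C P.Ring)
  have hg₀ : ∀ c, g₀ c = algebraMap P.Ring _ (algebraMap i.C P.Ring c) := fun _ => rfl
  have hunits : ∀ y : i.Q.primeCompl, IsUnit (g₀ y) := by
    intro y
    rw [hg₀, IsLocalization.AtPrime.isUnit_to_map_iff _ (RingHom.ker χΩ)]
    intro hy
    have : χΩ (algebraMap i.C P.Ring y) = 0 := hy
    rw [hχΩ0, χ.commutes, algebraMap_C_residueField_eq_zero_iff] at this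
    exact y.2 this
  let g : i.L →ₐ[R] Localization.AtPrime (RingHom.ker χΩ) :=
    IsLocalization.liftAlgHom (M := i.Q.primeCompl) (S := i.L) hunits
  have hg : ∀ c : i.C, g (φ c) = g₀ c := fun c => IsLocalization.lift_eq _ c
  let G : i.L →ₐ[R] j.L := e.toAlgHom.comp g
  have hGcompat : IsCompat i j G := by
    intro x
    change j.toΩ (e (g x)) = _
    rw [he]
    have hcomp : (β.toRingHom.comp (residue _)).comp g.toRingHom = i.toΩ.toRingHom := by
      apply IsLocalization.ringHom_ext i.Q.primeCompl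
      ext c
      change β (residue _ (g (φ c))) = i.toΩ (φ c)
      rw [hg, hg₀, hβ, hχΩ, χ.commutes]
      rfl
    exact congrArg (fun ψ => ψ x) hcomp
  have hij : i ≤ j := ⟨G, hGcompat⟩
  have hG : fmap i j hij = G := fmap_eq hij hGcompat
  have hGφ : ∀ c : i.C, G (φ c) = e (algebraMap P.Ring _ (algebraMap i.C P.Ring c)) := by
    intro c
    change e (g (φ c)) = _
    rw [hg, hg₀]
  let ψ' : P.Ring →+* j.L := (e : Localization.AtPrime (RingHom.ker χΩ) →+* j.L).comp
    (algebraMap P.Ring _)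
  let y₀ : j.L := ψ' P.X
  have hψ' : ∀ c : i.C, ψ' (algebraMap i.C P.Ring c) = G (φ c) := fun c => (hGφ c).symm
  have hroot₀ : ((scaleRoots f ŝ).map G.toRingHom).eval y₀ = 0 := by
    rw [← hFmap, Polynomial.map_map, eval_map]
    have hcomp : G.toRingHom.comp φ = ψ'.comp (algebraMap i.C P.Ring) := by
      ext c
      exact (hψ' c).symm
    rw [hcomp, ← hom_eval₂]
    have : eval₂ (algebraMap i.C P.Ring) P.X F = 0 := P.hasMap_X.1
    rw [this, map_zero]
  set u : j.L := G ŝ with hu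
  have huu : IsUnit u := hŝ.map G
  have hmapscale : (scaleRoots f ŝ).map G.toRingHom = scaleRoots (f.map G.toRingHom) u := by
    apply map_scaleRoots
    rw [hf.leadingCoeff, map_one]
    exact one_ne_zero
  obtain ⟨v, hv⟩ := huu.exists_left_inv
  let y : j.L := v * y₀
  have hy₀ : y₀ = u * y := by
    change y₀ = u * (v * y₀)
    rw [← mul_assoc, mul_comm u v, hv, one_mul]
  have hroot : (f.map G.toRingHom).eval y = 0 := by
    rw [hmapscale, hy₀, scaleRoots_eval_mul] at hroot₀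
    exact (huu.pow _).mul_right_eq_zero.mp hroot₀
  have hQ : P.X - algebraMap i.C P.Ring c₀ ∈ RingHom.ker χΩ := by
    rw [RingHom.mem_ker, hχΩ0, map_sub, hχX, χ.commutes, sub_self]
  have hmem₀ : y₀ - u * G a ∈ maximalIdeal j.L := by
    have h3 : u * G a = ψ' (algebraMap i.C P.Ring c₀) := by
      rw [hψ', hc₀, map_mul]
    rw [h3]
    change ψ' P.X - ψ' _ ∈ _
    rw [← map_sub]
    have h4 : algebraMap P.Ring (Localization.AtPrime (RingHom.ker χΩ))
        (P.X - algebraMap i.C P.Ring c₀) ∈ maximalIdeal _ :=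
      (IsLocalization.AtPrime.to_map_mem_maximal_iff _ (RingHom.ker χΩ) _).mpr hQ
    intro hcon
    apply h4
    have := hcon.map (e.symm : j.L →+* Localization.AtPrime (RingHom.ker χΩ))
    simpa [ψ'] using this
  have hfm : fmap' i j hij = G.toRingHom := by
    change (fmap i j hij).toRingHom = _
    rw [hG]
  refine ⟨j, hij, y, ?_, ?_⟩
  · rw [hfm]
    exact hroot
  · have h5 : y - fmap' i j hij a = v * (y₀ - u * G a) := by
      rw [hfm, mul_sub, ← mul_assoc, hv, one_mul]
      rfl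
    rw [h5]
    exact Ideal.mul_mem_left _ _ hmem₀

end Groth.Agent.Lib.Helper3.Sh
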