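import Mathlib
import Groth.Agent.Lib.Helper3ShD

/-!
# Strict henselization, part E (helper3): `Rsh R Ω` is henselian, universal property
-/

namespace Groth.Agent.Lib.Helper3.Sh

open Polynomial IsLocalRing Groth.Agent.Lib.Helper3.EssEt

universe u

variable {R : Type u} [CommRing R] [IsLocalRing R] {Ω : Type u} [Field Ω] [Algebra R Ω]
  [Algebra (ResidueField R) Ω] [IsScalarTower R (ResidueField R) Ω]

set_option maxHeartbeats 1000000 in
instance henselian : HenselianLocalRing (Rsh R Ω) := by
  constructor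
  intro f hf a₀ h0 h1
  obtain ⟨i₁, a₁, rfl⟩ := exists_ofL a₀
  obtain ⟨i₂, p, hp⟩ := Ring.DirectLimit.Polynomial.exists_of
    (f' := fun i j h => fmap' (R := R) (Ω := Ω) i j h) f
  obtain ⟨i, h1i, h2i⟩ := exists_ge_ge i₁ i₂
  have hlift : f ∈ Polynomial.lifts (ofL i) := by
    refine (Polynomial.mem_lifts _).mpr ⟨p.map (fmap' i₂ i h2i), ?_⟩
    rw [Polynomial.map_map, ← hp]
    congr 1
    ext x
    exact ofL_fmap h2i x
  obtain ⟨fi, hfi, -, hfimonic⟩ := Polynomial.lifts_and_natDegree_eq_and_monic hlift hf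
  set a : i.L := fmap' i₁ i h1i a₁ with ha
  have haa : ofL i a = ofL i₁ a₁ := ofL_fmap h1i a₁
  have hev : ∀ (g : i.L[X]) (x : i.L), ofL i (g.eval x) = (g.map (ofL i)).eval (ofL i x) := by
    intro g x
    rw [eval_map, eval₂_at_apply]
  have h0' : fi.eval a ∈ maximalIdeal i.L := by
    rw [← ofL_mem_maximalIdeal_iff, hev, hfi, haa]
    exact h0
  have h1' : IsUnit ((derivative fi).eval a) := by
    rw [← isUnit_ofL_iff, hev, ← derivative_map, hfi, haa]
    exact h1
  obtain ⟨j, hij, y, hy0, hy1⟩ := exists_root_stage i fi hfimonic a h0' h1'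
  refine ⟨ofL j y, ?_, ?_⟩
  · have hfj : f = (fi.map (fmap' i j hij)).map (ofL j) := by
      rw [Polynomial.map_map, ← hfi]
      congr 1
      ext x
      exact (ofL_fmap hij x).symm
    rw [IsRoot, hfj, eval_map, eval₂_at_apply, hy0, map_zero]
  · rw [← haa, ← ofL_fmap hij a, ← map_sub]
    exact ofL_mem_maximalIdeal_iff.mpr hy1

theorem ofL_comp_algebraMap (i : Idx R Ω) :
    (ofL i).comp (algebraMap R i.L) = algebraMap R (Rsh R Ω) := by
  ext r
  exact (algebraMap_eq i r).symm

set_option maxHeartbeats 1000000 in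
/-- The universal property of `Rsh R Ω`. -/
theorem universal (T : Type u) [CommRing T] [HenselianLocalRing T] (f : R →+* T) [IsLocalHom f]
    (τ : ResidueField (Rsh R Ω) →+* ResidueField T)
    (hτ : τ.comp (ResidueField.map (algebraMap R (Rsh R Ω))) = ResidueField.map f) :
    ∃! g : Rsh R Ω →+* T, g.comp (algebraMap R (Rsh R Ω)) = f ∧
      ∀ x, residue T (g x) = τ (residue _ x) := by
  let α : ∀ i : Idx R Ω, ResidueField i.L →+* ResidueField T :=
    fun i => τ.comp (ResidueField.map (ofL i))
  have hα : ∀ i, (α i).comp (ResidueField.map (algebraMap R i.L)) = ResidueField.map f := by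
    intro i
    rw [← hτ]
    ext x
    obtain ⟨r, rfl⟩ := residue_surjective x
    simp only [α, RingHom.comp_apply, ResidueField.map_residue]
    rw [algebraMap_eq i]
  have hαres : ∀ i (x : i.L), α i (residue _ x) = τ (residue _ (ofL i x)) := by
    intro i x
    simp only [α, RingHom.comp_apply, ResidueField.map_residue]
  have hex : ∀ i : Idx R Ω, ∃! ψ' : i.L →+* T, IsLocalHom ψ' ∧ ψ'.comp (algebraMap R i.L) = f ∧
      ∀ x, residue T (ψ' x) = α i (residue _ x) :=
    fun i => existsUnique_lift R i.L i.isEssentiallyEtale T f (α i) (hα i)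
  choose g hg huniq using hex
  have hcompat : ∀ (i j : Idx R Ω) (h : i ≤ j) (x : i.L), g j (fmap' i j h x) = g i x := by
    intro i j h x
    have : (g j).comp (fmap' i j h) = g i := by
      apply huniq i
      haveI := (hg j).1
      refine ⟨RingHom.isLocalHom_comp _ _, ?_, ?_⟩
      · ext r
        simp only [RingHom.comp_apply]
        have h1 : fmap' i j h (algebraMap R i.L r) = algebraMap R j.L r := (fmap i j h).commutes r
        rw [h1]
        exact congrArg (fun φ => φ r) (hg j).2.1
      · intro x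
        simp only [RingHom.comp_apply]
        rw [(hg j).2.2, hαres, hαres, ofL_fmap]
    exact congrArg (fun φ => φ x) this
  let G : Rsh R Ω →+* T := Ring.DirectLimit.lift _ _ T g hcompat
  have hG : ∀ i x, G (ofL i x) = g i x := fun i x => Ring.DirectLimit.lift_of _ _ _ _ _
  refine ⟨G, ⟨?_, ?_⟩, ?_⟩
  · ext r
    let i : Idx R Ω := Classical.arbitrary _
    simp only [RingHom.comp_apply]
    rw [algebraMap_eq i, hG]
    exact congrArg (fun φ => φ r) (hg i).2.1
  · intro z
    obtain ⟨i, x, rfl⟩ := exists_ofL z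
    rw [hG, (hg i).2.2, hαres]
  · rintro G' ⟨hG'1, hG'2⟩
    apply Ring.DirectLimit.hom_ext
    intro i
    have h2 : (G'.comp (ofL i)).comp (algebraMap R i.L) = f := by
      rw [RingHom.comp_assoc, ofL_comp_algebraMap, hG'1]
    have h3 : ∀ x, residue T ((G'.comp (ofL i)) x) = α i (residue _ x) := by
      intro x
      rw [RingHom.comp_apply, hG'2, hαres]
    have hloc : IsLocalHom (G'.comp (ofL i)) := by
      constructor
      intro x hx
      by_contra hnx
      have hxm : x ∈ maximalIdeal i.L := hnx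
      have h4 : residue T ((G'.comp (ofL i)) x) = 0 := by
        rw [h3, (residue_eq_zero_iff x).mpr hxm, map_zero]
      rw [residue_eq_zero_iff] at h4
      exact h4 hx
    have h5 : G'.comp (ofL i) = g i := huniq i _ ⟨hloc, h2, h3⟩
    rw [h5]
    ext x
    exact (hG i x).symm

end Groth.Agent.Lib.Helper3.Sh
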