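import Mathlib
import Groth.Agent.Lib.Helper3ShE
import Groth.Agent.Lib.Helper3HenselM
import Groth.Prelude.Def_Hensel

/-!
# Strict henselization, part F (helper3): residue field of `Rsh R Ω`; existence of the strict
henselization.
-/

namespace Groth.Agent.Lib.Helper3.Sh

open Polynomial IsLocalRing Groth.Agent.Lib.Helper3.EssEt Groth.Agent.Lib.Helper3.Hensel

universe u

variable {R : Type u} [CommRing R] [IsLocalRing R] {Ω : Type u} [Field Ω] [Algebra R Ω]
  [Algebra (ResidueField R) Ω] [IsScalarTower R (ResidueField R) Ω]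

theorem toΩ_injective_residue : Function.Injective (embΩ (R := R) (Ω := Ω)) :=
  RingHom.injective (embΩ (R := R) (Ω := Ω)).toRingHom

set_option maxHeartbeats 1000000 in
/-- every element of `Ω` separable over the residue field is in the image of `toΩ`. -/
theorem exists_toΩ_eq (ω : Ω) (hω : IsSeparable (ResidueField R) ω) :
    ∃ z : Rsh R Ω, toΩ z = ω := by
  classical
  let k := ResidueField R
  have hint : IsIntegral k ω := hω.isIntegral
  let μ := minpoly k ω
  have hμmonic : μ.Monic := minpoly.monic hint
  have hμsep : μ.Separable := hω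
  obtain ⟨p, hpmap, -, hpmonic⟩ := lifts_and_natDegree_eq_and_monic
    ((mem_lifts μ).mpr (map_surjective (residue R) residue_surjective _)) hμmonic
  have hsep : (p.map (residue R)).Separable := by rw [hpmap]; exact hμsep
  haveI hEt : Algebra.Etale R (AdjoinRoot p) :=
    etale_adjoinRoot p hpmonic (isUnit_mk_derivative p hpmonic hsep)
  have hroot : eval₂ (algebraMap R Ω) ω p = 0 := by
    have h1 : algebraMap R Ω = (algebraMap k Ω).comp (residue R) := by
      ext r
      exact IsScalarTower.algebraMap_apply R k Ω r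
    rw [h1, ← eval₂_map, hpmap]
    exact minpoly.aeval k ω
  let χ : AdjoinRoot p →ₐ[R] Ω := AdjoinRoot.liftAlgHom p (Algebra.ofId R Ω) ω hroot
  have hχ : χ (AdjoinRoot.root p) = ω := AdjoinRoot.liftAlgHom_root _ _ _ _
  haveI : (RingHom.ker χ).IsPrime := RingHom.ker_isPrime χ
  let i₀ : Idx R Ω := Classical.arbitrary _
  have hcomap : (RingHom.ker χ).comap (algebraMap R (AdjoinRoot p)) = maximalIdeal R := by
    ext r
    rw [Ideal.mem_comap, RingHom.mem_ker, χ.commutes, i₀.algebraMap_Ω_eq_zero_iff]
  let β : ResidueField (Localization.AtPrime (RingHom.ker χ)) →ₐ[R] Ω :=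
    Ideal.ResidueField.liftₐ (RingHom.ker χ) χ le_rfl (by
      intro z hz
      rw [Submonoid.mem_comap, IsUnit.mem_submonoid_iff]
      exact IsUnit.mk0 _ (fun h0 => hz h0))
  have hβ : ∀ d, β (residue _ (algebraMap (AdjoinRoot p) _ d)) = χ d := fun d =>
    Ideal.ResidueField.liftₐ_algebraMap (RingHom.ker χ) χ _ _ d
  obtain ⟨j, e, he⟩ := exists_idx (Localization.AtPrime (RingHom.ker χ)) (AdjoinRoot p)
    (RingHom.ker χ) hcomap AlgEquiv.refl β
  refine ⟨ofL j (e (algebraMap (AdjoinRoot p) _ (AdjoinRoot.root p))), ?_⟩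
  rw [toΩ_ofL, he, hβ, hχ]

/-- if `Ω` is separable over the residue field, `toΩ` is surjective -/
theorem toΩ_surjective [Algebra.IsSeparable (ResidueField R) Ω] :
    Function.Surjective (toΩ (R := R) (Ω := Ω)) :=
  fun ω => exists_toΩ_eq ω (Algebra.IsSeparable.isSeparable _ ω)

/-- the residue field of `Rsh R Ω` is `Ω` when `Ω` is separable over the residue field -/
noncomputable def residueEquiv [Algebra.IsSeparable (ResidueField R) Ω] :
    ResidueField (Rsh R Ω) ≃+* Ω :=
  RingEquiv.ofBijective (embΩ (R := R) (Ω := Ω)).toRingHom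
    ⟨toΩ_injective_residue, fun ω => by
      obtain ⟨z, hz⟩ := toΩ_surjective (R := R) ω
      exact ⟨residue _ z, by
        change embΩ (residue _ z) = ω
        rw [embΩ_residue, hz]⟩⟩

theorem residueEquiv_apply [Algebra.IsSeparable (ResidueField R) Ω]
    (x : ResidueField (Rsh R Ω)) : residueEquiv x = embΩ x := rfl

theorem residueEquiv_compat [Algebra.IsSeparable (ResidueField R) Ω] :
    (algebraMap (ResidueField R) Ω).comp (RingEquiv.refl (ResidueField R) : _ →+* _) =
      (residueEquiv (R := R) (Ω := Ω) : _ →+* _).comp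
        (algebraMap (ResidueField R) (ResidueField (Rsh R Ω))) := by
  ext x
  obtain ⟨r, rfl⟩ := residue_surjective x
  simp only [RingHom.comp_apply, RingHom.coe_coe, RingEquiv.refl_apply]
  have h1 : algebraMap (ResidueField R) (ResidueField (Rsh R Ω)) (residue R r) =
      residue _ (algebraMap R (Rsh R Ω) r) := ResidueField.map_residue _ r
  rw [h1, residueEquiv_apply, embΩ_residue, toΩ_algebraMap]
  exact (IsScalarTower.algebraMap_apply R (ResidueField R) Ω r).symm

theorem isSepClosed_of_ringEquiv {K K' : Type*} [Field K] [Field K'] (e : K ≃+* K')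
    [IsSepClosed K'] : IsSepClosed K := by
  apply IsSepClosed.of_exists_root
  intro p hp hirr hsep
  have hdeg : (p.map (e : K →+* K')).degree ≠ 0 := by
    rw [degree_map_eq_of_injective e.injective]
    exact (degree_pos_of_irreducible hirr).ne'
  obtain ⟨x, hx⟩ := IsSepClosed.exists_root (p.map (e : K →+* K')) hdeg (Separable.map hsep)
  refine ⟨e.symm x, ?_⟩
  apply e.injective
  rw [map_zero]
  have : e (p.eval (e.symm x)) = (p.map (e : K →+* K')).eval (e (e.symm x)) := by
    rw [eval_map, ← RingHom.coe_coe, eval₂_at_apply]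
  rw [this, e.apply_symm_apply]
  exact hx

instance isSepClosure [IsSepClosure (ResidueField R) Ω] :
    IsSepClosure (ResidueField R) (ResidueField (Rsh R Ω)) := by
  haveI : Algebra.IsSeparable (ResidueField R) Ω := IsSepClosure.separable
  haveI : IsSepClosed Ω := IsSepClosure.sep_closed (ResidueField R)
  refine ⟨isSepClosed_of_ringEquiv (residueEquiv (R := R) (Ω := Ω)), ?_⟩
  exact Algebra.IsSeparable.of_equiv_equiv (RingEquiv.refl (ResidueField R))
    (residueEquiv (R := R) (Ω := Ω)).symm (by
      have h := residueEquiv_compat (R := R) (Ω := Ω)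
      ext x
      have hx := congrArg (fun φ => φ x) h
      simp only [RingHom.comp_apply, RingHom.coe_coe, RingEquiv.refl_apply] at hx ⊢
      rw [hx, RingEquiv.symm_apply_apply])

instance isStrictHenselization [IsSepClosure (ResidueField R) Ω] :
    Hensel.IsStrictHenselization R (Rsh R Ω) where
  henselian := henselian
  isSepClosure := isSepClosure
  universal T _ _ f _ τ hτ := universal T f τ hτ

end Groth.Agent.Lib.Helper3.Sh
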