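import Mathlib
import Groth.Agent.Lib.Helper3ShF

/-!
# Strict henselization, part G (helper3): flatness and uniqueness
-/

namespace Groth.Agent.Lib.Helper3.Sh

open Polynomial IsLocalRing Groth.Agent.Lib.Helper3.EssEt

universe u

variable {R : Type u} [CommRing R] [IsLocalRing R] {Ω : Type u} [Field Ω] [Algebra R Ω]
  [Algebra (ResidueField R) Ω] [IsScalarTower R (ResidueField R) Ω]

/-- finitely many elements of `Rsh R Ω` come from a common stage -/
theorem exists_ofL_fin {l : ℕ} (x : Fin l → Rsh R Ω) :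
    ∃ (i : Idx R Ω) (x' : Fin l → i.L), ∀ k, ofL i (x' k) = x k := by
  classical
  have h : ∀ k, ∃ (i : Idx R Ω) (y : i.L), ofL i y = x k := fun k => exists_ofL (x k)
  choose idx y hy using h
  obtain ⟨M, hM⟩ := Finset.exists_le (Finset.univ.image idx)
  have hle : ∀ k, idx k ≤ M := fun k => hM _ (Finset.mem_image_of_mem _ (Finset.mem_univ k))
  exact ⟨M, fun k => fmap' (idx k) M (hle k) (y k), fun k => by rw [ofL_fmap, hy]⟩

omit [Algebra (ResidueField R) Ω] [IsScalarTower R (ResidueField R) Ω] in
instance flat_L (i : Idx R Ω) : Module.Flat R i.L := by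
  haveI : Module.Flat i.C i.L := IsLocalization.flat i.L i.Q.primeCompl
  exact Module.Flat.trans R i.C i.L

theorem ofL_smul (i : Idx R Ω) (r : R) (x : i.L) : ofL i (r • x) = r • ofL i x := by
  rw [Algebra.smul_def, Algebra.smul_def, map_mul, algebraMap_eq i]

instance flat : Module.Flat R (Rsh R Ω) := by
  rw [Module.Flat.iff_forall_isTrivialRelation]
  intro l f x hfx
  obtain ⟨i, x', hx'⟩ := exists_ofL_fin x
  have h0 : ofL i (∑ k, f k • x' k) = 0 := by
    rw [map_sum, ← hfx]
    exact Finset.sum_congr rfl (fun k _ => by rw [ofL_smul, hx'])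
  obtain ⟨j, hij, hj⟩ := ofL_eq_zero h0
  have h1 : ∑ k, f k • fmap i j hij (x' k) = 0 := by
    have : fmap' i j hij (∑ k, f k • x' k) = ∑ k, f k • fmap i j hij (x' k) := by
      change fmap i j hij (∑ k, f k • x' k) = _
      rw [map_sum]
      exact Finset.sum_congr rfl (fun k _ => map_smul _ _ _)
    rw [← this, hj]
  obtain ⟨m, a, y, hy1, hy2⟩ := Module.Flat.iff_forall_isTrivialRelation.mp (flat_L j) h1
  refine ⟨m, a, fun t => ofL j (y t), ?_, hy2⟩
  intro k
  rw [← hx' k, ← ofL_fmap hij]
  change ofL j (fmap i j hij (x' k)) = _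
  have hy1k : fmap i j hij (x' k) = ∑ t, a k t • y t := hy1 k
  rw [hy1k, map_sum]
  exact Finset.sum_congr rfl (fun t _ => ofL_smul j _ _)

instance faithfullyFlat : Module.FaithfullyFlat R (Rsh R Ω) :=
  Module.FaithfullyFlat.of_flat_of_isLocalHom

set_option maxHeartbeats 1000000 in
/-- Any strict henselization of `R` is isomorphic to `Rsh R Ω` (for `Ω` a separable closure of
the residue field). -/
theorem nonempty_algEquiv [IsSepClosure (ResidueField R) Ω] (S : Type u) [CommRing S]
    [IsLocalRing S] [Algebra R S] [IsLocalHom (algebraMap R S)]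
    [hS : Hensel.IsStrictHenselization R S] : Nonempty (S ≃ₐ[R] Rsh R Ω) := by
  haveI : HenselianLocalRing S := hS.henselian
  haveI := hS.isSepClosure
  let ε : ResidueField S ≃ₐ[ResidueField R] ResidueField (Rsh R Ω) :=
    IsSepClosure.equiv (ResidueField R) _ _
  have hε1 : (ε.symm : ResidueField (Rsh R Ω) →+* ResidueField S).comp
      (ResidueField.map (algebraMap R (Rsh R Ω))) = ResidueField.map (algebraMap R S) := by
    ext x
    exact ε.symm.commutes x
  have hε2 : (ε : ResidueField S →+* ResidueField (Rsh R Ω)).comp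
      (ResidueField.map (algebraMap R S)) = ResidueField.map (algebraMap R (Rsh R Ω)) := by
    ext x
    exact ε.commutes x
  obtain ⟨g, ⟨hg1, hg2⟩, -⟩ := universal (R := R) (Ω := Ω) S (algebraMap R S) _ hε1
  obtain ⟨g', ⟨hg'1, hg'2⟩, -⟩ := hS.universal (Rsh R Ω) (algebraMap R (Rsh R Ω)) _ hε2
  have h1 : g.comp g' = RingHom.id S := by
    obtain ⟨u, -, huniq⟩ := hS.universal S (algebraMap R S) (RingHom.id _) (by simp)
    rw [huniq (g.comp g') ⟨by rw [RingHom.comp_assoc, hg'1, hg1], fun x => by
        rw [RingHom.comp_apply, hg2, hg'2]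
        simp⟩,
      huniq (RingHom.id S) ⟨by simp, fun x => by simp⟩]
  have h2 : g'.comp g = RingHom.id (Rsh R Ω) := by
    obtain ⟨u, -, huniq⟩ := universal (R := R) (Ω := Ω) (Rsh R Ω) (algebraMap R (Rsh R Ω))
      (RingHom.id _) (by simp)
    rw [huniq (g'.comp g) ⟨by rw [RingHom.comp_assoc, hg1, hg'1], fun x => by
        rw [RingHom.comp_apply, hg'2, hg2]
        simp⟩,
      huniq (RingHom.id _) ⟨by simp, fun x => by simp⟩]
  exact ⟨{ toFun := g'
           invFun := g
           left_inv := fun x => congrArg (fun φ => φ x) h1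
           right_inv := fun x => congrArg (fun φ => φ x) h2
           map_mul' := map_mul g'
           map_add' := map_add g'
           commutes' := fun r => congrArg (fun φ => φ r) hg'1 }⟩

end Groth.Agent.Lib.Helper3.Sh
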