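import Mathlib
import Groth.Agent.Lib.Helper3HzE
import Groth.Agent.Lib.Helper3ShG

/-!
# Krull dimension of the (strict) henselization (helper3)
-/

namespace Groth.Agent.Lib.Helper3.HzDim

open IsLocalRing

universe u

/-- A faithfully flat algebra with incomparable fibres has the same Krull dimension. -/
theorem ringKrullDim_eq_of_faithfullyFlat_of_incomparable {R S : Type*} [CommRing R] [CommRing S]
    [Algebra R S] [Module.FaithfullyFlat R S]
    (hinc : ∀ (P Q : Ideal S) [P.IsPrime] [Q.IsPrime], P ≤ Q → P.under R = Q.under R → P = Q) :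
    ringKrullDim S = ringKrullDim R := by
  apply le_antisymm
  · apply Order.krullDim_le_of_strictMono (PrimeSpectrum.comap (algebraMap R S))
    intro P Q hPQ
    have hle : PrimeSpectrum.comap (algebraMap R S) P ≤ PrimeSpectrum.comap (algebraMap R S) Q :=
      Ideal.comap_mono hPQ.le
    refine lt_of_le_of_ne hle (fun heq => ?_)
    have h1 : P.asIdeal.under R = Q.asIdeal.under R := congrArg PrimeSpectrum.asIdeal heq
    have h2 : P.asIdeal = Q.asIdeal := hinc P.asIdeal Q.asIdeal hPQ.le h1
    exact hPQ.ne (PrimeSpectrum.ext h2)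
  · rw [ringKrullDim, Order.krullDim]
    apply iSup_le
    intro l
    obtain ⟨P, hP⟩ := PrimeSpectrum.comap_surjective_of_faithfullyFlat (A := R) (B := S) l.last
    haveI : P.asIdeal.LiesOver l.last.asIdeal := ⟨by rw [← hP]; rfl⟩
    obtain ⟨L, hlen, -, -⟩ := Ideal.exists_ltSeries_of_hasGoingDown l P.asIdeal
    rw [← hlen]
    exact Order.LTSeries.length_le_krullDim L

end Groth.Agent.Lib.Helper3.HzDim

namespace Groth.Agent.Lib.Helper3.Hz

open IsLocalRing

universe u

variable {R : Type u} [CommRing R] [IsLocalRing R]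

instance quasiFinite_L (i : Idx R) : Algebra.QuasiFinite R i.L :=
  Algebra.QuasiFinite.of_isLocalization (S := i.C) i.Q.primeCompl

theorem incomparable (P Q : Ideal (Rh R)) [P.IsPrime] [Q.IsPrime] (hPQ : P ≤ Q)
    (h : P.under R = Q.under R) : P = Q := by
  refine le_antisymm hPQ (fun z hz => ?_)
  obtain ⟨i, x, rfl⟩ := exists_ofL z
  have hP' : (P.comap (ofL i)).under R = (Q.comap (ofL i)).under R := by
    have hc : ∀ I : Ideal (Rh R), (I.comap (ofL i)).under R = I.under R := by
      intro I
      ext r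
      simp only [Ideal.under, Ideal.mem_comap]
      rw [algebraMap_eq i]
    rw [hc, hc, h]
  have := Algebra.QuasiFinite.eq_of_le_of_under_eq (R := R) (P.comap (ofL i)) (Q.comap (ofL i))
    (Ideal.comap_mono hPQ) hP'
  have hx : x ∈ Q.comap (ofL i) := hz
  rw [← this] at hx
  exact hx

theorem ringKrullDim_eq : ringKrullDim (Rh R) = ringKrullDim R :=
  HzDim.ringKrullDim_eq_of_faithfullyFlat_of_incomparable
    (fun P Q _ _ hPQ h => incomparable P Q hPQ h)

end Groth.Agent.Lib.Helper3.Hz

namespace Groth.Agent.Lib.Helper3.Sh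

open IsLocalRing

universe u

variable {R : Type u} [CommRing R] [IsLocalRing R] {Ω : Type u} [Field Ω] [Algebra R Ω]
  [Algebra (ResidueField R) Ω] [IsScalarTower R (ResidueField R) Ω]

omit [Algebra (ResidueField R) Ω] [IsScalarTower R (ResidueField R) Ω] in
instance quasiFinite_L (i : Idx R Ω) : Algebra.QuasiFinite R i.L :=
  Algebra.QuasiFinite.of_isLocalization (S := i.C) i.Q.primeCompl

theorem incomparable (P Q : Ideal (Rsh R Ω)) [P.IsPrime] [Q.IsPrime] (hPQ : P ≤ Q)
    (h : P.under R = Q.under R) : P = Q := by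
  refine le_antisymm hPQ (fun z hz => ?_)
  obtain ⟨i, x, rfl⟩ := exists_ofL z
  have hP' : (P.comap (ofL i)).under R = (Q.comap (ofL i)).under R := by
    have hc : ∀ I : Ideal (Rsh R Ω), (I.comap (ofL i)).under R = I.under R := by
      intro I
      ext r
      simp only [Ideal.under, Ideal.mem_comap]
      rw [algebraMap_eq i]
    rw [hc, hc, h]
  have := Algebra.QuasiFinite.eq_of_le_of_under_eq (R := R) (P.comap (ofL i)) (Q.comap (ofL i))
    (Ideal.comap_mono hPQ) hP'
  have hx : x ∈ Q.comap (ofL i) := hz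
  rw [← this] at hx
  exact hx

theorem ringKrullDim_eq : ringKrullDim (Rsh R Ω) = ringKrullDim R :=
  HzDim.ringKrullDim_eq_of_faithfullyFlat_of_incomparable
    (fun P Q _ _ hPQ h => incomparable P Q hPQ h)

end Groth.Agent.Lib.Helper3.Sh
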