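import Mathlib

/-!
# Complete rings with Noetherian reduction are Noetherian (helper19)

If `A` is complete and separated for the `I`-adic topology, `I` is finitely generated and `A ⧸ I`
is Noetherian, then `A` is Noetherian.  The proof is the classical "initial forms" argument.
-/

set_option autoImplicit false
universe u

namespace Groth.Agent.Lib.Helper19

open Ideal

section Approx

variable {A : Type u} [CommRing A] (I : Ideal A)

/-- Convergence lemma: if every element of `𝔞 ∩ I ^ d` can be approximated modulo `I ^ (d+1)`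
by a combination of the `g j` with coefficients in `I ^ (d - D)`, then the `g j` generate `𝔞`. -/
theorem span_eq_of_approx [IsAdicComplete I A] {ι : Type*} [Fintype ι] (𝔞 : Ideal A) (g : ι → A)
    (hg : ∀ j, g j ∈ 𝔞) (D : ℕ)
    (H : ∀ (d : ℕ) (y : A), y ∈ 𝔞 → y ∈ I ^ d →
      ∃ a : ι → A, (∀ j, a j ∈ I ^ (d - D)) ∧ y - ∑ j, a j * g j ∈ I ^ (d + 1)) :
    𝔞 = Ideal.span (Set.range g) := by
  classical
  apply le_antisymm _ (Ideal.span_le.mpr (by rintro _ ⟨j, rfl⟩; exact hg j))
  intro y hy
  choose! a ha1 ha2 using H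
  let Y : ℕ → A := fun d => Nat.rec y (fun d yd => yd - ∑ j, a d yd j * g j) d
  have hY0 : Y 0 = y := rfl
  have hYs : ∀ d, Y (d + 1) = Y d - ∑ j, a d (Y d) j * g j := fun d => rfl
  have hYmem : ∀ d, Y d ∈ 𝔞 ∧ Y d ∈ I ^ d := by
    intro d
    induction d with
    | zero => exact ⟨hy, by simp⟩
    | succ d ih =>
      refine ⟨?_, ?_⟩
      · rw [hYs]
        exact 𝔞.sub_mem ih.1 (𝔞.sum_mem fun j _ => 𝔞.mul_mem_left _ (hg j))
      · rw [hYs]
        exact ha2 d (Y d) ih.1 ih.2
  let c : ℕ → ι → A := fun d j => a d (Y d) j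
  have hc : ∀ d j, c d j ∈ I ^ (d - D) := fun d j => ha1 d (Y d) (hYmem d).1 (hYmem d).2 j
  let s : ℕ → ι → A := fun m j => ∑ d ∈ Finset.range m, c d j
  have hss : ∀ m j, s (m + 1) j = s m j + c m j := fun m j => Finset.sum_range_succ _ _
  have hys : ∀ m, y - Y m = ∑ j, s m j * g j := by
    intro m
    induction m with
    | zero => simp [s, hY0]
    | succ m ih =>
      rw [hYs]
      simp only [hss, add_mul, Finset.sum_add_distrib, ← ih]
      simp only [c]
      ring
  have hdiff : ∀ j, ∀ {m n : ℕ}, m ≤ n → s (n + D) j - s (m + D) j ∈ I ^ m := by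
    intro j m n hmn
    have h1 : s (n + D) j - s (m + D) j = ∑ d ∈ Finset.Ico (m + D) (n + D), c d j := by
      rw [Finset.sum_Ico_eq_sub _ (Nat.add_le_add_right hmn D)]
    rw [h1]
    refine Ideal.sum_mem _ fun d hd => ?_
    have hd' : m + D ≤ d := (Finset.mem_Ico.mp hd).1
    exact Ideal.pow_le_pow_right (Nat.le_sub_of_add_le hd') (hc d j)
  have hcauchy : ∀ j, ∀ {m n : ℕ}, m ≤ n →
      s (m + D) j ≡ s (n + D) j [SMOD (I ^ m • ⊤ : Submodule A A)] := by
    intro j m n hmn
    rw [SModEq.sub_mem, smul_eq_mul, Ideal.mul_top, ← Ideal.neg_mem_iff, neg_sub]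
    exact hdiff j hmn
  have hL : ∀ j, ∃ L : A, ∀ m, s (m + D) j ≡ L [SMOD (I ^ m • ⊤ : Submodule A A)] :=
    fun j => IsPrecomplete.prec' _ (hcauchy j)
  choose L hL using hL
  have hzero : y - ∑ j, L j * g j = 0 := by
    have hH : IsHausdorff I A := inferInstance
    apply hH.haus
    intro m
    rw [SModEq.zero, smul_eq_mul, Ideal.mul_top]
    have e : y - ∑ j, L j * g j = Y (m + D) + ∑ j, (s (m + D) j - L j) * g j := by
      have := hys (m + D)
      simp only [sub_mul, Finset.sum_sub_distrib]
      rw [← this]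
      ring
    rw [e]
    refine Ideal.add_mem _ (Ideal.pow_le_pow_right (Nat.le_add_right m D) (hYmem (m + D)).2)
      (Ideal.sum_mem _ fun j _ => Ideal.mul_mem_right _ _ ?_)
    have := hL j m
    rwa [SModEq.sub_mem, smul_eq_mul, Ideal.mul_top] at this
  rw [sub_eq_zero] at hzero
  rw [hzero]
  exact Ideal.sum_mem _ fun j _ => Ideal.mul_mem_left _ _ (Ideal.subset_span ⟨j, rfl⟩)

/-- Elements of `span (range x) * K` are combinations of the `x j` with coefficients in `K`. -/
theorem exists_coeff_of_mem_span_mul {ι : Type*} [Fintype ι] (x : ι → A) (K : Ideal A) {z : A}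
    (hz : z ∈ Ideal.span (Set.range x) * K) :
    ∃ a : ι → A, (∀ j, a j ∈ K) ∧ z = ∑ j, a j * x j := by
  classical
  induction hz using Submodule.mul_induction_on' with
  | mem_mul_mem p hp k hk =>
    obtain ⟨c, rfl⟩ := Ideal.mem_span_range_iff_exists_fun.mp hp
    refine ⟨fun j => c j * k, fun j => K.mul_mem_left _ hk, ?_⟩
    rw [Finset.sum_mul]
    exact Finset.sum_congr rfl fun j _ => by ring
  | add z₁ _ z₂ _ h₁ h₂ =>
    obtain ⟨a₁, ha₁, rfl⟩ := h₁
    obtain ⟨a₂, ha₂, rfl⟩ := h₂
    refine ⟨fun j => a₁ j + a₂ j, fun j => K.add_mem (ha₁ j) (ha₂ j), ?_⟩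
    rw [← Finset.sum_add_distrib]
    exact Finset.sum_congr rfl fun j _ => by ring

/-- If `A` is `I`-adically complete and `I = (x) + I²` then `I = (x)`. -/
theorem eq_span_of_le_span_sup_sq [IsAdicComplete I A] {ι : Type*} [Fintype ι] (x : ι → A)
    (hx : ∀ j, x j ∈ I) (h : I ≤ Ideal.span (Set.range x) ⊔ I ^ 2) :
    I = Ideal.span (Set.range x) := by
  classical
  set J₀ := Ideal.span (Set.range x) with hJ₀
  have hpow : ∀ d : ℕ, I ^ (d + 1) ≤ J₀ * I ^ d ⊔ I ^ (d + 2) := by
    intro d
    induction d with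
    | zero => simpa using h
    | succ d ih =>
      calc I ^ (d + 1 + 1) = I ^ (d + 1) * I := pow_succ _ _
        _ ≤ (J₀ * I ^ d ⊔ I ^ (d + 2)) * I := Ideal.mul_mono_left ih
        _ = J₀ * I ^ (d + 1) ⊔ I ^ (d + 1 + 2) := by
          rw [Ideal.sup_mul, mul_assoc, ← pow_succ, ← pow_succ]
  apply span_eq_of_approx I I x hx 1
  intro d y hy hyd
  have hmem : y ∈ J₀ * I ^ (d - 1) ⊔ I ^ (d + 1) := by
    rcases Nat.eq_zero_or_pos d with rfl | hd
    · have : y ∈ I ^ (0 + 1) := by simpa using hy
      have h2 := hpow 0 this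
      have h3 : J₀ * I ^ 0 ⊔ I ^ (0 + 2) ≤ J₀ * I ^ (0 - 1) ⊔ I ^ (0 + 1) :=
        sup_le_sup_left (Ideal.pow_le_pow_right (by norm_num)) _
      exact h3 h2
    · obtain ⟨e, rfl⟩ : ∃ e, d = e + 1 := ⟨d - 1, by omega⟩
      have h2 := hpow e hyd
      simpa using h2
  obtain ⟨z, hz, w, hw, rfl⟩ := Submodule.mem_sup.mp hmem
  obtain ⟨a, ha, rfl⟩ := exists_coeff_of_mem_span_mul x _ hz
  refine ⟨a, ha, ?_⟩
  simpa using hw

end Approx

section Main

variable {A : Type u} [CommRing A]

/-- A homogeneous polynomial of degree `d` with coefficients in `I = (x)` evaluates at `x` into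
`I ^ (d + 1)`. -/
theorem eval_mem_pow_succ_of_coeff_mem {σ : Type*} [Fintype σ] (x : σ → A)
    (P : MvPolynomial σ A) (d : ℕ)
    (hP : P.IsHomogeneous d) (hc : ∀ m, P.coeff m ∈ Ideal.span (Set.range x)) :
    MvPolynomial.eval x P ∈ Ideal.span (Set.range x) ^ (d + 1) := by
  classical
  rw [MvPolynomial.eval_eq]
  refine Ideal.sum_mem _ fun m hm => ?_
  rw [pow_succ']
  refine Ideal.mul_mem_mul (hc m) ?_
  have hdeg : m.degree = d := by
    by_contra hne
    exact (MvPolynomial.mem_support_iff.mp hm) (hP.coeff_eq_zero hne)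
  have := (Ideal.mem_span_pow_iff_exists_isHomogeneous x
    (MvPolynomial.eval x (MvPolynomial.monomial m (1 : A)))).mpr
      ⟨MvPolynomial.monomial m 1, MvPolynomial.isHomogeneous_monomial 1 hdeg, rfl⟩
  simpa [MvPolynomial.eval_monomial, Finsupp.prod] using this

attribute [local instance] MvPolynomial.gradedAlgebra in
theorem homogeneousComponent_mul_of_isHomogeneous {σ : Type*} {R : Type*} [CommSemiring R]
    (G P : MvPolynomial σ R) (e d : ℕ) (hP : P.IsHomogeneous e) :
    MvPolynomial.homogeneousComponent d (G * P) =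
      if e ≤ d then MvPolynomial.homogeneousComponent (d - e) G * P else 0 := by
  classical
  have hP' : P ∈ MvPolynomial.homogeneousSubmodule σ R e := hP
  have := DirectSum.coe_decompose_mul_of_right_mem (𝒜 := MvPolynomial.homogeneousSubmodule σ R)
    (a := G) d hP'
  simp only [← MvPolynomial.decomposition.decompose'_apply]
  exact this

/-- If `A` is complete for the ideal generated by `x₁, …, xₙ` and the quotient is Noetherian,
then `A` is Noetherian. -/
theorem isNoetherianRing_of_isAdicComplete_span {n : ℕ} (x : Fin n → A)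
    [IsAdicComplete (Ideal.span (Set.range x)) A]
    [IsNoetherianRing (A ⧸ Ideal.span (Set.range x))] : IsNoetherianRing A := by
  classical
  set I := Ideal.span (Set.range x) with hI
  rw [isNoetherianRing_iff_ideal_fg]
  intro 𝔞
  let red : MvPolynomial (Fin n) A →+* MvPolynomial (Fin n) (A ⧸ I) :=
    MvPolynomial.map (Ideal.Quotient.mk I)
  let L : Set (MvPolynomial (Fin n) (A ⧸ I)) :=
    {P | ∃ (d : ℕ) (F : MvPolynomial (Fin n) A), F.IsHomogeneous d ∧
      MvPolynomial.eval x F ∈ 𝔞 ∧ red F = P}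
  have hfg : (Ideal.span L).FG := IsNoetherian.noetherian _
  obtain ⟨s', hs'L, hs'⟩ := (Submodule.fg_span_iff_fg_span_finset_subset L).mp hfg
  have hdata : ∀ P : s', ∃ (d : ℕ) (F : MvPolynomial (Fin n) A), F.IsHomogeneous d ∧
      MvPolynomial.eval x F ∈ 𝔞 ∧ red F = P.1 := fun P => hs'L P.2
  choose dd FF hFh hFa hFr using hdata
  let g : s' → A := fun P => MvPolynomial.eval x (FF P)
  let D : ℕ := Finset.univ.sup dd
  have hD : ∀ P, dd P ≤ D := fun P => Finset.le_sup (Finset.mem_univ P)
  have key : 𝔞 = Ideal.span (Set.range g) := by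
    apply span_eq_of_approx I 𝔞 g hFa D
    intro d y hy hyd
    obtain ⟨F, hF, rfl⟩ := (Ideal.mem_span_pow_iff_exists_isHomogeneous x y).mp hyd
    have hredF : red F ∈ Ideal.span L := Ideal.subset_span ⟨d, F, hF, hy, rfl⟩
    have hredF' : red F ∈ Submodule.span (MvPolynomial (Fin n) (A ⧸ I))
        (s' : Set (MvPolynomial (Fin n) (A ⧸ I))) := by
      rw [← hs']; exact hredF
    obtain ⟨Gbar, hG⟩ := Submodule.mem_span_finset'.mp hredF'
    have hlift : ∀ P, ∃ G : MvPolynomial (Fin n) A, red G = Gbar P :=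
      fun P => MvPolynomial.map_surjective _ Ideal.Quotient.mk_surjective _
    choose G hGl using hlift
    set E := F - ∑ P, G P * FF P with hEdef
    have hE : red E = 0 := by
      rw [hEdef, map_sub, map_sum, ← hG, sub_eq_zero]
      refine Finset.sum_congr rfl fun P _ => ?_
      rw [map_mul, hGl, hFr, smul_eq_mul]
    let a : s' → A := fun P =>
      if dd P ≤ d then MvPolynomial.eval x (MvPolynomial.homogeneousComponent (d - dd P) (G P))
      else 0
    refine ⟨a, ?_, ?_⟩
    · intro P
      by_cases h : dd P ≤ d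
      · simp only [a, if_pos h]
        exact Ideal.pow_le_pow_right (Nat.sub_le_sub_left (hD P) d)
          ((Ideal.mem_span_pow_iff_exists_isHomogeneous x _).mpr
            ⟨_, MvPolynomial.homogeneousComponent_isHomogeneous _ _, rfl⟩)
      · simp only [a, if_neg h]
        exact zero_mem _
    · have hcomp : MvPolynomial.homogeneousComponent d E =
          F - ∑ P, (if dd P ≤ d then MvPolynomial.homogeneousComponent (d - dd P) (G P) else 0)
            * FF P := by
        rw [hEdef, map_sub, map_sum, MvPolynomial.homogeneousComponent_of_mem hF, if_pos rfl]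
        congr 1
        refine Finset.sum_congr rfl fun P _ => ?_
        rw [homogeneousComponent_mul_of_isHomogeneous _ _ (dd P) d (hFh P)]
        split_ifs <;> simp
      have e1 : MvPolynomial.eval x F - ∑ P, a P * g P =
          MvPolynomial.eval x (MvPolynomial.homogeneousComponent d E) := by
        rw [hcomp, map_sub, map_sum]
        congr 1
        refine Finset.sum_congr rfl fun P _ => ?_
        rw [map_mul]
        simp only [a, g]
        split_ifs <;> simp
      rw [e1]
      apply eval_mem_pow_succ_of_coeff_mem x _ d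
        (MvPolynomial.homogeneousComponent_isHomogeneous d E)
      intro m
      rw [MvPolynomial.coeff_homogeneousComponent]
      split_ifs
      · have := congrArg (MvPolynomial.coeff m) hE
        rw [MvPolynomial.coeff_map, MvPolynomial.coeff_zero] at this
        exact Ideal.Quotient.eq_zero_iff_mem.mp this
      · exact zero_mem _
  rw [key]
  exact ⟨Finset.univ.image g, by simp⟩

/-- If `A` is `I`-adically complete with `I` finitely generated and `A ⧸ I` Noetherian, then `A`
is Noetherian. -/
theorem isNoetherianRing_of_isAdicComplete_of_fg (I : Ideal A) (hI : I.FG)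
    [IsAdicComplete I A] [IsNoetherianRing (A ⧸ I)] : IsNoetherianRing A := by
  obtain ⟨n, x, hx⟩ := Submodule.fg_iff_exists_fin_generating_family.mp hI
  subst hx
  exact isNoetherianRing_of_isAdicComplete_span x

end Main

end Groth.Agent.Lib.Helper19

namespace Groth.Agent.Lib.Helper19

/-- The `I`-adic completion of `R` is Noetherian when `I` is finitely generated and `R ⧸ I` is
Noetherian. -/
theorem isNoetherianRing_adicCompletion_of_fg (R : Type u) [CommRing R] (I : Ideal R)
    (hI : I.FG) [IsNoetherianRing (R ⧸ I)] : IsNoetherianRing (AdicCompletion I R) := by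
  haveI h1 : IsAdicComplete I (AdicCompletion I R) := AdicCompletion.isAdicComplete hI
  haveI h2 : IsAdicComplete (I.map (algebraMap R (AdicCompletion I R))) (AdicCompletion I R) :=
    (IsAdicComplete.map_algebraMap_iff (I := I) (S := AdicCompletion I R)
      (M := AdicCompletion I R)).mpr h1
  have hker : RingHom.ker (AdicCompletion.evalOneₐ I).toRingHom =
      I.map (algebraMap R (AdicCompletion I R)) := AdicCompletion.ker_evalOneₐ_eq_map I hI
  have e : (AdicCompletion I R ⧸ I.map (algebraMap R (AdicCompletion I R))) ≃+* (R ⧸ I) :=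
    (Ideal.quotEquivOfEq hker.symm).trans
      (RingHom.quotientKerEquivOfSurjective
        (f := (AdicCompletion.evalOneₐ I).toRingHom) (AdicCompletion.evalOneₐ_surjective I))
  haveI : IsNoetherianRing (AdicCompletion I R ⧸ I.map (algebraMap R (AdicCompletion I R))) :=
    isNoetherianRing_of_ringEquiv (R ⧸ I) e.symm
  exact isNoetherianRing_of_isAdicComplete_of_fg (I.map (algebraMap R (AdicCompletion I R)))
    (hI.map _)

/-- If `A` is `J`-adically complete and `A ⧸ J ^ 2` is Noetherian, then `J` is finitely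
generated. -/
theorem fg_of_isAdicComplete_of_isNoetherianRing_quotient_sq (A : Type u) [CommRing A]
    (J : Ideal A) [IsAdicComplete J A] [IsNoetherianRing (A ⧸ J ^ 2)] : J.FG := by
  classical
  have hfg : (J.map (Ideal.Quotient.mk (J ^ 2))).FG := IsNoetherian.noetherian _
  obtain ⟨n, y, hy⟩ := Submodule.fg_iff_exists_fin_generating_family.mp hfg
  have hyJ : ∀ j, ∃ x ∈ J, Ideal.Quotient.mk (J ^ 2) x = y j := by
    intro j
    have : y j ∈ J.map (Ideal.Quotient.mk (J ^ 2)) := by
      rw [← hy]; exact Submodule.subset_span ⟨j, rfl⟩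
    exact (Ideal.mem_map_iff_of_surjective _ Ideal.Quotient.mk_surjective).mp this
  choose x hxJ hxy using hyJ
  have hle : J ≤ Ideal.span (Set.range x) ⊔ J ^ 2 := by
    intro z hz
    have hz' : Ideal.Quotient.mk (J ^ 2) z ∈ (Ideal.span (Set.range x)).map
        (Ideal.Quotient.mk (J ^ 2)) := by
      rw [Ideal.map_span, ← Set.range_comp]
      have : (⇑(Ideal.Quotient.mk (J ^ 2)) ∘ x) = y := funext hxy
      rw [this]
      change _ ∈ Submodule.span _ _
      rw [hy]
      exact Ideal.mem_map_of_mem _ hz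
    obtain ⟨w, hw, hwz⟩ := (Ideal.mem_map_iff_of_surjective _ Ideal.Quotient.mk_surjective).mp hz'
    have hd : z - w ∈ J ^ 2 := by
      rw [← Ideal.Quotient.eq_zero_iff_mem, map_sub, hwz, sub_self]
    have : z = w + (z - w) := by ring
    rw [this]
    exact Ideal.add_mem _ (Ideal.mem_sup_left hw) (Ideal.mem_sup_right hd)
  have := eq_span_of_le_span_sup_sq J x hxJ hle
  rw [this]
  exact ⟨Finset.univ.image x, by simp⟩

/-- If `A` is `J`-adically complete and `A ⧸ J ^ 2` is Noetherian, then `A` is Noetherian. -/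
theorem isNoetherianRing_of_isAdicComplete_of_quotient_sq (A : Type u) [CommRing A]
    (J : Ideal A) [IsAdicComplete J A] [IsNoetherianRing (A ⧸ J ^ 2)] : IsNoetherianRing A := by
  have hJ : J.FG := fg_of_isAdicComplete_of_isNoetherianRing_quotient_sq A J
  have hle : J ^ 2 ≤ J := Ideal.pow_le_self (by norm_num)
  haveI : IsNoetherianRing (A ⧸ J) :=
    isNoetherianRing_of_surjective (A ⧸ J ^ 2) (A ⧸ J) (Ideal.Quotient.factor hle)
      (Ideal.Quotient.factor_surjective hle)
  exact isNoetherianRing_of_isAdicComplete_of_fg J hJ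

end Groth.Agent.Lib.Helper19
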