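import Mathlib

/-!
# Noetherianity of directed colimits of Noetherian local rings (helper3), part 1: generic lemmas
-/

namespace Groth.Agent.Lib.Helper3.NoethColim

open IsLocalRing TensorProduct

universe u

/-- **Lemma T**: a linear map inducing a bijection modulo `I` becomes bijective after base change
to `A₀ ⧸ I`. -/
theorem baseChange_bijective_of_quot {A₀ : Type*} [CommRing A₀] (I : Ideal A₀) {M N : Type*}
    [AddCommGroup M] [AddCommGroup N] [Module A₀ M] [Module A₀ N] (φ : M →ₗ[A₀] N)
    (h1 : ∀ m, φ m ∈ (I • ⊤ : Submodule A₀ N) → m ∈ (I • ⊤ : Submodule A₀ M))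
    (h2 : ∀ n, ∃ m, n - φ m ∈ (I • ⊤ : Submodule A₀ N)) :
    Function.Bijective (φ.baseChange (A₀ ⧸ I)) := by
  have hle : (I • ⊤ : Submodule A₀ M) ≤ (I • ⊤ : Submodule A₀ N).comap φ := by
    rw [Submodule.smul_le]
    intro r hr m _
    rw [Submodule.mem_comap, map_smul]
    exact Submodule.smul_mem_smul hr Submodule.mem_top
  let ψ : (M ⧸ (I • ⊤ : Submodule A₀ M)) →ₗ[A₀] (N ⧸ (I • ⊤ : Submodule A₀ N)) :=
    Submodule.mapQ _ _ φ hle
  have hψ : Function.Bijective ψ := by
    constructor
    · rw [injective_iff_map_eq_zero]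
      intro x hx
      obtain ⟨m, rfl⟩ := Submodule.Quotient.mk_surjective _ x
      rw [Submodule.mapQ_apply, Submodule.Quotient.mk_eq_zero] at hx
      exact (Submodule.Quotient.mk_eq_zero _).mpr (h1 m hx)
    · intro y
      obtain ⟨n, rfl⟩ := Submodule.Quotient.mk_surjective _ y
      obtain ⟨m, hm⟩ := h2 n
      refine ⟨Submodule.Quotient.mk m, ?_⟩
      rw [Submodule.mapQ_apply]
      exact ((Submodule.Quotient.eq _).mpr hm).symm
  let eM := quotTensorEquivQuotSMul M I
  let eN := quotTensorEquivQuotSMul N I
  have hcomm : ∀ z, eN ((φ.baseChange (A₀ ⧸ I)) z) = ψ (eM z) := by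
    intro z
    induction z using TensorProduct.induction_on with
    | zero => simp
    | tmul a m =>
      obtain ⟨r, rfl⟩ := Ideal.Quotient.mk_surjective a
      rw [LinearMap.baseChange_tmul]
      simp only [eM, eN, quotTensorEquivQuotSMul_mk_tmul]
      rw [Submodule.mapQ_apply, map_smul]
    | add x y hx hy => simp only [map_add, hx, hy]
  have : ⇑(φ.baseChange (A₀ ⧸ I)) = eN.symm ∘ ψ ∘ eM := by
    funext z
    simp only [Function.comp_apply]
    rw [← hcomm, LinearEquiv.symm_apply_apply]
  rw [this]
  exact eN.symm.bijective.comp (hψ.comp eM.bijective)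

/-- Noetherianity descends along faithfully flat ring maps. -/
theorem isNoetherianRing_of_faithfullyFlat (A B : Type*) [CommRing A] [CommRing B] [Algebra A B]
    [Module.FaithfullyFlat A B] [IsNoetherianRing B] : IsNoetherianRing A := by
  let f : Ideal A ↪o Ideal B :=
    OrderEmbedding.ofMapLEIff (Ideal.map (algebraMap A B)) (by
      intro I J
      constructor
      · intro h
        have := Ideal.comap_mono (f := algebraMap A B) h
        rwa [Ideal.comap_map_eq_self_of_faithfullyFlat, Ideal.comap_map_eq_self_of_faithfullyFlat]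
          at this
      · exact fun h => Ideal.map_mono h)
  haveI : WellFoundedGT (Ideal B) := isNoetherian_iff'.mp inferInstance
  exact isNoetherian_iff'.mpr f.wellFoundedGT

end Groth.Agent.Lib.Helper3.NoethColim
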