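import Mathlib
import Groth.Agent.Lib.Helper3NoethColim1
import Groth.Agent.Lib.Helper19ComplNoeth2
import Groth.Agent.Lib.Helper5FinFlat

/-!
# Noetherianity of directed colimits of Noetherian local rings (helper3), part 2
-/

namespace Groth.Agent.Lib.Helper3.NoethColim

open IsLocalRing TensorProduct

universe u

variable {A : Type u} [CommRing A] [IsLocalRing A]

set_option maxHeartbeats 2000000 in
/-- completion of `A` is flat over a Noetherian "stage" `G` over which `A` is flat with
`m_G A = m_A`. -/
theorem flat_adicCompletion_of_stage (G : Type u) [CommRing G] [IsLocalRing G]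
    [IsNoetherianRing G] [Algebra G A] [Module.Flat G A]
    (hmax : (maximalIdeal G).map (algebraMap G A) = maximalIdeal A) :
    Module.Flat G (AdicCompletion (maximalIdeal A) A) := by
  have hfg : (maximalIdeal A).FG := by
    rw [← hmax]
    exact Ideal.FG.map (IsNoetherian.noetherian (maximalIdeal G)) (algebraMap G A)
  haveI : IsNoetherianRing (A ⧸ maximalIdeal A) :=
    inferInstanceAs (IsNoetherianRing (ResidueField A))
  haveI : IsNoetherianRing (AdicCompletion (maximalIdeal A) A) :=
    Groth.Agent.Lib.Helper19.isNoetherianRing_adicCompletion_of_fg A (maximalIdeal A) hfg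
  haveI h1 : IsAdicComplete (maximalIdeal A) (AdicCompletion (maximalIdeal A) A) := AdicCompletion.isAdicComplete hfg
  haveI h2 : IsAdicComplete ((maximalIdeal A).map (algebraMap A (AdicCompletion (maximalIdeal A) A))) (AdicCompletion (maximalIdeal A) A) :=
    (IsAdicComplete.map_algebraMap_iff (I := (maximalIdeal A)) (S := AdicCompletion (maximalIdeal A) A)
      (M := AdicCompletion (maximalIdeal A) A)).mpr h1
  have hjac : (maximalIdeal A).map (algebraMap A (AdicCompletion (maximalIdeal A) A)) ≤ Ideal.jacobson ⊥ :=
    IsAdicComplete.le_jacobson_bot _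
  apply Groth.Agent.Lib.Helper5.flat_of_flat_baseChange_pow_of_le_jacobson (A := G)
    (B := AdicCompletion (maximalIdeal A) A) (AdicCompletion (maximalIdeal A) A) (maximalIdeal G)
  · have : (maximalIdeal G).map (algebraMap G (AdicCompletion (maximalIdeal A) A)) =
        (maximalIdeal A).map (algebraMap A (AdicCompletion (maximalIdeal A) A)) := by
      rw [← hmax, Ideal.map_map]
      rfl
    rw [this]
    exact hjac
  · intro n hn
    let φ : A →ₗ[G] AdicCompletion (maximalIdeal A) A := (AdicCompletion.of (maximalIdeal A) A).restrictScalars G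
    have hφ : ∀ a, φ a = AdicCompletion.of (maximalIdeal A) A a := fun _ => rfl
    -- identification of submodules
    have hsubA : ∀ a : A, a ∈ ((maximalIdeal G) ^ n • ⊤ : Submodule G A) ↔
        a ∈ ((maximalIdeal A) ^ n • ⊤ : Submodule A A) := by
      intro a
      have := Ideal.smul_restrictScalars (R := G) (S := A) (M := A) ((maximalIdeal G) ^ n) ⊤
      rw [Submodule.restrictScalars_top, Ideal.map_pow, hmax] at this
      rw [← this]
      rfl
    have hsubC : ∀ x : AdicCompletion (maximalIdeal A) A,
        x ∈ ((maximalIdeal G) ^ n • ⊤ : Submodule G (AdicCompletion (maximalIdeal A) A)) ↔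
        x ∈ ((maximalIdeal A) ^ n • ⊤ : Submodule A (AdicCompletion (maximalIdeal A) A)) := by
      intro x
      have := Ideal.smul_restrictScalars (R := G) (S := A) (M := AdicCompletion (maximalIdeal A) A)
        ((maximalIdeal G) ^ n) ⊤
      rw [Submodule.restrictScalars_top, Ideal.map_pow, hmax] at this
      rw [← this]
      rfl
    have hbij := baseChange_bijective_of_quot ((maximalIdeal G) ^ n) φ (by
      intro a ha
      rw [hsubC, AdicCompletion.pow_smul_top_eq_ker_eval hfg, LinearMap.mem_ker, hφ,
        AdicCompletion.eval_of, Submodule.mkQ_apply, Submodule.Quotient.mk_eq_zero] at ha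
      exact (hsubA a).mpr ha) (by
      intro x
      obtain ⟨a, ha⟩ := Submodule.Quotient.mk_surjective _ (AdicCompletion.eval (maximalIdeal A) A n x)
      refine ⟨a, ?_⟩
      rw [hsubC, AdicCompletion.pow_smul_top_eq_ker_eval hfg, LinearMap.mem_ker, map_sub, hφ,
        AdicCompletion.eval_of, Submodule.mkQ_apply, ha, sub_self])
    let e := LinearEquiv.ofBijective (φ.baseChange (G ⧸ (maximalIdeal G) ^ n)) hbij
    exact Module.Flat.of_linearEquiv e.symm


set_option maxHeartbeats 2000000 in
/-- **Lemma N**: a local ring covered by Noetherian local "stages" over which it is flat with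
`m_G A = m_A` is Noetherian. -/
theorem isNoetherianRing_of_stages {ι : Type*} [Nonempty ι] (G : ι → Type u)
    [∀ i, CommRing (G i)] [∀ i, IsLocalRing (G i)] [∀ i, IsNoetherianRing (G i)]
    (of : ∀ i, G i →+* A)
    (hcover : ∀ {l : ℕ} (f : Fin l → A), ∃ i, ∃ f' : Fin l → G i, ∀ k, of i (f' k) = f k)
    (hflat : ∀ i, letI := (of i).toAlgebra; Module.Flat (G i) A)
    (hmax : ∀ i, (maximalIdeal (G i)).map (of i) = maximalIdeal A) : IsNoetherianRing A := by
  obtain ⟨i₀⟩ := ‹Nonempty ι›
  have hfg : (maximalIdeal A).FG := by
    rw [← hmax i₀]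
    exact Ideal.FG.map (IsNoetherian.noetherian (maximalIdeal (G i₀))) (of i₀)
  haveI : IsNoetherianRing (A ⧸ maximalIdeal A) :=
    inferInstanceAs (IsNoetherianRing (ResidueField A))
  haveI : IsNoetherianRing (AdicCompletion (maximalIdeal A) A) :=
    Groth.Agent.Lib.Helper19.isNoetherianRing_adicCompletion_of_fg A (maximalIdeal A) hfg
  haveI hflatA : Module.Flat A (AdicCompletion (maximalIdeal A) A) := by
    rw [Module.Flat.iff_forall_isTrivialRelation]
    intro l f x hfx
    obtain ⟨i, f', hf'⟩ := hcover f
    letI := (of i).toAlgebra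
    haveI := hflat i
    have hF : Module.Flat (G i) (AdicCompletion (maximalIdeal A) A) :=
      flat_adicCompletion_of_stage (G i) (hmax i)
    have hsmul : ∀ (g : G i) (z : AdicCompletion (maximalIdeal A) A), g • z = (of i g) • z := by
      intro g z
      rw [Algebra.smul_def, Algebra.smul_def, AdicCompletion.algebraMap_apply,
        AdicCompletion.algebraMap_apply]
      rfl
    have hrel : ∑ k, f' k • x k = 0 := by
      rw [← hfx]
      exact Finset.sum_congr rfl (fun k _ => by rw [hsmul, hf'])
    obtain ⟨m, a, y, hy1, hy2⟩ := Module.Flat.iff_forall_isTrivialRelation.mp hF hrel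
    refine ⟨m, fun k t => of i (a k t), y, ?_, ?_⟩
    · intro k
      rw [hy1 k]
      exact Finset.sum_congr rfl (fun t _ => hsmul _ _)
    · intro t
      have := congrArg (of i) (hy2 t)
      rw [map_sum, map_zero] at this
      rw [← this]
      exact Finset.sum_congr rfl (fun k _ => by rw [map_mul, hf'])
  haveI : Module.FaithfullyFlat A (AdicCompletion (maximalIdeal A) A) := by
    apply Module.FaithfullyFlat.mk
    intro m' hm'
    rw [IsLocalRing.eq_maximalIdeal hm']
    intro htop
    have h1 : ((maximalIdeal A) ^ 1 • ⊤ : Submodule A (AdicCompletion (maximalIdeal A) A)) = ⊤ := by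
      rw [pow_one]; exact htop
    rw [AdicCompletion.pow_smul_top_eq_ker_eval hfg] at h1
    have h2 : AdicCompletion.eval (maximalIdeal A) A 1 (AdicCompletion.of (maximalIdeal A) A 1) = 0 := by
      rw [← LinearMap.mem_ker, h1]
      exact Submodule.mem_top
    rw [AdicCompletion.eval_of, Submodule.mkQ_apply, Submodule.Quotient.mk_eq_zero, pow_one,
      smul_eq_mul, Ideal.mul_top] at h2
    exact (Ideal.ne_top_iff_one _).mp (maximalIdeal.isMaximal A).ne_top h2
  exact isNoetherianRing_of_faithfullyFlat A (AdicCompletion (maximalIdeal A) A)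

end Groth.Agent.Lib.Helper3.NoethColim
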