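import Mathlib
import Groth.Agent.Lib.Helper3HzDim
import Groth.Agent.Lib.Helper3NoethColim2

/-!
# Henselization is Noetherian (helper3)
-/

namespace Groth.Agent.Lib.Helper3.Hz

open IsLocalRing Groth.Agent.Lib.Helper3.EssEt

universe u

variable {R : Type u} [CommRing R] [IsLocalRing R]

theorem isLocalHom_comp_ofL {T : Type*} [CommRing T] [IsLocalRing T] (i : Idx R)
    (G' : Rh R →+* T) (hloc : IsLocalHom (G'.comp (algebraMap R (Rh R)))) :
    IsLocalHom (G'.comp (ofL i)) := by
  constructor
  intro x hx
  by_contra hnx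
  have hxm : x ∈ maximalIdeal i.L := hnx
  rw [← map_maximalIdeal R i.L i.isEssentiallyEtale] at hxm
  have h2 : (G'.comp (ofL i)).comp (algebraMap R i.L) = G'.comp (algebraMap R (Rh R)) := by
    ext r
    simp only [RingHom.comp_apply]
    rw [← algebraMap_eq i]
  have hle : (maximalIdeal R).map (algebraMap R i.L) ≤
      (maximalIdeal T).comap (G'.comp (ofL i)) := by
    rw [Ideal.map_le_iff_le_comap, Ideal.comap_comap, h2]
    exact ((local_hom_TFAE _).out 0 3 rfl rfl).mp hloc
  exact (hle hxm) hx

/-- `Rh R` is also a henselization of each stage `L i`. -/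
theorem isHenselization_L (i : Idx R) :
    letI := (ofL i).toAlgebra
    haveI : IsLocalHom (algebraMap i.L (Rh R)) := inferInstanceAs (IsLocalHom (ofL i))
    Hensel.IsHenselization i.L (Rh R) := by
  letI := (ofL i).toAlgebra
  haveI : IsLocalHom (algebraMap i.L (Rh R)) := inferInstanceAs (IsLocalHom (ofL i))
  refine ⟨henselian, ?_⟩
  intro T _ _ f hf
  haveI : IsLocalHom (f.comp (algebraMap R i.L)) := RingHom.isLocalHom_comp _ _
  obtain ⟨g, hg, huniq⟩ := universal (R := R) T (f.comp (algebraMap R i.L)) inferInstance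
  have hgi : g.comp (ofL i) = f := by
    obtain ⟨ψ, -, hψ⟩ := Groth.Agent.S2778.result R i.L i.isStrict T (f.comp (algebraMap R i.L))
    have h1 : g.comp (ofL i) = ψ := by
      apply hψ
      refine ⟨isLocalHom_comp_ofL i g (by rw [hg]; infer_instance), ?_⟩
      ext r
      simp only [RingHom.comp_apply]
      rw [← algebraMap_eq i]
      exact congrArg (fun φ => φ r) hg
    have h2 : f = ψ := hψ f ⟨hf, rfl⟩
    rw [h1, h2]
  refine ⟨g, hgi, ?_⟩
  intro g' hg'
  apply huniq
  have : (algebraMap R (Rh R)) = (ofL i).comp (algebraMap R i.L) := by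
    ext r
    exact algebraMap_eq i r
  rw [this, ← RingHom.comp_assoc]
  congr 1

/-- `Rh R` is flat over each stage. -/
theorem flat_over_L (i : Idx R) :
    letI := (ofL i).toAlgebra
    Module.Flat i.L (Rh R) := by
  letI := (ofL i).toAlgebra
  haveI : IsLocalHom (algebraMap i.L (Rh R)) := inferInstanceAs (IsLocalHom (ofL i))
  haveI := isHenselization_L i
  obtain ⟨e⟩ := nonempty_algEquiv (R := i.L) (Rh R)
  exact Module.Flat.of_linearEquiv e.toLinearEquiv

theorem maximalIdeal_eq_map :
    maximalIdeal (Rh R) = (maximalIdeal R).map (algebraMap R (Rh R)) := by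
  apply le_antisymm
  · intro z hz
    obtain ⟨j, x, rfl⟩ := exists_ofL z
    rw [ofL_mem_maximalIdeal_iff, ← map_maximalIdeal R j.L j.isEssentiallyEtale] at hz
    have := Ideal.mem_map_of_mem (ofL j) hz
    rw [Ideal.map_map] at this
    have h2 : (ofL j).comp (algebraMap R j.L) = algebraMap R (Rh R) := by
      ext r
      exact (algebraMap_eq j r).symm
    rwa [h2] at this
  · exact ((local_hom_TFAE (algebraMap R (Rh R))).out 0 2 rfl rfl).mp inferInstance

theorem map_maximalIdeal_L (i : Idx R) :
    (maximalIdeal i.L).map (ofL i) = maximalIdeal (Rh R) := by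
  apply le_antisymm
  · exact ((local_hom_TFAE (ofL i)).out 0 2 rfl rfl).mp inferInstance
  · rw [maximalIdeal_eq_map]
    have h2 : algebraMap R (Rh R) = (ofL i).comp (algebraMap R i.L) := by
      ext r
      exact algebraMap_eq i r
    rw [h2, ← Ideal.map_map]
    exact Ideal.map_mono (((local_hom_TFAE (algebraMap R i.L)).out 0 2 rfl rfl).mp inferInstance)

instance isNoetherianRing_L [IsNoetherianRing R] (i : Idx R) : IsNoetherianRing i.L := by
  haveI : IsNoetherianRing i.C := Algebra.FiniteType.isNoetherianRing R i.C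
  exact IsLocalization.isNoetherianRing i.Q.primeCompl i.L inferInstance

instance isNoetherianRing [IsNoetherianRing R] : IsNoetherianRing (Rh R) :=
  NoethColim.isNoetherianRing_of_stages (fun i : Idx R => i.L) (fun i => ofL i)
    (fun f => exists_ofL_fin f) (fun i => flat_over_L i) (fun i => map_maximalIdeal_L i)

end Groth.Agent.Lib.Helper3.Hz
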