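import Mathlib
import Groth.Agent.Lib.Helper3ShG
import Groth.Agent.Lib.Helper3NoethColim2

/-!
# Strict henselization is Noetherian (helper3)
-/

namespace Groth.Agent.Lib.Helper3.Sh

open IsLocalRing Groth.Agent.Lib.Helper3.EssEt

universe u

variable {R : Type u} [CommRing R] [IsLocalRing R] {Ω : Type u} [Field Ω] [Algebra R Ω]
  [Algebra (ResidueField R) Ω] [IsScalarTower R (ResidueField R) Ω]

theorem algebraMap_eq_comp (i : Idx R Ω) :
    algebraMap R (Rsh R Ω) = (ofL i).comp (algebraMap R i.L) := (ofL_comp_algebraMap i).symm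

set_option maxHeartbeats 1000000 in
/-- `Rsh R Ω` is also a strict henselization of each stage `L i`. -/
theorem isStrictHenselization_L [IsSepClosure (ResidueField R) Ω] (i : Idx R Ω) :
    letI := (ofL i).toAlgebra
    haveI : IsLocalHom (algebraMap i.L (Rsh R Ω)) := inferInstanceAs (IsLocalHom (ofL i))
    Hensel.IsStrictHenselization i.L (Rsh R Ω) := by
  letI := (ofL i).toAlgebra
  haveI : IsLocalHom (algebraMap i.L (Rsh R Ω)) := inferInstanceAs (IsLocalHom (ofL i))
  haveI : IsScalarTower R i.L (Rsh R Ω) := IsScalarTower.of_algebraMap_eq (fun r => algebraMap_eq i r)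
  have hmapeq : algebraMap i.L (Rsh R Ω) = ofL i := rfl
  refine ⟨henselian, ?_, ?_⟩
  · haveI := isSepClosure (R := R) (Ω := Ω)
    haveI : IsSepClosed (ResidueField (Rsh R Ω)) := IsSepClosure.sep_closed (ResidueField R)
    haveI : Algebra.IsSeparable (ResidueField R) (ResidueField (Rsh R Ω)) := IsSepClosure.separable
    exact ⟨inferInstance, Algebra.isSeparable_tower_top_of_isSeparable (ResidueField R)
      (ResidueField i.L) (ResidueField (Rsh R Ω))⟩
  · intro T _ _ f _ τ hτ
    haveI : IsLocalHom (f.comp (algebraMap R i.L)) := RingHom.isLocalHom_comp _ _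
    have hτ' : τ.comp (ResidueField.map (algebraMap R (Rsh R Ω))) =
        ResidueField.map (f.comp (algebraMap R i.L)) := by
      ext x
      obtain ⟨r, rfl⟩ := residue_surjective x
      have h1 := congrArg (fun φ => φ (residue _ (algebraMap R i.L r))) hτ
      simp only [RingHom.comp_apply, ResidueField.map_residue] at h1 ⊢
      rw [← h1, hmapeq, algebraMap_eq i]
    obtain ⟨g, ⟨hg1, hg2⟩, huniq⟩ := universal (R := R) (Ω := Ω) T (f.comp (algebraMap R i.L)) τ hτ'
    have hloc : ∀ (G' : Rsh R Ω →+* T), (∀ x, residue T (G' x) = τ (residue _ x)) →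
        IsLocalHom (G'.comp (ofL i)) := by
      intro G' hG'
      constructor
      intro x hx
      by_contra hnx
      have hxm : x ∈ maximalIdeal i.L := hnx
      have h4 : residue T ((G'.comp (ofL i)) x) = 0 := by
        rw [RingHom.comp_apply, hG']
        have : ofL i x ∈ maximalIdeal (Rsh R Ω) := ofL_mem_maximalIdeal_iff.mpr hxm
        rw [(residue_eq_zero_iff _).mpr this, map_zero]
      rw [residue_eq_zero_iff] at h4
      exact h4 hx
    have hα : (τ.comp (ResidueField.map (ofL i))).comp (ResidueField.map (algebraMap R i.L)) =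
        ResidueField.map (f.comp (algebraMap R i.L)) := by
      ext x
      obtain ⟨r, rfl⟩ := residue_surjective x
      have h1 := congrArg (fun φ => φ (residue _ (algebraMap R i.L r))) hτ
      simp only [RingHom.comp_apply, ResidueField.map_residue] at h1 ⊢
      rw [← h1, hmapeq]
    obtain ⟨ψ, -, hψ⟩ := existsUnique_lift R i.L i.isEssentiallyEtale T (f.comp (algebraMap R i.L))
      (τ.comp (ResidueField.map (ofL i))) hα
    have hgi : g.comp (ofL i) = f := by
      have h1 : g.comp (ofL i) = ψ := by
        apply hψ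
        refine ⟨hloc g hg2, ?_, ?_⟩
        · rw [RingHom.comp_assoc, ofL_comp_algebraMap, hg1]
        · intro x
          simp only [RingHom.comp_apply, ResidueField.map_residue]
          exact hg2 _
      have h2 : f = ψ := by
        apply hψ
        refine ⟨inferInstance, rfl, ?_⟩
        intro x
        have h1 := congrArg (fun φ => φ (residue _ x)) hτ
        simp only [RingHom.comp_apply, ResidueField.map_residue] at h1 ⊢
        rw [← h1, hmapeq]
      rw [h1, h2]
    refine ⟨g, ⟨hgi, hg2⟩, ?_⟩
    rintro g' ⟨hg'1, hg'2⟩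
    apply huniq
    refine ⟨?_, hg'2⟩
    rw [algebraMap_eq_comp i, ← RingHom.comp_assoc]
    congr 1


set_option maxHeartbeats 1000000 in
/-- `Rsh R Ω` is flat over each stage. -/
theorem flat_over_L [IsSepClosure (ResidueField R) Ω] (i : Idx R Ω) :
    letI := (ofL i).toAlgebra
    Module.Flat i.L (Rsh R Ω) := by
  letI := (ofL i).toAlgebra
  haveI : IsLocalHom (algebraMap i.L (Rsh R Ω)) := inferInstanceAs (IsLocalHom (ofL i))
  haveI := isStrictHenselization_L i
  letI a1 : Algebra i.L Ω := i.toΩ.toRingHom.toAlgebra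
  letI a2 : Algebra (ResidueField i.L) Ω := i.embL.toRingHom.toAlgebra
  haveI : IsScalarTower i.L (ResidueField i.L) Ω := IsScalarTower.of_algebraMap_eq (fun x => rfl)
  haveI : IsScalarTower (ResidueField R) (ResidueField i.L) Ω := by
    refine IsScalarTower.of_algebraMap_eq (fun x => ?_)
    obtain ⟨r, rfl⟩ := residue_surjective x
    have h1 : algebraMap (ResidueField i.L) Ω (algebraMap (ResidueField R) (ResidueField i.L)
        (residue R r)) = i.embL (residue _ (algebraMap R i.L r)) := rfl
    rw [h1, ← Idx.toΩ_apply, AlgHom.commutes]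
    exact (IsScalarTower.algebraMap_apply R (ResidueField R) Ω r).symm
  haveI : IsSepClosed Ω := IsSepClosure.sep_closed (ResidueField R)
  haveI : Algebra.IsSeparable (ResidueField R) Ω := IsSepClosure.separable
  haveI : IsSepClosure (ResidueField i.L) Ω :=
    ⟨inferInstance, Algebra.isSeparable_tower_top_of_isSeparable (ResidueField R)
      (ResidueField i.L) Ω⟩
  obtain ⟨e⟩ := nonempty_algEquiv (R := i.L) (Ω := Ω) (Rsh R Ω)
  exact Module.Flat.of_linearEquiv e.toLinearEquiv

theorem maximalIdeal_eq_map :
    maximalIdeal (Rsh R Ω) = (maximalIdeal R).map (algebraMap R (Rsh R Ω)) := by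
  apply le_antisymm
  · intro z hz
    obtain ⟨j, x, rfl⟩ := exists_ofL z
    rw [ofL_mem_maximalIdeal_iff, ← map_maximalIdeal R j.L j.isEssentiallyEtale] at hz
    have := Ideal.mem_map_of_mem (ofL j) hz
    rw [Ideal.map_map, ofL_comp_algebraMap] at this
    exact this
  · exact ((local_hom_TFAE (algebraMap R (Rsh R Ω))).out 0 2 rfl rfl).mp inferInstance

theorem map_maximalIdeal_L (i : Idx R Ω) :
    (maximalIdeal i.L).map (ofL i) = maximalIdeal (Rsh R Ω) := by
  apply le_antisymm
  · exact ((local_hom_TFAE (ofL i)).out 0 2 rfl rfl).mp inferInstance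
  · rw [maximalIdeal_eq_map, algebraMap_eq_comp i, ← Ideal.map_map]
    exact Ideal.map_mono (((local_hom_TFAE (algebraMap R i.L)).out 0 2 rfl rfl).mp inferInstance)

omit [Algebra (ResidueField R) Ω] [IsScalarTower R (ResidueField R) Ω] in
instance isNoetherianRing_L [IsNoetherianRing R] (i : Idx R Ω) : IsNoetherianRing i.L := by
  haveI : IsNoetherianRing i.C := Algebra.FiniteType.isNoetherianRing R i.C
  exact IsLocalization.isNoetherianRing i.Q.primeCompl i.L inferInstance

instance isNoetherianRing [IsSepClosure (ResidueField R) Ω] [IsNoetherianRing R] :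
    IsNoetherianRing (Rsh R Ω) :=
  NoethColim.isNoetherianRing_of_stages (fun i : Idx R Ω => i.L) (fun i => ofL i)
    (fun f => exists_ofL_fin f) (fun i => flat_over_L i) (fun i => map_maximalIdeal_L i)

end Groth.Agent.Lib.Helper3.Sh
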