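import Mathlib
import Groth.Agent.Lib.Helper3HzN
import Groth.Agent.Lib.Helper3ShN

/-!
# Properties of an arbitrary (strict) henselization, transported from the models (helper3)
-/

namespace Groth.Agent.Lib.Helper3.HzP

open IsLocalRing

universe u

/-- transport of `m_R T = m_T` along an `R`-algebra isomorphism of local rings. -/
theorem map_maximalIdeal_of_algEquiv {R S T : Type*} [CommRing R] [IsLocalRing R] [CommRing S]
    [IsLocalRing S] [CommRing T] [IsLocalRing T] [Algebra R S] [Algebra R T] (e : S ≃ₐ[R] T)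
    (h : (maximalIdeal R).map (algebraMap R T) = maximalIdeal T) :
    (maximalIdeal R).map (algebraMap R S) = maximalIdeal S := by
  have h1 : (maximalIdeal T).map (e.symm : T →+* S) = maximalIdeal S := by
    apply le_antisymm
    · rw [Ideal.map_le_iff_le_comap]
      intro x hx
      rw [Ideal.mem_comap, mem_maximalIdeal, mem_nonunits_iff]
      intro hu
      have : IsUnit (e (e.symm x)) := hu.map e
      rw [e.apply_symm_apply] at this
      exact hx this
    · intro x hx
      have h2 : e x ∈ maximalIdeal T := by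
        rw [mem_maximalIdeal, mem_nonunits_iff]
        intro hu
        have : IsUnit (e.symm (e x)) := hu.map e.symm
        rw [e.symm_apply_apply] at this
        exact hx this
      have := Ideal.mem_map_of_mem (e.symm : T →+* S) h2
      simpa using this
  rw [← h1, ← h, Ideal.map_map]
  congr 1
  ext r
  simp

section Hz

variable (R : Type u) [CommRing R] [IsLocalRing R] (S : Type u) [CommRing S] [IsLocalRing S]
    [Algebra R S] [IsLocalHom (algebraMap R S)] [Hensel.IsHenselization R S]

theorem hz_map_maximalIdeal : (maximalIdeal R).map (algebraMap R S) = maximalIdeal S := by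
  obtain ⟨e⟩ := Hz.nonempty_algEquiv (R := R) S
  exact map_maximalIdeal_of_algEquiv e Hz.maximalIdeal_eq_map.symm

theorem hz_faithfullyFlat : Module.FaithfullyFlat R S := by
  obtain ⟨e⟩ := Hz.nonempty_algEquiv (R := R) S
  exact Module.FaithfullyFlat.of_linearEquiv R (Hz.Rh R) e.toLinearEquiv

theorem hz_isNoetherianRing [IsNoetherianRing R] : IsNoetherianRing S := by
  obtain ⟨e⟩ := Hz.nonempty_algEquiv (R := R) S
  exact isNoetherianRing_of_ringEquiv (Hz.Rh R) e.symm.toRingEquiv

theorem hz_ringKrullDim_eq : ringKrullDim S = ringKrullDim R := by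
  obtain ⟨e⟩ := Hz.nonempty_algEquiv (R := R) S
  rw [ringKrullDim_eq_of_ringEquiv e.toRingEquiv]
  exact Hz.ringKrullDim_eq

theorem hz_incomparable (P Q : Ideal S) [P.IsPrime] [Q.IsPrime] (hPQ : P ≤ Q)
    (h : P.under R = Q.under R) : P = Q := by
  obtain ⟨e⟩ := Hz.nonempty_algEquiv (R := R) S
  have hP : P = (P.comap (e.symm : Hz.Rh R →+* S)).comap (e : S →+* Hz.Rh R) := by
    ext x; simp
  have hQ : Q = (Q.comap (e.symm : Hz.Rh R →+* S)).comap (e : S →+* Hz.Rh R) := by
    ext x; simp
  haveI : (P.comap (e.symm : Hz.Rh R →+* S)).IsPrime := Ideal.comap_isPrime _ _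
  haveI : (Q.comap (e.symm : Hz.Rh R →+* S)).IsPrime := Ideal.comap_isPrime _ _
  have key := Hz.incomparable (P.comap (e.symm : Hz.Rh R →+* S))
    (Q.comap (e.symm : Hz.Rh R →+* S)) (Ideal.comap_mono hPQ) (by
      ext r
      have := congrArg (fun I : Ideal R => r ∈ I) h
      simpa [Ideal.under] using this)
  rw [hP, hQ, key]

end Hz

section Sh

variable (R : Type u) [CommRing R] [IsLocalRing R] (S : Type u) [CommRing S] [IsLocalRing S]
    [Algebra R S] [IsLocalHom (algebraMap R S)] [Hensel.IsStrictHenselization R S]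

/-- the standard model of the strict henselization -/
theorem sh_exists_model : ∃ (Ω : Type u) (_ : Field Ω) (_ : Algebra R Ω)
    (_ : Algebra (ResidueField R) Ω) (_ : IsScalarTower R (ResidueField R) Ω)
    (_ : IsSepClosure (ResidueField R) Ω), Nonempty (S ≃ₐ[R] Sh.Rsh R Ω) := by
  let Ω := SeparableClosure (ResidueField R)
  letI : Algebra R Ω := ((algebraMap (ResidueField R) Ω).comp (residue R)).toAlgebra
  haveI : IsScalarTower R (ResidueField R) Ω := IsScalarTower.of_algebraMap_eq (fun _ => rfl)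
  exact ⟨Ω, inferInstance, inferInstance, inferInstance, inferInstance, inferInstance,
    Sh.nonempty_algEquiv (R := R) (Ω := Ω) S⟩

theorem sh_map_maximalIdeal : (maximalIdeal R).map (algebraMap R S) = maximalIdeal S := by
  obtain ⟨Ω, _, _, _, _, _, ⟨e⟩⟩ := sh_exists_model R S
  exact map_maximalIdeal_of_algEquiv e Sh.maximalIdeal_eq_map.symm

theorem sh_faithfullyFlat : Module.FaithfullyFlat R S := by
  obtain ⟨Ω, _, _, _, _, _, ⟨e⟩⟩ := sh_exists_model R S
  exact Module.FaithfullyFlat.of_linearEquiv R (Sh.Rsh R Ω) e.toLinearEquiv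

theorem sh_isNoetherianRing [IsNoetherianRing R] : IsNoetherianRing S := by
  obtain ⟨Ω, _, _, _, _, _, ⟨e⟩⟩ := sh_exists_model R S
  exact isNoetherianRing_of_ringEquiv (Sh.Rsh R Ω) e.symm.toRingEquiv

theorem sh_ringKrullDim_eq : ringKrullDim S = ringKrullDim R := by
  obtain ⟨Ω, _, _, _, _, _, ⟨e⟩⟩ := sh_exists_model R S
  rw [ringKrullDim_eq_of_ringEquiv e.toRingEquiv]
  exact Sh.ringKrullDim_eq

theorem sh_incomparable (P Q : Ideal S) [P.IsPrime] [Q.IsPrime] (hPQ : P ≤ Q)
    (h : P.under R = Q.under R) : P = Q := by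
  obtain ⟨Ω, _, _, _, _, _, ⟨e⟩⟩ := sh_exists_model R S
  have hP : P = (P.comap (e.symm : Sh.Rsh R Ω →+* S)).comap (e : S →+* Sh.Rsh R Ω) := by
    ext x; simp
  have hQ : Q = (Q.comap (e.symm : Sh.Rsh R Ω →+* S)).comap (e : S →+* Sh.Rsh R Ω) := by
    ext x; simp
  haveI : (P.comap (e.symm : Sh.Rsh R Ω →+* S)).IsPrime := Ideal.comap_isPrime _ _
  haveI : (Q.comap (e.symm : Sh.Rsh R Ω →+* S)).IsPrime := Ideal.comap_isPrime _ _
  have key := Sh.incomparable (P.comap (e.symm : Sh.Rsh R Ω →+* S))
    (Q.comap (e.symm : Sh.Rsh R Ω →+* S)) (Ideal.comap_mono hPQ) (by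
      ext r
      have := congrArg (fun I : Ideal R => r ∈ I) h
      simpa [Ideal.under] using this)
  rw [hP, hQ, key]

end Sh

end Groth.Agent.Lib.Helper3.HzP
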