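import Mathlib
import Groth.Prelude.Def_PBC

set_option autoImplicit false

open CategoryTheory CategoryTheory.Limits TensorProduct

universe u

namespace Groth.Agent.Lib.Helper3.IndEt

attribute [local instance] IsFiltered.isConnected

/-- Recognizing filtered colimits in `Under (CommRingCat.of A)` elementwise. -/
theorem nonempty_isColimit_under {A : Type u} [CommRing A] {J : Type u} [SmallCategory J]
    [IsFiltered J] (D : J ⥤ Under (CommRingCat.of A)) (c : Cocone D)
    (hsurj : ∀ x : c.pt.right, ∃ (j : J) (y : (D.obj j).right), (c.ι.app j).right y = x)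
    (hinj : ∀ (j : J) (y : (D.obj j).right), (c.ι.app j).right y = 0 →
      ∃ (k : J) (g : j ⟶ k), (D.map g).right y = 0) :
    Nonempty (IsColimit c) := by
  let F : J ⥤ CommRingCat.{u} := D ⋙ Under.forget _
  let c1 : Cocone F := (Under.forget _).mapCocone c
  let c2 : Cocone (F ⋙ forget CommRingCat) := (forget CommRingCat).mapCocone c1
  have h2 : IsColimit c2 := by
    refine Types.FilteredColimit.isColimitOf' _ c2 ?_ ?_
    · intro x
      obtain ⟨j, y, hy⟩ := hsurj x
      exact ⟨j, y, hy.symm⟩
    · intro j (x : (D.obj j).right) (y : (D.obj j).right) hxy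
      have hxy' : (c.ι.app j).right x = (c.ι.app j).right y := hxy
      have h0 : (c.ι.app j).right (x - y) = 0 := by
        rw [map_sub, hxy', sub_self]
      obtain ⟨k, g, hg⟩ := hinj j (x - y) h0
      refine ⟨k, g, ?_⟩
      show (D.map g).right x = (D.map g).right y
      rw [map_sub, sub_eq_zero] at hg
      exact hg
  haveI : PreservesColimit F (forget CommRingCat) :=
    (PreservesFilteredColimitsOfSize.preserves_filtered_colimits (F := forget CommRingCat.{u}) J).preservesColimit
  haveI : ReflectsColimit F (forget CommRingCat) :=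
    reflectsColimit_of_reflectsIsomorphisms F (forget CommRingCat)
  have h1 : IsColimit c1 := isColimitOfReflects (forget CommRingCat) h2
  exact ⟨isColimitOfReflects (Under.forget _) h1⟩

/-- Constructing `IsIndEtale` from elementary filtered data. -/
theorem isIndEtale_of_filtered {A B : Type u} [CommRing A] [CommRing B] [Algebra A B]
    {J : Type u} [SmallCategory J] [IsFiltered J]
    (R : J → Type u) [∀ j, CommRing (R j)] [∀ j, Algebra A (R j)] [∀ j, Algebra.Etale A (R j)]
    (t : ∀ {j k : J}, (j ⟶ k) → (R j →ₐ[A] R k))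
    (t_id : ∀ j, t (𝟙 j) = AlgHom.id A (R j))
    (t_comp : ∀ {j k l : J} (f : j ⟶ k) (g : k ⟶ l), t (f ≫ g) = (t g).comp (t f))
    (ι : ∀ j, R j →ₐ[A] B)
    (compat : ∀ {j k : J} (g : j ⟶ k) (x : R j), ι k (t g x) = ι j x)
    (surj : ∀ b : B, ∃ j x, ι j x = b)
    (inj : ∀ j (x : R j), ι j x = 0 → ∃ k, ∃ g : j ⟶ k, t g x = 0) :
    EtPBC.IsIndEtale A B := by
  letI instR : ∀ j, Algebra (CommRingCat.of A) (R j) := fun j => inferInstanceAs (Algebra A (R j))
  letI instB : Algebra (CommRingCat.of A) B := inferInstanceAs (Algebra A B)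
  let D : J ⥤ Under (CommRingCat.of A) :=
    { obj := fun j => CommRingCat.mkUnder (CommRingCat.of A) (R j)
      map := fun {j k} g => AlgHom.toUnder (R := CommRingCat.of A) (t g)
      map_id := fun j => by
        rw [t_id]
        rfl
      map_comp := fun {j k l} f g => by
        rw [t_comp]
        rfl }
  let c : Cocone D :=
    { pt := CommRingCat.mkUnder (CommRingCat.of A) B
      ι :=
        { app := fun j => AlgHom.toUnder (R := CommRingCat.of A) (ι j)
          naturality := fun j k g => by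
            apply CommRingCat.mkUnder_ext
            intro x
            exact compat g x } }
  obtain ⟨hc⟩ := nonempty_isColimit_under D c
    (fun x => by
      obtain ⟨j, y, hy⟩ := surj x
      exact ⟨j, y, hy⟩)
    (fun j y hy => by
      obtain ⟨k, g, hg⟩ := inj j y hy
      exact ⟨k, g, hg⟩)
  refine ⟨J, inferInstance, inferInstance, D, c, hc, fun j => ?_, ⟨Iso.refl _⟩⟩
  show @Algebra.Etale A (R j) _ _ (RingHom.toAlgebra (algebraMap A (R j)))
  convert (inferInstance : Algebra.Etale A (R j))
  exact Algebra.algebra_ext _ _ (fun r => rfl)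

theorem etale_tensor (A E F : Type*) [CommRing A] [CommRing E] [CommRing F] [Algebra A E]
    [Algebra A F] [Algebra.Etale A E] [Algebra.Etale A F] : Algebra.Etale A (E ⊗[A] F) :=
  Algebra.Etale.comp A E (E ⊗[A] F)

section crit

variable (A B : Type u) [CommRing A] [CommRing B] [Algebra A B]

/-- Presented étale `A`-algebras with a map to `B`. -/
structure Obj where
  n : ℕ
  I : Ideal (MvPolynomial (Fin n) A)
  etale : Algebra.Etale A (MvPolynomial (Fin n) A ⧸ I)
  φ : (MvPolynomial (Fin n) A ⧸ I) →ₐ[A] B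

namespace Obj

variable {A B}

/-- the underlying algebra -/
abbrev E (j : Obj A B) : Type u := MvPolynomial (Fin j.n) A ⧸ j.I

instance (j : Obj A B) : Algebra.Etale A j.E := j.etale

noncomputable instance : SmallCategory (Obj A B) where
  Hom j k := {f : j.E →ₐ[A] k.E // k.φ.comp f = j.φ}
  id j := ⟨AlgHom.id A _, AlgHom.comp_id _⟩
  comp f g := ⟨g.1.comp f.1, by rw [← AlgHom.comp_assoc, g.2, f.2]⟩
  id_comp _ := Subtype.ext (AlgHom.comp_id _)
  comp_id _ := Subtype.ext (AlgHom.id_comp _)
  assoc _ _ _ := Subtype.ext (AlgHom.comp_assoc _ _ _).symm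

theorem comp_val {j k l : Obj A B} (f : j ⟶ k) (g : k ⟶ l) : (f ≫ g).1 = g.1.comp f.1 := rfl

theorem id_val (j : Obj A B) : (𝟙 j : j ⟶ j).1 = AlgHom.id A j.E := rfl

variable (A) in
theorem exists_obj {E : Type u} [CommRing E] [Algebra A E] [Algebra.Etale A E] (φ : E →ₐ[A] B) :
    ∃ (j : Obj A B) (e : j.E ≃ₐ[A] E), φ.comp (e : j.E →ₐ[A] E) = j.φ := by
  obtain ⟨n, f, hf, -⟩ := Algebra.FinitePresentation.out (R := A) (A := E)
  let e := Ideal.quotientKerAlgEquivOfSurjective hf
  exact ⟨⟨n, RingHom.ker f, Algebra.Etale.of_equiv e.symm, φ.comp e⟩, e, rfl⟩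

/-- The factorization hypothesis: every map from a finitely presented algebra to `B` factors
through an étale algebra. -/
def Factor (A B : Type u) [CommRing A] [CommRing B] [Algebra A B] : Prop :=
  ∀ (P : Type u) [CommRing P] [Algebra A P] [Algebra.FinitePresentation A P] (ψ : P →ₐ[A] B),
    ∃ (E : Type u) (_ : CommRing E) (_ : Algebra A E) (_ : Algebra.Etale A E) (f : P →ₐ[A] E)
      (g : E →ₐ[A] B), g.comp f = ψ

/-- killing finitely generated ideals inside the kernel -/
theorem exists_hom_of_span (H : Factor A B) (k : Obj A B) (K : Ideal k.E) (hK : K.FG)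
    (hker : ∀ x ∈ K, k.φ x = 0) : ∃ (l : Obj A B) (h : k ⟶ l), ∀ x ∈ K, h.1 x = 0 := by
  haveI : Algebra.FinitePresentation A (k.E ⧸ K) := Algebra.FinitePresentation.quotient hK
  let ψ : (k.E ⧸ K) →ₐ[A] B := Ideal.Quotient.liftₐ K k.φ hker
  obtain ⟨E', _, _, _, f', g', hfg⟩ := H (k.E ⧸ K) ψ
  obtain ⟨l, e, he⟩ := exists_obj A g'
  refine ⟨l, ⟨((e.symm : E' →ₐ[A] l.E).comp f').comp (Ideal.Quotient.mkₐ A K), ?_⟩, ?_⟩
  · rw [← he]
    apply AlgHom.ext
    intro x
    show g' (e (e.symm (f' (Ideal.Quotient.mk K x)))) = k.φ x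
    rw [e.apply_symm_apply]
    have := congr($hfg (Ideal.Quotient.mk K x))
    rw [AlgHom.comp_apply] at this
    rw [this]
    rfl
  · intro x hx
    show (e.symm : E' →ₐ[A] l.E) (f' (Ideal.Quotient.mk K x)) = 0
    rw [Ideal.Quotient.eq_zero_iff_mem.mpr hx, map_zero, map_zero]

theorem isFiltered (H : Factor A B) : IsFiltered (Obj A B) := by
  haveI : Nonempty (Obj A B) := by
    obtain ⟨j, -, -⟩ := exists_obj A (Algebra.ofId A B)
    exact ⟨j⟩
  haveI : IsFilteredOrEmpty (Obj A B) := by
    refine ⟨fun j k => ?_, fun j k f g => ?_⟩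
    · haveI := etale_tensor A j.E k.E
      obtain ⟨l, e, he⟩ := exists_obj A (E := j.E ⊗[A] k.E)
        (Algebra.TensorProduct.productMap j.φ k.φ)
      refine ⟨l, ⟨(e.symm : j.E ⊗[A] k.E →ₐ[A] l.E).comp Algebra.TensorProduct.includeLeft, ?_⟩,
        ⟨(e.symm : j.E ⊗[A] k.E →ₐ[A] l.E).comp Algebra.TensorProduct.includeRight, ?_⟩, trivial⟩
      · rw [← he]
        ext x
        simp
      · rw [← he]
        ext x
        simp
    · classical
      let K : Ideal k.E := Ideal.span (Set.range fun i : Fin j.n =>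
        f.1 (Ideal.Quotient.mk j.I (MvPolynomial.X i)) - g.1 (Ideal.Quotient.mk j.I (MvPolynomial.X i)))
      have hK : K.FG := Submodule.fg_span (Set.finite_range _)
      have hker : ∀ x ∈ K, k.φ x = 0 := by
        intro x hx
        have hle : K ≤ RingHom.ker k.φ.toRingHom := by
          rw [Ideal.span_le]
          rintro _ ⟨i, rfl⟩
          show k.φ _ = 0
          rw [map_sub, sub_eq_zero]
          have h1 := congr($(f.2) (Ideal.Quotient.mk j.I (MvPolynomial.X i)))
          have h2 := congr($(g.2) (Ideal.Quotient.mk j.I (MvPolynomial.X i)))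
          rw [AlgHom.comp_apply] at h1 h2
          rw [h1, h2]
        exact hle hx
      obtain ⟨l, h, hh⟩ := exists_hom_of_span H k K hK hker
      refine ⟨l, h, Subtype.ext ?_⟩
      rw [comp_val, comp_val]
      apply Ideal.Quotient.algHom_ext
      apply MvPolynomial.algHom_ext
      intro i
      have := hh _ (Ideal.subset_span ⟨i, rfl⟩)
      rw [map_sub, sub_eq_zero] at this
      exact this
  exact {}

end Obj

/-- **Criterion**: if every map from a finitely presented `A`-algebra to `B` factors through an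
étale `A`-algebra, then `B` is ind-étale over `A`. -/
theorem isIndEtale_of_factor {A B : Type u} [CommRing A] [CommRing B] [Algebra A B]
    (H : Obj.Factor A B) : EtPBC.IsIndEtale A B := by
  haveI := Obj.isFiltered H
  refine isIndEtale_of_filtered (J := Obj A B) (fun j => j.E)
    (fun {j k} (g : j ⟶ k) => g.1) (fun _ => rfl)
    (fun _ _ => rfl) (fun j => j.φ) (fun {j k} (g : j ⟶ k) x => congr($(g.2) x)) ?_ ?_
  · intro b
    let ψ : MvPolynomial (Fin 1) A →ₐ[A] B := MvPolynomial.aeval (fun _ => b)
    obtain ⟨E', _, _, _, f', g', hfg⟩ := H _ ψ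
    obtain ⟨j, e, he⟩ := Obj.exists_obj A g'
    refine ⟨j, e.symm (f' (MvPolynomial.X 0)), ?_⟩
    rw [← he]
    show g' (e (e.symm (f' (MvPolynomial.X 0)))) = b
    rw [e.apply_symm_apply]
    have := congr($hfg (MvPolynomial.X 0))
    rw [AlgHom.comp_apply] at this
    rw [this]
    simp [ψ]
  · intro j x hx
    have hker : ∀ y ∈ Ideal.span ({x} : Set j.E), j.φ y = 0 := by
      intro y hy
      obtain ⟨z, rfl⟩ := Ideal.mem_span_singleton'.mp hy
      rw [map_mul, hx, mul_zero]
    obtain ⟨l, h, hh⟩ := Obj.exists_hom_of_span H j _ ⟨{x}, by simp⟩ hker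
    exact ⟨l, h, hh x (Ideal.subset_span rfl)⟩

end crit

/-- Ind-étaleness is invariant under isomorphism. -/
theorem isIndEtale_of_algEquiv {A B B' : Type u} [CommRing A] [CommRing B] [CommRing B']
    [Algebra A B] [Algebra A B'] (h : EtPBC.IsIndEtale A B) (e : B ≃ₐ[A] B') :
    EtPBC.IsIndEtale A B' := by
  obtain ⟨J, i1, i2, D, c, hc, hD, ⟨e'⟩⟩ := h
  letI : Algebra (CommRingCat.of A) B := inferInstanceAs (Algebra A B)
  letI : Algebra (CommRingCat.of A) B' := inferInstanceAs (Algebra A B')
  exact ⟨J, i1, i2, D, c, hc, hD, ⟨e' ≪≫ AlgEquiv.toUnder (R := CommRingCat.of A) e⟩⟩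

/-- Converse of the criterion: maps from finitely presented algebras to an ind-étale algebra
factor through an étale algebra. -/
theorem factor_of_isIndEtale {A B : Type u} [CommRing A] [CommRing B] [Algebra A B]
    (h : EtPBC.IsIndEtale A B) : Obj.Factor A B := by
  intro P _ _ _ ψ
  obtain ⟨J, _, _, D, c, hc, hD, ⟨e⟩⟩ := h
  letI : Algebra (CommRingCat.of A) P := inferInstanceAs (Algebra A P)
  letI : Algebra (CommRingCat.of A) B := inferInstanceAs (Algebra A B)
  let X : Under (CommRingCat.of A) := CommRingCat.mkUnder (CommRingCat.of A) P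
  haveI : IsFinitelyPresentable.{u} X := by
    apply CommRingCat.isFinitelyPresentable_under
    show (algebraMap A P).FinitePresentation
    rw [RingHom.finitePresentation_algebraMap]
    infer_instance
  let g : X ⟶ c.pt := AlgHom.toUnder (R := CommRingCat.of A) ψ ≫ e.inv
  obtain ⟨j, p, hp⟩ := IsFinitelyPresentable.exists_hom_of_isColimit hc g
  letI := (D.obj j).hom.hom.toAlgebra
  have hp' : p ≫ (c.ι.app j ≫ e.hom) = AlgHom.toUnder (R := CommRingCat.of A) ψ := by
    rw [← Category.assoc, hp, Category.assoc, e.inv_hom_id]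
    exact Category.comp_id _
  refine ⟨(D.obj j).right, inferInstance, inferInstance, hD j,
    { toRingHom := p.right.hom
      commutes' := fun a => congr($(Under.w p).hom a) },
    { toRingHom := (c.ι.app j ≫ e.hom).right.hom
      commutes' := fun a => congr($(Under.w (c.ι.app j ≫ e.hom)).hom a) }, ?_⟩
  apply AlgHom.ext
  intro x
  exact congr($(hp').right.hom x)

end Groth.Agent.Lib.Helper3.IndEt
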