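import Mathlib
import Groth.Agent.Lib.Helper3IndEt

set_option autoImplicit false

open TensorProduct

universe u

namespace Groth.Agent.Lib.Helper3.IndEt

section wet

variable (A E M : Type*) [CommRing A] [CommRing E] [Algebra A E] [AddCommGroup M] [Module A M]
  [Module E M] [IsScalarTower A E M]

/-- the action of `E ⊗ E` on `E ⊗ M`, as a bilinear map -/
noncomputable def act : E ⊗[A] E →ₗ[A] (M →ₗ[A] E ⊗[A] M) :=
  TensorProduct.lift (LinearMap.mk₂ A
    (fun b b' => (TensorProduct.mk A E M b).comp (Algebra.lsmul A A M b' : M →ₗ[A] M))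
    (fun b₁ b₂ b' => by ext m; simp)
    (fun a b b' => by ext m; simp [TensorProduct.smul_tmul'])
    (fun b b₁ b₂ => by ext m; simp [TensorProduct.tmul_add])
    (fun a b b' => by ext m; simp))

@[simp] theorem act_tmul (b b' : E) (m : M) : act A E M (b ⊗ₜ b') m = b ⊗ₜ[A] (b' • m) := by
  simp [act]

theorem act_mul_left (c : E) (t : E ⊗[A] E) (m : M) :
    act A E M ((c ⊗ₜ 1) * t) m = c • act A E M t m := by
  induction t with
  | zero => simp
  | tmul b b' => simp [TensorProduct.smul_tmul']
  | add x y hx hy => simp [mul_add, hx, hy]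

theorem act_mul_right (c : E) (t : E ⊗[A] E) (m : M) :
    act A E M ((1 ⊗ₜ c) * t) m = act A E M t (c • m) := by
  induction t with
  | zero => simp
  | tmul b b' => simp [mul_smul, smul_comm c b' m]
  | add x y hx hy => simp [mul_add, hx, hy]

theorem lift_act (t : E ⊗[A] E) (m : M) :
    LinearMap.liftBaseChange E (LinearMap.id : M →ₗ[A] M) (act A E M t m)
      = Algebra.TensorProduct.lmul' A t • m := by
  induction t with
  | zero => simp
  | tmul b b' => simp [mul_smul]
  | add x y hx hy => simp [hx, hy, add_smul]

/-- **(W-ét)**: for `E` étale (unramified of finite type suffices) over `A`, an `E`-module flat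
over `A` is flat over `E`. -/
theorem flat_of_unramified [Algebra.FormallyUnramified A E] [Algebra.EssFiniteType A E]
    [Module.Flat A M] : Module.Flat E M := by
  let el := Algebra.FormallyUnramified.elem A E
  let s : M →ₗ[E] E ⊗[A] M :=
    { toFun := fun m => act A E M el m
      map_add' := fun m₁ m₂ => map_add _ _ _
      map_smul' := fun c m => by
        simp only [RingHom.id_apply]
        rw [← act_mul_right, Algebra.FormallyUnramified.one_tmul_mul_elem, act_mul_left] }
  refine Module.Flat.of_retract (M := E ⊗[A] M) s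
    (LinearMap.liftBaseChange E (LinearMap.id : M →ₗ[A] M)) ?_
  ext m
  show LinearMap.liftBaseChange E (LinearMap.id : M →ₗ[A] M) (act A E M el m) = m
  rw [lift_act, Algebra.FormallyUnramified.lmul_elem, one_smul]

end wet

/-- **(W-ind)**: for `B` ind-étale over `A`, a `B`-module flat over `A` is flat over `B`. -/
theorem flat_of_factor {A B : Type u} [CommRing A] [CommRing B] [Algebra A B]
    (H : Obj.Factor A B) (M : Type*) [AddCommGroup M] [Module A M] [Module B M]
    [IsScalarTower A B M] [Module.Flat A M] : Module.Flat B M := by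
  refine Module.Flat.of_forall_isTrivialRelation fun {l f x} h => ?_
  let ψ : MvPolynomial (Fin l) A →ₐ[A] B := MvPolynomial.aeval f
  obtain ⟨E, _, _, _, u, v, huv⟩ := H _ ψ
  letI : Module E M := Module.compHom M v.toRingHom
  have hsm : ∀ (e : E) (m : M), e • m = v e • m := fun _ _ => rfl
  haveI : IsScalarTower A E M := ⟨fun a e m => by
    rw [hsm, hsm, map_smul, smul_assoc]⟩
  haveI : Module.Flat E M := flat_of_unramified A E M
  let f' : Fin l → E := fun i => u (MvPolynomial.X i)
  have hf' : ∀ i, v (f' i) = f i := fun i => by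
    have := congr($huv (MvPolynomial.X i))
    rw [AlgHom.comp_apply] at this
    rw [this]
    simp [ψ]
  have h0 : ∑ i, f' i • x i = 0 := by
    simp_rw [hsm, hf']
    exact h
  obtain ⟨k, a, y, hxy, hfa⟩ := Module.Flat.isTrivialRelation_of_sum_smul_eq_zero h0
  refine ⟨k, fun i m => v (a i m), y, fun i => ?_, fun m => ?_⟩
  · rw [hxy]
    rfl
  · simp_rw [← hf', ← map_mul, ← map_sum, hfa, map_zero]

/-- an ind-étale algebra is flat -/
theorem flat_of_factor' {A B : Type u} [CommRing A] [CommRing B] [Algebra A B]
    (H : Obj.Factor A B) : Module.Flat A B := by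
  refine Module.Flat.of_forall_isTrivialRelation fun {l f x} h => ?_
  classical
  -- the finitely presented algebra `A[t]/(∑ f_i t_i)`
  let rel : MvPolynomial (Fin l) A := ∑ i, MvPolynomial.C (f i) * MvPolynomial.X i
  let I : Ideal (MvPolynomial (Fin l) A) := Ideal.span {rel}
  haveI : Algebra.FinitePresentation A (MvPolynomial (Fin l) A ⧸ I) :=
    Algebra.FinitePresentation.quotient ⟨{rel}, by simp [I]⟩
  have hrel : MvPolynomial.aeval x rel = 0 := by
    simp only [rel, map_sum, map_mul, MvPolynomial.aeval_C, MvPolynomial.aeval_X]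
    simp_rw [← Algebra.smul_def]
    exact h
  let ψ : (MvPolynomial (Fin l) A ⧸ I) →ₐ[A] B :=
    Ideal.Quotient.liftₐ I (MvPolynomial.aeval x) (fun a ha => by
      obtain ⟨z, rfl⟩ := Ideal.mem_span_singleton'.mp ha
      rw [map_mul, hrel, mul_zero])
  obtain ⟨E, _, _, _, u, v, huv⟩ := H _ ψ
  let x' : Fin l → E := fun i => u (Ideal.Quotient.mk I (MvPolynomial.X i))
  have hx' : ∀ i, v (x' i) = x i := fun i => by
    have := congr($huv (Ideal.Quotient.mk I (MvPolynomial.X i)))
    rw [AlgHom.comp_apply] at this
    rw [this]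
    simp [ψ]
  have h0 : ∑ i, f i • x' i = 0 := by
    have h1 : Ideal.Quotient.mk I rel = 0 :=
      Ideal.Quotient.eq_zero_iff_mem.mpr (Ideal.subset_span rfl)
    have h2 := congr(u $h1)
    rw [map_zero] at h2
    rw [← h2]
    simp only [rel, map_sum, map_mul]
    refine Finset.sum_congr rfl (fun i _ => ?_)
    rw [Algebra.smul_def]
    congr 1
    show algebraMap A E (f i) = u (algebraMap A _ (f i))
    rw [u.commutes]
  have h0' : Module.IsTrivialRelation f x' := by
    apply Module.Flat.isTrivialRelation_of_sum_smul_eq_zero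
    exact h0
  obtain ⟨k, a, y, hxy, hfa⟩ := h0'
  refine ⟨k, a, fun j => v (y j), fun i => ?_, hfa⟩
  rw [← hx', hxy, map_sum]
  refine Finset.sum_congr rfl (fun j _ => ?_)
  rw [map_smul]

theorem flat_iff_of_isIndEtale {A B : Type u} [CommRing A] [CommRing B] [Algebra A B]
    (h : EtPBC.IsIndEtale A B) (M : Type*) [AddCommGroup M] [Module A M] [Module B M]
    [IsScalarTower A B M] : Module.Flat A M ↔ Module.Flat B M := by
  constructor
  · intro _
    exact flat_of_factor (factor_of_isIndEtale h) M
  · intro _
    haveI : Module.Flat A B := by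
      haveI : Module.Flat A A := inferInstance
      exact flat_of_factor' (factor_of_isIndEtale h)
    exact Module.Flat.trans A B M

end Groth.Agent.Lib.Helper3.IndEt
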