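import Mathlib
import Groth.Agent.Lib.Helper3IndEt

set_option autoImplicit false

open TensorProduct

universe u

namespace Groth.Agent.Lib.Helper3.IndEt

section fp

variable {R P T : Type*} [CommRing R] [CommRing P] [Algebra R P] [Algebra.FinitePresentation R P]
  [CommRing T] [Algebra R T]
  {K : Type*} [Preorder K] [IsDirected K (· ≤ ·)] [Nonempty K]
  (Tα : K → Type*) [∀ α, CommRing (Tα α)] [∀ α, Algebra R (Tα α)]
  (τ : ∀ α β, α ≤ β → (Tα α →ₐ[R] Tα β))
  (θ : ∀ α, Tα α →ₐ[R] T)

include τ in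
/-- A map from a finitely presented algebra to a directed union factors through a stage. -/
theorem exists_factor_of_directed
    (hθτ : ∀ α β (h : α ≤ β) (x : Tα α), θ β (τ α β h x) = θ α x)
    (hτ : ∀ α β γ (h1 : α ≤ β) (h2 : β ≤ γ) (x : Tα α),
      τ β γ h2 (τ α β h1 x) = τ α γ (h1.trans h2) x)
    (surj : ∀ x : T, ∃ α y, θ α y = x)
    (inj : ∀ α (y : Tα α), θ α y = 0 → ∃ β, ∃ h : α ≤ β, τ α β h y = 0)
    (ψ : P →ₐ[R] T) : ∃ α, ∃ ψα : P →ₐ[R] Tα α, (θ α).comp ψα = ψ := by
  classical
  obtain ⟨n, π, hπ, s, hs⟩ := Algebra.FinitePresentation.out (R := R) (A := P)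
  choose α₀ y₀ hy₀ using fun k : Fin n => surj (ψ (π (MvPolynomial.X k)))
  obtain ⟨α, hα⟩ := Finite.exists_le α₀
  let y : Fin n → Tα α := fun k => τ (α₀ k) α (hα k) (y₀ k)
  let ev : MvPolynomial (Fin n) R →ₐ[R] Tα α := MvPolynomial.aeval y
  have hev : (θ α).comp ev = ψ.comp π := by
    apply MvPolynomial.algHom_ext
    intro k
    simp only [AlgHom.comp_apply, ev, MvPolynomial.aeval_X, y]
    rw [hθτ, hy₀]
  have hker : ∀ f : s, ∃ β, ∃ h : α ≤ β, τ α β h (ev f.1) = 0 := by
    intro f
    apply inj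
    have := congr($hev f.1)
    rw [AlgHom.comp_apply, AlgHom.comp_apply] at this
    rw [this]
    have hf : (f.1 : MvPolynomial (Fin n) R) ∈ RingHom.ker π.toRingHom := by
      rw [← hs]; exact Ideal.subset_span f.2
    have hf' : π f.1 = 0 := hf
    rw [hf', map_zero]
  choose β₀ hβ₀ hz using hker
  obtain ⟨β, hβ⟩ : ∃ β, α ≤ β ∧ ∀ f : s, β₀ f ≤ β := by
    obtain ⟨β₁, hβ₁⟩ := Finite.exists_le β₀
    obtain ⟨β, h1, h2⟩ := exists_ge_ge α β₁
    exact ⟨β, h1, fun f => (hβ₁ f).trans h2⟩
  let ev' : MvPolynomial (Fin n) R →ₐ[R] Tα β := (τ α β hβ.1).comp ev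
  have hle : RingHom.ker π.toRingHom ≤ RingHom.ker ev'.toRingHom := by
    rw [← hs, Ideal.span_le]
    intro f hf
    show τ α β hβ.1 (ev f) = 0
    rw [← hτ α (β₀ ⟨f, hf⟩) β (hβ₀ ⟨f, hf⟩) (hβ.2 ⟨f, hf⟩), hz ⟨f, hf⟩, map_zero]
  let e := Ideal.quotientKerAlgEquivOfSurjective hπ
  have hle' : ∀ a ∈ RingHom.ker π, ev' a = 0 := fun a ha => hle ha
  let ψβ : P →ₐ[R] Tα β :=
    (Ideal.Quotient.liftₐ (RingHom.ker π) ev' hle').comp (e.symm : P →ₐ[R] _)
  refine ⟨β, ψβ, ?_⟩
  apply AlgHom.ext
  intro p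
  obtain ⟨q, rfl⟩ := hπ p
  have h1 : (e.symm : P →ₐ[R] _) (π q) = Ideal.Quotient.mk (RingHom.ker π) q := by
    apply e.injective
    show e (e.symm (π q)) = e (Ideal.Quotient.mk _ q)
    rw [e.apply_symm_apply]
    rfl
  show θ β (Ideal.Quotient.liftₐ (RingHom.ker π) ev' hle' ((e.symm : P →ₐ[R] _) (π q))) = ψ (π q)
  rw [h1]
  show θ β (τ α β hβ.1 (ev q)) = ψ (π q)
  rw [hθτ]
  exact congr($hev q)

end fp

section loc

variable {R C L P : Type*} [CommRing R] [CommRing C] [Algebra R C] (M : Submonoid C)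
  [CommRing L] [Algebra C L] [IsLocalization M L] [Algebra R L] [IsScalarTower R C L]
  [CommRing P] [Algebra R P] [Algebra.FinitePresentation R P]

/-- the canonical map `C_s → M⁻¹C` for `s ∈ M` -/
noncomputable def awayTo (s : M) : Localization.Away (s : C) →ₐ[R] L :=
  IsLocalization.liftAlgHom (M := Submonoid.powers (s : C)) (f := IsScalarTower.toAlgHom R C L)
    (by
      rintro ⟨_, n, rfl⟩
      show IsUnit (algebraMap C L ((s : C) ^ n))
      rw [map_pow]
      exact (IsLocalization.map_units L s).pow n)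

theorem awayTo_algebraMap (s : M) (c : C) :
    awayTo (R := R) (L := L) M s (algebraMap C (Localization.Away (s : C)) c) = algebraMap C L c := by
  show IsLocalization.lift _ _ = _
  rw [IsLocalization.lift_eq]
  rfl

/-- the canonical map `C_s → C_t` for `s ∣ t` -/
noncomputable def awayMap (s t : C) (h : s ∣ t) : Localization.Away s →ₐ[R] Localization.Away t :=
  IsLocalization.liftAlgHom (M := Submonoid.powers s)
    (f := IsScalarTower.toAlgHom R C (Localization.Away t))
    (by
      rintro ⟨_, n, rfl⟩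
      show IsUnit (algebraMap C (Localization.Away t) (s ^ n))
      rw [map_pow]
      refine IsUnit.pow n ?_
      obtain ⟨u, rfl⟩ := h
      have : IsUnit (algebraMap C (Localization.Away (s * u)) (s * u)) :=
        IsLocalization.Away.algebraMap_isUnit (s * u)
      rw [map_mul] at this
      exact isUnit_of_mul_isUnit_left this)

theorem awayMap_algebraMap (s t : C) (h : s ∣ t) (c : C) :
    awayMap (R := R) s t h (algebraMap C (Localization.Away s) c)
      = algebraMap C (Localization.Away t) c := by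
  show IsLocalization.lift _ _ = _
  rw [IsLocalization.lift_eq]
  rfl

/-- A map from a finitely presented algebra to a localization `M⁻¹C` factors through `C_s`
for some `s ∈ M`. -/
theorem exists_factor_localization (ψ : P →ₐ[R] L) :
    ∃ (s : M) (ψs : P →ₐ[R] Localization.Away (s : C)), (awayTo M s).comp ψs = ψ := by
  letI : Preorder M :=
    { le := fun s t => (s : C) ∣ (t : C)
      le_refl := fun s => dvd_refl _
      le_trans := fun _ _ _ => dvd_trans }
  haveI : IsDirected M (· ≤ ·) := ⟨fun s t => ⟨s * t, Dvd.intro _ rfl, Dvd.intro_left _ rfl⟩⟩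
  haveI : Nonempty M := ⟨1⟩
  refine exists_factor_of_directed (K := M) (fun s => Localization.Away (s : C))
    (fun s t h => awayMap (s : C) (t : C) h) (fun s => awayTo M s) ?_ ?_ ?_ ?_ ψ
  · intro s t h x
    have : ((awayTo (R := R) (L := L) M t).toRingHom.comp (awayMap (R := R) (s : C) (t : C) h).toRingHom)
        = (awayTo (R := R) (L := L) M s).toRingHom := by
      apply IsLocalization.ringHom_ext (Submonoid.powers (s : C))
      ext c
      simp only [RingHom.comp_apply, AlgHom.toRingHom_eq_coe, RingHom.coe_coe]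
      rw [awayMap_algebraMap, awayTo_algebraMap, awayTo_algebraMap]
    exact congr($this x)
  · intro s t v h1 h2 x
    have : ((awayMap (R := R) (t : C) (v : C) h2).toRingHom.comp
        (awayMap (R := R) (s : C) (t : C) h1).toRingHom)
        = (awayMap (R := R) (s : C) (v : C) (h1.trans h2)).toRingHom := by
      apply IsLocalization.ringHom_ext (Submonoid.powers (s : C))
      ext c
      simp only [RingHom.comp_apply, AlgHom.toRingHom_eq_coe, RingHom.coe_coe]
      rw [awayMap_algebraMap, awayMap_algebraMap, awayMap_algebraMap]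
    exact congr($this x)
  · intro x
    obtain ⟨c, m, rfl⟩ := IsLocalization.exists_mk'_eq M x
    refine ⟨m, IsLocalization.mk' _ c (⟨(m : C), Submonoid.mem_powers _⟩ : Submonoid.powers (m : C)), ?_⟩
    show IsLocalization.lift _ _ = _
    rw [IsLocalization.lift_mk'_spec]
    show algebraMap C L c = algebraMap C L m * _
    rw [IsLocalization.mk'_spec']
  · intro s y hy
    obtain ⟨c, ⟨_, n, rfl⟩, rfl⟩ := IsLocalization.exists_mk'_eq (Submonoid.powers (s : C)) y
    have h0 : algebraMap C L c = 0 := by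
      have : IsLocalization.lift _ _ = (0 : L) := hy
      rw [IsLocalization.lift_mk'_spec, mul_zero] at this
      exact this
    obtain ⟨m, hm⟩ := (IsLocalization.map_eq_zero_iff M L c).mp h0
    refine ⟨s * m, Dvd.intro _ rfl, ?_⟩
    show IsLocalization.lift _ _ = _
    rw [IsLocalization.lift_mk'_spec, mul_zero]
    show algebraMap C (Localization.Away ((s * m : M) : C)) c = 0
    rw [IsLocalization.map_eq_zero_iff (Submonoid.powers ((s * m : M) : C))]
    refine ⟨⟨_, Submonoid.mem_powers _⟩, ?_⟩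
    show ((s * m : M) : C) * c = 0
    rw [Submonoid.coe_mul, mul_assoc, hm, mul_zero]

end loc

end Groth.Agent.Lib.Helper3.IndEt
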