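import Mathlib
import Groth.Agent.Lib.Helper3IndEtFP
import Groth.Agent.Lib.Helper3HzE
import Groth.Agent.Lib.Helper3ShG

set_option autoImplicit false

open TensorProduct IsLocalRing

universe u

namespace Groth.Agent.Lib.Helper3.IndEt

section hz

variable (R : Type u) [CommRing R] [IsLocalRing R]

theorem factor_Rh : Obj.Factor R (Hz.Rh R) := by
  intro P _ _ _ ψ
  obtain ⟨i, ψi, hψi⟩ := exists_factor_of_directed (K := Hz.Idx R) (fun i => i.L)
    (fun i j h => Hz.fmap i j h) (fun i => Hz.ofLₐ i)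
    (fun i j h x => Hz.ofL_fmap h x)
    (fun i j k h1 h2 x => DirectedSystem.map_map (f := fun _ _ h => Hz.fmap' (R := R) _ _ h) h1 h2 x)
    (fun x => Hz.exists_ofL x)
    (fun i y hy => Hz.ofL_eq_zero hy) ψ
  obtain ⟨s, ψs, hψs⟩ := exists_factor_localization (R := R) (C := i.C) (L := i.L)
    i.Q.primeCompl ψi
  exact ⟨Localization.Away (s : i.C), inferInstance, inferInstance, inferInstance, ψs,
    (Hz.ofLₐ i).comp (awayTo i.Q.primeCompl s), by rw [AlgHom.comp_assoc, hψs, hψi]⟩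

theorem isIndEtale_Rh : EtPBC.IsIndEtale R (Hz.Rh R) := isIndEtale_of_factor (factor_Rh R)

/-- Any henselization is ind-étale. -/
theorem isIndEtale_of_isHenselization (Rh : Type u) [CommRing Rh] [IsLocalRing Rh] [Algebra R Rh]
    [IsLocalHom (algebraMap R Rh)] [Hensel.IsHenselization R Rh] : EtPBC.IsIndEtale R Rh := by
  obtain ⟨e⟩ := Hz.nonempty_algEquiv (R := R) Rh
  exact isIndEtale_of_algEquiv (isIndEtale_Rh R) e.symm

end hz

section sh

variable (R : Type u) [CommRing R] [IsLocalRing R] (Ω : Type u) [Field Ω] [Algebra R Ω]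
  [Algebra (ResidueField R) Ω] [IsScalarTower R (ResidueField R) Ω]

theorem factor_Rsh : Obj.Factor R (Sh.Rsh R Ω) := by
  intro P _ _ _ ψ
  obtain ⟨i, ψi, hψi⟩ := exists_factor_of_directed (K := Sh.Idx R Ω) (fun i => i.L)
    (fun i j h => Sh.fmap i j h) (fun i => Sh.ofLₐ i)
    (fun i j h x => Sh.ofL_fmap h x)
    (fun i j k h1 h2 x => DirectedSystem.map_map (f := fun _ _ h => Sh.fmap' (R := R) (Ω := Ω) _ _ h) h1 h2 x)
    (fun x => Sh.exists_ofL x)
    (fun i y hy => Sh.ofL_eq_zero hy) ψ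
  obtain ⟨s, ψs, hψs⟩ := exists_factor_localization (R := R) (C := i.C) (L := i.L)
    i.Q.primeCompl ψi
  exact ⟨Localization.Away (s : i.C), inferInstance, inferInstance, inferInstance, ψs,
    (Sh.ofLₐ i).comp (awayTo i.Q.primeCompl s), by rw [AlgHom.comp_assoc, hψs, hψi]⟩

theorem isIndEtale_Rsh : EtPBC.IsIndEtale R (Sh.Rsh R Ω) := isIndEtale_of_factor (factor_Rsh R Ω)

end sh

/-- Any strict henselization is ind-étale. -/
theorem isIndEtale_of_isStrictHenselization (R : Type u) [CommRing R] [IsLocalRing R]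
    (Rsh : Type u) [CommRing Rsh] [IsLocalRing Rsh] [Algebra R Rsh]
    [IsLocalHom (algebraMap R Rsh)] [Hensel.IsStrictHenselization R Rsh] :
    EtPBC.IsIndEtale R Rsh := by
  let Ω := SeparableClosure (ResidueField R)
  letI : Algebra R Ω := ((algebraMap (ResidueField R) Ω).comp (residue R)).toAlgebra
  haveI : IsScalarTower R (ResidueField R) Ω := IsScalarTower.of_algebraMap_eq (fun _ => rfl)
  obtain ⟨e⟩ := Sh.nonempty_algEquiv (R := R) (Ω := Ω) Rsh
  exact isIndEtale_of_algEquiv (isIndEtale_Rsh R Ω) e.symm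

end Groth.Agent.Lib.Helper3.IndEt
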