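import Mathlib
import Groth.Agent.Lib.Helper3HzP
import Groth.Agent.Lib.Helper3EtRed

/-!
# Reducedness of the (strict) henselization (helper3)
-/

namespace Groth.Agent.Lib.Helper3.Hz

open IsLocalRing

universe u

variable {R : Type u} [CommRing R] [IsLocalRing R]

instance isReduced_C [IsReduced R] (i : Idx R) : IsReduced i.C :=
  EtRed.isReduced_of_etale R i.C

instance isReduced_L [IsReduced R] (i : Idx R) : IsReduced i.L :=
  inferInstanceAs (IsReduced (Localization.AtPrime i.Q))

instance isReduced [IsReduced R] : IsReduced (Rh R) := by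
  constructor
  intro z hz
  obtain ⟨n, hn⟩ := hz
  obtain ⟨i, x, rfl⟩ := exists_ofL z
  rw [← map_pow] at hn
  obtain ⟨j, hij, hj⟩ := ofL_eq_zero hn
  rw [map_pow] at hj
  have h0 : fmap' i j hij x = 0 := IsReduced.eq_zero _ ⟨n, hj⟩
  rw [← ofL_fmap hij x, h0, map_zero]

end Groth.Agent.Lib.Helper3.Hz

namespace Groth.Agent.Lib.Helper3.Sh

open IsLocalRing

universe u

variable {R : Type u} [CommRing R] [IsLocalRing R] {Ω : Type u} [Field Ω] [Algebra R Ω]

instance isReduced_C [IsReduced R] (i : Idx R Ω) : IsReduced i.C :=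
  EtRed.isReduced_of_etale R i.C

instance isReduced_L [IsReduced R] (i : Idx R Ω) : IsReduced i.L :=
  inferInstanceAs (IsReduced (Localization.AtPrime i.Q))

variable [Algebra (ResidueField R) Ω] [IsScalarTower R (ResidueField R) Ω]

instance isReduced [IsReduced R] : IsReduced (Rsh R Ω) := by
  constructor
  intro z hz
  obtain ⟨n, hn⟩ := hz
  obtain ⟨i, x, rfl⟩ := exists_ofL z
  rw [← map_pow] at hn
  obtain ⟨j, hij, hj⟩ := ofL_eq_zero hn
  rw [map_pow] at hj
  have h0 : fmap' i j hij x = 0 := IsReduced.eq_zero _ ⟨n, hj⟩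
  rw [← ofL_fmap hij x, h0, map_zero]

end Groth.Agent.Lib.Helper3.Sh

namespace Groth.Agent.Lib.Helper3.HzP

open IsLocalRing

universe u

variable (R : Type u) [CommRing R] [IsLocalRing R] (S : Type u) [CommRing S] [IsLocalRing S]
    [Algebra R S] [IsLocalHom (algebraMap R S)]

theorem hz_isReduced_iff [Hensel.IsHenselization R S] : IsReduced R ↔ IsReduced S := by
  obtain ⟨e⟩ := Hz.nonempty_algEquiv (R := R) S
  constructor
  · intro h
    exact isReduced_of_injective e.toRingEquiv e.injective
  · intro h
    haveI := hz_faithfullyFlat R S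
    exact isReduced_of_injective (algebraMap R S) (FaithfulSMul.algebraMap_injective R S)

theorem sh_isReduced_iff [Hensel.IsStrictHenselization R S] : IsReduced R ↔ IsReduced S := by
  obtain ⟨Ω, _, _, _, _, _, ⟨e⟩⟩ := sh_exists_model R S
  constructor
  · intro h
    exact isReduced_of_injective e.toRingEquiv e.injective
  · intro h
    haveI := sh_faithfullyFlat R S
    exact isReduced_of_injective (algebraMap R S) (FaithfulSMul.algebraMap_injective R S)

end Groth.Agent.Lib.Helper3.HzP
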