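import Mathlib
import Groth.Agent.Lib.Helper3HzRed
import Groth.Agent.Lib.Helper3EtNormal

/-!
# Normality of the (strict) henselization (helper3)
-/

namespace Groth.Agent.Lib.Helper3.HzNormal

open Polynomial

universe u

/-- elementwise normality criterion -/
def NC (A : Type*) [CommRing A] : Prop :=
  ∀ (a b : A) (p : A[X]), p.Monic → b ≠ 0 → (p.scaleRoots b).eval a = 0 → b ∣ a

theorem isIntegrallyClosed_iff_nc (A : Type*) [CommRing A] [IsDomain A] :
    IsIntegrallyClosed A ↔ NC A := by
  constructor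
  · intro h a b p hp hb hab
    let Kf := FractionRing A
    have hinj : Function.Injective (algebraMap A Kf) := IsFractionRing.injective A Kf
    have hb' : algebraMap A Kf b ≠ 0 := fun h0 => hb (hinj (h0.trans (map_zero _).symm))
    have hx : IsIntegral A (algebraMap A Kf a / algebraMap A Kf b) := by
      refine ⟨p, hp, ?_⟩
      have h1 := scaleRoots_eval₂_mul (p := p) (algebraMap A Kf)
        (algebraMap A Kf a / algebraMap A Kf b) b
      rw [mul_div_cancel₀ _ hb'] at h1
      have h2 : eval₂ (algebraMap A Kf) (algebraMap A Kf a) (p.scaleRoots b) = 0 := by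
        rw [eval₂_at_apply, hab, map_zero]
      rw [h2] at h1
      exact (mul_eq_zero.mp h1.symm).resolve_left (pow_ne_zero _ hb')
    obtain ⟨y, hy⟩ := (isIntegrallyClosed_iff Kf).mp h hx
    refine ⟨y, ?_⟩
    apply hinj
    rw [map_mul, hy, mul_div_cancel₀ _ hb']
  · intro h
    rw [isIntegrallyClosed_iff (FractionRing A)]
    intro x hx
    obtain ⟨p, hp, hpx⟩ := hx
    have hinj : Function.Injective (algebraMap A (FractionRing A)) :=
      IsFractionRing.injective A (FractionRing A)
    obtain ⟨a, b, hb, rfl⟩ := IsFractionRing.div_surjective (A := A) x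
    have hb0 : b ≠ 0 := nonZeroDivisors.ne_zero hb
    have h1 := scaleRoots_eval₂_eq_zero_of_eval₂_div_eq_zero hinj hpx hb
    rw [eval₂_at_apply] at h1
    have h2 : (p.scaleRoots b).eval a = 0 := hinj (h1.trans (map_zero _).symm)
    obtain ⟨y, hy⟩ := h a b p hp hb0 h2
    refine ⟨y, ?_⟩
    have hb' : algebraMap A (FractionRing A) b ≠ 0 :=
      fun h0 => hb0 (hinj (h0.trans (map_zero _).symm))
    rw [hy, map_mul, mul_div_cancel_left₀ _ hb']

/-- normality descends along faithfully flat maps of domains -/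
theorem normal_of_faithfullyFlat (A B : Type*) [CommRing A] [CommRing B] [Algebra A B]
    [Module.FaithfullyFlat A B] (h : IsDomain B ∧ IsIntegrallyClosed B) :
    IsDomain A ∧ IsIntegrallyClosed A := by
  obtain ⟨hd, hic⟩ := h
  have hinj : Function.Injective (algebraMap A B) := FaithfulSMul.algebraMap_injective A B
  haveI : IsDomain A := Function.Injective.isDomain (algebraMap A B) hinj
  refine ⟨inferInstance, (isIntegrallyClosed_iff_nc A).mpr ?_⟩
  intro a b p hp hb hab
  have hB := (isIntegrallyClosed_iff_nc B).mp hic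
  have hb' : algebraMap A B b ≠ 0 := fun h0 => hb (hinj (h0.trans (map_zero _).symm))
  have h1 : ((p.map (algebraMap A B)).scaleRoots (algebraMap A B b)).eval (algebraMap A B a)
      = 0 := by
    rw [← map_scaleRoots p b (algebraMap A B) (by rw [hp.leadingCoeff, map_one]; exact one_ne_zero),
      eval_map, eval₂_at_apply, hab, map_zero]
  obtain ⟨y, hy⟩ := hB _ _ _ (hp.map _) hb' h1
  have hmem : algebraMap A B a ∈ (Ideal.span {b}).map (algebraMap A B) := by
    rw [Ideal.map_span, Set.image_singleton, Ideal.mem_span_singleton]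
    exact ⟨y, hy⟩
  have h2 : a ∈ ((Ideal.span {b}).map (algebraMap A B)).comap (algebraMap A B) := hmem
  rw [Ideal.comap_map_eq_self_of_faithfullyFlat, Ideal.mem_span_singleton] at h2
  exact h2


/-- a ring covered by normal domains "stages" is a normal domain -/
theorem normal_of_stages {A : Type*} [CommRing A] [Nontrivial A] {ι : Type*} (G : ι → Type*)
    [∀ i, CommRing (G i)] (of : ∀ i, G i →+* A)
    (hcover : ∀ (x y : A) (p : A[X]), p.Monic → ∃ (i : ι) (x' y' : G i) (p' : (G i)[X]),
      p'.Monic ∧ of i x' = x ∧ of i y' = y ∧ p'.map (of i) = p)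
    (hzero : ∀ (i : ι) (x : G i), of i x = 0 → ∃ (j : ι) (f : G i →+* G j),
      (∀ z, of j (f z) = of i z) ∧ f x = 0)
    (hnormal : ∀ i, IsDomain (G i) ∧ IsIntegrallyClosed (G i)) :
    IsDomain A ∧ IsIntegrallyClosed A := by
  haveI : IsDomain A := by
    haveI : NoZeroDivisors A := by
      constructor
      intro x y hxy
      obtain ⟨i, x', y', -, -, hx, hy, -⟩ := hcover x y X monic_X
      have h0 : of i (x' * y') = 0 := by rw [map_mul, hx, hy, hxy]
      obtain ⟨j, f, hf, hfz⟩ := hzero i _ h0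
      haveI := (hnormal j).1
      rw [map_mul] at hfz
      rcases mul_eq_zero.mp hfz with h | h
      · left; rw [← hx, ← hf, h, map_zero]
      · right; rw [← hy, ← hf, h, map_zero]
    exact NoZeroDivisors.to_isDomain A
  refine ⟨inferInstance, (isIntegrallyClosed_iff_nc A).mpr ?_⟩
  intro a b p hp hb hab
  obtain ⟨i, a', b', p', hp', ha', hb', hpp'⟩ := hcover a b p hp
  have h0 : of i ((p'.scaleRoots b').eval a') = 0 := by
    have h1 : of i ((p'.scaleRoots b').eval a') =
        ((p'.scaleRoots b').map (of i)).eval (of i a') := by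
      rw [eval_map, eval₂_at_apply]
    rw [h1, map_scaleRoots p' b' (of i) (by rw [hp'.leadingCoeff, map_one]; exact one_ne_zero),
      hpp', ha', hb', hab]
  obtain ⟨j, f, hf, hfz⟩ := hzero i _ h0
  haveI := (hnormal j).1
  have hNC := (isIntegrallyClosed_iff_nc (G j)).mp (hnormal j).2
  have hfb : f b' ≠ 0 := by
    intro h
    apply hb
    rw [← hb', ← hf, h, map_zero]
  have h2 : ((p'.map f).scaleRoots (f b')).eval (f a') = 0 := by
    rw [← map_scaleRoots p' b' f (by rw [hp'.leadingCoeff, map_one]; exact one_ne_zero),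
      eval_map, eval₂_at_apply, hfz]
  obtain ⟨y, hy⟩ := hNC _ _ _ (hp'.map f) hfb h2
  refine ⟨of j y, ?_⟩
  rw [← ha', ← hb', ← hf a', ← hf b', hy, map_mul]

end Groth.Agent.Lib.Helper3.HzNormal

namespace Groth.Agent.Lib.Helper3.Hz

open IsLocalRing Polynomial

universe u

variable {R : Type u} [CommRing R] [IsLocalRing R]

theorem normal_L [IsDomain R] [IsIntegrallyClosed R] (i : Idx R) :
    IsDomain i.L ∧ IsIntegrallyClosed i.L :=
  EtNormal.isDomain_and_isIntegrallyClosed_localization R i.C i.Q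

theorem normal [IsDomain R] [IsIntegrallyClosed R] :
    IsDomain (Rh R) ∧ IsIntegrallyClosed (Rh R) := by
  refine HzNormal.normal_of_stages (fun i : Idx R => i.L) (fun i => ofL i) ?_ ?_
    (fun i => normal_L i)
  · intro x y p hp
    obtain ⟨i₁, x₁, y₁, hx₁, hy₁⟩ := exists_ofL₂ x y
    obtain ⟨i₂, q, hq⟩ := Ring.DirectLimit.Polynomial.exists_of
      (f' := fun i j h => fmap' (R := R) i j h) p
    obtain ⟨j, h1, h2⟩ := exists_ge_ge i₁ i₂
    have hlift : p ∈ Polynomial.lifts (ofL j) := by
      refine (Polynomial.mem_lifts _).mpr ⟨q.map (fmap' i₂ j h2), ?_⟩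
      rw [Polynomial.map_map, ← hq]
      congr 1
      ext z
      exact ofL_fmap h2 z
    obtain ⟨p', hp', -, hp'monic⟩ := Polynomial.lifts_and_natDegree_eq_and_monic hlift hp
    exact ⟨j, fmap' i₁ j h1 x₁, fmap' i₁ j h1 y₁, p', hp'monic, by rw [ofL_fmap, hx₁],
      by rw [ofL_fmap, hy₁], hp'⟩
  · intro i x hx
    obtain ⟨j, hij, hj⟩ := ofL_eq_zero hx
    exact ⟨j, fmap' i j hij, fun z => ofL_fmap hij z, hj⟩

end Groth.Agent.Lib.Helper3.Hz

namespace Groth.Agent.Lib.Helper3.Sh

open IsLocalRing Polynomial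

universe u

variable {R : Type u} [CommRing R] [IsLocalRing R] {Ω : Type u} [Field Ω] [Algebra R Ω]

theorem normal_L [IsDomain R] [IsIntegrallyClosed R] (i : Idx R Ω) :
    IsDomain i.L ∧ IsIntegrallyClosed i.L :=
  EtNormal.isDomain_and_isIntegrallyClosed_localization R i.C i.Q

variable [Algebra (ResidueField R) Ω] [IsScalarTower R (ResidueField R) Ω]

theorem normal [IsDomain R] [IsIntegrallyClosed R] :
    IsDomain (Rsh R Ω) ∧ IsIntegrallyClosed (Rsh R Ω) := by
  refine HzNormal.normal_of_stages (fun i : Idx R Ω => i.L) (fun i => ofL i) ?_ ?_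
    (fun i => normal_L i)
  · intro x y p hp
    obtain ⟨i₁, x₁, y₁, hx₁, hy₁⟩ := exists_ofL₂ x y
    obtain ⟨i₂, q, hq⟩ := Ring.DirectLimit.Polynomial.exists_of
      (f' := fun i j h => fmap' (R := R) (Ω := Ω) i j h) p
    obtain ⟨j, h1, h2⟩ := exists_ge_ge i₁ i₂
    have hlift : p ∈ Polynomial.lifts (ofL j) := by
      refine (Polynomial.mem_lifts _).mpr ⟨q.map (fmap' i₂ j h2), ?_⟩
      rw [Polynomial.map_map, ← hq]
      congr 1
      ext z
      exact ofL_fmap h2 z
    obtain ⟨p', hp', -, hp'monic⟩ := Polynomial.lifts_and_natDegree_eq_and_monic hlift hp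
    exact ⟨j, fmap' i₁ j h1 x₁, fmap' i₁ j h1 y₁, p', hp'monic, by rw [ofL_fmap, hx₁],
      by rw [ofL_fmap, hy₁], hp'⟩
  · intro i x hx
    obtain ⟨j, hij, hj⟩ := ofL_eq_zero hx
    exact ⟨j, fmap' i j hij, fun z => ofL_fmap hij z, hj⟩

end Groth.Agent.Lib.Helper3.Sh

namespace Groth.Agent.Lib.Helper3.HzP

open IsLocalRing

universe u

variable (R : Type u) [CommRing R] [IsLocalRing R] (S : Type u) [CommRing S] [IsLocalRing S]
    [Algebra R S] [IsLocalHom (algebraMap R S)]

theorem normal_of_ringEquiv {A B : Type*} [CommRing A] [CommRing B] (e : A ≃+* B)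
    (h : IsDomain B ∧ IsIntegrallyClosed B) : IsDomain A ∧ IsIntegrallyClosed A := by
  obtain ⟨hd, hic⟩ := h
  haveI : IsDomain A := e.toMulEquiv.isDomain
  exact ⟨inferInstance, IsIntegrallyClosed.of_equiv e.symm⟩

theorem hz_normal_iff [Hensel.IsHenselization R S] :
    (IsDomain R ∧ IsIntegrallyClosed R) ↔ (IsDomain S ∧ IsIntegrallyClosed S) := by
  obtain ⟨e⟩ := Hz.nonempty_algEquiv (R := R) S
  constructor
  · rintro ⟨h1, h2⟩
    exact normal_of_ringEquiv e.toRingEquiv Hz.normal
  · intro h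
    haveI := hz_faithfullyFlat R S
    exact HzNormal.normal_of_faithfullyFlat R S h

theorem sh_normal_iff [Hensel.IsStrictHenselization R S] :
    (IsDomain R ∧ IsIntegrallyClosed R) ↔ (IsDomain S ∧ IsIntegrallyClosed S) := by
  obtain ⟨Ω, _, _, _, _, _, ⟨e⟩⟩ := sh_exists_model R S
  constructor
  · rintro ⟨h1, h2⟩
    exact normal_of_ringEquiv e.toRingEquiv Sh.normal
  · intro h
    haveI := sh_faithfullyFlat R S
    exact HzNormal.normal_of_faithfullyFlat R S h

end Groth.Agent.Lib.Helper3.HzP
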