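import Mathlib
import Groth.Agent.S0505
import Groth.Agent.Lib.Helper3HenselC

namespace Groth.Agent.Lib.Helper3.HenselInt

open IsLocalRing Polynomial

universe u

/-- A subalgebra `C'` of a local ring `C` integral over `A` is local, with local inclusion. -/
theorem isLocalHom_subalgebra_val {A C : Type*} [CommRing A] [CommRing C] [Algebra A C]
    [Algebra.IsIntegral A C] (C' : Subalgebra A C) : IsLocalHom C'.val.toRingHom := by
  have hint : C'.val.toRingHom.IsIntegral := by
    intro x
    have hx : IsIntegral A x := Algebra.IsIntegral.isIntegral x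
    obtain ⟨p, hp, hpx⟩ := hx
    refine ⟨p.map (algebraMap A C'), hp.map _, ?_⟩
    rw [Polynomial.eval₂_map]
    have : C'.val.toRingHom.comp (algebraMap A C') = algebraMap A C := by
      ext a; rfl
    rw [this]; exact hpx
  exact hint.isLocalHom Subtype.val_injective

/-- A local ring integral over a henselian local ring is henselian. -/
theorem henselian_of_isIntegral (A : Type u) [CommRing A] [HenselianLocalRing A]
    (C : Type u) [CommRing C] [IsLocalRing C] [Algebra A C] [Algebra.IsIntegral A C] :
    HenselianLocalRing C := by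
  refine ⟨fun f hf a₀ h0 h1 => ?_⟩
  classical
  let s : Set C := (f.coeffs : Set C) ∪ {a₀}
  have hsfin : s.Finite := (Finset.finite_toSet _).union (Set.finite_singleton _)
  let C' : Subalgebra A C := Algebra.adjoin A s
  haveI hfin : Module.Finite A C' :=
    Algebra.finite_adjoin_of_finite_of_isIntegral hsfin (fun x _ => Algebra.IsIntegral.isIntegral x)
  haveI hloc : IsLocalHom C'.val.toRingHom := isLocalHom_subalgebra_val C'
  haveI : IsLocalRing C' := RingHom.domain_isLocalRing C'.val.toRingHom
  haveI : HenselianLocalRing C' := Groth.Agent.S0505.result A C'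
  -- lift the polynomial
  have hcoef : ∀ n, f.coeff n ∈ C' := by
    intro n
    by_cases h : f.coeff n = 0
    · rw [h]; exact zero_mem _
    · exact Algebra.subset_adjoin (Or.inl (Finset.mem_coe.mpr (Polynomial.coeff_mem_coeffs h)))
  have ha₀ : a₀ ∈ C' := Algebra.subset_adjoin (Or.inr rfl)
  have hlift : f ∈ Polynomial.lifts C'.val.toRingHom := by
    rw [Polynomial.lifts_iff_coeff_lifts]
    intro n
    exact ⟨⟨f.coeff n, hcoef n⟩, rfl⟩
  obtain ⟨g, hg, hgdeg, hgmonic⟩ := Polynomial.lifts_and_degree_eq_and_monic hlift hf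
  let a₀' : C' := ⟨a₀, ha₀⟩
  have heval : ∀ (p : C'[X]) (x : C'), C'.val.toRingHom (p.eval x) = (p.map C'.val.toRingHom).eval (C'.val.toRingHom x) := by
    intro p x
    rw [Polynomial.eval_map, Polynomial.eval₂_hom]
  have h0' : g.eval a₀' ∈ maximalIdeal C' := by
    rw [mem_maximalIdeal, mem_nonunits_iff]
    intro hu
    have := hu.map C'.val.toRingHom
    rw [heval, hg] at this
    exact h0 this
  have h1' : IsUnit (g.derivative.eval a₀') := by
    apply isUnit_of_map_unit C'.val.toRingHom
    rw [heval, ← Polynomial.derivative_map, hg]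
    exact h1
  obtain ⟨a, har, ha⟩ := HenselianLocalRing.is_henselian g hgmonic a₀' h0' h1'
  refine ⟨C'.val.toRingHom a, ?_, ?_⟩
  · rw [Polynomial.IsRoot, ← hg, ← heval, har, map_zero]
  · have : (a : C) - a₀ = C'.val.toRingHom (a - a₀') := by simp [a₀']
    show (a : C) - a₀ ∈ maximalIdeal C
    rw [this, mem_maximalIdeal, mem_nonunits_iff]
    intro hu
    exact ha (isUnit_of_map_unit C'.val.toRingHom _ hu)

end Groth.Agent.Lib.Helper3.HenselInt
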