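import Mathlib
import Groth.Agent.Lib.Helper3HenselInt
import Groth.Agent.Lib.Helper3HzP

namespace Groth.Agent.Lib.Helper3.TensorLocal

open IsLocalRing TensorProduct Algebra.TensorProduct

section
variable {A B S : Type*} [CommRing A] [CommRing B] [CommRing S] [Algebra A B] [Algebra A S]

/-- `S → B ⊗[A] S` is integral when `B` is integral over `A`. -/
theorem includeRight_isIntegral [Algebra.IsIntegral A B] :
    (includeRight : S →ₐ[A] B ⊗[A] S).toRingHom.IsIntegral := by
  intro x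
  induction x with
  | zero => exact RingHom.isIntegralElem_zero _
  | tmul b s =>
    have : b ⊗ₜ[A] s = (b ⊗ₜ 1) * (1 ⊗ₜ s) := by simp
    rw [this]
    apply RingHom.IsIntegralElem.mul
    · obtain ⟨p, hp, hpb⟩ := Algebra.IsIntegral.isIntegral (R := A) b
      refine ⟨p.map (algebraMap A S), hp.map _, ?_⟩
      rw [Polynomial.eval₂_map]
      have : ((includeRight : S →ₐ[A] B ⊗[A] S).toRingHom).comp (algebraMap A S)
          = (includeLeftRingHom : B →+* B ⊗[A] S).comp (algebraMap A B) :=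
        Algebra.TensorProduct.includeLeftRingHom_comp_algebraMap.symm
      rw [this]
      have h2 : (b ⊗ₜ[A] (1 : S)) = (includeLeftRingHom : B →+* B ⊗[A] S) b := rfl
      rw [h2, ← Polynomial.hom_eval₂, hpb, map_zero]
    · exact RingHom.isIntegralElem_map _
  | add x y hx hy => exact RingHom.IsIntegralElem.add _ hx hy

variable [IsLocalRing S] [Algebra.IsIntegral A B]

/-- the ideal `m_S (B ⊗ S)` -/
noncomputable abbrev K (A B S : Type*) [CommRing A] [CommRing B] [CommRing S] [Algebra A B] [Algebra A S]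
    [IsLocalRing S] : Ideal (B ⊗[A] S) :=
  (maximalIdeal S).map (includeRight : S →ₐ[A] B ⊗[A] S).toRingHom

theorem K_le_of_isMaximal (M : Ideal (B ⊗[A] S)) [M.IsMaximal] : K A B S ≤ M := by
  have hmax : (M.comap (includeRight : S →ₐ[A] B ⊗[A] S).toRingHom).IsMaximal :=
    Ideal.isMaximal_comap_of_isIntegral_of_isMaximal' _ includeRight_isIntegral M
  have := IsLocalRing.eq_maximalIdeal hmax
  rw [K, ← this]
  exact Ideal.map_comap_le

theorem K_le_jacobson : K A B S ≤ Ideal.jacobson (⊥ : Ideal (B ⊗[A] S)) := by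
  refine le_sInf fun J hJ => ?_
  haveI := hJ.2
  exact K_le_of_isMaximal J

theorem K_ne_top [Nontrivial (B ⊗[A] S)] : K A B S ≠ ⊤ := by
  obtain ⟨M, hM⟩ := Ideal.exists_maximal (B ⊗[A] S)
  intro h
  have := K_le_of_isMaximal M
  rw [h, top_le_iff] at this
  exact hM.ne_top this

omit [Algebra.IsIntegral A B] in
theorem exists_sub_mem_K (hres : ∀ s : S, ∃ a : A, s - algebraMap A S a ∈ maximalIdeal S)
    (c : B ⊗[A] S) : ∃ b : B, c - b ⊗ₜ[A] (1 : S) ∈ K A B S := by
  induction c with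
  | zero => exact ⟨0, by simp⟩
  | tmul b s =>
    obtain ⟨a, ha⟩ := hres s
    refine ⟨a • b, ?_⟩
    have : b ⊗ₜ[A] s - (a • b) ⊗ₜ[A] (1 : S)
        = (b ⊗ₜ[A] (1 : S)) * (includeRight : S →ₐ[A] B ⊗[A] S).toRingHom (s - algebraMap A S a) := by
      simp only [AlgHom.toRingHom_eq_coe, RingHom.coe_coe, includeRight_apply, map_sub]
      rw [mul_sub, tmul_mul_tmul, mul_one, one_mul, tmul_mul_tmul, mul_one, one_mul,
        Algebra.algebraMap_eq_smul_one, TensorProduct.tmul_smul, TensorProduct.smul_tmul']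
    rw [this]
    exact Ideal.mul_mem_left _ _ (Ideal.mem_map_of_mem _ ha)
  | add x y hx hy =>
    obtain ⟨b₁, h₁⟩ := hx
    obtain ⟨b₂, h₂⟩ := hy
    refine ⟨b₁ + b₂, ?_⟩
    have : x + y - (b₁ + b₂) ⊗ₜ[A] (1 : S) = (x - b₁ ⊗ₜ[A] (1 : S)) + (y - b₂ ⊗ₜ[A] (1 : S)) := by
      rw [TensorProduct.add_tmul]; ring
    rw [this]
    exact add_mem h₁ h₂

omit [Algebra.IsIntegral A B] in
/-- The composite `B → B ⊗ S → (B ⊗ S)/K` is surjective. -/
theorem quotient_comp_surjective (hres : ∀ s : S, ∃ a : A, s - algebraMap A S a ∈ maximalIdeal S) :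
    Function.Surjective ((Ideal.Quotient.mk (K A B S)).comp
      (includeLeftRingHom : B →+* B ⊗[A] S)) := by
  intro q
  obtain ⟨c, rfl⟩ := Ideal.Quotient.mk_surjective q
  obtain ⟨b, hb⟩ := exists_sub_mem_K hres c
  refine ⟨b, ?_⟩
  rw [RingHom.comp_apply]
  symm
  rw [Ideal.Quotient.mk_eq_mk_iff_sub_mem]
  exact hb

theorem isLocalRing_tensor [IsLocalRing B] [Nontrivial (B ⊗[A] S)]
    (hres : ∀ s : S, ∃ a : A, s - algebraMap A S a ∈ maximalIdeal S) :
    IsLocalRing (B ⊗[A] S) := by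
  haveI : Nontrivial ((B ⊗[A] S) ⧸ K A B S) := Ideal.Quotient.nontrivial_iff.mpr K_ne_top
  haveI : IsLocalRing ((B ⊗[A] S) ⧸ K A B S) :=
    IsLocalRing.of_surjective' _ (quotient_comp_surjective hres)
  haveI : IsLocalHom (Ideal.Quotient.mk (K A B S)) := isLocalHom_of_le_jacobson_bot _ K_le_jacobson
  exact RingHom.domain_isLocalRing (Ideal.Quotient.mk (K A B S))

theorem isLocalHom_includeLeft [IsLocalRing B] [Nontrivial (B ⊗[A] S)]
    (hres : ∀ s : S, ∃ a : A, s - algebraMap A S a ∈ maximalIdeal S) :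
    IsLocalHom (includeLeftRingHom : B →+* B ⊗[A] S) := by
  haveI : Nontrivial ((B ⊗[A] S) ⧸ K A B S) := Ideal.Quotient.nontrivial_iff.mpr K_ne_top
  haveI : IsLocalHom ((Ideal.Quotient.mk (K A B S)).comp
      (includeLeftRingHom : B →+* B ⊗[A] S)) :=
    IsLocalHom.of_surjective _ (quotient_comp_surjective hres)
  exact isLocalHom_of_comp _ (Ideal.Quotient.mk (K A B S))

end

universe u

/-- `B ⊗[A] S` is henselian when `S` is and the hypotheses above hold. -/
theorem henselian_tensor {A B S : Type u} [CommRing A] [CommRing B] [CommRing S] [Algebra A B]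
    [Algebra A S] [HenselianLocalRing S] [Algebra.IsIntegral A B]
    [IsLocalRing (B ⊗[A] S)] : HenselianLocalRing (B ⊗[A] S) := by
  letI : Algebra S (B ⊗[A] S) := Algebra.TensorProduct.rightAlgebra
  haveI : Algebra.IsIntegral S (B ⊗[A] S) := by
    rw [← algebraMap_isIntegral_iff]
    exact includeRight_isIntegral
  exact HenselInt.henselian_of_isIntegral S (B ⊗[A] S)

end Groth.Agent.Lib.Helper3.TensorLocal

namespace Groth.Agent.Lib.Helper3.HzP

open IsLocalRing

universe u

theorem hz_exists_sub_mem_maximalIdeal (R : Type u) [CommRing R] [IsLocalRing R] (S : Type u)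
    [CommRing S] [IsLocalRing S] [Algebra R S] [IsLocalHom (algebraMap R S)]
    [Hensel.IsHenselization R S] (z : S) :
    ∃ r : R, z - algebraMap R S r ∈ maximalIdeal S := by
  obtain ⟨e⟩ := Hz.nonempty_algEquiv (R := R) S
  obtain ⟨r, hr⟩ := Hz.exists_sub_mem_maximalIdeal (e z)
  refine ⟨r, ?_⟩
  rw [mem_maximalIdeal, mem_nonunits_iff] at hr ⊢
  intro hu
  apply hr
  have := hu.map e
  simpa using this

end Groth.Agent.Lib.Helper3.HzP
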