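import Mathlib
import Groth.Agent.Lib.Helper3TensorLocal
import Groth.Agent.Lib.Helper3HzNormal
import Groth.Agent.S1964

set_option autoImplicit false
set_option linter.unusedSectionVars false

namespace Groth.Agent.Lib.Helper3.ShTensor

open IsLocalRing TensorProduct Algebra.TensorProduct

universe u

section recognize

variable {B T E : Type u} [CommRing B] [IsLocalRing B]
  [CommRing T] [IsLocalRing T] [Algebra B T] [IsLocalHom (algebraMap B T)]
  [Hensel.IsStrictHenselization B T]
  [CommRing E] [HenselianLocalRing E] [Algebra B E] [IsLocalHom (algebraMap B E)]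

/-- **Recognition of a strict henselization.** Let `T` be a strict henselization of `B`, `E` a
henselian local `B`-algebra with separably closed residue field, and `φ : E → T` a local
`B`-algebra map. If every `B`-algebra endomorphism of `E` inducing the identity on the residue
field is the identity, then `φ` is bijective. -/
theorem bijective_of_rigid [IsSepClosed (ResidueField E)] (φ : E →ₐ[B] T)
    [IsLocalHom φ.toRingHom]
    (hrigid : ∀ θ : E →+* E, θ.comp (algebraMap B E) = algebraMap B E →
      (∀ x, residue E (θ x) = residue E x) → θ = RingHom.id E) :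
    Function.Bijective φ := by
  haveI hT : HenselianLocalRing T := Hensel.IsStrictHenselization.henselian (R := B)
  haveI hTsep : IsSepClosure (ResidueField B) (ResidueField T) :=
    Hensel.IsStrictHenselization.isSepClosure
  -- the residue map of `φ` is bijective
  let κφ : ResidueField E →+* ResidueField T := ResidueField.map φ.toRingHom
  have hκcomp : κφ.comp (ResidueField.map (algebraMap B E)) = ResidueField.map (algebraMap B T) := by
    rw [← ResidueField.map_comp]
    congr 1
    ext b
    exact φ.commutes b
  have hκbij : Function.Bijective κφ := by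
    letI : Algebra (ResidueField E) (ResidueField T) := κφ.toAlgebra
    letI : Algebra (ResidueField B) (ResidueField E) :=
      (ResidueField.map (algebraMap B E)).toAlgebra
    haveI : IsScalarTower (ResidueField B) (ResidueField E) (ResidueField T) :=
      IsScalarTower.of_algebraMap_eq (fun x => (RingHom.congr_fun hκcomp x).symm)
    haveI : Algebra.IsSeparable (ResidueField B) (ResidueField T) := hTsep.separable
    haveI : Algebra.IsSeparable (ResidueField E) (ResidueField T) :=
      Algebra.isSeparable_tower_top_of_isSeparable (ResidueField B) (ResidueField E)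
        (ResidueField T)
    exact IsSepClosed.algebraMap_bijective (ResidueField E) (ResidueField T)
  let κe : ResidueField E ≃+* ResidueField T := RingEquiv.ofBijective κφ hκbij
  let τ' : ResidueField T →+* ResidueField E := (κe.symm : ResidueField T →+* ResidueField E)
  have hτ' : τ'.comp (ResidueField.map (algebraMap B T)) = ResidueField.map (algebraMap B E) := by
    rw [← hκcomp]
    ext x
    show κe.symm (κe _) = _
    rw [κe.symm_apply_apply]
  obtain ⟨ψ, ⟨hψ1, hψ2⟩, -⟩ := Hensel.IsStrictHenselization.universal (R := B) (S := T) E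
    (algebraMap B E) τ' hτ'
  -- `φ ∘ ψ = id`
  have h1 : φ.toRingHom.comp ψ = RingHom.id T := by
    obtain ⟨g₀, -, huniq⟩ := Hensel.IsStrictHenselization.universal (R := B) (S := T) T
      (algebraMap B T) (RingHom.id _) (by rw [RingHom.id_comp])
    have e1 : φ.toRingHom.comp ψ = g₀ := by
      apply huniq
      refine ⟨?_, fun x => ?_⟩
      · rw [RingHom.comp_assoc, hψ1]
        ext b
        exact φ.commutes b
      · show residue T (φ (ψ x)) = residue T x
        have : residue T (φ (ψ x)) = κφ (residue E (ψ x)) := rfl
        rw [this, hψ2]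
        show κe (κe.symm _) = _
        rw [κe.apply_symm_apply]
    have e2 : RingHom.id T = g₀ := by
      apply huniq
      exact ⟨RingHom.id_comp _, fun x => rfl⟩
    rw [e1, e2]
  -- `ψ ∘ φ = id`
  have h2 : ψ.comp φ.toRingHom = RingHom.id E := by
    apply hrigid
    · rw [RingHom.comp_assoc]
      have : φ.toRingHom.comp (algebraMap B E) = algebraMap B T := by
        ext b; exact φ.commutes b
      rw [this, hψ1]
    · intro x
      show residue E (ψ (φ x)) = residue E x
      rw [hψ2]
      have : residue T (φ x) = κe (residue E x) := rfl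
      rw [this]
      show κe.symm (κe _) = _
      rw [κe.symm_apply_apply]
  constructor
  · intro x y hxy
    have := congrArg ψ hxy
    have hx := RingHom.congr_fun h2 x
    have hy := RingHom.congr_fun h2 y
    simp only [RingHom.comp_apply, RingHom.id_apply] at hx hy
    change ψ (φ x) = x at hx
    change ψ (φ y) = y at hy
    rw [← hx, ← hy]; exact this
  · intro t
    exact ⟨ψ t, RingHom.congr_fun h1 t⟩

end recognize

section tensor

variable {A B S T : Type u} [CommRing A] [IsLocalRing A] [CommRing B] [IsLocalRing B] [Algebra A B]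
  [IsLocalHom (algebraMap A B)]
  [CommRing S] [IsLocalRing S] [Algebra A S] [IsLocalHom (algebraMap A S)]
  [Hensel.IsStrictHenselization A S]
  [CommRing T] [IsLocalRing T] [Algebra B T] [IsLocalHom (algebraMap B T)]
  [Hensel.IsStrictHenselization B T]

/-- there is a local map `A^sh → B^sh` over `A → B`. -/
theorem exists_map [Algebra A T] [IsScalarTower A B T] :
    ∃ g : S →ₐ[A] T, IsLocalHom g.toRingHom := by
  haveI hT : HenselianLocalRing T := Hensel.IsStrictHenselization.henselian (R := B)
  haveI hTsep : IsSepClosure (ResidueField B) (ResidueField T) :=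
    Hensel.IsStrictHenselization.isSepClosure
  haveI hSsep : IsSepClosure (ResidueField A) (ResidueField S) :=
    Hensel.IsStrictHenselization.isSepClosure
  haveI : IsSepClosed (ResidueField T) := hTsep.sep_closed
  haveI : Algebra.IsSeparable (ResidueField A) (ResidueField S) := hSsep.separable
  have hAT : algebraMap A T = (algebraMap B T).comp (algebraMap A B) :=
    IsScalarTower.algebraMap_eq A B T
  haveI : IsLocalHom (algebraMap A T) := by
    rw [hAT]; infer_instance
  letI : Algebra (ResidueField A) (ResidueField T) :=
    (ResidueField.map (algebraMap A T)).toAlgebra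
  let τ₀ : ResidueField S →ₐ[ResidueField A] ResidueField T := IsSepClosed.lift
  have hτ : τ₀.toRingHom.comp (ResidueField.map (algebraMap A S))
      = ResidueField.map (algebraMap A T) := by
    ext x
    exact τ₀.commutes x
  obtain ⟨g, ⟨hg1, hg2⟩, -⟩ := Hensel.IsStrictHenselization.universal (R := A) (S := S) T
    (algebraMap A T) τ₀.toRingHom hτ
  refine ⟨{ g with commutes' := fun a => RingHom.congr_fun hg1 a }, ⟨fun x hx => ?_⟩⟩
  have hx' : IsUnit (g x) := hx
  have h1 : residue T (g x) ≠ 0 := by
    intro h0
    rw [residue_eq_zero_iff] at h0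
    exact h0 hx'
  rw [hg2] at h1
  have h2 : residue S x ≠ 0 := fun h0 => h1 (by rw [h0, map_zero])
  by_contra hnu
  exact h2 ((residue_eq_zero_iff x).mpr hnu)

variable [Algebra A T] [IsScalarTower A B T] (g : S →ₐ[A] T) [IsLocalHom g.toRingHom]

variable (B)

/-- the induced map `B ⊗[A] S → T`. -/
noncomputable def phi : B ⊗[A] S →ₐ[B] T :=
  Algebra.TensorProduct.lift (Algebra.ofId B T) g (fun _ _ => Commute.all _ _)

/-- the prime of `B ⊗[A] S` cut out by `phi`. -/
noncomputable def Q : Ideal (B ⊗[A] S) := (maximalIdeal T).comap (phi B g).toRingHom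

instance : (Q B g).IsPrime := by
  unfold Q; infer_instance

theorem phi_includeRight (s : S) : phi B g (includeRight s) = g s := by
  simp [phi]

theorem Q_isMaximal [Algebra.IsIntegral A B] : (Q B g).IsMaximal := by
  apply Ideal.isMaximal_of_isIntegral_of_isMaximal_comap'
    (includeRight : S →ₐ[A] B ⊗[A] S).toRingHom TensorLocal.includeRight_isIntegral
  have : (Q B g).comap (includeRight : S →ₐ[A] B ⊗[A] S).toRingHom = maximalIdeal S := by
    ext s
    rw [Ideal.mem_comap, Q, Ideal.mem_comap]
    show phi B g (includeRight s) ∈ maximalIdeal T ↔ _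
    rw [phi_includeRight, mem_maximalIdeal, mem_maximalIdeal, mem_nonunits_iff, mem_nonunits_iff]
    constructor
    · intro h hu
      exact h (hu.map g)
    · intro h hu
      exact h (isUnit_of_map_unit g.toRingHom s hu)
  rw [this]
  infer_instance

theorem isUnit_phi (y : (Q B g).primeCompl) : IsUnit (phi B g y) := by
  by_contra h
  exact y.2 h

/-- **Main theorem**: if a localization `E` of `B ⊗[A] A^sh` at the prime `Q` is integral over
`A^sh`, then `E ≅ B^sh`. -/
theorem exists_algEquiv (E : Type u) [CommRing E] [Algebra (B ⊗[A] S) E]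
    [IsLocalization.AtPrime E (Q B g)] [Algebra B E] [IsScalarTower B (B ⊗[A] S) E]
    (hint : ((algebraMap (B ⊗[A] S) E).comp
      (includeRight : S →ₐ[A] B ⊗[A] S).toRingHom).IsIntegral) :
    ∃ e : E ≃ₐ[B] T, ∀ c, e (algebraMap (B ⊗[A] S) E c) = phi B g c := by
  haveI : IsLocalRing E := IsLocalization.AtPrime.isLocalRing E (Q B g)
  let j : S →+* E := (algebraMap (B ⊗[A] S) E).comp (includeRight : S →ₐ[A] B ⊗[A] S).toRingHom
  letI : Algebra S E := j.toAlgebra
  haveI : Algebra.IsIntegral S E := ⟨hint⟩
  haveI hS : HenselianLocalRing S := Hensel.IsStrictHenselization.henselian (R := A)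
  haveI hE : HenselianLocalRing E := HenselInt.henselian_of_isIntegral S E
  let φE : E →ₐ[B] T := IsLocalization.liftAlgHom (M := (Q B g).primeCompl) (isUnit_phi B g)
  have hφE : ∀ c, φE (algebraMap _ E c) = phi B g c := fun c =>
    IsLocalization.lift_eq (isUnit_phi B g) c
  haveI hφloc : IsLocalHom φE.toRingHom := by
    refine ⟨fun x hx => ?_⟩
    obtain ⟨c, s, rfl⟩ := IsLocalization.exists_mk'_eq (Q B g).primeCompl x
    have hx' : IsUnit (φE (IsLocalization.mk' E c s)) := hx
    have h1 : φE (IsLocalization.mk' E c s) * phi B g s = phi B g c := by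
      rw [← hφE, ← hφE, ← map_mul, IsLocalization.mk'_spec]
    have h2 : IsUnit (phi B g c) := by
      rw [← h1]; exact hx'.mul (isUnit_phi B g s)
    have h3 : c ∈ (Q B g).primeCompl := fun hc => hc h2
    have h4 : IsUnit (algebraMap (B ⊗[A] S) E c) := IsLocalization.map_units E ⟨c, h3⟩
    have h5 : IsLocalization.mk' E c s * algebraMap (B ⊗[A] S) E s = algebraMap (B ⊗[A] S) E c :=
      IsLocalization.mk'_spec E c s
    have h6 : IsUnit (IsLocalization.mk' E c s * algebraMap (B ⊗[A] S) E s) := by rw [h5]; exact h4
    exact isUnit_of_mul_isUnit_left h6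
  haveI : IsLocalHom (algebraMap B E) := by
    refine ⟨fun b hb => ?_⟩
    have := hb.map φE
    rw [φE.commutes] at this
    exact isUnit_of_map_unit (algebraMap B T) b this
  haveI : IsLocalHom (algebraMap S E) :=
    Groth.Agent.S1964.isLocalHom_of_isIntegral_of_isLocalRing
  haveI hSsep : IsSepClosure (ResidueField A) (ResidueField S) :=
    Hensel.IsStrictHenselization.isSepClosure
  haveI : IsSepClosed (ResidueField S) := hSsep.sep_closed
  haveI : IsSepClosed (ResidueField E) := by
    letI := (ResidueField.map (algebraMap S E)).toAlgebra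
    haveI : Algebra.IsAlgebraic (ResidueField S) (ResidueField E) :=
      Groth.Agent.S1964.isAlgebraic_residueField
    exact Algebra.IsAlgebraic.isSepClosed (F := ResidueField S)
  have hbij : Function.Bijective φE := by
    apply bijective_of_rigid φE
    intro θ hθB hθres
    apply IsLocalization.ringHom_ext (Q B g).primeCompl
    -- the `S`-part
    have hjloc : IsLocalHom j := ‹IsLocalHom (algebraMap S E)›
    haveI : IsLocalHom (j.comp (algebraMap A S)) := RingHom.isLocalHom_comp _ _
    have hcompat : (ResidueField.map j).comp (ResidueField.map (algebraMap A S))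
        = ResidueField.map (j.comp (algebraMap A S)) := (ResidueField.map_comp _ _).symm
    obtain ⟨g₀, -, huniq⟩ := Hensel.IsStrictHenselization.universal (R := A) (S := S) E
      (j.comp (algebraMap A S)) (ResidueField.map j) hcompat
    have hjA : ∀ a, j (algebraMap A S a) = algebraMap B E (algebraMap A B a) := by
      intro a
      show algebraMap (B ⊗[A] S) E (1 ⊗ₜ[A] (algebraMap A S a)) = _
      rw [IsScalarTower.algebraMap_apply B (B ⊗[A] S) E]
      congr 1
      rw [Algebra.TensorProduct.algebraMap_apply, Algebra.algebraMap_self, RingHom.id_apply,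
        Algebra.algebraMap_eq_smul_one, Algebra.algebraMap_eq_smul_one,
        TensorProduct.tmul_smul, TensorProduct.smul_tmul']
    have e1 : θ.comp j = g₀ := by
      apply huniq
      refine ⟨?_, fun x => hθres (j x)⟩
      ext a
      show θ (j (algebraMap A S a)) = j (algebraMap A S a)
      rw [hjA]
      exact RingHom.congr_fun hθB _
    have e2 : j = g₀ := by
      apply huniq
      exact ⟨rfl, fun x => rfl⟩
    have hθj : ∀ s, θ (j s) = j s := fun s => RingHom.congr_fun (e1.trans e2.symm) s
    apply RingHom.ext
    intro c
    show θ (algebraMap (B ⊗[A] S) E c) = algebraMap (B ⊗[A] S) E c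
    induction c with
    | zero => simp
    | tmul b s =>
      have : b ⊗ₜ[A] s = algebraMap B (B ⊗[A] S) b * (includeRight : S →ₐ[A] B ⊗[A] S) s := by
        simp
      rw [this, map_mul, map_mul, ← IsScalarTower.algebraMap_apply B (B ⊗[A] S) E]
      congr 1
      · exact RingHom.congr_fun hθB b
      · exact hθj s
    | add x y hx hy => rw [map_add, map_add, hx, hy]
  exact ⟨AlgEquiv.ofBijective φE hbij, hφE⟩

end tensor

end Groth.Agent.Lib.Helper3.ShTensor
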