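import Groth.Agent.Lib.Helper4Unibranch
import Groth.Prelude.Def_Brnch

set_option autoImplicit false
set_option linter.style.haveILetI false
universe u

namespace Groth.Agent.Lib.Helper4.Unibranch

section Idem

/-- A reduced ring with finitely many minimal primes whose total ring of fractions has only trivial
idempotents is a domain. -/
theorem isDomain_of_trivial_idempotents (R : Type*) [CommRing R] [IsReduced R] [Nontrivial R]
    (hfin : (minimalPrimes R).Finite)
    (hidem : ∀ e : FractionRing R, e * e = e → e = 0 ∨ e = 1) : IsDomain R := by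
  classical
  have hInf : sInf (minimalPrimes R) = (⊥ : Ideal R) := by
    have := Ideal.sInf_minimalPrimes (I := (⊥ : Ideal R))
    rw [show (⊥ : Ideal R).radical = nilradical R from rfl, nilradical_eq_zero] at this
    exact this
  obtain ⟨p, hp⟩ : (minimalPrimes R).Nonempty := by
    obtain ⟨m, hm⟩ := Ideal.exists_maximal R
    haveI := hm.isPrime
    obtain ⟨p, hp, -⟩ := Ideal.exists_minimalPrimes_le (I := (⊥ : Ideal R)) (J := m) bot_le
    exact ⟨p, hp⟩
  haveI hpp : p.IsPrime := hp.1.1
  by_cases hS : minimalPrimes R = {p}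
  · -- p = ⊥
    rw [hS, sInf_singleton] at hInf
    rw [hInf] at hpp
    exact IsDomain.of_bot_isPrime R
  · exfalso
    obtain ⟨q₀, hq₀, hq₀p⟩ : ∃ q ∈ minimalPrimes R, q ≠ p := by
      by_contra hcon
      push Not at hcon
      exact hS (Set.eq_singleton_iff_unique_mem.mpr ⟨hp, hcon⟩)
    let T : Finset (Ideal R) := hfin.toFinset.erase p
    have hT : ∀ q, q ∈ T ↔ q ∈ minimalPrimes R ∧ q ≠ p := by
      intro q
      simp only [T, Finset.mem_erase, Set.Finite.mem_toFinset]
      tauto
    have hmem : ∀ q ∈ minimalPrimes R, q = p ∨ q ∈ T := by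
      intro q hq
      by_cases h : q = p
      · exact Or.inl h
      · exact Or.inr ((hT q).mpr ⟨hq, h⟩)
    -- a ∈ p outside the other minimal primes
    obtain ⟨a, hap, haT⟩ : ∃ a ∈ p, ∀ q ∈ T, a ∉ q := by
      have h1 : ¬ ((p : Set R) ⊆ ⋃ q ∈ (T : Set (Ideal R)), ((id q : Ideal R) : Set R)) := by
        rw [Ideal.subset_union_prime (s := T) (f := id) p p
          (fun q hq _ _ => ((hT q).mp hq).1.1.1)]
        rintro ⟨q, hq, hpq⟩
        obtain ⟨hqm, hqp⟩ := (hT q).mp hq
        exact hqp (le_antisymm (hqm.2 ⟨hpp, bot_le⟩ hpq) hpq)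
      rw [Set.not_subset] at h1
      obtain ⟨a, hap, ha⟩ := h1
      refine ⟨a, hap, fun q hq haq => ha ?_⟩
      simp only [Set.mem_iUnion]
      exact ⟨q, hq, haq⟩
    -- b in the other minimal primes, not in p
    obtain ⟨b, hbT, hbp⟩ : ∃ b, (∀ q ∈ T, b ∈ q) ∧ b ∉ p := by
      have h1 : ¬ (T.inf id ≤ p) := by
        rw [Ideal.IsPrime.inf_le' hpp]
        rintro ⟨q, hq, hqp'⟩
        obtain ⟨hqm, hqp⟩ := (hT q).mp hq
        exact hqp (le_antisymm hqp' (hp.2 ⟨hqm.1.1, bot_le⟩ hqp'))
      rw [SetLike.not_le_iff_exists] at h1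
      obtain ⟨b, hb, hbp⟩ := h1
      exact ⟨b, fun q hq => (Submodule.mem_finsetInf.mp hb) q hq, hbp⟩
    have hbot : ∀ x : R, (∀ q ∈ minimalPrimes R, x ∈ q) → x = 0 := by
      intro x hx
      have : x ∈ sInf (minimalPrimes R) := by
        rw [Submodule.mem_sInf]; exact hx
      rwa [hInf] at this
    have hab : a * b = 0 := by
      apply hbot
      intro q hq
      rcases hmem q hq with rfl | hqT
      · exact q.mul_mem_right _ hap
      · exact q.mul_mem_left _ (hbT q hqT)
    have hs : ∀ q ∈ minimalPrimes R, a + b ∉ q := by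
      intro q hq hmemq
      rcases hmem q hq with rfl | hqT
      · exact hbp ((Ideal.add_mem_iff_right _ hap).mp hmemq)
      · exact haT q hqT ((Ideal.add_mem_iff_left _ (hbT q hqT)).mp hmemq)
    have hnzd : a + b ∈ nonZeroDivisors R := by
      rw [mem_nonZeroDivisors_iff_right]
      intro x hx
      apply hbot
      intro q hq
      have : x * (a + b) ∈ q := hx ▸ q.zero_mem
      exact (hq.1.1.mem_or_mem this).resolve_right (hs q hq)
    let e : FractionRing R := IsLocalization.mk' (FractionRing R) a ⟨a + b, hnzd⟩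
    have he : e * e = e := by
      show IsLocalization.mk' _ _ _ * IsLocalization.mk' _ _ _ = IsLocalization.mk' _ _ _
      rw [← IsLocalization.mk'_mul, IsLocalization.mk'_eq_iff_eq]
      congr 1
      simp only [Submonoid.coe_mul]
      have : a * a = a * (a + b) := by rw [mul_add, hab, add_zero]
      rw [this]; ring
    rcases hidem e he with h0 | h1
    · obtain ⟨m, hm⟩ := (IsLocalization.mk'_eq_zero_iff a ⟨a + b, hnzd⟩).mp h0
      have ha0 : a = 0 := by
        have := m.2
        rw [mem_nonZeroDivisors_iff] at this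
        exact this.1 a hm
      exact haT q₀ ((hT q₀).mpr ⟨hq₀, hq₀p⟩) (ha0 ▸ q₀.zero_mem)
    · have h2 : algebraMap R (FractionRing R) a = algebraMap R (FractionRing R) (a + b) := by
        have := IsLocalization.mk'_spec (FractionRing R) a ⟨a + b, hnzd⟩
        rw [show IsLocalization.mk' (FractionRing R) a ⟨a + b, hnzd⟩ = 1 from h1, one_mul] at this
        exact this.symm
      have h3 := IsFractionRing.injective R (FractionRing R) h2
      have hb0 : b = 0 := by
        have : a + b = a + 0 := by rw [add_zero]; exact h3.symm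
        exact add_left_cancel this
      exact hbp (hb0 ▸ p.zero_mem)

theorem finite_minimalPrimes_red (A : Type*) [CommRing A] (hfin : (minimalPrimes A).Finite) :
    (minimalPrimes (CAlg2.red A)).Finite := by
  have h1 := Ideal.comap_minimalPrimes_eq_of_surjective
    (f := Ideal.Quotient.mk (nilradical A)) Ideal.Quotient.mk_surjective (⊥ : Ideal (CAlg2.red A))
  have h2 : Ideal.comap (Ideal.Quotient.mk (nilradical A)) (⊥ : Ideal (CAlg2.red A)) =
      nilradical A := by
    rw [← RingHom.ker_eq_comap_bot, Ideal.mk_ker]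
  have h1' : minimalPrimes A = Ideal.comap (Ideal.Quotient.mk (nilradical A)) ''
      (minimalPrimes (CAlg2.red A)) :=
    calc minimalPrimes A = (⊥ : Ideal A).radical.minimalPrimes := Ideal.radical_minimalPrimes.symm
      _ = (Ideal.comap (Ideal.Quotient.mk (nilradical A))
            (⊥ : Ideal (CAlg2.red A))).minimalPrimes := congrArg Ideal.minimalPrimes h2.symm
      _ = _ := h1
  have h3 : (Ideal.comap (Ideal.Quotient.mk (nilradical A)) ''
      (minimalPrimes (CAlg2.red A))).Finite := by
    rw [← h1']
    exact hfin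
  exact Set.Finite.of_finite_image h3
    ((Ideal.comap_injective_of_surjective _ Ideal.Quotient.mk_surjective).injOn)

theorem finite_minimalPrimes_of_isDomain_red (A : Type*) [CommRing A] [IsDomain (CAlg2.red A)] :
    (minimalPrimes A).Finite := by
  have hprime : (nilradical A).IsPrime := (Ideal.Quotient.isDomain_iff_prime _).mp inferInstance
  refine (Set.finite_singleton (nilradical A)).subset ?_
  intro p hp
  have h1 : nilradical A ≤ p := by
    haveI := hp.1.1
    exact nilradical_le_prime p
  exact le_antisymm (hp.2 ⟨hprime, bot_le⟩ h1) h1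

theorem trivial_idempotents_of_isLocalRing_normRed (A : Type*) [CommRing A]
    [IsLocalRing (CAlg2.normRed A)] (e : FractionRing (CAlg2.red A)) (he : e * e = e) :
    e = 0 ∨ e = 1 := by
  have hint : IsIntegral (CAlg2.red A) e := by
    refine ⟨Polynomial.X * (Polynomial.X - Polynomial.C 1),
      Polynomial.monic_X.mul (Polynomial.monic_X_sub_C 1), ?_⟩
    simp [mul_sub, he]
  let e' : CAlg2.normRed A := ⟨e, hint⟩
  have he' : e' * e' = e' := Subtype.ext he
  rcases IsLocalRing.isUnit_or_isUnit_one_sub_self e' with hu | hu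
  · right
    have : e' * (1 - e') = 0 := by rw [mul_sub, mul_one, he', sub_self]
    have h1 : 1 - e' = 0 := hu.mul_right_eq_zero.mp this
    have h2 : e' = 1 := (sub_eq_zero.mp h1).symm
    exact congrArg Subtype.val h2
  · left
    have : (1 - e') * e' = 0 := by rw [sub_mul, one_mul, he', sub_self]
    have h1 : e' = 0 := hu.mul_right_eq_zero.mp this
    exact congrArg Subtype.val h1

end Idem

theorem numBranches_eq_one_iff (A : Type u) [CommRing A] [IsLocalRing A] :
    Brnch.numBranches A = 1 ↔ CAlg2.IsUnibranch A := by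
  classical
  unfold Brnch.numBranches CAlg2.IsUnibranch
  constructor
  · intro h
    by_cases hfin : (minimalPrimes A).Finite
    · rw [if_pos hfin] at h
      obtain ⟨hU⟩ := ENat.card_eq_one_iff_unique.mp h
      haveI hloc : IsLocalRing (CAlg2.normRed A) :=
        IsLocalRing.of_unique_max_ideal ⟨hU.default.asIdeal, hU.default.isMaximal,
          fun I hI => congrArg MaximalSpectrum.asIdeal (hU.uniq ⟨I, hI⟩)⟩
      refine ⟨?_, hloc⟩
      haveI : IsReduced (CAlg2.red A) :=
        (Ideal.isRadical_iff_quotient_reduced _).mp (Ideal.radical_isRadical _)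
      haveI : Nontrivial (CAlg2.red A) :=
        Ideal.Quotient.nontrivial_iff.mpr (fun h => by
          have : (1 : A) ∈ nilradical A := h ▸ Submodule.mem_top
          obtain ⟨n, hn⟩ := mem_nilradical.mp this
          rw [one_pow] at hn
          exact one_ne_zero hn)
      exact isDomain_of_trivial_idempotents _ (finite_minimalPrimes_red A hfin)
        (trivial_idempotents_of_isLocalRing_normRed A)
    · rw [if_neg hfin] at h
      exact absurd h (by simp)
  · rintro ⟨hd, hl⟩
    haveI := hd
    haveI := hl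
    rw [if_pos (finite_minimalPrimes_of_isDomain_red A), ENat.card_eq_one_iff_unique]
    exact ⟨{ default := ⟨IsLocalRing.maximalIdeal _, inferInstance⟩
             uniq := fun m => MaximalSpectrum.ext (IsLocalRing.eq_maximalIdeal m.isMaximal) }⟩


section GeomBranches

open IsLocalRing

attribute [local instance] fieldQuotMax

variable (A : Type u) [CommRing A] [IsLocalRing A]

/-- The canonical map `A → normRed A`. -/
noncomputable def canNorm : A →+* CAlg2.normRed A :=
  (algebraMap (CAlg2.red A) (CAlg2.normRed A)).comp (Ideal.Quotient.mk (nilradical A))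

omit [IsLocalRing A] in
theorem canNorm_isIntegral : (canNorm A).IsIntegral :=
  RingHom.IsIntegral.trans _ _ (RingHom.isIntegral_of_surjective _ Ideal.Quotient.mk_surjective)
    (algebraMap_isIntegral_iff.mpr inferInstance)

theorem ker_toClosure : RingHom.ker (Brnch.toClosure A) = maximalIdeal A := by
  ext a
  rw [RingHom.mem_ker, ← IsLocalRing.residue_eq_zero_iff]
  unfold Brnch.toClosure
  rw [RingHom.comp_apply]
  exact map_eq_zero_iff _ (RingHom.injective _)

theorem isMaximal_ker_of_comp_eq (τ : CAlg2.normRed A →+* AlgebraicClosure (ResidueField A))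
    (hτ : τ.comp (canNorm A) = Brnch.toClosure A) : (RingHom.ker τ).IsMaximal := by
  letI : Algebra A (CAlg2.normRed A) := (canNorm A).toAlgebra
  haveI : Algebra.IsIntegral A (CAlg2.normRed A) := ⟨canNorm_isIntegral A⟩
  haveI : (RingHom.ker τ).IsPrime := RingHom.ker_isPrime τ
  apply Ideal.isMaximal_of_isIntegral_of_isMaximal_comap (R := A)
  show ((RingHom.ker τ).comap (canNorm A)).IsMaximal
  rw [RingHom.comap_ker, hτ, ker_toClosure]
  exact maximalIdeal.isMaximal A

/-- A point of the sigma type of geometric branches from a ring map to the algebraic closure. -/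
noncomputable def branchOf (τ : CAlg2.normRed A →+* AlgebraicClosure (ResidueField A))
    (hτ : τ.comp (canNorm A) = Brnch.toClosure A) :
    Σ m' : MaximalSpectrum (CAlg2.normRed A), Brnch.Emb A m' :=
  ⟨⟨RingHom.ker τ, isMaximal_ker_of_comp_eq A τ hτ⟩,
    ⟨Ideal.Quotient.lift (RingHom.ker τ) τ (fun _ ha => ha), by
      rw [← hτ]; ext a; rfl⟩⟩

/-- The ring map associated with a geometric branch. -/
noncomputable def mapOf (x : Σ m' : MaximalSpectrum (CAlg2.normRed A), Brnch.Emb A m') :
    CAlg2.normRed A →+* AlgebraicClosure (ResidueField A) :=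
  x.2.1.comp (Ideal.Quotient.mk x.1.asIdeal)

theorem mapOf_branchOf (τ : CAlg2.normRed A →+* AlgebraicClosure (ResidueField A))
    (hτ : τ.comp (canNorm A) = Brnch.toClosure A) : mapOf A (branchOf A τ hτ) = τ := by
  ext c; rfl

theorem mapOf_comp (x : Σ m' : MaximalSpectrum (CAlg2.normRed A), Brnch.Emb A m') :
    (mapOf A x).comp (canNorm A) = Brnch.toClosure A := by
  rw [← x.2.2]; rfl

theorem mapOf_injective : Function.Injective (mapOf A) := by
  rintro ⟨m₁, σ₁⟩ ⟨m₂, σ₂⟩ h
  have hk : ∀ (m : MaximalSpectrum (CAlg2.normRed A)) (σ : Brnch.Emb A m),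
      RingHom.ker (mapOf A ⟨m, σ⟩) = m.asIdeal := by
    intro m σ
    letI : Field (CAlg2.normRed A ⧸ m.asIdeal) := Ideal.Quotient.field _
    ext c
    show σ.1 (Ideal.Quotient.mk _ c) = 0 ↔ _
    rw [map_eq_zero_iff _ σ.1.injective, Ideal.Quotient.eq_zero_iff_mem]
  have hm : m₁ = m₂ := by
    apply MaximalSpectrum.ext
    rw [← hk m₁ σ₁, ← hk m₂ σ₂, h]
  subst hm
  congr 1
  apply Subtype.ext
  apply Ideal.Quotient.ringHom_ext
  exact h

theorem numGeomBranches_eq_one_iff :
    Brnch.numGeomBranches A = 1 ↔ CAlg2.IsGeomUnibranch A := by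
  classical
  letI : Algebra A (CAlg2.normRed A) := (canNorm A).toAlgebra
  haveI : Algebra.IsIntegral A (CAlg2.normRed A) := ⟨canNorm_isIntegral A⟩
  rw [isGeomUnibranch_iff_of_ringEquiv A (RingEquiv.refl _) (canNorm A) (fun a => rfl)]
  unfold Brnch.numGeomBranches
  constructor
  · intro h
    by_cases hfin : (minimalPrimes A).Finite
    · rw [if_pos hfin] at h
      obtain ⟨hU⟩ := ENat.card_eq_one_iff_unique.mp h
      have H : ∀ τ₁ τ₂ : CAlg2.normRed A →+* AlgebraicClosure (A ⧸ maximalIdeal A),
          τ₁.comp (algebraMap A (CAlg2.normRed A)) = toAlgClosure A →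
          τ₂.comp (algebraMap A (CAlg2.normRed A)) = toAlgClosure A → τ₁ = τ₂ := by
        intro τ₁ τ₂ h₁ h₂
        have e := (hU.uniq (branchOf A τ₁ h₁)).trans (hU.uniq (branchOf A τ₂ h₂)).symm
        have := congrArg (mapOf A) e
        exact (mapOf_branchOf A τ₁ h₁).symm.trans (this.trans (mapOf_branchOf A τ₂ h₂))
      haveI : Nontrivial (CAlg2.red A) :=
        Ideal.Quotient.nontrivial_iff.mpr (fun h => by
          have : (1 : A) ∈ nilradical A := h ▸ Submodule.mem_top
          obtain ⟨n, hn⟩ := mem_nilradical.mp this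
          rw [one_pow] at hn
          exact one_ne_zero hn)
      haveI : Nontrivial (FractionRing (CAlg2.red A)) :=
        (IsFractionRing.injective (CAlg2.red A) (FractionRing (CAlg2.red A))).nontrivial
      haveI : Nontrivial (CAlg2.normRed A) :=
        ⟨⟨0, 1, fun h => zero_ne_one (congrArg Subtype.val h)⟩⟩
      obtain ⟨hloc, hP⟩ := isLocalRing_and_powMem_of_unique (R := A) (S := CAlg2.normRed A) H
      have hnb : Brnch.numBranches A = 1 := by
        unfold Brnch.numBranches
        rw [if_pos hfin, ENat.card_eq_one_iff_unique]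
        exact ⟨{ default := ⟨IsLocalRing.maximalIdeal _, inferInstance⟩
                 uniq := fun m => MaximalSpectrum.ext (IsLocalRing.eq_maximalIdeal m.isMaximal) }⟩
      exact ⟨((numBranches_eq_one_iff A).mp hnb).1, hloc, hP⟩
    · rw [if_neg hfin] at h
      exact absurd h (by simp)
  · rintro ⟨hd, hl, hP⟩
    haveI := hd
    haveI := hl
    rw [if_pos (finite_minimalPrimes_of_isDomain_red A), ENat.card_eq_one_iff_unique,
      unique_iff_subsingleton_and_nonempty]
    constructor
    · refine ⟨fun x y => mapOf_injective A ?_⟩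
      refine ringHom_ext_of_powMem (R := A) hP _ _ ?_ ?_
      · show (mapOf A x).comp (canNorm A) = (mapOf A y).comp (canNorm A)
        rw [mapOf_comp, mapOf_comp]
      · show RingHom.ker ((mapOf A x).comp (canNorm A)) = _
        rw [mapOf_comp]; exact ker_toClosure A
    · obtain ⟨τ, hτ, -⟩ := exists_ringHom_ker_eq (R := A) (maximalIdeal (CAlg2.normRed A))
      exact ⟨branchOf A τ hτ⟩

end GeomBranches

end Groth.Agent.Lib.Helper4.Unibranch
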