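/-
Helper library (helper4): the total ring of fractions of a reduced ring with finitely many minimal primes
is the product of the fraction fields of the quotients by the minimal primes.
-/
import Mathlib
import Groth.Agent.Lib.Helper4TotalFrac

set_option autoImplicit false
set_option linter.style.haveILetI false
set_option linter.unusedSectionVars false
set_option linter.unusedVariables false
universe u

namespace Groth.Agent.Lib.Helper4.TotalFracFin

open Groth.Agent.Lib.Helper4

section Basic

variable {R : Type u} [CommRing R]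

theorem eq_zero_of_forall_mem_minimalPrimes [IsReduced R] (x : R)
    (h : ∀ q ∈ minimalPrimes R, x ∈ q) : x = 0 := by
  have hInf : sInf (minimalPrimes R) = (⊥ : Ideal R) := by
    have := Ideal.sInf_minimalPrimes (I := (⊥ : Ideal R))
    rw [show (⊥ : Ideal R).radical = nilradical R from rfl, nilradical_eq_zero] at this
    exact this
  have : x ∈ sInf (minimalPrimes R) := by
    rw [Submodule.mem_sInf]; exact h
  rwa [hInf] at this

theorem mem_nonZeroDivisors_of_forall_notMem [IsReduced R] (x : R)
    (h : ∀ q ∈ minimalPrimes R, x ∉ q) : x ∈ nonZeroDivisors R := by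
  rw [mem_nonZeroDivisors_iff_right]
  intro y hy
  apply eq_zero_of_forall_mem_minimalPrimes
  intro q hq
  have : y * x ∈ q := hy ▸ q.zero_mem
  exact (hq.1.1.mem_or_mem this).resolve_right (h q hq)

theorem exists_notMem_forall_mem (hfin : (minimalPrimes R).Finite) (p : Ideal R)
    (hp : p ∈ minimalPrimes R) :
    ∃ e : R, e ∉ p ∧ ∀ q ∈ minimalPrimes R, q ≠ p → e ∈ q := by
  classical
  haveI hpp : p.IsPrime := hp.1.1
  let T : Finset (Ideal R) := hfin.toFinset.erase p
  have hT : ∀ q, q ∈ T ↔ q ∈ minimalPrimes R ∧ q ≠ p := by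
    intro q
    simp only [T, Finset.mem_erase, Set.Finite.mem_toFinset]
    tauto
  have h1 : ¬ (T.inf id ≤ p) := by
    rw [Ideal.IsPrime.inf_le' hpp]
    rintro ⟨q, hq, hqp'⟩
    obtain ⟨hqm, hqp⟩ := (hT q).mp hq
    exact hqp (le_antisymm hqp' (hp.2 ⟨hqm.1.1, bot_le⟩ hqp'))
  rw [SetLike.not_le_iff_exists] at h1
  obtain ⟨b, hb, hbp⟩ := h1
  exact ⟨b, hbp, fun q hq hqp => (Submodule.mem_finsetInf.mp hb) q ((hT q).mpr ⟨hq, hqp⟩)⟩

end Basic

section Main

variable (R : Type u) [CommRing R] [IsReduced R]

instance isPrime_of_mem_minimalPrimes (p : minimalPrimes R) : p.1.IsPrime := p.2.1.1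

/-- The product of the fraction fields of the quotients by the minimal primes. -/
abbrev PiFrac : Type u := ∀ p : minimalPrimes R, FractionRing (R ⧸ p.1)

omit [IsReduced R] in
theorem algebraMap_piFrac_apply (r : R) (p : minimalPrimes R) :
    algebraMap R (PiFrac R) r p =
      algebraMap (R ⧸ p.1) (FractionRing (R ⧸ p.1)) (Ideal.Quotient.mk p.1 r) := rfl

variable {R}

theorem isFractionRing_piFrac (hfin : (minimalPrimes R).Finite) :
    IsFractionRing R (PiFrac R) := by
  classical
  haveI : Finite (minimalPrimes R) := hfin.to_subtype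
  haveI : Fintype (minimalPrimes R) := Fintype.ofFinite _
  have hinj : ∀ p : minimalPrimes R,
      Function.Injective (algebraMap (R ⧸ p.1) (FractionRing (R ⧸ p.1))) :=
    fun p => IsFractionRing.injective _ _
  refine ⟨⟨?_, ?_, ?_⟩⟩
  · -- units
    rintro ⟨s, hs⟩
    rw [Pi.isUnit_iff]
    intro p
    rw [algebraMap_piFrac_apply, isUnit_iff_ne_zero, Ne, map_eq_zero_iff _ (hinj p),
      Ideal.Quotient.eq_zero_iff_mem]
    intro hsp
    exact (Set.disjoint_left.mp (Ideal.disjoint_nonZeroDivisors_of_mem_minimalPrimes p.2)) hsp hs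
  · -- surj
    intro z
    choose e he1 he2 using fun p : minimalPrimes R => exists_notMem_forall_mem hfin p.1 p.2
    have hz : ∀ p : minimalPrimes R, ∃ a b : R, b ∉ p.1 ∧
        z p * algebraMap (R ⧸ p.1) _ (Ideal.Quotient.mk p.1 b) =
          algebraMap (R ⧸ p.1) _ (Ideal.Quotient.mk p.1 a) := by
      intro p
      obtain ⟨⟨a, b⟩, hab⟩ := IsLocalization.surj (nonZeroDivisors (R ⧸ p.1)) (z p)
      obtain ⟨a', rfl⟩ := Ideal.Quotient.mk_surjective a
      obtain ⟨b', hb'⟩ := Ideal.Quotient.mk_surjective b.1
      refine ⟨a', b', ?_, ?_⟩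
      · intro hmem
        have : (b : R ⧸ p.1) = 0 := by rw [← hb']; exact Ideal.Quotient.eq_zero_iff_mem.mpr hmem
        exact nonZeroDivisors.coe_ne_zero b this
      · rw [hb']; exact hab
    choose a b hb hab using hz
    have hsum : ∀ (c : minimalPrimes R → R) (q : minimalPrimes R),
        Ideal.Quotient.mk q.1 (∑ p, e p * c p) = Ideal.Quotient.mk q.1 (e q * c q) := by
      intro c q
      rw [map_sum]
      refine Finset.sum_eq_single q (fun p _ hpq => ?_) (fun h => absurd (Finset.mem_univ q) h)
      rw [Ideal.Quotient.eq_zero_iff_mem]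
      exact q.1.mul_mem_right _ (he2 p q.1 q.2 (fun h => hpq (Subtype.ext h.symm)))
    have hs : (∑ p, e p * b p) ∈ nonZeroDivisors R := by
      apply mem_nonZeroDivisors_of_forall_notMem
      intro q hq hmem
      have h1 := hsum b ⟨q, hq⟩
      rw [Ideal.Quotient.eq_zero_iff_mem.mpr hmem] at h1
      have h2 : e ⟨q, hq⟩ * b ⟨q, hq⟩ ∈ q := Ideal.Quotient.eq_zero_iff_mem.mp h1.symm
      rcases hq.1.1.mem_or_mem h2 with h | h
      · exact he1 ⟨q, hq⟩ h
      · exact hb ⟨q, hq⟩ h
    refine ⟨(∑ p, e p * a p, ⟨∑ p, e p * b p, hs⟩), ?_⟩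
    funext q
    show z q * algebraMap R (PiFrac R) (∑ p, e p * b p) q = algebraMap R (PiFrac R) (∑ p, e p * a p) q
    rw [algebraMap_piFrac_apply, algebraMap_piFrac_apply, hsum, hsum, map_mul, map_mul, map_mul,
      map_mul]
    rw [mul_left_comm, hab q]
  · -- eq
    intro x y hxy
    refine ⟨1, ?_⟩
    rw [OneMemClass.coe_one, one_mul, one_mul]
    rw [← sub_eq_zero]
    apply eq_zero_of_forall_mem_minimalPrimes
    intro q hq
    have := congrFun hxy ⟨q, hq⟩
    rw [algebraMap_piFrac_apply, algebraMap_piFrac_apply] at this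
    have h2 := hinj ⟨q, hq⟩ this
    exact (Ideal.Quotient.eq).mp h2

end Main

section Card

theorem enat_card_sigma {ι : Type*} [Fintype ι] (X : ι → Type*) :
    ENat.card (Σ i, X i) = ∑ i, ENat.card (X i) := by
  classical
  by_cases hX : ∀ i, Finite (X i)
  · haveI := hX
    haveI : ∀ i, Fintype (X i) := fun i => Fintype.ofFinite _
    rw [ENat.card_eq_coe_fintype_card, Fintype.card_sigma, Nat.cast_sum]
    exact Finset.sum_congr rfl (fun i _ => ENat.card_eq_coe_fintype_card.symm)
  · push Not at hX
    obtain ⟨i₀, hi₀⟩ := hX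
    haveI : Infinite (Σ i, X i) := Infinite.of_injective (Sigma.mk i₀) sigma_mk_injective
    rw [ENat.card_eq_top_of_infinite]
    symm
    rw [eq_top_iff]
    calc (⊤ : ℕ∞) = ENat.card (X i₀) := (ENat.card_eq_top_of_infinite).symm
      _ ≤ ∑ i, ENat.card (X i) :=
        Finset.single_le_sum (f := fun i => ENat.card (X i)) (fun _ _ => zero_le) (Finset.mem_univ i₀)

end Card

section MaxSpec

/-- A ring isomorphism induces a bijection of maximal spectra. -/
noncomputable def maxSpecEquiv {S T : Type*} [CommRing S] [CommRing T] (e : S ≃+* T) :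
    MaximalSpectrum S ≃ MaximalSpectrum T where
  toFun m := ⟨m.asIdeal.comap e.symm.toRingHom,
    haveI := m.isMaximal
    Ideal.comap_isMaximal_of_surjective _ e.symm.surjective⟩
  invFun n := ⟨n.asIdeal.comap e.toRingHom,
    haveI := n.isMaximal
    Ideal.comap_isMaximal_of_surjective _ e.surjective⟩
  left_inv m := by
    apply MaximalSpectrum.ext
    ext x
    show e.symm (e x) ∈ m.asIdeal ↔ _
    rw [e.symm_apply_apply]
  right_inv n := by
    apply MaximalSpectrum.ext
    ext x
    show e (e.symm x) ∈ n.asIdeal ↔ _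
    rw [e.apply_symm_apply]

variable {ι : Type*} [Finite ι] (C : ι → Type*) [∀ i, CommRing (C i)]

/-- Maximal ideals of a finite product. -/
noncomputable def sigmaToPiMax : (Σ i, MaximalSpectrum (C i)) → MaximalSpectrum (∀ i, C i) :=
  fun x => ⟨x.2.asIdeal.comap (Pi.evalRingHom C x.1),
    haveI := x.2.isMaximal
    Ideal.comap_isMaximal_of_surjective _ (Function.surjective_eval x.1)⟩

theorem sigmaToPiMax_bijective : Function.Bijective (sigmaToPiMax C) := by
  constructor
  · rintro ⟨i, m⟩ ⟨j, n⟩ h
    have h1 : PrimeSpectrum.sigmaToPi C ⟨i, m.toPrimeSpectrum⟩ =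
        PrimeSpectrum.sigmaToPi C ⟨j, n.toPrimeSpectrum⟩ := by
      apply PrimeSpectrum.ext
      exact congrArg MaximalSpectrum.asIdeal h
    have h2 := PrimeSpectrum.sigmaToPi_injective C h1
    obtain ⟨rfl, h3⟩ := Sigma.mk.inj_iff.mp h2
    rw [heq_iff_eq] at h3
    congr 1
    exact MaximalSpectrum.toPrimeSpectrum_injective h3
  · intro M
    obtain ⟨⟨i, q⟩, hq⟩ := (PrimeSpectrum.sigmaToPi_bijective C).2 M.toPrimeSpectrum
    have hq' : q.asIdeal.comap (Pi.evalRingHom C i) = M.asIdeal :=
      congrArg PrimeSpectrum.asIdeal hq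
    have hmax : q.asIdeal.IsMaximal := by
      haveI := M.isMaximal
      have := Ideal.map_eq_top_or_isMaximal_of_surjective (Pi.evalRingHom C i)
        (Function.surjective_eval i) M.isMaximal
      rw [← hq', Ideal.map_comap_of_surjective _ (Function.surjective_eval i)] at this
      exact this.resolve_left q.2.ne_top
    exact ⟨⟨i, ⟨q.asIdeal, hmax⟩⟩, MaximalSpectrum.ext hq'⟩

theorem enat_card_maxSpec_pi {ι : Type*} [Fintype ι] (C : ι → Type*) [∀ i, CommRing (C i)] :
    ENat.card (MaximalSpectrum (∀ i, C i)) = ∑ i, ENat.card (MaximalSpectrum (C i)) := by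
  rw [← enat_card_sigma]
  exact (ENat.card_congr (Equiv.ofBijective _ (sigmaToPiMax_bijective C))).symm

end MaxSpec

section Pts

variable {ι : Type*} [Finite ι] (C : ι → Type*) [∀ i, CommRing (C i)] {A Ω : Type*} [CommRing A]
  [CommRing Ω] [IsDomain Ω] (j : ∀ i, A →+* C i) (c : A →+* Ω)

/-- Ring maps from a finite product to a domain factor through exactly one projection. -/
def sigmaToPiPts : (Σ i, {τ : C i →+* Ω // τ.comp (j i) = c}) →
    {τ : (∀ i, C i) →+* Ω // τ.comp (RingHom.pi j) = c} :=
  fun x => ⟨x.2.1.comp (Pi.evalRingHom C x.1), by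
    rw [RingHom.comp_assoc]
    exact x.2.2⟩

theorem sigmaToPiPts_bijective : Function.Bijective (sigmaToPiPts C j c) := by
  classical
  constructor
  · rintro ⟨i, τ, hτ⟩ ⟨i', τ', hτ'⟩ h
    have h1 : ∀ y : ∀ i, C i, τ (y i) = τ' (y i') := fun y =>
      congrArg (fun f : {τ : (∀ i, C i) →+* Ω // τ.comp (RingHom.pi j) = c} => f.1 y) h
    have hii' : i = i' := by
      by_contra hne
      have := h1 (Pi.single i 1)
      rw [Pi.single_eq_same, Pi.single_eq_of_ne (Ne.symm hne), map_one, map_zero] at this
      exact one_ne_zero this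
    subst hii'
    have : τ = τ' := by
      ext x
      have := h1 (Pi.single i x)
      rwa [Pi.single_eq_same] at this
    subst this
    rfl
  · rintro ⟨τ, hτ⟩
    haveI : (RingHom.ker τ).IsPrime := RingHom.ker_isPrime τ
    obtain ⟨⟨i, q⟩, hq⟩ := (PrimeSpectrum.sigmaToPi_bijective C).2 ⟨RingHom.ker τ, inferInstance⟩
    have hq' : q.asIdeal.comap (Pi.evalRingHom C i) = RingHom.ker τ :=
      congrArg PrimeSpectrum.asIdeal hq
    have hker : RingHom.ker (Pi.evalRingHom C i) ≤ RingHom.ker τ := by
      rw [← hq']
      intro x hx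
      rw [RingHom.mem_ker] at hx
      rw [Ideal.mem_comap, hx]
      exact q.asIdeal.zero_mem
    have hri : Function.RightInverse (Pi.single i : C i → ∀ i, C i) (Pi.evalRingHom C i) :=
      fun x => Pi.single_eq_same i x
    let τi : C i →+* Ω := (Pi.evalRingHom C i).liftOfRightInverse (Pi.single i) hri ⟨τ, hker⟩
    have hτi : τi.comp (Pi.evalRingHom C i) = τ :=
      (Pi.evalRingHom C i).liftOfRightInverse_comp (Pi.single i) hri ⟨τ, hker⟩
    refine ⟨⟨i, τi, ?_⟩, Subtype.ext hτi⟩
    rw [← hτ, ← hτi, RingHom.comp_assoc]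
    rfl

theorem enat_card_pts_pi {ι : Type*} [Fintype ι] (C : ι → Type*) [∀ i, CommRing (C i)]
    {A Ω : Type*} [CommRing A] [CommRing Ω] [IsDomain Ω] (j : ∀ i, A →+* C i) (c : A →+* Ω) :
    ENat.card {τ : (∀ i, C i) →+* Ω // τ.comp (RingHom.pi j) = c} =
      ∑ i, ENat.card {τ : C i →+* Ω // τ.comp (j i) = c} := by
  rw [← enat_card_sigma]
  exact (ENat.card_congr (Equiv.ofBijective _ (sigmaToPiPts_bijective C j c))).symm

end Pts

section Quot

variable (R : Type u) [CommRing R] (p : Ideal R) [p.IsPrime]

theorem isIntegral_quot_iff (x : FractionRing (R ⧸ p)) :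
    IsIntegral R x ↔ IsIntegral (R ⧸ p) x := by
  constructor
  · intro h
    exact h.tower_top
  · intro h
    haveI : Algebra.IsIntegral R (R ⧸ p) :=
      Algebra.isIntegral_of_surjective Ideal.Quotient.mk_surjective
    exact isIntegral_trans x h

/-- The integral closure of `R` in the fraction field of `R / p` is that of `R / p`. -/
noncomputable def integralClosureQuotEquiv :
    integralClosure R (FractionRing (R ⧸ p)) ≃+* integralClosure (R ⧸ p) (FractionRing (R ⧸ p)) where
  toFun x := ⟨x.1, (isIntegral_quot_iff R p x.1).mp x.2⟩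
  invFun y := ⟨y.1, (isIntegral_quot_iff R p y.1).mpr y.2⟩
  left_inv x := rfl
  right_inv y := rfl
  map_mul' x y := rfl
  map_add' x y := rfl

theorem integralClosureQuotEquiv_algebraMap (r : R) :
    integralClosureQuotEquiv R p (algebraMap R _ r) =
      algebraMap (R ⧸ p) _ (Ideal.Quotient.mk p r) := rfl

end Quot

section Norm

variable {R : Type u} [CommRing R] [IsReduced R]

/-- The normalization of a reduced ring with finitely many minimal primes is the product of the
normalizations of the quotients by its minimal primes. -/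
noncomputable def normPiEquiv (hfin : (minimalPrimes R).Finite) :
    integralClosure R (FractionRing R) ≃+*
      ∀ p : minimalPrimes R, integralClosure (R ⧸ p.1) (FractionRing (R ⧸ p.1)) :=
  haveI : Finite (minimalPrimes R) := hfin.to_subtype
  haveI : IsFractionRing R (PiFrac R) := isFractionRing_piFrac hfin
  (((FractionRing.algEquiv R (PiFrac R)).mapIntegralClosure).trans
    (TotalFrac.integralClosurePiEquiv R (fun p : minimalPrimes R => FractionRing (R ⧸ p.1)))).toRingEquiv.trans
    (RingEquiv.piCongrRight (fun p : minimalPrimes R => integralClosureQuotEquiv R p.1))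

theorem normPiEquiv_algebraMap (hfin : (minimalPrimes R).Finite) (r : R) (p : minimalPrimes R) :
    normPiEquiv hfin (algebraMap R _ r) p =
      algebraMap (R ⧸ p.1) _ (Ideal.Quotient.mk p.1 r) := by
  haveI : Finite (minimalPrimes R) := hfin.to_subtype
  haveI : IsFractionRing R (PiFrac R) := isFractionRing_piFrac hfin
  apply Subtype.ext
  show (FractionRing.algEquiv R (PiFrac R)) (algebraMap R (FractionRing R) r) p = _
  rw [AlgEquiv.commutes]
  rfl

end Norm

section Normal

/-- A ring all of whose localizations at maximal ideals are integrally closed domains is integrally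
closed in its total ring of fractions. -/
theorem isIntegrallyClosedIn_of_forall_localization {R : Type*} [CommRing R]
    (Q : Type*) [CommRing Q] [Algebra R Q] [IsFractionRing R Q]
    (h : ∀ (m : Ideal R) [m.IsMaximal],
      IsDomain (Localization.AtPrime m) ∧ IsIntegrallyClosed (Localization.AtPrime m)) :
    IsIntegrallyClosedIn R Q := by
  rw [isIntegrallyClosedIn_iff]
  refine ⟨IsFractionRing.injective R Q, ?_⟩
  intro x hx
  obtain ⟨a, b, rfl⟩ := IsLocalization.exists_mk'_eq (nonZeroDivisors R) x
  -- the conductor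
  let I : Ideal R :=
    { carrier := {r | ∃ c, r * a = b * c}
      add_mem' := by
        rintro r r' ⟨c, hc⟩ ⟨c', hc'⟩
        exact ⟨c + c', by rw [add_mul, hc, hc', mul_add]⟩
      zero_mem' := ⟨0, by rw [zero_mul, mul_zero]⟩
      smul_mem' := by
        rintro s r ⟨c, hc⟩
        exact ⟨s * c, by rw [smul_eq_mul, mul_assoc, hc, mul_left_comm]⟩ }
  by_cases hI : I = ⊤
  · have h1 : (1 : R) ∈ I := hI ▸ Submodule.mem_top
    obtain ⟨c, hc⟩ := h1
    rw [one_mul] at hc
    refine ⟨c, ?_⟩
    rw [eq_comm, IsLocalization.mk'_eq_iff_eq_mul, hc, map_mul, mul_comm]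
  · exfalso
    obtain ⟨m, hm, hIm⟩ := Ideal.exists_le_maximal I hI
    obtain ⟨hdom, hic⟩ := h m
    let S := Localization.AtPrime m
    let K := FractionRing S
    have hb' : algebraMap R S b ≠ 0 := by
      intro h0
      rw [IsLocalization.map_eq_zero_iff m.primeCompl] at h0
      obtain ⟨t, ht⟩ := h0
      have : (t : R) = 0 := by
        have := b.2
        rw [mem_nonZeroDivisors_iff_right] at this
        exact this _ ht
      exact t.2 (this ▸ m.zero_mem)
    -- the map Q(R) → Frac(R_m)
    have hunits : ∀ s : nonZeroDivisors R, IsUnit (((algebraMap S K).comp (algebraMap R S)) s) := by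
      intro s
      rw [isUnit_iff_ne_zero, RingHom.comp_apply, Ne,
        map_eq_zero_iff _ (IsFractionRing.injective S K)]
      intro h0
      rw [IsLocalization.map_eq_zero_iff m.primeCompl] at h0
      obtain ⟨t, ht⟩ := h0
      have : (t : R) = 0 := by
        have := s.2
        rw [mem_nonZeroDivisors_iff_right] at this
        exact this _ ht
      exact t.2 (this ▸ m.zero_mem)
    let φ : Q →+* K := IsLocalization.lift hunits
    have hφ : ∀ r : R, φ (algebraMap R Q r) = algebraMap S K (algebraMap R S r) :=
      fun r => IsLocalization.lift_eq hunits r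
    have hint : IsIntegral S (φ (IsLocalization.mk' Q a b)) :=
      IsIntegral.map_of_comp_eq (algebraMap R S) φ (by ext r; exact (hφ r).symm) hx
    obtain ⟨z, hz⟩ := (isIntegrallyClosed_iff K).mp hic hint
    have h1 : z * algebraMap R S b = algebraMap R S a := by
      apply IsFractionRing.injective S K
      rw [map_mul, hz, ← hφ, ← hφ, ← map_mul, IsLocalization.mk'_spec]
    obtain ⟨c, s, rfl⟩ := IsLocalization.exists_mk'_eq m.primeCompl z
    have h2 : algebraMap R S (b * c) = algebraMap R S (a * s) := by
      have h3 : IsLocalization.mk' S c s * algebraMap R S s = algebraMap R S c :=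
        IsLocalization.mk'_spec S c s
      rw [map_mul, map_mul, ← h1, ← h3]
      ring
    obtain ⟨t, ht⟩ := (IsLocalization.eq_iff_exists m.primeCompl S).mp h2
    have hmem : (t : R) * s ∈ I := ⟨t * c, by rw [mul_assoc, mul_comm (s : R) a, ← ht]; ring⟩
    have : (t : R) * s ∈ m := hIm hmem
    rcases (Ideal.IsMaximal.isPrime hm).mem_or_mem this with h' | h'
    · exact t.2 h'
    · exact s.2 h'

/-- A reduced ring with finitely many minimal primes that is integrally closed in its total ring of
fractions is a finite product of integrally closed domains. -/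
theorem forall_localization_of_isIntegrallyClosedIn_fractionRing {R : Type u} [CommRing R]
    [IsReduced R] (hfin : (minimalPrimes R).Finite) (h : IsIntegrallyClosedIn R (FractionRing R))
    (p : Ideal R) [p.IsPrime] :
    IsDomain (Localization.AtPrime p) ∧ IsIntegrallyClosed (Localization.AtPrime p) := by
  haveI : Finite (minimalPrimes R) := hfin.to_subtype
  rw [isIntegrallyClosedIn_iff] at h
  have hbij : Function.Bijective (algebraMap R (integralClosure R (FractionRing R))) := by
    constructor
    · intro x y hxy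
      exact h.1 (congrArg Subtype.val hxy)
    · rintro ⟨x, hx⟩
      obtain ⟨y, hy⟩ := h.2 hx
      exact ⟨y, Subtype.ext hy⟩
  let ψ : R ≃+* ∀ q : minimalPrimes R, integralClosure (R ⧸ q.1) (FractionRing (R ⧸ q.1)) :=
    (RingEquiv.ofBijective _ hbij).trans (normPiEquiv hfin)
  haveI : ∀ q : minimalPrimes R,
      IsIntegrallyClosed (integralClosure (R ⧸ q.1) (FractionRing (R ⧸ q.1))) :=
    fun q => TotalFrac.isIntegrallyClosed_integralClosure_field _ _
  exact TotalFrac.isDomain_isIntegrallyClosed_localization_of_ringEquiv ψ p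
    (fun P _ => TotalFrac.isDomain_isIntegrallyClosed_localization_pi _ P)

theorem normal_iff_isIntegrallyClosedIn_fractionRing {R : Type u} [CommRing R] [IsReduced R]
    (hfin : (minimalPrimes R).Finite) :
    (∀ (p : Ideal R) [p.IsPrime],
      IsDomain (Localization.AtPrime p) ∧ IsIntegrallyClosed (Localization.AtPrime p)) ↔
      IsIntegrallyClosedIn R (FractionRing R) :=
  ⟨fun h => isIntegrallyClosedIn_of_forall_localization (FractionRing R)
      (fun m _ => h m),
    fun h p _ => forall_localization_of_isIntegrallyClosedIn_fractionRing hfin h p⟩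

/-- An intermediate ring between `A` and its total ring of fractions `Q` has `Q` as its total ring
of fractions. -/
theorem isFractionRing_subalgebra {A Q : Type*} [CommRing A] [CommRing Q] [Algebra A Q]
    [IsFractionRing A Q] (B : Subalgebra A Q) : IsFractionRing B Q := by
  have hinjA : Function.Injective (algebraMap A Q) := IsFractionRing.injective A Q
  have hunitA : ∀ s : nonZeroDivisors A, IsUnit (algebraMap A Q s) :=
    fun s => IsLocalization.map_units Q s
  refine ⟨⟨?_, ?_, ?_⟩⟩
  · rintro ⟨b, hb⟩
    show IsUnit (b : Q)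
    obtain ⟨a, s, has⟩ := IsLocalization.exists_mk'_eq (nonZeroDivisors A) (b : Q)
    have hbs : (b : Q) * algebraMap A Q s = algebraMap A Q a := by
      rw [← has, IsLocalization.mk'_spec]
    have ha : a ∈ nonZeroDivisors A := by
      rw [mem_nonZeroDivisors_iff_right]
      intro c hc
      have h1 : algebraMap A B c * b = 0 := by
        apply Subtype.ext
        show algebraMap A Q c * (b : Q) = 0
        apply (hunitA s).mul_left_injective
        show algebraMap A Q c * (b : Q) * algebraMap A Q s = 0 * algebraMap A Q s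
        rw [mul_assoc, hbs, ← map_mul, hc, map_zero, zero_mul]
      have h2 : algebraMap A B c = 0 := by
        rw [mem_nonZeroDivisors_iff_right] at hb
        exact hb _ h1
      apply hinjA
      rw [map_zero]
      exact congrArg Subtype.val h2
    have h3 : IsUnit ((b : Q) * algebraMap A Q s) := by
      rw [hbs]
      exact hunitA ⟨a, ha⟩
    exact isUnit_of_mul_isUnit_left h3
  · intro x
    obtain ⟨a, s, has⟩ := IsLocalization.exists_mk'_eq (nonZeroDivisors A) x
    have hs : algebraMap A B s ∈ nonZeroDivisors B := by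
      rw [mem_nonZeroDivisors_iff_right]
      intro y hy
      apply Subtype.ext
      have h1 : (y : Q) * algebraMap A Q s = 0 := congrArg Subtype.val hy
      apply (hunitA s).mul_left_injective
      show (y : Q) * algebraMap A Q s = 0 * algebraMap A Q s
      rw [h1, zero_mul]
    refine ⟨(algebraMap A B a, ⟨algebraMap A B s, hs⟩), ?_⟩
    show x * algebraMap A Q s = algebraMap A Q a
    rw [← has, IsLocalization.mk'_spec]
  · intro x y hxy
    exact ⟨1, by rw [Subtype.ext hxy]⟩

/-- A reduced ring with finitely many minimal primes which is the intersection of a family of normal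
intermediate rings of its total ring of fractions is normal. -/
theorem normal_of_sInf_normal_subalgebras {A : Type u} [CommRing A] [IsReduced A]
    (hfin : (minimalPrimes A).Finite) (S : Set (Subalgebra A (FractionRing A)))
    (hS : ∀ B ∈ S, ∀ (p : Ideal B) [p.IsPrime],
      IsDomain (Localization.AtPrime p) ∧ IsIntegrallyClosed (Localization.AtPrime p))
    (hinf : sInf S = ⊥) (p : Ideal A) [p.IsPrime] :
    IsDomain (Localization.AtPrime p) ∧ IsIntegrallyClosed (Localization.AtPrime p) := by
  apply forall_localization_of_isIntegrallyClosedIn_fractionRing hfin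
  rw [isIntegrallyClosedIn_iff]
  refine ⟨IsFractionRing.injective A (FractionRing A), ?_⟩
  intro x hx
  have hmem : x ∈ sInf S := by
    rw [Algebra.mem_sInf]
    intro B hB
    haveI : IsFractionRing B (FractionRing A) := isFractionRing_subalgebra B
    have hB' : IsIntegrallyClosedIn B (FractionRing A) :=
      isIntegrallyClosedIn_of_forall_localization (FractionRing A) (fun m _ => hS B hB m)
    rw [isIntegrallyClosedIn_iff] at hB'
    obtain ⟨y, hy⟩ := hB'.2 (hx.tower_top (A := B))
    rw [← hy]
    exact y.2
  rw [hinf, Algebra.mem_bot] at hmem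
  exact hmem

end Normal

end Groth.Agent.Lib.Helper4.TotalFracFin
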