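import Mathlib
import Groth.Agent.Lib.Helper3IndEt
import Groth.Agent.Lib.Helper3EtNormal
import Groth.Agent.S0733
import Groth.Agent.S1964
import Groth.Agent.Lib.Helper3IndEtHz
import Groth.Agent.Lib.Helper3IndEtFlat
import Groth.Agent.Lib.Helper3HzP
import Groth.Agent.Lib.Helper3ShTensor
import Groth.Agent.Lib.Helper3TensorLocal
import Groth.Agent.Lib.Helper4TotalFracFin
import Groth.Agent.Lib.Helper4BranchCount

set_option autoImplicit false
set_option linter.unusedVariables false
set_option linter.unusedSectionVars false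
set_option linter.style.haveILetI false

open TensorProduct

universe u

namespace Groth.Agent.Lib.Helper3.Branch

open Groth.Agent.Lib.Helper3.IndEt

/-- "Local domain property" at a prime `M`: the localization `T_M` is a domain, stated elementwise. -/
def LDP {T : Type*} [CommRing T] (M : Ideal T) : Prop :=
  ∀ x y : T, x * y = 0 → (∃ u, u ∉ M ∧ u * x = 0) ∨ (∃ u, u ∉ M ∧ u * y = 0)

theorem ldp_of_isDomain_localization {E : Type*} [CommRing E] (Q : Ideal E) [Q.IsPrime]
    (h : IsDomain (Localization.AtPrime Q)) : LDP Q := by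
  intro x y hxy
  have h0 : algebraMap E (Localization.AtPrime Q) x * algebraMap E (Localization.AtPrime Q) y = 0 := by
    rw [← map_mul, hxy, map_zero]
  rcases mul_eq_zero.mp h0 with h1 | h1
  · left
    obtain ⟨m, hm⟩ := (IsLocalization.map_eq_zero_iff Q.primeCompl (Localization.AtPrime Q) x).mp h1
    exact ⟨m.1, m.2, hm⟩
  · right
    obtain ⟨m, hm⟩ := (IsLocalization.map_eq_zero_iff Q.primeCompl (Localization.AtPrime Q) y).mp h1
    exact ⟨m.1, m.2, hm⟩

/-- An algebra over a normal domain satisfying the factorization property has the local domain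
property at all primes. -/
theorem ldp_of_factor_of_normal_domain (R : Type u) [CommRing R] [IsDomain R] [IsIntegrallyClosed R]
    (T : Type u) [CommRing T] [Algebra R T] (H : Obj.Factor R T) (M : Ideal T) [M.IsPrime] :
    LDP M := by
  intro x y hxy
  let I : Ideal (MvPolynomial (Fin 2) R) := Ideal.span {MvPolynomial.X 0 * MvPolynomial.X 1}
  have hI : I.FG := ⟨{MvPolynomial.X 0 * MvPolynomial.X 1}, by simp [I]⟩
  haveI : Algebra.FinitePresentation R (MvPolynomial (Fin 2) R ⧸ I) :=
    Algebra.FinitePresentation.quotient hI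
  let ψ0 : MvPolynomial (Fin 2) R →ₐ[R] T := MvPolynomial.aeval ![x, y]
  have hψ0 : ∀ a ∈ I, ψ0 a = 0 := by
    intro a ha
    obtain ⟨c, rfl⟩ := Ideal.mem_span_singleton'.mp ha
    simp [ψ0, hxy]
  let ψ : (MvPolynomial (Fin 2) R ⧸ I) →ₐ[R] T := Ideal.Quotient.liftₐ I ψ0 hψ0
  obtain ⟨E, _, _, _, f, g, hfg⟩ := H (MvPolynomial (Fin 2) R ⧸ I) ψ
  let ex : E := f (Ideal.Quotient.mk I (MvPolynomial.X 0))
  let ey : E := f (Ideal.Quotient.mk I (MvPolynomial.X 1))
  have hex : g ex = x := by
    have := congr($hfg (Ideal.Quotient.mk I (MvPolynomial.X 0)))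
    rw [AlgHom.comp_apply] at this
    rw [this]
    simp [ψ, ψ0]
  have hey : g ey = y := by
    have := congr($hfg (Ideal.Quotient.mk I (MvPolynomial.X 1)))
    rw [AlgHom.comp_apply] at this
    rw [this]
    simp [ψ, ψ0]
  have hexy : ex * ey = 0 := by
    show f _ * f _ = 0
    have h0 : Ideal.Quotient.mk I (MvPolynomial.X 0 * MvPolynomial.X 1) = 0 :=
      Ideal.Quotient.eq_zero_iff_mem.mpr (Ideal.subset_span (Set.mem_singleton _))
    rw [← map_mul, ← map_mul, h0, map_zero]
  let Q : Ideal E := M.comap g.toRingHom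
  haveI : Q.IsPrime := Ideal.comap_isPrime _ _
  have hdom := (EtNormal.isDomain_and_isIntegrallyClosed_localization R E Q).1
  rcases ldp_of_isDomain_localization Q hdom ex ey hexy with ⟨v, hv, hv0⟩ | ⟨v, hv, hv0⟩
  · left
    refine ⟨g v, hv, ?_⟩
    rw [← hex, ← map_mul, hv0, map_zero]
  · right
    refine ⟨g v, hv, ?_⟩
    rw [← hey, ← map_mul, hv0, map_zero]

attribute [local instance] Algebra.TensorProduct.rightAlgebra in
/-- An ind-étale algebra over a ring whose local rings are normal domains has the local domain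
property at all primes. -/
theorem ldp_of_isIndEtale (R : Type u) [CommRing R]
    (hR : ∀ (p : Ideal R) [p.IsPrime],
      IsDomain (Localization.AtPrime p) ∧ IsIntegrallyClosed (Localization.AtPrime p))
    (T : Type u) [CommRing T] [Algebra R T] (H : EtPBC.IsIndEtale R T) (M : Ideal T) [M.IsPrime] :
    LDP M := by
  let p : Ideal R := M.comap (algebraMap R T)
  haveI : p.IsPrime := Ideal.comap_isPrime _ _
  obtain ⟨hd, hn⟩ := hR p
  let Rp := Localization.AtPrime p
  let Tp := Rp ⊗[R] T
  have hind : EtPBC.IsIndEtale Rp Tp := Groth.Agent.S0733.result R T Rp H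
  have HF : Obj.Factor Rp Tp := factor_of_isIndEtale hind
  let W : Submonoid T := Algebra.algebraMapSubmonoid T p.primeCompl
  haveI : IsLocalization W Tp := IsLocalization.tensorRight Rp p.primeCompl
  have hdisj : Disjoint (W : Set T) (M : Set T) := by
    rw [Set.disjoint_left]
    rintro t ⟨r, hr, rfl⟩ hM
    exact hr hM
  let M' : Ideal Tp := Ideal.map (algebraMap T Tp) M
  haveI hM' : M'.IsPrime := IsLocalization.isPrime_of_isPrime_disjoint W Tp M inferInstance hdisj
  have hcomap : M'.comap (algebraMap T Tp) = M :=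
    IsLocalization.under_map_of_isPrime_disjoint W Tp inferInstance hdisj
  have hL : LDP M' := ldp_of_factor_of_normal_domain Rp Tp HF M'
  have key : ∀ z : T, (∃ u', u' ∉ M' ∧ u' * algebraMap T Tp z = 0) → ∃ u, u ∉ M ∧ u * z = 0 := by
    rintro z ⟨u', hu', hu0⟩
    obtain ⟨⟨t, s⟩, hts⟩ := IsLocalization.surj W u'
    have h1 : algebraMap T Tp (t * z) = 0 := by
      rw [map_mul, ← hts, mul_right_comm, hu0, zero_mul]
    obtain ⟨c, hc⟩ := (IsLocalization.map_eq_zero_iff W Tp (t * z)).mp h1
    refine ⟨c.1 * t, ?_, by rw [mul_assoc]; exact hc⟩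
    intro hmem
    rcases (inferInstance : M.IsPrime).mem_or_mem hmem with h | h
    · exact Set.disjoint_left.mp hdisj c.2 h
    · have : algebraMap T Tp t ∈ M' := Ideal.mem_map_of_mem _ h
      rw [← hts] at this
      rcases hM'.mem_or_mem this with h' | h'
      · exact hu' h'
      · exact hM'.ne_top (Ideal.eq_top_of_isUnit_mem _ h' (IsLocalization.map_units Tp s))
  intro x y hxy
  have : algebraMap T Tp x * algebraMap T Tp y = 0 := by rw [← map_mul, hxy, map_zero]
  rcases hL _ _ this with h | h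
  · exact Or.inl (key x h)
  · exact Or.inr (key y h)

/-- The local domain property at `M` implies that `M` contains exactly one minimal prime. -/
theorem existsUnique_minimalPrimes_le_of_ldp {T : Type*} [CommRing T] (M : Ideal T) [hM : M.IsPrime]
    (h : LDP M) : ∃! q : Ideal T, q ∈ minimalPrimes T ∧ q ≤ M := by
  let K : Ideal T := RingHom.ker (algebraMap T (Localization.AtPrime M))
  have hK : ∀ x, x ∈ K ↔ ∃ u, u ∉ M ∧ u * x = 0 := by
    intro x
    rw [RingHom.mem_ker, IsLocalization.map_eq_zero_iff M.primeCompl]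
    constructor
    · rintro ⟨m, hm⟩; exact ⟨m.1, m.2, hm⟩
    · rintro ⟨u, hu, hu0⟩; exact ⟨⟨u, hu⟩, hu0⟩
  have hKprime : K.IsPrime := by
    refine ⟨?_, ?_⟩
    · intro htop
      have : (1 : T) ∈ K := htop ▸ Submodule.mem_top
      obtain ⟨u, hu, hu0⟩ := (hK 1).mp this
      rw [mul_one] at hu0
      exact hu (hu0 ▸ M.zero_mem)
    · intro x y hxy
      obtain ⟨m, hm, hm0⟩ := (hK _).mp hxy
      rw [← mul_assoc] at hm0
      rcases h _ _ hm0 with ⟨u, hu, hu0⟩ | ⟨u, hu, hu0⟩
      · left
        refine (hK x).mpr ⟨u * m, fun hmem => ?_, by rw [mul_assoc]; exact hu0⟩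
        rcases hM.mem_or_mem hmem with h' | h'
        · exact hu h'
        · exact hm h'
      · right
        exact (hK y).mpr ⟨u, hu, hu0⟩
  have hKle : ∀ q : Ideal T, q.IsPrime → q ≤ M → K ≤ q := by
    intro q hq hqM x hx
    obtain ⟨u, hu, hu0⟩ := (hK x).mp hx
    have : u * x ∈ q := hu0 ▸ q.zero_mem
    rcases hq.mem_or_mem this with h' | h'
    · exact absurd (hqM h') hu
    · exact h'
  obtain ⟨q, hq, hqM⟩ := Ideal.exists_minimalPrimes_le (I := (⊥ : Ideal T)) (J := M) bot_le
  refine ⟨q, ⟨hq, hqM⟩, ?_⟩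
  rintro q' ⟨hq', hq'M⟩
  have e1 : q = K := le_antisymm (hq.2 ⟨hKprime, bot_le⟩ (hKle q hq.1.1 hqM)) (hKle q hq.1.1 hqM)
  have e2 : q' = K :=
    le_antisymm (hq'.2 ⟨hKprime, bot_le⟩ (hKle q' hq'.1.1 hq'M)) (hKle q' hq'.1.1 hq'M)
  rw [e1, e2]

/-- In a ring integral over a henselian local ring, each prime lies in exactly one maximal ideal. -/
theorem existsUnique_maximal_ge {S T : Type u} [CommRing S] [HenselianLocalRing S] [CommRing T]
    (φ : S →+* T) (hφ : φ.IsIntegral) (q : Ideal T) [q.IsPrime] :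
    ∃! m : Ideal T, m.IsMaximal ∧ q ≤ m := by
  letI : Algebra S T := φ.toAlgebra
  haveI : Algebra.IsIntegral S T := ⟨hφ⟩
  haveI : Algebra.IsIntegral S (T ⧸ q) := inferInstance
  obtain ⟨hH, -, -⟩ := Groth.Agent.S1964.result S (T ⧸ q)
  haveI : IsLocalRing (T ⧸ q) := hH.toIsLocalRing
  let m0 : Ideal T := (IsLocalRing.maximalIdeal (T ⧸ q)).comap (Ideal.Quotient.mk q)
  have hm0 : m0.IsMaximal := Ideal.comap_isMaximal_of_surjective _ Ideal.Quotient.mk_surjective
  have hq0 : q ≤ m0 := by
    intro x hx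
    show Ideal.Quotient.mk q x ∈ IsLocalRing.maximalIdeal (T ⧸ q)
    rw [Ideal.Quotient.eq_zero_iff_mem.mpr hx]
    exact Ideal.zero_mem _
  refine ⟨m0, ⟨hm0, hq0⟩, ?_⟩
  rintro m' ⟨hm', hqm'⟩
  have hle : m' ≤ m0 := by
    intro x hx
    show Ideal.Quotient.mk q x ∈ IsLocalRing.maximalIdeal (T ⧸ q)
    rw [IsLocalRing.mem_maximalIdeal, mem_nonunits_iff]
    intro hu
    obtain ⟨y', hy'⟩ := hu.exists_right_inv
    obtain ⟨y, rfl⟩ := Ideal.Quotient.mk_surjective y'
    rw [← map_mul, ← map_one (Ideal.Quotient.mk q), Ideal.Quotient.eq] at hy'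
    have h1 : x * y - 1 ∈ m' := hqm' hy'
    have h2 : x * y ∈ m' := Ideal.mul_mem_right _ _ hx
    have : (1 : T) ∈ m' := by
      have := sub_mem h2 h1
      simpa using this
    exact hm'.ne_top ((Ideal.eq_top_iff_one _).mpr this)
  exact hm'.eq_of_le hm0.ne_top hle

open Groth.Agent.Lib.Helper4 in
/-- the local rings of `normRed A` are normal domains when `A` has finitely many minimal primes -/
theorem normal_normRed (A : Type u) [CommRing A] (hfin : (minimalPrimes A).Finite)
    (p : Ideal (CAlg2.normRed A)) [p.IsPrime] :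
    IsDomain (Localization.AtPrime p) ∧ IsIntegrallyClosed (Localization.AtPrime p) := by
  have hfin' : (minimalPrimes (CAlg2.red A)).Finite :=
    Groth.Agent.Lib.Helper4.Unibranch.finite_minimalPrimes_red A hfin
  haveI : IsReduced (CAlg2.red A) :=
    (Ideal.isRadical_iff_quotient_reduced (nilradical A)).mp (Ideal.radical_isRadical _)
  haveI : Finite (minimalPrimes (CAlg2.red A)) := hfin'.to_subtype
  haveI : ∀ q : minimalPrimes (CAlg2.red A),
      IsIntegrallyClosed (integralClosure (CAlg2.red A ⧸ q.1) (FractionRing (CAlg2.red A ⧸ q.1))) :=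
    fun q => TotalFrac.isIntegrallyClosed_integralClosure_field _ _
  have key : ∀ (P : Ideal (∀ q : minimalPrimes (CAlg2.red A),
      integralClosure (CAlg2.red A ⧸ q.1) (FractionRing (CAlg2.red A ⧸ q.1)))) [P.IsPrime],
      IsDomain (Localization.AtPrime P) ∧ IsIntegrallyClosed (Localization.AtPrime P) :=
    fun P _ => TotalFrac.isDomain_isIntegrallyClosed_localization_pi
      (fun q : minimalPrimes (CAlg2.red A) =>
        integralClosure (CAlg2.red A ⧸ q.1) (FractionRing (CAlg2.red A ⧸ q.1))) P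
  have ψ := TotalFracFin.normPiEquiv hfin'
  exact TotalFrac.isDomain_isIntegrallyClosed_localization_of_ringEquiv ψ p key

/-- If each minimal prime lies in exactly one maximal ideal and each maximal ideal contains exactly
one minimal prime, then minimal primes and maximal ideals are in bijection. -/
theorem nonempty_equiv_minimalPrimes_maximalSpectrum {T : Type*} [CommRing T]
    (h1 : ∀ q ∈ minimalPrimes T, ∃! m : Ideal T, m.IsMaximal ∧ q ≤ m)
    (h2 : ∀ m : Ideal T, m.IsMaximal → ∃! q : Ideal T, q ∈ minimalPrimes T ∧ q ≤ m) :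
    Nonempty (minimalPrimes T ≃ MaximalSpectrum T) := by
  choose f hf hf' using h1
  let F : minimalPrimes T → MaximalSpectrum T := fun q => ⟨f q.1 q.2, (hf q.1 q.2).1⟩
  refine ⟨Equiv.ofBijective F ⟨?_, ?_⟩⟩
  · intro q1 q2 h
    have h' : f q1.1 q1.2 = f q2.1 q2.2 := congrArg MaximalSpectrum.asIdeal h
    obtain ⟨q, -, hq⟩ := h2 (f q1.1 q1.2) (hf q1.1 q1.2).1
    apply Subtype.ext
    rw [hq q1.1 ⟨q1.2, (hf q1.1 q1.2).2⟩, hq q2.1 ⟨q2.2, h' ▸ (hf q2.1 q2.2).2⟩]
  · intro m
    obtain ⟨q, ⟨hq, hqm⟩, -⟩ := h2 m.asIdeal m.isMaximal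
    refine ⟨⟨q, hq⟩, ?_⟩
    apply MaximalSpectrum.ext
    exact (hf' q hq m.asIdeal ⟨m.isMaximal, hqm⟩).symm

section Count

open IsLocalRing Algebra.TensorProduct Groth.Agent.Lib.Helper3.TensorLocal

variable {A B S : Type*} [CommRing A] [CommRing B] [CommRing S] [Algebra A B] [Algebra A S]
  [IsLocalRing S] [Algebra.IsIntegral A B]

theorem isMaximal_comap_includeLeft
    (hres : ∀ s : S, ∃ a : A, s - algebraMap A S a ∈ maximalIdeal S)
    (M : Ideal (B ⊗[A] S)) [hM : M.IsMaximal] :
    (M.comap (includeLeftRingHom : B →+* B ⊗[A] S)).IsMaximal := by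
  letI : Field ((B ⊗[A] S) ⧸ M) := Ideal.Quotient.field M
  let f : B →+* (B ⊗[A] S) ⧸ M := (Ideal.Quotient.mk M).comp includeLeftRingHom
  have hsurj : Function.Surjective f := by
    intro y
    obtain ⟨t, rfl⟩ := Ideal.Quotient.mk_surjective y
    obtain ⟨b, hb⟩ := exists_sub_mem_K hres t
    refine ⟨b, ?_⟩
    show Ideal.Quotient.mk M (b ⊗ₜ[A] (1 : S)) = Ideal.Quotient.mk M t
    symm
    rw [Ideal.Quotient.mk_eq_mk_iff_sub_mem]
    exact K_le_of_isMaximal M hb
  have hker : M.comap (includeLeftRingHom : B →+* B ⊗[A] S) = RingHom.ker f := by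
    ext b
    rw [RingHom.mem_ker, Ideal.mem_comap]
    show _ ↔ Ideal.Quotient.mk M _ = 0
    rw [Ideal.Quotient.eq_zero_iff_mem]
  rw [hker]
  exact RingHom.ker_isMaximal_of_surjective f hsurj

theorem comap_includeLeft_injective
    (hres : ∀ s : S, ∃ a : A, s - algebraMap A S a ∈ maximalIdeal S)
    (M₁ M₂ : Ideal (B ⊗[A] S)) [M₁.IsMaximal] [M₂.IsMaximal]
    (h : M₁.comap (includeLeftRingHom : B →+* B ⊗[A] S) = M₂.comap includeLeftRingHom) :
    M₁ = M₂ := by
  have key : ∀ (N₁ N₂ : Ideal (B ⊗[A] S)) [N₁.IsMaximal] [N₂.IsMaximal],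
      N₁.comap (includeLeftRingHom : B →+* B ⊗[A] S) = N₂.comap includeLeftRingHom → N₁ ≤ N₂ := by
    intro N₁ N₂ _ _ h t ht
    obtain ⟨b, hb⟩ := exists_sub_mem_K hres t
    have h1 : b ⊗ₜ[A] (1 : S) ∈ N₁ := by
      have := sub_mem ht (K_le_of_isMaximal N₁ hb)
      simpa using this
    have h2 : b ∈ N₁.comap (includeLeftRingHom : B →+* B ⊗[A] S) := h1
    rw [h] at h2
    have h3 : b ⊗ₜ[A] (1 : S) ∈ N₂ := h2
    have := add_mem (K_le_of_isMaximal N₂ hb) h3
    simpa using this
  exact le_antisymm (key M₁ M₂ h) (key M₂ M₁ h.symm)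

theorem exists_isMaximal_comap_includeLeft [Module.FaithfullyFlat A S]
    (m' : Ideal B) [hm' : m'.IsMaximal] :
    ∃ M : Ideal (B ⊗[A] S), M.IsMaximal ∧ M.comap (includeLeftRingHom : B →+* B ⊗[A] S) = m' := by
  have hne : Ideal.map (algebraMap B (B ⊗[A] S)) m' ≠ ⊤ := by
    intro htop
    have h1 := Module.FaithfullyFlat.submodule_ne_top (R := B) (M := B ⊗[A] S) hm'
    apply h1
    rw [Ideal.smul_top_eq_map, htop]
    rfl
  obtain ⟨M, hM, hle⟩ := Ideal.exists_le_maximal _ hne
  refine ⟨M, hM, ?_⟩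
  have h2 : m' ≤ M.comap (includeLeftRingHom : B →+* B ⊗[A] S) := Ideal.le_comap_of_map_le hle
  have h3 : M.comap (includeLeftRingHom : B →+* B ⊗[A] S) ≠ ⊤ :=
    (Ideal.comap_isPrime _ M).ne_top
  exact (hm'.eq_of_le h3 h2).symm

/-- Maximal ideals of `B ⊗[A] S` correspond to maximal ideals of `B` when `B` is integral over `A`,
`S` is local faithfully flat over `A` with the same residue field. -/
theorem nonempty_equiv_maximalSpectrum_tensor [Module.FaithfullyFlat A S]
    (hres : ∀ s : S, ∃ a : A, s - algebraMap A S a ∈ maximalIdeal S) :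
    Nonempty (MaximalSpectrum (B ⊗[A] S) ≃ MaximalSpectrum B) := by
  let F : MaximalSpectrum (B ⊗[A] S) → MaximalSpectrum B := fun M =>
    ⟨M.asIdeal.comap (includeLeftRingHom : B →+* B ⊗[A] S),
      haveI := M.isMaximal; isMaximal_comap_includeLeft hres M.asIdeal⟩
  refine ⟨Equiv.ofBijective F ⟨?_, ?_⟩⟩
  · intro M₁ M₂ h
    haveI := M₁.isMaximal
    haveI := M₂.isMaximal
    apply MaximalSpectrum.ext
    exact comap_includeLeft_injective hres _ _ (congrArg MaximalSpectrum.asIdeal h)
  · intro m'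
    haveI := m'.isMaximal
    obtain ⟨M, hM, hM'⟩ := exists_isMaximal_comap_includeLeft (A := A) (S := S) m'.asIdeal
    exact ⟨⟨M, hM⟩, MaximalSpectrum.ext hM'⟩

end Count

/-- Along a faithfully flat ring map, every minimal prime of the source is the contraction of a
minimal prime of the target. -/
theorem exists_minimalPrimes_comap_eq {A S : Type*} [CommRing A] [CommRing S] [Algebra A S]
    [Module.FaithfullyFlat A S] (p : Ideal A) (hp : p ∈ minimalPrimes A) :
    ∃ Q ∈ minimalPrimes S, Q.comap (algebraMap A S) = p := by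
  haveI : p.IsPrime := hp.1.1
  obtain ⟨Q, hQ⟩ := PrimeSpectrum.comap_surjective_of_faithfullyFlat (A := A) (B := S) ⟨p, inferInstance⟩
  obtain ⟨Q', hQ', hle⟩ := Ideal.exists_minimalPrimes_le (I := (⊥ : Ideal S)) (J := Q.asIdeal) bot_le
  refine ⟨Q', hQ', ?_⟩
  haveI : Q'.IsPrime := hQ'.1.1
  have h1 : Q'.comap (algebraMap A S) ≤ p := by
    have : Q.asIdeal.comap (algebraMap A S) = p := congrArg PrimeSpectrum.asIdeal hQ
    rw [← this]
    exact Ideal.comap_mono hle
  exact le_antisymm h1 (hp.2 ⟨Ideal.comap_isPrime _ _, bot_le⟩ h1)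

theorem infinite_minimalPrimes_of_faithfullyFlat {A S : Type*} [CommRing A] [CommRing S]
    [Algebra A S] [Module.FaithfullyFlat A S] (h : ¬ (minimalPrimes A).Finite) :
    Infinite (minimalPrimes S) := by
  haveI : Infinite (minimalPrimes A) := Set.infinite_coe_iff.mpr h
  choose g hg hg' using fun p : minimalPrimes A => exists_minimalPrimes_comap_eq (S := S) p.1 p.2
  refine Infinite.of_injective (fun p => (⟨g p, hg p⟩ : minimalPrimes S)) ?_
  intro p1 p2 h12
  apply Subtype.ext
  have : g p1 = g p2 := congrArg Subtype.val h12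
  rw [← hg' p1, ← hg' p2, this]

/-- Along a flat ring map, minimal primes contract to minimal primes. -/
theorem mapsTo_comap_minimalPrimes_of_flat (S T : Type*) [CommRing S] [CommRing T] [Algebra S T]
    [Module.Flat S T] :
    Set.MapsTo (Ideal.comap (algebraMap S T)) (minimalPrimes T) (minimalPrimes S) := by
  intro P hP
  haveI : P.IsPrime := hP.1.1
  haveI hq : (P.comap (algebraMap S T)).IsPrime := Ideal.comap_isPrime _ _
  obtain ⟨p', hp', hle⟩ := Ideal.exists_minimalPrimes_le (I := (⊥ : Ideal S))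
    (J := P.comap (algebraMap S T)) bot_le
  haveI : p'.IsPrime := hp'.1.1
  haveI : P.LiesOver (P.comap (algebraMap S T)) := ⟨rfl⟩
  obtain ⟨P', hP'le, hP'prime, hP'over⟩ :=
    Ideal.exists_ideal_le_liesOver_of_le (S := T) (p := p') (q := P.comap (algebraMap S T)) P hle
  have h1 : P ≤ P' := hP.2 ⟨hP'prime, bot_le⟩ hP'le
  have h2 : P' = P := le_antisymm hP'le h1
  have h3 : P.comap (algebraMap S T) = p' := by
    rw [← h2]
    exact (hP'over.over).symm
  show P.comap (algebraMap S T) ∈ minimalPrimes S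
  rw [h3]
  exact hp'

theorem card_minimalPrimes_le_of_faithfullyFlat (A S : Type*) [CommRing A] [CommRing S]
    [Algebra A S] [Module.FaithfullyFlat A S] :
    ENat.card (minimalPrimes A) ≤ ENat.card (minimalPrimes S) := by
  choose g hg hg' using fun p : minimalPrimes A => exists_minimalPrimes_comap_eq (S := S) p.1 p.2
  refine ENat.card_le_card_of_injective (f := fun p => (⟨g p, hg p⟩ : minimalPrimes S)) ?_
  intro p1 p2 h12
  apply Subtype.ext
  have : g p1 = g p2 := congrArg Subtype.val h12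
  rw [← hg' p1, ← hg' p2, this]

section Geom

open IsLocalRing Algebra.TensorProduct Groth.Agent.Lib.Helper3.TensorLocal

theorem isLocalHom_of_ker_eq {S L : Type*} [CommRing S] [IsLocalRing S] [Field L] (f : S →+* L)
    (h : RingHom.ker f = maximalIdeal S) : IsLocalHom f := by
  refine ⟨fun a ha => ?_⟩
  by_contra hna
  have h1 : a ∈ maximalIdeal S := (mem_maximalIdeal a).mpr hna
  rw [← h, RingHom.mem_ker] at h1
  exact ha.ne_zero h1

/-- unique extension along an integral map from a local ring with separably closed residue field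
into a field, with values in an algebraically closed field -/
theorem existsUnique_extension {S L Ω : Type*} [CommRing S] [IsLocalRing S]
    [IsSepClosed (ResidueField S)] [Field L] [Field Ω] [IsAlgClosed Ω] (f : S →+* L)
    (hf : f.IsIntegral) (hf' : RingHom.ker f = maximalIdeal S)
    (ι : S →+* Ω) (hι : RingHom.ker ι = maximalIdeal S) : ∃! σ : L →+* Ω, σ.comp f = ι := by
  haveI := isLocalHom_of_ker_eq f hf'
  haveI := isLocalHom_of_ker_eq ι hι
  letI : Algebra (ResidueField S) L := (ResidueField.lift f).toAlgebra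
  letI : Algebra (ResidueField S) Ω := (ResidueField.lift ι).toAlgebra
  have hfL : ∀ s, algebraMap (ResidueField S) L (residue S s) = f s := fun s => rfl
  have hιΩ : ∀ s, algebraMap (ResidueField S) Ω (residue S s) = ι s := fun s => rfl
  haveI : Algebra.IsAlgebraic (ResidueField S) L := by
    refine ⟨fun x => IsIntegral.isAlgebraic ?_⟩
    obtain ⟨p, hp, hpx⟩ := hf x
    refine ⟨p.map (residue S), hp.map _, ?_⟩
    rw [Polynomial.eval₂_map]
    have : (algebraMap (ResidueField S) L).comp (residue S) = f := RingHom.ext hfL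
    rw [this]
    exact hpx
  haveI : IsPurelyInseparable (ResidueField S) L := inferInstance
  refine ⟨(IsAlgClosed.lift : L →ₐ[ResidueField S] Ω).toRingHom, ?_, ?_⟩
  · ext s
    show (IsAlgClosed.lift : L →ₐ[ResidueField S] Ω) (f s) = ι s
    rw [← hfL, AlgHom.commutes, hιΩ]
  · intro σ hσ
    apply IsPurelyInseparable.injective_comp_algebraMap (ResidueField S) L Ω
    ext x
    obtain ⟨s, rfl⟩ := residue_surjective x
    show σ (algebraMap (ResidueField S) L (residue S s)) =
      (IsAlgClosed.lift : L →ₐ[ResidueField S] Ω) (algebraMap (ResidueField S) L (residue S s))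
    rw [AlgHom.commutes, hfL, hιΩ]
    exact congr($hσ s)

variable {A B S Ω : Type*} [CommRing A] [CommRing B] [CommRing S] [Algebra A B] [Algebra A S]
  [IsLocalRing S] [Algebra.IsIntegral A B] [IsSepClosed (ResidueField S)] [Field Ω] [IsAlgClosed Ω]

theorem comap_includeRight_eq (M : Ideal (B ⊗[A] S)) [M.IsMaximal] :
    M.comap (includeRight : S →ₐ[A] B ⊗[A] S).toRingHom = maximalIdeal S := by
  have hmax : (M.comap (includeRight : S →ₐ[A] B ⊗[A] S).toRingHom).IsMaximal :=
    Ideal.isMaximal_comap_of_isIntegral_of_isMaximal' _ includeRight_isIntegral M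
  exact IsLocalRing.eq_maximalIdeal hmax

theorem isMaximal_ker_of_comp_includeRight (ι : S →+* Ω) (hι : RingHom.ker ι = maximalIdeal S)
    (Φ : B ⊗[A] S →+* Ω) (hΦ : Φ.comp (includeRight : S →ₐ[A] B ⊗[A] S).toRingHom = ι) :
    (RingHom.ker Φ).IsMaximal := by
  letI : Algebra S (B ⊗[A] S) := (includeRight : S →ₐ[A] B ⊗[A] S).toRingHom.toAlgebra
  haveI : Algebra.IsIntegral S (B ⊗[A] S) := ⟨includeRight_isIntegral⟩
  haveI : (RingHom.ker Φ).IsPrime := RingHom.ker_isPrime Φ
  apply Ideal.isMaximal_of_isIntegral_of_isMaximal_comap (R := S)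
  show ((RingHom.ker Φ).comap (includeRight : S →ₐ[A] B ⊗[A] S).toRingHom).IsMaximal
  rw [RingHom.comap_ker, hΦ, hι]
  exact maximalIdeal.isMaximal S

/-- Ring maps `B ⊗[A] S → Ω` extending a fixed `ι : S → Ω` correspond to maximal ideals. -/
theorem nonempty_equiv_pts_maximalSpectrum (ι : S →+* Ω) (hι : RingHom.ker ι = maximalIdeal S) :
    Nonempty ({Φ : B ⊗[A] S →+* Ω // Φ.comp (includeRight : S →ₐ[A] B ⊗[A] S).toRingHom = ι} ≃
      MaximalSpectrum (B ⊗[A] S)) := by
  let F : {Φ : B ⊗[A] S →+* Ω // Φ.comp (includeRight : S →ₐ[A] B ⊗[A] S).toRingHom = ι} →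
      MaximalSpectrum (B ⊗[A] S) := fun Φ =>
    ⟨RingHom.ker Φ.1, isMaximal_ker_of_comp_includeRight ι hι Φ.1 Φ.2⟩
  have main : ∀ (M : Ideal (B ⊗[A] S)) [M.IsMaximal],
      ∃! σ : (B ⊗[A] S) ⧸ M →+* Ω,
        σ.comp ((Ideal.Quotient.mk M).comp (includeRight : S →ₐ[A] B ⊗[A] S).toRingHom) = ι := by
    intro M hM
    letI : Field ((B ⊗[A] S) ⧸ M) := Ideal.Quotient.field M
    apply existsUnique_extension _ _ _ ι hι
    · exact RingHom.IsIntegral.trans _ _ includeRight_isIntegral
        (RingHom.isIntegral_of_surjective _ Ideal.Quotient.mk_surjective)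
    · rw [← RingHom.comap_ker, Ideal.mk_ker]
      exact comap_includeRight_eq M
  refine ⟨Equiv.ofBijective F ⟨?_, ?_⟩⟩
  · rintro ⟨Φ₁, h₁⟩ ⟨Φ₂, h₂⟩ h
    have hk : RingHom.ker Φ₁ = RingHom.ker Φ₂ := congrArg MaximalSpectrum.asIdeal h
    apply Subtype.ext
    show Φ₁ = Φ₂
    let M := RingHom.ker Φ₁
    haveI : M.IsMaximal := isMaximal_ker_of_comp_includeRight ι hι Φ₁ h₁
    let σ₁ : (B ⊗[A] S) ⧸ M →+* Ω := Ideal.Quotient.lift M Φ₁ (fun a ha => ha)
    let σ₂ : (B ⊗[A] S) ⧸ M →+* Ω := Ideal.Quotient.lift M Φ₂ (fun a ha => by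
      have : a ∈ RingHom.ker Φ₂ := hk ▸ ha
      exact this)
    have e₁ : σ₁.comp ((Ideal.Quotient.mk M).comp
        (includeRight : S →ₐ[A] B ⊗[A] S).toRingHom) = ι := by
      rw [← h₁]; ext s; rfl
    have e₂ : σ₂.comp ((Ideal.Quotient.mk M).comp
        (includeRight : S →ₐ[A] B ⊗[A] S).toRingHom) = ι := by
      rw [← h₂]; ext s; rfl
    have hσ : σ₁ = σ₂ := (main M).unique e₁ e₂
    apply RingHom.ext
    intro t
    exact congr($hσ (Ideal.Quotient.mk M t))
  · intro M
    haveI := M.isMaximal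
    letI : Field ((B ⊗[A] S) ⧸ M.asIdeal) := Ideal.Quotient.field M.asIdeal
    obtain ⟨σ, hσ, -⟩ := main M.asIdeal
    refine ⟨⟨σ.comp (Ideal.Quotient.mk M.asIdeal), by rw [RingHom.comp_assoc]; exact hσ⟩, ?_⟩
    apply MaximalSpectrum.ext
    show RingHom.ker (σ.comp (Ideal.Quotient.mk M.asIdeal)) = M.asIdeal
    rw [← RingHom.comap_ker, (RingHom.injective_iff_ker_eq_bot σ).mp σ.injective,
      ← RingHom.ker_eq_comap_bot, Ideal.mk_ker]

/-- Ring maps `B ⊗[A] S → Ω` extending `ι` correspond to ring maps `B → Ω` compatible over `A`. -/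
theorem nonempty_equiv_pts_pts (ι : S →+* Ω) :
    Nonempty ({Φ : B ⊗[A] S →+* Ω // Φ.comp (includeRight : S →ₐ[A] B ⊗[A] S).toRingHom = ι} ≃
      {τ : B →+* Ω // τ.comp (algebraMap A B) = ι.comp (algebraMap A S)}) := by
  let F : {Φ : B ⊗[A] S →+* Ω // Φ.comp (includeRight : S →ₐ[A] B ⊗[A] S).toRingHom = ι} →
      {τ : B →+* Ω // τ.comp (algebraMap A B) = ι.comp (algebraMap A S)} := fun Φ =>
    ⟨Φ.1.comp (includeLeftRingHom : B →+* B ⊗[A] S), by
      have h2 := Φ.2
      calc (Φ.1.comp (includeLeftRingHom : B →+* B ⊗[A] S)).comp (algebraMap A B)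
          = Φ.1.comp ((includeLeftRingHom : B →+* B ⊗[A] S).comp (algebraMap A B)) :=
            RingHom.comp_assoc _ _ _
        _ = Φ.1.comp ((includeRight : S →ₐ[A] B ⊗[A] S).toRingHom.comp (algebraMap A S)) := by
            rw [Algebra.TensorProduct.includeLeftRingHom_comp_algebraMap]
        _ = (Φ.1.comp (includeRight : S →ₐ[A] B ⊗[A] S).toRingHom).comp (algebraMap A S) :=
            (RingHom.comp_assoc _ _ _).symm
        _ = ι.comp (algebraMap A S) := by rw [h2]⟩
  refine ⟨Equiv.ofBijective F ⟨?_, ?_⟩⟩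
  · rintro ⟨Φ₁, h₁⟩ ⟨Φ₂, h₂⟩ h
    have hl : Φ₁.comp (includeLeftRingHom : B →+* B ⊗[A] S) = Φ₂.comp includeLeftRingHom :=
      congrArg Subtype.val h
    apply Subtype.ext
    show Φ₁ = Φ₂
    apply RingHom.ext
    intro t
    induction t with
    | zero => simp
    | add x y hx hy => rw [map_add, map_add, hx, hy]
    | tmul b s =>
      have : b ⊗ₜ[A] s = (includeLeftRingHom : B →+* B ⊗[A] S) b *
          (includeRight : S →ₐ[A] B ⊗[A] S).toRingHom s := by
        simp
      rw [this, map_mul, map_mul]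
      have e1 := congr($hl b)
      have e2 := congr($h₁ s)
      have e3 := congr($h₂ s)
      simp only [RingHom.comp_apply] at e1 e2 e3
      rw [e1, e2, e3]
  · rintro ⟨τ, hτ⟩
    letI : Algebra A Ω := (ι.comp (algebraMap A S)).toAlgebra
    let τ' : B →ₐ[A] Ω := { τ with commutes' := fun a => congr($hτ a) }
    let ι' : S →ₐ[A] Ω := { ι with commutes' := fun a => rfl }
    let Φ : B ⊗[A] S →ₐ[A] Ω := Algebra.TensorProduct.lift τ' ι' (fun _ _ => Commute.all _ _)
    refine ⟨⟨Φ.toRingHom, ?_⟩, ?_⟩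
    · ext s
      show Φ ((1 : B) ⊗ₜ[A] s) = ι s
      rw [Algebra.TensorProduct.lift_tmul]
      show τ 1 * ι s = ι s
      rw [map_one, one_mul]
    · apply Subtype.ext
      ext b
      show Φ (b ⊗ₜ[A] (1 : S)) = τ b
      rw [Algebra.TensorProduct.lift_tmul]
      show τ b * ι 1 = τ b
      rw [map_one, mul_one]

end Geom

section Completion

open IsLocalRing

/-- a ring map from the henselization to the completion over `A` is faithfully flat -/
theorem faithfullyFlat_psi (A S : Type u) [CommRing A] [IsLocalRing A]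
    [IsNoetherianRing A] [CommRing S] [IsLocalRing S] [Algebra A S] [IsLocalHom (algebraMap A S)]
    [Hensel.IsHenselization A S] (ψ : S →+* AdicCompletion (IsLocalRing.maximalIdeal A) A)
    (hψ : ψ.comp (algebraMap A S) = algebraMap A (AdicCompletion (IsLocalRing.maximalIdeal A) A)) :
    letI := ψ.toAlgebra
    Module.FaithfullyFlat S (AdicCompletion (IsLocalRing.maximalIdeal A) A) := by
  letI := ψ.toAlgebra
  haveI : IsScalarTower A S (AdicCompletion (maximalIdeal A) A) :=
    IsScalarTower.of_algebraMap_eq (fun a => (congr($hψ a)).symm)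
  haveI : Module.Flat S (AdicCompletion (maximalIdeal A) A) :=
    (IndEt.flat_iff_of_isIndEtale (IndEt.isIndEtale_of_isHenselization A S)
      (AdicCompletion (maximalIdeal A) A)).mp inferInstance
  haveI : IsLocalHom (algebraMap S (AdicCompletion (maximalIdeal A) A)) := by
    refine ⟨fun s hs => ?_⟩
    by_contra hns
    have h1 : s ∈ maximalIdeal S := (mem_maximalIdeal s).mpr hns
    rw [← HzP.hz_map_maximalIdeal A S] at h1
    have h2 : ψ s ∈ maximalIdeal (AdicCompletion (maximalIdeal A) A) := by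
      have h3 : ψ s ∈ Ideal.map ψ (Ideal.map (algebraMap A S) (maximalIdeal A)) :=
        Ideal.mem_map_of_mem _ h1
      rw [Ideal.map_map, hψ] at h3
      rw [AdicCompletion.maximalIdeal_eq_map]
      exact h3
    exact ((mem_maximalIdeal _).mp h2) hs
  exact Module.FaithfullyFlat.of_flat_of_isLocalHom

theorem exists_isStrictHenselization (R : Type u) [CommRing R] [IsLocalRing R] :
    ∃ (S : Type u) (_ : CommRing S) (_ : IsLocalRing S) (_ : Algebra R S)
      (_ : IsLocalHom (algebraMap R S)), Hensel.IsStrictHenselization R S := by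
  let Ω := SeparableClosure (ResidueField R)
  letI : Algebra R Ω := ((algebraMap (ResidueField R) Ω).comp (residue R)).toAlgebra
  haveI : IsScalarTower R (ResidueField R) Ω := IsScalarTower.of_algebraMap_eq (fun _ => rfl)
  exact ⟨Sh.Rsh R Ω, inferInstance, inferInstance, inferInstance, inferInstance, inferInstance⟩

theorem henselianLocalRing_of_isAdicComplete (R : Type*) [CommRing R] [IsLocalRing R]
    [IsAdicComplete (maximalIdeal R) R] : HenselianLocalRing R where
  is_henselian f hf a₀ h₁ h₂ :=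
    HenselianRing.is_henselian (I := maximalIdeal R) f hf a₀ h₁ (h₂.map _)

/-- a henselian local ring is its own henselization -/
theorem isHenselization_self (R : Type u) [CommRing R] [HenselianLocalRing R] :
    Hensel.IsHenselization R R where
  henselian := inferInstance
  universal T _ _ f hf := ⟨f, RingHom.comp_id f, fun g hg => by rw [← hg]; rfl⟩

end Completion

section Fiber

variable (S T : Type*) [CommRing S] [CommRing T] [Algebra S T]

/-- minimal primes over an extended prime ideal contract to it, for flat algebras -/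
theorem comap_eq_of_mem_minimalPrimes_map [Module.Flat S T] (p : Ideal S) [p.IsPrime] (P : Ideal T)
    (hP : P ∈ (p.map (algebraMap S T)).minimalPrimes) : P.comap (algebraMap S T) = p := by
  haveI : P.IsPrime := hP.1.1
  have h1 : p ≤ P.comap (algebraMap S T) := Ideal.map_le_iff_le_comap.mp hP.1.2
  haveI : P.LiesOver (P.comap (algebraMap S T)) := ⟨rfl⟩
  obtain ⟨P', hP'le, hP'prime, hP'over⟩ :=
    Ideal.exists_ideal_le_liesOver_of_le (p := p) (q := P.comap (algebraMap S T)) P h1
  have h2 : p.map (algebraMap S T) ≤ P' := by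
    rw [Ideal.map_le_iff_le_comap]
    exact (hP'over.over).le
  have h3 : P ≤ P' := hP.2 ⟨hP'prime, h2⟩ hP'le
  have h4 : P = P' := le_antisymm h3 hP'le
  rw [h4]
  exact (hP'over.over).symm

/-- For a flat algebra and a minimal prime `q` of the base, the minimal primes over the extension of
`q` are exactly the minimal primes of the algebra contracting to `q`. -/
theorem minimalPrimes_map_eq [Module.Flat S T] (q : Ideal S) (hq : q ∈ minimalPrimes S) :
    (q.map (algebraMap S T)).minimalPrimes =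
      {P | P ∈ minimalPrimes T ∧ P.comap (algebraMap S T) = q} := by
  haveI : q.IsPrime := hq.1.1
  ext P
  constructor
  · intro hP
    haveI : P.IsPrime := hP.1.1
    have hc := comap_eq_of_mem_minimalPrimes_map S T q P hP
    refine ⟨⟨⟨hP.1.1, bot_le⟩, ?_⟩, hc⟩
    rintro P' ⟨hP'prime, -⟩ hle
    haveI := hP'prime
    have h1 : P'.comap (algebraMap S T) ≤ q := by
      rw [← hc]; exact Ideal.comap_mono hle
    have h2 : q ≤ P'.comap (algebraMap S T) := hq.2 ⟨Ideal.comap_isPrime _ _, bot_le⟩ h1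
    exact hP.2 ⟨hP'prime, Ideal.map_le_iff_le_comap.mpr h2⟩ hle
  · rintro ⟨hP, hc⟩
    refine ⟨⟨hP.1.1, ?_⟩, ?_⟩
    · rw [Ideal.map_le_iff_le_comap, hc]
    · rintro P' ⟨hP'prime, -⟩ hle
      exact hP.2 ⟨hP'prime, bot_le⟩ hle

/-- the radical of an ideal is prime iff it has exactly one minimal prime -/
theorem radical_isPrime_iff (I : Ideal T) (hI : I ≠ ⊤) :
    I.radical.IsPrime ↔ ∀ P₁ ∈ I.minimalPrimes, ∀ P₂ ∈ I.minimalPrimes, P₁ = P₂ := by
  constructor
  · intro h P₁ h₁ P₂ h₂
    have key : ∀ P ∈ I.minimalPrimes, P = I.radical := by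
      intro P hP
      haveI := hP.1.1
      have h1 : I.radical ≤ P := (Ideal.IsPrime.radical_le_iff hP.1.1).mpr hP.1.2
      exact le_antisymm (hP.2 ⟨h, Ideal.le_radical⟩ h1) h1
    rw [key P₁ h₁, key P₂ h₂]
  · intro h
    obtain ⟨M, hM, hIM⟩ := Ideal.exists_le_maximal I hI
    obtain ⟨P, hP, -⟩ := Ideal.exists_minimalPrimes_le (I := I) (J := M) hIM
    have : I.radical = P := by
      rw [← Ideal.sInf_minimalPrimes]
      apply le_antisymm
      · exact sInf_le hP
      · exact le_sInf (fun P' hP' => (h P hP P' hP').le)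
    rw [this]
    exact hP.1.1

/-- For a faithfully flat algebra with finitely many minimal primes, the numbers of minimal primes
agree iff the radical of the extension of each minimal prime of the base is prime. -/
theorem card_minimalPrimes_eq_iff [Module.FaithfullyFlat S T] (hfin : (minimalPrimes T).Finite) :
    ENat.card (minimalPrimes S) = ENat.card (minimalPrimes T) ↔
      ∀ q ∈ minimalPrimes S, (q.map (algebraMap S T)).radical.IsPrime := by
  classical
  let c : minimalPrimes T → minimalPrimes S := fun P =>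
    ⟨P.1.comap (algebraMap S T), mapsTo_comap_minimalPrimes_of_flat S T P.2⟩
  have hc : Function.Surjective c := by
    rintro ⟨q, hq⟩
    obtain ⟨Q, hQ, hQq⟩ := exists_minimalPrimes_comap_eq (S := T) q hq
    exact ⟨⟨Q, hQ⟩, Subtype.ext hQq⟩
  haveI : Finite (minimalPrimes T) := hfin.to_subtype
  haveI : Finite (minimalPrimes S) := Finite.of_surjective c hc
  have hne : ∀ q ∈ minimalPrimes S, q.map (algebraMap S T) ≠ ⊤ := by
    intro q hq htop
    obtain ⟨Q, hQ, hQq⟩ := exists_minimalPrimes_comap_eq (S := T) q hq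
    have : q.map (algebraMap S T) ≤ Q := by
      rw [Ideal.map_le_iff_le_comap, hQq]
    rw [htop, top_le_iff] at this
    exact hQ.1.1.ne_top this
  have hinj : Function.Injective c ↔
      ∀ q ∈ minimalPrimes S, (q.map (algebraMap S T)).radical.IsPrime := by
    constructor
    · intro hi q hq
      rw [radical_isPrime_iff T _ (hne q hq), minimalPrimes_map_eq S T q hq]
      rintro P₁ ⟨h₁, e₁⟩ P₂ ⟨h₂, e₂⟩
      have : c ⟨P₁, h₁⟩ = c ⟨P₂, h₂⟩ := Subtype.ext (e₁.trans e₂.symm)
      exact congrArg Subtype.val (hi this)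
    · intro h P₁ P₂ e
      have hq := (c P₁).2
      have h' := (radical_isPrime_iff T _ (hne _ hq)).mp (h _ hq)
      rw [minimalPrimes_map_eq S T _ hq] at h'
      apply Subtype.ext
      exact h' P₁.1 ⟨P₁.2, rfl⟩ P₂.1 ⟨P₂.2, (congrArg Subtype.val e).symm⟩
  rw [← hinj]
  letI := Fintype.ofFinite (minimalPrimes T)
  letI := Fintype.ofFinite (minimalPrimes S)
  rw [ENat.card_eq_coe_fintype_card, ENat.card_eq_coe_fintype_card, Nat.cast_inj]
  constructor
  · intro h
    exact ((Fintype.bijective_iff_surjective_and_card c).mpr ⟨hc, h.symm⟩).1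
  · intro h
    exact ((Fintype.bijective_iff_surjective_and_card c).mp ⟨h, hc⟩).2.symm

end Fiber

end Groth.Agent.Lib.Helper3.Branch
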