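import Mathlib
import Groth.Agent.Lib.Helper3IndEt
import Groth.Agent.S0735
import Groth.Agent.S0733

set_option autoImplicit false

open TensorProduct

universe u

namespace Groth.Agent.Lib.Helper3.IndEt

/-- **Lemma E'**: ind-étale over an étale algebra is ind-étale. -/
theorem isIndEtale_of_etale_of_isIndEtale (A E₁ E : Type u) [CommRing A] [CommRing E₁] [CommRing E]
    [Algebra A E₁] [Algebra E₁ E] [Algebra A E] [IsScalarTower A E₁ E] [Algebra.Etale A E₁]
    (h : EtPBC.IsIndEtale E₁ E) : EtPBC.IsIndEtale A E := by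
  apply isIndEtale_of_factor
  intro P _ _ _ ψ
  let ψ' : E₁ ⊗[A] P →ₐ[E₁] E :=
    Algebra.TensorProduct.lift (Algebra.ofId E₁ E) ψ (fun _ _ => Commute.all _ _)
  obtain ⟨F, _, _, _, u', v', huv⟩ := factor_of_isIndEtale h (E₁ ⊗[A] P) ψ'
  letI : Algebra A F := ((algebraMap E₁ F).comp (algebraMap A E₁)).toAlgebra
  haveI : IsScalarTower A E₁ F := IsScalarTower.of_algebraMap_eq (fun _ => rfl)
  haveI : Algebra.Etale A F := Algebra.Etale.comp A E₁ F
  refine ⟨F, inferInstance, inferInstance, inferInstance,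
    (u'.restrictScalars A).comp Algebra.TensorProduct.includeRight, v'.restrictScalars A, ?_⟩
  apply AlgHom.ext
  intro p
  show v' (u' ((1 : E₁) ⊗ₜ[A] p)) = ψ p
  have := congr($huv ((1 : E₁) ⊗ₜ[A] p))
  rw [AlgHom.comp_apply] at this
  rw [this]
  simp [ψ']

set_option maxHeartbeats 1000000 in
/-- **Lemma D**: an étale algebra over an ind-étale `A`-algebra `B` descends to an étale algebra
over an étale `A`-algebra mapping to `B`. -/
theorem exists_descent_etale {A B : Type u} [CommRing A] [CommRing B] [Algebra A B]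
    (hB : Obj.Factor A B) (E : Type u) [CommRing E] [Algebra B E] [Algebra.Etale B E] :
    ∃ (B₁ : Type u) (_ : CommRing B₁) (_ : Algebra A B₁) (_ : Algebra.Etale A B₁)
      (_ : Algebra B₁ B) (_ : IsScalarTower A B₁ B)
      (E₁ : Type u) (_ : CommRing E₁) (_ : Algebra B₁ E₁) (_ : Algebra.Etale B₁ E₁),
      Nonempty (B ⊗[B₁] E₁ ≃ₐ[B] E) := by
  obtain ⟨A₀, E₀, _, _, hfg, _, ⟨e⟩⟩ := Algebra.Etale.exists_subalgebra_fg ℤ B E
  haveI : Algebra.FiniteType ℤ A₀ := (Subalgebra.fg_iff_finiteType A₀).mp hfg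
  haveI : Algebra.FinitePresentation ℤ A₀ := Algebra.FinitePresentation.of_finiteType.mp inferInstance
  let φ : A ⊗[ℤ] A₀ →ₐ[A] B :=
    Algebra.TensorProduct.lift (Algebra.ofId A B) A₀.val (fun _ _ => Commute.all _ _)
  obtain ⟨B₁, _, _, _, f, β, hfβ⟩ := hB (A ⊗[ℤ] A₀) φ
  letI : Algebra B₁ B := β.toRingHom.toAlgebra
  haveI : IsScalarTower A B₁ B := IsScalarTower.of_algebraMap_eq (fun a => (β.commutes a).symm)
  letI : Algebra A₀ B₁ :=
    (f.toRingHom.comp (Algebra.TensorProduct.includeRight : A₀ →ₐ[ℤ] A ⊗[ℤ] A₀).toRingHom).toAlgebra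
  haveI : IsScalarTower A₀ B₁ B := IsScalarTower.of_algebraMap_eq (fun a₀ => by
    show (a₀ : B) = β (f ((1 : A) ⊗ₜ[ℤ] a₀))
    have := congr($hfβ ((1 : A) ⊗ₜ[ℤ] a₀))
    rw [AlgHom.comp_apply] at this
    rw [this]
    simp [φ])
  refine ⟨B₁, inferInstance, inferInstance, inferInstance, inferInstance, inferInstance,
    B₁ ⊗[A₀] E₀, inferInstance, inferInstance, inferInstance, ⟨?_⟩⟩
  exact (Algebra.TensorProduct.cancelBaseChange A₀ B₁ B B E₀).trans e.symm

/-- étale implies ind-étale -/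
theorem isIndEtale_of_etale (A B : Type u) [CommRing A] [CommRing B] [Algebra A B]
    [Algebra.Etale A B] : EtPBC.IsIndEtale A B := by
  apply isIndEtale_of_factor
  intro P _ _ _ ψ
  exact ⟨B, inferInstance, inferInstance, inferInstance, ψ, AlgHom.id A B, AlgHom.id_comp _⟩

set_option maxHeartbeats 1000000 in
/-- **Lemma E**: an étale algebra over an ind-étale `A`-algebra is ind-étale over `A`. -/
theorem isIndEtale_of_isIndEtale_of_etale (A B E : Type u) [CommRing A] [CommRing B] [CommRing E]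
    [Algebra A B] [Algebra B E] [Algebra A E] [IsScalarTower A B E] [Algebra.Etale B E]
    (hB : EtPBC.IsIndEtale A B) : EtPBC.IsIndEtale A E := by
  obtain ⟨B₁, _, _, _, _, _, E₁, _, _, _, ⟨θ⟩⟩ := exists_descent_etale (factor_of_isIndEtale hB) E
  have h1 : EtPBC.IsIndEtale B₁ B :=
    Groth.Agent.S0735.result A B₁ B (isIndEtale_of_etale A B₁) hB
  have h2 : EtPBC.IsIndEtale E₁ (E₁ ⊗[B₁] B) := Groth.Agent.S0733.result B₁ B E₁ h1
  let ρ : E₁ →+* E := (θ : B ⊗[B₁] E₁ →+* E).comp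
    (Algebra.TensorProduct.includeRight : E₁ →ₐ[B₁] B ⊗[B₁] E₁).toRingHom
  letI : Algebra E₁ E := ρ.toAlgebra
  let e' : E₁ ⊗[B₁] B ≃ₐ[E₁] E :=
    AlgEquiv.ofRingEquiv (f := ((Algebra.TensorProduct.comm B₁ E₁ B).toRingEquiv.trans θ.toRingEquiv))
      (fun x => by
        show θ (Algebra.TensorProduct.comm B₁ E₁ B (x ⊗ₜ[B₁] (1 : B))) = θ ((1 : B) ⊗ₜ[B₁] x)
        rw [Algebra.TensorProduct.comm_tmul])
  have h3 : EtPBC.IsIndEtale E₁ E := isIndEtale_of_algEquiv h2 e'
  letI : Algebra A E₁ := ((algebraMap B₁ E₁).comp (algebraMap A B₁)).toAlgebra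
  haveI : IsScalarTower A B₁ E₁ := IsScalarTower.of_algebraMap_eq (fun _ => rfl)
  haveI : Algebra.Etale A E₁ := Algebra.Etale.comp A B₁ E₁
  haveI : IsScalarTower A E₁ E := IsScalarTower.of_algebraMap_eq (fun a => by
    show algebraMap A E a = θ ((1 : B) ⊗ₜ[B₁] (algebraMap B₁ E₁ (algebraMap A B₁ a)))
    rw [Algebra.algebraMap_eq_smul_one (algebraMap A B₁ a), ← TensorProduct.smul_tmul,
      Algebra.smul_def, mul_one, ← IsScalarTower.algebraMap_apply A B₁ B]
    have : (algebraMap A B a) ⊗ₜ[B₁] (1 : E₁) = algebraMap B (B ⊗[B₁] E₁) (algebraMap A B a) := by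
      rw [Algebra.TensorProduct.algebraMap_apply]
      rfl
    rw [this, θ.commutes, ← IsScalarTower.algebraMap_apply A B E])
  exact isIndEtale_of_etale_of_isIndEtale A E₁ E h3

/-- **Composition**: a composite of ind-étale maps is ind-étale. -/
theorem isIndEtale_comp (A B C : Type u) [CommRing A] [CommRing B] [CommRing C] [Algebra A B]
    [Algebra B C] [Algebra A C] [IsScalarTower A B C] (hAB : EtPBC.IsIndEtale A B)
    (hBC : EtPBC.IsIndEtale B C) : EtPBC.IsIndEtale A C := by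
  apply isIndEtale_of_factor
  intro P _ _ _ ψ
  let ψ' : B ⊗[A] P →ₐ[B] C :=
    Algebra.TensorProduct.lift (Algebra.ofId B C) ψ (fun _ _ => Commute.all _ _)
  obtain ⟨E, _, _, _, u, v, huv⟩ := factor_of_isIndEtale hBC (B ⊗[A] P) ψ'
  letI : Algebra A E := ((algebraMap B E).comp (algebraMap A B)).toAlgebra
  haveI : IsScalarTower A B E := IsScalarTower.of_algebraMap_eq (fun _ => rfl)
  have hE : EtPBC.IsIndEtale A E := isIndEtale_of_isIndEtale_of_etale A B E hAB
  let ψE : P →ₐ[A] E := (u.restrictScalars A).comp Algebra.TensorProduct.includeRight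
  obtain ⟨F, _, _, _, f, g, hfg⟩ := factor_of_isIndEtale hE P ψE
  refine ⟨F, inferInstance, inferInstance, inferInstance, f, (v.restrictScalars A).comp g, ?_⟩
  rw [AlgHom.comp_assoc, hfg]
  apply AlgHom.ext
  intro p
  show v (u ((1 : B) ⊗ₜ[A] p)) = ψ p
  have := congr($huv ((1 : B) ⊗ₜ[A] p))
  rw [AlgHom.comp_apply] at this
  rw [this]
  simp [ψ']

end Groth.Agent.Lib.Helper3.IndEt
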