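/-
Helper library (helper4): counting geometric branches of a finite algebra over a local ring against the
length of the cokernel; transport of normalizations along ring isomorphisms.
-/
import Mathlib

set_option autoImplicit false
set_option linter.style.haveILetI false
set_option linter.unusedSectionVars false
universe u

namespace Groth.Agent.Lib.Helper4.Branches

theorem card_le_of_forall_finset {T : Type*} (d : ℕ∞) (H : ∀ s : Finset T, (s.card : ℕ∞) ≤ d) :
    ENat.card T ≤ d := by
  rcases finite_or_infinite T with hT | hT
  · haveI := Fintype.ofFinite T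
    rw [ENat.card_eq_coe_fintype_card]
    exact H Finset.univ
  · have : d = ⊤ := by
      rw [ENat.eq_top_iff_forall_ge]
      intro m
      obtain ⟨s, hs⟩ := Infinite.exists_subset_card_eq T m
      rw [← hs]; exact H s
    rw [this]; exact le_top

open IsLocalRing

variable {A : Type*} [CommRing A] [IsLocalRing A] {B : Type*} [CommRing B] [Algebra A B]
  [Module.Finite A B]

theorem comap_eq_maximalIdeal (n : Ideal B) [hn : n.IsMaximal] :
    n.comap (algebraMap A B) = maximalIdeal A := by
  haveI : Algebra.IsIntegral A B := Algebra.IsIntegral.of_finite A B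
  exact eq_maximalIdeal (Ideal.isMaximal_comap_of_isIntegral_of_isMaximal n)

/-- The number of embeddings over the residue field of `A` of the residue field of a maximal ideal
of a finite `A`-algebra is at most its length. -/
theorem card_emb_le_length (n : Ideal B) [hn : n.IsMaximal] {Ω : Type*} [Field Ω]
    [Algebra (ResidueField A) Ω] :
    ENat.card {σ : B ⧸ n →+* Ω // σ.comp ((Ideal.Quotient.mk n).comp (algebraMap A B)) =
      (algebraMap (ResidueField A) Ω).comp (residue A)} ≤ Module.length A (B ⧸ n) := by
  haveI : n.LiesOver (maximalIdeal A) := ⟨(comap_eq_maximalIdeal n).symm⟩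
  letI : Field (B ⧸ n) := Ideal.Quotient.field n
  letI algκL : Algebra (ResidueField A) (B ⧸ n) :=
    Ideal.Quotient.algebraOfLiesOver n (maximalIdeal A)
  haveI : IsScalarTower A (ResidueField A) (B ⧸ n) :=
    Ideal.Quotient.isScalarTower_of_liesOver A n (maximalIdeal A)
  haveI : Module.Finite A (B ⧸ n) := Module.Finite.of_surjective
    (Ideal.Quotient.mkₐ A n).toLinearMap (Ideal.Quotient.mkₐ_surjective A n)
  haveI : Module.Finite (ResidueField A) (B ⧸ n) :=
    Module.Finite.of_restrictScalars_finite A (ResidueField A) (B ⧸ n)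
  have hlen : Module.length A (B ⧸ n) = Module.finrank (ResidueField A) (B ⧸ n) := by
    rw [Module.length_eq_of_surjective (S := A) (R := ResidueField A) (M := B ⧸ n)
      (residue_surjective (R := A)), Module.length_eq_finrank]
  rw [hlen]
  let Φ : {σ : B ⧸ n →+* Ω // σ.comp ((Ideal.Quotient.mk n).comp (algebraMap A B)) =
      (algebraMap (ResidueField A) Ω).comp (residue A)} → ((B ⧸ n) →ₐ[ResidueField A] Ω) :=
    fun σ => { σ.1 with
      commutes' := fun r => by
        obtain ⟨a, rfl⟩ := residue_surjective r
        have h1 := congrArg (fun f => f a) σ.2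
        simp only [RingHom.coe_comp, Function.comp_apply] at h1
        have h2 : algebraMap (ResidueField A) (B ⧸ n) (residue A a) =
            Ideal.Quotient.mk n (algebraMap A B a) := rfl
        show σ.1 (algebraMap (ResidueField A) (B ⧸ n) (residue A a)) = _
        rw [h2]
        exact h1 }
  have hΦ : Function.Injective Φ := by
    intro σ τ h
    apply Subtype.ext
    ext x
    exact congrArg (fun f => f x) h
  haveI : Finite ((B ⧸ n) →ₐ[ResidueField A] Ω) := inferInstance
  calc ENat.card _ ≤ ENat.card ((B ⧸ n) →ₐ[ResidueField A] Ω) :=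
        ENat.card_le_card_of_injective hΦ
    _ = (Nat.card ((B ⧸ n) →ₐ[ResidueField A] Ω) : ℕ∞) := ENat.card_eq_coe_natCard _
    _ ≤ _ := by exact_mod_cast card_algHom_le_finrank (ResidueField A) (B ⧸ n) Ω

theorem length_quotient_lt_top (n : Ideal B) [hn : n.IsMaximal] :
    Module.length A (B ⧸ n) < ⊤ := by
  haveI : n.LiesOver (maximalIdeal A) := ⟨(comap_eq_maximalIdeal n).symm⟩
  letI : Field (B ⧸ n) := Ideal.Quotient.field n
  letI algκL : Algebra (ResidueField A) (B ⧸ n) :=
    Ideal.Quotient.algebraOfLiesOver n (maximalIdeal A)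
  haveI : IsScalarTower A (ResidueField A) (B ⧸ n) :=
    Ideal.Quotient.isScalarTower_of_liesOver A n (maximalIdeal A)
  haveI : Module.Finite A (B ⧸ n) := Module.Finite.of_surjective
    (Ideal.Quotient.mkₐ A n).toLinearMap (Ideal.Quotient.mkₐ_surjective A n)
  haveI : Module.Finite (ResidueField A) (B ⧸ n) :=
    Module.Finite.of_restrictScalars_finite A (ResidueField A) (B ⧸ n)
  rw [Module.length_eq_of_surjective (S := A) (R := ResidueField A) (M := B ⧸ n)
    (residue_surjective (R := A)), Module.length_eq_finrank]
  exact ENat.coe_lt_top _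

/-- CRT bound: the lengths of the residue fields of finitely many maximal ideals add up to at most
the length of `B / mB`. -/
theorem sum_length_le (F : Finset (MaximalSpectrum B)) :
    ∑ n ∈ F, Module.length A (B ⧸ n.asIdeal) ≤
      Module.length A (B ⧸ (maximalIdeal A • ⊤ : Submodule A B)) := by
  classical
  -- the map `B → ∏_{n ∈ F} B / n`
  let g : B →ₗ[A] (∀ n : F, B ⧸ n.1.asIdeal) :=
    LinearMap.pi (fun n => (Ideal.Quotient.mkₐ A n.1.asIdeal).toLinearMap)
  have hg : Function.Surjective g := by
    intro x
    have hcop : Pairwise (Function.onFun IsCoprime (fun n : F => n.1.asIdeal)) := by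
      intro n₁ n₂ hne
      haveI := n₁.1.isMaximal
      haveI := n₂.1.isMaximal
      exact Ideal.isCoprime_of_isMaximal
        (fun h => hne (Subtype.ext (MaximalSpectrum.ext h)))
    obtain ⟨r, hr⟩ := Ideal.pi_quotient_surjective hcop x
    exact ⟨r, funext fun n => hr n⟩
  have hker : (maximalIdeal A • ⊤ : Submodule A B) ≤ LinearMap.ker g := by
    rw [Submodule.smul_le]
    intro a ha b _
    rw [LinearMap.mem_ker]
    funext n
    haveI := n.1.isMaximal
    show Ideal.Quotient.mk n.1.asIdeal (a • b) = 0
    rw [Ideal.Quotient.eq_zero_iff_mem, Algebra.smul_def]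
    refine Ideal.mul_mem_right _ _ ?_
    have : a ∈ n.1.asIdeal.comap (algebraMap A B) := by
      rw [comap_eq_maximalIdeal]; exact ha
    exact this
  let g' : (B ⧸ (maximalIdeal A • ⊤ : Submodule A B)) →ₗ[A] (∀ n : F, B ⧸ n.1.asIdeal) :=
    Submodule.liftQ _ g hker
  have hg' : Function.Surjective g' := by
    intro x
    obtain ⟨b, rfl⟩ := hg x
    exact ⟨Submodule.Quotient.mk b, rfl⟩
  have h1 := Module.length_le_of_surjective g' hg'
  rw [Module.length_pi_of_fintype] at h1
  rw [← Finset.sum_coe_sort F (fun n => Module.length A (B ⧸ n.asIdeal))]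
  exact h1

/-- `length (B / mB) ≤ length (B / A) + 1`. -/
theorem length_quotient_smul_le :
    Module.length A (B ⧸ (maximalIdeal A • ⊤ : Submodule A B)) ≤
      Module.length A (B ⧸ LinearMap.range (Algebra.linearMap A B)) + 1 := by
  set P : Submodule A B := maximalIdeal A • ⊤ with hP
  let g : A →ₗ[A] B ⧸ P := P.mkQ.comp (Algebra.linearMap A B)
  -- `range g` has length at most one
  have hker : (maximalIdeal A : Submodule A A) ≤ LinearMap.ker g := by
    intro a ha
    rw [LinearMap.mem_ker]
    show P.mkQ (algebraMap A B a) = 0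
    rw [Submodule.mkQ_apply, Submodule.Quotient.mk_eq_zero, Algebra.algebraMap_eq_smul_one]
    exact Submodule.smul_mem_smul ha Submodule.mem_top
  let g₁ : (A ⧸ maximalIdeal A) →ₗ[A] LinearMap.range g :=
    Submodule.liftQ _ (LinearMap.rangeRestrict g) (by
      intro a ha
      rw [LinearMap.mem_ker]
      apply Subtype.ext
      exact LinearMap.mem_ker.mp (hker ha))
  have hg₁ : Function.Surjective g₁ := by
    rintro ⟨_, a, rfl⟩
    exact ⟨Submodule.Quotient.mk a, rfl⟩
  have hlen1 : Module.length A (LinearMap.range g) ≤ 1 := by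
    refine (Module.length_le_of_surjective g₁ hg₁).trans ?_
    haveI : IsSimpleModule A (A ⧸ maximalIdeal A) := by
      rw [isSimpleModule_iff_isCoatom]
      exact (maximalIdeal.isMaximal A).out
    rw [Module.length_eq_one_iff.mpr inferInstance]
  -- the quotient of `B / P` by `range g` is a quotient of `B / A`
  let h : (B ⧸ LinearMap.range (Algebra.linearMap A B)) →ₗ[A] (B ⧸ P) ⧸ LinearMap.range g :=
    Submodule.liftQ _ ((LinearMap.range g).mkQ.comp P.mkQ) (by
      rintro _ ⟨a, rfl⟩
      rw [LinearMap.mem_ker, LinearMap.comp_apply, Submodule.mkQ_apply,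
        Submodule.Quotient.mk_eq_zero]
      exact ⟨a, rfl⟩)
  have hh : Function.Surjective h := by
    intro x
    obtain ⟨y, rfl⟩ := Submodule.Quotient.mk_surjective _ x
    obtain ⟨b, rfl⟩ := Submodule.Quotient.mk_surjective _ y
    exact ⟨Submodule.Quotient.mk b, rfl⟩
  have hlen2 := Module.length_le_of_surjective h hh
  rw [Module.length_eq_add_of_exact (LinearMap.range g).subtype (LinearMap.range g).mkQ
    (Submodule.subtype_injective _) (Submodule.mkQ_surjective _)
    (LinearMap.exact_subtype_mkQ _), add_comm]
  exact add_le_add hlen2 hlen1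

/-- The number of geometric branches of a finite algebra over a local ring is at most the length of
the cokernel plus one. -/
theorem card_sigma_emb_le {Ω : Type*} [Field Ω] [Algebra (ResidueField A) Ω] :
    ENat.card (Σ n : MaximalSpectrum B, {σ : B ⧸ n.asIdeal →+* Ω //
      σ.comp ((Ideal.Quotient.mk n.asIdeal).comp (algebraMap A B)) =
        (algebraMap (ResidueField A) Ω).comp (residue A)}) ≤
      Module.length A (B ⧸ LinearMap.range (Algebra.linearMap A B)) + 1 := by
  classical
  apply card_le_of_forall_finset
  intro s
  let E : MaximalSpectrum B → Type _ := fun n => {σ : B ⧸ n.asIdeal →+* Ω //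
      σ.comp ((Ideal.Quotient.mk n.asIdeal).comp (algebraMap A B)) =
        (algebraMap (ResidueField A) Ω).comp (residue A)}
  have hE : ∀ n : MaximalSpectrum B, ENat.card (E n) ≤ Module.length A (B ⧸ n.asIdeal) :=
    fun n => by haveI := n.isMaximal; exact card_emb_le_length n.asIdeal
  haveI hfin : ∀ n, Finite (E n) := fun n => by
    haveI := n.isMaximal
    exact ENat.card_lt_top.mp ((hE n).trans_lt (length_quotient_lt_top n.asIdeal))
  letI : ∀ n, Fintype (E n) := fun n => Fintype.ofFinite _
  let F : Finset (MaximalSpectrum B) := s.image Sigma.fst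
  have hsub : s ⊆ F.sigma (fun n => (Finset.univ : Finset (E n))) := by
    intro x hx
    rw [Finset.mem_sigma]
    exact ⟨Finset.mem_image_of_mem _ hx, Finset.mem_univ _⟩
  have h1 : s.card ≤ ∑ n ∈ F, Fintype.card (E n) := by
    refine (Finset.card_le_card hsub).trans ?_
    rw [Finset.card_sigma]
    exact le_of_eq (Finset.sum_congr rfl (fun n _ => Finset.card_univ))
  calc (s.card : ℕ∞) ≤ ((∑ n ∈ F, Fintype.card (E n) : ℕ) : ℕ∞) := by exact_mod_cast h1
    _ = ∑ n ∈ F, ENat.card (E n) := by
        rw [Nat.cast_sum]
        exact Finset.sum_congr rfl (fun n _ => ENat.card_eq_coe_fintype_card.symm)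
    _ ≤ ∑ n ∈ F, Module.length A (B ⧸ n.asIdeal) := Finset.sum_le_sum (fun n _ => hE n)
    _ ≤ _ := (sum_length_le F).trans length_quotient_smul_le

/-- A ring isomorphism induces an isomorphism of normalizations (integral closures in the total
rings of fractions). -/
noncomputable def normalizationEquiv {A R : Type*} [CommRing A] [CommRing R] (ρ : A ≃+* R) :
    integralClosure A (FractionRing A) ≃+* integralClosure R (FractionRing R) :=
  let Φ : FractionRing A ≃+* FractionRing R := IsFractionRing.ringEquivOfRingEquiv ρ
  have h : (algebraMap R (FractionRing R)).comp ρ.toRingHom =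
      Φ.toRingHom.comp (algebraMap A (FractionRing A)) := by
    ext a
    exact (IsFractionRing.ringEquivOfRingEquiv_algebraMap ρ a).symm
  have h' : (algebraMap A (FractionRing A)).comp ρ.symm.toRingHom =
      Φ.symm.toRingHom.comp (algebraMap R (FractionRing R)) := by
    ext r
    apply Φ.injective
    simp only [RingHom.coe_comp, RingEquiv.toRingHom_eq_coe, RingHom.coe_coe, Function.comp_apply,
      RingEquiv.apply_symm_apply]
    rw [show Φ = IsFractionRing.ringEquivOfRingEquiv ρ from rfl,
      IsFractionRing.ringEquivOfRingEquiv_algebraMap, RingEquiv.apply_symm_apply]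
  { toFun := fun x => ⟨Φ x.1, IsIntegral.map_of_comp_eq ρ.toRingHom Φ.toRingHom h x.2⟩
    invFun := fun y => ⟨Φ.symm y.1, IsIntegral.map_of_comp_eq ρ.symm.toRingHom Φ.symm.toRingHom h' y.2⟩
    left_inv := fun x => Subtype.ext (Φ.symm_apply_apply x.1)
    right_inv := fun y => Subtype.ext (Φ.apply_symm_apply y.1)
    map_mul' := fun x y => Subtype.ext (map_mul Φ x.1 y.1)
    map_add' := fun x y => Subtype.ext (map_add Φ x.1 y.1) }

theorem normalizationEquiv_algebraMap {A R : Type*} [CommRing A] [CommRing R] (ρ : A ≃+* R) (a : A) :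
    normalizationEquiv ρ (algebraMap A _ a) = algebraMap R _ (ρ a) :=
  Subtype.ext (IsFractionRing.ringEquivOfRingEquiv_algebraMap ρ a)

/-- Transport of finiteness and of the length of the cokernel along `normalizationEquiv`. -/
theorem finite_and_length_eq {A R : Type*} [CommRing A] [CommRing R] (ρ : A ≃+* R)
    [Algebra A (integralClosure R (FractionRing R))]
    (halg : algebraMap A (integralClosure R (FractionRing R)) =
      (algebraMap R (integralClosure R (FractionRing R))).comp ρ.toRingHom)
    [Module.Finite A (integralClosure A (FractionRing A))] :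
    Module.Finite A (integralClosure R (FractionRing R)) ∧
    Module.length A (↥(integralClosure R (FractionRing R)) ⧸
      LinearMap.range (Algebra.linearMap A ↥(integralClosure R (FractionRing R)))) =
    Module.length A (↥(integralClosure A (FractionRing A)) ⧸
      LinearMap.range (Algebra.linearMap A ↥(integralClosure A (FractionRing A)))) := by
  let e := normalizationEquiv ρ
  have he : ∀ a : A, e (algebraMap A _ a) = algebraMap A _ a := by
    intro a
    rw [normalizationEquiv_algebraMap, halg]
    rfl
  let eL : integralClosure A (FractionRing A) ≃ₗ[A] integralClosure R (FractionRing R) :=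
    { e.toAddEquiv with
      map_smul' := fun a x => by
        show e (a • x) = a • e x
        rw [Algebra.smul_def, map_mul, he, ← Algebra.smul_def] }
  refine ⟨Module.Finite.equiv eL, ?_⟩
  have hmap : (LinearMap.range (Algebra.linearMap A ↥(integralClosure A (FractionRing A)))).map
      eL.toLinearMap =
      LinearMap.range (Algebra.linearMap A ↥(integralClosure R (FractionRing R))) := by
    ext y
    simp only [Submodule.mem_map, LinearMap.mem_range, Algebra.linearMap_apply]
    constructor
    · rintro ⟨_, ⟨a, rfl⟩, rfl⟩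
      exact ⟨a, (he a).symm⟩
    · rintro ⟨a, rfl⟩
      exact ⟨_, ⟨a, rfl⟩, he a⟩
  exact (Submodule.Quotient.equiv _ _ eL hmap).length_eq.symm

end Groth.Agent.Lib.Helper4.Branches
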