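import Groth.Prelude.Def_CAlg2
import Groth.Agent.Lib.Helper4Branches
import Mathlib

/-!
# Geometrically unibranch local rings: concrete criteria (helper4)

* `PowMem g` : for `g : A →+* C`, every residue field `C/M` (`M` maximal) is "purely inseparable
  over the image of `A`" in the sense used by `CAlg2.IsGeomUnibranch`.
* `powMem_of_ringEquiv` : transport along a ring isomorphism of targets.
* `isGeomUnibranch_iff_of_ringEquiv` : `IsGeomUnibranch A` through any model `C` of `normRed A`.
* `normRedEquiv` : for a domain `B` with fraction field `K`, `normRed B ≃+* integralClosure B K`.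
* `isGeomUnibranch_iff_of_isDomain`, `isUnibranch_iff_of_isDomain`.
-/

set_option autoImplicit false
set_option linter.style.haveILetI false
universe u

namespace Groth.Agent.Lib.Helper4.Unibranch

open Groth.Agent.Lib.Helper4.Branches

/-- The residue-field condition in `CAlg2.IsGeomUnibranch`, for a ring map `g : A → C`. -/
def PowMem {A C : Type*} [CommRing A] [CommRing C] (g : A →+* C) : Prop :=
  ∀ (M : Ideal C) [M.IsMaximal] (x : C ⧸ M),
    ∃ n : ℕ, x ^ (ringExpChar (C ⧸ M)) ^ n ∈ ((Ideal.Quotient.mk M).comp g).range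

theorem powMem_of_ringEquiv {A C₁ C₂ : Type*} [CommRing A] [CommRing C₁] [CommRing C₂]
    (g₁ : A →+* C₁) (g₂ : A →+* C₂) (Ψ : C₁ ≃+* C₂) (h : ∀ a, Ψ (g₁ a) = g₂ a)
    (H : PowMem g₁) : PowMem g₂ := by
  intro M hM x
  have hmax : (M.comap (Ψ : C₁ →+* C₂)).IsMaximal :=
    Ideal.comap_isMaximal_of_surjective _ Ψ.surjective
  have hmap : M = (M.comap (Ψ : C₁ →+* C₂)).map (Ψ : C₁ →+* C₂) :=
    (Ideal.map_comap_of_surjective _ Ψ.surjective M).symm
  let ε : C₁ ⧸ M.comap (Ψ : C₁ →+* C₂) ≃+* C₂ ⧸ M := Ideal.quotientEquiv _ M Ψ hmap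
  have hε : ∀ c, ε (Ideal.Quotient.mk _ c) = Ideal.Quotient.mk M (Ψ c) := fun c => rfl
  letI : Field (C₁ ⧸ M.comap (Ψ : C₁ →+* C₂)) := Ideal.Quotient.field _
  letI : Field (C₂ ⧸ M) := Ideal.Quotient.field _
  have hq : ringExpChar (C₂ ⧸ M) = ringExpChar (C₁ ⧸ M.comap (Ψ : C₁ →+* C₂)) := by
    haveI := expChar_of_injective_ringHom (f := ε.toRingHom) ε.injective
      (ringExpChar (C₁ ⧸ M.comap (Ψ : C₁ →+* C₂)))
    exact ringExpChar.eq _ _
  obtain ⟨y, rfl⟩ := ε.surjective x
  obtain ⟨n, a, ha⟩ := H (M.comap (Ψ : C₁ →+* C₂)) y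
  refine ⟨n, a, ?_⟩
  rw [hq, ← map_pow, ← ha]
  simp only [RingHom.comp_apply]
  rw [hε, h]

theorem isGeomUnibranch_iff_of_ringEquiv (A : Type u) [CommRing A] [IsLocalRing A]
    {C : Type*} [CommRing C] (Ψ : CAlg2.normRed A ≃+* C) (g : A →+* C)
    (hg : ∀ a, Ψ (algebraMap (CAlg2.red A) (CAlg2.normRed A) (Ideal.Quotient.mk _ a)) = g a) :
    CAlg2.IsGeomUnibranch A ↔ IsDomain (CAlg2.red A) ∧ IsLocalRing C ∧ PowMem g := by
  constructor
  · rintro ⟨⟨hd, hl⟩, hp⟩
    haveI := hl
    refine ⟨hd, Ψ.isLocalRing, ?_⟩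
    refine powMem_of_ringEquiv
      ((algebraMap (CAlg2.red A) (CAlg2.normRed A)).comp (Ideal.Quotient.mk (nilradical A)))
      g Ψ hg ?_
    intro M hM x
    exact hp M x
  · rintro ⟨hd, hl, hp⟩
    haveI := hl
    refine ⟨⟨hd, Ψ.symm.isLocalRing⟩, ?_⟩
    intro m' hm' x
    have := powMem_of_ringEquiv g
      ((algebraMap (CAlg2.red A) (CAlg2.normRed A)).comp (Ideal.Quotient.mk (nilradical A)))
      Ψ.symm (fun a => by rw [← hg a]; exact Ψ.symm_apply_apply _) hp
    exact this m' x

theorem isUnibranch_iff_of_ringEquiv (A : Type u) [CommRing A] [IsLocalRing A]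
    {C : Type*} [CommRing C] (Ψ : CAlg2.normRed A ≃+* C) :
    CAlg2.IsUnibranch A ↔ IsDomain (CAlg2.red A) ∧ IsLocalRing C :=
  ⟨fun h => ⟨h.1, haveI := h.2; Ψ.isLocalRing⟩, fun h => ⟨h.1, haveI := h.2; Ψ.symm.isLocalRing⟩⟩

section Domain

variable (B : Type u) [CommRing B] [IsDomain B] (K : Type*) [Field K] [Algebra B K]
  [IsFractionRing B K]

/-- The reduction of a domain is the domain itself. -/
noncomputable def redEquiv : B ≃+* CAlg2.red B :=
  (RingEquiv.quotientBot B).symm.trans (Ideal.quotEquivOfEq (nilradical_eq_zero B).symm)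

theorem redEquiv_apply (b : B) : redEquiv B b = Ideal.Quotient.mk _ b := rfl

theorem isDomain_red : IsDomain (CAlg2.red B) := (redEquiv B).symm.toMulEquiv.isDomain B

/-- For a domain `B` with fraction field `K`, `normRed B` is the integral closure of `B` in `K`. -/
noncomputable def normRedEquiv : CAlg2.normRed B ≃+* integralClosure B K :=
  (normalizationEquiv (redEquiv B).symm).trans
    ((FractionRing.algEquiv B K).mapIntegralClosure : _ ≃+* integralClosure B K)

theorem normRedEquiv_apply (b : B) :
    normRedEquiv B K (algebraMap (CAlg2.red B) (CAlg2.normRed B) (Ideal.Quotient.mk _ b)) =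
      algebraMap B (integralClosure B K) b := by
  unfold normRedEquiv
  rw [RingEquiv.trans_apply, normalizationEquiv_algebraMap, ← redEquiv_apply,
    RingEquiv.symm_apply_apply]
  exact ((FractionRing.algEquiv B K).mapIntegralClosure).commutes b

theorem isGeomUnibranch_iff_of_isDomain [IsLocalRing B] :
    CAlg2.IsGeomUnibranch B ↔
      IsLocalRing (integralClosure B K) ∧ PowMem (algebraMap B (integralClosure B K)) := by
  rw [isGeomUnibranch_iff_of_ringEquiv B (normRedEquiv B K) _ (normRedEquiv_apply B K)]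
  exact ⟨fun h => h.2, fun h => ⟨isDomain_red B, h⟩⟩

theorem isUnibranch_iff_of_isDomain [IsLocalRing B] :
    CAlg2.IsUnibranch B ↔ IsLocalRing (integralClosure B K) := by
  rw [isUnibranch_iff_of_ringEquiv B (normRedEquiv B K)]
  exact ⟨fun h => h.2, fun h => ⟨isDomain_red B, h⟩⟩

end Domain

section IntegralLocal

open IsLocalRing

variable (R : Type*) [CommRing R] [IsLocalRing R] (S : Type*) [CommRing S] [Algebra R S]
  [Algebra.IsIntegral R S]

@[instance_reducible] noncomputable def fieldQuotMax : Field (R ⧸ maximalIdeal R) := Ideal.Quotient.field _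

attribute [local instance] fieldQuotMax

/-- The canonical map from a local ring to the algebraic closure of its residue field. -/
noncomputable def toAlgClosure : R →+* AlgebraicClosure (R ⧸ maximalIdeal R) :=
  (algebraMap (R ⧸ maximalIdeal R) (AlgebraicClosure (R ⧸ maximalIdeal R))).comp
    (Ideal.Quotient.mk _)

variable {R S}

theorem liesOver_of_isMaximal (M : Ideal S) [M.IsMaximal] : M.LiesOver (maximalIdeal R) := by
  have : (M.comap (algebraMap R S)).IsMaximal :=
    Ideal.isMaximal_comap_of_isIntegral_of_isMaximal M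
  exact ⟨(eq_maximalIdeal this).symm⟩

theorem exists_ringHom_ker_eq (M : Ideal S) [hM : M.IsMaximal] :
    ∃ τ : S →+* AlgebraicClosure (R ⧸ maximalIdeal R),
      τ.comp (algebraMap R S) = toAlgClosure R ∧ RingHom.ker τ = M := by
  haveI := liesOver_of_isMaximal (R := R) M
  letI : Field (S ⧸ M) := Ideal.Quotient.field _
  let σ : (S ⧸ M) →ₐ[R ⧸ maximalIdeal R] AlgebraicClosure (R ⧸ maximalIdeal R) :=
    IsAlgClosed.lift
  refine ⟨σ.toRingHom.comp (Ideal.Quotient.mk M), ?_, ?_⟩
  · ext b
    simp only [RingHom.comp_apply, toAlgClosure]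
    rw [← Ideal.Quotient.algebraMap_mk_of_liesOver M (maximalIdeal R)]
    exact σ.commutes _
  · ext c
    rw [RingHom.mem_ker, RingHom.comp_apply]
    rw [map_eq_zero_iff _ σ.toRingHom.injective, Ideal.Quotient.eq_zero_iff_mem]

theorem isLocalRing_and_powMem_of_unique [Nontrivial S]
    (H : ∀ τ₁ τ₂ : S →+* AlgebraicClosure (R ⧸ maximalIdeal R),
      τ₁.comp (algebraMap R S) = toAlgClosure R → τ₂.comp (algebraMap R S) = toAlgClosure R →
      τ₁ = τ₂) :
    IsLocalRing S ∧ PowMem (algebraMap R S) := by
  constructor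
  · apply IsLocalRing.of_unique_max_ideal
    obtain ⟨M, hM⟩ := Ideal.exists_maximal S
    refine ⟨M, hM, fun M' hM' => ?_⟩
    obtain ⟨τ₁, h₁, k₁⟩ := exists_ringHom_ker_eq (R := R) M
    obtain ⟨τ₂, h₂, k₂⟩ := exists_ringHom_ker_eq (R := R) M'
    rw [← k₁, ← k₂, H τ₁ τ₂ h₁ h₂]
  · intro M hM x
    haveI := liesOver_of_isMaximal (R := R) M
    letI : Field (S ⧸ M) := Ideal.Quotient.field _
    haveI : IsPurelyInseparable (R ⧸ maximalIdeal R) (S ⧸ M) := by
      rw [isPurelyInseparable_iff_subsingleton_emb]
      refine (Field.embEquivOfIsAlgClosed (R ⧸ maximalIdeal R) (S ⧸ M)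
        (AlgebraicClosure (R ⧸ maximalIdeal R))).subsingleton_congr.mpr ?_
      refine ⟨fun σ₁ σ₂ => ?_⟩
      have hσ : ∀ σ : (S ⧸ M) →ₐ[R ⧸ maximalIdeal R] AlgebraicClosure (R ⧸ maximalIdeal R),
          (σ.toRingHom.comp (Ideal.Quotient.mk M)).comp (algebraMap R S) = toAlgClosure R := by
        intro σ
        ext b
        simp only [RingHom.comp_apply, toAlgClosure]
        rw [← Ideal.Quotient.algebraMap_mk_of_liesOver M (maximalIdeal R)]
        exact σ.commutes _
      have := H _ _ (hσ σ₁) (hσ σ₂)
      apply AlgHom.ext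
      intro y
      obtain ⟨c, rfl⟩ := Ideal.Quotient.mk_surjective y
      exact congrArg (fun f : S →+* _ => f c) this
    let q := ringExpChar (R ⧸ maximalIdeal R)
    haveI : ExpChar (S ⧸ M) q :=
      expChar_of_injective_ringHom (algebraMap (R ⧸ maximalIdeal R) (S ⧸ M)).injective q
    have hq : ringExpChar (S ⧸ M) = q := ringExpChar.eq _ q
    obtain ⟨n, y, hy⟩ := IsPurelyInseparable.pow_mem (R ⧸ maximalIdeal R) q x
    obtain ⟨b, rfl⟩ := Ideal.Quotient.mk_surjective y
    refine ⟨n, b, ?_⟩
    rw [hq, ← hy, RingHom.comp_apply, Ideal.Quotient.algebraMap_mk_of_liesOver M (maximalIdeal R)]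

theorem ringHom_ext_of_powMem [IsLocalRing S] (hP : PowMem (algebraMap R S))
    {Ω : Type*} [Field Ω] (τ₁ τ₂ : S →+* Ω)
    (h : τ₁.comp (algebraMap R S) = τ₂.comp (algebraMap R S))
    (hk : RingHom.ker (τ₁.comp (algebraMap R S)) = maximalIdeal R) : τ₁ = τ₂ := by
  have hker : ∀ τ : S →+* Ω, RingHom.ker (τ.comp (algebraMap R S)) = maximalIdeal R →
      RingHom.ker τ = maximalIdeal S := by
    intro τ hτ
    haveI : (RingHom.ker τ).IsPrime := RingHom.ker_isPrime τ
    have : ((RingHom.ker τ).comap (algebraMap R S)).IsMaximal := by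
      rw [← RingHom.comap_ker, hτ] at *
      exact maximalIdeal.isMaximal R
    exact eq_maximalIdeal (Ideal.isMaximal_of_isIntegral_of_isMaximal_comap _ this)
  have k₁ := hker τ₁ hk
  have k₂ := hker τ₂ (h ▸ hk)
  letI : Field (S ⧸ maximalIdeal S) := Ideal.Quotient.field _
  let q := ringExpChar (S ⧸ maximalIdeal S)
  let ι : S ⧸ maximalIdeal S →+* Ω := Ideal.Quotient.lift _ τ₁ (fun a ha => by
    rw [← k₁] at ha; exact ha)
  haveI : ExpChar Ω q := expChar_of_injective_ringHom ι.injective q
  ext c
  obtain ⟨n, b, hb⟩ := hP (maximalIdeal S) (Ideal.Quotient.mk _ c)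
  rw [RingHom.comp_apply, ← map_pow, Ideal.Quotient.eq] at hb
  have hb' : algebraMap R S b - c ^ q ^ n ∈ maximalIdeal S := hb
  have e₁ : τ₁ (algebraMap R S b) = τ₁ c ^ q ^ n := by
    have m₁ : algebraMap R S b - c ^ q ^ n ∈ RingHom.ker τ₁ := by rw [k₁]; exact hb'
    rw [RingHom.mem_ker, map_sub, map_pow, sub_eq_zero] at m₁; exact m₁
  have e₂ : τ₂ (algebraMap R S b) = τ₂ c ^ q ^ n := by
    have m₂ : algebraMap R S b - c ^ q ^ n ∈ RingHom.ker τ₂ := by rw [k₂]; exact hb'
    rw [RingHom.mem_ker, map_sub, map_pow, sub_eq_zero] at m₂; exact m₂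
  have e₃ : τ₁ (algebraMap R S b) = τ₂ (algebraMap R S b) :=
    congrArg (fun f : R →+* Ω => f b) h
  apply iterateFrobenius_inj Ω q n
  rw [iterateFrobenius_def, iterateFrobenius_def, ← e₁, ← e₂, e₃]

end IntegralLocal

section Radicial

variable (A : Type u) [CommRing A] [IsDomain A] (p : Ideal A) [p.IsPrime]

/-- The inclusion of the integral closure of `A` into that of `A_p` (inside `Frac A`). -/
noncomputable def incl : integralClosure A (FractionRing A) →+*
    integralClosure (Localization.AtPrime p) (FractionRing A) :=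
  (algebraMap (integralClosure A (FractionRing A)) (FractionRing A)).codRestrict
    (integralClosure (Localization.AtPrime p) (FractionRing A))
    (fun x => IsIntegral.tower_top x.2)

@[instance_reducible] noncomputable def inclAlgebra : Algebra (integralClosure A (FractionRing A))
    (integralClosure (Localization.AtPrime p) (FractionRing A)) := (incl A p).toAlgebra

attribute [local instance] inclAlgebra

theorem incl_val (x : integralClosure A (FractionRing A)) :
    ((algebraMap (integralClosure A (FractionRing A))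
      (integralClosure (Localization.AtPrime p) (FractionRing A)) x : _) : FractionRing A) = x.1 := rfl

instance towerInclK : IsScalarTower (integralClosure A (FractionRing A))
    (integralClosure (Localization.AtPrime p) (FractionRing A)) (FractionRing A) :=
  IsScalarTower.of_algebraMap_eq fun _ => rfl

instance towerAIncl : IsScalarTower A (integralClosure A (FractionRing A))
    (integralClosure (Localization.AtPrime p) (FractionRing A)) :=
  IsScalarTower.of_algebraMap_eq fun a => by
    apply Subtype.ext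
    rw [incl_val]
    rfl

theorem isLocalization_incl :
    IsLocalization (Algebra.algebraMapSubmonoid (integralClosure A (FractionRing A)) p.primeCompl)
      (integralClosure (Localization.AtPrime p) (FractionRing A)) := by
  haveI : IsLocalization (Algebra.algebraMapSubmonoid (FractionRing A) p.primeCompl)
      (FractionRing A) := by
    refine IsLocalization.self ?_
    rintro _ ⟨s, hs, rfl⟩
    have hs0 : s ≠ 0 := fun h => hs (h ▸ p.zero_mem)
    exact (isUnit_iff_ne_zero.mpr
      ((map_ne_zero_iff _ (IsFractionRing.injective A (FractionRing A))).mpr hs0))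
  exact IsLocalization.integralClosure (R := A) (S := FractionRing A)
    (Rf := Localization.AtPrime p) (Sf := FractionRing A) p.primeCompl



/-- Ring-theoretic form of "universally injective": injectivity on points with values in fields. -/
def PtInj : Prop :=
  ∀ (Ω : Type u) [Field Ω], Function.Injective
    (fun g : integralClosure A (FractionRing A) →+* Ω =>
      g.comp (algebraMap A (integralClosure A (FractionRing A))))

variable {A}

attribute [local instance] fieldQuotMax

theorem gu_of_ptInj (H : PtInj A) :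
    IsLocalRing (integralClosure (Localization.AtPrime p) (FractionRing A)) ∧
      PowMem (algebraMap (Localization.AtPrime p)
        (integralClosure (Localization.AtPrime p) (FractionRing A))) := by
  haveI := isLocalization_incl A p
  apply isLocalRing_and_powMem_of_unique
  intro τ₁ τ₂ h₁ h₂
  apply IsLocalization.ringHom_ext
    (Algebra.algebraMapSubmonoid (integralClosure A (FractionRing A)) p.primeCompl)
  apply H _
  show (τ₁.comp (algebraMap (integralClosure A (FractionRing A)) _)).comp (algebraMap A _) =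
    (τ₂.comp (algebraMap (integralClosure A (FractionRing A)) _)).comp (algebraMap A _)
  have e : (algebraMap (integralClosure A (FractionRing A))
      (integralClosure (Localization.AtPrime p) (FractionRing A))).comp
        (algebraMap A (integralClosure A (FractionRing A))) =
      (algebraMap (Localization.AtPrime p) _).comp (algebraMap A (Localization.AtPrime p)) := by
    rw [← IsScalarTower.algebraMap_eq, ← IsScalarTower.algebraMap_eq]
  rw [RingHom.comp_assoc, RingHom.comp_assoc, e, ← RingHom.comp_assoc, ← RingHom.comp_assoc,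
    h₁, h₂]


theorem ptInj_of_gu
    (H : ∀ (p : Ideal A) [p.IsPrime],
      IsLocalRing (integralClosure (Localization.AtPrime p) (FractionRing A)) ∧
      PowMem (algebraMap (Localization.AtPrime p)
        (integralClosure (Localization.AtPrime p) (FractionRing A)))) : PtInj A := by
  intro Ω _ g₁ g₂ hg
  change g₁.comp (algebraMap A _) = g₂.comp (algebraMap A _) at hg
  let h : A →+* Ω := g₁.comp (algebraMap A _)
  let p : Ideal A := RingHom.ker h
  haveI : p.IsPrime := RingHom.ker_isPrime h
  obtain ⟨hloc, hP⟩ := H p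
  haveI := isLocalization_incl A p
  have hu : ∀ g : integralClosure A (FractionRing A) →+* Ω, g.comp (algebraMap A _) = h →
      ∀ y : Algebra.algebraMapSubmonoid (integralClosure A (FractionRing A)) p.primeCompl,
        IsUnit (g y) := by
    rintro g hgh ⟨_, s, hs, rfl⟩
    rw [isUnit_iff_ne_zero]
    have : g (algebraMap A _ s) = h s := congrArg (fun f : A →+* Ω => f s) hgh
    rw [this]
    exact fun h0 => hs h0
  let τ₁ : integralClosure (Localization.AtPrime p) (FractionRing A) →+* Ω :=
    IsLocalization.lift (hu g₁ rfl)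
  let τ₂ : integralClosure (Localization.AtPrime p) (FractionRing A) →+* Ω :=
    IsLocalization.lift (hu g₂ hg.symm)
  have c₁ : τ₁.comp (algebraMap _ _) = g₁ := IsLocalization.lift_comp _
  have c₂ : τ₂.comp (algebraMap _ _) = g₂ := IsLocalization.lift_comp _
  have e : (algebraMap (integralClosure A (FractionRing A))
      (integralClosure (Localization.AtPrime p) (FractionRing A))).comp
        (algebraMap A (integralClosure A (FractionRing A))) =
      (algebraMap (Localization.AtPrime p) _).comp (algebraMap A (Localization.AtPrime p)) := by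
    rw [← IsScalarTower.algebraMap_eq, ← IsScalarTower.algebraMap_eq]
  have hA : ∀ (τ : integralClosure (Localization.AtPrime p) (FractionRing A) →+* Ω)
      (g : integralClosure A (FractionRing A) →+* Ω), τ.comp (algebraMap _ _) = g →
      g.comp (algebraMap A _) = h →
      (τ.comp (algebraMap (Localization.AtPrime p) _)).comp (algebraMap A _) = h := by
    intro τ g hτ hgh
    rw [RingHom.comp_assoc, ← e, ← RingHom.comp_assoc, hτ, hgh]
  have key : τ₁ = τ₂ := by
    haveI := hloc
    refine ringHom_ext_of_powMem hP τ₁ τ₂ ?_ ?_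
    · apply IsLocalization.ringHom_ext p.primeCompl
      rw [hA τ₁ g₁ c₁ rfl, hA τ₂ g₂ c₂ hg.symm]
    · have hcomap : (RingHom.ker (τ₁.comp (algebraMap (Localization.AtPrime p) _))).comap
          (algebraMap A (Localization.AtPrime p)) = p := by
        rw [RingHom.comap_ker, hA τ₁ g₁ c₁ rfl]
      rw [← IsLocalization.map_under p.primeCompl (Localization.AtPrime p)
        (RingHom.ker (τ₁.comp (algebraMap (Localization.AtPrime p) _))), Ideal.under_def, hcomap,
        Localization.AtPrime.map_eq_maximalIdeal]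
  rw [← c₁, ← c₂, key]


variable (A)

theorem ptInj_iff_isGeomUnibranch :
    PtInj A ↔ ∀ (p : Ideal A) [p.IsPrime], CAlg2.IsGeomUnibranch (Localization.AtPrime p) := by
  constructor
  · intro H p _
    rw [isGeomUnibranch_iff_of_isDomain (Localization.AtPrime p) (FractionRing A)]
    exact gu_of_ptInj p H
  · intro H
    apply ptInj_of_gu
    intro p _
    rw [← isGeomUnibranch_iff_of_isDomain (Localization.AtPrime p) (FractionRing A)]
    exact H p

end Radicial

section SepClosed
open IsLocalRing

attribute [local instance] fieldQuotMax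

theorem powMem_of_isSepClosed (k : Type*) [Field k] [IsSepClosed k] {R S : Type*} [CommRing R]
    [IsLocalRing R] [CommRing S] [Algebra R S] [Algebra.IsIntegral R S] [Algebra k R]
    [Algebra.IsAlgebraic k (R ⧸ maximalIdeal R)] : PowMem (algebraMap R S) := by
  intro M hM x
  haveI := liesOver_of_isMaximal (R := R) M
  letI : Field (S ⧸ M) := Ideal.Quotient.field _
  letI : Algebra k (S ⧸ M) :=
    ((algebraMap (R ⧸ maximalIdeal R) (S ⧸ M)).comp (algebraMap k (R ⧸ maximalIdeal R))).toAlgebra
  haveI : IsScalarTower k (R ⧸ maximalIdeal R) (S ⧸ M) :=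
    IsScalarTower.of_algebraMap_eq fun _ => rfl
  haveI : Algebra.IsAlgebraic k (S ⧸ M) :=
    Algebra.IsAlgebraic.trans k (R ⧸ maximalIdeal R) (S ⧸ M)
  let q := ringExpChar k
  haveI : ExpChar (S ⧸ M) q :=
    expChar_of_injective_ringHom (algebraMap k (S ⧸ M)).injective q
  have hq : ringExpChar (S ⧸ M) = q := ringExpChar.eq _ q
  obtain ⟨n, y, hy⟩ := IsPurelyInseparable.pow_mem k q x
  refine ⟨n, algebraMap k R y, ?_⟩
  rw [hq, ← hy, RingHom.comp_apply, ← Ideal.Quotient.algebraMap_mk_of_liesOver M (maximalIdeal R)]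
  rfl

end SepClosed

section Transport

theorem isGeomUnibranch_of_ringEquiv {A B : Type u} [CommRing A] [CommRing B] [IsLocalRing A]
    [IsLocalRing B] (e : A ≃+* B) (h : CAlg2.IsGeomUnibranch A) : CAlg2.IsGeomUnibranch B := by
  have hnil : nilradical B = (nilradical A).map (e : A →+* B) := by
    ext b
    rw [Ideal.mem_map_iff_of_surjective (e : A →+* B) e.surjective]
    constructor
    · intro hb
      refine ⟨e.symm b, ?_, e.apply_symm_apply b⟩
      exact (mem_nilradical.mp hb).map e.symm
    · rintro ⟨a, ha, rfl⟩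
      exact (mem_nilradical.mp ha).map e
  let ρ : CAlg2.red A ≃+* CAlg2.red B := Ideal.quotientEquiv _ _ e hnil
  have hρ : ∀ a, ρ (Ideal.Quotient.mk _ a) = Ideal.Quotient.mk _ (e a) := fun a => rfl
  let Ψ : CAlg2.normRed B ≃+* CAlg2.normRed A := normalizationEquiv ρ.symm
  let canA : A →+* CAlg2.normRed A :=
    (algebraMap (CAlg2.red A) (CAlg2.normRed A)).comp (Ideal.Quotient.mk _)
  let g : B →+* CAlg2.normRed A := canA.comp (e.symm : B →+* A)
  have hg : ∀ b, Ψ (algebraMap (CAlg2.red B) (CAlg2.normRed B) (Ideal.Quotient.mk _ b)) = g b := by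
    intro b
    show normalizationEquiv ρ.symm _ = _
    rw [normalizationEquiv_algebraMap]
    have : ρ.symm (Ideal.Quotient.mk _ b) = Ideal.Quotient.mk _ (e.symm b) := by
      rw [RingEquiv.symm_apply_eq, hρ, e.apply_symm_apply]
    rw [this]
    rfl
  rw [isGeomUnibranch_iff_of_ringEquiv B Ψ g hg]
  obtain ⟨⟨hd, hl⟩, hp⟩ := h
  refine ⟨ρ.toMulEquiv.isDomain_iff.mp hd, hl, ?_⟩
  intro M hM x
  obtain ⟨n, a, ha⟩ := hp M x
  exact ⟨n, e a, by rw [← ha]; simp [g, canA]⟩

end Transport

section SpecMap

open AlgebraicGeometry CategoryTheory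

/-- `Spec φ` is universally injective iff it is injective on points with values in fields. -/
theorem universallyInjective_specMap_iff {R S : Type u} [CommRing R] [CommRing S] (φ : R →+* S) :
    UniversallyInjective (Spec.map (CommRingCat.ofHom φ)) ↔
      ∀ (Ω : Type u) [Field Ω], Function.Injective (fun g : S →+* Ω => g.comp φ) := by
  have h01 := (tfae_universallyInjective (Spec.map (CommRingCat.ofHom φ))).out 0 1
  rw [h01]
  constructor
  · intro H Ω _ g₁ g₂ hg
    have := @H Ω _ (Spec.map (CommRingCat.ofHom g₁)) (Spec.map (CommRingCat.ofHom g₂)) (by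
      show Spec.map _ ≫ Spec.map _ = Spec.map _ ≫ Spec.map _
      rw [← Spec.map_comp, ← Spec.map_comp, ← CommRingCat.ofHom_comp, ← CommRingCat.ofHom_comp]
      exact congrArg (fun f => Spec.map (CommRingCat.ofHom f)) hg)
    have h2 := Spec.map_injective this
    exact congrArg CommRingCat.Hom.hom h2
  · intro H Ω _ G₁ G₂ hG
    obtain ⟨ψ₁, rfl⟩ := Spec.map_surjective G₁
    obtain ⟨ψ₂, rfl⟩ := Spec.map_surjective G₂
    change Spec.map _ ≫ Spec.map _ = Spec.map _ ≫ Spec.map _ at hG
    rw [← Spec.map_comp, ← Spec.map_comp] at hG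
    have h2 := Spec.map_injective hG
    have h3 : ψ₁.hom.comp φ = ψ₂.hom.comp φ := congrArg CommRingCat.Hom.hom h2
    have h4 := H Ω h3
    exact congrArg Spec.map (CommRingCat.hom_ext h4)

end SpecMap

end Groth.Agent.Lib.Helper4.Unibranch
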