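import Mathlib
import Groth.Agent.Lib.Helper3ShTensor
import Groth.Agent.S0537

set_option autoImplicit false
set_option linter.unusedSectionVars false

namespace Groth.Agent.Lib.Helper3.TensorPI

open IsLocalRing TensorProduct Algebra.TensorProduct

section
variable {A B S : Type*} [CommRing A] [CommRing B] [CommRing S] [Algebra A B] [Algebra A S]
  [IsLocalRing A] [IsLocalRing B] [IsLocalRing S] [IsLocalHom (algebraMap A S)]
  [Algebra.IsIntegral A B]

/-- the ideal `m_B (B ⊗ S)` -/
noncomputable abbrev J (A B S : Type*) [CommRing A] [CommRing B] [CommRing S] [Algebra A B]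
    [Algebra A S] [IsLocalRing B] : Ideal (B ⊗[A] S) :=
  (maximalIdeal B).map (includeLeftRingHom : B →+* B ⊗[A] S)

theorem comap_includeRight_of_isMaximal (M : Ideal (B ⊗[A] S)) [M.IsMaximal] :
    M.comap (includeRight : S →ₐ[A] B ⊗[A] S).toRingHom = maximalIdeal S := by
  have hmax : (M.comap (includeRight : S →ₐ[A] B ⊗[A] S).toRingHom).IsMaximal :=
    Ideal.isMaximal_comap_of_isIntegral_of_isMaximal' _ TensorLocal.includeRight_isIntegral M
  exact IsLocalRing.eq_maximalIdeal hmax

theorem comap_includeLeft_of_isMaximal (M : Ideal (B ⊗[A] S)) [M.IsMaximal] :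
    M.comap (includeLeftRingHom : B →+* B ⊗[A] S) = maximalIdeal B := by
  set P := M.comap (includeLeftRingHom : B →+* B ⊗[A] S) with hP
  haveI : P.IsPrime := Ideal.comap_isPrime _ _
  have h1 : P.comap (algebraMap A B) = maximalIdeal A := by
    rw [hP, Ideal.comap_comap, Algebra.TensorProduct.includeLeftRingHom_comp_algebraMap,
      ← Ideal.comap_comap, comap_includeRight_of_isMaximal M]
    exact IsLocalRing.maximalIdeal_comap (algebraMap A S)
  have hmax : P.IsMaximal := by
    apply Ideal.isMaximal_of_isIntegral_of_isMaximal_comap (R := A) P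
    rw [h1]; infer_instance
  exact IsLocalRing.eq_maximalIdeal hmax

theorem J_le_of_isMaximal (M : Ideal (B ⊗[A] S)) [M.IsMaximal] : J A B S ≤ M := by
  rw [J, Ideal.map_le_iff_le_comap, comap_includeLeft_of_isMaximal M]

theorem J_le_jacobson : J A B S ≤ Ideal.jacobson (⊥ : Ideal (B ⊗[A] S)) := by
  refine le_sInf fun M hM => ?_
  haveI := hM.2
  exact J_le_of_isMaximal M

theorem J_ne_top [Nontrivial (B ⊗[A] S)] : J A B S ≠ ⊤ := by
  obtain ⟨M, hM⟩ := Ideal.exists_maximal (B ⊗[A] S)
  intro h
  have := J_le_of_isMaximal M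
  rw [h, top_le_iff] at this
  exact hM.ne_top this

variable (p : ℕ) [ExpChar (ResidueField B) p]

theorem expChar_quotient [Nontrivial (B ⊗[A] S)] : ExpChar ((B ⊗[A] S) ⧸ J A B S) p := by
  haveI : Nontrivial ((B ⊗[A] S) ⧸ J A B S) := Ideal.Quotient.nontrivial_iff.mpr J_ne_top
  let f : ResidueField B →+* (B ⊗[A] S) ⧸ J A B S :=
    Ideal.Quotient.lift (maximalIdeal B)
      ((Ideal.Quotient.mk (J A B S)).comp (includeLeftRingHom : B →+* B ⊗[A] S))
      (fun b hb => by
        rw [RingHom.comp_apply, Ideal.Quotient.eq_zero_iff_mem]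
        exact Ideal.mem_map_of_mem _ hb)
  exact expChar_of_injective_ringHom f.injective p

/-- Frobenius-power reduction to `S`. -/
theorem exists_pow_eq [Nontrivial (B ⊗[A] S)]
    (hpi : ∀ b : B, ∃ (n : ℕ) (a : A), b ^ p ^ n - algebraMap A B a ∈ maximalIdeal B)
    (c : B ⊗[A] S) : ∃ (n : ℕ) (s : S),
      (Ideal.Quotient.mk (J A B S) c) ^ p ^ n = Ideal.Quotient.mk (J A B S) (1 ⊗ₜ[A] s) := by
  haveI := expChar_quotient (A := A) (B := B) (S := S) p
  induction c with
  | zero =>
    refine ⟨0, 0, ?_⟩
    simp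
  | tmul b s =>
    obtain ⟨n, a, ha⟩ := hpi b
    refine ⟨n, a • s ^ p ^ n, ?_⟩
    rw [← map_pow, Ideal.Quotient.mk_eq_mk_iff_sub_mem]
    have : (b ⊗ₜ[A] s) ^ p ^ n - 1 ⊗ₜ[A] (a • s ^ p ^ n)
        = (includeLeftRingHom : B →+* B ⊗[A] S) (b ^ p ^ n - algebraMap A B a)
          * (1 ⊗ₜ[A] (s ^ p ^ n)) := by
      rw [Algebra.TensorProduct.tmul_pow, map_sub, sub_mul]
      congr 1
      · show _ = ((b ^ p ^ n) ⊗ₜ[A] (1 : S)) * _
        rw [Algebra.TensorProduct.tmul_mul_tmul, mul_one, one_mul]
      · show _ = ((algebraMap A B a) ⊗ₜ[A] (1 : S)) * _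
        rw [Algebra.TensorProduct.tmul_mul_tmul, mul_one, one_mul,
          Algebra.algebraMap_eq_smul_one, TensorProduct.smul_tmul]
    rw [this]
    exact Ideal.mul_mem_right _ _ (Ideal.mem_map_of_mem _ ha)
  | add x y hx hy =>
    obtain ⟨n₁, s₁, h₁⟩ := hx
    obtain ⟨n₂, s₂, h₂⟩ := hy
    refine ⟨n₁ + n₂, s₁ ^ p ^ n₂ + s₂ ^ p ^ n₁, ?_⟩
    rw [map_add, add_pow_expChar_pow]
    have e1 : (Ideal.Quotient.mk (J A B S) x) ^ p ^ (n₁ + n₂)
        = Ideal.Quotient.mk (J A B S) (1 ⊗ₜ[A] (s₁ ^ p ^ n₂)) := by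
      rw [pow_add, pow_mul, h₁, ← map_pow, Algebra.TensorProduct.tmul_pow, one_pow]
    have e2 : (Ideal.Quotient.mk (J A B S) y) ^ p ^ (n₁ + n₂)
        = Ideal.Quotient.mk (J A B S) (1 ⊗ₜ[A] (s₂ ^ p ^ n₁)) := by
      rw [add_comm n₁ n₂, pow_add, pow_mul, h₂, ← map_pow, Algebra.TensorProduct.tmul_pow, one_pow]
    rw [e1, e2, ← map_add, ← TensorProduct.tmul_add]

/-- **Locality for purely inseparable residue extensions**. -/
theorem isLocalRing_tensor [Nontrivial (B ⊗[A] S)]
    (hpi : ∀ b : B, ∃ (n : ℕ) (a : A), b ^ p ^ n - algebraMap A B a ∈ maximalIdeal B) :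
    IsLocalRing (B ⊗[A] S) := by
  refine IsLocalRing.of_isUnit_or_isUnit_one_sub_self fun c => ?_
  obtain ⟨n, s, hns⟩ := exists_pow_eq p hpi c
  rw [← map_pow, Ideal.Quotient.mk_eq_mk_iff_sub_mem] at hns
  have hjac := J_le_jacobson (A := A) (B := B) (S := S) hns
  have hpos : p ^ n ≠ 0 := pow_ne_zero _ (expChar_pos (ResidueField B) p).ne'
  by_cases hs : IsUnit s
  · left
    have hu : IsUnit ((1 : B) ⊗ₜ[A] s) := hs.map (includeRight : S →ₐ[A] B ⊗[A] S)
    have h2 : IsUnit (c ^ p ^ n) := by
      obtain ⟨u, hu'⟩ := hu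
      have h3 : c ^ p ^ n * ((u⁻¹ : (B ⊗[A] S)ˣ) : B ⊗[A] S) - 1
          ∈ Ideal.jacobson (⊥ : Ideal (B ⊗[A] S)) := by
        have : c ^ p ^ n * ((u⁻¹ : (B ⊗[A] S)ˣ) : B ⊗[A] S) - 1
            = (c ^ p ^ n - 1 ⊗ₜ[A] s) * ((u⁻¹ : (B ⊗[A] S)ˣ) : B ⊗[A] S) := by
          rw [sub_mul, ← hu', Units.mul_inv]
        rw [this]
        exact Ideal.mul_mem_right _ _ hjac
      have h4 := Ideal.isUnit_of_sub_one_mem_jacobson_bot _ h3
      exact isUnit_of_mul_isUnit_left h4
    exact (isUnit_pow_iff hpos).mp h2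
  · right
    have hsm : s ∈ maximalIdeal S := hs
    have hc : c ∈ Ideal.jacobson (⊥ : Ideal (B ⊗[A] S)) := by
      rw [Ideal.jacobson, Ideal.mem_sInf]
      rintro M ⟨-, hM⟩
      haveI := hM
      have h1 : (1 : B) ⊗ₜ[A] s ∈ M := by
        apply TensorLocal.K_le_of_isMaximal M
        exact Ideal.mem_map_of_mem (includeRight : S →ₐ[A] B ⊗[A] S).toRingHom hsm
      have h2 : c ^ p ^ n - 1 ⊗ₜ[A] s ∈ M := J_le_of_isMaximal M hns
      have h3 : c ^ p ^ n ∈ M := by
        have := M.add_mem h2 h1
        simpa using this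
      exact Ideal.IsPrime.mem_of_pow_mem hM.isPrime _ h3
    apply Ideal.isUnit_of_sub_one_mem_jacobson_bot
    have : 1 - c - 1 = -c := by ring
    rw [this]
    exact neg_mem hc

end

end Groth.Agent.Lib.Helper3.TensorPI

namespace Groth.Agent.Lib.Helper3.GeomUnibranch

open IsLocalRing TensorProduct Algebra.TensorProduct

universe u

section transport

/-- transport of a strict henselization along a ring isomorphism of the base. -/
theorem isStrictHenselization_of_ringEquiv {R R₂ S : Type u} [CommRing R] [IsLocalRing R]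
    [CommRing R₂] [IsLocalRing R₂] [CommRing S] [IsLocalRing S] [Algebra R S]
    [IsLocalHom (algebraMap R S)] [hS : Hensel.IsStrictHenselization R S] [Algebra R₂ S]
    [IsLocalHom (algebraMap R₂ S)] (e : R ≃+* R₂)
    (he : ∀ r, algebraMap R₂ S (e r) = algebraMap R S r) : Hensel.IsStrictHenselization R₂ S := by
  haveI : IsLocalHom (e : R →+* R₂) := by
    refine ⟨fun a ha => ?_⟩
    have := ha.map (e.symm : R₂ →+* R)
    simpa using this
  have hcomp : algebraMap R S = (algebraMap R₂ S).comp (e : R →+* R₂) := by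
    ext r; exact (he r).symm
  have hκ : ResidueField.map (algebraMap R S)
      = (ResidueField.map (algebraMap R₂ S)).comp (ResidueField.map (e : R →+* R₂)) := by
    rw [← ResidueField.map_comp]
    congr 1
  refine ⟨hS.henselian, ?_, ?_⟩
  · have h1 := hS.isSepClosure
    refine ⟨h1.sep_closed, ?_⟩
    letI : Algebra (ResidueField R) (ResidueField R₂) :=
      (ResidueField.map (e : R →+* R₂)).toAlgebra
    haveI : IsScalarTower (ResidueField R) (ResidueField R₂) (ResidueField S) :=
      IsScalarTower.of_algebraMap_eq (fun x => RingHom.congr_fun hκ x)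
    haveI : Algebra.IsSeparable (ResidueField R) (ResidueField S) := h1.separable
    exact Algebra.isSeparable_tower_top_of_isSeparable (ResidueField R) (ResidueField R₂)
      (ResidueField S)
  · intro T _ _ f hf τ hτ
    haveI : IsLocalHom (f.comp (e : R →+* R₂)) := RingHom.isLocalHom_comp _ _
    have hτ' : τ.comp (ResidueField.map (algebraMap R S))
        = ResidueField.map (f.comp (e : R →+* R₂)) := by
      rw [hκ, ← RingHom.comp_assoc, hτ, ← ResidueField.map_comp]
    obtain ⟨g, ⟨hg1, hg2⟩, hguniq⟩ := hS.universal T (f.comp (e : R →+* R₂)) τ hτ'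
    have key : ∀ g' : S →+* T, g'.comp (algebraMap R₂ S) = f ↔
        g'.comp (algebraMap R S) = f.comp (e : R →+* R₂) := by
      intro g'
      constructor
      · intro h
        rw [hcomp, ← RingHom.comp_assoc, h]
      · intro h
        ext r₂
        obtain ⟨r, rfl⟩ := e.surjective r₂
        have := RingHom.congr_fun h r
        rw [RingHom.comp_apply, ← he] at this
        exact this
    exact ⟨g, ⟨(key g).mpr hg1, hg2⟩,
      fun g' hg' => hguniq g' ⟨(key g').mp hg'.1, hg'.2⟩⟩

end transport

section domain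

/-- `D' ⊗[D] S` is a domain for `D'` the integral closure of `D` in its fraction field and `S` a
faithfully flat domain over `D`. -/
theorem isDomain_tensor_integralClosure (D S F : Type*) [CommRing D] [CommRing S] [Algebra D S]
    [Module.FaithfullyFlat D S] [IsDomain S] [Field F] [Algebra D F] [IsFractionRing D F] :
    IsDomain ((integralClosure D F) ⊗[D] S) := by
  haveI : IsDomain D :=
    Function.Injective.isDomain (algebraMap D F) (IsFractionRing.injective D F)
  letI : Algebra S (F ⊗[D] S) := Algebra.TensorProduct.rightAlgebra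
  haveI : IsLocalization (Algebra.algebraMapSubmonoid S (nonZeroDivisors D)) (F ⊗[D] S) :=
    IsLocalization.tensorRight F (nonZeroDivisors D)
  have hle : Algebra.algebraMapSubmonoid S (nonZeroDivisors D) ≤ nonZeroDivisors S := by
    rintro _ ⟨d, hd, rfl⟩
    apply mem_nonZeroDivisors_of_ne_zero
    rw [Ne, map_eq_zero_iff _ (FaithfulSMul.algebraMap_injective D S)]
    exact nonZeroDivisors.ne_zero hd
  haveI : IsDomain (F ⊗[D] S) := IsLocalization.isDomain_of_le_nonZeroDivisors (F ⊗[D] S) hle
  let ι : (integralClosure D F) ⊗[D] S →ₐ[D] F ⊗[D] S :=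
    Algebra.TensorProduct.map (integralClosure D F).val (AlgHom.id D S)
  have hι : Function.Injective ι := by
    have := Module.Flat.rTensor_preserves_injective_linearMap (M := S)
      (integralClosure D F).val.toLinearMap Subtype.val_injective
    intro x y hxy
    apply this
    exact hxy
  exact Function.Injective.isDomain ι.toRingHom hι

end domain

section main

variable (D : Type u) [CommRing D] [IsDomain D] [IsLocalRing D] (S : Type u) [CommRing S]
  [IsLocalRing S] [Algebra D S] [IsLocalHom (algebraMap D S)] [Hensel.IsStrictHenselization D S]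
  (F : Type u) [Field F] [Algebra D F] [IsFractionRing D F]

theorem injective_algebraMap_integralClosure :
    Function.Injective (algebraMap D (integralClosure D F)) := by
  intro x y hxy
  apply IsFractionRing.injective D F
  have := congrArg (fun z : integralClosure D F => (z : F)) hxy
  exact this

theorem isDomain_of_pi (hloc : IsLocalRing (integralClosure D F)) (p : ℕ)
    [ExpChar (ResidueField (integralClosure D F)) p]
    (hpi : ∀ b : integralClosure D F, ∃ (n : ℕ) (a : D),
      b ^ p ^ n - algebraMap D (integralClosure D F) a ∈ maximalIdeal (integralClosure D F)) :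
    IsDomain S := by
  haveI : Module.FaithfullyFlat D S := HzP.sh_faithfullyFlat D S
  have hinj := injective_algebraMap_integralClosure D F
  haveI : FaithfulSMul D (integralClosure D F) :=
    (faithfulSMul_iff_algebraMap_injective D _).mpr hinj
  haveI : IsLocalHom (algebraMap D (integralClosure D F)) := inferInstance
  haveI : Nontrivial ((integralClosure D F) ⊗[D] S) := inferInstance
  haveI hC : IsLocalRing ((integralClosure D F) ⊗[D] S) := TensorPI.isLocalRing_tensor p hpi
  obtain ⟨T, _, _, _, _, hT⟩ := Groth.Agent.S0537.result (integralClosure D F)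
  letI : Algebra D T :=
    ((algebraMap (integralClosure D F) T).comp (algebraMap D (integralClosure D F))).toAlgebra
  haveI : IsScalarTower D (integralClosure D F) T := IsScalarTower.of_algebraMap_eq (fun _ => rfl)
  obtain ⟨g, hg⟩ := ShTensor.exists_map (A := D) (B := integralClosure D F) (S := S) (T := T)
  haveI := hg
  haveI hQmax : (ShTensor.Q (integralClosure D F) g).IsMaximal :=
    ShTensor.Q_isMaximal (integralClosure D F) g
  have hQ : ShTensor.Q (integralClosure D F) g = maximalIdeal _ := IsLocalRing.eq_maximalIdeal hQmax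
  haveI : IsLocalization.AtPrime ((integralClosure D F) ⊗[D] S)
      (ShTensor.Q (integralClosure D F) g) := by
    apply IsLocalization.of_le_isUnit
    intro c hc
    rw [IsUnit.mem_submonoid_iff]
    by_contra hnu
    apply hc
    rw [hQ]
    exact hnu
  have hint : ((algebraMap ((integralClosure D F) ⊗[D] S) ((integralClosure D F) ⊗[D] S)).comp
      (includeRight : S →ₐ[D] (integralClosure D F) ⊗[D] S).toRingHom).IsIntegral := by
    rw [Algebra.algebraMap_self, RingHom.id_comp]
    exact TensorLocal.includeRight_isIntegral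
  obtain ⟨e, -⟩ := ShTensor.exists_algEquiv (integralClosure D F) g
    ((integralClosure D F) ⊗[D] S) hint
  haveI : IsIntegrallyClosed (integralClosure D F) :=
    integralClosure.isIntegrallyClosedOfFiniteExtension F (L := F)
  have hnorm := (HzP.sh_normal_iff (integralClosure D F) T).mp ⟨inferInstance, inferInstance⟩
  haveI := hnorm.1
  haveI : IsDomain ((integralClosure D F) ⊗[D] S) := e.toMulEquiv.isDomain
  have hinj2 : Function.Injective
      (includeRight : S →ₐ[D] (integralClosure D F) ⊗[D] S) :=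
    Algebra.TensorProduct.includeRight_injective hinj
  exact Function.Injective.isDomain (includeRight : S →ₐ[D] (integralClosure D F) ⊗[D] S).toRingHom
    hinj2

/-- the tensor product `D' ⊗ S` is a henselian local domain when `S` is a domain. -/
theorem isLocalRing_integralClosure_of_isDomain [IsDomain S] :
    IsLocalRing (integralClosure D F) := by
  haveI : Module.FaithfullyFlat D S := HzP.sh_faithfullyFlat D S
  haveI hS : HenselianLocalRing S := Hensel.IsStrictHenselization.henselian (R := D)
  haveI : IsDomain ((integralClosure D F) ⊗[D] S) := isDomain_tensor_integralClosure D S F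
  letI : Algebra S ((integralClosure D F) ⊗[D] S) := Algebra.TensorProduct.rightAlgebra
  haveI : Algebra.IsIntegral S ((integralClosure D F) ⊗[D] S) := by
    rw [← algebraMap_isIntegral_iff]
    exact TensorLocal.includeRight_isIntegral
  obtain ⟨hH, -⟩ := Groth.Agent.S1964.result S ((integralClosure D F) ⊗[D] S)
  haveI : IsLocalRing ((integralClosure D F) ⊗[D] S) := inferInstance
  exact Module.FaithfullyFlat.isLocalRing (integralClosure D F) ((integralClosure D F) ⊗[D] S)

set_option maxHeartbeats 1000000 in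
theorem pi_of_isDomain [IsDomain S] (m' : Ideal (integralClosure D F)) [m'.IsMaximal]
    (x : integralClosure D F ⧸ m') :
    ∃ n : ℕ, x ^ (ringExpChar (integralClosure D F ⧸ m')) ^ n ∈
      ((Ideal.Quotient.mk m').comp (algebraMap D (integralClosure D F))).range := by
  haveI : Module.FaithfullyFlat D S := HzP.sh_faithfullyFlat D S
  haveI hS : HenselianLocalRing S := Hensel.IsStrictHenselization.henselian (R := D)
  haveI hSsep : IsSepClosure (ResidueField D) (ResidueField S) :=
    Hensel.IsStrictHenselization.isSepClosure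
  haveI : IsSepClosed (ResidueField S) := hSsep.sep_closed
  haveI : Algebra.IsSeparable (ResidueField D) (ResidueField S) := hSsep.separable
  haveI : IsDomain ((integralClosure D F) ⊗[D] S) := isDomain_tensor_integralClosure D S F
  letI : Algebra S ((integralClosure D F) ⊗[D] S) := Algebra.TensorProduct.rightAlgebra
  haveI : Algebra.IsIntegral S ((integralClosure D F) ⊗[D] S) := by
    rw [← algebraMap_isIntegral_iff]
    exact TensorLocal.includeRight_isIntegral
  obtain ⟨hH, hlh, hsep⟩ := Groth.Agent.S1964.result S ((integralClosure D F) ⊗[D] S)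
  haveI := hlh
  haveI hCloc : IsLocalRing ((integralClosure D F) ⊗[D] S) := inferInstance
  obtain ⟨-, hpiC⟩ := hsep inferInstance
  have hpiC' := hpiC hlh
  letI : Algebra (ResidueField S) (ResidueField ((integralClosure D F) ⊗[D] S)) :=
    (IsLocalRing.ResidueField.map (algebraMap S ((integralClosure D F) ⊗[D] S))).toAlgebra
  haveI : IsPurelyInseparable (ResidueField S)
    (ResidueField ((integralClosure D F) ⊗[D] S)) := hpiC'
  -- the field `L` and its `k`-algebra structure
  letI : Field (integralClosure D F ⧸ m') := Ideal.Quotient.field m'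
  have hcomap : m'.comap (algebraMap D (integralClosure D F)) = maximalIdeal D := by
    have hmax : (m'.comap (algebraMap D (integralClosure D F))).IsMaximal :=
      Ideal.isMaximal_comap_of_isIntegral_of_isMaximal m'
    exact IsLocalRing.eq_maximalIdeal hmax
  let f : D →+* integralClosure D F ⧸ m' :=
    (Ideal.Quotient.mk m').comp (algebraMap D (integralClosure D F))
  let fk : ResidueField D →+* integralClosure D F ⧸ m' :=
    Ideal.Quotient.lift (maximalIdeal D) f (fun a ha => by
      rw [← hcomap] at ha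
      exact Ideal.Quotient.eq_zero_iff_mem.mpr ha)
  letI : Algebra (ResidueField D) (integralClosure D F ⧸ m') := fk.toAlgebra
  have hfk : ∀ d : D, algebraMap (ResidueField D) (integralClosure D F ⧸ m') (residue D d) = f d :=
    fun d => rfl
  suffices hPI : IsPurelyInseparable (ResidueField D) (integralClosure D F ⧸ m') by
    let q := ringExpChar (ResidueField D)
    haveI : ExpChar (integralClosure D F ⧸ m') q :=
      expChar_of_injective_algebraMap
        (algebraMap (ResidueField D) (integralClosure D F ⧸ m')).injective q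
    rw [ringExpChar.eq (integralClosure D F ⧸ m') q]
    obtain ⟨n, y, hy⟩ := (isPurelyInseparable_iff_pow_mem (ResidueField D) q).mp hPI x
    obtain ⟨d, rfl⟩ := residue_surjective y
    exact ⟨n, d, hy⟩
  -- two embeddings into an algebraically closed field agree
  let Ω := AlgebraicClosure (integralClosure D F ⧸ m')
  haveI : Nonempty ((integralClosure D F ⧸ m') →+* Ω) :=
    ⟨algebraMap (integralClosure D F ⧸ m') Ω⟩
  apply IsPurelyInseparable.of_injective_comp_algebraMap (ResidueField D) _ Ω
  intro σ₁ σ₂ hσ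
  have hσ' : ∀ y, σ₁ (algebraMap (ResidueField D) _ y) = σ₂ (algebraMap (ResidueField D) _ y) :=
    fun y => RingHom.congr_fun hσ y
  letI : Algebra (ResidueField D) Ω := (σ₁.comp (algebraMap (ResidueField D) _)).toAlgebra
  let ρ : ResidueField S →ₐ[ResidueField D] Ω := IsAlgClosed.lift
  letI : Algebra D Ω := ((algebraMap (ResidueField D) Ω).comp (residue D)).toAlgebra
  let u₁ : integralClosure D F →ₐ[D] Ω :=
    { σ₁.comp (Ideal.Quotient.mk m') with commutes' := fun d => rfl }
  let u₂ : integralClosure D F →ₐ[D] Ω :=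
    { σ₂.comp (Ideal.Quotient.mk m') with commutes' := fun d => (hσ' (residue D d)).symm }
  let v : S →ₐ[D] Ω :=
    { ρ.toRingHom.comp (residue S) with commutes' := fun d => ρ.commutes (residue D d) }
  let Φ₁ : (integralClosure D F) ⊗[D] S →ₐ[D] Ω :=
    Algebra.TensorProduct.lift u₁ v (fun _ _ => Commute.all _ _)
  let Φ₂ : (integralClosure D F) ⊗[D] S →ₐ[D] Ω :=
    Algebra.TensorProduct.lift u₂ v (fun _ _ => Commute.all _ _)
  have hΦS : ∀ (Φ : (integralClosure D F) ⊗[D] S →ₐ[D] Ω),
      (∀ s, Φ (1 ⊗ₜ s) = ρ (residue S s)) → IsLocalHom Φ.toRingHom := by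
    intro Φ hΦ
    let P := RingHom.ker Φ.toRingHom
    haveI : P.IsPrime := RingHom.ker_isPrime _
    have hP1 : maximalIdeal S ≤ P.comap (algebraMap S ((integralClosure D F) ⊗[D] S)) := by
      intro s hs
      rw [Ideal.mem_comap, RingHom.mem_ker]
      show Φ (1 ⊗ₜ s) = 0
      rw [hΦ, (residue_eq_zero_iff s).mpr hs, map_zero]
    have hP2 : P.comap (algebraMap S ((integralClosure D F) ⊗[D] S)) = maximalIdeal S :=
      ((maximalIdeal.isMaximal S).eq_of_le (Ideal.comap_ne_top _ (Ideal.IsPrime.ne_top ‹_›))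
        hP1).symm
    have hPmax : P.IsMaximal := by
      apply Ideal.isMaximal_of_isIntegral_of_isMaximal_comap (R := S) P
      rw [hP2]; infer_instance
    have hPeq : P = maximalIdeal _ := IsLocalRing.eq_maximalIdeal hPmax
    refine ⟨fun c hc => ?_⟩
    by_contra hnu
    have : c ∈ P := by rw [hPeq]; exact hnu
    rw [RingHom.mem_ker] at this
    have hc' : IsUnit (Φ c) := hc
    rw [show Φ c = 0 from this] at hc'
    exact not_isUnit_zero hc'
  have hΦ₁S : ∀ s, Φ₁ (1 ⊗ₜ s) = ρ (residue S s) := fun s => by simp [Φ₁, v]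
  have hΦ₂S : ∀ s, Φ₂ (1 ⊗ₜ s) = ρ (residue S s) := fun s => by simp [Φ₂, v]
  haveI h1loc : IsLocalHom Φ₁.toRingHom := hΦS Φ₁ hΦ₁S
  haveI h2loc : IsLocalHom Φ₂.toRingHom := hΦS Φ₂ hΦ₂S
  let φ₁ : ResidueField ((integralClosure D F) ⊗[D] S) →+* Ω := ResidueField.lift Φ₁.toRingHom
  let φ₂ : ResidueField ((integralClosure D F) ⊗[D] S) →+* Ω := ResidueField.lift Φ₂.toRingHom
  have hφ : φ₁.comp (algebraMap (ResidueField S) _) = φ₂.comp (algebraMap (ResidueField S) _) := by
    ext y
    obtain ⟨s, rfl⟩ := residue_surjective y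
    show Φ₁ (1 ⊗ₜ s) = Φ₂ (1 ⊗ₜ s)
    rw [hΦ₁S, hΦ₂S]
  have hφeq : φ₁ = φ₂ :=
    IsPurelyInseparable.injective_comp_algebraMap (ResidueField S)
      (ResidueField ((integralClosure D F) ⊗[D] S)) Ω hφ
  apply RingHom.ext
  intro y
  obtain ⟨b, rfl⟩ := Ideal.Quotient.mk_surjective y
  have e1 : σ₁ (Ideal.Quotient.mk m' b) = φ₁ (residue _ (b ⊗ₜ[D] (1 : S))) := by
    show _ = Φ₁ (b ⊗ₜ 1)
    simp [Φ₁, u₁]
  have e2 : σ₂ (Ideal.Quotient.mk m' b) = φ₂ (residue _ (b ⊗ₜ[D] (1 : S))) := by
    show _ = Φ₂ (b ⊗ₜ 1)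
    simp [Φ₂, u₂]
  rw [e1, e2, hφeq]

end main

end Groth.Agent.Lib.Helper3.GeomUnibranch
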