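import Mathlib
import Groth.Agent.Lib.Helper3ShN
import Groth.Agent.Lib.Helper3HzP
import Groth.Agent.Lib.Helper4Unibranch
import Groth.Agent.S2750

set_option autoImplicit false
set_option linter.unusedVariables false
set_option linter.unusedSectionVars false
set_option linter.style.haveILetI false

open TensorProduct IsLocalRing

universe u

namespace Groth.Agent.Lib.Helper3.EtGU

/-- **Local rings of étale algebras over a geometrically unibranch reduced local ring, at primes over
the closed point, are geometrically unibranch domains.** -/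
theorem isDomain_and_isGeomUnibranch_localization (R : Type u) [CommRing R] [IsLocalRing R]
    [IsReduced R] (hR : CAlg2.IsGeomUnibranch R) (C : Type u) [CommRing C] [Algebra R C]
    [Algebra.Etale R C] (Q : Ideal C) [Q.IsPrime]
    (hQ : Q.comap (algebraMap R C) = maximalIdeal R) :
    IsDomain (Localization.AtPrime Q) ∧ CAlg2.IsGeomUnibranch (Localization.AtPrime Q) := by
  let Ω := SeparableClosure (ResidueField R)
  letI : Algebra R Ω := ((algebraMap (ResidueField R) Ω).comp (residue R)).toAlgebra
  haveI : IsScalarTower R (ResidueField R) Ω := IsScalarTower.of_algebraMap_eq (fun _ => rfl)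
  haveI hloc : IsLocalHom (algebraMap R (Localization.AtPrime Q)) := by
    refine ⟨fun a ha => ?_⟩
    rw [IsScalarTower.algebraMap_apply R C (Localization.AtPrime Q),
      IsLocalization.AtPrime.isUnit_to_map_iff (Localization.AtPrime Q) Q] at ha
    by_contra hna
    have h1 : a ∈ maximalIdeal R := (mem_maximalIdeal a).mpr hna
    rw [← hQ] at h1
    exact ha h1
  haveI : Algebra.FormallyUnramified R (Localization.AtPrime Q) :=
    Algebra.FormallyUnramified.comp R C (Localization.AtPrime Q)
  haveI : Algebra.EssFiniteType R (Localization.AtPrime Q) :=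
    Algebra.EssFiniteType.comp R C (Localization.AtPrime Q)
  haveI : Algebra.IsSeparable (ResidueField R) (ResidueField (Localization.AtPrime Q)) :=
    inferInstance
  let β₀ : ResidueField (Localization.AtPrime Q) →ₐ[ResidueField R] Ω := IsSepClosed.lift
  let β : ResidueField (Localization.AtPrime Q) →ₐ[R] Ω := β₀.restrictScalars R
  obtain ⟨i, e', -⟩ := Sh.exists_idx (Ω := Ω) (Localization.AtPrime Q) C Q hQ AlgEquiv.refl β
  have hdomS : IsDomain (Sh.Rsh R Ω) := (Groth.Agent.S2750.core R (Sh.Rsh R Ω)).mp hR
  letI := (Sh.ofL i).toAlgebra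
  haveI : IsLocalHom (algebraMap i.L (Sh.Rsh R Ω)) := inferInstanceAs (IsLocalHom (Sh.ofL i))
  haveI := Sh.isStrictHenselization_L (R := R) (Ω := Ω) i
  obtain ⟨hred, hgu⟩ := (Groth.Agent.S2750.result i.L (Sh.Rsh R Ω)).mpr hdomS
  haveI : Module.FaithfullyFlat i.L (Sh.Rsh R Ω) := HzP.sh_faithfullyFlat i.L (Sh.Rsh R Ω)
  haveI : IsDomain i.L :=
    Function.Injective.isDomain (algebraMap i.L (Sh.Rsh R Ω))
      (FaithfulSMul.algebraMap_injective i.L (Sh.Rsh R Ω))
  exact ⟨MulEquiv.isDomain i.L e'.toRingEquiv.toMulEquiv,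
    Groth.Agent.Lib.Helper4.Unibranch.isGeomUnibranch_of_ringEquiv e'.symm.toRingEquiv hgu⟩

end Groth.Agent.Lib.Helper3.EtGU
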