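import Mathlib
import Groth.Agent.Lib.Helper4Unibranch

/-!
# Geometric unibranchness passes to the reduction (helper3)
-/

set_option autoImplicit false
set_option linter.style.haveILetI false
universe u
open IsLocalRing

namespace Groth.Agent.Lib.Helper3.GURed

open Groth.Agent.Lib.Helper4.Unibranch Groth.Agent.Lib.Helper4.Branches

instance isLocalRing_red (R : Type u) [CommRing R] [IsLocalRing R] : IsLocalRing (CAlg2.red R) := by
  haveI : Nontrivial (CAlg2.red R) := by
    apply Ideal.Quotient.nontrivial_iff.mpr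
    intro h
    have : (1 : R) ∈ nilradical R := h ▸ Submodule.mem_top
    exact not_isNilpotent_one (mem_nilradical.mp this)
  exact IsLocalRing.of_surjective' (Ideal.Quotient.mk (nilradical R)) Ideal.Quotient.mk_surjective

instance isReduced_red (R : Type u) [CommRing R] : IsReduced (CAlg2.red R) := by
  have h : (nilradical R).IsRadical := by
    rw [nilradical]
    exact Ideal.radical_isRadical _
  exact (Ideal.isRadical_iff_quotient_reduced _).mp h

/-- geometric unibranchness passes to the reduction -/
theorem isGeomUnibranch_red (R : Type u) [CommRing R] [IsLocalRing R]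
    (h : CAlg2.IsGeomUnibranch R) : CAlg2.IsGeomUnibranch (CAlg2.red R) := by
  have hnil : nilradical (CAlg2.red R) = ⊥ := nilradical_eq_zero _
  let e : CAlg2.red R ≃+* CAlg2.red (CAlg2.red R) :=
    (RingEquiv.quotientBot (CAlg2.red R)).symm.trans (Ideal.quotEquivOfEq hnil.symm)
  have he : ∀ r, e r = Ideal.Quotient.mk _ r := fun r => rfl
  let Ψ : CAlg2.normRed (CAlg2.red R) ≃+* CAlg2.normRed R := normalizationEquiv e.symm
  let g : CAlg2.red R →+* CAlg2.normRed R := algebraMap (CAlg2.red R) (CAlg2.normRed R)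
  have hg : ∀ a, Ψ (algebraMap (CAlg2.red (CAlg2.red R)) (CAlg2.normRed (CAlg2.red R))
      (Ideal.Quotient.mk _ a)) = g a := by
    intro a
    show normalizationEquiv e.symm _ = _
    rw [normalizationEquiv_algebraMap, ← he, e.symm_apply_apply]
  rw [isGeomUnibranch_iff_of_ringEquiv (CAlg2.red R) Ψ g hg]
  obtain ⟨⟨hd, hl⟩, hp⟩ := h
  refine ⟨MulEquiv.isDomain (CAlg2.red R) e.symm.toMulEquiv, hl, ?_⟩
  intro M hM x
  obtain ⟨n, a, ha⟩ := hp M x
  exact ⟨n, Ideal.Quotient.mk _ a, ha⟩

end Groth.Agent.Lib.Helper3.GURed
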