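import Mathlib
import Groth.Prelude
import Groth.Agent.S13598

set_option autoImplicit false

universe u

namespace Groth.Agent.Lib.Helper3.ShQuot

open IsLocalRing Polynomial

theorem isSepClosed_of_ringEquiv {K K' : Type*} [Field K] [Field K'] [IsSepClosed K]
    (e : K ≃+* K') : IsSepClosed K' := by
  refine ⟨fun p hp => ?_⟩
  have h1 : (p.map (e.symm : K' →+* K)).Separable := hp.map
  have h2 := IsSepClosed.splits_of_separable _ h1
  have h3 := h2.map (e : K →+* K')
  rw [Polynomial.map_map] at h3
  have h4 : (e : K →+* K').comp (e.symm : K' →+* K) = RingHom.id K' := by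
    ext x; simp
  rwa [h4, Polynomial.map_id] at h3

section

variable {A S : Type u} [CommRing A] [IsLocalRing A] [CommRing S]
    [IsLocalRing S] [Algebra A S] [IsLocalHom (algebraMap A S)]
    (I : Ideal A)
    [IsLocalRing (A ⧸ I)] [IsLocalRing (S ⧸ I.map (algebraMap A S))]
    [IsLocalHom (algebraMap (A ⧸ I) (S ⧸ I.map (algebraMap A S)))]

theorem isLocalHom_mk {R : Type*} [CommRing R] [IsLocalRing R] (J : Ideal R) [IsLocalRing (R ⧸ J)] :
    IsLocalHom (Ideal.Quotient.mk J) := by
  have hJtop : J ≠ ⊤ := by
    intro h
    have : Subsingleton (R ⧸ J) := Ideal.Quotient.subsingleton_iff.mpr h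
    exact not_subsingleton (R ⧸ J) this
  apply isLocalHom_of_le_jacobson_bot
  rw [IsLocalRing.jacobson_eq_maximalIdeal ⊥ bot_ne_top]
  exact IsLocalRing.le_maximalIdeal hJtop

theorem residue_map_mk_bijective {R : Type*} [CommRing R] [IsLocalRing R] (J : Ideal R)
    [IsLocalRing (R ⧸ J)] :
    haveI := isLocalHom_mk J
    Function.Bijective (ResidueField.map (Ideal.Quotient.mk J)) := by
  haveI := isLocalHom_mk J
  refine ⟨RingHom.injective _, fun y => ?_⟩
  obtain ⟨y, rfl⟩ := residue_surjective y
  obtain ⟨y, rfl⟩ := Ideal.Quotient.mk_surjective y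
  exact ⟨residue R y, ResidueField.map_residue _ _⟩

theorem isStrictHenselization_quotient [hS : Hensel.IsStrictHenselization A S] :
    Hensel.IsStrictHenselization (A ⧸ I) (S ⧸ I.map (algebraMap A S)) := by
  haveI hSh : HenselianLocalRing S := hS.henselian
  haveI hA := isLocalHom_mk I
  haveI hS' := isLocalHom_mk (I.map (algebraMap A S))
  have hsq : (algebraMap (A ⧸ I) (S ⧸ I.map (algebraMap A S))).comp (Ideal.Quotient.mk I)
      = (Ideal.Quotient.mk (I.map (algebraMap A S))).comp (algebraMap A S) := by
    ext a; rfl
  have hκ : (ResidueField.map (algebraMap (A ⧸ I) (S ⧸ I.map (algebraMap A S)))).comp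
      (ResidueField.map (Ideal.Quotient.mk I))
      = (ResidueField.map (Ideal.Quotient.mk (I.map (algebraMap A S)))).comp
        (ResidueField.map (algebraMap A S)) := by
    rw [← ResidueField.map_comp, ← ResidueField.map_comp]
    congr 1
  refine ⟨Groth.Agent.S13598.henselian_quotient _, ?_, ?_⟩
  · have h1 := hS.isSepClosure
    haveI := h1.sep_closed
    haveI : Algebra.IsSeparable (ResidueField A) (ResidueField S) := h1.separable
    let e2 : ResidueField S ≃+* ResidueField (S ⧸ I.map (algebraMap A S)) :=
      RingEquiv.ofBijective _ (residue_map_mk_bijective (I.map (algebraMap A S)))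
    refine ⟨isSepClosed_of_ringEquiv e2, ?_⟩
    letI : Algebra (ResidueField A) (ResidueField (A ⧸ I)) :=
      (ResidueField.map (Ideal.Quotient.mk I)).toAlgebra
    letI : Algebra (ResidueField A) (ResidueField (S ⧸ I.map (algebraMap A S))) :=
      ((ResidueField.map (algebraMap (A ⧸ I) (S ⧸ I.map (algebraMap A S)))).comp
        (ResidueField.map (Ideal.Quotient.mk I))).toAlgebra
    haveI : IsScalarTower (ResidueField A) (ResidueField (A ⧸ I))
        (ResidueField (S ⧸ I.map (algebraMap A S))) :=
      IsScalarTower.of_algebraMap_eq (fun x => rfl)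
    let e2' : ResidueField S ≃ₐ[ResidueField A] ResidueField (S ⧸ I.map (algebraMap A S)) :=
      { e2 with
        commutes' := fun x => by
          show (ResidueField.map (Ideal.Quotient.mk (I.map (algebraMap A S))))
            (ResidueField.map (algebraMap A S) x) = _
          exact (RingHom.congr_fun hκ x).symm }
    haveI : Algebra.IsSeparable (ResidueField A) (ResidueField (S ⧸ I.map (algebraMap A S))) :=
      AlgEquiv.Algebra.isSeparable e2'
    exact Algebra.isSeparable_tower_top_of_isSeparable (ResidueField A) (ResidueField (A ⧸ I))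
      (ResidueField (S ⧸ I.map (algebraMap A S)))
  · intro T _ _ f hf τ hτ
    haveI : IsLocalHom (f.comp (Ideal.Quotient.mk I)) := RingHom.isLocalHom_comp _ _
    let τ' : ResidueField S →+* ResidueField T :=
      τ.comp (ResidueField.map (Ideal.Quotient.mk (I.map (algebraMap A S))))
    have hτ' : τ'.comp (ResidueField.map (algebraMap A S))
        = ResidueField.map (f.comp (Ideal.Quotient.mk I)) := by
      rw [RingHom.comp_assoc, ← hκ, ← RingHom.comp_assoc, hτ, ← ResidueField.map_comp]
    obtain ⟨g, ⟨hg1, hg2⟩, hguniq⟩ := hS.universal T (f.comp (Ideal.Quotient.mk I)) τ' hτ'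
    have hgker : ∀ x ∈ I.map (algebraMap A S), g x = 0 := by
      intro x hx
      have : I.map (algebraMap A S) ≤ RingHom.ker g := by
        rw [Ideal.map_le_iff_le_comap]
        intro a ha
        show g (algebraMap A S a) = 0
        have := RingHom.congr_fun hg1 a
        simp only [RingHom.comp_apply] at this
        rw [this, Ideal.Quotient.eq_zero_iff_mem.mpr ha, map_zero]
      exact this hx
    refine ⟨Ideal.Quotient.lift _ g hgker, ⟨?_, ?_⟩, ?_⟩
    · ext a
      simp only [RingHom.comp_apply]
      have e1 : algebraMap (A ⧸ I) (S ⧸ I.map (algebraMap A S)) (Ideal.Quotient.mk I a) =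
          Ideal.Quotient.mk _ (algebraMap A S a) := rfl
      rw [e1, Ideal.Quotient.lift_mk]
      exact RingHom.congr_fun hg1 a
    · intro x
      obtain ⟨x, rfl⟩ := Ideal.Quotient.mk_surjective x
      rw [Ideal.Quotient.lift_mk, hg2 x]
      show τ (ResidueField.map (Ideal.Quotient.mk (I.map (algebraMap A S))) (residue S x)) = _
      rw [ResidueField.map_residue]
    · rintro g' ⟨hg'1, hg'2⟩
      have h2 : g'.comp (Ideal.Quotient.mk (I.map (algebraMap A S))) = g := by
        apply hguniq
        refine ⟨?_, ?_⟩
        · rw [RingHom.comp_assoc, ← hsq, ← RingHom.comp_assoc, hg'1]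
        · intro x
          rw [RingHom.comp_apply, hg'2]
          show _ = τ (ResidueField.map (Ideal.Quotient.mk (I.map (algebraMap A S))) (residue S x))
          rw [ResidueField.map_residue]
      apply Ideal.Quotient.ringHom_ext
      rw [h2]
      ext x
      simp

end

end Groth.Agent.Lib.Helper3.ShQuot
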