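import Mathlib
import Groth.Agent.Lib.Helper3EtGU
import Groth.Agent.Lib.Helper3GURed
import Groth.Agent.Lib.Helper3ShQuot

/-!
# Étale algebras over non-reduced geometrically unibranch local rings (helper3)
-/

set_option autoImplicit false
set_option linter.style.haveILetI false
universe u
open TensorProduct IsLocalRing

namespace Groth.Agent.Lib.Helper3.EtGU

open Groth.Agent.Lib.Helper3.GURed

theorem nilradical_eq_comap_of_injective {T T' : Type*} [CommRing T] [CommRing T'] (φ : T →+* T')
    (hφ : Function.Injective φ) : nilradical T = (nilradical T').comap φ := by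
  ext x
  rw [Ideal.mem_comap, mem_nilradical, mem_nilradical]
  constructor
  · intro h; exact h.map φ
  · rintro ⟨n, hn⟩
    refine ⟨n, hφ ?_⟩
    rw [map_pow, hn, map_zero]

theorem nilradical_isPrime_of_injective {T T' : Type*} [CommRing T] [CommRing T'] (φ : T →+* T')
    (hφ : Function.Injective φ) (h : (nilradical T').IsPrime) : (nilradical T).IsPrime := by
  rw [nilradical_eq_comap_of_injective φ hφ]
  exact Ideal.comap_isPrime φ _

/-- the nilradical of a strict henselization of a geometrically unibranch local ring is prime -/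
theorem nilradical_isPrime_of_isStrictHenselization (R S : Type u) [CommRing R] [IsLocalRing R]
    [CommRing S] [IsLocalRing S] [Algebra R S] [IsLocalHom (algebraMap R S)]
    [Hensel.IsStrictHenselization R S] (hR : CAlg2.IsGeomUnibranch R) :
    (nilradical S).IsPrime := by
  let I : Ideal R := nilradical R
  let J : Ideal S := I.map (algebraMap R S)
  have hJnil : J ≤ nilradical S := by
    rw [Ideal.map_le_iff_le_comap]
    intro a ha
    rw [Ideal.mem_comap, mem_nilradical]
    exact (mem_nilradical.mp ha).map _
  have hJtop : J ≠ ⊤ := by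
    intro h
    have : (1 : S) ∈ nilradical S := hJnil (h ▸ Submodule.mem_top)
    exact not_isNilpotent_one (mem_nilradical.mp this)
  haveI : Nontrivial (S ⧸ J) := Ideal.Quotient.nontrivial_iff.mpr hJtop
  haveI : IsLocalRing (S ⧸ J) :=
    IsLocalRing.of_surjective' (Ideal.Quotient.mk J) Ideal.Quotient.mk_surjective
  haveI : IsLocalRing (R ⧸ I) := isLocalRing_red R
  haveI : IsLocalHom (algebraMap (R ⧸ I) (S ⧸ J)) := by
    refine ⟨fun a ha => ?_⟩
    obtain ⟨r, rfl⟩ := Ideal.Quotient.mk_surjective a
    have h1 : algebraMap (R ⧸ I) (S ⧸ J) (Ideal.Quotient.mk I r) =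
        Ideal.Quotient.mk J (algebraMap R S r) := rfl
    rw [h1] at ha
    haveI := ShQuot.isLocalHom_mk J
    have h2 : IsUnit (algebraMap R S r) := isUnit_of_map_unit (Ideal.Quotient.mk J) _ ha
    exact (isUnit_of_map_unit (algebraMap R S) r h2).map _
  haveI : Hensel.IsStrictHenselization (R ⧸ I) (S ⧸ J) := ShQuot.isStrictHenselization_quotient I
  haveI : IsReduced (R ⧸ I) := isReduced_red R
  have hdom : IsDomain (S ⧸ J) :=
    (Groth.Agent.S2750.core (R ⧸ I) (S ⧸ J)).mp (isGeomUnibranch_red R hR)
  have hJprime : J.IsPrime := (Ideal.Quotient.isDomain_iff_prime J).mp hdom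
  have : nilradical S = J := le_antisymm (nilradical_le_prime J) hJnil
  rw [this]
  exact hJprime

/-- **Local rings of étale algebras over a geometrically unibranch (possibly non-reduced) local
ring, at primes over the closed point, have prime nilradical.** -/
theorem nilradical_isPrime_localization (R : Type u) [CommRing R] [IsLocalRing R]
    (hR : CAlg2.IsGeomUnibranch R) (C : Type u) [CommRing C] [Algebra R C]
    [Algebra.Etale R C] (Q : Ideal C) [Q.IsPrime]
    (hQ : Q.comap (algebraMap R C) = maximalIdeal R) :
    (nilradical (Localization.AtPrime Q)).IsPrime := by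
  let Ω := SeparableClosure (ResidueField R)
  letI : Algebra R Ω := ((algebraMap (ResidueField R) Ω).comp (residue R)).toAlgebra
  haveI : IsScalarTower R (ResidueField R) Ω := IsScalarTower.of_algebraMap_eq (fun _ => rfl)
  haveI hloc : IsLocalHom (algebraMap R (Localization.AtPrime Q)) := by
    refine ⟨fun a ha => ?_⟩
    rw [IsScalarTower.algebraMap_apply R C (Localization.AtPrime Q),
      IsLocalization.AtPrime.isUnit_to_map_iff (Localization.AtPrime Q) Q] at ha
    by_contra hna
    have h1 : a ∈ maximalIdeal R := (mem_maximalIdeal a).mpr hna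
    rw [← hQ] at h1
    exact ha h1
  haveI : Algebra.FormallyUnramified R (Localization.AtPrime Q) :=
    Algebra.FormallyUnramified.comp R C (Localization.AtPrime Q)
  haveI : Algebra.EssFiniteType R (Localization.AtPrime Q) :=
    Algebra.EssFiniteType.comp R C (Localization.AtPrime Q)
  haveI : Algebra.IsSeparable (ResidueField R) (ResidueField (Localization.AtPrime Q)) :=
    inferInstance
  let β₀ : ResidueField (Localization.AtPrime Q) →ₐ[ResidueField R] Ω := IsSepClosed.lift
  let β : ResidueField (Localization.AtPrime Q) →ₐ[R] Ω := β₀.restrictScalars R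
  obtain ⟨i, e', -⟩ := Sh.exists_idx (Ω := Ω) (Localization.AtPrime Q) C Q hQ AlgEquiv.refl β
  have hS : (nilradical (Sh.Rsh R Ω)).IsPrime :=
    nilradical_isPrime_of_isStrictHenselization R (Sh.Rsh R Ω) hR
  letI := (Sh.ofL i).toAlgebra
  haveI : IsLocalHom (algebraMap i.L (Sh.Rsh R Ω)) := inferInstanceAs (IsLocalHom (Sh.ofL i))
  haveI := Sh.isStrictHenselization_L (R := R) (Ω := Ω) i
  haveI : Module.FaithfullyFlat i.L (Sh.Rsh R Ω) := HzP.sh_faithfullyFlat i.L (Sh.Rsh R Ω)
  have hL : (nilradical i.L).IsPrime :=
    nilradical_isPrime_of_injective (algebraMap i.L (Sh.Rsh R Ω))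
      (FaithfulSMul.algebraMap_injective i.L (Sh.Rsh R Ω)) hS
  exact nilradical_isPrime_of_injective (e'.toRingEquiv : Localization.AtPrime Q →+* i.L)
    e'.injective hL

end Groth.Agent.Lib.Helper3.EtGU
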