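import Mathlib
import Groth.Agent.Lib.Helper3Branch
import Groth.Agent.Lib.Helper3EtGUN
import Groth.Agent.Lib.Helper3HzP
import Groth.Agent.Lib.Helper3IndEtHz
import Groth.Agent.S0733

set_option linter.style.haveILetI false
set_option autoImplicit false

open TensorProduct IsLocalRing

universe u

namespace Groth.Agent.Lib.Helper3.PuncConn

open Groth.Agent.Lib.Helper3.IndEt

/-- "Local prime-nilradical property" at a prime `M`: the nilradical of `T_M` is prime, stated
elementwise. -/
def LNP {T : Type*} [CommRing T] (M : Ideal T) : Prop :=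
  ∀ x y : T, IsNilpotent (x * y) →
    (∃ u, u ∉ M ∧ IsNilpotent (u * x)) ∨ (∃ u, u ∉ M ∧ IsNilpotent (u * y))

theorem lnp_of_nilradical_isPrime {E : Type*} [CommRing E] (Q : Ideal E) [Q.IsPrime]
    (h : (nilradical (Localization.AtPrime Q)).IsPrime) : LNP Q := by
  intro x y hxy
  have h0 : algebraMap E (Localization.AtPrime Q) x * algebraMap E (Localization.AtPrime Q) y ∈
      nilradical (Localization.AtPrime Q) := by
    rw [← map_mul, mem_nilradical]
    exact hxy.map _
  have key : ∀ z : E, algebraMap E (Localization.AtPrime Q) z ∈ nilradical (Localization.AtPrime Q) →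
      ∃ u, u ∉ Q ∧ IsNilpotent (u * z) := by
    intro z hz
    obtain ⟨n, hn⟩ := mem_nilradical.mp hz
    rw [← map_pow] at hn
    obtain ⟨m, hm⟩ := (IsLocalization.map_eq_zero_iff Q.primeCompl (Localization.AtPrime Q) _).mp hn
    refine ⟨m.1, m.2, n + 1, ?_⟩
    calc (m.1 * z) ^ (n + 1) = m.1 ^ n * z * (m.1 * z ^ n) := by ring
      _ = 0 := by rw [hm, mul_zero]
  rcases h.mem_or_mem h0 with h1 | h1
  · exact Or.inl (key x h1)
  · exact Or.inr (key y h1)

/-- An algebra over a geometrically unibranch local ring satisfying the factorization property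
(e.g. an ind-étale algebra) has the local prime-nilradical property at every prime lying over the
maximal ideal. -/
theorem lnp_of_factor (R : Type u) [CommRing R] [IsLocalRing R] (hR : CAlg2.IsGeomUnibranch R)
    (T : Type u) [CommRing T] [Algebra R T] (H : Obj.Factor R T) (M : Ideal T) [M.IsPrime]
    (hM : M.comap (algebraMap R T) = maximalIdeal R) : LNP M := by
  intro x y hxy
  obtain ⟨n, hn⟩ := hxy
  let I : Ideal (MvPolynomial (Fin 2) R) :=
    Ideal.span {(MvPolynomial.X 0 * MvPolynomial.X 1) ^ n}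
  have hI : I.FG := ⟨{(MvPolynomial.X 0 * MvPolynomial.X 1) ^ n}, by simp [I]⟩
  haveI : Algebra.FinitePresentation R (MvPolynomial (Fin 2) R ⧸ I) :=
    Algebra.FinitePresentation.quotient hI
  let ψ0 : MvPolynomial (Fin 2) R →ₐ[R] T := MvPolynomial.aeval ![x, y]
  have hψ0 : ∀ a ∈ I, ψ0 a = 0 := by
    intro a ha
    obtain ⟨c, rfl⟩ := Ideal.mem_span_singleton'.mp ha
    simp [ψ0, hn]
  let ψ : (MvPolynomial (Fin 2) R ⧸ I) →ₐ[R] T := Ideal.Quotient.liftₐ I ψ0 hψ0
  obtain ⟨E, _, _, _, f, g, hfg⟩ := H (MvPolynomial (Fin 2) R ⧸ I) ψ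
  let ex : E := f (Ideal.Quotient.mk I (MvPolynomial.X 0))
  let ey : E := f (Ideal.Quotient.mk I (MvPolynomial.X 1))
  have hex : g ex = x := by
    have := congr($hfg (Ideal.Quotient.mk I (MvPolynomial.X 0)))
    rw [AlgHom.comp_apply] at this
    rw [this]
    simp [ψ, ψ0]
  have hey : g ey = y := by
    have := congr($hfg (Ideal.Quotient.mk I (MvPolynomial.X 1)))
    rw [AlgHom.comp_apply] at this
    rw [this]
    simp [ψ, ψ0]
  have hexy : IsNilpotent (ex * ey) := by
    refine ⟨n, ?_⟩
    show (f _ * f _) ^ n = 0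
    have h0 : Ideal.Quotient.mk I ((MvPolynomial.X 0 * MvPolynomial.X 1) ^ n) = 0 :=
      Ideal.Quotient.eq_zero_iff_mem.mpr (Ideal.subset_span (Set.mem_singleton _))
    rw [← map_mul, ← map_pow, ← map_mul, ← map_pow, h0, map_zero]
  let Q : Ideal E := M.comap g.toRingHom
  haveI : Q.IsPrime := Ideal.comap_isPrime _ _
  have hQ : Q.comap (algebraMap R E) = maximalIdeal R := by
    rw [← hM]
    ext r
    simp only [Q, Ideal.mem_comap]
    show g (algebraMap R E r) ∈ M ↔ _
    rw [g.commutes]
  have hnil := Groth.Agent.Lib.Helper3.EtGU.nilradical_isPrime_localization R hR E Q hQ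
  rcases lnp_of_nilradical_isPrime Q hnil ex ey hexy with ⟨v, hv, hv0⟩ | ⟨v, hv, hv0⟩
  · left
    refine ⟨g v, hv, ?_⟩
    rw [← hex, ← map_mul]
    exact hv0.map g
  · right
    refine ⟨g v, hv, ?_⟩
    rw [← hey, ← map_mul]
    exact hv0.map g

/-- The local prime-nilradical property at `M` implies that `M` contains exactly one minimal
prime. -/
theorem existsUnique_minimalPrimes_le_of_lnp {T : Type*} [CommRing T] (M : Ideal T) [hM : M.IsPrime]
    (h : LNP M) : ∃! q : Ideal T, q ∈ minimalPrimes T ∧ q ≤ M := by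
  let K : Ideal T :=
    { carrier := {x | ∃ u, u ∉ M ∧ IsNilpotent (u * x)}
      add_mem' := by
        rintro a b ⟨u, hu, hua⟩ ⟨v, hv, hvb⟩
        refine ⟨u * v, fun hmem => ?_, ?_⟩
        · rcases hM.mem_or_mem hmem with h' | h'
          · exact hu h'
          · exact hv h'
        · have h1 : IsNilpotent (v * (u * a)) := (Commute.all _ _).isNilpotent_mul_left hua
          have h2 : IsNilpotent (u * (v * b)) := (Commute.all _ _).isNilpotent_mul_left hvb
          have : u * v * (a + b) = v * (u * a) + u * (v * b) := by ring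
          rw [this]
          exact (Commute.all _ _).isNilpotent_add h1 h2
      zero_mem' := ⟨1, fun h1 => hM.ne_top ((Ideal.eq_top_iff_one _).mpr h1), by simp⟩
      smul_mem' := by
        rintro c a ⟨u, hu, hua⟩
        refine ⟨u, hu, ?_⟩
        have : u * (c • a) = c * (u * a) := by rw [smul_eq_mul]; ring
        rw [this]
        exact (Commute.all _ _).isNilpotent_mul_left hua }
  have hK : ∀ x, x ∈ K ↔ ∃ u, u ∉ M ∧ IsNilpotent (u * x) := fun x => Iff.rfl
  have hKprime : K.IsPrime := by
    refine ⟨?_, ?_⟩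
    · intro htop
      have : (1 : T) ∈ K := htop ▸ Submodule.mem_top
      obtain ⟨u, hu, hu0⟩ := (hK 1).mp this
      rw [mul_one] at hu0
      obtain ⟨n, hn⟩ := hu0
      exact hu (hM.mem_of_pow_mem n (hn ▸ M.zero_mem))
    · intro x y hxy
      obtain ⟨m, hm, hm0⟩ := (hK _).mp hxy
      rw [← mul_assoc] at hm0
      rcases h _ _ hm0 with ⟨u, hu, hu0⟩ | ⟨u, hu, hu0⟩
      · left
        refine (hK x).mpr ⟨u * m, fun hmem => ?_, by rw [mul_assoc]; exact hu0⟩
        rcases hM.mem_or_mem hmem with h' | h'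
        · exact hu h'
        · exact hm h'
      · right
        exact (hK y).mpr ⟨u, hu, hu0⟩
  have hKle : ∀ q : Ideal T, q.IsPrime → q ≤ M → K ≤ q := by
    intro q hq hqM x hx
    obtain ⟨u, hu, n, hn⟩ := (hK x).mp hx
    have : u * x ∈ q := hq.mem_of_pow_mem n (hn ▸ q.zero_mem)
    rcases hq.mem_or_mem this with h' | h'
    · exact absurd (hqM h') hu
    · exact h'
  obtain ⟨q, hq, hqM⟩ := Ideal.exists_minimalPrimes_le (I := (⊥ : Ideal T)) (J := M) bot_le
  refine ⟨q, ⟨hq, hqM⟩, ?_⟩
  rintro q' ⟨hq', hq'M⟩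
  have e1 : q = K := le_antisymm (hq.2 ⟨hKprime, bot_le⟩ (hKle q hq.1.1 hqM)) (hKle q hq.1.1 hqM)
  have e2 : q' = K :=
    le_antisymm (hq'.2 ⟨hKprime, bot_le⟩ (hKle q' hq'.1.1 hq'M)) (hKle q' hq'.1.1 hq'M)
  rw [e1, e2]


attribute [local instance] Algebra.TensorProduct.rightAlgebra in
/-- An ind-étale algebra `T` over a ring `A` has the local prime-nilradical property at every
prime `M` such that the local ring of `A` at the contraction of `M` is geometrically unibranch. -/
theorem lnp_of_isIndEtale (A : Type u) [CommRing A] (T : Type u) [CommRing T] [Algebra A T]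
    (H : EtPBC.IsIndEtale A T) (M : Ideal T) [M.IsPrime]
    (hgu : CAlg2.IsGeomUnibranch (Localization.AtPrime (M.comap (algebraMap A T)))) : LNP M := by
  let p : Ideal A := M.comap (algebraMap A T)
  haveI : p.IsPrime := Ideal.comap_isPrime _ _
  let Rp := Localization.AtPrime p
  let Tp := Rp ⊗[A] T
  have hind : EtPBC.IsIndEtale Rp Tp := Groth.Agent.S0733.result A T Rp H
  have HF : Obj.Factor Rp Tp := factor_of_isIndEtale hind
  let W : Submonoid T := Algebra.algebraMapSubmonoid T p.primeCompl
  haveI : IsLocalization W Tp := IsLocalization.tensorRight Rp p.primeCompl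
  have hdisj : Disjoint (W : Set T) (M : Set T) := by
    rw [Set.disjoint_left]
    rintro t ⟨r, hr, rfl⟩ hM
    exact hr hM
  let M' : Ideal Tp := Ideal.map (algebraMap T Tp) M
  haveI hM' : M'.IsPrime := IsLocalization.isPrime_of_isPrime_disjoint W Tp M inferInstance hdisj
  have hcomap : M'.comap (algebraMap T Tp) = M :=
    IsLocalization.under_map_of_isPrime_disjoint W Tp inferInstance hdisj
  have hM'R : M'.comap (algebraMap Rp Tp) = maximalIdeal Rp := by
    have h1 : (M'.comap (algebraMap Rp Tp)).comap (algebraMap A Rp) = p := by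
      rw [Ideal.comap_comap, ← IsScalarTower.algebraMap_eq A Rp Tp,
        IsScalarTower.algebraMap_eq A T Tp, ← Ideal.comap_comap, hcomap]
    rw [← IsLocalization.map_under p.primeCompl Rp (M'.comap (algebraMap Rp Tp))]
    change Ideal.map (algebraMap A Rp) ((M'.comap (algebraMap Rp Tp)).comap (algebraMap A Rp)) = _
    rw [h1]
    exact Localization.AtPrime.map_eq_maximalIdeal
  have hL : LNP M' := lnp_of_factor Rp hgu Tp HF M' hM'R
  have key : ∀ z : T, (∃ u', u' ∉ M' ∧ IsNilpotent (u' * algebraMap T Tp z)) →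
      ∃ u, u ∉ M ∧ IsNilpotent (u * z) := by
    rintro z ⟨u', hu', n, hn⟩
    obtain ⟨⟨t, s⟩, hts⟩ := IsLocalization.surj W u'
    have h1 : algebraMap T Tp ((t * z) ^ n) = 0 := by
      rw [map_pow, map_mul, ← hts, mul_right_comm, mul_pow, hn, zero_mul]
    obtain ⟨c, hc⟩ := (IsLocalization.map_eq_zero_iff W Tp ((t * z) ^ n)).mp h1
    refine ⟨c.1 * t, ?_, n + 1, ?_⟩
    · intro hmem
      rcases (inferInstance : M.IsPrime).mem_or_mem hmem with h | h
      · exact Set.disjoint_left.mp hdisj c.2 h
      · have : algebraMap T Tp t ∈ M' := Ideal.mem_map_of_mem _ h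
        rw [← hts] at this
        rcases hM'.mem_or_mem this with h' | h'
        · exact hu' h'
        · exact hM'.ne_top (Ideal.eq_top_of_isUnit_mem _ h' (IsLocalization.map_units Tp s))
    · calc (c.1 * t * z) ^ (n + 1) = c.1 ^ n * (t * z) * (c.1 * (t * z) ^ n) := by ring
        _ = 0 := by rw [hc, mul_zero]
  intro x y hxy
  have : IsNilpotent (algebraMap T Tp x * algebraMap T Tp y) := by
    rw [← map_mul]; exact hxy.map _
  rcases hL _ _ this with h | h
  · exact Or.inl (key x h)
  · exact Or.inr (key y h)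

/-- In a strict henselization `S` of a local ring `A`, a prime `q` contains exactly one minimal
prime as soon as the local ring of `A` at the contraction of `q` is geometrically unibranch. -/
theorem existsUnique_minimalPrimes_le_of_sh (A : Type u) [CommRing A] [IsLocalRing A]
    (S : Type u) [CommRing S] [IsLocalRing S] [Algebra A S] [IsLocalHom (algebraMap A S)]
    [Hensel.IsStrictHenselization A S] (q : Ideal S) [q.IsPrime]
    (hgu : CAlg2.IsGeomUnibranch (Localization.AtPrime (q.comap (algebraMap A S)))) :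
    ∃! P : Ideal S, P ∈ minimalPrimes S ∧ P ≤ q :=
  existsUnique_minimalPrimes_le_of_lnp q
    (lnp_of_isIndEtale A S (isIndEtale_of_isStrictHenselization A S) q hgu)

end Groth.Agent.Lib.Helper3.PuncConn
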