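import Mathlib
import Groth.Agent.Lib.Helper3HzRed

/-!
# Nilradical of the (strict) henselization (helper3)
-/

namespace Groth.Agent.Lib.Helper3.HzNil

open TensorProduct

universe u

/-- the nilradical of an étale algebra is the extension of the nilradical of the base -/
theorem nilradical_le_map_of_etale (A B : Type u) [CommRing A] [CommRing B] [Algebra A B]
    [Algebra.Etale A B] : nilradical B ≤ (nilradical A).map (algebraMap A B) := by
  haveI : IsReduced (A ⧸ nilradical A) :=
    (Ideal.isRadical_iff_quotient_reduced _).mp (Ideal.radical_isRadical ⊥)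
  haveI : IsReduced ((A ⧸ nilradical A) ⊗[A] B) :=
    EtRed.isReduced_of_etale (A ⧸ nilradical A) ((A ⧸ nilradical A) ⊗[A] B)
  haveI : IsReduced (B ⧸ (nilradical A).map (algebraMap A B)) :=
    isReduced_of_injective
      (Algebra.TensorProduct.quotIdealMapEquivQuotTensor B (nilradical A)).toRingEquiv
      (Algebra.TensorProduct.quotIdealMapEquivQuotTensor B (nilradical A)).injective
  have hrad : ((nilradical A).map (algebraMap A B)).IsRadical :=
    (Ideal.isRadical_iff_quotient_reduced _).mpr inferInstance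
  intro x hx
  apply hrad
  obtain ⟨n, hn⟩ := mem_nilradical.mp hx
  exact ⟨n, by rw [hn]; exact Ideal.zero_mem _⟩

theorem nilradical_le_map_of_isLocalization {B : Type*} [CommRing B] (M : Submonoid B)
    (L : Type*) [CommRing L] [Algebra B L] [IsLocalization M L] :
    nilradical L ≤ (nilradical B).map (algebraMap B L) := by
  intro y hy
  obtain ⟨b, s, rfl⟩ := IsLocalization.exists_mk'_eq M y
  obtain ⟨n, hn⟩ := mem_nilradical.mp hy
  rw [← IsLocalization.mk'_pow, IsLocalization.mk'_eq_zero_iff] at hn
  obtain ⟨t, ht⟩ := hn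
  have hnil : (t : B) * b ∈ nilradical B := by
    refine mem_nilradical.mpr ⟨n + 1, ?_⟩
    rw [mul_pow, pow_succ (t : B), pow_succ b]
    calc (t : B) ^ n * t * (b ^ n * b) = ((t : B) * b ^ n) * ((t : B) ^ n * b) := by ring
      _ = 0 := by rw [ht, zero_mul]
  have h1 : IsLocalization.mk' L b s =
      IsLocalization.mk' L 1 (t * s) * algebraMap B L ((t : B) * b) := by
    rw [mul_comm, IsLocalization.mul_mk'_eq_mk'_of_mul, mul_one, IsLocalization.mk'_eq_iff_eq]
    simp only [Submonoid.coe_mul]
    congr 1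
    ring
  rw [h1]
  exact Ideal.mul_mem_left _ _ (Ideal.mem_map_of_mem _ hnil)


theorem map_nilradical_le {A B : Type*} [CommRing A] [CommRing B] (f : A →+* B) :
    (nilradical A).map f ≤ nilradical B := by
  rw [Ideal.map_le_iff_le_comap]
  intro x hx
  obtain ⟨n, hn⟩ := mem_nilradical.mp hx
  exact mem_nilradical.mpr ⟨n, by rw [← map_pow, hn, map_zero]⟩

/-- transport along a ring isomorphism over `R` -/
theorem nilradical_eq_map_of_algEquiv {R S T : Type*} [CommRing R] [CommRing S] [CommRing T]
    [Algebra R S] [Algebra R T] (e : S ≃ₐ[R] T)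
    (h : nilradical T ≤ (nilradical R).map (algebraMap R T)) :
    (nilradical R).map (algebraMap R S) = nilradical S := by
  apply le_antisymm (map_nilradical_le _)
  intro x hx
  have hex : e x ∈ nilradical T := by
    obtain ⟨n, hn⟩ := mem_nilradical.mp hx
    exact mem_nilradical.mpr ⟨n, by rw [← map_pow, hn, map_zero]⟩
  have := Ideal.mem_map_of_mem (e.symm : T →+* S) (h hex)
  rw [Ideal.map_map] at this
  have h2 : (e.symm : T →+* S).comp (algebraMap R T) = algebraMap R S := by
    ext r
    simp
  rw [h2] at this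
  simpa using this

end Groth.Agent.Lib.Helper3.HzNil

namespace Groth.Agent.Lib.Helper3.Hz

open IsLocalRing

universe u

variable {R : Type u} [CommRing R] [IsLocalRing R]

theorem nilradical_L_le (i : Idx R) :
    nilradical i.L ≤ (nilradical R).map (algebraMap R i.L) := by
  refine (HzNil.nilradical_le_map_of_isLocalization i.Q.primeCompl i.L).trans ?_
  rw [IsScalarTower.algebraMap_eq R i.C i.L, ← Ideal.map_map]
  exact Ideal.map_mono (HzNil.nilradical_le_map_of_etale R i.C)

theorem nilradical_le : nilradical (Rh R) ≤ (nilradical R).map (algebraMap R (Rh R)) := by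
  intro z hz
  obtain ⟨n, hn⟩ := mem_nilradical.mp hz
  obtain ⟨i, x, rfl⟩ := exists_ofL z
  rw [← map_pow] at hn
  obtain ⟨j, hij, hj⟩ := ofL_eq_zero hn
  rw [map_pow] at hj
  have h0 : fmap' i j hij x ∈ nilradical j.L := mem_nilradical.mpr ⟨n, hj⟩
  have h1 := Ideal.mem_map_of_mem (ofL j) (nilradical_L_le j h0)
  rw [Ideal.map_map, ofL_fmap] at h1
  have h2 : (ofL j).comp (algebraMap R j.L) = algebraMap R (Rh R) := by
    ext r
    exact (algebraMap_eq j r).symm
  rwa [h2] at h1

end Groth.Agent.Lib.Helper3.Hz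

namespace Groth.Agent.Lib.Helper3.Sh

open IsLocalRing

universe u

variable {R : Type u} [CommRing R] [IsLocalRing R] {Ω : Type u} [Field Ω] [Algebra R Ω]

theorem nilradical_L_le (i : Idx R Ω) :
    nilradical i.L ≤ (nilradical R).map (algebraMap R i.L) := by
  refine (HzNil.nilradical_le_map_of_isLocalization i.Q.primeCompl i.L).trans ?_
  rw [IsScalarTower.algebraMap_eq R i.C i.L, ← Ideal.map_map]
  exact Ideal.map_mono (HzNil.nilradical_le_map_of_etale R i.C)

variable [Algebra (ResidueField R) Ω] [IsScalarTower R (ResidueField R) Ω]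

theorem nilradical_le : nilradical (Rsh R Ω) ≤ (nilradical R).map (algebraMap R (Rsh R Ω)) := by
  intro z hz
  obtain ⟨n, hn⟩ := mem_nilradical.mp hz
  obtain ⟨i, x, rfl⟩ := exists_ofL z
  rw [← map_pow] at hn
  obtain ⟨j, hij, hj⟩ := ofL_eq_zero hn
  rw [map_pow] at hj
  have h0 : fmap' i j hij x ∈ nilradical j.L := mem_nilradical.mpr ⟨n, hj⟩
  have h1 := Ideal.mem_map_of_mem (ofL j) (nilradical_L_le j h0)
  rw [Ideal.map_map, ofL_fmap, ofL_comp_algebraMap] at h1
  exact h1

end Groth.Agent.Lib.Helper3.Sh

namespace Groth.Agent.Lib.Helper3.HzP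

open IsLocalRing

universe u

variable (R : Type u) [CommRing R] [IsLocalRing R] (S : Type u) [CommRing S] [IsLocalRing S]
    [Algebra R S] [IsLocalHom (algebraMap R S)]

theorem hz_map_nilradical [Hensel.IsHenselization R S] :
    (nilradical R).map (algebraMap R S) = nilradical S := by
  obtain ⟨e⟩ := Hz.nonempty_algEquiv (R := R) S
  exact HzNil.nilradical_eq_map_of_algEquiv e Hz.nilradical_le

theorem sh_map_nilradical [Hensel.IsStrictHenselization R S] :
    (nilradical R).map (algebraMap R S) = nilradical S := by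
  obtain ⟨Ω, _, _, _, _, _, ⟨e⟩⟩ := sh_exists_model R S
  exact HzNil.nilradical_eq_map_of_algEquiv e Sh.nilradical_le

end Groth.Agent.Lib.Helper3.HzP
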