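import Mathlib
import Groth.Agent.Lib.Helper3TensorLocal
import Groth.Agent.Lib.Helper3HzNormal
import Groth.Agent.S2801
import Groth.Agent.S1964

namespace Groth.Agent.Lib.Helper3.Unibranch

open IsLocalRing TensorProduct Algebra.TensorProduct

universe u

section transport

/-- transport of a henselization along a ring isomorphism of the base. -/
theorem isHenselization_of_ringEquiv {R R₂ S : Type u} [CommRing R] [IsLocalRing R] [CommRing R₂]
    [IsLocalRing R₂] [CommRing S] [IsLocalRing S] [Algebra R S] [IsLocalHom (algebraMap R S)]
    [Hensel.IsHenselization R S] [Algebra R₂ S] [IsLocalHom (algebraMap R₂ S)] (e : R ≃+* R₂)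
    (he : ∀ r, algebraMap R₂ S (e r) = algebraMap R S r) : Hensel.IsHenselization R₂ S := by
  refine ⟨Hensel.IsHenselization.henselian (R := R), ?_⟩
  intro T _ _ f hf
  haveI : IsLocalHom (f.comp (e : R →+* R₂)) := by
    refine ⟨fun a ha => ?_⟩
    have : IsUnit (f (e a)) := ha
    have := hf.map_nonunit _ this
    have := this.map e.symm
    simpa using this
  obtain ⟨g, hg, hguniq⟩ := Hensel.IsHenselization.universal (R := R) (S := S) T
    (f.comp (e : R →+* R₂)) inferInstance
  have key : ∀ g' : S →+* T, g'.comp (algebraMap R₂ S) = f ↔
      g'.comp (algebraMap R S) = f.comp (e : R →+* R₂) := by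
    intro g'
    constructor
    · intro h
      ext r
      rw [RingHom.comp_apply, ← he, ← RingHom.comp_apply, h]; rfl
    · intro h
      ext r₂
      obtain ⟨r, rfl⟩ := e.surjective r₂
      rw [RingHom.comp_apply, he, ← RingHom.comp_apply, h]; rfl
  exact ⟨g, (key g).mpr hg, fun g' hg' => hguniq g' ((key g').mp hg')⟩

end transport

section main

variable (D : Type u) [CommRing D] [IsDomain D] [IsLocalRing D] (S : Type u) [CommRing S]
  [IsLocalRing S] [Algebra D S] [IsLocalHom (algebraMap D S)] [Hensel.IsHenselization D S]
  (F : Type u) [Field F] [Algebra D F] [IsFractionRing D F]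

theorem isDomain_of_isLocalRing_integralClosure (h : IsLocalRing (integralClosure D F)) :
    IsDomain S := by
  haveI := h
  haveI : Module.FaithfullyFlat D S := HzP.hz_faithfullyFlat D S
  have hinj : Function.Injective (algebraMap D (integralClosure D F)) := by
    intro x y hxy
    apply IsFractionRing.injective D F
    have := congrArg (fun z : integralClosure D F => (z : F)) hxy
    exact this
  haveI : FaithfulSMul D (integralClosure D F) :=
    (faithfulSMul_iff_algebraMap_injective D _).mpr hinj
  haveI : IsLocalHom (algebraMap D (integralClosure D F)) := inferInstance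
  obtain ⟨hloc, hlh, hhz⟩ := Groth.Agent.S2801.result D (integralClosure D F) S
  haveI : IsIntegrallyClosed (integralClosure D F) :=
    integralClosure.isIntegrallyClosedOfFiniteExtension F (L := F)
  have hnorm := (HzP.hz_normal_iff (integralClosure D F) ((integralClosure D F) ⊗[D] S)).mp
    ⟨inferInstance, inferInstance⟩
  haveI := hnorm.1
  have hinj2 : Function.Injective
      (includeRight : S →ₐ[D] (integralClosure D F) ⊗[D] S) :=
    Algebra.TensorProduct.includeRight_injective hinj
  exact Function.Injective.isDomain (includeRight : S →ₐ[D] (integralClosure D F) ⊗[D] S).toRingHom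
    hinj2

omit [IsDomain D] in
theorem isLocalRing_integralClosure_of_isDomain [IsDomain S] :
    IsLocalRing (integralClosure D F) := by
  haveI : Module.FaithfullyFlat D S := HzP.hz_faithfullyFlat D S
  haveI hS : HenselianLocalRing S := Hensel.IsHenselization.henselian (R := D)
  -- `F ⊗ S` is a domain
  letI : Algebra S (F ⊗[D] S) := Algebra.TensorProduct.rightAlgebra
  haveI : IsLocalization (Algebra.algebraMapSubmonoid S (nonZeroDivisors D)) (F ⊗[D] S) :=
    IsLocalization.tensorRight F (nonZeroDivisors D)
  have hle : Algebra.algebraMapSubmonoid S (nonZeroDivisors D) ≤ nonZeroDivisors S := by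
    rintro _ ⟨d, hd, rfl⟩
    apply mem_nonZeroDivisors_of_ne_zero
    rw [Ne, map_eq_zero_iff _ (FaithfulSMul.algebraMap_injective D S)]
    exact nonZeroDivisors.ne_zero hd
  haveI : IsDomain (F ⊗[D] S) := IsLocalization.isDomain_of_le_nonZeroDivisors (F ⊗[D] S) hle
  -- `D' ⊗ S` is a domain
  let ι : (integralClosure D F) ⊗[D] S →ₐ[D] F ⊗[D] S :=
    Algebra.TensorProduct.map (integralClosure D F).val (AlgHom.id D S)
  have hι : Function.Injective ι := by
    have := Module.Flat.rTensor_preserves_injective_linearMap (M := S)
      (integralClosure D F).val.toLinearMap Subtype.val_injective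
    intro x y hxy
    apply this
    exact hxy
  haveI : IsDomain ((integralClosure D F) ⊗[D] S) := Function.Injective.isDomain ι.toRingHom hι
  letI : Algebra S ((integralClosure D F) ⊗[D] S) := Algebra.TensorProduct.rightAlgebra
  haveI : Algebra.IsIntegral S ((integralClosure D F) ⊗[D] S) := by
    rw [← algebraMap_isIntegral_iff]
    exact TensorLocal.includeRight_isIntegral
  obtain ⟨hH, -⟩ := Groth.Agent.S1964.result S ((integralClosure D F) ⊗[D] S)
  haveI : IsLocalRing ((integralClosure D F) ⊗[D] S) := inferInstance
  exact Module.FaithfullyFlat.isLocalRing (integralClosure D F) ((integralClosure D F) ⊗[D] S)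

end main

end Groth.Agent.Lib.Helper3.Unibranch
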