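import Mathlib
import Groth.Agent.Lib.Helper3PuncConnA
import Groth.Agent.Lib.Helper14IrrComp
import Groth.Agent.Lib.Helper3IndEtComp
import Groth.Agent.Lib.Helper3IndEtFP
import Groth.Agent.Lib.Helper3Branch
import Groth.Agent.S2135

set_option linter.style.haveILetI false
set_option autoImplicit false

open TensorProduct IsLocalRing

universe u

namespace Groth.Agent.Lib.Helper3.EtNbhd

open Groth.Agent.Lib.Helper3.IndEt Groth.Agent.Lib.Helper3.PuncConn

/-- If a prime `M` contains at most one minimal prime then the nilradical of `T_M` is prime. -/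
theorem nilradical_isPrime_of_unique {T : Type*} [CommRing T] (M : Ideal T) [M.IsPrime]
    (h : ∀ P P' : Ideal T, P ∈ minimalPrimes T → P' ∈ minimalPrimes T → P ≤ M → P' ≤ M → P = P') :
    (nilradical (Localization.AtPrime M)).IsPrime := by
  obtain ⟨P0, hP0, hP0M⟩ := Ideal.exists_minimalPrimes_le (I := (⊥ : Ideal T)) (J := M) bot_le
  haveI : P0.IsPrime := hP0.1.1
  have hdisj : Disjoint (M.primeCompl : Set T) (P0 : Set T) := by
    rw [Set.disjoint_left]
    intro t ht htP
    exact ht (hP0M htP)
  have hprime : (Ideal.map (algebraMap T (Localization.AtPrime M)) P0).IsPrime :=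
    IsLocalization.isPrime_of_isPrime_disjoint M.primeCompl _ P0 inferInstance hdisj
  have heq : nilradical (Localization.AtPrime M) =
      Ideal.map (algebraMap T (Localization.AtPrime M)) P0 := by
    apply le_antisymm
    · exact nilradical_le_prime _
    · rw [nilradical_eq_sInf]
      refine le_sInf ?_
      intro J hJ
      have hJ' : J.IsPrime := hJ
      rw [Ideal.map_le_iff_le_comap]
      have hJM : J.comap (algebraMap T (Localization.AtPrime M)) ≤ M := by
        have h1 : (maximalIdeal (Localization.AtPrime M)).comap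
            (algebraMap T (Localization.AtPrime M)) = M :=
          IsLocalization.AtPrime.under_maximalIdeal (Localization.AtPrime M) M
        exact (Ideal.comap_mono (le_maximalIdeal hJ'.ne_top)).trans h1.le
      obtain ⟨P', hP', hP'J⟩ := Ideal.exists_minimalPrimes_le (I := (⊥ : Ideal T))
        (J := J.comap (algebraMap T (Localization.AtPrime M))) bot_le
      rw [h P0 P' hP0 hP' hP0M (hP'J.trans hJM)]
      exact hP'J
  rw [heq]
  exact hprime

/-- In an affine scheme, a point lying on exactly one irreducible component contains at most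
one minimal prime. -/
theorem unique_minimalPrimes_le_of_encard (E : Type*) [CommRing E] (u : PrimeSpectrum E)
    (h : {Z : Set (PrimeSpectrum E) | Z ∈ irreducibleComponents (PrimeSpectrum E) ∧ u ∈ Z}.encard = 1) :
    ∀ P P' : Ideal E, P ∈ minimalPrimes E → P' ∈ minimalPrimes E → P ≤ u.asIdeal →
      P' ≤ u.asIdeal → P = P' := by
  intro P P' hP hP' hPu hP'u
  obtain ⟨Z0, hZ0⟩ := Set.encard_eq_one.mp h
  have key : ∀ P0 : Ideal E, P0 ∈ minimalPrimes E → P0 ≤ u.asIdeal →
      PrimeSpectrum.zeroLocus (P0 : Set E) = Z0 := by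
    intro P0 hP0 hP0u
    have h1 : PrimeSpectrum.zeroLocus (P0 : Set E) ∈ irreducibleComponents (PrimeSpectrum E) := by
      rw [← PrimeSpectrum.zeroLocus_minimalPrimes]
      exact ⟨P0, hP0, rfl⟩
    have h2 : PrimeSpectrum.zeroLocus (P0 : Set E) ∈
        {Z : Set (PrimeSpectrum E) | Z ∈ irreducibleComponents (PrimeSpectrum E) ∧ u ∈ Z} :=
      ⟨h1, (PrimeSpectrum.mem_zeroLocus _ _).mpr hP0u⟩
    rw [hZ0] at h2
    exact h2
  have h3 : PrimeSpectrum.zeroLocus (P : Set E) = PrimeSpectrum.zeroLocus (P' : Set E) :=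
    (key P hP hPu).trans (key P' hP' hP'u).symm
  have h4 := congrArg PrimeSpectrum.vanishingIdeal h3
  rw [PrimeSpectrum.vanishingIdeal_zeroLocus_eq_radical,
    PrimeSpectrum.vanishingIdeal_zeroLocus_eq_radical, hP.1.1.radical, hP'.1.1.radical] at h4
  exact h4

open AlgebraicGeometry in
/-- If the nilradical of the local ring at `u` is prime, then `u` lies on exactly one irreducible
component. -/
theorem encard_eq_one_of_nilradical_isPrime (U : Scheme.{u}) (u : U)
    (h : (nilradical (U.presheaf.stalk u)).IsPrime) :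
    {Z : Set U | Z ∈ irreducibleComponents U ∧ u ∈ Z}.encard = 1 := by
  have hb := Groth.Agent.Lib.Helper14.bijOn_irreducibleComponents_specStalk U u
  rw [← hb.image_eq, hb.injOn.encard_image, Set.encard_eq_one]
  refine ⟨⟨nilradical (U.presheaf.stalk u), h⟩, ?_⟩
  ext z
  simp only [Set.mem_ofPred_eq, Set.mem_singleton_iff]
  have hz : closure ({z} : Set (Spec (U.presheaf.stalk u))) ∈
      irreducibleComponents (Spec (U.presheaf.stalk u) : Type u) ↔
      z.asIdeal ∈ minimalPrimes (U.presheaf.stalk u) := by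
    rw [← PrimeSpectrum.vanishingIdeal_singleton z]
    exact (PrimeSpectrum.vanishingIdeal_mem_minimalPrimes (s := {z})).symm
  rw [hz]
  constructor
  · intro hmin
    apply PrimeSpectrum.ext
    exact le_antisymm (hmin.2 ⟨h, bot_le⟩ (nilradical_le_prime z.asIdeal)) (nilradical_le_prime _)
  · rintro rfl
    refine ⟨⟨h, bot_le⟩, ?_⟩
    rintro q ⟨hq, -⟩ _
    exact nilradical_le_prime q


/-- General form of the factorization trick: to check the local prime-nilradical property at `M`
for an algebra with the factorization property it suffices to check it on étale algebras mapping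
to it. -/
theorem lnp_of_factor' (R : Type u) [CommRing R]
    (T : Type u) [CommRing T] [Algebra R T] (H : Obj.Factor R T) (M : Ideal T) [M.IsPrime]
    (hloc : ∀ (E : Type u) [CommRing E] [Algebra R E] [Algebra.Etale R E] (g : E →ₐ[R] T),
      LNP (M.comap g.toRingHom)) : LNP M := by
  intro x y hxy
  obtain ⟨n, hn⟩ := hxy
  let I : Ideal (MvPolynomial (Fin 2) R) :=
    Ideal.span {(MvPolynomial.X 0 * MvPolynomial.X 1) ^ n}
  have hI : I.FG := ⟨{(MvPolynomial.X 0 * MvPolynomial.X 1) ^ n}, by simp [I]⟩
  haveI : Algebra.FinitePresentation R (MvPolynomial (Fin 2) R ⧸ I) :=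
    Algebra.FinitePresentation.quotient hI
  let ψ0 : MvPolynomial (Fin 2) R →ₐ[R] T := MvPolynomial.aeval ![x, y]
  have hψ0 : ∀ a ∈ I, ψ0 a = 0 := by
    intro a ha
    obtain ⟨c, rfl⟩ := Ideal.mem_span_singleton'.mp ha
    simp [ψ0, hn]
  let ψ : (MvPolynomial (Fin 2) R ⧸ I) →ₐ[R] T := Ideal.Quotient.liftₐ I ψ0 hψ0
  obtain ⟨E, _, _, _, f, g, hfg⟩ := H (MvPolynomial (Fin 2) R ⧸ I) ψ
  let ex : E := f (Ideal.Quotient.mk I (MvPolynomial.X 0))
  let ey : E := f (Ideal.Quotient.mk I (MvPolynomial.X 1))
  have hex : g ex = x := by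
    have := congr($hfg (Ideal.Quotient.mk I (MvPolynomial.X 0)))
    rw [AlgHom.comp_apply] at this
    rw [this]
    simp [ψ, ψ0]
  have hey : g ey = y := by
    have := congr($hfg (Ideal.Quotient.mk I (MvPolynomial.X 1)))
    rw [AlgHom.comp_apply] at this
    rw [this]
    simp [ψ, ψ0]
  have hexy : IsNilpotent (ex * ey) := by
    refine ⟨n, ?_⟩
    show (f _ * f _) ^ n = 0
    have h0 : Ideal.Quotient.mk I ((MvPolynomial.X 0 * MvPolynomial.X 1) ^ n) = 0 :=
      Ideal.Quotient.eq_zero_iff_mem.mpr (Ideal.subset_span (Set.mem_singleton _))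
    rw [← map_mul, ← map_pow, ← map_mul, ← map_pow, h0, map_zero]
  rcases hloc E g ex ey hexy with ⟨v, hv, hv0⟩ | ⟨v, hv, hv0⟩
  · left
    refine ⟨g v, hv, ?_⟩
    rw [← hex, ← map_mul]
    exact hv0.map g
  · right
    refine ⟨g v, hv, ?_⟩
    rw [← hey, ← map_mul]
    exact hv0.map g

/-- A localization has the factorization property. -/
theorem factor_of_isLocalization (R₀ : Type u) [CommRing R₀] (M : Submonoid R₀) (L : Type u)
    [CommRing L] [Algebra R₀ L] [IsLocalization M L] : Obj.Factor R₀ L := by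
  intro P _ _ _ ψ
  obtain ⟨s, ψs, hψs⟩ := exists_factor_localization (R := R₀) (C := R₀) (L := L) M ψ
  exact ⟨Localization.Away (s : R₀), inferInstance, inferInstance,
    Algebra.Etale.of_isLocalizationAway (s : R₀), ψs, awayTo M s, hψs⟩

end Groth.Agent.Lib.Helper3.EtNbhd
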