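import Mathlib
import Groth.Agent.Lib.Helper3EtNbhdA

set_option linter.style.haveILetI false
set_option autoImplicit false

open TensorProduct IsLocalRing

universe u

namespace Groth.Agent.Lib.Helper3.EtNbhd

open Groth.Agent.Lib.Helper3.IndEt Groth.Agent.Lib.Helper3.PuncConn

/-- An element of a minimal prime becomes nilpotent after multiplication by an element outside
that prime. -/
theorem exists_notMem_isNilpotent_mul {T : Type*} [CommRing T] {p : Ideal T}
    (hp : p ∈ minimalPrimes T) {x : T} (hx : x ∈ p) : ∃ s, s ∉ p ∧ IsNilpotent (s * x) := by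
  haveI : p.IsPrime := hp.1.1
  have h1 : algebraMap T (Localization.AtPrime p) x ∈ nilradical (Localization.AtPrime p) := by
    rw [nilradical_eq_sInf, Ideal.mem_sInf]
    intro J hJ
    have hJ' : J.IsPrime := hJ
    have hJp : J.comap (algebraMap T (Localization.AtPrime p)) ≤ p := by
      have h1 : (maximalIdeal (Localization.AtPrime p)).comap
          (algebraMap T (Localization.AtPrime p)) = p :=
        IsLocalization.AtPrime.under_maximalIdeal (Localization.AtPrime p) p
      exact (Ideal.comap_mono (le_maximalIdeal hJ'.ne_top)).trans h1.le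
    exact hp.2 ⟨Ideal.comap_isPrime _ _, bot_le⟩ hJp hx
  obtain ⟨n, hn⟩ := mem_nilradical.mp h1
  rw [← map_pow] at hn
  obtain ⟨m, hm⟩ := (IsLocalization.map_eq_zero_iff p.primeCompl (Localization.AtPrime p) _).mp hn
  refine ⟨m.1, m.2, n + 1, ?_⟩
  calc (m.1 * x) ^ (n + 1) = m.1 ^ n * x * (m.1 * x ^ n) := by ring
    _ = 0 := by rw [hm, mul_zero]

/-- An element of finitely many minimal primes becomes nilpotent after multiplication by an
element outside all of them. -/
theorem exists_notMem_forall_isNilpotent_mul {T : Type*} [CommRing T] (F : Finset (Ideal T))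
    (hF : ∀ P ∈ F, P ∈ minimalPrimes T) (x : T) (hx : ∀ P ∈ F, x ∈ P) :
    ∃ w, (∀ P ∈ F, w ∉ P) ∧ IsNilpotent (w * x) := by
  by_contra hcon
  push Not at hcon
  let ann : Ideal T := Submodule.colon (nilradical T) ({x} : Set T)
  have hann : ∀ s, s ∈ ann ↔ IsNilpotent (s * x) := by
    intro s
    rw [Submodule.mem_colon_singleton, smul_eq_mul, mem_nilradical]
  have hsub : (ann : Set T) ⊆ ⋃ P ∈ (↑F : Set (Ideal T)), (id P : Ideal T) := by
    intro s hs
    by_contra hs'
    simp only [id, Set.mem_iUnion, not_exists] at hs'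
    exact hcon s (fun P hP hsP => hs' P (Finset.mem_coe.mpr hP) hsP) ((hann s).mp hs)
  obtain ⟨P, hP, hle⟩ := (Ideal.subset_union_prime (s := F) (f := id) ⊥ ⊥
    (fun P hP _ _ => (hF P hP).1.1)).mp hsub
  obtain ⟨s, hs, hsx⟩ := exists_notMem_isNilpotent_mul (hF P hP) (hx P hP)
  exact hs (hle ((hann s).mpr hsx))

/-- Elements separating a finite set of minimal primes: `f P ∉ P`, and the pairwise products are
nilpotent. -/
theorem exists_separating {T : Type*} [CommRing T] (F : Finset (Ideal T))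
    (hF : ∀ P ∈ F, P ∈ minimalPrimes T) :
    ∃ f : Ideal T → T, (∀ P ∈ F, f P ∉ P) ∧
      ∀ P ∈ F, ∀ P' ∈ F, P ≠ P' → IsNilpotent (f P * f P') := by
  classical
  have h1 : ∀ P : Ideal T, ∃ f0 : T, P ∈ F → (f0 ∉ P ∧ ∀ P' ∈ F, P' ≠ P → f0 ∈ P') := by
    intro P
    by_cases hP : P ∈ F
    · haveI : P.IsPrime := (hF P hP).1.1
      have h2 : ¬ (F.erase P).inf id ≤ P := by
        intro hle
        obtain ⟨P', hP', hP'P⟩ := (Ideal.IsPrime.inf_le' inferInstance).mp hle
        have hP'F := Finset.mem_of_mem_erase hP'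
        have : P = P' := le_antisymm ((hF P hP).2 ⟨(hF P' hP'F).1.1, bot_le⟩ hP'P) hP'P
        exact Finset.ne_of_mem_erase hP' this.symm
      obtain ⟨f0, hf0, hf0P⟩ := SetLike.not_le_iff_exists.mp h2
      refine ⟨f0, fun _ => ⟨hf0P, fun P' hP' hne => ?_⟩⟩
      have : (F.erase P).inf id ≤ id P' := Finset.inf_le (Finset.mem_erase.mpr ⟨hne, hP'⟩)
      exact this hf0
    · exact ⟨0, fun h => absurd h hP⟩
  choose f0 hf0 using h1
  have h2 : ∀ P P' : Ideal T, ∃ w : T, P ∈ F → P' ∈ F → P ≠ P' →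
      ((∀ P'' ∈ F, w ∉ P'') ∧ IsNilpotent (w * (f0 P * f0 P'))) := by
    intro P P'
    by_cases h : P ∈ F ∧ P' ∈ F ∧ P ≠ P'
    · obtain ⟨hP, hP', hne⟩ := h
      obtain ⟨w, hw1, hw2⟩ := exists_notMem_forall_isNilpotent_mul F hF (f0 P * f0 P') (by
        intro P'' hP''
        by_cases h'' : P'' = P
        · subst h''
          exact Ideal.mul_mem_left _ _ ((hf0 P' hP').2 P'' hP'' hne)
        · exact Ideal.mul_mem_right _ _ ((hf0 P hP).2 P'' hP'' h''))
      exact ⟨w, fun _ _ _ => ⟨hw1, hw2⟩⟩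
    · refine ⟨0, fun hP hP' hne => absurd ⟨hP, hP', hne⟩ h⟩
  choose w hw using h2
  let W : T := ∏ pq ∈ F.offDiag, w pq.1 pq.2
  have hW : ∀ P'' ∈ F, W ∉ P'' := by
    intro P'' hP'' hmem
    haveI : P''.IsPrime := (hF P'' hP'').1.1
    obtain ⟨pq, hpq, hmem'⟩ := (Ideal.IsPrime.prod_mem_iff).mp hmem
    rw [Finset.mem_offDiag] at hpq
    exact (hw pq.1 pq.2 hpq.1 hpq.2.1 hpq.2.2).1 P'' hP'' hmem'
  refine ⟨fun P => W * f0 P, ?_, ?_⟩
  · intro P hP hmem
    haveI : P.IsPrime := (hF P hP).1.1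
    rcases Ideal.IsPrime.mem_or_mem inferInstance hmem with h | h
    · exact hW P hP h
    · exact (hf0 P hP).1 h
  · intro P hP P' hP' hne
    have hdvd : w P P' ∣ W :=
      Finset.dvd_prod_of_mem (fun pq : Ideal T × Ideal T => w pq.1 pq.2)
        (Finset.mem_offDiag.mpr ⟨hP, hP', hne⟩ : (P, P') ∈ F.offDiag)
    obtain ⟨c, hc⟩ := hdvd
    have hnil := (hw P P' hP hP' hne).2
    have : W * f0 P * (W * f0 P') = (W * c) * (w P P' * (f0 P * f0 P')) := by
      rw [hc]; ring
    rw [this]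
    exact (Commute.all _ _).isNilpotent_mul_left hnil


/-- **Factorization trick for several branches**: finitely many minimal primes of an algebra with
the factorization property are already separated on an étale algebra mapping to it. -/
theorem exists_etale_card_le (R0 : Type u) [CommRing R0] (T : Type u) [CommRing T] [Algebra R0 T]
    (H : Obj.Factor R0 T) (F : Finset (Ideal T)) (hF : ∀ P ∈ F, P ∈ minimalPrimes T)
    (M : Ideal T) [M.IsPrime] (hM : ∀ P ∈ F, P ≤ M) :
    ∃ (E : Type u) (_ : CommRing E) (_ : Algebra R0 E) (_ : Algebra.Etale R0 E) (g : E →ₐ[R0] T),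
      (F.card : ℕ∞) ≤
        {P' : Ideal E | P' ∈ minimalPrimes E ∧ P' ≤ M.comap g.toRingHom}.encard := by
  classical
  obtain ⟨f, hf1, hf2⟩ := exists_separating F hF
  have hm : ∀ i j : ↥F, ∃ m : ℕ, i ≠ j → (f i.1 * f j.1) ^ m = 0 := by
    intro i j
    by_cases h : i = j
    · exact ⟨0, fun h' => absurd h h'⟩
    · obtain ⟨m, hm⟩ := hf2 i.1 i.2 j.1 j.2 (fun h' => h (Subtype.ext h'))
      exact ⟨m, fun _ => hm⟩
  choose m hm using hm
  let gen : {ij : ↥F × ↥F // ij.1 ≠ ij.2} → MvPolynomial ↥F R0 :=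
    fun ij => (MvPolynomial.X ij.1.1 * MvPolynomial.X ij.1.2) ^ (m ij.1.1 ij.1.2)
  let I : Ideal (MvPolynomial ↥F R0) := Ideal.span (Set.range gen)
  have hI : I.FG := Submodule.fg_span (Set.finite_range gen)
  haveI : Algebra.FinitePresentation R0 (MvPolynomial ↥F R0 ⧸ I) :=
    Algebra.FinitePresentation.quotient hI
  let ψ0 : MvPolynomial ↥F R0 →ₐ[R0] T := MvPolynomial.aeval (fun i : ↥F => f i.1)
  have hψ0 : ∀ a ∈ I, ψ0 a = 0 := by
    have hle : I ≤ RingHom.ker ψ0.toRingHom := by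
      rw [Ideal.span_le]
      rintro _ ⟨ij, rfl⟩
      show ψ0 (gen ij) = 0
      simp only [gen, ψ0, map_pow, map_mul, MvPolynomial.aeval_X]
      exact hm _ _ ij.2
    intro a ha
    exact hle ha
  let ψ : (MvPolynomial ↥F R0 ⧸ I) →ₐ[R0] T := Ideal.Quotient.liftₐ I ψ0 hψ0
  obtain ⟨E, _, _, _, fE, g, hfg⟩ := H (MvPolynomial ↥F R0 ⧸ I) ψ
  let e : ↥F → E := fun i => fE (Ideal.Quotient.mk I (MvPolynomial.X i))
  have he : ∀ i, g (e i) = f i.1 := by
    intro i
    have := congr($hfg (Ideal.Quotient.mk I (MvPolynomial.X i)))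
    rw [AlgHom.comp_apply] at this
    show g (fE _) = _
    rw [this]
    simp [ψ, ψ0]
  have hee : ∀ i j, i ≠ j → IsNilpotent (e i * e j) := by
    intro i j hij
    refine ⟨m i j, ?_⟩
    show (fE _ * fE _) ^ m i j = 0
    have h0 : Ideal.Quotient.mk I ((MvPolynomial.X i * MvPolynomial.X j) ^ m i j) = 0 :=
      Ideal.Quotient.eq_zero_iff_mem.mpr (Ideal.subset_span ⟨⟨(i, j), hij⟩, rfl⟩)
    rw [← map_mul, ← map_pow, ← map_mul, ← map_pow, h0, map_zero]
  have hmin : ∀ i : ↥F, ∃ P' : Ideal E, P' ∈ minimalPrimes E ∧ P' ≤ (i.1).comap g.toRingHom := by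
    intro i
    haveI : i.1.IsPrime := (hF i.1 i.2).1.1
    exact Ideal.exists_minimalPrimes_le bot_le
  choose P' hP'1 hP'2 using hmin
  have hnotin : ∀ i, e i ∉ P' i := by
    intro i hmem
    have : g (e i) ∈ i.1 := hP'2 i hmem
    rw [he] at this
    exact hf1 i.1 i.2 this
  have hinj : Function.Injective P' := by
    intro i j hij
    by_contra hne
    haveI : (P' i).IsPrime := (hP'1 i).1.1
    obtain ⟨k, hk⟩ := hee i j hne
    have h1 : e i * e j ∈ P' i :=
      Ideal.IsPrime.mem_of_pow_mem inferInstance k (hk ▸ (P' i).zero_mem)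
    rcases Ideal.IsPrime.mem_or_mem inferInstance h1 with h | h
    · exact hnotin i h
    · rw [hij] at h
      exact hnotin j h
  refine ⟨E, inferInstance, inferInstance, inferInstance, g, ?_⟩
  calc (F.card : ℕ∞) = ENat.card ↥F := by
        rw [ENat.card_eq_coe_fintype_card, Fintype.card_coe]
    _ ≤ (Set.range P').encard := hinj.encard_range
    _ ≤ _ := Set.encard_le_encard (by
        rintro _ ⟨i, rfl⟩
        exact ⟨hP'1 i, (hP'2 i).trans (Ideal.comap_mono (hM i.1 i.2))⟩)

/-- In an affine scheme there are at least as many irreducible components through a point as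
minimal primes contained in the corresponding prime. -/
theorem encard_minimalPrimes_le_encard_components (E : Type*) [CommRing E] (u : PrimeSpectrum E) :
    {P' : Ideal E | P' ∈ minimalPrimes E ∧ P' ≤ u.asIdeal}.encard ≤
      {Z : Set (PrimeSpectrum E) | Z ∈ irreducibleComponents (PrimeSpectrum E) ∧ u ∈ Z}.encard := by
  apply Set.encard_le_encard_of_injOn (f := fun P' : Ideal E => PrimeSpectrum.zeroLocus (P' : Set E))
  · rintro P' ⟨hP', hle⟩
    refine ⟨?_, (PrimeSpectrum.mem_zeroLocus _ _).mpr hle⟩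
    rw [← PrimeSpectrum.zeroLocus_minimalPrimes]
    exact ⟨P', hP', rfl⟩
  · rintro P1 ⟨hP1, -⟩ P2 ⟨hP2, -⟩ h12
    have h4 := congrArg PrimeSpectrum.vanishingIdeal h12
    simp only at h4
    rw [PrimeSpectrum.vanishingIdeal_zeroLocus_eq_radical,
      PrimeSpectrum.vanishingIdeal_zeroLocus_eq_radical, hP1.1.1.radical, hP2.1.1.radical] at h4
    exact h4

end Groth.Agent.Lib.Helper3.EtNbhd
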