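import Mathlib
import Groth.Agent.Lib.Helper3Branch
import Groth.Agent.Lib.Helper3EtGU
import Groth.Agent.Lib.Helper3EtRed

set_option autoImplicit false
set_option linter.unusedVariables false
set_option linter.unusedSectionVars false
set_option linter.style.haveILetI false

open TensorProduct IsLocalRing

universe u

namespace Groth.Agent.Lib.Helper3.UnramEt

open Groth.Agent.Lib.Helper3.Branch

/-- transfer of the local domain property through a localization -/
theorem ldp_of_isLocalization {T : Type*} [CommRing T] (W : Submonoid T) (Tp : Type*) [CommRing Tp]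
    [Algebra T Tp] [IsLocalization W Tp] (M : Ideal T) [hM : M.IsPrime]
    (hdisj : Disjoint (W : Set T) (M : Set T)) (hL : LDP (Ideal.map (algebraMap T Tp) M)) :
    LDP M := by
  have hM' : (Ideal.map (algebraMap T Tp) M).IsPrime :=
    IsLocalization.isPrime_of_isPrime_disjoint W Tp M inferInstance hdisj
  have key : ∀ z : T, (∃ u', u' ∉ Ideal.map (algebraMap T Tp) M ∧ u' * algebraMap T Tp z = 0) →
      ∃ u, u ∉ M ∧ u * z = 0 := by
    rintro z ⟨u', hu', hu0⟩
    obtain ⟨⟨t, s⟩, hts⟩ := IsLocalization.surj W u'
    have h1 : algebraMap T Tp (t * z) = 0 := by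
      rw [map_mul, ← hts, mul_right_comm, hu0, zero_mul]
    obtain ⟨c, hc⟩ := (IsLocalization.map_eq_zero_iff W Tp (t * z)).mp h1
    refine ⟨c.1 * t, ?_, by rw [mul_assoc]; exact hc⟩
    intro hmem
    rcases hM.mem_or_mem hmem with h | h
    · exact Set.disjoint_left.mp hdisj c.2 h
    · have : algebraMap T Tp t ∈ Ideal.map (algebraMap T Tp) M := Ideal.mem_map_of_mem _ h
      rw [← hts] at this
      rcases hM'.mem_or_mem this with h' | h'
      · exact hu' h'
      · exact hM'.ne_top (Ideal.eq_top_of_isUnit_mem _ h' (IsLocalization.map_units Tp s))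
  intro x y hxy
  have : algebraMap T Tp x * algebraMap T Tp y = 0 := by rw [← map_mul, hxy, map_zero]
  rcases hL _ _ this with h | h
  · exact Or.inl (key x h)
  · exact Or.inr (key y h)

attribute [local instance] Algebra.TensorProduct.rightAlgebra in
/-- étale algebras over a domain have the local domain property at primes lying over a prime
with geometrically unibranch local ring -/
theorem ldp_of_etale_of_isGeomUnibranch (A : Type u) [CommRing A] [IsDomain A] (E : Type u)
    [CommRing E] [Algebra A E] [Algebra.Etale A E] (Q' : Ideal E) [hQ' : Q'.IsPrime] (p : Ideal A)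
    [p.IsPrime] (hp : Q'.comap (algebraMap A E) = p)
    (hA : CAlg2.IsGeomUnibranch (Localization.AtPrime p)) : LDP Q' := by
  let Rp := Localization.AtPrime p
  let C := Rp ⊗[A] E
  let W : Submonoid E := Algebra.algebraMapSubmonoid E p.primeCompl
  haveI : IsLocalization W C := IsLocalization.tensorRight Rp p.primeCompl
  have hdisj : Disjoint (W : Set E) (Q' : Set E) := by
    rw [Set.disjoint_left]
    rintro t ⟨r, hr, rfl⟩ hM
    apply hr
    rw [← hp]
    exact hM
  let Q'' : Ideal C := Ideal.map (algebraMap E C) Q'
  haveI hQ'' : Q''.IsPrime := IsLocalization.isPrime_of_isPrime_disjoint W C Q' inferInstance hdisj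
  have hcomap : Q''.comap (algebraMap E C) = Q' :=
    IsLocalization.under_map_of_isPrime_disjoint W C inferInstance hdisj
  have hcompat : ∀ a : A, algebraMap E C (algebraMap A E a) = algebraMap Rp C (algebraMap A Rp a) := by
    intro a
    show (1 : Rp) ⊗ₜ[A] (algebraMap A E a) = (algebraMap A Rp a) ⊗ₜ[A] (1 : E)
    rw [Algebra.algebraMap_eq_smul_one, Algebra.algebraMap_eq_smul_one, TensorProduct.tmul_smul,
      TensorProduct.smul_tmul']
  have hmax : Q''.comap (algebraMap Rp C) = maximalIdeal Rp := by
    haveI : (Q''.comap (algebraMap Rp C)).IsPrime := Ideal.comap_isPrime _ _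
    have h1 : (Q''.comap (algebraMap Rp C)).comap (algebraMap A Rp) = p := by
      ext a
      rw [Ideal.mem_comap, Ideal.mem_comap, ← hcompat, ← Ideal.mem_comap, hcomap,
        ← Ideal.mem_comap, hp]
    have h2 : (maximalIdeal Rp).comap (algebraMap A Rp) = p :=
      IsLocalization.AtPrime.under_maximalIdeal Rp p
    have h3 : Ideal.map (algebraMap A Rp) ((Q''.comap (algebraMap Rp C)).comap (algebraMap A Rp))
        = Q''.comap (algebraMap Rp C) := IsLocalization.map_under p.primeCompl Rp _
    have h4 : Ideal.map (algebraMap A Rp) ((maximalIdeal Rp).comap (algebraMap A Rp))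
        = maximalIdeal Rp := IsLocalization.map_under p.primeCompl Rp _
    rw [← h3, ← h4, h1, h2]
  haveI : IsDomain Rp := IsLocalization.isDomain_localization (le_nonZeroDivisors_of_noZeroDivisors
    (fun h0 => (h0 : (0:A) ∈ p.primeCompl) p.zero_mem))
  have hdom := (EtGU.isDomain_and_isGeomUnibranch_localization Rp hA C Q'' hmax).1
  exact ldp_of_isLocalization W C Q' hdisj (ldp_of_isDomain_localization Q'' hdom)

end Groth.Agent.Lib.Helper3.UnramEt
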