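import Mathlib
import Groth.Agent.Lib.Helper3UnramEtA

set_option autoImplicit false
set_option linter.unusedVariables false
set_option linter.unusedSectionVars false
set_option linter.style.haveILetI false

open TensorProduct IsLocalRing

universe u

namespace Groth.Agent.Lib.Helper3.UnramEt

open Groth.Agent.Lib.Helper3.Branch

section LDPker

variable {T : Type*} [CommRing T] (M : Ideal T) [hM : M.IsPrime]

theorem mem_ker_iff (x : T) :
    x ∈ RingHom.ker (algebraMap T (Localization.AtPrime M)) ↔ ∃ u, u ∉ M ∧ u * x = 0 := by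
  rw [RingHom.mem_ker, IsLocalization.map_eq_zero_iff M.primeCompl]
  constructor
  · rintro ⟨m, hm⟩; exact ⟨m.1, m.2, hm⟩
  · rintro ⟨u, hu, hu0⟩; exact ⟨⟨u, hu⟩, hu0⟩

theorem ker_isPrime_of_ldp (h : LDP M) :
    (RingHom.ker (algebraMap T (Localization.AtPrime M))).IsPrime := by
  refine ⟨?_, ?_⟩
  · intro htop
    have : (1 : T) ∈ RingHom.ker (algebraMap T (Localization.AtPrime M)) := htop ▸ Submodule.mem_top
    obtain ⟨u, hu, hu0⟩ := (mem_ker_iff M 1).mp this
    rw [mul_one] at hu0
    exact hu (hu0 ▸ M.zero_mem)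
  · intro x y hxy
    obtain ⟨m, hm, hm0⟩ := (mem_ker_iff M _).mp hxy
    rw [← mul_assoc] at hm0
    rcases h _ _ hm0 with ⟨u, hu, hu0⟩ | ⟨u, hu, hu0⟩
    · left
      refine (mem_ker_iff M x).mpr ⟨u * m, fun hmem => ?_, by rw [mul_assoc]; exact hu0⟩
      rcases hM.mem_or_mem hmem with h' | h'
      · exact hu h'
      · exact hm h'
    · right
      exact (mem_ker_iff M y).mpr ⟨u, hu, hu0⟩

end LDPker

/-- elements of an étale algebra over a domain are algebraic over the base -/
theorem isAlgebraic_of_etale (A : Type u) [CommRing A] [IsDomain A] (E : Type u) [CommRing E]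
    [Algebra A E] [Algebra.Etale A E] (x : E) : IsAlgebraic A x := by
  let K := FractionRing A
  haveI : Algebra.Etale K (K ⊗[A] E) := inferInstance
  haveI : Module.Finite K (K ⊗[A] E) := Algebra.FormallyUnramified.finite_of_free K _
  have h1 : IsAlgebraic K ((1 : K) ⊗ₜ[A] x) := Algebra.IsAlgebraic.isAlgebraic _
  have h2 : IsAlgebraic A ((1 : K) ⊗ₜ[A] x) := (IsFractionRing.isAlgebraic_iff A K _).mpr h1
  have hinjE : Function.Injective
      (Algebra.TensorProduct.includeRight : E →ₐ[A] K ⊗[A] E) :=
    Algebra.TensorProduct.includeRight_injective (IsFractionRing.injective A K)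
  exact (isAlgebraic_algHom_iff _ hinjE).mp h2


/-- an element of `B_g` outside `q B_g` killing the image of `c : A` forces `c = 0` in `B_q` -/
theorem algebraMap_eq_zero_of_mul_eq_zero {A B : Type*} [CommRing A] [CommRing B] [Algebra A B]
    (q : Ideal B) [hq : q.IsPrime] (g : B) (hgq : g ∉ q) (w : Localization.Away g)
    (hw : w ∉ Ideal.map (algebraMap B (Localization.Away g)) q) (c : A)
    (h : w * algebraMap B (Localization.Away g) (algebraMap A B c) = 0) :
    algebraMap B (Localization.AtPrime q) (algebraMap A B c) = 0 := by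
  have hdisjg : Disjoint (Submonoid.powers g : Set B) (q : Set B) :=
    (Ideal.disjoint_powers_iff_notMem_of_isPrime _).mpr hgq
  have hqg : (Ideal.map (algebraMap B (Localization.Away g)) q).IsPrime :=
    IsLocalization.isPrime_of_isPrime_disjoint (.powers g) _ q inferInstance hdisjg
  obtain ⟨⟨b, s⟩, hbs⟩ := IsLocalization.surj (Submonoid.powers g) w
  have hbq : b ∉ q := by
    intro hb
    have : algebraMap B (Localization.Away g) b ∈ Ideal.map (algebraMap B (Localization.Away g)) q :=
      Ideal.mem_map_of_mem _ hb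
    rw [← hbs] at this
    rcases hqg.mem_or_mem this with h' | h'
    · exact hw h'
    · exact hqg.ne_top (Ideal.eq_top_of_isUnit_mem _ h' (IsLocalization.map_units _ s))
  have h1 : algebraMap B (Localization.Away g) (b * algebraMap A B c) = 0 := by
    rw [map_mul, ← hbs, mul_right_comm, h, zero_mul]
  obtain ⟨n, hn⟩ := (IsLocalization.map_eq_zero_iff (Submonoid.powers g) _ _).mp h1
  have hnq : (n : B) ∉ q := fun hmem => Set.disjoint_left.mp hdisjg n.2 hmem
  have h2 : algebraMap B (Localization.AtPrime q) ((n : B) * b) *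
      algebraMap B (Localization.AtPrime q) (algebraMap A B c) = 0 := by
    rw [← map_mul, mul_assoc, hn, map_zero]
  have hunit : IsUnit (algebraMap B (Localization.AtPrime q) ((n : B) * b)) :=
    IsLocalization.map_units _ (⟨(n : B) * b, hq.mul_notMem hnq hbq⟩ : q.primeCompl)
  exact (hunit.mul_right_eq_zero).mp h2

set_option maxHeartbeats 1600000 in
/-- **Unramified + injective on local rings over a geometrically unibranch base ⇒ étale.** -/
theorem exists_etale_away' {A B : Type u} [CommRing A] [IsDomain A] [CommRing B] [Algebra A B]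
    (q : Ideal B) [hqp : q.IsPrime] (p : Ideal A) [p.IsPrime] [q.LiesOver p]
    (hA : CAlg2.IsGeomUnibranch (Localization.AtPrime p)) [Algebra.FiniteType A B]
    [Algebra.IsUnramifiedAt A q]
    (hinj : ∀ c : A, algebraMap B (Localization.AtPrime q) (algebraMap A B c) = 0 →
      algebraMap A (Localization.AtPrime p) c = 0) :
    ∃ g : B, g ∉ q ∧ Algebra.Etale A (Localization.Away g) := by
  classical
  obtain ⟨g, hgq, P, φ, hφ⟩ :=
    Algebra.IsUnramifiedAt.exists_hasStandardEtaleSurjectionOn (R := A) q
  have hdisjg : Disjoint (Submonoid.powers g : Set B) (q : Set B) :=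
    (Ideal.disjoint_powers_iff_notMem_of_isPrime _).mpr hgq
  let qg : Ideal (Localization.Away g) := Ideal.map (algebraMap B (Localization.Away g)) q
  haveI hqg : qg.IsPrime :=
    IsLocalization.isPrime_of_isPrime_disjoint (.powers g) _ q inferInstance hdisjg
  have hqg_comap : qg.comap (algebraMap B (Localization.Away g)) = q :=
    IsLocalization.under_map_of_isPrime_disjoint (.powers g) _ inferInstance hdisjg
  let Q' : Ideal P.Ring := qg.comap φ.toRingHom
  haveI hQ'prime : Q'.IsPrime := Ideal.comap_isPrime _ _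
  have hQ'mem : ∀ y : P.Ring, y ∈ Q' ↔ φ y ∈ qg := fun y => Iff.rfl
  have hQ'p : Q'.comap (algebraMap A P.Ring) = p := by
    ext a
    rw [Ideal.mem_comap, hQ'mem, φ.commutes,
      IsScalarTower.algebraMap_apply A B (Localization.Away g), ← Ideal.mem_comap, hqg_comap,
      q.over_def p]
    rfl
  have hL : LDP Q' := ldp_of_etale_of_isGeomUnibranch A P.Ring Q' p hQ'p hA
  obtain ⟨P₁, ⟨hP₁, hP₁Q⟩, hP₁uniq⟩ := existsUnique_minimalPrimes_le_of_ldp Q' hL
  haveI : IsReduced P.Ring := EtRed.isReduced_of_etale A P.Ring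
  have hfin : (minimalPrimes P.Ring).Finite := by
    refine (Algebra.QuasiFinite.finite_primesOver (R := A) (S := P.Ring) ⊥).subset ?_
    intro Pm hPm
    refine ⟨hPm.1.1, ⟨?_⟩⟩
    have := mapsTo_comap_minimalPrimes_of_flat A P.Ring hPm
    rw [IsDomain.minimalPrimes_eq_singleton_bot, Set.mem_singleton_iff] at this
    exact this.symm
  -- elements of the kernel vanish in the local ring at Q'
  have hker : ∀ x, φ x = 0 → ∃ u, u ∉ Q' ∧ u * x = 0 := by
    intro x hx
    by_contra hcon
    let K₀ : Ideal P.Ring := RingHom.ker (algebraMap P.Ring (Localization.AtPrime Q'))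
    haveI hK₀ : K₀.IsPrime := ker_isPrime_of_ldp Q' hL
    have hxK : x ∉ K₀ := fun hmem => hcon ((mem_ker_iff Q' x).mp hmem)
    have hxbar : Ideal.Quotient.mk K₀ x ≠ 0 := fun h0 => hxK (Ideal.Quotient.eq_zero_iff_mem.mp h0)
    have halg : IsAlgebraic A (Ideal.Quotient.mk K₀ x) :=
      (isAlgebraic_of_etale A P.Ring x).algHom (Ideal.Quotient.mkₐ A K₀)
    obtain ⟨c, hc0, y', hy'⟩ := halg.exists_nonzero_dvd (mem_nonZeroDivisors_of_ne_zero hxbar)
    obtain ⟨y, rfl⟩ := Ideal.Quotient.mk_surjective y'
    have h1 : algebraMap A P.Ring c - x * y ∈ K₀ := by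
      rw [← Ideal.Quotient.eq_zero_iff_mem, map_sub, map_mul, ← hy']
      exact sub_self _
    obtain ⟨u, hu, hu0⟩ := (mem_ker_iff Q' _).mp h1
    have h2 : φ u * algebraMap B (Localization.Away g) (algebraMap A B c) = 0 := by
      have := congrArg φ hu0
      rw [map_mul, map_sub, map_mul, hx, zero_mul, sub_zero, map_zero, φ.commutes,
        IsScalarTower.algebraMap_apply A B (Localization.Away g)] at this
      exact this
    have h3 := algebraMap_eq_zero_of_mul_eq_zero q g hgq (φ u) hu c h2
    have h5 : algebraMap A (Localization.AtPrime p) c = 0 := hinj c h3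
    have h6 : c = 0 := by
      have hinjA : Function.Injective (algebraMap A (Localization.AtPrime p)) :=
        IsLocalization.injective (Localization.AtPrime p)
          (le_nonZeroDivisors_of_noZeroDivisors (fun h0 => (h0 : (0:A) ∈ p.primeCompl) p.zero_mem))
      exact hinjA (by rw [h5, map_zero])
    exact hc0 h6
  -- the element h
  have hex : ∀ Pm ∈ minimalPrimes P.Ring, Pm ≠ P₁ → ∃ t ∈ Pm, t ∉ Q' := by
    intro Pm hPm hne
    by_contra hcon
    push Not at hcon
    exact hne (hP₁uniq Pm ⟨hPm, hcon⟩)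
  choose! t ht htQ using hex
  let S₀ : Finset (Ideal P.Ring) := hfin.toFinset.erase P₁
  let h : P.Ring := ∏ Pm ∈ S₀, t Pm
  have hS₀ : ∀ Pm, Pm ∈ S₀ ↔ Pm ≠ P₁ ∧ Pm ∈ minimalPrimes P.Ring := by
    intro Pm
    simp [S₀]
  have hhQ : h ∉ Q' := by
    intro hmem
    obtain ⟨Pm, hPm, hPmQ⟩ := (Ideal.IsPrime.prod_mem_iff).mp hmem
    rw [hS₀] at hPm
    exact htQ Pm hPm.2 hPm.1 hPmQ
  have hhP : ∀ Pm ∈ minimalPrimes P.Ring, Pm ≠ P₁ → h ∈ Pm := by
    intro Pm hPm hne
    exact Ideal.prod_mem Pm ((hS₀ Pm).mpr ⟨hne, hPm⟩) (ht Pm hPm hne)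
  have hkill : ∀ x, φ x = 0 → h * x = 0 := by
    intro x hx
    obtain ⟨u, hu, hux⟩ := hker x hx
    have hmem : h * x ∈ nilradical P.Ring := by
      rw [nilradical, ← Ideal.sInf_minimalPrimes, Ideal.mem_sInf]
      intro Pm hPm
      by_cases hne : Pm = P₁
      · subst hne
        have h0 : u * x ∈ Pm := hux ▸ Pm.zero_mem
        rcases hPm.1.1.mem_or_mem h0 with h' | h'
        · exact absurd (hP₁Q h') hu
        · exact Ideal.mul_mem_left _ _ h'
      · exact Ideal.mul_mem_right _ _ (hhP Pm hPm hne)
    rw [nilradical_eq_zero] at hmem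
    exact hmem
  -- the localizations
  let ψ : Localization.Away h →ₐ[A] Localization.Away (φ h) :=
    IsLocalization.Away.mapₐ (Localization.Away h) (Localization.Away (φ h)) φ h
  have hψsurj : Function.Surjective ψ :=
    IsLocalization.Away.mapₐ_surjective_of_surjective (Aₚ := Localization.Away h)
      (Bₚ := Localization.Away (φ h)) h hφ
  have hψalg : ∀ x : P.Ring, ψ (algebraMap P.Ring (Localization.Away h) x) =
      algebraMap (Localization.Away g) (Localization.Away (φ h)) (φ x) := by
    intro x
    show IsLocalization.Away.map (Localization.Away h) (Localization.Away (φ h)) φ.toRingHom h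
      (algebraMap P.Ring (Localization.Away h) x) = _
    rw [IsLocalization.Away.map, IsLocalization.map_eq]
    rfl
  have hψinj : Function.Injective ψ := by
    rw [injective_iff_map_eq_zero]
    intro z hz
    obtain ⟨⟨x, s⟩, hxs⟩ := IsLocalization.surj (Submonoid.powers h) z
    have h1 : algebraMap (Localization.Away g) (Localization.Away (φ h)) (φ x) = 0 := by
      rw [← hψalg, ← hxs, map_mul, hz, zero_mul]
    obtain ⟨⟨_, m, rfl⟩, hm⟩ :=
      (IsLocalization.map_eq_zero_iff (Submonoid.powers (φ h)) _ _).mp h1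
    have h2 : φ (h ^ m * x) = 0 := by
      rw [map_mul, map_pow]
      exact hm
    have h3 : h * (h ^ m * x) = 0 := hkill _ h2
    have h4 : algebraMap P.Ring (Localization.Away h) x = 0 := by
      rw [IsLocalization.map_eq_zero_iff (Submonoid.powers h)]
      refine ⟨⟨h ^ (m + 1), m + 1, rfl⟩, ?_⟩
      show h ^ (m + 1) * x = 0
      rw [pow_succ', mul_assoc]
      exact h3
    rw [h4] at hxs
    exact ((IsLocalization.map_units (Localization.Away h) s).mul_left_eq_zero).mp hxs
  let e : Localization.Away h ≃ₐ[A] Localization.Away (φ h) :=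
    AlgEquiv.ofBijective ψ ⟨hψinj, hψsurj⟩
  haveI : Algebra.Etale A (Localization.Away h) := Algebra.Etale.comp A P.Ring (Localization.Away h)
  haveI : Algebra.Etale A (Localization.Away (φ h)) := Algebra.Etale.of_equiv e
  -- write `φ h = b / g^k`
  obtain ⟨⟨b, s⟩, hbs⟩ := IsLocalization.surj (Submonoid.powers g) (φ h)
  have hbq : b ∉ q := by
    intro hb
    have : algebraMap B (Localization.Away g) b ∈ qg := Ideal.mem_map_of_mem _ hb
    rw [← hbs] at this
    rcases hqg.mem_or_mem this with h' | h'
    · exact hhQ h'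
    · exact hqg.ne_top (Ideal.eq_top_of_isUnit_mem _ h' (IsLocalization.map_units _ s))
  have hassoc : Associated (algebraMap B (Localization.Away g) b) (φ h) :=
    Associated.symm ⟨(IsLocalization.map_units (Localization.Away g) s).unit, hbs⟩
  haveI : IsLocalization.Away (g * b) (Localization.Away (φ h)) :=
    IsLocalization.Away.mul_of_associated g b (φ h) hassoc
  refine ⟨g * b, hqp.mul_notMem hgq hbq, ?_⟩
  let e2 : Localization.Away (g * b) ≃ₐ[B] Localization.Away (φ h) :=
    IsLocalization.algEquiv (Submonoid.powers (g * b)) _ _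
  exact Algebra.Etale.of_equiv (e2.restrictScalars A).symm

/-- **Unramified + injective on local rings over a geometrically unibranch base ⇒ étale.** -/
theorem exists_etale_away {A B : Type u} [CommRing A] [IsDomain A] [CommRing B] [Algebra A B]
    (q : Ideal B) [hqp : q.IsPrime] (p : Ideal A) [p.IsPrime] [q.LiesOver p]
    (hA : CAlg2.IsGeomUnibranch (Localization.AtPrime p)) [Algebra.FiniteType A B]
    [Algebra.IsUnramifiedAt A q]
    (hinj : Function.Injective (Localization.localRingHom p q (algebraMap A B) (q.over_def p))) :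
    ∃ g : B, g ∉ q ∧ Algebra.Etale A (Localization.Away g) := by
  refine exists_etale_away' q p hA ?_
  intro c h3
  have h4 : Localization.localRingHom p q (algebraMap A B) (q.over_def p)
      (algebraMap A (Localization.AtPrime p) c) = 0 := by
    rw [Localization.localRingHom_to_map]
    exact h3
  exact hinj (by rw [h4, map_zero])

end Groth.Agent.Lib.Helper3.UnramEt
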