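import Mathlib
import Groth.Agent.Lib.Helper3UnramEt
import Groth.Agent.Lib.Helper4Unibranch

/-!
# Scheme-level plumbing for étale morphisms over geometrically unibranch bases (helper3)
-/

set_option autoImplicit false
set_option linter.style.haveILetI false
universe u
open CategoryTheory AlgebraicGeometry

namespace Groth.Agent.Lib.Helper3.EtGUSch


/-- ring-level property of `f` on affine opens inside an open `U₀` from the property of
`U₀.ι ≫ f` -/
theorem appLE_of_ι_comp {P : MorphismProperty Scheme.{u}}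
    {Q : ∀ {R S : Type u} [CommRing R] [CommRing S], (R →+* S) → Prop}
    [HasRingHomProperty P Q]
    {X Y : Scheme.{u}} (f : X ⟶ Y) (U₀ : X.Opens) (H : P (U₀.ι ≫ f)) {V : Y.Opens}
    (hV : IsAffineOpen V) {U : X.Opens} (hU : IsAffineOpen U) (hUU₀ : U ≤ U₀)
    (e : U ≤ f ⁻¹ᵁ V) : Q (f.appLE V U e).hom := by
  have hUr : U ≤ U₀.ι.opensRange := by rw [Scheme.Opens.opensRange_ι]; exact hUU₀
  let W : U₀.toScheme.Opens := U₀.ι ⁻¹ᵁ U
  have hW : IsAffineOpen W := hU.preimage_of_isOpenImmersion U₀.ι hUr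
  have himg : U₀.ι ''ᵁ W = U := by
    rw [Scheme.Hom.image_preimage_eq_opensRange_inf, inf_eq_right.mpr hUr]
  have e' : W ≤ (U₀.ι ≫ f) ⁻¹ᵁ V := by
    intro w hw
    exact e hw
  have h1 := HasRingHomProperty.appLE P (U₀.ι ≫ f) H ⟨V, hV⟩ ⟨W, hW⟩ e'
  have hiso : IsIso (U₀.ι.appLE (U₀.ι ''ᵁ W) W (U₀.ι.preimage_image_eq _).ge) :=
    inferInstanceAs (IsIso (U₀.ι.app _ ≫
      U₀.toScheme.presheaf.map (eqToHom (U₀.ι.preimage_image_eq _).symm).op))
  have e2 : U₀.ι ''ᵁ W ≤ f ⁻¹ᵁ V := himg ▸ e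
  rw [← Scheme.Hom.appLE_comp_appLE _ _ _ (U₀.ι ''ᵁ W) W e2 (U₀.ι.preimage_image_eq _).ge,
    CommRingCat.hom_comp,
    (HasRingHomProperty.isLocal_ringHomProperty P).respectsIso.cancel_right_isIso] at h1
  exact (f.appLE_congr _ rfl himg (fun f => Q f.hom)).mp h1



theorem isGeomUnibranch_localization_primeIdealOf {Y : Scheme.{u}} {V : Y.Opens}
    (hV : IsAffineOpen V) (y : Y) (hy : y ∈ V)
    (h : CAlg2.IsGeomUnibranch (Y.presheaf.stalk y)) :
    CAlg2.IsGeomUnibranch (Localization.AtPrime (hV.primeIdealOf ⟨y, hy⟩).asIdeal) := by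
  letI := TopCat.Presheaf.algebra_section_stalk Y.presheaf ⟨y, hy⟩
  haveI := hV.isLocalization_stalk ⟨y, hy⟩
  let e : Localization.AtPrime (hV.primeIdealOf ⟨y, hy⟩).asIdeal ≃ₐ[Γ(Y, V)] Y.presheaf.stalk y :=
    IsLocalization.algEquiv (hV.primeIdealOf ⟨y, hy⟩).asIdeal.primeCompl _ _
  exact Groth.Agent.Lib.Helper4.Unibranch.isGeomUnibranch_of_ringEquiv e.symm.toRingEquiv h

theorem isGeomUnibranch_stalk_of_localization {Y : Scheme.{u}} {V : Y.Opens}
    (hV : IsAffineOpen V) (y : Y) (hy : y ∈ V)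
    (h : CAlg2.IsGeomUnibranch (Localization.AtPrime (hV.primeIdealOf ⟨y, hy⟩).asIdeal)) :
    CAlg2.IsGeomUnibranch (Y.presheaf.stalk y) := by
  letI := TopCat.Presheaf.algebra_section_stalk Y.presheaf ⟨y, hy⟩
  haveI := hV.isLocalization_stalk ⟨y, hy⟩
  let e : Localization.AtPrime (hV.primeIdealOf ⟨y, hy⟩).asIdeal ≃ₐ[Γ(Y, V)] Y.presheaf.stalk y :=
    IsLocalization.algEquiv (hV.primeIdealOf ⟨y, hy⟩).asIdeal.primeCompl _ _
  exact Groth.Agent.Lib.Helper4.Unibranch.isGeomUnibranch_of_ringEquiv e.toRingEquiv h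

theorem isDomain_stalk_iff_localization {Y : Scheme.{u}} {V : Y.Opens}
    (hV : IsAffineOpen V) (y : Y) (hy : y ∈ V) :
    IsDomain (Y.presheaf.stalk y) ↔
      IsDomain (Localization.AtPrime (hV.primeIdealOf ⟨y, hy⟩).asIdeal) := by
  letI := TopCat.Presheaf.algebra_section_stalk Y.presheaf ⟨y, hy⟩
  haveI := hV.isLocalization_stalk ⟨y, hy⟩
  let e : Localization.AtPrime (hV.primeIdealOf ⟨y, hy⟩).asIdeal ≃ₐ[Γ(Y, V)] Y.presheaf.stalk y :=
    IsLocalization.algEquiv (hV.primeIdealOf ⟨y, hy⟩).asIdeal.primeCompl _ _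
  exact e.symm.toRingEquiv.toMulEquiv.isDomain_iff

/-- germ vanishing ↔ vanishing in the localization -/
theorem germ_eq_zero_iff {Y : Scheme.{u}} {V : Y.Opens}
    (hV : IsAffineOpen V) (y : Y) (hy : y ∈ V) (a : Γ(Y, V)) :
    Y.presheaf.germ V y hy a = 0 ↔
      algebraMap Γ(Y, V) (Localization.AtPrime (hV.primeIdealOf ⟨y, hy⟩).asIdeal) a = 0 := by
  letI := TopCat.Presheaf.algebra_section_stalk Y.presheaf ⟨y, hy⟩
  haveI := hV.isLocalization_stalk ⟨y, hy⟩
  have h1 : Y.presheaf.germ V y hy a = algebraMap Γ(Y, V) (Y.presheaf.stalk y) a := rfl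
  rw [h1, IsLocalization.map_eq_zero_iff (hV.primeIdealOf ⟨y, hy⟩).asIdeal.primeCompl,
    IsLocalization.map_eq_zero_iff (hV.primeIdealOf ⟨y, hy⟩).asIdeal.primeCompl]

section Data

variable {X Y : Scheme.{u}} (f : X ⟶ Y) {V : Y.Opens} (hV : IsAffineOpen V) {U : X.Opens}
  (hU : IsAffineOpen U) (e : U ≤ f ⁻¹ᵁ V) {x : X} (hx : x ∈ U)

theorem comap_primeIdealOf :
    (hU.primeIdealOf ⟨x, hx⟩).asIdeal.comap (f.appLE V U e).hom =
      (hV.primeIdealOf ⟨f x, e hx⟩).asIdeal := by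
  have h1 := IsAffineOpen.comap_primeIdealOf_appLE (f := f) V hV U hU e hx
  have := congrArg PrimeSpectrum.asIdeal h1
  rw [PrimeSpectrum.comap_asIdeal] at this
  exact this

theorem germ_appLE (a : Γ(Y, V)) :
    X.presheaf.germ U x hx ((f.appLE V U e).hom a) =
      (f.stalkMap x).hom (Y.presheaf.germ V (f x) (e hx) a) := by
  have h := Scheme.Hom.germ_stalkMap_apply f V x (e hx) a
  rw [Scheme.Hom.appLE]
  erw [h]
  simp only [CommRingCat.hom_comp, RingHom.comp_apply]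
  exact TopCat.Presheaf.germ_res_apply X.presheaf (homOfLE e) x hx _

include hV hU in
theorem algebraMap_eq_zero_of_stalkMap_injective (hinj : Function.Injective (f.stalkMap x).hom)
    (a : Γ(Y, V))
    (h : algebraMap Γ(X, U) (Localization.AtPrime (hU.primeIdealOf ⟨x, hx⟩).asIdeal)
      ((f.appLE V U e).hom a) = 0) :
    algebraMap Γ(Y, V) (Localization.AtPrime (hV.primeIdealOf ⟨f x, e hx⟩).asIdeal) a = 0 := by
  rw [← germ_eq_zero_iff hU x hx, germ_appLE f e hx] at h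
  rw [← germ_eq_zero_iff hV (f x) (e hx)]
  exact hinj (by rw [h, map_zero])

end Data

end Groth.Agent.Lib.Helper3.EtGUSch
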