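import Mathlib
import Groth.Agent.Lib.Helper3EtGUSch

set_option autoImplicit false
set_option linter.style.haveILetI false
universe u
open CategoryTheory AlgebraicGeometry

namespace Groth.Agent.Lib.Helper3.EtGUSch

/-- affine neighbourhoods adapted to a morphism -/
theorem exists_affine_nhds {X Y : Scheme.{u}} (f : X ⟶ Y) (x : X) (U₀ : X.Opens) (hx : x ∈ U₀) :
    ∃ (V : Y.Opens) (_ : IsAffineOpen V) (U : X.Opens) (_ : IsAffineOpen U),
      U ≤ f ⁻¹ᵁ V ∧ x ∈ U ∧ U ≤ U₀ := by
  obtain ⟨V, hV, hfx, -⟩ := TopologicalSpace.Opens.isBasis_iff_nbhd.mp Y.isBasis_affineOpens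
    (TopologicalSpace.Opens.mem_top (f x))
  obtain ⟨U, hU, hxU, hle⟩ := TopologicalSpace.Opens.isBasis_iff_nbhd.mp X.isBasis_affineOpens
    (show x ∈ U₀ ⊓ f ⁻¹ᵁ V from ⟨hx, hfx⟩)
  exact ⟨V, hV, U, hU, hle.trans inf_le_right, hxU, hle.trans inf_le_left⟩

/-- a basic open of an affine open on which the ring map is étale gives an étale morphism -/
theorem etale_ι_comp_of_etale_away {X Y : Scheme.{u}} (f : X ⟶ Y) {V : Y.Opens}
    (hV : IsAffineOpen V) {U : X.Opens} (hU : IsAffineOpen U) (e : U ≤ f ⁻¹ᵁ V) (g : Γ(X, U))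
    (h : letI := (f.appLE V U e).hom.toAlgebra
      Algebra.Etale Γ(Y, V) (Localization.Away g)) :
    Etale ((X.basicOpen g).ι ≫ f) := by
  let U' : X.Opens := X.basicOpen g
  have hU' : IsAffineOpen U' := hU.basicOpen g
  have hle : U' ≤ U := X.basicOpen_le g
  have e' : U' ≤ f ⁻¹ᵁ V := hle.trans e
  have hfac : U'.ι ≫ f = f.resLE V U' e' ≫ V.ι := (Scheme.Hom.resLE_comp_ι f e').symm
  rw [hfac]
  haveI : IsAffine U'.toScheme := hU'
  haveI : IsAffine V.toScheme := hV
  suffices hres : Etale (f.resLE V U' e') by infer_instance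
  rw [HasRingHomProperty.iff_of_isAffine (P := @Etale)]
  rw [Scheme.Hom.appTop, Scheme.Hom.resLE_app_top, CommRingCat.hom_comp,
    RingHom.Etale.respectsIso.cancel_left_isIso, CommRingCat.hom_comp,
    RingHom.Etale.respectsIso.cancel_right_isIso]
  -- now the ring-level statement
  let A := Γ(Y, V)
  let B := Γ(X, U)
  let B' := Γ(X, U')
  letI algAB : Algebra A B := (f.appLE V U e).hom.toAlgebra
  letI algBB' : Algebra B B' := (X.presheaf.map (homOfLE hle).op).hom.toAlgebra
  letI algAB' : Algebra A B' := (f.appLE V U' e').hom.toAlgebra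
  haveI : IsScalarTower A B B' := by
    refine IsScalarTower.of_algebraMap_eq (fun a => ?_)
    show (f.appLE V U' e').hom a = (X.presheaf.map (homOfLE hle).op).hom ((f.appLE V U e).hom a)
    rw [← f.appLE_map e (homOfLE hle).op]
    rfl
  haveI : IsLocalization.Away g B' := hU.isLocalization_basicOpen g
  let eq : Localization.Away g ≃ₐ[B] B' := IsLocalization.algEquiv (Submonoid.powers g) _ _
  haveI : Algebra.Etale A (Localization.Away g) := h
  show Algebra.Etale A B'
  exact Algebra.Etale.of_equiv (eq.restrictScalars A)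

end Groth.Agent.Lib.Helper3.EtGUSch
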