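import Mathlib
import Groth.Prelude.Def_EssEt
import Groth.Agent.Lib.Helper3EtGUSch
import Groth.Agent.Lib.Helper3EtGUSchB

set_option linter.style.haveILetI false
set_option autoImplicit false

open TensorProduct IsLocalRing CategoryTheory AlgebraicGeometry

universe u

namespace Groth.Agent.Lib.Helper3.EtNbhd

/-- Ring-level core: if `B` is the localization of an étale `R₀`-algebra `E` at a prime `Q'` and
`A` is the localization of `R₀` at the contraction of `Q'`, then `B` is an essentially étale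
local `A`-algebra. -/
theorem isEssentiallyEtale_of_isLocalization (R₀ E A B : Type u) [CommRing R₀] [CommRing E]
    [CommRing A] [CommRing B] [Algebra R₀ E] [Algebra.Etale R₀ E] [Algebra R₀ A] [Algebra E B]
    [Algebra A B] [Algebra R₀ B] [IsScalarTower R₀ A B] [IsScalarTower R₀ E B]
    (p : Ideal R₀) [p.IsPrime] (Q' : Ideal E) [Q'.IsPrime] [IsLocalization.AtPrime A p]
    [IsLocalization.AtPrime B Q'] [IsLocalRing A] [IsLocalRing B]
    [IsLocalHom (algebraMap A B)] : EGA4loc.IsEssentiallyEtale A B := by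
  let ψ : A ⊗[R₀] E →ₐ[A] B :=
    Algebra.TensorProduct.lift (Algebra.ofId A B) (IsScalarTower.toAlgHom R₀ E B)
      (fun _ _ => Commute.all _ _)
  have hψ1 : ∀ e : E, ψ ((1 : A) ⊗ₜ[R₀] e) = algebraMap E B e := by
    intro e
    simp [ψ]
  let q : Ideal (A ⊗[R₀] E) := (maximalIdeal B).comap ψ.toRingHom
  haveI : q.IsPrime := Ideal.comap_isPrime _ _
  have hq : q.comap (algebraMap A (A ⊗[R₀] E)) = maximalIdeal A := by
    have h1 : q.comap (algebraMap A (A ⊗[R₀] E)) = (maximalIdeal B).comap (algebraMap A B) := by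
      ext a
      simp only [q, Ideal.mem_comap]
      show ψ (algebraMap A (A ⊗[R₀] E) a) ∈ _ ↔ _
      rw [ψ.commutes]
    rw [h1]
    exact ((local_hom_TFAE (algebraMap A B)).out 0 4 rfl rfl).mp inferInstance
  letI : Algebra (A ⊗[R₀] E) B := ψ.toRingHom.toAlgebra
  haveI : IsScalarTower A (A ⊗[R₀] E) B :=
    IsScalarTower.of_algebraMap_eq (fun a => (ψ.commutes a).symm)
  have hunit : ∀ r : R₀, r ∉ p → IsUnit (algebraMap R₀ B r) := by
    intro r hr
    rw [IsScalarTower.algebraMap_apply R₀ A B]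
    exact (IsLocalization.map_units A (⟨r, hr⟩ : p.primeCompl)).map _
  haveI hloc : IsLocalization.AtPrime B q := by
    refine ⟨⟨?_, ?_, ?_⟩⟩
    · rintro ⟨c, hc⟩
      show IsUnit (ψ c)
      by_contra hnu
      exact hc ((mem_maximalIdeal _).mpr hnu)
    · intro b
      obtain ⟨⟨e, s⟩, hes⟩ := IsLocalization.surj Q'.primeCompl b
      refine ⟨⟨(1 : A) ⊗ₜ[R₀] e, ⟨(1 : A) ⊗ₜ[R₀] (s : E), ?_⟩⟩, ?_⟩
      · show (1 : A) ⊗ₜ[R₀] (s : E) ∉ q
        intro hmem
        have h1 : ψ ((1 : A) ⊗ₜ[R₀] (s : E)) ∈ maximalIdeal B := hmem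
        rw [hψ1] at h1
        exact (mem_maximalIdeal _).mp h1 (IsLocalization.map_units B s)
      · show b * ψ ((1 : A) ⊗ₜ[R₀] (s : E)) = ψ ((1 : A) ⊗ₜ[R₀] e)
        rw [hψ1, hψ1]
        exact hes
    · intro c1 c2 h12
      have h0 : ψ (c1 - c2) = 0 := by
        rw [map_sub, sub_eq_zero]
        exact h12
      letI : Algebra E (A ⊗[R₀] E) := Algebra.TensorProduct.rightAlgebra
      haveI : IsLocalization (Algebra.algebraMapSubmonoid E p.primeCompl) (A ⊗[R₀] E) :=
        IsLocalization.tensorRight A p.primeCompl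
      obtain ⟨⟨e, w⟩, hew⟩ :=
        IsLocalization.surj (Algebra.algebraMapSubmonoid E p.primeCompl) (c1 - c2)
      have hw1 : algebraMap E (A ⊗[R₀] E) (w : E) = (1 : A) ⊗ₜ[R₀] (w : E) := rfl
      have he1 : algebraMap E (A ⊗[R₀] E) e = (1 : A) ⊗ₜ[R₀] e := rfl
      rw [hw1, he1] at hew
      have h1 : algebraMap E B e = 0 := by
        rw [← hψ1, ← hew, map_mul, h0, zero_mul]
      obtain ⟨s, hs⟩ := (IsLocalization.map_eq_zero_iff Q'.primeCompl B e).mp h1
      obtain ⟨r, hr, hrw⟩ := w.2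
      have hnotq : (1 : A) ⊗ₜ[R₀] ((s : E) * (w : E)) ∉ q := by
        intro hmem
        have h2 : ψ ((1 : A) ⊗ₜ[R₀] ((s : E) * (w : E))) ∈ maximalIdeal B := hmem
        rw [hψ1, map_mul] at h2
        have hu1 : IsUnit (algebraMap E B (s : E)) := IsLocalization.map_units B s
        have hu2 : IsUnit (algebraMap E B (w : E)) := by
          rw [← hrw, ← IsScalarTower.algebraMap_apply R₀ E B]
          exact hunit r hr
        exact (mem_maximalIdeal _).mp h2 (hu1.mul hu2)
      refine ⟨⟨_, hnotq⟩, ?_⟩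
      show (1 : A) ⊗ₜ[R₀] ((s : E) * (w : E)) * c1 = (1 : A) ⊗ₜ[R₀] ((s : E) * (w : E)) * c2
      rw [← sub_eq_zero, ← mul_sub]
      have h3 : (1 : A) ⊗ₜ[R₀] ((s : E) * (w : E)) =
          (1 : A) ⊗ₜ[R₀] (s : E) * (1 : A) ⊗ₜ[R₀] (w : E) := by
        rw [Algebra.TensorProduct.tmul_mul_tmul, mul_one]
      rw [h3, mul_assoc, mul_comm ((1 : A) ⊗ₜ[R₀] (w : E)), hew,
        Algebra.TensorProduct.tmul_mul_tmul, mul_one, hs, TensorProduct.tmul_zero]
  let ε : B ≃ₐ[A ⊗[R₀] E] Localization.AtPrime q :=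
    IsLocalization.algEquiv q.primeCompl B (Localization.AtPrime q)
  exact ⟨A ⊗[R₀] E, inferInstance, inferInstance, q, inferInstance, inferInstance, hq,
    ⟨ε.restrictScalars A⟩⟩


/-- **The local ring of an étale scheme is an essentially étale local algebra** over the local
ring of the base. -/
theorem isEssentiallyEtale_stalkMap {U X : Scheme.{u}} (g : U ⟶ X) [Etale g] (u : U) :
    letI := (g.stalkMap u).hom.toAlgebra
    EGA4loc.IsEssentiallyEtale (X.presheaf.stalk (g u)) (U.presheaf.stalk u) := by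
  obtain ⟨V, hV, W, hW, e, huW, -⟩ := EtGUSch.exists_affine_nhds g u ⊤ trivial
  letI algRE : Algebra Γ(X, V) Γ(U, W) := (g.appLE V W e).hom.toAlgebra
  haveI : Algebra.Etale Γ(X, V) Γ(U, W) := by
    have := HasRingHomProperty.appLE (P := @Etale) g inferInstance ⟨V, hV⟩ ⟨W, hW⟩ e
    exact RingHom.etale_algebraMap.mp this
  letI algAB : Algebra (X.presheaf.stalk (g u)) (U.presheaf.stalk u) :=
    (g.stalkMap u).hom.toAlgebra
  letI algRA := TopCat.Presheaf.algebra_section_stalk X.presheaf ⟨g u, e huW⟩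
  letI algEB := TopCat.Presheaf.algebra_section_stalk U.presheaf ⟨u, huW⟩
  letI algRB : Algebra Γ(X, V) (U.presheaf.stalk u) :=
    ((algebraMap (X.presheaf.stalk (g u)) (U.presheaf.stalk u)).comp
      (algebraMap Γ(X, V) (X.presheaf.stalk (g u)))).toAlgebra
  haveI : IsScalarTower Γ(X, V) (X.presheaf.stalk (g u)) (U.presheaf.stalk u) :=
    IsScalarTower.of_algebraMap_eq (fun _ => rfl)
  haveI : IsScalarTower Γ(X, V) Γ(U, W) (U.presheaf.stalk u) :=
    IsScalarTower.of_algebraMap_eq (fun a => (EtGUSch.germ_appLE g e huW a).symm)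
  haveI := hV.isLocalization_stalk ⟨g u, e huW⟩
  haveI := hW.isLocalization_stalk ⟨u, huW⟩
  haveI : IsLocalHom (algebraMap (X.presheaf.stalk (g u)) (U.presheaf.stalk u)) :=
    inferInstanceAs (IsLocalHom (g.stalkMap u).hom)
  exact isEssentiallyEtale_of_isLocalization Γ(X, V) Γ(U, W) (X.presheaf.stalk (g u))
    (U.presheaf.stalk u) (hV.primeIdealOf ⟨g u, e huW⟩).asIdeal (hW.primeIdealOf ⟨u, huW⟩).asIdeal

end Groth.Agent.Lib.Helper3.EtNbhd
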