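import Mathlib
import Groth.Prelude

set_option autoImplicit false

open TensorProduct

universe u

namespace Groth.Agent.Lib.Helper3.MinLoc

/-- surjection with nil kernel: minimal primes correspond -/
theorem bijOn_of_surjective_nil {S R₁ : Type*} [CommRing S] [CommRing R₁] (π : S →+* R₁)
    (hπ : Function.Surjective π) (hker : RingHom.ker π ≤ nilradical S) :
    Set.BijOn (Ideal.comap π) (minimalPrimes R₁) (minimalPrimes S) := by
  have h1 : (RingHom.ker π).minimalPrimes = Ideal.comap π '' minimalPrimes R₁ := by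
    rw [RingHom.ker_eq_comap_bot]
    exact Ideal.comap_minimalPrimes_eq_of_surjective hπ ⊥
  have h2 : (RingHom.ker π).minimalPrimes = minimalPrimes S := by
    ext P
    constructor
    · rintro ⟨⟨hP, _⟩, hmin⟩
      exact ⟨⟨hP, bot_le⟩, fun Q hQ hQP =>
        hmin ⟨hQ.1, hker.trans (nilradical_le_prime (H := hQ.1) Q)⟩ hQP⟩
    · rintro ⟨⟨hP, _⟩, hmin⟩
      exact ⟨⟨hP, hker.trans (nilradical_le_prime (H := hP) P)⟩, fun Q hQ hQP =>
        hmin ⟨hQ.1, bot_le⟩ hQP⟩
  rw [← h2, h1]
  exact (Ideal.comap_injective_of_surjective π hπ).injOn.bijOn_image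

/-- intermediate ring of an injective localization: minimal primes correspond -/
theorem bijOn_of_localization {R₁ T L : Type*} [CommRing R₁] [CommRing T] [CommRing L]
    (i : R₁ →+* T) (j : T →+* L) (hj : Function.Injective j)
    (M : Submonoid R₁) [Algebra R₁ L] (halg : algebraMap R₁ L = j.comp i)
    (hinj : Function.Injective (algebraMap R₁ L)) [IsLocalization M L] :
    Set.BijOn (Ideal.comap i) (minimalPrimes T) (minimalPrimes R₁) := by
  letI : Algebra T L := j.toAlgebra
  haveI : IsLocalization (M.map i) L := by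
    refine ⟨?_, ?_, ?_⟩
    · rintro ⟨y, s, hs, rfl⟩
      show IsUnit (j (i s))
      rw [← RingHom.comp_apply, ← halg]
      exact IsLocalization.map_units L ⟨s, hs⟩
    · intro z
      obtain ⟨⟨r, s⟩, h⟩ := IsLocalization.surj M z
      refine ⟨⟨i r, ⟨i s, Submonoid.mem_map_of_mem i s.2⟩⟩, ?_⟩
      show z * j (i s) = j (i r)
      rw [← RingHom.comp_apply, ← RingHom.comp_apply, ← halg]
      exact h
    · intro x y hxy
      exact ⟨1, by rw [hj hxy]⟩
  have hT : minimalPrimes T = Ideal.comap j '' minimalPrimes L := by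
    have := IsLocalization.minimalPrimes_comap (M.map i) L (⊥ : Ideal L)
    rw [← RingHom.ker_eq_comap_bot] at this
    have hk : RingHom.ker (algebraMap T L) = ⊥ := (RingHom.injective_iff_ker_eq_bot _).mp hj
    rw [hk] at this
    exact this
  have hR : minimalPrimes R₁ = Ideal.comap (algebraMap R₁ L) '' minimalPrimes L := by
    have := IsLocalization.minimalPrimes_comap M L (⊥ : Ideal L)
    rw [← RingHom.ker_eq_comap_bot] at this
    have hk : RingHom.ker (algebraMap R₁ L) = ⊥ := (RingHom.injective_iff_ker_eq_bot _).mp hinj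
    rw [hk] at this
    exact this
  have hcomap : ∀ P : Ideal L, Ideal.comap i (Ideal.comap j P) = Ideal.comap (algebraMap R₁ L) P := by
    intro P
    rw [Ideal.comap_comap, halg]
  refine ⟨?_, ?_, ?_⟩
  · intro P hP
    rw [hT] at hP
    obtain ⟨Q, hQ, rfl⟩ := hP
    rw [hR, hcomap]
    exact ⟨Q, hQ, rfl⟩
  · intro P hP P' hP' h
    rw [hT] at hP hP'
    obtain ⟨Q, hQ, rfl⟩ := hP
    obtain ⟨Q', hQ', rfl⟩ := hP'
    simp only [hcomap] at h
    have : Q = Q' := (IsLocalization.orderEmbedding M L).injective h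
    rw [this]
  · intro P hP
    rw [hR] at hP
    obtain ⟨Q, hQ, rfl⟩ := hP
    refine ⟨Ideal.comap j Q, ?_, hcomap Q⟩
    rw [hT]
    exact ⟨Q, hQ, rfl⟩

section flat

variable (A : Type u) [CommRing A] (S : Type u) [CommRing S] [Algebra A S] [Module.Flat A S]

/-- the map `A_red ⊗ S → A' ⊗ S` -/
noncomputable def iMap : (CAlg2.red A) ⊗[A] S →ₐ[A] (CAlg2.normRed A) ⊗[A] S :=
  Algebra.TensorProduct.map (IsScalarTower.toAlgHom A (CAlg2.red A) (CAlg2.normRed A)) (AlgHom.id A S)

/-- the map `A' ⊗ S → Q ⊗ S` -/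
noncomputable def jMap : (CAlg2.normRed A) ⊗[A] S →ₐ[A] (FractionRing (CAlg2.red A)) ⊗[A] S :=
  Algebra.TensorProduct.map
    (IsScalarTower.toAlgHom A (CAlg2.normRed A) (FractionRing (CAlg2.red A))) (AlgHom.id A S)

/-- the map `A_red ⊗ S → Q ⊗ S` -/
noncomputable def kMap : (CAlg2.red A) ⊗[A] S →ₐ[A] (FractionRing (CAlg2.red A)) ⊗[A] S :=
  Algebra.TensorProduct.map
    (IsScalarTower.toAlgHom A (CAlg2.red A) (FractionRing (CAlg2.red A))) (AlgHom.id A S)

omit [Module.Flat A S] in
theorem jMap_comp_iMap : (jMap A S).comp (iMap A S) = kMap A S := by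
  apply Algebra.TensorProduct.ext'
  intro a s
  rfl

theorem jMap_injective : Function.Injective (jMap A S) := by
  have h : Function.Injective
      (IsScalarTower.toAlgHom A (CAlg2.normRed A) (FractionRing (CAlg2.red A))).toLinearMap :=
    Subtype.val_injective
  exact Module.Flat.rTensor_preserves_injective_linearMap (M := S) _ h

theorem kMap_injective : Function.Injective (kMap A S) := by
  have h : Function.Injective
      (IsScalarTower.toAlgHom A (CAlg2.red A) (FractionRing (CAlg2.red A))).toLinearMap :=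
    IsFractionRing.injective (CAlg2.red A) (FractionRing (CAlg2.red A))
  exact Module.Flat.rTensor_preserves_injective_linearMap (M := S) _ h

omit [Module.Flat A S] in
/-- `includeRight : S → A_red ⊗ S` has nil kernel -/
theorem ker_includeRight_le :
    RingHom.ker (Algebra.TensorProduct.includeRight : S →ₐ[A] (CAlg2.red A) ⊗[A] S).toRingHom
      ≤ nilradical S := by
  intro x hx
  let N' : Ideal S := (nilradical A).map (algebraMap A S)
  let ρ : (CAlg2.red A) ⊗[A] S →ₐ[A] S ⧸ N' :=
    Algebra.TensorProduct.lift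
      (Ideal.Quotient.liftₐ (nilradical A) (Algebra.ofId A (S ⧸ N')) (fun a ha => by
        show algebraMap A (S ⧸ N') a = 0
        rw [IsScalarTower.algebraMap_apply A S (S ⧸ N'), Ideal.Quotient.algebraMap_eq,
          Ideal.Quotient.eq_zero_iff_mem]
        exact Ideal.mem_map_of_mem _ ha))
      (Ideal.Quotient.mkₐ A N') (fun _ _ => Commute.all _ _)
  have h1 : ρ ((1 : CAlg2.red A) ⊗ₜ[A] x) = Ideal.Quotient.mk N' x := by
    simp [ρ]
  have h2 : (1 : CAlg2.red A) ⊗ₜ[A] x = 0 := hx
  rw [h2, map_zero] at h1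
  have h3 : x ∈ N' := Ideal.Quotient.eq_zero_iff_mem.mp h1.symm
  refine (Ideal.map_le_iff_le_comap.mpr ?_) h3
  intro a ha
  obtain ⟨n, hn⟩ := mem_nilradical.mp ha
  exact mem_nilradical.mpr ⟨n, by rw [← map_pow, hn, map_zero]⟩

omit [Module.Flat A S] in
theorem includeRight_surjective :
    Function.Surjective
      (Algebra.TensorProduct.includeRight : S →ₐ[A] (CAlg2.red A) ⊗[A] S).toRingHom := by
  intro z
  induction z with
  | zero => exact ⟨0, map_zero _⟩
  | tmul a s =>
    obtain ⟨a, rfl⟩ := Ideal.Quotient.mk_surjective a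
    refine ⟨a • s, ?_⟩
    show (1 : CAlg2.red A) ⊗ₜ[A] (a • s) = _
    rw [← TensorProduct.smul_tmul]
    congr 1
    rw [Algebra.smul_def, mul_one]
    rfl
  | add x y hx hy =>
    obtain ⟨x', hx'⟩ := hx
    obtain ⟨y', hy'⟩ := hy
    exact ⟨x' + y', by rw [map_add, hx', hy']⟩

/-- **Minimal primes of `A' ⊗ S`** for a flat `A`-algebra `S` correspond to those of `S`. -/
theorem bijOn_minimalPrimes_normRed_tensor :
    Set.BijOn (fun P : Ideal ((CAlg2.normRed A) ⊗[A] S) =>
        P.comap (Algebra.TensorProduct.includeRight.toRingHom :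
          S →+* (CAlg2.normRed A) ⊗[A] S))
      (minimalPrimes ((CAlg2.normRed A) ⊗[A] S)) (minimalPrimes S) := by
  letI : Algebra ((CAlg2.red A) ⊗[A] S) ((FractionRing (CAlg2.red A)) ⊗[A] S) :=
    (kMap A S).toRingHom.toAlgebra
  haveI : IsScalarTower (CAlg2.red A) ((CAlg2.red A) ⊗[A] S)
      ((FractionRing (CAlg2.red A)) ⊗[A] S) :=
    IsScalarTower.of_algebraMap_eq (fun r => by
      show _ = kMap A S (algebraMap (CAlg2.red A) _ r)
      rw [Algebra.TensorProduct.algebraMap_apply, Algebra.TensorProduct.algebraMap_apply]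
      rfl)
  haveI hloc : IsLocalization
      (Algebra.algebraMapSubmonoid ((CAlg2.red A) ⊗[A] S) (nonZeroDivisors (CAlg2.red A)))
      ((FractionRing (CAlg2.red A)) ⊗[A] S) :=
    IsLocalization.tensorProduct_tensorProduct A S (nonZeroDivisors (CAlg2.red A))
      (FractionRing (CAlg2.red A)) (by
        ext s
        show kMap A S ((1 : CAlg2.red A) ⊗ₜ[A] s) = (1 : FractionRing (CAlg2.red A)) ⊗ₜ[A] s
        simp [kMap])
  let i' : (CAlg2.red A) ⊗[A] S →+* (CAlg2.normRed A) ⊗[A] S := (iMap A S).toRingHom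
  let j' : (CAlg2.normRed A) ⊗[A] S →+* (FractionRing (CAlg2.red A)) ⊗[A] S := (jMap A S).toRingHom
  have halg : algebraMap ((CAlg2.red A) ⊗[A] S) ((FractionRing (CAlg2.red A)) ⊗[A] S)
      = j'.comp i' := by
    show (kMap A S).toRingHom = j'.comp i'
    rw [← jMap_comp_iMap]
    rfl
  have h1 := bijOn_of_localization (R₁ := (CAlg2.red A) ⊗[A] S) (T := (CAlg2.normRed A) ⊗[A] S)
    (L := (FractionRing (CAlg2.red A)) ⊗[A] S) i' j' (jMap_injective A S)
    (Algebra.algebraMapSubmonoid ((CAlg2.red A) ⊗[A] S) (nonZeroDivisors (CAlg2.red A)))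
    halg (kMap_injective A S)
  have h2 := bijOn_of_surjective_nil
    (Algebra.TensorProduct.includeRight : S →ₐ[A] (CAlg2.red A) ⊗[A] S).toRingHom
    (includeRight_surjective A S) (ker_includeRight_le A S)
  have h3 := h2.comp h1
  refine h3.congr ?_
  intro P _
  show Ideal.comap _ (Ideal.comap _ P) = Ideal.comap _ P
  rw [Ideal.comap_comap]
  congr 1
  ext s
  show iMap A S ((1 : CAlg2.red A) ⊗ₜ[A] s) = (1 : CAlg2.normRed A) ⊗ₜ[A] s
  simp [iMap]

end flat

end Groth.Agent.Lib.Helper3.MinLoc
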