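/-
Helper library (helper4): the numbers of (geometric) branches of a local ring with finitely many
minimal primes are the sums of those of the quotients by the minimal primes.
-/
import Groth.Agent.Lib.Helper4BranchCount
import Groth.Agent.Lib.Helper4TotalFracFin
import Groth.Prelude.Def_EGA4b

set_option autoImplicit false
set_option linter.style.haveILetI false
set_option linter.unusedSectionVars false
universe u

namespace Groth.Agent.Lib.Helper4.BranchSum

open IsLocalRing Groth.Agent.Lib.Helper4.Unibranch Groth.Agent.Lib.Helper4.TotalFracFin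
  Groth.Agent.Lib.Helper4.Branches

section Min

variable (A : Type u) [CommRing A]

instance isReduced_red : IsReduced (CAlg2.red A) :=
  (Ideal.isRadical_iff_quotient_reduced _).mp (Ideal.radical_isRadical _)

theorem minimalPrimes_eq_comap_red :
    minimalPrimes A = Ideal.comap (Ideal.Quotient.mk (nilradical A)) ''
      (minimalPrimes (CAlg2.red A)) := by
  have h1 := Ideal.comap_minimalPrimes_eq_of_surjective
    (f := Ideal.Quotient.mk (nilradical A)) Ideal.Quotient.mk_surjective (⊥ : Ideal (CAlg2.red A))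
  have h2 : Ideal.comap (Ideal.Quotient.mk (nilradical A)) (⊥ : Ideal (CAlg2.red A)) =
      nilradical A := by
    rw [← RingHom.ker_eq_comap_bot, Ideal.mk_ker]
  calc minimalPrimes A = (⊥ : Ideal A).radical.minimalPrimes := Ideal.radical_minimalPrimes.symm
    _ = (Ideal.comap (Ideal.Quotient.mk (nilradical A))
          (⊥ : Ideal (CAlg2.red A))).minimalPrimes := congrArg Ideal.minimalPrimes h2.symm
    _ = _ := h1

theorem map_mem_minimalPrimes_red (P : Ideal A) (hP : P ∈ minimalPrimes A) :
    P.map (Ideal.Quotient.mk (nilradical A)) ∈ minimalPrimes (CAlg2.red A) := by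
  rw [minimalPrimes_eq_comap_red] at hP
  obtain ⟨p, hp, rfl⟩ := hP
  rwa [Ideal.map_comap_of_surjective _ Ideal.Quotient.mk_surjective]

/-- The bijection between the minimal primes of `A` and those of its reduction. -/
def toRedMin : minimalPrimes A → minimalPrimes (CAlg2.red A) :=
  fun P => ⟨P.1.map (Ideal.Quotient.mk (nilradical A)), map_mem_minimalPrimes_red A P.1 P.2⟩

theorem toRedMin_bijective : Function.Bijective (toRedMin A) := by
  constructor
  · rintro ⟨P, hP⟩ ⟨Q, hQ⟩ h
    have h' : P.map (Ideal.Quotient.mk (nilradical A)) = Q.map (Ideal.Quotient.mk (nilradical A)) :=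
      congrArg Subtype.val h
    have hP' := hP
    have hQ' := hQ
    rw [minimalPrimes_eq_comap_red] at hP' hQ'
    obtain ⟨p, -, rfl⟩ := hP'
    obtain ⟨q, -, rfl⟩ := hQ'
    rw [Ideal.map_comap_of_surjective _ Ideal.Quotient.mk_surjective,
      Ideal.map_comap_of_surjective _ Ideal.Quotient.mk_surjective] at h'
    subst h'
    rfl
  · rintro ⟨p, hp⟩
    have : p.comap (Ideal.Quotient.mk (nilradical A)) ∈ minimalPrimes A := by
      rw [minimalPrimes_eq_comap_red]
      exact ⟨p, hp, rfl⟩
    refine ⟨⟨_, this⟩, Subtype.ext ?_⟩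
    exact Ideal.map_comap_of_surjective _ Ideal.Quotient.mk_surjective p

theorem nilradical_le_of_mem_minimalPrimes (P : Ideal A) (hP : P ∈ minimalPrimes A) :
    nilradical A ≤ P := by
  haveI := hP.1.1
  exact nilradical_le_prime P

/-- `A / P ≃ A_red / P A_red`. -/
noncomputable def quotRedEquiv (P : minimalPrimes A) :
    A ⧸ P.1 ≃+* CAlg2.red A ⧸ (toRedMin A P).1 :=
  (DoubleQuot.quotQuotEquivQuotOfLE (nilradical_le_of_mem_minimalPrimes A P.1 P.2)).symm

theorem quotRedEquiv_mk (P : minimalPrimes A) (a : A) :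
    quotRedEquiv A P (Ideal.Quotient.mk P.1 a) =
      Ideal.Quotient.mk (toRedMin A P).1 (Ideal.Quotient.mk (nilradical A) a) := rfl

end Min

section Pts

variable (A : Type u) [CommRing A] [IsLocalRing A]

theorem numGeomBranches_eq_card_pts (hfin : (minimalPrimes A).Finite) :
    Brnch.numGeomBranches A =
      ENat.card {τ : CAlg2.normRed A →+* AlgebraicClosure (ResidueField A) //
        τ.comp (canNorm A) = Brnch.toClosure A} := by
  unfold Brnch.numGeomBranches
  rw [if_pos hfin]
  apply ENat.card_congr
  exact Equiv.ofBijective (fun x => ⟨mapOf A x, mapOf_comp A x⟩)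
    ⟨fun x y h => mapOf_injective A (congrArg Subtype.val h),
      fun τ => ⟨branchOf A τ.1 τ.2, Subtype.ext (mapOf_branchOf A τ.1 τ.2)⟩⟩

theorem toClosure_isIntegral : (Brnch.toClosure A).IsIntegral := by
  unfold Brnch.toClosure
  refine RingHom.IsIntegral.trans _ _
    (RingHom.isIntegral_of_surjective _ IsLocalRing.residue_surjective) ?_
  exact algebraMap_isIntegral_iff.mpr inferInstance

theorem exists_closure_equiv (Ω : Type*) [Field Ω] [IsAlgClosed Ω] (c : A →+* Ω)
    (hker : RingHom.ker c = maximalIdeal A) (hint : c.IsIntegral) :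
    ∃ θ : AlgebraicClosure (ResidueField A) ≃+* Ω, ∀ a, θ (Brnch.toClosure A a) = c a := by
  haveI : IsLocalHom c := ⟨fun a ha => by
    by_contra hna
    have h1 : a ∈ maximalIdeal A := (mem_maximalIdeal a).mpr hna
    rw [← hker, RingHom.mem_ker] at h1
    exact ha.ne_zero h1⟩
  letI : Algebra (ResidueField A) Ω := (ResidueField.lift c).toAlgebra
  have hc : ∀ a, algebraMap (ResidueField A) Ω (residue A a) = c a := fun a => rfl
  haveI : Algebra.IsAlgebraic (ResidueField A) Ω := by
    refine ⟨fun ω => IsIntegral.isAlgebraic ?_⟩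
    obtain ⟨p, hp, hpω⟩ := hint ω
    refine ⟨p.map (residue A), hp.map _, ?_⟩
    rw [Polynomial.eval₂_map]
    have : (algebraMap (ResidueField A) Ω).comp (residue A) = c := RingHom.ext hc
    rw [this]
    exact hpω
  haveI : IsAlgClosure (ResidueField A) Ω := ⟨inferInstance, inferInstance⟩
  let θ := IsAlgClosure.equiv (ResidueField A) (AlgebraicClosure (ResidueField A)) Ω
  refine ⟨θ.toRingEquiv, fun a => ?_⟩
  show θ (algebraMap (ResidueField A) (AlgebraicClosure (ResidueField A)) (residue A a)) = c a
  rw [θ.commutes]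
  rfl

end Pts

section Quot

variable (A : Type u) [CommRing A] [IsLocalRing A] (I : Ideal A) [IsLocalRing (A ⧸ I)]

theorem numBranches_quotient (hfin : (minimalPrimes (A ⧸ I)).Finite) {N : Type*} [CommRing N]
    (e : CAlg2.normRed (A ⧸ I) ≃+* N) :
    Brnch.numBranches (A ⧸ I) = ENat.card (MaximalSpectrum N) := by
  unfold Brnch.numBranches
  rw [if_pos hfin]
  exact ENat.card_congr (maxSpecEquiv e)

theorem le_maximalIdeal_of_isLocalRing_quotient : I ≤ maximalIdeal A := by
  apply le_maximalIdeal
  intro h
  have : Nontrivial (A ⧸ I) := inferInstance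
  rw [Ideal.Quotient.nontrivial_iff] at this
  exact this h

theorem comap_maximalIdeal_quotient :
    (maximalIdeal (A ⧸ I)).comap (Ideal.Quotient.mk I) = maximalIdeal A := by
  haveI : ((maximalIdeal (A ⧸ I)).comap (Ideal.Quotient.mk I)).IsMaximal :=
    Ideal.comap_isMaximal_of_surjective _ Ideal.Quotient.mk_surjective
  exact eq_maximalIdeal inferInstance

theorem numGeomBranches_quotient (hfin : (minimalPrimes (A ⧸ I)).Finite) {N : Type*} [CommRing N]
    (j : A →+* N) (e : CAlg2.normRed (A ⧸ I) ≃+* N)
    (he : ∀ a, e (canNorm (A ⧸ I) (Ideal.Quotient.mk I a)) = j a) :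
    Brnch.numGeomBranches (A ⧸ I) =
      ENat.card {τ : N →+* AlgebraicClosure (ResidueField A) // τ.comp j = Brnch.toClosure A} := by
  have hI : I ≤ maximalIdeal A := le_maximalIdeal_of_isLocalRing_quotient A I
  let c' : A ⧸ I →+* AlgebraicClosure (ResidueField A) :=
    Ideal.Quotient.lift I (Brnch.toClosure A) (fun a ha => by
      rw [← RingHom.mem_ker, ker_toClosure]; exact hI ha)
  have hc' : ∀ a, c' (Ideal.Quotient.mk I a) = Brnch.toClosure A a := fun a => rfl
  have hcomp : c'.comp (Ideal.Quotient.mk I) = Brnch.toClosure A := RingHom.ext hc'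
  have hker' : RingHom.ker c' = maximalIdeal (A ⧸ I) := by
    apply Ideal.comap_injective_of_surjective _ (Ideal.Quotient.mk_surjective (I := I))
    rw [comap_maximalIdeal_quotient, RingHom.comap_ker, hcomp, ker_toClosure]
  have hint' : c'.IsIntegral := by
    apply RingHom.IsIntegral.tower_top (Ideal.Quotient.mk I) c'
    rw [hcomp]
    exact toClosure_isIntegral A
  obtain ⟨θ, hθ⟩ := exists_closure_equiv (A ⧸ I) (AlgebraicClosure (ResidueField A)) c' hker' hint'
  rw [numGeomBranches_eq_card_pts (A ⧸ I) hfin]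
  apply ENat.card_congr
  refine
    { toFun := fun τ => ⟨(θ.toRingHom.comp τ.1).comp e.symm.toRingHom, ?_⟩
      invFun := fun τ => ⟨(θ.symm.toRingHom.comp τ.1).comp e.toRingHom, ?_⟩
      left_inv := fun τ => ?_
      right_inv := fun τ => ?_ }
  · ext a
    have h1 : e.symm (j a) = canNorm (A ⧸ I) (Ideal.Quotient.mk I a) := by
      rw [← he a, e.symm_apply_apply]
    have h2 := congrArg (fun f => f (Ideal.Quotient.mk I a)) τ.2
    simp only [RingHom.comp_apply] at h2
    show θ (τ.1 (e.symm (j a))) = _
    rw [h1, h2, hθ, hc']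
  · apply RingHom.ext
    intro x
    obtain ⟨a, rfl⟩ := Ideal.Quotient.mk_surjective x
    have h2 := congrArg (fun f => f a) τ.2
    simp only [RingHom.comp_apply] at h2
    show θ.symm (τ.1 (e (canNorm (A ⧸ I) (Ideal.Quotient.mk I a)))) = _
    rw [he a, h2, ← hc', ← hθ, θ.symm_apply_apply]
  · apply Subtype.ext
    ext x
    show θ.symm (θ (τ.1 (e.symm (e x)))) = τ.1 x
    rw [e.symm_apply_apply, θ.symm_apply_apply]
  · apply Subtype.ext
    ext x
    show θ (θ.symm (τ.1 (e (e.symm x)))) = τ.1 x
    rw [e.apply_symm_apply, θ.apply_symm_apply]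

end Quot

section Main

variable (A : Type u) [CommRing A]

theorem finite_minimalPrimes_quotient (P : Ideal A) [P.IsPrime] :
    (minimalPrimes (A ⧸ P)).Finite := by
  haveI := isDomain_red (A ⧸ P)
  exact finite_minimalPrimes_of_isDomain_red (A ⧸ P)

/-- The normalization of `A / P` as the `P`-th factor of the normalization of `A_red`. -/
noncomputable def normRedQuotEquiv (P : minimalPrimes A) [P.1.IsPrime] :
    CAlg2.normRed (A ⧸ P.1) ≃+*
      integralClosure (CAlg2.red A ⧸ (toRedMin A P).1)
        (FractionRing (CAlg2.red A ⧸ (toRedMin A P).1)) :=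
  (normRedEquiv (A ⧸ P.1) (FractionRing (A ⧸ P.1))).trans (normalizationEquiv (quotRedEquiv A P))

theorem normRedQuotEquiv_apply [IsLocalRing A] (P : minimalPrimes A) [P.1.IsPrime]
    [IsLocalRing (A ⧸ P.1)] (a : A) :
    normRedQuotEquiv A P (canNorm (A ⧸ P.1) (Ideal.Quotient.mk P.1 a)) =
      algebraMap (CAlg2.red A ⧸ (toRedMin A P).1) _
        (Ideal.Quotient.mk (toRedMin A P).1 (Ideal.Quotient.mk (nilradical A) a)) := by
  unfold normRedQuotEquiv canNorm
  rw [RingEquiv.trans_apply, RingHom.comp_apply, normRedEquiv_apply, normalizationEquiv_algebraMap,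
    quotRedEquiv_mk]

variable [IsLocalRing A]

theorem numBranches_eq_finsum (hfin : (minimalPrimes A).Finite) :
    Brnch.numBranches A =
      ∑ᶠ P : minimalPrimes A,
        haveI : P.1.IsPrime := P.2.1.1
        Brnch.numBranches (A ⧸ P.1) := by
  classical
  have hfinR := finite_minimalPrimes_red A hfin
  haveI : Finite (minimalPrimes (CAlg2.red A)) := hfinR.to_subtype
  haveI : Fintype (minimalPrimes (CAlg2.red A)) := Fintype.ofFinite _
  have h1 : Brnch.numBranches A =
      ∑ᶠ p : minimalPrimes (CAlg2.red A),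
        ENat.card (MaximalSpectrum
          (integralClosure (CAlg2.red A ⧸ p.1) (FractionRing (CAlg2.red A ⧸ p.1)))) := by
    rw [finsum_eq_sum_of_fintype, ← enat_card_maxSpec_pi]
    unfold Brnch.numBranches
    rw [if_pos hfin]
    exact ENat.card_congr (maxSpecEquiv (normPiEquiv hfinR))
  rw [h1]
  symm
  apply finsum_eq_of_bijective (toRedMin A) (toRedMin_bijective A)
  intro P
  haveI : P.1.IsPrime := P.2.1.1
  exact numBranches_quotient A P.1 (finite_minimalPrimes_quotient A P.1) (normRedQuotEquiv A P)

theorem numGeomBranches_eq_finsum (hfin : (minimalPrimes A).Finite) :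
    Brnch.numGeomBranches A =
      ∑ᶠ P : minimalPrimes A,
        haveI : P.1.IsPrime := P.2.1.1
        Brnch.numGeomBranches (A ⧸ P.1) := by
  classical
  have hfinR := finite_minimalPrimes_red A hfin
  haveI : Finite (minimalPrimes (CAlg2.red A)) := hfinR.to_subtype
  haveI : Fintype (minimalPrimes (CAlg2.red A)) := Fintype.ofFinite _
  let jj : ∀ p : minimalPrimes (CAlg2.red A), A →+*
      integralClosure (CAlg2.red A ⧸ p.1) (FractionRing (CAlg2.red A ⧸ p.1)) := fun p =>
    (algebraMap (CAlg2.red A ⧸ p.1) _).comp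
      ((Ideal.Quotient.mk p.1).comp (Ideal.Quotient.mk (nilradical A)))
  have h1 : Brnch.numGeomBranches A =
      ∑ᶠ p : minimalPrimes (CAlg2.red A),
        ENat.card {τ : integralClosure (CAlg2.red A ⧸ p.1) (FractionRing (CAlg2.red A ⧸ p.1)) →+*
          AlgebraicClosure (ResidueField A) // τ.comp (jj p) = Brnch.toClosure A} := by
    rw [finsum_eq_sum_of_fintype, ← enat_card_pts_pi, numGeomBranches_eq_card_pts A hfin]
    apply ENat.card_congr
    let e := normPiEquiv hfinR
    have he : ∀ a, e (canNorm A a) = RingHom.pi jj a := by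
      intro a
      funext p
      exact normPiEquiv_algebraMap hfinR _ p
    refine
      { toFun := fun τ => ⟨τ.1.comp e.symm.toRingHom, ?_⟩
        invFun := fun τ => ⟨τ.1.comp e.toRingHom, ?_⟩
        left_inv := fun τ => ?_
        right_inv := fun τ => ?_ }
    · refine Eq.trans ?_ τ.2
      ext a
      show τ.1 (e.symm (RingHom.pi jj a)) = τ.1 (canNorm A a)
      rw [← he a, e.symm_apply_apply]
    · refine Eq.trans ?_ τ.2
      ext a
      show τ.1 (e (canNorm A a)) = τ.1 (RingHom.pi jj a)
      rw [he a]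
    · apply Subtype.ext
      ext x
      show τ.1 (e.symm (e x)) = τ.1 x
      rw [e.symm_apply_apply]
    · apply Subtype.ext
      apply RingHom.ext
      intro x
      show τ.1 (e (e.symm x)) = τ.1 x
      rw [e.apply_symm_apply]
  rw [h1]
  symm
  apply finsum_eq_of_bijective (toRedMin A) (toRedMin_bijective A)
  intro P
  haveI : P.1.IsPrime := P.2.1.1
  exact numGeomBranches_quotient A P.1 (finite_minimalPrimes_quotient A P.1) (jj (toRedMin A P))
    (normRedQuotEquiv A P) (normRedQuotEquiv_apply A P)

end Main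

end Groth.Agent.Lib.Helper4.BranchSum
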