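import Mathlib
import Groth.Agent.Lib.Helper3EtNbhdC
import Groth.Agent.Lib.Helper3EtNbhdB
import Groth.Agent.Lib.Helper3HzN
import Groth.Agent.Lib.Helper3ShN
import Groth.Agent.Lib.Helper3EtGU
import Groth.Agent.S9237
import Groth.Agent.S9238

set_option linter.style.haveILetI false
set_option autoImplicit false

open TensorProduct IsLocalRing

universe u

namespace Groth.Agent.Lib.Helper3.EtNbhd

open Groth.Agent.Lib.Helper3

/-- A ring map which is surjective on spectra does not decrease the number of minimal primes. -/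
theorem card_minimalPrimes_le_of_comap_surjective {B S : Type*} [CommRing B] [CommRing S]
    (φ : B →+* S) (h : ∀ p : Ideal B, p.IsPrime → ∃ Q : Ideal S, Q.IsPrime ∧ Q.comap φ = p) :
    ENat.card (minimalPrimes B) ≤ ENat.card (minimalPrimes S) := by
  have key : ∀ p : minimalPrimes B, ∃ Q ∈ minimalPrimes S, Q.comap φ = p.1 := by
    intro p
    obtain ⟨Q, hQ, hQp⟩ := h p.1 p.2.1.1
    obtain ⟨Q', hQ', hle⟩ := Ideal.exists_minimalPrimes_le (I := (⊥ : Ideal S)) (J := Q) bot_le
    refine ⟨Q', hQ', ?_⟩
    haveI : Q'.IsPrime := hQ'.1.1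
    have h1 : Q'.comap φ ≤ p.1 := by
      rw [← hQp]
      exact Ideal.comap_mono hle
    exact le_antisymm h1 (p.2.2 ⟨Ideal.comap_isPrime _ _, bot_le⟩ h1)
  choose g hg hg' using key
  refine ENat.card_le_card_of_injective (f := fun p => (⟨g p, hg p⟩ : minimalPrimes S)) ?_
  intro p1 p2 h12
  apply Subtype.ext
  have : g p1 = g p2 := congrArg Subtype.val h12
  rw [← hg' p1, ← hg' p2, this]

/-- spectra: composite of a ring isomorphism and a faithfully flat map -/
theorem exists_comap_eq_of_equiv_of_faithfullyFlat {B L S : Type*} [CommRing B] [CommRing L]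
    [CommRing S] [Algebra L S] [Module.FaithfullyFlat L S] (ε : B ≃+* L) (p : Ideal B)
    (hp : p.IsPrime) :
    ∃ Q : Ideal S, Q.IsPrime ∧ Q.comap ((algebraMap L S).comp (ε : B →+* L)) = p := by
  haveI : (p.comap (ε.symm : L →+* B)).IsPrime := Ideal.comap_isPrime _ _
  obtain ⟨Q, hQ⟩ := PrimeSpectrum.comap_surjective_of_faithfullyFlat (A := L) (B := S)
    ⟨p.comap (ε.symm : L →+* B), inferInstance⟩
  refine ⟨Q.asIdeal, Q.2, ?_⟩
  have h1 : Q.asIdeal.comap (algebraMap L S) = p.comap (ε.symm : L →+* B) :=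
    congrArg PrimeSpectrum.asIdeal hQ
  rw [← Ideal.comap_comap, h1]
  ext b
  simp [Ideal.mem_comap]

/-- The local ring of an essentially étale local algebra has at most as many minimal primes as
the number of geometric branches. -/
theorem card_minimalPrimes_le_numGeomBranches (A : Type u) [CommRing A] [IsLocalRing A]
    (B : Type u) [CommRing B] [IsLocalRing B] [Algebra A B]
    (h : EGA4loc.IsEssentiallyEtale A B) :
    ENat.card (minimalPrimes B) ≤ Brnch.numGeomBranches A := by
  let Ω := SeparableClosure (ResidueField A)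
  letI : Algebra A Ω := ((algebraMap (ResidueField A) Ω).comp (residue A)).toAlgebra
  haveI : IsScalarTower A (ResidueField A) Ω := IsScalarTower.of_algebraMap_eq (fun _ => rfl)
  rw [← Groth.Agent.S9238.result A (Sh.Rsh A Ω)]
  obtain ⟨C, _, _, Q, _, hEt, hQ, ⟨e⟩⟩ := h
  haveI hloc : IsLocalHom (algebraMap A (Localization.AtPrime Q)) := by
    refine ⟨fun a ha => ?_⟩
    rw [IsScalarTower.algebraMap_apply A C (Localization.AtPrime Q),
      IsLocalization.AtPrime.isUnit_to_map_iff (Localization.AtPrime Q) Q] at ha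
    by_contra hna
    have h1 : a ∈ maximalIdeal A := (mem_maximalIdeal a).mpr hna
    rw [← hQ] at h1
    exact ha h1
  haveI : Algebra.FormallyUnramified A (Localization.AtPrime Q) :=
    Algebra.FormallyUnramified.comp A C (Localization.AtPrime Q)
  haveI : Algebra.EssFiniteType A (Localization.AtPrime Q) :=
    Algebra.EssFiniteType.comp A C (Localization.AtPrime Q)
  haveI : Algebra.IsSeparable (ResidueField A) (ResidueField (Localization.AtPrime Q)) :=
    inferInstance
  let β₀ : ResidueField (Localization.AtPrime Q) →ₐ[ResidueField A] Ω := IsSepClosed.lift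
  let β : ResidueField (Localization.AtPrime Q) →ₐ[A] Ω := β₀.restrictScalars A
  obtain ⟨i, e', -⟩ := Sh.exists_idx (Ω := Ω) (Localization.AtPrime Q) C Q hQ AlgEquiv.refl β
  letI := (Sh.ofL i).toAlgebra
  haveI : IsLocalHom (algebraMap i.L (Sh.Rsh A Ω)) := inferInstanceAs (IsLocalHom (Sh.ofL i))
  haveI := Sh.isStrictHenselization_L (R := A) (Ω := Ω) i
  haveI : Module.FaithfullyFlat i.L (Sh.Rsh A Ω) := HzP.sh_faithfullyFlat i.L (Sh.Rsh A Ω)
  exact card_minimalPrimes_le_of_comap_surjective _
    (exists_comap_eq_of_equiv_of_faithfullyFlat (S := Sh.Rsh A Ω)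
      (e.toRingEquiv.trans e'.toRingEquiv))

/-- The local ring of a strictly essentially étale local algebra has at most as many minimal
primes as the number of branches. -/
theorem card_minimalPrimes_le_numBranches (A : Type u) [CommRing A] [IsLocalRing A]
    (B : Type u) [CommRing B] [IsLocalRing B] [Algebra A B] [IsLocalHom (algebraMap A B)]
    (h : EGA4loc.IsStrictlyEssentiallyEtale A B) :
    ENat.card (minimalPrimes B) ≤ Brnch.numBranches A := by
  rw [← Groth.Agent.S9237.result A (Hz.Rh A)]
  obtain ⟨i, ⟨ε⟩⟩ := Hz.exists_idx B h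
  letI := (Hz.ofL i).toAlgebra
  haveI : IsLocalHom (algebraMap i.L (Hz.Rh A)) := inferInstanceAs (IsLocalHom (Hz.ofL i))
  haveI : Module.Flat i.L (Hz.Rh A) := Hz.flat_over_L i
  haveI : Module.FaithfullyFlat i.L (Hz.Rh A) := Module.FaithfullyFlat.of_flat_of_isLocalHom
  exact card_minimalPrimes_le_of_comap_surjective _
    (exists_comap_eq_of_equiv_of_faithfullyFlat (S := Hz.Rh A) ε.toRingEquiv)

end Groth.Agent.Lib.Helper3.EtNbhd
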