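import Mathlib
import Groth.Agent.Lib.Helper3EtNbhdC
import Groth.Agent.Lib.Helper3EtNbhdD

set_option linter.style.haveILetI false
set_option autoImplicit false

open TensorProduct IsLocalRing

universe u

namespace Groth.Agent.Lib.Helper3.FibBr

open Groth.Agent.Lib.Helper3.IndEt Groth.Agent.Lib.Helper3.PuncConn Groth.Agent.Lib.Helper3.EtNbhd

/-- algebra homomorphisms map extended ideals into extended ideals -/
theorem algHom_mem_map {R0 E1 E2 : Type*} [CommRing R0] [CommRing E1] [CommRing E2]
    [Algebra R0 E1] [Algebra R0 E2] (h : E1 →ₐ[R0] E2) (J0 : Ideal R0) {x : E1}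
    (hx : x ∈ J0.map (algebraMap R0 E1)) : h x ∈ J0.map (algebraMap R0 E2) := by
  have h1 : h x ∈ (J0.map (algebraMap R0 E1)).map h.toRingHom := Ideal.mem_map_of_mem _ hx
  rw [Ideal.map_map] at h1
  have h2 : h.toRingHom.comp (algebraMap R0 E1) = algebraMap R0 E2 := h.comp_algebraMap
  rwa [h2] at h1

/-- **Factorization with one ideal membership**: if an element of a finitely presented algebra
maps into the extension of `J0`, this already happens on an étale algebra. -/
theorem exists_etale_mem_map_one (R0 : Type u) [CommRing R0] (T : Type u) [CommRing T]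
    [Algebra R0 T] (H : Obj.Factor R0 T) (J0 : Ideal R0) (C : Type u) [CommRing C] [Algebra R0 C]
    [Algebra.FinitePresentation R0 C] (ψ : C →ₐ[R0] T) (c : C)
    (hc : ψ c ∈ J0.map (algebraMap R0 T)) :
    ∃ (E : Type u) (_ : CommRing E) (_ : Algebra R0 E) (_ : Algebra.Etale R0 E) (fE : C →ₐ[R0] E)
      (g : E →ₐ[R0] T), g.comp fE = ψ ∧ fE c ∈ J0.map (algebraMap R0 E) := by
  classical
  rw [Ideal.map, Submodule.mem_span_set'] at hc
  obtain ⟨n, t, a, hsum⟩ := hc
  have ha : ∀ k : Fin n, ∃ r : R0, r ∈ J0 ∧ algebraMap R0 T r = (a k : T) := fun k => (a k).2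
  choose r hr hra using ha
  let P := MvPolynomial (Fin n) C
  let rel : P := MvPolynomial.C c - ∑ k : Fin n, MvPolynomial.X k * MvPolynomial.C (algebraMap R0 C (r k))
  let I : Ideal P := Ideal.span {rel}
  have hI : I.FG := ⟨{rel}, by simp [I]⟩
  haveI : Algebra.FinitePresentation R0 P :=
    Algebra.FinitePresentation.trans R0 C P
  haveI : Algebra.FinitePresentation R0 (P ⧸ I) := Algebra.FinitePresentation.quotient hI
  letI : Algebra C T := ψ.toRingHom.toAlgebra
  haveI : IsScalarTower R0 C T := IsScalarTower.of_algebraMap_eq' ψ.comp_algebraMap.symm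
  let ψ0 : P →ₐ[R0] T := (MvPolynomial.aeval (R := C) (S₁ := T) t).restrictScalars R0
  have hψ0C : ∀ c' : C, ψ0 (MvPolynomial.C c') = ψ c' := by
    intro c'
    show MvPolynomial.aeval t (MvPolynomial.C c') = _
    rw [MvPolynomial.aeval_C]
    rfl
  have hψ0X : ∀ k, ψ0 (MvPolynomial.X k) = t k := by
    intro k
    show MvPolynomial.aeval t (MvPolynomial.X k) = _
    rw [MvPolynomial.aeval_X]
  have hrel : ψ0 rel = 0 := by
    simp only [rel, map_sub, map_sum, map_mul, hψ0C, hψ0X, AlgHom.commutes, hra]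
    rw [sub_eq_zero, ← hsum]
    simp only [smul_eq_mul]
  have hψ0 : ∀ a ∈ I, ψ0 a = 0 := by
    have hle : I ≤ RingHom.ker ψ0.toRingHom := by
      rw [Ideal.span_le]
      rintro _ rfl
      exact hrel
    intro a ha
    exact hle ha
  let ψ' : (P ⧸ I) →ₐ[R0] T := Ideal.Quotient.liftₐ I ψ0 hψ0
  obtain ⟨E, _, _, _, fE', g, hfg⟩ := H (P ⧸ I) ψ'
  let ι : C →ₐ[R0] (P ⧸ I) :=
    (Ideal.Quotient.mkₐ R0 I).comp (IsScalarTower.toAlgHom R0 C P)
  refine ⟨E, inferInstance, inferInstance, inferInstance, fE'.comp ι, g, ?_, ?_⟩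
  · rw [← AlgHom.comp_assoc, hfg]
    ext c'
    show ψ' (Ideal.Quotient.mk I (MvPolynomial.C c')) = _
    show ψ0 (MvPolynomial.C c') = _
    exact hψ0C c'
  · have h0 : Ideal.Quotient.mk I rel = 0 :=
      Ideal.Quotient.eq_zero_iff_mem.mpr (Ideal.subset_span rfl)
    have h1 : ι c = ∑ k : Fin n, Ideal.Quotient.mk I (MvPolynomial.X k) *
        algebraMap R0 (P ⧸ I) (r k) := by
      have : Ideal.Quotient.mk I (MvPolynomial.C c) =
          Ideal.Quotient.mk I (∑ k : Fin n, MvPolynomial.X k *
            MvPolynomial.C (algebraMap R0 C (r k))) := by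
        rw [← sub_eq_zero, ← map_sub]
        exact h0
      show Ideal.Quotient.mk I (MvPolynomial.C c) = _
      rw [this, map_sum]
      refine Finset.sum_congr rfl fun k _ => ?_
      rw [map_mul]
      rfl
    show fE' (ι c) ∈ _
    rw [h1, map_sum]
    refine Ideal.sum_mem _ fun k _ => ?_
    rw [map_mul, AlgHom.commutes]
    exact Ideal.mul_mem_left _ _ (Ideal.mem_map_of_mem _ (hr k))


/-- **Factorization with finitely many ideal memberships**. -/
theorem exists_etale_mem_map (R0 : Type u) [CommRing R0] (T : Type u) [CommRing T]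
    [Algebra R0 T] (H : Obj.Factor R0 T) (J0 : Ideal R0) (C : Type u) [CommRing C] [Algebra R0 C]
    [Algebra.FinitePresentation R0 C] (ψ : C →ₐ[R0] T) (cs : Finset C)
    (hc : ∀ c ∈ cs, ψ c ∈ J0.map (algebraMap R0 T)) :
    ∃ (E : Type u) (_ : CommRing E) (_ : Algebra R0 E) (_ : Algebra.Etale R0 E) (fE : C →ₐ[R0] E)
      (g : E →ₐ[R0] T), g.comp fE = ψ ∧ ∀ c ∈ cs, fE c ∈ J0.map (algebraMap R0 E) := by
  classical
  induction cs using Finset.induction_on with
  | empty =>
    obtain ⟨E, _, _, _, fE, g, hfg⟩ := H C ψ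
    exact ⟨E, inferInstance, inferInstance, inferInstance, fE, g, hfg, by simp⟩
  | insert c0 cs hc0 ih =>
    obtain ⟨E1, _, _, _, fE1, g1, hfg1, h1⟩ := ih (fun c hc' => hc c (Finset.mem_insert_of_mem hc'))
    have hc0' : g1 (fE1 c0) ∈ J0.map (algebraMap R0 T) := by
      have := hc c0 (Finset.mem_insert_self _ _)
      rw [← hfg1] at this
      exact this
    obtain ⟨E2, _, _, _, f12, g2, hfg2, h2⟩ :=
      exists_etale_mem_map_one R0 T H J0 E1 g1 (fE1 c0) hc0'
    refine ⟨E2, inferInstance, inferInstance, inferInstance, f12.comp fE1, g2, ?_, ?_⟩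
    · rw [← AlgHom.comp_assoc, hfg2, hfg1]
    · intro c hc'
      rcases Finset.mem_insert.mp hc' with rfl | hc''
      · exact h2
      · exact algHom_mem_map f12 J0 (h1 c hc'')

/-- Elements separating a finite set of primes minimal over an ideal `I`: `f P ∉ P`, and the
pairwise products lie in the radical of `I`. -/
theorem exists_separating_ideal {T : Type*} [CommRing T] (I : Ideal T) (F : Finset (Ideal T))
    (hF : ∀ P ∈ F, P ∈ I.minimalPrimes) :
    ∃ f : Ideal T → T, (∀ P ∈ F, f P ∉ P) ∧
      ∀ P ∈ F, ∀ P' ∈ F, P ≠ P' → f P * f P' ∈ I.radical := by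
  classical
  let π := Ideal.Quotient.mk I
  have hπ : Function.Surjective π := Ideal.Quotient.mk_surjective
  have hcm : ∀ P ∈ F, (P.map π).comap π = P := by
    intro P hP
    rw [Ideal.comap_map_of_surjective π hπ, ← RingHom.ker_eq_comap_bot, Ideal.mk_ker]
    exact sup_eq_left.mpr (hF P hP).1.2
  have hmin : ∀ P ∈ F, P.map π ∈ minimalPrimes (T ⧸ I) := by
    intro P hP
    have h1 := hF P hP
    rw [Ideal.minimalPrimes_eq_comap] at h1
    obtain ⟨Pb, hPb, rfl⟩ := h1
    rwa [Ideal.map_comap_of_surjective π hπ]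
  obtain ⟨fb, hfb1, hfb2⟩ := exists_separating (F.image (Ideal.map π)) (by
    intro Pb hPb
    obtain ⟨P, hP, rfl⟩ := Finset.mem_image.mp hPb
    exact hmin P hP)
  have hlift : ∀ P : Ideal T, ∃ t : T, π t = fb (P.map π) := fun P => hπ _
  choose f hf using hlift
  refine ⟨f, ?_, ?_⟩
  · intro P hP hmem
    apply hfb1 (P.map π) (Finset.mem_image_of_mem _ hP)
    rw [← hf]
    exact Ideal.mem_map_of_mem _ hmem
  · intro P hP P' hP' hne
    have hne' : P.map π ≠ P'.map π := by
      intro h
      apply hne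
      rw [← hcm P hP, ← hcm P' hP', h]
    obtain ⟨m, hm⟩ := hfb2 _ (Finset.mem_image_of_mem _ hP) _ (Finset.mem_image_of_mem _ hP') hne'
    refine ⟨m, ?_⟩
    rw [← Ideal.Quotient.eq_zero_iff_mem, map_pow, map_mul]
    show (π (f P) * π (f P')) ^ m = 0
    rw [hf, hf, hm]

/-- **Relative factorization trick for several branches**: finitely many primes of `T` minimal
over the extension of an ideal `J0` of the base are already separated on an étale algebra mapping
to `T`. -/
theorem exists_etale_card_le_ideal (R0 : Type u) [CommRing R0] (T : Type u) [CommRing T]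
    [Algebra R0 T] (H : Obj.Factor R0 T) (J0 : Ideal R0) (F : Finset (Ideal T))
    (hF : ∀ P ∈ F, P ∈ (J0.map (algebraMap R0 T)).minimalPrimes)
    (M : Ideal T) [M.IsPrime] (hM : ∀ P ∈ F, P ≤ M) :
    ∃ (E : Type u) (_ : CommRing E) (_ : Algebra R0 E) (_ : Algebra.Etale R0 E) (g : E →ₐ[R0] T),
      (F.card : ℕ∞) ≤
        {P' : Ideal E | P' ∈ (J0.map (algebraMap R0 E)).minimalPrimes ∧
          P' ≤ M.comap g.toRingHom}.encard := by
  classical
  obtain ⟨f, hf1, hf2⟩ := exists_separating_ideal _ F hF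
  have hm : ∀ i j : ↥F, ∃ m : ℕ, i ≠ j → (f i.1 * f j.1) ^ m ∈ J0.map (algebraMap R0 T) := by
    intro i j
    by_cases h : i = j
    · exact ⟨0, fun h' => absurd h h'⟩
    · obtain ⟨m, hm⟩ := hf2 i.1 i.2 j.1 j.2 (fun h' => h (Subtype.ext h'))
      exact ⟨m, fun _ => hm⟩
  choose m hm using hm
  let gen : {ij : ↥F × ↥F // ij.1 ≠ ij.2} → MvPolynomial ↥F R0 :=
    fun ij => (MvPolynomial.X ij.1.1 * MvPolynomial.X ij.1.2) ^ (m ij.1.1 ij.1.2)
  let ψ : MvPolynomial ↥F R0 →ₐ[R0] T := MvPolynomial.aeval (fun i : ↥F => f i.1)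
  obtain ⟨E, _, _, _, fE, g, hfg, hmem⟩ := exists_etale_mem_map R0 T H J0 (MvPolynomial ↥F R0) ψ
    (Finset.univ.image gen) (by
      intro c hc
      obtain ⟨ij, -, rfl⟩ := Finset.mem_image.mp hc
      simp only [gen, ψ, map_pow, map_mul, MvPolynomial.aeval_X]
      exact hm _ _ ij.2)
  let e : ↥F → E := fun i => fE (MvPolynomial.X i)
  have he : ∀ i, g (e i) = f i.1 := by
    intro i
    have := congr($hfg (MvPolynomial.X i))
    rw [AlgHom.comp_apply] at this
    show g (fE _) = _
    rw [this]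
    simp [ψ]
  have hee : ∀ i j, i ≠ j → (e i * e j) ^ m i j ∈ J0.map (algebraMap R0 E) := by
    intro i j hij
    have := hmem (gen ⟨(i, j), hij⟩) (Finset.mem_image_of_mem _ (Finset.mem_univ _))
    simpa only [gen, map_pow, map_mul] using this
  have hJle : ∀ i : ↥F, J0.map (algebraMap R0 E) ≤ (i.1).comap g.toRingHom := by
    intro i
    rw [Ideal.map_le_iff_le_comap, Ideal.comap_comap]
    have h2 : g.toRingHom.comp (algebraMap R0 E) = algebraMap R0 T := g.comp_algebraMap
    rw [h2, ← Ideal.map_le_iff_le_comap]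
    exact (hF i.1 i.2).1.2
  have hmin : ∀ i : ↥F, ∃ P' : Ideal E, P' ∈ (J0.map (algebraMap R0 E)).minimalPrimes ∧
      P' ≤ (i.1).comap g.toRingHom := by
    intro i
    haveI : i.1.IsPrime := (hF i.1 i.2).1.1
    exact Ideal.exists_minimalPrimes_le (hJle i)
  choose P' hP'1 hP'2 using hmin
  have hnotin : ∀ i, e i ∉ P' i := by
    intro i hmem
    have : g (e i) ∈ i.1 := hP'2 i hmem
    rw [he] at this
    exact hf1 i.1 i.2 this
  have hinj : Function.Injective P' := by
    intro i j hij
    by_contra hne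
    haveI : (P' i).IsPrime := (hP'1 i).1.1
    have h0 : (e i * e j) ^ m i j ∈ P' i := (hP'1 i).1.2 (hee i j hne)
    have h1 : e i * e j ∈ P' i := Ideal.IsPrime.mem_of_pow_mem inferInstance _ h0
    rcases Ideal.IsPrime.mem_or_mem inferInstance h1 with h | h
    · exact hnotin i h
    · rw [hij] at h
      exact hnotin j h
  refine ⟨E, inferInstance, inferInstance, inferInstance, g, ?_⟩
  calc (F.card : ℕ∞) = ENat.card ↥F := by
        rw [ENat.card_eq_coe_fintype_card, Fintype.card_coe]
    _ ≤ (Set.range P').encard := hinj.encard_range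
    _ ≤ _ := Set.encard_le_encard (by
        rintro _ ⟨i, rfl⟩
        exact ⟨hP'1 i, (hP'2 i).trans (Ideal.comap_mono (hM i.1 i.2))⟩)


/-- Isomorphic rings have the same number of minimal primes. -/
theorem card_minimalPrimes_ringEquiv {A B : Type*} [CommRing A] [CommRing B] (e : A ≃+* B) :
    ENat.card (minimalPrimes A) = ENat.card (minimalPrimes B) := by
  apply le_antisymm
  · refine card_minimalPrimes_le_of_comap_surjective (e : A →+* B) fun p hp => ?_
    refine ⟨p.comap (e.symm : B →+* A), Ideal.comap_isPrime _ _, ?_⟩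
    rw [Ideal.comap_comap]
    have : (e.symm : B →+* A).comp (e : A →+* B) = RingHom.id A := by ext; simp
    rw [this, Ideal.comap_id]
  · refine card_minimalPrimes_le_of_comap_surjective (e.symm : B →+* A) fun p hp => ?_
    refine ⟨p.comap (e : A →+* B), Ideal.comap_isPrime _ _, ?_⟩
    rw [Ideal.comap_comap]
    have : (e : A →+* B).comp (e.symm : B →+* A) = RingHom.id B := by ext; simp
    rw [this, Ideal.comap_id]

/-- Minimal primes of a quotient versus primes minimal over the ideal. -/
theorem card_minimalPrimes_quotient {R : Type*} [CommRing R] (I : Ideal R) :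
    ENat.card (minimalPrimes (R ⧸ I)) = I.minimalPrimes.encard := by
  rw [Ideal.minimalPrimes_eq_comap, Set.InjOn.encard_image]
  · rfl
  · intro P1 _ P2 _ h
    exact Ideal.comap_injective_of_surjective _ Ideal.Quotient.mk_surjective h

/-- Primes minimal over an ideal contained in a prime `Q` give primes minimal over the extended
ideal of the localization at `Q`. -/
theorem encard_minimalPrimes_le_localization {E : Type*} [CommRing E] (I : Ideal E) (Q : Ideal E)
    [Q.IsPrime] (L : Type*) [CommRing L] [Algebra E L] [IsLocalization.AtPrime L Q] :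
    {P' : Ideal E | P' ∈ I.minimalPrimes ∧ P' ≤ Q}.encard ≤
      (I.map (algebraMap E L)).minimalPrimes.encard := by
  apply Set.encard_le_encard_of_injOn (f := fun P' : Ideal E => P'.map (algebraMap E L))
  · rintro P' ⟨hP', hle⟩
    haveI : P'.IsPrime := hP'.1.1
    have hdisj : Disjoint (Q.primeCompl : Set E) (P' : Set E) := by
      rw [Set.disjoint_left]
      intro a ha haP
      exact ha (hle haP)
    rw [IsLocalization.minimalPrimes_map Q.primeCompl L I, Set.mem_preimage,
      IsLocalization.under_map_of_isPrime_disjoint Q.primeCompl L inferInstance hdisj]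
    exact hP'
  · rintro P1 ⟨hP1, hle1⟩ P2 ⟨hP2, hle2⟩ h12
    haveI : P1.IsPrime := hP1.1.1
    haveI : P2.IsPrime := hP2.1.1
    have hdisj : ∀ P' : Ideal E, P' ≤ Q → Disjoint (Q.primeCompl : Set E) (P' : Set E) := by
      intro P' hle
      rw [Set.disjoint_left]
      intro a ha haP
      exact ha (hle haP)
    have h1 := IsLocalization.under_map_of_isPrime_disjoint Q.primeCompl L
      (inferInstance : P1.IsPrime) (hdisj P1 hle1)
    have h2 := IsLocalization.under_map_of_isPrime_disjoint Q.primeCompl L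
      (inferInstance : P2.IsPrime) (hdisj P2 hle2)
    simp only at h12
    rw [← h1, ← h2, h12]

/-- **Relative factorization trick, cardinality form**. -/
theorem exists_etale_of_le_card (R0 : Type u) [CommRing R0] (T : Type u) [CommRing T]
    [IsLocalRing T] [Algebra R0 T] (H : Obj.Factor R0 T) (J0 : Ideal R0) (n : ℕ)
    (hn : (n : ℕ∞) ≤ ENat.card (minimalPrimes (T ⧸ J0.map (algebraMap R0 T)))) :
    ∃ (E : Type u) (_ : CommRing E) (_ : Algebra R0 E) (_ : Algebra.Etale R0 E) (g : E →ₐ[R0] T),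
      (n : ℕ∞) ≤
        {P' : Ideal E | P' ∈ (J0.map (algebraMap R0 E)).minimalPrimes ∧
          P' ≤ (maximalIdeal T).comap g.toRingHom}.encard := by
  classical
  rw [card_minimalPrimes_quotient] at hn
  obtain ⟨t, hts, htn⟩ := Set.exists_subset_encard_eq
    (s := (J0.map (algebraMap R0 T)).minimalPrimes) (k := (n : ℕ∞)) hn
  have htfin : t.Finite := Set.finite_of_encard_eq_coe htn
  have hcard : (htfin.toFinset.card : ℕ∞) = n := by
    rw [← htfin.encard_eq_coe_toFinset_card, htn]
  obtain ⟨E, _, _, _, g, hle⟩ := exists_etale_card_le_ideal R0 T H J0 htfin.toFinset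
    (fun P hP => hts (htfin.mem_toFinset.mp hP)) (maximalIdeal T)
    (fun P hP => le_maximalIdeal (hts (htfin.mem_toFinset.mp hP)).1.1.ne_top)
  rw [hcard] at hle
  exact ⟨E, inferInstance, inferInstance, inferInstance, g, hle⟩

end Groth.Agent.Lib.Helper3.FibBr
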