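import Mathlib
import Groth.Agent.Lib.Helper3FibBrA
import Groth.Agent.Lib.Helper3ShQuot
import Groth.Agent.Lib.Helper3Unibranch
import Groth.Agent.Lib.Helper3GeomUnibranch

set_option linter.style.haveILetI false
set_option autoImplicit false

open TensorProduct IsLocalRing

universe u

namespace Groth.Agent.Lib.Helper3.FibBr

open Groth.Agent.Lib.Helper3 Groth.Agent.Lib.Helper3.EtNbhd

/-- A map of `A`-algebras which is surjective on spectra does not decrease the number of minimal
primes of the quotients by an ideal of `A`. -/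
theorem card_minimalPrimes_quot_le_of_comap_surjective {A B S : Type*} [CommRing A] [CommRing B]
    [CommRing S] [Algebra A B] [Algebra A S] (ρ : B →ₐ[A] S)
    (h : ∀ p : Ideal B, p.IsPrime → ∃ Q : Ideal S, Q.IsPrime ∧ Q.comap ρ.toRingHom = p)
    (J : Ideal A) :
    ENat.card (minimalPrimes (B ⧸ J.map (algebraMap A B))) ≤
      ENat.card (minimalPrimes (S ⧸ J.map (algebraMap A S))) := by
  rw [card_minimalPrimes_quotient, card_minimalPrimes_quotient]
  have hJS : (J.map (algebraMap A B)).map ρ.toRingHom = J.map (algebraMap A S) := by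
    rw [Ideal.map_map]
    congr 1
    exact ρ.comp_algebraMap
  have key : ∀ p : (J.map (algebraMap A B)).minimalPrimes,
      ∃ Q ∈ (J.map (algebraMap A S)).minimalPrimes, Q.comap ρ.toRingHom = p.1 := by
    intro p
    obtain ⟨Q, hQ, hQp⟩ := h p.1 p.2.1.1
    have hle : J.map (algebraMap A S) ≤ Q := by
      rw [← hJS, Ideal.map_le_iff_le_comap, hQp]
      exact p.2.1.2
    obtain ⟨Q', hQ', hle'⟩ := Ideal.exists_minimalPrimes_le hle
    refine ⟨Q', hQ', ?_⟩
    haveI : Q'.IsPrime := hQ'.1.1
    have h1 : Q'.comap ρ.toRingHom ≤ p.1 := by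
      rw [← hQp]
      exact Ideal.comap_mono hle'
    refine le_antisymm h1 (p.2.2 ⟨Ideal.comap_isPrime _ _, ?_⟩ h1)
    rw [← Ideal.map_le_iff_le_comap, hJS]
    exact hQ'.1.2
  choose g hg hg' using key
  refine ENat.card_le_card_of_injective
    (f := fun p => (⟨g p, hg p⟩ : (J.map (algebraMap A S)).minimalPrimes)) ?_
  intro p1 p2 h12
  apply Subtype.ext
  have : g p1 = g p2 := congrArg Subtype.val h12
  rw [← hg' p1, ← hg' p2, this]


/-- The quotient by an extended proper ideal of an essentially étale local algebra has at most as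
many minimal primes as the number of geometric branches of the quotient of the base. -/
theorem card_minimalPrimes_quot_le_numGeomBranches (A : Type u) [CommRing A] [IsLocalRing A]
    (J : Ideal A) [IsLocalRing (A ⧸ J)]
    (B : Type u) [CommRing B] [IsLocalRing B] [Algebra A B]
    (h : EGA4loc.IsEssentiallyEtale A B) :
    ENat.card (minimalPrimes (B ⧸ J.map (algebraMap A B))) ≤ Brnch.numGeomBranches (A ⧸ J) := by
  let Ω := SeparableClosure (ResidueField A)
  letI : Algebra A Ω := ((algebraMap (ResidueField A) Ω).comp (residue A)).toAlgebra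
  haveI : IsScalarTower A (ResidueField A) Ω := IsScalarTower.of_algebraMap_eq (fun _ => rfl)
  have hJtop : J ≠ ⊤ := by
    intro h
    have : Subsingleton (A ⧸ J) := Ideal.Quotient.subsingleton_iff.mpr h
    exact not_subsingleton (A ⧸ J) this
  have hJS : J.map (algebraMap A (Sh.Rsh A Ω)) ≠ ⊤ := by
    intro htop
    have h1 : J.map (algebraMap A (Sh.Rsh A Ω)) ≤ maximalIdeal (Sh.Rsh A Ω) :=
      (Ideal.map_mono (le_maximalIdeal hJtop)).trans
        (((local_hom_TFAE (algebraMap A (Sh.Rsh A Ω))).out 0 2 rfl rfl).mp inferInstance)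
    rw [htop] at h1
    exact (maximalIdeal.isMaximal _).ne_top (top_le_iff.mp h1)
  haveI : IsLocalRing (Sh.Rsh A Ω ⧸ J.map (algebraMap A (Sh.Rsh A Ω))) :=
    haveI : Nontrivial (Sh.Rsh A Ω ⧸ J.map (algebraMap A (Sh.Rsh A Ω))) :=
      Ideal.Quotient.nontrivial_iff.mpr hJS
    IsLocalRing.of_surjective' (Ideal.Quotient.mk _) Ideal.Quotient.mk_surjective
  haveI : IsLocalHom (algebraMap (A ⧸ J) (Sh.Rsh A Ω ⧸ J.map (algebraMap A (Sh.Rsh A Ω)))) := by
    refine ⟨fun a ha => ?_⟩
    obtain ⟨a, rfl⟩ := Ideal.Quotient.mk_surjective a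
    have h1 : algebraMap (A ⧸ J) (Sh.Rsh A Ω ⧸ J.map (algebraMap A (Sh.Rsh A Ω)))
        (Ideal.Quotient.mk J a) = Ideal.Quotient.mk _ (algebraMap A (Sh.Rsh A Ω) a) := rfl
    rw [h1] at ha
    haveI := ShQuot.isLocalHom_mk (J.map (algebraMap A (Sh.Rsh A Ω)))
    have h2 : IsUnit (algebraMap A (Sh.Rsh A Ω) a) := isUnit_of_map_unit _ _ ha
    exact (isUnit_of_map_unit (algebraMap A (Sh.Rsh A Ω)) a h2).map _
  haveI := ShQuot.isStrictHenselization_quotient (A := A) (S := Sh.Rsh A Ω) J
  rw [← Groth.Agent.S9238.result (A ⧸ J) (Sh.Rsh A Ω ⧸ J.map (algebraMap A (Sh.Rsh A Ω)))]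
  obtain ⟨C, _, _, Q, _, hEt, hQ, ⟨e⟩⟩ := h
  haveI hloc : IsLocalHom (algebraMap A (Localization.AtPrime Q)) := by
    refine ⟨fun a ha => ?_⟩
    rw [IsScalarTower.algebraMap_apply A C (Localization.AtPrime Q),
      IsLocalization.AtPrime.isUnit_to_map_iff (Localization.AtPrime Q) Q] at ha
    by_contra hna
    have h1 : a ∈ maximalIdeal A := (mem_maximalIdeal a).mpr hna
    rw [← hQ] at h1
    exact ha h1
  haveI : Algebra.FormallyUnramified A (Localization.AtPrime Q) :=
    Algebra.FormallyUnramified.comp A C (Localization.AtPrime Q)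
  haveI : Algebra.EssFiniteType A (Localization.AtPrime Q) :=
    Algebra.EssFiniteType.comp A C (Localization.AtPrime Q)
  haveI : Algebra.IsSeparable (ResidueField A) (ResidueField (Localization.AtPrime Q)) :=
    inferInstance
  let β₀ : ResidueField (Localization.AtPrime Q) →ₐ[ResidueField A] Ω := IsSepClosed.lift
  let β : ResidueField (Localization.AtPrime Q) →ₐ[A] Ω := β₀.restrictScalars A
  obtain ⟨i, e', -⟩ := Sh.exists_idx (Ω := Ω) (Localization.AtPrime Q) C Q hQ AlgEquiv.refl β
  letI := (Sh.ofL i).toAlgebra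
  haveI : IsLocalHom (algebraMap i.L (Sh.Rsh A Ω)) := inferInstanceAs (IsLocalHom (Sh.ofL i))
  haveI := Sh.isStrictHenselization_L (R := A) (Ω := Ω) i
  haveI : Module.FaithfullyFlat i.L (Sh.Rsh A Ω) := HzP.sh_faithfullyFlat i.L (Sh.Rsh A Ω)
  let ρ : B →ₐ[A] Sh.Rsh A Ω := (Sh.ofLₐ i).comp ((e.trans e' : B ≃ₐ[A] i.L) : B →ₐ[A] i.L)
  refine card_minimalPrimes_quot_le_of_comap_surjective ρ ?_ J
  exact exists_comap_eq_of_equiv_of_faithfullyFlat (S := Sh.Rsh A Ω)
      (e.toRingEquiv.trans e'.toRingEquiv)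


/-- local ring structure and local homomorphism on quotients by an extended proper ideal -/
theorem isLocalRing_quot_map {A S : Type*} [CommRing A] [IsLocalRing A] [CommRing S]
    [IsLocalRing S] [Algebra A S] [IsLocalHom (algebraMap A S)] (J : Ideal A) (hJ : J ≠ ⊤) :
    IsLocalRing (S ⧸ J.map (algebraMap A S)) := by
  have hJS : J.map (algebraMap A S) ≠ ⊤ := by
    intro htop
    have h1 : J.map (algebraMap A S) ≤ maximalIdeal S :=
      (Ideal.map_mono (le_maximalIdeal hJ)).trans
        (((local_hom_TFAE (algebraMap A S)).out 0 2 rfl rfl).mp inferInstance)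
    rw [htop] at h1
    exact (maximalIdeal.isMaximal _).ne_top (top_le_iff.mp h1)
  haveI : Nontrivial (S ⧸ J.map (algebraMap A S)) := Ideal.Quotient.nontrivial_iff.mpr hJS
  exact IsLocalRing.of_surjective' (Ideal.Quotient.mk _) Ideal.Quotient.mk_surjective

theorem isLocalHom_quot_map {A S : Type*} [CommRing A] [IsLocalRing A] [CommRing S]
    [IsLocalRing S] [Algebra A S] [IsLocalHom (algebraMap A S)] (J : Ideal A)
    [IsLocalRing (S ⧸ J.map (algebraMap A S))] :
    IsLocalHom (algebraMap (A ⧸ J) (S ⧸ J.map (algebraMap A S))) := by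
  refine ⟨fun a ha => ?_⟩
  obtain ⟨a, rfl⟩ := Ideal.Quotient.mk_surjective a
  have h1 : algebraMap (A ⧸ J) (S ⧸ J.map (algebraMap A S))
      (Ideal.Quotient.mk J a) = Ideal.Quotient.mk _ (algebraMap A S a) := rfl
  rw [h1] at ha
  haveI := ShQuot.isLocalHom_mk (J.map (algebraMap A S))
  have h2 : IsUnit (algebraMap A S a) := isUnit_of_map_unit _ _ ha
  exact (isUnit_of_map_unit (algebraMap A S) a h2).map _

theorem ne_top_of_isLocalRing_quot {A : Type*} [CommRing A] (J : Ideal A) [IsLocalRing (A ⧸ J)] :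
    J ≠ ⊤ := by
  intro h
  have : Subsingleton (A ⧸ J) := Ideal.Quotient.subsingleton_iff.mpr h
  exact not_subsingleton (A ⧸ J) this

/-- The quotient by an extended proper ideal of a strictly essentially étale local algebra has at
most as many minimal primes as the number of branches of the quotient of the base. -/
theorem card_minimalPrimes_quot_le_numBranches (A : Type u) [CommRing A] [IsLocalRing A]
    (J : Ideal A) [IsLocalRing (A ⧸ J)]
    (B : Type u) [CommRing B] [IsLocalRing B] [Algebra A B] [IsLocalHom (algebraMap A B)]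
    (h : EGA4loc.IsStrictlyEssentiallyEtale A B) :
    ENat.card (minimalPrimes (B ⧸ J.map (algebraMap A B))) ≤ Brnch.numBranches (A ⧸ J) := by
  have hJtop : J ≠ ⊤ := ne_top_of_isLocalRing_quot J
  haveI : IsLocalRing (Hz.Rh A ⧸ J.map (algebraMap A (Hz.Rh A))) := isLocalRing_quot_map J hJtop
  haveI : IsLocalHom (algebraMap (A ⧸ J) (Hz.Rh A ⧸ J.map (algebraMap A (Hz.Rh A)))) :=
    isLocalHom_quot_map J
  haveI := Groth.Agent.S13598.result (A := A) (S := Hz.Rh A) J (le_maximalIdeal hJtop)
  rw [← Groth.Agent.S9237.result (A ⧸ J) (Hz.Rh A ⧸ J.map (algebraMap A (Hz.Rh A)))]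
  obtain ⟨i, ⟨ε⟩⟩ := Hz.exists_idx B h
  letI := (Hz.ofL i).toAlgebra
  haveI : IsLocalHom (algebraMap i.L (Hz.Rh A)) := inferInstanceAs (IsLocalHom (Hz.ofL i))
  haveI : Module.Flat i.L (Hz.Rh A) := Hz.flat_over_L i
  haveI : Module.FaithfullyFlat i.L (Hz.Rh A) := Module.FaithfullyFlat.of_flat_of_isLocalHom
  let ρ : B →ₐ[A] Hz.Rh A := (Hz.ofLₐ i).comp (ε : B →ₐ[A] i.L)
  refine card_minimalPrimes_quot_le_of_comap_surjective ρ ?_ J
  exact exists_comap_eq_of_equiv_of_faithfullyFlat (S := Hz.Rh A) ε.toRingEquiv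

/-- The number of geometric branches is invariant under ring isomorphisms. -/
theorem numGeomBranches_congr {A A' : Type u} [CommRing A] [IsLocalRing A] [CommRing A']
    [IsLocalRing A'] (e : A ≃+* A') : Brnch.numGeomBranches A = Brnch.numGeomBranches A' := by
  obtain ⟨S, _, _, _, _, _⟩ := Branch.exists_isStrictHenselization A
  letI : Algebra A' S := ((algebraMap A S).comp (e.symm : A' →+* A)).toAlgebra
  have he : ∀ r, algebraMap A' S (e r) = algebraMap A S r := by
    intro r
    show algebraMap A S (e.symm (e r)) = _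
    rw [RingEquiv.symm_apply_apply]
  haveI : IsLocalHom (algebraMap A' S) := by
    refine ⟨fun a ha => ?_⟩
    have h1 : IsUnit (algebraMap A S (e.symm a)) := ha
    have h2 := isUnit_of_map_unit (algebraMap A S) _ h1
    have h3 := h2.map (e : A →+* A')
    simpa using h3
  haveI := GeomUnibranch.isStrictHenselization_of_ringEquiv (S := S) e he
  rw [← Groth.Agent.S9238.result A S, ← Groth.Agent.S9238.result A' S]

/-- The number of branches is invariant under ring isomorphisms. -/
theorem numBranches_congr {A A' : Type u} [CommRing A] [IsLocalRing A] [CommRing A']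
    [IsLocalRing A'] (e : A ≃+* A') : Brnch.numBranches A = Brnch.numBranches A' := by
  letI : Algebra A' (Hz.Rh A) := ((algebraMap A (Hz.Rh A)).comp (e.symm : A' →+* A)).toAlgebra
  have he : ∀ r, algebraMap A' (Hz.Rh A) (e r) = algebraMap A (Hz.Rh A) r := by
    intro r
    show algebraMap A (Hz.Rh A) (e.symm (e r)) = _
    rw [RingEquiv.symm_apply_apply]
  haveI : IsLocalHom (algebraMap A' (Hz.Rh A)) := by
    refine ⟨fun a ha => ?_⟩
    have h1 : IsUnit (algebraMap A (Hz.Rh A) (e.symm a)) := ha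
    have h2 := isUnit_of_map_unit (algebraMap A (Hz.Rh A)) _ h1
    have h3 := h2.map (e : A →+* A')
    simpa using h3
  haveI := Unibranch.isHenselization_of_ringEquiv (S := Hz.Rh A) e he
  rw [← Groth.Agent.S9237.result A (Hz.Rh A), ← Groth.Agent.S9237.result A' (Hz.Rh A)]

end Groth.Agent.Lib.Helper3.FibBr
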