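import Mathlib
import Groth.Agent.Lib.Helper18StdEtaleCover

/-!
# Universally open criteria for `Spec B → Spec A` (helper2)

* `image_basicOpen_eq`: for `h = ∑ a'_k ⊗ b_k ∈ A' ⊗[A] B`, the image of `D(h)` in `Spec A'` is the
  preimage (under `x_k ↦ a'_k`) of the image of `D(∑ x_k b_k) ⊆ Spec B[x]` in `Spec A[x]`.
* `universallyOpen_of_ring_crit`, `isOpenMap_of_universallyOpen`: universal openness of
  `Spec B → Spec A` is openness of `Spec (A' ⊗ B) → Spec A'` for all `A`-algebras `A'`.
-/

set_option autoImplicit false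
set_option linter.style.haveILetI false
set_option linter.unusedSectionVars false
universe u

open CategoryTheory TensorProduct MvPolynomial

namespace Groth.Agent.Lib.Helper2.UnivOpen

section Core
variable {A B A' : Type u} [CommRing A] [CommRing B] [CommRing A'] [Algebra A B] [Algebra A A']
variable {σ : Type*} [Fintype σ]

/-- `Ψ : B[σ] → A' ⊗ B`, `X k ↦ a' k ⊗ 1`, `C b ↦ 1 ⊗ b`. -/
noncomputable def Psi (a' : σ → A') : MvPolynomial σ B →+* A' ⊗[A] B :=
  MvPolynomial.eval₂Hom (Algebra.TensorProduct.includeRight : B →ₐ[A] A' ⊗[A] B).toRingHom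
    (fun k => a' k ⊗ₜ 1)

lemma Psi_h0 (a' : σ → A') (b : σ → B) :
    Psi (A := A) a' (∑ k, X k * C (b k)) = ∑ k, a' k ⊗ₜ[A] b k := by
  simp [Psi, Algebra.TensorProduct.tmul_mul_tmul]

lemma Psi_comp_map (a' : σ → A') :
    (Psi (A := A) (B := B) a').comp (MvPolynomial.map (algebraMap A B)) =
      (algebraMap A' (A' ⊗[A] B)).comp (MvPolynomial.aeval a' : MvPolynomial σ A →ₐ[A] A').toRingHom := by
  apply MvPolynomial.ringHom_ext
  · intro a
    simp [Psi, Algebra.algebraMap_eq_smul_one, Algebra.TensorProduct.one_def]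
  · intro k
    simp [Psi, Algebra.TensorProduct.algebraMap_apply]


theorem image_basicOpen_eq (a' : σ → A') (b : σ → B) :
    PrimeSpectrum.comap (algebraMap A' (A' ⊗[A] B)) ''
        (PrimeSpectrum.basicOpen (∑ k, a' k ⊗ₜ[A] b k) : Set (PrimeSpectrum (A' ⊗[A] B))) =
      PrimeSpectrum.comap (MvPolynomial.aeval a' : MvPolynomial σ A →ₐ[A] A').toRingHom ⁻¹'
        (PrimeSpectrum.comap (MvPolynomial.map (algebraMap A B)) ''
          (PrimeSpectrum.basicOpen (∑ k, X k * C (b k)) :
            Set (PrimeSpectrum (MvPolynomial σ B)))) := by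
  ext p'
  constructor
  · rintro ⟨P, hP, rfl⟩
    refine ⟨PrimeSpectrum.comap (Psi a') P, ?_, ?_⟩
    · show (∑ k, X k * C (b k)) ∉ (PrimeSpectrum.comap (Psi (A := A) a') P).asIdeal
      rw [PrimeSpectrum.comap_asIdeal, Ideal.mem_comap, Psi_h0]
      exact hP
    · rw [← PrimeSpectrum.comap_comp_apply, ← PrimeSpectrum.comap_comp_apply, Psi_comp_map]
  · rintro ⟨q, hq, hqp⟩
    let R := MvPolynomial σ A
    letI : Algebra R A' := (MvPolynomial.aeval a' : MvPolynomial σ A →ₐ[A] A').toRingHom.toAlgebra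
    letI : Algebra R (MvPolynomial σ B) := (MvPolynomial.map (algebraMap A B)).toAlgebra
    have hunder : p'.asIdeal.under R = q.asIdeal.under R := by
      have := congrArg PrimeSpectrum.asIdeal hqp
      rw [PrimeSpectrum.comap_asIdeal, PrimeSpectrum.comap_asIdeal] at this
      exact this.symm
    obtain ⟨𝔔, h𝔔, hL, hRr⟩ := Groth.Agent.Lib.Helper18StdEtaleCover.exists_prime_tensor R A'
      (MvPolynomial σ B) p'.asIdeal q.asIdeal hunder
    let T := A' ⊗[R] MvPolynomial σ B
    let f : A' →ₐ[A] T := Algebra.TensorProduct.includeLeft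
    let g : B →ₐ[A] T :=
      { toRingHom := (Algebra.TensorProduct.includeRight : MvPolynomial σ B →ₐ[R] T).toRingHom.comp
          (C : B →+* MvPolynomial σ B)
        commutes' := by
          intro a
          show (1 : A') ⊗ₜ[R] (C (algebraMap A B a) : MvPolynomial σ B) = algebraMap A T a
          rw [Algebra.TensorProduct.algebraMap_apply]
          have h1 : (C (algebraMap A B a) : MvPolynomial σ B) = (C a : R) • (1 : MvPolynomial σ B) := by
            rw [Algebra.smul_def, mul_one]
            show _ = MvPolynomial.map (algebraMap A B) (C a)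
            rw [MvPolynomial.map_C]
          have h2 : (algebraMap A A' a : A') = (C a : R) • (1 : A') := by
            rw [Algebra.smul_def, mul_one]
            show _ = MvPolynomial.aeval a' (C a)
            rw [MvPolynomial.aeval_C]
          rw [h1, h2, TensorProduct.smul_tmul] }
    let θ : A' ⊗[A] B →ₐ[A] T := Algebra.TensorProduct.lift f g (fun _ _ => Commute.all _ _)
    have hθ1 : θ.toRingHom.comp (algebraMap A' (A' ⊗[A] B)) =
        (Algebra.TensorProduct.includeLeft : A' →ₐ[R] T).toRingHom := by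
      ext x
      show θ (algebraMap A' (A' ⊗[A] B) x) = (x ⊗ₜ[R] (1 : MvPolynomial σ B) : T)
      rw [Algebra.TensorProduct.algebraMap_apply]
      show θ (x ⊗ₜ[A] (1 : B)) = _
      rw [Algebra.TensorProduct.lift_tmul]
      show (x ⊗ₜ[R] (1 : MvPolynomial σ B) : T) * ((1 : A') ⊗ₜ[R] (C (1 : B) : MvPolynomial σ B)) = _
      rw [Algebra.TensorProduct.tmul_mul_tmul, mul_one, one_mul, MvPolynomial.C_1]
    have hθ2 : θ.toRingHom.comp (Psi (A := A) a') =
        (Algebra.TensorProduct.includeRight : MvPolynomial σ B →ₐ[R] T).toRingHom := by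
      apply MvPolynomial.ringHom_ext
      · intro y
        show θ (Psi (A := A) a' (C y)) = ((1 : A') ⊗ₜ[R] (C y : MvPolynomial σ B) : T)
        have e1 : Psi (A := A) (B := B) a' (C y) = (1 : A') ⊗ₜ[A] y := by simp [Psi]
        rw [e1, Algebra.TensorProduct.lift_tmul]
        show ((1 : A') ⊗ₜ[R] (1 : MvPolynomial σ B) : T) * ((1 : A') ⊗ₜ[R] (C y : MvPolynomial σ B)) = _
        rw [Algebra.TensorProduct.tmul_mul_tmul, mul_one, one_mul]
      · intro k
        have h1 : (X k : MvPolynomial σ B) = (X k : R) • (1 : MvPolynomial σ B) := by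
          rw [Algebra.smul_def, mul_one]
          show _ = MvPolynomial.map (algebraMap A B) (X k)
          rw [MvPolynomial.map_X]
        have h2 : (a' k : A') = (X k : R) • (1 : A') := by
          rw [Algebra.smul_def, mul_one]
          show _ = MvPolynomial.aeval a' (X k)
          rw [MvPolynomial.aeval_X]
        have h3 : (a' k) ⊗ₜ[R] (1 : MvPolynomial σ B) = (1 : A') ⊗ₜ[R] (X k : MvPolynomial σ B) := by
          rw [h2, TensorProduct.smul_tmul, ← h1]
        show θ (Psi (A := A) a' (X k)) = ((1 : A') ⊗ₜ[R] (X k : MvPolynomial σ B) : T)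
        have e1 : Psi (A := A) (B := B) a' (X k) = a' k ⊗ₜ[A] (1 : B) := by simp [Psi]
        rw [e1, Algebra.TensorProduct.lift_tmul, ← h3]
        show ((a' k) ⊗ₜ[R] (1 : MvPolynomial σ B) : T) * ((1 : A') ⊗ₜ[R] (C (1 : B) : MvPolynomial σ B)) = _
        rw [Algebra.TensorProduct.tmul_mul_tmul, mul_one, one_mul, MvPolynomial.C_1]
    let P : PrimeSpectrum (A' ⊗[A] B) := PrimeSpectrum.comap θ.toRingHom ⟨𝔔, h𝔔⟩
    have hP1 : PrimeSpectrum.comap (algebraMap A' (A' ⊗[A] B)) P = p' := by
      rw [← PrimeSpectrum.comap_comp_apply, hθ1]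
      ext1
      exact hL
    have hP2 : PrimeSpectrum.comap (Psi (A := A) a') P = q := by
      rw [← PrimeSpectrum.comap_comp_apply, hθ2]
      ext1
      exact hRr
    refine ⟨P, ?_, hP1⟩
    intro hP
    apply hq
    have hP' : (∑ k, a' k ⊗ₜ[A] b k) ∈ P.asIdeal := hP
    rw [← Psi_h0] at hP'
    rw [← hP2]
    exact hP'


end Core

section Crit
open AlgebraicGeometry CategoryTheory.Limits MorphismProperty
variable {A B : Type u} [CommRing A] [CommRing B] [Algebra A B]

theorem universallyOpen_of_ring_crit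
    (H : ∀ (A' : Type u) [CommRing A'] [Algebra A A'],
      IsOpenMap (PrimeSpectrum.comap (algebraMap A' (A' ⊗[A] B)))) :
    UniversallyOpen (Spec.map (CommRingCat.ofHom (algebraMap A B))) := by
  refine ⟨universally_mk' _ _ fun {T} g _ ↦ ?_⟩
  wlog hT : ∃ R, T = Spec R generalizing T
  · refine (IsZariskiLocalAtTarget.iff_of_openCover T.affineCover).mpr fun i ↦ ?_
    refine (MorphismProperty.cancel_left_of_respectsIso _
      ((pullbackRightPullbackFstIso ..).inv ≫ (pullbackSymmetry ..).hom) _).mp ?_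
    simpa [Scheme.Cover.pullbackHom] using! this _ _ ⟨_, rfl⟩
  obtain ⟨R, rfl⟩ := hT
  obtain ⟨ψ, rfl⟩ := Spec.map_surjective g
  algebraize [ψ.hom]
  refine (MorphismProperty.cancel_left_of_respectsIso _ (pullbackSpecIso A R B).inv _).mp ?_
  convert_to! topologically _ (Spec.map <| CommRingCat.ofHom (algebraMap R (TensorProduct A R B)))
  · exact pullbackSpecIso_inv_fst ..
  exact H R

theorem isOpenMap_of_universallyOpen
    (h : UniversallyOpen (Spec.map (CommRingCat.ofHom (algebraMap A B))))
    (A' : Type u) [CommRing A'] [Algebra A A'] :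
    IsOpenMap (PrimeSpectrum.comap (algebraMap A' (A' ⊗[A] B))) := by
  have h1 : UniversallyOpen (pullback.fst (Spec.map (CommRingCat.ofHom (algebraMap A A')))
      (Spec.map (CommRingCat.ofHom (algebraMap A B)))) := inferInstance
  have h2 : UniversallyOpen (Spec.map <| CommRingCat.ofHom (algebraMap A' (TensorProduct A A' B))) := by
    rw [← pullbackSpecIso_inv_fst]
    infer_instance
  exact (Spec.map <| CommRingCat.ofHom (algebraMap A' (TensorProduct A A' B))).isOpenMap


theorem isOpenMap_of_basicOpen {R S : Type*} [CommRing R] [CommRing S] (f : R →+* S)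
    (h : ∀ s : S, IsOpen (PrimeSpectrum.comap f '' (PrimeSpectrum.basicOpen s : Set _))) :
    IsOpenMap (PrimeSpectrum.comap f) := by
  rw [PrimeSpectrum.isTopologicalBasis_basic_opens.isOpenMap_iff]
  rintro _ ⟨s, rfl⟩
  exact h s

theorem exists_repr {A B A' : Type*} [CommRing A] [CommRing B] [CommRing A'] [Algebra A B]
    [Algebra A A'] {d : ℕ} (b : Fin d → B) (hb : Submodule.span A (Set.range b) = ⊤)
    (s : A' ⊗[A] B) : ∃ a' : Fin d → A', s = ∑ k, a' k ⊗ₜ[A] b k := by
  induction s using TensorProduct.induction_on with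
  | zero => exact ⟨0, by simp⟩
  | tmul x y =>
    have hy : y ∈ Submodule.span A (Set.range b) := by rw [hb]; trivial
    obtain ⟨c, rfl⟩ := (Submodule.mem_span_range_iff_exists_fun A).mp hy
    refine ⟨fun k => c k • x, ?_⟩
    rw [TensorProduct.tmul_sum]
    refine Finset.sum_congr rfl fun k _ => ?_
    rw [TensorProduct.tmul_smul, TensorProduct.smul_tmul']
  | add x y hx hy =>
    obtain ⟨a1, rfl⟩ := hx
    obtain ⟨a2, rfl⟩ := hy
    refine ⟨a1 + a2, ?_⟩
    simp [TensorProduct.add_tmul, Finset.sum_add_distrib]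

end Crit

end Groth.Agent.Lib.Helper2.UnivOpen
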