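import Mathlib
import Groth.Agent.Lib.Helper4DVRDom

/-!
# Discrete valuation rings through specializations on locally noetherian schemes
-/

open CategoryTheory CategoryTheory.Limits AlgebraicGeometry IsLocalRing TopologicalSpace

universe u

namespace Groth.Agent.Lib.Helper4.DVRSch


/-- The specialization map on stalks is essentially of finite type (it is a localization). -/
lemma essFiniteType_stalkSpecializes {X : Scheme.{u}} {x x' : X} (h : x ⤳ x') :
    (X.presheaf.stalkSpecializes h).hom.EssFiniteType := by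
  obtain ⟨U, hU, hxU, -⟩ := exists_isAffineOpen_mem_and_subset (U := ⊤) (x := x') (by simp)
  have hx : x ∈ U := h.mem_open U.2 hxU
  have h1 : X.presheaf.germ U x' hxU ≫ X.presheaf.stalkSpecializes h = X.presheaf.germ U x hx :=
    TopCat.Presheaf.germ_stalkSpecializes _ _ _
  apply RingHom.EssFiniteType.of_comp (X.presheaf.germ U x' hxU).hom
  rw [← CommRingCat.hom_comp, h1]
  have := hU.isLocalization_stalk ⟨x, hx⟩
  let _ := X.presheaf.algebra_section_stalk (U := U) ⟨x, hx⟩
  have h2 : Algebra.EssFiniteType Γ(X, U) (X.presheaf.stalk x) :=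
    Algebra.EssFiniteType.of_isLocalization _ (hU.primeIdealOf ⟨x, hx⟩).asIdeal.primeCompl
  exact h2

set_option maxHeartbeats 400000 in
/-- **DVRs through specializations.** On a locally noetherian scheme, for a specialization
`x ⤳ x'` with `x ≠ x'` and an essentially finite type field extension `L` of `κ(x)`, there is a
discrete valuation ring `V` of `L` and a local homomorphism `O_{X,x'} → V` compatible with
`O_{X,x'} → O_{X,x} → κ(x) → L`. -/
theorem exists_dvr_stalk {X : Scheme.{u}} [IsLocallyNoetherian X] {x x' : X} (h : x ⤳ x')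
    (hne : x ≠ x') {L : Type u} [Field L] (φ : X.residueField x ⟶ CommRingCat.of L)
    (hφ : φ.hom.EssFiniteType) :
    ∃ (V : ValuationSubring L), IsDiscreteValuationRing V ∧
      ∃ ψ : X.presheaf.stalk x' ⟶ CommRingCat.of V, IsLocalHom ψ.hom ∧
        ψ ≫ CommRingCat.ofHom V.subtype =
          X.presheaf.stalkSpecializes h ≫ X.residue x ≫ φ := by
  let ρ : X.presheaf.stalk x' ⟶ CommRingCat.of L :=
    X.presheaf.stalkSpecializes h ≫ X.residue x ≫ φ
  let 𝔭 : Ideal (X.presheaf.stalk x') := RingHom.ker ρ.hom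
  have h𝔭 : 𝔭.IsPrime := RingHom.ker_isPrime ρ.hom
  let ι : (X.presheaf.stalk x' ⧸ 𝔭) →+* L := RingHom.kerLift ρ.hom
  have hι : Function.Injective ι := RingHom.kerLift_injective ρ.hom
  let _ : Algebra (X.presheaf.stalk x' ⧸ 𝔭) L := ι.toAlgebra
  have hfaith : FaithfulSMul (X.presheaf.stalk x' ⧸ 𝔭) L :=
    (faithfulSMul_iff_algebraMap_injective _ L).mpr hι
  have hιmk : ∀ a, ι (Ideal.Quotient.mk 𝔭 a) = ρ.hom a := fun a => RingHom.kerLift_mk ρ.hom a
  -- `R` is not a field
  have hR : ¬ IsField (X.presheaf.stalk x' ⧸ 𝔭) := by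
    intro hf
    have hmax : 𝔭.IsMaximal := Ideal.Quotient.maximal_of_isField 𝔭 hf
    have h𝔭m : 𝔭 = maximalIdeal (X.presheaf.stalk x') := IsLocalRing.eq_maximalIdeal hmax
    apply hne
    -- compute the image of the point of `Spec L` in two ways
    let pt : Spec (CommRingCat.of L) := closedPoint L
    have e1 : (Spec.map ρ ≫ X.fromSpecStalk x') pt = x := by
      have : Spec.map ρ ≫ X.fromSpecStalk x' = Spec.map φ ≫ X.fromSpecResidueField x := by
        simp only [ρ, Spec.map_comp, Category.assoc, Scheme.fromSpecResidueField,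
          Scheme.SpecMap_stalkSpecializes_fromSpecStalk]
      rw [this, Scheme.Hom.comp_apply, Scheme.fromSpecResidueField_apply]
    have e2 : (Spec.map ρ ≫ X.fromSpecStalk x') pt = x' := by
      rw [Scheme.Hom.comp_apply]
      have : Spec.map ρ pt = closedPoint (X.presheaf.stalk x') := by
        apply PrimeSpectrum.ext
        change Ideal.comap ρ.hom (maximalIdeal L) = maximalIdeal _
        rw [show maximalIdeal L = ⊥ from IsLocalRing.maximalIdeal_eq_bot]
        exact h𝔭m
      rw [this, Scheme.fromSpecStalk_closedPoint]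
    exact e1.symm.trans e2
  -- essentially of finite type
  have hρ : ρ.hom.EssFiniteType := by
    have h1 := essFiniteType_stalkSpecializes h
    have h2 : (X.residue x).hom.EssFiniteType :=
      (RingHom.FiniteType.of_surjective _ (X.residue_surjective x)).essFiniteType
    exact h1.comp (h2.comp hφ)
  have hess : Algebra.EssFiniteType (X.presheaf.stalk x' ⧸ 𝔭) L := by
    have h3 : (ι.comp (Ideal.Quotient.mk 𝔭)).EssFiniteType := by
      have : ι.comp (Ideal.Quotient.mk 𝔭) = ρ.hom := RingHom.ext hιmk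
      rw [this]; exact hρ
    exact RingHom.EssFiniteType.of_comp (Ideal.Quotient.mk 𝔭) h3
  have hNontriv : Nontrivial (X.presheaf.stalk x' ⧸ 𝔭) := Ideal.Quotient.nontrivial_iff.mpr h𝔭.ne_top
  have hloc : IsLocalRing (X.presheaf.stalk x' ⧸ 𝔭) :=
    IsLocalRing.of_surjective' (Ideal.Quotient.mk 𝔭) Ideal.Quotient.mk_surjective
  obtain ⟨V, hVd, hmem, hnon⟩ :=
    DVRDom.exists_dvr_dominating' (R := X.presheaf.stalk x' ⧸ 𝔭) (L := L) hR
  have hmem' : ∀ a, ρ.hom a ∈ V.toSubring := fun a => by
    rw [← hιmk]; exact hmem _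
  let ψ₀ : X.presheaf.stalk x' →+* V := ρ.hom.codRestrict V.toSubring hmem'
  refine ⟨V, hVd, CommRingCat.ofHom ψ₀, ⟨fun a ha => ?_⟩, rfl⟩
  by_contra hna
  have h1 : a ∈ maximalIdeal (X.presheaf.stalk x') := (mem_maximalIdeal a).mpr hna
  have h2 : Ideal.Quotient.mk 𝔭 a ∈ maximalIdeal (X.presheaf.stalk x' ⧸ 𝔭) := by
    rw [mem_maximalIdeal, mem_nonunits_iff]
    intro hu
    exact hna (((IsLocalHom.of_surjective (Ideal.Quotient.mk 𝔭)
      Ideal.Quotient.mk_surjective).map_nonunit a) hu)
  have h3 := hnon _ h2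
  rw [ValuationSubring.mem_nonunits_iff_exists_mem_maximalIdeal] at h3
  obtain ⟨h4, h5⟩ := h3
  have h6 : (⟨algebraMap (X.presheaf.stalk x' ⧸ 𝔭) L (Ideal.Quotient.mk 𝔭 a), h4⟩ : V) = ψ₀ a :=
    Subtype.ext (hιmk a)
  rw [h6] at h5
  exact (mem_maximalIdeal _).mp h5 ha



set_option backward.isDefEq.respectTransparency false in
/-- Morphism form of `exists_dvr_stalk`. -/
theorem exists_dvr_hom {X : Scheme.{u}} [IsLocallyNoetherian X] {x x' : X} (h : x ⤳ x')
    (hne : x ≠ x') {L : Type u} [Field L] (φ : X.residueField x ⟶ CommRingCat.of L)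
    (hφ : φ.hom.EssFiniteType) :
    ∃ (V : ValuationSubring L), IsDiscreteValuationRing V ∧
      ∃ g : Spec (CommRingCat.of V) ⟶ X,
        Spec.map (CommRingCat.ofHom V.subtype) ≫ g = Spec.map φ ≫ X.fromSpecResidueField x ∧
        g (closedPoint V) = x' := by
  obtain ⟨V, hV, ψ, hψ, hψ2⟩ := exists_dvr_stalk h hne φ hφ
  refine ⟨V, hV, Spec.map ψ ≫ X.fromSpecStalk x', ?_, ?_⟩
  · rw [← Spec.map_comp_assoc, hψ2]
    simp only [Spec.map_comp, Category.assoc, Scheme.fromSpecResidueField,
      Scheme.SpecMap_stalkSpecializes_fromSpecStalk]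
  · rw [Scheme.Hom.comp_apply]
    have : Spec.map ψ (closedPoint V) = closedPoint (X.presheaf.stalk x') :=
      comap_closedPoint ψ.hom
    rw [this, Scheme.fromSpecStalk_closedPoint]



/-- topological core -/
lemma exists_specializes_of_noetherianSpace {A B : Type*} [TopologicalSpace A] [TopologicalSpace B]
    [NoetherianSpace A] [QuasiSober A] (k : A → B) (hk : Continuous k) {z : B}
    (hz : z ∈ closure (Set.range k)) : ∃ a : A, k a ⤳ z := by
  have hfin : (irreducibleComponents A).Finite := NoetherianSpace.finite_irreducibleComponents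
  let F : Set B := ⋃ Z ∈ irreducibleComponents A, closure (k '' Z)
  have hF : IsClosed F := hfin.isClosed_biUnion fun _ _ => isClosed_closure
  have himg : Set.range k ⊆ F := by
    rintro _ ⟨u, rfl⟩
    have hmem : u ∈ ⋃₀ irreducibleComponents A := by
      rw [sUnion_irreducibleComponents]; trivial
    obtain ⟨Z, hZ, huZ⟩ := hmem
    exact Set.mem_biUnion hZ (subset_closure ⟨u, huZ, rfl⟩)
  have hzF : z ∈ F := hF.closure_subset_iff.mpr himg hz
  obtain ⟨Z, hZ, hzZ⟩ := Set.mem_iUnion₂.mp hzF
  obtain ⟨η, hη⟩ := QuasiSober.sober hZ.1 (isClosed_of_mem_irreducibleComponents Z hZ)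
  refine ⟨η, specializes_iff_mem_closure.mpr ?_⟩
  have h1 : k '' Z ⊆ closure {k η} := by
    rw [← hη.def]
    refine (image_closure_subset_closure_image hk).trans ?_
    rw [Set.image_singleton]
  exact (closure_minimal h1 isClosed_closure) hzZ




/-- For a quasi-compact morphism `g` with locally noetherian source, every point in the closure of
the range of `g` is a specialization of a point in the range. -/
theorem exists_specializes_of_mem_closure_range {U P : Scheme.{u}} [IsLocallyNoetherian U]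
    (g : U ⟶ P) [QuasiCompact g] {z : P} (hz : z ∈ closure (Set.range g)) :
    ∃ u : U, g u ⤳ z := by
  obtain ⟨W, hW, hzW, -⟩ := exists_isAffineOpen_mem_and_subset (U := ⊤) (x := z) (by simp)
  let U' : U.Opens := g ⁻¹ᵁ W
  have hc : IsCompact (U' : Set U) := g.isCompact_preimage hW.isCompact
  have : CompactSpace (U' : Scheme.{u}) := isCompact_iff_compactSpace.mp hc
  have : IsNoetherian (U' : Scheme.{u}) := { }
  have hz' : z ∈ closure (Set.range (U'.ι ≫ g)) := by
    rw [mem_closure_iff] at hz ⊢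
    intro O hO hzO
    obtain ⟨_, ⟨hpO, hpW⟩, ⟨u, rfl⟩⟩ := hz (O ∩ W) (hO.inter W.2) ⟨hzO, hzW⟩
    exact ⟨g u, hpO, ⟨u, hpW⟩, rfl⟩
  obtain ⟨a, ha⟩ := exists_specializes_of_noetherianSpace (U'.ι ≫ g) (U'.ι ≫ g).continuous hz'
  exact ⟨U'.ι a, ha⟩


end Groth.Agent.Lib.Helper4.DVRSch
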