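import Groth.Agent.Lib.Helper5ProCons

/-!
Lifting generizations along a morphism which is open at a point (EGA IV 1.10.3, first half).
-/

set_option autoImplicit false
universe u

namespace Groth.Agent.Lib.Helper5

open Topology AlgebraicGeometry CategoryTheory
open scoped Set.Notation

/-- In a T0 prespectral quasi-separated space, a point is the intersection of the constructible
sets containing it. -/
theorem eq_of_forall_isConstructible_mem {W : Type*} [TopologicalSpace W] [T0Space W]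
    [PrespectralSpace W] [QuasiSeparatedSpace W] {p q : W}
    (h : ∀ C : Set W, IsConstructible C → p ∈ C → q ∈ C) : q = p := by
  by_contra hne
  obtain ⟨U, hU, hxor⟩ := exists_isOpen_xor_mem hne
  rcases hxor with ⟨hqU, hpU⟩ | ⟨hpU, hqU⟩
  · obtain ⟨D, ⟨hD₁, hD₂⟩, hqD, hDU⟩ :=
      PrespectralSpace.isTopologicalBasis.mem_nhds_iff.mp (hU.mem_nhds hqU)
    have hc : IsConstructible Dᶜ := (hD₂.isConstructible hD₁).compl
    exact h Dᶜ hc (fun hp => hpU (hDU hp)) hqD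
  · obtain ⟨D, ⟨hD₁, hD₂⟩, hpD, hDU⟩ :=
      PrespectralSpace.isTopologicalBasis.mem_nhds_iff.mp (hU.mem_nhds hpU)
    exact hqU (hDU (h D (hD₂.isConstructible hD₁) hpD))

/-- If a morphism of schemes is open at `x`, every generization of `f x` lifts to a
generization of `x`. -/
theorem exists_specializes_of_isOpenAt {X Y : Scheme.{u}} (f : X ⟶ Y) (x : X)
    (hopen : ∀ U ∈ nhds x, f.base '' U ∈ nhds (f.base x)) (y' : Y) (hy' : y' ⤳ f.base x) :
    ∃ x' : X, x' ⤳ x ∧ f.base x' = y' := by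
  classical
  -- affine neighbourhoods
  obtain ⟨V, hV, hyV, -⟩ :=
    TopologicalSpace.Opens.isBasis_iff_nbhd.mp Y.isBasis_affineOpens
      (show f.base x ∈ (⊤ : Y.Opens) from trivial)
  obtain ⟨W, hW, hxW, hWV⟩ :=
    TopologicalSpace.Opens.isBasis_iff_nbhd.mp X.isBasis_affineOpens
      (show x ∈ f ⁻¹ᵁ V from hyV)
  have : IsAffine (V : Scheme.{u}) := hV
  have : IsAffine (W : Scheme.{u}) := hW
  have hy'V : y' ∈ V := hy'.mem_open V.isOpen hyV
  let g : (W : Scheme.{u}) ⟶ (V : Scheme.{u}) := f.resLE V W hWV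
  have hgval : ∀ z : (W : Scheme.{u}), ((g.base z).1 : Y) = f.base z.1 := fun z =>
    Scheme.Hom.coe_resLE_apply f hWV z
  let p' : (V : Scheme.{u}) := ⟨y', hy'V⟩
  let xW : (W : Scheme.{u}) := ⟨x, hxW⟩
  let 𝒟 : Set (Set (W : Scheme.{u})) :=
    {D | IsOpen D ∧ IsCompact D ∧ xW ∈ D} ∪
      {D | ∃ C : Set (V : Scheme.{u}), IsConstructible C ∧ p' ∈ C ∧ D = g.base ⁻¹' C}
  have h𝒟 : ∀ D ∈ 𝒟, IsConstructible D := by
    rintro D (hD | ⟨C, hC, -, rfl⟩)
    · exact hD.2.1.isConstructible hD.1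
    · exact Scheme.Hom.isConstructible_preimage g hC
  by_cases hempty : (⋂₀ 𝒟) = ∅
  · -- impossible, by compactness
    exfalso
    obtain ⟨𝒟', h𝒟', 𝒞', h𝒞', hf𝒟, hf𝒞, hsub⟩ :=
      exists_finite_sInter_subset_sUnion 𝒟 ∅ h𝒟 (by simp) (by rw [hempty]; simp)
    have h𝒞'e : 𝒞' = ∅ := Set.subset_empty_iff.mp h𝒞'
    rw [h𝒞'e, Set.sUnion_empty] at hsub
    -- the open part
    let 𝒟o : Set (Set (W : Scheme.{u})) := {D ∈ 𝒟' | IsOpen D ∧ IsCompact D ∧ xW ∈ D}
    have h𝒟of : 𝒟o.Finite := hf𝒟.subset (fun D hD => hD.1)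
    have hopenD : IsOpen (⋂₀ 𝒟o) := h𝒟of.isOpen_sInter fun D hD => hD.2.1
    have hxD : xW ∈ ⋂₀ 𝒟o := fun D hD => hD.2.2.2
    have hopenX : IsOpen (Subtype.val '' (⋂₀ 𝒟o) : Set X) :=
      W.isOpen.isOpenMap_subtype_val _ hopenD
    have hxX : x ∈ (Subtype.val '' (⋂₀ 𝒟o) : Set X) := ⟨xW, hxD, rfl⟩
    have himg := hopen _ (hopenX.mem_nhds hxX)
    have hy'img : y' ∈ f.base '' (Subtype.val '' (⋂₀ 𝒟o) : Set X) :=
      hy'.mem_open isOpen_interior (mem_interior_iff_mem_nhds.mpr himg) |> interior_subset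
    obtain ⟨_, ⟨z, hz, rfl⟩, hzy⟩ := hy'img
    have hgz : g.base z = p' := Subtype.ext ((hgval z).trans hzy)
    have hzmem : z ∈ ⋂₀ 𝒟' := by
      intro D hD
      rcases h𝒟' hD with hD' | ⟨C, hC, hpC, rfl⟩
      · exact hz D ⟨hD, hD'⟩
      · show g.base z ∈ C
        rw [hgz]
        exact hpC
    exact hsub hzmem
  · obtain ⟨z, hz⟩ := Set.nonempty_iff_ne_empty.mpr hempty
    refine ⟨z.1, ?_, ?_⟩
    · have hspec : z ⤳ xW := by
        rw [specializes_iff_forall_open]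
        intro U hU hxU
        obtain ⟨D, ⟨hD₁, hD₂⟩, hxD, hDU⟩ :=
          PrespectralSpace.isTopologicalBasis.mem_nhds_iff.mp (hU.mem_nhds hxU)
        exact hDU (hz D (Or.inl ⟨hD₁, hD₂, hxD⟩))
      exact hspec.map continuous_subtype_val
    · have hgz : g.base z = p' := by
        apply eq_of_forall_isConstructible_mem
        intro C hC hpC
        exact hz _ (Or.inr ⟨C, hC, hpC, rfl⟩)
      rw [← hgval z, hgz]

end Groth.Agent.Lib.Helper5
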