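import Mathlib
import Groth.Prelude.Def_EGA43
import Groth.Agent.Lib.Helper2UnivOpen
import Groth.Agent.Lib.Helper7UnivOpen
import Groth.Agent.Lib.Helper4DVRSch
import Groth.Agent.S3404
import Groth.Agent.S4925
import Groth.Agent.S4926

/-!
# Universal openness at a point: reduction to polynomial rings and the DVR criterion (helper26)

EGA IV 14.3.3 / 14.5.8 style results for `EGA43.IsUnivOpenAt`.
-/

set_option autoImplicit false
set_option linter.style.haveILetI false
universe u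
open CategoryTheory CategoryTheory.Limits AlgebraicGeometry TensorProduct

namespace Groth.Agent.Lib.Helper26.UnivOpenAt
open EGA43

section Top

/-- Transfer of openness at a point along a commutative square whose target map is open. -/
theorem isOpenAt_of_square {P₀ P Y₀ Y : Type*} [TopologicalSpace P₀] [TopologicalSpace P]
    [TopologicalSpace Y₀] [TopologicalSpace Y] (j : P₀ → P) (i : Y₀ → Y) (s : P → Y) (s₀ : P₀ → Y₀)
    (hj : Continuous j) (hi : IsOpenMap i) (hsq : ∀ p, s (j p) = i (s₀ p)) (p₀ : P₀)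
    (h : IsOpenAt s₀ p₀) : IsOpenAt s (j p₀) := by
  intro U hU
  have h1 : j ⁻¹' U ∈ nhds p₀ := hj.continuousAt.preimage_mem_nhds hU
  have h2 := h _ h1
  have h3 : i '' (s₀ '' (j ⁻¹' U)) ∈ nhds (i (s₀ p₀)) := hi.image_mem_nhds h2
  rw [hsq]
  refine Filter.mem_of_superset h3 ?_
  rintro _ ⟨_, ⟨p, hp, rfl⟩, rfl⟩
  exact ⟨j p, hp, hsq p⟩

theorem isOpenAt_comap_basicOpen {R S : Type*} [CommRing R] [CommRing S] (f : R →+* S)
    (p : PrimeSpectrum S)
    (h : ∀ s : S, s ∉ p.asIdeal →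
      PrimeSpectrum.comap f '' (PrimeSpectrum.basicOpen s : Set (PrimeSpectrum S)) ∈
        nhds (PrimeSpectrum.comap f p)) :
    IsOpenAt (PrimeSpectrum.comap f) p := by
  intro U hU
  obtain ⟨V, hVU, hVo, hpV⟩ := mem_nhds_iff.mp hU
  obtain ⟨_, ⟨s, rfl⟩, hps, hsV⟩ :=
    PrimeSpectrum.isTopologicalBasis_basic_opens.exists_subset_of_mem_open hpV hVo
  exact Filter.mem_of_superset (h s hps) (Set.image_mono (hsV.trans hVU))

end Top

section Ring
open MvPolynomial PrimeSpectrum Groth.Agent.Lib.Helper2.UnivOpen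

/-- Pointwise reduction of universal openness to polynomial rings (ring level). -/
theorem isOpenAt_comap_tensor {A B : Type u} [CommRing A] [CommRing B] [Algebra A B]
    (𝔭 : PrimeSpectrum B)
    (H : ∀ (n : ℕ) (q : PrimeSpectrum (MvPolynomial (Fin n) B)),
        PrimeSpectrum.comap (MvPolynomial.C : B →+* MvPolynomial (Fin n) B) q = 𝔭 →
        IsOpenAt (PrimeSpectrum.comap
          (MvPolynomial.map (algebraMap A B) : MvPolynomial (Fin n) A →+* MvPolynomial (Fin n) B)) q)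
    (A' : Type u) [CommRing A'] [Algebra A A'] (p' : PrimeSpectrum (A' ⊗[A] B))
    (hp' : PrimeSpectrum.comap
      (Algebra.TensorProduct.includeRight : B →ₐ[A] A' ⊗[A] B).toRingHom p' = 𝔭) :
    IsOpenAt (PrimeSpectrum.comap (algebraMap A' (A' ⊗[A] B))) p' := by
  apply isOpenAt_comap_basicOpen
  intro s hs
  obtain ⟨Sf, rfl⟩ := TensorProduct.exists_finset s
  let n := Sf.card
  let e : Fin n ≃ ↥Sf := Sf.equivFin.symm
  have hsum : (Sf.sum fun i => i.1 ⊗ₜ[A] i.2) = ∑ k : Fin n, (e k).1.1 ⊗ₜ[A] (e k).1.2 := by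
    rw [← Finset.sum_coe_sort Sf (fun i => i.1 ⊗ₜ[A] i.2)]
    exact (Equiv.sum_comp e (fun i : ↥Sf => i.1.1 ⊗ₜ[A] i.1.2)).symm
  rw [hsum] at hs ⊢
  rw [image_basicOpen_eq]
  let q : PrimeSpectrum (MvPolynomial (Fin n) B) :=
    PrimeSpectrum.comap (Psi (A := A) (fun k => (e k).1.1)) p'
  have hq1 : PrimeSpectrum.comap (MvPolynomial.C : B →+* MvPolynomial (Fin n) B) q = 𝔭 := by
    rw [← hp', ← PrimeSpectrum.comap_comp_apply]
    congr 1
    ext y
    simp [Psi]
  have hq2 : q ∈ (PrimeSpectrum.basicOpen (∑ k, X k * C ((e k).1.2)) :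
      Set (PrimeSpectrum (MvPolynomial (Fin n) B))) := by
    show (∑ k, X k * C ((e k).1.2)) ∉ q.asIdeal
    rw [PrimeSpectrum.comap_asIdeal, Ideal.mem_comap, Psi_h0]
    exact hs
  have hopen := H n q hq1 _ ((PrimeSpectrum.basicOpen _).isOpen.mem_nhds hq2)
  have hq3 : PrimeSpectrum.comap (MvPolynomial.map (algebraMap A B)) q =
      PrimeSpectrum.comap (MvPolynomial.aeval (fun k => (e k).1.1) :
        MvPolynomial (Fin n) A →ₐ[A] A').toRingHom
        (PrimeSpectrum.comap (algebraMap A' (A' ⊗[A] B)) p') := by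
    rw [← PrimeSpectrum.comap_comp_apply, ← PrimeSpectrum.comap_comp_apply, Psi_comp_map]
  rw [hq3] at hopen
  exact (PrimeSpectrum.continuous_comap _).continuousAt.preimage_mem_nhds hopen

end Ring

section Sch
open Groth.Agent.Lib.Helper7

/-- The DVR criterion of EGA IV 14.5.8 at the point `x`. -/
def DVRCrit {X Y : Scheme.{u}} (f : X ⟶ Y) (x : X) : Prop :=
  ∀ (A : Type u) [CommRing A] [IsDomain A] [IsDiscreteValuationRing A]
    (g : Spec (CommRingCat.of A) ⟶ Y), g.base (IsLocalRing.closedPoint A) = f.base x →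
    ∀ x' : ↥(pullback f g), (pullback.fst f g).base x' = x →
      (pullback.snd f g).base x' = IsLocalRing.closedPoint A →
      ∃ z' : ↥(pullback f g), z' ⤳ x' ∧ (pullback.snd f g).base z' ≠ IsLocalRing.closedPoint A

theorem exists_preimage_of_isPullback {P X Y Z : Scheme.{u}} {a : P ⟶ X} {b : P ⟶ Y} {f : X ⟶ Z}
    {g : Y ⟶ Z} (sq : IsPullback a b f g) (x : X) (y : Y) (h : f.base x = g.base y) :
    ∃ p : P, a.base p = x ∧ b.base p = y := by
  obtain ⟨z, hz1, hz2⟩ := Scheme.Pullback.exists_preimage_pullback x y h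
  refine ⟨sq.isoPullback.inv.base z, ?_, ?_⟩
  · rw [← Scheme.Hom.comp_apply, sq.isoPullback_inv_fst, hz1]
  · rw [← Scheme.Hom.comp_apply, sq.isoPullback_inv_snd, hz2]

theorem asIdeal_eq_bot_of_ne_closedPoint {A : Type*} [CommRing A] [IsDomain A]
    [IsDiscreteValuationRing A] (p : PrimeSpectrum A) (hp : p ≠ IsLocalRing.closedPoint A) :
    p.asIdeal = ⊥ := by
  by_contra hne
  have hmax : p.asIdeal.IsMaximal := Ring.DimensionLEOne.maximalOfPrime hne p.isPrime
  apply hp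
  apply PrimeSpectrum.ext
  exact IsLocalRing.eq_maximalIdeal hmax

theorem eq_of_ne_closedPoint {A : Type*} [CommRing A] [IsDomain A]
    [IsDiscreteValuationRing A] (p q : PrimeSpectrum A) (hp : p ≠ IsLocalRing.closedPoint A)
    (hq : q ≠ IsLocalRing.closedPoint A) : p = q :=
  PrimeSpectrum.ext ((asIdeal_eq_bot_of_ne_closedPoint p hp).trans
    (asIdeal_eq_bot_of_ne_closedPoint q hq).symm)

set_option maxHeartbeats 400000 in
theorem isOpenAt_of_dvrCrit {X Y P Y' : Scheme.{u}} (f : X ⟶ Y) [LocallyOfFiniteType f] (x : X)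
    (hcrit : DVRCrit f x) {a : P ⟶ X} {b : P ⟶ Y'} {g : Y' ⟶ Y} (sq : IsPullback a b f g)
    [IsLocallyNoetherian Y'] (p : P) (hp : a.base p = x) : IsOpenAt b.base p := by
  have hb : LocallyOfFiniteType b :=
    MorphismProperty.of_isPullback (P := @LocallyOfFiniteType) sq inferInstance
  have hb' : LocallyOfFinitePresentation b :=
    (LocallyOfFinitePresentation.iff_locallyOfFiniteType (f := b)).mpr hb
  rw [(Groth.Agent.S3404.result b p).2 hb']
  intro y'' hy''
  by_cases hne : y'' = b.base p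
  · exact ⟨p, specializes_rfl, hne.symm⟩
  obtain ⟨V, hV, h, hh1, hh2⟩ := Groth.Agent.Lib.Helper4.DVRSch.exists_dvr_hom hy'' hne
    (𝟙 (Y'.residueField y'')) (by
      show (RingHom.id _).EssFiniteType
      exact (RingHom.FiniteType.id _).essFiniteType)
  haveI := hV
  let gO : Spec (CommRingCat.of V) ⟶ Y := h ≫ g
  let θ : pullback f gO ⟶ P := sq.lift (pullback.fst f gO) (pullback.snd f gO ≫ h)
    (by rw [pullback.condition, Category.assoc])
  have hθ1 : θ ≫ a = pullback.fst f gO := sq.lift_fst _ _ _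
  have hθ2 : θ ≫ b = pullback.snd f gO ≫ h := sq.lift_snd _ _ _
  have sqO : IsPullback (θ ≫ a) (pullback.snd f gO) f (h ≫ g) := by
    rw [hθ1]; exact IsPullback.of_hasPullback f gO
  have sqθ : IsPullback θ (pullback.snd f gO) b h := IsPullback.of_right sqO hθ2 sq
  obtain ⟨x', hx'1, hx'2⟩ := exists_preimage_of_isPullback sqθ p (IsLocalRing.closedPoint V)
    hh2.symm
  have hgO : gO.base (IsLocalRing.closedPoint V) = f.base x := by
    have e0 : (h ≫ g).base (IsLocalRing.closedPoint V : ↥(Spec (CommRingCat.of ↥V))) =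
        g.base (h.base (IsLocalRing.closedPoint V : ↥(Spec (CommRingCat.of ↥V)))) :=
      Scheme.Hom.comp_apply _ _ _
    refine e0.trans ?_
    rw [hh2, ← hp, ← Scheme.Hom.comp_apply, ← Scheme.Hom.comp_apply, sq.w]
  have hx'3 : (pullback.fst f gO).base x' = x := by
    rw [← hθ1, Scheme.Hom.comp_apply, hx'1, hp]
  obtain ⟨z', hz'1, hz'2⟩ := hcrit V gO hgO x' hx'3 hx'2
  refine ⟨θ.base z', ?_, ?_⟩
  · rw [← hx'1]
    exact hz'1.map θ.continuous
  · rw [← Scheme.Hom.comp_apply, hθ2, Scheme.Hom.comp_apply]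
    -- the generic point
    let pt : ↥(Spec (CommRingCat.of (IsLocalRing.ResidueField (Y'.presheaf.stalk y'')))) :=
      IsLocalRing.closedPoint _
    let η : Spec (CommRingCat.of V) := (Spec.map (CommRingCat.ofHom V.subtype)).base pt
    have hη : η ≠ IsLocalRing.closedPoint V := by
      intro hη
      have h1 : η.asIdeal = ⊥ := by
        show Ideal.comap V.subtype (IsLocalRing.maximalIdeal _) = ⊥
        rw [IsLocalRing.maximalIdeal_eq_bot]
        rw [← RingHom.ker_eq_comap_bot]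
        exact (RingHom.injective_iff_ker_eq_bot _).mp Subtype.val_injective
      rw [hη] at h1
      exact IsDiscreteValuationRing.not_a_field V h1
    rw [eq_of_ne_closedPoint _ η hz'2 hη]
    have e1 : (Spec.map (CommRingCat.ofHom V.subtype) ≫ h).base pt = y'' := by
      rw [hh1, Scheme.Hom.comp_apply, Scheme.fromSpecResidueField_apply]
    rw [Scheme.Hom.comp_apply] at e1
    exact e1

set_option maxHeartbeats 400000 in
theorem isUnivOpenAt_SpecMap_of_ring {A B : Type u} [CommRing A] [CommRing B] [Algebra A B]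
    (𝔭 : PrimeSpectrum B)
    (H : ∀ (A' : Type u) [CommRing A'] [Algebra A A'] (p' : PrimeSpectrum (A' ⊗[A] B)),
      PrimeSpectrum.comap
        (Algebra.TensorProduct.includeRight : B →ₐ[A] A' ⊗[A] B).toRingHom p' = 𝔭 →
      IsOpenAt (PrimeSpectrum.comap (algebraMap A' (A' ⊗[A] B))) p') :
    IsUnivOpenAt (Spec.map (CommRingCat.ofHom (algebraMap A B))) (𝔭 : ↥(Spec (CommRingCat.of B))) := by
  intro Y' g x' hx'
  obtain ⟨_, ⟨V', hV' : IsAffineOpen V', rfl⟩, hyV', -⟩ :=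
    Y'.isBasis_affineOpens.exists_subset_of_mem_open
      (Set.mem_univ ((pullback.snd (Spec.map (CommRingCat.ofHom (algebraMap A B))) g).base x'))
      isOpen_univ
  let i : Spec Γ(Y', V') ⟶ Y' := hV'.fromSpec
  let ψ : CommRingCat.of A ⟶ Γ(Y', V') := Spec.preimage (i ≫ g)
  have hψ : Spec.map ψ = i ≫ g := Spec.map_preimage _
  letI : Algebra A Γ(Y', V') := ψ.hom.toAlgebra
  have hψ' : Spec.map (CommRingCat.ofHom (algebraMap A Γ(Y', V'))) = i ≫ g := hψ
  let φ := CommRingCat.ofHom (algebraMap A B)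
  let ψ' := CommRingCat.ofHom (algebraMap A Γ(Y', V'))
  let j : pullback (Spec.map φ) (Spec.map ψ') ⟶ pullback (Spec.map φ) g :=
    pullback.map (Spec.map φ) (Spec.map ψ') (Spec.map φ) g (𝟙 _) i (𝟙 _) (by simp)
      (by rw [hψ']; simp)
  have hj2 : j ≫ pullback.snd _ _ = pullback.snd _ _ ≫ i := pullback.lift_snd _ _ _
  have hj1 : j ≫ pullback.fst _ _ = pullback.fst _ _ := by
    have := pullback.lift_fst (f := Spec.map φ) (g := g) (pullback.fst (Spec.map φ) (Spec.map ψ') ≫ 𝟙 _)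
      (pullback.snd (Spec.map φ) (Spec.map ψ') ≫ i)
      (by rw [Category.comp_id, Category.assoc, ← hψ']; exact pullback.condition)
    exact this.trans (Category.comp_id _)
  have hrange : x' ∈ Set.range j.base := by
    rw [Scheme.Pullback.range_map]
    refine ⟨⟨_, rfl⟩, ?_⟩
    show _ ∈ Set.range hV'.fromSpec.base
    rw [hV'.range_fromSpec]
    exact hyV'
  obtain ⟨x₁, rfl⟩ := hrange
  let e : pullback (Spec.map φ) (Spec.map ψ') ≅ Spec (CommRingCat.of (Γ(Y', V') ⊗[A] B)) :=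
    pullbackSymmetry _ _ ≪≫ pullbackSpecIso A Γ(Y', V') B
  have he1 : e.hom ≫ Spec.map (CommRingCat.ofHom (algebraMap Γ(Y', V') (Γ(Y', V') ⊗[A] B))) =
      pullback.snd (Spec.map φ) (Spec.map ψ') := by
    simp only [e, Iso.trans_hom, Category.assoc]
    rw [pullbackSpecIso_hom_fst']
    exact pullbackSymmetry_hom_comp_fst _ _
  have he2 : e.hom ≫ Spec.map (CommRingCat.ofHom
      (Algebra.TensorProduct.includeRight : B →ₐ[A] Γ(Y', V') ⊗[A] B).toRingHom) =
      pullback.fst (Spec.map φ) (Spec.map ψ') := by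
    simp only [e, Iso.trans_hom, Category.assoc]
    erw [pullbackSpecIso_hom_snd]
    exact pullbackSymmetry_hom_comp_snd _ _
  let p' : PrimeSpectrum (Γ(Y', V') ⊗[A] B) := e.hom.base x₁
  have hp' : PrimeSpectrum.comap
      (Algebra.TensorProduct.includeRight : B →ₐ[A] Γ(Y', V') ⊗[A] B).toRingHom p' = 𝔭 := by
    have h1 : (e.hom ≫ Spec.map (CommRingCat.ofHom
      (Algebra.TensorProduct.includeRight : B →ₐ[A] Γ(Y', V') ⊗[A] B).toRingHom)).base x₁ = 𝔭 := by
      rw [he2, ← hj1, Scheme.Hom.comp_apply]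
      exact hx'
    rw [Scheme.Hom.comp_apply] at h1
    exact h1
  have hopen := H Γ(Y', V') p' hp'
  have hopen1 : IsOpenAt (pullback.snd (Spec.map φ) (Spec.map ψ')).base x₁ := by
    have h2 : IsOpenAt e.hom.base x₁ :=
      isOpenAt_of_isOpenMap (e.hom.homeomorph.isOpenMap) x₁
    have h3 := isOpenAt_comp _ _ x₁ h2 hopen
    have h4 : (PrimeSpectrum.comap (algebraMap Γ(Y', V') (Γ(Y', V') ⊗[A] B))) ∘ e.hom.base =
        (pullback.snd (Spec.map φ) (Spec.map ψ')).base := by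
      rw [← he1]
      rfl
    rw [← h4]; exact h3
  exact isOpenAt_of_square j.base i.base _ _ j.continuous i.isOpenEmbedding.isOpenMap
    (fun p => by rw [← Scheme.Hom.comp_apply, hj2, Scheme.Hom.comp_apply]) x₁ hopen1

attribute [local instance] MvPolynomial.algebraMvPolynomial in
theorem isPullback_mvPolynomial (A B : Type u) [CommRing A] [CommRing B] [Algebra A B] (n : ℕ) :
    IsPullback (Spec.map (CommRingCat.ofHom (MvPolynomial.C : B →+* MvPolynomial (Fin n) B)))
      (Spec.map (CommRingCat.ofHom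
        (MvPolynomial.map (algebraMap A B) : MvPolynomial (Fin n) A →+* MvPolynomial (Fin n) B)))
      (Spec.map (CommRingCat.ofHom (algebraMap A B)))
      (Spec.map (CommRingCat.ofHom (MvPolynomial.C : A →+* MvPolynomial (Fin n) A))) := by
  apply isPullback_SpecMap_of_isPushout
  exact CommRingCat.isPushout_of_isPushout A B (MvPolynomial (Fin n) A) (MvPolynomial (Fin n) B)

theorem isUnivOpenAt_SpecMap_of_dvrCrit {A B : Type u} [CommRing A] [CommRing B] [Algebra A B]
    [IsNoetherianRing A] [Algebra.FiniteType A B] (𝔭 : PrimeSpectrum B)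
    (hcrit : DVRCrit (Spec.map (CommRingCat.ofHom (algebraMap A B)))
      (𝔭 : ↥(Spec (CommRingCat.of B)))) :
    IsUnivOpenAt (Spec.map (CommRingCat.ofHom (algebraMap A B)))
      (𝔭 : ↥(Spec (CommRingCat.of B))) := by
  apply isUnivOpenAt_SpecMap_of_ring
  intro A' _ _ p' hp'
  refine isOpenAt_comap_tensor 𝔭 ?_ A' p' hp'
  intro n q hq
  have : LocallyOfFiniteType (Spec.map (CommRingCat.ofHom (algebraMap A B))) := by
    rw [HasRingHomProperty.Spec_iff (P := @LocallyOfFiniteType)]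
    exact (RingHom.finiteType_algebraMap (A := A) (B := B)).mpr inferInstance
  have hq' : (Spec.map (CommRingCat.ofHom
      (MvPolynomial.C : B →+* MvPolynomial (Fin n) B))).base q = 𝔭 := hq
  exact isOpenAt_of_dvrCrit _ 𝔭 hcrit (isPullback_mvPolynomial A B n) q hq'

/-- The DVR criterion passes to open charts. -/
theorem dvrCrit_of_openImmersions {X Y X₀ Y₀ : Scheme.{u}} (f : X ⟶ Y) (f₀ : X₀ ⟶ Y₀)
    (i₁ : X₀ ⟶ X) (i₀ : Y₀ ⟶ Y) [IsOpenImmersion i₁] [Mono i₀] (hcomm : f₀ ≫ i₀ = i₁ ≫ f)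
    (x₀ : X₀) (hcrit : DVRCrit f (i₁.base x₀)) : DVRCrit f₀ x₀ := by
  intro O _ _ _ g₀ hg₀ x'₀ h1 h2
  let g : Spec (CommRingCat.of O) ⟶ Y := g₀ ≫ i₀
  let m : pullback f₀ g₀ ⟶ pullback f g :=
    pullback.map f₀ g₀ f g i₁ (𝟙 _) i₀ hcomm (by simp [g])
  have hm1 : m ≫ pullback.fst f g = pullback.fst f₀ g₀ ≫ i₁ := pullback.lift_fst _ _ _
  have hm2 : m ≫ pullback.snd f g = pullback.snd f₀ g₀ :=
    (pullback.lift_snd _ _ _).trans (Category.comp_id _)
  have hg : g.base (IsLocalRing.closedPoint O) = f.base (i₁.base x₀) := by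
    have e0 : (g₀ ≫ i₀).base (IsLocalRing.closedPoint O : ↥(Spec (CommRingCat.of O))) =
        i₀.base (g₀.base (IsLocalRing.closedPoint O : ↥(Spec (CommRingCat.of O)))) :=
      Scheme.Hom.comp_apply _ _ _
    refine e0.trans ?_
    rw [hg₀, ← Scheme.Hom.comp_apply, ← Scheme.Hom.comp_apply, hcomm]
  have hx1 : (pullback.fst f g).base (m.base x'₀) = i₁.base x₀ := by
    rw [← Scheme.Hom.comp_apply, hm1, Scheme.Hom.comp_apply, h1]
  have hx2 : (pullback.snd f g).base (m.base x'₀) = IsLocalRing.closedPoint O := by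
    rw [← Scheme.Hom.comp_apply, hm2, h2]
  obtain ⟨z', hz'1, hz'2⟩ := hcrit O g hg (m.base x'₀) hx1 hx2
  have hmem : z' ∈ Set.range m.base :=
    hz'1.mem_open m.isOpenEmbedding.isOpen_range ⟨x'₀, rfl⟩
  obtain ⟨z'₀, rfl⟩ := hmem
  refine ⟨z'₀, ?_, ?_⟩
  · exact (m.isOpenEmbedding.isInducing.specializes_iff).mp hz'1
  · rw [← hm2, Scheme.Hom.comp_apply]
    exact hz'2

theorem isUnivOpenAt_of_universallyOpen {X Y : Scheme.{u}} (f : X ⟶ Y) [UniversallyOpen f]
    (x : X) : IsUnivOpenAt f x := by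
  intro Y' g x' _
  exact isOpenAt_of_isOpenMap (pullback.snd f g).isOpenMap x'

set_option maxHeartbeats 400000 in
theorem isUnivOpenAt_of_dvrCrit {X Y : Scheme.{u}} [IsLocallyNoetherian Y] (f : X ⟶ Y)
    [LocallyOfFiniteType f] (x : X) (hcrit : DVRCrit f x) : IsUnivOpenAt f x := by
  obtain ⟨_, ⟨V, hV : IsAffineOpen V, rfl⟩, hyV, -⟩ :=
    Y.isBasis_affineOpens.exists_subset_of_mem_open (Set.mem_univ (f.base x)) isOpen_univ
  obtain ⟨_, ⟨W, hW : IsAffineOpen W, rfl⟩, hxW, hWV⟩ :=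
    X.isBasis_affineOpens.exists_subset_of_mem_open (show x ∈ ((f ⁻¹ᵁ V : X.Opens) : Set X) from hyV)
      (f ⁻¹ᵁ V).isOpen
  have e : W ≤ f ⁻¹ᵁ V := hWV
  let φ : Γ(Y, V) ⟶ Γ(X, W) := f.appLE V W e
  letI : Algebra Γ(Y, V) Γ(X, W) := φ.hom.toAlgebra
  have hφ : CommRingCat.ofHom (algebraMap Γ(Y, V) Γ(X, W)) = φ := rfl
  have hN : IsNoetherianRing Γ(Y, V) := IsLocallyNoetherian.component_noetherian ⟨V, hV⟩
  have hft : Algebra.FiniteType Γ(Y, V) Γ(X, W) := by
    have := HasRingHomProperty.appLE (P := @LocallyOfFiniteType) f inferInstance ⟨V, hV⟩ ⟨W, hW⟩ e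
    exact (RingHom.finiteType_algebraMap (A := Γ(Y, V)) (B := Γ(X, W))).mp this
  have hcomm : Spec.map φ ≫ hV.fromSpec = hW.fromSpec ≫ f :=
    IsAffineOpen.SpecMap_appLE_fromSpec f hV hW e
  have hx : x ∈ Set.range hW.fromSpec.base := by
    rw [hW.range_fromSpec]; exact hxW
  obtain ⟨𝔭, rfl⟩ := hx
  have h1 : DVRCrit (Spec.map (CommRingCat.ofHom (algebraMap Γ(Y, V) Γ(X, W)))) 𝔭 :=
    dvrCrit_of_openImmersions f _ hW.fromSpec hV.fromSpec hcomm 𝔭 hcrit
  have h2 := isUnivOpenAt_SpecMap_of_dvrCrit (A := Γ(Y, V)) (B := Γ(X, W)) 𝔭 h1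
  have h3 : IsUnivOpenAt (Spec.map φ ≫ hV.fromSpec) 𝔭 :=
    Groth.Agent.S4925.result _ _ _ h2 (isUnivOpenAt_of_universallyOpen _ _)
  rw [hcomm] at h3
  exact Groth.Agent.S4926.result _ _ _ h3

end Sch

end Groth.Agent.Lib.Helper26.UnivOpenAt
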