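import Mathlib
import Groth.Prelude.Def_CAlg2
import Groth.Agent.Lib.Helper4Unibranch
import Groth.Agent.Lib.Helper3GURed
import Groth.Agent.Lib.Helper26UnivOpenAt

/-!
# Affine space over a geometrically unibranch point is geometrically unibranch (helper6)

EGA IV 14.4.? / S4936.
-/

set_option autoImplicit false
set_option linter.style.haveILetI false
universe u v
open IsLocalRing

namespace Groth.Agent.Lib.Helper6.Uni

open Groth.Agent.Lib.Helper4.Unibranch Groth.Agent.Lib.Helper4.Branches
open Groth.Agent.Lib.Helper3.GURed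

section DomainCase
open MvPolynomial
attribute [local instance] MvPolynomial.algebraMvPolynomial
attribute [local instance] Groth.Agent.Lib.Helper4.Unibranch.fieldQuotMax

theorem toAlgClosure_eq_zero_iff {B : Type*} [CommRing B] [IsLocalRing B] (b : B) :
    toAlgClosure B b = 0 ↔ b ∈ maximalIdeal B := by
  unfold toAlgClosure
  rw [RingHom.comp_apply]
  have hinj : Function.Injective (algebraMap (B ⧸ maximalIdeal B)
      (AlgebraicClosure (B ⧸ maximalIdeal B))) := FaithfulSMul.algebraMap_injective _ _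
  rw [← Ideal.Quotient.eq_zero_iff_mem]
  constructor
  · intro h
    exact hinj (by rw [h, map_zero])
  · intro h
    rw [h, map_zero]

set_option maxHeartbeats 1000000 in
/-- **Polynomial rings over a geometrically unibranch local domain** are geometrically unibranch at
the primes lying over the maximal ideal. -/
theorem isGeomUnibranch_mvPolynomial_of_isDomain {R₀ : Type (max u v)} [CommRing R₀] [IsDomain R₀]
    [IsLocalRing R₀] {σ : Type v} (hR : CAlg2.IsGeomUnibranch R₀)
    (q₀ : Ideal (MvPolynomial σ R₀)) [q₀.IsPrime]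
    (hq : q₀.comap (C : R₀ →+* MvPolynomial σ R₀) = maximalIdeal R₀) :
    CAlg2.IsGeomUnibranch (Localization.AtPrime q₀) := by
  classical
  let K := FractionRing R₀
  let R' := integralClosure R₀ K
  obtain ⟨hloc, hpow⟩ := (isGeomUnibranch_iff_of_isDomain R₀ K).mp hR
  haveI := hloc
  let P₀ := MvPolynomial σ R₀
  let PK := MvPolynomial σ K
  let P' := MvPolynomial σ R'
  let L := FractionRing P₀
  let B₀ := Localization.AtPrime q₀
  rw [isGeomUnibranch_iff_of_isDomain B₀ L]
  -- `PK → L`
  let M₀ : Submonoid P₀ := (nonZeroDivisors R₀).map (C : R₀ →+* P₀)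
  haveI : IsLocalization M₀ PK := MvPolynomial.isLocalization (nonZeroDivisors R₀) K
  have hM₀ : M₀ ≤ nonZeroDivisors P₀ := by
    rintro _ ⟨a, ha, rfl⟩
    apply mem_nonZeroDivisors_of_ne_zero
    intro h0
    have : (C a : P₀) = C 0 := by rw [C_0]; exact h0
    exact nonZeroDivisors.ne_zero ha (C_injective σ R₀ this)
  letI algKL : Algebra PK L :=
    IsLocalization.localizationAlgebraOfSubmonoidLe PK L M₀ (nonZeroDivisors P₀) hM₀
  haveI : IsScalarTower P₀ PK L :=
    IsLocalization.localization_isScalarTower_of_submonoid_le PK L M₀ (nonZeroDivisors P₀) hM₀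
  haveI : IsFractionRing PK L :=
    IsFractionRing.isFractionRing_of_isDomain_of_isLocalization M₀ PK L
  haveI : IsIntegrallyClosed PK := inferInstance
  let S := integralClosure B₀ L
  -- the map from `R'[σ]`
  let θ₀ : P' →+* L := (algebraMap PK L).comp (MvPolynomial.map (algebraMap R' K))
  have hθint : ∀ f' : P', IsIntegral P₀ (θ₀ f') := by
    intro f'
    have h1 : IsIntegral P₀ (MvPolynomial.map (algebraMap R' K) f') := by
      rw [MvPolynomial.isIntegral_iff_isIntegral_coeff]
      intro n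
      rw [MvPolynomial.coeff_map]
      exact (f'.coeff n).2
    exact h1.algebraMap
  have hθ : ∀ f' : P', θ₀ f' ∈ S := fun f' => (hθint f').tower_top
  let θ : P' →+* S := θ₀.codRestrict S hθ
  have hθval : ∀ f', (θ f' : L) = θ₀ f' := fun f' => rfl
  -- the base ring inside `S`
  have hbase : ∀ p : P₀, ((algebraMap B₀ S (algebraMap P₀ B₀ p) : S) : L) = algebraMap P₀ L p := by
    intro p
    rw [IsScalarTower.algebraMap_apply P₀ B₀ L]
    rfl
  have hθC : ∀ a : R₀, θ (C (algebraMap R₀ R' a)) = algebraMap B₀ S (algebraMap P₀ B₀ (C a)) := by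
    intro a
    apply Subtype.ext
    rw [hbase, hθval]
    show algebraMap PK L (MvPolynomial.map (algebraMap R' K) (C (algebraMap R₀ R' a))) = _
    rw [MvPolynomial.map_C, ← IsScalarTower.algebraMap_apply R₀ R' K,
      IsScalarTower.algebraMap_apply P₀ PK L, MvPolynomial.algebraMap_def, MvPolynomial.map_C]
  have hθX : ∀ i : σ, θ (X i) = algebraMap B₀ S (algebraMap P₀ B₀ (X i)) := by
    intro i
    apply Subtype.ext
    rw [hbase, hθval]
    show algebraMap PK L (MvPolynomial.map (algebraMap R' K) (X i)) = _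
    rw [MvPolynomial.map_X, IsScalarTower.algebraMap_apply P₀ PK L, MvPolynomial.algebraMap_def,
      MvPolynomial.map_X]
  -- every element of `S` is a fraction of an element of `R'[σ]`
  have hfrac : ∀ x : S, ∃ s : P₀, s ∉ q₀ ∧ ∃ f' : P',
      algebraMap B₀ S (algebraMap P₀ B₀ s) * x = θ f' := by
    intro x
    obtain ⟨⟨s, hs⟩, hsx⟩ :=
      IsIntegral.exists_multiple_integral_of_isLocalization q₀.primeCompl x.1 x.2
    rw [Submonoid.smul_def, Algebra.smul_def] at hsx
    have hsx' : IsIntegral PK (algebraMap P₀ L s * x.1) := hsx.tower_top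
    obtain ⟨f, hf⟩ := IsIntegrallyClosed.algebraMap_eq_of_integral hsx'
    have hfint : IsIntegral P₀ f := by
      rw [← isIntegral_algebraMap_iff (FaithfulSMul.algebraMap_injective PK L), hf]
      exact hsx
    have hcoef : ∀ n, IsIntegral R₀ (f.coeff n) :=
      MvPolynomial.isIntegral_iff_isIntegral_coeff.mp hfint
    have hrange : f ∈ Set.range (MvPolynomial.map (algebraMap R' K)) := by
      rw [MvPolynomial.mem_range_map_iff_coeffs_subset]
      intro c hc
      rw [Finset.mem_coe, MvPolynomial.mem_coeffs_iff] at hc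
      obtain ⟨n, -, rfl⟩ := hc
      exact ⟨⟨f.coeff n, hcoef n⟩, rfl⟩
    obtain ⟨f', hf'⟩ := hrange
    refine ⟨s, hs, f', Subtype.ext ?_⟩
    rw [hθval]
    show ((algebraMap B₀ S (algebraMap P₀ B₀ s) : S) : L) * x.1 = algebraMap PK L (MvPolynomial.map _ f')
    rw [hbase, hf', hf]
  -- uniqueness of points
  suffices H : ∀ τ₁ τ₂ : S →+* AlgebraicClosure (B₀ ⧸ maximalIdeal B₀),
      τ₁.comp (algebraMap B₀ S) = toAlgClosure B₀ → τ₂.comp (algebraMap B₀ S) = toAlgClosure B₀ →
      τ₁ = τ₂ from isLocalRing_and_powMem_of_unique (R := B₀) (S := S) H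
  intro τ₁ τ₂ h₁ h₂
  have hτ : ∀ (τ : S →+* AlgebraicClosure (B₀ ⧸ maximalIdeal B₀)),
      τ.comp (algebraMap B₀ S) = toAlgClosure B₀ → ∀ b : B₀, τ (algebraMap B₀ S b) = toAlgClosure B₀ b :=
    fun τ h b => congrArg (fun g : B₀ →+* _ => g b) h
  have hc0 : ∀ b : B₀, toAlgClosure B₀ b = 0 ↔ b ∈ maximalIdeal B₀ := toAlgClosure_eq_zero_iff
  have hA : τ₁.comp θ = τ₂.comp θ := by
    apply MvPolynomial.ringHom_ext
    · intro r'
      let ρ₁ : R' →+* AlgebraicClosure (B₀ ⧸ maximalIdeal B₀) := (τ₁.comp θ).comp C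
      let ρ₂ : R' →+* AlgebraicClosure (B₀ ⧸ maximalIdeal B₀) := (τ₂.comp θ).comp C
      have hρ : ∀ (τ : S →+* AlgebraicClosure (B₀ ⧸ maximalIdeal B₀)),
          τ.comp (algebraMap B₀ S) = toAlgClosure B₀ → ∀ a : R₀,
          ((τ.comp θ).comp C) (algebraMap R₀ R' a) = toAlgClosure B₀ (algebraMap P₀ B₀ (C a)) := by
        intro τ h a
        simp only [RingHom.comp_apply]
        rw [hθC, hτ τ h]
      have h12 : ρ₁ = ρ₂ := by
        refine ringHom_ext_of_powMem hpow ρ₁ ρ₂ ?_ ?_
        · ext a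
          have e1 := hρ τ₁ h₁ a
          have e2 := hρ τ₂ h₂ a
          exact e1.trans e2.symm
        · ext a
          rw [RingHom.mem_ker]
          have e1 : (ρ₁.comp (algebraMap R₀ R')) a = toAlgClosure B₀ (algebraMap P₀ B₀ (C a)) :=
            hρ τ₁ h₁ a
          rw [e1, hc0, IsLocalization.AtPrime.to_map_mem_maximal_iff B₀ q₀, ← hq, Ideal.mem_comap]
      exact congrArg (fun g : R' →+* _ => g r') h12
    · intro i
      simp only [RingHom.comp_apply]
      rw [hθX, hτ τ₁ h₁, hτ τ₂ h₂]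
  ext x
  obtain ⟨s, hs, f', hx⟩ := hfrac x
  have e1 : τ₁ (algebraMap B₀ S (algebraMap P₀ B₀ s)) * τ₁ x = τ₁ (θ f') := by rw [← map_mul, hx]
  have e2 : τ₂ (algebraMap B₀ S (algebraMap P₀ B₀ s)) * τ₂ x = τ₂ (θ f') := by rw [← map_mul, hx]
  have e3 : τ₁ (θ f') = τ₂ (θ f') := congrArg (fun g : P' →+* _ => g f') hA
  rw [hτ τ₁ h₁] at e1
  rw [hτ τ₂ h₂] at e2
  have hne : toAlgClosure B₀ (algebraMap P₀ B₀ s) ≠ 0 := by
    rw [Ne, hc0, IsLocalization.AtPrime.to_map_mem_maximal_iff B₀ q₀]
    exact hs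
  exact mul_left_cancel₀ hne (e1.trans (e3.trans e2.symm))

end DomainCase


open MvPolynomial

/-- geometric unibranchness can be checked on the reduction -/
theorem isGeomUnibranch_of_red (R : Type u) [CommRing R] [IsLocalRing R]
    (h : CAlg2.IsGeomUnibranch (CAlg2.red R)) : CAlg2.IsGeomUnibranch R := by
  have hnil : nilradical (CAlg2.red R) = ⊥ := nilradical_eq_zero _
  let e : CAlg2.red R ≃+* CAlg2.red (CAlg2.red R) :=
    (RingEquiv.quotientBot (CAlg2.red R)).symm.trans (Ideal.quotEquivOfEq hnil.symm)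
  have he : ∀ r, e r = Ideal.Quotient.mk _ r := fun r => rfl
  let Ψ : CAlg2.normRed (CAlg2.red R) ≃+* CAlg2.normRed R := normalizationEquiv e.symm
  let g : CAlg2.red R →+* CAlg2.normRed R := algebraMap (CAlg2.red R) (CAlg2.normRed R)
  have hg : ∀ a, Ψ (algebraMap (CAlg2.red (CAlg2.red R)) (CAlg2.normRed (CAlg2.red R))
      (Ideal.Quotient.mk _ a)) = g a := by
    intro a
    show normalizationEquiv e.symm _ = _
    rw [normalizationEquiv_algebraMap, ← he, e.symm_apply_apply]
  rw [isGeomUnibranch_iff_of_ringEquiv (CAlg2.red R) Ψ g hg] at h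
  obtain ⟨hd, hl, hp⟩ := h
  refine ⟨⟨MulEquiv.isDomain (CAlg2.red (CAlg2.red R)) e.toMulEquiv, hl⟩, ?_⟩
  intro M hM x
  obtain ⟨n, a, ha⟩ := hp M x
  obtain ⟨r, rfl⟩ := Ideal.Quotient.mk_surjective a
  exact ⟨n, r, ha⟩

/-- **Polynomial rings over a geometrically unibranch local ring** are geometrically unibranch at
the primes lying over the maximal ideal. -/
theorem isGeomUnibranch_mvPolynomial {R : Type (max u v)} [CommRing R] [IsLocalRing R] {σ : Type v}
    (hR : CAlg2.IsGeomUnibranch R) (q : Ideal (MvPolynomial σ R)) [q.IsPrime]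
    (hq : q.comap (C : R →+* MvPolynomial σ R) = maximalIdeal R) :
    CAlg2.IsGeomUnibranch (Localization.AtPrime q) := by
  have hR₀ := isGeomUnibranch_red R hR
  haveI : IsDomain (CAlg2.red R) := hR.1.1
  let π : MvPolynomial σ R →+* MvPolynomial σ (CAlg2.red R) :=
    MvPolynomial.map (Ideal.Quotient.mk (nilradical R))
  have hπs : Function.Surjective π :=
    MvPolynomial.map_surjective _ Ideal.Quotient.mk_surjective
  have hkernil : RingHom.ker π ≤ nilradical (MvPolynomial σ R) := by
    rw [MvPolynomial.ker_map, Ideal.mk_ker, Ideal.map_le_iff_le_comap]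
    intro a ha
    rw [Ideal.mem_comap, mem_nilradical]
    exact (mem_nilradical.mp ha).map C
  have hkerq : RingHom.ker π ≤ q := hkernil.trans (nilradical_le_prime q)
  let q₀ : Ideal (MvPolynomial σ (CAlg2.red R)) := q.map π
  haveI hq₀p : q₀.IsPrime := Ideal.map_isPrime_of_surjective hπs hkerq
  have hq₀c : q₀.comap π = q := by
    rw [Ideal.comap_map_of_surjective' _ hπs, sup_eq_left]
    exact hkerq
  haveI : IsLocalHom (Ideal.Quotient.mk (nilradical R)) :=
    IsLocalHom.of_surjective _ Ideal.Quotient.mk_surjective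
  have hq₀ : q₀.comap (C : CAlg2.red R →+* MvPolynomial σ (CAlg2.red R)) =
      maximalIdeal (CAlg2.red R) := by
    ext x
    obtain ⟨a, rfl⟩ := Ideal.Quotient.mk_surjective x
    rw [Ideal.mem_comap]
    have h1 : (C (Ideal.Quotient.mk (nilradical R) a) : MvPolynomial σ (CAlg2.red R)) = π (C a) := by
      show _ = MvPolynomial.map _ (C a)
      rw [MvPolynomial.map_C]
    rw [h1, ← Ideal.mem_comap, hq₀c, ← Ideal.mem_comap, hq]
    constructor
    · intro ha
      rw [mem_maximalIdeal, mem_nonunits_iff] at ha ⊢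
      intro hu
      exact ha ((isUnit_map_iff (Ideal.Quotient.mk (nilradical R)) a).mp hu)
    · intro ha
      rw [mem_maximalIdeal, mem_nonunits_iff] at ha ⊢
      intro hu
      exact ha (hu.map _)
  have hD := isGeomUnibranch_mvPolynomial_of_isDomain hR₀ q₀ hq₀
  -- the map on localizations
  let B := Localization.AtPrime q
  let B₀ := Localization.AtPrime q₀
  let g : B →+* B₀ := Localization.localRingHom q q₀ π hq₀c.symm
  have hgs : Function.Surjective g :=
    (RingHom.surjectiveOnStalks_of_surjective hπs).localRingHom_surjective q q₀ hq₀c.symm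
  have hgk : RingHom.ker g = nilradical B := by
    apply le_antisymm
    · intro x hx
      obtain ⟨p, s, rfl⟩ := IsLocalization.exists_mk'_eq q.primeCompl x
      rw [RingHom.mem_ker, Localization.localRingHom_mk', IsLocalization.mk'_eq_zero_iff] at hx
      obtain ⟨c, hc⟩ := hx
      have hc0 : (c : MvPolynomial σ (CAlg2.red R)) ≠ 0 := fun h0 => c.2 (h0 ▸ q₀.zero_mem)
      have hp0 : π p = 0 := by
        rcases mul_eq_zero.mp hc with h | h
        · exact absurd h hc0
        · exact h
      obtain ⟨k, hk⟩ := mem_nilradical.mp (hkernil hp0)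
      rw [mem_nilradical]
      refine ⟨k, ?_⟩
      rw [← IsLocalization.mk'_pow, hk, IsLocalization.mk'_zero]
    · intro x hx
      rw [RingHom.mem_ker]
      exact ((mem_nilradical.mp hx).map g).eq_zero
  let e : CAlg2.red B ≃+* B₀ :=
    (Ideal.quotEquivOfEq hgk.symm).trans (RingHom.quotientKerEquivOfSurjective hgs)
  have h1 : CAlg2.IsGeomUnibranch (CAlg2.red B) := isGeomUnibranch_of_ringEquiv e.symm hD
  exact isGeomUnibranch_of_red B h1


section NonLocal
attribute [local instance] MvPolynomial.algebraMvPolynomial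

/-- **Polynomial rings over a ring which is geometrically unibranch at a prime `p`** are
geometrically unibranch at every prime lying over `p`. -/
theorem isGeomUnibranch_mvPolynomial_localization {A : Type (max u v)} [CommRing A] {σ : Type v}
    (Q : Ideal (MvPolynomial σ A)) [Q.IsPrime]
    (hA : CAlg2.IsGeomUnibranch
      (Localization.AtPrime (Q.comap (C : A →+* MvPolynomial σ A)))) :
    CAlg2.IsGeomUnibranch (Localization.AtPrime Q) := by
  let p : Ideal A := Q.comap (C : A →+* MvPolynomial σ A)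
  let R := Localization.AtPrime p
  let PA := MvPolynomial σ A
  let PR := MvPolynomial σ R
  let M : Submonoid PA := p.primeCompl.map (C : A →+* PA)
  haveI hloc : IsLocalization M PR := MvPolynomial.isLocalization p.primeCompl R
  have hdisj : Disjoint (M : Set PA) (Q : Set PA) := by
    rw [Set.disjoint_left]
    rintro _ ⟨s, hs, rfl⟩ hmem
    exact hs hmem
  let Q' : Ideal PR := Q.map (algebraMap PA PR)
  haveI hQ'p : Q'.IsPrime := IsLocalization.isPrime_of_isPrime_disjoint M PR Q inferInstance hdisj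
  have hQ'c : Q'.comap (algebraMap PA PR) = Q :=
    IsLocalization.under_map_of_isPrime_disjoint M PR inferInstance hdisj
  have hQ'm : Q'.comap (C : R →+* PR) = maximalIdeal R := by
    have h1 : (Q'.comap (C : R →+* PR)).comap (algebraMap A R) = p := by
      rw [Ideal.comap_comap]
      have : (C : R →+* PR).comp (algebraMap A R) = (algebraMap PA PR).comp (C : A →+* PA) := by
        refine RingHom.ext (fun a => ?_)
        show C (algebraMap A R a) = algebraMap PA PR (C a)
        rw [MvPolynomial.algebraMap_def, MvPolynomial.map_C]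
      rw [this, ← Ideal.comap_comap, hQ'c]
    rw [← IsLocalization.map_under p.primeCompl R (Q'.comap (C : R →+* PR)), Ideal.under_def, h1,
      Localization.AtPrime.map_eq_maximalIdeal]
  have hG := isGeomUnibranch_mvPolynomial hA Q' hQ'm
  haveI : IsLocalization.AtPrime (Localization.AtPrime Q') (Q'.comap (algebraMap PA PR)) :=
    IsLocalization.isLocalization_isLocalization_atPrime_isLocalization M
      (Localization.AtPrime Q') Q'
  have hsub : (Q'.comap (algebraMap PA PR)).primeCompl = Q.primeCompl :=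
    Submonoid.ext (fun x => by
      show x ∉ Q'.comap (algebraMap PA PR) ↔ x ∉ Q
      rw [hQ'c])
  have hloc2 : IsLocalization Q.primeCompl (Localization.AtPrime Q') :=
    hsub ▸ ‹IsLocalization.AtPrime (Localization.AtPrime Q') (Q'.comap (algebraMap PA PR))›
  haveI := hloc2
  let e : Localization.AtPrime Q ≃ₐ[PA] Localization.AtPrime Q' :=
    IsLocalization.algEquiv Q.primeCompl _ _
  exact isGeomUnibranch_of_ringEquiv e.symm.toRingEquiv hG


end NonLocal

open CategoryTheory AlgebraicGeometry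

theorem isGeomUnibranch_mvPolynomial_localization' {A : Type (max u v)} [CommRing A] {σ : Type v}
    (Q : Ideal (MvPolynomial σ A)) [Q.IsPrime] (p : Ideal A) [p.IsPrime]
    (hp : Q.comap (C : A →+* MvPolynomial σ A) = p)
    (hA : CAlg2.IsGeomUnibranch (Localization.AtPrime p)) :
    CAlg2.IsGeomUnibranch (Localization.AtPrime Q) := by
  subst hp
  exact isGeomUnibranch_mvPolynomial_localization Q hA

/-- geometric unibranchness of a stalk gives that of the localization of the sections over an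
affine open. -/
theorem isGeomUnibranch_localization_of_stalk {Y : Scheme.{u}} (V : Y.Opens) (hV : IsAffineOpen V)
    (p : PrimeSpectrum Γ(Y, V))
    (h : CAlg2.IsGeomUnibranch (Y.presheaf.stalk (hV.fromSpec p))) :
    CAlg2.IsGeomUnibranch (Localization.AtPrime p.asIdeal) := by
  have hy : hV.fromSpec p ∈ (V : Set Y) := by
    rw [← hV.range_fromSpec]; exact ⟨p, rfl⟩
  letI := TopCat.Presheaf.algebra_section_stalk Y.presheaf ⟨hV.fromSpec p, hy⟩
  haveI : IsLocalization p.asIdeal.primeCompl (Y.presheaf.stalk (hV.fromSpec p)) :=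
    hV.isLocalization_stalk' p hy
  let e : Localization.AtPrime p.asIdeal ≃ₐ[Γ(Y, V)] Y.presheaf.stalk (hV.fromSpec p) :=
    IsLocalization.algEquiv p.asIdeal.primeCompl _ _
  exact isGeomUnibranch_of_ringEquiv e.symm.toRingEquiv h

open AffineSpace in
/-- **Affine space over a scheme which is geometrically unibranch at `y`** is geometrically
unibranch at every point above `y`. -/
theorem isGeomUnibranch_stalk_affineSpace {Y : Scheme.{u}} (σ : Type u) (y' : ↥𝔸(σ; Y))
    (hy : CAlg2.IsGeomUnibranch (Y.presheaf.stalk ((𝔸(σ; Y) ↘ Y).base y'))) :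
    CAlg2.IsGeomUnibranch ((𝔸(σ; Y)).presheaf.stalk y') := by
  obtain ⟨_, ⟨V, hV : IsAffineOpen V, rfl⟩, hyV, -⟩ :=
    Y.isBasis_affineOpens.exists_subset_of_mem_open
      (Set.mem_univ ((𝔸(σ; Y) ↘ Y).base y')) isOpen_univ
  let i : Spec Γ(Y, V) ⟶ Y := hV.fromSpec
  have sq := AffineSpace.isPullback_map (n := σ) i
  have hr : (𝔸(σ; Y) ↘ Y).base y' ∈ Set.range i.base := by
    rw [hV.range_fromSpec]; exact hyV
  obtain ⟨p₀, hp₀⟩ := hr
  obtain ⟨z, hz1, hz2⟩ :=
    Groth.Agent.Lib.Helper26.UnivOpenAt.exists_preimage_of_isPullback sq y' p₀ hp₀.symm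
  haveI : IsOpenImmersion (AffineSpace.map σ i) :=
    MorphismProperty.of_isPullback (P := @IsOpenImmersion) sq.flip inferInstance
  let j : Spec (CommRingCat.of (MvPolynomial σ Γ(Y, V))) ⟶ 𝔸(σ; Y) :=
    (AffineSpace.SpecIso σ Γ(Y, V)).inv ≫ AffineSpace.map σ i
  let Q : Spec (CommRingCat.of (MvPolynomial σ Γ(Y, V))) :=
    (AffineSpace.SpecIso σ Γ(Y, V)).hom.base z
  have hjQ : j.base Q = y' := by
    show ((AffineSpace.SpecIso σ Γ(Y, V)).inv ≫ AffineSpace.map σ i).base
      ((AffineSpace.SpecIso σ Γ(Y, V)).hom.base z) = y'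
    rw [← Scheme.Hom.comp_apply, Iso.hom_inv_id_assoc, hz1]
  let P₁ : Spec Γ(Y, V) :=
    (Spec.map (CommRingCat.ofHom (C : Γ(Y, V) →+* MvPolynomial σ Γ(Y, V)))).base Q
  have hCQ : P₁ = p₀ := by
    have h1 : (AffineSpace.SpecIso σ Γ(Y, V)).hom ≫
        Spec.map (CommRingCat.ofHom (C : Γ(Y, V) →+* MvPolynomial σ Γ(Y, V))) =
        𝔸(σ; Spec Γ(Y, V)) ↘ Spec Γ(Y, V) := by
      rw [← AffineSpace.SpecIso_inv_over, Iso.hom_inv_id_assoc]
    show (Spec.map (CommRingCat.ofHom (C : Γ(Y, V) →+* MvPolynomial σ Γ(Y, V)))).base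
      ((AffineSpace.SpecIso σ Γ(Y, V)).hom.base z) = p₀
    rw [← Scheme.Hom.comp_apply, h1, hz2]
  -- the base is geometrically unibranch at `Q ∩ A`
  have hA : CAlg2.IsGeomUnibranch (Localization.AtPrime P₁.asIdeal) := by
    have h1 : hV.fromSpec.base P₁ = (𝔸(σ; Y) ↘ Y).base y' := by
      rw [hCQ]; exact hp₀
    exact isGeomUnibranch_localization_of_stalk V hV P₁ (h1 ▸ hy)
  have hcomap : Q.asIdeal.comap (C : Γ(Y, V) →+* MvPolynomial σ Γ(Y, V)) = P₁.asIdeal := rfl
  have hG := isGeomUnibranch_mvPolynomial_localization' Q.asIdeal P₁.asIdeal hcomap hA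
  -- transport to the stalk of `Spec A[σ]`
  let e₁ : Localization.AtPrime Q.asIdeal ≃+*
      (Spec (CommRingCat.of (MvPolynomial σ Γ(Y, V)))).presheaf.stalk Q :=
    (StructureSheaf.stalkIso (MvPolynomial σ Γ(Y, V)) Q).toRingEquiv
  have hG₁ := isGeomUnibranch_of_ringEquiv e₁ hG
  -- transport along the open immersion `j`
  let e₂ : (𝔸(σ; Y)).presheaf.stalk (j.base Q) ≃+*
      (Spec (CommRingCat.of (MvPolynomial σ Γ(Y, V)))).presheaf.stalk Q :=
    (asIso (j.stalkMap Q)).commRingCatIsoToRingEquiv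
  have hG₂ := isGeomUnibranch_of_ringEquiv e₂.symm hG₁
  exact hjQ ▸ hG₂

end Groth.Agent.Lib.Helper6.Uni
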