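import Mathlib
import Groth.Agent.Lib.Helper6UniB
import Groth.Agent.Lib.Helper3UnramEtB
import Groth.Agent.S1964

set_option autoImplicit false
set_option linter.style.haveILetI false

namespace Groth.Agent.Lib.Helper3.SmGU

universe u
open IsLocalRing

-- smooth algebras over a domain: local rings at primes over a geometrically unibranch point are
-- geometrically unibranch domains
theorem isDomain_and_isGeomUnibranch_of_smooth (R : Type u) [CommRing R] [IsDomain R]
    (R' : Type u) [CommRing R'] [Algebra R R'] [Algebra.Smooth R R'] (q : Ideal R') [q.IsPrime]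
    (p : Ideal R) [p.IsPrime] (hqp : q.comap (algebraMap R R') = p)
    (hA : CAlg2.IsGeomUnibranch (Localization.AtPrime p)) :
    IsDomain (Localization.AtPrime q) ∧ CAlg2.IsGeomUnibranch (Localization.AtPrime q) := by
  haveI : Algebra.FinitePresentation R R' := Algebra.Smooth.finitePresentation
  haveI : Algebra.IsSmoothAt R q := inferInstance
  obtain ⟨f, hfq, n, alg, htower, hse⟩ :=
    Algebra.IsSmoothAt.exists_isStandardEtale_mvPolynomial (R := R) (p := q)
  letI := alg
  haveI := htower
  haveI : Algebra.Etale (MvPolynomial (Fin n) R) (Localization.Away f) := inferInstance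
  have hdisj : Disjoint (Submonoid.powers f : Set R') (q : Set R') :=
    (Ideal.disjoint_powers_iff_notMem_of_isPrime _).mpr hfq
  obtain ⟨q', hq'⟩ : ∃ q' : Ideal (Localization.Away f),
      q' = q.map (algebraMap R' (Localization.Away f)) := ⟨_, rfl⟩
  haveI hq'p : q'.IsPrime := by
    rw [hq']
    exact IsLocalization.isPrime_of_isPrime_disjoint (.powers f) _ _ ‹_› hdisj
  have hq'c : q'.comap (algebraMap R' (Localization.Away f)) = q := by
    rw [hq']
    exact IsLocalization.under_map_of_isPrime_disjoint (.powers f) _ inferInstance hdisj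
  obtain ⟨Q, hQ⟩ : ∃ Q : Ideal (MvPolynomial (Fin n) R),
      Q = q'.comap (algebraMap _ (Localization.Away f)) := ⟨_, rfl⟩
  haveI : Q.IsPrime := by rw [hQ]; exact Ideal.comap_isPrime _ _
  have hQp : Q.comap (MvPolynomial.C : R →+* MvPolynomial (Fin n) R) = p := by
    rw [← hqp, ← hq'c, hQ, Ideal.comap_comap, Ideal.comap_comap]
    congr 1
    rw [← MvPolynomial.algebraMap_eq, ← IsScalarTower.algebraMap_eq,
      ← IsScalarTower.algebraMap_eq]
  have hGU : CAlg2.IsGeomUnibranch (Localization.AtPrime Q) :=
    Groth.Agent.Lib.Helper6.Uni.isGeomUnibranch_mvPolynomial_localization' Q p hQp hA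
  haveI : IsDomain (Localization.AtPrime Q) := inferInstance
  haveI : IsReduced (Localization.AtPrime Q) := inferInstance
  obtain ⟨hd, hgu⟩ := Groth.Agent.Lib.Helper3.UnramEt.isDomain_and_isGeomUnibranch_of_etale
    (MvPolynomial (Fin n) R) (Localization.Away f) q' Q hQ.symm hGU
  -- transfer along `(R'_f)_{q'} ≃ R'_q`
  haveI h1 : IsLocalization.AtPrime (Localization.AtPrime q')
      (q'.comap (algebraMap R' (Localization.Away f))) :=
    IsLocalization.isLocalization_isLocalization_atPrime_isLocalization (.powers f)
      (Localization.AtPrime q') q'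
  have hsub : (q'.comap (algebraMap R' (Localization.Away f))).primeCompl = q.primeCompl :=
    Submonoid.ext (fun x => by
      show x ∉ q'.comap (algebraMap R' (Localization.Away f)) ↔ x ∉ q
      rw [hq'c])
  have hloc2 : IsLocalization q.primeCompl (Localization.AtPrime q') := hsub ▸ h1
  haveI := hloc2
  let e : Localization.AtPrime q ≃ₐ[R'] Localization.AtPrime q' :=
    IsLocalization.algEquiv q.primeCompl _ _
  haveI := hd
  exact ⟨e.toRingEquiv.toMulEquiv.isDomain _,
    Groth.Agent.Lib.Helper4.Unibranch.isGeomUnibranch_of_ringEquiv e.symm.toRingEquiv hgu⟩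

-- a strictly henselian local domain is geometrically unibranch
theorem isGeomUnibranch_of_strictlyHenselian (R : Type u) [CommRing R] [IsDomain R]
    [HenselianLocalRing R] [IsSepClosed (ResidueField R)] : CAlg2.IsGeomUnibranch R := by
  rw [Groth.Agent.Lib.Helper4.Unibranch.isGeomUnibranch_iff_of_isDomain R (FractionRing R)]
  haveI : Algebra.IsIntegral R (integralClosure R (FractionRing R)) := inferInstance
  obtain ⟨hH, hloc, hsep⟩ := Groth.Agent.S1964.result R (integralClosure R (FractionRing R))
  haveI := hH
  haveI hl : IsLocalRing (integralClosure R (FractionRing R)) := inferInstance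
  refine ⟨hl, ?_⟩
  obtain ⟨-, hpi⟩ := hsep inferInstance
  have hpi' := hpi hloc
  intro M hM x
  have hM' : M = maximalIdeal _ := IsLocalRing.eq_maximalIdeal hM
  subst hM'
  letI := (IsLocalRing.ResidueField.map (algebraMap R (integralClosure R (FractionRing R)))).toAlgebra
  haveI := hpi'
  haveI : ExpChar (ResidueField R) (ringExpChar (ResidueField R)) := ringExpChar.expChar _
  have hq : ringExpChar (integralClosure R (FractionRing R) ⧸
      maximalIdeal (integralClosure R (FractionRing R))) = ringExpChar (ResidueField R) := by
    haveI : ExpChar (ResidueField (integralClosure R (FractionRing R)))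
        (ringExpChar (ResidueField R)) :=
      expChar_of_injective_ringHom (algebraMap (ResidueField R)
        (ResidueField (integralClosure R (FractionRing R)))).injective _
    exact ringExpChar.eq (ResidueField (integralClosure R (FractionRing R))) _
  obtain ⟨n, y, hy⟩ := IsPurelyInseparable.pow_mem (ResidueField R)
    (E := ResidueField (integralClosure R (FractionRing R)))
    (ringExpChar (ResidueField R)) x
  obtain ⟨r, rfl⟩ := residue_surjective y
  refine ⟨n, r, ?_⟩
  rw [hq]
  exact hy

-- smooth algebras over a strictly henselian local domain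
theorem isDomain_and_isGeomUnibranch_of_smooth_of_strictlyHenselian (R : Type u) [CommRing R]
    [IsDomain R] [HenselianLocalRing R] [IsSepClosed (ResidueField R)]
    (R' : Type u) [CommRing R'] [Algebra R R'] [Algebra.Smooth R R'] (q : Ideal R') [q.IsPrime]
    (hq : (maximalIdeal R).map (algebraMap R R') ≤ q) :
    IsDomain (Localization.AtPrime q) ∧ CAlg2.IsGeomUnibranch (Localization.AtPrime q) := by
  have hR : CAlg2.IsGeomUnibranch R := isGeomUnibranch_of_strictlyHenselian R
  have hcomap : q.comap (algebraMap R R') = maximalIdeal R := by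
    have h1 : maximalIdeal R ≤ q.comap (algebraMap R R') := Ideal.map_le_iff_le_comap.mp hq
    exact ((maximalIdeal.isMaximal R).eq_of_le (Ideal.IsPrime.ne_top inferInstance) h1).symm
  let e : R ≃ₐ[R] Localization.AtPrime (maximalIdeal R) :=
    IsLocalization.atUnits R (maximalIdeal R).primeCompl (fun x hx => by
      by_contra h
      exact hx ((mem_maximalIdeal x).mpr h))
  exact isDomain_and_isGeomUnibranch_of_smooth R R' q (maximalIdeal R) hcomap
    (Groth.Agent.Lib.Helper4.Unibranch.isGeomUnibranch_of_ringEquiv e.toRingEquiv hR)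

end Groth.Agent.Lib.Helper3.SmGU
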