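import Mathlib
import Groth.Agent.Lib.Helper3SmGU
import Groth.Agent.Lib.Helper3ShQuot
import Groth.Agent.Lib.Helper3FibBrB
import Groth.Agent.S2750
import Groth.Agent.S13598

set_option autoImplicit false
set_option linter.style.haveILetI false

namespace Groth.Agent.Lib.Helper3.SmGU

universe u
open IsLocalRing Groth.Agent.Lib.Helper3

-- the image of the complement of a prime in a quotient
theorem algebraMapSubmonoid_quotient_primeCompl {B : Type*} [CommRing B] (I q : Ideal B)
    [q.IsPrime] (hIq : I ≤ q) (q₁ : Ideal (B ⧸ I)) [q₁.IsPrime]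
    (hq₁ : q₁ = q.map (Ideal.Quotient.mk I)) :
    Algebra.algebraMapSubmonoid (B ⧸ I) q.primeCompl = q₁.primeCompl := by
  have hcomap : q₁.comap (Ideal.Quotient.mk I) = q := by
    rw [hq₁, Ideal.comap_map_of_surjective' _ Ideal.Quotient.mk_surjective, Ideal.mk_ker,
      sup_eq_left]
    exact hIq
  ext y
  constructor
  · rintro ⟨x, hx, rfl⟩
    intro hmem
    apply hx
    rw [← hcomap]
    exact hmem
  · intro hy
    obtain ⟨x, rfl⟩ := Ideal.Quotient.mk_surjective y
    refine ⟨x, ?_, rfl⟩
    intro hxq
    apply hy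
    rw [hq₁]
    exact Ideal.mem_map_of_mem _ hxq

-- the quotient of a local ring `B_q` by an extended ideal is the local ring of the quotient
theorem isLocalization_atPrime_quotient {B : Type*} [CommRing B] (I q : Ideal B)
    [q.IsPrime] (hIq : I ≤ q) (q₁ : Ideal (B ⧸ I)) [q₁.IsPrime]
    (hq₁ : q₁ = q.map (Ideal.Quotient.mk I)) :
    IsLocalization.AtPrime
      (Localization.AtPrime q ⧸ I.map (algebraMap B (Localization.AtPrime q))) q₁ := by
  have hsub := algebraMapSubmonoid_quotient_primeCompl I q hIq q₁ hq₁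
  have hloc1 : IsLocalization (Algebra.algebraMapSubmonoid (B ⧸ I) q.primeCompl)
      (Localization.AtPrime q ⧸ I.map (algebraMap B (Localization.AtPrime q))) := inferInstance
  show IsLocalization q₁.primeCompl _
  rw [← hsub]
  exact hloc1

-- strict henselization of a local ring whose quotient is a geometrically unibranch domain
theorem isPrime_map_of_isGeomUnibranch_quotient (A S : Type u) [CommRing A] [IsLocalRing A]
    [CommRing S] [IsLocalRing S] [Algebra A S] [IsLocalHom (algebraMap A S)]
    [Hensel.IsStrictHenselization A S] (J : Ideal A) [IsLocalRing (A ⧸ J)] [IsDomain (A ⧸ J)]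
    (hgu : CAlg2.IsGeomUnibranch (A ⧸ J)) : (J.map (algebraMap A S)).IsPrime := by
  have hJ : J ≠ ⊤ := FibBr.ne_top_of_isLocalRing_quot J
  haveI : IsLocalRing (S ⧸ J.map (algebraMap A S)) := FibBr.isLocalRing_quot_map J hJ
  haveI : IsLocalHom (algebraMap (A ⧸ J) (S ⧸ J.map (algebraMap A S))) :=
    FibBr.isLocalHom_quot_map J
  haveI : Hensel.IsStrictHenselization (A ⧸ J) (S ⧸ J.map (algebraMap A S)) :=
    ShQuot.isStrictHenselization_quotient J
  have hdom : IsDomain (S ⧸ J.map (algebraMap A S)) :=
    (Groth.Agent.S2750.core (A ⧸ J) (S ⧸ J.map (algebraMap A S))).mp hgu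
  exact (Ideal.Quotient.isDomain_iff_prime _).mp hdom

set_option maxHeartbeats 1600000 in
-- a prime element of a strictly henselian local ring stays prime in the strict henselization of a
-- local ring of a smooth algebra
theorem prime_map_sh_of_smooth (R R' T : Type u) [CommRing R] [HenselianLocalRing R]
    [IsSepClosed (ResidueField R)]
    [CommRing R'] [Algebra R R'] [Algebra.Smooth R R']
    (q : Ideal R') [q.IsPrime] (hq : (maximalIdeal R).map (algebraMap R R') ≤ q)
    [CommRing T] [IsLocalRing T] [Algebra (Localization.AtPrime q) T]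
    [IsLocalHom (algebraMap (Localization.AtPrime q) T)]
    [Hensel.IsStrictHenselization (Localization.AtPrime q) T]
    (Δ : R) (hΔ : Prime Δ) :
    Prime (algebraMap (Localization.AtPrime q) T
      (algebraMap R' (Localization.AtPrime q) (algebraMap R R' Δ))) := by
  obtain ⟨I, hI⟩ : ∃ I : Ideal R, I = Ideal.span {Δ} := ⟨_, rfl⟩
  haveI hIprime : I.IsPrime := by
    rw [hI]; exact (Ideal.span_singleton_prime hΔ.ne_zero).mpr hΔ
  have hIm : I ≤ maximalIdeal R := le_maximalIdeal hIprime.ne_top
  haveI : IsDomain (R ⧸ I) := Ideal.Quotient.isDomain I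
  haveI : IsLocalRing (R ⧸ I) :=
    IsLocalRing.of_surjective' (Ideal.Quotient.mk I) Ideal.Quotient.mk_surjective
  haveI : HenselianLocalRing (R ⧸ I) := Groth.Agent.S13598.henselian_quotient I
  haveI : IsSepClosed (ResidueField (R ⧸ I)) :=
    ShQuot.isSepClosed_of_ringEquiv
      (RingEquiv.ofBijective _ (ShQuot.residue_map_mk_bijective I))
  haveI : Algebra.Smooth (R ⧸ I) (R' ⧸ I.map (algebraMap R R')) :=
    Algebra.Smooth.of_equiv (Algebra.TensorProduct.quotIdealMapEquivQuotTensor R' I).symm
  have hI'q : I.map (algebraMap R R') ≤ q := (Ideal.map_mono hIm).trans hq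
  obtain ⟨q₁, hq₁⟩ : ∃ q₁ : Ideal (R' ⧸ I.map (algebraMap R R')),
      q₁ = q.map (Ideal.Quotient.mk _) := ⟨_, rfl⟩
  haveI hq₁p : q₁.IsPrime := by
    rw [hq₁]
    exact Ideal.map_isPrime_of_surjective Ideal.Quotient.mk_surjective
      (by rw [Ideal.mk_ker]; exact hI'q)
  have hq₁m : (maximalIdeal (R ⧸ I)).map
      (algebraMap (R ⧸ I) (R' ⧸ I.map (algebraMap R R'))) ≤ q₁ := by
    rw [Ideal.map_le_iff_le_comap]
    intro x hx
    obtain ⟨r, rfl⟩ := Ideal.Quotient.mk_surjective x
    have hr : r ∈ maximalIdeal R := by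
      rw [mem_maximalIdeal, mem_nonunits_iff]
      intro hu
      exact ((mem_maximalIdeal _).mp hx) (hu.map _)
    rw [Ideal.mem_comap, hq₁]
    have : algebraMap (R ⧸ I) (R' ⧸ I.map (algebraMap R R')) (Ideal.Quotient.mk I r)
        = Ideal.Quotient.mk _ (algebraMap R R' r) := rfl
    rw [this]
    exact Ideal.mem_map_of_mem _ (hq (Ideal.mem_map_of_mem _ hr))
  obtain ⟨hdom₁, hgu₁⟩ := isDomain_and_isGeomUnibranch_of_smooth_of_strictlyHenselian (R ⧸ I)
    (R' ⧸ I.map (algebraMap R R')) q₁ hq₁m
  -- the local ring `Lq / I Lq`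
  haveI hloc2 := isLocalization_atPrime_quotient (I.map (algebraMap R R')) q hI'q q₁ hq₁
  let e₁ : Localization.AtPrime q₁ ≃ₐ[R' ⧸ I.map (algebraMap R R')]
      (Localization.AtPrime q ⧸
        (I.map (algebraMap R R')).map (algebraMap R' (Localization.AtPrime q))) :=
    IsLocalization.algEquiv q₁.primeCompl _ _
  haveI : IsLocalRing (Localization.AtPrime q ⧸
      (I.map (algebraMap R R')).map (algebraMap R' (Localization.AtPrime q))) :=
    e₁.toRingEquiv.isLocalRing
  haveI : IsDomain (Localization.AtPrime q ⧸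
      (I.map (algebraMap R R')).map (algebraMap R' (Localization.AtPrime q))) :=
    e₁.symm.toRingEquiv.toMulEquiv.isDomain _
  have hgu₂ : CAlg2.IsGeomUnibranch (Localization.AtPrime q ⧸
      (I.map (algebraMap R R')).map (algebraMap R' (Localization.AtPrime q))) :=
    Groth.Agent.Lib.Helper4.Unibranch.isGeomUnibranch_of_ringEquiv e₁.toRingEquiv hgu₁
  have hprime := isPrime_map_of_isGeomUnibranch_quotient (Localization.AtPrime q) T
    ((I.map (algebraMap R R')).map (algebraMap R' (Localization.AtPrime q))) hgu₂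
  -- identify the ideal
  have hideal : ((I.map (algebraMap R R')).map (algebraMap R' (Localization.AtPrime q))).map
      (algebraMap (Localization.AtPrime q) T) = Ideal.span {algebraMap (Localization.AtPrime q) T
      (algebraMap R' (Localization.AtPrime q) (algebraMap R R' Δ))} := by
    rw [hI, Ideal.map_span, Ideal.map_span, Ideal.map_span, Set.image_singleton,
      Set.image_singleton, Set.image_singleton]
  rw [hideal] at hprime
  -- nonvanishing
  haveI : Module.Flat R (Localization.AtPrime q) := Module.Flat.trans R R' (Localization.AtPrime q)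
  haveI : IsLocalHom (algebraMap R (Localization.AtPrime q)) := by
    refine ⟨fun a ha => ?_⟩
    rw [IsScalarTower.algebraMap_apply R R' (Localization.AtPrime q),
      IsLocalization.AtPrime.isUnit_to_map_iff (Localization.AtPrime q) q] at ha
    by_contra hna
    exact ha (hq (Ideal.mem_map_of_mem _ ((mem_maximalIdeal a).mpr hna)))
  haveI : Module.FaithfullyFlat R (Localization.AtPrime q) :=
    Module.FaithfullyFlat.of_flat_of_isLocalHom
  haveI : Module.FaithfullyFlat (Localization.AtPrime q) T :=
    HzP.sh_faithfullyFlat (Localization.AtPrime q) T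
  have hne : algebraMap (Localization.AtPrime q) T
      (algebraMap R' (Localization.AtPrime q) (algebraMap R R' Δ)) ≠ 0 := by
    rw [← IsScalarTower.algebraMap_apply R R' (Localization.AtPrime q)]
    intro h0
    have h1 := (FaithfulSMul.algebraMap_injective (Localization.AtPrime q) T)
      (h0.trans (map_zero _).symm)
    have h2 := (FaithfulSMul.algebraMap_injective R (Localization.AtPrime q))
      (h1.trans (map_zero _).symm)
    exact hΔ.ne_zero h2
  exact (Ideal.span_singleton_prime hne).mp hprime

end Groth.Agent.Lib.Helper3.SmGU
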