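import Mathlib
import Groth.Prelude.Def_EGA4b
import Groth.Agent.Lib.Helper3SmPrime

set_option autoImplicit false
set_option linter.style.haveILetI false
universe u

namespace Groth.Agent.Helper13FibSeq

section

variable (R S : Type u) [CommRing R] [CommRing S] [Algebra R S] (I : Ideal S)
  (q₁ : Ideal (S ⧸ I)) [q₁.IsPrime]

/-- the fibre local ring of `S/I` at `q₁` is the quotient of the fibre local ring of `S` at the
preimage of `q₁` by the extension of `I`. -/
theorem nonempty_fibLocRing_quotient_equiv :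
    Nonempty (EGA4.FibLocRing R (S ⧸ I) q₁ ≃+*
      (EGA4.FibLocRing R S (q₁.comap (Ideal.Quotient.mk I)) ⧸
        I.map (algebraMap S (EGA4.FibLocRing R S (q₁.comap (Ideal.Quotient.mk I)))))) := by
  obtain ⟨q, hq⟩ : ∃ q : Ideal S, q = q₁.comap (Ideal.Quotient.mk I) := ⟨_, rfl⟩
  haveI hqp : q.IsPrime := hq ▸ Ideal.comap_isPrime _ _
  have hIq : I ≤ q := by
    rw [hq]
    intro x hx
    rw [Ideal.mem_comap, Ideal.Quotient.eq_zero_iff_mem.mpr hx]
    exact zero_mem _
  have hq₁ : q₁ = q.map (Ideal.Quotient.mk I) := by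
    rw [hq, Ideal.map_comap_of_surjective _ Ideal.Quotient.mk_surjective]
  suffices h : Nonempty (EGA4.FibLocRing R (S ⧸ I) q₁ ≃+*
      (EGA4.FibLocRing R S q ⧸ I.map (algebraMap S (EGA4.FibLocRing R S q)))) by
    subst hq
    exact h
  haveI hloc := Groth.Agent.Lib.Helper3.SmGU.isLocalization_atPrime_quotient I q hIq q₁ hq₁
  let T := Localization.AtPrime q
  let T₁ := Localization.AtPrime q₁
  let e₁ : T₁ ≃ₐ[S ⧸ I] (T ⧸ I.map (algebraMap S T)) := IsLocalization.algEquiv q₁.primeCompl _ _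
  haveI : IsScalarTower R (S ⧸ I) (T ⧸ I.map (algebraMap S T)) :=
    IsScalarTower.of_algebraMap_eq fun r => rfl
  have he₁ : ∀ r : R, e₁ (algebraMap R T₁ r) = algebraMap R (T ⧸ I.map (algebraMap S T)) r := by
    intro r
    rw [IsScalarTower.algebraMap_apply R (S ⧸ I) T₁, e₁.commutes,
      ← IsScalarTower.algebraMap_apply]
  have hp1 : q₁.comap (algebraMap R (S ⧸ I)) = q.comap (algebraMap R S) := by
    rw [hq]
    rfl
  obtain ⟨p, hp⟩ : ∃ p : Ideal R, p = q.comap (algebraMap R S) := ⟨_, rfl⟩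
  -- step 1
  have h1 : p.map (algebraMap R (T ⧸ I.map (algebraMap S T))) =
      (p.map (algebraMap R T₁)).map ((e₁.toRingEquiv : T₁ ≃+* _) : T₁ →+* _) := by
    rw [Ideal.map_map]
    congr 1
    ext r
    exact (he₁ r).symm
  let ε₁ : (T₁ ⧸ p.map (algebraMap R T₁)) ≃+*
      ((T ⧸ I.map (algebraMap S T)) ⧸ p.map (algebraMap R (T ⧸ I.map (algebraMap S T)))) :=
    Ideal.quotientEquiv _ _ e₁.toRingEquiv h1
  -- step 2
  have h2 : p.map (algebraMap R (T ⧸ I.map (algebraMap S T))) =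
      (p.map (algebraMap R T)).map (Ideal.Quotient.mk (I.map (algebraMap S T))) := by
    rw [Ideal.map_map]
    rfl
  let ε₂ := Ideal.quotEquivOfEq h2
  -- step 3
  let ε₃ := DoubleQuot.quotQuotEquivComm (I.map (algebraMap S T)) (p.map (algebraMap R T))
  -- step 4
  have h4 : (I.map (algebraMap S T)).map (Ideal.Quotient.mk (p.map (algebraMap R T))) =
      I.map (algebraMap S (T ⧸ p.map (algebraMap R T))) := by
    rw [Ideal.map_map]
    rfl
  let ε₄ := Ideal.quotEquivOfEq h4
  have h0 : (q₁.comap (algebraMap R (S ⧸ I))).map (algebraMap R T₁) = p.map (algebraMap R T₁) := by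
    rw [hp1, hp]
  let ε₀ := Ideal.quotEquivOfEq h0
  subst hp
  exact ⟨ε₀.trans (ε₁.trans (ε₂.trans (ε₃.trans ε₄)))⟩

end

end Groth.Agent.Helper13FibSeq
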