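import Groth.Agent.Lib.Helper19ComplFlatMap
import Groth.Agent.Lib.Helper19Jacobson
import Groth.Agent.Lib.Helper19FSAdicEquiv

/-!
# Flatness of the completed map of a local homomorphism (helper19)
-/

set_option autoImplicit false
universe u

namespace Groth.Agent.Lib.Helper19

open IsLocalRing

theorem completion_map_flat_iff_flat (A B : Type u) [CommRing A] [CommRing B] [IsLocalRing A]
    [IsLocalRing B] [IsNoetherianRing A] [IsNoetherianRing B] [Algebra A B]
    [IsLocalHom (algebraMap A B)]
    (ψ : AdicCompletion (maximalIdeal A) A →+* AdicCompletion (maximalIdeal B) B)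
    (hψ : ψ.comp (algebraMap A (AdicCompletion (maximalIdeal A) A)) =
      (algebraMap B (AdicCompletion (maximalIdeal B) B)).comp (algebraMap A B)) :
    ψ.Flat ↔ (algebraMap A B).Flat := by
  letI : Algebra (AdicCompletion (maximalIdeal A) A) (AdicCompletion (maximalIdeal B) B) :=
    ψ.toAlgebra
  haveI : IsScalarTower A (AdicCompletion (maximalIdeal A) A) (AdicCompletion (maximalIdeal B) B) :=
    IsScalarTower.of_algebraMap_eq (fun x => (congrArg (fun f => f x) hψ).symm)
  haveI : IsNoetherianRing (AdicCompletion (maximalIdeal A) A) := isNoetherianRing_adicCompletion _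
  haveI : IsNoetherianRing (AdicCompletion (maximalIdeal B) B) := isNoetherianRing_adicCompletion _
  haveI : Module.FaithfullyFlat B (AdicCompletion (maximalIdeal B) B) :=
    faithfullyFlat_adicCompletion_of_le_jacobson B (maximalIdeal B)
      (IsLocalRing.maximalIdeal_le_jacobson ⊥)
  rw [RingHom.flat_algebraMap_iff]
  change Module.Flat (AdicCompletion (maximalIdeal A) A) (AdicCompletion (maximalIdeal B) B) ↔ _
  constructor
  · intro h
    haveI : Module.Flat A (AdicCompletion (maximalIdeal B) B) :=
      Module.Flat.trans A (AdicCompletion (maximalIdeal A) A) (AdicCompletion (maximalIdeal B) B)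
    exact Groth.Agent.Lib.Helper5.flat_of_faithfullyFlat_of_flat (R := A) (S := B)
      (AdicCompletion (maximalIdeal B) B)
  · intro h
    haveI : Module.Flat A (AdicCompletion (maximalIdeal B) B) :=
      Module.Flat.trans A B (AdicCompletion (maximalIdeal B) B)
    apply flat_of_adic_quotients (P := A) (Q := AdicCompletion (maximalIdeal B) B)
      (Pc := AdicCompletion (maximalIdeal A) A) (Qc := AdicCompletion (maximalIdeal B) B)
      (maximalIdeal A)
    · intro n x
      exact exists_sub_of_mem_map_pow (maximalIdeal A) (IsNoetherian.noetherian _) n x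
    · intro n y
      exact ⟨y, by rw [Algebra.algebraMap_self, RingHom.id_apply, sub_self]; exact Ideal.zero_mem _⟩
    · intro n q hq
      rw [Algebra.algebraMap_self, RingHom.id_apply] at hq
      exact hq
    · haveI : IsAdicComplete (maximalIdeal B) (AdicCompletion (maximalIdeal B) B) :=
        AdicCompletion.isAdicComplete (IsNoetherian.noetherian _)
      haveI : IsAdicComplete ((maximalIdeal B).map
          (algebraMap B (AdicCompletion (maximalIdeal B) B))) (AdicCompletion (maximalIdeal B) B) :=
        (IsAdicComplete.map_algebraMap_iff (maximalIdeal B)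
          (AdicCompletion (maximalIdeal B) B)).mpr inferInstance
      refine le_trans ?_ (IsAdicComplete.le_jacobson_bot ((maximalIdeal B).map
          (algebraMap B (AdicCompletion (maximalIdeal B) B))))
      rw [IsScalarTower.algebraMap_eq A B (AdicCompletion (maximalIdeal B) B), ← Ideal.map_map]
      apply Ideal.map_mono
      rw [Ideal.map_le_iff_le_comap]
      intro a ha
      rw [Ideal.mem_comap]
      rw [IsLocalRing.mem_maximalIdeal] at ha ⊢
      exact (map_mem_nonunits_iff (algebraMap A B) a).mpr ha

theorem completion_map_bijective_of_flat_unramified (A B : Type u) [CommRing A]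
    [CommRing B] [IsLocalRing A] [IsLocalRing B] [IsNoetherianRing A] [IsNoetherianRing B]
    [Algebra A B] [IsLocalHom (algebraMap A B)] [Module.Flat A B]
    (hm : Ideal.map (algebraMap A B) (maximalIdeal A) = maximalIdeal B)
    (hk : Function.Bijective (IsLocalRing.ResidueField.map (algebraMap A B)))
    (ψ : AdicCompletion (maximalIdeal A) A →+* AdicCompletion (maximalIdeal B) B)
    (hψ : ψ.comp (algebraMap A (AdicCompletion (maximalIdeal A) A)) =
      (algebraMap B (AdicCompletion (maximalIdeal B) B)).comp (algebraMap A B)) :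
    Function.Bijective ψ := by
  have hflat : ψ.Flat := (completion_map_flat_iff_flat A B ψ hψ).mpr
    (RingHom.flat_algebraMap_iff.mpr inferInstance)
  letI : Algebra (AdicCompletion (maximalIdeal A) A) (AdicCompletion (maximalIdeal B) B) :=
    ψ.toAlgebra
  haveI : Module.Flat (AdicCompletion (maximalIdeal A) A) (AdicCompletion (maximalIdeal B) B) :=
    hflat
  have hψ' : ∀ a : A, ψ (algebraMap A (AdicCompletion (maximalIdeal A) A) a) =
      algebraMap B (AdicCompletion (maximalIdeal B) B) (algebraMap A B a) :=
    fun a => congrArg (fun f => f a) hψ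
  set IA : Ideal (AdicCompletion (maximalIdeal A) A) :=
    (maximalIdeal A).map (algebraMap A (AdicCompletion (maximalIdeal A) A)) with hIA
  set IB : Ideal (AdicCompletion (maximalIdeal B) B) :=
    (maximalIdeal B).map (algebraMap B (AdicCompletion (maximalIdeal B) B)) with hIB
  have hmap : IA.map ψ = IB := by
    rw [hIA, Ideal.map_map, hψ, ← Ideal.map_map, hm]
  haveI : IsAdicComplete (maximalIdeal A) (AdicCompletion (maximalIdeal A) A) :=
    AdicCompletion.isAdicComplete (IsNoetherian.noetherian _)
  haveI : IsAdicComplete IA (AdicCompletion (maximalIdeal A) A) :=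
    (IsAdicComplete.map_algebraMap_iff (maximalIdeal A)
      (AdicCompletion (maximalIdeal A) A)).mpr inferInstance
  haveI : IsAdicComplete (maximalIdeal B) (AdicCompletion (maximalIdeal B) B) :=
    AdicCompletion.isAdicComplete (IsNoetherian.noetherian _)
  haveI : IsAdicComplete IB (AdicCompletion (maximalIdeal B) B) :=
    (IsAdicComplete.map_algebraMap_iff (maximalIdeal B)
      (AdicCompletion (maximalIdeal B) B)).mpr inferInstance
  have hsurj : Function.Surjective ψ := by
    haveI : IsHausdorff (IA.map ψ) (AdicCompletion (maximalIdeal B) B) := by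
      rw [hmap]; infer_instance
    apply surjective_of_mk_map_comp_surjective (I := IA) ψ
    intro y
    obtain ⟨y', rfl⟩ := Ideal.Quotient.mk_surjective y
    obtain ⟨b, hb⟩ := exists_sub_of_mem_map_pow (maximalIdeal B) (IsNoetherian.noetherian _) 1 y'
    rw [pow_one] at hb
    obtain ⟨a0, ha0⟩ := hk.2 (IsLocalRing.residue B b)
    obtain ⟨a, rfl⟩ := IsLocalRing.residue_surjective a0
    have hba : b - algebraMap A B a ∈ maximalIdeal B := by
      rw [← IsLocalRing.residue_eq_zero_iff, map_sub, ← ha0, IsLocalRing.ResidueField.map_residue,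
        sub_self]
    refine ⟨algebraMap A (AdicCompletion (maximalIdeal A) A) a, ?_⟩
    change Ideal.Quotient.mk _ (ψ (algebraMap A (AdicCompletion (maximalIdeal A) A) a)) =
      Ideal.Quotient.mk _ y'
    rw [Ideal.Quotient.eq, hmap, hψ']
    have h1 : algebraMap B (AdicCompletion (maximalIdeal B) B) (algebraMap A B a) - y' =
        -((y' - algebraMap B (AdicCompletion (maximalIdeal B) B) b) +
          algebraMap B (AdicCompletion (maximalIdeal B) B) (b - algebraMap A B a)) := by
      rw [map_sub]; ring
    rw [h1]
    exact IB.neg_mem (IB.add_mem hb (Ideal.mem_map_of_mem _ hba))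
  refine ⟨?_, hsurj⟩
  rw [injective_iff_map_eq_zero]
  intro x hx
  let ψl : AdicCompletion (maximalIdeal A) A →ₗ[AdicCompletion (maximalIdeal A) A]
      AdicCompletion (maximalIdeal B) B := (Algebra.ofId _ _).toLinearMap
  have hψl : ∀ z, ψl z = ψ z := fun z => rfl
  have hker1 : LinearMap.ker ψl ≤ (IA • ⊤ : Submodule _ (AdicCompletion (maximalIdeal A) A)) := by
    intro z hz
    rw [LinearMap.mem_ker, hψl] at hz
    rw [smul_eq_mul, Ideal.mul_top]
    obtain ⟨a, ha⟩ := exists_sub_of_mem_map_pow (maximalIdeal A) (IsNoetherian.noetherian _) 1 z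
    rw [pow_one] at ha
    have h1 : ψ (z - algebraMap A (AdicCompletion (maximalIdeal A) A) a) ∈ IB := by
      rw [← hmap]
      exact Ideal.mem_map_of_mem _ ha
    rw [map_sub, hz, zero_sub, hψ'] at h1
    have h2 : algebraMap B (AdicCompletion (maximalIdeal B) B) (algebraMap A B a) ∈ IB ^ 1 := by
      rw [pow_one]
      have := IB.neg_mem h1
      rwa [neg_neg] at this
    have h3 := evalₐ_eq_zero_of_mem_map_pow (maximalIdeal B) 1 _ h2
    rw [AdicCompletion.algebraMap_apply, AdicCompletion.evalₐ_of, Algebra.algebraMap_self,
      RingHom.id_apply, Ideal.Quotient.eq_zero_iff_mem, pow_one] at h3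
    have h4 : a ∈ maximalIdeal A := by
      rw [IsLocalRing.mem_maximalIdeal] at h3 ⊢
      exact (map_mem_nonunits_iff (algebraMap A B) a).mp h3
    have h5 : z = (z - algebraMap A (AdicCompletion (maximalIdeal A) A) a) +
        algebraMap A (AdicCompletion (maximalIdeal A) A) a := by ring
    rw [h5]
    exact IA.add_mem ha (Ideal.mem_map_of_mem _ h4)
  have hxk : x ∈ LinearMap.ker ψl := hx
  apply IsHausdorff.haus' (I := IA)
  intro n
  rw [SModEq.zero]
  exact ker_le_pow_smul_top_of_flat ψl hsurj IA hker1 n hxk

end Groth.Agent.Lib.Helper19
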