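import Mathlib
import Groth.Agent.Lib.Helper7CIPres2
import Groth.Agent.Lib.Helper28ComplQuot2
import Groth.Agent.Lib.Helper28FGDim
import Groth.Agent.S2165

/-! # The complete intersection locus of a quotient of a regular ring is open (helper7) -/

set_option autoImplicit false
set_option linter.style.haveILetI false
universe u

namespace Groth.Agent.Lib.Helper7.CILocus
open IsLocalRing RingTheory.Sequence Groth.Agent.Lib.Helper7.CIPres

theorem map_maximalIdeal_ringEquiv {A A' : Type u} [CommRing A] [CommRing A'] [IsLocalRing A]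
    [IsLocalRing A'] (e : A ≃+* A') :
    (maximalIdeal A).map (e : A →+* A') = maximalIdeal A' := by
  apply le_antisymm
  · rw [Ideal.map_le_iff_le_comap]
    intro a ha
    rw [Ideal.mem_comap, mem_maximalIdeal, mem_nonunits_iff]
    intro hu
    have h1 : IsUnit (e a) := hu
    exact (mem_maximalIdeal a).mp ha ((MulEquiv.isUnit_map e.toMulEquiv).mp h1)
  · intro b hb
    have : b = (e : A →+* A') (e.symm b) := (e.apply_symm_apply b).symm
    rw [this]
    apply Ideal.mem_map_of_mem
    rw [mem_maximalIdeal, mem_nonunits_iff]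
    intro hu
    apply (mem_maximalIdeal b).mp hb
    have h2 := hu.map e
    rwa [e.apply_symm_apply] at h2

/-- complete intersections are invariant under ring isomorphisms -/
theorem isCompleteIntersection_of_ringEquiv {A A' : Type u} [CommRing A] [CommRing A']
    [IsLocalRing A] [IsLocalRing A'] [IsNoetherianRing A] (e : A ≃+* A')
    (h : Pi1.IsCompleteIntersection A) : Pi1.IsCompleteIntersection A' := by
  obtain ⟨B, i1, i2, rs, hmem, hreg, ⟨ε⟩⟩ := h
  obtain ⟨ê, -⟩ := Groth.Agent.Lib.Helper28.exists_ringEquiv_adicCompletion_of_ringEquiv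
    (maximalIdeal A) (maximalIdeal A') (IsNoetherian.noetherian _) e (map_maximalIdeal_ringEquiv e)
  exact ⟨B, i1, i2, rs, hmem, hreg, ⟨ê.symm.trans ε⟩⟩

/-- a regular local ring is a complete intersection -/
theorem isCompleteIntersection_of_isRegularLocalRing (A : Type u) [CommRing A]
    [IsRegularLocalRing A] : Pi1.IsCompleteIntersection A := by
  haveI : IsRegularLocalRing (AdicCompletion (maximalIdeal A) A) :=
    (Groth.Agent.Lib.Helper19.isRegularLocalRing_adicCompletion_iff A).mp inferInstance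
  refine ⟨AdicCompletion (maximalIdeal A) A, inferInstance, inferInstance, [], by simp,
    IsRegular.nil _ _, ⟨?_⟩⟩
  have h : (⊥ : Ideal (AdicCompletion (maximalIdeal A) A)) = Ideal.span {r | r ∈ ([] : List _)} := by
    simp
  exact (RingEquiv.quotientBot _).symm.trans (Ideal.quotEquivOfEq h)

/-- `Good` in terms of heights -/
theorem good_iff_height {R : Type u} [CommRing R] [IsRegularLocalRing R] (J : Ideal R)
    (hJ : J ≠ ⊤) :
    Good R J ↔ ∃ (n : ℕ) (v : Fin n → R), Ideal.span (Set.range v) = J ∧ (n : ℕ∞) ≤ J.height := by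
  haveI hCM : LocCoh.IsCohenMacaulayLocalRing R :=
    Groth.Agent.Lib.Helper5.isCohenMacaulayLocalRing_of_isRegularLocalRing R
  have h1 := Groth.Agent.Lib.Helper28.height_add_ringKrullDim_quotient_eq_of_isCohenMacaulayLocalRing
    J hJ
  haveI : IsLocalRing (R ⧸ J) := Groth.Agent.Lib.Helper5.isLocalRing_quotient hJ
  obtain ⟨a, ha⟩ := Groth.Agent.Lib.Helper19.exists_nat_ringKrullDim (R ⧸ J)
  obtain ⟨h, hh⟩ := ENat.ne_top_iff_exists.mp (Ideal.height_ne_top hJ)
  rw [ha, ← hh] at h1
  unfold Good
  refine exists_congr fun n => exists_congr fun v => and_congr_right fun _ => ?_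
  rw [← h1, ha, ← hh]
  constructor
  · intro h2
    have : n + a ≤ h + a := by exact_mod_cast h2
    have : n ≤ h := by omega
    exact_mod_cast this
  · intro h2
    have : n ≤ h := by exact_mod_cast h2
    have : n + a ≤ h + a := by omega
    exact_mod_cast this


section Local

variable {B : Type u} [CommRing B] [IsRegularRing B] (I : Ideal B)

/-- the numerical complete intersection condition at a prime `Q ⊇ I` -/
def CIAt (Q : Ideal B) [Q.IsPrime] : Prop :=
  ∃ (n : ℕ) (f : Fin n → B),
    Ideal.span (Set.range fun i => algebraMap B (Localization.AtPrime Q) (f i)) =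
      I.map (algebraMap B (Localization.AtPrime Q)) ∧
    (n : ℕ∞) ≤ (I.map (algebraMap B (Localization.AtPrime Q))).height

theorem map_ne_top {Q : Ideal B} [Q.IsPrime] (hIQ : I ≤ Q) :
    I.map (algebraMap B (Localization.AtPrime Q)) ≠ ⊤ := by
  rw [IsLocalization.map_algebraMap_ne_top_iff_disjoint Q.primeCompl, Set.disjoint_left]
  intro x hx hxI
  exact hx (hIQ hxI)

theorem exists_scaled {Q : Ideal B} [Q.IsPrime] {n : ℕ} (v : Fin n → Localization.AtPrime Q) :
    ∃ f : Fin n → B,
      Ideal.span (Set.range fun i => algebraMap B (Localization.AtPrime Q) (f i)) =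
        Ideal.span (Set.range v) := by
  choose bs hbs using fun i => IsLocalization.surj Q.primeCompl (v i)
  refine ⟨fun i => (bs i).1, le_antisymm ?_ ?_⟩
  · rw [Ideal.span_le]
    rintro _ ⟨i, rfl⟩
    simp only [SetLike.mem_coe]
    rw [← hbs i]
    exact Ideal.mul_mem_right _ _ (Ideal.subset_span ⟨i, rfl⟩)
  · rw [Ideal.span_le]
    rintro _ ⟨i, rfl⟩
    have hu : IsUnit (algebraMap B (Localization.AtPrime Q) ((bs i).2 : B)) :=
      IsLocalization.map_units _ (bs i).2
    obtain ⟨w, hw⟩ := hu.exists_right_inv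
    have : v i = algebraMap B (Localization.AtPrime Q) (bs i).1 * w := by
      rw [← hbs i, mul_assoc, hw, mul_one]
    simp only [SetLike.mem_coe]
    rw [this]
    exact Ideal.mul_mem_right _ _ (Ideal.subset_span ⟨i, rfl⟩)

/-- the local ring `B_Q / I B_Q` is a complete intersection iff the numerical condition holds -/
theorem ci_iff_ciAt {Q : Ideal B} [Q.IsPrime] (hIQ : I ≤ Q)
    [IsLocalRing (Localization.AtPrime Q ⧸ I.map (algebraMap B (Localization.AtPrime Q)))] :
    Pi1.IsCompleteIntersection
      (Localization.AtPrime Q ⧸ I.map (algebraMap B (Localization.AtPrime Q))) ↔ CIAt I Q := by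
  haveI : IsRegularLocalRing (Localization.AtPrime Q) :=
    (isRegularRing_iff (R := B)).mp inferInstance Q
  have hne := map_ne_top I hIQ
  have h1 : Pi1.IsCompleteIntersection
      (Localization.AtPrime Q ⧸ I.map (algebraMap B (Localization.AtPrime Q))) ↔
      ∃ rs : List (Localization.AtPrime Q),
        Ideal.ofList rs = I.map (algebraMap B (Localization.AtPrime Q)) ∧
          IsRegular (Localization.AtPrime Q) rs := by
    constructor
    · intro hA
      exact regular_of_isCompleteIntersection_quotient _ hne hA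
    · rintro ⟨rs, hrs, hreg⟩
      revert ‹IsLocalRing (Localization.AtPrime Q ⧸ I.map (algebraMap B (Localization.AtPrime Q)))›
      rw [← hrs]
      intro _
      exact Groth.Agent.S2165.isCompleteIntersection_quotient_ofList rs hreg
  rw [h1, regular_iff_good _ hne, good_iff_height _ hne]
  constructor
  · rintro ⟨n, v, hv, hn⟩
    obtain ⟨f, hf⟩ := exists_scaled v
    exact ⟨n, f, hf.trans hv, hn⟩
  · rintro ⟨n, f, hf, hn⟩
    exact ⟨n, _, hf, hn⟩


/-- spreading out an inclusion of localized ideals -/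
theorem exists_spread_le (J₁ J₂ : Ideal B) (hfg : J₁.FG) (Q : Ideal B) [Q.IsPrime]
    (h : J₁.map (algebraMap B (Localization.AtPrime Q)) ≤
      J₂.map (algebraMap B (Localization.AtPrime Q))) :
    ∃ g : B, g ∉ Q ∧ ∀ (Q' : Ideal B) [Q'.IsPrime], g ∉ Q' →
      J₁.map (algebraMap B (Localization.AtPrime Q')) ≤
        J₂.map (algebraMap B (Localization.AtPrime Q')) := by
  classical
  obtain ⟨s, rfl⟩ := hfg
  have h1 : ∀ a : B, ∃ m : B, m ∉ Q ∧ (a ∈ s → m * a ∈ J₂) := by
    intro a
    by_cases ha : a ∈ s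
    · have h2 : algebraMap B (Localization.AtPrime Q) a ∈
          J₂.map (algebraMap B (Localization.AtPrime Q)) :=
        h (Ideal.mem_map_of_mem _ (Ideal.subset_span ha))
      rw [IsLocalization.algebraMap_mem_map_algebraMap_iff Q.primeCompl] at h2
      obtain ⟨m, hm, hma⟩ := h2
      exact ⟨m, hm, fun _ => hma⟩
    · exact ⟨1, fun h1 => Ideal.IsPrime.ne_top' ((Ideal.eq_top_iff_one _).mpr h1),
        fun h => absurd h ha⟩
  choose m hmQ hm using h1
  refine ⟨∏ a ∈ s, m a, ?_, ?_⟩
  · intro hmem
    obtain ⟨a, -, ha⟩ := (Ideal.IsPrime.prod_mem_iff).mp hmem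
    exact hmQ a ha
  · intro Q' _ hg
    rw [Ideal.map_span, Ideal.span_le]
    rintro _ ⟨a, ha, rfl⟩
    simp only [SetLike.mem_coe]
    rw [IsLocalization.algebraMap_mem_map_algebraMap_iff Q'.primeCompl]
    refine ⟨m a, ?_, hm a ha⟩
    intro hmem
    exact hg ((Ideal.IsPrime.prod_mem_iff).mpr ⟨a, ha, hmem⟩)

/-- spreading out the height of a localized ideal -/
theorem exists_spread_height (n : ℕ) (Q : Ideal B) [Q.IsPrime]
    (h : (n : ℕ∞) ≤ (I.map (algebraMap B (Localization.AtPrime Q))).height) :
    ∃ g : B, g ∉ Q ∧ ∀ (Q' : Ideal B) [Q'.IsPrime], g ∉ Q' →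
      (n : ℕ∞) ≤ (I.map (algebraMap B (Localization.AtPrime Q'))).height := by
  classical
  haveI : IsNoetherianRing B := inferInstance
  have hfin : (I.minimalPrimes).Finite := Ideal.finite_minimalPrimes_of_isNoetherianRing B I
  -- the bad minimal primes
  have h1 : ∀ P : Ideal B, ∃ a : B, a ∉ Q ∧ (P ∈ I.minimalPrimes → P.height < n → a ∈ P) := by
    intro P
    by_cases hP : P ∈ I.minimalPrimes ∧ P.height < n
    · obtain ⟨hPmin, hPh⟩ := hP
      haveI : P.IsPrime := hPmin.1.1
      have hnot : ¬ P ≤ Q := by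
        intro hPQ
        have hdisj : Disjoint (Q.primeCompl : Set B) (P : Set B) := by
          rw [Set.disjoint_left]
          intro x hx hxP
          exact hx (hPQ hxP)
        have h2 := IsLocalization.height_map_of_disjoint (S := Localization.AtPrime Q)
          Q.primeCompl P hdisj
        have h3 : (I.map (algebraMap B (Localization.AtPrime Q))).height ≤
            (P.map (algebraMap B (Localization.AtPrime Q))).height :=
          Ideal.height_mono (Ideal.map_mono hPmin.1.2)
        rw [h2] at h3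
        exact absurd (h.trans h3) (not_le.mpr hPh)
      obtain ⟨a, haP, haQ⟩ := Set.not_subset.mp hnot
      exact ⟨a, haQ, fun _ _ => haP⟩
    · refine ⟨1, fun h1 => Ideal.IsPrime.ne_top' ((Ideal.eq_top_iff_one _).mpr h1), ?_⟩
      intro h2 h3
      exact absurd ⟨h2, h3⟩ hP
  choose a haQ ha using h1
  refine ⟨∏ P ∈ hfin.toFinset, a P, ?_, ?_⟩
  · intro hmem
    obtain ⟨P, -, hP⟩ := (Ideal.IsPrime.prod_mem_iff).mp hmem
    exact haQ P hP
  · intro Q' _ hg
    rw [Ideal.height_eq_inf_minimalPrimes]
    refine le_iInf₂ fun P' hP' => ?_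
    haveI : P'.IsPrime := hP'.1.1
    rw [← IsLocalization.height_under Q'.primeCompl P']
    have hIP : I ≤ P'.under B := by
      rw [Ideal.under_def, ← Ideal.map_le_iff_le_comap]
      exact hP'.1.2
    have hPQ' : P'.under B ≤ Q' := by
      have h2 : P' ≤ IsLocalRing.maximalIdeal (Localization.AtPrime Q') :=
        IsLocalRing.le_maximalIdeal (Ideal.IsPrime.ne_top')
      have h3 := Ideal.comap_mono (f := algebraMap B (Localization.AtPrime Q')) h2
      have h4 := IsLocalization.AtPrime.under_maximalIdeal (Localization.AtPrime Q') Q'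
      rw [Ideal.under_def] at h4
      rw [h4] at h3
      exact h3
    obtain ⟨P₀, hP₀, hP₀le⟩ := Ideal.exists_minimalPrimes_le hIP
    by_contra hlt
    rw [not_le] at hlt
    have h4 : P₀.height < n := lt_of_le_of_lt (Ideal.height_mono hP₀le) hlt
    have h5 : a P₀ ∈ Q' := hPQ' (hP₀le (ha P₀ hP₀ h4))
    exact hg ((Ideal.IsPrime.prod_mem_iff).mpr ⟨P₀, hfin.mem_toFinset.mpr hP₀, h5⟩)

/-- the numerical condition is open -/
theorem exists_spread_ciAt (Q : Ideal B) [Q.IsPrime] (h : CIAt I Q) :
    ∃ g : B, g ∉ Q ∧ ∀ (Q' : Ideal B) [Q'.IsPrime], g ∉ Q' → CIAt I Q' := by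
  classical
  obtain ⟨n, f, hf, hn⟩ := h
  haveI : IsNoetherianRing B := inferInstance
  have hspan : ∀ (Q' : Ideal B) [Q'.IsPrime],
      Ideal.span (Set.range fun i => algebraMap B (Localization.AtPrime Q') (f i)) =
        (Ideal.span (Set.range f)).map (algebraMap B (Localization.AtPrime Q')) := by
    intro Q' _
    rw [Ideal.map_span]
    congr 1
    ext x
    simp
  rw [hspan Q] at hf
  obtain ⟨g₁, hg₁, H₁⟩ := exists_spread_le (Ideal.span (Set.range f)) I
    ⟨(Finset.univ.image f), by simp⟩ Q hf.le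
  obtain ⟨g₂, hg₂, H₂⟩ := exists_spread_le I (Ideal.span (Set.range f))
    (IsNoetherian.noetherian I) Q hf.ge
  obtain ⟨g₃, hg₃, H₃⟩ := exists_spread_height I n Q hn
  refine ⟨g₁ * g₂ * g₃, ?_, ?_⟩
  · intro hmem
    rcases (Ideal.IsPrime.mem_or_mem inferInstance hmem) with h | h
    · rcases (Ideal.IsPrime.mem_or_mem inferInstance h) with h | h
      · exact hg₁ h
      · exact hg₂ h
    · exact hg₃ h
  · intro Q' _ hg
    have h1 : g₁ ∉ Q' := fun h => hg (Ideal.mul_mem_right _ _ (Ideal.mul_mem_right _ _ h))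
    have h2 : g₂ ∉ Q' := fun h => hg (Ideal.mul_mem_right _ _ (Ideal.mul_mem_left _ _ h))
    have h3 : g₃ ∉ Q' := fun h => hg (Ideal.mul_mem_left _ _ h)
    refine ⟨n, f, ?_, H₃ Q' h3⟩
    rw [hspan Q']
    exact le_antisymm (H₁ Q' h1) (H₂ Q' h2)


theorem ci_localization_iff (x : PrimeSpectrum (B ⧸ I)) :
    Pi1.IsCompleteIntersection (Localization.AtPrime x.asIdeal) ↔
      CIAt I (x.asIdeal.comap (Ideal.Quotient.mk I)) := by
  haveI : IsNoetherianRing B := inferInstance
  have hIQ : I ≤ x.asIdeal.comap (Ideal.Quotient.mk I) := by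
    intro b hb
    rw [Ideal.mem_comap, Ideal.Quotient.eq_zero_iff_mem.mpr hb]
    exact Ideal.zero_mem _
  haveI : IsLocalRing (Localization.AtPrime (x.asIdeal.comap (Ideal.Quotient.mk I)) ⧸
      I.map (algebraMap B (Localization.AtPrime (x.asIdeal.comap (Ideal.Quotient.mk I))))) :=
    Groth.Agent.Lib.Helper5.isLocalRing_quotient (map_ne_top I hIQ)
  rw [← ci_iff_ciAt I hIQ]
  have hM : Algebra.algebraMapSubmonoid (B ⧸ I) (x.asIdeal.comap (Ideal.Quotient.mk I)).primeCompl =
      x.asIdeal.primeCompl := by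
    ext y
    constructor
    · rintro ⟨z, hz, rfl⟩
      exact hz
    · intro hy
      obtain ⟨z, rfl⟩ := Ideal.Quotient.mk_surjective y
      exact ⟨z, hy, rfl⟩
  have hloc : IsLocalization (Algebra.algebraMapSubmonoid (B ⧸ I)
      (x.asIdeal.comap (Ideal.Quotient.mk I)).primeCompl)
      (Localization.AtPrime (x.asIdeal.comap (Ideal.Quotient.mk I)) ⧸
        I.map (algebraMap B (Localization.AtPrime (x.asIdeal.comap (Ideal.Quotient.mk I))))) :=
    inferInstance
  rw [hM] at hloc
  let e : Localization.AtPrime x.asIdeal ≃+*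
      (Localization.AtPrime (x.asIdeal.comap (Ideal.Quotient.mk I)) ⧸
        I.map (algebraMap B (Localization.AtPrime (x.asIdeal.comap (Ideal.Quotient.mk I))))) :=
    (IsLocalization.algEquiv x.asIdeal.primeCompl (Localization.AtPrime x.asIdeal)
      (Localization.AtPrime (x.asIdeal.comap (Ideal.Quotient.mk I)) ⧸
        I.map (algebraMap B (Localization.AtPrime
          (x.asIdeal.comap (Ideal.Quotient.mk I)))))).toRingEquiv
  exact ⟨isCompleteIntersection_of_ringEquiv e, isCompleteIntersection_of_ringEquiv e.symm⟩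

theorem isOpen_ci_localization :
    IsOpen {x : PrimeSpectrum (B ⧸ I) |
      Pi1.IsCompleteIntersection (Localization.AtPrime x.asIdeal)} := by
  rw [isOpen_iff_forall_mem_open]
  intro x hx
  rw [Set.mem_ofPred_eq, ci_localization_iff] at hx
  obtain ⟨g, hg, H⟩ := exists_spread_ciAt I _ hx
  refine ⟨(PrimeSpectrum.basicOpen (Ideal.Quotient.mk I g) : Set (PrimeSpectrum (B ⧸ I))), ?_,
    (PrimeSpectrum.basicOpen _).isOpen, ?_⟩
  · intro y hy
    rw [Set.mem_ofPred_eq, ci_localization_iff]
    exact H _ hy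
  · exact hg

set_option backward.isDefEq.respectTransparency.types false in
open AlgebraicGeometry in
theorem ci_stalk_iff (R : Type u) [CommRing R] [IsNoetherianRing R]
    (x : Spec (CommRingCat.of R)) (y : PrimeSpectrum R) (hxy : x = y) :
    Pi1.IsCompleteIntersection ((Spec (CommRingCat.of R)).presheaf.stalk x) ↔
      Pi1.IsCompleteIntersection (Localization.AtPrime y.asIdeal) := by
  subst hxy
  let e : Localization.AtPrime x.asIdeal ≃+*
      (Spec (CommRingCat.of R)).presheaf.stalk x :=
    (StructureSheaf.stalkIso R x).toRingEquiv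
  haveI : IsNoetherianRing ((Spec (CommRingCat.of R)).presheaf.stalk x) :=
    isNoetherianRing_of_ringEquiv _ e
  exact ⟨isCompleteIntersection_of_ringEquiv e.symm, isCompleteIntersection_of_ringEquiv e⟩

/-- the complete intersection locus of `Spec (B ⧸ I)` is open -/
theorem isOpen_ciLocus :
    IsOpen {x : ↥(AlgebraicGeometry.Spec (CommRingCat.of (B ⧸ I))) |
      Pi1.IsCompleteIntersection
        ((AlgebraicGeometry.Spec (CommRingCat.of (B ⧸ I))).presheaf.stalk x)} := by
  haveI : IsNoetherianRing B := inferInstance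
  have h := isOpen_ci_localization I
  have heq : {x : ↥(AlgebraicGeometry.Spec (CommRingCat.of (B ⧸ I))) |
      Pi1.IsCompleteIntersection
        ((AlgebraicGeometry.Spec (CommRingCat.of (B ⧸ I))).presheaf.stalk x)} =
      {x : PrimeSpectrum (B ⧸ I) |
        Pi1.IsCompleteIntersection (Localization.AtPrime x.asIdeal)} := by
    ext x
    exact ci_stalk_iff (B ⧸ I) x x rfl
  rw [heq]
  exact h

end Local

end Groth.Agent.Lib.Helper7.CILocus
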