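import Mathlib
import Groth.Agent.Lib.Helper7CILocus
import Groth.Agent.Lib.Helper28FlatEquidim
import Groth.Agent.S9408

/-! # Complete intersections under flat base change of regular presentations and base field extension (helper7) -/

set_option autoImplicit false
set_option linter.style.haveILetI false
universe u

namespace Groth.Agent.Lib.Helper7.CIFlat
open IsLocalRing

section Mu

variable {R R' : Type u} [CommRing R] [CommRing R'] [IsLocalRing R] [IsLocalRing R']
  [Algebra R R'] [IsLocalHom (algebraMap R R')] [Module.Flat R R']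

/-- descent of generators along a flat local homomorphism (relative form) -/
theorem exists_generators_of_map_aux (n : ℕ) :
    ∀ (K I : Ideal R), K ≤ I → (I.map (algebraMap R R')).FG → ∀ (w : Fin n → R'),
      I.map (algebraMap R R') = K.map (algebraMap R R') ⊔ Ideal.span (Set.range w) →
      ∃ v : Fin n → R, I = K ⊔ Ideal.span (Set.range v) := by
  haveI : Module.FaithfullyFlat R R' := Module.FaithfullyFlat.of_flat_of_isLocalHom
  induction n with
  | zero =>
    intro K I hKI _ w hw
    refine ⟨fun i => i.elim0, ?_⟩
    have h0 : Ideal.span (Set.range w) = ⊥ := by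
      rw [Ideal.span_eq_bot]
      rintro _ ⟨i, rfl⟩
      exact i.elim0
    rw [h0, sup_bot_eq] at hw
    have h1 : Ideal.span (Set.range fun i : Fin 0 => (i.elim0 : R)) = ⊥ := by
      rw [Ideal.span_eq_bot]
      rintro _ ⟨i, rfl⟩
      exact i.elim0
    rw [h1, sup_bot_eq]
    rw [← Ideal.comap_map_eq_self_of_faithfullyFlat (B := R') I,
      ← Ideal.comap_map_eq_self_of_faithfullyFlat (B := R') K, hw]
  | succ n ih =>
    intro K I hKI hfg w hw
    have hwI : ∀ i, w i ∈ I.map (algebraMap R R') := by
      intro i
      rw [hw]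
      exact Ideal.mem_sup_right (Ideal.subset_span ⟨i, rfl⟩)
    by_cases h : ∃ a ∈ I, ∃ (c : Fin (n + 1) → R') (k : R') (j : Fin (n + 1)),
        k ∈ K.map (algebraMap R R') ∧ IsUnit (c j) ∧ algebraMap R R' a = k + ∑ i, c i * w i
    · obtain ⟨a, haI, c, k, j, hk, hu, hrep⟩ := h
      have hK' : K ⊔ Ideal.span {a} ≤ I :=
        sup_le hKI ((Ideal.span_singleton_le_iff_mem I).mpr haI)
      have hwj : w j ∈ (K ⊔ Ideal.span {a}).map (algebraMap R R') ⊔
          Ideal.span (Set.range (w ∘ j.succAbove)) := by
        obtain ⟨u, hu'⟩ := hu.exists_left_inv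
        have h1 : w j = u * (algebraMap R R' a - k - ∑ i, c (j.succAbove i) * w (j.succAbove i)) := by
          rw [hrep, Fin.sum_univ_succAbove _ j]
          have : u * (k + (c j * w j + ∑ i, c (j.succAbove i) * w (j.succAbove i)) - k -
              ∑ i, c (j.succAbove i) * w (j.succAbove i)) = (u * c j) * w j := by ring
          rw [this, hu', one_mul]
        rw [h1]
        apply Ideal.mul_mem_left
        apply Ideal.sub_mem
        · apply Ideal.sub_mem
          · exact Ideal.mem_sup_left (Ideal.mem_map_of_mem _
              (Ideal.mem_sup_right (Ideal.mem_span_singleton_self a)))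
          · exact Ideal.mem_sup_left (Ideal.map_mono le_sup_left hk)
        · apply Ideal.mem_sup_right
          apply Ideal.sum_mem
          intro i _
          exact Ideal.mul_mem_left _ _ (Ideal.subset_span ⟨i, rfl⟩)
      have hw' : I.map (algebraMap R R') = (K ⊔ Ideal.span {a}).map (algebraMap R R') ⊔
          Ideal.span (Set.range (w ∘ j.succAbove)) := by
        apply le_antisymm
        · rw [hw]
          apply sup_le
          · exact le_sup_of_le_left (Ideal.map_mono le_sup_left)
          · rw [Ideal.span_le]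
            rintro _ ⟨i, rfl⟩
            by_cases hij : i = j
            · rw [hij]
              exact hwj
            · obtain ⟨i', rfl⟩ := Fin.exists_succAbove_eq hij
              exact Ideal.mem_sup_right (Ideal.subset_span ⟨i', rfl⟩)
        · apply sup_le
          · exact Ideal.map_mono hK'
          · rw [Ideal.span_le]
            rintro _ ⟨i, rfl⟩
            exact hwI _
      obtain ⟨v', hv'⟩ := ih (K ⊔ Ideal.span {a}) I hK' hfg (w ∘ j.succAbove) hw'
      refine ⟨Fin.cons a v', ?_⟩
      rw [hv', sup_assoc]
      congr 1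
      rw [← Ideal.span_union]
      congr 1
      ext x
      simp only [Set.singleton_union, Set.mem_insert_iff, Set.mem_range]
      constructor
      · rintro (rfl | ⟨i, rfl⟩)
        · exact ⟨0, rfl⟩
        · exact ⟨i.succ, by simp⟩
      · rintro ⟨i, rfl⟩
        refine Fin.cases ?_ (fun i => ?_) i
        · left; rfl
        · right; exact ⟨i, by simp⟩
    · push Not at h
      have hle : I.map (algebraMap R R') ≤ K.map (algebraMap R R') ⊔
          maximalIdeal R' • I.map (algebraMap R R') := by
        rw [Ideal.map_le_iff_le_comap]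
        intro a haI
        rw [Ideal.mem_comap]
        have h1 : algebraMap R R' a ∈ K.map (algebraMap R R') ⊔ Ideal.span (Set.range w) := by
          rw [← hw]
          exact Ideal.mem_map_of_mem _ haI
        obtain ⟨k, hk, y, hy, hky⟩ := Submodule.mem_sup.mp h1
        obtain ⟨c, hc⟩ := (Ideal.mem_span_range_iff_exists_fun).mp hy
        rw [← hky, ← hc]
        apply Ideal.add_mem _ (Ideal.mem_sup_left hk)
        apply Ideal.mem_sup_right
        apply Ideal.sum_mem
        intro i _
        have hci : c i ∈ maximalIdeal R' := by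
          rw [mem_maximalIdeal, mem_nonunits_iff]
          intro hu
          exact h a haI c k i hk hu (by rw [← hc] at hky; exact hky.symm)
        exact Submodule.smul_mem_smul hci (hwI i)
      have hle2 : I.map (algebraMap R R') ≤ K.map (algebraMap R R') :=
        Submodule.le_of_le_smul_of_le_jacobson_bot hfg
          (by rw [IsLocalRing.jacobson_eq_maximalIdeal ⊥ bot_ne_top]) hle
      have hIK : I = K := by
        apply le_antisymm _ hKI
        rw [← Ideal.comap_map_eq_self_of_faithfullyFlat (B := R') I,
          ← Ideal.comap_map_eq_self_of_faithfullyFlat (B := R') K]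
        exact Ideal.comap_mono hle2
      refine ⟨fun _ => 0, ?_⟩
      have h0 : Ideal.span (Set.range fun _ : Fin (n + 1) => (0 : R)) = ⊥ := by
        rw [Ideal.span_eq_bot]
        rintro _ ⟨i, rfl⟩
        rfl
      rw [h0, sup_bot_eq, hIK]

/-- descent of generators along a flat local homomorphism -/
theorem exists_generators_of_map [IsNoetherianRing R'] (I : Ideal R) {n : ℕ} (w : Fin n → R')
    (hw : Ideal.span (Set.range w) = I.map (algebraMap R R')) :
    ∃ v : Fin n → R, Ideal.span (Set.range v) = I := by
  obtain ⟨v, hv⟩ := exists_generators_of_map_aux (R' := R') n ⊥ I bot_le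
    (IsNoetherian.noetherian _) w (by rw [Ideal.map_bot, bot_sup_eq, hw])
  exact ⟨v, by rw [hv, bot_sup_eq]⟩

end Mu


section FlatGood
open Groth.Agent.Lib.Helper7.CIPres

variable {R R' : Type u} [CommRing R] [CommRing R'] [IsLocalRing R] [IsLocalRing R']
  [IsNoetherianRing R] [IsNoetherianRing R']
  [Algebra R R'] [IsLocalHom (algebraMap R R')] [Module.Flat R R']

/-- the numerical complete intersection condition is invariant under flat local homomorphisms -/
theorem good_map_iff (I : Ideal R) (hI : I ≠ ⊤) :
    Good R I ↔ Good R' (I.map (algebraMap R R')) := by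
  have hI' := Groth.Agent.Lib.Helper28.map_ne_top_of_isLocalHom (A' := R') I hI
  haveI : IsLocalRing (R ⧸ I) := Groth.Agent.Lib.Helper5.isLocalRing_quotient hI
  have h1 := Groth.Agent.Lib.Helper28.ringKrullDim_quotient_map_eq_add (A' := R') I hI
  have h2 := Groth.Agent.Lib.Helper28.ringKrullDim_eq_add_of_flat (R := R) (S := R')
    (EGA4.mB R R') rfl
  obtain ⟨d, hd⟩ := Groth.Agent.Lib.Helper19.exists_nat_ringKrullDim R
  obtain ⟨a, ha⟩ := Groth.Agent.Lib.Helper19.exists_nat_ringKrullDim (R ⧸ I)
  obtain ⟨e, he⟩ := Groth.Agent.Lib.Helper19.exists_nat_ringKrullDim (EGA4.FibRing R R')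
  change ringKrullDim R' = ringKrullDim (EGA4.FibRing R R') + ringKrullDim R at h2
  unfold Good
  rw [h1, h2, hd, ha, he]
  constructor
  · rintro ⟨n, v, hv, hn⟩
    refine ⟨n, fun i => algebraMap R R' (v i), ?_, ?_⟩
    · rw [← hv, Ideal.map_span]
      congr 1
      ext x
      simp
    · have h3 : n + a ≤ d := by exact_mod_cast hn
      have h4 : n + (e + a) ≤ e + d := by omega
      exact_mod_cast h4
  · rintro ⟨n, w, hw, hn⟩
    obtain ⟨v, hv⟩ := exists_generators_of_map (R' := R') I w hw
    refine ⟨n, v, hv, ?_⟩
    have h3 : n + (e + a) ≤ e + d := by exact_mod_cast hn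
    have h4 : n + a ≤ d := by omega
    exact_mod_cast h4

end FlatGood

section CIAtFlat
open Groth.Agent.Lib.Helper7.CIPres Groth.Agent.Lib.Helper7.CILocus

variable {B : Type u} [CommRing B] [IsRegularRing B]

theorem ciAt_iff_good (I : Ideal B) {Q : Ideal B} [Q.IsPrime] (hIQ : I ≤ Q) :
    CIAt I Q ↔ Good (Localization.AtPrime Q) (I.map (algebraMap B (Localization.AtPrime Q))) := by
  haveI : IsRegularLocalRing (Localization.AtPrime Q) :=
    (isRegularRing_iff (R := B)).mp inferInstance Q
  rw [good_iff_height _ (map_ne_top I hIQ)]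
  constructor
  · rintro ⟨n, f, hf, hn⟩
    exact ⟨n, _, hf, hn⟩
  · rintro ⟨n, v, hv, hn⟩
    obtain ⟨f, hf⟩ := exists_scaled v
    exact ⟨n, f, hf.trans hv, hn⟩

variable {B' : Type u} [CommRing B'] [IsRegularRing B'] [Algebra B B'] [Module.Flat B B']

/-- the numerical complete intersection condition at a prime is invariant under flat base change
of regular rings -/
theorem ciAt_map_iff (I : Ideal B) (P' : Ideal B') [P'.IsPrime]
    (hIP : I ≤ P'.comap (algebraMap B B')) :
    CIAt (I.map (algebraMap B B')) P' ↔ CIAt I (P'.comap (algebraMap B B')) := by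
  haveI : IsNoetherianRing B := inferInstance
  haveI : IsNoetherianRing B' := inferInstance
  have hIP' : I.map (algebraMap B B') ≤ P' := Ideal.map_le_iff_le_comap.mpr hIP
  rw [ciAt_iff_good _ hIP', ciAt_iff_good _ hIP]
  letI : P'.LiesOver (P'.comap (algebraMap B B')) := ⟨rfl⟩
  letI := Localization.AtPrime.algebraOfLiesOver (P'.comap (algebraMap B B')) P'
  haveI hloc : IsLocalHom (algebraMap (Localization.AtPrime (P'.comap (algebraMap B B')))
      (Localization.AtPrime P')) := by
    rw [RingHom.algebraMap_toAlgebra]
    exact Localization.isLocalHom_localRingHom _ P' (algebraMap B B') Ideal.LiesOver.over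
  haveI hflatB : Module.Flat B' (Localization.AtPrime P') := IsLocalization.flat _ P'.primeCompl
  haveI hflatA : Module.Flat B (Localization.AtPrime P') := Module.Flat.trans B B' _
  haveI hflat : Module.Flat (Localization.AtPrime (P'.comap (algebraMap B B')))
      (Localization.AtPrime P') :=
    (Module.flat_iff_of_isLocalization (Localization.AtPrime (P'.comap (algebraMap B B')))
      (P'.comap (algebraMap B B')).primeCompl _).mpr hflatA
  rw [good_map_iff (R' := Localization.AtPrime P') _ (map_ne_top I hIP)]
  rw [Ideal.map_map, Ideal.map_map, ← IsScalarTower.algebraMap_eq, ← IsScalarTower.algebraMap_eq]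

end CIAtFlat


section Surj
open Groth.Agent.Lib.Helper7.CIPres Groth.Agent.Lib.Helper7.CILocus

variable {B : Type u} [CommRing B] [IsRegularRing B] {A : Type u} [CommRing A]

/-- complete intersection at a prime of a quotient of a regular ring, in numerical terms -/
theorem ci_localization_iff_of_surjective (π : B →+* A) (hπ : Function.Surjective π)
    (q : Ideal A) [q.IsPrime] :
    Pi1.IsCompleteIntersection (Localization.AtPrime q) ↔ CIAt (RingHom.ker π) (q.comap π) := by
  haveI : IsNoetherianRing B := inferInstance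
  haveI : IsNoetherianRing A := isNoetherianRing_of_surjective B A π hπ
  let e : B ⧸ RingHom.ker π ≃+* A := RingHom.quotientKerEquivOfSurjective hπ
  have he : ∀ b, e (Ideal.Quotient.mk _ b) = π b := fun b => rfl
  let x : PrimeSpectrum (B ⧸ RingHom.ker π) := ⟨q.comap (e : B ⧸ RingHom.ker π →+* A), inferInstance⟩
  have hx : x.asIdeal.comap (Ideal.Quotient.mk (RingHom.ker π)) = q.comap π := by
    ext b
    simp only [x, Ideal.mem_comap]
    rw [← he b]
    rfl
  have h1 := ci_localization_iff (RingHom.ker π) x
  let ε : Localization.AtPrime x.asIdeal ≃+* Localization.AtPrime q :=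
    Localization.localRingEquiv x.asIdeal q e rfl
  haveI : IsNoetherianRing (Localization.AtPrime x.asIdeal) :=
    IsLocalization.isNoetherianRing x.asIdeal.primeCompl _ inferInstance
  haveI : IsNoetherianRing (Localization.AtPrime q) :=
    IsLocalization.isNoetherianRing q.primeCompl _ inferInstance
  have h2 : Pi1.IsCompleteIntersection (Localization.AtPrime q) ↔
      Pi1.IsCompleteIntersection (Localization.AtPrime x.asIdeal) :=
    ⟨isCompleteIntersection_of_ringEquiv ε.symm, isCompleteIntersection_of_ringEquiv ε⟩
  rw [h2, h1]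
  have hcong : ∀ (Q₁ Q₂ : Ideal B) [Q₁.IsPrime] [Q₂.IsPrime], Q₁ = Q₂ →
      (CIAt (RingHom.ker π) Q₁ ↔ CIAt (RingHom.ker π) Q₂) := by
    intro Q₁ Q₂ _ _ h
    subst h
    rfl
  exact hcong _ _ hx

variable {B' : Type u} [CommRing B'] [IsRegularRing B'] [Algebra B B'] [Module.Flat B B']
  {A' : Type u} [CommRing A']

/-- base change of the complete intersection property along a flat map of regular presentations -/
theorem ci_localization_iff_of_flat (π : B →+* A) (hπ : Function.Surjective π)
    (π' : B' →+* A') (hπ' : Function.Surjective π') (φ : A →+* A')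
    (hcomm : φ.comp π = π'.comp (algebraMap B B'))
    (hker : RingHom.ker π' = (RingHom.ker π).map (algebraMap B B'))
    (q' : Ideal A') [q'.IsPrime] :
    Pi1.IsCompleteIntersection (Localization.AtPrime q') ↔
      Pi1.IsCompleteIntersection (Localization.AtPrime (q'.comap φ)) := by
  rw [ci_localization_iff_of_surjective π' hπ' q', ci_localization_iff_of_surjective π hπ]
  have h1 : (q'.comap φ).comap π = (q'.comap π').comap (algebraMap B B') := by
    rw [Ideal.comap_comap, Ideal.comap_comap, hcomm]
  have hle : RingHom.ker π ≤ (q'.comap π').comap (algebraMap B B') := by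
    rw [← h1]
    intro b hb
    rw [Ideal.mem_comap, RingHom.mem_ker.mp hb]
    exact Ideal.zero_mem _
  rw [hker, ciAt_map_iff _ _ hle]
  have hcong : ∀ (Q₁ Q₂ : Ideal B) [Q₁.IsPrime] [Q₂.IsPrime], Q₁ = Q₂ →
      (CIAt (RingHom.ker π) Q₁ ↔ CIAt (RingHom.ker π) Q₂) := by
    intro Q₁ Q₂ _ _ h
    subst h
    rfl
  exact hcong _ _ h1.symm

end Surj


section Field
open TensorProduct

/-- polynomial rings over a field, tensored with a field extension, are regular -/
theorem isRegularRing_mvPolynomial_tensor (k k' : Type u) [Field k] [Field k'] [Algebra k k']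
    (n : ℕ) : IsRegularRing (MvPolynomial (Fin n) k ⊗[k] k') := by
  haveI : IsRegularRing k' := inferInstance
  haveI : Algebra.Smooth k (MvPolynomial (Fin n) k) := ⟨inferInstance, inferInstance⟩
  haveI : IsRegularRing (k' ⊗[k] MvPolynomial (Fin n) k) :=
    Groth.Agent.S9408.isRegularRing_of_smooth k' _
  exact IsRegularRing.of_ringEquiv (Algebra.TensorProduct.comm k k' (MvPolynomial (Fin n) k)).toRingEquiv

/-- **Base field extension**: for a finitely generated algebra `A` over a field `k`, a field
extension `k'` and a prime `q'` of `A ⊗ k'` over `q`: `(A ⊗ k')_{q'}` is a complete intersection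
iff `A_q` is. -/
theorem ci_tensor_field_iff (k A k' : Type u) [Field k] [CommRing A] [Algebra k A]
    [Algebra.FiniteType k A] [Field k'] [Algebra k k'] (q' : Ideal (A ⊗[k] k')) [q'.IsPrime] :
    Pi1.IsCompleteIntersection (Localization.AtPrime q') ↔
      Pi1.IsCompleteIntersection
        (Localization.AtPrime (q'.comap (algebraMap A (A ⊗[k] k')))) := by
  obtain ⟨n, π, hπ⟩ := Algebra.FiniteType.iff_quotient_mvPolynomial''.mp
    (inferInstance : Algebra.FiniteType k A)
  haveI : IsRegularRing k := inferInstance
  haveI : Algebra.Smooth k (MvPolynomial (Fin n) k) := ⟨inferInstance, inferInstance⟩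
  haveI : IsRegularRing (MvPolynomial (Fin n) k) :=
    Groth.Agent.S9408.isRegularRing_of_smooth k _
  haveI := isRegularRing_mvPolynomial_tensor k k' n
  refine ci_localization_iff_of_flat (B := MvPolynomial (Fin n) k)
    (B' := MvPolynomial (Fin n) k ⊗[k] k') π.toRingHom hπ
    (Algebra.TensorProduct.map π (AlgHom.id k k')).toRingHom
    (Algebra.TensorProduct.map_surjective π (AlgHom.id k k') hπ Function.surjective_id)
    (algebraMap A (A ⊗[k] k')) ?_ ?_ q'
  · ext b
    · simp [Algebra.TensorProduct.algebraMap_apply]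
    · simp [Algebra.TensorProduct.algebraMap_apply]
  · exact Algebra.TensorProduct.rTensor_ker π hπ

end Field


section EssFT
open TensorProduct Groth.Agent.Lib.Helper7.CILocus

/-- localization of a tensor product at a prime, computed on a model before localization -/
theorem exists_ringEquiv_localization_tensor (k A₀ T k' : Type u) [CommRing k] [CommRing A₀]
    [CommRing T] [CommRing k'] [Algebra k A₀] [Algebra k T] [Algebra A₀ T] [IsScalarTower k A₀ T]
    [Algebra k k'] (M : Submonoid A₀) [IsLocalization M T] (𝔮 : Ideal (T ⊗[k] k')) [𝔮.IsPrime] :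
    Nonempty (Localization.AtPrime (𝔮.comap (Algebra.TensorProduct.map
      (IsScalarTower.toAlgHom k A₀ T) (AlgHom.id k k')).toRingHom) ≃+* Localization.AtPrime 𝔮) := by
  letI alg : Algebra (A₀ ⊗[k] k') (T ⊗[k] k') :=
    (Algebra.TensorProduct.map (IsScalarTower.toAlgHom k A₀ T) (AlgHom.id k k')).toRingHom.toAlgebra
  haveI : IsScalarTower A₀ (A₀ ⊗[k] k') (T ⊗[k] k') := by
    refine IsScalarTower.of_algebraMap_eq' ?_
    ext a
    simp [RingHom.algebraMap_toAlgebra, Algebra.TensorProduct.algebraMap_apply]
  haveI hloc : IsLocalization (Algebra.algebraMapSubmonoid (A₀ ⊗[k] k') M) (T ⊗[k] k') :=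
    IsLocalization.tensorProduct_tensorProduct k k' M T (by
      ext x
      simp [RingHom.algebraMap_toAlgebra])
  haveI := IsLocalization.isLocalization_isLocalization_atPrime_isLocalization
    (M := Algebra.algebraMapSubmonoid (A₀ ⊗[k] k') M) (Localization.AtPrime 𝔮) 𝔮
  exact ⟨(IsLocalization.algEquiv (𝔮.comap (algebraMap (A₀ ⊗[k] k') (T ⊗[k] k'))).primeCompl
    (Localization.AtPrime (𝔮.comap (algebraMap (A₀ ⊗[k] k') (T ⊗[k] k'))))
    (Localization.AtPrime 𝔮)).toRingEquiv⟩

theorem ci_localization_congr {A : Type u} [CommRing A] [IsNoetherianRing A] (q₁ q₂ : Ideal A)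
    [q₁.IsPrime] [q₂.IsPrime] (h : q₁ = q₂) :
    Pi1.IsCompleteIntersection (Localization.AtPrime q₁) ↔
      Pi1.IsCompleteIntersection (Localization.AtPrime q₂) := by
  subst h
  rfl

/-- **Base field extension, local form**: for a local ring `T` essentially of finite type over a
field `k`, a field extension `k'` and a prime `𝔮` of `T ⊗ k'` over the maximal ideal of `T`:
`(T ⊗ k')_𝔮` is a complete intersection iff `T` is. -/
theorem ci_tensor_field_iff_of_essFiniteType (k T k' : Type u) [Field k] [CommRing T]
    [IsLocalRing T] [Field k'] [Algebra k T] [Algebra k k'] [Algebra.EssFiniteType k T]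
    (𝔮 : Ideal (T ⊗[k] k')) [𝔮.IsPrime]
    (h𝔮 : 𝔮.comap (algebraMap T (T ⊗[k] k')) = maximalIdeal T) :
    Pi1.IsCompleteIntersection (Localization.AtPrime 𝔮) ↔ Pi1.IsCompleteIntersection T := by
  let A₀ := Algebra.EssFiniteType.subalgebra k T
  let M := Algebra.EssFiniteType.submonoid k T
  haveI : IsLocalization M T := Algebra.EssFiniteType.isLocalization k T
  haveI : IsNoetherianRing A₀ := Algebra.FiniteType.isNoetherianRing k A₀
  haveI : Algebra.FiniteType k' (k' ⊗[k] A₀) := inferInstance
  haveI : IsNoetherianRing (k' ⊗[k] A₀) := Algebra.FiniteType.isNoetherianRing k' _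
  haveI : IsNoetherianRing (A₀ ⊗[k] k') :=
    isNoetherianRing_of_ringEquiv _ (Algebra.TensorProduct.comm k k' A₀).toRingEquiv
  haveI : IsNoetherianRing T := IsLocalization.isNoetherianRing M T inferInstance
  set ψ := (Algebra.TensorProduct.map (IsScalarTower.toAlgHom k A₀ T) (AlgHom.id k k')).toRingHom
    with hψ
  obtain ⟨e₁⟩ := exists_ringEquiv_localization_tensor k A₀ T k' M 𝔮
  haveI : IsNoetherianRing (Localization.AtPrime (𝔮.comap ψ)) :=
    IsLocalization.isNoetherianRing (𝔮.comap ψ).primeCompl _ inferInstance
  haveI : IsNoetherianRing (Localization.AtPrime 𝔮) := isNoetherianRing_of_ringEquiv _ e₁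
  have h1 : Pi1.IsCompleteIntersection (Localization.AtPrime 𝔮) ↔
      Pi1.IsCompleteIntersection (Localization.AtPrime (𝔮.comap ψ)) :=
    ⟨isCompleteIntersection_of_ringEquiv e₁.symm, isCompleteIntersection_of_ringEquiv e₁⟩
  rw [h1, ci_tensor_field_iff k A₀ k' (𝔮.comap ψ)]
  -- the prime of `A₀`
  have hp : (𝔮.comap ψ).comap (algebraMap A₀ (A₀ ⊗[k] k')) =
      (maximalIdeal T).comap (algebraMap A₀ T) := by
    rw [← h𝔮, Ideal.comap_comap, Ideal.comap_comap]
    congr 1
  rw [ci_localization_congr _ _ hp]
  have hM : M = ((maximalIdeal T).comap (algebraMap A₀ T)).primeCompl := by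
    ext a
    change IsUnit (algebraMap A₀ T a) ↔ ¬ (algebraMap A₀ T a ∈ maximalIdeal T)
    rw [mem_maximalIdeal, mem_nonunits_iff, not_not]
  haveI hlocT : IsLocalization ((maximalIdeal T).comap (algebraMap A₀ T)).primeCompl T := by
    rw [← hM]
    infer_instance
  let e₂ : Localization.AtPrime ((maximalIdeal T).comap (algebraMap A₀ T)) ≃+* T :=
    (IsLocalization.algEquiv ((maximalIdeal T).comap (algebraMap A₀ T)).primeCompl
      (Localization.AtPrime ((maximalIdeal T).comap (algebraMap A₀ T))) T).toRingEquiv
  haveI : IsNoetherianRing (Localization.AtPrime ((maximalIdeal T).comap (algebraMap A₀ T))) :=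
    IsLocalization.isNoetherianRing ((maximalIdeal T).comap (algebraMap A₀ T)).primeCompl _
      inferInstance
  exact ⟨isCompleteIntersection_of_ringEquiv e₂, isCompleteIntersection_of_ringEquiv e₂.symm⟩

end EssFT

end Groth.Agent.Lib.Helper7.CIFlat
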