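import Mathlib
import Groth.Agent.Lib.Helper5FiberBC

/-!
# Codepth of fibre local rings: base change and flat descent (helper5)

* `CodepthLE n R`: `R` is a Noetherian local ring with `dim R ≤ depth R + n`.
* `FibCMInv P`, `BaseCMInv P`: `P` is insensitive to flat local homomorphisms with
  Cohen–Macaulay closed fibre (resp. Cohen–Macaulay source); both hold for `CodepthLE n`.
* `RingBCInv P`, `ringBCInv_of_fibCMInv`: `P ((T ⊗[k] k')_𝔮) ↔ P T`.
* `fiber_stalk_baseChange_iff_of_ringBCInv`: invariance of `P` of fibre local rings under base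
  change.
* `flat_iff_of_baseCM`: for `f` flat at `x` with `O_{Y,f x}` Cohen–Macaulay:
  `P O_{X,x} ↔ P (fibre local ring)`.
* `fiber_stalk_openImmersion_iff`: the fibre local ring only depends on a neighbourhood.
-/

set_option autoImplicit false
universe u

namespace Groth.Agent.Lib.Helper5.CodepthFib
open AlgebraicGeometry CategoryTheory Limits IsLocalRing TensorProduct
  Groth.Agent.Lib.Helper5.FiberStalk Groth.Agent.Lib.Helper5.FiberRing
  Groth.Agent.Lib.Helper5.FiberMor Groth.Agent.Lib.Helper5.FlatPreimm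
  Groth.Agent.Lib.Helper5.FiberBC Groth.Agent.Lib.Helper5.GorFlat
  Groth.Agent.Lib.Helper5 Groth.Agent.Lib.Helper28 LocCoh

section Ring

/-- `R` is a Noetherian local ring of codepth at most `n`. -/
def CodepthLE (n : ℕ) (R : Type u) [CommRing R] : Prop :=
  ∃ (_ : IsLocalRing R), IsNoetherianRing R ∧
    ringKrullDim R ≤ ((LocCoh.depth R R : ℕ∞) : WithBot ℕ∞) + n

theorem codepthLE_iff (n : ℕ) (R : Type u) [CommRing R] [IsLocalRing R] [IsNoetherianRing R] :
    CodepthLE n R ↔ (maximalIdeal R).height ≤ LocCoh.depth R R + n := by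
  have hn : ((n : ℕ) : WithBot ℕ∞) = ((n : ℕ∞) : WithBot ℕ∞) := rfl
  constructor
  · rintro ⟨_, _, h⟩
    rw [← IsLocalRing.maximalIdeal_height_eq_ringKrullDim, hn, ← WithBot.coe_add,
      WithBot.coe_le_coe] at h
    exact h
  · intro h
    refine ⟨inferInstance, inferInstance, ?_⟩
    rw [← IsLocalRing.maximalIdeal_height_eq_ringKrullDim, hn, ← WithBot.coe_add,
      WithBot.coe_le_coe]
    exact h

theorem isoInv_codepthLE (n : ℕ) : IsoInv.{u} (CodepthLE n) := by
  rintro R S _ _ e ⟨h1, h2, h3⟩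
  haveI := h1
  haveI := h2
  haveI : IsLocalRing S := e.isLocalRing
  haveI : IsNoetherianRing S := isNoetherianRing_of_ringEquiv R e
  refine ⟨inferInstance, inferInstance, ?_⟩
  rw [← ringKrullDim_eq_of_ringEquiv e, ← depth_self_eq_of_ringEquiv e]
  exact h3

theorem codepthLE_zero_iff (R : Type u) [CommRing R] :
    CodepthLE 0 R ↔ IsCohenMacaulayLocalRing R := by
  constructor
  · rintro ⟨h1, h2, h3⟩
    haveI := h1
    haveI := h2
    rw [isCohenMacaulayLocalRing_iff]
    have h := (codepthLE_iff 0 R).mp ⟨h1, h2, h3⟩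
    rw [Nat.cast_zero, add_zero] at h
    exact le_antisymm h (depth_le_height R)
  · intro h
    haveI := h.toIsLocalRing
    haveI := h.toIsNoetherian
    rw [codepthLE_iff, (isCohenMacaulayLocalRing_iff R).mp h, Nat.cast_zero, add_zero]

theorem exists_nat_height_depth (R : Type u) [CommRing R] [IsLocalRing R] [IsNoetherianRing R] :
    ∃ h d : ℕ, (maximalIdeal R).height = (h : ℕ∞) ∧ LocCoh.depth R R = (d : ℕ∞) ∧ d ≤ h := by
  obtain ⟨h, hh⟩ := ENat.ne_top_iff_exists.mp
    (Ideal.height_ne_top_of_isPrime (I := maximalIdeal R))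
  have hle := depth_le_height R
  rw [← hh] at hle
  obtain ⟨d, hd⟩ := ENat.ne_top_iff_exists.mp (ne_top_of_le_ne_top (ENat.natCast_ne_top h) hle)
  refine ⟨h, d, hh.symm, hd.symm, ?_⟩
  rw [← hd] at hle
  exact_mod_cast hle

theorem codepth_eq_zero_iff (R : Type u) [CommRing R] [IsLocalRing R] [IsNoetherianRing R] :
    ringKrullDim R = ((LocCoh.depth R R : ℕ∞) : WithBot ℕ∞) + ((0 : ℕ) : WithBot ℕ∞) ↔
      CodepthLE 0 R := by
  obtain ⟨h, d, hh, hd, hdh⟩ := exists_nat_height_depth R
  rw [codepthLE_iff, ← IsLocalRing.maximalIdeal_height_eq_ringKrullDim, hh, hd]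
  simp only [Nat.cast_zero, add_zero, WithBot.coe_inj]
  norm_cast
  omega

theorem codepth_eq_succ_iff (R : Type u) [CommRing R] [IsLocalRing R] [IsNoetherianRing R]
    (n : ℕ) :
    ringKrullDim R = ((LocCoh.depth R R : ℕ∞) : WithBot ℕ∞) + ((n + 1 : ℕ) : WithBot ℕ∞) ↔
      CodepthLE (n + 1) R ∧ ¬ CodepthLE n R := by
  obtain ⟨h, d, hh, hd, hdh⟩ := exists_nat_height_depth R
  have hn : ((n + 1 : ℕ) : WithBot ℕ∞) = (((n + 1 : ℕ) : ℕ∞) : WithBot ℕ∞) := rfl
  rw [codepthLE_iff, codepthLE_iff, ← IsLocalRing.maximalIdeal_height_eq_ringKrullDim, hh, hd, hn,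
    ← WithBot.coe_add, WithBot.coe_inj]
  norm_cast
  omega

variable {P : ∀ (R : Type u) [CommRing R], Prop}

/-- `P` is insensitive to flat local homomorphisms with Cohen–Macaulay closed fibre. -/
def FibCMInv (P : ∀ (R : Type u) [CommRing R], Prop) : Prop :=
  ∀ (A B F : Type u) [CommRing A] [CommRing B] [CommRing F] [IsLocalRing A] [IsNoetherianRing A]
    [IsLocalRing B] [IsNoetherianRing B] [IsLocalRing F] [Algebra A B]
    [IsLocalHom (algebraMap A B)] [Module.Flat A B] (π : B →+* F), Function.Surjective π →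
    RingHom.ker π = (maximalIdeal A).map (algebraMap A B) → IsCohenMacaulayLocalRing F →
    (P B ↔ P A)

/-- For flat local homomorphisms with Cohen–Macaulay source, `P` of the target is `P` of the
closed fibre. -/
def BaseCMInv (P : ∀ (R : Type u) [CommRing R], Prop) : Prop :=
  ∀ (A B F : Type u) [CommRing A] [CommRing B] [CommRing F] [IsLocalRing A] [IsNoetherianRing A]
    [IsLocalRing B] [IsNoetherianRing B] [IsLocalRing F] [Algebra A B]
    [IsLocalHom (algebraMap A B)] [Module.Flat A B] (π : B →+* F), Function.Surjective π →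
    RingHom.ker π = (maximalIdeal A).map (algebraMap A B) → IsCohenMacaulayLocalRing A →
    (P B ↔ P F)

section Data

variable (A B F : Type u) [CommRing A] [CommRing B] [CommRing F]
  [IsLocalRing A] [IsNoetherianRing A] [IsLocalRing B] [IsNoetherianRing B] [IsLocalRing F]
  [IsNoetherianRing F]
  [Algebra A B] [IsLocalHom (algebraMap A B)] [Module.Flat A B] (π : B →+* F)
  (hπ : Function.Surjective π) (hker : RingHom.ker π = (maximalIdeal A).map (algebraMap A B))

include hπ hker in
theorem codepth_data : ∃ a a' φ φ' : ℕ, (maximalIdeal A).height = (a : ℕ∞) ∧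
    LocCoh.depth A A = (a' : ℕ∞) ∧ (maximalIdeal F).height = (φ : ℕ∞) ∧
    LocCoh.depth F F = (φ' : ℕ∞) ∧ (maximalIdeal B).height = ((φ + a : ℕ) : ℕ∞) ∧
    LocCoh.depth B B = ((a' + φ' : ℕ) : ℕ∞) ∧ a' ≤ a ∧ φ' ≤ φ := by
  have hdim := dim_formula π hπ hker
  have hdep := depth_formula π hπ hker
  have hB : (maximalIdeal B).height = (maximalIdeal F).height + (maximalIdeal A).height := by
    rw [← IsLocalRing.maximalIdeal_height_eq_ringKrullDim,
      ← IsLocalRing.maximalIdeal_height_eq_ringKrullDim,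
      ← IsLocalRing.maximalIdeal_height_eq_ringKrullDim, ← WithBot.coe_add] at hdim
    exact WithBot.coe_injective hdim
  obtain ⟨a, a', h1, h2, h3⟩ := exists_nat_height_depth A
  obtain ⟨φ, φ', h4, h5, h6⟩ := exists_nat_height_depth F
  refine ⟨a, a', φ, φ', h1, h2, h4, h5, ?_, ?_, h3, h6⟩
  · rw [hB, h1, h4]
    norm_cast
  · rw [hdep, h2, h5]
    norm_cast

end Data

theorem fibCMInv_codepthLE (n : ℕ) : FibCMInv.{u} (CodepthLE n) := by
  intro A B F _ _ _ _ _ _ _ _ _ _ _ π hπ hker hF
  haveI hNF : IsNoetherianRing F := isNoetherianRing_of_surjective B F π hπ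
  obtain ⟨a, a', φ, φ', h1, h2, h3, h4, h5, h6, h7, h8⟩ := codepth_data A B F π hπ hker
  have hFcm := (isCohenMacaulayLocalRing_iff F).mp hF
  rw [h3, h4] at hFcm
  have hφ : φ = φ' := by exact_mod_cast hFcm
  rw [codepthLE_iff, codepthLE_iff, h5, h6, h1, h2]
  norm_cast
  omega

theorem baseCMInv_codepthLE (n : ℕ) : BaseCMInv.{u} (CodepthLE n) := by
  intro A B F _ _ _ _ _ _ _ _ _ _ _ π hπ hker hA
  haveI hNF : IsNoetherianRing F := isNoetherianRing_of_surjective B F π hπ
  obtain ⟨a, a', φ, φ', h1, h2, h3, h4, h5, h6, h7, h8⟩ := codepth_data A B F π hπ hker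
  have hAcm := (isCohenMacaulayLocalRing_iff A).mp hA
  rw [h1, h2] at hAcm
  have ha : a = a' := by exact_mod_cast hAcm
  rw [codepthLE_iff, codepthLE_iff, h5, h6, h3, h4]
  norm_cast
  omega

/-- Invariance of `P` under `T ↦ (T ⊗[k] k')_𝔮`. -/
def RingBCInv (P : ∀ (R : Type u) [CommRing R], Prop) : Prop :=
  ∀ (k T k' : Type u) [Field k] [CommRing T] [IsLocalRing T] [IsNoetherianRing T] [Field k']
    [Algebra k T] [Algebra k k'], (Algebra.EssFiniteType k T ∨ Algebra.EssFiniteType k k') →
    ∀ (𝔮 : Ideal (T ⊗[k] k')) [𝔮.IsPrime],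
      𝔮.comap (algebraMap T (T ⊗[k] k')) = maximalIdeal T →
      (P (Localization.AtPrime 𝔮) ↔ P T)

theorem ringBCInv_of_fibCMInv (hP : FibCMInv P) (hPe : IsoInv P) : RingBCInv P := by
  intro k T k' _ _ _ _ _ _ _ hft 𝔮 _ h𝔮
  haveI hN : IsNoetherianRing (T ⊗[k] k') := by
    rcases hft with h | h
    · haveI := h
      haveI : Algebra.EssFiniteType k' (k' ⊗[k] T) := inferInstance
      haveI : IsNoetherianRing (k' ⊗[k] T) := Algebra.EssFiniteType.isNoetherianRing k' _
      exact isNoetherianRing_of_ringEquiv _ (Algebra.TensorProduct.comm k k' T).toRingEquiv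
    · haveI := h
      haveI : Algebra.EssFiniteType T (T ⊗[k] k') := inferInstance
      exact Algebra.EssFiniteType.isNoetherianRing T _
  have h1 : P (Localization.AtPrime 𝔮) ↔
      P (Localization.AtPrime (𝔮.comap (algebraMap T (T ⊗[k] k')))) := by
    obtain ⟨alg, hloc, hflat, hmap⟩ :=
      exists_algebra_localization_flat (A := T) (B := T ⊗[k] k') 𝔮
    letI := alg
    haveI := hloc
    haveI := hflat
    haveI : IsLocalRing (EGA4.FibLocRing T (T ⊗[k] k') 𝔮) := isLocalRing_fibLocRing (A := T) 𝔮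
    exact hP (Localization.AtPrime (𝔮.comap (algebraMap T (T ⊗[k] k')))) (Localization.AtPrime 𝔮)
      (EGA4.FibLocRing T (T ⊗[k] k') 𝔮) (Ideal.Quotient.mk _) Ideal.Quotient.mk_surjective
      (by rw [Ideal.mk_ker]; exact hmap) (fieldFibP_cm k T k' hft 𝔮)
  have h0 : (𝔮.comap (algebraMap T (T ⊗[k] k'))).primeCompl ≤ IsUnit.submonoid T := by
    intro x hx
    rw [IsUnit.mem_submonoid_iff]
    by_contra hnu
    exact hx (h𝔮 ▸ (mem_maximalIdeal x).mpr hnu)
  haveI : IsLocalization (𝔮.comap (algebraMap T (T ⊗[k] k'))).primeCompl T :=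
    IsLocalization.of_le_isUnit h0
  let e := (IsLocalization.algEquiv (𝔮.comap (algebraMap T (T ⊗[k] k'))).primeCompl T
    (Localization.AtPrime (𝔮.comap (algebraMap T (T ⊗[k] k'))))).toRingEquiv
  rw [h1]
  exact ⟨hPe _ _ e.symm, hPe _ _ e⟩

end Ring

section Flat

variable {P : ∀ (R : Type u) [CommRing R], Prop}
variable {X Y : Scheme.{u}} (f : X ⟶ Y) (x : X)

/-- For `f` flat at `x` with Noetherian local rings and `O_{Y,f x}` Cohen–Macaulay:
`P O_{X,x}` iff `P` of the local ring of the fibre at `x`. -/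
theorem flat_iff_of_baseCM (hP : BaseCMInv P) (hPe : IsoInv P)
    [IsNoetherianRing (X.presheaf.stalk x)]
    [IsNoetherianRing (Y.presheaf.stalk (f x))] (hfl : (f.stalkMap x).hom.Flat)
    (hY : IsCohenMacaulayLocalRing (Y.presheaf.stalk (f x))) :
    P (X.presheaf.stalk x) ↔ P ((f.fiber (f x)).presheaf.stalk (f.asFiber x)) := by
  rw [fiber_stalk_iff f x hPe]
  letI := (f.stalkMap x).hom.toAlgebra
  haveI : IsLocalHom (algebraMap (Y.presheaf.stalk (f x)) (X.presheaf.stalk x)) :=
    inferInstanceAs (IsLocalHom (f.stalkMap x).hom)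
  haveI : Module.Flat (Y.presheaf.stalk (f x)) (X.presheaf.stalk x) := hfl
  have hne : (maximalIdeal (Y.presheaf.stalk (f x))).map (f.stalkMap x).hom ≠ ⊤ :=
    (IsLocalRing.map_maximalIdeal_lt_top _).ne
  haveI : IsLocalRing (X.presheaf.stalk x ⧸
      (maximalIdeal (Y.presheaf.stalk (f x))).map (f.stalkMap x).hom) :=
    isLocalRing_quotient hne
  exact hP (Y.presheaf.stalk (f x)) (X.presheaf.stalk x) _ (Ideal.Quotient.mk _)
    Ideal.Quotient.mk_surjective (by rw [Ideal.mk_ker]; rfl) hY

/-- The local ring of the fibre at a point only depends on an open neighbourhood of the point. -/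
theorem fiber_stalk_openImmersion_iff (hPe : IsoInv P) {U : Scheme.{u}} (j : U ⟶ X)
    [IsOpenImmersion j] (u : U) :
    P (((j ≫ f).fiber ((j ≫ f) u)).presheaf.stalk ((j ≫ f).asFiber u)) ↔
      P ((f.fiber (f (j u))).presheaf.stalk (f.asFiber (j u))) := by
  rw [fiber_stalk_iff (j ≫ f) u hPe, fiber_stalk_iff f (j u) hPe]
  let e : X.presheaf.stalk (j u) ≃+* U.presheaf.stalk u :=
    (asIso (j.stalkMap u)).commRingCatIsoToRingEquiv
  have hI : (maximalIdeal (Y.presheaf.stalk ((j ≫ f) u))).map ((j ≫ f).stalkMap u).hom =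
      ((maximalIdeal (Y.presheaf.stalk (f (j u)))).map (f.stalkMap (j u)).hom).map
        (e : X.presheaf.stalk (j u) →+* U.presheaf.stalk u) := by
    rw [Scheme.Hom.stalkMap_comp]
    exact (Ideal.map_map _ _).symm
  let E := Ideal.quotientEquiv _ _ e hI
  exact ⟨hPe _ _ E.symm, hPe _ _ E⟩

end Flat


section FibBC

variable {P : ∀ (R : Type u) [CommRing R], Prop}
variable {X Y X' Y' : Scheme.{u}} {f : X ⟶ Y} {g : Y' ⟶ Y} {f' : X' ⟶ Y'} {g' : X' ⟶ X}

/-- In a cartesian square, the local ring of the fibre of `f'` at `x'` has `P` iff the local ring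
of the fibre of `f` at `g' x'` has `P`, provided the latter is Noetherian and `f` is locally
of finite type or the residue field extension of `g` at `f' x'` is essentially of finite type. -/
theorem fiber_stalk_baseChange_iff_of_ringBCInv' (hR : RingBCInv P) (hPe : IsoInv P)
    (hsq : IsPullback g' f' f g) (x' : X')
    [hN : IsNoetherianRing ((f.fiber (f (g' x'))).presheaf.stalk (f.asFiber (g' x')))]
    (hreg : LocallyOfFiniteType f ∨ (g.residueFieldMap (f' x')).hom.EssFiniteType) :
    P ((f'.fiber (f' x')).presheaf.stalk (f'.asFiber x')) ↔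
      P ((f.fiber (f (g' x'))).presheaf.stalk (f.asFiber (g' x'))) := by
  obtain ⟨h, hpb, hcomm⟩ : ∃ h : f'.fiber (f' x') ⟶ f.fiber (g (f' x')),
      IsPullback h (f'.fiberToSpecResidueField (f' x'))
        (f.fiberToSpecResidueField (g (f' x'))) (Spec.map (g.residueFieldMap (f' x'))) ∧
      h ≫ f.fiberι (g (f' x')) = f'.fiberι (f' x') ≫ g' :=
    ⟨_, isPullback_fiberToSpecResidueField_of_isPullback hsq (f' x'), pullback.lift_fst _ _ _⟩
  -- transport to the fibre over `g (f' x')`
  have hw₁ : f.fiberι (g (f' x')) (h (f'.asFiber x')) = g' x' := by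
    rw [← Scheme.Hom.comp_apply, hcomm, Scheme.Hom.comp_apply, f'.fiberι_asFiber]
  have hyy : g (f' x') = f (g' x') := by
    rw [← Scheme.Hom.comp_apply, ← Scheme.Hom.comp_apply, hsq.w]
  obtain ⟨eT⟩ := fiber_stalk_transport f hyy (h (f'.asFiber x')) (f.asFiber (g' x'))
    (hw₁.trans (f.fiberι_asFiber _).symm)
  haveI : IsNoetherianRing ((f.fiber (g (f' x'))).presheaf.stalk (h (f'.asFiber x'))) :=
    isNoetherianRing_of_ringEquiv _ eT.symm
  -- the algebra structures
  letI algT : Algebra (Y.residueField (g (f' x')))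
      ((f.fiber (g (f' x'))).presheaf.stalk (h (f'.asFiber x'))) :=
    (StructureSheaf.toStalk (Y.residueField (g (f' x')))
        ((f.fiberToSpecResidueField (g (f' x'))) (h (f'.asFiber x'))) ≫
      (f.fiberToSpecResidueField (g (f' x'))).stalkMap (h (f'.asFiber x'))).hom.toAlgebra
  letI algK : Algebra (Y.residueField (g (f' x'))) (Y'.residueField (f' x')) :=
    (g.residueFieldMap (f' x')).hom.toAlgebra
  -- pasting of the cartesian squares
  have hpaste := (IsPullback.of_hasPullback
    ((f.fiber (g (f' x'))).fromSpecStalk (h (f'.asFiber x'))) h).paste_vert hpb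
  have hjπ : (f.fiber (g (f' x'))).fromSpecStalk (h (f'.asFiber x')) ≫
      f.fiberToSpecResidueField (g (f' x')) =
      Spec.map (CommRingCat.ofHom (algebraMap (Y.residueField (g (f' x')))
        ((f.fiber (g (f' x'))).presheaf.stalk (h (f'.asFiber x'))))) := by
    rw [← Scheme.SpecMap_stalkMap_fromSpecStalk, Spec.fromSpecStalk_eq']
    exact (Spec.map_comp _ _).symm
  rw [hjπ] at hpaste
  let ε := hpaste.isoPullback ≪≫ pullbackSpecIso (Y.residueField (g (f' x')))
    ((f.fiber (g (f' x'))).presheaf.stalk (h (f'.asFiber x'))) (Y'.residueField (f' x'))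
  -- the point
  obtain ⟨z, hz1, hz2⟩ := Scheme.Pullback.exists_preimage_pullback
    (f := (f.fiber (g (f' x'))).fromSpecStalk (h (f'.asFiber x'))) (g := h)
    (closedPoint ((f.fiber (g (f' x'))).presheaf.stalk (h (f'.asFiber x')))) (f'.asFiber x')
    Scheme.fromSpecStalk_closedPoint
  have hq1 : (Spec.map (CommRingCat.ofHom (algebraMap
      ((f.fiber (g (f' x'))).presheaf.stalk (h (f'.asFiber x')))
      (((f.fiber (g (f' x'))).presheaf.stalk (h (f'.asFiber x'))) ⊗[Y.residueField (g (f' x'))]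
        (Y'.residueField (f' x')))))) (ε.hom z) =
      closedPoint ((f.fiber (g (f' x'))).presheaf.stalk (h (f'.asFiber x'))) := by
    have hcomp : ε.hom ≫ Spec.map (CommRingCat.ofHom (algebraMap
        ((f.fiber (g (f' x'))).presheaf.stalk (h (f'.asFiber x')))
        (((f.fiber (g (f' x'))).presheaf.stalk (h (f'.asFiber x')))
          ⊗[Y.residueField (g (f' x'))] (Y'.residueField (f' x'))))) =
        pullback.fst ((f.fiber (g (f' x'))).fromSpecStalk (h (f'.asFiber x'))) h := by
      simp only [ε, Iso.trans_hom, Category.assoc, pullbackSpecIso_hom_fst']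
      exact hpaste.isoPullback_hom_fst
    rw [← hcomp] at hz1
    exact hz1
  have h𝔮 : (ε.hom z).asIdeal.comap (algebraMap
      ((f.fiber (g (f' x'))).presheaf.stalk (h (f'.asFiber x')))
      (((f.fiber (g (f' x'))).presheaf.stalk (h (f'.asFiber x'))) ⊗[Y.residueField (g (f' x'))]
        (Y'.residueField (f' x')))) =
      maximalIdeal ((f.fiber (g (f' x'))).presheaf.stalk (h (f'.asFiber x'))) :=
    congrArg PrimeSpectrum.asIdeal hq1
  -- the flat preimmersion from the spectrum of the tensor product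
  have hρ : (ε.inv ≫ pullback.snd ((f.fiber (g (f' x'))).fromSpecStalk (h (f'.asFiber x'))) h)
      (ε.hom z) = f'.asFiber x' := by
    have hcomp : ε.hom ≫ ε.inv ≫
        pullback.snd ((f.fiber (g (f' x'))).fromSpecStalk (h (f'.asFiber x'))) h =
        pullback.snd ((f.fiber (g (f' x'))).fromSpecStalk (h (f'.asFiber x'))) h := by
      rw [Iso.hom_inv_id_assoc]
    rw [← hcomp] at hz2
    exact hz2
  obtain ⟨e1⟩ := nonempty_stalk_equiv_of_eq hρ
  let e2 := stalkEquiv
    (ε.inv ≫ pullback.snd ((f.fiber (g (f' x'))).fromSpecStalk (h (f'.asFiber x'))) h) (ε.hom z)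
  let e3 := (Spec.stalkIso (CommRingCat.of
    (((f.fiber (g (f' x'))).presheaf.stalk (h (f'.asFiber x'))) ⊗[Y.residueField (g (f' x'))]
      (Y'.residueField (f' x')))) (ε.hom z)).commRingCatIsoToRingEquiv
  let eT' := (e1.symm.trans e2).trans e3
  -- the finiteness hypothesis
  have hft : Algebra.EssFiniteType (Y.residueField (g (f' x')))
      ((f.fiber (g (f' x'))).presheaf.stalk (h (f'.asFiber x'))) ∨
      Algebra.EssFiniteType (Y.residueField (g (f' x'))) (Y'.residueField (f' x')) := by
    rcases hreg with hf | hg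
    · left
      haveI := hf
      haveI : LocallyOfFiniteType (f.fiberToSpecResidueField (g (f' x'))) := by
        dsimp only [Scheme.Hom.fiberToSpecResidueField]
        exact MorphismProperty.pullback_snd (P := @LocallyOfFiniteType) f _ inferInstance
      have h1 := LocallyOfFiniteType.stalkMap (f.fiberToSpecResidueField (g (f' x')))
        (h (f'.asFiber x'))
      have h2 : (StructureSheaf.toStalk (Y.residueField (g (f' x')))
          ((f.fiberToSpecResidueField (g (f' x'))) (h (f'.asFiber x')))).hom.EssFiniteType :=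
        Algebra.EssFiniteType.of_isLocalization _
          ((f.fiberToSpecResidueField (g (f' x'))) (h (f'.asFiber x'))).asIdeal.primeCompl
      exact h2.comp h1
    · right
      exact hg
  have key := hR (Y.residueField (g (f' x')))
    ((f.fiber (g (f' x'))).presheaf.stalk (h (f'.asFiber x'))) (Y'.residueField (f' x')) hft
    (ε.hom z).asIdeal h𝔮
  constructor
  · intro hp
    exact hPe _ _ eT (key.mp (hPe _ _ eT' hp))
  · intro hp
    exact hPe _ _ eT'.symm (key.mpr (hPe _ _ eT.symm hp))

/-- In a cartesian square, the local ring of the fibre of `f'` at `x'` has `P` iff the local ring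
of the fibre of `f` at `g' x'` has `P`, for `P` with `RingBCInv P`, provided the latter is
Noetherian and `f` or `g` is locally of finite type. -/
theorem fiber_stalk_baseChange_iff_of_ringBCInv (hR : RingBCInv P) (hPe : IsoInv P)
    (hsq : IsPullback g' f' f g) (x' : X')
    [hN : IsNoetherianRing ((f.fiber (f (g' x'))).presheaf.stalk (f.asFiber (g' x')))]
    (hreg : LocallyOfFiniteType f ∨ LocallyOfFiniteType g) :
    P ((f'.fiber (f' x')).presheaf.stalk (f'.asFiber x')) ↔
      P ((f.fiber (f (g' x'))).presheaf.stalk (f.asFiber (g' x'))) := by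
  refine fiber_stalk_baseChange_iff_of_ringBCInv' hR hPe hsq x' (hreg.imp id fun hg => ?_)
  haveI := hg
  exact RingHom.EssFiniteType.residueFieldMap (LocallyOfFiniteType.stalkMap g (f' x'))

end FibBC

end Groth.Agent.Lib.Helper5.CodepthFib
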