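import Mathlib
import Groth.Agent.Lib.Helper5CodepthFib
import Groth.Agent.Lib.Helper7CIFlat

/-! # Complete intersection local rings of fibres under base change (helper7)

The scheme-level part is adapted from helper5's `fiber_stalk_baseChange_iff_of_ringBCInv'`
(`Helper5CodepthFib`), with the ring-level hypothesis only required for local rings essentially
of finite type over the base field. -/

set_option autoImplicit false
set_option linter.style.haveILetI false
universe u

namespace Groth.Agent.Lib.Helper7.CIBC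
open AlgebraicGeometry CategoryTheory Limits IsLocalRing TensorProduct
  Groth.Agent.Lib.Helper5.FiberStalk Groth.Agent.Lib.Helper5.FiberRing
  Groth.Agent.Lib.Helper5.FiberMor Groth.Agent.Lib.Helper5.FlatPreimm
  Groth.Agent.Lib.Helper5.FiberBC Groth.Agent.Lib.Helper5.GorFlat
  Groth.Agent.Lib.Helper5.CodepthFib
  Groth.Agent.Lib.Helper5 Groth.Agent.Lib.Helper28 LocCoh

/-- `R` is a Noetherian local ring which is a complete intersection -/
def CIP (R : Type u) [CommRing R] : Prop :=
  ∃ (_ : IsLocalRing R) (_ : IsNoetherianRing R), Pi1.IsCompleteIntersection R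

theorem isoInv_cip : IsoInv.{u} CIP := by
  rintro R S _ _ e ⟨h1, h2, h3⟩
  haveI : IsLocalRing S := e.isLocalRing
  haveI : IsNoetherianRing S := isNoetherianRing_of_ringEquiv _ e
  exact ⟨inferInstance, inferInstance,
    Groth.Agent.Lib.Helper7.CILocus.isCompleteIntersection_of_ringEquiv e h3⟩

theorem cip_iff (R : Type u) [CommRing R] [IsLocalRing R] [IsNoetherianRing R] :
    CIP R ↔ Pi1.IsCompleteIntersection R :=
  ⟨fun ⟨_, _, h⟩ => h, fun h => ⟨inferInstance, inferInstance, h⟩⟩

/-- Invariance of `P` under `T ↦ (T ⊗[k] k')_𝔮`, for `T` essentially of finite type over `k`. -/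
def RingBCInv₁ (P : ∀ (R : Type u) [CommRing R], Prop) : Prop :=
  ∀ (k T k' : Type u) [Field k] [CommRing T] [IsLocalRing T] [IsNoetherianRing T] [Field k']
    [Algebra k T] [Algebra k k'], Algebra.EssFiniteType k T →
    ∀ (𝔮 : Ideal (T ⊗[k] k')) [𝔮.IsPrime],
      𝔮.comap (algebraMap T (T ⊗[k] k')) = maximalIdeal T →
      (P (Localization.AtPrime 𝔮) ↔ P T)

theorem ringBCInv₁_cip : RingBCInv₁.{u} CIP := by
  intro k T k' _ _ _ _ _ _ _ hft 𝔮 _ h𝔮
  haveI := hft
  haveI : Algebra.EssFiniteType k' (k' ⊗[k] T) := inferInstance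
  haveI : IsNoetherianRing (k' ⊗[k] T) := Algebra.EssFiniteType.isNoetherianRing k' _
  haveI : IsNoetherianRing (T ⊗[k] k') :=
    isNoetherianRing_of_ringEquiv _ (Algebra.TensorProduct.comm k k' T).toRingEquiv
  haveI : IsNoetherianRing (Localization.AtPrime 𝔮) :=
    IsLocalization.isNoetherianRing 𝔮.primeCompl _ inferInstance
  rw [cip_iff, cip_iff]
  exact Groth.Agent.Lib.Helper7.CIFlat.ci_tensor_field_iff_of_essFiniteType k T k' 𝔮 h𝔮

section FibBC

variable {P : ∀ (R : Type u) [CommRing R], Prop}
variable {X Y X' Y' : Scheme.{u}} {f : X ⟶ Y} {g : Y' ⟶ Y} {f' : X' ⟶ Y'} {g' : X' ⟶ X}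

/-- In a cartesian square with `f` locally of finite type, the local ring of the fibre of `f'` at
`x'` has `P` iff the local ring of the fibre of `f` at `g' x'` has `P`. -/
theorem fiber_stalk_baseChange_iff₁ (hR : RingBCInv₁ P) (hPe : IsoInv P)
    (hsq : IsPullback g' f' f g) (x' : X')
    [hN : IsNoetherianRing ((f.fiber (f (g' x'))).presheaf.stalk (f.asFiber (g' x')))]
    [hf : LocallyOfFiniteType f] :
    P ((f'.fiber (f' x')).presheaf.stalk (f'.asFiber x')) ↔
      P ((f.fiber (f (g' x'))).presheaf.stalk (f.asFiber (g' x'))) := by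
  obtain ⟨h, hpb, hcomm⟩ : ∃ h : f'.fiber (f' x') ⟶ f.fiber (g (f' x')),
      IsPullback h (f'.fiberToSpecResidueField (f' x'))
        (f.fiberToSpecResidueField (g (f' x'))) (Spec.map (g.residueFieldMap (f' x'))) ∧
      h ≫ f.fiberι (g (f' x')) = f'.fiberι (f' x') ≫ g' :=
    ⟨_, isPullback_fiberToSpecResidueField_of_isPullback hsq (f' x'), pullback.lift_fst _ _ _⟩
  -- transport to the fibre over `g (f' x')`
  have hw₁ : f.fiberι (g (f' x')) (h (f'.asFiber x')) = g' x' := by
    rw [← Scheme.Hom.comp_apply, hcomm, Scheme.Hom.comp_apply, f'.fiberι_asFiber]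
  have hyy : g (f' x') = f (g' x') := by
    rw [← Scheme.Hom.comp_apply, ← Scheme.Hom.comp_apply, hsq.w]
  obtain ⟨eT⟩ := fiber_stalk_transport f hyy (h (f'.asFiber x')) (f.asFiber (g' x'))
    (hw₁.trans (f.fiberι_asFiber _).symm)
  haveI : IsNoetherianRing ((f.fiber (g (f' x'))).presheaf.stalk (h (f'.asFiber x'))) :=
    isNoetherianRing_of_ringEquiv _ eT.symm
  -- the algebra structures
  letI algT : Algebra (Y.residueField (g (f' x')))
      ((f.fiber (g (f' x'))).presheaf.stalk (h (f'.asFiber x'))) :=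
    (StructureSheaf.toStalk (Y.residueField (g (f' x')))
        ((f.fiberToSpecResidueField (g (f' x'))) (h (f'.asFiber x'))) ≫
      (f.fiberToSpecResidueField (g (f' x'))).stalkMap (h (f'.asFiber x'))).hom.toAlgebra
  letI algK : Algebra (Y.residueField (g (f' x'))) (Y'.residueField (f' x')) :=
    (g.residueFieldMap (f' x')).hom.toAlgebra
  -- pasting of the cartesian squares
  have hpaste := (IsPullback.of_hasPullback
    ((f.fiber (g (f' x'))).fromSpecStalk (h (f'.asFiber x'))) h).paste_vert hpb
  have hjπ : (f.fiber (g (f' x'))).fromSpecStalk (h (f'.asFiber x')) ≫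
      f.fiberToSpecResidueField (g (f' x')) =
      Spec.map (CommRingCat.ofHom (algebraMap (Y.residueField (g (f' x')))
        ((f.fiber (g (f' x'))).presheaf.stalk (h (f'.asFiber x'))))) := by
    rw [← Scheme.SpecMap_stalkMap_fromSpecStalk, Spec.fromSpecStalk_eq']
    exact (Spec.map_comp _ _).symm
  rw [hjπ] at hpaste
  let ε := hpaste.isoPullback ≪≫ pullbackSpecIso (Y.residueField (g (f' x')))
    ((f.fiber (g (f' x'))).presheaf.stalk (h (f'.asFiber x'))) (Y'.residueField (f' x'))
  -- the point
  obtain ⟨z, hz1, hz2⟩ := Scheme.Pullback.exists_preimage_pullback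
    (f := (f.fiber (g (f' x'))).fromSpecStalk (h (f'.asFiber x'))) (g := h)
    (closedPoint ((f.fiber (g (f' x'))).presheaf.stalk (h (f'.asFiber x')))) (f'.asFiber x')
    Scheme.fromSpecStalk_closedPoint
  have hq1 : (Spec.map (CommRingCat.ofHom (algebraMap
      ((f.fiber (g (f' x'))).presheaf.stalk (h (f'.asFiber x')))
      (((f.fiber (g (f' x'))).presheaf.stalk (h (f'.asFiber x'))) ⊗[Y.residueField (g (f' x'))]
        (Y'.residueField (f' x')))))) (ε.hom z) =
      closedPoint ((f.fiber (g (f' x'))).presheaf.stalk (h (f'.asFiber x'))) := by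
    have hcomp : ε.hom ≫ Spec.map (CommRingCat.ofHom (algebraMap
        ((f.fiber (g (f' x'))).presheaf.stalk (h (f'.asFiber x')))
        (((f.fiber (g (f' x'))).presheaf.stalk (h (f'.asFiber x')))
          ⊗[Y.residueField (g (f' x'))] (Y'.residueField (f' x'))))) =
        pullback.fst ((f.fiber (g (f' x'))).fromSpecStalk (h (f'.asFiber x'))) h := by
      simp only [ε, Iso.trans_hom, Category.assoc, pullbackSpecIso_hom_fst']
      exact hpaste.isoPullback_hom_fst
    rw [← hcomp] at hz1
    exact hz1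
  have h𝔮 : (ε.hom z).asIdeal.comap (algebraMap
      ((f.fiber (g (f' x'))).presheaf.stalk (h (f'.asFiber x')))
      (((f.fiber (g (f' x'))).presheaf.stalk (h (f'.asFiber x'))) ⊗[Y.residueField (g (f' x'))]
        (Y'.residueField (f' x')))) =
      maximalIdeal ((f.fiber (g (f' x'))).presheaf.stalk (h (f'.asFiber x'))) :=
    congrArg PrimeSpectrum.asIdeal hq1
  -- the flat preimmersion from the spectrum of the tensor product
  have hρ : (ε.inv ≫ pullback.snd ((f.fiber (g (f' x'))).fromSpecStalk (h (f'.asFiber x'))) h)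
      (ε.hom z) = f'.asFiber x' := by
    have hcomp : ε.hom ≫ ε.inv ≫
        pullback.snd ((f.fiber (g (f' x'))).fromSpecStalk (h (f'.asFiber x'))) h =
        pullback.snd ((f.fiber (g (f' x'))).fromSpecStalk (h (f'.asFiber x'))) h := by
      rw [Iso.hom_inv_id_assoc]
    rw [← hcomp] at hz2
    exact hz2
  obtain ⟨e1⟩ := nonempty_stalk_equiv_of_eq hρ
  let e2 := stalkEquiv
    (ε.inv ≫ pullback.snd ((f.fiber (g (f' x'))).fromSpecStalk (h (f'.asFiber x'))) h) (ε.hom z)
  let e3 := (Spec.stalkIso (CommRingCat.of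
    (((f.fiber (g (f' x'))).presheaf.stalk (h (f'.asFiber x'))) ⊗[Y.residueField (g (f' x'))]
      (Y'.residueField (f' x')))) (ε.hom z)).commRingCatIsoToRingEquiv
  let eT' := (e1.symm.trans e2).trans e3
  -- the finiteness hypothesis
  have hft : Algebra.EssFiniteType (Y.residueField (g (f' x')))
      ((f.fiber (g (f' x'))).presheaf.stalk (h (f'.asFiber x'))) := by
    haveI : LocallyOfFiniteType (f.fiberToSpecResidueField (g (f' x'))) := by
      dsimp only [Scheme.Hom.fiberToSpecResidueField]
      exact MorphismProperty.pullback_snd (P := @LocallyOfFiniteType) f _ inferInstance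
    have h1 := LocallyOfFiniteType.stalkMap (f.fiberToSpecResidueField (g (f' x')))
      (h (f'.asFiber x'))
    have h2 : (StructureSheaf.toStalk (Y.residueField (g (f' x')))
        ((f.fiberToSpecResidueField (g (f' x'))) (h (f'.asFiber x')))).hom.EssFiniteType :=
      Algebra.EssFiniteType.of_isLocalization _
        ((f.fiberToSpecResidueField (g (f' x'))) (h (f'.asFiber x'))).asIdeal.primeCompl
    exact h2.comp h1
  have key := hR (Y.residueField (g (f' x')))
    ((f.fiber (g (f' x'))).presheaf.stalk (h (f'.asFiber x'))) (Y'.residueField (f' x')) hft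
    (ε.hom z).asIdeal h𝔮
  constructor
  · intro hp
    exact hPe _ _ eT (key.mp (hPe _ _ eT' hp))
  · intro hp
    exact hPe _ _ eT'.symm (key.mpr (hPe _ _ eT.symm hp))

end FibBC

end Groth.Agent.Lib.Helper7.CIBC
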