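import Mathlib
import Groth.Agent.Lib.Helper7CIBC
import Groth.Prelude.Def_CInt

/-! # Complete intersection morphisms: fibre local rings under base change (helper7) -/

set_option autoImplicit false
set_option linter.style.haveILetI false
universe u

namespace Groth.Agent.Lib.Helper7.CIMor
open AlgebraicGeometry CategoryTheory Limits IsLocalRing Groth.Agent.Lib.Helper7.CIBC

theorem isLocallyNoetherian_fiber {X Y : Scheme.{u}} (f : X ⟶ Y) [LocallyOfFiniteType f] (y : Y) :
    IsLocallyNoetherian (f.fiber y) := by
  haveI : LocallyOfFiniteType (f.fiberToSpecResidueField y) := by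
    dsimp only [Scheme.Hom.fiberToSpecResidueField]
    exact MorphismProperty.pullback_snd (P := @LocallyOfFiniteType) f _ inferInstance
  exact LocallyOfFiniteType.isLocallyNoetherian (f.fiberToSpecResidueField y)

theorem isNoetherianRing_fiberStalk {X S : Scheme.{u}} (f : X ⟶ S) [LocallyOfFiniteType f]
    (x : X) : IsNoetherianRing (CInt.fiberStalk f x) := by
  haveI := isLocallyNoetherian_fiber f (f.base x)
  unfold CInt.fiberStalk
  infer_instance

variable {X Y X' Y' : Scheme.{u}} {f : X ⟶ Y} {g : Y' ⟶ Y} {f' : X' ⟶ Y'} {g' : X' ⟶ X}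

/-- In a cartesian square with `f` locally of finite type, the local ring of the fibre of `f'` at
`x'` is a complete intersection iff the local ring of the fibre of `f` at `g' x'` is. -/
theorem ci_fiberStalk_baseChange_iff (hsq : IsPullback g' f' f g) [LocallyOfFiniteType f]
    (x' : X') :
    Pi1.IsCompleteIntersection (CInt.fiberStalk f' x') ↔
      Pi1.IsCompleteIntersection (CInt.fiberStalk f (g'.base x')) := by
  haveI : LocallyOfFiniteType f' :=
    MorphismProperty.of_isPullback (P := @LocallyOfFiniteType) hsq inferInstance
  haveI h1 := isNoetherianRing_fiberStalk f (g'.base x')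
  haveI h2 := isNoetherianRing_fiberStalk f' x'
  have key := fiber_stalk_baseChange_iff₁ ringBCInv₁_cip isoInv_cip hsq x'
  rw [← cip_iff, ← cip_iff]
  exact key

end Groth.Agent.Lib.Helper7.CIMor
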