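import Mathlib
import Groth.Agent.Lib.Helper3LocDimBC
import Groth.Agent.Lib.Helper4FibDimE

set_option autoImplicit false
set_option linter.style.haveILetI false
universe u

open AlgebraicGeometry CategoryTheory CategoryTheory.Limits TopologicalSpace Topology

namespace Groth.Agent.Lib.Helper3.FibDimEt

open Groth.Agent.Lib.Helper4.FibDim Groth.Agent.Lib.Helper4.VarDim Groth.Agent.Lib.Helper3.DimCons

/-- topological: composing with a map whose fibre through `φ x` has `φ x` as an open point does
not change the local fibre dimension. -/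
theorem fibLD_comp_of_isOpen_singleton {X Y Z : Type*} [TopologicalSpace X] [TopologicalSpace Y]
    [TopologicalSpace Z] (φ : X → Y) (hφ : Continuous φ) (b : Y → Z) (x : X)
    (h : IsOpen ({⟨φ x, rfl⟩} : Set ↥(b ⁻¹' {b (φ x)}))) : fibLD (b ∘ φ) x = fibLD φ x := by
  unfold fibLD
  have hsub : φ ⁻¹' {φ x} ⊆ (b ∘ φ) ⁻¹' {(b ∘ φ) x} := by
    intro z hz
    simp only [Set.mem_preimage, Set.mem_singleton_iff, Function.comp_apply] at hz ⊢
    rw [hz]
  let φ' : ↥((b ∘ φ) ⁻¹' {(b ∘ φ) x}) → ↥(b ⁻¹' {b (φ x)}) := fun z => ⟨φ z.1, z.2⟩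
  have hφ' : Continuous φ' := (hφ.comp continuous_subtype_val).subtype_mk _
  have hemb : IsOpenEmbedding (Set.inclusion hsub) := by
    refine ⟨IsEmbedding.inclusion hsub, ?_⟩
    have : Set.range (Set.inclusion hsub) = φ' ⁻¹' {⟨φ x, rfl⟩} := by
      ext z
      simp only [Set.range_inclusion, Set.mem_ofPred_eq, Set.mem_preimage, Set.mem_singleton_iff,
        φ', Subtype.mk.injEq]
    rw [this]
    exact h.preimage hφ'
  exact (localDim_eq_of_isOpenEmbedding hemb ⟨x, rfl⟩).symm

/-- the local fibre dimension is insensitive to locally quasi-finite morphisms out of the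
target. -/
theorem fibreDimAt_comp_locallyQuasiFinite {W T S : Scheme.{u}} (φ : W ⟶ T) (b : T ⟶ S)
    [LocallyQuasiFinite b] (w : W) :
    FlatMor.fibreDimAt (φ ≫ b) w = FlatMor.fibreDimAt φ w := by
  rw [fibreDimAt_eq_fibLD, fibreDimAt_eq_fibLD]
  haveI : DiscreteTopology ↥(b ⁻¹' {b (φ w)}) :=
    (b.isDiscrete_preimage_singleton (b (φ w))).to_subtype
  exact fibLD_comp_of_isOpen_singleton φ φ.continuous b w (isOpen_discrete _)

/-- the local fibre dimension is insensitive to étale morphisms into the source. -/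
theorem fibreDimAt_comp_of_etale {U X S : Scheme.{u}} (c : U ⟶ X) [Etale c] (g : X ⟶ S) (u : U) :
    FlatMor.fibreDimAt (c ≫ g) u = FlatMor.fibreDimAt g (c u) := by
  -- the fibre of `c ≫ g` is étale over the fibre of `g`
  let s : S := g (c u)
  let W := g.fiber s
  let W' := (c ≫ g).fiber s
  let m : W' ⟶ W := pullback.map (c ≫ g) (S.fromSpecResidueField s) g (S.fromSpecResidueField s)
    c (𝟙 _) (𝟙 _) (by simp) (by simp)
  have hpb : IsPullback m ((c ≫ g).fiberι s) (g.fiberι s) c := by
    have big : IsPullback ((c ≫ g).fiberι s) ((c ≫ g).fiberToSpecResidueField s) (c ≫ g)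
        (S.fromSpecResidueField s) := IsPullback.of_hasPullback _ _
    have right : IsPullback (g.fiberι s) (g.fiberToSpecResidueField s) g
        (S.fromSpecResidueField s) := IsPullback.of_hasPullback _ _
    have hm1 : m ≫ g.fiberι s = (c ≫ g).fiberι s ≫ c := pullback.lift_fst _ _ _
    have hm2 : m ≫ g.fiberToSpecResidueField s = (c ≫ g).fiberToSpecResidueField s :=
      (pullback.lift_snd _ _ _).trans (Category.comp_id _)
    have : IsPullback ((c ≫ g).fiberι s) (m ≫ g.fiberToSpecResidueField s) (c ≫ g)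
        (S.fromSpecResidueField s) := by rw [hm2]; exact big
    exact IsPullback.of_right this.flip hm1 right.flip
  haveI : Etale m := MorphismProperty.of_isPullback (P := @Etale) hpb.flip inferInstance
  have h1 := Groth.Agent.Lib.Helper6.EtDim.localDim_eq_of_etale m ((c ≫ g).asFiber u)
  show FlatMor.localDim W' ((c ≫ g).asFiber u) = _
  rw [h1, ← fibreDimAt_fiberι]
  congr 1
  show (m ≫ g.fiberι s) ((c ≫ g).asFiber u) = c u
  rw [hpb.w]
  show c ((c ≫ g).fiberι _ ((c ≫ g).asFiber u)) = c u
  rw [Scheme.Hom.fiberι_asFiber]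

/-- **The local fibre dimension is étale local on source and target.** -/
theorem fibreDimAt_eq_of_etale_square {U U' V V' : Scheme.{u}} (h : U ⟶ V) (h' : U' ⟶ V')
    (a : U' ⟶ U) (b : V' ⟶ V) [Etale a] [Etale b] (comm : h' ≫ b = a ≫ h) (u' : U') :
    FlatMor.fibreDimAt h (a u') = FlatMor.fibreDimAt h' u' := by
  haveI : LocallyQuasiFinite b :=
    ((Groth.Agent.Lib.Helper6.SmQF.etale_iff_smooth_and_locallyQuasiFinite b).mp inferInstance).2
  rw [← fibreDimAt_comp_of_etale a h u', ← comm, fibreDimAt_comp_locallyQuasiFinite]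

end Groth.Agent.Lib.Helper3.FibDimEt
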