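import Mathlib
import Groth.Agent.Lib.Helper3FibDimEt
import Groth.Agent.Lib.Helper14LocalDimB
import Groth.Agent.Lib.Helper4FibDimF

set_option autoImplicit false
set_option linter.style.haveILetI false
universe u

open AlgebraicGeometry CategoryTheory CategoryTheory.Limits TopologicalSpace Topology TensorProduct

namespace Groth.Agent.Lib.Helper3.SmDim

open Groth.Agent.Lib.Helper4.FibDim Groth.Agent.Lib.Helper4.VarDim

/-- the local dimension of affine `n`-space over a field is `n` at every point. -/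
theorem localDim_mvPolynomial (k : Type u) [Field k] (n : ℕ)
    (z : PrimeSpectrum (MvPolynomial (Fin n) k)) :
    FlatMor.localDim (PrimeSpectrum (MvPolynomial (Fin n) k)) z = (n : WithBot ℕ∞) := by
  haveI : z.asIdeal.IsPrime := z.2
  obtain ⟨a, e, ha, he, -, he'⟩ :=
    Groth.Agent.Lib.Helper14.LocalDim.exists_dims (k := k) z.asIdeal
  have h1 := Groth.Agent.Lib.Helper14.LocalDim.localDim_eq (k := k) z.asIdeal a e ha he he'
  obtain ⟨m, c, hcm, hm, hc, hq⟩ :=
    Groth.Agent.Lib.Helper14.FTDim.exists_dim_height (k := k) (MvPolynomial (Fin n) k) z.asIdeal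
  have hmn : m = n := by
    rw [MvPolynomial.ringKrullDim_of_isNoetherianRing, ringKrullDim_eq_zero_of_field] at hm
    simp only [zero_add, Nat.card_eq_fintype_card, Fintype.card_fin] at hm
    exact_mod_cast hm.symm
  have hac : a = c := by
    rw [ha] at hc
    exact_mod_cast hc
  have hee : e = m - c := by
    rw [he] at hq
    exact_mod_cast hq
  have : (⟨z.asIdeal, inferInstance⟩ : PrimeSpectrum (MvPolynomial (Fin n) k)) = z := rfl
  rw [this] at h1
  rw [h1, hac, hee, ← hmn]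
  congr 1
  omega

/-- the fibres of `Spec R[X₁..Xₙ] → Spec R` have local dimension `n` everywhere. -/
theorem fibLD_comap_mvPolynomial (R : Type u) [CommRing R] (n : ℕ)
    (q : PrimeSpectrum (MvPolynomial (Fin n) R)) :
    fibLD (PrimeSpectrum.comap (algebraMap R (MvPolynomial (Fin n) R))) q = (n : WithBot ℕ∞) := by
  rw [fibLD_comap_eq]
  let p := PrimeSpectrum.comap (algebraMap R (MvPolynomial (Fin n) R)) q
  let e : p.asIdeal.Fiber (MvPolynomial (Fin n) R) ≃+* MvPolynomial (Fin n) p.asIdeal.ResidueField :=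
    (MvPolynomial.algebraTensorAlgEquiv R p.asIdeal.ResidueField).toRingEquiv
  refine (localDim_eq_of_homeomorph (PrimeSpectrum.homeomorphOfRingEquiv e) _).trans ?_
  exact localDim_mvPolynomial p.asIdeal.ResidueField n _

/-- ring-level: a standard smooth map of relative dimension `n` has fibres of local dimension
`n`. -/
theorem fibreDimAt_SpecMap_of_isStandardSmoothOfRelativeDimension {R S : CommRingCat.{u}}
    (f : R ⟶ S) (n : ℕ) (hf : f.hom.IsStandardSmoothOfRelativeDimension n) (z : Spec S) :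
    FlatMor.fibreDimAt (Spec.map f) z = (n : WithBot ℕ∞) := by
  obtain ⟨g, hg, hget⟩ := hf.exists_etale_mvPolynomial
  have hfac : Spec.map f = Spec.map (CommRingCat.ofHom g) ≫
      Spec.map (CommRingCat.ofHom (MvPolynomial.C : R →+* MvPolynomial (Fin n) R)) := by
    rw [← Spec.map_comp]
    congr 1
    ext x
    simp [← hg]
  haveI : Etale (Spec.map (CommRingCat.ofHom g)) := by
    rw [HasRingHomProperty.Spec_iff (P := @Etale)]
    exact hget
  rw [hfac, Groth.Agent.Lib.Helper3.FibDimEt.fibreDimAt_comp_of_etale, fibreDimAt_eq_fibLD]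
  exact fibLD_comap_mvPolynomial R n _

/-- local form: if `f` is standard smooth of relative dimension `n` on an affine chart around
`x`, then the fibre of `f` has local dimension `n` at `x`. -/
theorem fibreDimAt_eq_of_chart {X Y : Scheme.{u}} (f : X ⟶ Y) (n : ℕ) (x : X)
    {U : Y.Opens} (hU : IsAffineOpen U) {V : X.Opens} (hV : IsAffineOpen V) (hx : x ∈ V)
    (e : V ≤ f ⁻¹ᵁ U) (h : (f.appLE U V e).hom.IsStandardSmoothOfRelativeDimension n) :
    FlatMor.fibreDimAt f x = (n : WithBot ℕ∞) := by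
  have hz : hV.fromSpec (hV.primeIdealOf ⟨x, hx⟩) = x := hV.fromSpec_primeIdealOf ⟨x, hx⟩
  rw [fibreDimAt_eq_fibLD, ← hz, fibLD_fromSpec f hV hU e, ← fibreDimAt_eq_fibLD]
  exact fibreDimAt_SpecMap_of_isStandardSmoothOfRelativeDimension _ n h _

/-- a morphism smooth of relative dimension `n` has all local fibre dimensions equal to `n`. -/
theorem fibreDimAt_eq_of_smoothOfRelativeDimension (n : ℕ) {X Y : Scheme.{u}} (f : X ⟶ Y)
    [SmoothOfRelativeDimension n f] (x : X) :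
    FlatMor.fibreDimAt f x = (n : WithBot ℕ∞) := by
  obtain ⟨U, hU, V, hV, hx, e, hf⟩ :=
    SmoothOfRelativeDimension.exists_isStandardSmoothOfRelativeDimension (n := n) (f := f) x
  exact fibreDimAt_eq_of_chart f n x hU hV hx e hf

theorem exists_relDim_of_isStandardSmooth {R S : Type u} [CommRing R] [CommRing S] (f : R →+* S)
    (hf : f.IsStandardSmooth) : ∃ n : ℕ, f.IsStandardSmoothOfRelativeDimension n := by
  obtain ⟨_, _, _, _, ⟨P⟩⟩ := hf
  let := f.toAlgebra
  exact ⟨_, ⟨_, _, _, ‹_›, P, rfl⟩⟩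

open RingHom in
/-- composition of standard smooth charts at a point (extracted from Mathlib's proof that
`SmoothOfRelativeDimension` is stable under composition). -/
theorem exists_chart_comp {X Y Z : Scheme.{u}} (f : X ⟶ Y) (g : Y ⟶ Z) (x : X) (n m : ℕ)
    {U₂ : Z.Opens} (hU₂ : IsAffineOpen U₂) {V₂ : Y.Opens} (hV₂ : IsAffineOpen V₂)
    (hfx₂ : f x ∈ V₂) (e₂ : V₂ ≤ g ⁻¹ᵁ U₂)
    (hf₂ : IsStandardSmoothOfRelativeDimension m (g.appLE U₂ V₂ e₂).hom)
    {U₁' : Y.Opens} (hU₁' : IsAffineOpen U₁') {V₁' : X.Opens} (hV₁' : IsAffineOpen V₁')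
    (hx₁' : x ∈ V₁') (e₁' : V₁' ≤ f ⁻¹ᵁ U₁')
    (hf₁' : IsStandardSmoothOfRelativeDimension n (f.appLE U₁' V₁' e₁').hom) :
    ∃ (W : X.Opens) (_ : IsAffineOpen W) (_ : x ∈ W) (e : W ≤ (f ≫ g) ⁻¹ᵁ U₂),
      IsStandardSmoothOfRelativeDimension (n + m) ((f ≫ g).appLE U₂ W e).hom := by
  obtain ⟨r, s, hx₁, e₁, hf₁⟩ := AlgebraicGeometry.exists_basicOpen_le_appLE_of_appLE_of_isAffine
    (isStandardSmoothOfRelativeDimension_stableUnderCompositionWithLocalizationAway n).right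
    (isStandardSmoothOfRelativeDimension_localizationPreserves n).away
    x ⟨V₂, hV₂⟩ ⟨U₁', hU₁'⟩ ⟨V₁', hV₁'⟩ ⟨V₁', hV₁'⟩ hx₁' hx₁' e₁' hf₁' hfx₂
  have e : X.basicOpen s ≤ (f ≫ g) ⁻¹ᵁ U₂ :=
    le_trans e₁ <| f.preimage_mono <| le_trans (Y.basicOpen_le r) e₂
  have heq : (f ≫ g).appLE U₂ (X.basicOpen s) e = g.appLE U₂ V₂ e₂ ≫
      CommRingCat.ofHom (algebraMap Γ(Y, V₂) Γ(Y, Y.basicOpen r)) ≫
        f.appLE (Y.basicOpen r) (X.basicOpen s) e₁ := by
    rw [RingHom.algebraMap_toAlgebra, CommRingCat.ofHom_hom,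
      g.appLE_map_assoc, Scheme.Hom.appLE_comp_appLE]
  refine ⟨X.basicOpen s, hV₁'.basicOpen s, hx₁, e, heq ▸ ?_⟩
  apply IsStandardSmoothOfRelativeDimension.comp ?_ hf₂
  have : IsLocalization.Away r Γ(Y, Y.basicOpen r) := hV₂.isLocalization_basicOpen r
  exact (isStandardSmoothOfRelativeDimension_stableUnderCompositionWithLocalizationAway n).left
    _ r _ hf₁

/-- additivity of local fibre dimensions for a composite of smooth morphisms. -/
theorem fibreDimAt_comp_of_smooth {X Y Z : Scheme.{u}} (f : X ⟶ Y) (g : Y ⟶ Z) [Smooth f]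
    [Smooth g] (x : X) :
    FlatMor.fibreDimAt (f ≫ g) x = FlatMor.fibreDimAt f x + FlatMor.fibreDimAt g (f x) := by
  obtain ⟨U₂, hU₂, V₂, hV₂, hfx₂, e₂, hg₂⟩ := Smooth.exists_isStandardSmooth g (f x)
  obtain ⟨m, hm⟩ := exists_relDim_of_isStandardSmooth _ hg₂
  obtain ⟨U₁, hU₁, V₁, hV₁, hx₁, e₁, hf₁⟩ := Smooth.exists_isStandardSmooth f x
  obtain ⟨n, hn⟩ := exists_relDim_of_isStandardSmooth _ hf₁
  obtain ⟨W, hW, hxW, e, hnm⟩ := exists_chart_comp f g x n m hU₂ hV₂ hfx₂ e₂ hm hU₁ hV₁ hx₁ e₁ hn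
  rw [fibreDimAt_eq_of_chart (f ≫ g) (n + m) x hU₂ hW hxW e hnm,
    fibreDimAt_eq_of_chart f n x hU₁ hV₁ hx₁ e₁ hn,
    fibreDimAt_eq_of_chart g m (f x) hU₂ hV₂ hfx₂ e₂ hm]
  push_cast
  rfl

end Groth.Agent.Lib.Helper3.SmDim
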