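import Groth.Agent.Lib.Helper13SyntD
import Groth.Agent.Lib.Helper7CIRel2
import Groth.Agent.S2166

/-!
# Fibrewise complete intersections and syntomic ring maps (helper13)

* `isCIOver_iff_isCompleteIntersection`: for local rings of finite type algebras over a field,
  `Synt.IsCIOver` agrees with `Pi1.IsCompleteIntersection`;
* `nonempty_localization_fiber_equiv_fibLocRing`: `(κ(p) ⊗ S)_Q ≅ S_r/pS_r`;
* `ci_fibLocRing_iff_exists_isSyntomic`: for `R → S` flat of finite presentation and a prime `r`
  of `S`, the fibre local ring at `r` is a complete intersection iff `S_g` is syntomic over `R` for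
  some `g ∉ r`.
-/

set_option autoImplicit false
set_option linter.unusedSectionVars false
set_option linter.style.haveILetI false
universe u

open TensorProduct Groth.Agent.Lib.Helper7.Synt Groth.Agent.Lib.Helper7.CILocus

namespace Groth.Agent.Helper13Synt

/-- for a local ring of a finite type algebra over a field, "complete intersection over `k`" and
"complete intersection" (completion form) agree -/
theorem isCIOver_iff_isCompleteIntersection (k : Type u) [Field k] (T : Type u) [CommRing T]
    [Algebra k T] [hft : Algebra.FiniteType k T] (Q : Ideal T) [Q.IsPrime] :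
    Synt.IsCIOver k (Localization.AtPrime Q) ↔
      Pi1.IsCompleteIntersection (Localization.AtPrime Q) := by
  obtain ⟨n, φ, hφ⟩ := Algebra.FiniteType.iff_quotient_mvPolynomial''.mp hft
  rw [isCIOver_localization_iff k φ hφ Q]
  haveI := isRegularLocalRing_localization_mvPolynomial k n (Q.comap φ.toRingHom)
  haveI : IsNoetherianRing T := Algebra.FiniteType.isNoetherianRing k T
  have hker : RingHom.ker (locMap φ Q).toRingHom = (RingHom.ker φ.toRingHom).map
      (algebraMap _ (Localization.AtPrime (Q.comap φ.toRingHom))) := ker_locMap φ Q hφ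
  have hK : (RingHom.ker φ.toRingHom).map
      (algebraMap _ (Localization.AtPrime (Q.comap φ.toRingHom))) ≠ ⊤ := map_ker_ne_top k φ hφ Q
  haveI : Nontrivial (Localization.AtPrime (Q.comap φ.toRingHom) ⧸ (RingHom.ker φ.toRingHom).map
      (algebraMap _ (Localization.AtPrime (Q.comap φ.toRingHom)))) :=
    Ideal.Quotient.nontrivial_iff.mpr hK
  let ε : (Localization.AtPrime (Q.comap φ.toRingHom) ⧸ (RingHom.ker φ.toRingHom).map
      (algebraMap _ (Localization.AtPrime (Q.comap φ.toRingHom)))) ≃+* Localization.AtPrime Q :=
    (Ideal.quotEquivOfEq hker.symm).trans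
      (RingHom.quotientKerEquivOfSurjective (f := (locMap φ Q).toRingHom) (locMap_surjective φ Q hφ))
  rw [← Groth.Agent.S2166.result _ hK]
  exact ⟨isCompleteIntersection_of_ringEquiv ε, isCompleteIntersection_of_ringEquiv ε.symm⟩

section RB
variable {R S : Type u} [CommRing R] [CommRing S] [Algebra R S] (p : Ideal R) [p.IsPrime]
  (Q : Ideal (p.Fiber S)) [Q.IsPrime]

theorem comap_includeRight_under :
    (Q.comap (Algebra.TensorProduct.includeRight (R := R) (A := p.ResidueField) (B := S))).comap
      (algebraMap R S) = p := by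
  have h := ((PrimeSpectrum.preimageEquivFiber R S ⟨p, inferInstance⟩).symm ⟨Q, inferInstance⟩).2
  have h2 := congrArg PrimeSpectrum.asIdeal h
  exact h2

/-- the local ring of the fibre at `Q` is the fibre local ring `S_r/pS_r` -/
theorem nonempty_localization_fiber_equiv_fibLocRing :
    Nonempty (Localization.AtPrime Q ≃+* EGA4.FibLocRing R S
      (Q.comap (Algebra.TensorProduct.includeRight (R := R) (A := p.ResidueField) (B := S)))) := by
  let e₁ := Ideal.Fiber.algEquivAux₂ p Q
  refine ⟨e₁.toRingEquiv.trans (Ideal.quotEquivOfEq ?_)⟩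
  rw [comap_includeRight_under p Q, Ideal.map_map, ← IsScalarTower.algebraMap_eq]

end RB

theorem ci_fibLocRing_congr {R S : Type u} [CommRing R] [CommRing S] [Algebra R S]
    {r r' : Ideal S} [r.IsPrime] [r'.IsPrime] (h : r = r') :
    Pi1.IsCompleteIntersection (EGA4.FibLocRing R S r) ↔
      Pi1.IsCompleteIntersection (EGA4.FibLocRing R S r') := by
  subst h
  rfl

set_option maxHeartbeats 1600000 in
/-- **Fibrewise complete intersection at a prime ⇔ syntomic in a basic open neighbourhood.** -/
theorem ci_fibLocRing_iff_exists_isSyntomic (R S : Type u) [CommRing R] [CommRing S] [Algebra R S]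
    [Module.Flat R S] [Algebra.FinitePresentation R S] (r : Ideal S) [r.IsPrime] :
    Pi1.IsCompleteIntersection (EGA4.FibLocRing R S r) ↔
      ∃ g : S, g ∉ r ∧ Synt.IsSyntomic R (Localization.Away g) := by
  let pp : PrimeSpectrum R := ⟨r.under R, inferInstance⟩
  let qq : (PrimeSpectrum.comap (algebraMap R S)) ⁻¹' {pp} := ⟨⟨r, inferInstance⟩, rfl⟩
  obtain ⟨Q, hQdef⟩ : ∃ Q : PrimeSpectrum ((r.under R).Fiber S),
      Q = PrimeSpectrum.preimageEquivFiber R S pp qq := ⟨_, rfl⟩
  have hQ : Q.asIdeal.comap (Algebra.TensorProduct.includeRight.toRingHom) = r := by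
    have := (PrimeSpectrum.preimageEquivFiber R S pp).symm_apply_apply qq
    rw [← hQdef] at this
    exact congrArg (fun z => z.1.asIdeal) this
  have hQ' : Q.asIdeal.comap (Algebra.TensorProduct.includeRight (R := R)
      (A := (r.under R).ResidueField) (B := S)) = r := hQ
  rw [(Groth.Agent.S9169.result R S (r.under R) r Q.asIdeal hQ).2]
  haveI : Algebra.FiniteType (r.under R).ResidueField ((r.under R).Fiber S) := inferInstance
  haveI : IsNoetherianRing ((r.under R).Fiber S) :=
    Algebra.FiniteType.isNoetherianRing (r.under R).ResidueField _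
  obtain ⟨ε⟩ := nonempty_localization_fiber_equiv_fibLocRing (r.under R) Q.asIdeal
  haveI : IsNoetherianRing (EGA4.FibLocRing R S (Q.asIdeal.comap
      (Algebra.TensorProduct.includeRight (R := R) (A := (r.under R).ResidueField) (B := S)))) :=
    isNoetherianRing_of_ringEquiv _ ε
  have h1 : Pi1.IsCompleteIntersection (EGA4.FibLocRing R S r) ↔
      Synt.IsCIOver (r.under R).ResidueField (Localization.AtPrime Q.asIdeal) := by
    rw [isCIOver_iff_isCompleteIntersection, ← ci_fibLocRing_congr hQ']
    exact ⟨isCompleteIntersection_of_ringEquiv ε.symm, isCompleteIntersection_of_ringEquiv ε⟩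
  rw [h1]
  constructor
  · intro h
    refine ⟨1, fun h1 => (inferInstance : r.IsPrime).ne_top ((Ideal.eq_top_iff_one _).mpr h1),
      ?_, Module.Flat.trans R S _, h⟩
    haveI : Algebra.FinitePresentation S (Localization.Away (1 : S)) :=
      IsLocalization.Away.finitePresentation 1
    exact Algebra.FinitePresentation.trans R S _
  · rintro ⟨g, -, -, -, h⟩
    exact h

end Groth.Agent.Helper13Synt
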