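import Mathlib
import Groth.Prelude.Def_EGA4b
import Groth.Agent.Lib.Helper4FibDimE
import Groth.Agent.Lib.Helper14LocalDimB
import Groth.Agent.Lib.Helper13SyntF
import Groth.Agent.Lib.Helper13FibSeqA
import Groth.Agent.Lib.Helper13FibSeqB

set_option autoImplicit false
set_option linter.style.haveILetI false
universe u

open TensorProduct

namespace Groth.Agent.Helper13FibSeq

open Groth.Agent.Lib.Helper4.FibDim Groth.Agent.Lib.Helper14.LocalDim

/-- transport of the fibre local ring along an equality of primes -/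
def fibLocRingCongr (R S : Type u) [CommRing R] [CommRing S] [Algebra R S]
    {r r' : Ideal S} [r.IsPrime] [r'.IsPrime] (h : r = r') :
    EGA4.FibLocRing R S r ≃+* EGA4.FibLocRing R S r' := by
  subst h
  exact RingEquiv.refl _

section

variable (R S : Type u) [CommRing R] [CommRing S] [Algebra R S] [Algebra.FiniteType R S]

/-- numerical data of the fibre through a prime `q` of a finite type algebra. -/
theorem fibre_data (q : PrimeSpectrum S) :
    ∃ (Q : PrimeSpectrum ((PrimeSpectrum.comap (algebraMap R S) q).asIdeal.Fiber S)) (h e : ℕ),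
      Q.asIdeal.comap (Algebra.TensorProduct.includeRight (R := R)
        (A := (PrimeSpectrum.comap (algebraMap R S) q).asIdeal.ResidueField) (B := S)) = q.asIdeal ∧
      Q.asIdeal.height = h ∧
      ringKrullDim ((PrimeSpectrum.comap (algebraMap R S) q).asIdeal.Fiber S ⧸ Q.asIdeal) = e ∧
      fibLD (PrimeSpectrum.comap (algebraMap R S)) q = ((h + e : ℕ) : WithBot ℕ∞) ∧
      ringKrullDim (EGA4.FibLocRing R S q.asIdeal) = h ∧
      Nonempty (Localization.AtPrime Q.asIdeal ≃+* EGA4.FibLocRing R S q.asIdeal) := by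
  obtain ⟨p, hp⟩ : ∃ p, p = PrimeSpectrum.comap (algebraMap R S) q := ⟨_, rfl⟩
  subst hp
  set p := PrimeSpectrum.comap (algebraMap R S) q with hp
  set Q := PrimeSpectrum.preimageHomeomorphFiber R S p ⟨q, rfl⟩ with hQdef
  have hQq : PrimeSpectrum.comap Algebra.TensorProduct.includeRight.toRingHom Q = q :=
    comap_includeRight_preimageHomeomorphFiber p.asIdeal ⟨q, rfl⟩
  have hQ : Q.asIdeal.comap (Algebra.TensorProduct.includeRight (R := R)
      (A := p.asIdeal.ResidueField) (B := S)) = q.asIdeal :=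
    congrArg PrimeSpectrum.asIdeal hQq
  haveI : Algebra.FiniteType p.asIdeal.ResidueField (p.asIdeal.Fiber S) := inferInstance
  obtain ⟨n, e, hn, he, -, he'⟩ := exists_dims (k := p.asIdeal.ResidueField) Q.asIdeal
  have hld := localDim_eq (k := p.asIdeal.ResidueField) Q.asIdeal n e hn he he'
  obtain ⟨ε⟩ := Groth.Agent.Helper13Synt.nonempty_localization_fiber_equiv_fibLocRing
    p.asIdeal Q.asIdeal
  let ε' : Localization.AtPrime Q.asIdeal ≃+* EGA4.FibLocRing R S q.asIdeal :=
    ε.trans (fibLocRingCongr R S hQ)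
  refine ⟨Q, n, e, hQ, hn, he, ?_, ?_, ⟨ε'⟩⟩
  · rw [fibLD_comap_eq]
    exact hld
  · rw [← ringKrullDim_eq_of_ringEquiv ε',
      IsLocalization.AtPrime.ringKrullDim_eq_height Q.asIdeal (Localization.AtPrime Q.asIdeal), hn]
    rfl

end

end Groth.Agent.Helper13FibSeq
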