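import Mathlib
import Groth.Agent.Lib.Helper4FibDimE
import Groth.Agent.Lib.Helper13FibSeqC

set_option autoImplicit false
set_option linter.style.haveILetI false
universe u

open TensorProduct PrimeSpectrum TopologicalSpace

namespace Groth.Agent.Helper13FibDec

open Groth.Agent.Lib.Helper4.FibDim

section Basic

variable (R S : Type u) [CommRing R] [CommRing S] [Algebra R S]

/-- the point of `Spec S` under a point of the fibre lies over `p`. -/
theorem comap_comap_includeRight (p : Ideal R) [p.IsPrime] (Q : PrimeSpectrum (p.Fiber S)) :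
    PrimeSpectrum.comap (algebraMap R S)
      (PrimeSpectrum.comap (Algebra.TensorProduct.includeRight (R := R) (A := p.ResidueField)
        (B := S)).toRingHom Q) = ⟨p, inferInstance⟩ := by
  apply PrimeSpectrum.ext
  change (Q.asIdeal.comap _).comap _ = p
  rw [Ideal.comap_comap]
  have : (Algebra.TensorProduct.includeRight (R := R) (A := p.ResidueField) (B := S)).toRingHom.comp
      (algebraMap R S) = algebraMap R (p.Fiber S) := by
    ext x; simp [Algebra.algebraMap_eq_smul_one]
  rw [this]
  exact (Q.asIdeal.over_def p).symm

/-- local dimension of the fibre ring = `fibLD`. -/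
theorem localDim_fiber_eq_fibLD (p : Ideal R) [p.IsPrime] (Q : PrimeSpectrum (p.Fiber S)) :
    FlatMor.localDim (PrimeSpectrum (p.Fiber S)) Q =
      fibLD (PrimeSpectrum.comap (algebraMap R S))
        (PrimeSpectrum.comap (Algebra.TensorProduct.includeRight (R := R) (A := p.ResidueField)
          (B := S)).toRingHom Q) := by
  set q := PrimeSpectrum.comap (Algebra.TensorProduct.includeRight (R := R) (A := p.ResidueField)
          (B := S)).toRingHom Q with hq
  have hqp : PrimeSpectrum.comap (algebraMap R S) q = ⟨p, inferInstance⟩ :=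
    comap_comap_includeRight R S p Q
  unfold fibLD
  have hset : PrimeSpectrum.comap (algebraMap R S) ⁻¹' {PrimeSpectrum.comap (algebraMap R S) q} =
      PrimeSpectrum.comap (algebraMap R S) ⁻¹' {(⟨p, inferInstance⟩ : PrimeSpectrum R)} := by
    rw [hqp]
  rw [localDim_congr_set hset q rfl]
  rw [localDim_eq_of_homeomorph (PrimeSpectrum.preimageHomeomorphFiber R S ⟨p, inferInstance⟩)]
  congr 1
  apply (PrimeSpectrum.preimageHomeomorphFiber R S ⟨p, inferInstance⟩).symm.injective
  rw [Homeomorph.symm_apply_apply]
  apply Subtype.ext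
  rw [preimageHomeomorphFiber_symm_coe]

/-- `fibLD` is insensitive to localization away from an element. -/
theorem fibLD_away (g : S) (C : Type u) [CommRing C] [Algebra S C] [Algebra R C]
    [IsScalarTower R S C] [IsLocalization.Away g C] (q' : PrimeSpectrum C) :
    fibLD (PrimeSpectrum.comap (algebraMap R C)) q' =
      fibLD (PrimeSpectrum.comap (algebraMap R S)) (PrimeSpectrum.comap (algebraMap S C) q') := by
  have h : PrimeSpectrum.comap (algebraMap R C) =
      PrimeSpectrum.comap (algebraMap R S) ∘ PrimeSpectrum.comap (algebraMap S C) := by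
    ext1 x
    rw [IsScalarTower.algebraMap_eq R S C]
    rfl
  rw [h]
  exact fibLD_comp_isOpenEmbedding _ _ (PrimeSpectrum.localization_away_isOpenEmbedding C g) q'

/-- `fibLD` takes natural number values for finite type algebras. -/
theorem exists_nat_fibLD [Algebra.FiniteType R S] (q : PrimeSpectrum S) :
    ∃ n : ℕ, fibLD (PrimeSpectrum.comap (algebraMap R S)) q = (n : WithBot ℕ∞) := by
  obtain ⟨Q, h, e, -, -, -, hld, -, -⟩ := Groth.Agent.Helper13FibSeq.fibre_data R S q
  exact ⟨h + e, hld⟩

end Basic

end Groth.Agent.Helper13FibDec
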