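import Mathlib
import Groth.Agent.Lib.Helper28FGDim
import Groth.Agent.Lib.Helper14LocalDim

set_option autoImplicit false
set_option linter.style.haveILetI false
universe u

namespace Groth.Agent.Helper13PiDec

open Groth.Agent.Lib.Helper28

section Height

/-- In a CM finite type algebra over a field, a maximal ideal containing a minimal prime `p` has
height `dim S/p`. -/
theorem height_eq_of_minimalPrime_le (k : Type u) [Field k] (S : Type u) [CommRing S] [Algebra k S]
    [Algebra.FiniteType k S] [hS : LocCoh.IsCohenMacaulayRing S] (p : Ideal S) (hpmin : p ∈ minimalPrimes S) (d : ℕ)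
    (hd : ringKrullDim (S ⧸ p) = d) (m : Ideal S) (hm : m.IsMaximal) (hpm : p ≤ m) :
    m.height = d := by
  have hmp : m.IsPrime := hm.isPrime
  have hp : p.IsPrime := hpmin.1.1
  have hM : (m.map (Ideal.Quotient.mk p)).IsMaximal :=
    Ideal.IsMaximal.map_of_surjective_of_ker_le Ideal.Quotient.mk_surjective
      (by rwa [Ideal.mk_ker])
  have hMp : (m.map (Ideal.Quotient.mk p)).IsPrime := hM.isPrime
  have hcm : (m.map (Ideal.Quotient.mk p)).comap (Ideal.Quotient.mk p) = m := by
    rw [Ideal.comap_map_of_surjective _ Ideal.Quotient.mk_surjective, ← RingHom.ker_eq_comap_bot,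
      Ideal.mk_ker]
    exact sup_eq_left.mpr hpm
  have h1 := height_eq_ringKrullDim_quotient_of_isMaximal_of_finiteType k S p
    (m.map (Ideal.Quotient.mk p))
  rw [hd] at h1
  have h1' : (m.map (Ideal.Quotient.mk p)).height = d := by exact_mod_cast h1
  have h2 := height_comap_eq_height_add_height_map p (m.map (Ideal.Quotient.mk p))
  have hcp : ((m.map (Ideal.Quotient.mk p)).comap (Ideal.Quotient.mk p)).IsPrime :=
    Ideal.comap_isPrime _ _
  have hN : IsNoetherianRing S := inferInstance
  rw [IsLocalization.height_map_of_disjoint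
    ((m.map (Ideal.Quotient.mk p)).comap (Ideal.Quotient.mk p)).primeCompl p
    (by
      rw [Set.disjoint_left]
      intro x hx hxp
      apply hx
      rw [hcm]
      exact hpm hxp), hcm, h1', Ideal.height_eq_zero_iff.mpr hpmin, add_zero] at h2
  exact h2

end Height

section Idem

variable {S : Type u} [CommRing S]

open PrimeSpectrum

/-- a finite clopen partition of `Spec S` gives complete orthogonal idempotents. -/
theorem exists_completeOrthogonalIdempotents {ι : Type} [Fintype ι] [DecidableEq ι]
    (Z : ι → Set (PrimeSpectrum S)) (hZ : ∀ i, IsClopen (Z i))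
    (hdisj : ∀ i j, i ≠ j → Z i ∩ Z j = ∅) (hcov : ∀ x, ∃ i, x ∈ Z i) :
    ∃ e : ι → S, CompleteOrthogonalIdempotents e ∧
      ∀ i, Z i = (PrimeSpectrum.basicOpen (e i) : Set (PrimeSpectrum S)) := by
  choose e he heZ using fun i => exists_idempotent_basicOpen_eq_of_isClopen (hZ i)
  have h0 : ∀ x : S, IsIdempotentElem x → (basicOpen x : Set (PrimeSpectrum S)) = ∅ → x = 0 := by
    intro x hx hx0
    have : basicOpen x = basicOpen (0 : S) := by
      apply SetLike.ext'
      rw [hx0, basicOpen_zero]
      rfl
    exact basicOpen_injOn_isIdempotentElem hx IsIdempotentElem.zero this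
  have hortho : OrthogonalIdempotents e := by
    refine ⟨he, ?_⟩
    intro i j hij
    apply h0 _ ((he i).mul (he j))
    rw [basicOpen_mul]
    change (basicOpen (e i) : Set (PrimeSpectrum S)) ∩ basicOpen (e j) = ∅
    rw [← heZ i, ← heZ j]
    exact hdisj i j hij
  refine ⟨e, CompleteOrthogonalIdempotents.of_prod_one_sub hortho ?_, heZ⟩
  have hidem : IsIdempotentElem (∏ i, (1 - e i)) := by
    unfold IsIdempotentElem
    rw [← Finset.prod_mul_distrib]
    exact Finset.prod_congr rfl fun i _ => (he i).one_sub
  apply h0 _ hidem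
  ext x
  simp only [Set.mem_empty_iff_false, iff_false]
  intro hx
  obtain ⟨i, hi⟩ := hcov x
  rw [heZ i] at hi
  have hx' : ∏ j, (1 - e j) ∉ x.asIdeal := hx
  apply hx'
  have hprime : x.asIdeal.IsPrime := x.2
  have h1 : e i * (1 - e i) = 0 := by
    rw [mul_sub, mul_one, (he i).eq, sub_self]
  have h2 : (1 - e i) ∈ x.asIdeal := by
    have : e i * (1 - e i) ∈ x.asIdeal := h1 ▸ zero_mem _
    exact (hprime.mem_or_mem this).resolve_left hi
  rw [← Finset.mul_prod_erase Finset.univ _ (Finset.mem_univ i)]
  exact Ideal.mul_mem_right _ _ h2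

end Idem

end Groth.Agent.Helper13PiDec
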