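import Mathlib
import Groth.Agent.Lib.Helper13PiDecA
import Groth.Agent.Lib.Helper14LocalDimB

set_option autoImplicit false
set_option linter.style.haveILetI false
universe u

open PrimeSpectrum TopologicalSpace

namespace Groth.Agent.Helper13FibDec

open Groth.Agent.Lib.Helper14.LocalDim Groth.Agent.Helper13PiDec

section CM


/-- In a CM finite type algebra, the local dimension at `x` is the dimension of any irreducible
component through `x`. -/
theorem localDim_eq_of_minimalPrime_le (k : Type u) [Field k] (F : Type u) [CommRing F] [Algebra k F]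
    [Algebra.FiniteType k F] [LocCoh.IsCohenMacaulayRing F] (x : Ideal F) [x.IsPrime]
    (P : Ideal F) (hP : P ∈ minimalPrimes F) (hPx : P ≤ x) :
    FlatMor.localDim (PrimeSpectrum F) ⟨x, inferInstance⟩ = ringKrullDim (F ⧸ P) := by
  haveI : IsNoetherianRing F := Algebra.FiniteType.isNoetherianRing k F
  obtain ⟨m, hm, hxm⟩ := Ideal.exists_le_maximal x (Ideal.IsPrime.ne_top inferInstance)
  -- every minimal prime below `x` has the same dimension
  have key : ∀ P' ∈ minimalPrimes F, P' ≤ x → ∀ d' : ℕ, ringKrullDim (F ⧸ P') = d' →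
      m.height = d' := fun P' hP' hP'x d' hd' =>
    height_eq_of_minimalPrime_le k F P' hP' d' hd' m hm (hP'x.trans hxm)
  haveI : P.IsPrime := hP.1.1
  obtain ⟨-, d, -, hd, -, -⟩ := exists_dims (k := k) P
  rw [hd]
  have hmd := key P hP hPx d hd
  apply le_antisymm
  · rw [localDim_le_iff (k := k)]
    intro P' hP' hP'x
    haveI : P'.IsPrime := hP'.1.1
    obtain ⟨-, d', -, hd', -, -⟩ := exists_dims (k := k) P'
    have := key P' hP' hP'x d' hd'
    rw [hmd] at this
    have hdd : d = d' := by exact_mod_cast this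
    rw [hd', hdd]
  · obtain ⟨n, e, hn, he, -, he'⟩ := exists_dims (k := k) x
    have h1 := localDim_eq (k := k) x n e hn he he'
    have h2 := (localDim_le_iff (k := k) x (n + e)).mp (le_of_eq h1) P hP hPx
    rw [h1, ← hd]
    exact h2

/-- In a CM finite type algebra the local dimension is locally constant. -/
theorem isOpen_setOf_localDim_eq (k : Type u) [Field k] (F : Type u) [CommRing F] [Algebra k F]
    [Algebra.FiniteType k F] [LocCoh.IsCohenMacaulayRing F] (n : ℕ) :
    IsOpen {x : PrimeSpectrum F | FlatMor.localDim (PrimeSpectrum F) x = (n : WithBot ℕ∞)} := by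
  haveI : IsNoetherianRing F := Algebra.FiniteType.isNoetherianRing k F
  have hfin : (minimalPrimes F).Finite := minimalPrimes.finite_of_isNoetherianRing F
  set T : Set (Ideal F) := {P ∈ minimalPrimes F | ringKrullDim (F ⧸ P) ≠ (n : WithBot ℕ∞)} with hT
  have hTfin : T.Finite := hfin.subset (fun P hP => hP.1)
  have hclosed : IsClosed (⋃ P ∈ T, PrimeSpectrum.zeroLocus (P : Set F)) :=
    hTfin.isClosed_biUnion fun P _ => PrimeSpectrum.isClosed_zeroLocus _
  have heq : {x : PrimeSpectrum F | FlatMor.localDim (PrimeSpectrum F) x = (n : WithBot ℕ∞)} =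
      (⋃ P ∈ T, PrimeSpectrum.zeroLocus (P : Set F))ᶜ := by
    ext x
    simp only [Set.mem_ofPred_eq, Set.mem_compl_iff, Set.mem_iUnion, PrimeSpectrum.mem_zeroLocus,
      SetLike.coe_subset_coe, not_exists]
    constructor
    · intro hx P hPT hPx
      have := localDim_eq_of_minimalPrime_le k F x.asIdeal P hPT.1 hPx
      exact hPT.2 (this.symm.trans hx)
    · intro hx
      obtain ⟨P, hP, hPx⟩ := Ideal.exists_minimalPrimes_le (I := ⊥) (J := x.asIdeal) bot_le
      have h1 := localDim_eq_of_minimalPrime_le k F x.asIdeal P hP hPx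
      have h2 : ¬ P ∈ T := fun hPT => hx P hPT hPx
      rw [hT] at h2
      simp only [Set.mem_setOf_eq, not_and, not_not] at h2
      exact h1.trans (h2 hP)
  rw [heq]
  exact hclosed.isOpen_compl

end CM

end Groth.Agent.Helper13FibDec
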