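import Mathlib
import Groth.Prelude.Def_CAlg
import Groth.Agent.Lib.Helper5TensorFieldsCM
import Groth.Agent.Lib.Helper28PolyCM

set_option autoImplicit false
set_option linter.style.haveILetI false
universe u

open TensorProduct PrimeSpectrum TopologicalSpace

namespace Groth.Agent.Helper13FibDec

section Away

variable (R S : Type u) [CommRing R] [CommRing S] [Algebra R S]
  (g : S) (C : Type u) [CommRing C] [Algebra S C] [Algebra R C]
  [IsScalarTower R S C] [IsLocalization.Away g C]

include g in
theorem flat_of_away [Module.Flat R S] : Module.Flat R C := by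
  haveI : Module.Flat S C := IsLocalization.flat C (Submonoid.powers g)
  exact Module.Flat.trans R S C

include g in
theorem finitePresentation_of_away [Algebra.FinitePresentation R S] :
    Algebra.FinitePresentation R C := by
  haveI : Algebra.FinitePresentation S C := IsLocalization.Away.finitePresentation g
  exact Algebra.FinitePresentation.trans R S C

include g in
theorem cm_fiber_of_away (p : Ideal R) [p.IsPrime] [h : LocCoh.IsCohenMacaulayRing (p.Fiber S)] :
    LocCoh.IsCohenMacaulayRing (p.Fiber C) := by
  have e := IsLocalization.Away.tensorProductEquivTMulRight R p.ResidueField g C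
  haveI : LocCoh.IsCohenMacaulayRing (Localization.Away ((1 : p.ResidueField) ⊗ₜ[R] g)) :=
    Groth.Agent.Lib.Helper5.TensorFieldsCM.isCohenMacaulayRing_of_isLocalization
      (Submonoid.powers ((1 : p.ResidueField) ⊗ₜ[R] g)) _
  exact Groth.Agent.Lib.Helper28.isCohenMacaulayRing_of_ringEquiv e.symm.toRingEquiv

end Away

end Groth.Agent.Helper13FibDec
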