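import Mathlib
import Groth.Agent.S0392

set_option autoImplicit false
set_option linter.style.haveILetI false

universe u

namespace Groth.Agent.Lib.Helper3.FibCritA

open TensorProduct Algebra

section Basic

variable {R S : Type u} [CommRing R] [CommRing S] [Algebra R S] (p : Ideal R) [p.IsPrime]

attribute [local instance] Algebra.TensorProduct.rightAlgebra in
theorem algEquivAux₁_one_tmul (s : S) :
    (Ideal.Fiber.algEquivAux₁ (S := S) p) (1 ⊗ₜ[R] s) = algebraMap S _ s := by
  have : (1 : p.ResidueField) ⊗ₜ[R] s = algebraMap S (p.Fiber S) s := rfl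
  rw [this, AlgEquiv.commutes]

attribute [local instance] Algebra.TensorProduct.rightAlgebra in
/-- Mathlib's identification of the localized fibre with the quotient of the localization is
`S`-linear. -/
theorem localizationAlgEquivQuotient_one_tmul (q : Ideal (p.Fiber S)) [q.IsPrime]
    [Algebra (Localization.AtPrime p)
      (Localization.AtPrime (q.comap Algebra.TensorProduct.includeRight))]
    [Localization.AtPrime.IsLiesOverAlgebra p (q.comap Algebra.TensorProduct.includeRight)]
    (s : S) :
    Ideal.Fiber.localizationAlgEquivQuotient p q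
      (algebraMap (p.Fiber S) (Localization.AtPrime q) (1 ⊗ₜ s)) =
      Ideal.Quotient.mk _
        (algebraMap S (Localization.AtPrime (q.comap Algebra.TensorProduct.includeRight)) s) := by
  simp [Ideal.Fiber.localizationAlgEquivQuotient, Ideal.Fiber.algEquivAux₂]
  rw [algEquivAux₁_one_tmul]
  rw [← IsScalarTower.algebraMap_apply]
  rw [IsScalarTower.algebraMap_apply S (S ⧸ Ideal.map (algebraMap R S) p)
    (Localization.AtPrime (Ideal.comap (Ideal.Fiber.algEquivAux₁ p).symm q))]
  simp only [IsLocalization.map_eq]
  rfl

/-- Ring homomorphisms out of a localization of the fibre are determined by their restriction to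
`S`. -/
theorem ringHom_ext_fiber_localization (q : Ideal (p.Fiber S)) [q.IsPrime] {N : Type*}
    [CommRing N] (f₁ f₂ : Localization.AtPrime q →+* N)
    (h : ∀ s : S, f₁ (algebraMap (p.Fiber S) (Localization.AtPrime q) (1 ⊗ₜ s)) =
      f₂ (algebraMap (p.Fiber S) (Localization.AtPrime q) (1 ⊗ₜ s))) : f₁ = f₂ := by
  apply IsLocalization.ringHom_ext q.primeCompl
  refine RingHom.ext fun x => ?_
  simp only [RingHom.comp_apply]
  obtain ⟨r, hr, s, e⟩ := Ideal.Fiber.exists_smul_eq_one_tmul p x
  have hunit : IsUnit (algebraMap R (p.Fiber S) r) := by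
    have h1 : algebraMap R (p.Fiber S) r = algebraMap p.ResidueField (p.Fiber S)
        (algebraMap R p.ResidueField r) := by
      rw [← IsScalarTower.algebraMap_apply]
    rw [h1]
    apply IsUnit.map
    rw [isUnit_iff_ne_zero, Ne, Ideal.algebraMap_residueField_eq_zero]
    exact hr
  have e' : algebraMap R (p.Fiber S) r * x = 1 ⊗ₜ s := by rw [← Algebra.smul_def]; exact e
  have hu1 : IsUnit (f₁ (algebraMap (p.Fiber S) (Localization.AtPrime q)
      (algebraMap R (p.Fiber S) r))) := (hunit.map _).map _
  have hr1 : algebraMap R (p.Fiber S) r = (1 : p.ResidueField) ⊗ₜ[R] (algebraMap R S r) := by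
    rw [Algebra.algebraMap_eq_smul_one, Algebra.algebraMap_eq_smul_one (A := S)]
    rw [Algebra.TensorProduct.one_def, TensorProduct.tmul_smul]
  have key : ∀ f : Localization.AtPrime q →+* N,
      f (algebraMap _ _ (algebraMap R (p.Fiber S) r)) * f (algebraMap _ _ x) =
        f (algebraMap _ _ ((1 : p.ResidueField) ⊗ₜ[R] s)) := by
    intro f
    rw [← map_mul, ← map_mul, e']
  have h2 := key f₁
  rw [h, ← key f₂] at h2
  have h3 : f₁ (algebraMap _ _ (algebraMap R (p.Fiber S) r)) =
      f₂ (algebraMap _ _ (algebraMap R (p.Fiber S) r)) := by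
    rw [hr1]; exact h _
  rw [← h3] at h2
  exact hu1.mul_left_cancel h2

end Basic

section Noeth

variable {A B C : Type u} [CommRing A] [CommRing B] [CommRing C] [Algebra A B] [Algebra B C]
  [Algebra A C] [IsScalarTower A B C] (p : Ideal A) [p.IsPrime]

/-- The map of fibres `κ(p) ⊗ B → κ(p) ⊗ C`. -/
noncomputable abbrev fiberMap : p.Fiber B →ₐ[p.ResidueField] p.Fiber C :=
  Algebra.TensorProduct.map (AlgHom.id p.ResidueField p.ResidueField)
    (IsScalarTower.toAlgHom A B C)

theorem fiberMap_one_tmul (b : B) :
    fiberMap (B := B) (C := C) p (1 ⊗ₜ b) = 1 ⊗ₜ algebraMap B C b := by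
  simp [fiberMap]

set_option maxHeartbeats 1600000 in
/-- **Fibrewise criterion of flatness, Noetherian case, fibre in tensor form.** -/
theorem flat_of_fiberMap_flat_noeth [IsNoetherianRing A] [IsNoetherianRing B] [IsNoetherianRing C]
    (hflat : (fiberMap (B := B) (C := C) p).toRingHom.Flat)
    (P'' : Ideal (p.Fiber C)) [P''.IsPrime]
    (h1 : Module.Flat A (Localization.AtPrime (P''.comap
      (Algebra.TensorProduct.includeRight : C →ₐ[A] p.Fiber C)))) :
    Module.Flat B (Localization.AtPrime (P''.comap
      (Algebra.TensorProduct.includeRight : C →ₐ[A] p.Fiber C))) := by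
  let φ := fiberMap (B := B) (C := C) p
  let P : Ideal C := P''.comap (Algebra.TensorProduct.includeRight : C →ₐ[A] p.Fiber C)
  let Q'' : Ideal (p.Fiber B) := P''.comap φ.toRingHom
  haveI : Q''.IsPrime := Ideal.comap_isPrime _ _
  let Q : Ideal B := Q''.comap (Algebra.TensorProduct.includeRight : B →ₐ[A] p.Fiber B)
  have hQP : Q = P.under B := by
    ext b
    simp only [Q, Q'', P, Ideal.mem_comap, Ideal.under]
    change φ (1 ⊗ₜ b) ∈ P'' ↔ (1 : p.ResidueField) ⊗ₜ[A] (algebraMap B C b) ∈ P''
    rw [fiberMap_one_tmul]
  haveI hPp : P.LiesOver p := by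
    constructor
    have h0 : P''.LiesOver p := inferInstance
    rw [h0.over]
    ext a
    simp only [P, Ideal.mem_comap, Ideal.under]
    rw [← AlgHom.commutes (Algebra.TensorProduct.includeRight : C →ₐ[A] p.Fiber C)]
  haveI hPQ : P.LiesOver Q := ⟨hQP⟩
  haveI hQp : Q.LiesOver p := by
    constructor
    have h0 : Q''.LiesOver p := inferInstance
    rw [h0.over]
    ext a
    simp only [Q, Ideal.mem_comap, Ideal.under]
    rw [← AlgHom.commutes (Algebra.TensorProduct.includeRight : B →ₐ[A] p.Fiber B)]
  letI := Localization.AtPrime.algebraOfLiesOver p Q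
  letI := Localization.AtPrime.algebraOfLiesOver Q P
  letI := Localization.AtPrime.algebraOfLiesOver p P
  haveI : IsLocalHom (algebraMap (Localization.AtPrime p) (Localization.AtPrime Q)) := by
    rw [RingHom.algebraMap_toAlgebra]
    exact Localization.isLocalHom_localRingHom p Q (algebraMap A B) Ideal.LiesOver.over
  haveI : IsLocalHom (algebraMap (Localization.AtPrime Q) (Localization.AtPrime P)) := by
    rw [RingHom.algebraMap_toAlgebra]
    exact Localization.isLocalHom_localRingHom Q P (algebraMap B C) Ideal.LiesOver.over
  haveI : IsScalarTower (Localization.AtPrime p) (Localization.AtPrime Q) (Localization.AtPrime P) :=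
    inferInstance
  haveI : IsNoetherianRing (Localization.AtPrime p) :=
    IsLocalization.isNoetherianRing p.primeCompl _ inferInstance
  haveI : IsNoetherianRing (Localization.AtPrime Q) :=
    IsLocalization.isNoetherianRing Q.primeCompl _ inferInstance
  haveI : IsNoetherianRing (Localization.AtPrime P) :=
    IsLocalization.isNoetherianRing P.primeCompl _ inferInstance
  haveI : Module.Flat (Localization.AtPrime p) (Localization.AtPrime P) :=
    (Module.flat_iff_of_isLocalization (Localization.AtPrime p) p.primeCompl
      (Localization.AtPrime P)).mpr h1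
  have hfib : Module.Flat (Localization.AtPrime Q ⧸ (IsLocalRing.maximalIdeal
      (Localization.AtPrime p)).map (algebraMap (Localization.AtPrime p) (Localization.AtPrime Q)))
      ((Localization.AtPrime Q ⧸ (IsLocalRing.maximalIdeal
      (Localization.AtPrime p)).map (algebraMap (Localization.AtPrime p) (Localization.AtPrime Q)))
        ⊗[Localization.AtPrime Q] Localization.AtPrime P) := by
    let J : Ideal (Localization.AtPrime Q) := p.map (algebraMap A (Localization.AtPrime Q))
    have hIJ : (IsLocalRing.maximalIdeal (Localization.AtPrime p)).map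
        (algebraMap (Localization.AtPrime p) (Localization.AtPrime Q)) = J := by
      rw [← Localization.AtPrime.map_eq_maximalIdeal, Ideal.map_map,
        ← IsScalarTower.algebraMap_eq]
    rw [hIJ]
    let JC : Ideal (Localization.AtPrime P) := p.map (algebraMap A (Localization.AtPrime P))
    have hJC : J.map (algebraMap (Localization.AtPrime Q) (Localization.AtPrime P)) = JC := by
      rw [Ideal.map_map, ← IsScalarTower.algebraMap_eq]
    let eB := Ideal.Fiber.localizationAlgEquivQuotient p Q''
    let eC := Ideal.Fiber.localizationAlgEquivQuotient p P''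
    let ψ : Localization.AtPrime Q'' →+* Localization.AtPrime P'' :=
      Localization.localRingHom Q'' P'' φ.toRingHom rfl
    have hψ : @RingHom.Flat (Localization.AtPrime Q'') (Localization.AtPrime P'') _ _ ψ := by
      exact RingHom.Flat.localRingHom hflat P'' Q'' rfl
    let χ : Localization.AtPrime Q ⧸ J →+* Localization.AtPrime P ⧸ JC :=
      Ideal.quotientMap JC (algebraMap (Localization.AtPrime Q) (Localization.AtPrime P))
        (by rw [← hJC]; exact Ideal.le_comap_map)
    have hχ : χ.comp eB.toRingEquiv.toRingHom = eC.toRingEquiv.toRingHom.comp ψ := by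
      apply ringHom_ext_fiber_localization p Q''
      intro b
      simp only [RingHom.comp_apply]
      have h1 : eB.toRingEquiv.toRingHom (algebraMap (p.Fiber B) (Localization.AtPrime Q'')
          (1 ⊗ₜ b)) = Ideal.Quotient.mk _ (algebraMap B (Localization.AtPrime Q) b) :=
        localizationAlgEquivQuotient_one_tmul p Q'' b
      have h2 : ψ (algebraMap (p.Fiber B) (Localization.AtPrime Q'') (1 ⊗ₜ b)) =
          algebraMap (p.Fiber C) (Localization.AtPrime P'') (1 ⊗ₜ algebraMap B C b) := by
        change Localization.localRingHom Q'' P'' φ.toRingHom rfl _ = _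
        rw [Localization.localRingHom_to_map]
        congr 1
      have h3 : eC.toRingEquiv.toRingHom (algebraMap (p.Fiber C) (Localization.AtPrime P'')
          (1 ⊗ₜ algebraMap B C b)) =
          Ideal.Quotient.mk _ (algebraMap C (Localization.AtPrime P) (algebraMap B C b)) :=
        localizationAlgEquivQuotient_one_tmul p P'' (algebraMap B C b)
      rw [h1, h2, h3]
      change Ideal.Quotient.mk JC (algebraMap (Localization.AtPrime Q) (Localization.AtPrime P)
        (algebraMap B (Localization.AtPrime Q) b)) = _
      rw [← IsScalarTower.algebraMap_apply, ← IsScalarTower.algebraMap_apply]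
    have hχflat : χ.Flat := by
      have hχ' : χ = (eC.toRingEquiv.toRingHom.comp ψ).comp eB.symm.toRingEquiv.toRingHom := by
        refine RingHom.ext fun x => ?_
        obtain ⟨y, rfl⟩ := eB.surjective x
        have h1 : χ (eB y) = (χ.comp eB.toRingEquiv.toRingHom) y := rfl
        have h2 : eB.symm.toRingEquiv.toRingHom (eB y) = y := eB.symm_apply_apply y
        rw [h1, hχ, RingHom.comp_apply, RingHom.comp_apply, RingHom.comp_apply, h2]
      rw [hχ']
      exact RingHom.Flat.comp (RingHom.Flat.of_bijective eB.symm.bijective)
        (RingHom.Flat.comp hψ (RingHom.Flat.of_bijective eC.bijective))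
    have halg : (algebraMap (Localization.AtPrime Q ⧸ J) (Localization.AtPrime P ⧸
        J.map (algebraMap (Localization.AtPrime Q) (Localization.AtPrime P)))).Flat := by
      have h0 : algebraMap (Localization.AtPrime Q ⧸ J) (Localization.AtPrime P ⧸
          J.map (algebraMap (Localization.AtPrime Q) (Localization.AtPrime P))) =
          (Ideal.quotEquivOfEq hJC.symm).toRingHom.comp χ := by
        apply Ideal.Quotient.ringHom_ext
        refine RingHom.ext fun s => ?_
        simp [χ]
        rfl
      rw [h0]
      exact RingHom.Flat.comp hχflat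
        (RingHom.Flat.of_bijective (Ideal.quotEquivOfEq hJC.symm).bijective)
    haveI : Module.Flat (Localization.AtPrime Q ⧸ J) (Localization.AtPrime P ⧸
        J.map (algebraMap (Localization.AtPrime Q) (Localization.AtPrime P))) :=
      RingHom.flat_algebraMap_iff.mp halg
    exact Module.Flat.of_linearEquiv
      (Algebra.TensorProduct.quotIdealMapEquivQuotTensor (Localization.AtPrime P) J).symm.toLinearEquiv
  have hres := Groth.Agent.S0392.result (R := Localization.AtPrime p)
    (S := Localization.AtPrime Q) (S' := Localization.AtPrime P) (M := Localization.AtPrime P) hfib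
  haveI := hres.2
  exact Module.Flat.trans B (Localization.AtPrime Q) (Localization.AtPrime P)

/-- Version for a prime of `C` lying over `p`, with `LocalizedModule`. -/
theorem flat_localizedModule_of_fiberMap_flat_noeth [IsNoetherianRing A] [IsNoetherianRing B]
    [IsNoetherianRing C] (hflat : (fiberMap (B := B) (C := C) p).toRingHom.Flat)
    (P : Ideal C) [P.IsPrime] (hP : P.under A = p)
    (h1 : Module.Flat A (LocalizedModule P.primeCompl C)) :
    Module.Flat B (LocalizedModule P.primeCompl C) := by
  obtain ⟨P'', hP''prime, rfl⟩ : ∃ P'' : Ideal (p.Fiber C), ∃ _ : P''.IsPrime,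
      P''.comap (Algebra.TensorProduct.includeRight : C →ₐ[A] p.Fiber C) = P := by
    let q := PrimeSpectrum.primesOverOrderIsoFiber A C p ⟨P, ⟨inferInstance, ⟨hP.symm⟩⟩⟩
    refine ⟨q.asIdeal, q.isPrime, ?_⟩
    have h := PrimeSpectrum.coe_primesOverOrderIsoFiber_symm_apply p q
    rw [← h]
    simp [q]
  exact flat_of_fiberMap_flat_noeth p hflat P'' h1

end Noeth

end Groth.Agent.Lib.Helper3.FibCritA
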