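import Mathlib
import Groth.Agent.Lib.Helper28FlatNormal
import Groth.Agent.Lib.Helper5RLR3
import Groth.Agent.Lib.Helper14LocalDim

/-!
# Quasi-finite maps: fibre dimension zero and dimension of quotients (helper14)
-/

universe u

namespace Groth.Agent.Lib.Helper14.QFFlat

section plumbing

variable {A B : Type u} [CommRing A] [CommRing B] [Algebra A B] (q : Ideal B) [q.IsPrime]

/-- plumbing: `A_p → B_q` for `p = q ∩ A` is a local homomorphism, flatness over `A_p` and over `A`
agree, and `m_{A_p} B_q = p B_q`. -/
theorem exists_algebra_localization :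
    ∃ (_ : Algebra (Localization.AtPrime (q.comap (algebraMap A B))) (Localization.AtPrime q))
      (_ : IsLocalHom (algebraMap (Localization.AtPrime (q.comap (algebraMap A B)))
        (Localization.AtPrime q))),
      (Module.Flat (Localization.AtPrime (q.comap (algebraMap A B))) (Localization.AtPrime q) ↔
        Module.Flat A (Localization.AtPrime q)) ∧
      (q.comap (algebraMap A B)).map (algebraMap A (Localization.AtPrime q)) =
      (IsLocalRing.maximalIdeal (Localization.AtPrime (q.comap (algebraMap A B)))).map
        (algebraMap (Localization.AtPrime (q.comap (algebraMap A B))) (Localization.AtPrime q)) := by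
  set p : Ideal A := q.comap (algebraMap A B) with hp
  have hlies : q.LiesOver p := ⟨rfl⟩
  let alg := Localization.AtPrime.algebraOfLiesOver p q
  have hloc : IsLocalHom (algebraMap (Localization.AtPrime p) (Localization.AtPrime q)) := by
    rw [RingHom.algebraMap_toAlgebra]
    exact Localization.isLocalHom_localRingHom p q (algebraMap A B) Ideal.LiesOver.over
  refine ⟨alg, hloc, ?_, ?_⟩
  · exact Module.flat_iff_of_isLocalization (Localization.AtPrime p) p.primeCompl _
  · rw [← IsLocalization.AtPrime.map_eq_maximalIdeal p (Localization.AtPrime p), Ideal.map_map,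
      ← IsScalarTower.algebraMap_eq]

/-- For a quasi-finite algebra, the fibre local ring has dimension zero. -/
theorem ringKrullDim_fibre_eq_zero [Algebra.QuasiFinite A B] :
    ringKrullDim (Localization.AtPrime q ⧸
      (q.comap (algebraMap A B)).map (algebraMap A (Localization.AtPrime q))) = 0 := by
  set p : Ideal A := q.comap (algebraMap A B) with hp
  set I : Ideal (Localization.AtPrime q) := p.map (algebraMap A (Localization.AtPrime q)) with hI
  have hIle : I ≤ IsLocalRing.maximalIdeal (Localization.AtPrime q) := by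
    rw [hI, Ideal.map_le_iff_le_comap]
    intro a ha
    rw [Ideal.mem_comap, IsScalarTower.algebraMap_apply A B (Localization.AtPrime q),
      ← Localization.AtPrime.map_eq_maximalIdeal]
    exact Ideal.mem_map_of_mem _ ha
  have hIne : I ≠ ⊤ := fun h =>
    (IsLocalRing.maximalIdeal.isMaximal _).ne_top (top_le_iff.mp (h ▸ hIle))
  haveI : Nontrivial (Localization.AtPrime q ⧸ I) := Ideal.Quotient.nontrivial_iff.mpr hIne
  rw [← ringKrullDimZero_iff_ringKrullDim_eq_zero, Ring.krullDimLE_zero_iff]
  intro J hJ
  set J' : Ideal (Localization.AtPrime q) := J.comap (Ideal.Quotient.mk I) with hJ'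
  haveI : J'.IsPrime := Ideal.comap_isPrime _ _
  have hIJ' : I ≤ J' := by
    intro x hx
    rw [hJ', Ideal.mem_comap, Ideal.Quotient.eq_zero_iff_mem.mpr hx]
    exact J.zero_mem
  set J'' : Ideal B := J'.comap (algebraMap B (Localization.AtPrime q)) with hJ''
  haveI : J''.IsPrime := Ideal.comap_isPrime _ _
  have hJ''q : J'' ≤ q := by
    have h1 : J' ≤ IsLocalRing.maximalIdeal (Localization.AtPrime q) :=
      IsLocalRing.le_maximalIdeal (Ideal.IsPrime.ne_top inferInstance)
    have h2 := Ideal.comap_mono (f := algebraMap B (Localization.AtPrime q)) h1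
    have h3 : (IsLocalRing.maximalIdeal (Localization.AtPrime q)).comap
        (algebraMap B (Localization.AtPrime q)) = q := Localization.AtPrime.under_maximalIdeal
    rwa [h3] at h2
  have hunder : J''.under A = q.under A := by
    apply le_antisymm
    · exact Ideal.comap_mono hJ''q
    · intro a ha
      rw [Ideal.under_def, Ideal.mem_comap, hJ'', Ideal.mem_comap,
        ← IsScalarTower.algebraMap_apply A B (Localization.AtPrime q)]
      exact hIJ' (Ideal.mem_map_of_mem _ ha)
  have hJ''eq : J'' = q := Algebra.QuasiFinite.eq_of_le_of_under_eq (R := A) J'' q hJ''q hunder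
  have hJ'eq : J' = IsLocalRing.maximalIdeal (Localization.AtPrime q) := by
    have h4 : (J'.under B).map (algebraMap B (Localization.AtPrime q)) = J' :=
      IsLocalization.map_under q.primeCompl (Localization.AtPrime q) J'
    rw [← h4]
    show J''.map _ = _
    rw [hJ''eq, Localization.AtPrime.map_eq_maximalIdeal]
  have hJeq : J = (IsLocalRing.maximalIdeal (Localization.AtPrime q)).map (Ideal.Quotient.mk I) := by
    rw [← hJ'eq, hJ', Ideal.map_comap_of_surjective _ Ideal.Quotient.mk_surjective]
  rcases Ideal.map_eq_top_or_isMaximal_of_surjective (Ideal.Quotient.mk I)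
    Ideal.Quotient.mk_surjective (IsLocalRing.maximalIdeal.isMaximal (Localization.AtPrime q))
    with h | h
  · exfalso
    rw [← hJeq] at h
    exact hJ.ne_top h
  · rw [hJeq]; exact h

end plumbing

open Groth.Agent.Lib.Helper14.FTDim

section dims

variable {k P S : Type u} [Field k] [CommRing P] [CommRing S] [Algebra k P] [Algebra k S]
  [Algebra P S] [IsScalarTower k P S] [Algebra.FiniteType k P] [Algebra.FiniteType k S]

/-- quasi-finite: `dim S/q ≤ dim P/(q ∩ P)` -/
lemma ringKrullDim_quotient_le_of_quasiFinite [Algebra.QuasiFinite P S] (q : Ideal S) [q.IsPrime] :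
    ringKrullDim (S ⧸ q) ≤ ringKrullDim (P ⧸ q.comap (algebraMap P S)) := by
  rw [ringKrullDim_quotient, ringKrullDim_quotient]
  let f : PrimeSpectrum.zeroLocus (q : Set S) →
      PrimeSpectrum.zeroLocus ((q.comap (algebraMap P S) : Ideal P) : Set P) :=
    fun J => ⟨PrimeSpectrum.comap (algebraMap P S) J.1, by
      intro x hx
      exact J.2 hx⟩
  apply Order.krullDim_le_of_strictMono f
  intro J J' hlt
  have hle : J.1.asIdeal ≤ J'.1.asIdeal := hlt.le
  refine lt_of_le_of_ne (Ideal.comap_mono hle) ?_
  intro heq
  have heq' : J.1.asIdeal.under P = J'.1.asIdeal.under P :=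
    congrArg (fun x : PrimeSpectrum.zeroLocus _ => x.1.asIdeal) heq
  have := Algebra.QuasiFinite.eq_of_le_of_under_eq (R := P) J.1.asIdeal J'.1.asIdeal hle heq'
  exact hlt.ne (Subtype.ext (PrimeSpectrum.ext this))

include k in
/-- `dim P/(q ∩ P) ≤ dim S/q` for finite type algebras over a field -/
lemma ringKrullDim_quotient_comap_le (q : Ideal S) [q.IsPrime] :
    ringKrullDim (P ⧸ q.comap (algebraMap P S)) ≤ ringKrullDim (S ⧸ q) := by
  set p := q.comap (algebraMap P S) with hp
  haveI : p.IsPrime := Ideal.comap_isPrime _ _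
  obtain ⟨n, hn1, hn2, -⟩ := exists_dim k (P ⧸ p)
  obtain ⟨m, hm1, hm2, -⟩ := exists_dim k (S ⧸ q)
  rw [hn2, hm2]
  let φ : P ⧸ p →ₐ[k] S ⧸ q := Ideal.quotientMapₐ q (IsScalarTower.toAlgHom k P S) le_rfl
  have hφ : Function.Injective φ := by
    rw [injective_iff_map_eq_zero]
    intro a ha
    obtain ⟨r, rfl⟩ := Ideal.Quotient.mk_surjective a
    have h1 : Ideal.Quotient.mk q (algebraMap P S r) = 0 := ha
    rw [Ideal.Quotient.eq_zero_iff_mem] at h1 ⊢
    exact h1
  let g : P ⧸ p →ₐ[k] FractionRing (S ⧸ q) :=
    (IsScalarTower.toAlgHom k (S ⧸ q) (FractionRing (S ⧸ q))).comp φ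
  have hg : Function.Injective g := (IsFractionRing.injective (S ⧸ q) _).comp hφ
  let G : FractionRing (P ⧸ p) →ₐ[k] FractionRing (S ⧸ q) := IsFractionRing.liftAlgHom hg
  have hle := trdeg_le_of_injective G G.toRingHom.injective
  rw [hn1, hm1] at hle
  exact_mod_cast hle

end dims

end Groth.Agent.Lib.Helper14.QFFlat
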