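import Mathlib
import Groth.Agent.Lib.Helper5CM
import Groth.Agent.Lib.Helper5SuppDim
import Groth.Agent.Lib.Helper5SuppDim2

/-!
# Cohen–Macaulay modules and regular sequences (helper5)

* `isCohenMacaulayModule_quotSMulTop`: `M/xM` is CM for `x` regular in the maximal ideal.
* `isSMulRegular_of_supportDim_quotSMulTop_succ_eq`: parameters of a CM module are regular.
* `isWeaklyRegular_iff_of_isCohenMacaulayModule`: EGA 0_IV 16.5.6.
-/

set_option autoImplicit false
universe u v w

namespace Groth.Agent.Lib.Helper5

open Module Submodule RingTheory.Sequence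

theorem withBot_enat_le_of_add_one_le_add_one {a b : WithBot ℕ∞} (h : a + 1 ≤ b + 1) : a ≤ b := by
  cases a with
  | bot => exact bot_le
  | coe a' =>
    cases b with
    | bot => rw [WithBot.bot_add] at h; simp at h
    | coe b' =>
      have h' : a' + 1 ≤ b' + 1 := by exact_mod_cast h
      have := (ENat.add_le_add_iff_right ENat.one_ne_top).mp h'
      exact_mod_cast this


section
variable {A : Type u} [CommRing A] [IsLocalRing A] [IsNoetherianRing A]
variable {M : Type u} [AddCommGroup M] [Module A M] [Module.Finite A M]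

omit [IsNoetherianRing A] [Module.Finite A M] in
theorem nontrivial_of_isCohenMacaulayModule (hM : LocCoh.IsCohenMacaulayModule A M) :
    Nontrivial M := by
  by_contra h
  rw [not_nontrivial_iff_subsingleton] at h
  rw [LocCoh.IsCohenMacaulayModule, Module.supportDim_eq_bot_of_subsingleton] at hM
  exact WithBot.bot_ne_coe hM

omit [IsNoetherianRing A] in
theorem nontrivial_quotSMulTop_of_mem_maximalIdeal [Nontrivial M] {x : A}
    (hx : x ∈ IsLocalRing.maximalIdeal A) : Nontrivial (QuotSMulTop x M) := by
  apply Submodule.Quotient.nontrivial_iff.mpr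
  apply (Submodule.top_ne_pointwise_smul_of_mem_jacobson_annihilator _).symm
  exact IsLocalRing.maximalIdeal_le_jacobson _ hx

/-- The quotient of a Cohen–Macaulay module by a regular element of the maximal ideal is
Cohen–Macaulay. -/
theorem isCohenMacaulayModule_quotSMulTop (hM : LocCoh.IsCohenMacaulayModule A M) {x : A}
    (hx : x ∈ IsLocalRing.maximalIdeal A) (hreg : IsSMulRegular M x) :
    LocCoh.IsCohenMacaulayModule A (QuotSMulTop x M) := by
  have hnt := nontrivial_of_isCohenMacaulayModule hM
  have hdim := Module.supportDim_quotSMulTop_succ_eq_supportDim hreg hx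
  have hdep := Groth.Agent.Lib.Helper28.idealDepth_quotSMulTop_add_one
    (IsLocalRing.maximalIdeal A) M maximalIdeal_smul_top_ne_top x hx hreg
  rw [LocCoh.IsCohenMacaulayModule, LocCoh.depth] at hM ⊢
  rw [← hdim, ← hdep] at hM
  cases hN : Module.supportDim A (QuotSMulTop x M) with
  | bot => rw [hN, WithBot.bot_add] at hM; exact absurd hM WithBot.bot_ne_coe
  | coe e =>
    rw [hN] at hM
    have h1 : e + 1 = LocCoh.idealDepth (IsLocalRing.maximalIdeal A) (QuotSMulTop x M) + 1 := by
      exact_mod_cast hM
    have h2 := (ENat.add_left_injective_of_ne_top ENat.one_ne_top) h1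
    rw [h2]


/-- For a Cohen–Macaulay module, a parameter element is regular. -/
theorem isSMulRegular_of_supportDim_quotSMulTop_succ_eq (hM : LocCoh.IsCohenMacaulayModule A M)
    {x : A} (hx : x ∈ IsLocalRing.maximalIdeal A)
    (h : Module.supportDim A (QuotSMulTop x M) + 1 = Module.supportDim A M) :
    IsSMulRegular M x := by
  have hxJ : x ∈ Ring.jacobson A := by
    rwa [IsLocalRing.ringJacobson_eq_maximalIdeal]
  have h1 := (supportDim_quotSMulTop_succ_eq_iff (M := M) hxJ).mp h
  by_contra hnreg
  have hmem : x ∈ ({r : A | IsSMulRegular M r}ᶜ : Set A) := hnreg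
  rw [← biUnion_associatedPrimes_eq_compl_regular A M] at hmem
  simp only [Set.mem_iUnion, SetLike.mem_coe, exists_prop] at hmem
  obtain ⟨p, hpA, hxp⟩ := hmem
  have hpprime : p.IsPrime := IsAssociatedPrime.isPrime hpA
  have hpS : (⟨p, hpprime⟩ : PrimeSpectrum A) ∈ Module.support A M := by
    rw [Module.mem_support_iff_of_finite]
    exact annihilator_le_of_mem_associatedPrimes hpA
  exact h1 ⟨p, hpprime⟩ hpS
    (ringKrullDim_quotient_eq_supportDim_of_isCohenMacaulayModule hM hpA) hxp


omit [IsNoetherianRing A] [Module.Finite A M] in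
theorem isCohenMacaulayModule_congr {M' : Type u} [AddCommGroup M'] [Module A M']
    (e : M ≃ₗ[A] M') :
    LocCoh.IsCohenMacaulayModule A M ↔ LocCoh.IsCohenMacaulayModule A M' := by
  rw [LocCoh.IsCohenMacaulayModule, LocCoh.IsCohenMacaulayModule, LocCoh.depth, LocCoh.depth,
    Module.supportDim_eq_of_equiv e, Groth.Agent.Lib.Helper28.idealDepth_congr e]

/-- EGA 0_IV 16.5.6: for a Cohen–Macaulay module, a sequence in the maximal ideal is regular iff
it is part of a system of parameters, and then the quotient is Cohen–Macaulay. -/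
theorem isWeaklyRegular_iff_of_isCohenMacaulayModule (xs : List A) :
    ∀ (M : Type u) [AddCommGroup M] [Module A M] [Module.Finite A M],
      LocCoh.IsCohenMacaulayModule A M → (∀ x ∈ xs, x ∈ IsLocalRing.maximalIdeal A) →
      (IsWeaklyRegular M xs ↔
        Module.supportDim A (M ⧸ (Ideal.ofList xs • (⊤ : Submodule A M))) + xs.length =
          Module.supportDim A M) ∧
      (IsWeaklyRegular M xs →
        LocCoh.IsCohenMacaulayModule A (M ⧸ (Ideal.ofList xs • (⊤ : Submodule A M)))) := by
  induction xs with
  | nil =>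
    intro M _ _ _ hM _
    have e0 : (M ⧸ (Ideal.ofList ([] : List A) • (⊤ : Submodule A M))) ≃ₗ[A] M :=
      Submodule.quotEquivOfEqBot _ (by rw [Ideal.ofList_nil, Submodule.bot_smul])
    refine ⟨?_, fun _ => (isCohenMacaulayModule_congr e0).mpr hM⟩
    simp [Module.supportDim_eq_of_equiv e0]
  | cons x xs ih =>
    intro M _ _ _ hM hmem
    have hx : x ∈ IsLocalRing.maximalIdeal A := hmem x (by simp)
    have hxs : ∀ y ∈ xs, y ∈ IsLocalRing.maximalIdeal A := fun y hy => hmem y (by simp [hy])
    have hxsJ : ∀ y ∈ xs, y ∈ Ring.jacobson A := by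
      intro y hy
      rw [IsLocalRing.ringJacobson_eq_maximalIdeal]
      exact hxs y hy
    let e := Submodule.quotOfListConsSMulTopEquivQuotSMulTopInner M x xs
    rw [Module.supportDim_eq_of_equiv e, isCohenMacaulayModule_congr e, isWeaklyRegular_cons_iff]
    have key : ∀ hreg : IsSMulRegular M x,
        LocCoh.IsCohenMacaulayModule A (QuotSMulTop x M) ∧
        Module.supportDim A (QuotSMulTop x M) + 1 = Module.supportDim A M := fun hreg =>
      ⟨isCohenMacaulayModule_quotSMulTop hM hx hreg,
        Module.supportDim_quotSMulTop_succ_eq_supportDim hreg hx⟩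
    refine ⟨⟨?_, ?_⟩, ?_⟩
    · rintro ⟨hreg, hN⟩
      obtain ⟨hNCM, hdim⟩ := key hreg
      have := (ih (QuotSMulTop x M) hNCM hxs).1.mp hN
      rw [List.length_cons, Nat.cast_add, Nat.cast_one, ← add_assoc, this, hdim]
    · intro h
      rw [List.length_cons, Nat.cast_add, Nat.cast_one, ← add_assoc] at h
      have ha : Module.supportDim A M ≤ Module.supportDim A (QuotSMulTop x M) + 1 :=
        Module.supportDim_le_supportDim_quotSMulTop_succ hx
      have hb := supportDim_le_supportDim_quot_ofList_add_length (M := QuotSMulTop x M) xs hxsJ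
      have hdim : Module.supportDim A (QuotSMulTop x M) + 1 = Module.supportDim A M := by
        apply le_antisymm _ ha
        rw [← h]
        gcongr
      have hreg := isSMulRegular_of_supportDim_quotSMulTop_succ_eq hM hx hdim
      obtain ⟨hNCM, -⟩ := key hreg
      refine ⟨hreg, (ih (QuotSMulTop x M) hNCM hxs).1.mpr ?_⟩
      apply le_antisymm _ hb
      apply withBot_enat_le_of_add_one_le_add_one
      rw [h, hdim]
    · rintro ⟨hreg, hN⟩
      obtain ⟨hNCM, -⟩ := key hreg
      exact (ih (QuotSMulTop x M) hNCM hxs).2 hN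


end

end Groth.Agent.Lib.Helper5
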