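import Mathlib
import Groth.Agent.S9159
import Groth.Agent.Lib.Helper3FibCritA
import Groth.Agent.Lib.Helper4FibDimC

set_option autoImplicit false
set_option linter.style.haveILetI false
universe u

open TensorProduct PrimeSpectrum TopologicalSpace

namespace Groth.Agent.Helper13FibDec

open Groth.Agent.Lib.Helper3.FibCritA Groth.Agent.Lib.Helper4.FibDim

section QF

variable {R B C : Type u} [CommRing R] [CommRing B] [CommRing C] [Algebra R B] [Algebra B C]
  [Algebra R C] [IsScalarTower R B C] (p : Ideal R) [p.IsPrime]

/-- `Spec (κ(p) ⊗ C) → Spec C` is injective. -/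
theorem comap_includeRight_injective :
    Function.Injective (PrimeSpectrum.comap
      (Algebra.TensorProduct.includeRight (R := R) (A := p.ResidueField) (B := C)).toRingHom) := by
  intro Q₁ Q₂ h
  apply (PrimeSpectrum.preimageHomeomorphFiber R C ⟨p, inferInstance⟩).symm.injective
  apply Subtype.ext
  rw [preimageHomeomorphFiber_symm_coe, preimageHomeomorphFiber_symm_coe]
  exact h

/-- The map of fibres induced by a quasi-finite map is quasi-finite. -/
theorem quasiFinite_fiberMap [Algebra.FiniteType R C] [Algebra.QuasiFinite B C] :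
    (fiberMap (A := R) (B := B) (C := C) p).toRingHom.QuasiFinite := by
  set fm := fiberMap (A := R) (B := B) (C := C) p with hfm
  letI alg : Algebra (p.Fiber B) (p.Fiber C) := fm.toRingHom.toAlgebra
  haveI : IsScalarTower p.ResidueField (p.Fiber B) (p.Fiber C) :=
    IsScalarTower.of_algebraMap_eq (fun x => (fm.commutes x).symm)
  haveI : Algebra.FiniteType p.ResidueField (p.Fiber C) := inferInstance
  haveI : Algebra.FiniteType (p.Fiber B) (p.Fiber C) :=
    Algebra.FiniteType.of_restrictScalars_finiteType p.ResidueField _ _
  change Algebra.QuasiFinite (p.Fiber B) (p.Fiber C)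
  rw [Algebra.QuasiFinite.iff_finite_comap_preimage_singleton]
  intro y
  set jB := PrimeSpectrum.comap
    (Algebra.TensorProduct.includeRight (R := R) (A := p.ResidueField) (B := B)).toRingHom
  set jC := PrimeSpectrum.comap
    (Algebra.TensorProduct.includeRight (R := R) (A := p.ResidueField) (B := C)).toRingHom
  have hfin := Algebra.QuasiFinite.finite_comap_preimage_singleton (R := B) (S := C) (jB y)
  have hsub : PrimeSpectrum.comap (algebraMap (p.Fiber B) (p.Fiber C)) ⁻¹' {y} ⊆
      jC ⁻¹' (PrimeSpectrum.comap (algebraMap B C) ⁻¹' {jB y}) := by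
    intro Q' hQ'
    simp only [Set.mem_preimage, Set.mem_singleton_iff] at hQ' ⊢
    rw [← hQ']
    apply PrimeSpectrum.ext
    change (Q'.asIdeal.comap _).comap _ = (Q'.asIdeal.comap _).comap _
    rw [Ideal.comap_comap, Ideal.comap_comap]
    congr 1
  exact (hfin.preimage (comap_includeRight_injective p).injOn).subset hsub

end QF

end Groth.Agent.Helper13FibDec
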