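import Mathlib
import Groth.Agent.Lib.Helper13FibDecD

set_option autoImplicit false
set_option linter.style.haveILetI false
universe u

open TensorProduct PrimeSpectrum TopologicalSpace

namespace Groth.Agent.Helper13FibDec

open Groth.Agent.Lib.Helper3.FibCritA Groth.Agent.Lib.Helper4.FibDim

section Poly

variable (R C : Type u) [CommRing R] [CommRing C] [Algebra R C] (n : ℕ)
  [Algebra (MvPolynomial (Fin n) R) C] [IsScalarTower R (MvPolynomial (Fin n) R) C]
  (p : Ideal R) [p.IsPrime]

/-- the map `κ(p)[t₁..tₙ] → κ(p) ⊗ C` induced by `R[t₁..tₙ] → C`. -/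
noncomputable def polyFiberMap :
    MvPolynomial (Fin n) p.ResidueField →ₐ[p.ResidueField] p.Fiber C :=
  (fiberMap (A := R) (B := MvPolynomial (Fin n) R) (C := C) p).comp
    (MvPolynomial.algebraTensorAlgEquiv (σ := Fin n) R p.ResidueField).symm.toAlgHom

theorem polyFiberMap_quasiFinite [Algebra.FiniteType R C]
    [Algebra.QuasiFinite (MvPolynomial (Fin n) R) C] :
    (polyFiberMap R C n p).toRingHom.QuasiFinite := by
  have h1 := quasiFinite_fiberMap (R := R) (B := MvPolynomial (Fin n) R) (C := C) p
  have h2 : (MvPolynomial.algebraTensorAlgEquiv (σ := Fin n) R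
      p.ResidueField).symm.toAlgHom.toRingHom.QuasiFinite :=
    RingHom.QuasiFinite.of_finite (RingHom.Finite.of_surjective _
      (MvPolynomial.algebraTensorAlgEquiv (σ := Fin n) R p.ResidueField).symm.surjective)
  exact RingHom.QuasiFinite.comp h1 h2

/-- flatness of `polyFiberMap` gives flatness of the fibre map. -/
theorem fiberMap_flat_of_polyFiberMap_flat (h : (polyFiberMap R C n p).toRingHom.Flat) :
    (fiberMap (A := R) (B := MvPolynomial (Fin n) R) (C := C) p).toRingHom.Flat := by
  set e := MvPolynomial.algebraTensorAlgEquiv (σ := Fin n) R p.ResidueField with he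
  have h2 : (fiberMap (A := R) (B := MvPolynomial (Fin n) R) (C := C) p).toRingHom =
      (polyFiberMap R C n p).toRingHom.comp e.toAlgHom.toRingHom := by
    refine RingHom.ext fun x => ?_
    change _ = (fiberMap (A := R) (B := MvPolynomial (Fin n) R) (C := C) p) (e.symm (e x))
    rw [AlgEquiv.symm_apply_apply]
    rfl
  rw [h2]
  exact RingHom.Flat.comp (RingHom.Flat.of_bijective e.bijective) h

/-- **Flatness of the fibre map**: if the fibre `κ(p) ⊗ C` is CM and everywhere of local dimension
`n`, and `R[t₁..tₙ] → C` is quasi-finite, then `κ(p)[t] → κ(p) ⊗ C` is flat. -/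
theorem fiberMap_flat [Algebra.FiniteType R C] [Algebra.QuasiFinite (MvPolynomial (Fin n) R) C]
    [hCM : LocCoh.IsCohenMacaulayRing (p.Fiber C)]
    (hld : ∀ Q' : PrimeSpectrum (p.Fiber C),
      FlatMor.localDim (PrimeSpectrum (p.Fiber C)) Q' = (n : WithBot ℕ∞)) :
    (fiberMap (A := R) (B := MvPolynomial (Fin n) R) (C := C) p).toRingHom.Flat := by
  apply fiberMap_flat_of_polyFiberMap_flat
  set ψ := polyFiberMap R C n p with hψ
  letI algPK : Algebra (MvPolynomial (Fin n) p.ResidueField) (p.Fiber C) := ψ.toRingHom.toAlgebra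
  haveI : IsScalarTower p.ResidueField (MvPolynomial (Fin n) p.ResidueField) (p.Fiber C) :=
    IsScalarTower.of_algebraMap_eq (fun x => (ψ.commutes x).symm)
  haveI : Algebra.QuasiFinite (MvPolynomial (Fin n) p.ResidueField) (p.Fiber C) :=
    polyFiberMap_quasiFinite R C n p
  haveI : Algebra.FiniteType p.ResidueField (p.Fiber C) := inferInstance
  have hloc : ∀ (Q' : Ideal (p.Fiber C)) [Q'.IsMaximal],
      Module.Flat (MvPolynomial (Fin n) p.ResidueField) (Localization.AtPrime Q') := by
    intro Q' hQ'
    exact (Groth.Agent.S9159.result p.ResidueField (p.Fiber C) n Q').mpr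
      ⟨hCM.isCohenMacaulayLocalRing_localization Q', hld ⟨Q', inferInstance⟩⟩
  change Module.Flat (MvPolynomial (Fin n) p.ResidueField) (p.Fiber C)
  exact Module.flat_of_isLocalized_maximal (p.Fiber C) (p.Fiber C)
    (fun P _ => Localization.AtPrime P)
    (fun P _ => Algebra.linearMap (p.Fiber C) (Localization.AtPrime P)) hloc

end Poly

end Groth.Agent.Helper13FibDec
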