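import Mathlib
import Groth.Agent.Lib.Helper3FibCritA

set_option autoImplicit false
set_option linter.style.haveILetI false
universe u

open TensorProduct PrimeSpectrum TopologicalSpace

namespace Groth.Agent.Helper13FibDec

open Groth.Agent.Lib.Helper3.FibCritA

section BC

attribute [local instance] Algebra.TensorProduct.rightAlgebra in
/-- the square `A → B`, `K ⊗ A → K ⊗ B` is a pushout. -/
theorem isPushout_tensor_right (R K A B : Type*) [CommRing R] [CommRing K] [CommRing A]
    [CommRing B] [Algebra R K] [Algebra R A] [Algebra R B] [Algebra A B] [IsScalarTower R A B]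
    [Algebra (K ⊗[R] A) (K ⊗[R] B)] [IsScalarTower K (K ⊗[R] A) (K ⊗[R] B)]
    [Algebra A (K ⊗[R] B)] [IsScalarTower A B (K ⊗[R] B)]
    [IsScalarTower A (K ⊗[R] A) (K ⊗[R] B)] :
    Algebra.IsPushout A B (K ⊗[R] A) (K ⊗[R] B) := by
  have : IsScalarTower R A (K ⊗[R] B) := by
    refine .of_algebraMap_eq' ?_
    rw [IsScalarTower.algebraMap_eq A B (K ⊗[R] B), RingHom.comp_assoc,
      ← IsScalarTower.algebraMap_eq R A B, IsScalarTower.algebraMap_eq R B (K ⊗[R] B)]
  have : IsScalarTower R (K ⊗[R] A) (K ⊗[R] B) := .to₁₃₄ _ A _ _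
  rw [← Algebra.IsPushout.comp_iff R _ K]
  infer_instance

end BC

section Fib

variable {R B D : Type u} [CommRing R] [CommRing B] [CommRing D] [Algebra R B] [Algebra B D]
  [Algebra R D] [IsScalarTower R B D] (p : Ideal R) [p.IsPrime]

attribute [local instance] Algebra.TensorProduct.rightAlgebra in
/-- base change of a flat map to a fibre is flat. -/
theorem fiberMap_flat_of_flat [Module.Flat B D] :
    (fiberMap (A := R) (B := B) (C := D) p).toRingHom.Flat := by
  set fm := fiberMap (A := R) (B := B) (C := D) p with hfm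
  letI alg : Algebra (p.Fiber B) (p.Fiber D) := fm.toRingHom.toAlgebra
  haveI : IsScalarTower p.ResidueField (p.Fiber B) (p.Fiber D) :=
    IsScalarTower.of_algebraMap_eq (fun x => (fm.commutes x).symm)
  letI : Algebra B (p.Fiber D) := .compHom _ (algebraMap B D)
  haveI : IsScalarTower B D (p.Fiber D) := .of_algebraMap_eq' rfl
  haveI : IsScalarTower B (p.Fiber B) (p.Fiber D) := by
    refine .of_algebraMap_eq' ?_
    ext b
    change (1 : p.ResidueField) ⊗ₜ[R] (algebraMap B D b) = fm ((1 : p.ResidueField) ⊗ₜ[R] b)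
    rw [hfm, fiberMap_one_tmul]
  haveI := isPushout_tensor_right R p.ResidueField B D
  have h := RingHom.Flat.isStableUnderBaseChange B D (p.Fiber B) (p.Fiber D)
    (RingHom.flat_algebraMap_iff.mpr inferInstance)
  exact h

end Fib

end Groth.Agent.Helper13FibDec
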