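import Mathlib
import Groth.Agent.Lib.Helper13FibDecA
import Groth.Agent.Lib.Helper13FibDecE
import Groth.Agent.Lib.Helper13FibDecF

set_option autoImplicit false
set_option linter.style.haveILetI false
universe u

open TensorProduct PrimeSpectrum TopologicalSpace

namespace Groth.Agent.Helper13FibDec

open Groth.Agent.Lib.Helper3.FibCritA Groth.Agent.Lib.Helper4.FibDim

section FlatAway

variable {B C : Type u} [CommRing B] [CommRing C] [Algebra B C]

/-- if `C` is flat over `B` at all points of `D(s)` then `C_s` is flat over `B`. -/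
theorem flat_away_of_forall (s : C)
    (h : ∀ q : PrimeSpectrum C, s ∉ q.asIdeal →
      Module.Flat B (LocalizedModule q.asIdeal.primeCompl C))
    (D : Type u) [CommRing D] [Algebra C D] [Algebra B D] [IsScalarTower B C D]
    [IsLocalization.Away s D] : Module.Flat B D := by
  have hloc : ∀ (P : Ideal D) [P.IsMaximal], Module.Flat B (Localization.AtPrime P) := by
    intro P hP
    haveI : P.IsPrime := hP.isPrime
    set q : Ideal C := P.comap (algebraMap C D) with hq
    haveI : q.IsPrime := Ideal.comap_isPrime _ _
    have hsq : s ∉ q := by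
      intro hs
      have h1 : algebraMap C D s ∈ P := hs
      have h2 : IsUnit (algebraMap C D s) := IsLocalization.Away.algebraMap_isUnit s
      exact (Ideal.IsPrime.ne_top inferInstance) (Ideal.eq_top_of_isUnit_mem _ h1 h2)
    haveI : IsLocalization.AtPrime (Localization.AtPrime P) q :=
      IsLocalization.isLocalization_isLocalization_atPrime_isLocalization (Submonoid.powers s)
        (Localization.AtPrime P) P
    haveI : IsLocalizedModule q.primeCompl (Algebra.linearMap C (Localization.AtPrime P)) :=
      (isLocalizedModule_iff_isLocalization).mpr inferInstance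
    have e : LocalizedModule q.primeCompl C ≃ₗ[C] Localization.AtPrime P :=
      IsLocalizedModule.iso q.primeCompl (Algebra.linearMap C (Localization.AtPrime P))
    haveI := h ⟨q, inferInstance⟩ hsq
    exact Module.Flat.of_linearEquiv (e.restrictScalars B).symm
  exact Module.flat_of_isLocalized_maximal D D (fun P _ => Localization.AtPrime P)
    (fun P _ => Algebra.linearMap D (Localization.AtPrime P)) hloc

end FlatAway

section Poly

variable (R C : Type u) [CommRing R] [CommRing C] [Algebra R C] (n : ℕ)
  [Algebra (MvPolynomial (Fin n) R) C] [IsScalarTower R (MvPolynomial (Fin n) R) C]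
  (p : Ideal R) [p.IsPrime]

theorem polyFiberMap_flat_of_fiberMap_flat
    (h : (fiberMap (A := R) (B := MvPolynomial (Fin n) R) (C := C) p).toRingHom.Flat) :
    (polyFiberMap R C n p).toRingHom.Flat := by
  set e := MvPolynomial.algebraTensorAlgEquiv (σ := Fin n) R p.ResidueField with he
  have h2 : (polyFiberMap R C n p).toRingHom =
      (fiberMap (A := R) (B := MvPolynomial (Fin n) R) (C := C) p).toRingHom.comp
        e.symm.toAlgHom.toRingHom := rfl
  rw [h2]
  exact RingHom.Flat.comp (RingHom.Flat.of_bijective e.symm.bijective) h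

/-- **Fibre dimension of a flat quasi-finite algebra over `R[t₁..tₙ]`**: it is `n` everywhere. -/
theorem fibLD_eq_of_flat_quasiFinite [Algebra.FiniteType R C]
    [Algebra.QuasiFinite (MvPolynomial (Fin n) R) C] [Module.Flat (MvPolynomial (Fin n) R) C]
    (q : PrimeSpectrum C) :
    fibLD (PrimeSpectrum.comap (algebraMap R C)) q = (n : WithBot ℕ∞) := by
  rw [fibLD_comap_eq]
  set p' := PrimeSpectrum.comap (algebraMap R C) q with hp'
  set Q := PrimeSpectrum.preimageHomeomorphFiber R C p' ⟨q, rfl⟩ with hQ
  set ψ := polyFiberMap R C n p'.asIdeal with hψ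
  have hψflat : ψ.toRingHom.Flat :=
    polyFiberMap_flat_of_fiberMap_flat R C n p'.asIdeal (fiberMap_flat_of_flat p'.asIdeal)
  letI algPK : Algebra (MvPolynomial (Fin n) p'.asIdeal.ResidueField) (p'.asIdeal.Fiber C) :=
    ψ.toRingHom.toAlgebra
  haveI : IsScalarTower p'.asIdeal.ResidueField (MvPolynomial (Fin n) p'.asIdeal.ResidueField)
      (p'.asIdeal.Fiber C) :=
    IsScalarTower.of_algebraMap_eq (fun x => (ψ.commutes x).symm)
  haveI : Algebra.QuasiFinite (MvPolynomial (Fin n) p'.asIdeal.ResidueField) (p'.asIdeal.Fiber C) :=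
    polyFiberMap_quasiFinite R C n p'.asIdeal
  haveI : Algebra.FiniteType p'.asIdeal.ResidueField (p'.asIdeal.Fiber C) := inferInstance
  haveI hfl : Module.Flat (MvPolynomial (Fin n) p'.asIdeal.ResidueField) (p'.asIdeal.Fiber C) :=
    hψflat
  have hfl2 : Module.Flat (MvPolynomial (Fin n) p'.asIdeal.ResidueField)
      (Localization.AtPrime Q.asIdeal) :=
    Module.Flat.trans _ (p'.asIdeal.Fiber C) _
  exact ((Groth.Agent.S9159.result p'.asIdeal.ResidueField (p'.asIdeal.Fiber C) n Q.asIdeal).mp
    hfl2).2

end Poly

end Groth.Agent.Helper13FibDec
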