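import Mathlib

set_option autoImplicit false
set_option linter.style.haveILetI false

universe u

namespace Groth.Agent.Lib.Helper3.FibCritC

open TensorProduct Algebra

example {K' K : Type u} [Field K'] [Field K] [Algebra K' K] : Module.FaithfullyFlat K' K := inferInstance

section PO

variable {A' A K' K B' B : Type u} [CommRing A'] [CommRing A] [CommRing K'] [CommRing K]
  [CommRing B'] [CommRing B]
  [Algebra A' A] [Algebra A' K'] [Algebra A K] [Algebra K' K] [Algebra A' K]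
  [IsScalarTower A' K' K] [IsScalarTower A' A K]
  [Algebra A' B'] [Algebra A B] [Algebra B' B] [Algebra A' B] [IsScalarTower A' B' B]
  [IsScalarTower A' A B]

variable (A' A K' K B' B) in
/-- The comparison map `K' ⊗[A'] B' → K ⊗[A] B`. -/
noncomputable def μ : K' ⊗[A'] B' →ₐ[K'] K ⊗[A] B :=
  Algebra.TensorProduct.lift (Algebra.ofId K' (K ⊗[A] B))
    (((Algebra.TensorProduct.includeRight : B →ₐ[A] K ⊗[A] B).restrictScalars A').comp
      (IsScalarTower.toAlgHom A' B' B)) (fun _ _ => Commute.all _ _)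

theorem μ_tmul (k : K') (b : B') :
    μ A' A K' K B' B (k ⊗ₜ b) = (algebraMap K' K k) ⊗ₜ[A] (algebraMap B' B b) := by
  simp only [μ, Algebra.TensorProduct.lift_tmul, Algebra.ofId_apply, AlgHom.comp_apply,
    AlgHom.restrictScalars_apply, IsScalarTower.coe_toAlgHom', Algebra.TensorProduct.includeRight_apply]
  rw [Algebra.TensorProduct.algebraMap_apply, Algebra.TensorProduct.tmul_mul_tmul, mul_one, one_mul]

variable (A' A K' K B' B) in
theorem isBaseChange_μ [Algebra.IsPushout A' A B' B] :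
    IsBaseChange K (μ A' A K' K B' B).toLinearMap := by
  let e1 : K ⊗[K'] (K' ⊗[A'] B') ≃ₗ[K] K ⊗[A'] B' :=
    TensorProduct.AlgebraTensorModule.cancelBaseChange A' K' K K B'
  let e2 : K ⊗[A'] B' ≃ₗ[K] K ⊗[A] (A ⊗[A'] B') :=
    (TensorProduct.AlgebraTensorModule.cancelBaseChange A' A K K B').symm
  let e3 : K ⊗[A] (A ⊗[A'] B') ≃ₗ[K] K ⊗[A] B :=
    TensorProduct.AlgebraTensorModule.congr (LinearEquiv.refl K K)
      (Algebra.IsPushout.equiv A' A B' B).toLinearEquiv
  refine IsBaseChange.of_equiv (e1 ≪≫ₗ e2 ≪≫ₗ e3) ?_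
  intro x
  induction x with
  | zero => simp
  | add a b ha hb => simp only [tmul_add, map_add, ha, hb]
  | tmul k b =>
    simp only [LinearEquiv.trans_apply, AlgHom.toLinearMap_apply, μ_tmul]
    simp [e1, e2, e3, Algebra.IsPushout.equiv_tmul, Algebra.smul_def]

end PO

section FD

/-- Faithfully flat descent of flatness, base-change form. -/
theorem flat_of_isBaseChange_of_faithfullyFlat {R S M N : Type*} [CommRing R] [CommRing S]
    [Algebra R S] [Module.FaithfullyFlat R S] [AddCommGroup M] [Module R M] [AddCommGroup N]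
    [Module R N] [Module S N] [IsScalarTower R S N] (f : M →ₗ[R] N) (hf : IsBaseChange S f)
    [Module.Flat S N] : Module.Flat R M := by
  haveI : Module.Flat S (S ⊗[R] M) := Module.Flat.of_linearEquiv hf.equiv
  exact Module.Flat.of_flat_tensorProduct R M S

end FD

section Descent

variable {A' A K' K B' B C' C : Type u} [CommRing A'] [CommRing A] [Field K'] [Field K]
  [CommRing B'] [CommRing B] [CommRing C'] [CommRing C]
  [Algebra A' A] [Algebra A' K'] [Algebra A K] [Algebra K' K] [Algebra A' K]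
  [IsScalarTower A' K' K] [IsScalarTower A' A K]
  [Algebra A' B'] [Algebra A B] [Algebra B' B] [Algebra A' B] [IsScalarTower A' B' B]
  [IsScalarTower A' A B]
  [Algebra A' C'] [Algebra A C] [Algebra C' C] [Algebra A' C] [IsScalarTower A' C' C]
  [IsScalarTower A' A C]
  [Algebra B' C'] [IsScalarTower A' B' C'] [Algebra B C] [IsScalarTower A B C]
  [Algebra B' C] [IsScalarTower B' B C] [IsScalarTower B' C' C]
  [Algebra.IsPushout A' A B' B] [Algebra.IsPushout A' A C' C]

set_option maxHeartbeats 1600000 in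
theorem flat_fiberMap_descent
    (h : (Algebra.TensorProduct.map (AlgHom.id K K) (IsScalarTower.toAlgHom A B C)).toRingHom.Flat) :
    (Algebra.TensorProduct.map (AlgHom.id K' K')
      (IsScalarTower.toAlgHom A' B' C')).toRingHom.Flat := by
  let φ' : K' ⊗[A'] B' →ₐ[K'] K' ⊗[A'] C' :=
    Algebra.TensorProduct.map (AlgHom.id K' K') (IsScalarTower.toAlgHom A' B' C')
  let φ : K ⊗[A] B →ₐ[K] K ⊗[A] C :=
    Algebra.TensorProduct.map (AlgHom.id K K) (IsScalarTower.toAlgHom A B C)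
  let μB := μ A' A K' K B' B
  let μC := μ A' A K' K C' C
  have hsq : (φ.restrictScalars K').comp μB = μC.comp φ' := by
    apply Algebra.TensorProduct.ext'
    intro k b
    simp only [AlgHom.comp_apply, AlgHom.restrictScalars_apply, μB, μC, φ, φ', μ_tmul,
      Algebra.TensorProduct.map_tmul, AlgHom.id_apply, IsScalarTower.coe_toAlgHom']
    rw [← IsScalarTower.algebraMap_apply, ← IsScalarTower.algebraMap_apply]
  letI algF'G' : Algebra (K' ⊗[A'] B') (K' ⊗[A'] C') := φ'.toRingHom.toAlgebra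
  letI algFG : Algebra (K ⊗[A] B) (K ⊗[A] C) := φ.toRingHom.toAlgebra
  letI algF'F : Algebra (K' ⊗[A'] B') (K ⊗[A] B) := μB.toRingHom.toAlgebra
  letI algG'G : Algebra (K' ⊗[A'] C') (K ⊗[A] C) := μC.toRingHom.toAlgebra
  letI algF'G : Algebra (K' ⊗[A'] B') (K ⊗[A] C) :=
    ((algebraMap (K ⊗[A] B) (K ⊗[A] C)).comp (algebraMap (K' ⊗[A'] B') (K ⊗[A] B))).toAlgebra
  haveI t1 : IsScalarTower (K' ⊗[A'] B') (K ⊗[A] B) (K ⊗[A] C) :=
    IsScalarTower.of_algebraMap_eq (fun _ => rfl)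
  haveI t2 : IsScalarTower (K' ⊗[A'] B') (K' ⊗[A'] C') (K ⊗[A] C) :=
    IsScalarTower.of_algebraMap_eq (fun x => congrArg (fun g => g x) hsq)
  haveI t3 : IsScalarTower K' (K' ⊗[A'] B') (K ⊗[A] B) :=
    IsScalarTower.of_algebraMap_eq (fun x => (μB.commutes x).symm)
  haveI t4 : IsScalarTower K' (K' ⊗[A'] C') (K ⊗[A] C) :=
    IsScalarTower.of_algebraMap_eq (fun x => (μC.commutes x).symm)
  haveI t5 : IsScalarTower K (K ⊗[A] B) (K ⊗[A] C) :=
    IsScalarTower.of_algebraMap_eq (fun x => (φ.commutes x).symm)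
  haveI t6 : IsScalarTower K' (K ⊗[A] B) (K ⊗[A] C) :=
    IsScalarTower.of_algebraMap_eq (fun x => by
      rw [IsScalarTower.algebraMap_apply K' K (K ⊗[A] C),
        IsScalarTower.algebraMap_apply K' K (K ⊗[A] B)]
      exact (φ.commutes _).symm)
  have hPB : Algebra.IsPushout K' K (K' ⊗[A'] B') (K ⊗[A] B) := ⟨isBaseChange_μ A' A K' K B' B⟩
  have hPC : Algebra.IsPushout K' K (K' ⊗[A'] C') (K ⊗[A] C) := ⟨isBaseChange_μ A' A K' K C' C⟩
  haveI hPB' : Algebra.IsPushout K' (K' ⊗[A'] B') K (K ⊗[A] B) := hPB.symm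
  have hPC' : Algebra.IsPushout K' (K' ⊗[A'] C') K (K ⊗[A] C) := hPC.symm
  have hP : Algebra.IsPushout (K' ⊗[A'] B') (K' ⊗[A'] C') (K ⊗[A] B) (K ⊗[A] C) :=
    (Algebra.IsPushout.comp_iff (R := K') (S := K' ⊗[A'] B') (R' := K) (S' := K ⊗[A] B)
      (T := K' ⊗[A'] C') (T' := K ⊗[A] C)).mp hPC'
  haveI : Module.FaithfullyFlat (K' ⊗[A'] B') (K ⊗[A] B) :=
    Module.FaithfullyFlat.of_linearEquiv _ _
      (Algebra.IsPushout.equiv K' (K' ⊗[A'] B') K (K ⊗[A] B)).toLinearEquiv.symm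
  haveI : Module.Flat (K ⊗[A] B) (K ⊗[A] C) := h
  change Module.Flat (K' ⊗[A'] B') (K' ⊗[A'] C')
  exact flat_of_isBaseChange_of_faithfullyFlat (S := K ⊗[A] B) _ hP.symm.out

end Descent

end Groth.Agent.Lib.Helper3.FibCritC
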