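import Mathlib
import Groth.Agent.Lib.Helper3FibCritA
import Groth.Agent.Lib.Helper3FibCritC
import Groth.Agent.Lib.Helper3FlatModelMod

set_option autoImplicit false
set_option linter.style.haveILetI false

universe u

namespace Groth.Agent.Lib.Helper3.FibCritD

open TensorProduct MvPolynomial Groth.Agent.Lib.Helper3.FlatLoc Groth.Agent.Lib.Helper3.FlatDesc
  Groth.Agent.Lib.Helper3.FlatOpen Groth.Agent.Lib.Helper3.FibCritA
  Groth.Agent.Lib.Helper3.FibCritC Groth.Agent.Lib.Helper3.FlatModelMod

attribute [local instance] MvPolynomial.algebraMvPolynomial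

theorem flat_localizedModule_congr_prime {R S M : Type*} [CommRing R] [CommRing S] [Algebra R S]
    [AddCommGroup M] [Module R M] [Module S M] [IsScalarTower R S M] (q₁ q₂ : Ideal S)
    [q₁.IsPrime] [q₂.IsPrime] (h : q₁ = q₂)
    (hf : Module.Flat R (LocalizedModule q₁.primeCompl M)) :
    Module.Flat R (LocalizedModule q₂.primeCompl M) := by
  subst h
  exact hf

section FP

variable {A B C : Type u} [CommRing A] [CommRing B] [CommRing C] [Algebra A B] [Algebra B C]
  [Algebra A C] [IsScalarTower A B C]

set_option maxHeartbeats 3200000 in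
theorem flat_of_fiberMap_flat_of_presentations {n m k r : ℕ}
    (PB : Algebra.Presentation A B (Fin n) (Fin k))
    (PC : Algebra.Presentation A C (Fin n ⊕ Fin m) (Fin r))
    (hval : ∀ i, PC.val (Sum.inl i) = algebraMap B C (PB.val i))
    (p : Ideal A) [p.IsPrime] (P : Ideal C) [P.IsPrime] (hP : P.under A = p)
    (hflat : (fiberMap (B := B) (C := C) p).toRingHom.Flat)
    (h1 : Module.Flat A (LocalizedModule P.primeCompl C)) :
    Module.Flat B (LocalizedModule P.primeCompl C) := by
  classical
  -- Step 1: the relations of `B` are combinations of the relations of `C`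
  have hrel : ∀ j : Fin k, ∃ a : Fin r → MvPolynomial (Fin n ⊕ Fin m) A,
      ∑ l, a l * PC.relation l = rename Sum.inl (PB.relation j) := by
    intro j
    apply (Ideal.mem_span_range_iff_exists_fun (R := MvPolynomial (Fin n ⊕ Fin m) A)).mp
    rw [PC.span_range_relation_eq_ker, PC.ker_eq_ker_aeval_val, RingHom.mem_ker]
    rw [aeval_rename]
    have h2 : (PC.val ∘ Sum.inl) = fun i => algebraMap B C (PB.val i) := funext hval
    rw [h2]
    have h3 : aeval (fun i => algebraMap B C (PB.val i)) (PB.relation j) =
        algebraMap B C (aeval PB.val (PB.relation j)) := by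
      rw [← MvPolynomial.aeval_algebraMap_apply]
      rfl
    rw [h3, PB.aeval_val_relation, map_zero]
  choose a ha using hrel
  -- Step 2: the Noetherian core and the model
  let Λ := PC.Core
  haveI : IsNoetherianRing Λ := Algebra.FiniteType.isNoetherianRing ℤ Λ
  let w : Fin r → Unit → MvPolynomial (Fin n ⊕ Fin m) Λ := fun l _ => PC.relationOfHasCoeffs Λ l
  let extra : Finset A := (Finset.univ.biUnion fun j => (PB.relation j).coeffs) ∪
    (Finset.univ.biUnion fun j => Finset.univ.biUnion fun l => (a j l).coeffs)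
  -- Step 3: flatness of the model at the top level
  letI algPC : Algebra (MvPolynomial (Fin n ⊕ Fin m) A) C := inferInstanceAs (Algebra PC.Ring C)
  haveI : IsScalarTower A (MvPolynomial (Fin n ⊕ Fin m) A) C :=
    inferInstanceAs (IsScalarTower A PC.Ring C)
  have hsurj : Function.Surjective (algebraMap PC.Ring C) := PC.algebraMap_surjective
  let q : Ideal (MvPolynomial (Fin n ⊕ Fin m) A) := P.comap (algebraMap PC.Ring C)
  haveI : q.IsPrime := Ideal.comap_isPrime _ _
  obtain ⟨e₁⟩ := nonempty_model_equiv_quotient (T := A) w PC.relation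
    (fun l => PC.map_relationOfHasCoeffs Λ l)
  let e₂ : (MvPolynomial (Fin n ⊕ Fin m) A ⧸ Ideal.span (Set.range PC.relation)) ≃ₗ[
      MvPolynomial (Fin n ⊕ Fin m) A] C :=
    (Submodule.quotEquivOfEq _ _ PC.span_range_relation_eq_ker) ≪≫ₗ
      PC.quotientEquiv.toLinearEquiv
  have hflatq : Module.Flat A (LocalizedModule q.primeCompl
      ((Unit → MvPolynomial (Fin n ⊕ Fin m) A) ⧸ KT w (MvPolynomial (Fin n ⊕ Fin m) A))) := by
    have h2 : Module.Flat A (LocalizedModule q.primeCompl C) :=
      (flat_localizedModule_comap_iff (R := A) (P := MvPolynomial (Fin n ⊕ Fin m) A) hsurj P).mpr h1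
    exact flat_localizedModule_of_linearEquiv (e₁ ≪≫ₗ e₂).symm _ h2
  obtain ⟨A', hA'fg, hextra, hA'flat⟩ := exists_fg_subalgebra_flat w q hflatq extra
  -- Step 5: instances on `A'`
  haveI : Algebra.FiniteType Λ A' := (Subalgebra.fg_iff_finiteType A').mp hA'fg
  haveI : IsNoetherianRing A' := Algebra.FiniteType.isNoetherianRing Λ A'
  haveI hcC : PC.HasCoeffs A' := Algebra.Presentation.HasCoeffs.of_isScalarTower Λ
  have hmemA' : ∀ c ∈ extra, c ∈ A' := fun c hc => hextra hc
  haveI hcB : PB.HasCoeffs A' := ⟨by
    intro c hc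
    obtain ⟨j, hj⟩ := Set.mem_iUnion.mp hc
    refine ⟨⟨c, hmemA' c ?_⟩, rfl⟩
    exact Finset.mem_union_left _ (Finset.mem_biUnion.mpr ⟨j, Finset.mem_univ j, hj⟩)⟩
  -- lifts of the coefficients `a j l`
  have hal : ∀ j l, ∃ f : MvPolynomial (Fin n ⊕ Fin m) A', MvPolynomial.map (algebraMap A' A) f = a j l := by
    intro j l
    apply MvPolynomial.mem_range_map_iff_coeffs_subset.mpr
    intro c hc
    refine ⟨⟨c, hmemA' c ?_⟩, rfl⟩
    exact Finset.mem_union_right _ (Finset.mem_biUnion.mpr ⟨j, Finset.mem_univ j,
      Finset.mem_biUnion.mpr ⟨l, Finset.mem_univ l, hc⟩⟩)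
  choose a' ha' using hal
  have hinj : Function.Injective (MvPolynomial.map (σ := Fin n ⊕ Fin m) (algebraMap A' A)) :=
    MvPolynomial.map_injective _ Subtype.val_injective
  have hrel' : ∀ j, ∑ l, a' j l * PC.relationOfHasCoeffs A' l =
      rename Sum.inl (PB.relationOfHasCoeffs A' j) := by
    intro j
    apply hinj
    rw [map_sum, MvPolynomial.map_rename, PB.map_relationOfHasCoeffs, ← ha j]
    refine Finset.sum_congr rfl fun l _ => ?_
    rw [map_mul, ha', PC.map_relationOfHasCoeffs]
  -- Step 6: the models
  let B' := PB.ModelOfHasCoeffs A'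
  let C' := PC.ModelOfHasCoeffs A'
  haveI : IsNoetherianRing B' := Algebra.FiniteType.isNoetherianRing A' B'
  haveI : IsNoetherianRing C' := Algebra.FiniteType.isNoetherianRing A' C'
  -- Step 7: `B' → C'`
  let β' : B' →ₐ[A'] C' := Ideal.Quotient.liftₐ _
    ((Ideal.Quotient.mkₐ A' _).comp (rename (R := A') Sum.inl)) (by
      intro g hg
      rw [AlgHom.comp_apply, Ideal.Quotient.mkₐ_eq_mk, Ideal.Quotient.eq_zero_iff_mem]
      induction hg using Submodule.span_induction with
      | mem g hg =>
        obtain ⟨j, rfl⟩ := hg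
        rw [← hrel' j]
        exact Ideal.sum_mem _ fun l _ => Ideal.mul_mem_left _ _ (Ideal.subset_span ⟨l, rfl⟩)
      | zero => rw [map_zero]; exact Ideal.zero_mem _
      | add x y _ _ hx hy => rw [map_add]; exact Ideal.add_mem _ hx hy
      | smul c x _ hx => rw [smul_eq_mul, map_mul]; exact Ideal.mul_mem_left _ _ hx)
  letI algB'C' : Algebra B' C' := β'.toRingHom.toAlgebra
  haveI : IsScalarTower A' B' C' := IsScalarTower.of_algebraMap_eq' β'.comp_algebraMap.symm
  -- Step 8: `B' → B` and `C' → C`
  let γB : B' →ₐ[A'] B := Ideal.Quotient.liftₐ _ (aeval PB.val : MvPolynomial (Fin n) A' →ₐ[A'] B) (by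
      intro g hg
      induction hg using Submodule.span_induction with
      | mem g hg =>
        obtain ⟨j, rfl⟩ := hg
        exact PB.aeval_val_relationOfHasCoeffs A' j
      | zero => rw [map_zero]
      | add x y _ _ hx hy => rw [map_add, hx, hy, add_zero]
      | smul c x _ hx => rw [smul_eq_mul, map_mul, hx, mul_zero])
  let γC : C' →ₐ[A'] C := Ideal.Quotient.liftₐ _
    (aeval PC.val : MvPolynomial (Fin n ⊕ Fin m) A' →ₐ[A'] C) (by
      intro g hg
      induction hg using Submodule.span_induction with
      | mem g hg =>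
        obtain ⟨j, rfl⟩ := hg
        exact PC.aeval_val_relationOfHasCoeffs A' j
      | zero => rw [map_zero]
      | add x y _ _ hx hy => rw [map_add, hx, hy, add_zero]
      | smul c x _ hx => rw [smul_eq_mul, map_mul, hx, mul_zero])
  letI algB'B : Algebra B' B := γB.toRingHom.toAlgebra
  letI algC'C : Algebra C' C := γC.toRingHom.toAlgebra
  haveI : IsScalarTower A' B' B := IsScalarTower.of_algebraMap_eq' γB.comp_algebraMap.symm
  haveI : IsScalarTower A' C' C := IsScalarTower.of_algebraMap_eq' γC.comp_algebraMap.symm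
  haveI poB : Algebra.IsPushout A' A B' B := isPushout_modelOfHasCoeffs PB A' (fun y => rfl)
  haveI poC : Algebra.IsPushout A' A C' C := isPushout_modelOfHasCoeffs PC A' (fun y => rfl)
  -- Step 9: compatibility
  letI algB'C : Algebra B' C := ((algebraMap B C).comp (algebraMap B' B)).toAlgebra
  haveI : IsScalarTower B' B C := IsScalarTower.of_algebraMap_eq (fun _ => rfl)
  haveI : IsScalarTower A' B C := IsScalarTower.of_algebraMap_eq (fun x => by
    rw [IsScalarTower.algebraMap_apply A' A C, IsScalarTower.algebraMap_apply A' A B,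
      ← IsScalarTower.algebraMap_apply A B C])
  haveI : IsScalarTower B' C' C := IsScalarTower.of_algebraMap_eq (fun x => by
    obtain ⟨y, rfl⟩ := Ideal.Quotient.mk_surjective x
    change algebraMap B C (aeval PB.val y) = aeval PC.val (rename Sum.inl y)
    rw [aeval_rename]
    have h2 : (PC.val ∘ Sum.inl) = fun i => algebraMap B C (PB.val i) := funext hval
    rw [h2]
    have h3 := (MvPolynomial.aeval_algebraMap_apply (R := A') (A := B) C PB.val y)
    rw [← h3]
    rfl)
  -- Step 10: the primes
  let P' : Ideal C' := P.comap (algebraMap C' C)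
  haveI : P'.IsPrime := Ideal.comap_isPrime _ _
  let p' : Ideal A' := p.comap (algebraMap A' A)
  haveI : p'.IsPrime := Ideal.comap_isPrime _ _
  have hP' : P'.under A' = p' := by
    ext x
    simp only [P', p', Ideal.under, Ideal.mem_comap]
    rw [← hP]
    simp only [Ideal.under, Ideal.mem_comap]
    rw [← IsScalarTower.algebraMap_apply, ← IsScalarTower.algebraMap_apply]
  have h1' : Module.Flat A' (LocalizedModule P'.primeCompl C') := by
    obtain ⟨e₃⟩ := nonempty_model_equiv_quotient (T := A') w (PC.relationOfHasCoeffs A') (by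
      intro l
      apply hinj
      rw [MvPolynomial.map_map, PC.map_relationOfHasCoeffs A' l]
      exact PC.map_relationOfHasCoeffs Λ l)
    have h2 := flat_localizedModule_of_linearEquiv e₃ _ hA'flat
    have hq' : q.comap (algebraMap (MvPolynomial (Fin n ⊕ Fin m) A')
        (MvPolynomial (Fin n ⊕ Fin m) A)) =
        P'.comap (algebraMap (MvPolynomial (Fin n ⊕ Fin m) A') C') := by
      ext y
      simp only [q, P', Ideal.mem_comap]
      have : algebraMap PC.Ring C (algebraMap (MvPolynomial (Fin n ⊕ Fin m) A')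
          (MvPolynomial (Fin n ⊕ Fin m) A) y) =
          algebraMap C' C (algebraMap (MvPolynomial (Fin n ⊕ Fin m) A') C' y) := by
        rw [PC.algebraMap_apply, MvPolynomial.algebraMap_def, MvPolynomial.aeval_map_algebraMap]
        rfl
      rw [← this]
    have h3 := flat_localizedModule_congr_prime _ _ hq' h2
    have hs' : Function.Surjective (algebraMap (MvPolynomial (Fin n ⊕ Fin m) A') C') :=
      Ideal.Quotient.mk_surjective
    exact (flat_localizedModule_comap_iff (R := A') (P := MvPolynomial (Fin n ⊕ Fin m) A')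
      (S := C') (M := C') hs' P').mp h3
  -- Step 11: fibre flatness of the model
  letI algK'K : Algebra p'.ResidueField p.ResidueField :=
    (Ideal.ResidueField.map p' p (algebraMap A' A) rfl).toAlgebra
  haveI : IsScalarTower A' p'.ResidueField p.ResidueField :=
    IsScalarTower.of_algebraMap_eq (fun x => by
      rw [RingHom.algebraMap_toAlgebra, Ideal.ResidueField.map_algebraMap,
        ← IsScalarTower.algebraMap_apply])
  have hflat' :=
    flat_fiberMap_descent (A' := A') (A := A) (K' := p'.ResidueField) (K := p.ResidueField)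
      (B' := B') (B := B) (C' := C') (C := C) hflat
  -- Step 12: the Noetherian criterion
  have h2' : Module.Flat B' (LocalizedModule P'.primeCompl C') :=
    flat_localizedModule_of_fiberMap_flat_noeth p' hflat' P' hP' h1'
  -- Step 13: base change back to `A`
  haveI poB' : Algebra.IsPushout A' B' A B := poB.symm
  have hPO : Algebra.IsPushout B' C' B C :=
    (Algebra.IsPushout.comp_iff (R := A') (S := B') (R' := A) (S' := B) (T := C')
      (T' := C)).mp poC.symm
  exact flat_localizedModule_of_isBaseChange (A := B') (R := B) (SA := C') (SR := C) (MA := C')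
    (MR := C) (Algebra.linearMap C' C) hPO.symm.out P'.primeCompl P.primeCompl
    (fun s hs => hs) h2'

end FP

section General

theorem flat_of_flat_of_surjective {R S M : Type*} [CommRing R] [CommRing S] [Algebra R S]
    (hs : Function.Surjective (algebraMap R S)) [AddCommGroup M] [Module R M] [Module S M]
    [IsScalarTower R S M] [Module.Flat R M] : Module.Flat S M := by
  haveI : TensorProduct.CompatibleSMul R S S M :=
    TensorProduct.CompatibleSMul.of_algebraMap_surjective _ _ hs
  exact Module.Flat.of_linearEquiv (TensorProduct.lidOfCompatibleSMul R S M).symm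

/-- A finitely generated ideal is spanned by a finite family. -/
theorem exists_fin_span_eq {R : Type*} [CommRing R] (I : Ideal R) (hI : I.FG) :
    ∃ (k : ℕ) (g : Fin k → R), Ideal.span (Set.range g) = I := by
  obtain ⟨s, hs⟩ := hI
  refine ⟨s.card, fun i => (s.equivFin.symm i : R), ?_⟩
  rw [← hs]
  congr 1
  ext x
  simp only [Set.mem_range, Finset.mem_coe]
  constructor
  · rintro ⟨i, rfl⟩
    exact (s.equivFin.symm i).2
  · intro hx
    exact ⟨s.equivFin ⟨x, hx⟩, by simp⟩

/-- Finitely many elements of the kernel of `f : A[y] → B` suffice to cut out the fibre of `B` over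
a field-valued point of `A`. -/
theorem exists_fin_ker_bijective {A B : Type u} [CommRing A] [CommRing B] [Algebra A B]
    (K : Type u) [Field K] [Algebra A K] {n : ℕ} (f : MvPolynomial (Fin n) A →ₐ[A] B)
    (hf : Function.Surjective f) :
    ∃ (k : ℕ) (g : Fin k → MvPolynomial (Fin n) A), (∀ j, f (g j) = 0) ∧
      ∀ τ : (MvPolynomial (Fin n) A ⧸ Ideal.span (Set.range g)) →ₐ[A] B,
        (∀ y, τ (Ideal.Quotient.mk _ y) = f y) →
        Function.Bijective (Algebra.TensorProduct.map (AlgHom.id K K) τ) := by
  classical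
  let E := K ⊗[A] MvPolynomial (Fin n) A
  haveI : IsNoetherianRing E := Algebra.FiniteType.isNoetherianRing K E
  let inc : MvPolynomial (Fin n) A →ₐ[A] E := Algebra.TensorProduct.includeRight
  let I : Ideal (MvPolynomial (Fin n) A) := RingHom.ker f.toRingHom
  let 𝔞 : Ideal E := Ideal.span (inc '' (I : Set (MvPolynomial (Fin n) A)))
  have h𝔞 : 𝔞.FG := IsNoetherian.noetherian 𝔞
  obtain ⟨t, ht, hspan⟩ := (Submodule.fg_span_iff_fg_span_finset_subset _).mp h𝔞
  obtain ⟨G, hG, rfl⟩ := Finset.subset_set_image_iff.mp ht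
  refine ⟨G.card, fun i => (G.equivFin.symm i : MvPolynomial (Fin n) A), ?_, ?_⟩
  · intro j
    exact hG (G.equivFin.symm j).2
  intro τ hτ
  have hrange : Set.range (fun i => (G.equivFin.symm i : MvPolynomial (Fin n) A)) = ↑G := by
    ext x
    simp only [Set.mem_range, Finset.mem_coe]
    constructor
    · rintro ⟨i, rfl⟩
      exact (G.equivFin.symm i).2
    · intro hx
      exact ⟨G.equivFin ⟨x, hx⟩, by simp⟩
  let ρ : E →ₐ[K] K ⊗[A] (MvPolynomial (Fin n) A ⧸ Ideal.span (Set.range
      fun i => (G.equivFin.symm i : MvPolynomial (Fin n) A))) :=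
    Algebra.TensorProduct.map (AlgHom.id K K) (Ideal.Quotient.mkₐ A _)
  have hρ : 𝔞 ≤ RingHom.ker ρ.toRingHom := by
    change Submodule.span E _ ≤ _
    rw [hspan]
    apply Submodule.span_le.mpr
    intro x hx
    obtain ⟨g, hg, rfl⟩ := Finset.mem_image.mp hx
    change ρ ((1 : K) ⊗ₜ[A] g) = 0
    have : Ideal.Quotient.mk (Ideal.span (Set.range
        fun i => (G.equivFin.symm i : MvPolynomial (Fin n) A))) g = 0 := by
      rw [Ideal.Quotient.eq_zero_iff_mem, hrange]
      exact Ideal.subset_span hg
    change (AlgHom.id K K 1) ⊗ₜ[A] (Ideal.Quotient.mk (Ideal.span (Set.range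
        fun i => (G.equivFin.symm i : MvPolynomial (Fin n) A))) g) = 0
    rw [this, tmul_zero]
  have hlt : ∀ z, Algebra.TensorProduct.map (AlgHom.id K K) τ z = τ.toLinearMap.lTensor K z := by
    intro z
    induction z with
    | zero => simp
    | add a b ha hb => rw [map_add, map_add, ha, hb]
    | tmul a b => simp
  have hsurjτ : Function.Surjective τ.toLinearMap := by
    intro b
    obtain ⟨y, rfl⟩ := hf b
    exact ⟨Ideal.Quotient.mk _ y, hτ y⟩
  have key : ∀ w : K ⊗[A] (LinearMap.ker τ.toLinearMap),
      (LinearMap.ker τ.toLinearMap).subtype.lTensor K w = 0 := by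
    intro w
    induction w with
    | zero => simp
    | add a b ha hb => rw [map_add, ha, hb, add_zero]
    | tmul c j =>
      rw [LinearMap.lTensor_tmul]
      obtain ⟨j, hj⟩ := j
      obtain ⟨h, rfl⟩ := Ideal.Quotient.mk_surjective j
      have hhI : h ∈ I := by
        change f h = 0
        rw [← hτ h]
        exact hj
      have h1 : ρ ((1 : K) ⊗ₜ[A] h) = 0 :=
        hρ (Ideal.subset_span ⟨h, hhI, rfl⟩)
      have h2 : c ⊗ₜ[A] (Ideal.Quotient.mk (Ideal.span (Set.range
          fun i => (G.equivFin.symm i : MvPolynomial (Fin n) A))) h) =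
          ρ (c ⊗ₜ[A] (1 : MvPolynomial (Fin n) A)) * ρ ((1 : K) ⊗ₜ[A] h) := by
        rw [← map_mul, Algebra.TensorProduct.tmul_mul_tmul, mul_one, one_mul]
        rfl
      change c ⊗ₜ[A] (Ideal.Quotient.mk _ h) = 0
      rw [h2, h1]
      exact mul_zero (ρ (c ⊗ₜ[A] (1 : MvPolynomial (Fin n) A)))
  constructor
  · rw [injective_iff_map_eq_zero]
    intro z hz
    rw [hlt] at hz
    have hex : Function.Exact ((LinearMap.ker τ.toLinearMap).subtype) τ.toLinearMap :=
      LinearMap.exact_subtype_ker_map _
    obtain ⟨w, rfl⟩ := (lTensor_exact K hex hsurjτ z).mp hz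
    exact key w
  · intro y
    obtain ⟨z, rfl⟩ := LinearMap.lTensor_surjective K (g := τ.toLinearMap) hsurjτ y
    exact ⟨z, hlt z⟩

end General

section Main

variable {A B C : Type u} [CommRing A] [CommRing B] [CommRing C] [Algebra A B] [Algebra B C]
  [Algebra A C] [IsScalarTower A B C]

set_option maxHeartbeats 1600000 in
/-- **Critère de platitude par fibres** (finite presentation version, local on the source):
`A → B → C` with `B` of finite type and `C` of finite presentation over `A`; if `C_P` is flat over
`A` and the map of fibres over `p = P ∩ A` is flat, then `C_P` is flat over `B`. -/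
theorem flat_of_fiberMap_flat [Algebra.FiniteType A B] [Algebra.FinitePresentation A C]
    (p : Ideal A) [p.IsPrime] (P : Ideal C) [P.IsPrime] (hP : P.under A = p)
    (hflat : (fiberMap (B := B) (C := C) p).toRingHom.Flat)
    (h1 : Module.Flat A (LocalizedModule P.primeCompl C)) :
    Module.Flat B (LocalizedModule P.primeCompl C) := by
  classical
  obtain ⟨n, f, hf⟩ := Algebra.FiniteType.iff_quotient_mvPolynomial''.mp
    (inferInstance : Algebra.FiniteType A B)
  obtain ⟨m, fC, hfC⟩ := Algebra.FiniteType.iff_quotient_mvPolynomial''.mp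
    (inferInstance : Algebra.FiniteType A C)
  let vC : Fin n ⊕ Fin m → C :=
    Sum.elim (fun i => algebraMap B C (f (X i))) (fun j => fC (X j))
  have hvC : Function.Surjective (aeval (R := A) vC) := by
    intro c
    obtain ⟨y, rfl⟩ := hfC c
    refine ⟨rename Sum.inr y, ?_⟩
    rw [aeval_rename]
    have : (vC ∘ Sum.inr) = fun j => fC (X j) := rfl
    rw [this]
    exact (DFunLike.congr_fun (MvPolynomial.aeval_unique fC) y).symm
  let GC : Algebra.Generators A C (Fin n ⊕ Fin m) := Algebra.Generators.ofSurjective vC hvC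
  have hker : GC.ker.FG := GC.fg_ker_of_finitePresentation
  obtain ⟨r, rel, hrel⟩ := exists_fin_span_eq GC.ker hker
  let PC : Algebra.Presentation A C (Fin n ⊕ Fin m) (Fin r) :=
    { toGenerators := GC, relation := rel, span_range_relation_eq_ker := hrel }
  obtain ⟨k, g, hg, hbij⟩ := exists_fin_ker_bijective p.ResidueField f hf
  let τ : (MvPolynomial (Fin n) A ⧸ Ideal.span (Set.range g)) →ₐ[A] B :=
    Ideal.Quotient.liftₐ _ f (by
      intro a ha
      have : Ideal.span (Set.range g) ≤ RingHom.ker f.toRingHom := by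
        rw [Ideal.span_le]
        rintro _ ⟨j, rfl⟩
        exact hg j
      exact this ha)
  have hτ : ∀ y, τ (Ideal.Quotient.mk _ y) = f y := fun y => rfl
  let PB : Algebra.Presentation A (MvPolynomial (Fin n) A ⧸ Ideal.span (Set.range g))
      (Fin n) (Fin k) := Algebra.Presentation.naive (v := g)
  letI algBGB : Algebra (MvPolynomial (Fin n) A ⧸ Ideal.span (Set.range g)) B :=
    τ.toRingHom.toAlgebra
  letI algBGC : Algebra (MvPolynomial (Fin n) A ⧸ Ideal.span (Set.range g)) C :=
    ((algebraMap B C).comp τ.toRingHom).toAlgebra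
  haveI : IsScalarTower A (MvPolynomial (Fin n) A ⧸ Ideal.span (Set.range g)) B :=
    IsScalarTower.of_algebraMap_eq' τ.comp_algebraMap.symm
  haveI : IsScalarTower (MvPolynomial (Fin n) A ⧸ Ideal.span (Set.range g)) B C :=
    IsScalarTower.of_algebraMap_eq' rfl
  haveI : IsScalarTower A (MvPolynomial (Fin n) A ⧸ Ideal.span (Set.range g)) C := by
    refine IsScalarTower.of_algebraMap_eq' (R := A)
      (S := MvPolynomial (Fin n) A ⧸ Ideal.span (Set.range g)) (A := C) ?_
    ext a
    change algebraMap A C a = algebraMap B C (τ (algebraMap A _ a))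
    rw [τ.commutes, ← IsScalarTower.algebraMap_apply]
  have hval : ∀ i, PC.val (Sum.inl i) =
      algebraMap (MvPolynomial (Fin n) A ⧸ Ideal.span (Set.range g)) C (PB.val i) := by
    intro i
    rfl
  have hbij' := hbij τ hτ
  have hcomp : fiberMap (B := MvPolynomial (Fin n) A ⧸ Ideal.span (Set.range g)) (C := C) p =
      (fiberMap (B := B) (C := C) p).comp
        (Algebra.TensorProduct.map (AlgHom.id p.ResidueField p.ResidueField) τ) := by
    apply Algebra.TensorProduct.ext'
    intro a b
    rfl
  have h2 := flat_of_fiberMap_flat_of_presentations PB PC hval p P hP (by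
    rw [hcomp]
    exact RingHom.Flat.comp (RingHom.Flat.of_bijective hbij') hflat) h1
  haveI : IsScalarTower (MvPolynomial (Fin n) A ⧸ Ideal.span (Set.range g)) B
      (LocalizedModule P.primeCompl C) := by
    constructor
    intro x y z
    induction z using LocalizedModule.induction_on with
    | h c s =>
      rw [LocalizedModule.smul'_mk, LocalizedModule.smul'_mk, LocalizedModule.smul'_mk,
        smul_assoc]
  refine flat_of_flat_of_surjective (R := MvPolynomial (Fin n) A ⧸ Ideal.span (Set.range g))
    (S := B) ?_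
  intro b
  obtain ⟨y, rfl⟩ := hf b
  exact ⟨Ideal.Quotient.mk _ y, hτ y⟩

end Main


end Groth.Agent.Lib.Helper3.FibCritD
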