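import Mathlib
import Groth.Agent.Lib.Helper13FibDecB
import Groth.Agent.Lib.Helper13FibDecC
import Groth.Agent.Lib.Helper13FibDecG
import Groth.Agent.S0387
import Groth.Agent.Lib.Helper3FibCritD

set_option autoImplicit false
set_option linter.style.haveILetI false
universe u

open TensorProduct PrimeSpectrum TopologicalSpace

namespace Groth.Agent.Helper13FibDec

open Groth.Agent.Lib.Helper3.FibCritA Groth.Agent.Lib.Helper4.FibDim

section LC

variable (R S : Type u) [CommRing R] [CommRing S] [Algebra R S]

theorem fibLD_eq_of_forall_localDim (p : Ideal R) [p.IsPrime] (c : WithBot ℕ∞)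
    (hall : ∀ Q' : PrimeSpectrum (p.Fiber S), FlatMor.localDim (PrimeSpectrum (p.Fiber S)) Q' = c)
    (x : PrimeSpectrum S) (hx : PrimeSpectrum.comap (algebraMap R S) x = ⟨p, inferInstance⟩) :
    fibLD (PrimeSpectrum.comap (algebraMap R S)) x = c := by
  have h := localDim_fiber_eq_fibLD R S p
    (PrimeSpectrum.preimageHomeomorphFiber R S ⟨p, inferInstance⟩ ⟨x, hx⟩)
  rw [comap_includeRight_preimageHomeomorphFiber] at h
  rw [← h]
  exact hall _

end LC

end Groth.Agent.Helper13FibDec
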