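import Mathlib
import Groth.Agent.Lib.Helper13FibDecH

set_option autoImplicit false
set_option linter.style.haveILetI false
universe u

open TensorProduct PrimeSpectrum TopologicalSpace

namespace Groth.Agent.Helper13FibDec

open Groth.Agent.Lib.Helper3.FibCritA Groth.Agent.Lib.Helper3.FibCritD Groth.Agent.Lib.Helper4.FibDim

section LCa

variable (R C : Type u) [CommRing R] [CommRing C] [Algebra R C] (n : ℕ)
  [Algebra (MvPolynomial (Fin n) R) C] [IsScalarTower R (MvPolynomial (Fin n) R) C]

set_option maxHeartbeats 1600000 in
/-- core local constancy statement, for an algebra quasi-finite over `R[t₁..tₙ]`. -/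
theorem exists_open_fibLD_eq_of_quasiFinite [Module.Flat R C] [Algebra.FinitePresentation R C]
    [Algebra.QuasiFinite (MvPolynomial (Fin n) R) C]
    (p : Ideal R) [p.IsPrime] [hCM : LocCoh.IsCohenMacaulayRing (p.Fiber C)]
    (hall : ∀ Q' : PrimeSpectrum (p.Fiber C),
      FlatMor.localDim (PrimeSpectrum (p.Fiber C)) Q' = (n : WithBot ℕ∞))
    (q' : PrimeSpectrum C) (hq' : q'.asIdeal.under R = p) :
    ∃ U : Set (PrimeSpectrum C), IsOpen U ∧ q' ∈ U ∧
      ∀ x ∈ U, fibLD (PrimeSpectrum.comap (algebraMap R C)) x = (n : WithBot ℕ∞) := by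
  haveI : Algebra.FiniteType R C := inferInstance
  have hfm := fiberMap_flat R C n p hall
  have h1 : Module.Flat R (LocalizedModule q'.asIdeal.primeCompl C) :=
    Module.Flat.trans R C _
  have hflat₁ := flat_of_fiberMap_flat (A := R) (B := MvPolynomial (Fin n) R) (C := C) p q'.asIdeal
    hq' hfm h1
  haveI : Algebra.FinitePresentation (MvPolynomial (Fin n) R) C :=
    Algebra.FinitePresentation.of_restrict_scalars_finitePresentation R _ _
  have hV := Groth.Agent.S0387.result (R := MvPolynomial (Fin n) R) (S := C) (M := C)
  obtain ⟨_, ⟨s, rfl⟩, hq's, hsV⟩ :=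
    PrimeSpectrum.isTopologicalBasis_basic_opens.exists_subset_of_mem_open
      (show q' ∈ {q : PrimeSpectrum C | Module.Flat (MvPolynomial (Fin n) R)
        (LocalizedModule q.asIdeal.primeCompl C)} from hflat₁) hV
  -- the algebra `D = C_s`
  haveI : IsScalarTower R (MvPolynomial (Fin n) R) (Localization.Away s) := by
    refine IsScalarTower.of_algebraMap_eq fun x => ?_
    rw [IsScalarTower.algebraMap_apply R C (Localization.Away s),
      IsScalarTower.algebraMap_apply (MvPolynomial (Fin n) R) C (Localization.Away s),
      ← IsScalarTower.algebraMap_apply R (MvPolynomial (Fin n) R) C]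
  haveI : Algebra.FinitePresentation R (Localization.Away s) :=
    finitePresentation_of_away R C s _
  haveI : Algebra.FiniteType R (Localization.Away s) := inferInstance
  haveI : Algebra.QuasiFinite (MvPolynomial (Fin n) R) (Localization.Away s) := inferInstance
  haveI : Module.Flat (MvPolynomial (Fin n) R) (Localization.Away s) :=
    flat_away_of_forall s (fun q hq => hsV hq) (Localization.Away s)
  have hD : ∀ q'' : PrimeSpectrum (Localization.Away s),
      fibLD (PrimeSpectrum.comap (algebraMap R (Localization.Away s))) q'' = (n : WithBot ℕ∞) :=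
    fun q'' => fibLD_eq_of_flat_quasiFinite R (Localization.Away s) n q''
  refine ⟨PrimeSpectrum.basicOpen s, (PrimeSpectrum.basicOpen s).isOpen, hq's, ?_⟩
  intro x hx
  have hrange := PrimeSpectrum.localization_away_comap_range (Localization.Away s) s
  have hx' : x ∈ Set.range (PrimeSpectrum.comap (algebraMap C (Localization.Away s))) := by
    rw [hrange]; exact hx
  obtain ⟨q'', rfl⟩ := hx'
  rw [← fibLD_away R C s (Localization.Away s) q'']
  exact hD q''

end LCa

end Groth.Agent.Helper13FibDec
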