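import Mathlib
import Groth.Agent.Lib.Helper13FibDecI

set_option autoImplicit false
set_option linter.style.haveILetI false
universe u

open TensorProduct PrimeSpectrum TopologicalSpace

namespace Groth.Agent.Helper13FibDec

open Groth.Agent.Lib.Helper3.FibCritA Groth.Agent.Lib.Helper3.FibCritD Groth.Agent.Lib.Helper4.FibDim

section LC

variable (R S₁ : Type u) [CommRing R] [CommRing S₁] [Algebra R S₁]

set_option maxHeartbeats 1600000 in
/-- core local constancy statement. -/
theorem exists_open_fibLD_eq_of_forall [Module.Flat R S₁] [Algebra.FinitePresentation R S₁]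
    (q₁ : PrimeSpectrum S₁) (n : ℕ) (p : PrimeSpectrum R)
    [hCM : LocCoh.IsCohenMacaulayRing (p.asIdeal.Fiber S₁)]
    (hp : PrimeSpectrum.comap (algebraMap R S₁) q₁ = p)
    (hall : ∀ Q' : PrimeSpectrum (p.asIdeal.Fiber S₁),
      FlatMor.localDim (PrimeSpectrum (p.asIdeal.Fiber S₁)) Q' = (n : WithBot ℕ∞)) :
    ∃ U : Set (PrimeSpectrum S₁), IsOpen U ∧ q₁ ∈ U ∧
      ∀ x ∈ U, fibLD (PrimeSpectrum.comap (algebraMap R S₁)) x = (n : WithBot ℕ∞) := by
  subst hp
  set p := PrimeSpectrum.comap (algebraMap R S₁) q₁ with hp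
  set Q₁ := PrimeSpectrum.preimageHomeomorphFiber R S₁ p ⟨q₁, rfl⟩ with hQ₁
  have hQ₁q : PrimeSpectrum.comap Algebra.TensorProduct.includeRight.toRingHom Q₁ = q₁ :=
    comap_includeRight_preimageHomeomorphFiber p.asIdeal ⟨q₁, rfl⟩
  haveI : Algebra.FiniteType R S₁ := inferInstance
  obtain ⟨g, hg, φ, hφft, hφqf⟩ := exists_quasiFinite_away p.asIdeal Q₁ n (le_of_eq (hall Q₁))
  have hgq : g ∉ q₁.asIdeal := by
    intro h
    apply hg
    rw [← hQ₁q] at h
    exact h
  -- the algebra `C`
  letI algBC : Algebra (MvPolynomial (Fin n) R) (Localization.Away g) := φ.toRingHom.toAlgebra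
  haveI : IsScalarTower R (MvPolynomial (Fin n) R) (Localization.Away g) :=
    IsScalarTower.of_algebraMap_eq (fun x => (φ.commutes x).symm)
  haveI : Algebra.QuasiFinite (MvPolynomial (Fin n) R) (Localization.Away g) := hφqf
  haveI : Module.Flat R (Localization.Away g) := flat_of_away R S₁ g _
  haveI : Algebra.FinitePresentation R (Localization.Away g) := finitePresentation_of_away R S₁ g _
  haveI hCMC : LocCoh.IsCohenMacaulayRing (p.asIdeal.Fiber (Localization.Away g)) :=
    cm_fiber_of_away R S₁ g _ p.asIdeal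
  have hallC : ∀ Q' : PrimeSpectrum (p.asIdeal.Fiber (Localization.Away g)),
      FlatMor.localDim (PrimeSpectrum (p.asIdeal.Fiber (Localization.Away g))) Q' =
        (n : WithBot ℕ∞) := by
    intro Q'
    rw [localDim_fiber_eq_fibLD, fibLD_away R S₁ g]
    apply fibLD_eq_of_forall_localDim R S₁ p.asIdeal _ hall
    rw [← PrimeSpectrum.comap_comp_apply, ← IsScalarTower.algebraMap_eq]
    exact comap_comap_includeRight R (Localization.Away g) p.asIdeal Q'
  have hrange := PrimeSpectrum.localization_away_comap_range (Localization.Away g) g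
  have hmem : q₁ ∈ Set.range (PrimeSpectrum.comap (algebraMap S₁ (Localization.Away g))) := by
    rw [hrange]; exact hgq
  obtain ⟨q₁', hq₁'⟩ := hmem
  have hunder : q₁'.asIdeal.under R = p.asIdeal := by
    rw [hp, ← hq₁']
    change _ = (q₁'.asIdeal.comap _).comap _
    rw [Ideal.comap_comap, ← IsScalarTower.algebraMap_eq]
  obtain ⟨U, hU, hqU, hUn⟩ := exists_open_fibLD_eq_of_quasiFinite R (Localization.Away g) n
    p.asIdeal hallC q₁' hunder
  have hemb := PrimeSpectrum.localization_away_isOpenEmbedding (Localization.Away g) g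
  refine ⟨PrimeSpectrum.comap (algebraMap S₁ (Localization.Away g)) '' U,
    hemb.isOpenMap U hU, ⟨q₁', hqU, hq₁'⟩, ?_⟩
  rintro _ ⟨y, hy, rfl⟩
  rw [← fibLD_away R S₁ g (Localization.Away g) y]
  exact hUn y hy

end LC

end Groth.Agent.Helper13FibDec
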