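import Mathlib
import Groth.Agent.Lib.Helper13FibDecJ

set_option autoImplicit false
set_option linter.style.haveILetI false
universe u

open TensorProduct PrimeSpectrum TopologicalSpace

namespace Groth.Agent.Helper13FibDec

open Groth.Agent.Lib.Helper3.FibCritA Groth.Agent.Lib.Helper3.FibCritD Groth.Agent.Lib.Helper4.FibDim

section LC

variable (R S : Type u) [CommRing R] [CommRing S] [Algebra R S]

set_option maxHeartbeats 1600000 in
/-- **Local constancy of the fibre dimension** for flat finitely presented algebras with CM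
fibres. -/
theorem exists_open_fibLD_eq [Module.Flat R S] [Algebra.FinitePresentation R S]
    (hCM : ∀ p : PrimeSpectrum R, LocCoh.IsCohenMacaulayRing (p.asIdeal.Fiber S))
    (q₀ : PrimeSpectrum S) :
    ∃ U : Set (PrimeSpectrum S), IsOpen U ∧ q₀ ∈ U ∧
      ∀ x ∈ U, fibLD (PrimeSpectrum.comap (algebraMap R S)) x =
        fibLD (PrimeSpectrum.comap (algebraMap R S)) q₀ := by
  haveI : Algebra.FiniteType R S := inferInstance
  obtain ⟨n, hn⟩ := exists_nat_fibLD R S q₀
  rw [hn]
  set p := PrimeSpectrum.comap (algebraMap R S) q₀ with hp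
  haveI := hCM p
  set Q₀ := PrimeSpectrum.preimageHomeomorphFiber R S p ⟨q₀, rfl⟩ with hQ₀
  have hQ₀q : PrimeSpectrum.comap Algebra.TensorProduct.includeRight.toRingHom Q₀ = q₀ :=
    comap_includeRight_preimageHomeomorphFiber p.asIdeal ⟨q₀, rfl⟩
  have hQ₀n : FlatMor.localDim (PrimeSpectrum (p.asIdeal.Fiber S)) Q₀ = (n : WithBot ℕ∞) := by
    rw [← hn, fibLD_comap_eq]
  haveI : Algebra.FiniteType p.asIdeal.ResidueField (p.asIdeal.Fiber S) := inferInstance
  have hW := isOpen_setOf_localDim_eq p.asIdeal.ResidueField (p.asIdeal.Fiber S) n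
  obtain ⟨g₁, hg₁Q, hg₁W⟩ := exists_basicOpen_one_tmul_le p.asIdeal ⟨_, hW⟩ Q₀ hQ₀n
  have hg₁q : g₁ ∉ q₀.asIdeal := by
    intro h
    apply hg₁Q
    rw [← hQ₀q] at h
    exact h
  -- the algebra `S₁ = S_{g₁}`
  haveI : Module.Flat R (Localization.Away g₁) := flat_of_away R S g₁ _
  haveI : Algebra.FinitePresentation R (Localization.Away g₁) :=
    finitePresentation_of_away R S g₁ _
  haveI hCM₁ : LocCoh.IsCohenMacaulayRing (p.asIdeal.Fiber (Localization.Away g₁)) :=
    cm_fiber_of_away R S g₁ _ p.asIdeal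
  have hrange := PrimeSpectrum.localization_away_comap_range (Localization.Away g₁) g₁
  have hmem : q₀ ∈ Set.range (PrimeSpectrum.comap (algebraMap S (Localization.Away g₁))) := by
    rw [hrange]; exact hg₁q
  obtain ⟨q₁, hq₁⟩ := hmem
  have hp₁ : PrimeSpectrum.comap (algebraMap R (Localization.Away g₁)) q₁ = p := by
    rw [hp, ← hq₁, ← PrimeSpectrum.comap_comp_apply, ← IsScalarTower.algebraMap_eq]
  have hall : ∀ Q' : PrimeSpectrum (p.asIdeal.Fiber (Localization.Away g₁)),
      FlatMor.localDim (PrimeSpectrum (p.asIdeal.Fiber (Localization.Away g₁))) Q' =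
        (n : WithBot ℕ∞) := by
    intro Q'
    rw [localDim_fiber_eq_fibLD, fibLD_away R S g₁]
    set x := PrimeSpectrum.comap (algebraMap S (Localization.Away g₁))
      (PrimeSpectrum.comap (Algebra.TensorProduct.includeRight (R := R)
        (A := p.asIdeal.ResidueField) (B := Localization.Away g₁)).toRingHom Q') with hx
    have hxp : PrimeSpectrum.comap (algebraMap R S) x = ⟨p.asIdeal, inferInstance⟩ := by
      rw [hx, ← PrimeSpectrum.comap_comp_apply, ← IsScalarTower.algebraMap_eq]
      exact comap_comap_includeRight R (Localization.Away g₁) p.asIdeal Q'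
    have hg₁x : g₁ ∉ x.asIdeal := by
      intro h
      have h1 : algebraMap S (Localization.Away g₁) g₁ ∈
        (PrimeSpectrum.comap (Algebra.TensorProduct.includeRight (R := R)
        (A := p.asIdeal.ResidueField) (B := Localization.Away g₁)).toRingHom Q').asIdeal := h
      have h2 : IsUnit (algebraMap S (Localization.Away g₁) g₁) :=
        IsLocalization.Away.algebraMap_isUnit g₁
      exact (Ideal.IsPrime.ne_top inferInstance) (Ideal.eq_top_of_isUnit_mem _ h1 h2)
    set Q'' := PrimeSpectrum.preimageHomeomorphFiber R S ⟨p.asIdeal, inferInstance⟩ ⟨x, hxp⟩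
      with hQ''
    have hQ''x : PrimeSpectrum.comap Algebra.TensorProduct.includeRight.toRingHom Q'' = x :=
      comap_includeRight_preimageHomeomorphFiber p.asIdeal ⟨x, hxp⟩
    have h3 := localDim_fiber_eq_fibLD R S p.asIdeal Q''
    rw [hQ''x] at h3
    rw [← h3]
    apply hg₁W
    change (1 ⊗ₜ[R] g₁ : p.asIdeal.Fiber S) ∉ Q''.asIdeal
    intro h
    apply hg₁x
    rw [← hQ''x]
    exact h
  obtain ⟨U, hU, hqU, hUn⟩ := exists_open_fibLD_eq_of_forall R (Localization.Away g₁) q₁ n p
    hp₁ hall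
  have hemb := PrimeSpectrum.localization_away_isOpenEmbedding (Localization.Away g₁) g₁
  refine ⟨PrimeSpectrum.comap (algebraMap S (Localization.Away g₁)) '' U,
    hemb.isOpenMap U hU, ⟨q₁, hqU, hq₁⟩, ?_⟩
  rintro _ ⟨y, hy, rfl⟩
  rw [← fibLD_away R S g₁ (Localization.Away g₁) y]
  exact hUn y hy

end LC

end Groth.Agent.Helper13FibDec
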