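import Mathlib
import Groth.Agent.Lib.Helper13FibDecK
import Groth.Agent.Lib.Helper13PiDecA

set_option autoImplicit false
set_option linter.style.haveILetI false
universe u

open TensorProduct PrimeSpectrum TopologicalSpace

namespace Groth.Agent.Helper13FibDec

open Groth.Agent.Lib.Helper4.FibDim Groth.Agent.Helper13PiDec

section Main

variable (R S : Type u) [CommRing R] [CommRing S] [Algebra R S]

/-- the fibre dimension is bounded on a finite type algebra. -/
theorem exists_fibLD_le [Algebra.FiniteType R S] :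
    ∃ N : ℕ, ∀ q : PrimeSpectrum S,
      fibLD (PrimeSpectrum.comap (algebraMap R S)) q ≤ (N : WithBot ℕ∞) := by
  have hopen : ∀ n : ℕ, IsOpen {q : PrimeSpectrum S |
      fibLD (PrimeSpectrum.comap (algebraMap R S)) q ≤ (n : WithBot ℕ∞)} :=
    fun n => isOpen_setOf_fibLD_comap_le R S n
  have hcover : (Set.univ : Set (PrimeSpectrum S)) ⊆ ⋃ n : ℕ, {q : PrimeSpectrum S |
      fibLD (PrimeSpectrum.comap (algebraMap R S)) q ≤ (n : WithBot ℕ∞)} := by
    intro q _
    obtain ⟨n, hn⟩ := exists_nat_fibLD R S q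
    exact Set.mem_iUnion.mpr ⟨n, le_of_eq hn⟩
  have hdir : Directed (· ⊆ ·) (fun n : ℕ => {q : PrimeSpectrum S |
      fibLD (PrimeSpectrum.comap (algebraMap R S)) q ≤ (n : WithBot ℕ∞)}) := by
    apply Monotone.directed_le
    intro a b hab q hq
    have hq' : fibLD (PrimeSpectrum.comap (algebraMap R S)) q ≤ (a : WithBot ℕ∞) := hq
    have hab' : (a : WithBot ℕ∞) ≤ (b : WithBot ℕ∞) := by exact_mod_cast hab
    exact le_trans hq' hab'
  obtain ⟨N, hN⟩ := isCompact_univ.elim_directed_cover _ hopen hcover hdir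
  exact ⟨N, fun q => hN (Set.mem_univ q)⟩

/-- properties of the piece cut out by an idempotent on which the fibre dimension is `d`. -/
theorem piece_props [Module.Flat R S] [Algebra.FinitePresentation R S]
    (hCM : ∀ p : PrimeSpectrum R, LocCoh.IsCohenMacaulayRing (p.asIdeal.Fiber S))
    (e : S) (he : IsIdempotentElem e) (d : ℕ)
    (hd : ∀ q : PrimeSpectrum S, e ∉ q.asIdeal →
      fibLD (PrimeSpectrum.comap (algebraMap R S)) q = (d : WithBot ℕ∞)) :
    Module.Flat R (S ⧸ Ideal.span {1 - e}) ∧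
      Algebra.FinitePresentation R (S ⧸ Ideal.span {1 - e}) ∧
      (∀ p : PrimeSpectrum R, LocCoh.IsCohenMacaulayRing
        (p.asIdeal.Fiber (S ⧸ Ideal.span {1 - e}))) ∧
      ∀ (p : PrimeSpectrum R), ∀ P ∈ minimalPrimes (p.asIdeal.Fiber (S ⧸ Ideal.span {1 - e})),
        ringKrullDim (p.asIdeal.Fiber (S ⧸ Ideal.span {1 - e}) ⧸ P) = (d : WithBot ℕ∞) := by
  haveI hloc : IsLocalization.Away e (S ⧸ Ideal.span {1 - e}) :=
    IsLocalization.Away.quotient_of_isIdempotentElem he
  have hCM' : ∀ p : PrimeSpectrum R, LocCoh.IsCohenMacaulayRing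
      (p.asIdeal.Fiber (S ⧸ Ideal.span {1 - e})) := by
    intro p
    haveI := hCM p
    exact cm_fiber_of_away R S e _ p.asIdeal
  haveI hFP : Algebra.FinitePresentation R (S ⧸ Ideal.span {1 - e}) :=
    finitePresentation_of_away R S e _
  refine ⟨flat_of_away R S e _, hFP, hCM', ?_⟩
  intro p P hP
  haveI := hCM' p
  haveI : P.IsPrime := hP.1.1
  haveI : Algebra.FiniteType R (S ⧸ Ideal.span {1 - e}) := inferInstance
  haveI : Algebra.FiniteType p.asIdeal.ResidueField (p.asIdeal.Fiber (S ⧸ Ideal.span {1 - e})) :=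
    inferInstance
  rw [← localDim_eq_of_minimalPrime_le p.asIdeal.ResidueField
    (p.asIdeal.Fiber (S ⧸ Ideal.span {1 - e})) P P hP le_rfl]
  rw [localDim_fiber_eq_fibLD R (S ⧸ Ideal.span {1 - e}) p.asIdeal ⟨P, inferInstance⟩,
    fibLD_away R S e]
  apply hd
  set y := PrimeSpectrum.comap (Algebra.TensorProduct.includeRight (R := R)
        (A := p.asIdeal.ResidueField) (B := S ⧸ Ideal.span {1 - e})).toRingHom ⟨P, inferInstance⟩
  intro h
  have h1 : algebraMap S (S ⧸ Ideal.span {1 - e}) e ∈ y.asIdeal := h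
  have h2 : IsUnit (algebraMap S (S ⧸ Ideal.span {1 - e}) e) :=
    IsLocalization.Away.algebraMap_isUnit e
  exact (Ideal.IsPrime.ne_top inferInstance) (Ideal.eq_top_of_isUnit_mem _ h1 h2)

end Main

end Groth.Agent.Helper13FibDec
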