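import Mathlib
import Groth.Agent.Lib.Helper13FibDecL

set_option autoImplicit false
set_option linter.style.haveILetI false
universe u

open TensorProduct PrimeSpectrum TopologicalSpace

namespace Groth.Agent.Helper13FibDec

open Groth.Agent.Lib.Helper4.FibDim Groth.Agent.Helper13PiDec

section Main

variable (R S : Type u) [CommRing R] [CommRing S] [Algebra R S]

theorem main [Module.Flat R S] [Algebra.FinitePresentation R S]
    (hCM : ∀ p : PrimeSpectrum R, LocCoh.IsCohenMacaulayRing (p.asIdeal.Fiber S)) :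
    ∃ (N : ℕ) (T : Fin (N + 1) → Type u) (_ : ∀ d, CommRing (T d)) (_ : ∀ d, Algebra R (T d)),
      Nonempty (S ≃ₐ[R] ((d : Fin (N + 1)) → T d)) ∧
        ∀ d : Fin (N + 1), Module.Flat R (T d) ∧ Algebra.FinitePresentation R (T d) ∧
          (∀ p : PrimeSpectrum R, LocCoh.IsCohenMacaulayRing (p.asIdeal.Fiber (T d))) ∧
          ∀ (p : PrimeSpectrum R), ∀ P ∈ minimalPrimes (p.asIdeal.Fiber (T d)),
            ringKrullDim (p.asIdeal.Fiber (T d) ⧸ P) = ((d : ℕ) : WithBot ℕ∞) := by
  classical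
  haveI : Algebra.FiniteType R S := inferInstance
  obtain ⟨N, hN⟩ := exists_fibLD_le R S
  let δ : PrimeSpectrum S → WithBot ℕ∞ := fibLD (PrimeSpectrum.comap (algebraMap R S))
  let Z : Fin (N + 1) → Set (PrimeSpectrum S) := fun d => {q | δ q = ((d : ℕ) : WithBot ℕ∞)}
  have hZclopen : ∀ d, IsClopen (Z d) := by
    intro d
    constructor
    · rw [← isOpen_compl_iff, isOpen_iff_forall_mem_open]
      intro q₀ hq₀
      obtain ⟨U, hU, hqU, hUn⟩ := exists_open_fibLD_eq R S hCM q₀
      refine ⟨U, ?_, hU, hqU⟩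
      intro x hx hxd
      apply hq₀
      change δ q₀ = _
      rw [show δ q₀ = δ x from (hUn x hx).symm]
      exact hxd
    · rw [isOpen_iff_forall_mem_open]
      intro q₀ hq₀
      obtain ⟨U, hU, hqU, hUn⟩ := exists_open_fibLD_eq R S hCM q₀
      refine ⟨U, ?_, hU, hqU⟩
      intro x hx
      change δ x = _
      rw [show δ x = δ q₀ from hUn x hx]
      exact hq₀
  have hcov : ∀ x : PrimeSpectrum S, ∃ d, x ∈ Z d := by
    intro x
    obtain ⟨m, hm⟩ := exists_nat_fibLD R S x
    have hmN : m ≤ N := by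
      have h1 := hN x
      rw [hm] at h1
      exact_mod_cast h1
    exact ⟨⟨m, Nat.lt_succ_of_le hmN⟩, hm⟩
  have hdisj : ∀ i j, i ≠ j → Z i ∩ Z j = ∅ := by
    intro i j hij
    ext x
    simp only [Set.mem_inter_iff, Set.mem_empty_iff_false, iff_false, not_and]
    intro hi hj
    apply hij
    have hi' : δ x = ((i : ℕ) : WithBot ℕ∞) := hi
    have hj' : δ x = ((j : ℕ) : WithBot ℕ∞) := hj
    rw [hi'] at hj'
    apply Fin.ext
    exact_mod_cast hj'
  obtain ⟨e, he, heZ⟩ := exists_completeOrthogonalIdempotents Z hZclopen hdisj hcov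
  refine ⟨N, fun d => S ⧸ Ideal.span {1 - e d}, fun d => inferInstance, fun d => inferInstance,
    ⟨AlgEquiv.ofBijective (Pi.algHom R (fun d => S ⧸ Ideal.span {1 - e d})
      (fun d => Ideal.Quotient.mkₐ R (Ideal.span {1 - e d}))) he.bijective_pi⟩, ?_⟩
  intro d
  apply piece_props R S hCM (e d) (he.idem d) (d : ℕ)
  intro q hq
  have hqZ : q ∈ Z d := by
    rw [heZ d]
    exact hq
  exact hqZ

end Main

end Groth.Agent.Helper13FibDec
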