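import Mathlib

/-!
# The kernel of a surjection between flat modules is flat (helper5)
-/

set_option autoImplicit false
universe u v w x

namespace Groth.Agent.Lib.Helper5

open TensorProduct LinearMap

/-- In a short exact sequence `0 → M → N → P → 0` with `N` and `P` flat, `M` is flat. -/
theorem flat_of_exact_of_flat_of_flat {A : Type u} [CommRing A] {M : Type v} {N : Type w}
    {P : Type x} [AddCommGroup M] [Module A M] [AddCommGroup N] [Module A N] [AddCommGroup P]
    [Module A P] [Module.Flat A N] [Module.Flat A P] (f : M →ₗ[A] N) (g : N →ₗ[A] P)
    (hf : Function.Injective f) (hg : Function.Surjective g) (hfg : Function.Exact f g) :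
    Module.Flat A M := by
  rw [Module.Flat.iff_lTensor_injective']
  intro I
  rw [injective_iff_map_eq_zero]
  intro x hx
  have h1 : Function.Injective (f.rTensor I) :=
    (LinearMap.lTensor_inj_iff_rTensor_inj _ _).mp
      (LinearMap.lTensor_injective_of_exact_of_flat g hg f hf hfg I)
  apply h1
  rw [map_zero]
  apply Module.Flat.lTensor_preserves_injective_linearMap (M := N) I.subtype
    I.injective_subtype
  rw [map_zero, ← LinearMap.comp_apply, LinearMap.lTensor_comp_rTensor,
    ← LinearMap.rTensor_comp_lTensor, LinearMap.comp_apply, hx, map_zero]

end Groth.Agent.Lib.Helper5
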