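import Mathlib
import Groth.Agent.Lib.Helper5NilFree

/-!
# Lifting properties of linear maps modulo a nilpotent ideal (helper5)
-/

set_option autoImplicit false
universe u v w
open scoped Pointwise

namespace Groth.Agent.Lib.Helper5

open TensorProduct LinearMap

section

variable {A : Type u} [CommRing A] {P : Type v} {P' : Type w} [AddCommGroup P] [Module A P]
  [AddCommGroup P'] [Module A P']

/-- `1 ⊗ y = 0` in `(A/I) ⊗ P` means `y ∈ I P`. -/
theorem mem_smul_top_of_one_tmul_eq_zero (I : Ideal A) (y : P)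
    (h : (1 : A ⧸ I) ⊗ₜ[A] y = 0) : y ∈ I • (⊤ : Submodule A P) := by
  have h3 := (TensorProduct.quotTensorEquivQuotSMul P I).map_eq_zero_iff.mpr h
  rw [TensorProduct.quotTensorEquivQuotSMul_mk_one_tmul, Submodule.Quotient.mk_eq_zero] at h3
  exact h3

/-- Every element of `(A/I) ⊗ P` is of the form `1 ⊗ x`. -/
theorem exists_one_tmul_eq (I : Ideal A) (t : (A ⧸ I) ⊗[A] P) :
    ∃ x : P, (1 : A ⧸ I) ⊗ₜ[A] x = t := by
  induction t with
  | zero => exact ⟨0, tmul_zero _ _⟩
  | add a b ha hb =>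
    obtain ⟨x, rfl⟩ := ha
    obtain ⟨y, rfl⟩ := hb
    exact ⟨x + y, tmul_add _ _ _⟩
  | tmul c x =>
    obtain ⟨r, rfl⟩ := Ideal.Quotient.mk_surjective c
    refine ⟨r • x, ?_⟩
    rw [tmul_smul, smul_tmul', ← Ideal.Quotient.algebraMap_eq, Algebra.smul_def, mul_one]

/-- Nakayama for a nilpotent ideal: surjectivity modulo `I` implies surjectivity. -/
theorem surjective_of_lTensor_quotient_surjective_of_isNilpotent {I : Ideal A}
    (hI : IsNilpotent I) (φ : P →ₗ[A] P')
    (h : Function.Surjective (φ.lTensor (A ⧸ I))) : Function.Surjective φ := by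
  rw [← LinearMap.range_eq_top]
  apply eq_top_of_sup_smul_top_eq_top_of_isNilpotent hI
  rw [eq_top_iff]
  intro y _
  obtain ⟨t, ht⟩ := h ((1 : A ⧸ I) ⊗ₜ[A] y)
  obtain ⟨x, rfl⟩ := exists_one_tmul_eq I t
  rw [LinearMap.lTensor_tmul] at ht
  have h0 : (1 : A ⧸ I) ⊗ₜ[A] (y - φ x) = 0 := by
    rw [tmul_sub, ht, sub_self]
  have hmem := mem_smul_top_of_one_tmul_eq_zero I _ h0
  have : y = φ x + (y - φ x) := by abel
  rw [this]
  exact Submodule.add_mem_sup ⟨x, rfl⟩ hmem

/-- For a surjection onto a flat module, injectivity modulo a nilpotent ideal implies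
injectivity. -/
theorem injective_of_lTensor_quotient_injective_of_isNilpotent {I : Ideal A}
    (hI : IsNilpotent I) [Module.Flat A P'] (φ : P →ₗ[A] P') (hφ : Function.Surjective φ)
    (h : Function.Injective (φ.lTensor (A ⧸ I))) : Function.Injective φ := by
  have hex : Function.Exact (LinearMap.ker φ).subtype φ := LinearMap.exact_subtype_ker_map φ
  have hinj : Function.Injective ((LinearMap.ker φ).subtype.lTensor (A ⧸ I)) :=
    LinearMap.lTensor_injective_of_exact_of_flat φ hφ _ (Submodule.injective_subtype _) hex _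
  have hK : (⊤ : Submodule A (LinearMap.ker φ)) ≤ I • ⊤ := by
    intro k _
    apply mem_smul_top_of_one_tmul_eq_zero I
    apply hinj
    apply h
    rw [map_zero, map_zero, LinearMap.lTensor_tmul, LinearMap.lTensor_tmul,
      Submodule.subtype_apply, k.2, tmul_zero]
  have hbot := eq_bot_of_le_smul_of_isNilpotent hI hK
  rw [← LinearMap.ker_eq_bot, eq_bot_iff]
  intro x hx
  have h1 : (⟨x, hx⟩ : LinearMap.ker φ) ∈ (⊤ : Submodule A (LinearMap.ker φ)) := trivial
  rw [hbot, Submodule.mem_bot] at h1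
  rw [Submodule.mem_bot]
  exact congrArg Subtype.val h1

/-- A projective module and a flat module which are isomorphic modulo a nilpotent ideal are
isomorphic. -/
theorem nonempty_linearEquiv_of_quotient_linearEquiv_of_isNilpotent {I : Ideal A}
    (hI : IsNilpotent I) [Module.Projective A P] [Module.Flat A P']
    (e : (A ⧸ I) ⊗[A] P ≃ₗ[A ⧸ I] (A ⧸ I) ⊗[A] P') : Nonempty (P ≃ₗ[A] P') := by
  -- lift `e` to `φ : P → P'`
  let q' : P' →ₗ[A] (A ⧸ I) ⊗[A] P' := TensorProduct.mk A (A ⧸ I) P' 1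
  have hq' : Function.Surjective q' := fun t => exists_one_tmul_eq I t
  let ψ : P →ₗ[A] (A ⧸ I) ⊗[A] P' :=
    (e.toLinearMap.restrictScalars A) ∘ₗ (TensorProduct.mk A (A ⧸ I) P 1)
  obtain ⟨φ, hφ⟩ := Module.projective_lifting_property q' ψ hq'
  have hφ' : ∀ x, (1 : A ⧸ I) ⊗ₜ[A] φ x = e ((1 : A ⧸ I) ⊗ₜ[A] x) := fun x =>
    LinearMap.congr_fun hφ x
  have hcomp : ∀ t, φ.lTensor (A ⧸ I) t = e t := by
    intro t
    obtain ⟨x, rfl⟩ := exists_one_tmul_eq I t
    rw [LinearMap.lTensor_tmul, hφ']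
  have hsurj : Function.Surjective φ := by
    apply surjective_of_lTensor_quotient_surjective_of_isNilpotent hI
    intro t
    obtain ⟨s, rfl⟩ := e.surjective t
    exact ⟨s, hcomp s⟩
  have hinj : Function.Injective φ := by
    apply injective_of_lTensor_quotient_injective_of_isNilpotent hI φ hsurj
    intro s t hst
    rw [hcomp, hcomp] at hst
    exact e.injective hst
  exact ⟨LinearEquiv.ofBijective φ ⟨hinj, hsurj⟩⟩

end

end Groth.Agent.Lib.Helper5
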