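import Mathlib
import Groth.Agent.Lib.Helper5NilLift
import Groth.Agent.Lib.Helper5FlatKer
import Groth.Agent.Lib.Helper5LocalFlat2

/-!
# Flatness and exactness of complexes of flat modules over an Artinian local ring (helper5)

If the reduction modulo the maximal ideal of a left bounded complex with flat terms is exact,
then the complex is exact and its outer kernel and cokernel are flat.
-/

set_option autoImplicit false
universe u v w x
open scoped TensorProduct

namespace Groth.Agent.Lib.Helper5

section Base

variable {A : Type u} [CommRing A] [IsLocalRing A]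
  {P : Type v} {Q : Type w} {R : Type x} [AddCommGroup P] [Module A P] [AddCommGroup Q]
  [Module A Q] [AddCommGroup R] [Module A R]

/-- Top step: over a local ring with nilpotent maximal ideal, for a complex `P → Q → R` with `R`
flat whose reduction is exact in the middle, the cokernel and the image of `Q → R` are flat, and
the image stays a submodule after reduction. -/
theorem flat_coker_of_lTensor_residue_exact (n : ℕ) (hn : IsLocalRing.maximalIdeal A ^ n = ⊥)
    [Module.Flat A R] (f : P →ₗ[A] Q) (g : Q →ₗ[A] R) (hgf : ∀ p, g (f p) = 0)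
    (hred : Function.Exact (f.lTensor (A ⧸ IsLocalRing.maximalIdeal A))
      (g.lTensor (A ⧸ IsLocalRing.maximalIdeal A))) :
    Module.Flat A (R ⧸ LinearMap.range g) ∧ Module.Flat A (LinearMap.range g) ∧
      Function.Injective
        ((LinearMap.range g).subtype.lTensor (A ⧸ IsLocalRing.maximalIdeal A)) := by
  have hg' : Function.Surjective g.rangeRestrict := g.surjective_rangeRestrict
  have hexZ : Function.Exact (LinearMap.range g).subtype (LinearMap.range g).mkQ :=
    LinearMap.exact_subtype_mkQ _
  have hkZ : Function.Injective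
      ((LinearMap.range g).subtype.lTensor (A ⧸ IsLocalRing.maximalIdeal A)) := by
    rw [injective_iff_map_eq_zero]
    intro z hz
    obtain ⟨q, rfl⟩ := LinearMap.lTensor_surjective (A ⧸ IsLocalRing.maximalIdeal A) hg' z
    have h1 : g.lTensor (A ⧸ IsLocalRing.maximalIdeal A) q = 0 := by
      rw [← hz, ← LinearMap.comp_apply, ← LinearMap.lTensor_comp]
      rfl
    obtain ⟨p, rfl⟩ := (hred q).mp h1
    rw [← LinearMap.comp_apply, ← LinearMap.lTensor_comp]
    have h0 : g.rangeRestrict ∘ₗ f = 0 := by
      ext p
      exact hgf p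
    rw [h0, LinearMap.lTensor_zero, LinearMap.zero_apply]
  have hM : Module.Flat A (R ⧸ LinearMap.range g) := by
    refine flat_of_exact_of_lTensor_quotient_injective
      (LinearMap.range g).subtype (LinearMap.range g).mkQ
      (Submodule.mkQ_surjective (LinearMap.range g)) hexZ ?_
    intro I
    apply lTensor_injective_of_pow_smul_top_eq_bot _ hkZ n
    rw [hn, Submodule.bot_smul]
  refine ⟨hM, ?_, hkZ⟩
  exact flat_of_exact_of_flat_of_flat (M := LinearMap.range g) (LinearMap.range g).subtype
    (LinearMap.range g).mkQ (Submodule.injective_subtype _)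
    (Submodule.mkQ_surjective (LinearMap.range g)) hexZ

end Base

section Step

variable {A : Type u} [CommRing A] {I : Ideal A}
  {P : Type v} {Q : Type w} {R : Type x} [AddCommGroup P] [Module A P] [AddCommGroup Q]
  [Module A Q] [AddCommGroup R] [Module A R]

/-- Inductive step: for a complex `P → Q → R` with `Q` flat and the image `Z` of `Q → R` flat,
exactness of the reduction in the middle yields exactness in the middle,
flatness of the kernel `K` of `Q → R` and injectivity of `K/IK → Q/IQ`. -/
theorem exact_of_lTensor_quotient_exact_of_isNilpotent (hI : IsNilpotent I)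
    [Module.Flat A Q] (f : P →ₗ[A] Q) (g : Q →ₗ[A] R) (hgf : ∀ p, g (f p) = 0)
    (hZ : Module.Flat A (LinearMap.range g))
    (hred : Function.Exact (f.lTensor (A ⧸ I)) (g.lTensor (A ⧸ I))) :
    LinearMap.range f = LinearMap.ker g ∧ Module.Flat A (LinearMap.ker g) ∧
      Function.Injective ((LinearMap.ker g).subtype.lTensor (A ⧸ I)) := by
  have hg' : Function.Surjective g.rangeRestrict := g.surjective_rangeRestrict
  have hexK : Function.Exact (LinearMap.ker g).subtype g.rangeRestrict := by
    intro q
    constructor
    · intro hq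
      have : g q = 0 := congrArg Subtype.val hq
      exact ⟨⟨q, this⟩, rfl⟩
    · rintro ⟨⟨q', hq'⟩, rfl⟩
      exact Subtype.ext hq'
  have hkK : Function.Injective ((LinearMap.ker g).subtype.lTensor (A ⧸ I)) :=
    LinearMap.lTensor_injective_of_exact_of_flat g.rangeRestrict hg' _
      (Submodule.injective_subtype _) hexK _
  have hK : Module.Flat A (LinearMap.ker g) :=
    flat_of_exact_of_flat_of_flat (M := LinearMap.ker g) (LinearMap.ker g).subtype
      g.rangeRestrict (Submodule.injective_subtype _) hg' hexK
  refine ⟨?_, hK, hkK⟩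
  obtain ⟨f', hf'def⟩ : ∃ f' : P →ₗ[A] LinearMap.ker g, ∀ p, (f' p : Q) = f p :=
    ⟨f.codRestrict (LinearMap.ker g) hgf, fun p => rfl⟩
  have hf' : Function.Surjective f' := by
    apply surjective_of_lTensor_quotient_surjective_of_isNilpotent hI
    intro κ
    have h1 : g.lTensor (A ⧸ I) ((LinearMap.ker g).subtype.lTensor (A ⧸ I) κ) = 0 := by
      rw [← LinearMap.comp_apply, ← LinearMap.lTensor_comp]
      have h0 : g ∘ₗ (LinearMap.ker g).subtype = 0 := by
        ext q
        exact q.2
      rw [h0, LinearMap.lTensor_zero, LinearMap.zero_apply]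
    obtain ⟨p, hp⟩ := (hred _).mp h1
    refine ⟨p, hkK ?_⟩
    rw [← LinearMap.comp_apply, ← LinearMap.lTensor_comp]
    have h2 : (LinearMap.ker g).subtype ∘ₗ f' = f := by
      ext p
      exact hf'def p
    rw [h2]
    exact hp
  apply le_antisymm
  · rintro _ ⟨p, rfl⟩
    exact hgf p
  · intro q hq
    obtain ⟨p, hp⟩ := hf' ⟨q, hq⟩
    refine ⟨p, ?_⟩
    rw [← hf'def, hp]

/-- Final step: a module mapping onto a flat module, injectively after reduction modulo a
nilpotent ideal, is flat. -/
theorem flat_of_flat_range_of_lTensor_quotient_injective (hI : IsNilpotent I)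
    (g : P →ₗ[A] Q) (hZ : Module.Flat A (LinearMap.range g))
    (hk : Function.Injective (g.lTensor (A ⧸ I))) : Module.Flat A P := by
  have hg' : Function.Surjective g.rangeRestrict := g.surjective_rangeRestrict
  have hinj : Function.Injective g.rangeRestrict := by
    apply injective_of_lTensor_quotient_injective_of_isNilpotent hI g.rangeRestrict hg'
    intro s t hst
    apply hk
    have h2 : (LinearMap.range g).subtype ∘ₗ g.rangeRestrict = g := by
      ext p
      rfl
    rw [← h2, LinearMap.lTensor_comp, LinearMap.comp_apply, LinearMap.comp_apply, hst]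
  exact Module.Flat.of_linearEquiv (LinearEquiv.ofBijective g.rangeRestrict ⟨hinj, hg'⟩)

end Step

section Sequence

variable {A : Type u} [CommRing A] [IsLocalRing A]

/-- Sequence version: a complex `X 0 → X 1 → ⋯ → X (n+1)` over a local ring with nilpotent
maximal ideal, with `X 1, …, X (n+1)` flat, whose reduction is exact at the places `0, …, n`,
has `X 0` flat and flat outer cokernel. -/
theorem flat_of_lTensor_residue_exact_sequence (m : ℕ)
    (hm : IsLocalRing.maximalIdeal A ^ m = ⊥)
    (X : ℕ → Type v) [∀ i, AddCommGroup (X i)] [∀ i, Module A (X i)]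
    (d : ∀ i, X i →ₗ[A] X (i + 1)) (hd : ∀ i x, d (i + 1) (d i x) = 0)
    (n : ℕ) (hn : 0 < n) (hflat : ∀ i, i ≤ n → Module.Flat A (X (i + 1)))
    (hred0 : Function.Injective ((d 0).lTensor (A ⧸ IsLocalRing.maximalIdeal A)))
    (hred : ∀ j, j < n → Function.Exact ((d j).lTensor (A ⧸ IsLocalRing.maximalIdeal A))
      ((d (j + 1)).lTensor (A ⧸ IsLocalRing.maximalIdeal A))) :
    Module.Flat A (X 0) ∧ Module.Flat A (X (n + 1) ⧸ LinearMap.range (d n)) := by
  have hnil : IsNilpotent (IsLocalRing.maximalIdeal A) := ⟨m, hm⟩
  obtain ⟨n, rfl⟩ : ∃ k, n = k + 1 := ⟨n - 1, by omega⟩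
  have hFn : Module.Flat A (X (n + 1 + 1)) := hflat (n + 1) le_rfl
  obtain ⟨hcoker, hZ, hkZ⟩ := flat_coker_of_lTensor_residue_exact m hm (d n) (d (n + 1))
    (hd n) (hred n (by omega))
  refine ⟨?_, hcoker⟩
  -- descending induction
  have key : ∀ j, j ≤ n + 1 → Module.Flat A (LinearMap.range (d j)) ∧
      Function.Injective ((LinearMap.range (d j)).subtype.lTensor
        (A ⧸ IsLocalRing.maximalIdeal A)) := by
    intro j hj
    obtain ⟨k, rfl⟩ : ∃ k, j = n + 1 - k := ⟨n + 1 - j, by omega⟩
    clear hj
    induction k with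
    | zero => exact ⟨hZ, hkZ⟩
    | succ k ih =>
      by_cases hk : n + 1 ≤ k
      · have : n + 1 - (k + 1) = n + 1 - k := by omega
        rw [this]
        exact ih
      · obtain ⟨j, hj⟩ : ∃ j, n + 1 - k = j + 1 := ⟨n - k, by omega⟩
        have hj' : n + 1 - (k + 1) = j := by omega
        rw [hj] at ih
        rw [hj']
        have hFj : Module.Flat A (X (j + 1)) := hflat j (by omega)
        obtain ⟨h1, h2, h3⟩ := exact_of_lTensor_quotient_exact_of_isNilpotent hnil (d j)
          (d (j + 1)) (hd j) ih.1 (hred j (by omega))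
        rw [h1]
        exact ⟨h2, h3⟩
  obtain ⟨h1, h2⟩ := key 0 (by omega)
  exact flat_of_flat_range_of_lTensor_quotient_injective hnil (d 0) h1 hred0

end Sequence

end Groth.Agent.Lib.Helper5
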