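import Mathlib
import Groth.Agent.Lib.Helper5ArtComplex
import Groth.Agent.Lib.Helper5NilFlat

/-!
# Complexes of flat modules and nilpotent ideals (helper5)

A complex `P → Q → R` of modules with `Q`, `R` flat whose reduction modulo a nilpotent ideal `I`
is left exact with cokernel flat over `A/I` is itself left exact with flat cokernel.
-/

set_option autoImplicit false
universe u v w x y
open scoped TensorProduct

namespace Groth.Agent.Lib.Helper5

section Single

variable {R : Type u} [CommRing R] {N : Type v} {M : Type w} [AddCommGroup N] [Module R N]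
  [AddCommGroup M] [Module R M] (u : N →ₗ[R] M)

/-- Single ideal version of `flat_of_exact_of_lTensor_quotient_injective`: if `M` is flat,
`N →u M →π C → 0` is exact and `u ⊗ R/I` is injective, then `I ⊗ C → C` is injective. -/
theorem rTensor_subtype_injective_of_exact_of_lTensor_quotient_injective [Module.Flat R M]
    {C : Type x} [AddCommGroup C] [Module R C] (π : M →ₗ[R] C) (hπ : Function.Surjective π)
    (hex : Function.Exact u π) (I : Ideal R)
    (h : Function.Injective (u.lTensor (R ⧸ I))) :
    Function.Injective (I.subtype.rTensor C) := by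
  rw [injective_iff_map_eq_zero]
  intro w hw
  obtain ⟨w1, rfl⟩ := LinearMap.lTensor_surjective I hπ w
  have hv : π.lTensor R (I.subtype.rTensor M w1) = 0 := by
    rw [← hw, ← LinearMap.comp_apply, ← LinearMap.comp_apply, LinearMap.lTensor_comp_rTensor,
      LinearMap.rTensor_comp_lTensor]
  obtain ⟨v', hv'⟩ := (lTensor_exact R hex hπ _).mp hv
  have hq : (Submodule.mkQ I).rTensor N v' = 0 := by
    apply h
    rw [map_zero, ← LinearMap.comp_apply, LinearMap.lTensor_comp_rTensor,
      ← LinearMap.rTensor_comp_lTensor, LinearMap.comp_apply, hv', ← LinearMap.comp_apply,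
      ← LinearMap.rTensor_comp]
    have : Submodule.mkQ I ∘ₗ I.subtype = 0 := by
      ext x
      exact Ideal.Quotient.eq_zero_iff_mem.mpr x.2
    rw [this, LinearMap.rTensor_zero, LinearMap.zero_apply]
  obtain ⟨w2, hw2⟩ := (rTensor_exact N (LinearMap.exact_subtype_mkQ I)
    (Submodule.mkQ_surjective I) v').mp hq
  have hw12 : w1 = u.lTensor I w2 := by
    apply Module.Flat.rTensor_preserves_injective_linearMap (M := M) I.subtype
      I.injective_subtype
    rw [← LinearMap.comp_apply (I.subtype.rTensor M) (u.lTensor I),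
      LinearMap.rTensor_comp_lTensor, ← LinearMap.lTensor_comp_rTensor, LinearMap.comp_apply,
      hw2, hv']
  rw [hw12, ← LinearMap.comp_apply, ← LinearMap.lTensor_comp]
  have : π ∘ₗ u = 0 := hex.linearMap_comp_eq_zero
  rw [this, LinearMap.lTensor_zero, LinearMap.zero_apply]

end Single

section Nil

variable {A : Type u} [CommRing A] {I : Ideal A}
  {P : Type v} {Q : Type w} {R : Type x} [AddCommGroup P] [Module A P] [AddCommGroup Q]
  [Module A Q] [AddCommGroup R] [Module A R]

/-- Elementwise criterion for exactness modulo an ideal. -/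
theorem exact_lTensor_quotient_of_forall (f : P →ₗ[A] Q) (g : Q →ₗ[A] R)
    (hgf : ∀ p, g (f p) = 0)
    (h : ∀ q : Q, g q ∈ (I • ⊤ : Submodule A R) → ∃ p : P, q - f p ∈ (I • ⊤ : Submodule A Q)) :
    Function.Exact (f.lTensor (A ⧸ I)) (g.lTensor (A ⧸ I)) := by
  intro z
  constructor
  · intro hz
    obtain ⟨q, rfl⟩ := exists_one_tmul_eq I z
    rw [LinearMap.lTensor_tmul] at hz
    have h1 := mem_smul_top_of_one_tmul_eq_zero I _ hz
    obtain ⟨p, hp⟩ := h q h1
    refine ⟨(1 : A ⧸ I) ⊗ₜ[A] p, ?_⟩
    rw [LinearMap.lTensor_tmul]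
    have h2 : (1 : A ⧸ I) ⊗ₜ[A] (q - f p) = 0 := by
      have h3 : q - f p ∈ LinearMap.ker (TensorProduct.mk A (A ⧸ I) Q 1) := by
        rw [LinearMap.ker_tensorProductMk]
        exact hp
      exact h3
    rw [TensorProduct.tmul_sub, sub_eq_zero] at h2
    exact h2.symm
  · rintro ⟨y, rfl⟩
    rw [← LinearMap.comp_apply, ← LinearMap.lTensor_comp]
    have : g ∘ₗ f = 0 := by
      ext p
      exact hgf p
    rw [this, LinearMap.lTensor_zero, LinearMap.zero_apply]

/-- Top step, nilpotent version: for a complex `P → Q → R` with `R` flat whose reduction modulo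
a nilpotent ideal `I` is exact in the middle and such that the reduction of the cokernel of
`Q → R` is flat over `A/I`, the cokernel and the image of `Q → R` are flat. -/
theorem flat_coker_of_lTensor_quotient_exact_of_isNilpotent (hI : IsNilpotent I)
    [Module.Flat A R] (f : P →ₗ[A] Q) (g : Q →ₗ[A] R) (hgf : ∀ p, g (f p) = 0)
    (hred : Function.Exact (f.lTensor (A ⧸ I)) (g.lTensor (A ⧸ I)))
    (hfl : Module.Flat (A ⧸ I) ((A ⧸ I) ⊗[A] (R ⧸ LinearMap.range g))) :
    Module.Flat A (R ⧸ LinearMap.range g) ∧ Module.Flat A (LinearMap.range g) := by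
  have hg' : Function.Surjective g.rangeRestrict := g.surjective_rangeRestrict
  have hexZ : Function.Exact (LinearMap.range g).subtype (LinearMap.range g).mkQ :=
    LinearMap.exact_subtype_mkQ _
  have hkZ : Function.Injective ((LinearMap.range g).subtype.lTensor (A ⧸ I)) := by
    rw [injective_iff_map_eq_zero]
    intro z hz
    obtain ⟨q, rfl⟩ := LinearMap.lTensor_surjective (A ⧸ I) hg' z
    have h1 : g.lTensor (A ⧸ I) q = 0 := by
      rw [← hz, ← LinearMap.comp_apply, ← LinearMap.lTensor_comp]
      rfl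
    obtain ⟨p, rfl⟩ := (hred q).mp h1
    rw [← LinearMap.comp_apply, ← LinearMap.lTensor_comp]
    have h0 : g.rangeRestrict ∘ₗ f = 0 := by
      ext p
      exact hgf p
    rw [h0, LinearMap.lTensor_zero, LinearMap.zero_apply]
  have hM : Module.Flat A (R ⧸ LinearMap.range g) := by
    refine flat_of_isNilpotent I hI ?_ hfl
    rw [LinearMap.lTensor_inj_iff_rTensor_inj]
    exact rTensor_subtype_injective_of_exact_of_lTensor_quotient_injective
      (LinearMap.range g).subtype (LinearMap.range g).mkQ
      (Submodule.mkQ_surjective (LinearMap.range g)) hexZ I hkZ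
  refine ⟨hM, ?_⟩
  exact flat_of_exact_of_flat_of_flat (M := LinearMap.range g) (LinearMap.range g).subtype
    (LinearMap.range g).mkQ (Submodule.injective_subtype _)
    (Submodule.mkQ_surjective (LinearMap.range g)) hexZ

/-- Three term complex `0 → P → Q → R`: left exactness and flatness of the cokernel lift from
the reduction modulo a nilpotent ideal. -/
theorem injective_and_exact_and_flat_of_lTensor_quotient_of_isNilpotent (hI : IsNilpotent I)
    [Module.Flat A Q] [Module.Flat A R] (f : P →ₗ[A] Q) (g : Q →ₗ[A] R)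
    (hgf : ∀ p, g (f p) = 0)
    (h0 : Function.Injective (f.lTensor (A ⧸ I)))
    (hred : Function.Exact (f.lTensor (A ⧸ I)) (g.lTensor (A ⧸ I)))
    (hfl : Module.Flat (A ⧸ I) ((A ⧸ I) ⊗[A] (R ⧸ LinearMap.range g))) :
    Function.Injective f ∧ LinearMap.range f = LinearMap.ker g ∧
      Module.Flat A (R ⧸ LinearMap.range g) := by
  obtain ⟨hM, hZ⟩ := flat_coker_of_lTensor_quotient_exact_of_isNilpotent hI f g hgf hred hfl
  obtain ⟨h1, h2, -⟩ := exact_of_lTensor_quotient_exact_of_isNilpotent hI f g hgf hZ hred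
  refine ⟨?_, h1, hM⟩
  have hK : Module.Flat A (LinearMap.range f) := by
    rw [h1]
    exact h2
  have hf' : Function.Surjective f.rangeRestrict := f.surjective_rangeRestrict
  have hinj : Function.Injective f.rangeRestrict := by
    apply injective_of_lTensor_quotient_injective_of_isNilpotent hI f.rangeRestrict hf'
    intro s t hst
    apply h0
    have h3 : (LinearMap.range f).subtype ∘ₗ f.rangeRestrict = f := by
      ext p
      rfl
    rw [← h3, LinearMap.lTensor_comp, LinearMap.comp_apply, LinearMap.comp_apply, hst]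
  intro a b hab
  apply hinj
  exact Subtype.ext hab

/-- Any model of the reduction of the cokernel may be used to test its flatness. -/
theorem flat_quotient_tensor_of_surjective_of_ker_eq (g : Q →ₗ[A] R)
    {X : Type y} [AddCommGroup X] [Module A X] [Module (A ⧸ I) X] [IsScalarTower A (A ⧸ I) X]
    (ρ : R →ₗ[A] X) (hρ : Function.Surjective ρ)
    (hker : LinearMap.ker ρ = LinearMap.range g ⊔ I • ⊤) (hX : Module.Flat (A ⧸ I) X) :
    Module.Flat (A ⧸ I) ((A ⧸ I) ⊗[A] (R ⧸ LinearMap.range g)) := by
  have hle : LinearMap.range g ≤ LinearMap.ker ρ := by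
    rw [hker]
    exact le_sup_left
  obtain ⟨ρ', hρ'⟩ : ∃ ρ' : (R ⧸ LinearMap.range g) →ₗ[A] X,
      ∀ x, ρ' (Submodule.Quotient.mk x) = ρ x :=
    ⟨(LinearMap.range g).liftQ ρ hle, fun x => rfl⟩
  have hρ's : Function.Surjective ρ' := by
    intro y
    obtain ⟨x, rfl⟩ := hρ y
    exact ⟨Submodule.Quotient.mk x, hρ' x⟩
  have hker' : LinearMap.ker ρ' = (I • ⊤ : Submodule A (R ⧸ LinearMap.range g)) := by
    ext z
    obtain ⟨x, rfl⟩ := Submodule.Quotient.mk_surjective _ z
    rw [LinearMap.mem_ker, hρ', ← LinearMap.mem_ker, hker]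
    have h1 : (I • ⊤ : Submodule A (R ⧸ LinearMap.range g)) =
        (I • ⊤ : Submodule A R).map (LinearMap.range g).mkQ := by
      rw [Submodule.map_smul'', Submodule.map_top, Submodule.range_mkQ]
    rw [h1]
    constructor
    · intro hx
      obtain ⟨a, ha, b, hb, rfl⟩ := Submodule.mem_sup.mp hx
      refine ⟨b, hb, ?_⟩
      show Submodule.Quotient.mk b = Submodule.Quotient.mk (a + b)
      rw [Submodule.Quotient.mk_add, (Submodule.Quotient.mk_eq_zero _).mpr ha, zero_add]
    · rintro ⟨b, hb, hbx⟩
      have hbx : Submodule.Quotient.mk (p := LinearMap.range g) b =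
          Submodule.Quotient.mk x := hbx
      rw [Submodule.Quotient.eq] at hbx
      have : x = (x - b) + b := by abel
      rw [this]
      exact Submodule.add_mem_sup (by
        have := (LinearMap.range g).neg_mem hbx
        rwa [neg_sub] at this) hb
  have e1 : ((A ⧸ I) ⊗[A] (R ⧸ LinearMap.range g)) ≃ₗ[A]
      ((R ⧸ LinearMap.range g) ⧸ (I • ⊤ : Submodule A (R ⧸ LinearMap.range g))) :=
    TensorProduct.quotTensorEquivQuotSMul (R ⧸ LinearMap.range g) I
  have e2 : ((R ⧸ LinearMap.range g) ⧸ (I • ⊤ : Submodule A (R ⧸ LinearMap.range g))) ≃ₗ[A]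
      X :=
    (Submodule.quotEquivOfEq _ _ hker'.symm) ≪≫ₗ ρ'.quotKerEquivOfSurjective hρ's
  exact Module.Flat.of_linearEquiv
    ((e1 ≪≫ₗ e2).extendScalarsOfSurjective Ideal.Quotient.mk_surjective)

end Nil

end Groth.Agent.Lib.Helper5
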