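import Mathlib
import Groth.Agent.Lib.Helper5LocalFlat2
import Groth.Agent.Lib.Helper5NilComplex

/-!
# Exactness of complexes of flat modules from exactness mod the maximal ideal (helper5)

Three-term form of Stacks 00MI (Noetherian local target): `P → Q → M` with `M` flat over `R`,
`Q` finite over the Noetherian local `R`-algebra `S`; exactness mod `m_R` at `Q` gives exactness at
`Q` and `R`-flatness of `M / im`.
-/

set_option autoImplicit false
universe u

namespace Groth.Agent.Lib.Helper5

open TensorProduct IsLocalRing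

/-- Elementwise consequence of exactness after tensoring with `A / I`. -/
theorem forall_of_exact_lTensor_quotient {A : Type*} [CommRing A] {I : Ideal A}
    {P Q R : Type*} [AddCommGroup P] [Module A P] [AddCommGroup Q]
    [Module A Q] [AddCommGroup R] [Module A R] (f : P →ₗ[A] Q) (g : Q →ₗ[A] R)
    (h : Function.Exact (f.lTensor (A ⧸ I)) (g.lTensor (A ⧸ I)))
    (q : Q) (hq : g q ∈ (I • ⊤ : Submodule A R)) :
    ∃ p : P, q - f p ∈ (I • ⊤ : Submodule A Q) := by
  have h1 : g.lTensor (A ⧸ I) ((1 : A ⧸ I) ⊗ₜ[A] q) = 0 := by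
    rw [LinearMap.lTensor_tmul]
    have : g q ∈ LinearMap.ker (TensorProduct.mk A (A ⧸ I) R 1) := by
      rw [LinearMap.ker_tensorProductMk]; exact hq
    exact this
  obtain ⟨z, hz⟩ := (h _).mp h1
  obtain ⟨p, rfl⟩ := exists_one_tmul_eq I z
  refine ⟨p, ?_⟩
  rw [LinearMap.lTensor_tmul] at hz
  have h2 : (1 : A ⧸ I) ⊗ₜ[A] (q - f p) = 0 := by
    rw [TensorProduct.tmul_sub, hz, sub_self]
  exact mem_smul_top_of_one_tmul_eq_zero I _ h2

theorem exact_and_flat_coker_of_exact_mod_maximalIdeal
    {R S : Type u} [CommRing R] [CommRing S] [IsLocalRing R] [IsLocalRing S] [IsNoetherianRing S]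
    [Algebra R S] [IsLocalHom (algebraMap R S)]
    {P Q M : Type u} [AddCommGroup P] [Module S P]
    [AddCommGroup Q] [Module S Q] [Module R Q] [IsScalarTower R S Q] [Module.Finite S Q]
    [AddCommGroup M] [Module S M] [Module R M] [IsScalarTower R S M] [Module.Flat R M]
    (f : P →ₗ[S] Q) (g : Q →ₗ[S] M) (hgf : ∀ p, g (f p) = 0)
    (hex : ∀ x : Q, g x ∈ (maximalIdeal R • ⊤ : Submodule R M) →
      ∃ y : P, x - f y ∈ (maximalIdeal R • ⊤ : Submodule R Q)) :
    (∀ x : Q, g x = 0 → ∃ y : P, f y = x) ∧
      Module.Flat R (M ⧸ LinearMap.range g) := by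
  -- the induced map on the cokernel of `f`
  have hle : LinearMap.range f ≤ LinearMap.ker g := by
    rintro _ ⟨p, rfl⟩
    exact hgf p
  let u : (Q ⧸ LinearMap.range f) →ₗ[S] M := (LinearMap.range f).liftQ g hle
  let uR : (Q ⧸ LinearMap.range f) →ₗ[R] M := u.restrictScalars R
  have hu : ∀ x : Q, uR (Submodule.Quotient.mk x) = g x := fun x => rfl
  have hinj : Function.Injective (uR.lTensor (R ⧸ maximalIdeal R)) := by
    rw [lTensor_quotient_injective_iff]
    intro n hn
    obtain ⟨x, rfl⟩ := Submodule.Quotient.mk_surjective _ n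
    rw [hu] at hn
    obtain ⟨y, hy⟩ := hex x hn
    have h1 : (Submodule.Quotient.mk x : Q ⧸ LinearMap.range f) =
        Submodule.Quotient.mk (x - f y) := by
      rw [Submodule.Quotient.eq]
      exact ⟨y, by abel⟩
    rw [h1]
    exact Submodule.smul_top_le_comap_smul_top (maximalIdeal R)
      ((LinearMap.range f).mkQ.restrictScalars R) hy
  obtain ⟨h1, h2⟩ := injective_and_flat_of_lTensor_residue_injective S uR hinj
  constructor
  · intro x hx
    have h3 : uR (Submodule.Quotient.mk x) = uR 0 := by rw [hu, hx, map_zero]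
    have h4 := h1 h3
    rw [Submodule.Quotient.mk_eq_zero] at h4
    exact h4
  · have hrange : LinearMap.range uR = (LinearMap.range g).restrictScalars R := by
      ext z
      constructor
      · rintro ⟨n, rfl⟩
        obtain ⟨x, rfl⟩ := Submodule.Quotient.mk_surjective _ n
        exact ⟨x, rfl⟩
      · rintro ⟨x, rfl⟩
        exact ⟨Submodule.Quotient.mk x, rfl⟩
    have e : (M ⧸ LinearMap.range uR) ≃ₗ[R] (M ⧸ LinearMap.range g) :=
      (Submodule.quotEquivOfEq _ _ hrange).trans
        (Submodule.Quotient.restrictScalarsEquiv R (LinearMap.range g))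
    exact Module.Flat.of_linearEquiv e.symm

end Groth.Agent.Lib.Helper5
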