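import Mathlib
import Groth.Agent.Lib.Helper5LocalComplex
import Groth.Agent.S6304

set_option autoImplicit false
set_option linter.style.haveILetI false
universe u
open Matrix

namespace Groth.Agent.Helper13FibEx

section ModI

variable {T : Type u} [CommRing T] (I : Ideal T) {m n k : ℕ}

theorem map_mk_mulVec (a : Matrix (Fin m) (Fin n) T) (x : Fin n → T) :
    (a.map (Ideal.Quotient.mk I)) *ᵥ ((Ideal.Quotient.mk I) ∘ x) =
      (Ideal.Quotient.mk I) ∘ (a *ᵥ x) := by
  funext i
  exact (RingHom.map_mulVec (Ideal.Quotient.mk I) a x i).symm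

theorem exists_lift (x : Fin n → T ⧸ I) : ∃ y : Fin n → T, (Ideal.Quotient.mk I) ∘ y = x :=
  (Function.Surjective.comp_left Ideal.Quotient.mk_surjective) x

theorem mk_comp_eq_zero_iff (x : Fin n → T) :
    (Ideal.Quotient.mk I) ∘ x = 0 ↔ ∀ i, x i ∈ I := by
  constructor
  · intro h i
    have := congrFun h i
    exact Ideal.Quotient.eq_zero_iff_mem.mp this
  · intro h
    funext i
    exact Ideal.Quotient.eq_zero_iff_mem.mpr (h i)

/-- exactness modulo `I`, elementwise. -/
def ExMod (a : Matrix (Fin m) (Fin n) T) (b : Matrix (Fin n) (Fin k) T) : Prop :=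
  ∀ x : Fin n → T, (∀ i, (a *ᵥ x) i ∈ I) → ∃ y : Fin k → T, ∀ j, (x - b *ᵥ y) j ∈ I

theorem ker_eq_range_iff (a : Matrix (Fin m) (Fin n) T) (b : Matrix (Fin n) (Fin k) T)
    (hab : a * b = 0) :
    LinearMap.ker (Matrix.mulVecLin (a.map (Ideal.Quotient.mk I))) =
      LinearMap.range (Matrix.mulVecLin (b.map (Ideal.Quotient.mk I))) ↔ ExMod I a b := by
  constructor
  · intro h x hx
    have h1 : (Ideal.Quotient.mk I) ∘ x ∈
        LinearMap.ker (Matrix.mulVecLin (a.map (Ideal.Quotient.mk I))) := by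
      rw [LinearMap.mem_ker, Matrix.mulVecLin_apply, map_mk_mulVec, mk_comp_eq_zero_iff]
      exact hx
    rw [h] at h1
    obtain ⟨ybar, hy⟩ := h1
    obtain ⟨y, rfl⟩ := exists_lift I ybar
    refine ⟨y, ?_⟩
    rw [Matrix.mulVecLin_apply, map_mk_mulVec] at hy
    rw [← mk_comp_eq_zero_iff]
    funext j
    have := congrFun hy j
    simp only [Function.comp_apply, Pi.sub_apply, map_sub, Pi.zero_apply] at this ⊢
    rw [this, sub_self]
  · intro h
    apply le_antisymm
    · intro xbar hxbar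
      obtain ⟨x, rfl⟩ := exists_lift I xbar
      rw [LinearMap.mem_ker, Matrix.mulVecLin_apply, map_mk_mulVec, mk_comp_eq_zero_iff] at hxbar
      obtain ⟨y, hy⟩ := h x hxbar
      refine ⟨(Ideal.Quotient.mk I) ∘ y, ?_⟩
      rw [Matrix.mulVecLin_apply, map_mk_mulVec]
      rw [← mk_comp_eq_zero_iff] at hy
      funext j
      have := congrFun hy j
      simp only [Function.comp_apply, Pi.sub_apply, map_sub, Pi.zero_apply] at this ⊢
      exact (sub_eq_zero.mp this).symm
    · rintro _ ⟨ybar, rfl⟩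
      rw [LinearMap.mem_ker, Matrix.mulVecLin_apply, Matrix.mulVecLin_apply, Matrix.mulVec_mulVec,
        ← Matrix.map_mul, hab]
      simp

/-- injectivity modulo `I`, elementwise. -/
theorem injective_iff (a : Matrix (Fin m) (Fin n) T) :
    Function.Injective (Matrix.mulVecLin (a.map (Ideal.Quotient.mk I))) ↔
      ExMod I a (0 : Matrix (Fin n) (Fin 0) T) := by
  rw [← LinearMap.ker_eq_bot]
  have h0 : LinearMap.range (Matrix.mulVecLin
      ((0 : Matrix (Fin n) (Fin 0) T).map (Ideal.Quotient.mk I))) = ⊥ := by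
    rw [eq_bot_iff]
    rintro _ ⟨y, rfl⟩
    rw [Submodule.mem_bot]
    funext j
    simp
  rw [← h0]
  exact ker_eq_range_iff I a 0 (by simp)

end ModI

end Groth.Agent.Helper13FibEx
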