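import Mathlib
import Groth.Agent.Lib.Helper13FibExA

set_option autoImplicit false
set_option linter.style.haveILetI false
universe u
open Matrix

namespace Groth.Agent.Helper13FibEx

section SmulTop

variable {R T : Type u} [CommRing R] [CommRing T] [Algebra R T] (𝔞 : Ideal R) {m : ℕ}

theorem smul_mem_smul_top_of_mem (t : T) {v : Fin m → T}
    (hv : v ∈ (𝔞 • ⊤ : Submodule R (Fin m → T))) :
    t • v ∈ (𝔞 • ⊤ : Submodule R (Fin m → T)) := by
  refine Submodule.smul_induction_on hv ?_ ?_
  · intro r hr w _
    rw [smul_comm]
    exact Submodule.smul_mem_smul hr Submodule.mem_top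
  · intro x y hx hy
    rw [smul_add]
    exact add_mem hx hy

theorem mem_smul_top_pi_iff (v : Fin m → T) :
    v ∈ (𝔞 • ⊤ : Submodule R (Fin m → T)) ↔ ∀ i, v i ∈ 𝔞.map (algebraMap R T) := by
  constructor
  · intro hv
    refine Submodule.smul_induction_on hv ?_ ?_
    · intro r hr w _ i
      rw [Pi.smul_apply, Algebra.smul_def]
      exact Ideal.mul_mem_right _ _ (Ideal.mem_map_of_mem _ hr)
    · intro x y hx hy i
      exact add_mem (hx i) (hy i)
  · intro hv
    have key : ∀ i : Fin m, ∀ t ∈ 𝔞.map (algebraMap R T),
        (Pi.single i t : Fin m → T) ∈ (𝔞 • ⊤ : Submodule R (Fin m → T)) := by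
      intro i t ht
      refine Submodule.span_induction (p := fun t _ =>
        (Pi.single i t : Fin m → T) ∈ (𝔞 • ⊤ : Submodule R (Fin m → T))) ?_ ?_ ?_ ?_ ht
      · rintro _ ⟨r, hr, rfl⟩
        have : (Pi.single i (algebraMap R T r) : Fin m → T) = r • (Pi.single i (1 : T)) := by
          rw [← Pi.single_smul, Algebra.smul_def, mul_one]
        rw [this]
        exact Submodule.smul_mem_smul hr Submodule.mem_top
      · rw [Pi.single_zero]
        exact zero_mem _
      · intro x y _ _ hx hy
        rw [Pi.single_add]
        exact add_mem hx hy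
      · intro s x _ hx
        have : (Pi.single i (s • x) : Fin m → T) = s • (Pi.single i x) := by
          rw [← Pi.single_smul]
        rw [this]
        exact smul_mem_smul_top_of_mem 𝔞 s hx
    have hsum : v = ∑ i, (Pi.single i (v i) : Fin m → T) := by
      funext j
      rw [Finset.sum_apply]
      simp [Pi.single_apply]
    rw [hsum]
    exact Submodule.sum_mem _ (fun i _ => key i (v i) (hv i))

end SmulTop

end Groth.Agent.Helper13FibEx
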