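import Mathlib
import Groth.Agent.Lib.Helper13FibExB

set_option autoImplicit false
set_option linter.style.haveILetI false
universe u
open Matrix

namespace Groth.Agent.Helper13FibEx

/-- exactness over `T`, elementwise. -/
def ExT {T : Type u} [CommRing T] {m n k : ℕ} (a : Matrix (Fin m) (Fin n) T)
    (b : Matrix (Fin n) (Fin k) T) : Prop :=
  ∀ x : Fin n → T, a *ᵥ x = 0 → ∃ y : Fin k → T, b *ᵥ y = x

theorem flat_pi (R T : Type u) [CommRing R] [CommRing T] [Algebra R T] [Module.Flat R T] (m : ℕ) :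
    Module.Flat R (Fin m → T) := by
  classical
  exact Module.Flat.of_linearEquiv
    (DFinsupp.linearEquivFunOnFintype (R := R) (M := fun _ : Fin m => T)).symm

section Local

variable {R₀ T : Type u} [CommRing R₀] [CommRing T] [IsLocalRing R₀] [IsLocalRing T]
  [IsNoetherianRing T] [Algebra R₀ T] [IsLocalHom (algebraMap R₀ T)] [Module.Flat R₀ T]
  {m n k : ℕ}

theorem exT_of_exMod (a : Matrix (Fin m) (Fin n) T) (b : Matrix (Fin n) (Fin k) T)
    (hab : a * b = 0)
    (h : ExMod ((IsLocalRing.maximalIdeal R₀).map (algebraMap R₀ T)) a b) :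
    ExT a b ∧ Module.Flat R₀ ((Fin m → T) ⧸ LinearMap.range (Matrix.mulVecLin a)) := by
  haveI : Module.Flat R₀ (Fin m → T) := flat_pi R₀ T m
  have key := Groth.Agent.Lib.Helper5.exact_and_flat_coker_of_exact_mod_maximalIdeal
    (R := R₀) (S := T) (P := Fin k → T) (Q := Fin n → T) (M := Fin m → T)
    (Matrix.mulVecLin b) (Matrix.mulVecLin a)
    (fun p => by
      rw [Matrix.mulVecLin_apply, Matrix.mulVecLin_apply, Matrix.mulVec_mulVec, hab,
        Matrix.zero_mulVec])
    (fun x hx => by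
      rw [mem_smul_top_pi_iff] at hx
      obtain ⟨y, hy⟩ := h x hx
      refine ⟨y, ?_⟩
      rw [mem_smul_top_pi_iff]
      exact hy)
  exact ⟨fun x hx => key.1 x hx, key.2⟩

end Local

section Flat

variable {R T : Type u} [CommRing R] [CommRing T] [Algebra R T] [Module.Flat R T]
  (𝔞 : Ideal R) {m n k : ℕ}

/-- one step of the flat direction. -/
theorem exMod_of_exT (a : Matrix (Fin m) (Fin n) T) (b : Matrix (Fin n) (Fin k) T)
    (hab : a * b = 0) (hex : ExT a b)
    [hfl : Module.Flat R ((Fin m → T) ⧸ LinearMap.range (Matrix.mulVecLin a))] :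
    ExMod (𝔞.map (algebraMap R T)) a b ∧
      Module.Flat R ((Fin n → T) ⧸ LinearMap.range (Matrix.mulVecLin b)) := by
  -- the quotient map, `R`-linear
  let π : (Fin m → T) →ₗ[R] ((Fin m → T) ⧸ LinearMap.range (Matrix.mulVecLin a)) :=
    (LinearMap.range (Matrix.mulVecLin a)).mkQ.restrictScalars R
  have hπ : Function.Surjective π := Submodule.mkQ_surjective _
  have hker : ∀ v, v ∈ LinearMap.ker π ↔ ∃ x, a *ᵥ x = v := by
    intro v
    rw [LinearMap.mem_ker]
    change (LinearMap.range (Matrix.mulVecLin a)).mkQ v = 0 ↔ _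
    rw [Submodule.mkQ_apply, Submodule.Quotient.mk_eq_zero]
    rfl
  constructor
  · intro x hx
    have h1 : a *ᵥ x ∈ LinearMap.ker π ⊓ (𝔞 • ⊤ : Submodule R (Fin m → T)) :=
      ⟨(hker _).mpr ⟨x, rfl⟩, (mem_smul_top_pi_iff 𝔞 _).mpr hx⟩
    rw [LinearMap.ker_inf_smul_top_eq_smul_of_flat 𝔞 π hπ] at h1
    -- elements of `𝔞 • ker π` are of the form `a *ᵥ z` with `z ∈ 𝔞 F`
    have h2 : ∀ w ∈ (𝔞 • LinearMap.ker π : Submodule R (Fin m → T)),
        ∃ z : Fin n → T, (∀ j, z j ∈ 𝔞.map (algebraMap R T)) ∧ a *ᵥ z = w := by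
      intro w hw
      refine Submodule.smul_induction_on hw ?_ ?_
      · intro r hr v hv
        obtain ⟨z, rfl⟩ := (hker v).mp hv
        refine ⟨r • z, fun j => ?_, ?_⟩
        · rw [Pi.smul_apply, Algebra.smul_def]
          exact Ideal.mul_mem_right _ _ (Ideal.mem_map_of_mem _ hr)
        · rw [← Matrix.mulVecLin_apply, ← Matrix.mulVecLin_apply]
          exact ((Matrix.mulVecLin a).restrictScalars R).map_smul r z
      · rintro _ _ ⟨z₁, hz₁, rfl⟩ ⟨z₂, hz₂, rfl⟩
        exact ⟨z₁ + z₂, fun j => add_mem (hz₁ j) (hz₂ j), Matrix.mulVec_add _ _ _⟩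
    obtain ⟨z, hz, hza⟩ := h2 _ h1
    have h3 : a *ᵥ (x - z) = 0 := by rw [Matrix.mulVec_sub, hza, sub_self]
    obtain ⟨y, hy⟩ := hex _ h3
    refine ⟨y, fun j => ?_⟩
    have : x - b *ᵥ y = z := by rw [hy]; abel
    rw [this]
    exact hz j
  · -- `F_n / range b = F_n / ker a ≃ range a`, flat as kernel of `π`
    haveI : Module.Flat R (Fin m → T) := flat_pi R T m
    have hflat_ker : Module.Flat R (LinearMap.ker π) :=
      (Groth.Agent.S6304.result (R := R) (LinearMap.ker π).subtype π
        (Submodule.subtype_injective _) (LinearMap.exact_subtype_ker_map π) hπ).2 inferInstance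
    -- the map `F_n → ker π`
    let ρ : (Fin n → T) →ₗ[R] LinearMap.ker π :=
      LinearMap.codRestrict (LinearMap.ker π) ((Matrix.mulVecLin a).restrictScalars R)
        (fun x => (hker _).mpr ⟨x, rfl⟩)
    have hρ : Function.Surjective ρ := by
      rintro ⟨v, hv⟩
      obtain ⟨x, rfl⟩ := (hker v).mp hv
      exact ⟨x, rfl⟩
    have hρker : LinearMap.ker ρ =
        (LinearMap.range (Matrix.mulVecLin b)).restrictScalars R := by
      ext x
      rw [LinearMap.mem_ker, Submodule.restrictScalars_mem, LinearMap.mem_range]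
      constructor
      · intro h
        have h' : a *ᵥ x = 0 := congrArg Subtype.val h
        obtain ⟨y, hy⟩ := hex x h'
        exact ⟨y, hy⟩
      · rintro ⟨y, rfl⟩
        apply Subtype.ext
        change a *ᵥ (b *ᵥ y) = 0
        rw [Matrix.mulVec_mulVec, hab, Matrix.zero_mulVec]
    let e : ((Fin n → T) ⧸ LinearMap.range (Matrix.mulVecLin b)) ≃ₗ[R] LinearMap.ker π :=
      ((Submodule.Quotient.restrictScalarsEquiv R
        (LinearMap.range (Matrix.mulVecLin b))).symm.trans
        (Submodule.quotEquivOfEq _ _ hρker.symm)).trans (ρ.quotKerEquivOfSurjective hρ)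
    exact Module.Flat.of_linearEquiv e

end Flat

end Groth.Agent.Helper13FibEx
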