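import Mathlib
import Groth.Agent.Lib.Helper13FibExC

set_option autoImplicit false
set_option linter.style.haveILetI false
universe u
open Matrix

namespace Groth.Agent.Helper13FibEx

section Loc

variable {S : Type u} [CommRing S] (M : Submonoid S) (T : Type u) [CommRing T] [Algebra S T]
  [IsLocalization M T] {m n k : ℕ}

/-- the localization map on vectors. -/
def locV (x : Fin n → S) : Fin n → T := algebraMap S T ∘ x

theorem locV_add (x y : Fin n → S) : locV T (x + y) = locV T x + locV T y := by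
  funext i
  simp [locV]

theorem locV_sub (x y : Fin n → S) : locV T (x - y) = locV T x - locV T y := by
  funext i
  simp [locV]

theorem locV_smul (s : S) (x : Fin n → S) : locV T (s • x) = s • locV T x := by
  funext i
  simp [locV, Algebra.smul_def]

theorem locV_mulVec (a : Matrix (Fin m) (Fin n) S) (x : Fin n → S) :
    (a.map (algebraMap S T)) *ᵥ (locV T x) = locV T (a *ᵥ x) := by
  funext i
  exact (RingHom.map_mulVec (algebraMap S T) a x i).symm

include M in
theorem exists_smul_eq_locV (y : Fin n → T) :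
    ∃ s ∈ M, ∃ x : Fin n → S, s • y = locV T x := by
  obtain ⟨b, hb⟩ := IsLocalization.exist_integer_multiples_of_finite M y
  choose x hx using hb
  refine ⟨b, b.2, x, ?_⟩
  funext i
  rw [Pi.smul_apply]
  exact (hx i).symm

include M in
theorem exists_smul_eq_zero_of_locV_eq_zero (x : Fin n → S) (hx : locV T x = 0) :
    ∃ s ∈ M, s • x = 0 := by
  have h : ∀ i, ∃ c : M, (c : S) * x i = 0 := by
    intro i
    have h1 : algebraMap S T (x i) = algebraMap S T 0 := by
      rw [map_zero]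
      exact congrFun hx i
    obtain ⟨c, hc⟩ := (IsLocalization.eq_iff_exists M T).mp h1
    exact ⟨c, by rw [hc, mul_zero]⟩
  choose c hc using h
  refine ⟨∏ i, (c i : S), ?_, ?_⟩
  · exact prod_mem (fun i _ => (c i).2)
  · funext i
    rw [Pi.smul_apply, smul_eq_mul, Pi.zero_apply]
    rw [← Finset.mul_prod_erase Finset.univ (fun i => (c i : S)) (Finset.mem_univ i)]
    rw [mul_comm (c i : S), mul_assoc, hc i, mul_zero]

include M in
theorem smul_eq_zero_of_mem (s : S) (hs : s ∈ M) (y : Fin n → T) (h : s • y = 0) : y = 0 := by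
  funext i
  have h1 := congrFun h i
  rw [Pi.smul_apply, Algebra.smul_def, Pi.zero_apply] at h1
  have hu : IsUnit (algebraMap S T s) := IsLocalization.map_units T ⟨s, hs⟩
  exact (hu.mul_right_eq_zero).mp h1

/-- `g` kills the homology over `S`. -/
def Kills (g : S) (a : Matrix (Fin m) (Fin n) S) (b : Matrix (Fin n) (Fin k) S) : Prop :=
  ∀ x : Fin n → S, a *ᵥ x = 0 → ∃ y : Fin k → S, b *ᵥ y = g • x

include M in
theorem exT_of_kills (g : S) (hg : g ∈ M) (a : Matrix (Fin m) (Fin n) S)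
    (b : Matrix (Fin n) (Fin k) S) (h : Kills g a b) :
    ExT (a.map (algebraMap S T)) (b.map (algebraMap S T)) := by
  intro x' hx'
  obtain ⟨s, hs, x, hsx⟩ := exists_smul_eq_locV M T x'
  have h1 : locV T (a *ᵥ x) = 0 := by
    rw [← locV_mulVec, ← hsx, Matrix.mulVec_smul, hx', smul_zero]
  obtain ⟨u, hu, hux⟩ := exists_smul_eq_zero_of_locV_eq_zero M T _ h1
  have h2 : a *ᵥ (u • x) = 0 := by rw [Matrix.mulVec_smul, hux]
  obtain ⟨y, hy⟩ := h _ h2
  have hunit : IsUnit (algebraMap S T (g * u * s)) :=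
    IsLocalization.map_units T ⟨g * u * s, M.mul_mem (M.mul_mem hg hu) hs⟩
  obtain ⟨w, hw⟩ := hunit
  refine ⟨(↑w⁻¹ : T) • locV T y, ?_⟩
  rw [Matrix.mulVec_smul, locV_mulVec, hy, locV_smul, locV_smul, ← hsx]
  have h3 : g • u • s • x' = (w : T) • x' := by
    rw [smul_smul, smul_smul, hw, algebraMap_smul]
  rw [h3, smul_smul, Units.inv_mul, one_smul]

include M in
theorem exists_smul_mem_range (a : Matrix (Fin m) (Fin n) S)
    (b : Matrix (Fin n) (Fin k) S)
    (h : ExT (a.map (algebraMap S T)) (b.map (algebraMap S T)))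
    (x : Fin n → S) (hx : a *ᵥ x = 0) : ∃ g ∈ M, ∃ y : Fin k → S, b *ᵥ y = g • x := by
  have h1 : (a.map (algebraMap S T)) *ᵥ (locV T x) = 0 := by
    rw [locV_mulVec, hx]
    funext i
    simp [locV]
  obtain ⟨y', hy'⟩ := h _ h1
  obtain ⟨s, hs, y, hsy⟩ := exists_smul_eq_locV M T y'
  have h2 : locV T (b *ᵥ y - s • x) = 0 := by
    rw [locV_sub, ← locV_mulVec, ← hsy, Matrix.mulVec_smul, hy', locV_smul, sub_self]
  obtain ⟨u, hu, hu0⟩ := exists_smul_eq_zero_of_locV_eq_zero M T _ h2
  refine ⟨u * s, M.mul_mem hu hs, u • y, ?_⟩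
  rw [Matrix.mulVec_smul, mul_smul]
  rw [smul_sub, sub_eq_zero] at hu0
  exact hu0

include M in
theorem exists_kills_of_exT [IsNoetherianRing S] (a : Matrix (Fin m) (Fin n) S)
    (b : Matrix (Fin n) (Fin k) S)
    (h : ExT (a.map (algebraMap S T)) (b.map (algebraMap S T))) :
    ∃ g ∈ M, Kills g a b := by
  classical
  have hfg : (LinearMap.ker (Matrix.mulVecLin a)).FG := IsNoetherian.noetherian _
  obtain ⟨F, hF⟩ := hfg
  have hmem : ∀ x ∈ F, a *ᵥ x = 0 := by
    intro x hx
    have : x ∈ LinearMap.ker (Matrix.mulVecLin a) := hF ▸ Submodule.subset_span hx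
    exact this
  have hex : ∀ x : Fin n → S, ∃ g : S, x ∈ F → g ∈ M ∧ ∃ y : Fin k → S, b *ᵥ y = g • x := by
    intro x
    by_cases hx : x ∈ F
    · obtain ⟨g, hg, y, hy⟩ := exists_smul_mem_range M T a b h x (hmem x hx)
      exact ⟨g, fun _ => ⟨hg, y, hy⟩⟩
    · exact ⟨1, fun h => absurd h hx⟩
  choose g hg using hex
  refine ⟨∏ x ∈ F, g x, prod_mem (fun x hx => (hg x hx).1), ?_⟩
  intro x hx
  have hxK : x ∈ Submodule.span S (F : Set (Fin n → S)) := by
    rw [hF]; exact hx
  -- the submodule of vectors `x` with `G • x ∈ range b`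
  let N : Submodule S (Fin n → S) :=
    (LinearMap.range (Matrix.mulVecLin b)).comap
      ((∏ x ∈ F, g x) • (LinearMap.id : (Fin n → S) →ₗ[S] (Fin n → S)))
  have hFN : (F : Set (Fin n → S)) ⊆ N := by
    intro z hz
    obtain ⟨-, y, hy⟩ := hg z hz
    change ((∏ x ∈ F, g x) • (LinearMap.id : (Fin n → S) →ₗ[S] (Fin n → S))) z ∈
      LinearMap.range (Matrix.mulVecLin b)
    rw [LinearMap.smul_apply, LinearMap.id_apply,
      ← Finset.mul_prod_erase F g hz, mul_comm, mul_smul, ← hy]
    refine ⟨(∏ x ∈ F.erase z, g x) • y, ?_⟩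
    rw [Matrix.mulVecLin_apply, Matrix.mulVec_smul]
  have := Submodule.span_le.mpr hFN hxK
  obtain ⟨y, hy⟩ := this
  exact ⟨y, hy⟩

end Loc

end Groth.Agent.Helper13FibEx
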