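import Mathlib
import Groth.Agent.Lib.Helper13FibExD

set_option autoImplicit false
set_option linter.style.haveILetI false
universe u
open Matrix

namespace Groth.Agent.Helper13FibEx

section Coker

variable {S : Type u} [CommRing S] (M : Submonoid S) (T : Type u) [CommRing T] [Algebra S T]
  [IsLocalization M T] {m n : ℕ} (a : Matrix (Fin m) (Fin n) S)

/-- the localization map on vectors, as a linear map. -/
def locL : (Fin m → S) →ₗ[S] (Fin m → T) where
  toFun := locV T
  map_add' := locV_add T
  map_smul' := fun s x => locV_smul T s x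

/-- the induced map on cokernels. -/
def cokerMap : ((Fin m → S) ⧸ LinearMap.range (Matrix.mulVecLin a)) →ₗ[S]
    ((Fin m → T) ⧸ LinearMap.range (Matrix.mulVecLin (a.map (algebraMap S T)))) :=
  (LinearMap.range (Matrix.mulVecLin a)).liftQ
    (((LinearMap.range (Matrix.mulVecLin (a.map (algebraMap S T)))).mkQ.restrictScalars S).comp
      (locL T))
    (by
      rintro _ ⟨x, rfl⟩
      rw [LinearMap.mem_ker]
      change (LinearMap.range (Matrix.mulVecLin (a.map (algebraMap S T)))).mkQ
        (locV T (a *ᵥ x)) = 0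
      rw [Submodule.mkQ_apply, Submodule.Quotient.mk_eq_zero, ← locV_mulVec]
      exact ⟨locV T x, rfl⟩)

theorem cokerMap_mk (x : Fin m → S) :
    cokerMap T a (Submodule.Quotient.mk x) = Submodule.Quotient.mk (locV T x) := rfl

include M in
theorem isLocalizedModule_cokerMap : IsLocalizedModule M (cokerMap T a) := by
  refine ⟨?_, ?_, ?_⟩
  · intro s
    rw [Module.End.isUnit_iff]
    obtain ⟨w, hw⟩ := IsLocalization.map_units T s
    have hsmul : ∀ c : (Fin m → T) ⧸ LinearMap.range (Matrix.mulVecLin (a.map (algebraMap S T))),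
        (algebraMap S (Module.End S _) s) c = (w : T) • c := by
      intro c
      rw [Module.algebraMap_end_apply, hw, algebraMap_smul]
    constructor
    · intro c₁ c₂ h
      rw [hsmul, hsmul] at h
      have := congrArg (fun c => (↑w⁻¹ : T) • c) h
      simpa [smul_smul] using this
    · intro c
      refine ⟨(↑w⁻¹ : T) • c, ?_⟩
      rw [hsmul, smul_smul, Units.mul_inv, one_smul]
  · intro c
    obtain ⟨y, rfl⟩ := Submodule.Quotient.mk_surjective _ c
    obtain ⟨s, hs, x, hsx⟩ := exists_smul_eq_locV M T y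
    refine ⟨(Submodule.Quotient.mk x, ⟨s, hs⟩), ?_⟩
    rw [cokerMap_mk, ← hsx]
    rfl
  · intro c₁ c₂ h
    obtain ⟨x₁, rfl⟩ := Submodule.Quotient.mk_surjective _ c₁
    obtain ⟨x₂, rfl⟩ := Submodule.Quotient.mk_surjective _ c₂
    rw [cokerMap_mk, cokerMap_mk, Submodule.Quotient.eq, ← locV_sub] at h
    obtain ⟨y', hy'⟩ := h
    rw [Matrix.mulVecLin_apply] at hy'
    obtain ⟨s, hs, y, hsy⟩ := exists_smul_eq_locV M T y'
    have h2 : locV T (a *ᵥ y - s • (x₁ - x₂)) = 0 := by
      rw [locV_sub, ← locV_mulVec, ← hsy, Matrix.mulVec_smul, hy', locV_smul, sub_self]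
    obtain ⟨u, hu, hu0⟩ := exists_smul_eq_zero_of_locV_eq_zero M T _ h2
    refine ⟨⟨u * s, M.mul_mem hu hs⟩, ?_⟩
    change (u * s) • (Submodule.Quotient.mk x₁ :
        (Fin m → S) ⧸ LinearMap.range (Matrix.mulVecLin a)) =
      (u * s) • Submodule.Quotient.mk x₂
    rw [← Submodule.Quotient.mk_smul, ← Submodule.Quotient.mk_smul, Submodule.Quotient.eq,
      ← smul_sub, mul_smul]
    rw [smul_sub, sub_eq_zero] at hu0
    rw [← hu0]
    exact ⟨u • y, by rw [Matrix.mulVecLin_apply, Matrix.mulVec_smul]⟩

end Coker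

section FlatCoker

variable {R S : Type u} [CommRing R] [CommRing S] [Algebra R S] (M : Submonoid S) (T : Type u)
  [CommRing T] [Algebra S T] [Algebra R T] [IsScalarTower R S T]
  [IsLocalization M T] {m n : ℕ} (a : Matrix (Fin m) (Fin n) S)

include M in
theorem flat_coker_iff :
    Module.Flat R (LocalizedModule M ((Fin m → S) ⧸ LinearMap.range (Matrix.mulVecLin a))) ↔
      Module.Flat R ((Fin m → T) ⧸ LinearMap.range (Matrix.mulVecLin (a.map (algebraMap S T)))) := by
  haveI := isLocalizedModule_cokerMap M T a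
  let e := IsLocalizedModule.iso M (cokerMap T a)
  exact ⟨fun h => Module.Flat.of_linearEquiv (e.restrictScalars R).symm,
    fun h => Module.Flat.of_linearEquiv (e.restrictScalars R)⟩

end FlatCoker

end Groth.Agent.Helper13FibEx
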