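import Mathlib
import Groth.Prelude.Def_EGA4b
import Groth.Agent.Lib.Helper13FibExE
import Groth.Agent.S0387

set_option autoImplicit false
set_option linter.style.haveILetI false
universe u
open Matrix

namespace Groth.Agent.Helper13FibEx

section Main

variable (R S : Type u) [CommRing R] [CommRing S] [Algebra R S]

/-- the ideal `p S_q`. -/
abbrev IQ (q : Ideal S) [q.IsPrime] : Ideal (Localization.AtPrime q) :=
  (q.comap (algebraMap R S)).map (algebraMap R (Localization.AtPrime q))

theorem map_fib (q : Ideal S) [q.IsPrime] {m n : ℕ} (a : Matrix (Fin m) (Fin n) S) :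
    a.map (algebraMap S (EGA4.FibLocRing R S q)) =
      (a.map (algebraMap S (Localization.AtPrime q))).map (Ideal.Quotient.mk (IQ R S q)) := by
  ext i j
  rfl

variable (e : ℕ) (n : ℕ → ℕ) (φ : (i : ℕ) → Matrix (Fin (n i)) (Fin (n (i + 1))) S)

/-- the fibrewise exactness condition of the statement. -/
def Cond (q : Ideal S) [q.IsPrime] : Prop :=
  (∀ i, i + 2 ≤ e →
    LinearMap.ker (Matrix.mulVecLin ((φ i).map (algebraMap S (EGA4.FibLocRing R S q)))) =
      LinearMap.range (Matrix.mulVecLin ((φ (i + 1)).map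
        (algebraMap S (EGA4.FibLocRing R S q))))) ∧
  (1 ≤ e → Function.Injective
    (Matrix.mulVecLin ((φ (e - 1)).map (algebraMap S (EGA4.FibLocRing R S q)))))

/-- the elementwise fibrewise exactness condition. -/
def CondMod (q : Ideal S) [q.IsPrime] : Prop :=
  (∀ i, i + 2 ≤ e → ExMod (IQ R S q) ((φ i).map (algebraMap S (Localization.AtPrime q)))
    ((φ (i + 1)).map (algebraMap S (Localization.AtPrime q)))) ∧
  (1 ≤ e → ExMod (IQ R S q) ((φ (e - 1)).map (algebraMap S (Localization.AtPrime q)))
    (0 : Matrix (Fin (n (e - 1 + 1))) (Fin 0) (Localization.AtPrime q)))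

/-- exactness over the local ring `S_q`. -/
def CondT (q : Ideal S) [q.IsPrime] : Prop :=
  (∀ i, i + 2 ≤ e → ExT ((φ i).map (algebraMap S (Localization.AtPrime q)))
    ((φ (i + 1)).map (algebraMap S (Localization.AtPrime q)))) ∧
  (1 ≤ e → ExT ((φ (e - 1)).map (algebraMap S (Localization.AtPrime q)))
    (0 : Matrix (Fin (n (e - 1 + 1))) (Fin 0) (Localization.AtPrime q)))

variable (hφ : ∀ i, i + 2 ≤ e → φ i * φ (i + 1) = 0)

include hφ in
theorem cond_iff_condMod (q : Ideal S) [q.IsPrime] :
    Cond R S e n φ q ↔ CondMod R S e n φ q := by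
  unfold Cond CondMod
  refine and_congr ?_ ?_
  · refine forall_congr' fun i => imp_congr_right fun hi => ?_
    rw [map_fib, map_fib]
    refine ker_eq_range_iff (IQ R S q) _ _ ?_
    rw [← Matrix.map_mul, hφ i hi]
    ext a b
    simp
  · refine imp_congr_right fun _ => ?_
    rw [map_fib]
    exact injective_iff (IQ R S q) _

end Main

end Groth.Agent.Helper13FibEx
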