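import Mathlib
import Groth.Prelude.Def_EGA4b
import Groth.Agent.Lib.Helper13FibExF

set_option autoImplicit false
set_option linter.style.haveILetI false
universe u
open Matrix

namespace Groth.Agent.Helper13FibEx

section Main

variable (R S : Type u) [CommRing R] [CommRing S] [Algebra R S]

variable (e : ℕ) (n : ℕ → ℕ) (φ : (i : ℕ) → Matrix (Fin (n i)) (Fin (n (i + 1))) S)

/-- the local step at a prime `q`, with the local ring `R₀ = R_p` made explicit. -/
theorem local_step [IsNoetherianRing S] [Module.Flat R S] (q : Ideal S) [q.IsPrime]
    {m k l : ℕ} (a : Matrix (Fin m) (Fin k) S) (b : Matrix (Fin k) (Fin l) S)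
    (hab : a * b = 0)
    (h : ExMod (IQ R S q) (a.map (algebraMap S (Localization.AtPrime q)))
      (b.map (algebraMap S (Localization.AtPrime q)))) :
    ExT (a.map (algebraMap S (Localization.AtPrime q)))
        (b.map (algebraMap S (Localization.AtPrime q))) ∧
      Module.Flat R ((Fin m → Localization.AtPrime q) ⧸
        LinearMap.range (Matrix.mulVecLin (a.map (algebraMap S (Localization.AtPrime q))))) := by
  obtain ⟨p, hp⟩ : ∃ p, p = q.comap (algebraMap R S) := ⟨_, rfl⟩
  haveI : p.IsPrime := hp ▸ Ideal.comap_isPrime _ _
  haveI : q.LiesOver p := ⟨hp⟩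
  letI := Localization.AtPrime.algebraOfLiesOver p q
  haveI : IsScalarTower R (Localization.AtPrime p) (Localization.AtPrime q) := inferInstance
  haveI : Module.Flat (Localization.AtPrime p) (Localization.AtPrime q) := inferInstance
  haveI : IsLocalHom (algebraMap (Localization.AtPrime p) (Localization.AtPrime q)) :=
    Localization.isLocalHom_localRingHom p q (algebraMap R S) Ideal.LiesOver.over
  have hI : IQ R S q = (IsLocalRing.maximalIdeal (Localization.AtPrime p)).map
      (algebraMap (Localization.AtPrime p) (Localization.AtPrime q)) := by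
    unfold IQ
    rw [← hp, ← IsLocalization.AtPrime.map_eq_maximalIdeal p (Localization.AtPrime p),
      Ideal.map_map, ← IsScalarTower.algebraMap_eq]
  rw [hI] at h
  have hab' : a.map (algebraMap S (Localization.AtPrime q)) *
      b.map (algebraMap S (Localization.AtPrime q)) = 0 := by
    rw [← Matrix.map_mul, hab]
    ext i j
    simp
  obtain ⟨h1, h2⟩ := exT_of_exMod (R₀ := Localization.AtPrime p) _ _ hab' h
  refine ⟨h1, ?_⟩
  haveI : IsScalarTower R (Localization.AtPrime p) ((Fin m → Localization.AtPrime q) ⧸
      LinearMap.range (Matrix.mulVecLin (a.map (algebraMap S (Localization.AtPrime q))))) :=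
    inferInstance
  exact (Module.flat_iff_of_isLocalization (Localization.AtPrime p) p.primeCompl _).mp h2

end Main

end Groth.Agent.Helper13FibEx
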