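import Mathlib
import Groth.Prelude.Def_EGA4b
import Groth.Agent.Lib.Helper13FibExG

set_option autoImplicit false
set_option linter.style.haveILetI false
universe u
open Matrix

namespace Groth.Agent.Helper13FibEx

theorem Kills.of_dvd {S : Type u} [CommRing S] {m n k : ℕ} {g G : S}
    {a : Matrix (Fin m) (Fin n) S} {b : Matrix (Fin n) (Fin k) S} (h : Kills g a b)
    (hd : g ∣ G) : Kills G a b := by
  obtain ⟨c, rfl⟩ := hd
  intro x hx
  obtain ⟨y, hy⟩ := h x hx
  refine ⟨c • y, ?_⟩
  rw [Matrix.mulVec_smul, hy, smul_smul, mul_comm]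

section Main

variable (R S : Type u) [CommRing R] [CommRing S] [Algebra R S]

variable (e : ℕ) (n : ℕ → ℕ) (φ : (i : ℕ) → Matrix (Fin (n i)) (Fin (n (i + 1))) S)

variable (hφ : ∀ i, i + 2 ≤ e → φ i * φ (i + 1) = 0)

include hφ in
theorem condT_of_condMod [IsNoetherianRing S] [Module.Flat R S] (q : Ideal S) [q.IsPrime]
    (h : CondMod R S e n φ q) :
    CondT S e n φ q ∧ (1 ≤ e → Module.Flat R ((Fin (n 0) → Localization.AtPrime q) ⧸
      LinearMap.range (Matrix.mulVecLin ((φ 0).map (algebraMap S (Localization.AtPrime q)))))) := by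
  have hz : (0 : Matrix (Fin (n (e - 1 + 1))) (Fin 0) S).map
      (algebraMap S (Localization.AtPrime q)) = 0 := by
    ext i j
    exact Fin.elim0 j
  have hlast : 1 ≤ e → ExT ((φ (e - 1)).map (algebraMap S (Localization.AtPrime q)))
      (0 : Matrix (Fin (n (e - 1 + 1))) (Fin 0) (Localization.AtPrime q)) ∧
      Module.Flat R ((Fin (n (e - 1)) → Localization.AtPrime q) ⧸
        LinearMap.range (Matrix.mulVecLin ((φ (e - 1)).map
          (algebraMap S (Localization.AtPrime q))))) := by
    intro he
    have h1 := local_step R S q (φ (e - 1)) (0 : Matrix (Fin (n (e - 1 + 1))) (Fin 0) S)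
      (by simp) (by rw [hz]; exact h.2 he)
    rw [hz] at h1
    exact h1
  refine ⟨⟨fun i hi => (local_step R S q (φ i) (φ (i + 1)) (hφ i hi) (h.1 i hi)).1,
    fun he => (hlast he).1⟩, ?_⟩
  intro he
  by_cases h2 : 2 ≤ e
  · exact (local_step R S q (φ 0) (φ (0 + 1)) (hφ 0 h2) (h.1 0 h2)).2
  · obtain rfl : e = 1 := by omega
    exact (hlast he).2

include hφ in
theorem condMod_of_condT [Module.Flat R S] (q : Ideal S) [q.IsPrime]
    (h : CondT S e n φ q)
    (hfl : 1 ≤ e → Module.Flat R ((Fin (n 0) → Localization.AtPrime q) ⧸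
      LinearMap.range (Matrix.mulVecLin ((φ 0).map (algebraMap S (Localization.AtPrime q)))))) :
    CondMod R S e n φ q := by
  haveI : Module.Flat R (Localization.AtPrime q) := inferInstance
  have hab : ∀ i, i + 2 ≤ e → (φ i).map (algebraMap S (Localization.AtPrime q)) *
      (φ (i + 1)).map (algebraMap S (Localization.AtPrime q)) = 0 := by
    intro i hi
    rw [← Matrix.map_mul, hφ i hi]
    ext a b
    simp
  have Q : ∀ i, i + 1 ≤ e → Module.Flat R ((Fin (n i) → Localization.AtPrime q) ⧸
      LinearMap.range (Matrix.mulVecLin ((φ i).map (algebraMap S (Localization.AtPrime q))))) := by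
    intro i
    induction i with
    | zero => intro hi; exact hfl hi
    | succ i ih =>
      intro hi
      haveI := ih (by omega)
      exact (exMod_of_exT (q.comap (algebraMap R S)) _ _ (hab i hi) (h.1 i hi)).2
  refine ⟨fun i hi => ?_, fun he => ?_⟩
  · haveI := Q i (by omega)
    exact (exMod_of_exT (q.comap (algebraMap R S)) _ _ (hab i hi) (h.1 i hi)).1
  · haveI := Q (e - 1) (by omega)
    exact (exMod_of_exT (q.comap (algebraMap R S)) _ _ (by simp) (h.2 he)).1

end Main

end Groth.Agent.Helper13FibEx
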