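import Mathlib
import Groth.Prelude.Def_EGA4b
import Groth.Agent.Lib.Helper13FibExH

set_option autoImplicit false
set_option linter.style.haveILetI false
universe u
open Matrix

namespace Groth.Agent.Helper13FibEx

section Main

variable (R S : Type u) [CommRing R] [CommRing S] [Algebra R S]

variable (e : ℕ) (n : ℕ → ℕ) (φ : (i : ℕ) → Matrix (Fin (n i)) (Fin (n (i + 1))) S)

variable (hφ : ∀ i, i + 2 ≤ e → φ i * φ (i + 1) = 0)

include hφ in
theorem isOpen_cond [IsNoetherianRing R] [Algebra.FiniteType R S] [Module.Flat R S] :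
    IsOpen {q : PrimeSpectrum S | Cond R S e n φ q.asIdeal} := by
  haveI : IsNoetherianRing S := Algebra.FiniteType.isNoetherianRing R S
  haveI : Algebra.FinitePresentation R S :=
    Algebra.FinitePresentation.of_finiteType.mp inferInstance
  by_cases he : e = 0
  · subst he
    convert isOpen_univ
    ext q
    simp [Cond]
  have he1 : 1 ≤ e := by omega
  rw [isOpen_iff_forall_mem_open]
  intro q₀ hq₀
  have hmod := (cond_iff_condMod R S e n φ hφ q₀.asIdeal).mp hq₀
  obtain ⟨hT, hfl⟩ := condT_of_condMod R S e n φ hφ q₀.asIdeal hmod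
  have hz : ∀ (T : Type u) [CommRing T] [Algebra S T],
      (0 : Matrix (Fin (n (e - 1 + 1))) (Fin 0) S).map (algebraMap S T) = 0 := by
    intro T _ _
    ext i j
    exact Fin.elim0 j
  -- kills elements
  have hk : ∀ i, ∃ g ∈ q₀.asIdeal.primeCompl, i + 2 ≤ e → Kills g (φ i) (φ (i + 1)) := by
    intro i
    by_cases hi : i + 2 ≤ e
    · obtain ⟨g, hg, hk⟩ := exists_kills_of_exT q₀.asIdeal.primeCompl
        (Localization.AtPrime q₀.asIdeal) (φ i) (φ (i + 1)) (hT.1 i hi)
      exact ⟨g, hg, fun _ => hk⟩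
    · exact ⟨1, Submonoid.one_mem _, fun h => absurd h hi⟩
  choose g hg hgk using hk
  obtain ⟨gl, hgl, hglk⟩ := exists_kills_of_exT q₀.asIdeal.primeCompl
    (Localization.AtPrime q₀.asIdeal) (φ (e - 1)) (0 : Matrix (Fin (n (e - 1 + 1))) (Fin 0) S)
    (by rw [hz]; exact hT.2 he1)
  -- flat locus
  haveI : Module.FinitePresentation S
      ((Fin (n 0) → S) ⧸ LinearMap.range (Matrix.mulVecLin (φ 0))) :=
    Module.finitePresentation_of_finite S _
  have hopen := Groth.Agent.S0387.result (R := R) (S := S)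
    (M := (Fin (n 0) → S) ⧸ LinearMap.range (Matrix.mulVecLin (φ 0)))
  have hq₀U : Module.Flat R (LocalizedModule q₀.asIdeal.primeCompl
      ((Fin (n 0) → S) ⧸ LinearMap.range (Matrix.mulVecLin (φ 0)))) :=
    (flat_coker_iff q₀.asIdeal.primeCompl (Localization.AtPrime q₀.asIdeal) (φ 0)).mpr (hfl he1)
  -- the open set
  obtain ⟨G, hG⟩ : ∃ G, G = gl * ∏ i ∈ Finset.range e, g i := ⟨_, rfl⟩
  refine ⟨_ ∩ (PrimeSpectrum.basicOpen G : Set (PrimeSpectrum S)), ?_,
    hopen.inter (PrimeSpectrum.basicOpen G).isOpen, ⟨hq₀U, ?_⟩⟩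
  · rintro q ⟨hqU, hqG⟩
    have hGq : G ∈ q.asIdeal.primeCompl := hqG
    refine (cond_iff_condMod R S e n φ hφ q.asIdeal).mpr
      (condMod_of_condT R S e n φ hφ q.asIdeal ⟨?_, ?_⟩ ?_)
    · intro i hi
      refine exT_of_kills q.asIdeal.primeCompl _ G hGq _ _ ((hgk i hi).of_dvd ?_)
      rw [hG]
      exact Dvd.dvd.mul_left (Finset.dvd_prod_of_mem g (Finset.mem_range.mpr (by omega))) gl
    · intro _
      have := exT_of_kills q.asIdeal.primeCompl (Localization.AtPrime q.asIdeal) G hGq _ _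
        (hglk.of_dvd (hG ▸ Dvd.intro _ rfl))
      rwa [hz] at this
    · intro _
      exact (flat_coker_iff q.asIdeal.primeCompl (Localization.AtPrime q.asIdeal) (φ 0)).mp hqU
  · change G ∈ q₀.asIdeal.primeCompl
    rw [hG]
    exact q₀.asIdeal.primeCompl.mul_mem hgl (prod_mem fun i _ => hg i)

end Main

end Groth.Agent.Helper13FibEx
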