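import Mathlib
import Groth.Prelude.Def_EGA4b

set_option autoImplicit false
set_option linter.style.haveILetI false
universe u

open TensorProduct

namespace Groth.Agent.Helper13FibSeq

section

variable {R S : Type u} [CommRing R] [CommRing S] [Algebra R S] (p : Ideal R) [p.IsPrime]

/-- primes of the fibre ring are determined by their contraction to `S`. -/
theorem fiber_prime_ext (Q Q₂ : Ideal (p.Fiber S)) [Q.IsPrime] [Q₂.IsPrime]
    (h : Q.comap (Algebra.TensorProduct.includeRight (R := R) (A := p.ResidueField) (B := S)) =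
      Q₂.comap (Algebra.TensorProduct.includeRight (R := R) (A := p.ResidueField) (B := S))) :
    Q = Q₂ := by
  let e := PrimeSpectrum.preimageEquivFiber R S ⟨p, inferInstance⟩
  have h1 : e.symm ⟨Q, inferInstance⟩ = e.symm ⟨Q₂, inferInstance⟩ := by
    apply Subtype.ext
    apply PrimeSpectrum.ext
    exact h
  have h2 := e.symm.injective h1
  exact congrArg PrimeSpectrum.asIdeal h2

variable (I : Ideal S)

theorem dim_quot_eq' (Q' : Ideal (p.Fiber (S ⧸ I))) [Q'.IsPrime] (Q : Ideal (p.Fiber S)) [Q.IsPrime]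
    (hQQ' : (Q'.comap (Algebra.TensorProduct.includeRight (R := R) (A := p.ResidueField)
        (B := S ⧸ I))).comap (Ideal.Quotient.mk I) =
      Q.comap (Algebra.TensorProduct.includeRight (R := R) (A := p.ResidueField) (B := S))) :
    ringKrullDim (p.Fiber (S ⧸ I) ⧸ Q') = ringKrullDim (p.Fiber S ⧸ Q) := by
  let J : Ideal (p.Fiber S) :=
    I.map (Algebra.TensorProduct.includeRight (R := R) (A := p.ResidueField) (B := S))
  let ψ : p.Fiber (S ⧸ I) ≃ₐ[p.ResidueField] (p.Fiber S ⧸ J) :=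
    Algebra.TensorProduct.tensorQuotientEquiv (R := R) p.ResidueField S p.ResidueField I
  let Qb : Ideal (p.Fiber S ⧸ J) := Q'.comap (ψ.symm : (p.Fiber S ⧸ J) →+* p.Fiber (S ⧸ I))
  haveI : Qb.IsPrime := Ideal.comap_isPrime _ _
  let Q₂ : Ideal (p.Fiber S) := Qb.comap (Ideal.Quotient.mk J)
  haveI : Q₂.IsPrime := Ideal.comap_isPrime _ _
  have hQ₂ : Q₂ = Q := by
    apply fiber_prime_ext p
    rw [← hQQ']
    ext s
    simp only [Ideal.mem_comap, Q₂, Qb]
    have : (ψ.symm : (p.Fiber S ⧸ J) →+* p.Fiber (S ⧸ I)) (Ideal.Quotient.mk J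
        (Algebra.TensorProduct.includeRight (R := R) (A := p.ResidueField) (B := S) s)) =
        Algebra.TensorProduct.includeRight (R := R) (A := p.ResidueField) (B := S ⧸ I)
          (Ideal.Quotient.mk I s) := by
      change ψ.symm (Ideal.Quotient.mk J ((1 : p.ResidueField) ⊗ₜ[R] s)) = _
      exact Algebra.TensorProduct.tensorQuotientEquiv_symm_apply_tmul (R := R) p.ResidueField S
        p.ResidueField I 1 s
    rw [this]
  have hJQ : J ≤ Q := by
    rw [← hQ₂]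
    intro x hx
    change Ideal.Quotient.mk J x ∈ Qb
    rw [Ideal.Quotient.eq_zero_iff_mem.mpr hx]
    exact zero_mem _
  have hQb : Qb = Q.map (Ideal.Quotient.mk J) := by
    rw [← hQ₂, Ideal.map_comap_of_surjective _ Ideal.Quotient.mk_surjective]
  have hQb' : Qb = Q'.map ((ψ.toRingEquiv : p.Fiber (S ⧸ I) ≃+* _) : p.Fiber (S ⧸ I) →+* _) := by
    change Q'.comap ((ψ.toRingEquiv.symm : _ ≃+* _) : (p.Fiber S ⧸ J) →+* p.Fiber (S ⧸ I)) = _
    exact (Ideal.map_comap_of_equiv (ψ.toRingEquiv)).symm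
  let ε₁ : (p.Fiber (S ⧸ I) ⧸ Q') ≃+* ((p.Fiber S ⧸ J) ⧸ Qb) :=
    Ideal.quotientEquiv Q' Qb ψ.toRingEquiv hQb'
  let ε₂ : ((p.Fiber S ⧸ J) ⧸ Qb) ≃+* ((p.Fiber S ⧸ J) ⧸ Q.map (Ideal.Quotient.mk J)) :=
    Ideal.quotEquivOfEq hQb
  let ε₃ : ((p.Fiber S ⧸ J) ⧸ Q.map (Ideal.Quotient.mk J)) ≃+* (p.Fiber S ⧸ Q) :=
    DoubleQuot.quotQuotEquivQuotOfLE hJQ
  exact ringKrullDim_eq_of_ringEquiv (ε₁.trans (ε₂.trans ε₃))

theorem dim_quot_eq (p' : Ideal R) [p'.IsPrime] (hpp' : p' = p)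
    (Q' : Ideal (p'.Fiber (S ⧸ I))) [Q'.IsPrime] (Q : Ideal (p.Fiber S)) [Q.IsPrime]
    (hQQ' : (Q'.comap (Algebra.TensorProduct.includeRight (R := R) (A := p'.ResidueField)
        (B := S ⧸ I))).comap (Ideal.Quotient.mk I) =
      Q.comap (Algebra.TensorProduct.includeRight (R := R) (A := p.ResidueField) (B := S))) :
    ringKrullDim (p'.Fiber (S ⧸ I) ⧸ Q') = ringKrullDim (p.Fiber S ⧸ Q) := by
  subst hpp'
  exact dim_quot_eq' p' I Q' Q hQQ'

end

end Groth.Agent.Helper13FibSeq
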