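import Mathlib
import Groth.Prelude.Def_EGA4b
import Groth.Agent.Lib.Helper13FibSeqC
import Groth.Agent.Lib.Helper13FibSeqD

set_option autoImplicit false
set_option linter.style.haveILetI false
universe u

open TensorProduct

namespace Groth.Agent.Helper13FibSeq

open Groth.Agent.Lib.Helper4.FibDim Groth.Agent.Lib.Helper14.LocalDim Groth.Agent.Lib.Helper28
open RingTheory.Sequence

section

variable (R S : Type u) [CommRing R] [CommRing S] [Algebra R S] [Algebra.FiniteType R S]

theorem algebraMap_mem_maximalIdeal_fibLocRing (q : Ideal S) [q.IsPrime]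
    [IsLocalRing (EGA4.FibLocRing R S q)] (s : S) (hs : s ∈ q) :
    algebraMap S (EGA4.FibLocRing R S q) s ∈ IsLocalRing.maximalIdeal (EGA4.FibLocRing R S q) := by
  let J := (q.comap (algebraMap R S)).map (algebraMap R (Localization.AtPrime q))
  have hmax : ((IsLocalRing.maximalIdeal (EGA4.FibLocRing R S q)).comap
      (Ideal.Quotient.mk J)).IsMaximal :=
    Ideal.comap_isMaximal_of_surjective _ Ideal.Quotient.mk_surjective
  have h1 := IsLocalRing.eq_maximalIdeal hmax
  have h2 : algebraMap S (Localization.AtPrime q) s ∈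
      IsLocalRing.maximalIdeal (Localization.AtPrime q) := by
    rw [← Localization.AtPrime.map_eq_maximalIdeal]
    exact Ideal.mem_map_of_mem _ hs
  rw [← h1] at h2
  exact h2

variable (d : ℕ) (f : List S) (q₁ : PrimeSpectrum (S ⧸ Ideal.ofList f))

/-- the key local equivalence. -/
theorem isRegular_fibLocRing_iff
    (hCM : LocCoh.IsCohenMacaulayRing ((PrimeSpectrum.comap (algebraMap R S)
      (PrimeSpectrum.comap (Ideal.Quotient.mk (Ideal.ofList f)) q₁)).asIdeal.Fiber S))
    (heq : ∀ P ∈ minimalPrimes ((PrimeSpectrum.comap (algebraMap R S)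
      (PrimeSpectrum.comap (Ideal.Quotient.mk (Ideal.ofList f)) q₁)).asIdeal.Fiber S),
      ringKrullDim ((PrimeSpectrum.comap (algebraMap R S)
      (PrimeSpectrum.comap (Ideal.Quotient.mk (Ideal.ofList f)) q₁)).asIdeal.Fiber S ⧸ P) =
        (d : WithBot ℕ∞)) :
    IsRegular (EGA4.FibLocRing R S (PrimeSpectrum.comap (Ideal.Quotient.mk (Ideal.ofList f)) q₁).asIdeal)
        (f.map (algebraMap S (EGA4.FibLocRing R S
          (PrimeSpectrum.comap (Ideal.Quotient.mk (Ideal.ofList f)) q₁).asIdeal))) ↔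
      fibLD (PrimeSpectrum.comap (algebraMap R (S ⧸ Ideal.ofList f))) q₁ + (f.length : WithBot ℕ∞) ≤
        (d : WithBot ℕ∞) := by
  obtain ⟨I, hI⟩ : ∃ I, I = Ideal.ofList f := ⟨_, rfl⟩
  set q := PrimeSpectrum.comap (Ideal.Quotient.mk (Ideal.ofList f)) q₁ with hq
  set p := PrimeSpectrum.comap (algebraMap R S) q with hp
  obtain ⟨Q, h, e, hQ, hh, he, hfib, hdimA, ⟨ε⟩⟩ := fibre_data R S q
  obtain ⟨Q', h', e', hQ', hh', he', hfib', hdimB, -⟩ := fibre_data R (S ⧸ Ideal.ofList f) q₁
  -- e' = e
  have hee : (e' : WithBot ℕ∞) = e := by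
    rw [← he, ← he']
    exact dim_quot_eq p.asIdeal (Ideal.ofList f)
      (PrimeSpectrum.comap (algebraMap R (S ⧸ Ideal.ofList f)) q₁).asIdeal rfl Q'.asIdeal Q.asIdeal
      (by rw [hQ', hQ]; rfl)
  have hee' : e' = e := by exact_mod_cast hee
  -- equidimensionality
  haveI := hCM
  haveI : Algebra.FiniteType p.asIdeal.ResidueField (p.asIdeal.Fiber S) := inferInstance
  have hmax := height_eq_of_isMaximal_of_equidim p.asIdeal.ResidueField (p.asIdeal.Fiber S) d heq
  have hd := height_add_ringKrullDim_quotient_eq_of_forall_isMaximal_height_eq d hmax Q.asIdeal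
  rw [hh, he] at hd
  have hd' : h + e = d := by exact_mod_cast hd
  -- CM
  haveI := hCM.isCohenMacaulayLocalRing_localization Q.asIdeal
  haveI hA : LocCoh.IsCohenMacaulayLocalRing (EGA4.FibLocRing R S q.asIdeal) :=
    isCohenMacaulayLocalRing_of_ringEquiv (R := Localization.AtPrime Q.asIdeal) ε
  have hmem : ∀ y ∈ f.map (algebraMap S (EGA4.FibLocRing R S q.asIdeal)),
      y ∈ IsLocalRing.maximalIdeal (EGA4.FibLocRing R S q.asIdeal) := by
    intro y hy
    obtain ⟨s, hs, rfl⟩ := List.mem_map.mp hy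
    refine algebraMap_mem_maximalIdeal_fibLocRing R S q.asIdeal s ?_
    have : Ideal.Quotient.mk (Ideal.ofList f) s = 0 :=
      Ideal.Quotient.eq_zero_iff_mem.mpr (Ideal.subset_span hs)
    change Ideal.Quotient.mk (Ideal.ofList f) s ∈ q₁.asIdeal
    rw [this]
    exact zero_mem _
  rw [isRegular_iff_dim_le _ hmem]
  have hKrull := dim_le_dim_quot_add_length _ hmem
  rw [← Ideal.map_ofList, List.length_map] at hKrull ⊢
  obtain ⟨ε₂⟩ := nonempty_fibLocRing_quotient_equiv R S (Ideal.ofList f) q₁.asIdeal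
  have hdimB' : ringKrullDim (EGA4.FibLocRing R S q.asIdeal ⧸
      (Ideal.ofList f).map (algebraMap S (EGA4.FibLocRing R S q.asIdeal))) = h' := by
    rw [← hdimB]
    exact (ringKrullDim_eq_of_ringEquiv ε₂).symm
  rw [hdimB', hdimA] at hKrull ⊢
  rw [hfib']
  have hK : h ≤ h' + f.length := by exact_mod_cast hKrull
  constructor
  · intro hle
    have : h' + f.length ≤ h := by exact_mod_cast hle
    have : h' + e' + f.length ≤ d := by omega
    exact_mod_cast this
  · intro hle
    have : h' + e' + f.length ≤ d := by exact_mod_cast hle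
    have : h' + f.length ≤ h := by omega
    exact_mod_cast this

end

end Groth.Agent.Helper13FibSeq
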