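import Mathlib
import Groth.Prelude.Def_EGA4b
import Groth.Agent.Lib.Helper13FibSeqE

set_option autoImplicit false
set_option linter.style.haveILetI false
universe u

open TensorProduct

namespace Groth.Agent.Helper13FibSeq

open Groth.Agent.Lib.Helper4.FibDim

theorem withBot_add_le_iff (x : WithBot ℕ∞) (i d : ℕ) (hx : x ≠ ⊥) :
    x + (i : WithBot ℕ∞) ≤ (d : WithBot ℕ∞) ↔ i ≤ d ∧ x ≤ ((d - i : ℕ) : WithBot ℕ∞) := by
  obtain ⟨y, rfl⟩ := WithBot.ne_bot_iff_exists.mp hx
  induction y using ENat.recTopCoe with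
  | top =>
    constructor
    · intro h
      exfalso
      have h1 : ((⊤ + (i : ℕ∞) : ℕ∞) : WithBot ℕ∞) ≤ ((d : ℕ∞) : WithBot ℕ∞) := by
        rw [WithBot.coe_add]; exact h
      have h2 := WithBot.coe_le_coe.mp h1
      simp at h2
    · rintro ⟨-, h⟩
      exfalso
      have h2 : (⊤ : ℕ∞) ≤ ((d - i : ℕ) : ℕ∞) := WithBot.coe_le_coe.mp h
      simp at h2
  | coe n =>
    constructor
    · intro h
      have h1 : n + i ≤ d := by exact_mod_cast h
      refine ⟨by omega, ?_⟩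
      have : n ≤ d - i := by omega
      exact WithBot.coe_le_coe.mpr (Nat.cast_le.mpr this)
    · rintro ⟨h1, h2⟩
      have h3 : ((n : ℕ∞)) ≤ ((d - i : ℕ) : ℕ∞) := WithBot.coe_le_coe.mp h2
      have : n ≤ d - i := Nat.cast_le.mp h3
      have : n + i ≤ d := by omega
      exact_mod_cast this

section

variable (R S : Type u) [CommRing R] [CommRing S] [Algebra R S] [Algebra.FiniteType R S]

theorem main (d : ℕ)
    (hCM : ∀ p : PrimeSpectrum R, LocCoh.IsCohenMacaulayRing (p.asIdeal.Fiber S))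
    (heq : ∀ p : PrimeSpectrum R, ∀ P ∈ minimalPrimes (p.asIdeal.Fiber S),
      ringKrullDim (p.asIdeal.Fiber S ⧸ P) = (d : WithBot ℕ∞))
    (f : List S) :
    ∃ U : Set (PrimeSpectrum S), IsOpen U ∧ ∀ q : PrimeSpectrum S, Ideal.ofList f ≤ q.asIdeal →
      (q ∈ U ↔ RingTheory.Sequence.IsRegular (EGA4.FibLocRing R S q.asIdeal)
        (f.map (algebraMap S (EGA4.FibLocRing R S q.asIdeal)))) := by
  set c := PrimeSpectrum.comap (Ideal.Quotient.mk (Ideal.ofList f)) with hc
  have hce : Topology.IsClosedEmbedding c :=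
    PrimeSpectrum.isClosedEmbedding_comap_of_surjective _ _ Ideal.Quotient.mk_surjective
  let W : Set (PrimeSpectrum (S ⧸ Ideal.ofList f)) :=
    {q₁ | fibLD (PrimeSpectrum.comap (algebraMap R (S ⧸ Ideal.ofList f))) q₁ +
      (f.length : WithBot ℕ∞) ≤ (d : WithBot ℕ∞)}
  have hne : ∀ q₁ : PrimeSpectrum (S ⧸ Ideal.ofList f),
      fibLD (PrimeSpectrum.comap (algebraMap R (S ⧸ Ideal.ofList f))) q₁ ≠ ⊥ := by
    intro q₁
    obtain ⟨Q', h', e', -, -, -, hfib', -, -⟩ := fibre_data R (S ⧸ Ideal.ofList f) q₁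
    rw [hfib']
    exact WithBot.coe_ne_bot
  have hW : IsOpen W := by
    by_cases hi : f.length ≤ d
    · have : W = {q₁ | fibLD (PrimeSpectrum.comap (algebraMap R (S ⧸ Ideal.ofList f))) q₁ ≤
          ((d - f.length : ℕ) : WithBot ℕ∞)} := by
        ext q₁
        simp only [W, Set.mem_ofPred_eq]
        rw [withBot_add_le_iff _ _ _ (hne q₁)]
        exact ⟨fun h => h.2, fun h => ⟨hi, h⟩⟩
      rw [this]
      exact isOpen_setOf_fibLD_comap_le R (S ⧸ Ideal.ofList f) (d - f.length)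
    · have : W = ∅ := by
        ext q₁
        simp only [W, Set.mem_ofPred_eq, Set.mem_empty_iff_false, iff_false]
        rw [withBot_add_le_iff _ _ _ (hne q₁)]
        exact fun h => hi h.1
      rw [this]
      exact isOpen_empty
  refine ⟨(c '' Wᶜ)ᶜ, (hce.isClosedMap _ hW.isClosed_compl).isOpen_compl, ?_⟩
  intro q hq
  have hqr : q ∈ Set.range c := by
    rw [hc, range_comap_of_surjective _ _ Ideal.Quotient.mk_surjective,
      Ideal.mk_ker]
    exact hq
  obtain ⟨q₁, rfl⟩ := hqr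
  have h1 : c q₁ ∈ (c '' Wᶜ)ᶜ ↔ q₁ ∈ W := by
    constructor
    · intro h
      by_contra hn
      exact h ⟨q₁, hn, rfl⟩
    · rintro h ⟨q₂, hq₂, hq₂e⟩
      exact hq₂ (hce.injective hq₂e ▸ h)
  rw [h1]
  exact (isRegular_fibLocRing_iff R S d f q₁ (hCM _) (heq _)).symm

end

end Groth.Agent.Helper13FibSeq
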