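import Mathlib
import Groth.Prelude.Def_FlatCA

/-!
# helper13: the fibre module `FlatCA.fiberMod p S N = (κ(p) ⊗[R] S) ⊗[S] N`

Element-level description of the fibre module as the localization of `N ⧸ pN` at `R ∖ p`:
* `toFiberMod_eq_zero_iff` : `toFiberMod n = 0 ↔ ∃ t ∉ p, t • n ∈ pS • N`;
* `exists_smul_eq_toFiberMod` : every element of the fibre module is, up to multiplication by some
  `t ∉ p`, in the image of `N`;
* `smul_injective` : elements `t ∉ p` act injectively on the fibre module.
-/

set_option autoImplicit false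
universe u

namespace Groth.Agent.Helper13Fiber

open TensorProduct FlatCA

attribute [local instance] Algebra.TensorProduct.rightAlgebra

variable {R : Type u} [CommRing R] (p : Ideal R) [p.IsPrime] (S : Type u) [CommRing S]
  [Algebra R S] (N : Type u) [AddCommGroup N] [Module S N] [Module R N] [IsScalarTower R S N]

/-- R-level: if `1 ⊗ n = 0` in `κ(p) ⊗[R] N` then `t n ∈ pN` for some `t ∉ p`. -/
theorem exists_smul_mem_of_tmul_eq_zero {N : Type u} [AddCommGroup N] [Module R N] (n : N)
    (h : (1 : p.ResidueField) ⊗ₜ[R] n = 0) :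
    ∃ t ∉ p, t • n ∈ (p • ⊤ : Submodule R N) := by
  set Q := N ⧸ (p • ⊤ : Submodule R N) with hQ
  set π : N →ₗ[R] Q := Submodule.mkQ _ with hπ
  have h1 : (1 : p.ResidueField) ⊗ₜ[R] (π n) = 0 := by
    have := congrArg (LinearMap.lTensor p.ResidueField π) h
    simpa using this
  let g : Localization.AtPrime p →ₗ[R] p.ResidueField :=
    (IsScalarTower.toAlgHom R (Localization.AtPrime p) p.ResidueField).toLinearMap
  let f : IsLocalRing.maximalIdeal (Localization.AtPrime p) →ₗ[R] Localization.AtPrime p :=
    (IsLocalRing.maximalIdeal (Localization.AtPrime p)).subtype.restrictScalars R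
  have hg1 : g 1 = 1 := by simp [g]
  have hfg : Function.Exact f g := by
    intro x
    constructor
    · intro hx
      have : x ∈ IsLocalRing.maximalIdeal (Localization.AtPrime p) := by
        rw [← IsLocalRing.residue_eq_zero_iff]
        exact hx
      exact ⟨⟨x, this⟩, rfl⟩
    · rintro ⟨y, rfl⟩
      exact (IsLocalRing.residue_eq_zero_iff _).mpr y.2
  have hg : Function.Surjective g := IsLocalRing.residue_surjective
  have hex := rTensor_exact Q hfg hg
  have h2 : g.rTensor Q ((1 : Localization.AtPrime p) ⊗ₜ π n) = 0 := by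
    rw [LinearMap.rTensor_tmul, hg1]
    exact h1
  obtain ⟨y, hy⟩ := (hex _).mp h2
  have h3 : ∀ y, f.rTensor Q y = 0 := by
    intro y
    induction y using TensorProduct.induction_on with
    | zero => simp
    | tmul a m =>
      rw [LinearMap.rTensor_tmul]
      obtain ⟨⟨r, s⟩, hrs⟩ := IsLocalization.mk'_surjective p.primeCompl (a : Localization.AtPrime p)
      have hr : r ∈ p := by
        have := a.2
        rw [← hrs, IsLocalization.AtPrime.mk'_mem_maximal_iff (Localization.AtPrime p) p] at this
        exact this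
      have hfa : f a = r • IsLocalization.mk' (Localization.AtPrime p) 1 s := by
        change (a : Localization.AtPrime p) = _
        rw [← hrs, Algebra.smul_def, ← IsLocalization.mk'_one (M := p.primeCompl) (Localization.AtPrime p) r,
          ← IsLocalization.mk'_mul]
        simp
      obtain ⟨m, rfl⟩ := Submodule.mkQ_surjective _ m
      rw [hfa, TensorProduct.smul_tmul]
      have : r • (Submodule.mkQ (p • ⊤ : Submodule R N)) m = 0 := by
        rw [← map_smul, Submodule.mkQ_apply, Submodule.Quotient.mk_eq_zero]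
        exact Submodule.smul_mem_smul hr Submodule.mem_top
      rw [this, tmul_zero]
    | add x y hx hy => simp [hx, hy]
  have h4 : (TensorProduct.mk R (Localization.AtPrime p) Q 1) (π n) = 0 := by
    change (1 : Localization.AtPrime p) ⊗ₜ[R] π n = 0
    rw [← hy, h3]
  obtain ⟨c, hc⟩ := (IsLocalizedModule.eq_zero_iff p.primeCompl
    (TensorProduct.mk R (Localization.AtPrime p) Q 1)).mp h4
  refine ⟨c, c.2, ?_⟩
  rw [← Submodule.Quotient.mk_eq_zero, Submodule.Quotient.mk_smul]
  exact hc


instance : IsScalarTower S (p.Fiber S) (fiberMod p S N) :=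
  inferInstanceAs (IsScalarTower S (p.Fiber S) ((p.Fiber S) ⊗[S] N))

/-- The comparison map from the fibre module to `N ⊗[R] κ(p)`. -/
noncomputable def toTensor : fiberMod p S N →ₗ[S] N ⊗[R] p.ResidueField :=
  (AlgebraTensorModule.cancelBaseChange R S S N p.ResidueField).toLinearMap ∘ₗ
  (TensorProduct.comm S (S ⊗[R] p.ResidueField) N).toLinearMap ∘ₗ
  (show (p.Fiber S) ⊗[S] N →ₗ[S] (S ⊗[R] p.ResidueField) ⊗[S] N from
    LinearMap.rTensor N (Algebra.TensorProduct.commRight R S p.ResidueField).symm.toLinearMap)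

theorem toTensor_toFiberMod (n : N) : toTensor p S N (toFiberMod p S N n) = n ⊗ₜ 1 := by
  change (AlgebraTensorModule.cancelBaseChange R S S N p.ResidueField)
    ((TensorProduct.comm S (S ⊗[R] p.ResidueField) N)
      ((LinearMap.rTensor N (Algebra.TensorProduct.commRight R S p.ResidueField).symm.toLinearMap)
        ((1 : p.Fiber S) ⊗ₜ[S] n))) = _
  rw [LinearMap.rTensor_tmul]
  simp [Algebra.TensorProduct.one_def]

/-- The unit of the fibre ring attached to `t ∉ p`. -/
theorem isUnit_algebraMap {t : R} (ht : t ∉ p) :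
    IsUnit (algebraMap S (p.Fiber S) (algebraMap R S t)) := by
  have h1 : algebraMap S (p.Fiber S) (algebraMap R S t) =
      Algebra.TensorProduct.includeLeft (R := R) (S := R) (A := p.ResidueField) (B := S)
        (algebraMap R p.ResidueField t) := by
    rw [← IsScalarTower.algebraMap_apply R S (p.Fiber S)]
    rfl
  rw [h1]
  apply IsUnit.map
  rw [isUnit_iff_ne_zero, ne_eq, Ideal.algebraMap_residueField_eq_zero]
  exact ht

/-- Elements outside `p` act injectively on the fibre module. -/
theorem smul_injective {t : R} (ht : t ∉ p) (z : fiberMod p S N)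
    (h : algebraMap R S t • z = 0) : z = 0 := by
  rw [← algebraMap_smul (p.Fiber S) (algebraMap R S t) z] at h
  exact (isUnit_algebraMap p S ht).smul_left_cancel.mp (by rw [h, smul_zero])

theorem smul_eq_zero_iff {t : R} (ht : t ∉ p) (z : fiberMod p S N) :
    algebraMap R S t • z = 0 ↔ z = 0 :=
  ⟨smul_injective p S N ht z, fun h => by rw [h, smul_zero]⟩

/-- The extension `pS` acts as zero on the fibre module. -/
theorem algebraMap_eq_zero_of_mem {a : S} (ha : a ∈ p.map (algebraMap R S)) :
    algebraMap S (p.Fiber S) a = 0 := by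
  have : p.map (algebraMap R S) ≤ RingHom.ker (algebraMap S (p.Fiber S)) := by
    rw [Ideal.map_le_iff_le_comap]
    intro r hr
    rw [Ideal.mem_comap, RingHom.mem_ker, ← IsScalarTower.algebraMap_apply R S (p.Fiber S)]
    have : algebraMap R (p.Fiber S) r =
      Algebra.TensorProduct.includeLeft (R := R) (S := R) (A := p.ResidueField) (B := S)
        (algebraMap R p.ResidueField r) := rfl
    rw [this, Ideal.algebraMap_residueField_eq_zero.mpr hr, map_zero]
  exact this ha

theorem toFiberMod_eq_zero_of_mem {n : N} (hn : n ∈ (p.map (algebraMap R S) • ⊤ : Submodule S N)) :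
    toFiberMod p S N n = 0 := by
  refine Submodule.smul_induction_on hn ?_ ?_
  · intro a ha m _
    rw [map_smul, ← algebraMap_smul (p.Fiber S) a, algebraMap_eq_zero_of_mem p S ha, zero_smul]
  · intro x y hx hy
    rw [map_add, hx, hy, add_zero]

theorem toFiberMod_eq_zero_iff (n : N) :
    toFiberMod p S N n = 0 ↔
      ∃ t ∉ p, algebraMap R S t • n ∈ (p.map (algebraMap R S) • ⊤ : Submodule S N) := by
  constructor
  · intro h
    have h1 : n ⊗ₜ[R] (1 : p.ResidueField) = 0 := by
      rw [← toTensor_toFiberMod p S N, h, map_zero]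
    have h2 : (1 : p.ResidueField) ⊗ₜ[R] n = 0 := by
      have := congrArg (TensorProduct.comm R N p.ResidueField) h1
      simpa using this
    obtain ⟨t, ht, htn⟩ := exists_smul_mem_of_tmul_eq_zero p n h2
    refine ⟨t, ht, ?_⟩
    have : (p • ⊤ : Submodule R N) =
        ((p.map (algebraMap R S) • ⊤ : Submodule S N)).restrictScalars R := by
      rw [Ideal.smul_restrictScalars, Submodule.restrictScalars_top]
    rw [this, Submodule.restrictScalars_mem] at htn
    rwa [algebraMap_smul S t n]
  · rintro ⟨t, ht, htn⟩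
    have := toFiberMod_eq_zero_of_mem p S N htn
    rw [map_smul] at this
    exact smul_injective p S N ht _ this

theorem exists_smul_eq_one_tmul (z : (p.Fiber S) ⊗[S] N) :
    ∃ t ∉ p, ∃ n : N, algebraMap R S t • z = (1 : p.Fiber S) ⊗ₜ[S] n := by
  induction z using TensorProduct.induction_on with
  | zero =>
    exact ⟨1, fun h => (Ideal.IsPrime.ne_top inferInstance) ((Ideal.eq_top_iff_one p).mpr h), 0,
      by rw [smul_zero, tmul_zero]⟩
  | tmul f m =>
    obtain ⟨r, hr, s, hs⟩ := Ideal.Fiber.exists_smul_eq_one_tmul p f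
    refine ⟨r, hr, s • m, ?_⟩
    rw [TensorProduct.smul_tmul', algebraMap_smul, hs, ← TensorProduct.smul_tmul]
    congr 1
    rw [Algebra.smul_def, mul_one]
    rfl
  | add x y hx hy =>
    obtain ⟨t₁, ht₁, n₁, h₁⟩ := hx
    obtain ⟨t₂, ht₂, n₂, h₂⟩ := hy
    refine ⟨t₁ * t₂, fun h => (Ideal.IsPrime.mem_or_mem inferInstance h).elim ht₁ ht₂,
      algebraMap R S t₂ • n₁ + algebraMap R S t₁ • n₂, ?_⟩
    rw [tmul_add, tmul_smul, tmul_smul, ← h₁, ← h₂, smul_add, map_mul, smul_smul, smul_smul,
      mul_comm (algebraMap R S t₂)]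

/-- Every element of the fibre module is, up to some `t ∉ p`, in the image of `N`. -/
theorem exists_smul_eq_toFiberMod (z : fiberMod p S N) :
    ∃ t ∉ p, ∃ n : N, algebraMap R S t • z = toFiberMod p S N n :=
  exists_smul_eq_one_tmul p S N z

/-- Every element of the fibre ring is a unit multiple of an element of `S`. -/
theorem exists_isUnit_mul_eq_algebraMap (f : p.Fiber S) :
    ∃ u : p.Fiber S, IsUnit u ∧ ∃ x : S, u * f = algebraMap S (p.Fiber S) x := by
  obtain ⟨r, hr, s, hs⟩ := Ideal.Fiber.exists_smul_eq_one_tmul p f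
  refine ⟨algebraMap S (p.Fiber S) (algebraMap R S r), isUnit_algebraMap p S hr, s, ?_⟩
  rw [← Algebra.smul_def, algebraMap_smul, hs]
  rfl


theorem smul_toFiberMod_eq_zero_iff (x : S) (n : N) :
    x • toFiberMod p S N n = 0 ↔
      ∃ t ∉ p, algebraMap R S t • x • n ∈ (p.map (algebraMap R S) • ⊤ : Submodule S N) := by
  rw [← map_smul, toFiberMod_eq_zero_iff]

/-- R-level: for a flat module, `t n ∈ pN` with `t ∉ p` forces `n ∈ pN`. -/
theorem mem_smul_top_of_smul_mem_of_flat {N : Type u} [AddCommGroup N] [Module R N]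
    [Module.Flat R N] {t : R} (ht : t ∉ p) {n : N}
    (h : t • n ∈ (p • ⊤ : Submodule R N)) : n ∈ (p • ⊤ : Submodule R N) := by
  let μ : (R ⧸ p) →ₗ[R] (R ⧸ p) := LinearMap.lsmul R (R ⧸ p) t
  have hμ : Function.Injective μ := by
    rw [injective_iff_map_eq_zero]
    intro a ha
    obtain ⟨a, rfl⟩ := Ideal.Quotient.mk_surjective a
    change t • (Ideal.Quotient.mk p a) = 0 at ha
    rw [Algebra.smul_def, Ideal.Quotient.algebraMap_eq, ← map_mul,
      Ideal.Quotient.eq_zero_iff_mem] at ha
    rw [Ideal.Quotient.eq_zero_iff_mem]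
    exact (Ideal.IsPrime.mem_or_mem inferInstance ha).resolve_left ht
  have hinj := Module.Flat.rTensor_preserves_injective_linearMap (M := N) μ hμ
  have h1 : μ.rTensor N ((1 : R ⧸ p) ⊗ₜ[R] n) = 0 := by
    rw [LinearMap.rTensor_tmul]
    change (t • (1 : R ⧸ p)) ⊗ₜ[R] n = 0
    rw [TensorProduct.smul_tmul]
    apply (TensorProduct.quotTensorEquivQuotSMul N p).injective
    rw [TensorProduct.quotTensorEquivQuotSMul_mk_one_tmul, map_zero, Submodule.Quotient.mk_eq_zero]
    exact h
  have h2 : (1 : R ⧸ p) ⊗ₜ[R] n = 0 := hinj (by rw [h1, map_zero])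
  have h3 := congrArg (TensorProduct.quotTensorEquivQuotSMul N p) h2
  rw [TensorProduct.quotTensorEquivQuotSMul_mk_one_tmul, map_zero, Submodule.Quotient.mk_eq_zero] at h3
  exact h3

theorem smul_top_eq_restrictScalars :
    (p • ⊤ : Submodule R N) =
        ((p.map (algebraMap R S) • ⊤ : Submodule S N)).restrictScalars R := by
  rw [Ideal.smul_restrictScalars, Submodule.restrictScalars_top]

/-- For `N` flat over `R`, `t n ∈ pS N` with `t ∉ p` forces `n ∈ pS N`. -/
theorem mem_of_smul_mem_of_flat [Module.Flat R N] {t : R} (ht : t ∉ p) {n : N}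
    (h : algebraMap R S t • n ∈ (p.map (algebraMap R S) • ⊤ : Submodule S N)) :
    n ∈ (p.map (algebraMap R S) • ⊤ : Submodule S N) := by
  rw [← Submodule.restrictScalars_mem R, ← smul_top_eq_restrictScalars] at h ⊢
  rw [algebraMap_smul S t n] at h
  exact mem_smul_top_of_smul_mem_of_flat p ht h

theorem toFiberMod_eq_zero_iff_of_flat [Module.Flat R N] (n : N) :
    toFiberMod p S N n = 0 ↔ n ∈ (p.map (algebraMap R S) • ⊤ : Submodule S N) := by
  rw [toFiberMod_eq_zero_iff]
  constructor
  · rintro ⟨t, ht, h⟩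
    exact mem_of_smul_mem_of_flat p S N ht h
  · intro h
    exact ⟨1, fun h1 => (Ideal.IsPrime.ne_top inferInstance) ((Ideal.eq_top_iff_one p).mpr h1),
      by rw [map_one, one_smul]; exact h⟩

end Groth.Agent.Helper13Fiber
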