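import Mathlib
import Groth.Agent.Lib.Helper13FinPartA

/-!
# Splitting off the finite part over a Henselian pair for finite type algebras (helper13)

`span_good_sup_eq_top`: for `E` of finite type over `A` with `E/IE` finite, ZMT-good elements and `IE`
generate the unit ideal.  `exists_idem_finite_part'`: `(A, I)` Henselian, `E` of finite type, `E/IE`
finite `⟹` idempotent `e` with `1 - e ∈ IE` and `E/(1-e)` finite over `A`.
-/

set_option autoImplicit false
set_option linter.style.haveILetI false
universe u

namespace Groth.Agent.Helper13FinPart

open Groth.Agent.Lib.Helper26.HenselEtale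

variable {A E : Type u} [CommRing A] [CommRing E] [Algebra A E]

/-- If `E` is of finite type over `A` and `E/IE` is finite over `A`, then the ZMT-good elements
together with `IE` generate the unit ideal (every prime containing `IE` is quasi-finite). -/
theorem span_good_sup_eq_top (I : Ideal A) [Algebra.FiniteType A E]
    [hfin : Module.Finite A (E ⧸ I.map (algebraMap A E))] :
    Ideal.span {r : E | Good A r} ⊔ I.map (algebraMap A E) = ⊤ := by
  by_contra hne
  obtain ⟨m, hm, hle⟩ := Ideal.exists_le_maximal _ hne
  haveI : m.IsPrime := hm.isPrime
  have hIm : I.map (algebraMap A E) ≤ m := le_sup_right.trans hle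
  have hIp : I ≤ m.under A := Ideal.map_le_iff_le_comap.mp hIm
  have hle2 : I.map (algebraMap A E) ≤ (m.under A).map (algebraMap A E) := Ideal.map_mono hIp
  haveI : Module.Finite A (E ⧸ (m.under A).map (algebraMap A E)) :=
    Module.Finite.of_surjective (Ideal.Quotient.factorₐ A hle2).toLinearMap
      (Ideal.Quotient.factor_surjective hle2)
  haveI : Algebra.WeaklyQuasiFiniteAt A m := by
    change Algebra.QuasiFinite A (Localization.AtPrime _)
    infer_instance
  obtain ⟨r, hrm, hr1, hr2⟩ := Algebra.zariskisMainProperty_iff.mp
    (Algebra.ZariskisMainProperty.of_finiteType_of_weaklyQuasiFiniteAt (R := A) m)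
  exact hrm (hle (Submodule.mem_sup_left (Ideal.subset_span ⟨hr1, hr2⟩)))

/-- **Splitting off the finite part** over a Henselian pair, for finite type algebras with
`E/IE` finite. -/
theorem exists_idem_finite_part' (I : Ideal A) [HenselianRing A I] [Algebra.FiniteType A E]
    [Module.Finite A (E ⧸ I.map (algebraMap A E))] :
    ∃ e : E, IsIdempotentElem e ∧ 1 - e ∈ I.map (algebraMap A E) ∧
      Module.Finite A (E ⧸ Ideal.span {1 - e}) :=
  exists_idem_finite_part I (span_good_sup_eq_top I)

end Groth.Agent.Helper13FinPart
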