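import Mathlib
import Groth.Agent.Lib.Helper26PairHzHens

/-!
# Étale neighbourhoods `A'` of `(A, I)` and `A' ⊗ B` modulo `I` (helper13)

`exists_sigma_Hz` (retraction `Hz A I → A/I`), `exists_sub_one_tmul_mem`, `exists_psi`
(`A' ⊗ B → B/IB`), `mem_of_psi_eq_zero` (its kernel is `I (A' ⊗ B)`).
-/

set_option autoImplicit false
set_option linter.style.haveILetI false
universe u

open TensorProduct

namespace Groth.Agent.Helper13FinPart

open Groth.Agent.Lib.Helper26.PairHz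

variable {A : Type u} [CommRing A] (I : Ideal A)

/-- the zero ideal is Henselian. -/
theorem henselianRing_bot (D : Type*) [CommRing D] : HenselianRing D (⊥ : Ideal D) where
  jac := bot_le
  is_henselian f _ a₀ h₁ _ := by
    rw [Ideal.mem_bot] at h₁
    exact ⟨a₀, h₁, by simp⟩

/-- `I` kills `B/IB`. -/
theorem map_quotient_eq_bot (B : Type*) [CommRing B] [Algebra A B] :
    I.map (algebraMap A (B ⧸ I.map (algebraMap A B))) = ⊥ := by
  rw [IsScalarTower.algebraMap_eq A B (B ⧸ I.map (algebraMap A B)), ← Ideal.map_map,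
    Ideal.Quotient.algebraMap_eq, Ideal.map_quotient_self]

/-- an `A`-algebra map to `B/IB` kills `IT`. -/
theorem algHom_eq_zero_of_mem {T B : Type*} [CommRing T] [Algebra A T] [CommRing B] [Algebra A B]
    (ψ : T →ₐ[A] B ⧸ I.map (algebraMap A B)) {x : T} (hx : x ∈ I.map (algebraMap A T)) :
    ψ x = 0 := by
  have h1 := map_mem_map I ψ hx
  rwa [map_quotient_eq_bot, Ideal.mem_bot] at h1

/-- The retraction `Hz A I → A/I`. -/
theorem exists_sigma_Hz : Nonempty (Hz A I →ₐ[A] A ⧸ I) := by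
  obtain ⟨G, hG, -⟩ := universal_Hz (A := A) (I := I) (A ⧸ I) ⊥ (Ideal.Quotient.mk I)
    (henselianRing_bot _) (by rw [Ideal.map_quotient_self])
  exact ⟨AlgHom.mk G (fun a => congrArg (fun k : A →+* A ⧸ I => k a) hG)⟩

variable {I}

/-- Modulo `I`, every element of `A' ⊗ B` comes from `B`. -/
theorem exists_sub_one_tmul_mem {A' : Type u} [CommRing A'] [Algebra A A'] (hN : IsNbhd I A')
    (B : Type u) [CommRing B] [Algebra A B] (x : A' ⊗[A] B) :
    ∃ b : B, x - 1 ⊗ₜ[A] b ∈ I.map (algebraMap A (A' ⊗[A] B)) := by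
  induction x using TensorProduct.induction_on with
  | zero => exact ⟨0, by simp⟩
  | tmul c b =>
    obtain ⟨a, ha⟩ := hN.surj c
    refine ⟨a • b, ?_⟩
    have h1 : c ⊗ₜ[A] b - 1 ⊗ₜ[A] (a • b) =
        (Algebra.TensorProduct.includeLeft (R := A) (S := A) (A := A') (B := B))
          (c - algebraMap A A' a) * (1 ⊗ₜ[A] b) := by
      rw [Algebra.TensorProduct.includeLeft_apply, Algebra.TensorProduct.tmul_mul_tmul, mul_one,
        one_mul, TensorProduct.sub_tmul, Algebra.algebraMap_eq_smul_one, TensorProduct.smul_tmul]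
    rw [h1]
    exact Ideal.mul_mem_right _ _ (map_mem_map I _ ha)
  | add x y hx hy =>
    obtain ⟨a, ha⟩ := hx
    obtain ⟨b, hb⟩ := hy
    refine ⟨a + b, ?_⟩
    have : x + y - 1 ⊗ₜ[A] (a + b) = (x - 1 ⊗ₜ[A] a) + (y - 1 ⊗ₜ[A] b) := by
      rw [TensorProduct.tmul_add]; ring
    rw [this]
    exact Ideal.add_mem _ ha hb

/-- The canonical map `A' ⊗ B → B/IB` for a neighbourhood (or any algebra with a retraction to
`A/I`). -/
theorem exists_psi {A' : Type u} [CommRing A'] [Algebra A A'] (σ : A' →ₐ[A] A ⧸ I)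
    (B : Type u) [CommRing B] [Algebra A B] :
    ∃ ψ : A' ⊗[A] B →ₐ[A] B ⧸ I.map (algebraMap A B),
      ∀ b : B, ψ (1 ⊗ₜ[A] b) = Ideal.Quotient.mk _ b := by
  let q : (A ⧸ I) →ₐ[A] B ⧸ I.map (algebraMap A B) :=
    Ideal.quotientMapₐ (I.map (algebraMap A B)) (Algebra.ofId A B) Ideal.le_comap_map
  refine ⟨Algebra.TensorProduct.lift (q.comp σ) (Ideal.Quotient.mkₐ A _)
    (fun _ _ => Commute.all _ _), fun b => ?_⟩
  rw [Algebra.TensorProduct.lift_tmul, map_one, one_mul]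
  rfl

/-- The kernel of such a map is `I (A' ⊗ B)`. -/
theorem mem_of_psi_eq_zero {A' : Type u} [CommRing A'] [Algebra A A'] (hN : IsNbhd I A')
    (B : Type u) [CommRing B] [Algebra A B]
    (ψ : A' ⊗[A] B →ₐ[A] B ⧸ I.map (algebraMap A B))
    (hψ : ∀ b : B, ψ (1 ⊗ₜ[A] b) = Ideal.Quotient.mk _ b) (x : A' ⊗[A] B) (hx : ψ x = 0) :
    x ∈ I.map (algebraMap A (A' ⊗[A] B)) := by
  obtain ⟨b, hb⟩ := exists_sub_one_tmul_mem hN B x
  have h1 : ψ (x - 1 ⊗ₜ[A] b) = 0 := algHom_eq_zero_of_mem I ψ hb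
  rw [map_sub, hx, zero_sub, neg_eq_zero, hψ, Ideal.Quotient.eq_zero_iff_mem] at h1
  have h2 : (1 : A') ⊗ₜ[A] b ∈ I.map (algebraMap A (A' ⊗[A] B)) :=
    map_mem_map I (Algebra.TensorProduct.includeRight (R := A) (A := A') (B := B)) h1
  have : x = (x - 1 ⊗ₜ[A] b) + 1 ⊗ₜ[A] b := by ring
  rw [this]
  exact Ideal.add_mem _ hb h2

end Groth.Agent.Helper13FinPart
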