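import Mathlib
import Groth.Agent.Lib.Helper18ColimSys

set_option autoImplicit false
set_option linter.style.haveILetI false
set_option linter.unusedSectionVars false
universe u

namespace Groth.Agent.Lib.Helper18ColimSys2
open TensorProduct Groth.Agent.Lib.Helper18ColimSys

section
variable {R : Type u} [CommRing R] {ι : Type u} {G : ι → Type u} [∀ i, CommRing (G i)]
    [∀ i, Algebra R (G i)] {A : Type u} [CommRing A] [Algebra R A] {g : ∀ i, G i →ₐ[R] A}

theorem core_surjective (hS : Sys R G A g) (C : Type u) [CommRing C] [Algebra R C]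
    [Algebra.FiniteType R C] (h : Function.Surjective (algebraMap A (A ⊗[R] C))) :
    ∃ i, Function.Surjective (algebraMap (G i) (G i ⊗[R] C)) := by
  classical
  obtain ⟨s, hs⟩ := (Algebra.FiniteType.out : (⊤ : Subalgebra R C).FG)
  choose a ha using fun c : C => h (1 ⊗ₜ c)
  obtain ⟨i₀⟩ := hS.nonempty
  obtain ⟨i, -, -, x, hx⟩ := hS.lift_fun i₀ (fun c : s => a c)
  obtain ⟨j, φ, hφ, hk⟩ := hS.alg_kill C i
    (Finset.univ.image fun c : s => (1 : G i) ⊗ₜ[R] (c : C) - x c ⊗ₜ 1) (by
    intro z hz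
    obtain ⟨c, -, rfl⟩ := Finset.mem_image.mp hz
    simp only [map_sub, Algebra.TensorProduct.map_tmul, map_one, AlgHom.coe_id, id_eq, hx]
    rw [← ha c, Algebra.TensorProduct.algebraMap_apply, Algebra.algebraMap_self, RingHom.id_apply,
      sub_self])
  refine ⟨j, ?_⟩
  have hQ : (⊥ : Subalgebra (G j) (G j ⊗[R] C)) = ⊤ :=
    eq_top_of_includeRight_mem (s : Set C) hs ⊥ (by
      intro c hc
      have := hk _ (Finset.mem_image_of_mem _ (Finset.mem_univ ⟨c, hc⟩))
      simp only [map_sub, Algebra.TensorProduct.map_tmul, map_one, AlgHom.coe_id, id_eq,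
        sub_eq_zero] at this
      rw [this, Algebra.mem_bot]
      exact ⟨φ (x ⟨c, hc⟩), by
        rw [Algebra.TensorProduct.algebraMap_apply, Algebra.algebraMap_self, RingHom.id_apply]⟩)
  intro z
  have : z ∈ (⊥ : Subalgebra (G j) (G j ⊗[R] C)) := hQ ▸ Algebra.mem_top
  exact Algebra.mem_bot.mp this

end

theorem exists_monic_lift {S T : Type*} [CommRing S] [CommRing T] (f : S →+* T)
    (p : Polynomial T) (hp : p.Monic) (x : ℕ → S)
    (hx : ∀ e, e < p.natDegree → f (x e) = p.coeff e) :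
    ∃ q : Polynomial S, q.Monic ∧ q.map f = p := by
  refine ⟨Polynomial.X ^ p.natDegree +
    ∑ e : Fin p.natDegree, Polynomial.C (x e) * Polynomial.X ^ (e : ℕ),
    Polynomial.monic_X_pow_add (Polynomial.degree_sum_fin_lt _), ?_⟩
  conv_rhs => rw [hp.as_sum, Finset.sum_range]
  simp only [Polynomial.map_add, Polynomial.map_pow, Polynomial.map_X, Polynomial.map_sum,
    Polynomial.map_mul, Polynomial.map_C]
  congr 1
  refine Finset.sum_congr rfl fun e _ => ?_
  rw [hx e e.2]

section
variable {R : Type u} [CommRing R] {ι : Type u} {G : ι → Type u} [∀ i, CommRing (G i)]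
    [∀ i, Algebra R (G i)] {A : Type u} [CommRing A] [Algebra R A] {g : ∀ i, G i →ₐ[R] A}

theorem map_eval₂ {S S' C : Type*} [CommRing S] [Algebra R S] [CommRing S'] [Algebra R S']
    [CommRing C] [Algebra R C] (φ : S →ₐ[R] S') (q : Polynomial S) (z : S ⊗[R] C) :
    Algebra.TensorProduct.map φ (AlgHom.id R C) (Polynomial.eval₂ (algebraMap S (S ⊗[R] C)) z q) =
      Polynomial.eval₂ (algebraMap S' (S' ⊗[R] C))
        (Algebra.TensorProduct.map φ (AlgHom.id R C) z) (q.map (φ : S →+* S')) := by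
  rw [Polynomial.eval₂_map]
  have := Polynomial.hom_eval₂ q (algebraMap S (S ⊗[R] C))
    (Algebra.TensorProduct.map φ (AlgHom.id R C) : S ⊗[R] C →+* S' ⊗[R] C) z
  rw [RingHom.coe_coe] at this
  rw [this]
  congr 1

theorem core_finite (hS : Sys R G A g) (C : Type u) [CommRing C] [Algebra R C]
    [Algebra.FiniteType R C] (h : Module.Finite A (A ⊗[R] C)) :
    ∃ i, Module.Finite (G i) (G i ⊗[R] C) := by
  classical
  obtain ⟨s, hs⟩ := (Algebra.FiniteType.out : (⊤ : Subalgebra R C).FG)
  have hint : ∀ c : C, IsIntegral A ((1 : A) ⊗ₜ[R] c) := fun c => Algebra.IsIntegral.isIntegral _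
  choose p hpm hp using hint
  obtain ⟨i₀⟩ := hS.nonempty
  obtain ⟨i, -, -, x, hx⟩ := hS.lift_fun i₀
    (fun k : (c : s) × Fin (p c).natDegree => (p k.1).coeff k.2)
  have hq : ∀ c : s, ∃ q : Polynomial (G i), q.Monic ∧ q.map (g i : G i →+* A) = p c := by
    intro c
    refine exists_monic_lift (g i : G i →+* A) (p c) (hpm c)
      (fun e => if he : e < (p c).natDegree then x ⟨c, ⟨e, he⟩⟩ else 0) ?_
    intro e he
    rw [dif_pos he]
    exact hx ⟨c, ⟨e, he⟩⟩
  choose q hqm hq using hq
  obtain ⟨j, φ, hφ, hk⟩ := hS.alg_kill C i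
    (Finset.univ.image fun c : s =>
      Polynomial.eval₂ (algebraMap (G i) (G i ⊗[R] C)) ((1 : G i) ⊗ₜ[R] (c : C)) (q c)) (by
    intro z hz
    obtain ⟨c, -, rfl⟩ := Finset.mem_image.mp hz
    rw [map_eval₂, hq]
    simpa using hp c)
  refine ⟨j, ?_⟩
  have hQ : integralClosure (G j) (G j ⊗[R] C) = ⊤ :=
    eq_top_of_includeRight_mem (s : Set C) hs _ (by
      intro c hc
      have := hk _ (Finset.mem_image_of_mem _ (Finset.mem_univ ⟨c, hc⟩))
      rw [map_eval₂] at this
      refine ⟨(q ⟨c, hc⟩).map (φ : G i →+* G j), (hqm _).map _, ?_⟩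
      simpa using this)
  haveI : Algebra.IsIntegral (G j) (G j ⊗[R] C) := integralClosure_eq_top_iff.mp hQ
  exact Algebra.IsIntegral.finite

end


section Unramified

attribute [local instance] Algebra.TensorProduct.rightAlgebra

theorem D_one_tmul_eq_zero_iff {R : Type*} [CommRing R] (S C : Type*) [CommRing S] [Algebra R S]
    [CommRing C] [Algebra R C] (c : C) :
    KaehlerDifferential.D S (S ⊗[R] C) ((1 : S) ⊗ₜ[R] c) = 0 ↔
      (1 : S) ⊗ₜ[R] KaehlerDifferential.D R C c = 0 := by
  have h1 : KaehlerDifferential.tensorKaehlerEquivBase R S C (S ⊗[R] C)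
      ((1 : S) ⊗ₜ[R] KaehlerDifferential.D R C c) =
      KaehlerDifferential.D S (S ⊗[R] C) ((1 : S) ⊗ₜ[R] c) := by
    rw [KaehlerDifferential.tensorKaehlerEquivBase_tmul, one_smul, KaehlerDifferential.map_D,
      Algebra.TensorProduct.right_algebraMap_apply]
  rw [← h1, LinearEquiv.map_eq_zero_iff]

/-- the subalgebra of constants of the universal derivation -/
def kerD (S B : Type*) [CommRing S] [CommRing B] [Algebra S B] : Subalgebra S B where
  carrier := {b | KaehlerDifferential.D S B b = 0}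
  mul_mem' := by
    intro a b ha hb
    simp only [Set.mem_ofPred_eq] at *
    rw [Derivation.leibniz, ha, hb, smul_zero, smul_zero, add_zero]
  add_mem' := by
    intro a b ha hb
    simp only [Set.mem_ofPred_eq] at *
    rw [map_add, ha, hb, add_zero]
  algebraMap_mem' := fun r => Derivation.map_algebraMap _ r
  one_mem' := Derivation.map_one_eq_zero _
  zero_mem' := map_zero _

theorem formallyUnramified_of_kerD_eq_top (S B : Type*) [CommRing S] [CommRing B] [Algebra S B]
    (h : kerD S B = ⊤) : Algebra.FormallyUnramified S B := by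
  refine ⟨subsingleton_of_forall_eq 0 fun ω => ?_⟩
  have hω : ω ∈ Submodule.span B (Set.range (KaehlerDifferential.D S B)) := by
    rw [KaehlerDifferential.span_range_derivation]; trivial
  have hle : Submodule.span B (Set.range (KaehlerDifferential.D S B)) ≤ ⊥ := by
    rw [Submodule.span_le]
    rintro _ ⟨b, rfl⟩
    have : b ∈ kerD S B := h ▸ Algebra.mem_top
    exact this
  exact (Submodule.mem_bot B).mp (hle hω)

variable {R : Type u} [CommRing R] {ι : Type u} {G : ι → Type u} [∀ i, CommRing (G i)]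
    [∀ i, Algebra R (G i)] {A : Type u} [CommRing A] [Algebra R A] {g : ∀ i, G i →ₐ[R] A}

theorem core_unramified (hS : Sys R G A g) (C : Type u) [CommRing C] [Algebra R C]
    [Algebra.FiniteType R C] (h : Algebra.FormallyUnramified A (A ⊗[R] C)) :
    ∃ i, ∀ j (_ : G i →ₐ[R] G j), Algebra.FormallyUnramified (G j) (G j ⊗[R] C) := by
  classical
  obtain ⟨s, hs⟩ := (Algebra.FiniteType.out : (⊤ : Subalgebra R C).FG)
  obtain ⟨i₀⟩ := hS.nonempty
  obtain ⟨i, φ₀, -, hk⟩ := hS.tensor_kill_left_finset Ω[C⁄R] i₀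
    (s.image fun c => (1 : G i₀) ⊗ₜ[R] KaehlerDifferential.D R C c) (by
    intro z hz
    obtain ⟨c, -, rfl⟩ := Finset.mem_image.mp hz
    rw [LinearMap.rTensor_tmul, AlgHom.toLinearMap_apply, map_one,
      ← D_one_tmul_eq_zero_iff]
    exact Subsingleton.elim _ _)
  refine ⟨i, fun j φ => ?_⟩
  apply formallyUnramified_of_kerD_eq_top
  apply eq_top_of_includeRight_mem (s : Set C) hs
  intro c hc
  change KaehlerDifferential.D (G j) (G j ⊗[R] C) ((1 : G j) ⊗ₜ[R] c) = 0
  rw [D_one_tmul_eq_zero_iff]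
  have := hk _ (Finset.mem_image_of_mem _ hc)
  rw [LinearMap.rTensor_tmul, AlgHom.toLinearMap_apply, map_one] at this
  have h2 := congr(φ.toLinearMap.rTensor Ω[C⁄R] $this)
  rwa [LinearMap.rTensor_tmul, AlgHom.toLinearMap_apply, map_one, map_zero] at h2

end Unramified

section Bijective
variable {R : Type u} [CommRing R] {ι : Type u} {G : ι → Type u} [∀ i, CommRing (G i)]
    [∀ i, Algebra R (G i)] {A : Type u} [CommRing A] [Algebra R A] {g : ∀ i, G i →ₐ[R] A}

theorem core_bijective (hS : Sys R G A g) (C : Type u) [CommRing C] [Algebra R C]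
    [Algebra.FinitePresentation R C] (h : Function.Bijective (algebraMap A (A ⊗[R] C))) :
    ∃ i, Function.Bijective (algebraMap (G i) (G i ⊗[R] C)) := by
  classical
  haveI : Algebra.FiniteType R C := Algebra.FiniteType.of_finitePresentation
  obtain ⟨s, hs⟩ := (Algebra.FiniteType.out : (⊤ : Subalgebra R C).FG)
  let e : A ≃ₐ[A] A ⊗[R] C := AlgEquiv.ofBijective (Algebra.ofId A _) h
  let ρA : C →ₐ[R] A := (e.symm.toAlgHom.restrictScalars R).comp
    (Algebra.TensorProduct.includeRight : C →ₐ[R] A ⊗[R] C)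
  have hρA : ∀ c, ρA c ⊗ₜ[R] (1 : C) = (1 : A) ⊗ₜ[R] c := by
    intro c
    have : e (ρA c) = (1 : A) ⊗ₜ[R] c := by
      simp [ρA]
    rw [← this]
    simp [e, Algebra.ofId_apply, Algebra.TensorProduct.algebraMap_apply]
  obtain ⟨j, ρj, hρj⟩ := hS.lift_algHom C ρA
  obtain ⟨l, ψ, hψ, hk⟩ := hS.alg_kill C j
    (s.image fun c => (1 : G j) ⊗ₜ[R] c - ρj c ⊗ₜ 1) (by
    intro z hz
    obtain ⟨c, -, rfl⟩ := Finset.mem_image.mp hz
    simp only [map_sub, Algebra.TensorProduct.map_tmul, map_one, AlgHom.coe_id, id_eq]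
    rw [← AlgHom.comp_apply, hρj, hρA, sub_self])
  refine ⟨l, ?_, ?_⟩
  · let σ : G l ⊗[R] C →ₐ[G l] G l :=
      Algebra.TensorProduct.lift (AlgHom.id (G l) (G l)) (ψ.comp ρj) (fun _ _ => Commute.all _ _)
    have : Function.LeftInverse σ (algebraMap (G l) (G l ⊗[R] C)) := by
      intro x
      simp [σ, Algebra.TensorProduct.algebraMap_apply]
    exact this.injective
  · have hQ : (⊥ : Subalgebra (G l) (G l ⊗[R] C)) = ⊤ :=
      eq_top_of_includeRight_mem (s : Set C) hs ⊥ (by
        intro c hc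
        have := hk _ (Finset.mem_image_of_mem _ hc)
        simp only [map_sub, Algebra.TensorProduct.map_tmul, map_one, AlgHom.coe_id, id_eq,
          sub_eq_zero] at this
        rw [this, Algebra.mem_bot]
        exact ⟨ψ (ρj c), by
          rw [Algebra.TensorProduct.algebraMap_apply, Algebra.algebraMap_self, RingHom.id_apply]⟩)
    intro z
    have : z ∈ (⊥ : Subalgebra (G l) (G l ⊗[R] C)) := hQ ▸ Algebra.mem_top
    exact Algebra.mem_bot.mp this

end Bijective

end Groth.Agent.Lib.Helper18ColimSys2
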