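import Mathlib
import Groth.Agent.Lib.Helper13FinPartB
import Groth.Agent.Lib.Helper13FinPartC
import Groth.Agent.Lib.Helper18ColimSys2

/-!
# Descending the finite part from the henselization to an étale neighbourhood (helper13)

`exists_stage`: `B` of finite type over `A` with `B/IB` finite: there are an (indexed) étale
neighbourhood `j.C` of `(A, I)` and an idempotent `x ∈ j.C ⊗ B` with `1 - x ∈ I (j.C ⊗ B)` and
`(j.C ⊗ B)/(1 - x)` finite over `j.C`.
-/

set_option autoImplicit false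
set_option linter.style.haveILetI false
universe u

open TensorProduct

namespace Groth.Agent.Helper13FinPart

open Groth.Agent.Lib.Helper26.PairHz Groth.Agent.Lib.Helper18ColimSys
  Groth.Agent.Lib.Helper18ColimSys2

variable {A : Type u} [CommRing A] (I : Ideal A) (B : Type u) [CommRing B] [Algebra A B]

/-- finiteness of `(H ⊗ B)/I(H ⊗ B)` over `H`. -/
theorem finite_baseChange_quotient (H : Type u) [CommRing H] [Algebra A H]
    [hfin : Module.Finite A (B ⧸ I.map (algebraMap A B))] :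
    Module.Finite H
      ((H ⊗[A] B) ⧸ (I.map (algebraMap A H)).map (algebraMap H (H ⊗[A] B))) := by
  set IE := (I.map (algebraMap A H)).map (algebraMap H (H ⊗[A] B)) with hIE
  have hIE' : IE = I.map (algebraMap A (H ⊗[A] B)) := map_map_tower I
  let f : B →ₐ[A] (H ⊗[A] B) ⧸ IE :=
    (Ideal.Quotient.mkₐ A IE).comp Algebra.TensorProduct.includeRight
  have hf : ∀ b ∈ I.map (algebraMap A B), f b = 0 := by
    intro b hb
    have := map_mem_map I (Algebra.TensorProduct.includeRight (R := A) (A := H) (B := B)) hb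
    change Ideal.Quotient.mk IE _ = 0
    rw [Ideal.Quotient.eq_zero_iff_mem, hIE']
    exact this
  let fbar : (B ⧸ I.map (algebraMap A B)) →ₐ[A] (H ⊗[A] B) ⧸ IE :=
    Ideal.Quotient.liftₐ _ f hf
  let g : H ⊗[A] (B ⧸ I.map (algebraMap A B)) →ₗ[H] (H ⊗[A] B) ⧸ IE :=
    LinearMap.liftBaseChange H fbar.toLinearMap
  refine Module.Finite.of_surjective g ?_
  intro z
  obtain ⟨t, rfl⟩ := Ideal.Quotient.mk_surjective z
  induction t using TensorProduct.induction_on with
  | zero => exact ⟨0, by simp⟩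
  | tmul h b =>
    refine ⟨h ⊗ₜ (Ideal.Quotient.mk _ b), ?_⟩
    rw [LinearMap.liftBaseChange_tmul]
    change h • Ideal.Quotient.mk IE ((1 : H) ⊗ₜ[A] b) = _
    rw [← Ideal.Quotient.mkₐ_eq_mk H, ← map_smul, TensorProduct.smul_tmul', smul_eq_mul, mul_one]
  | add x y hx hy =>
    obtain ⟨a, ha⟩ := hx
    obtain ⟨b, hb⟩ := hy
    exact ⟨a + b, by rw [map_add, ha, hb, map_add]⟩


/-- **Descent to a stage**: an étale neighbourhood `j.C` of `(A, I)` and an idempotent
`x ∈ j.C ⊗ B` with `1 - x ∈ I (j.C ⊗ B)` and `(j.C ⊗ B)/(1 - x)` finite over `j.C`. -/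
theorem exists_stage [Algebra.FiniteType A B]
    [hfin : Module.Finite A (B ⧸ I.map (algebraMap A B))] :
    ∃ (j : Idx A I) (x : j.C ⊗[A] B), IsIdempotentElem x ∧
      1 - x ∈ I.map (algebraMap A (j.C ⊗[A] B)) ∧
      Module.Finite j.C ((j.C ⊗[A] B) ⧸ Ideal.span {1 - x}) := by
  classical
  let H := Hz A I
  let E₀ := H ⊗[A] B
  haveI : HenselianRing H (I.map (algebraMap A H)) := henselianRing_Hz
  haveI : Module.Finite H (E₀ ⧸ (I.map (algebraMap A H)).map (algebraMap H E₀)) :=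
    finite_baseChange_quotient I B H
  obtain ⟨e, he, h1e, hfinE⟩ :=
    exists_idem_finite_part' (A := H) (E := E₀) (I.map (algebraMap A H))
  have h1e' : 1 - e ∈ I.map (algebraMap A E₀) := by
    have := map_map_tower (A := A) I (C := H) (D := E₀)
    rwa [this] at h1e
  obtain ⟨s, hs⟩ := (Algebra.FiniteType.out : (⊤ : Subalgebra A B).FG)
  haveI := hfinE
  have hint : ∀ b : B, ∃ p : Polynomial H, p.Monic ∧
      e * Polynomial.eval₂ (algebraMap H E₀) ((1 : H) ⊗ₜ[A] b) p = 0 := by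
    intro b
    have hb : IsIntegral H (Ideal.Quotient.mk (Ideal.span {1 - e}) ((1 : H) ⊗ₜ[A] b)) :=
      Algebra.IsIntegral.isIntegral _
    obtain ⟨p, hp, hp0⟩ := hb
    refine ⟨p, hp, ?_⟩
    have h2 : Ideal.Quotient.mk (Ideal.span {1 - e})
        (Polynomial.eval₂ (algebraMap H E₀) ((1 : H) ⊗ₜ[A] b) p) = 0 := by
      rw [Polynomial.hom_eval₂]
      exact hp0
    rw [Ideal.Quotient.eq_zero_iff_mem, Ideal.mem_span_singleton'] at h2
    obtain ⟨w, hw⟩ := h2
    rw [← hw]
    calc e * (w * (1 - e)) = w * (e - e * e) := by ring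
      _ = 0 := by rw [he.eq, sub_self, mul_zero]
  choose p hpm hp using hint
  have S := (sys (A := A) (I := I)).tensorRight B
  obtain ⟨i₁, x₁, hx₁⟩ := S.surj e
  obtain ⟨i₂, φ₂, hφ₂, c, hc⟩ := (sys (A := A) (I := I)).lift_fun i₁
    (fun k : (b : s) × Fin (p b).natDegree => (p k.1).coeff k.2)
  have hq : ∀ b : s, ∃ q : Polynomial i₂.C, q.Monic ∧ q.map (ofC i₂ : i₂.C →+* H) = p b := by
    intro b
    refine exists_monic_lift (ofC i₂ : i₂.C →+* H) (p b) (hpm b)
      (fun e => if he : e < (p b).natDegree then c ⟨b, ⟨e, he⟩⟩ else 0) ?_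
    intro e he
    rw [dif_pos he]
    exact hc ⟨b, ⟨e, he⟩⟩
  choose q hqm hq using hq
  set x₂ := Algebra.TensorProduct.map φ₂ (AlgHom.id A B) x₁ with hx₂def
  have hx₂ : Algebra.TensorProduct.map (ofC i₂) (AlgHom.id A B) x₂ = e := by
    rw [hx₂def, ← AlgHom.comp_apply, ← Algebra.TensorProduct.map_comp, hφ₂, AlgHom.comp_id]
    exact hx₁
  obtain ⟨j, φ, hφ, hk⟩ := (sys (A := A) (I := I)).alg_kill B i₂
    (insert (x₂ * x₂ - x₂) (Finset.univ.image fun b : s =>
      x₂ * Polynomial.eval₂ (algebraMap i₂.C (i₂.C ⊗[A] B)) ((1 : i₂.C) ⊗ₜ[A] (b : B)) (q b))) (by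
    intro z hz
    rcases Finset.mem_insert.mp hz with rfl | hz
    · rw [map_sub, map_mul, hx₂, he.eq, sub_self]
    · obtain ⟨b, -, rfl⟩ := Finset.mem_image.mp hz
      rw [map_mul, hx₂, map_eval₂, hq]
      simpa using hp b)
  set x := Algebra.TensorProduct.map φ (AlgHom.id A B) x₂ with hxdef
  have hxe : Algebra.TensorProduct.map (ofC j) (AlgHom.id A B) x = e := by
    rw [hxdef, ← AlgHom.comp_apply, ← Algebra.TensorProduct.map_comp, hφ, AlgHom.comp_id]
    exact hx₂
  have hxi : IsIdempotentElem x := by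
    have := hk _ (Finset.mem_insert_self _ _)
    rw [map_sub, map_mul, sub_eq_zero] at this
    exact this
  have hxq : ∀ b : s, x * Polynomial.eval₂ (algebraMap j.C (j.C ⊗[A] B)) ((1 : j.C) ⊗ₜ[A] (b : B))
      ((q b).map (φ : i₂.C →+* j.C)) = 0 := by
    intro b
    have := hk _ (Finset.mem_insert_of_mem (Finset.mem_image_of_mem _ (Finset.mem_univ b)))
    rw [map_mul, map_eval₂] at this
    simpa using this
  refine ⟨j, x, hxi, ?_, ?_⟩
  · -- `1 - x ∈ I T`
    obtain ⟨σH⟩ := exists_sigma_Hz I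
    obtain ⟨ψH, hψH⟩ := exists_psi σH B
    refine mem_of_psi_eq_zero j.isNbhd B
      (ψH.comp (Algebra.TensorProduct.map (ofC j) (AlgHom.id A B))) ?_ (1 - x) ?_
    · intro b
      rw [AlgHom.comp_apply, Algebra.TensorProduct.map_tmul, map_one, AlgHom.id_apply, hψH]
    · rw [AlgHom.comp_apply, map_sub, map_one, hxe]
      exact algHom_eq_zero_of_mem I ψH h1e'
  · -- finiteness
    set J := Ideal.span {1 - x} with hJ
    haveI : Algebra.FiniteType j.C ((j.C ⊗[A] B) ⧸ J) :=
      Algebra.FiniteType.of_surjective (Ideal.Quotient.mkₐ j.C J) Ideal.Quotient.mk_surjective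
    have hQ : (integralClosure j.C ((j.C ⊗[A] B) ⧸ J)).comap (Ideal.Quotient.mkₐ j.C J) = ⊤ :=
      eq_top_of_includeRight_mem (s : Set B) hs _ (by
        intro b hb
        rw [Subalgebra.mem_comap]
        refine ⟨(q ⟨b, hb⟩).map (φ : i₂.C →+* j.C), (hqm _).map _, ?_⟩
        have h3 := hxq ⟨b, hb⟩
        set y := Polynomial.eval₂ (algebraMap j.C (j.C ⊗[A] B)) ((1 : j.C) ⊗ₜ[A] b)
          ((q ⟨b, hb⟩).map (φ : i₂.C →+* j.C)) with hy
        have h4 : Ideal.Quotient.mk J y = 0 := by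
          rw [Ideal.Quotient.eq_zero_iff_mem, hJ, Ideal.mem_span_singleton']
          refine ⟨y, ?_⟩
          have : y * (1 - x) = y - x * y := by ring
          rw [this, h3, sub_zero]
        rw [hy, Polynomial.hom_eval₂] at h4
        exact h4)
    haveI : Algebra.IsIntegral j.C ((j.C ⊗[A] B) ⧸ J) := by
      refine ⟨fun z => ?_⟩
      obtain ⟨t, rfl⟩ := Ideal.Quotient.mk_surjective z
      have : t ∈ (integralClosure j.C ((j.C ⊗[A] B) ⧸ J)).comap (Ideal.Quotient.mkₐ j.C J) := by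
        rw [hQ]; trivial
      exact this
    exact Algebra.IsIntegral.finite

end Groth.Agent.Helper13FinPart
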