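import Mathlib

/-!
# The diagonal idempotent of `C_h ⊗_A C → C_h` (helper13)

* `mu h : C_h ⊗[A] C →ₐ[C_h] C_h`, `exists_idempotent` : for `C` finite over `A` and `C_h`
  unramified over `A`, `ker (mu h)` is generated by an idempotent.
* `ker_lmul_le_sq` : for `S/R` formally unramified ess. of finite type, `ker (S ⊗ S → S)` is
  idempotent.
-/

set_option autoImplicit false
set_option linter.style.haveILetI false
universe u
open TensorProduct

namespace Groth.Agent.Helper13FittIdem

variable {A C : Type u} [CommRing A] [CommRing C] [Algebra A C] (h : C)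

/-- the "diagonal" map `C_h ⊗_A C → C_h`. -/
noncomputable def mu : (Localization.Away h) ⊗[A] C →ₐ[Localization.Away h] Localization.Away h :=
  Algebra.TensorProduct.lift (AlgHom.id _ _) (IsScalarTower.toAlgHom A C (Localization.Away h))
    (fun _ _ => Commute.all _ _)

@[simp]
theorem mu_tmul (l : Localization.Away h) (c : C) :
    mu (A := A) h (l ⊗ₜ c) = l * algebraMap C (Localization.Away h) c := by
  simp [mu]

theorem mu_surjective : Function.Surjective (mu (A := A) h) := fun l => ⟨l ⊗ₜ 1, by simp⟩

/-- `C_h ⊗_A C → C_h ⊗_A C_h`. -/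
noncomputable def iota :
    (Localization.Away h) ⊗[A] C →ₐ[Localization.Away h]
      (Localization.Away h) ⊗[A] (Localization.Away h) :=
  Algebra.TensorProduct.map (AlgHom.id _ _) (IsScalarTower.toAlgHom A C (Localization.Away h))

@[simp]
theorem iota_tmul (l : Localization.Away h) (c : C) :
    iota (A := A) h (l ⊗ₜ c) = l ⊗ₜ algebraMap C (Localization.Away h) c := by
  simp [iota]

theorem lmul_iota (x : (Localization.Away h) ⊗[A] C) :
    Algebra.TensorProduct.lmul' A (iota (A := A) h x) = mu (A := A) h x := by
  induction x with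
  | zero => simp
  | add x y hx hy => simp [hx, hy]
  | tmul l c => simp


/-- for a formally unramified, essentially finite type algebra `S/R`, the kernel of
`S ⊗ S → S` is idempotent. -/
theorem ker_lmul_le_sq (R S : Type u) [CommRing R] [CommRing S] [Algebra R S]
    [Algebra.FormallyUnramified R S] [Algebra.EssFiniteType R S] :
    RingHom.ker (Algebra.TensorProduct.lmul' R (S := S)) ≤
      RingHom.ker (Algebra.TensorProduct.lmul' R (S := S)) *
        RingHom.ker (Algebra.TensorProduct.lmul' R (S := S)) := by
  obtain ⟨t, ht1, ht2⟩ :=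
    (Algebra.FormallyUnramified.iff_exists_tensorProduct (R := R) (S := S)).mp inferInstance
  have hker : RingHom.ker (Algebra.TensorProduct.lmul' R (S := S)) =
      Ideal.span (Set.range fun s : S => (1 : S) ⊗ₜ[R] s - s ⊗ₜ[R] (1 : S)) :=
    (KaehlerDifferential.span_range_eq_ideal R S).symm
  have hkill : ∀ y ∈ RingHom.ker (Algebra.TensorProduct.lmul' R (S := S)), y * t = 0 := by
    intro y hy
    rw [hker] at hy
    induction hy using Submodule.span_induction with
    | mem y hy =>
      obtain ⟨s, rfl⟩ := hy
      exact ht1 s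
    | zero => simp
    | add a b _ _ ha hb => rw [add_mul, ha, hb, add_zero]
    | smul c a _ ha => rw [smul_eq_mul, mul_assoc, ha, mul_zero]
  intro y hy
  have h1t : (1 - t) ∈ RingHom.ker (Algebra.TensorProduct.lmul' R (S := S)) := by
    rw [RingHom.mem_ker, map_sub, map_one, ht2, sub_self]
  have : y = y * (1 - t) := by rw [mul_sub, mul_one, hkill y hy, sub_zero]
  rw [this]
  exact Ideal.mul_mem_mul hy h1t


theorem ker_mu_le_sq [Algebra.FormallyUnramified A (Localization.Away h)]
    [Algebra.EssFiniteType A (Localization.Away h)] :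
    RingHom.ker (mu (A := A) h) ≤ RingHom.ker (mu (A := A) h) * RingHom.ker (mu (A := A) h) := by
  letI : Algebra ((Localization.Away h) ⊗[A] C)
      ((Localization.Away h) ⊗[A] (Localization.Away h)) := (iota (A := A) h).toRingHom.toAlgebra
  haveI : IsScalarTower (Localization.Away h) ((Localization.Away h) ⊗[A] C)
      ((Localization.Away h) ⊗[A] (Localization.Away h)) :=
    IsScalarTower.of_algebraMap_eq (fun l => ((iota (A := A) h).commutes l).symm)
  have halg : ∀ x, algebraMap ((Localization.Away h) ⊗[A] C)
      ((Localization.Away h) ⊗[A] (Localization.Away h)) x = iota (A := A) h x := fun _ => rfl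
  haveI hloc : IsLocalization ((Submonoid.powers h).map
      (Algebra.TensorProduct.includeRight (R := A) (A := Localization.Away h)))
      ((Localization.Away h) ⊗[A] (Localization.Away h)) :=
    IsLocalization.tensorProduct_tensorProduct_right A (Localization.Away h) (Submonoid.powers h)
      (Localization.Away h) (by
        ext c
        simp [halg])
  set M := (Submonoid.powers h).map
      (Algebra.TensorProduct.includeRight (R := A) (A := Localization.Away h)) with hM
  set K := RingHom.ker (mu (A := A) h) with hK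
  set K₂ := RingHom.ker (Algebra.TensorProduct.lmul' A (S := Localization.Away h)) with hK₂
  -- K₂ is the extension of K
  have hK₂map : K₂ ≤ K.map (algebraMap ((Localization.Away h) ⊗[A] C)
      ((Localization.Away h) ⊗[A] (Localization.Away h))) := by
    intro y hy
    obtain ⟨d, s, rfl⟩ := IsLocalization.exists_mk'_eq M y
    rw [IsLocalization.mk'_mem_map_algebraMap_iff]
    refine ⟨1, M.one_mem, ?_⟩
    rw [one_mul, hK, RingHom.mem_ker, ← lmul_iota]
    have h1 : iota (A := A) h d = IsLocalization.mk' _ d s * iota (A := A) h s := by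
      rw [← halg, ← halg, IsLocalization.mk'_spec]
    rw [h1, map_mul]
    rw [hK₂, RingHom.mem_ker] at hy
    rw [hy, zero_mul]
  intro x hx
  have h1 : iota (A := A) h x ∈ K₂ := by
    rw [hK₂, RingHom.mem_ker, lmul_iota]
    exact hx
  have h2 : iota (A := A) h x ∈ (K * K).map (algebraMap ((Localization.Away h) ⊗[A] C)
      ((Localization.Away h) ⊗[A] (Localization.Away h))) := by
    rw [Ideal.map_mul]
    exact Ideal.mul_mono hK₂map hK₂map (ker_lmul_le_sq A (Localization.Away h) h1)
  rw [← halg, IsLocalization.mem_map_algebraMap_iff M] at h2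
  obtain ⟨⟨a, s⟩, has⟩ := h2
  rw [← map_mul, IsLocalization.eq_iff_exists M] at has
  obtain ⟨c, hc⟩ := has
  -- (c * s) is `1 ⊗ h ^ N`
  obtain ⟨N, hN⟩ : ∃ N : ℕ, ((c * s : M) : (Localization.Away h) ⊗[A] C) =
      (1 : Localization.Away h) ⊗ₜ[A] (h ^ N) := by
    obtain ⟨w, ⟨N, rfl⟩, hw⟩ := (c * s).2
    exact ⟨N, hw.symm⟩
  have h3 : ((1 : Localization.Away h) ⊗ₜ[A] (h ^ N)) * x ∈ K * K := by
    rw [← hN, Submonoid.coe_mul, mul_assoc, mul_comm (s : (Localization.Away h) ⊗[A] C) x, hc]
    exact Ideal.mul_mem_left _ _ a.2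
  have hu : IsUnit ((algebraMap C (Localization.Away h) (h ^ N)) ⊗ₜ[A] (1 : C)) := by
    have : IsUnit (algebraMap C (Localization.Away h) (h ^ N)) := by
      rw [map_pow]
      exact (IsLocalization.Away.algebraMap_isUnit h).pow N
    exact this.map (Algebra.TensorProduct.includeLeft (R := A) (S := A) (A := Localization.Away h)
      (B := C))
  have h4 : ((algebraMap C (Localization.Away h) (h ^ N)) ⊗ₜ[A] (1 : C)) -
      ((1 : Localization.Away h) ⊗ₜ[A] (h ^ N)) ∈ K := by
    rw [hK, RingHom.mem_ker, map_sub, mu_tmul, mu_tmul, map_one, mul_one, one_mul, sub_self]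
  have h5 : ((algebraMap C (Localization.Away h) (h ^ N)) ⊗ₜ[A] (1 : C)) * x ∈ K * K := by
    have : ((algebraMap C (Localization.Away h) (h ^ N)) ⊗ₜ[A] (1 : C)) * x =
        ((1 : Localization.Away h) ⊗ₜ[A] (h ^ N)) * x +
        (((algebraMap C (Localization.Away h) (h ^ N)) ⊗ₜ[A] (1 : C)) -
          ((1 : Localization.Away h) ⊗ₜ[A] (h ^ N))) * x := by ring
    rw [this]
    exact Ideal.add_mem _ h3 (Ideal.mul_mem_mul h4 hx)
  obtain ⟨u, hu'⟩ := hu
  have : x = (↑u⁻¹ : (Localization.Away h) ⊗[A] C) *
      (((algebraMap C (Localization.Away h) (h ^ N)) ⊗ₜ[A] (1 : C)) * x) := by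
    rw [← hu', ← mul_assoc, Units.inv_mul, one_mul]
  rw [this]
  exact Ideal.mul_mem_left _ _ h5


theorem ker_mu_fg [Module.Finite A C] : (RingHom.ker (mu (A := A) h)).FG := by
  have h1 : (LinearMap.ker (mu (A := A) h).toLinearMap).FG :=
    Module.FinitePresentation.fg_ker (mu (A := A) h).toLinearMap (mu_surjective h)
  apply Submodule.FG.of_restrictScalars (Localization.Away h)
  exact h1

/-- the kernel of `C_h ⊗_A C → C_h` is generated by an idempotent when `C` is finite over `A`
and `C_h` is unramified over `A`. -/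
theorem exists_idempotent [Module.Finite A C] [Algebra.FormallyUnramified A (Localization.Away h)]
    [Algebra.EssFiniteType A (Localization.Away h)] :
    ∃ e : (Localization.Away h) ⊗[A] C, IsIdempotentElem e ∧
      RingHom.ker (mu (A := A) h) = Ideal.span {e} := by
  apply (Ideal.isIdempotentElem_iff_of_fg _ (ker_mu_fg h)).mp
  exact le_antisymm Ideal.mul_le_right (ker_mu_le_sq h)

end Groth.Agent.Helper13FittIdem
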