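import Mathlib
import Groth.Agent.Lib.Helper18Fitt11

/-!
# Product formula for zeroth Fitting ideals (helper13)

* `Groth.Agent.Helper13FittProd.fitt_zero_quot_prod` : `Fit₀((R ⧸ 𝔞) × N) = 𝔞 · Fit₀(N)` for a
  finite module `N` (uses helper18's `fitt_eq_T`).
-/

set_option autoImplicit false
set_option linter.style.haveILetI false
universe u
open Matrix

namespace Groth.Agent.Helper13FittProd

open Groth.Agent.Helper18Fitt

variable {R : Type u} [CommRing R]

/-- generating family of `(R ⧸ 𝔞) × N` adapted to the product. -/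
def gens (𝔞 : Ideal R) {N : Type u} [AddCommGroup N] [Module R N] {n : ℕ} (y : Fin n → N) :
    Fin (n + 1) → (R ⧸ 𝔞) × N :=
  Fin.cons ((1 : R ⧸ 𝔞), (0 : N)) (fun i => ((0 : R ⧸ 𝔞), y i))

theorem span_gens (𝔞 : Ideal R) {N : Type u} [AddCommGroup N] [Module R N] {n : ℕ}
    (y : Fin n → N) (hy : Submodule.span R (Set.range y) = ⊤) :
    Submodule.span R (Set.range (gens 𝔞 y)) = ⊤ := by
  have key : ∀ m : N, ((0 : R ⧸ 𝔞), m) ∈ Submodule.span R (Set.range (gens 𝔞 y)) := by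
    intro m
    have hm : m ∈ Submodule.span R (Set.range y) := by rw [hy]; trivial
    induction hm using Submodule.span_induction with
    | mem m hm =>
      obtain ⟨i, rfl⟩ := hm
      exact Submodule.subset_span ⟨i.succ, by simp [gens]⟩
    | zero => exact Submodule.zero_mem _
    | add a b _ _ ha hb =>
      have : ((0 : R ⧸ 𝔞), a + b) = ((0 : R ⧸ 𝔞), a) + ((0 : R ⧸ 𝔞), b) := by ext <;> simp
      rw [this]
      exact Submodule.add_mem _ ha hb
    | smul c a _ ha =>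
      have : ((0 : R ⧸ 𝔞), c • a) = c • ((0 : R ⧸ 𝔞), a) := by ext <;> simp
      rw [this]
      exact Submodule.smul_mem _ _ ha
  rw [eq_top_iff]
  rintro ⟨r, m⟩ -
  obtain ⟨r, rfl⟩ := Ideal.Quotient.mk_surjective r
  have h1 : ((Ideal.Quotient.mk 𝔞 r, m) : (R ⧸ 𝔞) × N) =
      r • ((1 : R ⧸ 𝔞), (0 : N)) + ((0 : R ⧸ 𝔞), m) := by
    ext
    · simp [Algebra.smul_def]
    · simp
  rw [h1]
  exact Submodule.add_mem _ (Submodule.smul_mem _ _ (Submodule.subset_span ⟨0, rfl⟩)) (key m)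

theorem rel_gens_iff (𝔞 : Ideal R) {N : Type u} [AddCommGroup N] [Module R N] {n : ℕ}
    (y : Fin n → N) (c : Fin (n + 1) → R) :
    ∑ j, c j • gens 𝔞 y j = 0 ↔ c 0 ∈ 𝔞 ∧ ∑ j : Fin n, c j.succ • y j = 0 := by
  rw [Fin.sum_univ_succ]
  have h0 : gens 𝔞 y 0 = ((1 : R ⧸ 𝔞), (0 : N)) := rfl
  have hs : ∀ j : Fin n, gens 𝔞 y j.succ = ((0 : R ⧸ 𝔞), y j) := fun j => by simp [gens]
  simp only [h0, hs]
  rw [Prod.ext_iff]
  simp only [Prod.fst_add, Prod.smul_fst, Prod.fst_sum, Prod.snd_add, Prod.smul_snd, Prod.snd_sum,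
    smul_zero, Finset.sum_const_zero, add_zero, zero_add, Prod.fst_zero, Prod.snd_zero]
  constructor
  · rintro ⟨h1, h2⟩
    refine ⟨?_, h2⟩
    rw [← Ideal.Quotient.eq_zero_iff_mem, ← h1, Algebra.smul_def, mul_one]
    rfl
  · rintro ⟨h1, h2⟩
    refine ⟨?_, h2⟩
    rw [Algebra.smul_def, mul_one]
    exact Ideal.Quotient.eq_zero_iff_mem.mpr h1


theorem T_zero_mem_iff {M : Type u} [AddCommGroup M] [Module R M] {n : ℕ} (x : Fin n → M) :
    T (R := R) 0 (Fin n) x = Ideal.span {d | ∃ a : Matrix (Fin n) (Fin n) R,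
      (∀ i, ∑ j, a i j • x j = 0) ∧ d = a.det} := by
  unfold T
  congr 1
  ext d
  constructor
  · rintro ⟨a, S, hS, h, rfl⟩
    have hS' : S = ∅ := Finset.card_eq_zero.mp (Nat.le_zero.mp hS)
    subst hS'
    exact ⟨a, fun i => h i (Finset.notMem_empty i), rfl⟩
  · rintro ⟨a, h, rfl⟩
    exact ⟨a, ∅, by simp, fun i _ => h i, rfl⟩

/-- **product formula**: `Fit₀((R ⧸ 𝔞) × N) = 𝔞 · Fit₀(N)`. -/
theorem fitt_zero_quot_prod (𝔞 : Ideal R) (N : Type u) [AddCommGroup N] [Module R N]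
    [Module.Finite R N] :
    Fitt.ideal R ((R ⧸ 𝔞) × N) 0 = 𝔞 * Fitt.ideal R N 0 := by
  obtain ⟨n, y, hy⟩ := Module.Finite.exists_fin (R := R) (M := N)
  rw [fitt_eq_T (gens 𝔞 y) (span_gens 𝔞 y hy) 0, fitt_eq_T y hy 0, T_zero_mem_iff, T_zero_mem_iff]
  apply le_antisymm
  · rw [Ideal.span_le]
    rintro d ⟨a, ha, rfl⟩
    rw [Matrix.det_succ_column_zero]
    refine Ideal.sum_mem _ fun i _ => ?_
    have hi := (rel_gens_iff 𝔞 y (fun j => a i j)).mp (ha i)
    rw [mul_assoc]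
    refine Ideal.mul_mem_left _ _ (Ideal.mul_mem_mul hi.1 (Ideal.subset_span ?_))
    refine ⟨a.submatrix i.succAbove Fin.succ, fun l => ?_, rfl⟩
    simp only [Matrix.submatrix_apply]
    exact ((rel_gens_iff 𝔞 y (fun j => a (i.succAbove l) j)).mp (ha (i.succAbove l))).2
  · rw [Ideal.mul_le]
    intro r hr s hs
    induction hs using Submodule.span_induction with
    | mem s hs =>
      obtain ⟨b, hb, rfl⟩ := hs
      apply Ideal.subset_span
      refine ⟨Matrix.of (Fin.cons (Fin.cons r 0) (fun i => Fin.cons 0 (b i))), fun i => ?_, ?_⟩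
      · rw [rel_gens_iff]
        refine Fin.cases ?_ (fun i => ?_) i
        · simp [hr]
        · simp only [Matrix.of_apply, Fin.cons_succ, Fin.cons_zero]
          exact ⟨Ideal.zero_mem _, hb i⟩
      · rw [Matrix.det_succ_row_zero, Fin.sum_univ_succ]
        simp only [Matrix.of_apply, Fin.cons_zero, Fin.cons_succ, Pi.zero_apply, mul_zero, zero_mul,
          Finset.sum_const_zero, add_zero, Fin.val_zero, pow_zero, one_mul]
        congr 1
    | zero => simp
    | add s t _ _ hs ht => rw [mul_add]; exact Ideal.add_mem _ hs ht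
    | smul c s _ hs =>
      rw [smul_eq_mul, mul_left_comm]
      exact Ideal.mul_mem_left _ _ hs

end Groth.Agent.Helper13FittProd
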