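import Mathlib
import Groth.Agent.Lib.Helper13FittProdA

/-!
# Splitting `Fit₀(D ⧸ 𝔞)` along a retraction with idempotent kernel (helper13)

* `exists_equiv`, `fitt_zero_quot` : for `μ : D →ₐ[L] L` with `ker μ = (e)`, `e` idempotent,
  `Fit₀_L(D ⧸ 𝔞) = μ(𝔞) · Fit₀_L(D ⧸ (𝔞 + (1 - e)))`.
-/

set_option autoImplicit false
set_option linter.style.haveILetI false
universe u

namespace Groth.Agent.Helper13FittDecomp

open Groth.Agent.Helper18Fitt

variable {L D : Type u} [CommRing L] [CommRing D] [Algebra L D]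

/-- splitting a quotient of `D` along an idempotent generating the kernel of a retraction
`μ : D → L`. -/
theorem exists_equiv (μ : D →ₐ[L] L) (e : D) (he : IsIdempotentElem e)
    (hker : RingHom.ker μ = Ideal.span {e}) (𝔞 : Ideal D) :
    Nonempty ((D ⧸ 𝔞) ≃ₗ[L] (L ⧸ 𝔞.map μ) × (D ⧸ (𝔞 ⊔ Ideal.span {1 - e}))) := by
  have hμe : μ e = 0 := by
    have : e ∈ RingHom.ker μ := by rw [hker]; exact Ideal.subset_span rfl
    exact this
  have hμsurj : Function.Surjective μ := fun l => ⟨algebraMap L D l, by simp⟩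
  let f₁ : (D ⧸ 𝔞) →ₐ[L] (L ⧸ 𝔞.map μ) :=
    Ideal.Quotient.liftₐ 𝔞 ((Ideal.Quotient.mkₐ L (𝔞.map μ)).comp μ) (by
      intro a ha
      simp only [AlgHom.comp_apply, Ideal.Quotient.mkₐ_eq_mk]
      exact Ideal.Quotient.eq_zero_iff_mem.mpr (Ideal.mem_map_of_mem _ ha))
  let f₂ : (D ⧸ 𝔞) →ₐ[L] (D ⧸ (𝔞 ⊔ Ideal.span {1 - e})) :=
    Ideal.Quotient.factorₐ L (le_sup_left : 𝔞 ≤ 𝔞 ⊔ Ideal.span {1 - e})
  have hf₁ : ∀ x : D, f₁ (Ideal.Quotient.mk 𝔞 x) = Ideal.Quotient.mk _ (μ x) := fun x => rfl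
  have hf₂ : ∀ x : D, f₂ (Ideal.Quotient.mk 𝔞 x) = Ideal.Quotient.mk _ x := fun x => rfl
  refine ⟨LinearEquiv.ofBijective (f₁.toLinearMap.prod f₂.toLinearMap) ⟨?_, ?_⟩⟩
  · rw [← LinearMap.ker_eq_bot, LinearMap.ker_eq_bot']
    intro x hx
    obtain ⟨x, rfl⟩ := Ideal.Quotient.mk_surjective x
    have h1 : f₁ (Ideal.Quotient.mk 𝔞 x) = 0 := congrArg Prod.fst hx
    have h2 : f₂ (Ideal.Quotient.mk 𝔞 x) = 0 := congrArg Prod.snd hx
    rw [hf₁, Ideal.Quotient.eq_zero_iff_mem, Ideal.mem_map_iff_of_surjective _ hμsurj] at h1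
    rw [hf₂, Ideal.Quotient.eq_zero_iff_mem, Submodule.mem_sup] at h2
    obtain ⟨a, ha, hax⟩ := h1
    obtain ⟨a', ha', b, hb, hab⟩ := h2
    rw [Ideal.mem_span_singleton'] at hb
    obtain ⟨d', rfl⟩ := hb
    have h3 : x - a ∈ Ideal.span {e} := by
      rw [← hker, RingHom.mem_ker, map_sub, hax, sub_self]
    rw [Ideal.mem_span_singleton'] at h3
    obtain ⟨d, hd⟩ := h3
    have hee : e * (1 - e) = 0 := by rw [mul_sub, mul_one, he.eq, sub_self]
    have h4 : x = a' * e + a * (1 - e) := by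
      have hx1 : x * (1 - e) = a * (1 - e) := by
        have : x = a + d * e := by rw [hd]; ring
        rw [this, add_mul, mul_assoc, hee, mul_zero, add_zero]
      have hx2 : x * e = a' * e := by
        rw [← hab, add_mul, mul_assoc, mul_comm (1 - e) e, hee, mul_zero, add_zero]
      calc x = x * e + x * (1 - e) := by ring
        _ = a' * e + a * (1 - e) := by rw [hx1, hx2]
    rw [Ideal.Quotient.eq_zero_iff_mem, h4]
    exact Ideal.add_mem _ (Ideal.mul_mem_right _ _ ha') (Ideal.mul_mem_right _ _ ha)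
  · rintro ⟨l, z⟩
    obtain ⟨l, rfl⟩ := Ideal.Quotient.mk_surjective l
    obtain ⟨z, rfl⟩ := Ideal.Quotient.mk_surjective z
    refine ⟨Ideal.Quotient.mk 𝔞 ((1 - e) * algebraMap L D l + e * z), ?_⟩
    show (f₁ (Ideal.Quotient.mk 𝔞 ((1 - e) * algebraMap L D l + e * z)),
      f₂ (Ideal.Quotient.mk 𝔞 ((1 - e) * algebraMap L D l + e * z))) = _
    rw [hf₁, hf₂]
    refine Prod.ext ?_ ?_
    · simp only
      congr 1
      rw [map_add, map_mul, map_mul, map_sub, map_one, hμe, sub_zero, one_mul, zero_mul, add_zero]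
      simp
    · simp only
      rw [Ideal.Quotient.eq]
      have : (1 - e) * algebraMap L D l + e * z - z = (algebraMap L D l - z) * (1 - e) := by ring
      rw [this]
      exact Ideal.mem_sup_right (Ideal.mul_mem_left _ _ (Ideal.subset_span rfl))

/-- `Fit₀(D ⧸ 𝔞)` over `L` splits off the factor `μ(𝔞)`. -/
theorem fitt_zero_quot [Module.Finite L D] (μ : D →ₐ[L] L) (e : D) (he : IsIdempotentElem e)
    (hker : RingHom.ker μ = Ideal.span {e}) (𝔞 : Ideal D) :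
    Fitt.ideal L (D ⧸ 𝔞) 0 =
      𝔞.map μ * Fitt.ideal L (D ⧸ (𝔞 ⊔ Ideal.span {1 - e})) 0 := by
  obtain ⟨Φ⟩ := exists_equiv μ e he hker 𝔞
  rw [fitt_congr Φ 0]
  exact Groth.Agent.Helper13FittProd.fitt_zero_quot_prod _ _

end Groth.Agent.Helper13FittDecomp
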