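import Mathlib
import Groth.Prelude.Def_FlatCA
import Groth.Agent.Lib.Helper13FittProdC
import Groth.Agent.Lib.Helper13FittProdB

/-!
# `Fit₀(C ⧸ J) · C_h = J_h · J'` for finite locally free `C` with `C_h` étale (helper13)

* `fittingZero_eq` : the prelude's `FlatCA.fittingZero` is `Fitt.ideal _ _ 0`.
* `main` : Stacks-style factorisation of the Fitting ideal of `C ⧸ J`.
-/

set_option autoImplicit false
set_option linter.style.haveILetI false
universe u
open TensorProduct

namespace Groth.Agent.Helper13FittMain

open Groth.Agent.Helper18Fitt Groth.Agent.Helper13FittIdem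

theorem fittingZero_eq (R : Type u) [CommRing R] (M : Type u) [AddCommGroup M] [Module R M] :
    FlatCA.fittingZero R M = Fitt.ideal R M 0 := by
  unfold FlatCA.fittingZero Fitt.ideal
  congr 1
  ext d
  constructor
  · rintro ⟨n, x, a, h1, h2, h3⟩
    exact ⟨n, x, a, h1, fun i _ => h2 i, h3⟩
  · rintro ⟨n, x, a, h1, h2, h3⟩
    exact ⟨n, x, a, h1, fun i => h2 i (by simp), h3⟩

theorem fg_restrictScalars_of_finite (A C : Type u) [CommRing A] [CommRing C] [Algebra A C]
    [Module.Finite A C] (M : Type u) [AddCommGroup M] [Module A M] [Module C M]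
    [IsScalarTower A C M] (N : Submodule C M) (hN : N.FG) : (N.restrictScalars A).FG := by
  haveI : Module.Finite C N := Module.Finite.iff_fg.mpr hN
  haveI : Module.Finite A N := Module.Finite.trans C N
  exact Module.Finite.iff_fg.mp (inferInstanceAs (Module.Finite A N))

theorem ker_mkₐ (L D : Type u) [CommRing L] [CommRing D] [Algebra L D] (I : Ideal D) :
    LinearMap.ker (Ideal.Quotient.mkₐ L I).toLinearMap = I.restrictScalars L := by
  ext x
  simp only [LinearMap.mem_ker, AlgHom.toLinearMap_apply, Ideal.Quotient.mkₐ_eq_mk,
    Ideal.Quotient.eq_zero_iff_mem, Submodule.restrictScalars_mem]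

theorem main {A C : Type u} [CommRing A] [CommRing C] [Algebra A C] [Module.Finite A C]
    [Module.Projective A C] (h : C) [Algebra.Etale A (Localization.Away h)] (J : Ideal C) :
    ∃ J' : Ideal (Localization.Away h),
      (FlatCA.fittingZero A (C ⧸ J)).map (algebraMap A (Localization.Away h)) =
        J.map (algebraMap C (Localization.Away h)) * J' ∧
      (J.FG → (FlatCA.fittingZero A (C ⧸ J)).FG ∧ J'.FG) := by
  obtain ⟨e, he, hker⟩ := exists_idempotent (A := A) h
  set 𝔞 : Ideal ((Localization.Away h) ⊗[A] C) :=
    J.map (Algebra.TensorProduct.includeRight (R := A) (A := Localization.Away h)) with h𝔞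
  refine ⟨Fitt.ideal (Localization.Away h)
    (((Localization.Away h) ⊗[A] C) ⧸ (𝔞 ⊔ Ideal.span {1 - e})) 0, ?_, ?_⟩
  · rw [fittingZero_eq, ← fitt_baseChange (R' := Localization.Away h) (M := C ⧸ J) 0,
      fitt_congr (Algebra.TensorProduct.tensorQuotientEquiv (R := A) (Localization.Away h) C
        (Localization.Away h) J).toLinearEquiv 0,
      Groth.Agent.Helper13FittDecomp.fitt_zero_quot (mu (A := A) h) e he hker 𝔞]
    congr 1
    rw [h𝔞]
    have h1 : (J.map (Algebra.TensorProduct.includeRight (R := A) (A := Localization.Away h))).map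
        (mu (A := A) h) = J.map ((mu (A := A) h).toRingHom.comp
          (Algebra.TensorProduct.includeRight (R := A) (A := Localization.Away h)).toRingHom) :=
      Ideal.map_map _ _
    rw [h1]
    congr 1
    ext c
    simp
  · intro hJ
    constructor
    · rw [fittingZero_eq]
      haveI : Module.FinitePresentation A C := Module.finitePresentation_of_projective A C
      have hfp : Module.FinitePresentation A (C ⧸ J) := by
        refine Module.finitePresentation_of_surjective (Ideal.Quotient.mkₐ A J).toLinearMap
          Ideal.Quotient.mk_surjective ?_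
        rw [ker_mkₐ]
        exact fg_restrictScalars_of_finite A C C J hJ
      exact fitt_fg_of_fp hfp 0
    · haveI : Module.FinitePresentation (Localization.Away h) ((Localization.Away h) ⊗[A] C) :=
        Module.finitePresentation_of_projective _ _
      have hfg : (𝔞 ⊔ Ideal.span {1 - e}).FG :=
        Submodule.FG.sup (hJ.map _) ⟨{1 - e}, by simp⟩
      haveI : Module.Finite (Localization.Away h)
          (((Localization.Away h) ⊗[A] C) ⧸ (𝔞 ⊔ Ideal.span {1 - e})) :=
        Module.Finite.of_surjective
          (Ideal.Quotient.mkₐ (Localization.Away h) (𝔞 ⊔ Ideal.span {1 - e})).toLinearMap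
          Ideal.Quotient.mk_surjective
      have hfp : Module.FinitePresentation (Localization.Away h)
          (((Localization.Away h) ⊗[A] C) ⧸ (𝔞 ⊔ Ideal.span {1 - e})) := by
        refine Module.finitePresentation_of_surjective
          (Ideal.Quotient.mkₐ (Localization.Away h) (𝔞 ⊔ Ideal.span {1 - e})).toLinearMap
          Ideal.Quotient.mk_surjective ?_
        rw [ker_mkₐ]
        exact fg_restrictScalars_of_finite (Localization.Away h) ((Localization.Away h) ⊗[A] C)
          ((Localization.Away h) ⊗[A] C) _ hfg
      exact fitt_fg_of_fp hfp 0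

end Groth.Agent.Helper13FittMain
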