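import Mathlib
import Groth.Agent.Lib.Helper13FittProdD

/-!
# Étale-local factorisation of ideals through Fitting ideals (helper13)

* `pow_mem_fittingZero`, `exists_fg_map_eq` (f.g. ideals of `C_h` come from f.g. ideals of `C`),
  `exists_of_equiv`, `main` : for `A → B` étale, `J ⊆ B` f.g. with `a ∈ √J`, near every prime
  `q` of `B` there are `g ∉ q`, a f.g. `I ⊆ A` with `a ∈ √I` and a f.g. `J'` with
  `I B_g = J B_g · J'`.
-/

set_option autoImplicit false
set_option linter.style.haveILetI false
universe u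
open TensorProduct

namespace Groth.Agent.Helper13FittEt

/-- an element killing a module generated by `n` elements has its `n`-th power in `Fit₀`. -/
theorem pow_mem_fittingZero {A : Type u} [CommRing A] {M : Type u} [AddCommGroup M] [Module A M]
    {n : ℕ} (x : Fin n → M) (hx : Submodule.span A (Set.range x) = ⊤) (r : A)
    (hr : ∀ m : M, r • m = 0) : r ^ n ∈ FlatCA.fittingZero A M := by
  apply Ideal.subset_span
  refine ⟨n, x, r • (1 : Matrix (Fin n) (Fin n) A), hx, fun i => ?_, ?_⟩
  · have : ∀ j, (r • (1 : Matrix (Fin n) (Fin n) A)) i j • x j = if i = j then r • x j else 0 := by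
      intro j
      simp only [Matrix.smul_apply, Matrix.one_apply, smul_eq_mul]
      split_ifs <;> simp
    simp only [this]
    rw [Finset.sum_ite_eq]
    simp [hr]
  · rw [Matrix.det_smul, Matrix.det_one, mul_one, Fintype.card_fin]

/-- a finitely generated ideal of a localization away from `h` is the extension of a finitely
generated ideal, which may be taken to contain any given element mapping into it. -/
theorem exists_fg_map_eq {C : Type u} [CommRing C] (h : C) (𝔧 : Ideal (Localization.Away h))
    (h𝔧 : 𝔧.FG) (c₀ : C) (hc₀ : algebraMap C (Localization.Away h) c₀ ∈ 𝔧) :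
    ∃ J : Ideal C, J.FG ∧ c₀ ∈ J ∧ J.map (algebraMap C (Localization.Away h)) = 𝔧 := by
  classical
  have h1 : 𝔧 = Ideal.span (algebraMap C (Localization.Away h) ''
      (𝔧.comap (algebraMap C (Localization.Away h)) : Set C)) := by
    conv_lhs => rw [← IsLocalization.map_comap (Submonoid.powers h) (Localization.Away h) 𝔧]
    rfl
  rw [h1] at h𝔧
  obtain ⟨s', hs', hspan⟩ := (Submodule.fg_span_iff_fg_span_finset_subset _).mp h𝔧
  obtain ⟨t, ht, rfl⟩ := Finset.subset_set_image_iff.mp hs'
  refine ⟨Ideal.span ((t : Set C) ∪ {c₀}), ?_, Ideal.subset_span (Or.inr rfl), ?_⟩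
  · refine ⟨t ∪ {c₀}, ?_⟩
    simp
  · rw [Ideal.map_span, Set.image_union, Set.image_singleton, Ideal.span_union]
    have h2 : Ideal.span (algebraMap C (Localization.Away h) '' (t : Set C)) = 𝔧 := by
      rw [h1]
      have := hspan
      simp only [Finset.coe_image] at this
      exact this.symm
    rw [h2, sup_eq_left, Ideal.span_le, Set.singleton_subset_iff]
    exact hc₀



/-- transport of the Fitting ideal factorisation to an algebra isomorphic to `C_h`. -/
theorem exists_of_equiv {A B₁ C : Type u} [CommRing A] [CommRing B₁] [CommRing C] [Algebra A B₁]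
    [Algebra A C] [Module.Finite A C] [Module.Projective A C] (h : C)
    [Algebra.Etale A (Localization.Away h)] (ε : B₁ ≃ₐ[A] Localization.Away h)
    (𝔟 : Ideal B₁) (h𝔟 : 𝔟.FG) (a : A) (m : ℕ) (ham : algebraMap A B₁ (a ^ m) ∈ 𝔟) :
    ∃ (I : Ideal A) (J' : Ideal B₁), I.FG ∧ a ∈ I.radical ∧ J'.FG ∧
      I.map (algebraMap A B₁) = 𝔟 * J' := by
  have h𝔧fg : (𝔟.map (ε : B₁ →+* Localization.Away h)).FG := h𝔟.map _
  have hc₀ : algebraMap C (Localization.Away h) (algebraMap A C (a ^ m)) ∈
      (𝔟.map (ε : B₁ →+* Localization.Away h)) := by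
    rw [← IsScalarTower.algebraMap_apply, ← ε.commutes]
    exact Ideal.mem_map_of_mem (ε : B₁ →+* Localization.Away h) ham
  obtain ⟨JC, hJCfg, hc₀mem, hJCmap⟩ := exists_fg_map_eq h _ h𝔧fg _ hc₀
  obtain ⟨J'h, hI, hfg⟩ := Groth.Agent.Helper13FittMain.main (A := A) h JC
  obtain ⟨hIfg, hJ'fg⟩ := hfg hJCfg
  refine ⟨FlatCA.fittingZero A (C ⧸ JC), J'h.map (ε.symm : Localization.Away h →+* B₁), hIfg, ?_,
    hJ'fg.map _, ?_⟩
  · obtain ⟨n, x, hx⟩ := Module.Finite.exists_fin (R := A) (M := C ⧸ JC)
    refine ⟨m * n, ?_⟩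
    rw [pow_mul]
    apply pow_mem_fittingZero x hx
    intro z
    obtain ⟨z, rfl⟩ := Ideal.Quotient.mk_surjective z
    rw [Algebra.smul_def, ← Ideal.Quotient.mk_algebraMap, ← map_mul,
      Ideal.Quotient.eq_zero_iff_mem]
    exact Ideal.mul_mem_right _ _ hc₀mem
  · have h1 : (FlatCA.fittingZero A (C ⧸ JC)).map (algebraMap A B₁) =
        ((FlatCA.fittingZero A (C ⧸ JC)).map (algebraMap A (Localization.Away h))).map
          (ε.symm : Localization.Away h →+* B₁) := by
      rw [Ideal.map_map]
      congr 1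
      ext r
      simp
    rw [h1, hI, hJCmap, Ideal.map_mul]
    congr 1
    have h2 : (𝔟.map (ε : B₁ →+* Localization.Away h)).map
        (ε.symm : Localization.Away h →+* B₁) =
        𝔟.map ((ε.symm : Localization.Away h →+* B₁).comp (ε : B₁ →+* Localization.Away h)) :=
      Ideal.map_map _ _
    have h3 : (ε.symm : Localization.Away h →+* B₁).comp (ε : B₁ →+* Localization.Away h) =
        RingHom.id B₁ := by
      ext r
      simp
    exact h2.trans (by rw [h3, Ideal.map_id])


/-- **étale-local factorisation**: for `A → B` étale, `J ⊆ B` finitely generated with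
`a ∈ √J`, near every prime there is a finitely generated `I ⊆ A` with `a ∈ √I` and
`I B_g = J B_g · J'`. -/
theorem main {A B : Type u} [CommRing A] [CommRing B] [Algebra A B] [Algebra.Etale A B]
    (a : A) (J : Ideal B) (hJ : J.FG) (hJa : algebraMap A B a ∈ J.radical)
    (q : Ideal B) [q.IsPrime] :
    ∃ (I : Ideal A) (g : B) (J' : Ideal (Localization.Away g)), I.FG ∧ a ∈ I.radical ∧ g ∉ q ∧
      J'.FG ∧ I.map (algebraMap A (Localization.Away g)) =
        J.map (algebraMap B (Localization.Away g)) * J' := by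
  obtain ⟨f, hfq, hstd⟩ := Algebra.IsEtaleAt.exists_isStandardEtale (R := A) q
  haveI := hstd
  let P : StandardEtalePresentation A (Localization.Away f) :=
    Algebra.IsStandardEtale.nonempty_standardEtalePresentation.some
  let ε : Localization.Away f ≃ₐ[A] Localization.Away (AdjoinRoot.mk P.f P.g) :=
    P.equivRing.trans P.P.equivAwayAdjoinRoot
  haveI : Module.Finite A (AdjoinRoot P.f) := P.monic_f.finite_adjoinRoot
  haveI : Module.Free A (AdjoinRoot P.f) := P.monic_f.free_adjoinRoot
  haveI : Algebra.Etale A (Localization.Away (AdjoinRoot.mk P.f P.g)) := Algebra.Etale.of_equiv ε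
  obtain ⟨m, hm⟩ := hJa
  have ham : algebraMap A (Localization.Away f) (a ^ m) ∈
      J.map (algebraMap B (Localization.Away f)) := by
    rw [IsScalarTower.algebraMap_apply A B (Localization.Away f), map_pow]
    exact Ideal.mem_map_of_mem _ hm
  obtain ⟨I, J', hIfg, haI, hJ'fg, hI⟩ := exists_of_equiv (AdjoinRoot.mk P.f P.g) ε
    (J.map (algebraMap B (Localization.Away f))) (hJ.map _) a m ham
  exact ⟨I, f, J', hIfg, haI, hfq, hJ'fg, hI⟩

end Groth.Agent.Helper13FittEt
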