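import Mathlib

/-!
# `I`-power torsion modules along a flat map `R → S` with `R/I ≅ S/IS` (helper13)

* `mk_bijective_of_torsion`: if `I Q = 0` then `Q → S ⊗ Q` is bijective (no flatness needed).
* `mk_bijective_of_pow_torsion`: if `I^n Q = 0` and `S` is flat, then `Q → S ⊗ Q` is bijective.
-/

set_option autoImplicit false
universe u

namespace Groth.Agent.Helper13FlatGlue

open TensorProduct

variable {R S : Type u} [CommRing R] [CommRing S] [Algebra R S] (I : Ideal R)

section T0

variable (hq : Function.Bijective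
  (Ideal.quotientMap (Ideal.map (algebraMap R S) I) (algebraMap R S) Ideal.le_comap_map))
  {Q : Type u} [AddCommGroup Q] [Module R Q]

include hq in
theorem exists_sub_mem_map (s : S) : ∃ r : R, s - algebraMap R S r ∈ I.map (algebraMap R S) := by
  obtain ⟨rb, hrb⟩ := hq.2 (Ideal.Quotient.mk _ s)
  obtain ⟨r, rfl⟩ := Ideal.Quotient.mk_surjective rb
  refine ⟨r, ?_⟩
  rw [Ideal.quotientMap_mk] at hrb
  rw [← Ideal.Quotient.eq]
  exact hrb.symm

theorem tmul_eq_zero_of_mem_map (hQ : ∀ a ∈ I, ∀ q : Q, a • q = 0) (y : S)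
    (hy : y ∈ I.map (algebraMap R S)) (q : Q) : y ⊗ₜ[R] q = 0 := by
  refine Submodule.span_induction ?_ ?_ ?_ ?_ hy
  · rintro _ ⟨a, ha, rfl⟩
    rw [Algebra.algebraMap_eq_smul_one, TensorProduct.smul_tmul, hQ a ha, TensorProduct.tmul_zero]
  · exact TensorProduct.zero_tmul _ _
  · intro y₁ y₂ _ _ h₁ h₂
    rw [TensorProduct.add_tmul, h₁, h₂, add_zero]
  · intro s y₁ _ h₁
    rw [smul_eq_mul, ← smul_eq_mul, ← TensorProduct.smul_tmul', h₁, smul_zero]

include hq in
theorem mk_surjective_of_torsion (hQ : ∀ a ∈ I, ∀ q : Q, a • q = 0) :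
    Function.Surjective (TensorProduct.mk R S Q 1) := by
  intro x
  induction x using TensorProduct.induction_on with
  | zero => exact ⟨0, map_zero _⟩
  | tmul s q =>
    obtain ⟨r, hr⟩ := exists_sub_mem_map I hq s
    refine ⟨r • q, ?_⟩
    have h0 := tmul_eq_zero_of_mem_map I hQ _ hr q
    rw [TensorProduct.sub_tmul, sub_eq_zero] at h0
    rw [h0, TensorProduct.mk_apply, Algebra.algebraMap_eq_smul_one, TensorProduct.smul_tmul]
  | add x y hx hy =>
    obtain ⟨a, rfl⟩ := hx
    obtain ⟨b, rfl⟩ := hy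
    exact ⟨a + b, map_add _ _ _⟩

include hq in
theorem mk_injective_of_torsion (hQ : ∀ a ∈ I, ∀ q : Q, a • q = 0) :
    Function.Injective (TensorProduct.mk R S Q 1) := by
  have hT : Module.IsTorsionBySet R Q (I : Set R) := fun q a => hQ a.1 a.2 q
  letI := hT.module
  let e := RingEquiv.ofBijective _ hq
  let ψ : S →+* R ⧸ I := e.symm.toRingHom.comp (Ideal.Quotient.mk (I.map (algebraMap R S)))
  have hψ : ∀ r : R, ψ (algebraMap R S r) = Ideal.Quotient.mk I r := by
    intro r
    change e.symm (Ideal.Quotient.mk _ (algebraMap R S r)) = _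
    rw [RingEquiv.symm_apply_eq]
    change _ = Ideal.quotientMap (Ideal.map (algebraMap R S) I) (algebraMap R S)
      Ideal.le_comap_map (Ideal.Quotient.mk I r)
    rw [Ideal.quotientMap_mk]
  let ρ : S ⊗[R] Q →ₗ[R] Q := TensorProduct.lift (LinearMap.mk₂ R (fun s q => ψ s • q)
    (fun s₁ s₂ q => by rw [map_add, add_smul])
    (fun c s q => by
      rw [Algebra.smul_def, map_mul, hψ, mul_smul]
      exact hT.mk_smul c _)
    (fun s q₁ q₂ => smul_add _ _ _)
    (fun c s q => by
      rw [← hT.mk_smul c q, ← hT.mk_smul c (ψ s • q), smul_comm]))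
  intro a b hab
  have := congrArg ρ hab
  simpa [ρ] using this

include hq in
theorem mk_bijective_of_torsion (hQ : ∀ a ∈ I, ∀ q : Q, a • q = 0) :
    Function.Bijective (TensorProduct.mk R S Q 1) :=
  ⟨mk_injective_of_torsion I hq hQ, mk_surjective_of_torsion I hq hQ⟩

end T0

section T

variable [Module.Flat R S] (hq : Function.Bijective
  (Ideal.quotientMap (Ideal.map (algebraMap R S) I) (algebraMap R S) Ideal.le_comap_map))

include hq in
/-- If `I^n Q = 0` then `Q → S ⊗ Q` is bijective. -/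
theorem mk_bijective_of_pow_torsion (n : ℕ) : ∀ (Q : Type u) [AddCommGroup Q] [Module R Q],
    (∀ a ∈ I ^ n, ∀ q : Q, a • q = 0) → Function.Bijective (TensorProduct.mk R S Q 1) := by
  induction n with
  | zero =>
    intro Q _ _ hQ
    have h0 : ∀ q : Q, q = 0 := fun q => by
      have := hQ 1 (by rw [pow_zero, Ideal.one_eq_top]; trivial) q
      rwa [one_smul] at this
    have : Subsingleton Q := ⟨fun a b => by rw [h0 a, h0 b]⟩
    constructor
    · intro a b _
      exact Subsingleton.elim _ _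
    · intro x
      exact ⟨0, Subsingleton.elim _ _⟩
  | succ n ih =>
    intro Q _ _ hQ
    have hQ' : ∀ a ∈ I ^ n, ∀ q : ↥(I • (⊤ : Submodule R Q)), a • q = 0 := by
      rintro a ha ⟨q, hq'⟩
      apply Subtype.ext
      change a • q = 0
      refine Submodule.smul_induction_on hq' ?_ ?_
      · intro b hb q₀ _
        rw [smul_smul]
        exact hQ _ (by rw [pow_succ]; exact Ideal.mul_mem_mul ha hb) q₀
      · intro x y hx hy
        rw [smul_add, hx, hy, add_zero]
    have hQq : ∀ a ∈ I, ∀ q : Q ⧸ (I • (⊤ : Submodule R Q)), a • q = 0 := by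
      intro a ha q
      obtain ⟨q, rfl⟩ := Submodule.Quotient.mk_surjective _ q
      rw [← Submodule.Quotient.mk_smul, Submodule.Quotient.mk_eq_zero]
      exact Submodule.smul_mem_smul ha trivial
    have b1 := ih ↥(I • (⊤ : Submodule R Q)) hQ'
    have b2 := mk_bijective_of_torsion I hq hQq
    have hinj : Function.Injective ((I • (⊤ : Submodule R Q)).subtype.lTensor S) :=
      Module.Flat.lTensor_preserves_injective_linearMap _ (Submodule.subtype_injective _)
    have hex := lTensor_exact S (LinearMap.exact_subtype_mkQ (I • (⊤ : Submodule R Q)))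
      (Submodule.mkQ_surjective _)
    constructor
    · rw [injective_iff_map_eq_zero]
      intro q hq0
      have h1 : TensorProduct.mk R S (Q ⧸ (I • (⊤ : Submodule R Q))) 1
          ((I • (⊤ : Submodule R Q)).mkQ q) = 0 := by
        have := congrArg ((I • (⊤ : Submodule R Q)).mkQ.lTensor S) hq0
        rwa [map_zero, TensorProduct.mk_apply, LinearMap.lTensor_tmul] at this
      have h2 := b2.1 (h1.trans (map_zero _).symm)
      rw [Submodule.mkQ_apply, Submodule.Quotient.mk_eq_zero] at h2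
      have h3 : TensorProduct.mk R S ↥(I • (⊤ : Submodule R Q)) 1 ⟨q, h2⟩ = 0 := by
        apply hinj
        rw [map_zero, TensorProduct.mk_apply, LinearMap.lTensor_tmul]
        exact hq0
      have h4 := b1.1 (h3.trans (map_zero _).symm)
      exact congrArg Subtype.val h4
    · intro x
      obtain ⟨qb, hqb⟩ := b2.2 ((I • (⊤ : Submodule R Q)).mkQ.lTensor S x)
      obtain ⟨q, rfl⟩ := Submodule.mkQ_surjective _ qb
      have h1 : (I • (⊤ : Submodule R Q)).mkQ.lTensor S (x - (1 : S) ⊗ₜ[R] q) = 0 := by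
        rw [map_sub, LinearMap.lTensor_tmul, ← hqb, TensorProduct.mk_apply, sub_self]
      obtain ⟨y, hy⟩ := (hex _).mp h1
      obtain ⟨q', rfl⟩ := b1.2 y
      refine ⟨q + (q' : Q), ?_⟩
      rw [TensorProduct.mk_apply, TensorProduct.tmul_add]
      rw [TensorProduct.mk_apply, LinearMap.lTensor_tmul] at hy
      rw [Submodule.subtype_apply] at hy
      rw [hy]
      abel

end T

section Gens

variable {t : ℕ} (f : Fin t → R)

theorem exists_pow_le_span_pow (e : ℕ) :
    ∃ n : ℕ, (Ideal.span (Set.range f)) ^ n ≤ Ideal.span (Set.range fun i => f i ^ e) := by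
  apply Ideal.exists_pow_le_of_le_radical_of_fg
  · rw [Ideal.span_le]
    rintro _ ⟨i, rfl⟩
    exact ⟨e, Ideal.subset_span ⟨i, rfl⟩⟩
  · classical exact ⟨Finset.univ.image f, by simp⟩

theorem exists_pow_smul_eq_zero {Q : Type u} [AddCommGroup Q] [Module R Q] (e : ℕ) :
    ∃ n : ℕ, ∀ a ∈ (Ideal.span (Set.range f)) ^ n, ∀ q : Q, (∀ i, f i ^ e • q = 0) →
      a • q = 0 := by
  obtain ⟨n, hn⟩ := exists_pow_le_span_pow f e
  refine ⟨n, fun a ha q hq => ?_⟩
  have ha' := hn ha
  refine Submodule.span_induction ?_ ?_ ?_ ?_ ha'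
  · rintro _ ⟨i, rfl⟩
    exact hq i
  · exact zero_smul _ _
  · intro x y _ _ hx hy
    rw [add_smul, hx, hy, add_zero]
  · intro b x _ hx
    rw [smul_eq_mul, mul_smul, hx, smul_zero]

variable [Module.Flat R S] (hq : Function.Bijective
  (Ideal.quotientMap (Ideal.map (algebraMap R S) (Ideal.span (Set.range f)))
    (algebraMap R S) Ideal.le_comap_map))
  {M : Type u} [AddCommGroup M] [Module R M]

include hq in
/-- an `f`-power torsion element of `M` dying in `S ⊗ M` is zero. -/
theorem eq_zero_of_tmul_eq_zero (e : ℕ) (m : M) (hm : ∀ i, f i ^ e • m = 0)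
    (h : (1 : S) ⊗ₜ[R] m = 0) : m = 0 := by
  obtain ⟨n, hn⟩ := exists_pow_smul_eq_zero (Q := M) f e
  have hmem : m ∈ Submodule.torsionBySet R M ((Ideal.span (Set.range f)) ^ n : Ideal R) := by
    rw [Submodule.mem_torsionBySet_iff]
    rintro ⟨a, ha⟩
    exact hn a ha m hm
  have hb := mk_bijective_of_pow_torsion (Ideal.span (Set.range f)) hq n
    ↥(Submodule.torsionBySet R M ((Ideal.span (Set.range f)) ^ n : Ideal R))
    (fun a ha q => @Submodule.torsionBySet_isTorsionBySet R M _ _ _ _ q ⟨a, ha⟩)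
  have hinj : Function.Injective ((Submodule.torsionBySet R M
      ((Ideal.span (Set.range f)) ^ n : Ideal R)).subtype.lTensor S) :=
    Module.Flat.lTensor_preserves_injective_linearMap _ (Submodule.subtype_injective _)
  have h0 : TensorProduct.mk R S _ 1 (⟨m, hmem⟩ : ↥(Submodule.torsionBySet R M
      ((Ideal.span (Set.range f)) ^ n : Ideal R))) = 0 := by
    apply hinj
    rw [map_zero, TensorProduct.mk_apply, LinearMap.lTensor_tmul]
    exact h
  exact congrArg Subtype.val (hb.1 (h0.trans (map_zero _).symm))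

theorem piRight_lTensor_pi {N : Fin t → Type u} [∀ i, AddCommGroup (N i)] [∀ i, Module R (N i)]
    (g : ∀ i, M →ₗ[R] N i) (x : S ⊗[R] M) (i : Fin t) :
    TensorProduct.piRight R R S N ((LinearMap.pi g).lTensor S x) i = (g i).lTensor S x := by
  induction x using TensorProduct.induction_on with
  | zero => simp
  | tmul s m => simp
  | add x y hx hy =>
    rw [map_add, map_add, Pi.add_apply, hx, hy, map_add]

include hq in
/-- an `f`-power torsion element of `S ⊗ M` comes from an `f`-power torsion element of `M`. -/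
theorem exists_eq_tmul (e : ℕ) (x : S ⊗[R] M) (hx : ∀ i, f i ^ e • x = 0) :
    ∃ ν : M, (∀ i, f i ^ e • ν = 0) ∧ (1 : S) ⊗ₜ[R] ν = x := by
  classical
  obtain ⟨g, hgdef⟩ : ∃ g : M →ₗ[R] (Fin t → M),
      g = LinearMap.pi (fun i => (f i ^ e) • (LinearMap.id : M →ₗ[R] M)) := ⟨_, rfl⟩
  have hgx : g.lTensor S x = 0 := by
    apply (TensorProduct.piRight R R S (fun _ : Fin t => M)).injective
    rw [map_zero]
    funext i
    rw [hgdef, piRight_lTensor_pi, LinearMap.lTensor_smul, LinearMap.lTensor_id]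
    exact hx i
  obtain ⟨y, hy⟩ := (Module.Flat.lTensor_exact S (LinearMap.exact_subtype_ker_map g) x).mp hgx
  have hker : ∀ (q : ↥(LinearMap.ker g)) (i : Fin t), f i ^ e • q = 0 := by
    rintro ⟨q, hq'⟩ i
    apply Subtype.ext
    have := congrFun (LinearMap.mem_ker.mp hq') i
    rw [hgdef] at this
    simpa using this
  obtain ⟨n, hn⟩ := exists_pow_smul_eq_zero (Q := ↥(LinearMap.ker g)) f e
  have hb := mk_bijective_of_pow_torsion (Ideal.span (Set.range f)) hq n ↥(LinearMap.ker g)
    (fun a ha q => hn a ha q (hker q))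
  obtain ⟨ν, rfl⟩ := hb.2 y
  refine ⟨(ν : M), fun i => ?_, ?_⟩
  · exact congrArg Subtype.val (hker ν i)
  · rw [← hy, TensorProduct.mk_apply, LinearMap.lTensor_tmul]
    rfl

end Gens

section StepA

variable {t : ℕ} (f : Fin t → R) {M : Type u} [AddCommGroup M] [Module R M]

/-- the `f i`-power torsion submodule. -/
def tors (i : Fin t) : Submodule R M where
  carrier := {m | ∃ e : ℕ, f i ^ e • m = 0}
  add_mem' := by
    rintro a b ⟨e₁, h₁⟩ ⟨e₂, h₂⟩
    refine ⟨e₁ + e₂, ?_⟩
    rw [smul_add, pow_add, mul_smul, mul_smul, h₂, smul_zero, add_zero, smul_comm, h₁, smul_zero]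
  zero_mem' := ⟨0, smul_zero _⟩
  smul_mem' := by
    rintro c a ⟨e, h⟩
    exact ⟨e, by rw [smul_comm, h, smul_zero]⟩

theorem mem_tors (i : Fin t) (m : M) :
    m ∈ (tors f i : Submodule R M) ↔ ∃ e : ℕ, f i ^ e • m = 0 := Iff.rfl

theorem smul_injective_quot_tors (i : Fin t) :
    Function.Injective (((f i) • (LinearMap.id :
      (M ⧸ (tors f i : Submodule R M)) →ₗ[R] (M ⧸ (tors f i : Submodule R M))))) := by
  rw [injective_iff_map_eq_zero]
  intro z hz
  obtain ⟨m, rfl⟩ := Submodule.Quotient.mk_surjective _ z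
  rw [LinearMap.smul_apply, LinearMap.id_apply, ← Submodule.Quotient.mk_smul,
    Submodule.Quotient.mk_eq_zero] at hz
  obtain ⟨e, he⟩ := hz
  rw [Submodule.Quotient.mk_eq_zero]
  exact ⟨e + 1, by rw [pow_succ, mul_smul]; exact he⟩

variable [Module.Flat R S] (hq : Function.Bijective
  (Ideal.quotientMap (Ideal.map (algebraMap R S) (Ideal.span (Set.range f)))
    (algebraMap R S) Ideal.le_comap_map))

theorem eq_zero_of_pow_smul_lTensor_mkQ (i : Fin t) (e : ℕ) (y : S ⊗[R] M)
    (hy : f i ^ e • y = 0) : (tors f i).mkQ.lTensor S y = 0 := by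
  have hinj : Function.Injective
      ((((f i) • (LinearMap.id : (M ⧸ (tors f i : Submodule R M)) →ₗ[R]
        (M ⧸ (tors f i : Submodule R M))))).lTensor S) :=
    Module.Flat.lTensor_preserves_injective_linearMap _ (smul_injective_quot_tors f i)
  have hinj' : ∀ (e : ℕ) (z : S ⊗[R] (M ⧸ (tors f i : Submodule R M))),
      f i ^ e • z = 0 → z = 0 := by
    intro e
    induction e with
    | zero =>
      intro z hz
      rwa [pow_zero, one_smul] at hz
    | succ e ih =>
      intro z hz
      apply ih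
      apply hinj
      rw [map_zero, LinearMap.lTensor_smul, LinearMap.lTensor_id, LinearMap.smul_apply,
        LinearMap.id_apply, smul_smul, ← pow_succ']
      exact hz
  apply hinj' e
  rw [← map_smul, hy, map_zero]

include hq in
theorem stepA (N e : ℕ) (x : S ⊗[R] M) (m : Fin t → M)
    (ha : ∀ i, f i ^ e • (f i ^ N • x - (1 : S) ⊗ₜ[R] m i) = 0)
    (hb : ∀ i j, (f i * f j) ^ e • (f j ^ N • m i - f i ^ N • m j) = 0) :
    ∃ μ₀ : M, ∀ i, f i ^ N • μ₀ - m i ∈ tors f i := by
  classical
  obtain ⟨D, hDdef⟩ : ∃ D : M →ₗ[R] ((i : Fin t) → M ⧸ tors f i),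
      D = LinearMap.pi (fun i => (tors f i).mkQ ∘ₗ ((f i ^ N) • (LinearMap.id : M →ₗ[R] M))) :=
    ⟨_, rfl⟩
  have hD : ∀ (μ : M) (i : Fin t), D μ i = (tors f i).mkQ (f i ^ N • μ) := by
    intro μ i
    rw [hDdef]
    rfl
  obtain ⟨w, hwdef⟩ : ∃ w : (i : Fin t) → M ⧸ tors f i, w = fun i => (tors f i).mkQ (m i) :=
    ⟨_, rfl⟩
  -- the class of `w` is `f`-power torsion
  have hα : ∀ k, f k ^ (N + e) • (LinearMap.range D).mkQ w = 0 := by
    intro k
    rw [← map_smul, Submodule.mkQ_apply, Submodule.Quotient.mk_eq_zero]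
    refine ⟨f k ^ e • m k, ?_⟩
    funext i
    rw [hD, hwdef, Pi.smul_apply, ← map_smul, eq_comm, ← sub_eq_zero, ← map_sub,
      Submodule.mkQ_apply, Submodule.Quotient.mk_eq_zero]
    refine ⟨e, ?_⟩
    have := hb i k
    rw [mul_pow, mul_smul] at this
    rw [← this]
    simp only [smul_sub, smul_smul]
    congr 1 <;> ring_nf
  -- `1 ⊗ w = (S ⊗ D) x`
  have hβ : (1 : S) ⊗ₜ[R] w = D.lTensor S x := by
    apply (TensorProduct.piRight R R S (fun i : Fin t => M ⧸ tors f i)).injective
    funext i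
    rw [hDdef, piRight_lTensor_pi, TensorProduct.piRight_apply, TensorProduct.piRightHom_tmul,
      hwdef]
    change (1 : S) ⊗ₜ[R] (tors f i).mkQ (m i) = _
    have h1 := eq_zero_of_pow_smul_lTensor_mkQ (S := S) f i e _ (ha i)
    rw [map_sub, LinearMap.lTensor_tmul, sub_eq_zero] at h1
    rw [← h1, LinearMap.lTensor_comp, LinearMap.comp_apply, LinearMap.lTensor_smul,
      LinearMap.lTensor_id]
    rfl
  have hγ : (1 : S) ⊗ₜ[R] ((LinearMap.range D).mkQ w) = 0 := by
    have := congrArg ((LinearMap.range D).mkQ.lTensor S) hβ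
    rw [LinearMap.lTensor_tmul, ← LinearMap.comp_apply, ← LinearMap.lTensor_comp,
      LinearMap.range_mkQ_comp, LinearMap.lTensor_zero, LinearMap.zero_apply] at this
    exact this
  have h0 := eq_zero_of_tmul_eq_zero f hq (N + e) _ hα hγ
  rw [Submodule.mkQ_apply, Submodule.Quotient.mk_eq_zero] at h0
  obtain ⟨μ₀, hμ₀⟩ := h0
  refine ⟨μ₀, fun i => ?_⟩
  have := congrFun hμ₀ i
  rw [hD, hwdef] at this
  rw [← Submodule.Quotient.mk_eq_zero, Submodule.Quotient.mk_sub, sub_eq_zero]
  exact this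

end StepA

end Groth.Agent.Helper13FlatGlue
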