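import Groth.Agent.Lib.Helper13Dehom
import Groth.Agent.Lib.Helper13ExtGraded
import Groth.Agent.Lib.Helper6QCohQcqs

/-!
# The graded module `Γ_*(F)` of a module `F` on `Proj 𝒜` w.r.t. degree-one elements (helper13)

For `f : ι → A` with `f i ∈ 𝒜 1`, `PMod hf F = Π i, Γ(F, D₊(f i))` is an `A`-module through the
dehomogenizations `A → Γ(O, D₊(f i))`; `Mn hf F n ≤ PMod hf F` is the subgroup of families with
`m j = (f i / f j)^n m i` on `D₊(f i) ∩ D₊(f j)` ("sections of `F(n)`"), and `𝒜 k • Mn n ⊆ Mn (k + n)`.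
The external direct sum `GMod 𝒜 (Mn hf F)` (see `Helper13ExtGraded`) is the graded module `Γ_*(F)`.
`c hf F i n : gr n →+ Γ(F, D₊(f i))` are the component maps, with `c_smul`, `c_overlap`, and for `ι` finite
and `F` quasi-coherent `c_eq_zero` (`c i x = 0 → (f i)^k x = 0`) and `c_surjective`.
-/

set_option autoImplicit false
set_option linter.unusedSectionVars false
set_option linter.style.haveILetI false
universe u

open CategoryTheory CategoryTheory.Limits AlgebraicGeometry TopologicalSpace Opposite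
  HomogeneousLocalization

namespace Groth.Agent.Helper13GammaStar

open Groth.Agent.Lib.Helper27GrTildeSect Groth.Agent.Helper13GrTildeFrac
  Groth.Agent.Helper13Dehom Groth.Agent.Helper13ExtGraded Groth.Agent.Lib.Helper6

section transport
variable {X : Scheme.{u}} {U V : X.Opens} (hU : IsAffineOpen U) (F : X.Modules)
  [F.IsQuasicoherent]

include hU in
theorem exists_pow_smul_eq_zero_of_eq (r : Γ(X, U)) (hV : V = X.basicOpen r) (hVU : V ≤ U)
    (t : Γ(F, U)) (ht : res F hVU t = 0) : ∃ n : ℕ, r ^ n • t = 0 := by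
  subst hV
  exact Groth.Agent.Lib.Helper2.QCoh.exists_pow_smul_eq_zero hU F r t ht

include hU in
theorem exists_extension_of_eq (r : Γ(X, U)) (hV : V = X.basicOpen r) (hVU : V ≤ U)
    (s : Γ(F, V)) : ∃ (n : ℕ) (t : Γ(F, U)), res F hVU t = (resf hVU r) ^ n • s := by
  subst hV
  exact Groth.Agent.Lib.Helper2.QCoh.exists_extension hU F r s

end transport

section resLemmas
variable {X : Scheme.{u}} (F : X.Modules)

theorem res_add {U V : X.Opens} (h : V ≤ U) (s t : Γ(F, U)) :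
    res F h (s + t) = res F h s + res F h t := map_add _ _ _

theorem res_neg {U V : X.Opens} (h : V ≤ U) (s : Γ(F, U)) :
    res F h (-s) = -res F h s := map_neg _ _

theorem res_injective_of_eq {U V : X.Opens} (h : V ≤ U) (e : V = U) :
    Function.Injective (res F h) := by
  subst e
  intro s t hst
  have : ∀ x : Γ(F, V), res F h x = x := by
    intro x
    have h0 : (homOfLE h).op = 𝟙 (op V) := rfl
    simp only [res]
    rw [h0, F.presheaf.map_id]
    rfl
  rw [← this s, ← this t, hst]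

end resLemmas

variable {R A : Type u} [CommRing R] [CommRing A] [Algebra R A] {𝒜 : ℕ → Submodule R A}
  [GradedAlgebra 𝒜]
variable {ι : Type u} {f : ι → A}

/-- the product of the modules of sections over the `D₊(f i)` -/
@[nolint unusedArguments]
def PMod (_hf : ∀ i, f i ∈ 𝒜 1) (F : (Proj 𝒜).Modules) : Type u :=
  ∀ i, Γ(F, Proj.basicOpen 𝒜 (f i))

variable (hf : ∀ i, f i ∈ 𝒜 1) (F : (Proj 𝒜).Modules)

noncomputable instance : AddCommGroup (PMod hf F) :=
  inferInstanceAs (AddCommGroup (∀ i, Γ(F, Proj.basicOpen 𝒜 (f i))))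

noncomputable instance : Module A (PMod hf F) :=
  Module.compHom (∀ i, Γ(F, Proj.basicOpen 𝒜 (f i)))
    (Pi.ringHom fun i => dehom (hf i) : A →+* ∀ i, Γ(Proj 𝒜, Proj.basicOpen 𝒜 (f i)))

/-- evaluation at `i` -/
noncomputable def ev (i : ι) : PMod hf F →+ Γ(F, Proj.basicOpen 𝒜 (f i)) where
  toFun m := m i
  map_zero' := rfl
  map_add' _ _ := rfl

/-- constructor -/
def mk (m : ∀ i, Γ(F, Proj.basicOpen 𝒜 (f i))) : PMod hf F := m

theorem ev_mk (m : ∀ i, Γ(F, Proj.basicOpen 𝒜 (f i))) (i : ι) : ev hf F i (mk hf F m) = m i := rfl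

theorem ev_smul (a : A) (m : PMod hf F) (i : ι) :
    ev hf F i (a • m) = dehom (hf i) a • ev hf F i m := rfl

theorem pmod_ext {m m' : PMod hf F} (h : ∀ i, ev hf F i m = ev hf F i m') : m = m' :=
  funext h

variable (f) in
/-- `D₊(f i)` -/
abbrev D (i : ι) : (Proj 𝒜).Opens := Proj.basicOpen 𝒜 (f i)

/-- the function `f i / f j` on an open inside `D₊(f j)` -/
noncomputable def θ (j i : ι) {W : (Proj 𝒜).Opens} (hW : W ≤ D f j) :
    Γ(Proj 𝒜, W) := resO hW (dehom (hf j) (f i))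

/-- the degree `n` piece: families with `m j = (f i / f j)^n m i` on overlaps -/
noncomputable def Mn (n : ℕ) : AddSubgroup (PMod hf F) where
  carrier := {m | ∀ i j, res F (inf_le_right : D f i ⊓ D f j ≤ D f j) (ev hf F j m) =
    (θ hf j i (inf_le_right : D f i ⊓ D f j ≤ D f j)) ^ n •
      res F (inf_le_left : D f i ⊓ D f j ≤ D f i) (ev hf F i m)}
  add_mem' := by
    intro a b ha hb i j
    rw [map_add, map_add, res_add, res_add, ha i j, hb i j, smul_add]
  zero_mem' := by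
    intro i j
    rw [map_zero, map_zero, res_zero, res_zero, smul_zero]
  neg_mem' := by
    intro a ha i j
    rw [map_neg, map_neg, res_neg, res_neg, ha i j, smul_neg]

theorem mem_Mn (n : ℕ) (m : PMod hf F) : m ∈ Mn hf F n ↔
    ∀ i j, res F (inf_le_right : D f i ⊓ D f j ≤ D f j) (ev hf F j m) =
      (θ hf j i (inf_le_right : D f i ⊓ D f j ≤ D f j)) ^ n •
        res F (inf_le_left : D f i ⊓ D f j ≤ D f i) (ev hf F i m) := Iff.rfl

theorem resf_eq_resO {V W : (Proj 𝒜).Opens} (h : V ≤ W) (r : Γ(Proj 𝒜, W)) :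
    resf h r = resO h r := rfl

theorem resO_θ (j i : ι) {W W' : (Proj 𝒜).Opens} (hW : W ≤ D f j) (h : W' ≤ W) :
    resO h (θ hf j i hW) = θ hf j i (h.trans hW) := resO_resO _ _ _

theorem θ_self (i : ι) {W : (Proj 𝒜).Opens} (hW : W ≤ D f i) : θ hf i i hW = 1 := by
  unfold θ
  rw [dehom_self, map_one]

theorem θ_mul_θ (l j i : ι) {W : (Proj 𝒜).Opens} (hWj : W ≤ D f j) (hWl : W ≤ D f l) :
    θ hf l j hWl * θ hf j i hWj = θ hf l i hWl :=
  dehom_cocycle (hf i) (hf j) (hf l) hWj hWl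

/-- the defining relation of `Mn` on any open inside `D₊(f i) ∩ D₊(f j)` -/
theorem Mn_res {n : ℕ} {m : PMod hf F} (hm : m ∈ Mn hf F n) (i j : ι) {W : (Proj 𝒜).Opens}
    (hWi : W ≤ D f i) (hWj : W ≤ D f j) :
    res F hWj (ev hf F j m) = (θ hf j i hWj) ^ n • res F hWi (ev hf F i m) := by
  have h := congrArg (res F (le_inf hWi hWj)) (hm i j)
  rw [res_res, res_smul, res_res, resf_pow, resf_eq_resO, resO_θ] at h
  exact h

instance : SetLike.GradedSMul 𝒜 (Mn hf F) where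
  smul_mem := by
    intro k n a m ha hm i j
    rw [ev_smul, ev_smul, res_smul, res_smul, hm i j, resf_eq_resO, resf_eq_resO,
      dehom_overlap (hf i) (hf j) ha inf_le_left inf_le_right, smul_smul, smul_smul]
    congr 1
    change _ = θ hf j i _ ^ (k + n) * _
    unfold θ
    ring

theorem exists_uniform {κ : Type*} [Finite κ] {p : κ → ℕ → Prop}
    (hmono : ∀ j k k', k ≤ k' → p j k → p j k') (h : ∀ j, ∃ k, p j k) : ∃ k, ∀ j, p j k := by
  classical
  choose k hk using h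
  haveI := Fintype.ofFinite κ
  exact ⟨Finset.univ.sup k, fun j => hmono j (k j) _ (Finset.le_sup (Finset.mem_univ j)) (hk j)⟩

/-- the component maps `Γ_*(F)_n → Γ(F, D₊(f i))` -/
noncomputable def c (i : ι) (n : ℕ) : gr 𝒜 (Mn hf F) n →+ Γ(F, D f i) :=
  (ev hf F i).comp ((Mn hf F n).subtype.comp (comp 𝒜 (Mn hf F) n))

theorem c_apply (i : ι) (n : ℕ) (x : gr 𝒜 (Mn hf F) n) :
    c hf F i n x = ev hf F i (comp 𝒜 (Mn hf F) n x).1 := rfl

theorem c_smul {k n : ℕ} {a : A} (ha : a ∈ 𝒜 k) (x : gr 𝒜 (Mn hf F) n) (i : ι) :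
    c hf F i (k + n) ⟨a • x.1, SetLike.GradedSMul.smul_mem ha x.2⟩ =
      dehom (hf i) a • c hf F i n x := by
  rw [c_apply, comp_smul 𝒜 (Mn hf F) ha x, ev_smul]
  rfl

theorem c_overlap {n : ℕ} (x : gr 𝒜 (Mn hf F) n) (i j : ι) {W : (Proj 𝒜).Opens}
    (hWi : W ≤ D f i) (hWj : W ≤ D f j) :
    res F hWj (c hf F j n x) = (θ hf j i hWj) ^ n • res F hWi (c hf F i n x) :=
  Mn_res hf F (comp 𝒜 (Mn hf F) n x).2 i j hWi hWj

include hf in
theorem isAffineOpen_D (i : ι) : IsAffineOpen (D (𝒜 := 𝒜) f i) :=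
  Proj.isAffineOpen_basicOpen 𝒜 (f i) (hf i) one_pos

theorem c_eq_zero [Finite ι] [F.IsQuasicoherent] (i : ι) {n : ℕ} (x : gr 𝒜 (Mn hf F) n)
    (h : c hf F i n x = 0) : ∃ k : ℕ, (f i) ^ k • x.1 = 0 := by
  have h1 : ∀ j, ∃ k : ℕ, (dehom (hf j) (f i)) ^ k • c hf F j n x = 0 := by
    intro j
    refine exists_pow_smul_eq_zero_of_eq (isAffineOpen_D hf j) F (dehom (hf j) (f i))
      (V := D f i ⊓ D f j) (basicOpen_dehom (hf i) (hf j)).symm inf_le_right _ ?_
    rw [c_overlap hf F x i j inf_le_left inf_le_right, h, res_zero, smul_zero]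
  obtain ⟨K, hK⟩ := exists_uniform (p := fun j k => (dehom (hf j) (f i)) ^ k • c hf F j n x = 0)
    (by
      intro j k k' hkk' hk
      obtain ⟨d, rfl⟩ := Nat.exists_eq_add_of_le hkk'
      rw [pow_add, mul_comm, mul_smul, hk, smul_zero]) h1
  refine ⟨K, ?_⟩
  have hmem : (f i) ^ K ∈ 𝒜 K := pow_mem_deg (hf i) K
  have h2 : (⟨(f i) ^ K • x.1, SetLike.GradedSMul.smul_mem hmem x.2⟩ : gr 𝒜 (Mn hf F) (K + n)) = 0 := by
    apply comp_injective 𝒜 (Mn hf F)
    rw [map_zero]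
    apply Subtype.ext
    apply pmod_ext
    intro j
    have := c_smul hf F hmem x j
    rw [c_apply] at this
    rw [this, map_pow, hK j]
    rfl
  exact congrArg Subtype.val h2

include hf in
theorem isAffineOpen_D_inf (j l : ι) : IsAffineOpen (D (𝒜 := 𝒜) f j ⊓ D f l) := by
  have h := Proj.isAffineOpen_basicOpen 𝒜 (f j * f l)
    (SetLike.mul_mem_graded (hf j) (hf l)) (by norm_num : 0 < 1 + 1)
  rwa [Proj.basicOpen_mul] at h

theorem basicOpen_θ_le (j i : ι) {W : (Proj 𝒜).Opens} (hW : W ≤ D f j) :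
    (Proj 𝒜).basicOpen (θ hf j i hW) ≤ D f i := by
  have h1 : (Proj 𝒜).basicOpen (θ hf j i hW) = W ⊓ (Proj 𝒜).basicOpen (dehom (hf j) (f i)) :=
    Scheme.basicOpen_res (Proj 𝒜) (dehom (hf j) (f i)) (homOfLE hW).op
  rw [h1, basicOpen_dehom (hf i) (hf j)]
  exact inf_le_right.trans inf_le_left

theorem c_surjective [Finite ι] [F.IsQuasicoherent] (i : ι) (t : Γ(F, D f i)) :
    ∃ (n : ℕ) (x : gr 𝒜 (Mn hf F) n), c hf F i n x = t := by
  -- Step A: extend `(f i / f j)^K t` to `D₊(f j)`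
  have hA : ∀ j, ∃ k : ℕ, ∃ u : Γ(F, D f j),
      res F (inf_le_right : D f i ⊓ D f j ≤ D f j) u =
        (θ hf j i (inf_le_right : D f i ⊓ D f j ≤ D f j)) ^ k •
          res F (inf_le_left : D f i ⊓ D f j ≤ D f i) t := by
    intro j
    obtain ⟨k, u, hu⟩ := exists_extension_of_eq (isAffineOpen_D hf j) F (dehom (hf j) (f i))
      (V := D f i ⊓ D f j) (basicOpen_dehom (hf i) (hf j)).symm inf_le_right
      (res F inf_le_left t)
    exact ⟨k, u, hu⟩
  obtain ⟨K, hK⟩ := exists_uniform (p := fun j k => ∃ u : Γ(F, D f j),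
      res F (inf_le_right : D f i ⊓ D f j ≤ D f j) u =
        (θ hf j i (inf_le_right : D f i ⊓ D f j ≤ D f j)) ^ k •
          res F (inf_le_left : D f i ⊓ D f j ≤ D f i) t)
    (by
      rintro j k k' hkk' ⟨u, hu⟩
      obtain ⟨d, rfl⟩ := Nat.exists_eq_add_of_le hkk'
      refine ⟨(dehom (hf j) (f i)) ^ d • u, ?_⟩
      rw [res_smul, hu, resf_pow, resf_eq_resO, smul_smul, pow_add, mul_comm]
      rfl) hA
  choose u hu using hK
  have hu' : ∀ (j : ι) {W : (Proj 𝒜).Opens} (hWi : W ≤ D f i) (hWj : W ≤ D f j),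
      res F hWj (u j) = (θ hf j i hWj) ^ K • res F hWi t := by
    intro j W hWi hWj
    have h := congrArg (res F (le_inf hWi hWj)) (hu j)
    rw [res_res, res_smul, res_res, resf_pow, resf_eq_resO, resO_θ] at h
    exact h
  -- Step B: the defect on `D₊(f j) ∩ D₊(f l)` is killed by a power of `f i / f j`
  have hB : ∀ jl : ι × ι, ∃ e : ℕ,
      (θ hf jl.1 i (inf_le_left : D f jl.1 ⊓ D f jl.2 ≤ D f jl.1)) ^ e •
        (res F (inf_le_right : D f jl.1 ⊓ D f jl.2 ≤ D f jl.2) (u jl.2) -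
          (θ hf jl.2 jl.1 (inf_le_right : D f jl.1 ⊓ D f jl.2 ≤ D f jl.2)) ^ K •
            res F (inf_le_left : D f jl.1 ⊓ D f jl.2 ≤ D f jl.1) (u jl.1)) = 0 := by
    rintro ⟨j, l⟩
    refine Groth.Agent.Lib.Helper2.QCoh.exists_pow_smul_eq_zero (isAffineOpen_D_inf hf j l) F _ _ ?_
    have hW1 := (Proj 𝒜).basicOpen_le
      (θ hf j i (inf_le_left : D f j ⊓ D f l ≤ D f j))
    have hWi := basicOpen_θ_le hf j i (inf_le_left : D f j ⊓ D f l ≤ D f j)
    change res F hW1 _ = 0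
    rw [res_sub, res_smul, res_res, res_res, resf_pow, resf_eq_resO, resO_θ,
      hu' l hWi (hW1.trans inf_le_right), hu' j hWi (hW1.trans inf_le_left), smul_smul,
      ← mul_pow, θ_mul_θ, sub_self]
  obtain ⟨E, hE⟩ := exists_uniform (p := fun (jl : ι × ι) e =>
      (θ hf jl.1 i (inf_le_left : D f jl.1 ⊓ D f jl.2 ≤ D f jl.1)) ^ e •
        (res F (inf_le_right : D f jl.1 ⊓ D f jl.2 ≤ D f jl.2) (u jl.2) -
          (θ hf jl.2 jl.1 (inf_le_right : D f jl.1 ⊓ D f jl.2 ≤ D f jl.2)) ^ K •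
            res F (inf_le_left : D f jl.1 ⊓ D f jl.2 ≤ D f jl.1) (u jl.1)) = 0)
    (by
      rintro jl k k' hkk' hk
      obtain ⟨d, rfl⟩ := Nat.exists_eq_add_of_le hkk'
      rw [pow_add, mul_comm, mul_smul, hk, smul_zero]) hB
  -- Step C: the family `(f i / f j)^E u j` lies in `Mn (K + E)`
  let m : PMod hf F := mk hf F fun j => (dehom (hf j) (f i)) ^ E • u j
  have hm : m ∈ Mn hf F (K + E) := by
    intro j l
    have h1 := hE (j, l)
    simp only at h1
    rw [smul_sub, sub_eq_zero] at h1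
    rw [ev_mk, ev_mk, res_smul, res_smul, resf_pow, resf_pow, resf_eq_resO, resf_eq_resO]
    change (θ hf l i (inf_le_right : D f j ⊓ D f l ≤ D f l)) ^ E • _ =
      _ • (θ hf j i (inf_le_left : D f j ⊓ D f l ≤ D f j)) ^ E • _
    rw [← θ_mul_θ hf l j i (inf_le_left : D f j ⊓ D f l ≤ D f j) inf_le_right, mul_pow, mul_smul,
      h1, smul_smul, smul_smul, smul_smul]
    congr 1
    ring
  refine ⟨K + E, toGr 𝒜 (Mn hf F) (K + E) ⟨m, hm⟩, ?_⟩
  rw [c_apply, comp_toGr]
  change ev hf F i m = t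
  rw [ev_mk, dehom_self, one_pow, one_smul]
  apply res_injective_of_eq F (le_refl (D f i)) rfl
  rw [hu' i le_rfl le_rfl, θ_self, one_pow, one_smul]

end Groth.Agent.Helper13GammaStar
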