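import Mathlib
import Groth.Agent.Lib.Helper13TorBC2

/-!
# Flat base change for Tor, left variable an `A'`-module   (helper13)
-/

set_option autoImplicit false
universe u
open CategoryTheory MonoidalCategory Limits

namespace Groth.Agent.Helper13TorBC

variable (A A' : Type u) [CommRing A] [CommRing A'] [Algebra A A']

section delta
variable (P' : Type u) [AddCommGroup P'] [Module A' P'] [Module A P'] [IsScalarTower A A' P']

/-- the `A'`-linear equivalence `P' ⊗_{A'} (E X) ≃ P' ⊗_A X` -/
noncomputable def δ' (X : ModuleCat.{u} A) :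
    ((ModuleCat.of A' P' ⊗ (E A A').obj X : ModuleCat.{u} A')) ≃ₗ[A'] TensorProduct A P' X :=
  (TensorProduct.congr (LinearEquiv.refl A' P') (Groth.Agent.S2380.bridge A A' X)) ≪≫ₗ
    (TensorProduct.AlgebraTensorModule.cancelBaseChange A A' A' P' X)

/-- the `A`-linear equivalence `ρ (P' ⊗_{A'} (E X)) ≃ P' ⊗_A X` -/
noncomputable def δ (X : ModuleCat.{u} A) :
    (ρ A A').obj (ModuleCat.of A' P' ⊗ (E A A').obj X) ≃ₗ[A]
      (ModuleCat.of A P' ⊗ X : ModuleCat.{u} A) where
  toFun z := δ' A A' P' X z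
  invFun w := (δ' A A' P' X).symm w
  map_add' z w := map_add (δ' A A' P' X) _ _
  map_smul' a z := by
    show δ' A A' P' X (algebraMap A A' a •
      (show ↑(ModuleCat.of A' P' ⊗ (E A A').obj X : ModuleCat.{u} A') from z)) =
      a • δ' A A' P' X z
    rw [map_smul, algebraMap_smul]
  left_inv z := (δ' A A' P' X).symm_apply_apply z
  right_inv w := (δ' A A' P' X).apply_symm_apply w

/-- left side of the naturality square, as an additive map -/
noncomputable def natL₂ {X Y : ModuleCat.{u} A} (f : X ⟶ Y) :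
    (ModuleCat.of A' P' ⊗ (E A A').obj X : ModuleCat.{u} A') →+
      (ModuleCat.of A P' ⊗ Y : ModuleCat.{u} A) :=
  AddMonoidHom.comp (δ A A' P' Y).toLinearMap.toAddMonoidHom
    (ModuleCat.of A' P' ◁ ((E A A').map f)).hom.toAddMonoidHom

/-- right side of the naturality square, as an additive map -/
noncomputable def natR₂ {X Y : ModuleCat.{u} A} (f : X ⟶ Y) :
    (ModuleCat.of A' P' ⊗ (E A A').obj X : ModuleCat.{u} A') →+
      (ModuleCat.of A P' ⊗ Y : ModuleCat.{u} A) :=
  AddMonoidHom.comp (ModuleCat.of A P' ◁ f).hom.toAddMonoidHom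
    (δ A A' P' X).toLinearMap.toAddMonoidHom

theorem natL₂_eq_natR₂ {X Y : ModuleCat.{u} A} (f : X ⟶ Y) :
    natL₂ A A' P' f = natR₂ A A' P' f := by
  apply AddMonoidHom.ext
  intro z
  induction z using TensorProduct.induction_on with
  | zero => rw [map_zero, map_zero]
  | tmul p e =>
    refine TensorProduct.induction_on (motive := fun e =>
      natL₂ A A' P' f (p ⊗ₜ[A'] (show ↑((E A A').obj X) from e)) =
        natR₂ A A' P' f (p ⊗ₜ[A'] (show ↑((E A A').obj X) from e))) e ?_ ?_ ?_
    · have h0 : (p ⊗ₜ[A'] (show ↑((E A A').obj X) from 0) :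
          (ModuleCat.of A' P' ⊗ (E A A').obj X : ModuleCat.{u} A')) = 0 :=
        TensorProduct.tmul_zero _ _
      exact (congrArg (natL₂ A A' P' f) h0).trans ((map_zero _).trans
        ((map_zero (natR₂ A A' P' f)).symm.trans (congrArg (natR₂ A A' P' f) h0).symm))
    · intro a' x
      rfl
    · intro e₁ e₂ h₁ h₂
      have hadd : (p ⊗ₜ[A'] (show ↑((E A A').obj X) from e₁ + e₂) :
          (ModuleCat.of A' P' ⊗ (E A A').obj X : ModuleCat.{u} A')) =
          p ⊗ₜ[A'] (show ↑((E A A').obj X) from e₁) +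
            p ⊗ₜ[A'] (show ↑((E A A').obj X) from e₂) :=
        TensorProduct.tmul_add _ _ _
      refine (congrArg (natL₂ A A' P' f) hadd).trans ?_
      refine (map_add (natL₂ A A' P' f) _ _).trans ?_
      refine Eq.trans ?_ (congrArg (natR₂ A A' P' f) hadd).symm
      refine Eq.trans ?_ (map_add (natR₂ A A' P' f) _ _).symm
      exact congrArg₂ (· + ·) h₁ h₂
  | add z₁ z₂ h₁ h₂ => rw [map_add, map_add, h₁, h₂]

/-- `ρ (P' ⊗_{A'} E X) ≅ P' ⊗_A X`, naturally in `X`. -/
noncomputable def δIso :
    E A A' ⋙ tensorLeft (ModuleCat.of A' P') ⋙ ρ A A' ≅ tensorLeft (ModuleCat.of A P') :=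
  NatIso.ofComponents (fun X => (δ A A' P' X).toModuleIso) (by
    intro X Y f
    apply ModuleCat.hom_ext
    apply LinearMap.ext
    intro z
    exact DFunLike.congr_fun (natL₂_eq_natR₂ A A' P' f) z)

variable {A} in
/-- **Flat base change for Tor**, left variable an `A'`-module. -/
theorem nonempty_restrict_tor_iso_left [Module.Flat A A'] (Q : ModuleCat.{u} A) (n : ℕ) :
    Nonempty ((ρ A A').obj
        (((Tor (ModuleCat.{u} A') n).obj (ModuleCat.of A' P')).obj ((E A A').obj Q)) ≅
      ((Tor (ModuleCat.{u} A) n).obj (ModuleCat.of A P')).obj Q) := by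
  let R := projectiveResolution Q
  let R' := (E A A').mapProjectiveResolution R
  let i1 : ((Tor (ModuleCat.{u} A) n).obj (ModuleCat.of A P')).obj Q ≅
      (((tensorLeft (ModuleCat.of A P')).mapHomologicalComplex _).obj R.complex).homology n :=
    R.isoLeftDerivedObj (tensorLeft (ModuleCat.of A P')) n
  let i2 : ((Tor (ModuleCat.{u} A') n).obj (ModuleCat.of A' P')).obj ((E A A').obj Q) ≅
      (((tensorLeft (ModuleCat.of A' P')).mapHomologicalComplex _).obj R'.complex).homology n :=
    R'.isoLeftDerivedObj (tensorLeft (ModuleCat.of A' P')) n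
  let i3 : (((E A A' ⋙ tensorLeft (ModuleCat.of A' P') ⋙ ρ A A').mapHomologicalComplex
        _).obj R.complex).homology n ≅
      (ρ A A').obj ((((tensorLeft (ModuleCat.of A' P')).mapHomologicalComplex _).obj
        R'.complex).homology n) :=
    ((((tensorLeft (ModuleCat.of A' P')).mapHomologicalComplex _).obj R'.complex).sc
      n).mapHomologyIso (ρ A A')
  let i4 : (((E A A' ⋙ tensorLeft (ModuleCat.of A' P') ⋙ ρ A A').mapHomologicalComplex
        _).obj R.complex).homology n ≅
      (((tensorLeft (ModuleCat.of A P')).mapHomologicalComplex _).obj R.complex).homology n :=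
    (HomologicalComplex.homologyFunctor _ _ n).mapIso
      ((NatIso.mapHomologicalComplex (δIso A A' P') _).app R.complex)
  exact ⟨(ρ A A').mapIso i2 ≪≫ i3.symm ≪≫ i4 ≪≫ i1.symm⟩

end delta

end Groth.Agent.Helper13TorBC
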