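import Mathlib
import Groth.Prelude.Def_EtGlue
import Groth.Agent.Lib.Helper13Tor
import Groth.Agent.Lib.Helper13TorMore
import Groth.Agent.Lib.Helper13TorBC3

/-!
# Tor vanishing for glueing pairs (Beauville–Laszlo)

For a glueing pair `(R → R', f)` and an `f`-power torsion `R`-module `N`, `Tor_i^R(R', N) = 0` for
`i ≥ 1`: use the long exact sequence in the first variable attached to
`0 → R → R' × R_f → R'_f → 0` and flat base change `Tor^R(R'_f, N) = Tor^{R_f}(R'_f, N_f) = 0`.
-/

set_option autoImplicit false
universe u
open CategoryTheory CategoryTheory.Limits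

namespace Groth.Agent.Helper13Glue

open Groth.Agent.Helper13Tor

variable {R R' : Type u} [CommRing R] [CommRing R'] [Algebra R R'] (f : R)

/-- `R'_f` as an `R_f`-algebra. -/
noncomputable def algAway :
    Algebra (Localization.Away f) (Localization.Away (algebraMap R R' f)) :=
  (Localization.awayMap (algebraMap R R') f).toAlgebra

theorem awayMap_algebraMap (r : R) :
    Localization.awayMap (algebraMap R R') f (algebraMap R (Localization.Away f) r) =
      algebraMap R (Localization.Away (algebraMap R R' f)) r := by
  rw [Localization.awayMap, IsLocalization.Away.map, IsLocalization.map_eq,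
    ← IsScalarTower.algebraMap_apply]

theorem scalarTower_away :
    letI := algAway (R' := R') f
    IsScalarTower R (Localization.Away f) (Localization.Away (algebraMap R R' f)) := by
  letI := algAway (R' := R') f
  apply IsScalarTower.of_algebraMap_eq
  intro r
  exact (awayMap_algebraMap f r).symm

/-- `R_f ⊗_R N = 0` for `f`-power torsion `N`. -/
theorem subsingleton_tensor_away (N : Type u) [AddCommGroup N] [Module R N]
    (hN : ∀ y : N, ∃ n : ℕ, f ^ n • y = 0) :
    Subsingleton (TensorProduct R (Localization.Away f) N) := by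
  refine ⟨fun z z' => ?_⟩
  suffices h : ∀ z : TensorProduct R (Localization.Away f) N, z = 0 by rw [h z, h z']
  intro z
  induction z using TensorProduct.induction_on with
  | zero => rfl
  | tmul a y =>
    obtain ⟨n, hn⟩ := hN y
    have hu : IsUnit (algebraMap R (Localization.Away f) (f ^ n)) := by
      rw [map_pow]
      exact (IsLocalization.Away.algebraMap_isUnit f).pow n
    obtain ⟨u, hu⟩ := hu
    have ha : a = f ^ n • (↑u⁻¹ * a) := by
      rw [Algebra.smul_def, ← hu, ← mul_assoc, Units.mul_inv, one_mul]
    rw [ha, TensorProduct.smul_tmul, hn, TensorProduct.tmul_zero]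
  | add z z' hz hz' => rw [hz, hz', add_zero]


/-- `Tor_i^R(R'_f, N) = 0` for `f`-power torsion `N` and `i ≥ 1` (flat base change to `R_f`). -/
theorem isZero_tor_away (N : Type u) [AddCommGroup N] [Module R N]
    (hN : ∀ y : N, ∃ n : ℕ, f ^ n • y = 0) (i : ℕ) (hi : 0 < i) :
    IsZero (((Tor (ModuleCat.{u} R) i).obj
      (ModuleCat.of R (Localization.Away (algebraMap R R' f)))).obj (ModuleCat.of R N)) := by
  letI := algAway (R' := R') f
  haveI := scalarTower_away (R' := R') f
  obtain ⟨e⟩ := Groth.Agent.Helper13TorBC.nonempty_restrict_tor_iso_left (Localization.Away f)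
    (Localization.Away (algebraMap R R' f)) (ModuleCat.of R N) i
  refine IsZero.of_iso ?_ e.symm
  have hsub0 := subsingleton_tensor_away f N hN
  have hsub : Subsingleton ((Groth.Agent.Helper13TorBC.E R (Localization.Away f)).obj
      (ModuleCat.of R N)) :=
    (Groth.Agent.S2380.bridge R (Localization.Away f) (ModuleCat.of R N)).toEquiv.subsingleton
  haveI : Module.Flat (Localization.Away f)
      ((Groth.Agent.Helper13TorBC.E R (Localization.Away f)).obj (ModuleCat.of R N)) :=
    inferInstance
  have hz := isZero_tor_of_flat_right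
    (ModuleCat.of (Localization.Away f) (Localization.Away (algebraMap R R' f)))
    ((Groth.Agent.Helper13TorBC.E R (Localization.Away f)).obj (ModuleCat.of R N)) i hi
  have hs := ModuleCat.subsingleton_of_isZero hz
  have hs' : Subsingleton ((Groth.Agent.Helper13TorBC.ρ R (Localization.Away f)).obj
      (((Tor (ModuleCat.{u} (Localization.Away f)) i).obj
        (ModuleCat.of (Localization.Away f) (Localization.Away (algebraMap R R' f)))).obj
        ((Groth.Agent.Helper13TorBC.E R (Localization.Away f)).obj (ModuleCat.of R N)))) := hs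
  exact ModuleCat.isZero_of_subsingleton _


/-- `awayMap` as an `R`-linear map `R_f → R'_f`. -/
noncomputable def awayLin :
    Localization.Away f →ₗ[R] Localization.Away (algebraMap R R' f) where
  toFun := Localization.awayMap (algebraMap R R') f
  map_add' := map_add _
  map_smul' r y := by
    rw [Algebra.smul_def, map_mul, awayMap_algebraMap, RingHom.id_apply, Algebra.smul_def]

/-- The glueing short complex `R → R' × R_f → R'_f`. -/
noncomputable def glueSC : ShortComplex (ModuleCat.{u} R) :=
  ShortComplex.mk
    (ModuleCat.ofHom (LinearMap.prod (Algebra.linearMap R R')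
      (Algebra.linearMap R (Localization.Away f))) :
      ModuleCat.of R R ⟶ ModuleCat.of R (R' × Localization.Away f))
    (ModuleCat.ofHom (LinearMap.coprod
      (IsScalarTower.toAlgHom R R' (Localization.Away (algebraMap R R' f))).toLinearMap
      (-(awayLin (R' := R') f))) :
      ModuleCat.of R (R' × Localization.Away f) ⟶
        ModuleCat.of R (Localization.Away (algebraMap R R' f))) (by
    apply ModuleCat.hom_ext
    apply LinearMap.ext
    intro r
    show algebraMap R' (Localization.Away (algebraMap R R' f)) (algebraMap R R' r) +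
      -(Localization.awayMap (algebraMap R R') f (algebraMap R (Localization.Away f) r)) = 0
    rw [awayMap_algebraMap, ← IsScalarTower.algebraMap_apply, add_neg_cancel])

theorem glueSC_shortExact (h : EtGlue.IsGlueingPair R R' f) : (glueSC (R' := R') f).ShortExact where
  exact := by
    rw [ShortComplex.moduleCat_exact_iff]
    rintro ⟨x, y⟩ hxy
    have hxy' : algebraMap R' (Localization.Away (algebraMap R R' f)) x +
      -(Localization.awayMap (algebraMap R R') f y) = 0 := hxy
    rw [← sub_eq_add_neg, sub_eq_zero] at hxy'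
    obtain ⟨r, hr1, hr2⟩ := h.2.2.1 x y hxy'
    refine ⟨r, ?_⟩
    show (algebraMap R R' r, algebraMap R (Localization.Away f) r) = (x, y)
    rw [hr1, hr2]
  mono_f := by
    rw [ModuleCat.mono_iff_injective]
    exact h.2.1
  epi_g := by
    rw [ModuleCat.epi_iff_surjective]
    intro z
    obtain ⟨x, y, hxy⟩ := h.2.2.2 z
    refine ⟨(x, y), ?_⟩
    show algebraMap R' (Localization.Away (algebraMap R R' f)) x +
      -(Localization.awayMap (algebraMap R R') f y) = z
    rw [← sub_eq_add_neg]
    exact hxy

/-- For a glueing pair `(R → R', f)` and an `f`-power torsion module `N`, `Tor_i^R(R', N) = 0` for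
all `i ≥ 1`. -/
theorem isZero_tor_of_torsion (h : EtGlue.IsGlueingPair R R' f) (N : Type u) [AddCommGroup N]
    [Module R N] (hN : ∀ y : N, ∃ n : ℕ, f ^ n • y = 0) (i : ℕ) (hi : 0 < i) :
    IsZero (((Tor (ModuleCat.{u} R) i).obj (ModuleCat.of R R')).obj (ModuleCat.of R N)) := by
  have h1 : IsZero (((Tor (ModuleCat.{u} R) i).obj (ModuleCat.of R R)).obj (ModuleCat.of R N)) :=
    isZero_tor_of_flat (Y := ModuleCat.of R N) (ModuleCat.of R R) i hi
  have h3 := isZero_tor_away (R' := R') f N hN i hi
  have h2 : IsZero (((Tor (ModuleCat.{u} R) i).obj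
      (ModuleCat.of R (R' × Localization.Away f))).obj (ModuleCat.of R N)) :=
    isZero_tor_X₂ (glueSC (R' := R') f) (glueSC_shortExact f h) (ModuleCat.of R N) i h1 h3
  let inl : ModuleCat.of R R' ⟶ ModuleCat.of R (R' × Localization.Away f) :=
    ModuleCat.ofHom (LinearMap.inl R R' (Localization.Away f))
  let fst : ModuleCat.of R (R' × Localization.Away f) ⟶ ModuleCat.of R R' :=
    ModuleCat.ofHom (LinearMap.fst R R' (Localization.Away f))
  have hid : inl ≫ fst = 𝟙 _ := by
    apply ModuleCat.hom_ext
    apply LinearMap.ext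
    intro x
    rfl
  rw [IsZero.iff_id_eq_zero]
  have : 𝟙 (((Tor (ModuleCat.{u} R) i).obj (ModuleCat.of R R')).obj (ModuleCat.of R N)) =
      ((Tor (ModuleCat.{u} R) i).map inl).app (ModuleCat.of R N) ≫
        ((Tor (ModuleCat.{u} R) i).map fst).app (ModuleCat.of R N) := by
    rw [← NatTrans.comp_app, ← CategoryTheory.Functor.map_comp, hid,
      CategoryTheory.Functor.map_id]
    rfl
  rw [this, h2.eq_of_tgt (((Tor (ModuleCat.{u} R) i).map inl).app (ModuleCat.of R N)) 0, zero_comp]


/-- The short complex `K → M → M/K` of a submodule. -/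
noncomputable def sesSub {M : Type u} [AddCommGroup M] [Module R M] (K : Submodule R M) :
    ShortComplex (ModuleCat.{u} R) :=
  ShortComplex.mk (ModuleCat.ofHom K.subtype : ModuleCat.of R K ⟶ ModuleCat.of R M)
    (ModuleCat.ofHom K.mkQ : ModuleCat.of R M ⟶ ModuleCat.of R (M ⧸ K)) (by
    apply ModuleCat.hom_ext
    apply LinearMap.ext
    intro y
    show K.mkQ (K.subtype y) = 0
    rw [Submodule.mkQ_apply, Submodule.Quotient.mk_eq_zero]
    exact y.2)

theorem sesSub_shortExact {M : Type u} [AddCommGroup M] [Module R M] (K : Submodule R M) :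
    (sesSub K).ShortExact where
  exact := by
    rw [ShortComplex.moduleCat_exact_iff]
    intro y hy
    have hy' : K.mkQ y = 0 := hy
    rw [Submodule.mkQ_apply, Submodule.Quotient.mk_eq_zero] at hy'
    exact ⟨⟨y, hy'⟩, rfl⟩
  mono_f := by
    rw [ModuleCat.mono_iff_injective]
    exact K.injective_subtype
  epi_g := by
    rw [ModuleCat.epi_iff_surjective]
    exact K.mkQ_surjective

/-- `M_f / im(M)` is `f`-power torsion. -/
theorem torsion_coker_mk (M : Type u) [AddCommGroup M] [Module R M]
    (y : LocalizedModule (Submonoid.powers f) M ⧸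
      LinearMap.range (LocalizedModule.mkLinearMap (Submonoid.powers f) M)) :
    ∃ n : ℕ, f ^ n • y = 0 := by
  obtain ⟨z, rfl⟩ := Submodule.Quotient.mk_surjective _ y
  induction z using LocalizedModule.induction_on with
  | _ m s =>
    obtain ⟨n, hn⟩ := s.2
    refine ⟨n, ?_⟩
    rw [← Submodule.Quotient.mk_smul, Submodule.Quotient.mk_eq_zero]
    refine ⟨m, ?_⟩
    rw [LocalizedModule.mkLinearMap_apply, LocalizedModule.smul'_mk]
    have : f ^ n • m = s • m := by
      rw [Submonoid.smul_def, ← hn]
    rw [this, LocalizedModule.mk_cancel]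

end Groth.Agent.Helper13Glue
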