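import Mathlib

/-!
# Graded rings that are polynomial rings in one variable of degree one (helper13; pure Mathlib)

For a graded ring `A` (grading `𝒜`), a ring hom `ι : B → A` landing in degree `0` and `z ∈ 𝒜 1` with
`B[X] → A`, `X ↦ z`, bijective: `exists_eq_mul_pow` (`𝒜 k = ι(B) z^k`), `basicOpen_eq_top`
(`D_+(z) = Proj A`), `ιZero_bijective`, `fromZeroRingHom_bijective`, `isIso_awayι`, `isIso_toSpecZero`,
`isIso_toSpecZero_comp` (`Proj A ≅ Spec B`).
-/

set_option autoImplicit false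
set_option linter.style.haveILetI false

namespace Groth.Agent.Helper13GrPoly

universe u

open Polynomial DirectSum HomogeneousLocalization AlgebraicGeometry CategoryTheory

section
variable {A B : Type u} [CommRing A] [CommRing B] (𝒜 : ℕ → AddSubgroup A) [GradedRing 𝒜]
  (ι : B →+* A) (hι : ∀ b, ι b ∈ 𝒜 0) (z : A) (hz : z ∈ 𝒜 1)

include hι hz in
theorem term_mem (b : B) (i : ℕ) : ι b * z ^ i ∈ 𝒜 i := by
  have h1 : z ^ i ∈ 𝒜 (i • 1) := SetLike.pow_mem_graded i hz
  have h2 := SetLike.mul_mem_graded (hι b) h1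
  simpa using h2

include hι hz in
theorem proj_eval₂ (p : B[X]) (k : ℕ) :
    ((decompose 𝒜 (eval₂ ι z p) k : 𝒜 k) : A) = ι (p.coeff k) * z ^ k := by
  rw [eval₂_eq_sum, Polynomial.sum, decompose_sum, DFinsupp.finset_sum_apply,
    AddSubmonoidClass.coe_finset_sum]
  by_cases hk : k ∈ p.support
  · rw [Finset.sum_eq_single k]
    · exact decompose_of_mem_same 𝒜 (term_mem 𝒜 ι hι z hz _ k)
    · intro i _ hik
      exact decompose_of_mem_ne 𝒜 (term_mem 𝒜 ι hι z hz _ i) hik
    · intro h; exact absurd hk h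
  · rw [Finset.sum_eq_zero]
    · rw [Polynomial.notMem_support_iff.1 hk, map_zero, zero_mul]
    · intro i hi
      have hik : i ≠ k := fun h => hk (h ▸ hi)
      exact decompose_of_mem_ne 𝒜 (term_mem 𝒜 ι hι z hz _ i) hik

variable (hpoly : Function.Bijective (eval₂RingHom ι z))

include hι hz hpoly in
theorem exists_eq_mul_pow (k : ℕ) (a : A) (ha : a ∈ 𝒜 k) : ∃ b : B, a = ι b * z ^ k := by
  obtain ⟨p, rfl⟩ := hpoly.2 a
  refine ⟨p.coeff k, ?_⟩
  rw [← proj_eval₂ 𝒜 ι hι z hz p k]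
  exact (decompose_of_mem_same 𝒜 ha).symm

end

section
variable {A B : Type u} [CommRing A] [CommRing B] (𝒜 : ℕ → AddSubgroup A) [GradedRing 𝒜]
  (ι : B →+* A) (hι : ∀ b, ι b ∈ 𝒜 0) (z : A) (hz : z ∈ 𝒜 1)
  (hpoly : Function.Bijective (eval₂RingHom ι z))

include hpoly in
theorem ι_injective : Function.Injective ι := by
  intro a b hab
  apply Polynomial.C_injective
  apply hpoly.1
  simpa using hab

include hpoly in
theorem pow_mul_eq_zero (n : ℕ) (b : B) (h : z ^ n * ι b = 0) : b = 0 := by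
  have h1 : eval₂RingHom ι z (X ^ n * C b) = eval₂RingHom ι z 0 := by
    rw [map_zero, map_mul, map_pow, coe_eval₂RingHom, eval₂_X, eval₂_C]
    exact h
  have h2 := hpoly.1 h1
  have h3 := congrArg (fun p : B[X] => p.coeff n) h2
  simpa using h3

include hι hz hpoly in
theorem irrelevant_le_span : (HomogeneousIdeal.irrelevant 𝒜).toIdeal ≤ Ideal.span {z} := by
  classical
  intro a ha
  replace ha : a ∈ HomogeneousIdeal.irrelevant 𝒜 := ha
  rw [HomogeneousIdeal.mem_irrelevant_iff] at ha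
  rw [← DirectSum.sum_support_decompose 𝒜 a]
  refine Ideal.sum_mem _ fun k _ => ?_
  by_cases hk : k = 0
  · subst hk
    have : ((decompose 𝒜 a 0 : 𝒜 0) : A) = 0 := ha
    rw [this]
    exact zero_mem _
  · obtain ⟨b, hb⟩ := exists_eq_mul_pow 𝒜 ι hι z hz hpoly k _ (decompose 𝒜 a k).2
    rw [hb]
    obtain ⟨k', rfl⟩ := Nat.exists_eq_succ_of_ne_zero hk
    rw [pow_succ, ← mul_assoc]
    exact Ideal.mul_mem_left _ _ (Ideal.subset_span rfl)

include hι hz hpoly in
theorem basicOpen_eq_top : Proj.basicOpen 𝒜 z = ⊤ := by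
  have := Proj.iSup_basicOpen_eq_top 𝒜 (fun _ : Unit => z) (by
    rw [Set.range_const]
    exact irrelevant_le_span 𝒜 ι hι z hz hpoly)
  rwa [iSup_const] at this

/-- the structure map into degree zero -/
def ιZero : B →+* 𝒜 0 where
  toFun b := ⟨ι b, hι b⟩
  map_one' := Subtype.ext (map_one ι)
  map_mul' a b := Subtype.ext (map_mul ι a b)
  map_zero' := Subtype.ext (map_zero ι)
  map_add' a b := Subtype.ext (map_add ι a b)

include hz hpoly in
theorem ιZero_bijective : Function.Bijective (ιZero 𝒜 ι hι) := by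
  refine ⟨fun a b hab => ι_injective ι z hpoly (congrArg Subtype.val hab), fun a => ?_⟩
  obtain ⟨b, hb⟩ := exists_eq_mul_pow 𝒜 ι hι z hz hpoly 0 a.1 a.2
  exact ⟨b, Subtype.ext (by rw [hb, pow_zero, mul_one]; rfl)⟩

include hι hz hpoly in
theorem fromZeroRingHom_bijective :
    Function.Bijective (fromZeroRingHom 𝒜 (Submonoid.powers z)) := by
  constructor
  · rw [injective_iff_map_eq_zero]
    intro a ha
    obtain ⟨b, rfl⟩ := (ιZero_bijective 𝒜 ι hι z hz hpoly).2 a
    have h1 : (fromZeroRingHom 𝒜 (Submonoid.powers z) (ιZero 𝒜 ι hι b)).val = 0 := by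
      rw [ha]; exact HomogeneousLocalization.val_zero
    have h2 : (fromZeroRingHom 𝒜 (Submonoid.powers z) (ιZero 𝒜 ι hι b)).val =
        algebraMap A (Localization (Submonoid.powers z)) (ι b) := by
      change Localization.mk (ι b) 1 = _
      rw [Localization.mk_one_eq_algebraMap]
    rw [h2, IsLocalization.map_eq_zero_iff (Submonoid.powers z)] at h1
    obtain ⟨⟨_, n, rfl⟩, hn⟩ := h1
    have := pow_mul_eq_zero ι z hpoly n b hn
    rw [this, map_zero]
  · intro q
    obtain ⟨n, a, ha, rfl⟩ := Away.mk_surjective 𝒜 hz q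
    obtain ⟨b, rfl⟩ := exists_eq_mul_pow 𝒜 ι hι z hz hpoly _ a ha
    refine ⟨ιZero 𝒜 ι hι b, ?_⟩
    apply HomogeneousLocalization.val_injective
    rw [Away.val_mk]
    change Localization.mk (ι b) 1 = _
    rw [Localization.mk_eq_mk_iff, Localization.r_iff_exists]
    refine ⟨1, ?_⟩
    simp only [OneMemClass.coe_one, one_mul, smul_eq_mul, mul_one]
    rw [mul_comm]

end

section
variable {A B : Type u} [CommRing A] [CommRing B] (𝒜 : ℕ → AddSubgroup A) [GradedRing 𝒜]
  (ι : B →+* A) (hι : ∀ b, ι b ∈ 𝒜 0) (z : A) (hz : z ∈ 𝒜 1)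
  (hpoly : Function.Bijective (eval₂RingHom ι z))

include hι hpoly in
theorem isIso_awayι : IsIso (Proj.awayι 𝒜 z hz one_pos) := by
  have h1 : (Proj.awayι 𝒜 z hz one_pos).opensRange = ⊤ := by
    rw [Proj.opensRange_awayι]
    exact basicOpen_eq_top 𝒜 ι hι z hz hpoly
  haveI : Epi (Proj.awayι 𝒜 z hz one_pos).base := by
    rw [TopCat.epi_iff_surjective]
    intro x
    have : x ∈ (Proj.awayι 𝒜 z hz one_pos).opensRange := by rw [h1]; trivial
    exact this
  exact IsOpenImmersion.isIso _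

include hι hpoly hz in
/-- for a graded ring which is a polynomial ring `B[z]` with `z` of degree one, `Proj` is `Spec B`. -/
theorem isIso_toSpecZero : IsIso (Proj.toSpecZero 𝒜) := by
  haveI := isIso_awayι 𝒜 ι hι z hz hpoly
  have h2 := Proj.awayι_toSpecZero 𝒜 z hz one_pos
  haveI : IsIso (CommRingCat.ofHom (fromZeroRingHom 𝒜 (Submonoid.powers z))) :=
    (ConcreteCategory.isIso_iff_bijective _).2 (fromZeroRingHom_bijective 𝒜 ι hι z hz hpoly)
  haveI : IsIso (Proj.awayι 𝒜 z hz one_pos ≫ Proj.toSpecZero 𝒜) := by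
    rw [h2]; infer_instance
  exact IsIso.of_isIso_comp_left (Proj.awayι 𝒜 z hz one_pos) _

include hι hpoly hz in
theorem isIso_toSpecZero_comp :
    IsIso (Proj.toSpecZero 𝒜 ≫ Spec.map (CommRingCat.ofHom (ιZero 𝒜 ι hι))) := by
  haveI := isIso_toSpecZero 𝒜 ι hι z hz hpoly
  haveI : IsIso (CommRingCat.ofHom (ιZero 𝒜 ι hι)) :=
    (ConcreteCategory.isIso_iff_bijective _).2 (ιZero_bijective 𝒜 ι hι z hz hpoly)
  infer_instance

end

end Groth.Agent.Helper13GrPoly
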