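import Mathlib
import Groth.Prelude.Def_GrSyz
import Groth.Prelude.Def_GrLC

/-!
# The graded quotient `S/I` of a polynomial ring by a homogeneous ideal
-/

set_option autoImplicit false
universe u
open MvPolynomial DirectSum

namespace Groth.Agent.Helper13GrQuot

variable {k : Type u} [Field k] {σ : Type}
variable (I : Ideal (MvPolynomial σ k))

/-- the quotient map as a `k`-linear map -/
noncomputable def mkK : MvPolynomial σ k →ₗ[k] (MvPolynomial σ k ⧸ I) :=
  (Submodule.mkQ I).restrictScalars k

theorem mkK_apply (x : MvPolynomial σ k) : mkK I x = Submodule.Quotient.mk x := rfl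

/-- the graded pieces of the quotient -/
noncomputable def quotGr (n : ℤ) : Submodule k (MvPolynomial σ k ⧸ I) :=
  (GrSyz.stdGr k σ n).map (mkK I)

theorem mem_quotGr {n : ℤ} {y : MvPolynomial σ k ⧸ I} :
    y ∈ quotGr I n ↔ ∃ a ∈ GrSyz.stdGr k σ n, mkK I a = y := Iff.rfl

/-- component projection maps -/
noncomputable def projPiece (n : ℤ) : ↥(GrSyz.stdGr k σ n) →+ ↥(quotGr I n) where
  toFun x := ⟨mkK I (x : MvPolynomial σ k), (x : MvPolynomial σ k), x.2, rfl⟩
  map_zero' := Subtype.ext (map_zero (mkK I))
  map_add' x y := Subtype.ext (map_add (mkK I) (x : MvPolynomial σ k) (y : MvPolynomial σ k))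

theorem coe_map_projPiece (y : ⨁ n, GrSyz.stdGr k σ n) :
    DirectSum.coeAddMonoidHom (quotGr I) (DirectSum.map (projPiece I) y) =
      mkK I (DirectSum.coeAddMonoidHom (GrSyz.stdGr k σ) y) := by
  classical
  induction y using DirectSum.induction_on with
  | zero => simp
  | of g x =>
    rw [DirectSum.map_of, DirectSum.coeAddMonoidHom_of, DirectSum.coeAddMonoidHom_of]
    rfl
  | add x y hx hy => rw [map_add, map_add, map_add, map_add, hx, hy]

/-- the decomposition map before passing to the quotient -/
noncomputable def preDec : MvPolynomial σ k →+ ⨁ n, quotGr I n :=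
  (DirectSum.map (projPiece I)).comp (DirectSum.decomposeAddEquiv (GrSyz.stdGr k σ)).toAddMonoidHom

theorem preDec_apply (x : MvPolynomial σ k) :
    preDec I x = DirectSum.map (projPiece I) (DirectSum.decompose (GrSyz.stdGr k σ) x) := rfl

variable (hI : I.IsHomogeneous (GrSyz.stdGr k σ))

include hI in
theorem preDec_eq_zero {x : MvPolynomial σ k} (hx : x ∈ I) : preDec I x = 0 := by
  rw [preDec_apply]
  ext g
  rw [DirectSum.map_apply, DirectSum.zero_apply]
  change mkK I ((DirectSum.decompose (GrSyz.stdGr k σ) x) g : MvPolynomial σ k) = 0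
  rw [mkK_apply, Submodule.Quotient.mk_eq_zero]
  exact hI g hx

/-- the decomposition map on the quotient -/
noncomputable def decHom : (MvPolynomial σ k ⧸ I) →+ ⨁ n, quotGr I n :=
  QuotientAddGroup.lift (Submodule.toAddSubgroup I) (preDec I) (fun _ hx => preDec_eq_zero I hI hx)

theorem decHom_mk (x : MvPolynomial σ k) :
    decHom I hI (Submodule.Quotient.mk x) = preDec I x := rfl

/-- the induced decomposition on the quotient by a homogeneous ideal. -/
@[instance_reducible]
noncomputable def quotDecomposition : DirectSum.Decomposition (quotGr I) :=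
  DirectSum.Decomposition.ofAddHom (quotGr I) (decHom I hI)
    (by
      apply AddMonoidHom.ext
      intro y
      obtain ⟨x, rfl⟩ := Submodule.Quotient.mk_surjective _ y
      rw [AddMonoidHom.comp_apply, decHom_mk, preDec_apply, coe_map_projPiece]
      have : DirectSum.coeAddMonoidHom (GrSyz.stdGr k σ)
          (DirectSum.decompose (GrSyz.stdGr k σ) x) = x :=
        DirectSum.Decomposition.left_inv x
      rw [this]
      rfl)
    (by
      apply DirectSum.addHom_ext
      rintro g ⟨y, a, ha, rfl⟩
      rw [AddMonoidHom.comp_apply, DirectSum.coeAddMonoidHom_of]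
      change decHom I hI (Submodule.Quotient.mk a) = _
      rw [decHom_mk, preDec_apply, DirectSum.decompose_of_mem (GrSyz.stdGr k σ) ha,
        DirectSum.map_of]
      rfl)

theorem quot_gradedSMul : SetLike.GradedSMul (GrSyz.stdGr k σ) (quotGr I) where
  smul_mem := by
    rintro i j r y hr ⟨a, ha, rfl⟩
    refine ⟨r * a, SetLike.GradedMul.mul_mem hr ha, ?_⟩
    rw [mkK_apply, mkK_apply]
    rfl

theorem mkQ_isGrHom :
    GrLC.IsGrHom (GrSyz.stdGr k σ) (quotGr I) (Submodule.mkQ I) := by
  intro g m hm
  exact ⟨m, hm, rfl⟩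

end Groth.Agent.Helper13GrQuot
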