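import Mathlib
import Groth.Prelude.Def_GrSyz
import Groth.Prelude.Def_GrLC
import Groth.Agent.Lib.Helper13Hilb

/-!
# The graded quotient `M/P` of a graded module by a homogeneous submodule
-/

set_option autoImplicit false
universe u
open DirectSum

namespace Groth.Agent.Helper13GrQuotMod

variable {k : Type u} [Field k] {R : Type u} [CommRing R] [Algebra k R]
  {𝒜 : ℤ → Submodule k R} [GradedAlgebra 𝒜]
  {M : Type u} [AddCommGroup M] [Module k M] [Module R M] [IsScalarTower k R M]
  (ℳ : ℤ → Submodule k M) [DirectSum.Decomposition ℳ] [SetLike.GradedSMul 𝒜 ℳ]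
  (P : Submodule R M)

variable (k) in
/-- the quotient map as a `k`-linear map -/
noncomputable def mkK : M →ₗ[k] (M ⧸ P) :=
  (Submodule.mkQ P).restrictScalars k

theorem mkK_apply (x : M) : mkK k P x = Submodule.Quotient.mk x := rfl

/-- the graded pieces of the quotient -/
noncomputable def quotGr (n : ℤ) : Submodule k (M ⧸ P) :=
  (ℳ n).map (mkK k P)

theorem mem_quotGr {n : ℤ} {y : M ⧸ P} :
    y ∈ quotGr ℳ P n ↔ ∃ a ∈ ℳ n, mkK k P a = y := Iff.rfl

/-- component projection maps -/
noncomputable def projPiece (n : ℤ) : ↥(ℳ n) →+ ↥(quotGr ℳ P n) where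
  toFun x := ⟨mkK k P (x : M), (x : M), x.2, rfl⟩
  map_zero' := Subtype.ext (map_zero (mkK k P))
  map_add' x y := Subtype.ext (map_add (mkK k P) (x : M) (y : M))

theorem coe_map_projPiece (y : ⨁ n, ℳ n) :
    DirectSum.coeAddMonoidHom (quotGr ℳ P) (DirectSum.map (projPiece ℳ P) y) =
      mkK k P (DirectSum.coeAddMonoidHom ℳ y) := by
  classical
  induction y using DirectSum.induction_on with
  | zero => simp
  | of g x =>
    rw [DirectSum.map_of, DirectSum.coeAddMonoidHom_of, DirectSum.coeAddMonoidHom_of]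
    rfl
  | add x y hx hy => rw [map_add, map_add, map_add, map_add, hx, hy]

/-- the decomposition map before passing to the quotient -/
noncomputable def preDec : M →+ ⨁ n, quotGr ℳ P n :=
  (DirectSum.map (projPiece ℳ P)).comp (DirectSum.decomposeAddEquiv ℳ).toAddMonoidHom

theorem preDec_apply (x : M) :
    preDec ℳ P x = DirectSum.map (projPiece ℳ P) (DirectSum.decompose ℳ x) := rfl

/-- homogeneity of a submodule -/
def IsHomog : Prop := ∀ (d : ℤ) (x : M), x ∈ P → (DirectSum.decompose ℳ x d : M) ∈ P

variable {ℳ P} (hP : IsHomog ℳ P)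

include hP in
theorem preDec_eq_zero {x : M} (hx : x ∈ P) : preDec ℳ P x = 0 := by
  rw [preDec_apply]
  ext g
  rw [DirectSum.map_apply, DirectSum.zero_apply]
  change mkK k P ((DirectSum.decompose ℳ x) g : M) = 0
  rw [mkK_apply, Submodule.Quotient.mk_eq_zero]
  exact hP g x hx

/-- the decomposition map on the quotient -/
noncomputable def decHom : (M ⧸ P) →+ ⨁ n, quotGr ℳ P n :=
  QuotientAddGroup.lift (Submodule.toAddSubgroup P) (preDec ℳ P)
    (fun _ hx => preDec_eq_zero hP hx)

theorem decHom_mk (x : M) :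
    decHom hP (Submodule.Quotient.mk x) = preDec ℳ P x := rfl

/-- the induced decomposition on the quotient by a homogeneous submodule. -/
@[instance_reducible]
noncomputable def quotDecomposition : DirectSum.Decomposition (quotGr ℳ P) :=
  DirectSum.Decomposition.ofAddHom (quotGr ℳ P) (decHom hP)
    (by
      apply AddMonoidHom.ext
      intro y
      obtain ⟨x, rfl⟩ := Submodule.Quotient.mk_surjective _ y
      rw [AddMonoidHom.comp_apply, decHom_mk, preDec_apply, coe_map_projPiece]
      have : DirectSum.coeAddMonoidHom ℳ (DirectSum.decompose ℳ x) = x :=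
        DirectSum.Decomposition.left_inv x
      rw [this]
      rfl)
    (by
      apply DirectSum.addHom_ext
      rintro g ⟨y, a, ha, rfl⟩
      rw [AddMonoidHom.comp_apply, DirectSum.coeAddMonoidHom_of]
      change decHom hP (Submodule.Quotient.mk a) = _
      rw [decHom_mk, preDec_apply, DirectSum.decompose_of_mem ℳ ha, DirectSum.map_of]
      rfl)

variable (ℳ P) in
theorem quot_gradedSMul : SetLike.GradedSMul 𝒜 (quotGr ℳ P) where
  smul_mem := by
    rintro i j r y hr ⟨a, ha, rfl⟩
    refine ⟨r • a, SetLike.GradedSMul.smul_mem hr ha, ?_⟩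
    rw [mkK_apply, mkK_apply]
    rfl

variable (ℳ P) in
theorem mkQ_isGrHom : GrLC.IsGrHom ℳ (quotGr ℳ P) (Submodule.mkQ P) := by
  intro g m hm
  exact ⟨m, hm, rfl⟩

end Groth.Agent.Helper13GrQuotMod
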