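import Mathlib

/-!
# The Veronese subalgebra `A^(d)` and finite generation over it (helper13; pure Mathlib)

* `ver 𝒜 d : Subalgebra (𝒜 0) A`: the subalgebra `⊕_k A_{kd}`; `isIntegral_ver`, `finite_ver` (`A` is integral, and for
  `A` of finite type over `A₀` finite, over `A^(d)`); `exists_homogeneous_span_ver`.
* `decompose_smul_of_mem`: homogeneous components of `a • x` for `a` homogeneous.
* `exists_finset_closure`: for a graded module `M` with (TF) there is a finite set `T` of pairs `(k, m)`,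
  `m ∈ M_{kd}`, such that any predicate on such pairs closed under sums, multiplication by `A_{jd}`, cancellation
  of `g ∈ A_d` and containing `T` holds for all pairs (this says that `M_(g)` is a finite `A_(g)`-module).
-/

set_option autoImplicit false
set_option linter.style.haveILetI false
set_option linter.unusedSectionVars false
universe u

open DirectSum Pointwise

namespace Groth.Agent.Helper13Veronese

variable {R A : Type u} [CommRing R] [CommRing A] [Algebra R A] (𝒜 : ℕ → Submodule R A)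
  [GradedAlgebra 𝒜]

/-- the additive subgroup spanned by the pieces of degree divisible by `d` -/
def verSub (d : ℕ) : Submodule R A := ⨆ k : ℕ, 𝒜 (k * d)

theorem mul_mem_verSub (d : ℕ) {a b : A} (ha : a ∈ verSub 𝒜 d) (hb : b ∈ verSub 𝒜 d) :
    a * b ∈ verSub 𝒜 d := by
  induction ha using Submodule.iSup_induction' with
  | mem k a ha =>
    induction hb using Submodule.iSup_induction' with
    | mem k' b hb =>
      have : a * b ∈ 𝒜 ((k + k') * d) := by
        rw [add_mul]; exact SetLike.mul_mem_graded ha hb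
      exact Submodule.mem_iSup_of_mem (k + k') this
    | zero => rw [mul_zero]; exact zero_mem _
    | add x y _ _ hx hy => rw [mul_add]; exact add_mem hx hy
  | zero => rw [zero_mul]; exact zero_mem _
  | add x y _ _ hx hy => rw [add_mul]; exact add_mem hx hy

/-- the Veronese subalgebra `A^(d) = ⊕ A_{kd}` -/
def ver (d : ℕ) : Subalgebra (𝒜 0) A where
  carrier := verSub 𝒜 d
  mul_mem' := fun ha hb => mul_mem_verSub 𝒜 d ha hb
  add_mem' := fun ha hb => add_mem ha hb
  algebraMap_mem' := fun r => by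
    have h : (r : A) ∈ 𝒜 (0 * d) := by rw [zero_mul]; exact r.2
    exact Submodule.mem_iSup_of_mem 0 h

theorem mem_ver_iff (d : ℕ) (a : A) : a ∈ ver 𝒜 d ↔ a ∈ verSub 𝒜 d := Iff.rfl

theorem mem_ver_of_mem (d : ℕ) {k : ℕ} {a : A} (ha : a ∈ 𝒜 (k * d)) : a ∈ ver 𝒜 d :=
  Submodule.mem_iSup_of_mem k ha

theorem isIntegral_of_homogeneous {d : ℕ} (hd : 0 < d) {i : ℕ} {x : A} (hx : x ∈ 𝒜 i) :
    IsIntegral (ver 𝒜 d) x := by
  refine IsIntegral.of_pow hd ?_
  have h : x ^ d ∈ 𝒜 (i * d) := by
    have := SetLike.pow_mem_graded d hx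
    rwa [smul_eq_mul, mul_comm] at this
  have : x ^ d = algebraMap (ver 𝒜 d) A ⟨x ^ d, mem_ver_of_mem 𝒜 d h⟩ := rfl
  rw [this]
  exact isIntegral_algebraMap

theorem isIntegral_ver {d : ℕ} (hd : 0 < d) : Algebra.IsIntegral (ver 𝒜 d) A := by
  classical
  refine ⟨fun x => ?_⟩
  rw [← DirectSum.sum_support_decompose 𝒜 x]
  exact IsIntegral.sum _ fun i _ => isIntegral_of_homogeneous 𝒜 hd (SetLike.coe_mem _)

theorem finite_ver [Algebra.FiniteType (𝒜 0) A] {d : ℕ} (hd : 0 < d) :
    Module.Finite (ver 𝒜 d) A := by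
  haveI := isIntegral_ver 𝒜 hd
  haveI : Algebra.FiniteType (ver 𝒜 d) A :=
    Algebra.FiniteType.of_restrictScalars_finiteType (𝒜 0) (ver 𝒜 d) A
  exact Algebra.IsIntegral.finite (R := ver 𝒜 d) (A := A)

section modules
variable {M : Type u} [AddCommGroup M] [Module R M] [Module A M] [IsScalarTower R A M]
  (ℳ : ℕ → Submodule R M) [DirectSum.Decomposition ℳ] [SetLike.GradedSMul 𝒜 ℳ]

theorem decompose_smul_of_mem {j : ℕ} {a : A} (ha : a ∈ 𝒜 j) (x : M) (n : ℕ) :
    (DirectSum.decompose ℳ (a • x) n : M) =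
      if j ≤ n then a • (DirectSum.decompose ℳ x (n - j) : M) else 0 := by
  classical
  induction x using DirectSum.Decomposition.inductionOn ℳ with
  | zero => simp
  | @homogeneous i x =>
    have hax : a • (x : M) ∈ ℳ (j + i) := SetLike.GradedSMul.smul_mem ha x.2
    by_cases hn : n = j + i
    · subst hn
      rw [DirectSum.decompose_of_mem_same ℳ hax, if_pos (Nat.le_add_right j i),
        Nat.add_sub_cancel_left, DirectSum.decompose_of_mem_same ℳ x.2]
    · rw [DirectSum.decompose_of_mem_ne ℳ hax (Ne.symm hn)]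
      split_ifs with hjn
      · have : i ≠ n - j := by omega
        rw [DirectSum.decompose_of_mem_ne ℳ x.2 this, smul_zero]
      · rfl
  | add x y hx hy =>
    rw [smul_add, DirectSum.decompose_add, DirectSum.add_apply, Submodule.coe_add, hx, hy]
    split_ifs
    · rw [DirectSum.decompose_add, DirectSum.add_apply, Submodule.coe_add, smul_add]
    · rw [add_zero]

/-- finitely many homogeneous elements spanning `A` over the Veronese subalgebra -/
theorem exists_homogeneous_span_ver [Algebra.FiniteType (𝒜 0) A] {d : ℕ} (hd : 0 < d) :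
    ∃ E : Finset A, (∀ e ∈ E, ∃ i, e ∈ 𝒜 i) ∧
      Submodule.span (ver 𝒜 d) (E : Set A) = ⊤ := by
  classical
  obtain ⟨E₀, hE₀⟩ := (finite_ver 𝒜 hd).fg_top
  refine ⟨E₀.biUnion fun e => (DirectSum.decompose 𝒜 e).support.image
    fun i => (DirectSum.decompose 𝒜 e i : A), ?_, ?_⟩
  · intro e he
    obtain ⟨e₀, -, he'⟩ := Finset.mem_biUnion.1 he
    obtain ⟨i, -, rfl⟩ := Finset.mem_image.1 he'
    exact ⟨i, SetLike.coe_mem _⟩
  · rw [eq_top_iff, ← hE₀, Submodule.span_le]
    intro e he
    rw [SetLike.mem_coe, ← DirectSum.sum_support_decompose 𝒜 e]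
    refine Submodule.sum_mem _ fun i hi => Submodule.subset_span ?_
    rw [Finset.mem_coe, Finset.mem_biUnion]
    exact ⟨e, he, Finset.mem_image.2 ⟨i, hi, rfl⟩⟩

theorem exists_finset_closure [Algebra.FiniteType (𝒜 0) A] {d : ℕ} (hd : 0 < d) {g : A}
    (hg : g ∈ 𝒜 d)
    (hTF : ∃ n : ℕ, (Submodule.span A (⋃ k ∈ Set.Ici n, (ℳ k : Set M))).FG) :
    ∃ T : Finset (ℕ × M), (∀ t ∈ T, t.2 ∈ ℳ (t.1 * d)) ∧
      ∀ P : ℕ → M → Prop,
        (∀ k, P k 0) →
        (∀ k m m', m ∈ ℳ (k * d) → m' ∈ ℳ (k * d) → P k m → P k m' → P k (m + m')) →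
        (∀ j k a m, a ∈ 𝒜 (j * d) → m ∈ ℳ (k * d) → P k m → P (j + k) (a • m)) →
        (∀ k m, m ∈ ℳ (k * d) → P (k + 1) (g • m) → P k m) →
        (∀ t ∈ T, P t.1 t.2) →
        ∀ k m, m ∈ ℳ (k * d) → P k m := by
  classical
  obtain ⟨n, hN⟩ := hTF
  obtain ⟨Y, hYsub, hYspan⟩ := (Submodule.fg_span_iff_fg_span_finset_subset _).1 hN
  obtain ⟨E, hEhom, hEspan⟩ := exists_homogeneous_span_ver 𝒜 hd
  -- the finite set of products
  let Z : Finset M := Finset.image₂ (fun (e : A) (y : M) => e • y) E Y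
  have hZcoe : (Z : Set M) = (E : Set A) • (Y : Set M) := by
    ext z
    simp only [Z, Finset.coe_image₂, Set.mem_image2, Set.mem_smul]
  have hYhom : ∀ y ∈ Y, ∃ i, y ∈ ℳ i := by
    intro y hy
    have := hYsub hy
    simp only [Set.mem_iUnion] at this
    obtain ⟨k, -, hk⟩ := this
    exact ⟨k, hk⟩
  have hZhom : ∀ z ∈ Z, ∃ i, z ∈ ℳ i := by
    intro z hz
    obtain ⟨e, he, y, hy, rfl⟩ := Finset.mem_image₂.1 hz
    obtain ⟨i, hi⟩ := hEhom e he
    obtain ⟨i', hi'⟩ := hYhom y hy
    exact ⟨i + i', SetLike.GradedSMul.smul_mem hi hi'⟩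
  choose! deg hdeg using hZhom
  have hZspan : Submodule.span (ver 𝒜 d) (Z : Set M) =
      (Submodule.span A (Y : Set M)).restrictScalars (ver 𝒜 d) := by
    rw [hZcoe]
    exact Submodule.span_smul_of_span_eq_top hEspan _
  let T : Finset (ℕ × M) := (Z.filter fun z => d ∣ deg z).image fun z => (deg z / d, z)
  refine ⟨T, ?_, ?_⟩
  · intro t ht
    obtain ⟨z, hz, rfl⟩ := Finset.mem_image.1 ht
    obtain ⟨hzZ, hdvd⟩ := Finset.mem_filter.1 hz
    show z ∈ ℳ (deg z / d * d)
    rw [Nat.div_mul_cancel hdvd]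
    exact hdeg z hzZ
  intro P h0 hadd hsmul hcancel hbase
  -- the key predicate
  have hcomp : ∀ (x : M) (k : ℕ), (DirectSum.decompose ℳ x (k * d) : M) ∈ ℳ (k * d) :=
    fun x k => SetLike.coe_mem _
  have smulClaim : ∀ a ∈ verSub 𝒜 d, ∀ x : M,
      (∀ k, P k (DirectSum.decompose ℳ x (k * d) : M)) →
      ∀ k, P k (DirectSum.decompose ℳ (a • x) (k * d) : M) := by
    intro a ha x hx
    induction ha using Submodule.iSup_induction' with
    | mem j a ha =>
      intro k
      rw [decompose_smul_of_mem 𝒜 ℳ ha x (k * d)]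
      split_ifs with hjk
      · have hjk' : j ≤ k := Nat.le_of_mul_le_mul_right hjk hd
        have e1 : k * d - j * d = (k - j) * d := by rw [Nat.sub_mul]
        rw [e1]
        have := hsmul j (k - j) a _ ha (hcomp x (k - j)) (hx (k - j))
        rwa [Nat.add_sub_cancel' hjk'] at this
      · exact h0 k
    | zero =>
      intro k
      rw [zero_smul, DirectSum.decompose_zero, DirectSum.zero_apply, Submodule.coe_zero]
      exact h0 k
    | add a b _ _ ha hb =>
      intro k
      rw [add_smul, DirectSum.decompose_add, DirectSum.add_apply, Submodule.coe_add]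
      exact hadd k _ _ (hcomp _ k) (hcomp _ k) (ha k) (hb k)
  have key : ∀ x ∈ Submodule.span (ver 𝒜 d) (Z : Set M),
      ∀ k, P k (DirectSum.decompose ℳ x (k * d) : M) := by
    intro x hx
    induction hx using Submodule.span_induction with
    | mem z hz =>
      intro k
      have hzZ : z ∈ Z := hz
      by_cases hk : deg z = k * d
      · rw [DirectSum.decompose_of_mem_same ℳ (hk ▸ hdeg z hzZ)]
        have hdvd : d ∣ deg z := ⟨k, by rw [hk, mul_comm]⟩
        have hmemT : (deg z / d, z) ∈ T :=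
          Finset.mem_image.2 ⟨z, Finset.mem_filter.2 ⟨hzZ, hdvd⟩, rfl⟩
        have := hbase _ hmemT
        have hkk : deg z / d = k := by rw [hk, Nat.mul_div_cancel _ hd]
        rwa [hkk] at this
      · rw [DirectSum.decompose_of_mem_ne ℳ (hdeg z hzZ) hk]
        exact h0 k
    | zero =>
      intro k
      rw [DirectSum.decompose_zero, DirectSum.zero_apply, Submodule.coe_zero]
      exact h0 k
    | add x y _ _ hx hy =>
      intro k
      rw [DirectSum.decompose_add, DirectSum.add_apply, Submodule.coe_add]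
      exact hadd k _ _ (hcomp x k) (hcomp y k) (hx k) (hy k)
    | smul v x _ hx =>
      exact smulClaim (v : A) v.2 x hx
  -- elements of `N`
  have hN' : ∀ k m, m ∈ ℳ (k * d) → n ≤ k * d → P k m := by
    intro k m hm hnk
    have hmN : m ∈ Submodule.span A (⋃ k ∈ Set.Ici n, (ℳ k : Set M)) :=
      Submodule.subset_span (Set.mem_biUnion (Set.mem_Ici.2 hnk) hm)
    rw [hYspan] at hmN
    have hmZ : m ∈ Submodule.span (ver 𝒜 d) (Z : Set M) := by
      rw [hZspan]; exact hmN
    have := key m hmZ k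
    rwa [DirectSum.decompose_of_mem_same ℳ hm] at this
  -- cancel powers of `g`
  have hpow : ∀ j k m, m ∈ ℳ (k * d) → P (j + k) (g ^ j • m) → P k m := by
    intro j
    induction j with
    | zero => intro k m _ h; simpa using h
    | succ j ih =>
      intro k m hm h
      have hgm : g ^ j • m ∈ ℳ ((j + k) * d) := by
        have h1 : g ^ j ∈ 𝒜 (j * d) := by
          have := SetLike.pow_mem_graded j hg
          rwa [smul_eq_mul] at this
        rw [add_mul]
        exact SetLike.GradedSMul.smul_mem h1 hm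
      apply ih k m hm
      apply hcancel (j + k) _ hgm
      have e : j + 1 + k = j + k + 1 := by omega
      rw [e, pow_succ', mul_smul] at h
      exact h
  intro k m hm
  apply hpow n k m hm
  apply hN'
  · have h1 : g ^ n ∈ 𝒜 (n * d) := by
      have := SetLike.pow_mem_graded n hg
      rwa [smul_eq_mul] at this
    rw [add_mul]
    exact SetLike.GradedSMul.smul_mem h1 hm
  · calc n ≤ n * d := Nat.le_mul_of_pos_right n hd
      _ ≤ (n + k) * d := Nat.mul_le_mul_right d (Nat.le_add_right n k)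

end modules

end Groth.Agent.Helper13Veronese
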