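import Groth.Agent.Lib.Helper27GrTildeQCoh
import Groth.Agent.Lib.Helper13Veronese
import Groth.Agent.Lib.Helper23FinType2
import Groth.Agent.Lib.Helper6Graded

/-!
# Fraction sections of `M~` over `D₊(g)` and finite type (helper13; builds on helper27's GrTilde libs)

* `frac 𝒜 ℳ hg k hm`: the section `m / g^k` of `M~ = GrTilde.tilde 𝒜 ℳ 0` over `D₊(g)` (`m ∈ ℳ (k * d)`);
  `secVal_frac`, `frac_add`, `frac_zero`, `frac_cancel` (`(g m)/g^(k+1) = m/g^k`), `frac_smul`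
  (`(a/g^j) • (m/g^k) = (a m)/g^(j+k)`), `exists_frac` (every section over `D₊(g)` is a fraction).
* `finite_sections_basicOpen`, `isFiniteType_tilde_of_TF`: for `A₊` finitely generated and `M` with (TF), `M~` is of
  finite type.
-/

set_option autoImplicit false
set_option linter.unusedSectionVars false
universe u

open CategoryTheory CategoryTheory.Limits AlgebraicGeometry TopologicalSpace Opposite
  HomogeneousLocalization

namespace Groth.Agent.Helper13GrTildeFrac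

open Groth.Agent.Lib.Helper27GrTildeSect

variable {R A : Type u} [CommRing R] [CommRing A] [Algebra R A] (𝒜 : ℕ → Submodule R A)
  [GradedAlgebra 𝒜]
variable {M : Type u} [AddCommGroup M] [Module R M] [Module A M] [IsScalarTower R A M]
  (ℳ : ℕ → Submodule R M) [DirectSum.Decomposition ℳ] [SetLike.GradedSMul 𝒜 ℳ]

variable {𝒜} in
theorem pow_mem' {g : A} {d : ℕ} (hg : g ∈ 𝒜 d) (k : ℕ) : g ^ k ∈ 𝒜 (k * d) := by
  have := SetLike.pow_mem_graded k hg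
  simpa [smul_eq_mul] using this

variable {𝒜} in
theorem pow_not_mem {g : A} (k : ℕ) (y : ProjectiveSpectrum 𝒜) (hy : y ∈ Proj.basicOpen 𝒜 g) :
    g ^ k ∉ y.asHomogeneousIdeal :=
  fun h => (ProjectiveSpectrum.mem_basicOpen 𝒜 g y).mp hy (y.isPrime.mem_of_pow_mem k h)

/-- the section `m / g^k` of `M~` over `D₊(g)` -/
noncomputable def frac {g : A} {d : ℕ} (hg : g ∈ 𝒜 d) (k : ℕ) {m : M} (hm : m ∈ ℳ (k * d)) :
    Γ(GrTilde.tilde 𝒜 ℳ 0, Proj.basicOpen 𝒜 g) :=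
  ofSect 𝒜 ℳ 0 _ (fracOn 𝒜 ℳ 0 (Proj.basicOpen 𝒜 g) hm (pow_mem' hg k) (by simp)
    (fun y => pow_not_mem k y.1 y.2))

theorem secVal_frac {g : A} {d : ℕ} (hg : g ∈ 𝒜 d) (k : ℕ) {m : M} (hm : m ∈ ℳ (k * d))
    (y : ProjectiveSpectrum 𝒜) (hy : y ∈ Proj.basicOpen 𝒜 g) :
    secVal 𝒜 ℳ 0 _ (frac 𝒜 ℳ hg k hm) y hy =
      (LocalizedModule.mk m (⟨g ^ k, pow_not_mem k y hy⟩ :
        y.asHomogeneousIdeal.toIdeal.primeCompl) : GrTilde.LocMod 𝒜 (M := M) y) := rfl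

theorem secVal_add (W : (Proj 𝒜).Opens) (s t : Γ(GrTilde.tilde 𝒜 ℳ 0, W))
    (y : ProjectiveSpectrum 𝒜) (hy : y ∈ W) :
    secVal 𝒜 ℳ 0 W (s + t) y hy = secVal 𝒜 ℳ 0 W s y hy + secVal 𝒜 ℳ 0 W t y hy := rfl

theorem frac_add {g : A} {d : ℕ} (hg : g ∈ 𝒜 d) (k : ℕ) {m m' : M} (hm : m ∈ ℳ (k * d))
    (hm' : m' ∈ ℳ (k * d)) :
    frac 𝒜 ℳ hg k (add_mem hm hm') = frac 𝒜 ℳ hg k hm + frac 𝒜 ℳ hg k hm' := by
  apply sec_ext
  intro y hy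
  rw [secVal_add, secVal_frac, secVal_frac, secVal_frac]
  rw [LocalizedModule.mk_add_mk, LocalizedModule.mk_eq]
  refine ⟨1, ?_⟩
  simp only [one_smul, smul_add, Submonoid.smul_def, Submonoid.coe_mul, mul_smul]

theorem frac_zero {g : A} {d : ℕ} (hg : g ∈ 𝒜 d) (k : ℕ) :
    frac 𝒜 ℳ hg k (zero_mem (ℳ (k * d))) = 0 := by
  apply sec_ext
  intro y hy
  rw [secVal_zero, secVal_frac, LocalizedModule.zero_mk]

theorem frac_congr {g : A} {d : ℕ} (hg : g ∈ 𝒜 d) (k : ℕ) {m m' : M} (hm : m ∈ ℳ (k * d))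
    (h : m = m') : frac 𝒜 ℳ hg k hm = frac 𝒜 ℳ hg k (h ▸ hm) := by
  subst h; rfl

theorem frac_cancel {g : A} {d : ℕ} (hg : g ∈ 𝒜 d) (k : ℕ) {m : M} (hm : m ∈ ℳ (k * d))
    (hgm : g • m ∈ ℳ ((k + 1) * d)) :
    frac 𝒜 ℳ hg (k + 1) hgm = frac 𝒜 ℳ hg k hm := by
  apply sec_ext
  intro y hy
  rw [secVal_frac, secVal_frac, LocalizedModule.mk_eq]
  refine ⟨1, ?_⟩
  simp only [one_smul, Submonoid.smul_def]
  rw [smul_smul, pow_succ]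

theorem frac_smul {g : A} {d : ℕ} (hg : g ∈ 𝒜 d) (j k : ℕ) {a : A} (ha : a ∈ 𝒜 (j • d))
    {m : M} (hm : m ∈ ℳ (k * d)) (ham : a • m ∈ ℳ ((j + k) * d)) :
    ((Proj.awayToSection 𝒜 g).hom (Away.mk 𝒜 hg j a ha)) • frac 𝒜 ℳ hg k hm =
      frac 𝒜 ℳ hg (j + k) ham := by
  apply sec_ext
  intro y hy
  rw [secVal_smul, funVal_awayToSection_val hg j a ha y hy, secVal_frac, secVal_frac,
    LocalizedModule.mk_smul_mk, LocalizedModule.mk_eq]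
  refine ⟨1, ?_⟩
  simp only [one_smul, Submonoid.smul_def, Submonoid.coe_mul]
  rw [pow_add]

theorem exists_frac {g : A} {d : ℕ} (hd : 0 < d) (hg : g ∈ 𝒜 d)
    (σ : Γ(GrTilde.tilde 𝒜 ℳ 0, Proj.basicOpen 𝒜 g)) :
    ∃ (k : ℕ) (m : M) (hm : m ∈ ℳ (k * d)), σ = frac 𝒜 ℳ hg k hm := by
  obtain ⟨k, i, ⟨m, hm⟩, hi, hval⟩ := exists_global (toSect 𝒜 ℳ 0 _ σ) hd hg
  have hi' : i = k * d := by
    have : (i : ℤ) = ((k * d : ℕ) : ℤ) := by rw [hi]; push_cast; ring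
    exact_mod_cast this
  subst hi'
  refine ⟨k, m, hm, ?_⟩
  apply sec_ext
  intro y hy
  rw [secVal_frac]
  exact hval ⟨y, hy⟩

/-- **(TF) ⇒ finite sections over `D₊(g)`** -/
theorem finite_sections_basicOpen [Algebra.FiniteType (𝒜 0) A] {g : A} {d : ℕ} (hd : 0 < d)
    (hg : g ∈ 𝒜 d)
    (hTF : ∃ n : ℕ, (Submodule.span A (⋃ k ∈ Set.Ici n, (ℳ k : Set M))).FG) :
    Module.Finite Γ(Proj 𝒜, Proj.basicOpen 𝒜 g) Γ(GrTilde.tilde 𝒜 ℳ 0, Proj.basicOpen 𝒜 g) := by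
  classical
  obtain ⟨T, hT, hclos⟩ := Groth.Agent.Helper13Veronese.exists_finset_closure 𝒜 ℳ hd hg hTF
  let gen : {t // t ∈ T} → Γ(GrTilde.tilde 𝒜 ℳ 0, Proj.basicOpen 𝒜 g) :=
    fun t => frac 𝒜 ℳ hg t.1.1 (hT t.1 t.2)
  let Q : Submodule Γ(Proj 𝒜, Proj.basicOpen 𝒜 g) Γ(GrTilde.tilde 𝒜 ℳ 0, Proj.basicOpen 𝒜 g) :=
    Submodule.span _ (Set.range gen)
  have hQfg : Q.FG := Submodule.fg_span (Set.finite_range gen)
  have hall : ∀ k m, m ∈ ℳ (k * d) → ∀ hm : m ∈ ℳ (k * d), frac 𝒜 ℳ hg k hm ∈ Q := by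
    refine hclos (fun k m => ∀ hm : m ∈ ℳ (k * d), frac 𝒜 ℳ hg k hm ∈ Q) ?_ ?_ ?_ ?_ ?_
    · intro k hm
      rw [frac_zero 𝒜 ℳ hg k]
      exact Q.zero_mem
    · intro k m m' hm hm' h h' hmm
      rw [frac_add 𝒜 ℳ hg k hm hm']
      exact Q.add_mem (h hm) (h' hm')
    · intro j k a m ha hm h ham
      have ha' : a ∈ 𝒜 (j • d) := by rwa [smul_eq_mul]
      rw [← frac_smul 𝒜 ℳ hg j k ha' hm ham]
      exact Q.smul_mem _ (h hm)
    · intro k m hm h hm'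
      rw [← frac_cancel 𝒜 ℳ hg k hm (by
        have : g • m ∈ ℳ (d + k * d) := SetLike.GradedSMul.smul_mem hg hm
        rwa [add_mul, one_mul, add_comm])]
      exact h _
    · intro t ht hm
      exact Submodule.subset_span ⟨⟨t, ht⟩, rfl⟩
  have htop : Q = ⊤ := by
    rw [eq_top_iff]
    intro σ _
    obtain ⟨k, m, hm, rfl⟩ := exists_frac 𝒜 ℳ hd hg σ
    exact hall k m hm hm
  exact ⟨htop ▸ hQfg⟩

/-- **(TF) ⇒ `M~` of finite type** -/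
theorem isFiniteType_tilde_of_TF (hfg : (HomogeneousIdeal.irrelevant 𝒜).toIdeal.FG)
    (hTF : ∃ n : ℕ, (Submodule.span A (⋃ k ∈ Set.Ici n, (ℳ k : Set M))).FG) :
    SheafOfModules.IsFiniteType (R := (Proj 𝒜).ringCatSheaf) (GrTilde.tilde 𝒜 ℳ 0) := by
  haveI : Algebra.FiniteType (𝒜 0) A :=
    (Groth.Agent.Lib.Helper6.irrelevant_fg_iff_finiteType 𝒜).1 hfg
  haveI := isQuasicoherent_tilde 𝒜 ℳ 0
  exact Groth.Agent.Lib.Helper23.FinType.isFiniteType_of_finite (GrTilde.tilde 𝒜 ℳ 0)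
    (fun i : PosIdx 𝒜 => Proj.basicOpen 𝒜 (i.2.1 : A)) (iSup_basicOpen_posIdx_eq_top 𝒜)
    (fun i => Proj.isAffineOpen_basicOpen 𝒜 _ i.2.2.2 i.2.2.1)
    (fun i => finite_sections_basicOpen 𝒜 ℳ i.2.2.1 i.2.2.2 hTF)

end Groth.Agent.Helper13GrTildeFrac
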