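import Mathlib

/-!
# Graded algebras generated by finitely many homogeneous elements of positive degree
(helper13) monomials span the graded pieces; `𝒜 (n + l) = 𝒜 n * 𝒜 l` for `l = lcm` and `n` large.
-/

set_option autoImplicit false
universe u
open DirectSum

namespace Groth.Agent.Helper13GradedGen

variable {R A : Type u} [CommRing R] [CommRing A] [Algebra R A] (𝒜 : ℕ → Submodule R A)
  [GradedAlgebra 𝒜] {s : ℕ} (f : Fin s → A) (deg : Fin s → ℕ)

/-- the monomial `f^e` -/
def mon (e : Fin s → ℕ) : A := ∏ i, f i ^ e i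

/-- the weight of an exponent vector -/
def wt (e : Fin s → ℕ) : ℕ := ∑ i, e i * deg i

variable {f deg}

theorem prod_mem_graded (hf : ∀ i, f i ∈ 𝒜 (deg i)) (e : Fin s → ℕ) (T : Finset (Fin s)) :
    (∏ i ∈ T, f i ^ e i) ∈ 𝒜 (∑ i ∈ T, e i * deg i) := by
  classical
  induction T using Finset.induction_on with
  | empty => simpa using SetLike.one_mem_graded 𝒜
  | insert a T ha ih =>
    rw [Finset.prod_insert ha, Finset.sum_insert ha]
    refine SetLike.mul_mem_graded ?_ ih
    have := SetLike.pow_mem_graded (e a) (hf a)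
    rwa [smul_eq_mul] at this

theorem mon_mem (hf : ∀ i, f i ∈ 𝒜 (deg i)) (e : Fin s → ℕ) : mon f e ∈ 𝒜 (wt deg e) :=
  prod_mem_graded 𝒜 hf e Finset.univ

/-- If every monomial of weight `m` lies in a submodule `W`, then `𝒜 m ≤ W`. -/
theorem le_of_mon_mem (hf : ∀ i, f i ∈ 𝒜 (deg i))
    (hgen : Algebra.adjoin R (Set.range f) = ⊤) (m : ℕ) (W : Submodule R A)
    (hW : ∀ e : Fin s → ℕ, wt deg e = m → mon f e ∈ W) : 𝒜 m ≤ W := by
  classical
  intro x hx
  have hx' : x ∈ Algebra.adjoin R (Set.range f) := by rw [hgen]; trivial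
  rw [Algebra.adjoin_range_eq_range_aeval] at hx'
  obtain ⟨p, rfl⟩ := hx'
  change MvPolynomial.aeval f p ∈ 𝒜 m at hx
  show MvPolynomial.aeval f p ∈ W
  have h1 : (DirectSum.decompose 𝒜 (MvPolynomial.aeval f p) m : A) = MvPolynomial.aeval f p :=
    DirectSum.decompose_of_mem_same 𝒜 hx
  rw [← h1, MvPolynomial.aeval_def, MvPolynomial.eval₂_eq', DirectSum.decompose_sum,
    DFinsupp.finsetSum_apply, AddSubmonoidClass.coe_finsetSum]
  refine Submodule.sum_mem _ (fun e _ => ?_)
  have hmon : (∏ i, f i ^ e i) ∈ 𝒜 (wt deg (fun i => e i)) := mon_mem 𝒜 hf (fun i => e i)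
  rw [← Algebra.smul_def]
  rw [DirectSum.decompose_smul]
  by_cases hm : wt deg (fun i => e i) = m
  · rw [DFinsupp.smul_apply, Submodule.coe_smul]
    refine W.smul_mem _ ?_
    rw [DirectSum.decompose_of_mem_same 𝒜 (hm ▸ hmon)]
    exact hW _ hm
  · rw [DFinsupp.smul_apply, Submodule.coe_smul, DirectSum.decompose_of_mem_ne 𝒜 hmon hm,
      smul_zero]
    exact W.zero_mem

/-- splitting off a power of one variable -/
theorem mon_split (e : Fin s → ℕ) (i : Fin s) (q : ℕ) (hq : q ≤ e i) :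
    mon f e = mon f (Function.update e i (e i - q)) * f i ^ q ∧
    wt deg e = wt deg (Function.update e i (e i - q)) + q * deg i := by
  classical
  constructor
  · unfold mon
    have : ∀ j, f j ^ e j = f j ^ (Function.update e i (e i - q) j) *
        (if j = i then f i ^ q else 1) := by
      intro j
      by_cases hj : j = i
      · subst hj
        rw [Function.update_self, if_pos rfl, ← pow_add, Nat.sub_add_cancel hq]
      · rw [Function.update_of_ne hj, if_neg hj, mul_one]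
    rw [Finset.prod_congr rfl (fun j _ => this j), Finset.prod_mul_distrib,
      Finset.prod_ite_eq' Finset.univ i]
    simp
  · unfold wt
    have : ∀ j, e j * deg j = (Function.update e i (e i - q) j) * deg j +
        (if j = i then q * deg i else 0) := by
      intro j
      by_cases hj : j = i
      · subst hj
        rw [Function.update_self, if_pos rfl, ← add_mul, Nat.sub_add_cancel hq]
      · rw [Function.update_of_ne hj, if_neg hj, add_zero]
    rw [Finset.sum_congr rfl (fun j _ => this j), Finset.sum_add_distrib,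
      Finset.sum_ite_eq' Finset.univ i]
    simp

theorem lcm_pos (hdeg : ∀ i, 0 < deg i) : 0 < Finset.univ.lcm deg := by
  apply Nat.pos_of_ne_zero
  intro h
  rw [Finset.lcm_eq_zero_iff] at h
  obtain ⟨i, -, hi⟩ := h
  exact (hdeg i).ne' hi

/-- pigeonhole -/
theorem exists_large_exponent (hdeg : ∀ i, 0 < deg i) (e : Fin s → ℕ) (n : ℕ)
    (hn : (s - 1) * (Finset.univ.lcm deg - 1) ≤ n)
    (he : wt deg e = n + Finset.univ.lcm deg) :
    ∃ i, Finset.univ.lcm deg / deg i ≤ e i := by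
  classical
  by_contra hcon
  push Not at hcon
  set l := Finset.univ.lcm deg with hl
  have hlpos : 0 < l := lcm_pos hdeg
  have hbound : ∀ i, e i * deg i ≤ l - 1 := by
    intro i
    have h1 : e i + 1 ≤ l / deg i := hcon i
    have h2 : (e i + 1) * deg i ≤ l :=
      (Nat.mul_le_mul_right _ h1).trans (Nat.div_mul_le_self l (deg i))
    have h3 : e i * deg i + deg i ≤ l := by rw [← Nat.succ_mul]; exact h2
    have := hdeg i
    omega
  have hsum : wt deg e ≤ s * (l - 1) := by
    unfold wt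
    calc ∑ i, e i * deg i ≤ ∑ _i : Fin s, (l - 1) := Finset.sum_le_sum (fun i _ => hbound i)
      _ = s * (l - 1) := by simp
  rw [he] at hsum
  rcases Nat.eq_zero_or_pos s with hs | hs
  · rw [hs] at hsum
    omega
  · obtain ⟨S, rfl⟩ : ∃ S, s = S + 1 := ⟨s - 1, by omega⟩
    have h4 : (S + 1) * (l - 1) = S * (l - 1) + (l - 1) := by ring
    have h5 : S + 1 - 1 = S := by omega
    rw [h5] at hn
    omega

/-- `B_{n+l} = B_n B_l` for `n ≥ (s-1)(l-1)`. -/
theorem graded_add_lcm (hdeg : ∀ i, 0 < deg i) (hf : ∀ i, f i ∈ 𝒜 (deg i))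
    (hgen : Algebra.adjoin R (Set.range f) = ⊤) (n : ℕ)
    (hn : (s - 1) * (Finset.univ.lcm deg - 1) ≤ n) :
    𝒜 (n + Finset.univ.lcm deg) = 𝒜 n * 𝒜 (Finset.univ.lcm deg) := by
  classical
  apply le_antisymm
  · apply le_of_mon_mem 𝒜 hf hgen
    intro e he
    obtain ⟨i, hi⟩ := exists_large_exponent hdeg e n hn he
    obtain ⟨h1, h2⟩ := mon_split (f := f) (deg := deg) e i _ hi
    have hdvd : deg i ∣ Finset.univ.lcm deg := Finset.dvd_lcm (Finset.mem_univ i)
    have hq : Finset.univ.lcm deg / deg i * deg i = Finset.univ.lcm deg :=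
      Nat.div_mul_cancel hdvd
    rw [hq, he] at h2
    have h3 : wt deg (Function.update e i (e i - Finset.univ.lcm deg / deg i)) = n := by omega
    rw [h1]
    refine Submodule.mul_mem_mul ?_ ?_
    · rw [← h3]; exact mon_mem 𝒜 hf _
    · have := SetLike.pow_mem_graded (Finset.univ.lcm deg / deg i) (hf i)
      rwa [smul_eq_mul, hq] at this
  · rw [Submodule.mul_le]
    intro a ha b hb
    exact SetLike.mul_mem_graded ha hb

/-- `B_0 = R·1`. -/
theorem graded_zero (hdeg : ∀ i, 0 < deg i) (hf : ∀ i, f i ∈ 𝒜 (deg i))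
    (hgen : Algebra.adjoin R (Set.range f) = ⊤) : 𝒜 0 = 1 := by
  apply le_antisymm
  · apply le_of_mon_mem 𝒜 hf hgen
    intro e he
    have he0 : ∀ i, e i = 0 := by
      intro i
      unfold wt at he
      have h1 : e i * deg i = 0 :=
        (Finset.sum_eq_zero_iff.1 he) i (Finset.mem_univ i)
      rcases Nat.mul_eq_zero.1 h1 with h | h
      · exact h
      · exact absurd h (hdeg i).ne'
    have : mon f e = 1 := by
      unfold mon
      exact Finset.prod_eq_one (fun i _ => by rw [he0 i, pow_zero])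
    rw [this]
    exact Submodule.one_le.1 le_rfl
  · exact Submodule.one_le.2 (SetLike.one_mem_graded 𝒜)

/-- `B_{m + a l} = B_m B_{a l}` for `m ≥ (s-1)(l-1)`. -/
theorem graded_add_mul_lcm (hdeg : ∀ i, 0 < deg i) (hf : ∀ i, f i ∈ 𝒜 (deg i))
    (hgen : Algebra.adjoin R (Set.range f) = ⊤) (m : ℕ)
    (hm : (s - 1) * (Finset.univ.lcm deg - 1) ≤ m) (a : ℕ) :
    𝒜 (m + a * Finset.univ.lcm deg) = 𝒜 m * 𝒜 (a * Finset.univ.lcm deg) := by
  have hge : ∀ a : ℕ, 𝒜 m * 𝒜 (a * Finset.univ.lcm deg) ≤ 𝒜 (m + a * Finset.univ.lcm deg) := by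
    intro a
    rw [Submodule.mul_le]
    intro x hx y hy
    exact SetLike.mul_mem_graded hx hy
  induction a with
  | zero =>
    rw [Nat.zero_mul, Nat.add_zero, graded_zero 𝒜 hdeg hf hgen, mul_one]
  | succ a ih =>
    apply le_antisymm _ (hge (a + 1))
    have e1 : m + (a + 1) * Finset.univ.lcm deg =
        (m + a * Finset.univ.lcm deg) + Finset.univ.lcm deg := by ring
    rw [e1, graded_add_lcm 𝒜 hdeg hf hgen _ (hm.trans (Nat.le_add_right _ _)), ih, mul_assoc]
    refine mul_le_mul' le_rfl ?_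
    rw [Submodule.mul_le]
    intro x hx y hy
    have := SetLike.mul_mem_graded hx hy
    rwa [show a * Finset.univ.lcm deg + Finset.univ.lcm deg = (a + 1) * Finset.univ.lcm deg by ring]
      at this

/-- `B_{k n} = (B_n)^k` for `n = a l`, `a ≥ s - 1`. -/
theorem graded_mul_eq_pow (hdeg : ∀ i, 0 < deg i) (hf : ∀ i, f i ∈ 𝒜 (deg i))
    (hgen : Algebra.adjoin R (Set.range f) = ⊤) (a : ℕ) (ha : s - 1 ≤ a) (k : ℕ) :
    𝒜 (k * (a * Finset.univ.lcm deg)) = 𝒜 (a * Finset.univ.lcm deg) ^ k := by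
  induction k with
  | zero => rw [Nat.zero_mul, pow_zero, graded_zero 𝒜 hdeg hf hgen]
  | succ k ih =>
    rcases Nat.eq_zero_or_pos k with rfl | hk
    · rw [Nat.zero_add, Nat.one_mul, pow_one]
    · have hm : (s - 1) * (Finset.univ.lcm deg - 1) ≤ k * (a * Finset.univ.lcm deg) := by
        calc (s - 1) * (Finset.univ.lcm deg - 1) ≤ a * Finset.univ.lcm deg :=
              Nat.mul_le_mul ha (Nat.sub_le _ _)
          _ ≤ k * (a * Finset.univ.lcm deg) := Nat.le_mul_of_pos_left _ hk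
      rw [Nat.succ_mul, graded_add_mul_lcm 𝒜 hdeg hf hgen _ hm a, ih, pow_succ]

theorem adjoin_zero_eq_top (hgen : Algebra.adjoin R (Set.range f) = ⊤) :
    Algebra.adjoin (𝒜 0) (Set.range f) = ⊤ := by
  rw [eq_top_iff]
  rintro x -
  have hx : x ∈ Algebra.adjoin R (Set.range f) := by rw [hgen]; trivial
  induction hx using Algebra.adjoin_induction with
  | mem x hx => exact Algebra.subset_adjoin hx
  | algebraMap r =>
    exact Subalgebra.algebraMap_mem (Algebra.adjoin (𝒜 0) (Set.range f))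
      (⟨algebraMap R A r, SetLike.algebraMap_mem_graded 𝒜 r⟩ : 𝒜 0)
  | add x y _ _ hx hy => exact Subalgebra.add_mem _ hx hy
  | mul x y _ _ hx hy => exact Subalgebra.mul_mem _ hx hy

open AlgebraicGeometry in
/-- `Proj B` is covered by `D_+(g)`, `g ∈ B_{a l}`, `a ≥ 1`. -/
theorem iSup_basicOpen_mul_lcm (hdeg : ∀ i, 0 < deg i) (hf : ∀ i, f i ∈ 𝒜 (deg i))
    (hgen : Algebra.adjoin R (Set.range f) = ⊤) (a : ℕ) (ha : 0 < a) :
    (⨆ g : 𝒜 (a * Finset.univ.lcm deg), Proj.basicOpen 𝒜 (g : A)) = ⊤ := by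
  rw [eq_top_iff, ← Proj.iSup_basicOpen_eq_top' 𝒜 f (fun i => ⟨deg i, hf i⟩)
    (adjoin_zero_eq_top 𝒜 hgen)]
  refine iSup_le (fun i => ?_)
  have hdvd : deg i ∣ a * Finset.univ.lcm deg :=
    Dvd.dvd.mul_left (Finset.dvd_lcm (Finset.mem_univ i)) a
  have hle : deg i ≤ a * Finset.univ.lcm deg :=
    Nat.le_of_dvd (Nat.mul_pos ha (lcm_pos hdeg)) hdvd
  have hq : 0 < a * Finset.univ.lcm deg / deg i := Nat.div_pos hle (hdeg i)
  have hmem : f i ^ (a * Finset.univ.lcm deg / deg i) ∈ 𝒜 (a * Finset.univ.lcm deg) := by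
    have := SetLike.pow_mem_graded (a * Finset.univ.lcm deg / deg i) (hf i)
    rwa [smul_eq_mul, Nat.div_mul_cancel hdvd] at this
  rw [← Proj.basicOpen_pow 𝒜 (f i) _ hq]
  exact le_iSup (fun g : 𝒜 (a * Finset.univ.lcm deg) => Proj.basicOpen 𝒜 (g : A)) ⟨_, hmem⟩

end Groth.Agent.Helper13GradedGen
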