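import Mathlib

/-!
# The quotient of a graded algebra by a homogeneous ideal as a graded algebra (helper13; pure Mathlib)

`qgr 𝒜 J n` is the image of `𝒜 n` in `A ⧸ J`; for `J` homogeneous this is a grading (`gradedAlgebraQuot`), and the
quotient map is a surjective graded ring hom `quotHom` with kernel `J`.
-/

set_option autoImplicit false
set_option linter.unusedSectionVars false
universe u

open DirectSum

namespace Groth.Agent.Helper13GradedQuot

variable {R A : Type u} [CommRing R] [CommRing A] [Algebra R A] (𝒜 : ℕ → Submodule R A)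
  [GradedAlgebra 𝒜] (J : Ideal A)

/-- the quotient grading -/
def qgr (n : ℕ) : Submodule R (A ⧸ J) := (𝒜 n).map (Ideal.Quotient.mkₐ R J).toLinearMap

theorem mem_qgr (n : ℕ) (b : A ⧸ J) : b ∈ qgr 𝒜 J n ↔ ∃ a ∈ 𝒜 n, Ideal.Quotient.mk J a = b :=
  Iff.rfl

theorem mk_mem_qgr {n : ℕ} {a : A} (ha : a ∈ 𝒜 n) : Ideal.Quotient.mk J a ∈ qgr 𝒜 J n :=
  ⟨a, ha, rfl⟩

instance : SetLike.GradedMonoid (qgr 𝒜 J) where
  one_mem := ⟨1, SetLike.GradedOne.one_mem, map_one (Ideal.Quotient.mk J)⟩
  mul_mem := by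
    rintro i j _ _ ⟨a, ha, rfl⟩ ⟨b, hb, rfl⟩
    exact ⟨a * b, SetLike.mul_mem_graded ha hb, map_mul (Ideal.Quotient.mk J) a b⟩

theorem isInternal_qgr (hJ : J.IsHomogeneous 𝒜) : DirectSum.IsInternal (qgr 𝒜 J) := by
  classical
  constructor
  · rw [injective_iff_map_eq_zero]
    intro z hz
    have hch : ∀ n, ∃ a ∈ 𝒜 n, Ideal.Quotient.mk J a = (z n : A ⧸ J) := fun n => (z n).2
    choose a ha hza using hch
    have h1 : z = ∑ n ∈ z.support, DirectSum.of (fun n => qgr 𝒜 J n) n (z n) :=
      (DirectSum.sum_support_of z).symm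
    have h2 : Ideal.Quotient.mk J (∑ n ∈ z.support, a n) = 0 := by
      rw [map_sum, ← hz]
      conv_rhs => rw [h1]
      rw [map_sum]
      refine Finset.sum_congr rfl fun n _ => ?_
      rw [DirectSum.coeAddMonoidHom_of, hza]
    rw [Ideal.Quotient.eq_zero_iff_mem] at h2
    have h3 : ∀ n ∈ z.support, a n ∈ J := by
      intro n hn
      have := hJ n h2
      rw [DirectSum.decompose_sum, DFinsupp.finsetSum_apply, AddSubmonoidClass.coe_finsetSum,
        Finset.sum_eq_single n] at this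
      · rwa [DirectSum.decompose_of_mem_same 𝒜 (ha n)] at this
      · intro m _ hmn
        rw [DirectSum.decompose_of_mem_ne 𝒜 (ha m) hmn]
      · intro h; exact absurd hn h
    rw [h1]
    refine Finset.sum_eq_zero fun n hn => ?_
    have : z n = 0 := by
      apply Subtype.ext
      rw [← hza, Ideal.Quotient.eq_zero_iff_mem.2 (h3 n hn)]
      rfl
    rw [this, map_zero]
  · intro b
    obtain ⟨a, rfl⟩ := Ideal.Quotient.mk_surjective b
    refine ⟨∑ n ∈ (DirectSum.decompose 𝒜 a).support,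
      DirectSum.of (fun n => qgr 𝒜 J n) n
        ⟨Ideal.Quotient.mk J (DirectSum.decompose 𝒜 a n : A),
          mk_mem_qgr 𝒜 J (DirectSum.decompose 𝒜 a n).2⟩, ?_⟩
    rw [map_sum]
    simp only [DirectSum.coeAddMonoidHom_of]
    rw [← map_sum, DirectSum.sum_support_decompose 𝒜 a]

/-- the graded algebra structure on the quotient by a homogeneous ideal -/
@[instance_reducible]
noncomputable def gradedAlgebraQuot (hJ : J.IsHomogeneous 𝒜) : GradedAlgebra (qgr 𝒜 J) :=
  { (inferInstance : SetLike.GradedMonoid (qgr 𝒜 J)) with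
    toDecomposition := (isInternal_qgr 𝒜 J hJ).chooseDecomposition }

/-- the quotient map as a graded ring hom -/
def quotHom : 𝒜 →+*ᵍ qgr 𝒜 J where
  __ := Ideal.Quotient.mk J
  map_mem := fun hx => mk_mem_qgr 𝒜 J hx

theorem quotHom_apply (a : A) : quotHom 𝒜 J a = Ideal.Quotient.mk J a := rfl

theorem quotHom_surjective : Function.Surjective (quotHom 𝒜 J) := Ideal.Quotient.mk_surjective

theorem quotHom_eq_zero_iff (a : A) : quotHom 𝒜 J a = 0 ↔ a ∈ J := Ideal.Quotient.eq_zero_iff_mem

end Groth.Agent.Helper13GradedQuot
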