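import Groth.Agent.Lib.Helper5QuasiRegFlat

/-!
# Elementary theory of `H_1`-regular sequences (helper13)
-/

set_option autoImplicit false
set_option linter.style.haveILetI false
universe u

namespace Groth.Agent.Helper13H1

open Groth.Agent.Lib.Helper5.QuasiRegFlat
open scoped TensorProduct

section Basic

variable {R : Type u} [CommRing R] {c : ℕ} (f : Fin c → R)

theorem isH1Regular_iff : CAlgX.IsH1Regular f ↔ ∀ a : Fin c → R, ∑ i, a i * f i = 0 → a ∈ triv f :=
  Iff.rfl

/-- entries of trivial relations lie in the ideal -/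
theorem apply_mem_of_mem_triv (b : Fin c → R) (hb : b ∈ triv f) (l : Fin c) :
    b l ∈ Ideal.span (Set.range f) := by
  unfold triv at hb
  induction hb using Submodule.span_induction with
  | mem v hv =>
    obtain ⟨i, j, rfl⟩ := hv
    simp only [Pi.sub_apply, Pi.single_apply]
    refine Ideal.sub_mem _ ?_ ?_
    · split_ifs
      · exact Ideal.subset_span ⟨j, rfl⟩
      · exact Ideal.zero_mem _
    · split_ifs
      · exact Ideal.subset_span ⟨i, rfl⟩
      · exact Ideal.zero_mem _
  | zero => exact Ideal.zero_mem _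
  | add a b _ _ ha hb => exact Ideal.add_mem _ ha hb
  | smul t a _ ha => exact Ideal.mul_mem_left _ _ ha

/-- the first Koszul homology is killed by the ideal -/
theorem smul_mem_triv (a : Fin c → R) (ha : ∑ i, a i * f i = 0) (i : Fin c) :
    f i • a ∈ triv f := by
  have key : f i • a = ∑ j, a j • (Pi.single j (f i) - Pi.single i (f j) : Fin c → R) := by
    funext k
    rw [Finset.sum_apply]
    simp only [Pi.smul_apply, smul_eq_mul, Pi.sub_apply, Pi.single_apply, mul_sub, mul_ite,
      mul_zero, Finset.sum_sub_distrib]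
    rw [Finset.sum_ite_eq Finset.univ k (fun j => a j * f i)]
    simp only [Finset.mem_univ, if_true]
    by_cases hk : k = i
    · subst hk
      simp only [if_true]
      rw [ha, sub_zero, mul_comm]
    · simp only [hk, if_false, Finset.sum_const_zero, sub_zero]
      rw [mul_comm]
  rw [key]
  exact Submodule.sum_mem _ fun j _ => Submodule.smul_mem _ _ (Submodule.subset_span ⟨j, i, rfl⟩)

theorem isH1Regular_of_span_eq_top (h : Ideal.span (Set.range f) = ⊤) : CAlgX.IsH1Regular f := by
  intro a ha
  show a ∈ triv f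
  have h1 : (1 : R) ∈ Ideal.span (Set.range f) := by rw [h]; exact Submodule.mem_top
  obtain ⟨d, hd⟩ := (Ideal.mem_span_range_iff_exists_fun).1 h1
  have : a = ∑ i, d i • (f i • a) := by
    rw [← one_smul R a]
    conv_lhs => rw [← hd]
    rw [Finset.sum_smul]
    refine Finset.sum_congr rfl fun i _ => ?_
    rw [one_smul, mul_smul]
  rw [this]
  exact Submodule.sum_mem _ fun i _ => Submodule.smul_mem _ _ (smul_mem_triv f a ha i)

end Basic

section Matrix

variable {R : Type u} [CommRing R] {c c' : ℕ}

/-- a linear change of generators maps trivial relations to trivial relations -/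
theorem vecMul_mem_triv (f : Fin c → R) (g : Fin c' → R) (M : Matrix (Fin c') (Fin c) R)
    (hg : ∀ j, g j = ∑ k, M j k * f k) (b : Fin c' → R) (hb : b ∈ triv g) :
    Matrix.vecMul b M ∈ triv f := by
  unfold triv at hb
  induction hb using Submodule.span_induction with
  | mem v hv =>
    obtain ⟨i, j, rfl⟩ := hv
    have key : Matrix.vecMul (Pi.single i (g j) - Pi.single j (g i)) M =
        ∑ k, ∑ l, (M i k * M j l) • (Pi.single k (f l) - Pi.single l (f k) : Fin c → R) := by
      funext m
      rw [Matrix.sub_vecMul, Matrix.single_vecMul, Matrix.single_vecMul, Finset.sum_apply]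
      simp only [Pi.sub_apply, Pi.smul_apply, smul_eq_mul, Finset.sum_apply, Pi.single_apply,
        mul_sub, mul_ite, mul_zero, Finset.sum_sub_distrib]
      rw [hg j, hg i]
      have e1 : ∑ x, ∑ x_1, (if m = x then M i x * M j x_1 * f x_1 else 0) =
          ∑ l, M i m * M j l * f l := by
        rw [Finset.sum_comm]
        refine Finset.sum_congr rfl fun l _ => ?_
        rw [Finset.sum_ite_eq Finset.univ m (fun x => M i x * M j l * f l)]
        simp
      have e2 : ∑ x, ∑ x_1, (if m = x_1 then M i x * M j x_1 * f x else 0) =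
          ∑ k, M i k * M j m * f k := by
        refine Finset.sum_congr rfl fun k _ => ?_
        rw [Finset.sum_ite_eq Finset.univ m (fun x => M i k * M j x * f k)]
        simp
      rw [e1, e2, Finset.sum_mul, Finset.sum_mul]
      congr 1
      · refine Finset.sum_congr rfl fun l _ => ?_
        show M j l * f l * M i m = _
        ring
      · refine Finset.sum_congr rfl fun l _ => ?_
        show M i l * f l * M j m = _
        ring
    rw [key]
    exact Submodule.sum_mem _ fun k _ => Submodule.sum_mem _ fun l _ =>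
      Submodule.smul_mem _ _ (Submodule.subset_span ⟨k, l, rfl⟩)
  | zero =>
    rw [Matrix.zero_vecMul]
    exact Submodule.zero_mem _
  | add a b _ _ ha hb =>
    rw [Matrix.add_vecMul]
    exact Submodule.add_mem _ ha hb
  | smul t a _ ha =>
    rw [Matrix.smul_vecMul]
    exact Submodule.smul_mem _ _ ha

/-- invariance of `H_1`-regularity under an invertible change of generators -/
theorem isH1Regular_of_matrix (f : Fin c → R) (g : Fin c' → R) (M : Matrix (Fin c) (Fin c') R)
    (M' : Matrix (Fin c') (Fin c) R) (hf : ∀ i, f i = ∑ j, M i j * g j)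
    (hg : ∀ j, g j = ∑ k, M' j k * f k) (hMM' : M * M' = 1) (h : CAlgX.IsH1Regular g) :
    CAlgX.IsH1Regular f := by
  intro a ha
  show a ∈ triv f
  have h1 : ∑ j, Matrix.vecMul a M j * g j = 0 := by
    rw [← ha]
    simp only [Matrix.vecMul, dotProduct, Finset.sum_mul]
    rw [Finset.sum_comm]
    refine Finset.sum_congr rfl fun i _ => ?_
    rw [hf i, Finset.mul_sum]
    refine Finset.sum_congr rfl fun j _ => ?_
    ring
  have h2 := vecMul_mem_triv f g M' hg _ (h _ h1)
  rwa [Matrix.vecMul_vecMul, hMM', Matrix.vecMul_one] at h2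

end Matrix

section Local

variable {R : Type u} [CommRing R]

/-- degree one part of quasi-regularity: coefficients of relations lie in the ideal -/
theorem coeff_mem_of_isQuasiRegular {c : ℕ} (f : Fin c → R) (hf : CAlgX.IsQuasiRegular f)
    (a : Fin c → R) (ha : ∑ i, a i * f i = 0) (k : Fin c) : a k ∈ Ideal.span (Set.range f) := by
  classical
  let P : MvPolynomial (Fin c) R := ∑ i, MvPolynomial.C (a i) * MvPolynomial.X i
  have hP : P.IsHomogeneous 1 := by
    apply MvPolynomial.IsHomogeneous.sum
    intro i _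
    have := (MvPolynomial.isHomogeneous_C (Fin c) (a i)).mul (MvPolynomial.isHomogeneous_X R i)
    rwa [zero_add] at this
  have hev : MvPolynomial.eval f P = 0 := by
    simp only [P, map_sum, map_mul, MvPolynomial.eval_C, MvPolynomial.eval_X]
    exact ha
  have h1 := hf 1 P hP (by rw [hev]; exact Ideal.zero_mem _) (Finsupp.single k 1)
  have h2 : P.coeff (Finsupp.single k 1) = a k := by
    simp only [P, MvPolynomial.coeff_sum, MvPolynomial.coeff_C_mul, MvPolynomial.coeff_X]
    rw [Finset.sum_eq_single k]
    · simp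
    · intro b _ hb
      have : Finsupp.single b 1 ≠ Finsupp.single k 1 := by
        intro h
        exact hb ((Finsupp.single_left_inj one_ne_zero).1 h)
      simp [this]
    · intro h
      exact absurd (Finset.mem_univ k) h
  rwa [h2] at h1

/-- **Change of generators in a local ring.** -/
theorem isH1Regular_of_isLocalRing [IsLocalRing R] {c c' : ℕ} (f : Fin c → R) (g : Fin c' → R)
    (hI : Ideal.span (Set.range f) = Ideal.span (Set.range g))
    (hne : Ideal.span (Set.range g) ≠ ⊤)
    (hf : CAlgX.IsQuasiRegular f) (hg : CAlgX.IsH1Regular g) : CAlgX.IsH1Regular f := by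
  classical
  have hfmem : ∀ i, f i ∈ Ideal.span (Set.range g) := fun i =>
    hI ▸ Ideal.subset_span ⟨i, rfl⟩
  have hgmem : ∀ j, g j ∈ Ideal.span (Set.range f) := fun j =>
    hI.symm ▸ Ideal.subset_span ⟨j, rfl⟩
  choose M hM using fun i => (Ideal.mem_span_range_iff_exists_fun).1 (hfmem i)
  choose N hN using fun j => (Ideal.mem_span_range_iff_exists_fun).1 (hgmem j)
  let MM : Matrix (Fin c) (Fin c') R := Matrix.of M
  let NN : Matrix (Fin c') (Fin c) R := Matrix.of N
  -- `N M ≡ 1` modulo the ideal
  have hNM : ∀ j l, (NN * MM - (1 : Matrix (Fin c') (Fin c') R)) j l ∈ Ideal.span (Set.range g) := by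
    intro j l
    apply apply_mem_of_mem_triv g _ (hg _ _)
    simp only [Matrix.sub_apply, Matrix.mul_apply, Matrix.one_apply, sub_mul, Finset.sum_sub_distrib,
      Finset.sum_mul]
    rw [Finset.sum_comm]
    have e1 : ∑ y, ∑ x, NN j y * MM y x * g x = g j := by
      rw [← hN j]
      refine Finset.sum_congr rfl fun k _ => ?_
      rw [← hM k, Finset.mul_sum]
      refine Finset.sum_congr rfl fun x _ => ?_
      simp only [NN, MM, Matrix.of_apply]
      ring
    have e2 : ∑ x, (if j = x then (1 : R) else 0) * g x = g j := by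
      simp
    rw [e1, e2, sub_self]
  have hMN : ∀ i k, (MM * NN - (1 : Matrix (Fin c) (Fin c) R)) i k ∈ Ideal.span (Set.range g) := by
    intro i k
    rw [← hI]
    apply coeff_mem_of_isQuasiRegular f hf
    simp only [Matrix.sub_apply, Matrix.mul_apply, Matrix.one_apply, sub_mul, Finset.sum_sub_distrib,
      Finset.sum_mul]
    rw [Finset.sum_comm]
    have e1 : ∑ y, ∑ x, MM i y * NN y x * f x = f i := by
      rw [← hM i]
      refine Finset.sum_congr rfl fun k _ => ?_
      rw [← hN k, Finset.mul_sum]
      refine Finset.sum_congr rfl fun x _ => ?_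
      simp only [NN, MM, Matrix.of_apply]
      ring
    have e2 : ∑ x, (if i = x then (1 : R) else 0) * f x = f i := by
      simp
    rw [e1, e2, sub_self]
  -- pass to the quotient
  let I := Ideal.span (Set.range g)
  haveI : Nontrivial (R ⧸ I) := Ideal.Quotient.nontrivial_iff.2 hne
  let q : R →+* R ⧸ I := Ideal.Quotient.mk I
  have h1' : (MM * NN).map q = 1 := by
    ext i k
    have := hMN i k
    rw [← Ideal.Quotient.eq_zero_iff_mem, Matrix.sub_apply, map_sub, sub_eq_zero] at this
    rw [Matrix.map_apply]
    change q ((MM * NN) i k) = _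
    rw [this, Matrix.one_apply, Matrix.one_apply]
    split_ifs <;> simp
  have h1 : (MM.map q) * (NN.map q) = 1 := by
    rw [← Matrix.map_mul]
    exact h1'
  have h2' : (NN * MM).map q = 1 := by
    ext i k
    have := hNM i k
    rw [← Ideal.Quotient.eq_zero_iff_mem, Matrix.sub_apply, map_sub, sub_eq_zero] at this
    rw [Matrix.map_apply]
    change q ((NN * MM) i k) = _
    rw [this, Matrix.one_apply, Matrix.one_apply]
    split_ifs <;> simp
  have h2 : (NN.map q) * (MM.map q) = 1 := by
    rw [← Matrix.map_mul]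
    exact h2'
  have hcard := Matrix.square_of_invertible _ _ h1 h2
  simp only [Fintype.card_fin] at hcard
  subst hcard
  -- `det MM` is a unit
  have hdet : IsUnit MM.det := by
    have h3 : q MM.det * q NN.det = 1 := by
      rw [RingHom.map_det, RingHom.map_det, ← Matrix.det_mul]
      change ((MM.map q) * (NN.map q)).det = 1
      rw [h1, Matrix.det_one]
    by_contra hnu
    have hm : MM.det ∈ IsLocalRing.maximalIdeal R := hnu
    have h4 : MM.det * NN.det - 1 ∈ I := by
      rw [← Ideal.Quotient.eq_zero_iff_mem, map_sub, map_mul, map_one]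
      exact sub_eq_zero.2 h3
    have h5 : I ≤ IsLocalRing.maximalIdeal R := IsLocalRing.le_maximalIdeal hne
    have h6 : (1 : R) ∈ IsLocalRing.maximalIdeal R := by
      have := Ideal.sub_mem _ (Ideal.mul_mem_right NN.det _ hm) (h5 h4)
      simpa using this
    exact (IsLocalRing.maximalIdeal.isMaximal R).ne_top ((Ideal.eq_top_iff_one _).2 h6)
  refine isH1Regular_of_matrix f g MM MM⁻¹ (fun i => (hM i).symm) ?_
    (Matrix.mul_nonsing_inv MM hdet) hg
  intro j
  have h7 : g = MM⁻¹.mulVec (MM.mulVec g) := by
    rw [Matrix.mulVec_mulVec, Matrix.nonsing_inv_mul MM hdet, Matrix.one_mulVec]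
  have h8 : MM.mulVec g = f := by
    funext i
    exact hM i
  rw [h8] at h7
  conv_lhs => rw [h7]
  rfl

end Local

section Descent

variable {R : Type u} [CommRing R] {c : ℕ} (f : Fin c → R)

/-- if the image of `a` in `R'` is a trivial relation then `1 ⊗ a` vanishes in
`R' ⊗ (R^c / triv f)` -/
theorem tmul_mkQ_eq_zero (R' : Type u) [CommRing R'] [Algebra R R'] (a : Fin c → R)
    (h : (fun i => algebraMap R R' (a i)) ∈ triv (fun i => algebraMap R R' (f i))) :
    (1 : R') ⊗ₜ[R] ((triv f).mkQ a) = 0 := by
  classical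
  let ψ := TensorProduct.piScalarRight R R' R' (Fin c)
  let B := LinearMap.baseChange R' (triv f).mkQ
  have key : ∀ w ∈ triv (fun i => algebraMap R R' (f i)),
      ∃ t : R' ⊗[R] (Fin c → R), ψ t = w ∧ B t = 0 := by
    intro w hw
    unfold triv at hw
    induction hw using Submodule.span_induction with
    | mem v hv =>
      obtain ⟨i, j, rfl⟩ := hv
      refine ⟨(1 : R') ⊗ₜ[R] (Pi.single i (f j) - Pi.single j (f i)), ?_, ?_⟩
      · rw [TensorProduct.piScalarRight_apply, TensorProduct.piScalarRightHom_tmul]
        funext k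
        simp only [Pi.sub_apply, Pi.single_apply, Algebra.smul_def, mul_one, map_sub]
        split_ifs <;> simp
      · rw [LinearMap.baseChange_tmul]
        have : (triv f).mkQ (Pi.single i (f j) - Pi.single j (f i)) = 0 := by
          rw [Submodule.mkQ_apply, Submodule.Quotient.mk_eq_zero]
          exact Submodule.subset_span ⟨i, j, rfl⟩
        rw [this, TensorProduct.tmul_zero]
    | zero => exact ⟨0, map_zero _, map_zero _⟩
    | add x y _ _ hx hy =>
      obtain ⟨t1, h1, h1'⟩ := hx
      obtain ⟨t2, h2, h2'⟩ := hy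
      exact ⟨t1 + t2, by rw [map_add, h1, h2], by rw [map_add, h1', h2', add_zero]⟩
    | smul r x _ hx =>
      obtain ⟨t1, h1, h1'⟩ := hx
      exact ⟨r • t1, by rw [map_smul, h1], by rw [map_smul, h1', smul_zero]⟩
  obtain ⟨t, ht, ht'⟩ := key _ h
  have h1 : ψ ((1 : R') ⊗ₜ[R] a) = fun i => algebraMap R R' (a i) := by
    rw [TensorProduct.piScalarRight_apply, TensorProduct.piScalarRightHom_tmul]
    funext k
    rw [Algebra.smul_def, mul_one]
  have h2 : t = (1 : R') ⊗ₜ[R] a := ψ.injective (ht.trans h1.symm)
  rw [h2, LinearMap.baseChange_tmul] at ht'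
  exact ht'

/-- **Flat-local descent of `H_1`-regularity.** -/
theorem isH1Regular_of_flat_local
    (h : ∀ 𝔪 : Ideal R, 𝔪.IsMaximal → ∃ (R' : Type u) (_ : CommRing R') (_ : Algebra R R'),
      Module.Flat R R' ∧ 𝔪.map (algebraMap R R') ≠ ⊤ ∧
        CAlgX.IsH1Regular (fun i => algebraMap R R' (f i))) :
    CAlgX.IsH1Regular f := by
  intro a ha
  show a ∈ triv f
  rw [← Submodule.Quotient.mk_eq_zero, ← Submodule.mkQ_apply]
  by_contra hne
  set x := (triv f).mkQ a with hx
  have hann : Ideal.torsionOf R _ x ≠ ⊤ := by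
    intro htop
    have : (1 : R) ∈ Ideal.torsionOf R _ x := by rw [htop]; exact Submodule.mem_top
    rw [Ideal.mem_torsionOf_iff, one_smul] at this
    exact hne this
  obtain ⟨𝔪, h𝔪, hle⟩ := Ideal.exists_le_maximal _ hann
  obtain ⟨R', _, _, hflat, htop, hreg⟩ := h 𝔪 h𝔪
  have hrel : ∑ i, algebraMap R R' (a i) * algebraMap R R' (f i) = 0 := by
    rw [← map_zero (algebraMap R R'), ← ha, map_sum]
    exact Finset.sum_congr rfl fun i _ => (map_mul _ _ _).symm
  have h1 := tmul_mkQ_eq_zero f R' a (hreg _ hrel)
  -- the injection `R ⧸ ann x → Q`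
  let ι : (R ⧸ Ideal.torsionOf R _ x) →ₗ[R] ((Fin c → R) ⧸ triv f) :=
    Submodule.liftQ _ (LinearMap.toSpanSingleton R _ x) (le_of_eq rfl)
  have hι : Function.Injective ι := by
    rw [← LinearMap.ker_eq_bot]
    exact Submodule.ker_liftQ_eq_bot _ _ _ (le_of_eq rfl)
  have hι' := Module.Flat.lTensor_preserves_injective_linearMap (M := R') ι hι
  have h2 : (1 : R') ⊗ₜ[R] (Ideal.Quotient.mk (Ideal.torsionOf R _ x) 1) = 0 := by
    apply hι'
    rw [LinearMap.lTensor_tmul, map_zero]
    have : ι (Ideal.Quotient.mk (Ideal.torsionOf R _ x) 1) = x := by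
      change (LinearMap.toSpanSingleton R _ x) 1 = x
      rw [LinearMap.toSpanSingleton_apply, one_smul]
    rw [this]
    exact h1
  have h3 := congrArg (TensorProduct.tensorQuotEquivQuotSMul R' (Ideal.torsionOf R _ x)) h2
  rw [TensorProduct.tensorQuotEquivQuotSMul_tmul_mk, map_zero, one_smul,
    Submodule.Quotient.mk_eq_zero] at h3
  apply htop
  rw [eq_top_iff]
  have h5 : (Ideal.torsionOf R _ x) • (⊤ : Submodule R R') ≤
      ((𝔪.map (algebraMap R R')).restrictScalars R) := by
    rw [Submodule.smul_le]
    intro r hr n _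
    rw [Submodule.restrictScalars_mem, Algebra.smul_def]
    exact Ideal.mul_mem_right _ _ (Ideal.mem_map_of_mem _ (hle hr))
  intro y _
  have := h5 h3
  rw [Submodule.restrictScalars_mem] at this
  have hy : y = y * 1 := (mul_one y).symm
  rw [hy]
  exact Ideal.mul_mem_left _ _ this

end Descent

end Groth.Agent.Helper13H1
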