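import Groth.Agent.Lib.Helper19QRegConv

/-!
# From local quasi-regularity to `FG + projective conormal module + Sym = gr` (helper19)
-/

set_option autoImplicit false
set_option linter.style.haveILetI false
universe u

namespace Groth.Agent.Lib.Helper19.QRegDir

open MvPolynomial Groth.Agent.Lib.Helper19.SymPow Groth.Agent.Lib.Helper19.SymGr
  Groth.Agent.Lib.Helper19.QRegMon Groth.Agent.Lib.Helper19.QRegChart
  Groth.Agent.Lib.Helper19.QRegConv

variable {R : Type u} [CommRing R] (J : Ideal R)

/-- the set of elements carrying a chart -/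
def chartSet : Set R := {g | ∃ (r : ℕ) (z : Fin r → R), IsChart J g z}

variable {J}

theorem span_chartSet (h : PP16.IsLocallyQuasiRegular R J) : Ideal.span (chartSet J) = ⊤ := by
  by_contra hne
  obtain ⟨m, hm, hle⟩ := Ideal.exists_le_maximal _ hne
  haveI := hm.isPrime
  by_cases hJm : J ≤ m
  · obtain ⟨g, hg, r, f, hq, hs⟩ := h m hJm
    obtain ⟨z, hz⟩ := exists_isChart_of_isQuasiRegular g f hq hs
    exact hg (hle (Ideal.subset_span ⟨r, z, hz⟩))
  · obtain ⟨g, hgJ, hgm⟩ := SetLike.not_le_iff_exists.1 hJm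
    have : IsChart J g (fun _ : Fin 1 => g) :=
      { mem := fun _ => hgJ
        gen := fun y _ => ⟨1, by
          rw [pow_one]
          exact Ideal.mul_mem_right _ _ (Ideal.subset_span ⟨0, rfl⟩)⟩
        qr := fun n Q _ _ d => ⟨1, by rw [pow_one]; exact J.mul_mem_right _ hgJ⟩ }
    exact hgm (hle (Ideal.subset_span ⟨1, _, this⟩))

theorem fg_of_isLocallyQuasiRegular (h : PP16.IsLocallyQuasiRegular R J) : J.FG := by
  apply Ideal.fg_of_localizationSpan (chartSet J) (span_chartSet h)
  rintro ⟨g, r, z, hz⟩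
  rw [← hz.span_eq]
  exact Submodule.fg_span (Set.finite_range _)

theorem smul_cot_eq_zero (a : R) (ha : a ∈ J) (v : J.Cotangent) : a • v = 0 := by
  rw [← mk_smul_cot, Ideal.Quotient.eq_zero_iff_mem.2 ha, zero_smul]

section basis

variable {g : R} {r : ℕ} {z : Fin r → R} (hz : IsChart J g z)

/-- the classes of the chart elements in the conormal module -/
noncomputable def zbar (i : Fin r) : J.Cotangent := J.toCotangent ⟨z i, hz.mem i⟩

theorem exists_smul_eq_sum (y : J) : ∃ (l : ℕ) (E : Fin r → R),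
    g ^ l • J.toCotangent y = ∑ i, E i • zbar hz i := by
  obtain ⟨l, hl⟩ := hz.gen y y.2
  obtain ⟨E, hE⟩ := Ideal.mem_span_range_iff_exists_fun.1 hl
  refine ⟨l, E, ?_⟩
  have : g ^ l • y = ∑ i, E i • (⟨z i, hz.mem i⟩ : J) := by
    apply Subtype.ext
    rw [Submodule.coe_smul, Submodule.coe_sum, smul_eq_mul, ← hE]
    simp
  rw [← map_smul, this, map_sum]
  simp only [map_smul]
  rfl

theorem coeff_mem_of_sum_mem (E : Fin r → R)
    (h : J.toCotangent (∑ i, E i • (⟨z i, hz.mem i⟩ : J)) = 0) (i : Fin r) :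
    ∃ l : ℕ, g ^ l * E i ∈ J := by
  classical
  rw [Ideal.toCotangent_eq_zero] at h
  have hev : eval z (Groth.Agent.S3824.Aux.QI.lin (Matrix.of fun (_ : Fin r) j => E j) i) =
      ((∑ j, E j • (⟨z j, hz.mem j⟩ : J) : J) : R) := by
    rw [Groth.Agent.S3824.Aux.QI.eval_lin, Submodule.coe_sum]
    refine Finset.sum_congr rfl fun j _ => ?_
    simp
  obtain ⟨l, hl⟩ := hz.qr 1 _ (Groth.Agent.S3824.Aux.QI.lin_hom _ i) (by rw [hev]; exact h)
    (Finsupp.single i 1)
  rw [Groth.Agent.S3824.Aux.QI.coeff_lin] at hl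
  exact ⟨l, hl⟩


local notation "a" => Ideal.Quotient.mk J g
local notation "Ma" => Submonoid.powers (Ideal.Quotient.mk J g)
local notation "Aa" => Localization.Away (Ideal.Quotient.mk J g)
local notation "Na" => LocalizedModule.Away (Ideal.Quotient.mk J g) J.Cotangent

/-- the candidate basis of the localized conormal module -/
noncomputable def vloc (i : Fin r) : LocalizedModule.Away (Ideal.Quotient.mk J g) J.Cotangent :=
  LocalizedModule.mkLinearMap (Submonoid.powers (Ideal.Quotient.mk J g)) J.Cotangent (zbar hz i)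

theorem linearIndependent_vloc : LinearIndependent Aa (vloc hz) := by
  classical
  rw [Fintype.linearIndependent_iff]
  intro c hc i
  obtain ⟨b, hb⟩ := IsLocalization.exist_integer_multiples_of_finite Ma c
  choose e he using hb
  choose E hE using fun i => Ideal.Quotient.mk_surjective (e i)
  have h0 : LocalizedModule.mkLinearMap Ma J.Cotangent (∑ i, e i • zbar hz i) = 0 := by
    rw [map_sum]
    have : ∀ i, LocalizedModule.mkLinearMap Ma J.Cotangent (e i • zbar hz i) =
        (b : R ⧸ J) • (c i • vloc hz i) := by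
      intro i
      rw [map_smul, ← algebraMap_smul Aa (e i), he i, smul_assoc]
      rfl
    simp only [this]
    rw [← Finset.smul_sum, hc, smul_zero]
  obtain ⟨⟨_, l, rfl⟩, hl⟩ := (IsLocalizedModule.eq_zero_iff Ma
    (LocalizedModule.mkLinearMap Ma J.Cotangent)).1 h0
  have h1 : J.toCotangent (∑ i, (g ^ l * E i) • (⟨z i, hz.mem i⟩ : J)) = 0 := by
    rw [map_sum]
    rw [Submonoid.smul_def, Finset.smul_sum] at hl
    rw [← hl]
    refine Finset.sum_congr rfl fun i _ => ?_
    rw [map_smul, mul_smul, ← mk_smul_cot, ← mk_smul_cot, hE i, map_pow]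
    rfl
  obtain ⟨l', hl'⟩ := coeff_mem_of_sum_mem hz _ h1 i
  have h2 : algebraMap (R ⧸ J) Aa (e i) = 0 := by
    rw [IsLocalization.map_eq_zero_iff Ma]
    refine ⟨⟨a ^ (l' + l), _, rfl⟩, ?_⟩
    rw [← hE i]
    change (Ideal.Quotient.mk J g) ^ (l' + l) * Ideal.Quotient.mk J (E i) = 0
    rw [← map_pow, ← map_mul, Ideal.Quotient.eq_zero_iff_mem, pow_add, mul_assoc]
    exact hl'
  rw [he i, Algebra.smul_def] at h2
  exact (IsUnit.mul_right_eq_zero (IsLocalization.map_units Aa b)).1 h2

theorem span_vloc : Submodule.span Aa (Set.range (vloc hz)) = ⊤ := by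
  rw [eq_top_iff]
  rintro m -
  induction m using LocalizedModule.induction_on with
  | h n t =>
    obtain ⟨y, rfl⟩ := J.toCotangent_surjective n
    obtain ⟨l, E, hE⟩ := exists_smul_eq_sum hz y
    have h2 : LocalizedModule.mk (J.toCotangent y) t =
        (Localization.mk 1 ((⟨a ^ l, l, rfl⟩ : Ma) * t)) •
          LocalizedModule.mkLinearMap Ma J.Cotangent ((⟨a ^ l, l, rfl⟩ : Ma) • J.toCotangent y) := by
      rw [LocalizedModule.mkLinearMap_apply, LocalizedModule.mk_smul_mk, one_smul, mul_one,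
        LocalizedModule.mk_cancel_common_left]
    have h3 : (⟨a ^ l, l, rfl⟩ : Ma) • J.toCotangent y =
        ∑ i, Ideal.Quotient.mk J (E i) • zbar hz i := by
      simp only [mk_smul_cot]
      rw [← hE, Submonoid.smul_def]
      change (Ideal.Quotient.mk J g) ^ l • J.toCotangent y = _
      rw [← map_pow, mk_smul_cot]
    rw [h2, h3, map_sum]
    refine Submodule.smul_mem _ _ (Submodule.sum_mem _ fun i _ => ?_)
    rw [map_smul, ← algebraMap_smul Aa]
    exact Submodule.smul_mem _ _ (Submodule.subset_span ⟨i, rfl⟩)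

include hz in
theorem free_finite_localized :
    Module.Free Aa Na ∧ Module.Finite Aa Na := by
  let b := Module.Basis.mk (linearIndependent_vloc hz) (span_vloc hz).ge
  exact ⟨Module.Free.of_basis b, Module.Finite.of_basis b⟩

end basis


theorem projective_of_isLocallyQuasiRegular (h : PP16.IsLocallyQuasiRegular R J) :
    Module.Projective (R ⧸ J) J.Cotangent := by
  let s : Set (R ⧸ J) := (Ideal.Quotient.mk J) '' chartSet J
  have hs : Ideal.span s = ⊤ := by
    rw [← Ideal.map_span, span_chartSet h, Ideal.map_top]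
  have key : ∀ b : s, Module.Free (Localization.Away b.1) (LocalizedModule.Away b.1 J.Cotangent) ∧
      Module.Finite (Localization.Away b.1) (LocalizedModule.Away b.1 J.Cotangent) := by
    rintro ⟨_, g, ⟨r, z, hz⟩, rfl⟩
    exact free_finite_localized hz
  haveI : Module.FinitePresentation (R ⧸ J) J.Cotangent :=
    Module.FinitePresentation.of_localizationSpan s hs (fun b => by
      haveI := (key b).1
      haveI := (key b).2
      exact Module.finitePresentation_of_projective _ _)
  haveI : Module.Flat (R ⧸ J) J.Cotangent :=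
    Module.flat_of_localized_span _ _ s hs (fun b => by
      haveI := (key b).1
      exact Module.Flat.trans (R ⧸ J) (Localization.Away b.1) _)
  exact Module.Flat.projective_of_finitePresentation


section sym

variable (ι : Type u) [Fintype ι]

theorem tprod_mem_span_of_mem_span {M : Type*} [AddCommGroup M] [Module R M] {r : ℕ}
    (v : Fin r → M) (m : ι → M) (hm : ∀ i, m i ∈ Submodule.span R (Set.range v)) :
    SymmetricPower.tprod R m ∈ Submodule.span R
      (Set.range fun w : ι → Fin r => SymmetricPower.tprod R (fun i => v (w i))) := by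
  classical
  choose c hc using fun i => (Submodule.mem_span_range_iff_exists_fun R).1 (hm i)
  have : m = fun i => ∑ j, c i j • v j := funext fun i => (hc i).symm
  rw [this, MultilinearMap.map_sum (SymmetricPower.tprod R)]
  refine Submodule.sum_mem _ fun w _ => ?_
  rw [MultilinearMap.map_smul_univ]
  exact Submodule.smul_mem _ _ (Submodule.subset_span ⟨w, rfl⟩)

variable {g : R} {r : ℕ} {z : Fin r → R} (hz : IsChart J g z)

/-- the pure tensors in the chart elements -/
noncomputable def Tw (w : ι → Fin r) : SymmetricPower R ι J.Cotangent :=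
  SymmetricPower.tprod R (fun i => zbar hz (w i))

theorem exists_pow_smul_mem_span (σ : SymmetricPower R ι J.Cotangent) :
    ∃ l : ℕ, g ^ l • σ ∈ Submodule.span R (Set.range (Tw ι hz)) := by
  classical
  have hσ : σ ∈ (⊤ : Submodule R _) := Submodule.mem_top
  rw [← SymmetricPower.span_tprod_eq_top R ι _] at hσ
  induction hσ using Submodule.span_induction with
  | mem x hx =>
    obtain ⟨m, rfl⟩ := hx
    choose y hy using fun i => J.toCotangent_surjective (m i)
    choose l E hE using fun i => exists_smul_eq_sum hz (y i)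
    refine ⟨∑ i, l i, ?_⟩
    have h1 : g ^ (∑ i, l i) • SymmetricPower.tprod R m =
        SymmetricPower.tprod R (fun i => g ^ l i • m i) := by
      rw [MultilinearMap.map_smul_univ, Finset.prod_pow_eq_pow_sum]
    rw [h1]
    apply tprod_mem_span_of_mem_span ι (zbar hz)
    intro i
    rw [← hy i, hE i]
    exact Submodule.sum_mem _ fun j _ => Submodule.smul_mem _ _ (Submodule.subset_span ⟨j, rfl⟩)
  | zero => exact ⟨0, by rw [smul_zero]; exact Submodule.zero_mem _⟩
  | add x y _ _ hx hy =>
    obtain ⟨l₁, h₁⟩ := hx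
    obtain ⟨l₂, h₂⟩ := hy
    refine ⟨l₁ + l₂, ?_⟩
    rw [smul_add]
    refine Submodule.add_mem _ ?_ ?_
    · rw [pow_add, mul_comm, mul_smul]; exact Submodule.smul_mem _ _ h₁
    · rw [pow_add, mul_smul]; exact Submodule.smul_mem _ _ h₂
  | smul c x _ hx =>
    obtain ⟨l, h⟩ := hx
    exact ⟨l, by rw [smul_comm]; exact Submodule.smul_mem _ _ h⟩

theorem Tw_eq_of_mon_eq (w w' : ι → Fin r) (h : mon w = mon w') : Tw ι hz w = Tw ι hz w' := by
  obtain ⟨e, he⟩ := exists_perm_of_mon_eq w w' h
  have : (fun i => zbar hz (w i)) = fun i => (fun j => zbar hz (w' j)) (e i) := by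
    funext i
    change zbar hz (w i) = zbar hz (w' (e i))
    rw [he i]
  rw [Tw, Tw, this]
  exact SymmetricPower.tprod_equiv e (fun j => zbar hz (w' j))

theorem symToGr_sum_Tw [DecidableEq ι] (C : (ι → Fin r) → R) :
    ∃ hm : eval z (∑ w, MvPolynomial.C (C w) * ∏ i, X (w i)) ∈ J ^ Fintype.card ι,
      symToGr J ι (∑ w, C w • Tw ι hz w) = Submodule.Quotient.mk
        ⟨eval z (∑ w, MvPolynomial.C (C w) * ∏ i, X (w i)), hm⟩ := by
  classical
  have hmemP : ∀ w : ι → Fin r, ∏ i, z (w i) ∈ J ^ Fintype.card ι := fun w => by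
    simpa using PP16.prod_mem_pow J Finset.univ (fun i => z (w i)) (fun i _ => hz.mem (w i))
  have hev : eval z (∑ w, MvPolynomial.C (C w) * ∏ i, X (w i)) = ∑ w, C w * ∏ i, z (w i) := by
    simp [map_sum, map_prod]
  have hm : eval z (∑ w, MvPolynomial.C (C w) * ∏ i, X (w i)) ∈ J ^ Fintype.card ι := by
    rw [hev]
    exact Ideal.sum_mem _ fun w _ => Ideal.mul_mem_left _ _ (hmemP w)
  refine ⟨hm, ?_⟩
  have hT : ∀ w, symToGr J ι (Tw ι hz w) =
      Submodule.Quotient.mk (⟨∏ i, z (w i), hmemP w⟩ : ↥(J ^ Fintype.card ι)) := by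
    intro w
    rw [Tw]
    exact symToGr_tprod J ι (fun i => (⟨z (w i), hz.mem (w i)⟩ : J))
  simp only [map_sum, map_smul, hT]
  have e : ∑ w, C w • (Submodule.Quotient.mk (⟨∏ i, z (w i), hmemP w⟩ : ↥(J ^ Fintype.card ι)) :
      PP16.grJ R J (Fintype.card ι)) =
      Submodule.Quotient.mk (∑ w, C w • (⟨∏ i, z (w i), hmemP w⟩ : ↥(J ^ Fintype.card ι))) := by
    rw [← Submodule.mkQ_apply, map_sum]
    refine Finset.sum_congr rfl fun d _ => ?_
    rw [map_smul]; rfl
  rw [e]
  congr 1
  apply Subtype.ext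
  rw [Submodule.coe_sum]
  simp only [Submodule.coe_smul, smul_eq_mul]
  simp [map_prod]


include hz in
theorem exists_pow_smul_eq_zero [Nonempty ι] (σ : SymmetricPower R ι J.Cotangent)
    (hσ : symToGr J ι σ = 0) : ∃ n : ℕ, g ^ n • σ = 0 := by
  classical
  obtain ⟨l, hl⟩ := exists_pow_smul_mem_span ι hz σ
  obtain ⟨C, hC⟩ := (Submodule.mem_span_range_iff_exists_fun R).1 hl
  set Q : MvPolynomial (Fin r) R := ∑ w, MvPolynomial.C (C w) * ∏ i, X (w i) with hQdef
  have hQ : Q.IsHomogeneous (Fintype.card ι) := by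
    apply IsHomogeneous.sum
    intro w _
    rw [prod_X_eq_monomial, C_mul_monomial]
    exact isHomogeneous_monomial _ (degree_mon w)
  obtain ⟨hm, hsum⟩ := symToGr_sum_Tw ι hz C
  have hev : eval z Q ∈ J ^ (Fintype.card ι + 1) := by
    rw [hC, map_smul, hσ, smul_zero] at hsum
    have := (Submodule.Quotient.mk_eq_zero _).1 hsum.symm
    rwa [Submodule.mem_comap] at this
  have hco : ∀ d, Q.coeff d = ∑ w ∈ Finset.univ.filter (fun w : ι → Fin r => mon w = d), C w := by
    intro d
    rw [hQdef, coeff_sum, Finset.sum_filter]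
    refine Finset.sum_congr rfl fun w _ => ?_
    rw [prod_X_eq_monomial, C_mul_monomial, coeff_monomial, mul_one]
  choose L hL using fun d => hz.qr _ Q hQ hev d
  let D : Finset (Fin r →₀ ℕ) := Finset.univ.image (fun w : ι → Fin r => mon w)
  refine ⟨(∑ d ∈ D, L d) + l, ?_⟩
  rw [pow_add, mul_smul, ← hC, Finset.smul_sum,
    ← Finset.sum_fiberwise_of_maps_to (g := fun w : ι → Fin r => mon w) (t := D)
      (fun w _ => Finset.mem_image_of_mem _ (Finset.mem_univ w))]
  refine Finset.sum_eq_zero fun d hd => ?_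
  obtain ⟨w₀, -, hw₀⟩ := Finset.mem_image.1 hd
  have hT : ∀ w ∈ Finset.univ.filter (fun w : ι → Fin r => mon w = d),
      g ^ (∑ d ∈ D, L d) • C w • Tw ι hz w = (g ^ (∑ d ∈ D, L d) * C w) • Tw ι hz w₀ := by
    intro w hw
    rw [Tw_eq_of_mon_eq ι hz w w₀ ((Finset.mem_filter.1 hw).2.trans hw₀.symm), smul_smul]
  rw [Finset.sum_congr rfl hT, ← Finset.sum_smul, ← Finset.mul_sum, ← hco]
  apply smul_eq_zero_of_forall
  intro v
  apply smul_cot_eq_zero
  have hle : L d ≤ ∑ d ∈ D, L d := Finset.single_le_sum (fun _ _ => Nat.zero_le _) hd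
  obtain ⟨k, hk⟩ := Nat.exists_eq_add_of_le hle
  rw [hk, pow_add, mul_comm (g ^ L d), mul_assoc]
  exact Ideal.mul_mem_left _ _ (hL d)

end sym

theorem symGrBijective_of_isLocallyQuasiRegular (h : PP16.IsLocallyQuasiRegular R J) :
    PP16.SymGrBijective R J := by
  rw [symGrBijective_iff]
  intro ι _ _
  rw [injective_iff_map_eq_zero]
  intro σ hσ
  have : σ ∈ (⊥ : Submodule R (SymmetricPower R ι J.Cotangent)) :=
    Submodule.mem_of_span_eq_top_of_smul_pow_mem ⊥ (chartSet J) (span_chartSet h) σ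
      (fun ⟨g, r, z, hz⟩ => by
        obtain ⟨n, hn⟩ := exists_pow_smul_eq_zero ι hz σ hσ
        exact ⟨n, (Submodule.mem_bot R).2 hn⟩)
  exact (Submodule.mem_bot R).1 this


end Groth.Agent.Lib.Helper19.QRegDir
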