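import Groth.Agent.Lib.Helper19QRegConv2
import Groth.Agent.Lib.Helper19QRegDir
import Groth.Agent.Lib.Helper19CotBC
import Groth.Agent.Lib.LeadAzumaya

/-!
# Quasi-regular ideals descend along faithfully flat ring maps (helper19)
-/

set_option autoImplicit false
set_option linter.style.haveILetI false
universe u

namespace Groth.Agent.Lib.Helper19.QRegDescent

open MvPolynomial Groth.Agent.Lib.Helper19.SymGr Groth.Agent.Lib.Helper19.QRegConv
  Groth.Agent.Lib.Helper19.QRegDir Groth.Agent.Lib.Helper19.CotBC

theorem isLocallyQuasiRegular_of_faithfullyFlat (A B : Type u) [CommRing A] [CommRing B]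
    [Algebra A B] [Module.FaithfullyFlat A B] (I : Ideal A)
    (h : PP16.IsLocallyQuasiRegular B (Ideal.map (algebraMap A B) I)) :
    PP16.IsLocallyQuasiRegular A I := by
  classical
  have hFG' := fg_of_isLocallyQuasiRegular h
  have hFG : I.FG := Ideal.FG.of_FG_map_of_faithfullyFlat hFG'
  haveI hproj' := projective_of_isLocallyQuasiRegular h
  have hinj' := (symGrBijective_iff _).1 (symGrBijective_of_isLocallyQuasiRegular h)
  haveI : Module.Finite B (I.map (algebraMap A B)) := Module.Finite.iff_fg.2 hFG'
  haveI : Module.Finite B (I.map (algebraMap A B)).Cotangent :=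
    Module.Finite.of_surjective (I.map (algebraMap A B)).toCotangent
      (I.map (algebraMap A B)).toCotangent_surjective
  haveI : Module.Finite (B ⧸ I.map (algebraMap A B)) (I.map (algebraMap A B)).Cotangent :=
    Module.Finite.of_restrictScalars_finite B _ _
  obtain ⟨⟨e⟩, hext⟩ := cotangent_baseChange (R := A) (R' := B) I
  haveI := faithfullyFlat_quotient (R := A) (R' := B) I
  haveI : Module.Finite (B ⧸ I.map (algebraMap A B))
      (TensorProduct (A ⧸ I) (B ⧸ I.map (algebraMap A B)) I.Cotangent) :=
    Module.Finite.equiv e.symm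
  haveI : Module.Projective (B ⧸ I.map (algebraMap A B))
      (TensorProduct (A ⧸ I) (B ⧸ I.map (algebraMap A B)) I.Cotangent) :=
    Module.Projective.of_equiv e.symm
  have hproj : Module.Projective (A ⧸ I) I.Cotangent :=
    (Groth.Agent.Lib.LeadAzumaya.finite_projective_of_faithfullyFlat_baseChange
      (B ⧸ I.map (algebraMap A B)) I.Cotangent).2
  refine isLocallyQuasiRegular_of_fg_projective_of_qr I hFG hproj ?_
  intro r μ x g hμ n hn Q hQ hev d
  choose ν hν using fun i => hext (μ i)
  let x' : Fin r → I.map (algebraMap A B) := fun i =>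
    ⟨algebraMap A B (x i), Ideal.mem_map_of_mem _ (x i).2⟩
  have hν' : ∀ i j, ν i ((I.map (algebraMap A B)).toCotangent (x' j)) =
      if i = j then Ideal.Quotient.mk (I.map (algebraMap A B)) (algebraMap A B g) else 0 := by
    intro i j
    rw [hν i (x j), hμ i j]
    split_ifs
    · rfl
    · rw [map_zero]
  have hev' : eval (fun i => ((x' i : I.map (algebraMap A B)) : B)) (map (algebraMap A B) Q) ∈
      (I.map (algebraMap A B)) ^ (n + 1) := by
    have e1 : eval (fun i => ((x' i : I.map (algebraMap A B)) : B)) (map (algebraMap A B) Q) =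
        algebraMap A B (eval (fun i => (x i : A)) Q) := by
      rw [eval_map]
      have := eval₂_comp_left (algebraMap A B) (RingHom.id A) (fun i => (x i : A)) Q
      rw [RingHom.comp_id] at this
      exact this.symm
    rw [e1, ← Ideal.map_pow]
    exact Ideal.mem_map_of_mem _ hev
  have key := qr_of_symToGr_injective (I.map (algebraMap A B)) hinj' r ν x' (algebraMap A B g) hν'
    n hn (map (algebraMap A B) Q) (hQ.map _) hev' d
  rw [coeff_map, ← map_pow, ← map_mul] at key
  have : g ^ n * Q.coeff d ∈ (I.map (algebraMap A B)).comap (algebraMap A B) := key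
  rwa [Ideal.comap_map_eq_self_of_faithfullyFlat] at this

end Groth.Agent.Lib.Helper19.QRegDescent
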