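import Groth.Agent.Lib.Helper13H1A
import Groth.Agent.Lib.Helper19QRegDescent
import Groth.Agent.S2103

/-!
# Ideals locally generated by `H_1`-regular sequences; faithfully flat descent (helper13)
-/

set_option autoImplicit false
set_option linter.style.haveILetI false
universe u

namespace Groth.Agent.Helper13H1

open Groth.Agent.Lib.Helper5.QuasiRegFlat

/-- the ideal `J` is locally generated by `H_1`-regular sequences -/
def IsLocallyH1Regular (R : Type u) [CommRing R] (J : Ideal R) : Prop :=
  ∀ (P : Ideal R) [P.IsPrime], J ≤ P → ∃ g : R, g ∉ P ∧ ∃ (r : ℕ) (f : Fin r → Localization.Away g),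
    CAlgX.IsH1Regular f ∧ Ideal.span (Set.range f) = J.map (algebraMap R (Localization.Away g))

theorem isLocallyQuasiRegular_of_isLocallyH1Regular {R : Type u} [CommRing R] {J : Ideal R}
    (h : IsLocallyH1Regular R J) : PP16.IsLocallyQuasiRegular R J := by
  intro P _ hJP
  obtain ⟨g, hg, r, f, hf, hfJ⟩ := h P hJP
  exact ⟨g, hg, r, f, Groth.Agent.S2103.result f hf, hfJ⟩

theorem span_range_comp {R R' : Type u} [CommRing R] [CommRing R'] (φ : R →+* R') {c : ℕ}
    (f : Fin c → R) :
    Ideal.span (Set.range fun i => φ (f i)) = (Ideal.span (Set.range f)).map φ := by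
  rw [Ideal.map_span, ← Set.range_comp]
  rfl

section main

variable (A B : Type u) [CommRing A] [CommRing B] [Algebra A B] [Module.FaithfullyFlat A B]

/-- **Faithfully flat descent of locally `H_1`-regular ideals.** -/
theorem isLocallyH1Regular_of_faithfullyFlat (I : Ideal A)
    (h : IsLocallyH1Regular B (I.map (algebraMap A B))) : IsLocallyH1Regular A I := by
  classical
  have hqA := Groth.Agent.Lib.Helper19.QRegDescent.isLocallyQuasiRegular_of_faithfullyFlat A B I
    (isLocallyQuasiRegular_of_isLocallyH1Regular h)
  intro P _ hIP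
  obtain ⟨g, hgP, r, f, hfq, hfI⟩ := hqA P hIP
  refine ⟨g, hgP, r, f, ?_, hfI⟩
  apply isH1Regular_of_flat_local
  intro 𝔪 h𝔪
  haveI := h𝔪.isPrime
  have ht𝔪 : algebraMap A (Localization.Away g) g ∉ 𝔪 := fun hmem =>
    h𝔪.ne_top (Ideal.eq_top_of_isUnit_mem _ hmem (IsLocalization.Away.algebraMap_isUnit g))
  let p : Ideal A := 𝔪.comap (algebraMap A (Localization.Away g))
  haveI hp : p.IsPrime := Ideal.comap_isPrime _ _
  have htp : g ∉ p := ht𝔪
  obtain ⟨⟨q, hq⟩, hqp⟩ := PrimeSpectrum.comap_surjective_of_faithfullyFlat (A := A) (B := B) ⟨p, hp⟩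
  have hqp' : q.comap (algebraMap A B) = p := congrArg PrimeSpectrum.asIdeal hqp
  haveI := hq
  have huq : algebraMap A B g ∉ q := by
    intro hmem
    apply htp
    rw [← hqp']
    exact hmem
  let Bq := Localization.AtPrime q
  haveI : Module.Flat A Bq := Module.Flat.trans A B Bq
  have hunit : IsUnit (algebraMap A Bq g) := by
    rw [IsScalarTower.algebraMap_apply A B Bq]
    exact IsLocalization.map_units Bq (⟨algebraMap A B g, huq⟩ : q.primeCompl)
  let ψ : Localization.Away g →+* Bq := IsLocalization.Away.lift g hunit
  letI : Algebra (Localization.Away g) Bq := ψ.toAlgebra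
  haveI : IsScalarTower A (Localization.Away g) Bq :=
    IsScalarTower.of_algebraMap_eq fun a => (IsLocalization.Away.lift_eq g hunit a).symm
  haveI : Module.Flat (Localization.Away g) Bq :=
    (Module.flat_iff_of_isLocalization (Localization.Away g) (Submonoid.powers g) Bq).2
      inferInstance
  refine ⟨Bq, inferInstance, inferInstance, inferInstance, ?_, ?_⟩
  · -- `𝔪` survives
    intro htop
    have h𝔪eq : 𝔪 = p.map (algebraMap A (Localization.Away g)) :=
      (IsLocalization.map_under (Submonoid.powers g) (Localization.Away g) 𝔪).symm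
    rw [h𝔪eq, Ideal.map_map, ← IsScalarTower.algebraMap_eq] at htop
    have hle : p.map (algebraMap A Bq) ≤ IsLocalRing.maximalIdeal Bq := by
      rw [Ideal.map_le_iff_le_comap]
      intro a ha
      rw [Ideal.mem_comap, IsScalarTower.algebraMap_apply A B Bq,
        IsLocalization.AtPrime.to_map_mem_maximal_iff Bq q]
      rw [← hqp'] at ha
      exact ha
    rw [htop, top_le_iff] at hle
    exact (IsLocalRing.maximalIdeal.isMaximal Bq).ne_top hle
  · -- `H_1`-regularity in the local ring `Bq`
    change CAlgX.IsH1Regular (fun i => ψ (f i))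
    have hψfl : ψ.Flat := by
      have : ψ = algebraMap (Localization.Away g) Bq := rfl
      rw [this, RingHom.flat_algebraMap_iff]
      infer_instance
    have hfq' := isQuasiRegular_map_of_flat ψ hψfl f hfq
    have hspan : Ideal.span (Set.range fun i => ψ (f i)) = I.map (algebraMap A Bq) := by
      rw [span_range_comp, hfI, Ideal.map_map]
      congr 1
      exact (IsScalarTower.algebraMap_eq A (Localization.Away g) Bq).symm
    by_cases hle : I.map (algebraMap A B) ≤ q
    · obtain ⟨g'', hg'', r'', f'', hf'', hf''I⟩ := h q hle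
      have hunit'' : IsUnit (algebraMap B Bq g'') :=
        IsLocalization.map_units Bq (⟨g'', hg''⟩ : q.primeCompl)
      let χ : Localization.Away g'' →+* Bq := IsLocalization.Away.lift g'' hunit''
      letI : Algebra (Localization.Away g'') Bq := χ.toAlgebra
      haveI : IsScalarTower B (Localization.Away g'') Bq :=
        IsScalarTower.of_algebraMap_eq fun a => (IsLocalization.Away.lift_eq g'' hunit'' a).symm
      haveI : Module.Flat (Localization.Away g'') Bq :=
        (Module.flat_iff_of_isLocalization (Localization.Away g'') (Submonoid.powers g'') Bq).2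
          inferInstance
      have hχfl : χ.Flat := by
        have : χ = algebraMap (Localization.Away g'') Bq := rfl
        rw [this, RingHom.flat_algebraMap_iff]
        infer_instance
      have hH1 := isH1Regular_map_of_flat χ hχfl f'' hf''
      have hspan'' : Ideal.span (Set.range fun i => χ (f'' i)) = I.map (algebraMap A Bq) := by
        rw [span_range_comp, hf''I, Ideal.map_map, Ideal.map_map]
        congr 1
        have e1 : χ.comp (algebraMap B (Localization.Away g'')) = algebraMap B Bq :=
          (IsScalarTower.algebraMap_eq B (Localization.Away g'') Bq).symm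
        rw [e1, ← IsScalarTower.algebraMap_eq]
      have hne : Ideal.span (Set.range fun i => χ (f'' i)) ≠ ⊤ := by
        rw [hspan'']
        intro htop
        have hle' : I.map (algebraMap A Bq) ≤ IsLocalRing.maximalIdeal Bq := by
          rw [IsScalarTower.algebraMap_eq A B Bq, ← Ideal.map_map, Ideal.map_le_iff_le_comap]
          intro b hb
          rw [Ideal.mem_comap, IsLocalization.AtPrime.to_map_mem_maximal_iff Bq q]
          exact hle hb
        rw [htop, top_le_iff] at hle'
        exact (IsLocalRing.maximalIdeal.isMaximal Bq).ne_top hle'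
      exact isH1Regular_of_isLocalRing _ _ (hspan.trans hspan''.symm) hne hfq' hH1
    · apply isH1Regular_of_span_eq_top
      rw [hspan]
      obtain ⟨y, hyI, hyq⟩ := SetLike.not_le_iff_exists.1 hle
      have hu : IsUnit (algebraMap B Bq y) :=
        IsLocalization.map_units Bq (⟨y, hyq⟩ : q.primeCompl)
      apply Ideal.eq_top_of_isUnit_mem _ _ hu
      rw [IsScalarTower.algebraMap_eq A B Bq, ← Ideal.map_map]
      exact Ideal.mem_map_of_mem _ hyI

end main

end Groth.Agent.Helper13H1
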