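import Groth.Agent.Lib.Helper13H1B
import Groth.Agent.Lib.Helper13KzSch

/-!
# `H_1`-regular and quasi-regular immersions: affine communication and fpqc descent (helper13)
-/

set_option autoImplicit false
set_option linter.style.haveILetI false
universe u

open AlgebraicGeometry CategoryTheory CategoryTheory.Limits TopologicalSpace

namespace Groth.Agent.Helper13H1

open Groth.Agent.Lib.Helper5.QuasiRegFlat Groth.Agent.Lib.Helper5.ImmBC
  Groth.Agent.Lib.Helper5.KindFlat

section Ring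

variable {A : Type u} [CommRing A]

/-- `I` is locally generated by sequences of kind `k` (arbitrary model of the localization) -/
def KI (k : RegImm.Kind) (I : Ideal A) : Prop :=
  ∀ 𝔭 : Ideal A, 𝔭.IsPrime → I ≤ 𝔭 → ∃ g : A, g ∉ 𝔭 ∧
    ∃ (R' : Type u) (_ : CommRing R') (_ : Algebra A R') (_ : IsLocalization.Away g R')
      (l : List R'), k.Seq R' l ∧ I.map (algebraMap A R') = Ideal.ofList l

theorem flat_ringEquiv {R R' : Type u} [CommRing R] [CommRing R'] (e : R ≃+* R') :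
    (e : R →+* R').Flat := RingHom.Flat.of_bijective e.bijective

/-- normal form with `Localization.Away` -/
theorem ki_away (k : RegImm.Kind) (hk : k = .h1 ∨ k = .quasi) {I : Ideal A} (h : KI k I)
    (𝔭 : Ideal A) [h𝔭 : 𝔭.IsPrime] (hI : I ≤ 𝔭) :
    ∃ g : A, g ∉ 𝔭 ∧ ∃ l : List (Localization.Away g), k.Seq (Localization.Away g) l ∧
      I.map (algebraMap A (Localization.Away g)) = Ideal.ofList l := by
  obtain ⟨g, hg, R', _, _, _, l, hl, hIl⟩ := h 𝔭 h𝔭 hI
  let e : R' ≃ₐ[A] Localization.Away g :=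
    IsLocalization.algEquiv (Submonoid.powers g) R' (Localization.Away g)
  refine ⟨g, hg, l.map (e.toRingEquiv : R' →+* Localization.Away g),
    seq_map_of_flat k hk _ (flat_ringEquiv e.toRingEquiv) l hl, ?_⟩
  have h1 : algebraMap A (Localization.Away g) =
      (e.toRingEquiv : R' →+* Localization.Away g).comp (algebraMap A R') := by
    ext a
    exact (e.commutes a).symm
  rw [h1, ← Ideal.map_map, hIl, Ideal.map_ofList]

theorem ki_h1_iff (I : Ideal A) : KI .h1 I ↔ IsLocallyH1Regular A I := by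
  constructor
  · intro h P _ hIP
    obtain ⟨g, hg, l, hl, hIl⟩ := ki_away .h1 (Or.inl rfl) h P hIP
    exact ⟨g, hg, l.length, l.get, hl, by rw [hIl, ofList_eq_span_range_get]⟩
  · intro h P hP hIP
    obtain ⟨g, hg, r, f, hf, hfI⟩ := h P hIP
    refine ⟨g, hg, Localization.Away g, inferInstance, inferInstance, inferInstance, List.ofFn f,
      ?_, ?_⟩
    · show CAlgX.IsH1Regular (List.ofFn f).get
      have hl : (List.ofFn f).length = r := List.length_ofFn
      have : (List.ofFn f).get = f ∘ Fin.cast hl := by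
        funext j
        simp only [List.get_eq_getElem, List.getElem_ofFn, Function.comp_apply]
        rfl
      rw [this]
      exact (cast_iff hl (fun n g => CAlgX.IsH1Regular g) _).mpr hf
    · rw [← hfI, Groth.Agent.Lib.Helper5.KzExch.ofList_ofFn]

theorem ki_quasi_iff (I : Ideal A) : KI .quasi I ↔ PP16.IsLocallyQuasiRegular A I := by
  constructor
  · intro h P _ hIP
    obtain ⟨g, hg, l, hl, hIl⟩ := ki_away .quasi (Or.inr rfl) h P hIP
    exact ⟨g, hg, l.length, l.get, hl, by rw [hIl, ofList_eq_span_range_get]⟩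
  · intro h P hP hIP
    obtain ⟨g, hg, r, f, hf, hfI⟩ := h P hIP
    refine ⟨g, hg, Localization.Away g, inferInstance, inferInstance, inferInstance, List.ofFn f,
      ?_, ?_⟩
    · show CAlgX.IsQuasiRegular (List.ofFn f).get
      have hl : (List.ofFn f).length = r := List.length_ofFn
      have : (List.ofFn f).get = f ∘ Fin.cast hl := by
        funext j
        simp only [List.get_eq_getElem, List.getElem_ofFn, Function.comp_apply]
        rfl
      rw [this]
      exact (cast_iff hl (fun n g => CAlgX.IsQuasiRegular g) _).mpr hf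
    · rw [← hfI, Groth.Agent.Lib.Helper5.KzExch.ofList_ofFn]

/-- **Faithfully flat descent of ideals locally generated by `H_1`-regular (quasi-regular)
sequences.** -/
theorem ki_of_faithfullyFlat (k : RegImm.Kind) (hk : k = .h1 ∨ k = .quasi) (A B : Type u)
    [CommRing A] [CommRing B] [Algebra A B] [Module.FaithfullyFlat A B] (I : Ideal A)
    (h : KI k (I.map (algebraMap A B))) : KI k I := by
  rcases hk with rfl | rfl
  · rw [ki_h1_iff] at h ⊢
    exact isLocallyH1Regular_of_faithfullyFlat A B I h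
  · rw [ki_quasi_iff] at h ⊢
    exact Groth.Agent.Lib.Helper19.QRegDescent.isLocallyQuasiRegular_of_faithfullyFlat A B I h

end Ring

section Sch

/-- **Affine communication, 1.** -/
theorem ki_ker_of_isRegularImmersionAt (k : RegImm.Kind) (hk : k = .h1 ∨ k = .quasi)
    {Z X : Scheme.{u}} (i : Z ⟶ X)
    {U : X.Opens} (hU : IsAffineOpen U) [hcl : IsClosedImmersion (i ∣_ U)]
    (h : ∀ z : Z, i z ∈ U → RegImm.IsRegularImmersionAt k i z) :
    KI k (RingHom.ker (i.app U).hom) := by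
  intro 𝔭 h𝔭 hI
  have hW := isAffineOpen_preimage_of_isClosedImmersion_restrict i hU
  have hsurj := app_surjective_of_isClosedImmersion_restrict i hU
  have hmem : (⟨𝔭, h𝔭⟩ : PrimeSpectrum Γ(X, U)) ∈
      PrimeSpectrum.zeroLocus (RingHom.ker (i.app U).hom : Set Γ(X, U)) := hI
  rw [← range_comap_of_surjective _ _ hsurj] at hmem
  obtain ⟨𝔮, h𝔮⟩ := hmem
  have hz : i (hW.fromSpec 𝔮) = hU.fromSpec ⟨𝔭, h𝔭⟩ := by
    have h1 := IsAffineOpen.SpecMap_appLE_fromSpec i hU hW le_rfl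
    have h2 := congr($h1 𝔮)
    simp only [Scheme.Hom.comp_apply] at h2
    rw [← h2, Scheme.Hom.appLE_eq_app]
    congr 1
  have hzU : i (hW.fromSpec 𝔮) ∈ U := by
    rw [hz]
    have := hU.range_fromSpec
    rw [← SetLike.mem_coe, ← this]
    exact ⟨_, rfl⟩
  obtain ⟨⟨V, hV⟩, hzV, hclV, rs, hrs, hker⟩ := h _ hzU
  simp only at hzV hclV hrs hker
  haveI := hclV
  obtain ⟨f, g, hfg, hxf⟩ := exists_basicOpen_le_affine_inter hU hV (i (hW.fromSpec 𝔮)) ⟨hzU, hzV⟩
  have hD : IsAffineOpen (X.basicOpen f) := hU.basicOpen f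
  have hDV : X.basicOpen f ≤ V := hfg ▸ X.basicOpen_le g
  have hDU : X.basicOpen f ≤ U := X.basicOpen_le f
  obtain ⟨hcl₁, hker₁⟩ := restrict_baseChange (IsPullback.id_horiz i) hV hD
    (show X.basicOpen f ≤ (𝟙 X) ⁻¹ᵁ V from hDV)
  obtain ⟨hcl₂, hker₂⟩ := restrict_baseChange (IsPullback.id_horiz i) hU hD
    (show X.basicOpen f ≤ (𝟙 X) ⁻¹ᵁ U from hDU)
  have hfl : ((𝟙 X : X ⟶ X).appLE V (X.basicOpen f) hDV).hom.Flat :=
    Scheme.Hom.flat_appLE (𝟙 X) hV hD _
  refine ⟨f, ?_, Γ(X, X.basicOpen f), inferInstance, inferInstance, hU.isLocalization_basicOpen f,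
    rs.map ((𝟙 X : X ⟶ X).appLE V (X.basicOpen f) hDV).hom,
    seq_map_of_flat k hk _ hfl rs hrs, ?_⟩
  · intro hf𝔭
    rw [hz] at hxf
    have h3 : (⟨𝔭, h𝔭⟩ : PrimeSpectrum Γ(X, U)) ∈ hU.fromSpec ⁻¹ᵁ X.basicOpen f := hxf
    rw [hU.fromSpec_preimage_basicOpen] at h3
    exact h3 hf𝔭
  · rw [← Ideal.map_ofList, ← hker, ← hker₁, hker₂]
    congr 1

/-- **Affine communication, 2.** -/
theorem isRegularImmersionAt_of_ki_ker (k : RegImm.Kind) (hk : k = .h1 ∨ k = .quasi)
    {Z X : Scheme.{u}} (i : Z ⟶ X)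
    {U : X.Opens} (hU : IsAffineOpen U) [hcl : IsClosedImmersion (i ∣_ U)]
    (h : KI k (RingHom.ker (i.app U).hom)) (z : Z) (hz : i z ∈ U) :
    RegImm.IsRegularImmersionAt k i z := by
  have hI : RingHom.ker (i.app U).hom ≤ (hU.primeIdealOf ⟨i z, hz⟩).asIdeal := by
    intro a ha
    by_contra hna
    have h1 : hU.primeIdealOf ⟨i z, hz⟩ ∈ hU.fromSpec ⁻¹ᵁ X.basicOpen a := by
      rw [hU.fromSpec_preimage_basicOpen]
      exact hna
    have h2 : i z ∈ X.basicOpen a := by
      have : hU.fromSpec (hU.primeIdealOf ⟨i z, hz⟩) ∈ X.basicOpen a := h1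
      rwa [hU.fromSpec_primeIdealOf] at this
    have h3 : z ∈ i ⁻¹ᵁ X.basicOpen a := h2
    rw [Scheme.preimage_basicOpen] at h3
    have h4 : (i.app U).hom a = 0 := ha
    rw [h4, Scheme.basicOpen_zero] at h3
    exact h3
  obtain ⟨g₀, hg₀, l, hl, hIl⟩ := ki_away k hk h (hU.primeIdealOf ⟨i z, hz⟩).asIdeal hI
  have hD : IsAffineOpen (X.basicOpen g₀) := hU.basicOpen g₀
  have hDU : X.basicOpen g₀ ≤ U := X.basicOpen_le g₀
  have hzD : i z ∈ X.basicOpen g₀ := by
    have h1 : hU.primeIdealOf ⟨i z, hz⟩ ∈ hU.fromSpec ⁻¹ᵁ X.basicOpen g₀ := by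
      rw [hU.fromSpec_preimage_basicOpen]
      exact hg₀
    have : hU.fromSpec (hU.primeIdealOf ⟨i z, hz⟩) ∈ X.basicOpen g₀ := h1
    rwa [hU.fromSpec_primeIdealOf] at this
  obtain ⟨hcl₂, hker₂⟩ := restrict_baseChange (IsPullback.id_horiz i) hU hD
    (show X.basicOpen g₀ ≤ (𝟙 X) ⁻¹ᵁ U from hDU)
  haveI := hU.isLocalization_basicOpen g₀
  let e : Localization.Away g₀ ≃ₐ[Γ(X, U)] Γ(X, X.basicOpen g₀) :=
    IsLocalization.algEquiv (Submonoid.powers g₀) _ _
  refine ⟨⟨X.basicOpen g₀, hD⟩, hzD, hcl₂,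
    l.map (e.toRingEquiv : Localization.Away g₀ →+* Γ(X, X.basicOpen g₀)),
    seq_map_of_flat k hk _ (flat_ringEquiv e.toRingEquiv) l hl, ?_⟩
  change RingHom.ker (i.app (X.basicOpen g₀)).hom = _
  have h1 : algebraMap Γ(X, U) Γ(X, X.basicOpen g₀) =
      (e.toRingEquiv : Localization.Away g₀ →+* Γ(X, X.basicOpen g₀)).comp
        (algebraMap Γ(X, U) (Localization.Away g₀)) := by
    ext a
    exact (e.commutes a).symm
  have h2 : ((𝟙 X : X ⟶ X).appLE U (X.basicOpen g₀) hDU).hom =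
      algebraMap Γ(X, U) Γ(X, X.basicOpen g₀) := by
    congr 1
  rw [hker₂, h2, h1, ← Ideal.map_map, hIl, Ideal.map_ofList]

/-- **fpqc descent of `H_1`-regular and quasi-regular immersions** (pointwise form). -/
theorem isRegularImmersionAt_of_fpqc (k : RegImm.Kind) (hk : k = .h1 ∨ k = .quasi)
    {X Y X' Y' : Scheme.{u}} (i : Y ⟶ X) [IsImmersion i]
    (g : X' ⟶ X) [Flat g] [Surjective g] [QuasiCompact g]
    (i' : Y' ⟶ X') (g' : Y' ⟶ Y) (hsq : IsPullback g' i' i g)
    (hi' : ∀ z' : Y', RegImm.IsRegularImmersionAt k i' z') (z : Y) :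
    RegImm.IsRegularImmersionAt k i z := by
  obtain ⟨U, hU, hzU, hcl⟩ := Groth.Agent.Helper13KzSch.exists_affine_isClosedImmersion i z
  haveI := hcl
  obtain ⟨T, q, hT, hq, e, hff⟩ := Groth.Agent.Helper13KzSch.exists_affine_faithfullyFlat g hU
  haveI := hT
  haveI := hq
  have H : IsPullback (pullback.fst i' q ≫ g') (pullback.snd i' q) i (q ≫ g) :=
    (IsPullback.of_hasPullback i' q).paste_horiz hsq
  have hreg : ∀ w : ↥(pullback i' q), RegImm.IsRegularImmersionAt k (pullback.snd i' q) w :=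
    fun w => isRegularImmersionAt_flat_baseChange k (IsPullback.of_hasPullback i' q) w (hi' _)
  obtain ⟨hclT, hkerT⟩ := restrict_baseChange H hU (isAffineOpen_top T) e
  haveI := hclT
  have hKR := ki_ker_of_isRegularImmersionAt k hk (pullback.snd i' q)
    (isAffineOpen_top T) (fun w _ => hreg w)
  rw [hkerT] at hKR
  algebraize [((q ≫ g).appLE U ⊤ e).hom]
  haveI : Module.FaithfullyFlat Γ(X, U) Γ(T, ⊤) := by
    rw [← RingHom.faithfullyFlat_algebraMap_iff]
    exact hff
  have hKR' : KI k (RingHom.ker (i.app U).hom) :=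
    ki_of_faithfullyFlat k hk Γ(X, U) Γ(T, ⊤) _ hKR
  exact isRegularImmersionAt_of_ki_ker k hk i hU hKR' z hzU

end Sch

end Groth.Agent.Helper13H1
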