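import Groth.Agent.Lib.Helper13KzConcat
import Groth.Agent.S2104
import Groth.Agent.S2105

/-!
# Composition of `H_1`-regular / quasi-regular immersions (helper13)

* `exists_ker_comp`: kernel of a composite of surjections, outer kernel generated by an
  `H_1`-regular (resp. quasi-regular) sequence, inner kernel by an `H_1`-regular sequence.
* `comp_at`, `comp`: composition of immersions: inner `H_1`-regular, outer `H_1`-regular (resp.
  quasi-regular) ⇒ composite `H_1`-regular (resp. quasi-regular).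
-/

set_option autoImplicit false
set_option linter.style.haveILetI false
universe u

namespace Groth.Agent.Helper13H1Comp
open CategoryTheory AlgebraicGeometry TopologicalSpace
open Groth.Agent.Lib.Helper5.KindFlat Groth.Agent.Lib.Helper5.ImmBC
  Groth.Agent.Lib.Helper5.QuasiRegFlat Groth.Agent.Helper13KzConcat

lemma get_append {R : Type u} (l₁ l₂ : List R) :
    ∃ h : (l₁ ++ l₂).length = l₁.length + l₂.length,
      (l₁ ++ l₂).get = (Fin.append l₁.get l₂.get) ∘ Fin.cast h := by
  refine ⟨List.length_append, ?_⟩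
  funext j
  obtain ⟨j, hj⟩ := j
  simp only [Function.comp_apply, List.get_eq_getElem]
  by_cases h : j < l₁.length
  · rw [List.getElem_append_left h]
    have : Fin.cast List.length_append (⟨j, hj⟩ : Fin (l₁ ++ l₂).length) =
        Fin.castAdd l₂.length ⟨j, h⟩ := rfl
    rw [this, Fin.append_left]
    rfl
  · have h' : l₁.length ≤ j := not_lt.mp h
    rw [List.getElem_append_right h']
    have hj2 : j - l₁.length < l₂.length := by
      rw [List.length_append] at hj; omega
    have : Fin.cast List.length_append (⟨j, hj⟩ : Fin (l₁ ++ l₂).length) =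
        Fin.natAdd l₁.length ⟨j - l₁.length, hj2⟩ := by
      ext; simp; omega
    rw [this, Fin.append_right]
    rfl

/-- kernel of a composite of surjections: outer kernel of kind `k ∈ {h1, quasi}`, inner kernel
`H_1`-regular -/
theorem exists_ker_comp (k : RegImm.Kind) (hk : k = .h1 ∨ k = .quasi)
    {R S T : Type u} [CommRing R] [CommRing S] [CommRing T]
    (π : R →+* S) (hπ : Function.Surjective π) (ρ : S →+* T)
    (is : List R) (his : k.Seq R is) (hI : RingHom.ker π = Ideal.ofList is)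
    (js : List S) (hjs : RegImm.Kind.h1.Seq S js) (hJ : RingHom.ker ρ = Ideal.ofList js) :
    ∃ ks : List R, k.Seq R ks ∧ RingHom.ker (ρ.comp π) = Ideal.ofList ks := by
  obtain ⟨bs, rfl⟩ := List.map_surjective_iff.mpr hπ js
  have hK : RingHom.ker (ρ.comp π) = Ideal.ofList (is ++ bs) := by
    rw [← RingHom.comap_ker, hJ, ← Ideal.map_ofList, Ideal.comap_map_of_surjective π hπ,
      ← RingHom.ker_eq_comap_bot, hI, Ideal.ofList_append, sup_comm]
  refine ⟨is ++ bs, ?_, hK⟩
  -- transport along the isomorphism `S ≃ R/(is)`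
  have hI' : Ideal.span (Set.range is.get) = RingHom.ker π := by
    rw [hI, ofList_eq_span_range_get]
  let ψ : (R ⧸ Ideal.span (Set.range is.get)) ≃+* S :=
    (Ideal.quotEquivOfEq hI').trans (RingHom.quotientKerEquivOfSurjective hπ)
  have hψ : ∀ b : R, ψ.symm (π b) = Ideal.Quotient.mk (Ideal.span (Set.range is.get)) b := by
    intro b
    rw [RingEquiv.symm_apply_eq]
    rfl
  have hflat : (ψ.symm : S →+* R ⧸ Ideal.span (Set.range is.get)).Flat :=
    RingHom.Flat.of_bijective ψ.symm.bijective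
  have h1 : RegImm.Kind.h1.Seq _ ((bs.map π).map (ψ.symm : S →+* R ⧸ Ideal.span (Set.range is.get))) :=
    seq_map_of_flat .h1 (Or.inl rfl) (ψ.symm : S →+* R ⧸ Ideal.span (Set.range is.get)) hflat
      (bs.map π) hjs
  rw [List.map_map] at h1
  have h2 : ((ψ.symm : S →+* R ⧸ Ideal.span (Set.range is.get)) ∘ π) =
      Ideal.Quotient.mk (Ideal.span (Set.range is.get)) := by
    funext b
    exact hψ b
  rw [h2] at h1
  obtain ⟨hl, hget⟩ := get_map (Ideal.Quotient.mk (Ideal.span (Set.range is.get))) bs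
  have h3 : CAlgX.IsH1Regular
      (fun j => Ideal.Quotient.mk (Ideal.span (Set.range is.get)) (bs.get j)) := by
    have h1' : CAlgX.IsH1Regular
        (bs.map (Ideal.Quotient.mk (Ideal.span (Set.range is.get)))).get := h1
    rw [hget] at h1'
    exact (cast_iff hl (fun n g => CAlgX.IsH1Regular g) _).mp h1'
  obtain ⟨hl2, hget2⟩ := get_append is bs
  rcases hk with rfl | rfl
  · show CAlgX.IsH1Regular (is ++ bs).get
    rw [hget2]
    exact (cast_iff hl2 (fun n g => CAlgX.IsH1Regular g) _).mpr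
      (Groth.Agent.S2105.result is.get bs.get his h3)
  · show CAlgX.IsQuasiRegular (is ++ bs).get
    rw [hget2]
    exact (cast_iff hl2 (fun n g => CAlgX.IsQuasiRegular g) _).mpr
      (Groth.Agent.S2104.result is.get bs.get his h3)

set_option maxHeartbeats 1600000 in
/-- composition of an `H_1`-regular immersion `j` with an immersion `i` of kind `k ∈ {h1, quasi}`,
at a point -/
theorem comp_at (k : RegImm.Kind) (hk : k = .h1 ∨ k = .quasi)
    {X Y Z : Scheme.{u}} (i : Y ⟶ X) [IsImmersion i] (j : Z ⟶ Y) (z : Z)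
    (hi : RegImm.IsRegularImmersionAt k i (j z))
    (hj : RegImm.IsRegularImmersionAt .h1 j z) :
    RegImm.IsRegularImmersionAt k (j ≫ i) z := by
  obtain ⟨⟨U, hU⟩, hyU, hclU, as, has, hkerU⟩ := hi
  obtain ⟨⟨V, hV⟩, hzV, hclV, bs, hbs, hkerV⟩ := hj
  simp only at hyU hclU hkerU has hzV hclV hkerV hbs
  haveI := hclU
  haveI := hclV
  obtain ⟨t, ht, htV⟩ := (Scheme.Hom.isEmbedding i).isInducing.isOpen_iff.mp V.2
  have hmem : i (j z) ∈ t ∩ (U : Set X) := by
    refine ⟨?_, hyU⟩
    have : j z ∈ i ⁻¹' t := by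
      rw [htV]
      exact hzV
    exact this
  obtain ⟨_, ⟨U' : X.Opens, hU', rfl⟩, hxU', hU'le⟩ :=
    X.isBasis_affineOpens.exists_subset_of_mem_open hmem (ht.inter U.2)
  have hU'U : U' ≤ U := fun x hx => (hU'le hx).2
  have hWV : i ⁻¹ᵁ U' ≤ V := by
    intro y hy
    have h1 : y ∈ i ⁻¹' t := (hU'le hy).1
    rw [htV] at h1
    exact h1
  obtain ⟨hcl₁, hker₁⟩ := restrict_baseChange (IsPullback.id_horiz i) hU hU'
    (show U' ≤ (𝟙 X) ⁻¹ᵁ U from hU'U)
  haveI := hcl₁
  have hfl₁ : ((𝟙 X : X ⟶ X).appLE U U' hU'U).hom.Flat := Scheme.Hom.flat_appLE (𝟙 X) hU hU' _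
  have hk₁ : RingHom.ker (i.app U').hom =
      Ideal.ofList (as.map ((𝟙 X : X ⟶ X).appLE U U' hU'U).hom) := by
    rw [hker₁, hkerU, Ideal.map_ofList]
  have hreg₁ := seq_map_of_flat k hk _ hfl₁ as has
  have hW : IsAffineOpen (i ⁻¹ᵁ U') := isAffineOpen_preimage_of_isClosedImmersion_restrict i hU'
  obtain ⟨hcl₂, hker₂⟩ := restrict_baseChange (IsPullback.id_horiz j) hV hW
    (show i ⁻¹ᵁ U' ≤ (𝟙 Y) ⁻¹ᵁ V from hWV)
  haveI := hcl₂
  have hfl₂ : ((𝟙 Y : Y ⟶ Y).appLE V (i ⁻¹ᵁ U') hWV).hom.Flat :=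
    Scheme.Hom.flat_appLE (𝟙 Y) hV hW _
  have hk₂ : RingHom.ker (j.app (i ⁻¹ᵁ U')).hom =
      Ideal.ofList (bs.map ((𝟙 Y : Y ⟶ Y).appLE V (i ⁻¹ᵁ U') hWV).hom) := by
    rw [hker₂, hkerV, Ideal.map_ofList]
  have hreg₂ := seq_map_of_flat .h1 (Or.inl rfl) _ hfl₂ bs hbs
  obtain ⟨ks, hks, hK⟩ := exists_ker_comp k hk (i.app U').hom
    (app_surjective_of_isClosedImmersion_restrict i hU') (j.app (i ⁻¹ᵁ U')).hom
    _ hreg₁ hk₁ _ hreg₂ hk₂
  refine ⟨⟨U', hU'⟩, hxU', ?_, ks, hks, ?_⟩
  · change IsClosedImmersion ((j ≫ i) ∣_ U')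
    rw [morphismRestrict_comp]
    exact @IsClosedImmersion.comp _ _ _ _ _ hcl₂ hcl₁
  · change RingHom.ker ((j ≫ i).app U').hom = _
    rw [Scheme.Hom.comp_app]
    exact hK

/-- composition of immersions: inner `H_1`-regular, outer of kind `k ∈ {h1, quasi}` -/
theorem comp (k : RegImm.Kind) (hk : k = .h1 ∨ k = .quasi)
    {X Y Z : Scheme.{u}} (i : Y ⟶ X) (j : Z ⟶ Y)
    (hi : RegImm.IsRegularImmersion k i) (hj : RegImm.IsRegularImmersion .h1 j) :
    RegImm.IsRegularImmersion k (j ≫ i) := by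
  haveI := hi.1
  haveI := hj.1
  exact ⟨inferInstance, fun z => comp_at k hk i j z (hi.2 _) (hj.2 z)⟩

end Groth.Agent.Helper13H1Comp
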