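import Groth.Prelude.Def_GrSyz
import Mathlib.Tactic

/-!
Helper lemmas on the standard grading of a polynomial ring indexed by the integers and
its irrelevant ideal (prelude `GrSyz`).
-/

set_option autoImplicit false
universe u v

namespace Groth.Agent.Lib.Helper23

open MvPolynomial

variable {k : Type u} [CommRing k] {σ : Type v}

/-- The weight (all variables of weight one) of a nonzero exponent vector is positive. -/
theorem one_le_weight_of_ne_zero {d : σ →₀ ℕ} (hd : d ≠ 0) :
    (1 : ℤ) ≤ Finsupp.weight (fun _ : σ => (1 : ℤ)) d := by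
  obtain ⟨s, hs⟩ : ∃ s, d s ≠ 0 := by
    by_contra h
    push Not at h
    exact hd (Finsupp.ext h)
  exact Finsupp.le_weight_of_ne_zero (w := fun _ : σ => (1 : ℤ)) (fun _ => zero_le_one) hs

/-- An element of the irrelevant ideal of the standard grading has zero constant coefficient. -/
theorem constantCoeff_eq_zero_of_mem_irrel {p : MvPolynomial σ k}
    (hp : p ∈ (GrSyz.irrel (GrSyz.stdGr k σ)).toIdeal) : constantCoeff p = 0 := by
  have hle : (GrSyz.irrel (GrSyz.stdGr k σ)).toIdeal ≤ RingHom.ker (constantCoeff (R := k) (σ := σ)) := by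
    change Ideal.span _ ≤ _
    rw [Ideal.span_le]
    rintro r ⟨n, hn, hr⟩
    rw [SetLike.mem_coe, RingHom.mem_ker]
    by_contra hne
    have hw : Finsupp.weight (fun _ : σ => (1 : ℤ)) (0 : σ →₀ ℕ) = n :=
      ((GrSyz.mem_stdGr_iff k σ n r).mp hr) (d := 0) hne
    rw [map_zero] at hw
    omega
  exact (RingHom.mem_ker).mp (hle hp)

/-- A homogeneous element of degree `≤ 0` with zero constant coefficient is zero. -/
theorem eq_zero_of_mem_stdGr_of_nonpos {n : ℤ} (hn : n ≤ 0) {p : MvPolynomial σ k}
    (hp : p ∈ GrSyz.stdGr k σ n) (h0 : constantCoeff p = 0) : p = 0 := by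
  ext d
  rw [coeff_zero]
  by_contra hne
  have hw : Finsupp.weight (fun _ : σ => (1 : ℤ)) d = n :=
    ((GrSyz.mem_stdGr_iff k σ n p).mp hp) hne
  by_cases hd : d = 0
  · subst hd
    exact hne h0
  · have := one_le_weight_of_ne_zero (σ := σ) hd
    omega

/-- A homogeneous element of degree `≤ 0` of the irrelevant ideal is zero. -/
theorem eq_zero_of_mem_stdGr_of_nonpos_of_mem_irrel {n : ℤ} (hn : n ≤ 0) {p : MvPolynomial σ k}
    (hp : p ∈ GrSyz.stdGr k σ n) (hp' : p ∈ (GrSyz.irrel (GrSyz.stdGr k σ)).toIdeal) : p = 0 :=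
  eq_zero_of_mem_stdGr_of_nonpos hn hp (constantCoeff_eq_zero_of_mem_irrel hp')

/-- `1` is not in the irrelevant ideal (over a nontrivial coefficient ring). -/
theorem one_notMem_irrel [Nontrivial k] :
    (1 : MvPolynomial σ k) ∉ (GrSyz.irrel (GrSyz.stdGr k σ)).toIdeal := by
  intro h
  have := constantCoeff_eq_zero_of_mem_irrel h
  rw [map_one] at this
  exact one_ne_zero this

/-- If all entries of a matrix lie in an ideal then so do all coordinates of `A *ᵥ v`. -/
theorem mulVec_mem_of_entries_mem {R : Type u} [CommRing R] {m n : Type*} [Fintype n]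
    (I : Ideal R) (A : Matrix m n R) (hA : ∀ a b, A a b ∈ I) (v : n → R) (a : m) :
    (A.mulVec v) a ∈ I := by
  rw [Matrix.mulVec, dotProduct]
  exact Ideal.sum_mem _ fun b _ => Ideal.mul_mem_right _ _ (hA a b)

/-- Over a field, a homogeneous polynomial outside the irrelevant ideal is a unit
(a nonzero constant). -/
theorem isUnit_of_mem_stdGr_of_notMem_irrel {K : Type u} [Field K] {n : ℤ}
    {p : MvPolynomial σ K} (hp : p ∈ GrSyz.stdGr K σ n)
    (hnot : p ∉ (GrSyz.irrel (GrSyz.stdGr K σ)).toIdeal) : IsUnit p := by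
  have hn : n ≤ 0 := by
    by_contra hn
    push Not at hn
    exact hnot (Ideal.subset_span ⟨n, hn, hp⟩)
  have hpC : p = C (constantCoeff p) := by
    classical
    ext d
    rw [coeff_C]
    by_cases hd : d = 0
    · subst hd
      simp [constantCoeff_eq]
    · rw [if_neg (Ne.symm hd)]
      by_contra hne
      have hw : Finsupp.weight (fun _ : σ => (1 : ℤ)) d = n :=
        ((GrSyz.mem_stdGr_iff K σ n p).mp hp) hne
      have := one_le_weight_of_ne_zero (σ := σ) hd
      omega
  have hc : constantCoeff p ≠ 0 := by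
    intro h0
    apply hnot
    rw [hpC, h0, map_zero]
    exact Ideal.zero_mem _
  rw [hpC]
  exact (isUnit_iff_ne_zero.mpr hc).map C

section Irredundant

variable {S : Type*} [CommRing S] {N : Type*} [AddCommGroup N] [Module S N]
  {ι : Type*} [Fintype ι] [DecidableEq ι]

/-- If `g b` is in the span of the other `g b'`, there is a relation with coefficient `1` at `b`. -/
theorem exists_relation_of_mem_span (g : ι → N) (b : ι)
    (h : g b ∈ Submodule.span S (g '' {b' | b' ≠ b})) :
    ∃ v : ι → S, v b = 1 ∧ ∑ b', v b' • g b' = 0 := by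
  obtain ⟨l, hl, hlg⟩ := (Finsupp.mem_span_image_iff_linearCombination S).mp h
  have hlb : l b = 0 := by
    by_contra hne
    have : b ∈ (l.support : Set ι) := by simpa using hne
    exact (hl this) rfl
  refine ⟨fun b' => (Pi.single b 1 : ι → S) b' - l b', by simp [hlb], ?_⟩
  have h1 : ∑ b', l b' • g b' = g b := by
    rw [← hlg, Finsupp.linearCombination_apply, Finsupp.sum_fintype]
    intro i
    exact zero_smul _ _
  simp only [sub_smul, Finset.sum_sub_distrib, h1]
  rw [Finset.sum_eq_single b]
  · simp
  · intro b' _ hb'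
    simp [Pi.single_eq_of_ne hb']
  · intro hb
    exact absurd (Finset.mem_univ b) hb

/-- If there is a relation whose coefficient at `b` is a unit, `g b` is in the span of the others. -/
theorem mem_span_of_relation (g : ι → N) (b : ι) (v : ι → S) (hu : IsUnit (v b))
    (hsum : ∑ b', v b' • g b' = 0) :
    g b ∈ Submodule.span S (g '' {b' | b' ≠ b}) := by
  obtain ⟨u, hu⟩ := hu
  have h1 : v b • g b = - ∑ b' ∈ Finset.univ.erase b, v b' • g b' := by
    rw [← Finset.add_sum_erase Finset.univ (fun b' => v b' • g b') (Finset.mem_univ b)] at hsum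
    exact eq_neg_of_add_eq_zero_left hsum
  have h2 : v b • g b ∈ Submodule.span S (g '' {b' | b' ≠ b}) := by
    rw [h1]
    apply Submodule.neg_mem
    apply Submodule.sum_mem
    intro b' hb'
    apply Submodule.smul_mem
    apply Submodule.subset_span
    exact ⟨b', (Finset.mem_erase.mp hb').1, rfl⟩
  have h3 : g b = (↑u⁻¹ : S) • (v b • g b) := by
    rw [smul_smul, ← hu, Units.inv_mul, one_smul]
  rw [h3]
  exact Submodule.smul_mem _ _ h2

omit [DecidableEq ι] in
/-- `A *ᵥ v` as a combination of the columns of `A`. -/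
theorem mulVec_eq_sum_col {m : Type*} (A : Matrix m ι S) (v : ι → S) :
    A.mulVec v = ∑ b, v b • (fun a => A a b) := by
  funext a
  simp only [Matrix.mulVec, dotProduct, Finset.sum_apply, Pi.smul_apply, smul_eq_mul]
  exact Finset.sum_congr rfl fun b _ => mul_comm _ _

end Irredundant

end Groth.Agent.Lib.Helper23
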