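import Mathlib
import Groth.Prelude.Def_GrSyz
import Groth.Agent.Lib.Helper13Hilb
import Groth.Agent.Lib.Helper13FreeRes
import Groth.Agent.Lib.Helper23GrSyz

/-!
# Towards Hilbert–Burch: degree inequalities for a length-2 minimal resolution
-/

set_option autoImplicit false
universe u
open MvPolynomial

namespace Groth.Agent.Helper13HB

section matrix

variable {A : Type*} [CommRing A] [IsDomain A] {m n : Type*} [Fintype m] [Fintype n]
  [DecidableEq m] [DecidableEq n]

/-- If an injective matrix has a set `C` of columns supported on a set `R'` of rows of the same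
cardinality, then a nonzero multiple of every basis vector `e_l`, `l ∈ R'`, is in the range. -/
theorem exists_smul_single_mem_range (D : Matrix m n A) (hinj : Function.Injective D.mulVec)
    (C : Finset n) (R' : Finset m) (hcard : C.card = R'.card)
    (hzero : ∀ j ∈ C, ∀ l, l ∉ R' → D l j = 0) :
    ∃ δ : A, δ ≠ 0 ∧ ∀ l ∈ R', ∃ v : n → A, D.mulVec v = δ • (Pi.single l 1 : m → A) := by
  classical
  let e : C ≃ R' := Finset.equivOfCardEq hcard
  let Q : Matrix R' R' A := fun l l' => D l (e.symm l')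
  -- extension by zero
  let ext : (R' → A) → (n → A) := fun w j => if h : j ∈ C then w (e ⟨j, h⟩) else 0
  have hext : ∀ (w : R' → A) (l : m), D.mulVec (ext w) l =
      if h : l ∈ R' then Q.mulVec w ⟨l, h⟩ else 0 := by
    intro w l
    have h1 : D.mulVec (ext w) l = ∑ j : C, D l j * w (e j) := by
      rw [Matrix.mulVec, dotProduct]
      rw [← Finset.sum_subset (Finset.subset_univ C)
        (fun j _ hj => by simp only [ext, dif_neg hj, mul_zero])]
      rw [← Finset.sum_coe_sort C]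
      refine Finset.sum_congr rfl (fun j _ => ?_)
      simp only [ext, dif_pos j.2]
    rw [h1]
    split_ifs with hl
    · rw [Matrix.mulVec, dotProduct]
      exact Fintype.sum_equiv e _ _ (fun j => by simp [Q])
    · exact Finset.sum_eq_zero (fun j _ => by rw [hzero j j.2 l hl, zero_mul])
  have hQinj : ∀ w : R' → A, Q.mulVec w = 0 → w = 0 := by
    intro w hw
    have h0 : D.mulVec (ext w) = 0 := by
      funext l
      rw [hext]
      split_ifs with hl
      · rw [hw]; rfl
      · rfl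
    have h1 : ext w = 0 := hinj (h0.trans (Matrix.mulVec_zero D).symm)
    funext l'
    have := congrFun h1 (e.symm l')
    simpa [ext] using this
  have hdet : Q.det ≠ 0 := by
    intro h
    obtain ⟨v, hv, hv0⟩ := Matrix.exists_mulVec_eq_zero_iff.2 h
    exact hv (hQinj v hv0)
  refine ⟨Q.det, hdet, fun l hl => ?_⟩
  refine ⟨ext (Q.adjugate.mulVec (Pi.single ⟨l, hl⟩ 1)), ?_⟩
  funext l'
  rw [hext]
  split_ifs with hl'
  · rw [Matrix.mulVec_mulVec, Matrix.mul_adjugate, Matrix.smul_mulVec, Matrix.one_mulVec]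
    simp only [Pi.smul_apply, smul_eq_mul, Pi.single_apply]
    congr 1
    simp [Subtype.ext_iff]
  · have hne : l' ≠ l := fun h => hl' (h ▸ hl)
    simp [Pi.single_apply, hne]

end matrix

section resolution

variable {k : Type u} [Field k] {σ : Type}
  {M : Type u} [AddCommGroup M] [Module k M] [Module (MvPolynomial σ k) M]
  [IsScalarTower k (MvPolynomial σ k) M]
  {ℳ : ℤ → Submodule k M} [DirectSum.Decomposition ℳ] [SetLike.GradedSMul (GrSyz.stdGr k σ) ℳ]
  (F : GrSyz.FreeRes (GrSyz.stdGr k σ) ℳ)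

theorem mulVec_injective_of_rk_zero (i : ℕ) (h : F.rk (i + 2) = 0) :
    Function.Injective (F.d i).mulVec := by
  have hker : LinearMap.ker (Matrix.mulVecLin (F.d i)) = ⊥ := by
    rw [F.exact_succ i, eq_bot_iff]
    rintro _ ⟨v, rfl⟩
    have : IsEmpty (Fin (F.rk (i + 1 + 1))) := by
      rw [show i + 1 + 1 = i + 2 from rfl, h]; infer_instance
    have hv : v = 0 := Subsingleton.elim _ _
    rw [hv, map_zero]
    exact Submodule.zero_mem _
  exact LinearMap.ker_eq_bot.1 hker

include F in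
theorem no_zero_block (hF : F.IsMinimal (GrSyz.irrel (GrSyz.stdGr k σ)).toIdeal)
    (h3 : F.rk 3 = 0) (i : ℕ) (l₀ : Fin (F.rk 1)) (hl₀ : i < l₀.val)
    (hcard : (Finset.univ.filter (fun j : Fin (F.rk 2) => i ≤ j.val)).card =
      (Finset.univ.filter (fun l : Fin (F.rk 1) => i < l.val)).card)
    (hz : ∀ (j : Fin (F.rk 2)) (l : Fin (F.rk 1)), i ≤ j.val → l.val ≤ i → F.d 1 l j = 0) :
    False := by
  classical
  have hinj := mulVec_injective_of_rk_zero F 1 h3
  obtain ⟨δ, hδ, hrange⟩ := exists_smul_single_mem_range (F.d 1) hinj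
    (Finset.univ.filter (fun j : Fin (F.rk 2) => i ≤ j.val))
    (Finset.univ.filter (fun l : Fin (F.rk 1) => i < l.val)) hcard
    (fun j hj l hl => by
      rw [Finset.mem_filter] at hj
      have : l.val ≤ i := by
        by_contra hcon
        exact hl (Finset.mem_filter.2 ⟨Finset.mem_univ _, by omega⟩)
      exact hz j l hj.2 this)
  obtain ⟨v, hv⟩ := hrange l₀ (Finset.mem_filter.2 ⟨Finset.mem_univ _, hl₀⟩)
  have h0 : (F.d 0).mulVec ((F.d 1).mulVec v) = 0 :=
    Groth.Agent.Helper13FreeRes.dLin_comp F 0 v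
  rw [hv, Matrix.mulVec_smul] at h0
  have h1 : (F.d 0).mulVec (Pi.single l₀ 1) = 0 := by
    funext a
    have := congrFun h0 a
    simp only [Pi.smul_apply, smul_eq_mul, Pi.zero_apply, mul_eq_zero] at this
    rcases this with h | h
    · exact absurd h hδ
    · exact h
  have h2 : (Pi.single l₀ 1 : Fin (F.rk 1) → MvPolynomial σ k) ∈
      LinearMap.ker (Matrix.mulVecLin (F.d 0)) := h1
  rw [F.exact_succ 0] at h2
  obtain ⟨w, hw⟩ := h2
  have h4 := Groth.Agent.Lib.Helper23.mulVec_mem_of_entries_mem _ (F.d 1) (hF 1) w l₀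
  have hw' : (F.d (0 + 1)).mulVec w = Pi.single l₀ 1 := hw
  rw [show (F.d 1) = F.d (0 + 1) from rfl, hw', Pi.single_eq_same] at h4
  exact Groth.Agent.Lib.Helper23.one_notMem_irrel h4

include F in
theorem one_le_deg_sub (hF : F.IsMinimal (GrSyz.irrel (GrSyz.stdGr k σ)).toIdeal)
    (h3 : F.rk 3 = 0) (t : ℕ) (h1 : F.rk 1 = t + 1) (h2 : F.rk 2 = t)
    (ha : ∀ l l' : Fin (F.rk 1), l.val ≤ l'.val → F.deg 1 l' ≤ F.deg 1 l)
    (hb : ∀ j j' : Fin (F.rk 2), j.val ≤ j'.val → F.deg 2 j' ≤ F.deg 2 j)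
    (j₀ : Fin (F.rk 2)) (l₁ : Fin (F.rk 1)) (hl₁ : j₀.val ≤ l₁.val) :
    1 ≤ F.deg 2 j₀ - F.deg 1 l₁ := by
  classical
  by_contra hcon
  have hle : F.deg 2 j₀ ≤ F.deg 1 l₁ := by omega
  have hj₀ : j₀.val < t := h2 ▸ j₀.2
  refine no_zero_block F hF h3 j₀.val ⟨t, by omega⟩ hj₀ ?_ ?_
  · refine Finset.card_bij (fun j _ => (⟨j.val + 1, by have := j.2; omega⟩ : Fin (F.rk 1))) ?_ ?_ ?_
    · intro j hj
      rw [Finset.mem_filter] at hj ⊢
      exact ⟨Finset.mem_univ _, by simp only; omega⟩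
    · intro j _ j' _ h
      have := congrArg Fin.val h
      simp only at this
      exact Fin.ext (by omega)
    · intro l hl
      rw [Finset.mem_filter] at hl
      refine ⟨⟨l.val - 1, by have := l.2; omega⟩, Finset.mem_filter.2 ⟨Finset.mem_univ _, by
        simp only; omega⟩, Fin.ext (by simp only; omega)⟩
  · intro j l hj hl
    have h1' : F.deg 2 j ≤ F.deg 2 j₀ := hb j₀ j hj
    have h2' : F.deg 1 l₁ ≤ F.deg 1 l := ha l l₁ (by omega)
    exact Groth.Agent.Lib.Helper23.eq_zero_of_mem_stdGr_of_nonpos_of_mem_irrel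
      (n := F.deg (1 + 1) j - F.deg 1 l) (by show F.deg 2 j - F.deg 1 l ≤ 0; omega)
      (F.d_mem 1 l j) (hF 1 l j)

end resolution

section points

open Groth.Agent.Helper13Hilb

variable {k : Type u} [Field k] {σ : Type} [Fintype σ] [DecidableEq σ]
  {M : Type u} [AddCommGroup M] [Module k M] [Module (MvPolynomial σ k) M]
  [IsScalarTower k (MvPolynomial σ k) M]
  {ℳ : ℤ → Submodule k M} [DirectSum.Decomposition ℳ] [SetLike.GradedSMul (GrSyz.stdGr k σ) ℳ]
  (π : MvPolynomial σ k →ₗ[MvPolynomial σ k] M)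
  (hπg : ∀ (g : ℤ) (p : MvPolynomial σ k), p ∈ GrSyz.stdGr k σ g → π p ∈ ℳ g)

theorem stdGr_natCast (e : ℕ) :
    GrSyz.stdGr k σ (e : ℤ) = MvPolynomial.homogeneousSubmodule σ k e := by
  rw [stdGr_eq_restrictSupport, MvPolynomial.homogeneousSubmodule_eq_finsupp_supported]
  unfold MvPolynomial.restrictSupport
  congr 1
  ext d
  simp

theorem stdGr_neg (d : ℤ) (hd : d < 0) : GrSyz.stdGr k σ d = ⊥ := by
  rw [eq_bot_iff]
  intro p hp
  rw [Submodule.mem_bot]
  refine Groth.Agent.Lib.Helper23.eq_zero_of_mem_stdGr_of_nonpos hd.le hp ?_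
  rw [MvPolynomial.constantCoeff_eq]
  rw [GrSyz.mem_stdGr_iff] at hp
  apply hp.coeff_eq_zero
  rw [map_zero]
  omega

include hπg in
theorem decompose_π (p : MvPolynomial σ k) (d : ℤ) :
    (DirectSum.decompose ℳ (π p) d : M) = π (DirectSum.decompose (GrSyz.stdGr k σ) p d) := by
  induction p using DirectSum.Decomposition.inductionOn (GrSyz.stdGr k σ) with
  | zero => simp
  | @homogeneous e p =>
    have hmem : π (p : MvPolynomial σ k) ∈ ℳ e := hπg e p p.2
    by_cases h : e = d
    · subst h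
      rw [DirectSum.decompose_of_mem_same ℳ hmem, DirectSum.decompose_coe, DirectSum.of_eq_same]
    · rw [DirectSum.decompose_of_mem_ne ℳ hmem h, DirectSum.decompose_coe,
        DirectSum.of_eq_of_ne _ _ _ (Ne.symm h)]
      simp
  | add p q hp hq =>
    rw [map_add, DirectSum.decompose_add, DirectSum.add_apply, Submodule.coe_add, hp, hq,
      DirectSum.decompose_add, DirectSum.add_apply, Submodule.coe_add, map_add]

include hπg in
theorem exists_of_mem_piece (hπ : Function.Surjective π) (d : ℤ) (x : M) (hx : x ∈ ℳ d) :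
    ∃ p ∈ GrSyz.stdGr k σ d, π p = x := by
  obtain ⟨p, rfl⟩ := hπ x
  refine ⟨(DirectSum.decompose (GrSyz.stdGr k σ) p d : MvPolynomial σ k), SetLike.coe_mem _, ?_⟩
  rw [← decompose_π π hπg, DirectSum.decompose_of_mem_same ℳ hx]

include hπg in
theorem piece_neg (hπ : Function.Surjective π) (d : ℤ) (hd : d < 0) : ℳ d = ⊥ := by
  rw [eq_bot_iff]
  intro x hx
  obtain ⟨p, hp, rfl⟩ := exists_of_mem_piece π hπg hπ d x hx
  rw [stdGr_neg d hd, Submodule.mem_bot] at hp
  rw [hp, map_zero]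
  exact Submodule.zero_mem _

variable (Z : Finset (σ → k)) (I : Ideal (MvPolynomial σ k))
  (hI : ∀ f : MvPolynomial σ k, f ∈ I ↔
      ∀ p ∈ Z, ∀ j : ℕ, MvPolynomial.eval p (MvPolynomial.homogeneousComponent j f) = 0)

include hI in
theorem one_notMem (hZne : Z.Nonempty) : (1 : MvPolynomial σ k) ∉ I := by
  intro h
  obtain ⟨p, hp⟩ := hZne
  have := (hI 1).1 h p hp 0
  simp at this

include hI in
theorem mem_I_iff_of_homogeneous (e : ℕ) (f : MvPolynomial σ k)
    (hf : f ∈ GrSyz.stdGr k σ (e : ℤ)) : f ∈ I ↔ ∀ p ∈ Z, MvPolynomial.eval p f = 0 := by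
  rw [stdGr_natCast] at hf
  rw [hI]
  constructor
  · intro h p hp
    have := h p hp e
    rwa [MvPolynomial.homogeneousComponent_of_mem hf, if_pos rfl] at this
  · intro h p hp j
    rw [MvPolynomial.homogeneousComponent_of_mem hf]
    split_ifs
    · exact h p hp
    · simp

include hπg hI in
/-- the Hilbert function of a finite set of points is bounded by the number of points. -/
theorem finrank_piece_le (hπ : Function.Surjective π) (hker : LinearMap.ker π = I) (d : ℤ) :
    Module.finrank k (ℳ d) ≤ Z.card := by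
  by_cases hd : d < 0
  · rw [piece_neg π hπg hπ d hd]
    simp
  obtain ⟨e, rfl⟩ := Int.eq_ofNat_of_zero_le (not_lt.1 hd)
  -- the two maps out of `S_e`
  let πd : GrSyz.stdGr k σ (e : ℤ) →ₗ[k] ℳ (e : ℤ) :=
    (π.restrictScalars k).restrict (fun p hp => hπg e p hp)
  let ev : GrSyz.stdGr k σ (e : ℤ) →ₗ[k] (Z → k) :=
    LinearMap.pi (fun p : Z => (MvPolynomial.aeval (p : σ → k)).toLinearMap ∘ₗ
      (GrSyz.stdGr k σ (e : ℤ)).subtype)
  have hsurj : Function.Surjective πd := by
    rintro ⟨x, hx⟩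
    obtain ⟨p, hp, hpx⟩ := exists_of_mem_piece π hπg hπ e x hx
    exact ⟨⟨p, hp⟩, Subtype.ext hpx⟩
  have hkereq : LinearMap.ker πd = LinearMap.ker ev := by
    ext ⟨f, hf⟩
    rw [LinearMap.mem_ker, LinearMap.mem_ker]
    have h1 : πd ⟨f, hf⟩ = 0 ↔ f ∈ I := by
      rw [← hker, LinearMap.mem_ker]
      constructor
      · intro h; exact congrArg Subtype.val h
      · intro h; exact Subtype.ext h
    have h2 : ev ⟨f, hf⟩ = 0 ↔ ∀ p ∈ Z, MvPolynomial.eval p f = 0 := by
      constructor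
      · intro h p hp
        have := congrFun h ⟨p, hp⟩
        simpa [ev, MvPolynomial.aeval_def, MvPolynomial.eval₂_eq_eval_map] using this
      · intro h
        funext p
        have := h p.1 p.2
        simpa [ev, MvPolynomial.aeval_def, MvPolynomial.eval₂_eq_eval_map] using this
    rw [h1, h2]
    exact mem_I_iff_of_homogeneous Z I hI e f hf
  have e1 := LinearMap.finrank_range_add_finrank_ker πd
  have e2 := LinearMap.finrank_range_add_finrank_ker ev
  rw [LinearMap.range_eq_top.2 hsurj, finrank_top] at e1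
  rw [hkereq] at e1
  have e3 : Module.finrank k (LinearMap.range ev) ≤ Module.finrank k (Z → k) :=
    Submodule.finrank_le _
  rw [Module.finrank_fintype_fun_eq_card, Fintype.card_coe] at e3
  omega

end points

section arith

theorem two_mul_choose_nat (n : ℕ) : 2 * (2 + n).choose 2 = (n + 2) * (n + 1) := by
  induction n with
  | zero => decide
  | succ n ih =>
    have h1 : (2 + (n + 1)).choose 2 = (2 + n).choose 1 + (2 + n).choose 2 := by
      rw [show 2 + (n + 1) = (2 + n) + 1 from rfl, Nat.choose_succ_succ]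
    rw [h1, Nat.choose_one_right, mul_add, ih]
    ring

theorem two_mul_choose (a d : ℤ) (h : a ≤ d) :
    2 * ((Nat.choose (2 + (d - a).toNat) 2 : ℕ) : ℤ) = (d - a + 2) * (d - a + 1) := by
  obtain ⟨n, hn⟩ : ∃ n : ℕ, d - a = n := ⟨(d - a).toNat, by omega⟩
  rw [hn, Int.toNat_natCast]
  have := two_mul_choose_nat n
  exact_mod_cast this

theorem sum_expand {n : ℕ} (a : Fin n → ℤ) (d : ℤ) (h : ∀ b, a b ≤ d) :
    2 * ∑ b, (if a b ≤ d then ((Nat.choose (2 + (d - a b).toNat) 2 : ℕ) : ℤ) else 0) =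
      n * d ^ 2 + d * ∑ b, (3 - 2 * a b) + ∑ b, (a b ^ 2 - 3 * a b + 2) := by
  rw [Finset.mul_sum]
  have h1 : ∀ b, 2 * (if a b ≤ d then ((Nat.choose (2 + (d - a b).toNat) 2 : ℕ) : ℤ) else 0) =
      d ^ 2 + d * (3 - 2 * a b) + (a b ^ 2 - 3 * a b + 2) := by
    intro b
    rw [if_pos (h b), two_mul_choose _ _ (h b)]
    ring
  simp_rw [h1]
  rw [Finset.sum_add_distrib, Finset.sum_add_distrib, Finset.sum_const, Finset.mul_sum]
  simp

theorem quad_bounded (c₂ c₁ c₀ B D : ℤ)
    (h : ∀ d, D ≤ d → 0 ≤ c₂ * d ^ 2 + c₁ * d + c₀ ∧ c₂ * d ^ 2 + c₁ * d + c₀ ≤ B) :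
    c₂ = 0 ∧ c₁ = 0 := by
  have hB : 0 ≤ B := le_trans (h D le_rfl).1 (h D le_rfl).2
  obtain ⟨N, hN⟩ : ∃ N : ℤ, N = B + 1 := ⟨_, rfl⟩
  have hNpos : 1 ≤ N := by omega
  have h1 := h D le_rfl
  have h2 := h (D + N) (by omega)
  have h3 := h (D + 2 * N) (by omega)
  have key : (c₂ * (D + 2 * N) ^ 2 + c₁ * (D + 2 * N) + c₀) -
      2 * (c₂ * (D + N) ^ 2 + c₁ * (D + N) + c₀) + (c₂ * D ^ 2 + c₁ * D + c₀) =
      2 * c₂ * N ^ 2 := by ring
  have hN2 : N ≤ N ^ 2 := by nlinarith
  have hc₂ : c₂ = 0 := by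
    by_contra hne
    rcases lt_or_gt_of_ne hne with hlt | hgt
    · have : c₂ * N ^ 2 ≤ -N ^ 2 := by nlinarith
      nlinarith
    · have : N ^ 2 ≤ c₂ * N ^ 2 := by nlinarith
      nlinarith
  subst hc₂
  refine ⟨rfl, ?_⟩
  simp only [zero_mul, zero_add] at h1 h2
  by_contra hne
  rcases lt_or_gt_of_ne hne with hlt | hgt
  · have : c₁ * N ≤ -N := by nlinarith
    nlinarith
  · have : N ≤ c₁ * N := by nlinarith
    nlinarith

end arith

section degzero

open Groth.Agent.Helper13Hilb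

variable {k : Type u} [Field k] {σ : Type} [Fintype σ] [DecidableEq σ]
  {M : Type u} [AddCommGroup M] [Module k M] [Module (MvPolynomial σ k) M]
  [IsScalarTower k (MvPolynomial σ k) M]
  {ℳ : ℤ → Submodule k M} [DirectSum.Decomposition ℳ] [SetLike.GradedSMul (GrSyz.stdGr k σ) ℳ]
  (π : MvPolynomial σ k →ₗ[MvPolynomial σ k] M)
  (hπg : ∀ (g : ℤ) (p : MvPolynomial σ k), p ∈ GrSyz.stdGr k σ g → π p ∈ ℳ g)
  (F : GrSyz.FreeRes (GrSyz.stdGr k σ) ℳ)

include hπg in
/-- if `M = S/I` is cyclic, generated in degree `0`, and `F_0` has rank one, then its generator has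
degree `0`. -/
theorem deg_zero_eq_zero (hπ : Function.Surjective π) (h1 : π 1 ≠ 0) (hrk : F.rk 0 = 1)
    (b : Fin (F.rk 0)) : F.deg 0 b = 0 := by
  have hsub : Subsingleton (Fin (F.rk 0)) := by rw [hrk]; infer_instance
  by_contra hne
  rcases lt_or_gt_of_ne hne with hlt | hgt
  · -- negative degree: the generator vanishes
    have haug : F.aug b = 0 := by
      have := F.aug_mem b
      rw [piece_neg π hπg hπ _ hlt, Submodule.mem_bot] at this
      exact this
    obtain ⟨v, hv⟩ := F.aug_surjective (π 1)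
    apply h1
    rw [← hv, Fintype.linearCombination_apply]
    refine Finset.sum_eq_zero (fun b' _ => ?_)
    rw [Subsingleton.elim b' b, haug, smul_zero]
  · -- positive degree: nothing in degree `0`
    obtain ⟨v, hv⟩ := F.aug_surjective (π 1)
    have hmem : π 1 ∈ ℳ 0 := hπg 0 1 (SetLike.GradedOne.one_mem)
    have h2 := augLin_proj F 0 v
    have hv' : F.augLin v = π 1 := hv
    rw [hv', DirectSum.decompose_of_mem_same ℳ hmem] at h2
    have h3 : proj (GrSyz.stdGr k σ) (F.deg 0) 0 v = 0 := by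
      funext b'
      rw [proj_apply]
      have hb' : (0 : ℤ) - F.deg 0 b' < 0 := by
        rw [Subsingleton.elim b' b]; omega
      have hmem' := SetLike.coe_mem
        (DirectSum.decompose (GrSyz.stdGr k σ) (v b') (0 - F.deg 0 b'))
      have hbot : ∀ x ∈ GrSyz.stdGr k σ (0 - F.deg 0 b'), x = 0 := by
        intro x hx
        rw [stdGr_neg _ hb', Submodule.mem_bot] at hx
        exact hx
      exact hbot _ hmem'
    apply h1
    rw [← h2, h3, map_zero]

end degzero

end Groth.Agent.Helper13HB
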