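import Mathlib
import Groth.Prelude.Def_CAlgX
import Groth.Prelude.Def_CAlg

/-!
# The Hilbert–Burch complex `0 → R^t → R^{t+1} → R` of a `(t+1) × t` matrix
-/

set_option autoImplicit false
universe u

namespace Groth.Agent.Helper13HBurch

variable {R : Type u} [CommRing R] {t : ℕ} (Ψ : Matrix (Fin (t + 1)) (Fin t) R)

/-- the maximal minor of `Ψ` with row `i` deleted. -/
noncomputable def mnr (i : Fin (t + 1)) : R := (Ψ.submatrix i.succAbove id).det

/-- the augmented square matrix `[v | Ψ]`. -/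
def aug (v : Fin (t + 1) → R) : Matrix (Fin (t + 1)) (Fin (t + 1)) R :=
  Matrix.of (fun i => (Fin.cons (v i) (Ψ i) : Fin (t + 1) → R))

theorem aug_zero (v : Fin (t + 1) → R) (i : Fin (t + 1)) : aug Ψ v i 0 = v i := by
  simp [aug]

theorem aug_succ (v : Fin (t + 1) → R) (i : Fin (t + 1)) (j : Fin t) :
    aug Ψ v i j.succ = Ψ i j := by
  simp [aug]

theorem aug_submatrix (v : Fin (t + 1) → R) (i : Fin (t + 1)) :
    (aug Ψ v).submatrix i.succAbove Fin.succ = Ψ.submatrix i.succAbove id := by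
  ext a b
  simp [aug]

theorem det_aug (v : Fin (t + 1) → R) :
    (aug Ψ v).det = ∑ i : Fin (t + 1), (-1) ^ (i : ℕ) * v i * mnr Ψ i := by
  rw [Matrix.det_succ_column_zero]
  refine Finset.sum_congr rfl (fun i _ => ?_)
  rw [aug_submatrix, aug_zero]
  rfl

theorem det_aug_col (j : Fin t) : (aug Ψ (fun i => Ψ i j)).det = 0 :=
  Matrix.det_zero_of_column_eq (i := 0) (j := j.succ) (Fin.succ_ne_zero j).symm
    (fun k => by rw [aug_zero, aug_succ])

/-- Cramer's rule for the augmented matrix. -/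
theorem cramer (v : Fin (t + 1) → R) (l : Fin (t + 1)) :
    ∃ w : Fin t → R, ((-1) ^ (l : ℕ) * mnr Ψ l) • v + Ψ.mulVec w =
      (aug Ψ v).det • (Pi.single l 1 : Fin (t + 1) → R) := by
  classical
  have h := Matrix.mul_adjugate (aug Ψ v)
  refine ⟨fun j => Matrix.adjugate (aug Ψ v) j.succ l, ?_⟩
  funext l'
  have h2 := congrFun (congrFun h l') l
  rw [Matrix.mul_apply, Fin.sum_univ_succ] at h2
  have h3 : Matrix.adjugate (aug Ψ v) 0 l = (-1) ^ (l : ℕ) * mnr Ψ l := by
    rw [Matrix.adjugate_fin_succ_eq_det_submatrix, Fin.succAbove_zero, aug_submatrix]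
    simp [mnr]
  rw [h3, aug_zero] at h2
  simp only [aug_succ] at h2
  rw [Pi.add_apply, Pi.smul_apply, Pi.smul_apply, smul_eq_mul, smul_eq_mul, Matrix.mulVec,
    dotProduct]
  rw [mul_comm (v l')] at h2
  rw [h2]
  simp [Matrix.one_apply, Pi.single_apply]

/-- a vector killed by `Ψ` is killed by the maximal minors. -/
theorem mnr_smul_eq_zero (u : Fin t → R) (hu : Ψ.mulVec u = 0) (l : Fin (t + 1)) :
    mnr Ψ l • u = 0 := by
  classical
  have h1 : (Ψ.submatrix l.succAbove id).mulVec u = 0 := by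
    funext a
    have := congrFun hu (l.succAbove a)
    simpa [Matrix.mulVec, dotProduct] using this
  have h2 : ((Ψ.submatrix l.succAbove id).adjugate * (Ψ.submatrix l.succAbove id)).mulVec u =
      ((Ψ.submatrix l.succAbove id).det • (1 : Matrix (Fin t) (Fin t) R)).mulVec u := by
    rw [Matrix.adjugate_mul]
  rw [← Matrix.mulVec_mulVec, h1, Matrix.mulVec_zero, Matrix.smul_mulVec, Matrix.one_mulVec] at h2
  exact h2.symm

/-- every `t × t` minor is a multiple of a maximal minor `mnr Ψ i`. -/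
theorem exists_minor_eq (f : Fin t → Fin (t + 1)) (e : Fin t → Fin t) :
    ∃ (i : Fin (t + 1)) (c : R), (Ψ.submatrix f e).det = c * mnr Ψ i := by
  classical
  by_cases he : Function.Injective e
  swap
  · refine ⟨0, 0, ?_⟩
    rw [zero_mul]
    rw [Function.Injective] at he
    push Not at he
    obtain ⟨b, b', hbb, hne⟩ := he
    exact Matrix.det_zero_of_column_eq hne (fun k => by simp [Matrix.submatrix_apply, hbb])
  by_cases hf : Function.Injective f
  swap
  · refine ⟨0, 0, ?_⟩
    rw [zero_mul]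
    rw [Function.Injective] at hf
    push Not at hf
    obtain ⟨b, b', hbb, hne⟩ := hf
    exact Matrix.det_zero_of_row_eq hne (by funext k; simp [Matrix.submatrix_apply, hbb])
  -- `e` is a permutation
  have heb : Function.Bijective e := Finite.injective_iff_bijective.1 he
  let σ : Equiv.Perm (Fin t) := Equiv.ofBijective e heb
  -- `f` misses some `i`
  obtain ⟨i, hi⟩ : ∃ i, i ∉ Set.range f := by
    by_contra hcon
    push Not at hcon
    have hsurj : Function.Surjective f := fun y => hcon y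
    have := Fintype.card_le_of_surjective f hsurj
    simp at this
  have hfi : ∀ a, ∃ z, i.succAbove z = f a := fun a =>
    Fin.exists_succAbove_eq (fun h => hi ⟨a, h⟩)
  choose τ hτ using hfi
  have hτinj : Function.Injective τ := by
    intro a a' haa
    apply hf
    rw [← hτ a, ← hτ a', haa]
  let τ' : Equiv.Perm (Fin t) := Equiv.ofBijective τ (Finite.injective_iff_bijective.1 hτinj)
  refine ⟨i, (Equiv.Perm.sign σ : ℤ) * (Equiv.Perm.sign τ' : ℤ), ?_⟩
  have h1 : Ψ.submatrix f e = ((Ψ.submatrix i.succAbove id).submatrix τ' id).submatrix id σ := by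
    ext a b
    simp only [Matrix.submatrix_apply, id_eq]
    rw [show (τ' a) = τ a from rfl, hτ a]
    rfl
  rw [h1, Matrix.det_permute', Matrix.det_permute, mnr]
  ring

section main

variable (a : R)

/-- the map `R^{t+1} → R` of the Hilbert–Burch complex. -/
noncomputable abbrev δ : (Fin (t + 1) → R) →ₗ[R] R :=
  Fintype.linearCombination R
    (fun i : Fin (t + 1) => a * ((-1 : R) ^ (i : ℕ) * (Ψ.submatrix i.succAbove id).det))

theorem δ_apply (v : Fin (t + 1) → R) : δ Ψ a v = a * (aug Ψ v).det := by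
  show Fintype.linearCombination R
    (fun i : Fin (t + 1) => a * ((-1 : R) ^ (i : ℕ) * (Ψ.submatrix i.succAbove id).det)) v = _
  rw [Fintype.linearCombination_apply, det_aug, Finset.mul_sum]
  refine Finset.sum_congr rfl (fun i _ => ?_)
  rw [smul_eq_mul, mnr]
  ring

theorem range_le_ker : LinearMap.range Ψ.mulVecLin ≤ LinearMap.ker (δ Ψ a) := by
  classical
  rintro _ ⟨w, rfl⟩
  rw [LinearMap.mem_ker]
  have h1 : w = ∑ j, w j • (Pi.single j 1 : Fin t → R) := by
    ext c
    simp [Finset.sum_apply, Pi.single_apply]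
  rw [h1, map_sum, map_sum]
  refine Finset.sum_eq_zero (fun j _ => ?_)
  rw [map_smul, map_smul, Matrix.mulVecLin_apply, Matrix.mulVec_single_one, δ_apply]
  have : (Ψ.col j) = fun i => Ψ i j := rfl
  rw [this, det_aug_col, mul_zero, smul_zero]

/-- the elements `g` of `R` such that `g • ker δ ⊆ range Ψ` and `g • ker Ψ = 0`. -/
def good (ha : a ∈ nonZeroDivisors R) : Ideal R where
  carrier := {g | (∀ v, δ Ψ a v = 0 → g • v ∈ LinearMap.range Ψ.mulVecLin) ∧
    ∀ u, Ψ.mulVec u = 0 → g • u = 0}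
  add_mem' := by
    rintro g g' ⟨h1, h2⟩ ⟨h1', h2'⟩
    refine ⟨fun v hv => ?_, fun u hu => ?_⟩
    · rw [add_smul]
      exact Submodule.add_mem _ (h1 v hv) (h1' v hv)
    · rw [add_smul, h2 u hu, h2' u hu, add_zero]
  zero_mem' := by
    refine ⟨fun v _ => ?_, fun u _ => zero_smul _ _⟩
    rw [zero_smul]
    exact Submodule.zero_mem _
  smul_mem' := by
    rintro c g ⟨h1, h2⟩
    refine ⟨fun v hv => ?_, fun u hu => ?_⟩
    · rw [smul_eq_mul, mul_smul]
      exact Submodule.smul_mem _ _ (h1 v hv)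
    · rw [smul_eq_mul, mul_smul, h2 u hu, smul_zero]

theorem mnr_mem_good (ha : a ∈ nonZeroDivisors R) (l : Fin (t + 1)) : mnr Ψ l ∈ good Ψ a ha := by
  refine ⟨fun v hv => ?_, fun u hu => mnr_smul_eq_zero Ψ u hu l⟩
  rw [δ_apply] at hv
  have hdet : (aug Ψ v).det = 0 := (mul_right_mem_nonZeroDivisors_eq_zero_iff ha).1 (by rwa [mul_comm] at hv)
  obtain ⟨w, hw⟩ := cramer Ψ v l
  rw [hdet, zero_smul] at hw
  have h1 : mnr Ψ l • v = Ψ.mulVec (((-1 : R) ^ ((l : ℕ) + 1)) • w) := by
    have h2 : ((-1) ^ (l : ℕ) * mnr Ψ l) • v = - Ψ.mulVec w := eq_neg_of_add_eq_zero_left hw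
    have h3 : mnr Ψ l • v = ((-1 : R) ^ (l : ℕ)) • (((-1) ^ (l : ℕ) * mnr Ψ l) • v) := by
      rw [smul_smul, ← mul_assoc, ← pow_add, ← two_mul, pow_mul]
      simp
    rw [h3, h2, Matrix.mulVec_smul, pow_succ, mul_smul]
    simp
  rw [h1]
  exact ⟨_, rfl⟩

theorem minorIdeal_le_good (ha : a ∈ nonZeroDivisors R) : CAlgX.minorIdeal Ψ t ≤ good Ψ a ha := by
  unfold CAlgX.minorIdeal
  rw [Ideal.span_le]
  rintro _ ⟨⟨f, e⟩, rfl⟩
  obtain ⟨i, c, h⟩ := exists_minor_eq Ψ f e
  simp only
  rw [h]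
  exact Ideal.mul_mem_left _ _ (mnr_mem_good Ψ a ha i)

theorem range_δ (ha : a ∈ nonZeroDivisors R) :
    LinearMap.range (δ Ψ a) = Ideal.span {a} * CAlgX.minorIdeal Ψ t := by
  apply le_antisymm
  · rw [Fintype.range_linearCombination, Submodule.span_le]
    rintro _ ⟨i, rfl⟩
    refine Ideal.mul_mem_mul (Ideal.mem_span_singleton_self a) (Ideal.mul_mem_left _ _ ?_)
    exact Ideal.subset_span ⟨(i.succAbove, id), rfl⟩
  · rw [Ideal.span_singleton_mul_le_iff]
    intro z hz
    have hle : CAlgX.minorIdeal Ψ t ≤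
        Submodule.comap (LinearMap.mulLeft R a) (LinearMap.range (δ Ψ a)) := by
      unfold CAlgX.minorIdeal
      rw [Ideal.span_le]
      rintro _ ⟨⟨f, e⟩, rfl⟩
      obtain ⟨i, c, h⟩ := exists_minor_eq Ψ f e
      simp only [SetLike.mem_coe, Submodule.mem_comap, LinearMap.mulLeft_apply]
      rw [h]
      refine ⟨(c * (-1) ^ (i : ℕ)) • (Pi.single i 1 : Fin (t + 1) → R), ?_⟩
      rw [map_smul, Fintype.linearCombination_apply_single, one_smul, smul_eq_mul, mnr]
      have : ((-1 : R) ^ (i : ℕ)) * ((-1 : R) ^ (i : ℕ)) = 1 := by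
        rw [← pow_add, ← two_mul, pow_mul]
        simp
      linear_combination (a * c * (Ψ.submatrix i.succAbove id).det) * this
    exact hle hz


theorem exact_of_good_one (ha : a ∈ nonZeroDivisors R) (h1 : (1 : R) ∈ good Ψ a ha) :
    LinearMap.ker Ψ.mulVecLin = ⊥ ∧ LinearMap.ker (δ Ψ a) = LinearMap.range Ψ.mulVecLin := by
  obtain ⟨g1, g2⟩ := h1
  constructor
  · rw [LinearMap.ker_eq_bot']
    intro u hu
    have := g2 u hu
    rwa [one_smul] at this
  · apply le_antisymm
    · intro v hv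
      have := g1 v hv
      rwa [one_smul] at this
    · exact range_le_ker Ψ a

theorem exact_of_regular (ha : a ∈ nonZeroDivisors R) (x y : R) (hx : x ∈ good Ψ a ha)
    (hy : y ∈ good Ψ a ha) (hxreg : IsSMulRegular R x)
    (hyreg : IsSMulRegular (QuotSMulTop x R) y) :
    LinearMap.ker Ψ.mulVecLin = ⊥ ∧ LinearMap.ker (δ Ψ a) = LinearMap.range Ψ.mulVecLin := by
  have hinj : ∀ u : Fin t → R, Ψ.mulVec u = 0 → u = 0 := by
    intro u hu
    have h1 := hx.2 u hu
    funext j
    have h2 := congrFun h1 j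
    exact hxreg (by simpa using h2)
  refine ⟨?_, le_antisymm ?_ (range_le_ker Ψ a)⟩
  · rw [LinearMap.ker_eq_bot']
    exact hinj
  · intro v hv
    obtain ⟨wx, hwx⟩ := hx.1 v hv
    obtain ⟨wy, hwy⟩ := hy.1 v hv
    rw [Matrix.mulVecLin_apply] at hwx hwy
    have h1 : Ψ.mulVec (y • wx - x • wy) = 0 := by
      rw [Matrix.mulVec_sub, Matrix.mulVec_smul, Matrix.mulVec_smul, hwx, hwy, smul_comm, sub_self]
    have h2 := hinj _ h1
    have h3 : ∀ j, ∃ uj : R, x • uj = wx j := by
      intro j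
      have h4 : y * wx j = x * wy j := by
        have := congrFun h2 j
        simpa [sub_eq_zero] using this
      have h5 : y • (Submodule.Quotient.mk (wx j) : QuotSMulTop x R) = 0 := by
        rw [← Submodule.Quotient.mk_smul, Submodule.Quotient.mk_eq_zero, smul_eq_mul, h4]
        exact (Submodule.mem_smul_pointwise_iff_exists _ _ _).2 ⟨wy j, Submodule.mem_top, rfl⟩
      have h6 : (Submodule.Quotient.mk (wx j) : QuotSMulTop x R) = 0 :=
        hyreg (by
          show y • (Submodule.Quotient.mk (wx j) : QuotSMulTop x R) = y • (0 : QuotSMulTop x R)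
          rw [h5, smul_zero])
      rw [Submodule.Quotient.mk_eq_zero] at h6
      obtain ⟨s, -, hs⟩ := (Submodule.mem_smul_pointwise_iff_exists _ _ _).1 h6
      exact ⟨s, hs⟩
    choose u hu using h3
    have h7 : wx = x • u := by
      funext j
      rw [Pi.smul_apply, hu j]
    refine ⟨u, ?_⟩
    rw [Matrix.mulVecLin_apply]
    rw [h7, Matrix.mulVec_smul] at hwx
    funext l
    have h8 := congrFun hwx l
    exact hxreg (by simpa using h8)

theorem exact_of_depth (ha : a ∈ nonZeroDivisors R)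
    (hdepth : 2 ≤ LocCoh.idealDepth (CAlgX.minorIdeal Ψ t) R) :
    LinearMap.ker Ψ.mulVecLin = ⊥ ∧ LinearMap.ker (δ Ψ a) = LinearMap.range Ψ.mulVecLin := by
  classical
  unfold LocCoh.idealDepth at hdepth
  split_ifs at hdepth with htop
  · apply exact_of_good_one Ψ a ha
    apply minorIdeal_le_good Ψ a ha
    have h1 : CAlgX.minorIdeal Ψ t = ⊤ := by
      rw [← htop]
      simp
    rw [h1]
    trivial
  · obtain ⟨rs, hreg, hmem, hlen⟩ : ∃ rs : List R, RingTheory.Sequence.IsWeaklyRegular R rs ∧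
        (∀ r ∈ rs, r ∈ CAlgX.minorIdeal Ψ t) ∧ 2 ≤ rs.length := by
      by_contra hcon
      push Not at hcon
      have h1 : (⨆ (rs : List R) (_ : RingTheory.Sequence.IsWeaklyRegular R rs ∧
          ∀ r ∈ rs, r ∈ CAlgX.minorIdeal Ψ t), (rs.length : ℕ∞)) ≤ 1 := by
        refine iSup₂_le (fun rs h => ?_)
        have := hcon rs h.1 h.2
        exact_mod_cast (by omega : rs.length ≤ 1)
      have h2 := hdepth.trans h1
      norm_num at h2
    match rs, hreg, hmem, hlen with
    | x :: y :: rest, hreg, hmem, _ =>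
      rw [RingTheory.Sequence.isWeaklyRegular_cons_iff] at hreg
      obtain ⟨hxreg, hreg'⟩ := hreg
      rw [RingTheory.Sequence.isWeaklyRegular_cons_iff] at hreg'
      exact exact_of_regular Ψ a ha x y
        (minorIdeal_le_good Ψ a ha (hmem x (by simp)))
        (minorIdeal_le_good Ψ a ha (hmem y (by simp))) hxreg hreg'.1

end main

end Groth.Agent.Helper13HBurch
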