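import Groth.Prelude.Def_CAlgX
import Mathlib.LinearAlgebra.Matrix.ToLin
import Mathlib.LinearAlgebra.Matrix.Adjugate
import Mathlib.RingTheory.Ideal.Maps
import Mathlib.Tactic

/-!
# helper13: McCoy's theorem for `CAlgX.minorIdeal`
-/

set_option autoImplicit false
universe u

namespace Groth.Agent.Helper13McCoy

open Matrix

variable {R : Type u} [CommRing R] {m n : ℕ}

/-- Descending step in McCoy's argument. -/
theorem step (M : Matrix (Fin n) (Fin m) R) (hinj : Function.Injective (Matrix.mulVecLin M))
    (a : R) (t : ℕ) (ht : t < m)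
    (h : ∀ (f' : Fin (t + 1) → Fin n) (g' : Fin (t + 1) → Fin m),
      a * det (M.submatrix f' g') = 0) :
    ∀ (f : Fin t → Fin n) (g : Fin t → Fin m), a * det (M.submatrix f g) = 0 := by
  classical
  intro f g
  have hns : ¬ Function.Surjective g := by
    intro hs
    have := Fintype.card_le_of_surjective g hs
    simp at this
    omega
  simp only [Function.Surjective, not_forall, not_exists] at hns
  obtain ⟨c, hc⟩ := hns
  set g' : Fin (t + 1) → Fin m := Fin.cons c g with hg'
  set C : Fin (t + 1) → R := fun j => (-1) ^ (j : ℕ) * det (M.submatrix f (g' ∘ j.succAbove))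
    with hC
  set v : Fin m → R := ∑ j, Pi.single (g' j) (a * C j) with hv
  have hvk : ∀ k, v k = ∑ j, if k = g' j then a * C j else 0 := by
    intro k
    rw [hv, Finset.sum_apply]
    refine Finset.sum_congr rfl (fun j _ => ?_)
    rw [Pi.single_apply]
  have hMv : M *ᵥ v = 0 := by
    funext i
    have h1 : (M *ᵥ v) i = ∑ j, M i (g' j) * (a * C j) := by
      simp only [Matrix.mulVec, dotProduct]
      simp_rw [hvk, Finset.mul_sum]
      rw [Finset.sum_comm]
      refine Finset.sum_congr rfl (fun j _ => ?_)
      simp
    have h2 := det_succ_row_zero (M.submatrix (Fin.cons i f : Fin (t + 1) → Fin n) g')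
    have h3 : ∑ j, M i (g' j) * (a * C j) =
        a * det (M.submatrix (Fin.cons i f : Fin (t + 1) → Fin n) g') := by
      rw [h2, Finset.mul_sum]
      refine Finset.sum_congr rfl (fun j _ => ?_)
      have e1 : (M.submatrix (Fin.cons i f : Fin (t + 1) → Fin n) g').submatrix Fin.succ
          j.succAbove = M.submatrix f (g' ∘ j.succAbove) := by
        ext x y
        simp [Matrix.submatrix_apply]
      rw [e1, hC]
      simp only [Matrix.submatrix_apply, Fin.cons_zero]
      ring
    rw [h1, h3, h]
    rfl
  have hv0 : v = 0 := by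
    apply hinj
    rw [Matrix.mulVecLin_apply, hMv, map_zero]
  have hvc : v c = a * det (M.submatrix f g) := by
    rw [hvk, Finset.sum_eq_single (0 : Fin (t + 1))]
    · have e2 : g' ∘ (0 : Fin (t + 1)).succAbove = g := by
        funext x
        simp [hg']
      simp [hC, hg']
    · intro j _ hj
      obtain ⟨j', rfl⟩ := Fin.exists_succ_eq.mpr hj
      have : c ≠ g' j'.succ := by
        simp only [hg', Fin.cons_succ]
        exact fun h => hc j' h.symm
      simp [this]
    · intro h0; exact absurd (Finset.mem_univ _) h0
  rw [← hvc, hv0]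
  rfl

/-- McCoy: an injective matrix has faithful ideal of maximal minors. -/
theorem eq_zero_of_forall_mul_det (M : Matrix (Fin n) (Fin m) R)
    (hinj : Function.Injective (Matrix.mulVecLin M)) (a : R)
    (h : ∀ (f : Fin m → Fin n) (g : Fin m → Fin m), a * det (M.submatrix f g) = 0) : a = 0 := by
  have h0 : ∀ (f : Fin 0 → Fin n) (g : Fin 0 → Fin m), a * det (M.submatrix f g) = 0 :=
    Nat.decreasingInduction' (P := fun t => ∀ (f : Fin t → Fin n) (g : Fin t → Fin m),
      a * det (M.submatrix f g) = 0) (fun k hk _ ih => step M hinj a k hk ih) (Nat.zero_le m) h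
  have := h0 Fin.elim0 Fin.elim0
  simpa using this

theorem annihilator_minorIdeal_eq_bot (M : Matrix (Fin n) (Fin m) R)
    (hinj : Function.Injective (Matrix.mulVecLin M)) :
    (CAlgX.minorIdeal M m).annihilator = ⊥ := by
  rw [eq_bot_iff]
  intro a ha
  rw [Submodule.mem_bot]
  apply eq_zero_of_forall_mul_det M hinj a
  intro f g
  have := (Submodule.mem_annihilator.mp ha) (det (M.submatrix f g))
    (Ideal.subset_span ⟨(f, g), rfl⟩)
  simpa using this

theorem minorIdeal_eq_bot_of_lt (M : Matrix (Fin n) (Fin m) R) (r : ℕ) (hr : m < r) :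
    CAlgX.minorIdeal M r = ⊥ := by
  rw [eq_bot_iff]
  unfold CAlgX.minorIdeal
  rw [Ideal.span_le]
  rintro _ ⟨⟨f, g⟩, rfl⟩
  obtain ⟨i, j, hij, hg⟩ := Fintype.exists_ne_map_eq_of_card_lt g (by simp; omega)
  have : det (M.submatrix f g) = 0 :=
    det_zero_of_column_eq hij (fun k => by simp [Matrix.submatrix_apply, hg])
  simp [this]

theorem matrixRank_eq (M : Matrix (Fin n) (Fin m) R) (hm : CAlgX.minorIdeal M m ≠ ⊥) :
    CAlgX.matrixRank M = m := by
  unfold CAlgX.matrixRank
  apply IsGreatest.csSup_eq
  refine ⟨hm, ?_⟩
  intro r hr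
  by_contra hlt
  rw [not_le] at hlt
  exact hr (minorIdeal_eq_bot_of_lt M r hlt)

/-- Converse direction: faithful ideal of maximal minors implies injectivity. -/
theorem injective_of_annihilator (M : Matrix (Fin n) (Fin m) R)
    (hann : (CAlgX.minorIdeal M m).annihilator = ⊥) :
    Function.Injective (Matrix.mulVecLin M) := by
  classical
  rw [injective_iff_map_eq_zero]
  intro v hv
  rw [Matrix.mulVecLin_apply] at hv
  funext k
  have hk : v k ∈ (CAlgX.minorIdeal M m).annihilator := by
    unfold CAlgX.minorIdeal
    rw [Submodule.mem_annihilator_span]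
    rintro ⟨_, ⟨f, g⟩, rfl⟩
    show v k • det (M.submatrix f g) = 0
    rw [smul_eq_mul]
    by_cases hg : Function.Injective g
    · have hbij : Function.Bijective g := (Finite.injective_iff_bijective).mp hg
      let e : Fin m ≃ Fin m := Equiv.ofBijective g hbij
      set N := M.submatrix f g with hN
      have hNw : N *ᵥ (v ∘ g) = 0 := by
        funext i
        simp only [Matrix.mulVec, dotProduct, hN, Matrix.submatrix_apply, Function.comp_apply]
        have := Equiv.sum_comp e (fun k => M (f i) k * v k)
        simp only [e, Equiv.ofBijective_apply] at this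
        rw [this]
        have h2 := congrFun hv (f i)
        simpa [Matrix.mulVec, dotProduct] using h2
      have h3 : (adjugate N * N) *ᵥ (v ∘ g) = 0 := by
        rw [← Matrix.mulVec_mulVec, hNw, Matrix.mulVec_zero]
      rw [Matrix.adjugate_mul, Matrix.smul_mulVec, Matrix.one_mulVec] at h3
      have h4 := congrFun h3 (e.symm k)
      simp only [Pi.smul_apply, Function.comp_apply, smul_eq_mul, Pi.zero_apply] at h4
      have h5 : g (e.symm k) = k := e.apply_symm_apply k
      rw [h5] at h4
      rw [mul_comm]; exact h4
    · have : det (M.submatrix f g) = 0 := by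
        simp only [Function.Injective, not_forall] at hg
        obtain ⟨i, j, hij, hne⟩ := hg
        exact det_zero_of_column_eq hne (fun k => by simp [Matrix.submatrix_apply, hij])
      rw [this, mul_zero]
  rw [hann, Submodule.mem_bot] at hk
  exact hk

end Groth.Agent.Helper13McCoy
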