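import Mathlib
import Groth.Prelude.Def_CAlgX
import Groth.Prelude.Def_CAlg
import Groth.Agent.Lib.Helper13McCoy
import Groth.Agent.Lib.Helper13HBurch

/-!
# Hilbert–Burch, the direct direction: regular sequences in the ideal of maximal minors
-/

set_option autoImplicit false
universe u
open scoped Pointwise

namespace Groth.Agent.Helper13HB2

open Matrix

variable {R : Type u} [CommRing R] {m n : ℕ}

/-- An injective matrix over a Noetherian ring has a regular element among the combinations of its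
maximal minors. -/
theorem exists_regular_mem_minorIdeal [IsNoetherianRing R] (Ψ : Matrix (Fin n) (Fin m) R)
    (hinj : Function.Injective Ψ.mulVecLin) :
    ∃ x ∈ CAlgX.minorIdeal Ψ m, IsSMulRegular R x := by
  classical
  by_contra hcon
  push Not at hcon
  have hsub : ((CAlgX.minorIdeal Ψ m : Ideal R) : Set R) ⊆
      ⋃ p ∈ associatedPrimes R R, (p : Set R) := by
    rw [biUnion_associatedPrimes_eq_compl_regular]
    intro z hz
    exact hcon z hz
  obtain ⟨P, hP, hle⟩ := (Ideal.subset_union_prime_finite (associatedPrimes.finite R R)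
    (f := id) 0 0 (fun _ h _ _ => h.1)).1 hsub
  rw [AssociatedPrimes.mem_iff, isAssociatedPrime_iff] at hP
  obtain ⟨hprime, x0, hx0⟩ := hP
  have hx0' : x0 = 0 := by
    apply Groth.Agent.Helper13McCoy.eq_zero_of_forall_mul_det Ψ hinj x0
    intro f g
    have h1 : det (Ψ.submatrix f g) ∈ P := hle (Ideal.subset_span ⟨(f, g), rfl⟩)
    rw [hx0, Submodule.mem_colon_singleton, Submodule.mem_bot, smul_eq_mul] at h1
    rw [mul_comm]
    exact h1
  apply hprime.ne_top
  rw [hx0, hx0', Ideal.eq_top_iff_one, Submodule.mem_colon_singleton, smul_zero]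
  exact Submodule.zero_mem _

/-- If `0 → R^m → R^n → R` is exact at `R^n` and `Ψ` is injective, then `Ψ` stays injective modulo a
regular element. -/
theorem injective_map_mk (Ψ : Matrix (Fin n) (Fin m) R) (π : (Fin n → R) →ₗ[R] R)
    (hinj : Function.Injective Ψ.mulVecLin)
    (hex : LinearMap.ker π = LinearMap.range Ψ.mulVecLin) (x : R) (hx : IsSMulRegular R x) :
    Function.Injective
      (Ψ.map (Ideal.Quotient.mk (Ideal.span ({x} : Set R)))).mulVecLin := by
  rw [injective_iff_map_eq_zero]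
  intro vbar hv
  rw [Matrix.mulVecLin_apply] at hv
  have hsurj : ∀ j, ∃ r : R, Ideal.Quotient.mk (Ideal.span ({x} : Set R)) r = vbar j :=
    fun j => Ideal.Quotient.mk_surjective (vbar j)
  choose v hvj using hsurj
  have hvbar : vbar = fun j => Ideal.Quotient.mk (Ideal.span ({x} : Set R)) (v j) :=
    funext fun j => (hvj j).symm
  have h1 : ∀ i, ∃ w : R, x * w = (Ψ.mulVec v) i := by
    intro i
    have h2 : Ideal.Quotient.mk (Ideal.span ({x} : Set R)) ((Ψ.mulVec v) i) = 0 := by
      have h3 := RingHom.map_mulVec (Ideal.Quotient.mk (Ideal.span ({x} : Set R))) Ψ v i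
      have h3' : (⇑(Ideal.Quotient.mk (Ideal.span ({x} : Set R))) ∘ v) = vbar :=
        funext fun j => hvj j
      rw [h3, h3', hv]
      rfl
    rw [Ideal.Quotient.eq_zero_iff_mem, Ideal.mem_span_singleton'] at h2
    obtain ⟨a, ha⟩ := h2
    exact ⟨a, by rw [mul_comm]; exact ha⟩
  choose w hw using h1
  have h4 : Ψ.mulVec v = x • w := funext fun i => (hw i).symm
  have h5 : π (x • w) = 0 := by
    rw [← h4]
    have : Ψ.mulVecLin v ∈ LinearMap.ker π := by
      rw [hex]
      exact ⟨v, rfl⟩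
    exact this
  rw [map_smul] at h5
  have h6 : π w = 0 := hx (by
    show x • π w = x • 0
    rw [h5, smul_zero])
  have h7 : w ∈ LinearMap.range Ψ.mulVecLin := by
    rw [← hex]
    exact h6
  obtain ⟨v', hv'⟩ := h7
  rw [Matrix.mulVecLin_apply] at hv'
  have h8 : Ψ.mulVecLin v = Ψ.mulVecLin (x • v') := by
    rw [Matrix.mulVecLin_apply, Matrix.mulVecLin_apply, Matrix.mulVec_smul, hv', h4]
  have h9 : v = x • v' := hinj h8
  rw [hvbar]
  funext j
  rw [h9, Pi.smul_apply, smul_eq_mul, Pi.zero_apply, Ideal.Quotient.eq_zero_iff_mem]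
  exact Ideal.mul_mem_right _ _ (Ideal.mem_span_singleton_self x)


/-- Second element of a regular sequence inside the ideal of maximal minors. -/
theorem exists_regular_mem_minorIdeal_quot [IsNoetherianRing R] (Ψ : Matrix (Fin n) (Fin m) R)
    (π : (Fin n → R) →ₗ[R] R) (hinj : Function.Injective Ψ.mulVecLin)
    (hex : LinearMap.ker π = LinearMap.range Ψ.mulVecLin) (x : R) (hx : IsSMulRegular R x) :
    ∃ y ∈ CAlgX.minorIdeal Ψ m, IsSMulRegular (QuotSMulTop x R) y := by
  classical
  by_contra hcon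
  push Not at hcon
  have hsub : ((CAlgX.minorIdeal Ψ m : Ideal R) : Set R) ⊆
      ⋃ p ∈ associatedPrimes R (QuotSMulTop x R), (p : Set R) := by
    rw [biUnion_associatedPrimes_eq_compl_regular]
    intro z hz
    exact hcon z hz
  obtain ⟨Q, hQ, hle⟩ := (Ideal.subset_union_prime_finite
    (associatedPrimes.finite R (QuotSMulTop x R))
    (f := id) 0 0 (fun _ h _ _ => h.1)).1 hsub
  rw [AssociatedPrimes.mem_iff, isAssociatedPrime_iff] at hQ
  obtain ⟨hprime, y0bar, hy0⟩ := hQ
  obtain ⟨y0, rfl⟩ := Submodule.Quotient.mk_surjective _ y0bar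
  have hinj' := injective_map_mk Ψ π hinj hex x hx
  have hzero : Ideal.Quotient.mk (Ideal.span ({x} : Set R)) y0 = 0 := by
    apply Groth.Agent.Helper13McCoy.eq_zero_of_forall_mul_det _ hinj'
    intro f g
    have h1 : det (Ψ.submatrix f g) ∈ Q := hle (Ideal.subset_span ⟨(f, g), rfl⟩)
    rw [hy0, Submodule.mem_colon_singleton, Submodule.mem_bot, ← Submodule.Quotient.mk_smul,
      Submodule.Quotient.mk_eq_zero, Submodule.mem_smul_pointwise_iff_exists] at h1
    obtain ⟨c, -, hc⟩ := h1
    have h2 : (Ψ.map (Ideal.Quotient.mk (Ideal.span ({x} : Set R)))).submatrix f g =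
        (Ψ.submatrix f g).map (Ideal.Quotient.mk (Ideal.span ({x} : Set R))) := rfl
    rw [h2, ← RingHom.mapMatrix_apply, ← RingHom.map_det, ← map_mul,
      Ideal.Quotient.eq_zero_iff_mem, Ideal.mem_span_singleton']
    refine ⟨c, ?_⟩
    rw [mul_comm c x, mul_comm y0]
    exact hc
  rw [Ideal.Quotient.eq_zero_iff_mem, Ideal.mem_span_singleton'] at hzero
  obtain ⟨c, hc⟩ := hzero
  apply hprime.ne_top
  rw [hy0, Ideal.eq_top_iff_one, Submodule.mem_colon_singleton, one_smul, Submodule.mem_bot,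
    Submodule.Quotient.mk_eq_zero, Submodule.mem_smul_pointwise_iff_exists]
  exact ⟨c, Submodule.mem_top, by rw [smul_eq_mul, mul_comm]; exact hc⟩

section B

open Groth.Agent.Helper13HBurch

variable {t : ℕ}

/-- Hilbert–Burch: if `0 → R^t → R^{t+1} → R` is exact (at the first two spots) and `x, y` is a
regular sequence in the ideal `J` of maximal minors of `Ψ`, then `π = a · δ` for a non-zero-divisor
`a`, where `δ` is the map given by the signed maximal minors. -/
theorem exists_eq_smul_δ (Ψ : Matrix (Fin (t + 1)) (Fin t) R) (π : (Fin (t + 1) → R) →ₗ[R] R)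
    (hex : LinearMap.ker π = LinearMap.range Ψ.mulVecLin) (x y : R)
    (hxJ : x ∈ CAlgX.minorIdeal Ψ t) (hyJ : y ∈ CAlgX.minorIdeal Ψ t)
    (hx : IsSMulRegular R x) (hy : IsSMulRegular (QuotSMulTop x R) y) :
    ∃ a : R, a ∈ nonZeroDivisors R ∧ ∀ v, π v = a * δ Ψ 1 v := by
  have h1 : (1 : R) ∈ nonZeroDivisors R := one_mem _
  have hex' := (exact_of_regular Ψ 1 h1 x y (minorIdeal_le_good Ψ 1 h1 hxJ)
    (minorIdeal_le_good Ψ 1 h1 hyJ) hx hy).2
  have hker : LinearMap.ker (δ Ψ 1) = LinearMap.ker π := hex'.trans hex.symm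
  have hrange : LinearMap.range (δ Ψ 1) = CAlgX.minorIdeal Ψ t := by
    rw [range_δ Ψ 1 h1, Ideal.span_singleton_one, Ideal.top_mul]
  have hxr : x ∈ LinearMap.range (δ Ψ 1) := by rw [hrange]; exact hxJ
  have hyr : y ∈ LinearMap.range (δ Ψ 1) := by rw [hrange]; exact hyJ
  obtain ⟨vx, hvx⟩ := hxr
  obtain ⟨vy, hvy⟩ := hyr
  -- `x * π vy = y * π vx`
  have h2 : x * π vy = y * π vx := by
    have : x • vy - y • vx ∈ LinearMap.ker π := by
      rw [← hker, LinearMap.mem_ker, map_sub, map_smul, map_smul, hvx, hvy, smul_eq_mul,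
        smul_eq_mul, mul_comm, sub_self]
    rw [LinearMap.mem_ker, map_sub, map_smul, map_smul, sub_eq_zero] at this
    exact this
  -- `π vx ∈ x R`
  have h3 : ∃ a, x * a = π vx := by
    have h5 : y • (Submodule.Quotient.mk (π vx) : QuotSMulTop x R) = 0 := by
      rw [← Submodule.Quotient.mk_smul, Submodule.Quotient.mk_eq_zero, smul_eq_mul, ← h2]
      exact (Submodule.mem_smul_pointwise_iff_exists _ _ _).2 ⟨π vy, Submodule.mem_top, rfl⟩
    have h6 : (Submodule.Quotient.mk (π vx) : QuotSMulTop x R) = 0 :=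
      hy (by
        show y • (Submodule.Quotient.mk (π vx) : QuotSMulTop x R) = y • (0 : QuotSMulTop x R)
        rw [h5, smul_zero])
    rw [Submodule.Quotient.mk_eq_zero] at h6
    obtain ⟨s, -, hs⟩ := (Submodule.mem_smul_pointwise_iff_exists _ _ _).1 h6
    exact ⟨s, hs⟩
  obtain ⟨a, ha⟩ := h3
  have hπ : ∀ v, π v = a * δ Ψ 1 v := by
    intro v
    have : x • v - (δ Ψ 1 v) • vx ∈ LinearMap.ker π := by
      rw [← hker, LinearMap.mem_ker, map_sub, map_smul, map_smul, hvx, smul_eq_mul,
        smul_eq_mul, mul_comm, sub_self]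
    rw [LinearMap.mem_ker, map_sub, map_smul, map_smul, sub_eq_zero, ← ha] at this
    apply hx
    show x • π v = x • (a * δ Ψ 1 v)
    rw [this, smul_eq_mul, smul_eq_mul]
    ring
  refine ⟨a, ?_, hπ⟩
  rw [mem_nonZeroDivisors_iff_right]
  intro r hr
  -- `r • v ∈ ker π = ker δ` for all `v`, so `r x = 0`
  have : r • vx ∈ LinearMap.ker (δ Ψ 1) := by
    rw [hker, LinearMap.mem_ker, map_smul, hπ vx, smul_eq_mul, ← mul_assoc, hr, zero_mul]
  rw [LinearMap.mem_ker, map_smul, hvx, smul_eq_mul] at this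
  apply hx
  show x • r = x • 0
  rw [smul_zero, smul_eq_mul, mul_comm]
  exact this

end B

end Groth.Agent.Helper13HB2
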