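import Mathlib

/-!
# Homogeneous submodules of a graded module as graded modules (helper13; pure Mathlib)

* `IsHomog ℳ N`: the `A`-submodule `N` of the graded module `M` contains the homogeneous components of its elements.
* `isHomog_span`: the submodule generated by homogeneous elements is homogeneous.
* `grN ℳ N n : Submodule R N`: the induced grading; `isInternal_grN`, `decompositionGrN`, and the instance
  `SetLike.GradedSMul 𝒜 (grN ℳ N)`.
-/

set_option autoImplicit false
set_option linter.unusedSectionVars false
universe u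

open DirectSum

namespace Groth.Agent.Helper13HomSub

variable {R A : Type u} [CommRing R] [CommRing A] [Algebra R A] (𝒜 : ℕ → Submodule R A)
  [GradedAlgebra 𝒜]
variable {M : Type u} [AddCommGroup M] [Module R M] [Module A M] [IsScalarTower R A M]
  (ℳ : ℕ → Submodule R M) [DirectSum.Decomposition ℳ] [SetLike.GradedSMul 𝒜 ℳ]

/-- `N` contains the homogeneous components of its elements -/
def IsHomog (N : Submodule A M) : Prop := ∀ x ∈ N, ∀ n, (DirectSum.decompose ℳ x n : M) ∈ N

theorem decompose_mem_of_mem {N : Submodule A M} {k : ℕ} {x : M} (hx : x ∈ ℳ k) (hxN : x ∈ N)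
    (n : ℕ) : (DirectSum.decompose ℳ x n : M) ∈ N := by
  by_cases h : k = n
  · subst h
    rw [DirectSum.decompose_of_mem_same ℳ hx]
    exact hxN
  · rw [DirectSum.decompose_of_mem_ne ℳ hx h]
    exact N.zero_mem

/-- the submodule of elements all of whose components lie in `N` -/
def compsIn (N : Submodule A M) : Submodule A M where
  carrier := {x | ∀ n, (DirectSum.decompose ℳ x n : M) ∈ N}
  add_mem' := by
    intro x y hx hy n
    rw [DirectSum.decompose_add, DirectSum.add_apply, Submodule.coe_add]
    exact N.add_mem (hx n) (hy n)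
  zero_mem' := by
    intro n
    rw [DirectSum.decompose_zero, DirectSum.zero_apply, Submodule.coe_zero]
    exact N.zero_mem
  smul_mem' := by
    intro a x hx
    induction a using DirectSum.Decomposition.inductionOn 𝒜 with
    | zero =>
      intro n
      rw [zero_smul, DirectSum.decompose_zero, DirectSum.zero_apply, Submodule.coe_zero]
      exact N.zero_mem
    | @homogeneous k a =>
      intro n
      classical
      rw [← DirectSum.sum_support_decompose ℳ x, Finset.smul_sum, DirectSum.decompose_sum,
        DFinsupp.finsetSum_apply, AddSubmonoidClass.coe_finsetSum]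
      refine N.sum_mem fun j _ => ?_
      exact decompose_mem_of_mem ℳ
        (SetLike.GradedSMul.smul_mem a.2 (DirectSum.decompose ℳ x j).2 :
          (a : A) • (DirectSum.decompose ℳ x j : M) ∈ ℳ (k + j))
        (N.smul_mem _ (hx j)) n
    | add a b ha hb =>
      intro n
      rw [add_smul, DirectSum.decompose_add, DirectSum.add_apply, Submodule.coe_add]
      exact N.add_mem (ha n) (hb n)

include 𝒜 in
theorem isHomog_span (S : Set M) (hS : ∀ x ∈ S, ∃ n, x ∈ ℳ n) :
    IsHomog ℳ (Submodule.span A S) := by
  have h : Submodule.span A S ≤ compsIn 𝒜 ℳ (Submodule.span A S) := by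
    rw [Submodule.span_le]
    intro x hx n
    obtain ⟨k, hk⟩ := hS x hx
    exact decompose_mem_of_mem ℳ hk (Submodule.subset_span hx) n
  exact fun x hx n => h hx n

variable (N : Submodule A M)

/-- the induced grading on a submodule -/
def grN (n : ℕ) : Submodule R N where
  carrier := {x | x.1 ∈ ℳ n}
  add_mem' := fun hx hy => (ℳ n).add_mem hx hy
  zero_mem' := (ℳ n).zero_mem
  smul_mem' := fun r _ hx => (ℳ n).smul_mem r hx

theorem mem_grN (n : ℕ) (x : N) : x ∈ grN ℳ N n ↔ x.1 ∈ ℳ n := Iff.rfl

/-- inclusion of the graded pieces -/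
def inclPiece (n : ℕ) : grN ℳ N n →+ ℳ n where
  toFun x := ⟨x.1.1, x.2⟩
  map_zero' := rfl
  map_add' _ _ := rfl

theorem coe_coeAddMonoidHom (z : ⨁ n, grN ℳ N n) :
    ((DirectSum.coeAddMonoidHom (grN ℳ N) z : N) : M) =
      DirectSum.coeAddMonoidHom ℳ (DirectSum.map (inclPiece ℳ N) z) := by
  induction z using DirectSum.induction_on with
  | zero => simp
  | of n y =>
    rw [DirectSum.coeAddMonoidHom_of, DirectSum.map_of, DirectSum.coeAddMonoidHom_of]
    rfl
  | add x y hx hy =>
    rw [map_add, map_add, map_add, Submodule.coe_add, hx, hy]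

theorem isInternal_grN (hN : IsHomog ℳ N) : DirectSum.IsInternal (grN ℳ N) := by
  classical
  constructor
  · rw [injective_iff_map_eq_zero]
    intro z hz
    have h1 : DirectSum.coeAddMonoidHom ℳ (DirectSum.map (inclPiece ℳ N) z) = 0 := by
      rw [← coe_coeAddMonoidHom, hz]
      rfl
    have h2 : DirectSum.map (inclPiece ℳ N) z = 0 :=
      (DirectSum.Decomposition.isInternal ℳ).1 (h1.trans (map_zero _).symm)
    have hinj : Function.Injective (DirectSum.map (inclPiece ℳ N)) := by
      rw [DirectSum.map_injective]
      intro n x y hxy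
      exact Subtype.ext (Subtype.ext (congrArg (fun t : ℳ n => (t : M)) hxy))
    exact hinj (h2.trans (map_zero _).symm)
  · intro x
    refine ⟨∑ n ∈ (DirectSum.decompose ℳ x.1).support,
      DirectSum.of (fun n => grN ℳ N n) n
        ⟨⟨(DirectSum.decompose ℳ x.1 n : M), hN x.1 x.2 n⟩, (DirectSum.decompose ℳ x.1 n).2⟩, ?_⟩
    apply Subtype.ext
    rw [map_sum]
    simp only [DirectSum.coeAddMonoidHom_of]
    rw [AddSubmonoidClass.coe_finsetSum]
    exact DirectSum.sum_support_decompose ℳ x.1

/-- the decomposition of a homogeneous submodule -/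
@[instance_reducible]
noncomputable def decompositionGrN (hN : IsHomog ℳ N) : DirectSum.Decomposition (grN ℳ N) :=
  (isInternal_grN ℳ N hN).chooseDecomposition

instance : SetLike.GradedSMul 𝒜 (grN ℳ N) where
  smul_mem := by
    intro i n a x ha hx
    exact (SetLike.GradedSMul.smul_mem (A := 𝒜) (B := ℳ) ha hx : a • x.1 ∈ ℳ (i + n))

end Groth.Agent.Helper13HomSub
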