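import Mathlib
import Groth.Prelude.Def_GrSyz
import Groth.Prelude.Def_GrLC
import Groth.Agent.Lib.Helper13Hilb
import Groth.Agent.Lib.Helper13FreeRes
import Groth.Agent.Lib.Helper13Betti

/-!
# The horseshoe construction for graded free resolutions given by matrices
-/

set_option autoImplicit false
universe u

namespace Groth.Agent.Helper13Horseshoe

open Groth.Agent.Helper13Hilb

section blk

variable {R : Type u} [CommRing R]

/-- block upper triangular matrix. -/
def blk {m₁ m₂ n₁ n₂ : ℕ} (A : Matrix (Fin m₁) (Fin n₁) R) (θ : Matrix (Fin m₁) (Fin n₂) R)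
    (B : Matrix (Fin m₂) (Fin n₂) R) : Matrix (Fin (m₁ + m₂)) (Fin (n₁ + n₂)) R :=
  Matrix.of fun a b =>
    Fin.addCases (fun a₁ => Fin.addCases (fun b₁ => A a₁ b₁) (fun b₂ => θ a₁ b₂) b)
      (fun a₂ => Fin.addCases (fun _ => 0) (fun b₂ => B a₂ b₂) b) a

variable {m₁ m₂ n₁ n₂ : ℕ} (A : Matrix (Fin m₁) (Fin n₁) R) (θ : Matrix (Fin m₁) (Fin n₂) R)
    (B : Matrix (Fin m₂) (Fin n₂) R)

@[simp] theorem blk_ll (a : Fin m₁) (b : Fin n₁) :
    blk A θ B (Fin.castAdd m₂ a) (Fin.castAdd n₂ b) = A a b := by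
  simp [blk]

@[simp] theorem blk_lr (a : Fin m₁) (b : Fin n₂) :
    blk A θ B (Fin.castAdd m₂ a) (Fin.natAdd n₁ b) = θ a b := by
  simp [blk]

@[simp] theorem blk_rl (a : Fin m₂) (b : Fin n₁) :
    blk A θ B (Fin.natAdd m₁ a) (Fin.castAdd n₂ b) = 0 := by
  simp [blk]

@[simp] theorem blk_rr (a : Fin m₂) (b : Fin n₂) :
    blk A θ B (Fin.natAdd m₁ a) (Fin.natAdd n₁ b) = B a b := by
  simp [blk]

theorem blk_mulVec (u : Fin n₁ → R) (w : Fin n₂ → R) :
    (blk A θ B).mulVec (Fin.append u w) = Fin.append (A.mulVec u + θ.mulVec w) (B.mulVec w) := by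
  funext a
  refine Fin.addCases (fun a₁ => ?_) (fun a₂ => ?_) a
  · rw [Fin.append_left]
    simp [Matrix.mulVec, dotProduct, Fin.sum_univ_add]
  · rw [Fin.append_right]
    simp [Matrix.mulVec, dotProduct, Fin.sum_univ_add]

section blkmap

variable {K : Type*} [CommRing K] (f : R →+* K)

theorem blk_map_mulVec_left (a₀ : Fin m₁) (hA : ∀ c, f (A a₀ c) = 0) (hθ : ∀ c, f (θ a₀ c) = 0)
    (y : Fin (n₁ + n₂) → K) : ((blk A θ B).map f).mulVec y (Fin.castAdd m₂ a₀) = 0 := by
  rw [Matrix.mulVec, dotProduct, Fin.sum_univ_add]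
  simp [hA, hθ]

theorem blk_map_mulVec_right (c₀ : Fin m₂) (hB : ∀ c, f (B c₀ c) = 0)
    (y : Fin (n₁ + n₂) → K) : ((blk A θ B).map f).mulVec y (Fin.natAdd m₁ c₀) = 0 := by
  rw [Matrix.mulVec, dotProduct, Fin.sum_univ_add]
  simp [hB]

theorem blk_map_mulVec_single_left (a₀ : Fin n₁) (hA : ∀ a, f (A a a₀) = 0) :
    ((blk A θ B).map f).mulVec (Pi.single (Fin.castAdd n₂ a₀) 1) = 0 := by
  classical
  rw [Matrix.mulVec_single_one]
  funext a
  refine Fin.addCases (fun a₁ => ?_) (fun a₂ => ?_) a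
  · simp [hA]
  · simp

theorem blk_map_mulVec_single_right (c₀ : Fin n₂) (hθ : ∀ a, f (θ a c₀) = 0)
    (hB : ∀ a, f (B a c₀) = 0) :
    ((blk A θ B).map f).mulVec (Pi.single (Fin.natAdd n₁ c₀) 1) = 0 := by
  classical
  rw [Matrix.mulVec_single_one]
  funext a
  refine Fin.addCases (fun a₁ => ?_) (fun a₂ => ?_) a
  · simp [hθ]
  · simp [hB]

end blkmap

theorem exists_append {α : Type*} {m n : ℕ} (v : Fin (m + n) → α) :
    ∃ (u : Fin m → α) (w : Fin n → α), v = Fin.append u w :=
  ⟨_, _, Fin.append_castAdd_natAdd.symm⟩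

theorem append_eq_zero_iff {m n : ℕ} (u : Fin m → R) (w : Fin n → R) :
    Fin.append u w = 0 ↔ u = 0 ∧ w = 0 := by
  constructor
  · intro h
    constructor
    · funext a
      have := congrFun h (Fin.castAdd n a)
      rwa [Fin.append_left] at this
    · funext b
      have := congrFun h (Fin.natAdd m b)
      rwa [Fin.append_right] at this
  · rintro ⟨rfl, rfl⟩
    funext a
    refine Fin.addCases (fun a₁ => ?_) (fun a₂ => ?_) a
    · rw [Fin.append_left]; rfl
    · rw [Fin.append_right]; rfl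

theorem lc_append {M : Type*} [AddCommGroup M] [Module R M] {m n : ℕ} (a₁ : Fin m → M)
    (a₂ : Fin n → M) (u : Fin m → R) (w : Fin n → R) :
    Fintype.linearCombination R (Fin.append a₁ a₂) (Fin.append u w) =
      Fintype.linearCombination R a₁ u + Fintype.linearCombination R a₂ w := by
  simp [Fintype.linearCombination_apply, Fin.sum_univ_add]

theorem map_lc {M N : Type*} [AddCommGroup M] [Module R M] [AddCommGroup N] [Module R N]
    (g : M →ₗ[R] N) {n : ℕ} (a : Fin n → M) (v : Fin n → R) :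
    g (Fintype.linearCombination R a v) = Fintype.linearCombination R (fun b => g (a b)) v := by
  simp [Fintype.linearCombination_apply]

end blk

section graded

variable {k : Type u} [Field k] {R : Type u} [CommRing R] [Algebra k R]
  {𝒜 : ℤ → Submodule k R} [GradedAlgebra 𝒜]
  {M : Type u} [AddCommGroup M] [Module k M] [Module R M] [IsScalarTower k R M]
  {ℳ : ℤ → Submodule k M} [DirectSum.Decomposition ℳ] [SetLike.GradedSMul 𝒜 ℳ]

theorem lc_mem {n : ℕ} (a : Fin n → M) (deg : Fin n → ℤ) (ha : ∀ b, a b ∈ ℳ (deg b)) (d : ℤ)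
    (v : Fin n → R) (hv : v ∈ strand 𝒜 deg d) : Fintype.linearCombination R a v ∈ ℳ d := by
  rw [Fintype.linearCombination_apply]
  refine Submodule.sum_mem _ (fun b _ => ?_)
  have h := SetLike.GradedSMul.smul_mem (A := 𝒜) (B := ℳ) ((mem_strand 𝒜 _ d v).1 hv b) (ha b)
  have e : (d - deg b) +ᵥ deg b = d := by simp
  rwa [e] at h

theorem lc_proj {n : ℕ} (a : Fin n → M) (deg : Fin n → ℤ) (ha : ∀ b, a b ∈ ℳ (deg b)) (d : ℤ)
    (v : Fin n → R) :
    Fintype.linearCombination R a (proj 𝒜 deg d v) =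
      (DirectSum.decompose ℳ (Fintype.linearCombination R a v) d : M) := by
  rw [Fintype.linearCombination_apply, Fintype.linearCombination_apply, DirectSum.decompose_sum,
    DFinsupp.finsetSum_apply, AddSubmonoidClass.coe_finsetSum]
  refine Finset.sum_congr rfl (fun b _ => ?_)
  rw [proj_apply, decompose_smul_of_mem 𝒜 ℳ d (deg b) (v b) (a b) (ha b)]

variable (𝒜 ℳ) in
/-- a graded free resolution, by matrices, of the submodule `K` of the graded module `M`. -/
structure SubRes (K : Submodule R M) : Type u where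
  rk : ℕ → ℕ
  deg : (i : ℕ) → Fin (rk i) → ℤ
  d : (i : ℕ) → Matrix (Fin (rk i)) (Fin (rk (i + 1))) R
  aug : Fin (rk 0) → M
  d_mem : ∀ (i : ℕ) (a : Fin (rk i)) (b : Fin (rk (i + 1))), d i a b ∈ 𝒜 (deg (i + 1) b - deg i a)
  aug_mem : ∀ b : Fin (rk 0), aug b ∈ ℳ (deg 0 b)
  range_aug : LinearMap.range (Fintype.linearCombination R aug) = K
  exact_zero : LinearMap.ker (Fintype.linearCombination R aug) =
    LinearMap.range (Matrix.mulVecLin (d 0))
  exact_succ : ∀ i : ℕ,
    LinearMap.ker (Matrix.mulVecLin (d i)) = LinearMap.range (Matrix.mulVecLin (d (i + 1)))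

namespace SubRes

variable {K : Submodule R M} (A : SubRes 𝒜 ℳ K)

theorem aug_d (v : Fin (A.rk 1) → R) :
    Fintype.linearCombination R A.aug ((A.d 0).mulVec v) = 0 := by
  have : (A.d 0).mulVec v ∈ LinearMap.range (Matrix.mulVecLin (A.d 0)) := ⟨v, rfl⟩
  rw [← A.exact_zero] at this
  exact this

theorem d_d (i : ℕ) (v : Fin (A.rk (i + 1 + 1)) → R) :
    (A.d i).mulVec ((A.d (i + 1)).mulVec v) = 0 := by
  have : (A.d (i + 1)).mulVec v ∈ LinearMap.range (Matrix.mulVecLin (A.d (i + 1))) := ⟨v, rfl⟩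
  rw [← A.exact_succ] at this
  exact this

theorem lc_mem_K (v : Fin (A.rk 0) → R) : Fintype.linearCombination R A.aug v ∈ K :=
  (SetLike.ext_iff.1 A.range_aug _).1 ⟨v, rfl⟩

theorem exists_strand_aug (d : ℤ) (x : M) (hxK : x ∈ K) (hx : x ∈ ℳ d) :
    ∃ v ∈ strand 𝒜 (A.deg 0) d, Fintype.linearCombination R A.aug v = x := by
  have hxK' : x ∈ LinearMap.range (Fintype.linearCombination R A.aug) :=
    (SetLike.ext_iff.1 A.range_aug _).2 hxK
  obtain ⟨v, rfl⟩ := hxK'
  refine ⟨proj 𝒜 (A.deg 0) d v, proj_mem 𝒜 _ d v, ?_⟩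
  rw [lc_proj A.aug (A.deg 0) A.aug_mem]
  exact DirectSum.decompose_of_mem_same ℳ hx

/-- minimality of a resolution of a submodule. -/
def IsMinimal (𝔪 : Ideal R) : Prop :=
  ∀ (i : ℕ) (a : Fin (A.rk i)) (b : Fin (A.rk (i + 1))), A.d i a b ∈ 𝔪

end SubRes

/-- a resolution of `M₁` gives a resolution of its image under an injective map which is
homogeneous of degree `e`. -/
def SubRes.ofFreeRes {M₁ : Type u} [AddCommGroup M₁] [Module k M₁] [Module R M₁]
    [IsScalarTower k R M₁] {ℳ₁ : ℤ → Submodule k M₁} [DirectSum.Decomposition ℳ₁]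
    [SetLike.GradedSMul 𝒜 ℳ₁] (F : GrSyz.FreeRes 𝒜 ℳ₁) (f : M₁ →ₗ[R] M)
    (hf : Function.Injective f) (e : ℤ) (hfe : ∀ (d : ℤ) (m : M₁), m ∈ ℳ₁ d → f m ∈ ℳ (d + e))
    (K : Submodule R M) (hK : LinearMap.range f = K) : SubRes 𝒜 ℳ K where
  rk := F.rk
  deg i b := F.deg i b + e
  d := F.d
  aug b := f (F.aug b)
  d_mem i a b := by
    have h := F.d_mem i a b
    have e' : F.deg (i + 1) b + e - (F.deg i a + e) = F.deg (i + 1) b - F.deg i a := by ring
    rw [e']
    exact h
  aug_mem b := hfe _ _ (F.aug_mem b)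
  range_aug := by
    rw [← hK]
    ext x
    constructor
    · rintro ⟨v, rfl⟩
      refine ⟨Fintype.linearCombination R F.aug v, ?_⟩
      rw [map_lc]
    · rintro ⟨m, rfl⟩
      obtain ⟨v, rfl⟩ := F.aug_surjective m
      refine ⟨v, ?_⟩
      rw [map_lc]
  exact_zero := by
    rw [← F.exact_zero]
    ext v
    rw [LinearMap.mem_ker, LinearMap.mem_ker, ← map_lc f F.aug v]
    constructor
    · intro h
      exact hf (h.trans (map_zero f).symm)
    · intro h
      rw [h, map_zero]
  exact_succ := F.exact_succ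

end graded

section horseshoe

variable {k : Type u} [Field k] {R : Type u} [CommRing R] [Algebra k R]
  {𝒜 : ℤ → Submodule k R} [GradedAlgebra 𝒜]
  {M : Type u} [AddCommGroup M] [Module k M] [Module R M] [IsScalarTower k R M]
  {ℳ : ℤ → Submodule k M} [DirectSum.Decomposition ℳ] [SetLike.GradedSMul 𝒜 ℳ]
  {N : Type u} [AddCommGroup N] [Module k N] [Module R N] [IsScalarTower k R N]
  {𝒩 : ℤ → Submodule k N} [DirectSum.Decomposition 𝒩] [SetLike.GradedSMul 𝒜 𝒩]
  (g : M →ₗ[R] N)

theorem map_decompose (hgg : GrLC.IsGrHom ℳ 𝒩 g) (m : M) (d : ℤ) :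
    g (DirectSum.decompose ℳ m d : M) = (DirectSum.decompose 𝒩 (g m) d : N) := by
  induction m using DirectSum.Decomposition.inductionOn ℳ with
  | zero => simp
  | @homogeneous n m =>
    have hm : g (m : M) ∈ 𝒩 n := hgg n m m.2
    by_cases h : n = d
    · subst h
      rw [DirectSum.decompose_of_mem_same ℳ m.2, DirectSum.decompose_of_mem_same 𝒩 hm]
    · rw [DirectSum.decompose_of_mem_ne ℳ m.2 h, DirectSum.decompose_of_mem_ne 𝒩 hm h, map_zero]
  | add a a' ha ha' =>
    rw [DirectSum.decompose_add, DirectSum.add_apply, Submodule.coe_add, map_add, ha, ha', map_add,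
      DirectSum.decompose_add, DirectSum.add_apply, Submodule.coe_add]

theorem exists_homog_preimage (hg : Function.Surjective g) (hgg : GrLC.IsGrHom ℳ 𝒩 g) (d : ℤ)
    (x : N) (hx : x ∈ 𝒩 d) : ∃ m ∈ ℳ d, g m = x := by
  obtain ⟨m, rfl⟩ := hg x
  refine ⟨(DirectSum.decompose ℳ m d : M), SetLike.coe_mem _, ?_⟩
  rw [map_decompose g hgg, DirectSum.decompose_of_mem_same 𝒩 hx]

variable (A : SubRes 𝒜 ℳ (LinearMap.ker g)) (B : GrSyz.FreeRes 𝒜 𝒩)

/-- the data of a horseshoe resolution. -/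
structure HData where
  σ : Fin (B.rk 0) → M
  σ_mem : ∀ c, σ c ∈ ℳ (B.deg 0 c)
  gσ : ∀ c, g (σ c) = B.aug c
  θ : ∀ i, Matrix (Fin (A.rk i)) (Fin (B.rk (i + 1))) R
  θ_mem : ∀ i a c, θ i a c ∈ 𝒜 (B.deg (i + 1) c - A.deg i a)
  h0 : ∀ w : Fin (B.rk 1) → R, Fintype.linearCombination R A.aug ((θ 0).mulVec w) +
    Fintype.linearCombination R σ ((B.d 0).mulVec w) = 0
  hs : ∀ i, A.d i * θ (i + 1) + θ i * B.d (i + 1) = 0

/-- one stage of the construction. -/
structure Stage (i : ℕ) where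
  θ : Matrix (Fin (A.rk i)) (Fin (B.rk (i + 1))) R
  hom : ∀ a c, θ a c ∈ 𝒜 (B.deg (i + 1) c - A.deg i a)
  bd : ∀ w : Fin (B.rk (i + 1 + 1)) → R,
    θ.mulVec ((B.d (i + 1)).mulVec w) ∈ LinearMap.range (Matrix.mulVecLin (A.d i))

variable {g A B}

theorem exists_stage_zero (σ : Fin (B.rk 0) → M) (σ_mem : ∀ c, σ c ∈ ℳ (B.deg 0 c))
    (gσ : ∀ c, g (σ c) = B.aug c) :
    ∃ s : Stage g A B 0, ∀ w : Fin (B.rk 1) → R,
      Fintype.linearCombination R A.aug (s.θ.mulVec w) +
        Fintype.linearCombination R σ ((B.d 0).mulVec w) = 0 := by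
  classical
  have hcol : ∀ c : Fin (B.rk 1), ∃ v ∈ strand 𝒜 (A.deg 0) (B.deg 1 c),
      Fintype.linearCombination R A.aug v =
        - Fintype.linearCombination R σ (fun a => B.d 0 a c) := by
    intro c
    apply A.exists_strand_aug
    · rw [LinearMap.mem_ker, map_neg, map_lc, neg_eq_zero]
      have h1 : (fun b => g (σ b)) = B.aug := funext gσ
      rw [h1]
      have h2 := Groth.Agent.Helper13FreeRes.aug_dLin B (Pi.single c 1)
      have h3 : B.dLin 0 (Pi.single c 1) = fun a => B.d 0 a c := by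
        ext a
        simp [GrSyz.FreeRes.dLin, Matrix.mulVec, dotProduct, Pi.single_apply]
      rw [h3] at h2
      exact h2
    · refine Submodule.neg_mem _ (lc_mem (𝒜 := 𝒜) σ (B.deg 0) σ_mem (B.deg 1 c) _ ?_)
      rw [mem_strand]
      intro a
      exact B.d_mem 0 a c
  choose v hv1 hv2 using hcol
  have key : ∀ w : Fin (B.rk 1) → R,
      Fintype.linearCombination R A.aug ((Matrix.of (fun a c => v c a)).mulVec w) +
        Fintype.linearCombination R σ ((B.d 0).mulVec w) = 0 := by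
    intro w
    have h1 : (Matrix.of (fun a c => v c a)).mulVec w = ∑ c, w c • v c := by
      ext a
      simp [Matrix.mulVec, dotProduct, Finset.sum_apply, mul_comm]
    have h2 : (B.d 0).mulVec w = ∑ c, w c • (fun a => B.d 0 a c) := by
      ext a
      simp [Matrix.mulVec, dotProduct, Finset.sum_apply, mul_comm]
    rw [h1, h2, map_sum, map_sum, ← Finset.sum_add_distrib]
    refine Finset.sum_eq_zero (fun c _ => ?_)
    rw [map_smul, map_smul, hv2 c, smul_neg, neg_add_cancel]
  refine ⟨⟨Matrix.of (fun a c => v c a),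
    fun a c => (mem_strand 𝒜 (A.deg 0) (B.deg 1 c) (v c)).1 (hv1 c) a, ?_⟩, key⟩
  intro w
  rw [← A.exact_zero, LinearMap.mem_ker]
  have h := key ((B.d (0 + 1)).mulVec w)
  have h0 : (B.d 0).mulVec ((B.d (0 + 1)).mulVec w) = 0 :=
    Groth.Agent.Helper13FreeRes.dLin_comp B 0 w
  rw [h0, map_zero, add_zero] at h
  exact h

theorem exists_stage_succ (i : ℕ) (s : Stage g A B i) :
    ∃ s' : Stage g A B (i + 1), A.d i * s'.θ + s.θ * B.d (i + 1) = 0 := by
  classical
  obtain ⟨L, hL, hLeq⟩ := Groth.Agent.Helper13Betti.exists_lift_matrix (𝒜 := 𝒜) (A.deg i)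
    (A.deg (i + 1)) (B.deg (i + 1 + 1)) (A.d i) (A.d_mem i) (-(s.θ * B.d (i + 1)))
    (fun a l => by
      rw [Matrix.neg_apply]
      exact Submodule.neg_mem _ (Groth.Agent.Helper13Betti.mul_mem_of_hom (A.deg i) (B.deg (i + 1))
        (B.deg (i + 1 + 1)) s.θ s.hom (B.d (i + 1)) (B.d_mem (i + 1)) a l))
    (fun l => by
      have h := s.bd (Pi.single l 1)
      have e : s.θ.mulVec ((B.d (i + 1)).mulVec (Pi.single l 1)) =
          fun a => (s.θ * B.d (i + 1)) a l := by
        ext a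
        simp [Matrix.mulVec, dotProduct, Matrix.mul_apply, Pi.single_apply]
      rw [e] at h
      have h' := Submodule.neg_mem _ h
      have e' : (-fun a => (s.θ * B.d (i + 1)) a l) = fun a => (-(s.θ * B.d (i + 1))) a l := by
        ext a
        simp
      rwa [e'] at h')
  refine ⟨⟨L, hL, ?_⟩, ?_⟩
  · intro w
    rw [← A.exact_succ, LinearMap.mem_ker]
    show (A.d i).mulVec (L.mulVec ((B.d (i + 1 + 1)).mulVec w)) = 0
    rw [Matrix.mulVec_mulVec, hLeq, Matrix.neg_mulVec, ← Matrix.mulVec_mulVec]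
    have h0 : (B.d (i + 1)).mulVec ((B.d (i + 1 + 1)).mulVec w) = 0 :=
      Groth.Agent.Helper13FreeRes.dLin_comp B (i + 1) w
    rw [h0, Matrix.mulVec_zero, neg_zero]
  · show A.d i * L + s.θ * B.d (i + 1) = 0
    rw [hLeq, neg_add_cancel]

variable (hg : Function.Surjective g) (hgg : GrLC.IsGrHom ℳ 𝒩 g)

include hg hgg in
theorem exists_hData : Nonempty (HData g A B) := by
  classical
  have hσ : ∀ c : Fin (B.rk 0), ∃ m ∈ ℳ (B.deg 0 c), g m = B.aug c := fun c =>
    exists_homog_preimage g hg hgg (B.deg 0 c) (B.aug c) (B.aug_mem c)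
  choose σ σ_mem gσ using hσ
  obtain ⟨s0, hs0⟩ := exists_stage_zero (A := A) σ σ_mem gσ
  let st : ∀ i, Stage g A B i := fun i =>
    Nat.rec s0 (fun i s => (exists_stage_succ i s).choose) i
  have hst : ∀ i, A.d i * (st (i + 1)).θ + (st i).θ * B.d (i + 1) = 0 := fun i =>
    (exists_stage_succ i (st i)).choose_spec
  exact ⟨⟨σ, σ_mem, gσ, fun i => (st i).θ, fun i => (st i).hom, hs0, hst⟩⟩

end horseshoe

section build

variable {k : Type u} [Field k] {R : Type u} [CommRing R] [Algebra k R]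
  {𝒜 : ℤ → Submodule k R} [GradedAlgebra 𝒜]
  {M : Type u} [AddCommGroup M] [Module k M] [Module R M] [IsScalarTower k R M]
  {ℳ : ℤ → Submodule k M} [DirectSum.Decomposition ℳ] [SetLike.GradedSMul 𝒜 ℳ]
  {N : Type u} [AddCommGroup N] [Module k N] [Module R N] [IsScalarTower k R N]
  {𝒩 : ℤ → Submodule k N} [DirectSum.Decomposition 𝒩] [SetLike.GradedSMul 𝒜 𝒩]
  {g : M →ₗ[R] N} {A : SubRes 𝒜 ℳ (LinearMap.ker g)} {B : GrSyz.FreeRes 𝒜 𝒩}
  (H : HData g A B)

theorem g_lc_aug (u : Fin (A.rk 0) → R) : g (Fintype.linearCombination R A.aug u) = 0 :=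
  A.lc_mem_K u

include H in
theorem g_lc_σ (w : Fin (B.rk 0) → R) :
    g (Fintype.linearCombination R H.σ w) = Fintype.linearCombination R B.aug w := by
  rw [map_lc]
  have h1 : (fun b => g (H.σ b)) = B.aug := funext H.gσ
  rw [h1]

/-- the horseshoe resolution. -/
def horseshoe : GrSyz.FreeRes 𝒜 ℳ where
  rk i := A.rk i + B.rk i
  deg i := Fin.append (A.deg i) (B.deg i)
  d i := blk (A.d i) (H.θ i) (B.d i)
  aug := Fin.append A.aug H.σ
  d_mem i a b := by
    refine Fin.addCases (fun a₁ => ?_) (fun a₂ => ?_) a <;>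
      refine Fin.addCases (fun b₁ => ?_) (fun b₂ => ?_) b
    · rw [blk_ll, Fin.append_left, Fin.append_left]
      exact A.d_mem i a₁ b₁
    · rw [blk_lr, Fin.append_left, Fin.append_right]
      exact H.θ_mem i a₁ b₂
    · rw [blk_rl]
      exact Submodule.zero_mem _
    · rw [blk_rr, Fin.append_right, Fin.append_right]
      exact B.d_mem i a₂ b₂
  aug_mem b := by
    refine Fin.addCases (fun b₁ => ?_) (fun b₂ => ?_) b
    · rw [Fin.append_left, Fin.append_left]
      exact A.aug_mem b₁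
    · rw [Fin.append_right, Fin.append_right]
      exact H.σ_mem b₂
  aug_surjective := by
    intro m
    obtain ⟨w, hw⟩ := B.aug_surjective (g m)
    have h1 : m - Fintype.linearCombination R H.σ w ∈ LinearMap.ker g := by
      rw [LinearMap.mem_ker, map_sub, g_lc_σ H, hw, sub_self]
    have h2 : m - Fintype.linearCombination R H.σ w ∈
        LinearMap.range (Fintype.linearCombination R A.aug) :=
      (SetLike.ext_iff.1 A.range_aug _).2 h1
    obtain ⟨u, hu⟩ := h2
    refine ⟨Fin.append u w, ?_⟩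
    rw [lc_append, hu, sub_add_cancel]
  exact_zero := by
    ext v
    obtain ⟨u, w, rfl⟩ := exists_append v
    rw [LinearMap.mem_ker, lc_append]
    constructor
    · intro h
      have hw : Fintype.linearCombination R B.aug w = 0 := by
        have := congrArg g h
        rwa [map_add, g_lc_aug, zero_add, g_lc_σ H, map_zero] at this
      have hw' : w ∈ LinearMap.ker (Fintype.linearCombination R B.aug) := hw
      rw [B.exact_zero] at hw'
      obtain ⟨w', rfl⟩ := hw'
      have h0 := H.h0 w'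
      have hu : Fintype.linearCombination R A.aug (u - (H.θ 0).mulVec w') = 0 := by
        rw [map_sub, sub_eq_zero]
        have e : Matrix.mulVecLin (B.d 0) w' = (B.d 0).mulVec w' := rfl
        rw [e] at h
        exact add_right_cancel (h.trans h0.symm)
      have hu' : u - (H.θ 0).mulVec w' ∈ LinearMap.ker (Fintype.linearCombination R A.aug) := hu
      rw [A.exact_zero] at hu'
      obtain ⟨u', hu'⟩ := hu'
      refine ⟨Fin.append u' w', ?_⟩
      rw [Matrix.mulVecLin_apply, blk_mulVec]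
      have e : (A.d 0).mulVec u' = u - (H.θ 0).mulVec w' := hu'
      rw [e, sub_add_cancel]
      rfl
    · rintro ⟨v', hv'⟩
      obtain ⟨u', w', rfl⟩ := exists_append v'
      rw [Matrix.mulVecLin_apply, blk_mulVec] at hv'
      have hu : u = (A.d 0).mulVec u' + (H.θ 0).mulVec w' := by
        funext a
        have := congrFun hv' (Fin.castAdd _ a)
        rw [Fin.append_left, Fin.append_left] at this
        exact this.symm
      have hw : w = (B.d 0).mulVec w' := by
        funext b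
        have := congrFun hv' (Fin.natAdd _ b)
        rw [Fin.append_right, Fin.append_right] at this
        exact this.symm
      rw [hu, hw, map_add, A.aug_d, zero_add]
      exact H.h0 w'
  exact_succ i := by
    ext v
    obtain ⟨u, w, rfl⟩ := exists_append v
    rw [LinearMap.mem_ker, Matrix.mulVecLin_apply, blk_mulVec, append_eq_zero_iff]
    constructor
    · rintro ⟨h1, h2⟩
      have hw' : w ∈ LinearMap.ker (Matrix.mulVecLin (B.d i)) := h2
      rw [B.exact_succ] at hw'
      obtain ⟨w', rfl⟩ := hw'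
      have hs := H.hs i
      have hu : (A.d i).mulVec (u - (H.θ (i + 1)).mulVec w') = 0 := by
        rw [Matrix.mulVec_sub, sub_eq_zero]
        have e : Matrix.mulVecLin (B.d (i + 1)) w' = (B.d (i + 1)).mulVec w' := rfl
        rw [e, Matrix.mulVec_mulVec] at h1
        have h3 : (A.d i * H.θ (i + 1)).mulVec w' + (H.θ i * B.d (i + 1)).mulVec w' = 0 := by
          rw [← Matrix.add_mulVec, hs, Matrix.zero_mulVec]
        rw [Matrix.mulVec_mulVec]
        exact add_right_cancel (h1.trans h3.symm)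
      have hu' : u - (H.θ (i + 1)).mulVec w' ∈ LinearMap.ker (Matrix.mulVecLin (A.d i)) := hu
      rw [A.exact_succ] at hu'
      obtain ⟨u', hu'⟩ := hu'
      refine ⟨Fin.append u' w', ?_⟩
      rw [Matrix.mulVecLin_apply, blk_mulVec]
      have e : (A.d (i + 1)).mulVec u' = u - (H.θ (i + 1)).mulVec w' := hu'
      rw [e, sub_add_cancel]
      rfl
    · rintro ⟨v', hv'⟩
      obtain ⟨u', w', rfl⟩ := exists_append v'
      rw [Matrix.mulVecLin_apply, blk_mulVec] at hv'
      have hu : u = (A.d (i + 1)).mulVec u' + (H.θ (i + 1)).mulVec w' := by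
        funext a
        have := congrFun hv' (Fin.castAdd _ a)
        rw [Fin.append_left, Fin.append_left] at this
        exact this.symm
      have hw : w = (B.d (i + 1)).mulVec w' := by
        funext b
        have := congrFun hv' (Fin.natAdd _ b)
        rw [Fin.append_right, Fin.append_right] at this
        exact this.symm
      refine ⟨?_, ?_⟩
      · rw [hu, hw, Matrix.mulVec_add, A.d_d, zero_add, Matrix.mulVec_mulVec, Matrix.mulVec_mulVec,
          ← Matrix.add_mulVec, H.hs i, Matrix.zero_mulVec]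
      · rw [hw]
        exact Groth.Agent.Helper13FreeRes.dLin_comp B i w'

end build

section homotopy

open CategoryTheory Groth.Agent.Helper13FreeRes

variable {R : Type u} [CommRing R] {σ' : Type u} [SetLike σ' R]
  {𝒜 : ℤ → σ'} {M : Type u} [AddCommGroup M] [Module R M] {τ : Type u} [SetLike τ M]
  [AddSubgroupClass τ M] {ℳ : ℤ → τ} [DirectSum.Decomposition ℳ] [SetLike.GradedSMul 𝒜 ℳ]
  (F : GrSyz.FreeRes 𝒜 ℳ)

/-- an endomorphism of a resolution lifting the identity is homotopic to the identity. -/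
theorem homotopy_decomp (Θ : ∀ i, Matrix (Fin (F.rk i)) (Fin (F.rk i)) R)
    (h0 : ∀ v, F.augLin ((Θ 0).mulVec v) = F.augLin v)
    (hs : ∀ i, F.d i * Θ (i + 1) = Θ i * F.d i) :
    (∀ v : Fin (F.rk 0) → R, ∃ y, (Θ 0).mulVec v = (F.d 0).mulVec y + v) ∧
    (∀ j, ∃ g : (Fin (F.rk j) → R) →ₗ[R] (Fin (F.rk (j + 1)) → R),
      ∀ v : Fin (F.rk (j + 1)) → R, ∃ y,
        (Θ (j + 1)).mulVec v = g ((F.d j).mulVec v) + (F.d (j + 1)).mulVec y + v) := by
  classical
  let θ : (res F).complex ⟶ (res F).complex := ChainComplex.ofHom (X := cx F) (Y := cx F)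
    (fun i => ModuleCat.ofHom (Matrix.mulVecLin (Θ i))) (fun i => by
      rw [cx_d]
      apply ModuleCat.hom_ext
      apply LinearMap.ext
      intro v
      show (F.d i).mulVec ((Θ (i + 1)).mulVec v) = (Θ i).mulVec ((F.d i).mulVec v)
      rw [Matrix.mulVec_mulVec, Matrix.mulVec_mulVec, hs])
  have hπ : (res F).π.f 0 = ModuleCat.ofHom F.augLin :=
    ChainComplex.toSingle₀Equiv_symm_apply_f_zero _ _
  have hθ : θ ≫ (res F).π = (res F).π ≫ (ChainComplex.single₀ _).map (𝟙 (ModuleCat.of R M)) := by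
    rw [CategoryTheory.Functor.map_id, Category.comp_id]
    apply HomologicalComplex.to_single_hom_ext
    rw [HomologicalComplex.comp_f, hπ]
    apply ModuleCat.hom_ext
    apply LinearMap.ext
    intro v
    exact h0 v
  have h1 : 𝟙 (res F).complex ≫ (res F).π =
      (res F).π ≫ (ChainComplex.single₀ _).map (𝟙 (ModuleCat.of R M)) := by
    rw [CategoryTheory.Functor.map_id, Category.comp_id, Category.id_comp]
  let H : Homotopy θ (𝟙 (res F).complex) :=
    ProjectiveResolution.liftHomotopy (𝟙 (ModuleCat.of R M)) θ (𝟙 _) hθ h1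
  constructor
  · intro v
    have hc := H.comm 0
    rw [Homotopy.dNext_zero_chainComplex, Homotopy.prevD_chainComplex, zero_add] at hc
    have hd : (res F).complex.d (0 + 1) 0 = ModuleCat.ofHom (F.dLin 0) := cx_d F 0
    rw [hd] at hc
    have hc' := congrArg (fun g => (ModuleCat.Hom.hom g) v) hc
    change (Θ 0).mulVec v = (F.d 0).mulVec ((H.hom 0 1).hom v) + v at hc'
    exact ⟨_, hc'⟩
  · intro j
    let g : (Fin (F.rk j) → R) →ₗ[R] (Fin (F.rk (j + 1)) → R) := (H.hom j (j + 1)).hom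
    refine ⟨g, fun v => ?_⟩
    have hc := H.comm (j + 1)
    rw [Homotopy.dNext_succ_chainComplex, Homotopy.prevD_chainComplex] at hc
    have hd : (res F).complex.d (j + 1) j = ModuleCat.ofHom (F.dLin j) := cx_d F j
    have hd' : (res F).complex.d (j + 1 + 1) (j + 1) = ModuleCat.ofHom (F.dLin (j + 1)) :=
      cx_d F (j + 1)
    rw [hd, hd'] at hc
    have hc' := congrArg (fun g => (ModuleCat.Hom.hom g) v) hc
    change (Θ (j + 1)).mulVec v = g ((F.d j).mulVec v) +
      (F.d (j + 1)).mulVec ((H.hom (j + 1) (j + 1 + 1)).hom v) + v at hc'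
    exact ⟨_, hc'⟩

end homotopy

end Groth.Agent.Helper13Horseshoe
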