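import Groth.Agent.Lib.Helper21ConeLES
import Mathlib.Algebra.Homology.ShortComplex.ModuleCat

/-!
# The long exact homology sequence of a mapping cone, part 2: the connecting map (helper21)
-/

namespace Groth.Agent.Lib.Helper21

open CategoryTheory CategoryTheory.Limits CochainComplex HomComplex HomotopyCategory

universe v u

variable {C : Type u} [Category.{v} C] [Abelian C]

lemma aux_zero₁ {D : Type*} [Category D] [Preadditive D] {X Y Z W V U : D}
    (a : X ⟶ Y) (b : Y ⟶ Z) (e : X ⟶ W) (m : W ⟶ Z) (d : Z ⟶ V) (c : V ⟶ U)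
    (h1 : a ≫ b = e ≫ m) (h2 : m ≫ d = 0) : a ≫ (b ≫ d ≫ c) = 0 := by
  rw [reassoc_of% h1, reassoc_of% h2]
  simp

lemma aux_zero₂ {D : Type*} [Category D] [Preadditive D] {X Y Z W V U : D}
    (b : X ⟶ Y) (d : Y ⟶ Z) (c : Z ⟶ W) (a : W ⟶ V) (m : Z ⟶ U) (e : U ⟶ V)
    (h1 : c ≫ a = m ≫ e) (h2 : d ≫ m = 0) : (b ≫ d ≫ c) ≫ a = 0 := by
  simp only [Category.assoc]
  rw [h1, reassoc_of% h2]
  simp

variable {F G : CochainComplex C ℤ} (φ : F ⟶ G)

/-- the connecting map `H^{n₀}(cone φ) → H^{n₁}(F)` -/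
noncomputable def coneδ (n₀ n₁ : ℤ) (h : n₀ + 1 = n₁) :
    (mappingCone φ).homology n₀ ⟶ F.homology n₁ :=
  (homologyFunctorFactors C (ComplexShape.up ℤ) n₀).inv.app (mappingCone φ) ≫
    (HomotopyCategory.homologyFunctor C (ComplexShape.up ℤ) 0).homologySequenceδ
      (mappingCone.triangleh φ) n₀ n₁ h ≫
    (homologyFunctorFactors C (ComplexShape.up ℤ) n₁).hom.app F

lemma inr_coneδ (n₀ n₁ : ℤ) (h : n₀ + 1 = n₁) :
    HomologicalComplex.homologyMap (mappingCone.inr φ) n₀ ≫ coneδ φ n₀ n₁ h = 0 := by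
  have h0 := (HomotopyCategory.homologyFunctor C (ComplexShape.up ℤ) 0).comp_homologySequenceδ
    (mappingCone.triangleh φ) (mappingCone_triangleh_distinguished φ) n₀ n₁ h
  have nat := (homologyFunctorFactors C (ComplexShape.up ℤ) n₀).inv.naturality (mappingCone.inr φ)
  exact aux_zero₁ _ _ _ _ _ _ nat h0

lemma coneδ_comp (n₀ n₁ : ℤ) (h : n₀ + 1 = n₁) :
    coneδ φ n₀ n₁ h ≫ HomologicalComplex.homologyMap φ n₁ = 0 := by
  have h0 := (HomotopyCategory.homologyFunctor C (ComplexShape.up ℤ) 0).homologySequenceδ_comp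
    (mappingCone.triangleh φ) (mappingCone_triangleh_distinguished φ) n₀ n₁ h
  have nat := (homologyFunctorFactors C (ComplexShape.up ℤ) n₁).hom.naturality φ
  exact aux_zero₂ _ _ _ _ _ _ nat.symm h0

/-- exactness of `H^{n₀}(G) → H^{n₀}(cone φ) → H^{n₁}(F)` -/
theorem cone_homology_exact₃ (n₀ n₁ : ℤ) (h : n₀ + 1 = n₁) :
    (ShortComplex.mk _ _ (inr_coneδ φ n₀ n₁ h)).Exact := by
  have hex := (HomotopyCategory.homologyFunctor C (ComplexShape.up ℤ) 0).homologySequence_exact₃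
    (mappingCone.triangleh φ) (mappingCone_triangleh_distinguished φ) n₀ n₁ h
  refine (ShortComplex.exact_iff_of_iso ?_).mp hex
  refine ShortComplex.isoMk
    ((homologyFunctorFactors C (ComplexShape.up ℤ) n₀).app G)
    ((homologyFunctorFactors C (ComplexShape.up ℤ) n₀).app (mappingCone φ))
    ((homologyFunctorFactors C (ComplexShape.up ℤ) n₁).app F) ?_ ?_
  · exact ((homologyFunctorFactors C (ComplexShape.up ℤ) n₀).hom.naturality
      (mappingCone.inr φ)).symm
  · exact (Iso.hom_inv_id_app_assoc (homologyFunctorFactors C (ComplexShape.up ℤ) n₀)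
      (mappingCone φ) _)

/-- exactness of `H^{n₀}(cone φ) → H^{n₁}(F) → H^{n₁}(G)` -/
theorem cone_homology_exact₁ (n₀ n₁ : ℤ) (h : n₀ + 1 = n₁) :
    (ShortComplex.mk _ _ (coneδ_comp φ n₀ n₁ h)).Exact := by
  have hex := (HomotopyCategory.homologyFunctor C (ComplexShape.up ℤ) 0).homologySequence_exact₁
    (mappingCone.triangleh φ) (mappingCone_triangleh_distinguished φ) n₀ n₁ h
  refine (ShortComplex.exact_iff_of_iso ?_).mp hex
  refine ShortComplex.isoMk
    ((homologyFunctorFactors C (ComplexShape.up ℤ) n₀).app (mappingCone φ))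
    ((homologyFunctorFactors C (ComplexShape.up ℤ) n₁).app F)
    ((homologyFunctorFactors C (ComplexShape.up ℤ) n₁).app G) ?_ ?_
  · exact (Iso.hom_inv_id_app_assoc (homologyFunctorFactors C (ComplexShape.up ℤ) n₀)
      (mappingCone φ) _)
  · exact ((homologyFunctorFactors C (ComplexShape.up ℤ) n₁).hom.naturality φ).symm

section ModuleCat

universe w

variable {A : Type w} [CommRing A] {F G : CochainComplex (ModuleCat.{w} A) ℤ} (φ : F ⟶ G)

/-- If `H^{n₀}(G) = 0` then `H^{n₀}(cone φ) ≃ ker (H^{n₁}(F) → H^{n₁}(G))`. -/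
theorem cone_homology_equiv_ker (n₀ n₁ : ℤ) (h : n₀ + 1 = n₁) (hG : IsZero (G.homology n₀)) :
    Nonempty (((mappingCone φ).homology n₀) ≃ₗ[A]
      LinearMap.ker (HomologicalComplex.homologyMap φ n₁).hom) := by
  have h3 := cone_homology_exact₃ φ n₀ n₁ h
  have h1 := cone_homology_exact₁ φ n₀ n₁ h
  have hmono : Mono (coneδ φ n₀ n₁ h) := by
    have := h3.mono_g_iff
    exact this.mpr (hG.eq_of_src _ _)
  have hinj : Function.Injective (coneδ φ n₀ n₁ h).hom := (ModuleCat.mono_iff_injective _).mp hmono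
  have hr := h1.moduleCat_range_eq_ker
  exact ⟨(LinearEquiv.ofInjective _ hinj).trans (LinearEquiv.ofEq _ _ hr)⟩

end ModuleCat

end Groth.Agent.Lib.Helper21
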