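import Mathlib.Algebra.Homology.HomotopyCategory.MappingCone
import Mathlib.Algebra.Homology.Linear
import Mathlib.Algebra.Homology.Homotopy

/-!
# Null-homotopies on mapping cones of `f • 𝟙` (helper21)
-/

namespace Groth.Agent.Lib.Helper21

open CategoryTheory CategoryTheory.Limits CochainComplex HomComplex

universe v u w

variable {C : Type u} [Category.{v} C] [Preadditive C] [HasBinaryBiproducts C]
  {R : Type w} [CommRing R] [Linear R C]

omit [HasBinaryBiproducts C] in
lemma ofHom_smul' {F G : CochainComplex C ℤ} (a : R) (φ : F ⟶ G) :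
    Cochain.ofHom (a • φ) = a • Cochain.ofHom φ := by
  ext p
  simp

/-- `f • 𝟙` is null-homotopic on the cone of `f • 𝟙 K`. -/
noncomputable def coneSelfHomotopy (K : CochainComplex C ℤ) (f : R) :
    Homotopy (f • 𝟙 (mappingCone (f • 𝟙 K))) 0 :=
  mappingCone.descHomotopy _ _ _ 0 (mappingCone.inl _)
    (by
      simp [ofHom_smul'])
    (by
      simp [ofHom_smul', mappingCone.δ_inl])

/-- A null-homotopy of `x • 𝟙 K` induces one of `x • 𝟙` on the cone of `f • 𝟙 K`. -/
noncomputable def coneHomotopy (K : CochainComplex C ℤ) (f x : R)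
    (H : Homotopy (x • 𝟙 K) 0) :
    Homotopy (x • 𝟙 (mappingCone (f • 𝟙 K))) 0 :=
  mappingCone.descHomotopy _ _ _
    (-((Cochain.ofHomotopy H).comp (mappingCone.inl (f • 𝟙 K)) (by norm_num)))
    ((Cochain.ofHomotopy H).comp (Cochain.ofHom (mappingCone.inr (f • 𝟙 K))) (add_zero _))
    (by
      have h1 := δ_comp (Cochain.ofHomotopy H) (mappingCone.inl (f • 𝟙 K))
        (show (-1 : ℤ) + (-1) = -2 by norm_num) 0 0 (-1) (by norm_num) (by norm_num) (by norm_num)
      simp only [δ_neg, h1, mappingCone.δ_inl, δ_ofHomotopy]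
      simp [ofHom_smul'])
    (by
      simp [ofHom_smul'])

end Groth.Agent.Lib.Helper21
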