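import Groth.Agent.Lib.Helper21KoszulFun
import Groth.Agent.Lib.Helper21ConeLES2
import Groth.Agent.Lib.Helper21Koszul
import Mathlib.Algebra.Homology.ShortComplex.Linear
import Mathlib.Algebra.Homology.SingleHomology
import Mathlib.Algebra.Homology.HomologySequence
import Mathlib.Algebra.Module.Torsion.Basic

/-!
# Koszul cohomology (iterated cones): degrees, bottom cohomology, annihilation, LES (helper21)
-/

namespace Groth.Agent.Lib.Helper21

open CategoryTheory CategoryTheory.Limits CochainComplex HomComplex Pointwise CohIII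

universe u

variable {A : Type u} [CommRing A]

lemma homologyMap_smul' {K L : CochainComplex (ModuleCat.{u} A) ℤ}
    (a : A) (φ : K ⟶ L) (i : ℤ) :
    HomologicalComplex.homologyMap (a • φ) i = a • HomologicalComplex.homologyMap φ i := by
  have h : (HomologicalComplex.shortComplexFunctor (ModuleCat.{u} A) (ComplexShape.up ℤ) i).map
      (a • φ) = a • (HomologicalComplex.shortComplexFunctor (ModuleCat.{u} A)
        (ComplexShape.up ℤ) i).map φ := rfl
  show ShortComplex.homologyMap ((HomologicalComplex.shortComplexFunctor (ModuleCat.{u} A)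
    (ComplexShape.up ℤ) i).map (a • φ)) = a • ShortComplex.homologyMap
    ((HomologicalComplex.shortComplexFunctor (ModuleCat.{u} A) (ComplexShape.up ℤ) i).map φ)
  rw [h]
  exact ShortComplex.homologyMap_smul _ _

lemma isZero_koszulCx_X_pos (M : ModuleCat.{u} A) :
    ∀ (fs : List A) (n : ℤ), 0 < n → IsZero ((koszulCx M fs).X n)
  | [], n, hn => HomologicalComplex.isZero_single_obj_X (ComplexShape.up ℤ) 0 M n hn.ne'
  | f :: fs, n, hn => by
    show IsZero ((mappingCone (f • 𝟙 (koszulCx M fs))).X n)
    rw [mappingCone.isZero_X_iff]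
    exact ⟨isZero_koszulCx_X_pos M fs (n + 1) (by omega), isZero_koszulCx_X_pos M fs n hn⟩

lemma isZero_koszulCx_X_neg (M : ModuleCat.{u} A) :
    ∀ (fs : List A) (n : ℤ), n < -(fs.length : ℤ) → IsZero ((koszulCx M fs).X n)
  | [], n, hn => HomologicalComplex.isZero_single_obj_X (ComplexShape.up ℤ) 0 M n (by
      simp at hn; omega)
  | f :: fs, n, hn => by
    show IsZero ((mappingCone (f • 𝟙 (koszulCx M fs))).X n)
    rw [mappingCone.isZero_X_iff]
    simp only [List.length_cons, Nat.cast_add, Nat.cast_one] at hn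
    exact ⟨isZero_koszulCx_X_neg M fs (n + 1) (by omega),
      isZero_koszulCx_X_neg M fs n (by omega)⟩

lemma isZero_homology_of_isZero_X (K : CochainComplex (ModuleCat.{u} A) ℤ) (n : ℤ)
    (h : IsZero (K.X n)) : IsZero (K.homology n) := by
  rw [← HomologicalComplex.exactAt_iff_isZero_homology]
  exact HomologicalComplex.ExactAt.of_isZero h

/-- elements of the ideal kill Koszul cohomology -/
lemma smul_homology_eq_zero (M : ModuleCat.{u} A) (xs : List A) (a : A)
    (H : Nonempty (Homotopy (a • 𝟙 (koszulCx M xs)) 0)) (i : ℤ) :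
    HomologicalComplex.homologyMap (a • 𝟙 (koszulCx M xs)) i = 0 := by
  obtain ⟨H⟩ := H
  rw [H.homologyMap_eq i]
  simp

lemma mem_torsion_cons {M : Type u} [AddCommGroup M] [Module A M]
    {N : Type u} [AddCommGroup N] [Module A N] (f : A) (fs : List A)
    (e : N ≃ₗ[A] Submodule.torsionBySet A M {x | x ∈ fs})
    (x : LinearMap.ker (f • LinearMap.id : N →ₗ[A] N)) :
    (e x.1 : M) ∈ Submodule.torsionBySet A M {x | x ∈ f :: fs} := by
  rw [Submodule.mem_torsionBySet_iff]
  rintro ⟨a, ha⟩
  rcases List.mem_cons.mp ha with rfl | ha'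
  · have hx : a • x.1 = 0 := by
      exact LinearMap.mem_ker.mp x.2
    show a • (e x.1 : M) = 0
    rw [← Submodule.coe_smul, ← map_smul, hx, map_zero, Submodule.coe_zero]
  · exact (Submodule.mem_torsionBySet_iff _ _).mp (e x.1).2 ⟨a, ha'⟩

/-- kernel of `f` on a module equivalent to a torsion submodule -/
noncomputable def kerSMulMap {M : Type u} [AddCommGroup M] [Module A M]
    {N : Type u} [AddCommGroup N] [Module A N] (f : A) (fs : List A)
    (e : N ≃ₗ[A] Submodule.torsionBySet A M {x | x ∈ fs}) :
    LinearMap.ker (f • LinearMap.id : N →ₗ[A] N) →ₗ[A]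
      Submodule.torsionBySet A M {x | x ∈ f :: fs} where
  toFun x := ⟨(e x.1 : M), mem_torsion_cons f fs e x⟩
  map_add' x y := by
    ext
    simp
  map_smul' c x := by
    ext
    simp

lemma kerSMulMap_bijective {M : Type u} [AddCommGroup M] [Module A M]
    {N : Type u} [AddCommGroup N] [Module A N] (f : A) (fs : List A)
    (e : N ≃ₗ[A] Submodule.torsionBySet A M {x | x ∈ fs}) :
    Function.Bijective (kerSMulMap f fs e) := by
  constructor
  · intro x y hxy
    have : (e x.1 : M) = (e y.1 : M) :=
      congrArg (fun z : Submodule.torsionBySet A M {x | x ∈ f :: fs} => (z : M)) hxy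
    exact Subtype.ext (e.injective (Subtype.ext this))
  · intro y
    have hy : (y : M) ∈ Submodule.torsionBySet A M {x | x ∈ fs} := by
      rw [Submodule.mem_torsionBySet_iff]
      rintro ⟨a, ha⟩
      exact (Submodule.mem_torsionBySet_iff _ _).mp y.2 ⟨a, List.mem_cons_of_mem _ ha⟩
    have hf : f • (y : M) = 0 :=
      (Submodule.mem_torsionBySet_iff _ _).mp y.2 ⟨f, List.mem_cons_self⟩
    refine ⟨⟨e.symm ⟨y, hy⟩, ?_⟩, ?_⟩
    · simp only [LinearMap.mem_ker, LinearMap.smul_apply, LinearMap.id_coe, id_eq]
      rw [← map_smul]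
      have : f • (⟨y, hy⟩ : Submodule.torsionBySet A M {x | x ∈ fs}) = 0 := Subtype.ext hf
      rw [this, map_zero]
    · ext
      simp [kerSMulMap]

/-- bottom Koszul cohomology is the torsion submodule -/
theorem bottom_equiv (M : Type u) [AddCommGroup M] [Module A M] :
    ∀ (fs : List A) (n : ℤ), n = -(fs.length : ℤ) →
      Nonempty (((koszulCx (ModuleCat.of A M) fs).homology n) ≃ₗ[A]
        Submodule.torsionBySet A M {x | x ∈ fs})
  | [], n, hn => by
    simp only [List.length_nil, Nat.cast_zero, neg_zero] at hn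
    subst hn
    have e := (HomologicalComplex.singleObjHomologySelfIso (ComplexShape.up ℤ) 0
      (ModuleCat.of A M)).toLinearEquiv
    have htop : Submodule.torsionBySet A M {x | x ∈ ([] : List A)} = ⊤ := by
      rw [eq_top_iff]
      intro x _
      rw [Submodule.mem_torsionBySet_iff]
      rintro ⟨a, ha⟩
      simp at ha
    exact ⟨e.trans ((LinearEquiv.ofTop _ htop).symm)⟩
  | f :: fs, n, hn => by
    simp only [List.length_cons, Nat.cast_add, Nat.cast_one] at hn
    obtain ⟨e⟩ := bottom_equiv M fs (n + 1) (by omega)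
    have hG : IsZero ((koszulCx (ModuleCat.of A M) fs).homology n) :=
      isZero_homology_of_isZero_X _ n (isZero_koszulCx_X_neg _ fs n (by omega))
    obtain ⟨e1⟩ := cone_homology_equiv_ker (f • 𝟙 (koszulCx (ModuleCat.of A M) fs)) n (n + 1) rfl hG
    have hker : LinearMap.ker (HomologicalComplex.homologyMap
        (f • 𝟙 (koszulCx (ModuleCat.of A M) fs)) (n + 1)).hom =
        LinearMap.ker (f • LinearMap.id :
          ((koszulCx (ModuleCat.of A M) fs).homology (n + 1)) →ₗ[A] _) := by
      rw [homologyMap_smul', HomologicalComplex.homologyMap_id]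
      rfl
    exact ⟨e1.trans ((LinearEquiv.ofEq _ _ hker).trans
      (LinearEquiv.ofBijective _ (kerSMulMap_bijective f fs e)))⟩

end Groth.Agent.Lib.Helper21
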