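import Mathlib
import Groth.Prelude.Def_Koszul
import Groth.Prelude.Def_DRing2
import Groth.Agent.Lib.Helper21KoszulFun
import Groth.Agent.Lib.Helper21ConeLES2
import Groth.Agent.Lib.Helper21Koszul
import Groth.Agent.Lib.Helper21KoszulDepth
import Groth.Agent.S14433

/-!
# Koszul Euler characteristics: comparison of `DRing.tensorCx (Koszul.koszul A l) M` with
`CohIII.koszulCx M l`, and the length form of the mapping-cone long exact sequence (helper13)
-/

set_option autoImplicit false

namespace Groth.Agent.Helper13Kz
open CategoryTheory CochainComplex MonoidalCategory CohIII Pointwise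
open Groth.Agent.Lib.Helper21

universe u
variable {A : Type u} [CommRing A]


/-- iso of mapping cones induced by an iso of the source/target complexes -/
noncomputable def coneIso {K L : CochainComplex (ModuleCat.{u} A) ℤ} (e : K ≅ L) (f : A) :
    mappingCone (f • 𝟙 K) ≅ mappingCone (f • 𝟙 L) where
  hom := mappingCone.map _ _ e.hom e.hom (by simp)
  inv := mappingCone.map _ _ e.inv e.inv (by simp)
  hom_inv_id := by
    rw [← mappingCone.map_comp]
    simp [mappingCone.map_id]
  inv_hom_id := by
    rw [← mappingCone.map_comp]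
    simp [mappingCone.map_id]

lemma map_smul_id (M : ModuleCat.{u} A) (K : CochainComplex (ModuleCat.{u} A) ℤ) (f : A) :
    ((tensorRight M).mapHomologicalComplex (ComplexShape.up ℤ)).map (f • 𝟙 K) =
      f • 𝟙 (DRing.tensorCx K M) := by
  rw [Functor.map_smul, CategoryTheory.Functor.map_id]
  rfl

noncomputable def tensorIso (M : ModuleCat.{u} A) : ∀ l : List A,
    DRing.tensorCx (Koszul.koszul A l) M ≅ CohIII.koszulCx M l
  | [] => ((HomologicalComplex.singleMapHomologicalComplex (tensorRight M) (ComplexShape.up ℤ) 0).app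
      (ModuleCat.of A A)) ≪≫
      (HomologicalComplex.single (ModuleCat.{u} A) (ComplexShape.up ℤ) 0).mapIso (λ_ M)
  | f :: l =>
      (mappingCone.mapHomologicalComplexIso (f • 𝟙 (Koszul.koszul A l)) (tensorRight M)) ≪≫
      (eqToIso (by rw [map_smul_id]; rfl)) ≪≫ coneIso (tensorIso M l) f

/-- Koszul homology lengths agree -/
theorem length_homology_eq (l : List A) (M : Type u) [AddCommGroup M] [Module A M] (i : ℤ) :
    Module.length A ((DRing.tensorCx (Koszul.koszul A l) (ModuleCat.of A M)).homology i) =
      Module.length A ((CohIII.koszulCx (ModuleCat.of A M) l).homology i) := by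
  have e := (HomologicalComplex.homologyFunctor (ModuleCat.{u} A) (ComplexShape.up ℤ) i).mapIso
    (tensorIso (ModuleCat.of A M) l)
  exact LinearEquiv.length_eq e.toLinearEquiv



section General
variable {X Y Z W V : Type*} [AddCommGroup X] [Module A X] [AddCommGroup Y] [Module A Y]
  [AddCommGroup Z] [Module A Z] [AddCommGroup W] [Module A W] [AddCommGroup V] [Module A V]

lemma length_eq_ker_add_range (g : X →ₗ[A] Y) :
    Module.length A X = Module.length A (LinearMap.ker g) + Module.length A (LinearMap.range g) :=
  Module.length_eq_add_of_exact (LinearMap.ker g).subtype g.rangeRestrict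
    (Submodule.subtype_injective _) g.surjective_rangeRestrict
    (by
      intro z
      simp only [Set.mem_range, Submodule.subtype_apply, Subtype.exists, LinearMap.mem_ker,
        exists_prop, exists_eq_right]
      constructor
      · intro h
        exact congrArg Subtype.val h
      · intro h
        exact Subtype.ext h)

lemma length_range_eq_quot (f₁ : X →ₗ[A] Y) (g : Y →ₗ[A] Z) (h1 : Function.Exact f₁ g) :
    Module.length A (LinearMap.range g) = Module.length A (Y ⧸ LinearMap.range f₁) := by
  have e : (Y ⧸ LinearMap.ker g) ≃ₗ[A] LinearMap.range g := LinearMap.quotKerEquivRange g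
  have hk : LinearMap.ker g = LinearMap.range f₁ := (LinearMap.exact_iff.mp h1)
  rw [← e.length_eq, hk]

/-- length of the middle term of a five term exact sequence -/
lemma length_of_exact5 (f₁ : X →ₗ[A] Y) (g : Y →ₗ[A] Z) (δ : Z →ₗ[A] W) (f₂ : W →ₗ[A] V)
    (h1 : Function.Exact f₁ g) (h2 : Function.Exact g δ) (h3 : Function.Exact δ f₂) :
    Module.length A Z = Module.length A (Y ⧸ LinearMap.range f₁) +
      Module.length A (LinearMap.ker f₂) := by
  rw [length_eq_ker_add_range δ, LinearMap.exact_iff.mp h2, length_range_eq_quot f₁ g h1,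
    ← LinearMap.exact_iff.mp h3]

end General



/-- Koszul cohomology modules (iterated cone model) -/
noncomputable abbrev KH (l : List A) (M : Type u) [AddCommGroup M] [Module A M] (i : ℤ) :
    ModuleCat.{u} A :=
  (koszulCx (ModuleCat.of A M) l).homology i

lemma homologyMap_smul_id_hom (K : CochainComplex (ModuleCat.{u} A) ℤ) (x : A) (i : ℤ) :
    (HomologicalComplex.homologyMap (x • 𝟙 K) i).hom =
      x • (LinearMap.id : K.homology i →ₗ[A] K.homology i) := by
  rw [homologyMap_smul', HomologicalComplex.homologyMap_id]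
  rfl

/-- the cone long exact sequence in linear form -/
theorem cone_les (K : CochainComplex (ModuleCat.{u} A) ℤ) (x : A) (i : ℤ) :
    ∃ (g : K.homology i →ₗ[A] (mappingCone (x • 𝟙 K)).homology i)
      (δ : (mappingCone (x • 𝟙 K)).homology i →ₗ[A] K.homology (i + 1)),
      Function.Exact (x • (LinearMap.id : K.homology i →ₗ[A] K.homology i)) g ∧
      Function.Exact g δ ∧
      Function.Exact δ (x • (LinearMap.id : K.homology (i + 1) →ₗ[A] K.homology (i + 1))) := by
  have h2 := cone_homology_exact₂ (x • 𝟙 K) i
  have h3 := cone_homology_exact₃ (x • 𝟙 K) i (i + 1) rfl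
  have h1 := cone_homology_exact₁ (x • 𝟙 K) i (i + 1) rfl
  rw [ShortComplex.ShortExact.moduleCat_exact_iff_function_exact] at h1 h2 h3
  refine ⟨(HomologicalComplex.homologyMap (mappingCone.inr (x • 𝟙 K)) i).hom,
    (coneδ (x • 𝟙 K) i (i + 1) rfl).hom, ?_, h3, ?_⟩
  · rw [← homologyMap_smul_id_hom]
    exact h2
  · rw [← homologyMap_smul_id_hom]
    exact h1



lemma range_smul_id {N : Type*} [AddCommGroup N] [Module A N] (x : A) :
    LinearMap.range (x • (LinearMap.id : N →ₗ[A] N)) = x • (⊤ : Submodule A N) := by
  ext z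
  rw [Submodule.mem_smul_pointwise_iff_exists]
  constructor
  · rintro ⟨y, rfl⟩
    exact ⟨y, trivial, rfl⟩
  · rintro ⟨y, -, rfl⟩
    exact ⟨y, rfl⟩

lemma ker_smul_id {N : Type*} [AddCommGroup N] [Module A N] (x : A) :
    LinearMap.ker (x • (LinearMap.id : N →ₗ[A] N)) = Submodule.torsionBy A N x := by
  ext z
  simp [Submodule.mem_torsionBy_iff]

/-- the first recursion, for lengths -/
theorem length_cone (K : CochainComplex (ModuleCat.{u} A) ℤ) (x : A) (i : ℤ) :
    Module.length A ((mappingCone (x • 𝟙 K)).homology i) =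
      Module.length A (QuotSMulTop x (K.homology i)) +
      Module.length A (Submodule.torsionBy A (K.homology (i + 1)) x) := by
  obtain ⟨g, δ, h1, h2, h3⟩ := cone_les K x i
  rw [length_of_exact5 _ g δ _ h1 h2 h3, range_smul_id, ker_smul_id]

theorem length_KH_cons (l : List A) (x : A) (M : Type u) [AddCommGroup M] [Module A M] (i : ℤ) :
    Module.length A (KH (x :: l) M i) =
      Module.length A (QuotSMulTop x (KH l M i)) +
      Module.length A (Submodule.torsionBy A (KH l M (i + 1)) x) :=
  length_cone _ x i



section Basic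
variable (M : Type u) [AddCommGroup M] [Module A M]

theorem subsingleton_KH_of_pos (l : List A) (i : ℤ) (hi : 0 < i) : Subsingleton (KH l M i) :=
  ModuleCat.subsingleton_of_isZero
    (isZero_homology_of_isZero_X _ i (isZero_koszulCx_X_pos _ l i hi))

theorem subsingleton_KH_of_lt (l : List A) (i : ℤ) (hi : i < -(l.length : ℤ)) :
    Subsingleton (KH l M i) :=
  ModuleCat.subsingleton_of_isZero
    (isZero_homology_of_isZero_X _ i (isZero_koszulCx_X_neg _ l i hi))

theorem subsingleton_KH_nil (i : ℤ) (hi : i ≠ 0) : Subsingleton (KH ([] : List A) M i) := by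
  rcases lt_or_gt_of_ne hi with h | h
  · exact subsingleton_KH_of_lt M [] i (by simpa using h)
  · exact subsingleton_KH_of_pos M [] i h

/-- base case -/
noncomputable def KHnilEquiv : KH ([] : List A) M 0 ≃ₗ[A] M :=
  (HomologicalComplex.singleObjHomologySelfIso (ComplexShape.up ℤ) 0
      (ModuleCat.of A M)).toLinearEquiv

theorem smul_KH_eq_zero_of_mem (l : List A) (a : A) (ha : a ∈ Ideal.span {x | x ∈ l}) (i : ℤ)
    (z : KH l M i) : a • z = 0 := by
  have h := smul_homology_eq_zero (ModuleCat.of A M) l a
    (Groth.Agent.S14433.key2 (ModuleCat.of A M) l a ha) i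
  have h2 := homologyMap_smul_id_hom (koszulCx (ModuleCat.of A M) l) a i
  rw [h] at h2
  have h3 : (0 : KH l M i →ₗ[A] KH l M i) z = (a • (LinearMap.id : KH l M i →ₗ[A] KH l M i)) z :=
    congrArg (fun φ => φ z) h2
  rw [LinearMap.zero_apply, LinearMap.smul_apply, LinearMap.id_apply] at h3
  exact h3.symm

theorem smul_KH_eq_zero_of_ann (l : List A) (a : A) (ha : ∀ m : M, a • m = 0) (i : ℤ)
    (z : KH l M i) : a • z = 0 := by
  have h0 : (a • 𝟙 (ModuleCat.of A M) : ModuleCat.of A M ⟶ ModuleCat.of A M) =
      (0 : A) • 𝟙 (ModuleCat.of A M) := by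
    ext m
    simpa using ha m
  have h1 : a • 𝟙 (koszulCx (ModuleCat.of A M) l) = 0 := by
    rw [← koszulMap_smul_id, h0, koszulMap_smul_id, zero_smul]
  have h2 := homologyMap_smul_id_hom (koszulCx (ModuleCat.of A M) l) a i
  rw [h1, HomologicalComplex.homologyMap_zero] at h2
  have h3 : (0 : KH l M i →ₗ[A] KH l M i) z = (a • (LinearMap.id : KH l M i →ₗ[A] KH l M i)) z :=
    congrArg (fun φ => φ z) h2
  rw [LinearMap.zero_apply, LinearMap.smul_apply, LinearMap.id_apply] at h3
  exact h3.symm

end Basic



section Noeth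

theorem isNoetherian_cone [IsNoetherianRing A] (K : CochainComplex (ModuleCat.{u} A) ℤ) (x : A)
    (h : ∀ i, IsNoetherian A (K.homology i)) (i : ℤ) :
    IsNoetherian A ((mappingCone (x • 𝟙 K)).homology i) := by
  obtain ⟨g, δ, h1, h2, h3⟩ := cone_les K x i
  have := h i
  have := h (i + 1)
  exact isNoetherian_of_range_eq_ker g δ (LinearMap.exact_iff.mp h2).symm

theorem isNoetherian_KH [IsNoetherianRing A] (M : Type u) [AddCommGroup M] [Module A M]
    [Module.Finite A M] : ∀ (l : List A) (i : ℤ), IsNoetherian A (KH l M i)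
  | [], i => by
    by_cases hi : i = 0
    · subst hi
      have : IsNoetherian A M := isNoetherian_of_isNoetherianRing_of_finite A M
      exact isNoetherian_of_linearEquiv
        ((HomologicalComplex.singleObjHomologySelfIso (ComplexShape.up ℤ) 0
          (ModuleCat.of A M)).toLinearEquiv).symm
    · have : Subsingleton (KH ([] : List A) M i) := by
        rcases lt_or_gt_of_ne hi with h | h
        · exact ModuleCat.subsingleton_of_isZero
            (isZero_homology_of_isZero_X _ i (isZero_koszulCx_X_neg _ [] i (by simpa using h)))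
        · exact ModuleCat.subsingleton_of_isZero
            (isZero_homology_of_isZero_X _ i (isZero_koszulCx_X_pos _ [] i h))
      infer_instance
  | x :: l, i => isNoetherian_cone _ x (fun j => isNoetherian_KH M l j) i

end Noeth



section Num
variable {M' M M'' : Type u} [AddCommGroup M'] [Module A M'] [AddCommGroup M] [Module A M]
  [AddCommGroup M''] [Module A M'']

/-- the map on Koszul cohomology induced by a linear map -/
noncomputable def KHmap (l : List A) (f : M' →ₗ[A] M) (i : ℤ) : KH l M' i →ₗ[A] KH l M i :=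
  (HomologicalComplex.homologyMap (koszulMap (ModuleCat.ofHom f) l) i).hom

/-- the long exact sequence of Koszul cohomology for a short exact sequence of modules -/
theorem ses_les (l : List A) (f : M' →ₗ[A] M) (g : M →ₗ[A] M'') (hf : Function.Injective f)
    (hg : Function.Surjective g) (hfg : Function.Exact f g) (i : ℤ) :
    ∃ δ : KH l M'' i →ₗ[A] KH l M' (i + 1),
      Function.Exact (KHmap l f i) (KHmap l g i) ∧ Function.Exact (KHmap l g i) δ ∧
      Function.Exact δ (KHmap l f (i + 1)) := by
  have hS := koszul_shortExact (ModuleCat.ofHom f) (ModuleCat.ofHom g) hf hg hfg l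
  have h1 := hS.homology_exact₁ i (i + 1) rfl
  have h2 := hS.homology_exact₂ i
  have h3 := hS.homology_exact₃ i (i + 1) rfl
  rw [ShortComplex.ShortExact.moduleCat_exact_iff_function_exact] at h1 h2 h3
  exact ⟨(hS.δ i (i + 1) rfl).hom, h2, h3, h1⟩

lemma KHmap_smul_id (l : List A) (x : A) (i : ℤ) :
    KHmap l (x • (LinearMap.id : M →ₗ[A] M)) i = x • LinearMap.id := by
  have h : ModuleCat.ofHom (x • (LinearMap.id : M →ₗ[A] M)) = x • 𝟙 (ModuleCat.of A M) := rfl
  unfold KHmap
  rw [h, koszulMap_smul_id, homologyMap_smul_id_hom]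

theorem length_KH_le_add (l : List A) (f : M' →ₗ[A] M) (g : M →ₗ[A] M'')
    (hf : Function.Injective f) (hg : Function.Surjective g) (hfg : Function.Exact f g) (i : ℤ) :
    Module.length A (KH l M i) ≤ Module.length A (KH l M' i) + Module.length A (KH l M'' i) := by
  obtain ⟨δ, h1, h2, h3⟩ := ses_les l f g hf hg hfg i
  rw [length_eq_ker_add_range (KHmap l g i), LinearMap.exact_iff.mp h1]
  gcongr
  · exact Module.length_le_of_surjective _ (KHmap l f i).surjective_rangeRestrict
  · exact Module.length_le_of_injective _ (Submodule.subtype_injective _)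

/-- second recursion, regular case -/
theorem length_KH_cons_of_regular (l : List A) (x : A) (hx : IsSMulRegular M x) (i : ℤ) :
    Module.length A (KH (x :: l) M i) = Module.length A (KH l (QuotSMulTop x M) i) := by
  have hex : Function.Exact (x • (LinearMap.id : M →ₗ[A] M))
      (Submodule.mkQ (x • (⊤ : Submodule A M))) := by
    rw [LinearMap.exact_iff, Submodule.ker_mkQ, range_smul_id]
  obtain ⟨δ, h1, h2, h3⟩ := ses_les l (x • (LinearMap.id : M →ₗ[A] M))
    (Submodule.mkQ (x • (⊤ : Submodule A M))) hx (Submodule.mkQ_surjective _) hex i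
  rw [KHmap_smul_id] at h1 h3
  rw [length_KH_cons, length_of_exact5 _ _ δ _ h1 h2 h3, range_smul_id, ker_smul_id]

lemma length_quotSMulTop_of_smul_eq_zero {N : Type*} [AddCommGroup N] [Module A N] (x : A)
    (h : ∀ z : N, x • z = 0) : Module.length A (QuotSMulTop x N) = Module.length A N := by
  have hb : x • (⊤ : Submodule A N) = ⊥ := by
    rw [eq_bot_iff]
    intro z hz
    rw [Submodule.mem_smul_pointwise_iff_exists] at hz
    obtain ⟨y, -, rfl⟩ := hz
    simp [h y]
  exact (Submodule.quotEquivOfEqBot _ hb).length_eq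

lemma length_torsionBy_of_smul_eq_zero {N : Type*} [AddCommGroup N] [Module A N] (x : A)
    (h : ∀ z : N, x • z = 0) :
    Module.length A (Submodule.torsionBy A N x) = Module.length A N := by
  have ht : Submodule.torsionBy A N x = ⊤ := by
    rw [eq_top_iff]
    intro z _
    exact (Submodule.mem_torsionBy_iff _ _).mpr (h z)
  rw [ht]
  exact Module.length_top

end Num


end Groth.Agent.Helper13Kz
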