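import Groth.Agent.Lib.Helper13KzPow

/-!
# Length bounds for Koszul homology of powers (helper13)
-/

set_option autoImplicit false

namespace Groth.Agent.Helper13Kz
open CategoryTheory CochainComplex MonoidalCategory CohIII Pointwise TensorProduct
open Groth.Agent.Lib.Helper21

universe u
variable {A : Type u} [CommRing A]

section Bound
variable {M : Type u} [AddCommGroup M] [Module A M]

lemma subsingleton_quotSMulTop_one (N : Type u) [AddCommGroup N] [Module A N] :
    Subsingleton (QuotSMulTop (1 : A) N) := by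
  refine ⟨fun a b => ?_⟩
  obtain ⟨a, rfl⟩ := Submodule.Quotient.mk_surjective _ a
  obtain ⟨b, rfl⟩ := Submodule.Quotient.mk_surjective _ b
  rw [Submodule.Quotient.eq, Submodule.mem_smul_pointwise_iff_exists]
  exact ⟨a - b, trivial, one_smul _ _⟩

theorem length_KH_quot_pow_le (L : List A) (y : A) (hy : IsSMulRegular M y) (j : ℤ) :
    ∀ e : ℕ, Module.length A (KH L (QuotSMulTop (y ^ e) M) j) ≤
      (e : ℕ∞) * Module.length A (KH L (QuotSMulTop y M) j)
  | 0 => by
    have : Subsingleton (QuotSMulTop (y ^ 0) M) := by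
      rw [pow_zero]
      exact subsingleton_quotSMulTop_one M
    rw [length_KH_of_subsingleton]
    exact bot_le
  | e + 1 => by
    obtain ⟨f, g, hf, hg, hfg⟩ := quot_mul_ses M y (y ^ e) hy
    have h1 := length_KH_le_add L f g hf hg hfg j
    have h2 := length_KH_quot_pow_le L y hy j e
    have h3 : Module.length A (KH L (QuotSMulTop (y ^ (e + 1)) M) j) =
        Module.length A (KH L (QuotSMulTop (y * y ^ e) M) j) := by
      rw [pow_succ']
    rw [h3]
    refine le_trans h1 ?_
    push_cast
    rw [add_mul, one_mul]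
    gcongr

lemma map_pow_cons (y : A) (l : List A) (n : ℕ) :
    (y :: l).map (· ^ n) = y ^ n :: l.map (· ^ n) := rfl

theorem FLI.map_pow' {l : List A} (n : ℕ) (h : FLI (Ideal.span {a | a ∈ l}) M) :
    FLI (Ideal.span {a | a ∈ l.map (· ^ n)}) M := by
  intro p hp hI
  refine h p hp ?_
  rw [Ideal.span_le]
  intro a ha
  refine p.2.mem_of_pow_mem n (hI (Ideal.subset_span ?_))
  exact List.mem_map.mpr ⟨a, ha, rfl⟩

end Bound

end Groth.Agent.Helper13Kz

namespace Groth.Agent.Helper13Kz
open CategoryTheory CochainComplex MonoidalCategory CohIII Pointwise TensorProduct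
open Groth.Agent.Lib.Helper21

universe u
variable {A : Type u} [CommRing A]

theorem length_KH_pow_le_poly [IsNoetherianRing A] :
    ∀ (l : List A) (M : Type u) [AddCommGroup M] [Module A M] [Module.Finite A M],
      FLI (Ideal.span {a | a ∈ l}) M → ∀ j : ℤ, ∃ c : ℕ, ∀ n : ℕ, 0 < n →
        Module.length A (KH (l.map (· ^ n)) M j) ≤
          ((c * n ^ ((l.length : ℤ) + j).toNat : ℕ) : ℕ∞)
  | [], M, _, _, _, hfl, j => by
    by_cases hj : j = 0
    · subst hj
      refine ⟨(Module.length A M).toNat, fun n _ => ?_⟩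
      have hfin := isFiniteLength_of_FLI_nil M hfl
      have hne : Module.length A M ≠ ⊤ := Module.length_ne_top_iff.mpr hfin
      show Module.length A (KH ([] : List A) M 0) ≤ _
      rw [(KHnilEquiv M).length_eq]
      simp only [List.length_nil, Nat.cast_zero, add_zero, Int.toNat_zero, pow_zero, mul_one]
      rw [ENat.natCast_toNat hne]
    · refine ⟨0, fun n _ => ?_⟩
      have := subsingleton_KH_nil (A := A) M j hj
      show Module.length A (KH ([] : List A) M j) ≤ _
      rw [Module.length_eq_zero_iff.mpr this]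
      exact bot_le
  | y :: l, M, _, _, _, hfl, j => by
    have IH := length_KH_pow_le_poly l
    revert hfl
    refine IsNoetherianRing.induction_on_isQuotientEquivQuotientPrime A (M := M) inferInstance
      (motive := fun N _ _ _ => FLI (Ideal.span {a | a ∈ y :: l}) N →
        ∃ c : ℕ, ∀ n : ℕ, 0 < n → Module.length A (KH ((y :: l).map (· ^ n)) N j) ≤
          ((c * n ^ (((y :: l).length : ℤ) + j).toNat : ℕ) : ℕ∞)) ?_ ?_ ?_
    · intro N _ _ _ _ _
      refine ⟨0, fun n _ => ?_⟩
      rw [length_KH_of_subsingleton]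
      exact bot_le
    · intro N _ _ _ p e' hfl
      by_cases hz : y ∈ p.asIdeal
      · have h0 := smul_eq_zero_of_equiv_quot e' hz
        have hfl' : FLI (Ideal.span {a | a ∈ l}) N := hfl.of_smul_eq_zero h0
        obtain ⟨c1, hc1⟩ := IH N hfl' j
        obtain ⟨c2, hc2⟩ := IH N hfl' (j + 1)
        refine ⟨c1 + c2, fun n hn => ?_⟩
        have hkill : ∀ m : N, y ^ n • m = 0 := by
          intro m
          obtain ⟨k, rfl⟩ : ∃ k, n = k + 1 := ⟨n - 1, by omega⟩
          rw [pow_succ, mul_smul, h0, smul_zero]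
        rw [map_pow_cons, length_KH_cons_of_smul_eq_zero _ _ hkill]
        refine le_trans (add_le_add (hc1 n hn) (hc2 n hn)) ?_
        have e1 : ((l.length : ℤ) + j).toNat ≤ (((y :: l).length : ℤ) + j).toNat := by
          apply Int.toNat_le_toNat
          simp
        have e2 : ((l.length : ℤ) + (j + 1)).toNat = (((y :: l).length : ℤ) + j).toNat := by
          congr 1
          simp
          ring
        rw [e2]
        have hp := Nat.pow_le_pow_right hn e1
        have : c1 * n ^ ((l.length : ℤ) + j).toNat + c2 * n ^ (((y :: l).length : ℤ) + j).toNat ≤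
            (c1 + c2) * n ^ (((y :: l).length : ℤ) + j).toNat := by
          rw [add_mul]
          gcongr
        exact_mod_cast this
      · have hr := isSMulRegular_of_equiv_quot e' hz
        by_cases hjl : j < -(l.length : ℤ)
        · refine ⟨0, fun n hn => ?_⟩
          rw [map_pow_cons, length_KH_cons_of_regular _ _ (hr.pow n)]
          have := subsingleton_KH_of_lt (QuotSMulTop (y ^ n) N) (l.map (· ^ n)) j
            (by rwa [List.length_map])
          rw [Module.length_eq_zero_iff.mpr this]
          exact bot_le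
        · obtain ⟨c, hc⟩ := IH (QuotSMulTop y N) hfl.quotSMulTop j
          refine ⟨c, fun n hn => ?_⟩
          rw [map_pow_cons, length_KH_cons_of_regular _ _ (hr.pow n)]
          refine le_trans (length_KH_quot_pow_le _ y hr j n) ?_
          refine le_trans (mul_le_mul_right (hc n hn) _) ?_
          have e2 : (((y :: l).length : ℤ) + j).toNat = ((l.length : ℤ) + j).toNat + 1 := by
            rw [List.length_cons]
            push_cast
            omega
          rw [e2]
          have : n * (c * n ^ ((l.length : ℤ) + j).toNat) =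
              c * n ^ (((l.length : ℤ) + j).toNat + 1) := by
            rw [pow_succ]
            ring
          exact_mod_cast this.le
    · intro N₁ _ _ _ N₂ _ _ _ N₃ _ _ _ f g hf hg hfg h1 h3 hfl
      obtain ⟨c1, hc1⟩ := h1 (hfl.of_injective f hf)
      obtain ⟨c3, hc3⟩ := h3 (hfl.of_surjective g hg)
      refine ⟨c1 + c3, fun n hn => ?_⟩
      refine le_trans (length_KH_le_add _ f g hf hg hfg j) ?_
      refine le_trans (add_le_add (hc1 n hn) (hc3 n hn)) ?_
      rw [add_mul]
      push_cast
      rfl

lemma wb_le_of_succ_le {a : WithBot ℕ∞} {n : ℕ} (h : a + 1 ≤ ((n + 1 : ℕ) : WithBot ℕ∞)) :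
    a ≤ (n : WithBot ℕ∞) := by
  have h1 : a < ((n + 1 : ℕ) : WithBot ℕ∞) := wb_lt_of_succ_le h
  induction a with
  | bot => exact bot_le
  | coe m =>
    induction m with
    | top =>
      exfalso
      have h4 : ((n + 1 : ℕ) : WithBot ℕ∞) = (((n + 1 : ℕ) : ℕ∞) : WithBot ℕ∞) := rfl
      rw [h4, WithBot.coe_lt_coe] at h1
      exact absurd h1 (not_lt.mpr le_top)
    | coe m =>
      have h4 : ∀ k : ℕ, ((k : ℕ) : WithBot ℕ∞) = (((k : ℕ) : ℕ∞) : WithBot ℕ∞) := fun _ => rfl
      rw [h4, WithBot.coe_lt_coe, Nat.cast_lt] at h1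
      rw [h4, WithBot.coe_le_coe, Nat.cast_le]
      omega

lemma wb_eq_bot_of_succ_le_zero {a : WithBot ℕ∞} (h : a + 1 ≤ ((0 : ℕ) : WithBot ℕ∞)) :
    a = ⊥ := wb_lt_zero (wb_lt_of_succ_le h)

theorem length_KH_pow_le_dim [IsNoetherianRing A] [IsLocalRing A] :
    ∀ (l : List A), (∀ a ∈ l, a ∈ IsLocalRing.maximalIdeal A) →
      ∀ (d : ℕ) (M : Type u) [AddCommGroup M] [Module A M] [Module.Finite A M],
      FLI (Ideal.span {a | a ∈ l}) M → Module.supportDim A M ≤ (d : WithBot ℕ∞) →
      ∀ j : ℤ, ∃ c : ℕ, ∀ n : ℕ, 0 < n →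
        Module.length A (KH (l.map (· ^ n)) M j) ≤ ((c * n ^ d : ℕ) : ℕ∞)
  | [], _, d, M, _, _, _, hfl, _, j => by
    by_cases hj : j = 0
    · subst hj
      refine ⟨(Module.length A M).toNat, fun n hn => ?_⟩
      have hfin := isFiniteLength_of_FLI_nil M hfl
      have hne : Module.length A M ≠ ⊤ := Module.length_ne_top_iff.mpr hfin
      show Module.length A (KH ([] : List A) M 0) ≤ _
      rw [(KHnilEquiv M).length_eq]
      have h1 : (Module.length A M).toNat ≤ (Module.length A M).toNat * n ^ d :=
        Nat.le_mul_of_pos_right _ (Nat.pow_pos hn)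
      calc Module.length A M = (((Module.length A M).toNat : ℕ) : ℕ∞) :=
            (ENat.natCast_toNat hne).symm
        _ ≤ _ := by exact_mod_cast h1
    · refine ⟨0, fun n _ => ?_⟩
      have := subsingleton_KH_nil (A := A) M j hj
      show Module.length A (KH ([] : List A) M j) ≤ _
      rw [Module.length_eq_zero_iff.mpr this]
      exact bot_le
  | y :: l, hl, d, M, _, _, _, hfl, hdim, j => by
    have hl' : ∀ a ∈ l, a ∈ IsLocalRing.maximalIdeal A := fun a ha => hl a (List.mem_cons_of_mem _ ha)
    have IH := length_KH_pow_le_dim l hl'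
    have hym : y ∈ IsLocalRing.maximalIdeal A := hl y List.mem_cons_self
    revert hfl hdim
    refine IsNoetherianRing.induction_on_isQuotientEquivQuotientPrime A (M := M) inferInstance
      (motive := fun N _ _ _ => FLI (Ideal.span {a | a ∈ y :: l}) N →
        Module.supportDim A N ≤ (d : WithBot ℕ∞) →
        ∃ c : ℕ, ∀ n : ℕ, 0 < n → Module.length A (KH ((y :: l).map (· ^ n)) N j) ≤
          ((c * n ^ d : ℕ) : ℕ∞)) ?_ ?_ ?_
    · intro N _ _ _ _ _ _
      refine ⟨0, fun n _ => ?_⟩
      rw [length_KH_of_subsingleton]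
      exact bot_le
    · intro N _ _ _ p e' hfl hdim
      by_cases hz : y ∈ p.asIdeal
      · have h0 := smul_eq_zero_of_equiv_quot e' hz
        have hfl' : FLI (Ideal.span {a | a ∈ l}) N := hfl.of_smul_eq_zero h0
        obtain ⟨c1, hc1⟩ := IH d N hfl' hdim j
        obtain ⟨c2, hc2⟩ := IH d N hfl' hdim (j + 1)
        refine ⟨c1 + c2, fun n hn => ?_⟩
        have hkill : ∀ m : N, y ^ n • m = 0 := by
          intro m
          obtain ⟨k, rfl⟩ : ∃ k, n = k + 1 := ⟨n - 1, by omega⟩
          rw [pow_succ, mul_smul, h0, smul_zero]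
        rw [map_pow_cons, length_KH_cons_of_smul_eq_zero _ _ hkill]
        refine le_trans (add_le_add (hc1 n hn) (hc2 n hn)) ?_
        rw [add_mul]
        push_cast
        rfl
      · have hr := isSMulRegular_of_equiv_quot e' hz
        have hd1 := Module.supportDim_quotSMulTop_succ_eq_supportDim hr hym
        rw [← hd1] at hdim
        rcases Nat.eq_zero_or_pos d with hd0 | hdpos
        · subst hd0
          have hbot := wb_eq_bot_of_succ_le_zero hdim
          have hss : Subsingleton (QuotSMulTop y N) :=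
            (Module.supportDim_eq_bot_iff_subsingleton A (QuotSMulTop y N)).mp hbot
          refine ⟨0, fun n hn => ?_⟩
          rw [map_pow_cons, length_KH_cons_of_regular _ _ (hr.pow n)]
          refine le_trans (length_KH_quot_pow_le _ y hr j n) ?_
          rw [length_KH_of_subsingleton, mul_zero]
          exact bot_le
        · obtain ⟨d', rfl⟩ : ∃ d', d = d' + 1 := ⟨d - 1, by omega⟩
          obtain ⟨c, hc⟩ := IH d' (QuotSMulTop y N) hfl.quotSMulTop (wb_le_of_succ_le hdim) j
          refine ⟨c, fun n hn => ?_⟩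
          rw [map_pow_cons, length_KH_cons_of_regular _ _ (hr.pow n)]
          refine le_trans (length_KH_quot_pow_le _ y hr j n) ?_
          refine le_trans (mul_le_mul_right (hc n hn) _) ?_
          have : n * (c * n ^ d') = c * n ^ (d' + 1) := by
            rw [pow_succ]
            ring
          exact_mod_cast this.le
    · intro N₁ _ _ _ N₂ _ _ _ N₃ _ _ _ f g hf hg hfg h1 h3 hfl hdim
      obtain ⟨c1, hc1⟩ := h1 (hfl.of_injective f hf)
        ((Module.supportDim_le_of_injective f hf).trans hdim)
      obtain ⟨c3, hc3⟩ := h3 (hfl.of_surjective g hg)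
        ((Module.supportDim_le_of_surjective g hg).trans hdim)
      refine ⟨c1 + c3, fun n hn => ?_⟩
      refine le_trans (length_KH_le_add _ f g hf hg hfg j) ?_
      refine le_trans (add_le_add (hc1 n hn) (hc3 n hn)) ?_
      rw [add_mul]
      push_cast
      rfl


end Groth.Agent.Helper13Kz
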