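import Mathlib

/-!
# Alternating sums of lengths over `ℤ` (helper13): `chiOf`, additivity in long exact sequences
-/

set_option autoImplicit false

namespace Groth.Agent.Helper13Kz

/-- Euler characteristic of a family of lengths -/
noncomputable def chiOf (h : ℤ → ℕ∞) : ℤ :=
  ∑ᶠ i : ℤ, ((i.negOnePow : ℤˣ) : ℤ) * ((h i).toNat : ℤ)

/-- alternating sum of an integer family -/
noncomputable def altSum (u : ℤ → ℤ) : ℤ := ∑ᶠ i : ℤ, ((i.negOnePow : ℤˣ) : ℤ) * u i

lemma chiOf_eq_altSum (h : ℤ → ℕ∞) : chiOf h = altSum (fun i => ((h i).toNat : ℤ)) := rfl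

/-- bounded support -/
def BddSupp (u : ℤ → ℤ) : Prop := ∃ N : ℤ, ∀ i, N < |i| → u i = 0

lemma BddSupp.finite {u : ℤ → ℤ} (hu : BddSupp u) :
    (Function.support fun i : ℤ => ((i.negOnePow : ℤˣ) : ℤ) * u i).Finite := by
  obtain ⟨N, hN⟩ := hu
  refine (Set.finite_Icc (-N) N).subset ?_
  intro i hi
  rw [Function.mem_support] at hi
  rw [Set.mem_Icc, ← abs_le]
  by_contra hcon
  exact hi (by rw [hN i (not_le.mp hcon), mul_zero])

lemma BddSupp.add {u v : ℤ → ℤ} (hu : BddSupp u) (hv : BddSupp v) : BddSupp (fun i => u i + v i) := by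
  obtain ⟨N, hN⟩ := hu
  obtain ⟨N', hN'⟩ := hv
  refine ⟨max N N', fun i hi => ?_⟩
  show u i + v i = 0
  rw [hN i (lt_of_le_of_lt (le_max_left _ _) hi), hN' i (lt_of_le_of_lt (le_max_right _ _) hi),
    add_zero]

lemma BddSupp.shift {u : ℤ → ℤ} (hu : BddSupp u) (k : ℤ) : BddSupp (fun i => u (i + k)) := by
  obtain ⟨N, hN⟩ := hu
  refine ⟨N + |k|, fun i hi => hN _ ?_⟩
  have := abs_sub_abs_le_abs_sub i (-k)
  have h2 : |i - -k| = |i + k| := by rw [sub_neg_eq_add]
  have h3 : |(-k)| = |k| := abs_neg k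
  linarith

lemma altSum_add {u v : ℤ → ℤ} (hu : BddSupp u) (hv : BddSupp v) :
    altSum (fun i => u i + v i) = altSum u + altSum v := by
  unfold altSum
  rw [← finsum_add_distrib hu.finite hv.finite]
  congr 1
  funext i
  ring

lemma altSum_shift (u : ℤ → ℤ) : altSum (fun i => u (i + 1)) = - altSum u := by
  unfold altSum
  rw [← finsum_comp_equiv (Equiv.addRight (1 : ℤ)) (f := fun i : ℤ => ((i.negOnePow : ℤˣ) : ℤ) * u i),
    ← finsum_neg_distrib]
  congr 1
  funext i
  simp only [Equiv.coe_addRight, Int.negOnePow_succ, Units.val_neg]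
  ring

lemma altSum_shift_neg (u : ℤ → ℤ) : altSum (fun i => u (i - 1)) = - altSum u := by
  have := altSum_shift (fun i => u (i - 1))
  simp only [add_sub_cancel_right] at this
  rw [this, neg_neg]

end Groth.Agent.Helper13Kz

namespace Groth.Agent.Helper13Kz

lemma chiOf_congr {h h' : ℤ → ℕ∞} (e : ∀ i, h i = h' i) : chiOf h = chiOf h' := by
  have : h = h' := funext e
  rw [this]

lemma bddSupp_toNat {a : ℤ → ℕ∞} {N : ℤ} (hN : ∀ i, N < |i| → a i = 0) :
    BddSupp (fun i => ((a i).toNat : ℤ)) :=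
  ⟨N, fun i hi => by simp [hN i hi]⟩

lemma chiOf_les (h' h h'' a b c : ℤ → ℕ∞) (e1 : ∀ i, h' i = c (i - 1) + a i)
    (e2 : ∀ i, h i = a i + b i) (e3 : ∀ i, h'' i = b i + c i)
    (fin : ∀ i, h i ≠ ⊤) (fin'' : ∀ i, h'' i ≠ ⊤)
    (N : ℤ) (hN : ∀ i, N < |i| → h i = 0 ∧ h'' i = 0) :
    chiOf h = chiOf h' + chiOf h'' := by
  have ha : ∀ i, a i ≠ ⊤ := fun i hi => fin i (by rw [e2, hi, top_add])
  have hb : ∀ i, b i ≠ ⊤ := fun i hi => fin i (by rw [e2, hi, add_top])
  have hc : ∀ i, c i ≠ ⊤ := fun i hi => fin'' i (by rw [e3, hi, add_top])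
  have sa : BddSupp (fun i => ((a i).toNat : ℤ)) :=
    bddSupp_toNat (N := N) (fun i hi => by
      have := (hN i hi).1
      rw [e2] at this
      exact (add_eq_zero.mp this).1)
  have sb : BddSupp (fun i => ((b i).toNat : ℤ)) :=
    bddSupp_toNat (N := N) (fun i hi => by
      have := (hN i hi).1
      rw [e2] at this
      exact (add_eq_zero.mp this).2)
  have sc : BddSupp (fun i => ((c i).toNat : ℤ)) :=
    bddSupp_toNat (N := N) (fun i hi => by
      have := (hN i hi).2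
      rw [e3] at this
      exact (add_eq_zero.mp this).2)
  have E2 : chiOf h = altSum (fun i => ((a i).toNat : ℤ)) + altSum (fun i => ((b i).toNat : ℤ)) := by
    rw [chiOf_eq_altSum, ← altSum_add sa sb]
    congr 1
    funext i
    rw [e2, ENat.toNat_add (ha i) (hb i)]
    push_cast
    rfl
  have E3 : chiOf h'' = altSum (fun i => ((b i).toNat : ℤ)) + altSum (fun i => ((c i).toNat : ℤ)) := by
    rw [chiOf_eq_altSum, ← altSum_add sb sc]
    congr 1
    funext i
    rw [e3, ENat.toNat_add (hb i) (hc i)]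
    push_cast
    rfl
  have E1 : chiOf h' = - altSum (fun i => ((c i).toNat : ℤ)) + altSum (fun i => ((a i).toNat : ℤ)) := by
    rw [chiOf_eq_altSum, ← altSum_shift_neg (fun i => ((c i).toNat : ℤ)),
      ← altSum_add (u := fun i => ((c (i - 1)).toNat : ℤ)) (sc.shift (-1)) sa]
    congr 1
    funext i
    rw [e1, ENat.toNat_add (hc _) (ha i)]
    push_cast
    rfl
  rw [E1, E2, E3]
  ring

lemma chiOf_double (a : ℤ → ℕ∞) (fin : ∀ i, a i ≠ ⊤) (N : ℤ) (hN : ∀ i, N < |i| → a i = 0) :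
    chiOf (fun i => a i + a (i + 1)) = 0 := by
  have sa : BddSupp (fun i => ((a i).toNat : ℤ)) := bddSupp_toNat hN
  have : chiOf (fun i => a i + a (i + 1)) =
      altSum (fun i => ((a i).toNat : ℤ)) + altSum (fun i => ((a (i + 1)).toNat : ℤ)) := by
    rw [chiOf_eq_altSum, ← altSum_add (v := fun i => ((a (i + 1)).toNat : ℤ)) sa (sa.shift 1)]
    congr 1
    funext i
    rw [ENat.toNat_add (fin i) (fin _)]
    push_cast
    rfl
  rw [this, altSum_shift (fun i => ((a i).toNat : ℤ))]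
  ring

end Groth.Agent.Helper13Kz
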