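import Groth.Agent.Lib.Helper13KzEngine

/-!
# Koszul Euler characteristic and dimension: vanishing for `dim M < d`, positivity for `dim M = d`
(helper13)
-/

set_option autoImplicit false

namespace Groth.Agent.Helper13Kz
open CategoryTheory CochainComplex MonoidalCategory CohIII Pointwise
open Groth.Agent.Lib.Helper21

universe u


lemma wb_lt_of_succ_lt {a : WithBot ℕ∞} {n : ℕ} (h : a + 1 < ((n + 1 : ℕ) : WithBot ℕ∞)) :
    a < (n : WithBot ℕ∞) := by
  induction a with
  | bot => exact WithBot.bot_lt_coe _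
  | coe m =>
    induction m with
    | top =>
      exfalso
      have : ((⊤ : ℕ∞) : WithBot ℕ∞) + 1 = ((⊤ : ℕ∞) : WithBot ℕ∞) := by
        rw [← WithBot.coe_one, ← WithBot.coe_add, top_add]
      rw [this] at h
      have h2 : ((n + 1 : ℕ) : WithBot ℕ∞) = (((n + 1 : ℕ) : ℕ∞) : WithBot ℕ∞) := rfl
      rw [h2, WithBot.coe_lt_coe] at h
      exact absurd h (not_lt.mpr le_top)
    | coe m =>
      have h2 : ((n + 1 : ℕ) : WithBot ℕ∞) = (((n + 1 : ℕ) : ℕ∞) : WithBot ℕ∞) := rfl
      have h3 : (((m : ℕ) : ℕ∞) : WithBot ℕ∞) + 1 = (((m + 1 : ℕ) : ℕ∞) : WithBot ℕ∞) := by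
        rw [← WithBot.coe_one, ← WithBot.coe_add]
        rfl
      rw [h2, h3, WithBot.coe_lt_coe, Nat.cast_lt] at h
      have h4 : ((n : ℕ) : WithBot ℕ∞) = (((n : ℕ) : ℕ∞) : WithBot ℕ∞) := rfl
      rw [h4, WithBot.coe_lt_coe, Nat.cast_lt]
      omega

lemma wb_eq_of_succ_eq {a : WithBot ℕ∞} {n : ℕ} (h : a + 1 = ((n + 1 : ℕ) : WithBot ℕ∞)) :
    a = (n : WithBot ℕ∞) := by
  induction a with
  | bot =>
    exfalso
    rw [WithBot.bot_add] at h
    exact WithBot.bot_ne_coe h
  | coe m =>
    induction m with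
    | top =>
      exfalso
      have : ((⊤ : ℕ∞) : WithBot ℕ∞) + 1 = ((⊤ : ℕ∞) : WithBot ℕ∞) := by
        rw [← WithBot.coe_one, ← WithBot.coe_add, top_add]
      rw [this] at h
      have h2 : ((n + 1 : ℕ) : WithBot ℕ∞) = (((n + 1 : ℕ) : ℕ∞) : WithBot ℕ∞) := rfl
      rw [h2, WithBot.coe_inj] at h
      exact ENat.top_ne_natCast _ h
    | coe m =>
      have h2 : ((n + 1 : ℕ) : WithBot ℕ∞) = (((n + 1 : ℕ) : ℕ∞) : WithBot ℕ∞) := rfl
      have h3 : (((m : ℕ) : ℕ∞) : WithBot ℕ∞) + 1 = (((m + 1 : ℕ) : ℕ∞) : WithBot ℕ∞) := by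
        rw [← WithBot.coe_one, ← WithBot.coe_add]
        rfl
      rw [h2, h3, WithBot.coe_inj, Nat.cast_inj] at h
      have h4 : ((n : ℕ) : WithBot ℕ∞) = (((n : ℕ) : ℕ∞) : WithBot ℕ∞) := rfl
      rw [h4, WithBot.coe_inj, Nat.cast_inj]
      omega

lemma wb_lt_zero {a : WithBot ℕ∞} (h : a < ((0 : ℕ) : WithBot ℕ∞)) : a = ⊥ := by
  induction a with
  | bot => rfl
  | coe m =>
    exfalso
    have h4 : ((0 : ℕ) : WithBot ℕ∞) = (((0 : ℕ) : ℕ∞) : WithBot ℕ∞) := rfl
    rw [h4, WithBot.coe_lt_coe] at h
    simp at h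


variable {A : Type u} [CommRing A]


section Dim
variable {N₁ N₂ N₃ : Type u} [AddCommGroup N₁] [Module A N₁] [AddCommGroup N₂] [Module A N₂]
  [AddCommGroup N₃] [Module A N₃]

theorem supportDim_le_max_of_exact (f : N₁ →ₗ[A] N₂) (g : N₂ →ₗ[A] N₃)
    (hf : Function.Injective f) (hg : Function.Surjective g) (hfg : Function.Exact f g) :
    Module.supportDim A N₂ ≤ max (Module.supportDim A N₁) (Module.supportDim A N₃) := by
  unfold Module.supportDim
  rw [Order.krullDim]
  apply iSup_le
  intro p
  have hsupp := Module.support_of_exact hfg hf hg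
  have hhead : (p.head : PrimeSpectrum A) ∈ Module.support A N₁ ∪ Module.support A N₃ := by
    rw [← hsupp]
    exact p.head.2
  rcases hhead with h | h
  · refine le_trans ?_ (le_max_left _ _)
    let q : LTSeries (Module.support A N₁) :=
      { length := p.length
        toFun := fun i => ⟨(p i).1, Module.mem_support_mono (p.head_le i) h⟩
        step := fun i => p.step i }
    exact Order.LTSeries.length_le_krullDim q
  · refine le_trans ?_ (le_max_right _ _)
    let q : LTSeries (Module.support A N₃) :=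
      { length := p.length
        toFun := fun i => ⟨(p i).1, Module.mem_support_mono (p.head_le i) h⟩
        step := fun i => p.step i }
    exact Order.LTSeries.length_le_krullDim q

theorem supportDim_le_length_of_FLI [IsNoetherianRing A] [IsLocalRing A] (M : Type u)
    [AddCommGroup M] [Module A M] [Module.Finite A M] (l : List A)
    (hl : ∀ a ∈ l, a ∈ IsLocalRing.maximalIdeal A) (h : FLI (Ideal.span {a | a ∈ l}) M) :
    Module.supportDim A M ≤ (l.length : WithBot ℕ∞) := by
  have h1 := Groth.Agent.Lib.Helper5.supportDim_le_supportDim_quot_ofList_add_length (M := M) l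
    (fun r hr => by
      rw [IsLocalRing.ringJacobson_eq_maximalIdeal]
      exact hl r hr)
  have h2 : Module.supportDim A (M ⧸ Ideal.ofList l • (⊤ : Submodule A M)) ≤ 0 := by
    apply Groth.Agent.Lib.Helper5.supportDim_le_zero_of_forall_isMaximal
    intro p hp
    rw [Module.support_quotient] at hp
    exact h p hp.1 hp.2
  calc Module.supportDim A M
      ≤ Module.supportDim A (M ⧸ Ideal.ofList l • (⊤ : Submodule A M)) + l.length := h1
    _ ≤ 0 + l.length := by gcongr
    _ = (l.length : WithBot ℕ∞) := zero_add _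

end Dim



theorem chi_eq_zero_of_supportDim_lt [IsNoetherianRing A] [IsLocalRing A] :
    ∀ (l : List A), (∀ a ∈ l, a ∈ IsLocalRing.maximalIdeal A) →
      ∀ (M : Type u) [AddCommGroup M] [Module A M] [Module.Finite A M],
      FLI (Ideal.span {a | a ∈ l}) M → Module.supportDim A M < (l.length : WithBot ℕ∞) →
      chi l M = 0
  | [], _, M, _, _, _, _, hdim => by
    have : Subsingleton M := by
      rw [← Module.supportDim_eq_bot_iff_subsingleton (R := A)]
      exact wb_lt_zero hdim
    exact chi_of_subsingleton []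
  | x :: l, hl, M, _, _, _, hfl, hdim => by
    have IH := chi_eq_zero_of_supportDim_lt l (fun a ha => hl a (List.mem_cons_of_mem _ ha))
    have hxm : x ∈ IsLocalRing.maximalIdeal A := hl x List.mem_cons_self
    revert hfl hdim
    refine IsNoetherianRing.induction_on_isQuotientEquivQuotientPrime A (M := M) inferInstance
      (motive := fun N _ _ _ => FLI (Ideal.span {a | a ∈ x :: l}) N →
        Module.supportDim A N < ((x :: l).length : WithBot ℕ∞) → chi (x :: l) N = 0) ?_ ?_ ?_
    · intro N _ _ _ _ _ _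
      exact chi_of_subsingleton _
    · intro N _ _ _ p e hfl hdim
      by_cases hz : x ∈ p.asIdeal
      · have h0 := smul_eq_zero_of_equiv_quot e hz
        exact chi_cons_of_smul_eq_zero l x h0 (hfl.of_smul_eq_zero h0)
      · have hr := isSMulRegular_of_equiv_quot e hz
        rw [chi_cons_of_regular l x hr]
        refine IH (QuotSMulTop x N) hfl.quotSMulTop ?_
        have h1 := Module.supportDim_quotSMulTop_succ_eq_supportDim hr hxm
        rw [← h1, List.length_cons] at hdim
        exact wb_lt_of_succ_lt hdim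
    · intro N₁ _ _ _ N₂ _ _ _ N₃ _ _ _ f g hf hg hfg h1 h3 hfl hdim
      rw [chi_add (x :: l) f g hf hg hfg hfl,
        h1 (hfl.of_injective f hf) (lt_of_le_of_lt (Module.supportDim_le_of_injective f hf) hdim),
        h3 (hfl.of_surjective g hg) (lt_of_le_of_lt (Module.supportDim_le_of_surjective g hg) hdim),
        add_zero]

theorem isFiniteLength_of_FLI_nil [IsNoetherianRing A] (M : Type u) [AddCommGroup M] [Module A M]
    [Module.Finite A M] (h : FLI (Ideal.span {a | a ∈ ([] : List A)}) M) : IsFiniteLength A M :=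
  (KHnilEquiv M).isFiniteLength (isFiniteLength_KH [] h 0)

theorem chi_nonneg_and_pos [IsNoetherianRing A] [IsLocalRing A] :
    ∀ (l : List A), (∀ a ∈ l, a ∈ IsLocalRing.maximalIdeal A) →
      ∀ (M : Type u) [AddCommGroup M] [Module A M] [Module.Finite A M],
      FLI (Ideal.span {a | a ∈ l}) M →
      0 ≤ chi l M ∧ (Module.supportDim A M = (l.length : WithBot ℕ∞) → 0 < chi l M)
  | [], _, M, _, _, _, hfl => by
    rw [chi_nil]
    refine ⟨Int.natCast_nonneg _, fun hdim => ?_⟩
    have hnt : Nontrivial M := by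
      rw [← Module.supportDim_ne_bot_iff_nontrivial (R := A), hdim]
      exact WithBot.coe_ne_bot
    have hfin := isFiniteLength_of_FLI_nil M hfl
    have hpos : 0 < Module.length A M := Module.length_pos
    have hne : Module.length A M ≠ ⊤ := Module.length_ne_top_iff.mpr hfin
    have : 0 < (Module.length A M).toNat := by
      rw [Nat.pos_iff_ne_zero]
      intro h0
      rcases (ENat.toNat_eq_zero.mp h0) with h | h
      · exact hpos.ne' h
      · exact hne h
    exact_mod_cast this
  | x :: l, hl, M, _, _, _, hfl => by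
    have hl' : ∀ a ∈ l, a ∈ IsLocalRing.maximalIdeal A := fun a ha => hl a (List.mem_cons_of_mem _ ha)
    have IH := chi_nonneg_and_pos l hl'
    have hxm : x ∈ IsLocalRing.maximalIdeal A := hl x List.mem_cons_self
    revert hfl
    refine IsNoetherianRing.induction_on_isQuotientEquivQuotientPrime A (M := M) inferInstance
      (motive := fun N _ _ _ => FLI (Ideal.span {a | a ∈ x :: l}) N →
        0 ≤ chi (x :: l) N ∧
        (Module.supportDim A N = ((x :: l).length : WithBot ℕ∞) → 0 < chi (x :: l) N)) ?_ ?_ ?_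
    · intro N _ _ _ _ _
      rw [chi_of_subsingleton]
      refine ⟨le_refl _, fun hdim => ?_⟩
      exfalso
      rw [Module.supportDim_eq_bot_of_subsingleton] at hdim
      exact WithBot.bot_ne_coe hdim
    · intro N _ _ _ p e hfl
      by_cases hz : x ∈ p.asIdeal
      · have h0 := smul_eq_zero_of_equiv_quot e hz
        have hfl' := hfl.of_smul_eq_zero h0
        rw [chi_cons_of_smul_eq_zero l x h0 hfl']
        refine ⟨le_refl _, fun hdim => ?_⟩
        exfalso
        have hle := supportDim_le_length_of_FLI N l hl' hfl'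
        rw [hdim, List.length_cons] at hle
        have : ((l.length + 1 : ℕ) : WithBot ℕ∞) ≤ ((l.length : ℕ) : WithBot ℕ∞) := hle
        rw [Nat.cast_le] at this
        omega
      · have hr := isSMulRegular_of_equiv_quot e hz
        rw [chi_cons_of_regular l x hr]
        obtain ⟨hnn, hpos⟩ := IH (QuotSMulTop x N) hfl.quotSMulTop
        refine ⟨hnn, fun hdim => hpos ?_⟩
        have h1 := Module.supportDim_quotSMulTop_succ_eq_supportDim hr hxm
        rw [← h1, List.length_cons] at hdim
        exact wb_eq_of_succ_eq hdim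
    · intro N₁ _ _ _ N₂ _ _ _ N₃ _ _ _ f g hf hg hfg h1 h3 hfl
      rw [chi_add (x :: l) f g hf hg hfg hfl]
      obtain ⟨n1, p1⟩ := h1 (hfl.of_injective f hf)
      obtain ⟨n3, p3⟩ := h3 (hfl.of_surjective g hg)
      refine ⟨add_nonneg n1 n3, fun hdim => ?_⟩
      have hmax := supportDim_le_max_of_exact f g hf hg hfg
      rw [hdim] at hmax
      rcases le_max_iff.mp hmax with h | h
      · have : Module.supportDim A N₁ = ((x :: l).length : WithBot ℕ∞) :=
          le_antisymm (hdim ▸ Module.supportDim_le_of_injective f hf) h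
        have := p1 this
        linarith
      · have : Module.supportDim A N₃ = ((x :: l).length : WithBot ℕ∞) :=
          le_antisymm (hdim ▸ Module.supportDim_le_of_surjective g hg) h
        have := p3 this
        linarith


end Groth.Agent.Helper13Kz
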