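import Groth.Agent.Lib.Helper13Kz
import Groth.Agent.Lib.Helper13KzChi
import Groth.Agent.Lib.Helper5SuppDim

/-!
# Koszul Euler characteristic `chi l M`: additivity, the two recursions (helper13)
-/

set_option autoImplicit false

namespace Groth.Agent.Helper13Kz
open CategoryTheory CochainComplex MonoidalCategory CohIII Pointwise
open Groth.Agent.Lib.Helper21

universe u
variable {A : Type u} [CommRing A]


section FLI

/-- `M` has "finite length modulo `I`": the primes of the support containing `I` are maximal. -/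
def FLI (I : Ideal A) (M : Type u) [AddCommGroup M] [Module A M] : Prop :=
  ∀ p : PrimeSpectrum A, p ∈ Module.support A M → I ≤ p.asIdeal → p.asIdeal.IsMaximal

variable {M' M M'' : Type u} [AddCommGroup M'] [Module A M'] [AddCommGroup M] [Module A M]
  [AddCommGroup M''] [Module A M'']

theorem FLI.of_isFiniteLength [Module.Finite A M] {I : Ideal A}
    (h : IsFiniteLength A (M ⧸ (I • (⊤ : Submodule A M)))) : FLI I M := by
  intro p hp hI
  have hmem : p ∈ Module.support A (M ⧸ (I • (⊤ : Submodule A M))) := by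
    rw [Module.support_quotient]
    exact ⟨hp, hI⟩
  exact Groth.Agent.Lib.Helper5.isMaximal_of_annihilator_le_of_isFiniteLength h p.asIdeal
    (Module.annihilator_le_of_mem_support hmem)

theorem FLI.of_injective {I : Ideal A} (h : FLI I M) (f : M' →ₗ[A] M)
    (hf : Function.Injective f) : FLI I M' :=
  fun p hp hI => h p (Module.support_subset_of_injective f hf hp) hI

theorem FLI.of_surjective {I : Ideal A} (h : FLI I M) (g : M →ₗ[A] M'')
    (hg : Function.Surjective g) : FLI I M'' :=
  fun p hp hI => h p (Module.support_subset_of_surjective g hg hp) hI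

theorem FLI.of_le_radical {I J : Ideal A} (h : FLI J M) (hIJ : J ≤ I.radical) : FLI I M := by
  intro p hp hI
  exact h p hp (hIJ.trans ((Ideal.IsPrime.radical_le_iff p.2).mpr hI))

theorem FLI.quotSMulTop [Module.Finite A M] {l : List A} {x : A}
    (h : FLI (Ideal.span {a | a ∈ x :: l}) M) :
    FLI (Ideal.span {a | a ∈ l}) (QuotSMulTop x M) := by
  intro p hp hI
  rw [Module.support_quotSMulTop] at hp
  refine h p hp.1 ?_
  rw [Ideal.span_le]
  intro a ha
  rcases List.mem_cons.mp ha with rfl | ha
  · exact hp.2 (Set.mem_singleton _)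
  · exact hI (Ideal.subset_span ha)

theorem FLI.of_smul_eq_zero {l : List A} {x : A}
    (h : FLI (Ideal.span {a | a ∈ x :: l}) M) (hx : ∀ m : M, x • m = 0) :
    FLI (Ideal.span {a | a ∈ l}) M := by
  intro p hp hI
  refine h p hp ?_
  rw [Ideal.span_le]
  intro a ha
  rcases List.mem_cons.mp ha with rfl | ha
  · exact Module.annihilator_le_of_mem_support hp (Module.mem_annihilator.mpr hx)
  · exact hI (Ideal.subset_span ha)

theorem FLI.isFiniteLength_of_ann [IsNoetherianRing A] [Module.Finite A M] {I : Ideal A}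
    (h : FLI I M) {N : Type u} [AddCommGroup N] [Module A N] [Module.Finite A N]
    (hI : ∀ a ∈ I, ∀ z : N, a • z = 0) (hM : ∀ a : A, (∀ m : M, a • m = 0) → ∀ z : N, a • z = 0) :
    IsFiniteLength A N := by
  apply Groth.Agent.Lib.Helper5.isFiniteLength_of_supportDim_le_zero
  apply Groth.Agent.Lib.Helper5.supportDim_le_zero_of_forall_isMaximal
  intro p hp
  have hann := Module.annihilator_le_of_mem_support hp
  refine h p ?_ ?_
  · rw [Module.mem_support_iff_of_finite]
    intro a ha
    exact hann (Module.mem_annihilator.mpr (hM a (Module.mem_annihilator.mp ha)))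
  · intro a ha
    exact hann (Module.mem_annihilator.mpr (hI a ha))

theorem isFiniteLength_KH [IsNoetherianRing A] [Module.Finite A M] (l : List A)
    (h : FLI (Ideal.span {a | a ∈ l}) M) (i : ℤ) : IsFiniteLength A (KH l M i) := by
  have := isNoetherian_KH M l i
  exact h.isFiniteLength_of_ann (fun a ha z => smul_KH_eq_zero_of_mem M l a ha i z)
    (fun a ha z => smul_KH_eq_zero_of_ann M l a ha i z)

end FLI



lemma chiOf_les' (h' h h'' a b c : ℤ → ℕ∞) (e1 : ∀ i, h' (i + 1) = c i + a (i + 1))
    (e2 : ∀ i, h i = a i + b i) (e3 : ∀ i, h'' i = b i + c i)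
    (fin : ∀ i, h i ≠ ⊤) (fin'' : ∀ i, h'' i ≠ ⊤)
    (N : ℤ) (hN : ∀ i, N < |i| → h i = 0 ∧ h'' i = 0) :
    chiOf h = chiOf h' + chiOf h'' := by
  refine chiOf_les h' h h'' a b c (fun i => ?_) e2 e3 fin fin'' N hN
  have := e1 (i - 1)
  rwa [sub_add_cancel] at this

section Chi
variable {M' M M'' : Type u} [AddCommGroup M'] [Module A M'] [AddCommGroup M] [Module A M]
  [AddCommGroup M''] [Module A M'']

/-- the Koszul Euler characteristic -/
noncomputable def chi (l : List A) (M : Type u) [AddCommGroup M] [Module A M] : ℤ :=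
  chiOf (fun i => Module.length A (KH l M i))

theorem chi_eq (l : List A) (M : Type u) [AddCommGroup M] [Module A M] :
    (∑ᶠ i : ℤ, ((i.negOnePow : ℤˣ) : ℤ) * ((Module.length A ((DRing.tensorCx (Koszul.koszul A l)
      (ModuleCat.of A M)).homology i)).toNat : ℤ)) = chi l M := by
  unfold chi chiOf
  congr 1
  funext i
  rw [length_homology_eq]

lemma length_KH_eq_zero_of_abs (l : List A) (M : Type u) [AddCommGroup M] [Module A M] (i : ℤ)
    (hi : (l.length : ℤ) < |i|) : Module.length A (KH l M i) = 0 := by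
  rw [Module.length_eq_zero_iff]
  rcases lt_or_ge 0 i with h | h
  · exact subsingleton_KH_of_pos M l i h
  · refine subsingleton_KH_of_lt M l i ?_
    rw [abs_of_nonpos h] at hi
    omega

/-- additivity of the Euler characteristic -/
theorem chi_add [IsNoetherianRing A] [Module.Finite A M'] [Module.Finite A M]
    [Module.Finite A M''] (l : List A) (f : M' →ₗ[A] M) (g : M →ₗ[A] M'')
    (hf : Function.Injective f) (hg : Function.Surjective g) (hfg : Function.Exact f g)
    (hfl : FLI (Ideal.span {a | a ∈ l}) M) : chi l M = chi l M' + chi l M'' := by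
  choose δ h1 h2 h3 using fun i => ses_les l f g hf hg hfg i
  refine chiOf_les' _ _ _ (fun i => Module.length A (LinearMap.range (KHmap l f i)))
    (fun i => Module.length A (LinearMap.range (KHmap l g i)))
    (fun i => Module.length A (LinearMap.range (δ i))) ?_ ?_ ?_ ?_ ?_ (l.length : ℤ) ?_
  · intro i
    show Module.length A (KH l M' (i + 1)) = _
    rw [length_eq_ker_add_range (KHmap l f (i + 1)), LinearMap.exact_iff.mp (h3 i)]
  · intro i
    show Module.length A (KH l M i) = _
    rw [length_eq_ker_add_range (KHmap l g i), LinearMap.exact_iff.mp (h1 i)]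
  · intro i
    show Module.length A (KH l M'' i) = _
    rw [length_eq_ker_add_range (δ i), LinearMap.exact_iff.mp (h2 i)]
  · intro i
    exact Module.length_ne_top_iff.mpr (isFiniteLength_KH l hfl i)
  · intro i
    exact Module.length_ne_top_iff.mpr (isFiniteLength_KH l (hfl.of_surjective g hg) i)
  · intro i hi
    exact ⟨length_KH_eq_zero_of_abs l M i hi, length_KH_eq_zero_of_abs l M'' i hi⟩

theorem chi_cons_of_regular (l : List A) (x : A) (hx : IsSMulRegular M x) :
    chi (x :: l) M = chi l (QuotSMulTop x M) := by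
  unfold chi
  exact chiOf_congr (fun i => length_KH_cons_of_regular l x hx i)

theorem length_KH_cons_of_smul_eq_zero (l : List A) (x : A) (hx : ∀ m : M, x • m = 0) (i : ℤ) :
    Module.length A (KH (x :: l) M i) =
      Module.length A (KH l M i) + Module.length A (KH l M (i + 1)) := by
  rw [length_KH_cons,
    length_quotSMulTop_of_smul_eq_zero x (fun z => smul_KH_eq_zero_of_ann M l x hx i z),
    length_torsionBy_of_smul_eq_zero x (fun z => smul_KH_eq_zero_of_ann M l x hx (i + 1) z)]

theorem chi_cons_of_smul_eq_zero [IsNoetherianRing A] [Module.Finite A M] (l : List A) (x : A)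
    (hx : ∀ m : M, x • m = 0) (hfl : FLI (Ideal.span {a | a ∈ l}) M) : chi (x :: l) M = 0 := by
  unfold chi
  rw [chiOf_congr (fun i => length_KH_cons_of_smul_eq_zero l x hx i)]
  exact chiOf_double _ (fun i => Module.length_ne_top_iff.mpr (isFiniteLength_KH l hfl i))
    (l.length : ℤ) (fun i hi => length_KH_eq_zero_of_abs l M i hi)

theorem chi_nil (M : Type u) [AddCommGroup M] [Module A M] :
    chi ([] : List A) M = ((Module.length A M).toNat : ℤ) := by
  unfold chi chiOf
  rw [finsum_eq_single _ (0 : ℤ)]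
  · show ((Int.negOnePow 0 : ℤˣ) : ℤ) * ((Module.length A (KH ([] : List A) M 0)).toNat : ℤ) = _
    rw [(KHnilEquiv M).length_eq]
    simp
  · intro i hi
    have := subsingleton_KH_nil (A := A) M i hi
    show ((Int.negOnePow i : ℤˣ) : ℤ) * ((Module.length A (KH ([] : List A) M i)).toNat : ℤ) = 0
    rw [Module.length_eq_zero_iff.mpr this]
    simp

end Chi



section More
variable {M' M M'' : Type u} [AddCommGroup M'] [Module A M'] [AddCommGroup M] [Module A M]
  [AddCommGroup M''] [Module A M'']

theorem subsingleton_KH_of_subsingleton [Subsingleton M] (l : List A) (i : ℤ) :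
    Subsingleton (KH l M i) := by
  refine ⟨fun a b => ?_⟩
  have h := fun z => smul_KH_eq_zero_of_ann M l (1 : A) (fun m => Subsingleton.elim _ _) i z
  rw [← one_smul A a, ← one_smul A b, h a, h b]

theorem length_KH_of_subsingleton [Subsingleton M] (l : List A) (i : ℤ) :
    Module.length A (KH l M i) = 0 := by
  rw [Module.length_eq_zero_iff]
  exact subsingleton_KH_of_subsingleton l i

theorem chi_of_subsingleton [Subsingleton M] (l : List A) : chi l M = 0 := by
  unfold chi chiOf
  rw [finsum_eq_zero_of_forall_eq_zero]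
  intro i
  show ((Int.negOnePow i : ℤˣ) : ℤ) * ((Module.length A (KH l M i)).toNat : ℤ) = 0
  rw [length_KH_of_subsingleton]
  simp

/-- the sequence `0 → N/yN --x--> N/xyN → N/xN → 0` -/
theorem quot_mul_ses (N : Type u) [AddCommGroup N] [Module A N] (x y : A)
    (hx : IsSMulRegular N x) :
    ∃ (f : QuotSMulTop y N →ₗ[A] QuotSMulTop (x * y) N)
      (g : QuotSMulTop (x * y) N →ₗ[A] QuotSMulTop x N),
      Function.Injective f ∧ Function.Surjective g ∧ Function.Exact f g := by
  have h1 : y • (⊤ : Submodule A N) ≤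
      ((x * y) • (⊤ : Submodule A N)).comap (x • (LinearMap.id : N →ₗ[A] N)) := by
    intro n hn
    rw [Submodule.mem_smul_pointwise_iff_exists] at hn
    obtain ⟨n', -, rfl⟩ := hn
    rw [Submodule.mem_comap, Submodule.mem_smul_pointwise_iff_exists]
    exact ⟨n', trivial, by rw [LinearMap.smul_apply, LinearMap.id_apply, mul_smul]⟩
  have h2 : (x * y) • (⊤ : Submodule A N) ≤
      (x • (⊤ : Submodule A N)).comap (LinearMap.id : N →ₗ[A] N) := by
    intro n hn
    rw [Submodule.mem_smul_pointwise_iff_exists] at hn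
    obtain ⟨n', -, rfl⟩ := hn
    rw [Submodule.mem_comap, Submodule.mem_smul_pointwise_iff_exists]
    exact ⟨y • n', trivial, by simp [mul_smul]⟩
  refine ⟨Submodule.mapQ _ _ _ h1, Submodule.mapQ _ _ _ h2, ?_, ?_, ?_⟩
  · rw [← LinearMap.ker_eq_bot, eq_bot_iff]
    intro q hq
    obtain ⟨n, rfl⟩ := Submodule.Quotient.mk_surjective _ q
    rw [LinearMap.mem_ker, Submodule.mapQ_apply, Submodule.Quotient.mk_eq_zero,
      Submodule.mem_smul_pointwise_iff_exists] at hq
    obtain ⟨n', -, hn'⟩ := hq
    rw [Submodule.mem_bot, Submodule.Quotient.mk_eq_zero, Submodule.mem_smul_pointwise_iff_exists]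
    refine ⟨n', trivial, ?_⟩
    apply hx
    show x • y • n' = x • n
    rw [← mul_smul, hn']
    rfl
  · intro q
    obtain ⟨n, rfl⟩ := Submodule.Quotient.mk_surjective _ q
    exact ⟨Submodule.Quotient.mk n, rfl⟩
  · intro q
    obtain ⟨n, rfl⟩ := Submodule.Quotient.mk_surjective _ q
    rw [Submodule.mapQ_apply, Submodule.Quotient.mk_eq_zero,
      Submodule.mem_smul_pointwise_iff_exists]
    constructor
    · rintro ⟨n', -, hn'⟩
      refine ⟨Submodule.Quotient.mk n', ?_⟩
      rw [Submodule.mapQ_apply]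
      congr 1
    · rintro ⟨q', hq'⟩
      obtain ⟨n', rfl⟩ := Submodule.Quotient.mk_surjective _ q'
      rw [Submodule.mapQ_apply, Submodule.Quotient.eq, Submodule.mem_smul_pointwise_iff_exists] at hq'
      obtain ⟨n'', -, hn''⟩ := hq'
      refine ⟨n' - y • n'', trivial, ?_⟩
      rw [smul_sub, ← mul_smul, hn'']
      simp

theorem smul_eq_zero_of_equiv_quot {N : Type u} [AddCommGroup N] [Module A N] {p : Ideal A}
    (e : N ≃ₗ[A] A ⧸ p) {x : A} (hx : x ∈ p) (n : N) : x • n = 0 := by
  apply e.injective
  rw [map_smul, map_zero]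
  obtain ⟨a, ha⟩ := Ideal.Quotient.mk_surjective (e n)
  rw [← ha, ← Ideal.Quotient.mk_eq_mk, ← Submodule.Quotient.mk_smul, Ideal.Quotient.mk_eq_mk,
    Ideal.Quotient.eq_zero_iff_mem, smul_eq_mul]
  exact p.mul_mem_right _ hx

theorem isSMulRegular_of_equiv_quot {N : Type u} [AddCommGroup N] [Module A N] {p : Ideal A}
    [p.IsPrime] (e : N ≃ₗ[A] A ⧸ p) {x : A} (hx : x ∉ p) : IsSMulRegular N x := by
  intro n n' h
  apply e.injective
  have h2 : x • e n = x • e n' := by rw [← map_smul, ← map_smul]; exact congrArg e h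
  have h3 : (Ideal.Quotient.mk p x) * e n = (Ideal.Quotient.mk p x) * e n' := by
    have : ∀ q : A ⧸ p, x • q = Ideal.Quotient.mk p x * q := by
      intro q
      obtain ⟨a, rfl⟩ := Ideal.Quotient.mk_surjective q
      rfl
    rw [← this, ← this]
    exact h2
  exact mul_left_cancel₀ (by rwa [Ne, Ideal.Quotient.eq_zero_iff_mem]) h3

end More



section MulHead
variable {M : Type u} [AddCommGroup M] [Module A M]

theorem chi_quot_eq_zero [IsNoetherianRing A] [Module.Finite A M] (l : List A) (x : A)
    (hx : IsSMulRegular M x) (hfl : FLI (Ideal.span {a | a ∈ l}) M) :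
    chi l (QuotSMulTop x M) = 0 := by
  have hex : Function.Exact (x • (LinearMap.id : M →ₗ[A] M))
      (Submodule.mkQ (x • (⊤ : Submodule A M))) := by
    rw [LinearMap.exact_iff, Submodule.ker_mkQ, range_smul_id]
  have h := chi_add l (x • (LinearMap.id : M →ₗ[A] M)) (Submodule.mkQ (x • (⊤ : Submodule A M)))
    hx (Submodule.mkQ_surjective _) hex hfl
  have h2 : chi l (QuotSMulTop x M) = chi l (M ⧸ x • (⊤ : Submodule A M)) := rfl
  linarith

theorem FLI.mul_head {x y : A} {l : List A} (hx : FLI (Ideal.span {a | a ∈ x :: l}) M)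
    (hy : FLI (Ideal.span {a | a ∈ y :: l}) M) : FLI (Ideal.span {a | a ∈ (x * y) :: l}) M := by
  intro p hp hI
  have hxy : x * y ∈ p.asIdeal := hI (Ideal.subset_span List.mem_cons_self)
  have hl : ∀ a ∈ l, a ∈ p.asIdeal := fun a ha => hI (Ideal.subset_span (List.mem_cons_of_mem _ ha))
  rcases p.2.mem_or_mem hxy with h | h
  · refine hx p hp ?_
    rw [Ideal.span_le]
    intro a ha
    rcases List.mem_cons.mp ha with rfl | ha
    · exact h
    · exact hl a ha
  · refine hy p hp ?_
    rw [Ideal.span_le]
    intro a ha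
    rcases List.mem_cons.mp ha with rfl | ha
    · exact h
    · exact hl a ha

/-- if `M` already has finite length modulo `l`, then `chi (y :: l) M = 0` (in the two cases we
need) -/
theorem chi_cons_eq_zero_of_FLI [IsNoetherianRing A] [Module.Finite A M] (l : List A) (y : A)
    (hy : (∀ m : M, y • m = 0) ∨ IsSMulRegular M y) (hfl : FLI (Ideal.span {a | a ∈ l}) M) :
    chi (y :: l) M = 0 := by
  rcases hy with hy | hy
  · exact chi_cons_of_smul_eq_zero l y hy hfl
  · rw [chi_cons_of_regular l y hy]
    exact chi_quot_eq_zero l y hy hfl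

theorem FLI.cons {l : List A} {x : A} (h : FLI (Ideal.span {a | a ∈ l}) M) :
    FLI (Ideal.span {a | a ∈ x :: l}) M := by
  intro p hp hI
  refine h p hp ?_
  rw [Ideal.span_le]
  intro a ha
  exact hI (Ideal.subset_span (List.mem_cons_of_mem _ ha))

theorem chi_mul_head [IsNoetherianRing A] (x y : A) (l : List A) (M : Type u) [AddCommGroup M]
    [Module A M] [Module.Finite A M]
    (hx : FLI (Ideal.span {a | a ∈ x :: l}) M) (hy : FLI (Ideal.span {a | a ∈ y :: l}) M) :
    chi ((x * y) :: l) M = chi (x :: l) M + chi (y :: l) M := by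
  revert hx hy
  refine IsNoetherianRing.induction_on_isQuotientEquivQuotientPrime A (M := M) inferInstance
    (motive := fun N _ _ _ => FLI (Ideal.span {a | a ∈ x :: l}) N →
      FLI (Ideal.span {a | a ∈ y :: l}) N →
      chi ((x * y) :: l) N = chi (x :: l) N + chi (y :: l) N) ?_ ?_ ?_
  · intro N _ _ _ _ _ _
    rw [chi_of_subsingleton, chi_of_subsingleton, chi_of_subsingleton, add_zero]
  · intro N _ _ _ p e hx hy
    have hreg : ∀ z : A, (∀ n : N, z • n = 0) ∨ IsSMulRegular N z := by
      intro z
      by_cases hz : z ∈ p.asIdeal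
      · exact Or.inl (smul_eq_zero_of_equiv_quot e hz)
      · exact Or.inr (isSMulRegular_of_equiv_quot e hz)
    rcases hreg x with hx0 | hxr
    · have hfl : FLI (Ideal.span {a | a ∈ l}) N := hx.of_smul_eq_zero hx0
      rw [chi_cons_eq_zero_of_FLI l x (Or.inl hx0) hfl, chi_cons_eq_zero_of_FLI l y (hreg y) hfl,
        chi_cons_eq_zero_of_FLI l (x * y) (Or.inl (fun n => by rw [mul_comm, mul_smul, hx0, smul_zero]))
          hfl, add_zero]
    · rcases hreg y with hy0 | hyr
      · have hfl : FLI (Ideal.span {a | a ∈ l}) N := hy.of_smul_eq_zero hy0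
        rw [chi_cons_eq_zero_of_FLI l x (Or.inr hxr) hfl, chi_cons_eq_zero_of_FLI l y (Or.inl hy0) hfl,
          chi_cons_eq_zero_of_FLI l (x * y) (Or.inl (fun n => by rw [mul_smul, hy0, smul_zero]))
            hfl, add_zero]
      · have hxyr : IsSMulRegular N (x * y) := hxr.mul hyr
        rw [chi_cons_of_regular l x hxr, chi_cons_of_regular l y hyr,
          chi_cons_of_regular l (x * y) hxyr]
        obtain ⟨f, g, hf, hg, hfg⟩ := quot_mul_ses N x y hxr
        rw [chi_add l f g hf hg hfg (hx.mul_head hy).quotSMulTop]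
        ring
  · intro N₁ _ _ _ N₂ _ _ _ N₃ _ _ _ f g hf hg hfg h1 h3 hx hy
    rw [chi_add (x :: l) f g hf hg hfg hx, chi_add (y :: l) f g hf hg hfg hy,
      chi_add ((x * y) :: l) f g hf hg hfg (hx.mul_head hy),
      h1 (hx.of_injective f hf) (hy.of_injective f hf),
      h3 (hx.of_surjective g hg) (hy.of_surjective g hg)]
    ring

end MulHead


end Groth.Agent.Helper13Kz
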