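import Mathlib
import Groth.Prelude.Def_Koszul
import Groth.Prelude.Def_LCI2
import Groth.Prelude.Def_CAlgX

/-!
# Koszul-regular sequences (mapping-cone model) are `H_1`-regular (helper13)
-/

set_option autoImplicit false
universe u

namespace Groth.Agent.Helper13KzH1

open CategoryTheory CategoryTheory.Limits CochainComplex HomComplex

variable {A : Type u} [CommRing A]

/-- the module of trivial relations -/
def triv {c : ℕ} (F : Fin c → A) : Submodule A (Fin c → A) :=
  Submodule.span A {v | ∃ i j : Fin c, v = Pi.single i (F j) - Pi.single j (F i)}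

lemma isZero_X_pos : ∀ (l : List A) (n : ℤ), 0 < n → IsZero ((Koszul.koszul A l).X n)
  | [], n, hn => HomologicalComplex.isZero_single_obj_X (ComplexShape.up ℤ) 0 _ n hn.ne'
  | f :: l, n, hn => by
    show IsZero ((mappingCone (f • 𝟙 (Koszul.koszul A l))).X n)
    rw [mappingCone.isZero_X_iff]
    exact ⟨isZero_X_pos l (n + 1) (by omega), isZero_X_pos l n hn⟩

/-- explicit description of the low degree part of a complex `K` in terms of a sequence `F` -/
structure DataK (K : CochainComplex (ModuleCat.{u} A) ℤ) (n : ℕ) (F : Fin n → A) where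
  e0 : K.X 0 ≃ₗ[A] A
  e1 : K.X (-1) →ₗ[A] (Fin n → A)
  surj : Function.Surjective e1
  d1 : ∀ v, e0 ((K.d (-1) 0).hom v) = ∑ i, e1 v i * F i
  d2 : ∀ w, e1 ((K.d (-2) (-1)).hom w) ∈ triv F

/-- the base case -/
noncomputable def dataNil (F : Fin 0 → A) : DataK (Koszul.koszul A ([] : List A)) 0 F where
  e0 := (HomologicalComplex.singleObjXSelf (ComplexShape.up ℤ) 0 (ModuleCat.of A A)).toLinearEquiv
  e1 := 0
  surj := fun a => ⟨0, funext fun i => i.elim0⟩
  d1 := fun v => by
    have hz : IsZero ((Koszul.koszul A ([] : List A)).X (-1)) :=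
      HomologicalComplex.isZero_single_obj_X (ComplexShape.up ℤ) 0 _ (-1) (by norm_num)
    have := ModuleCat.subsingleton_of_isZero hz
    rw [Subsingleton.elim v 0]
    simp
  d2 := fun w => by
    have h0 : ∀ x : Fin 0 → A, x ∈ triv F := fun x => by
      rw [Subsingleton.elim x 0]
      exact Submodule.zero_mem _
    exact h0 _

section cone

variable (K : CochainComplex (ModuleCat.{u} A) ℤ) (f : A)

lemma snd_d (i j : ℤ) (hij : i + 1 = j) (x : (mappingCone (f • 𝟙 K)).X i) :
    ((mappingCone.snd (f • 𝟙 K)).v j j (add_zero j)).hom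
        (((mappingCone (f • 𝟙 K)).d i j).hom x) =
      f • ((mappingCone.fst (f • 𝟙 K)).1.v i j hij).hom x +
        (K.d i j).hom (((mappingCone.snd (f • 𝟙 K)).v i i (add_zero i)).hom x) := by
  have h := ConcreteCategory.congr_hom (mappingCone.d_snd_v (f • 𝟙 K) i j hij) x
  simpa using h

lemma fst_d (i j k : ℤ) (hij : i + 1 = j) (hjk : j + 1 = k) (x : (mappingCone (f • 𝟙 K)).X i) :
    ((mappingCone.fst (f • 𝟙 K)).1.v j k hjk).hom
        (((mappingCone (f • 𝟙 K)).d i j).hom x) =
      - (K.d j k).hom (((mappingCone.fst (f • 𝟙 K)).1.v i j hij).hom x) := by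
  have h := ConcreteCategory.congr_hom (mappingCone.d_fst_v (f • 𝟙 K) i j k hij hjk) x
  simpa using h

lemma decomp (p q : ℤ) (hpq : p + 1 = q) (x : (mappingCone (f • 𝟙 K)).X p) :
    x = ((mappingCone.inl (f • 𝟙 K)).v q p (by omega)).hom
          (((mappingCone.fst (f • 𝟙 K)).1.v p q hpq).hom x) +
        ((mappingCone.inr (f • 𝟙 K)).f p).hom
          (((mappingCone.snd (f • 𝟙 K)).v p p (add_zero p)).hom x) := by
  have h := ConcreteCategory.congr_hom (mappingCone.id_X (f • 𝟙 K) p q hpq) x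
  simpa using h.symm

lemma fst_inl (p q : ℤ) (hpq : q + 1 = p) (y : K.X p) :
    ((mappingCone.fst (f • 𝟙 K)).1.v q p hpq).hom
      (((mappingCone.inl (f • 𝟙 K)).v p q (by omega)).hom y) = y :=
  ConcreteCategory.congr_hom (mappingCone.inl_v_fst_v (f • 𝟙 K) p q hpq) y

lemma snd_inl (p q : ℤ) (hpq : p + (-1) = q) (y : K.X p) :
    ((mappingCone.snd (f • 𝟙 K)).v q q (add_zero q)).hom
      (((mappingCone.inl (f • 𝟙 K)).v p q hpq).hom y) = 0 :=
  ConcreteCategory.congr_hom (mappingCone.inl_v_snd_v (f • 𝟙 K) p q hpq) y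

lemma fst_inr (p q : ℤ) (hpq : p + 1 = q) (y : K.X p) :
    ((mappingCone.fst (f • 𝟙 K)).1.v p q hpq).hom
      (((mappingCone.inr (f • 𝟙 K)).f p).hom y) = 0 :=
  ConcreteCategory.congr_hom (mappingCone.inr_f_fst_v (f • 𝟙 K) p q hpq) y

lemma snd_inr (p : ℤ) (y : K.X p) :
    ((mappingCone.snd (f • 𝟙 K)).v p p (add_zero p)).hom
      (((mappingCone.inr (f • 𝟙 K)).f p).hom y) = y :=
  ConcreteCategory.congr_hom (mappingCone.inr_f_snd_v (f • 𝟙 K) p) y

end cone

/-- `Fin.cons` as a linear map -/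
def consL (n : ℕ) : (A × (Fin n → A)) →ₗ[A] (Fin (n + 1) → A) where
  toFun p := Fin.cons p.1 p.2
  map_add' p q := by
    ext i
    refine Fin.cases ?_ (fun j => ?_) i <;> simp
  map_smul' c p := by
    ext i
    refine Fin.cases ?_ (fun j => ?_) i <;> simp

@[simp] lemma consL_zero (n : ℕ) (p : A × (Fin n → A)) : consL n p 0 = p.1 := rfl
@[simp] lemma consL_succ (n : ℕ) (p : A × (Fin n → A)) (j : Fin n) : consL n p j.succ = p.2 j := rfl

lemma cons_zero_single {n : ℕ} (i : Fin n) (x : A) :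
    consL n (0, Pi.single i x) = Pi.single i.succ x := by
  ext k
  refine Fin.cases ?_ (fun j => ?_) k
  · simp [(Fin.succ_ne_zero i).symm]
  · simp [Pi.single_apply, Fin.succ_inj]

lemma cons_zero_mem_triv (f : A) {n : ℕ} (F : Fin n → A) (t : Fin n → A) (ht : t ∈ triv F) :
    consL n (0, t) ∈ triv (Fin.cons f F : Fin (n + 1) → A) := by
  have hle : Submodule.map ((consL n) ∘ₗ LinearMap.inr A A (Fin n → A)) (triv F) ≤
      triv (Fin.cons f F : Fin (n + 1) → A) := by
    rw [triv, Submodule.map_span_le]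
    rintro _ ⟨i, j, rfl⟩
    apply Submodule.subset_span
    refine ⟨i.succ, j.succ, ?_⟩
    have : (consL n ∘ₗ LinearMap.inr A A (Fin n → A))
        (Pi.single i (F j) - Pi.single j (F i)) =
        consL n (0, Pi.single i (F j)) - consL n (0, Pi.single j (F i)) := by
      rw [← map_sub]
      simp
    rw [this, cons_zero_single, cons_zero_single]
    simp
  exact hle ⟨t, ht, rfl⟩

lemma cons_neg_sum_mem_triv (f : A) {n : ℕ} (F : Fin n → A) (b : Fin n → A) :
    consL n (-∑ i, b i * F i, f • b) ∈ triv (Fin.cons f F : Fin (n + 1) → A) := by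
  classical
  have h : consL n (-∑ i, b i * F i, f • b) =
      ∑ i, b i • ((Pi.single i.succ f : Fin (n + 1) → A) - Pi.single 0 (F i)) := by
    ext k
    refine Fin.cases ?_ (fun j => ?_) k
    · simp [Finset.sum_apply, Fin.succ_ne_zero]
    · simp [Finset.sum_apply, Pi.single_apply, Fin.succ_inj, (Fin.succ_ne_zero _), mul_comm]
  rw [h]
  refine Submodule.sum_mem _ fun i _ => Submodule.smul_mem _ _ (Submodule.subset_span ?_)
  exact ⟨i.succ, 0, by simp⟩

/-- inductive step -/
theorem nonempty_dataK_cone (K : CochainComplex (ModuleCat.{u} A) ℤ) (hz1 : IsZero (K.X 1))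
    (f : A) {n : ℕ} (F : Fin n → A) (D : DataK K n F) :
    Nonempty (DataK (mappingCone (f • 𝟙 K)) (n + 1) (Fin.cons f F)) := by
  have hss := ModuleCat.subsingleton_of_isZero hz1
  let s0 : (mappingCone (f • 𝟙 K)).X 0 →ₗ[A] K.X 0 :=
    ((mappingCone.snd (f • 𝟙 K)).v 0 0 (add_zero 0)).hom
  let s1 : (mappingCone (f • 𝟙 K)).X (-1) →ₗ[A] K.X (-1) :=
    ((mappingCone.snd (f • 𝟙 K)).v (-1) (-1) (add_zero _)).hom
  let f1 : (mappingCone (f • 𝟙 K)).X (-1) →ₗ[A] K.X 0 :=
    ((mappingCone.fst (f • 𝟙 K)).1.v (-1) 0 (by norm_num)).hom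
  have hinj : Function.Injective (D.e0.toLinearMap ∘ₗ s0) := by
    rw [← LinearMap.ker_eq_bot, LinearMap.ker_eq_bot']
    intro x hx
    have hx' : s0 x = 0 := by simpa using hx
    have hd := decomp K f 0 1 (by norm_num) x
    rw [hd]
    have h1 : ((mappingCone.fst (f • 𝟙 K)).1.v 0 1 (by norm_num)).hom x = 0 :=
      Subsingleton.elim _ _
    rw [h1, map_zero, zero_add]
    change ((mappingCone.inr (f • 𝟙 K)).f 0).hom (s0 x) = 0
    rw [hx', map_zero]
  have hsurj : Function.Surjective (D.e0.toLinearMap ∘ₗ s0) := by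
    intro a
    refine ⟨((mappingCone.inr (f • 𝟙 K)).f 0).hom (D.e0.symm a), ?_⟩
    change D.e0 (s0 _) = a
    have := snd_inr K f 0 (D.e0.symm a)
    change s0 _ = _ at this
    rw [this, LinearEquiv.apply_symm_apply]
  refine ⟨{
    e0 := LinearEquiv.ofBijective (D.e0.toLinearMap ∘ₗ s0) ⟨hinj, hsurj⟩
    e1 := consL n ∘ₗ (LinearMap.prod (D.e0.toLinearMap ∘ₗ f1) (D.e1 ∘ₗ s1))
    surj := ?_
    d1 := ?_
    d2 := ?_ }⟩
  · intro a
    obtain ⟨y1, hy1⟩ := D.surj (Fin.tail a)
    refine ⟨((mappingCone.inl (f • 𝟙 K)).v 0 (-1) (by norm_num)).hom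
        (D.e0.symm (a 0)) +
      ((mappingCone.inr (f • 𝟙 K)).f (-1)).hom y1, ?_⟩
    have e1 : f1 (((mappingCone.inl (f • 𝟙 K)).v 0 (-1) (by norm_num)).hom
        (D.e0.symm (a 0)) +
      ((mappingCone.inr (f • 𝟙 K)).f (-1)).hom y1) = D.e0.symm (a 0) := by
      rw [map_add]
      have h1 := fst_inl K f 0 (-1) (by norm_num) (D.e0.symm (a 0))
      have h2 := fst_inr K f (-1) 0 (by norm_num) y1
      change f1 _ = _ at h1
      change f1 _ = _ at h2
      rw [h1, h2, add_zero]
    have e2 : s1 (((mappingCone.inl (f • 𝟙 K)).v 0 (-1) (by norm_num)).hom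
        (D.e0.symm (a 0)) +
      ((mappingCone.inr (f • 𝟙 K)).f (-1)).hom y1) = y1 := by
      rw [map_add]
      have h1 := snd_inl K f 0 (-1) (by norm_num) (D.e0.symm (a 0))
      have h2 := snd_inr K f (-1) y1
      change s1 _ = _ at h1
      change s1 _ = _ at h2
      rw [h1, h2, zero_add]
    ext k
    refine Fin.cases ?_ (fun j => ?_) k
    · simp only [LinearMap.coe_comp, Function.comp_apply, LinearMap.prod_apply, Function.prod,
        consL_zero, LinearEquiv.coe_coe]
      rw [e1, LinearEquiv.apply_symm_apply]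
    · simp only [LinearMap.coe_comp, Function.comp_apply, LinearMap.prod_apply, Function.prod,
        consL_succ]
      rw [e2, hy1]
      rfl
  · intro v
    have h := snd_d K f (-1) 0 (by norm_num) v
    change D.e0 (s0 (((mappingCone (f • 𝟙 K)).d (-1) 0).hom v)) = _
    change s0 (((mappingCone (f • 𝟙 K)).d (-1) 0).hom v) = f • f1 v + _ at h
    rw [h, map_add, map_smul, D.d1, Fin.sum_univ_succ]
    simp only [LinearMap.coe_comp, Function.comp_apply, LinearMap.prod_apply, Function.prod,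
      consL_zero, consL_succ, LinearEquiv.coe_coe, smul_eq_mul, Fin.cons_zero, Fin.cons_succ]
    congr 1
    exact mul_comm _ _
  · intro w
    have h1 := snd_d K f (-2) (-1) (by norm_num) w
    have h2 := fst_d K f (-2) (-1) 0 (by norm_num) (by norm_num) w
    change s1 (((mappingCone (f • 𝟙 K)).d (-2) (-1)).hom w) = _ at h1
    change f1 (((mappingCone (f • 𝟙 K)).d (-2) (-1)).hom w) = _ at h2
    simp only [LinearMap.coe_comp, Function.comp_apply, LinearMap.prod_apply, Function.prod,
      LinearEquiv.coe_coe]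
    rw [h1, h2, map_neg, D.d1, map_add, map_smul]
    have hsplit : ((-∑ i, D.e1 (((mappingCone.fst (f • 𝟙 K)).1.v (-2) (-1)
          (by norm_num)).hom w) i * F i,
        f • D.e1 (((mappingCone.fst (f • 𝟙 K)).1.v (-2) (-1)
          (by norm_num)).hom w) +
        D.e1 ((K.d (-2) (-1)).hom
          (((mappingCone.snd (f • 𝟙 K)).v (-2) (-2) (add_zero _)).hom w))) :
        A × (Fin n → A)) =
        (-∑ i, D.e1 (((mappingCone.fst (f • 𝟙 K)).1.v (-2) (-1)
          (by norm_num)).hom w) i * F i,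
        f • D.e1 (((mappingCone.fst (f • 𝟙 K)).1.v (-2) (-1)
          (by norm_num)).hom w)) +
        (0, D.e1 ((K.d (-2) (-1)).hom
          (((mappingCone.snd (f • 𝟙 K)).v (-2) (-2) (add_zero _)).hom w))) := by
      simp
    rw [hsplit, map_add]
    exact Submodule.add_mem _ (cons_neg_sum_mem_triv f F _) (cons_zero_mem_triv f F _ (D.d2 _))

omit [CommRing A] in
lemma get_cons (f : A) (l : List A) :
    ((f :: l).get : Fin (l.length + 1) → A) = Fin.cons f l.get := by
  ext k
  refine Fin.cases ?_ (fun j => ?_) k <;> rfl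

theorem nonempty_data : ∀ l : List A, Nonempty (DataK (Koszul.koszul A l) l.length l.get)
  | [] => ⟨dataNil _⟩
  | f :: l => by
    obtain ⟨D⟩ := nonempty_data l
    obtain ⟨D'⟩ := nonempty_dataK_cone (Koszul.koszul A l) (isZero_X_pos l 1 one_pos) f l.get D
    rw [← get_cons] at D'
    exact ⟨D'⟩


/-- **Koszul-regular sequences are `H_1`-regular** (mapping-cone model of the Koszul complex). -/
theorem isH1Regular_of_isKoszulRegularSeq (l : List A) (h : LCI.IsKoszulRegularSeq A l) :
    CAlgX.IsH1Regular l.get := by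
  obtain ⟨D⟩ := nonempty_data l
  intro a ha
  obtain ⟨v, rfl⟩ := D.surj a
  have hd : ((Koszul.koszul A l).d (-1) 0).hom v = 0 := by
    apply D.e0.injective
    rw [D.d1, map_zero]
    exact ha
  have hex := h (-1) (by norm_num)
  rw [← HomologicalComplex.exactAt_iff_isZero_homology,
    HomologicalComplex.exactAt_iff' _ (-2) (-1) 0 (by simp) (by simp),
    ShortComplex.moduleCat_exact_iff] at hex
  obtain ⟨w, hw⟩ := hex v hd
  have := D.d2 w
  change D.e1 v ∈ triv l.get
  rw [← hw]
  exact this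

end Groth.Agent.Helper13KzH1
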