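import Groth.Agent.Lib.Helper13KzEngine
import Groth.Agent.Lib.Helper13TorBal
import Groth.Prelude.Def_IntMult

/-!
# Koszul homology of a (weakly) regular sequence computes `Tor(A/(l), -)` (helper13)

* `KF l`, `TK l n`: the Koszul complex / Koszul homology as functors of the module.
* `isEffDelta_TK`: for `l` weakly regular on `A`, `TK l` is an effaceable δ-functor.
* `aug`, `augNat`: the natural surjection `M → H^0(K(l; M))` with kernel `(l)M`.
* `nonempty_tor_iso_KH`: `Tor_n(A/(l), M) ≅ H^{-n}(K(l; M))`.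
* `intMult_chi_eq_chi`: `IntMult.chi A (A/(l)) M = chi l M`.
-/

set_option autoImplicit false

namespace Groth.Agent.Helper13Kz
open CategoryTheory CochainComplex MonoidalCategory CohIII Pointwise
open Groth.Agent.Lib.Helper21 Groth.Agent.Helper13Tor

universe u
variable {A : Type u} [CommRing A]

lemma koszulMap_id (M : ModuleCat.{u} A) : ∀ fs : List A, koszulMap (𝟙 M) fs = 𝟙 (koszulCx M fs)
  | [] => by
    show (HomologicalComplex.single (ModuleCat.{u} A) (ComplexShape.up ℤ) 0).map (𝟙 M) = _
    rw [CategoryTheory.Functor.map_id]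
    rfl
  | f :: fs => by
    show mappingCone.map _ _ (koszulMap (𝟙 M) fs) (koszulMap (𝟙 M) fs) _ = _
    have h := koszulMap_id M fs
    simp only [h]
    exact mappingCone.map_id _

lemma koszulMap_comp {M N P : ModuleCat.{u} A} (g : M ⟶ N) (h : N ⟶ P) :
    ∀ fs : List A, koszulMap (g ≫ h) fs = koszulMap g fs ≫ koszulMap h fs
  | [] => by
    show (HomologicalComplex.single (ModuleCat.{u} A) (ComplexShape.up ℤ) 0).map (g ≫ h) = _
    rw [CategoryTheory.Functor.map_comp]
    rfl
  | f :: fs => by
    show mappingCone.map _ _ (koszulMap (g ≫ h) fs) (koszulMap (g ≫ h) fs) _ = _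
    have ih := koszulMap_comp g h fs
    simp only [ih]
    exact mappingCone.map_comp _ _ _ _ _ _ _ _ _

/-- the Koszul complex as a functor of the module -/
noncomputable def KF (l : List A) : ModuleCat.{u} A ⥤ CochainComplex (ModuleCat.{u} A) ℤ where
  obj M := koszulCx M l
  map g := koszulMap g l
  map_id M := koszulMap_id M l
  map_comp g h := koszulMap_comp g h l

/-- Koszul homology in degree `-n` as a functor -/
noncomputable def TK (l : List A) (n : ℕ) : ModuleCat.{u} A ⥤ ModuleCat.{u} A :=
  KF l ⋙ HomologicalComplex.homologyFunctor (ModuleCat.{u} A) (ComplexShape.up ℤ) (-(n : ℤ))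


theorem isZero_KH_of_weaklyRegular : ∀ (l : List A) (M : ModuleCat.{u} A),
    RingTheory.Sequence.IsWeaklyRegular M l → ∀ i : ℤ, i ≠ 0 → Limits.IsZero ((koszulCx M l).homology i)
  | [], M, _, i, hi => by
    apply isZero_homology_of_isZero_X
    exact HomologicalComplex.isZero_single_obj_X (ComplexShape.up ℤ) 0 M i hi
  | f :: fs, M, h, i, hi => by
    rw [RingTheory.Sequence.isWeaklyRegular_cons_iff] at h
    rw [isZero_homology_cons_iff M f h.1 fs i]
    exact isZero_KH_of_weaklyRegular fs (quotObj M f) h.2 i hi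

theorem isWeaklyRegular_of_flat {l : List A} (hl : RingTheory.Sequence.IsWeaklyRegular A l)
    (X : Type u) [AddCommGroup X] [Module A X] [Module.Flat A X] :
    RingTheory.Sequence.IsWeaklyRegular X l := by
  have h1 : RingTheory.Sequence.IsWeaklyRegular (TensorProduct A X A) l :=
    hl.isWeaklyRegular_lTensor
  exact ((TensorProduct.rid A X).isWeaklyRegular_congr l).mp h1

theorem isEffDelta_TK (l : List A) (hl : RingTheory.Sequence.IsWeaklyRegular A l) :
    Helper13Delta.IsEffDelta (TK l) where
  exists_δ S hS n := by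
    have hf : Function.Injective S.f.hom := (ModuleCat.mono_iff_injective _).mp hS.mono_f
    have hg : Function.Surjective S.g.hom := (ModuleCat.epi_iff_surjective _).mp hS.epi_g
    have hfg : Function.Exact S.f.hom S.g.hom :=
      (ShortComplex.ShortExact.moduleCat_exact_iff_function_exact S).mp hS.exact
    have hK := koszul_shortExact S.f S.g hf hg hfg l
    have hij : (ComplexShape.up ℤ).Rel (-((n + 1 : ℕ) : ℤ)) (-(n : ℤ)) := by
      show -((n + 1 : ℕ) : ℤ) + 1 = -(n : ℤ)
      push_cast
      ring
    exact ⟨hK.δ _ _ hij, hK.comp_δ _ _ hij, hK.δ_comp _ _ hij, hK.homology_exact₃ _ _ hij,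
      hK.homology_exact₁ _ _ hij⟩
  isZero_of_projective X _ n := by
    have : Module.Flat A X := inferInstance
    have hX := isWeaklyRegular_of_flat hl X
    refine isZero_KH_of_weaklyRegular l X hX _ ?_
    push_cast
    omega


/-- two functors receiving natural surjections from the identity with the same kernels are
isomorphic -/
theorem nonempty_natIso_of_surjections {F G : ModuleCat.{u} A ⥤ ModuleCat.{u} A}
    (α : 𝟭 (ModuleCat.{u} A) ⟶ F) (β : 𝟭 (ModuleCat.{u} A) ⟶ G)
    (hα : ∀ M, Function.Surjective (α.app M).hom) (hβ : ∀ M, Function.Surjective (β.app M).hom)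
    (hker : ∀ M, LinearMap.ker (α.app M).hom = LinearMap.ker (β.app M).hom) :
    Nonempty (F ≅ G) := by
  let e : ∀ M : ModuleCat.{u} A, F.obj M ≃ₗ[A] G.obj M := fun M =>
    ((LinearMap.quotKerEquivOfSurjective _ (hα M)).symm.trans
      (Submodule.quotEquivOfEq _ _ (hker M))).trans (LinearMap.quotKerEquivOfSurjective _ (hβ M))
  have he : ∀ (M : ModuleCat.{u} A) (m : M), e M ((α.app M).hom m) = (β.app M).hom m := by
    intro M m
    have h1 : (LinearMap.quotKerEquivOfSurjective _ (hα M)).symm ((α.app M).hom m) =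
        Submodule.Quotient.mk m := by
      rw [LinearEquiv.symm_apply_eq]
      rfl
    show (LinearMap.quotKerEquivOfSurjective _ (hβ M)) ((Submodule.quotEquivOfEq _ _ (hker M))
      ((LinearMap.quotKerEquivOfSurjective _ (hα M)).symm ((α.app M).hom m))) = _
    rw [h1]
    rfl
  refine ⟨NatIso.ofComponents (fun M => (e M).toModuleIso) ?_⟩
  intro M N f
  ext x
  obtain ⟨m, rfl⟩ := hα M x
  show e N ((F.map f).hom ((α.app M).hom m)) = (G.map f).hom (e M ((α.app M).hom m))
  rw [he]
  have h1 : (F.map f).hom ((α.app M).hom m) = (α.app N).hom (f.hom m) := by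
    have := α.naturality f
    have h2 := congrArg (fun k => k.hom m) this
    exact h2.symm
  have h3 : (G.map f).hom ((β.app M).hom m) = (β.app N).hom (f.hom m) := by
    have := β.naturality f
    have h2 := congrArg (fun k => k.hom m) this
    exact h2.symm
  rw [h1, he, h3]


/-- the inclusion of `K(fs; M)` into the cone `K(f :: fs; M)` -/
noncomputable def inrK (M : ModuleCat.{u} A) (f : A) (fs : List A) :
    koszulCx M fs ⟶ koszulCx M (f :: fs) :=
  mappingCone.inr (f • 𝟙 (koszulCx M fs))

lemma inrK_naturality {M N : ModuleCat.{u} A} (g : M ⟶ N) (f : A) (fs : List A) :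
    koszulMap g fs ≫ inrK N f fs = inrK M f fs ≫ koszulMap g (f :: fs) := by
  show _ ≫ mappingCone.inr _ = mappingCone.inr _ ≫ mappingCone.map _ _ _ _ _
  rw [mappingCone.map, mappingCone.inr_desc]

lemma inrK_surjective (M : ModuleCat.{u} A) (f : A) (fs : List A) :
    Function.Surjective (HomologicalComplex.homologyMap (inrK M f fs) 0).hom := by
  have hz : Limits.IsZero ((koszulCx M fs).homology (0 + 1)) :=
    isZero_homology_of_isZero_X _ _ (isZero_koszulCx_X_pos M fs _ (by norm_num))
  have h2 := cone_homology_epi (f • 𝟙 (koszulCx M fs)) 0 hz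
  rw [ModuleCat.epi_iff_surjective] at h2
  exact h2

lemma inrK_exact (M : ModuleCat.{u} A) (f : A) (fs : List A) :
    Function.Exact (f • (LinearMap.id : (koszulCx M fs).homology 0 →ₗ[A] (koszulCx M fs).homology 0))
      (HomologicalComplex.homologyMap (inrK M f fs) 0).hom := by
  have hex := cone_homology_exact₂ (f • 𝟙 (koszulCx M fs)) 0
  rw [ShortComplex.ShortExact.moduleCat_exact_iff_function_exact] at hex
  rw [← homologyMap_smul_id_hom]
  exact hex

/-- the augmentation `M → H^0(K(l; M))` -/
noncomputable def aug (M : ModuleCat.{u} A) : ∀ l : List A, M ⟶ (koszulCx M l).homology 0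
  | [] => (HomologicalComplex.singleObjHomologySelfIso (ComplexShape.up ℤ) 0 M).inv
  | f :: fs => aug M fs ≫ HomologicalComplex.homologyMap (inrK M f fs) 0

lemma aug_naturality {M N : ModuleCat.{u} A} (g : M ⟶ N) : ∀ l : List A,
    g ≫ aug N l = aug M l ≫ HomologicalComplex.homologyMap (koszulMap g l) 0
  | [] => (HomologicalComplex.singleObjHomologySelfIso_inv_naturality (ComplexShape.up ℤ) 0 g).symm
  | f :: fs => by
    show g ≫ aug N fs ≫ _ = (aug M fs ≫ _) ≫ _
    rw [← Category.assoc, aug_naturality g fs, Category.assoc, Category.assoc,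
      ← HomologicalComplex.homologyMap_comp, ← HomologicalComplex.homologyMap_comp,
      inrK_naturality]

lemma aug_surjective (M : ModuleCat.{u} A) : ∀ l : List A, Function.Surjective (aug M l).hom
  | [] => ((HomologicalComplex.singleObjHomologySelfIso (ComplexShape.up ℤ) 0 M).symm
      ).toLinearEquiv.surjective
  | f :: fs => by
    have h1 := aug_surjective M fs
    have h2 := inrK_surjective M f fs
    show Function.Surjective ((aug M fs ≫ HomologicalComplex.homologyMap (inrK M f fs) 0).hom)
    rw [ModuleCat.hom_comp]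
    exact h2.comp h1

lemma aug_ker (M : ModuleCat.{u} A) : ∀ l : List A,
    LinearMap.ker (aug M l).hom = Ideal.ofList l • (⊤ : Submodule A M)
  | [] => by
    rw [Ideal.ofList_nil, Submodule.bot_smul]
    exact LinearMap.ker_eq_bot.mpr ((HomologicalComplex.singleObjHomologySelfIso
      (ComplexShape.up ℤ) 0 M).symm.toLinearEquiv.injective)
  | f :: fs => by
    have hk := aug_ker M fs
    have hs := aug_surjective M fs
    have hex := inrK_exact M f fs
    rw [Ideal.ofList_cons, Submodule.sup_smul, Submodule.ideal_span_singleton_smul, ← hk]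
    ext x
    rw [LinearMap.mem_ker]
    show (HomologicalComplex.homologyMap (inrK M f fs) 0).hom ((aug M fs).hom x) = 0 ↔ _
    rw [hex ((aug M fs).hom x), Submodule.mem_sup]
    constructor
    · rintro ⟨y, hy⟩
      obtain ⟨m, rfl⟩ := hs y
      refine ⟨f • m, Submodule.smul_mem_pointwise_smul m f ⊤ trivial, x - f • m, ?_, by abel⟩
      rw [LinearMap.mem_ker, map_sub, map_smul, ← hy]
      simp
    · rintro ⟨y, hy, z, hz, rfl⟩
      obtain ⟨m, -, rfl⟩ := (Submodule.mem_smul_pointwise_iff_exists _ _ _).mp hy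
      refine ⟨(aug M fs).hom m, ?_⟩
      rw [map_add, LinearMap.mem_ker.mp hz, add_zero, map_smul]
      simp


/-- the natural transformation `M → H^0(K(l; M))` -/
noncomputable def augNat (l : List A) : 𝟭 (ModuleCat.{u} A) ⟶ TK l 0 where
  app M := aug M l
  naturality _ _ g := aug_naturality g l

/-- the quotient map `A → A/I` in `ModuleCat` -/
noncomputable def quotPi (I : Ideal A) : 𝟙_ (ModuleCat.{u} A) ⟶ ModuleCat.of A (A ⧸ I) :=
  ModuleCat.ofHom (Submodule.mkQ I)

/-- the natural transformation `M → (A/I) ⊗ M` -/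
noncomputable def tensNat (I : Ideal A) : 𝟭 (ModuleCat.{u} A) ⟶ tL (ModuleCat.of A (A ⧸ I)) where
  app M := (λ_ M).inv ≫ (quotPi I ▷ M)
  naturality M N g := by
    show g ≫ (λ_ N).inv ≫ (quotPi I ▷ N) = ((λ_ M).inv ≫ (quotPi I ▷ M)) ≫ (_ ◁ g)
    rw [Category.assoc, ← whisker_exchange, ← Category.assoc, ← Category.assoc,
      leftUnitor_inv_naturality]

lemma tensNat_app_apply (I : Ideal A) (M : ModuleCat.{u} A) (m : M) :
    ((tensNat I).app M).hom m = (Submodule.Quotient.mk (1 : A) : A ⧸ I) ⊗ₜ[A] m := by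
  rfl

lemma tensNat_surjective (I : Ideal A) (M : ModuleCat.{u} A) :
    Function.Surjective ((tensNat I).app M).hom := by
  intro z
  induction z using TensorProduct.induction_on with
  | zero => exact ⟨0, map_zero _⟩
  | tmul a m =>
    obtain ⟨a, rfl⟩ := Submodule.Quotient.mk_surjective _ a
    refine ⟨a • m, ?_⟩
    rw [tensNat_app_apply, TensorProduct.tmul_smul, TensorProduct.smul_tmul']
    congr 1
    rw [← Submodule.Quotient.mk_smul, smul_eq_mul, mul_one]
  | add x y hx hy =>
    obtain ⟨a, rfl⟩ := hx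
    obtain ⟨b, rfl⟩ := hy
    exact ⟨a + b, map_add _ _ _⟩

lemma tensNat_ker (I : Ideal A) (M : ModuleCat.{u} A) :
    LinearMap.ker ((tensNat I).app M).hom = I • (⊤ : Submodule A M) := by
  have h : (TensorProduct.quotTensorEquivQuotSMul M I).toLinearMap ∘ₗ ((tensNat I).app M).hom =
      Submodule.mkQ (I • (⊤ : Submodule A M)) := by
    ext m
    show TensorProduct.quotTensorEquivQuotSMul M I ((Submodule.Quotient.mk (1 : A) : A ⧸ I) ⊗ₜ[A] m) = _
    erw [TensorProduct.quotTensorEquivQuotSMul_mk_tmul]
    rw [one_smul]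
    rfl
  rw [← Submodule.ker_mkQ (I • (⊤ : Submodule A M)), ← h, LinearMap.ker_comp,
    LinearEquiv.ker, Submodule.comap_bot]


/-- `H^0(K(l; -)) ≅ (A/(l)) ⊗ -` naturally -/
theorem nonempty_TK_zero_iso (l : List A) :
    Nonempty (TK l 0 ≅ tL (ModuleCat.of A (A ⧸ Ideal.ofList l))) :=
  nonempty_natIso_of_surjections (augNat l) (tensNat (Ideal.ofList l))
    (fun M => aug_surjective M l) (fun M => tensNat_surjective _ M)
    (fun M => by
      show LinearMap.ker (aug M l).hom = _
      rw [aug_ker, tensNat_ker])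

/-- **Koszul homology of a regular sequence computes Tor**: for a weakly regular sequence `l` on `A`,
`Tor_n(A/(l), M) ≅ H^{-n}(K(l; M))`. -/
theorem nonempty_tor_iso_KH (l : List A) (hl : RingTheory.Sequence.IsWeaklyRegular A l)
    (M : ModuleCat.{u} A) (n : ℕ) :
    Nonempty (((Tor (ModuleCat.{u} A) n).obj (ModuleCat.of A (A ⧸ Ideal.ofList l))).obj M ≅
      (koszulCx M l).homology (-(n : ℤ))) := by
  obtain ⟨e⟩ := nonempty_TK_zero_iso (A := A) l
  let P : ProjectiveResolution M := ProjectiveResolution.of M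
  obtain ⟨e2⟩ := Helper13Delta.nonempty_iso (isEffDelta_TK l hl) _ e P n
  exact ⟨torIso P _ n ≪≫ e2.symm⟩

theorem length_tor_eq_length_KH (l : List A) (hl : RingTheory.Sequence.IsWeaklyRegular A l)
    (M : Type u) [AddCommGroup M] [Module A M] (n : ℕ) :
    Module.length A (DRing.Tor A n (A ⧸ Ideal.ofList l) M) =
      Module.length A (KH l M (-(n : ℤ))) := by
  obtain ⟨e⟩ := nonempty_tor_iso_KH l hl (ModuleCat.of A M) n
  exact e.toLinearEquiv.length_eq


lemma finsum_int_eq_finsum_nat (v : ℤ → ℤ) (h : ∀ i : ℤ, 0 < i → v i = 0) :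
    ∑ᶠ i : ℤ, v i = ∑ᶠ n : ℕ, v (-(n : ℤ)) := by
  have hinj : Function.Injective (fun n : ℕ => -(n : ℤ)) := by
    intro a b hab
    simpa using hab
  rw [← finsum_mem_univ, ← finsum_mem_range (f := v) hinj]
  apply finsum_mem_inter_support_eq'
  intro x hx
  simp only [Set.mem_univ, Set.mem_range, true_iff]
  rw [Function.mem_support] at hx
  have hx0 : x ≤ 0 := by
    by_contra hcon
    exact hx (h x (by omega))
  exact ⟨x.natAbs, by omega⟩

/-- the Tor Euler characteristic against `A/(l)` for a regular sequence is the Koszul Euler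
characteristic -/
theorem intMult_chi_eq_chi (l : List A) (hl : RingTheory.Sequence.IsWeaklyRegular A l)
    (M : Type u) [AddCommGroup M] [Module A M] :
    IntMult.chi A (A ⧸ Ideal.ofList l) M = chi l M := by
  unfold IntMult.chi chi chiOf
  rw [finsum_int_eq_finsum_nat]
  · congr 1
    funext n
    show _ = ((Int.negOnePow (-(n : ℤ)) : ℤˣ) : ℤ) * ((Module.length A (KH l M (-(n : ℤ)))).toNat : ℤ)
    rw [length_tor_eq_length_KH l hl M n, Int.negOnePow_neg, Int.coe_negOnePow_natCast]
  · intro i hi
    show ((Int.negOnePow i : ℤˣ) : ℤ) * ((Module.length A (KH l M i)).toNat : ℤ) = 0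
    have : Module.length A (KH l M i) = 0 := by
      rw [Module.length_eq_zero_iff]
      exact subsingleton_KH_of_pos M l i hi
    rw [this]
    simp

end Groth.Agent.Helper13Kz
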