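import Groth.Agent.Lib.Helper13KzPerm
import Groth.Agent.Lib.Helper13KzTor
import Groth.Agent.Lib.Helper8KoszPoly

/-!
# Koszul-regular ideals: quotients, adding variables, transport (helper13)

* `isKoszulRegularSeq_append_iff_of_surjective`: for `z` Koszul-regular and `ψ` surjective with kernel
  `(z)`, `w ++ z` is Koszul-regular iff `ψ(w)` is.
* `isKoszulRegularSeq_of_isWeaklyRegular`.
* `exists_list_of_isKoszulRegularIdeal`: local generators of a Koszul-regular ideal can be taken in the
  ideal.
* `exists_exchange'`, `exists_pow_mul_mem_of_map_mem`.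
* `isKoszulRegularIdeal_map_of_surjective`: **quotient** of a Koszul-regular ideal by a Koszul-regular
  sequence which is pointwise part of a minimal system of generators (`IndAt`).
* `isKoszulRegularIdeal_map_ringEquiv`: transport along ring isomorphisms.
* `isKoszulRegularIdeal_comap_of_retraction`: **adding variables**.
* `indAt_ofFn`: independence criterion through a dual family of derivations.
* `xsub`, `ker_eval_eq`, `isKoszulRegularSeq_xsub`: the sequence `X_j - C (h j)` in a polynomial ring.
-/

set_option autoImplicit false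
universe u

namespace Groth.Agent.Helper13KzIdeal
open CategoryTheory CochainComplex CohIII Limits
open Groth.Agent.Lib.Helper21 Groth.Agent.Helper13Kz Groth.Agent.Helper13KzPerm
open Groth.Agent.Helper13KzLift Groth.Agent.Lib.Helper5.KindFlat

variable {A : Type u} [CommRing A]

section Append

/-- `w ++ z` is Koszul-regular iff `w` is Koszul-regular modulo the Koszul-regular sequence `z` -/
theorem isKoszulRegularSeq_append_iff_of_surjective {T : Type u} [CommRing T] (ψ : A →+* T)
    (hψ : Function.Surjective ψ) (z w : List A) (hker : RingHom.ker ψ = Ideal.ofList z)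
    (hz : LCI.IsKoszulRegularSeq A z) :
    LCI.IsKoszulRegularSeq A (w ++ z) ↔ LCI.IsKoszulRegularSeq T (w.map ψ) := by
  refine ⟨isKoszulRegularSeq_map_of_surjective ψ hψ z w hker hz, fun hw => ?_⟩
  rw [isKoszulRegularSeq_iff] at hz ⊢
  intro i hi
  obtain ⟨E⟩ := nonempty_KH_append_equiv z w hz i
  let N : ModuleCat.{u} A := (ModuleCat.restrictScalars ψ).obj (ModuleCat.of T T)
  let ψl : A →ₗ[A] N :=
    { toFun := fun a => ψ a
      map_add' := fun a b => map_add ψ a b
      map_smul' := fun a b => by
        show ψ (a * b) = ψ a * ψ b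
        exact map_mul ψ a b }
  have hψl : Function.Surjective ψl := hψ
  have hkerl : LinearMap.ker ψl = Ideal.ofList z := by
    rw [← hker]
    ext a
    exact Iff.rfl
  let e : (A ⧸ Ideal.ofList z) ≃ₗ[A] N :=
    (Submodule.quotEquivOfEq _ _ hkerl).symm ≪≫ₗ ψl.quotKerEquivOfSurjective hψl
  have h0 : IsZero ((koszulCx (ModuleCat.of T T) (w.map ψ)).homology i) :=
    (isZero_congr (koszul_eq T (w.map ψ)) i).1 (hw i hi)
  have h1 : Subsingleton (KH w N i) :=
    ModuleCat.subsingleton_of_isZero (isZero_homology_restrict ψ (ModuleCat.of T T) w i h0)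
  have h2 : Subsingleton (KH w (A ⧸ Ideal.ofList z) i) := subsingleton_KH_of_equiv w e.symm i h1
  exact E.toEquiv.subsingleton

/-- a weakly regular sequence is Koszul-regular -/
theorem isKoszulRegularSeq_of_isWeaklyRegular (l : List A)
    (hl : RingTheory.Sequence.IsWeaklyRegular A l) : LCI.IsKoszulRegularSeq A l := by
  rw [isKoszulRegularSeq_iff]
  intro i hi
  exact ModuleCat.subsingleton_of_isZero
    (isZero_KH_of_weaklyRegular l (ModuleCat.of A A) hl i hi)

end Append

section Normal

/-- normal form: the local generators of a Koszul-regular ideal may be taken in the ideal -/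
theorem exists_list_of_isKoszulRegularIdeal (I : Ideal A) (hI : LCI.IsKoszulRegularIdeal I)
    (p : PrimeSpectrum A) (hp : I ≤ p.asIdeal) :
    ∃ g : A, g ∉ p.asIdeal ∧ ∃ l : List A, (∀ x ∈ l, x ∈ I) ∧
      LCI.IsKoszulRegularSeq (Localization.Away g) (l.map (algebraMap A (Localization.Away g))) ∧
      I.map (algebraMap A (Localization.Away g)) =
        Ideal.ofList (l.map (algebraMap A (Localization.Away g))) := by
  classical
  obtain ⟨g, hg, l₀, hl₀, hgen⟩ := hI p hp
  refine ⟨g, hg, ?_⟩
  let φ := algebraMap A (Localization.Away g)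
  have hmem : ∀ x ∈ l₀, ∃ c : A, c ∈ I ∧ ∃ n : ℕ, x * φ g ^ n = φ c := by
    intro x hx
    have hx' : x ∈ I.map φ := by
      rw [hgen]
      exact Ideal.subset_span hx
    obtain ⟨⟨⟨c, hc⟩, ⟨m, hm⟩⟩, h⟩ :=
      (IsLocalization.mem_map_algebraMap_iff (Submonoid.powers g) (Localization.Away g)).1 hx'
    obtain ⟨n, rfl⟩ := hm
    refine ⟨c, hc, n, ?_⟩
    simpa [φ] using h
  let cf : Localization.Away g → A := fun x =>
    if h : ∃ c : A, c ∈ I ∧ ∃ n : ℕ, x * φ g ^ n = φ c then h.choose else 0
  have hcf : ∀ x ∈ l₀, cf x ∈ I ∧ ∃ n : ℕ, x * φ g ^ n = φ (cf x) := by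
    intro x hx
    have h := hmem x hx
    simp only [cf, dif_pos h]
    exact h.choose_spec
  have hunit : ∀ n : ℕ, IsUnit (φ g ^ n) := fun n =>
    (IsLocalization.Away.algebraMap_isUnit g).pow n
  have hideal : Ideal.ofList ((l₀.map cf).map φ) = Ideal.ofList l₀ := by
    apply le_antisymm
    · rw [Ideal.span_le]
      intro y hy
      obtain ⟨c, hc, rfl⟩ := List.mem_map.1 hy
      obtain ⟨x, hx, rfl⟩ := List.mem_map.1 hc
      obtain ⟨-, n, hn⟩ := hcf x hx
      rw [SetLike.mem_coe, ← hn]
      exact Ideal.mul_mem_right _ _ (Ideal.subset_span hx)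
    · rw [Ideal.span_le]
      intro x hx
      obtain ⟨-, n, hn⟩ := hcf x hx
      obtain ⟨u, hu⟩ := hunit n
      have hx2 : x = φ (cf x) * ↑u⁻¹ := by
        rw [← hn, ← hu, mul_assoc, Units.mul_inv, mul_one]
      rw [SetLike.mem_coe, hx2]
      exact Ideal.mul_mem_right _ _
        (Ideal.subset_span (List.mem_map.2 ⟨cf x, List.mem_map.2 ⟨x, hx, rfl⟩, rfl⟩))
  refine ⟨l₀.map cf, ?_, ?_, ?_⟩
  · intro c hc
    obtain ⟨x, hx, rfl⟩ := List.mem_map.1 hc
    exact (hcf x hx).1
  · exact isKoszulRegularSeq_of_ofList_eq l₀ _ hl₀ (by simp) hideal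
  · rw [hideal]
    exact hgen

end Normal


section Exchange

/-- exchange lemma, generators only near `p` -/
theorem exists_exchange' (p : Ideal A) [p.IsPrime] (I : Ideal A) (l : List A)
    (hlI : ∀ x ∈ l, x ∈ I) :
    ∀ (z : List A), (∀ y ∈ z, ∃ s : A, s ∉ p ∧ s * y ∈ Ideal.ofList l) → IndAt p I z →
      ∃ (w : List A) (s : A), w.Sublist l ∧ (z ++ w).length = l.length ∧ s ∉ p ∧
        (∀ a ∈ Ideal.ofList l, s * a ∈ Ideal.ofList (z ++ w))
  | [], _, _ => by
    refine ⟨l, 1, List.Sublist.refl l, rfl, ?_, ?_⟩
    · exact fun h => Ideal.IsPrime.ne_top ‹_› ((Ideal.eq_top_iff_one p).2 h)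
    · intro a ha
      rw [one_mul, List.nil_append]
      exact ha
  | y :: z', hz, hind => by
    obtain ⟨w', s', hsub, hlen, hs', hgen⟩ := exists_exchange' p I l hlI z'
      (fun t ht => hz t (List.mem_cons_of_mem _ ht)) hind.1
    have hw' : ∀ x ∈ w', x ∈ I := fun x hx => hlI x (hsub.subset hx)
    obtain ⟨sy, hsy, hsyl⟩ := hz y List.mem_cons_self
    have hy := hgen (sy * y) hsyl
    rw [Ideal.ofList_append, Submodule.mem_sup] at hy
    obtain ⟨u, hu, v, hv, huv⟩ := hy
    have hs'' : s' * sy ∉ p := by
      intro h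
      rcases Ideal.IsPrime.mem_or_mem ‹_› h with h | h
      · exact hs' h
      · exact hsy h
    rcases exists_split p I w' hw' v hv with h | ⟨w₁, w₂, x, b, rfl, hb, hbx⟩
    · exfalso
      apply hind.2 (s' * sy) hs''
      rw [mul_assoc, ← huv]
      exact add_mem (Ideal.mem_sup_left hu) (Ideal.mem_sup_right h)
    · refine ⟨w₁ ++ w₂, b * s', ?_, ?_, ?_, ?_⟩
      · exact ((List.sublist_cons_self x w₂).append_left w₁).trans hsub
      · rw [← hlen]
        simp only [List.length_append, List.length_cons]
        omega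
      · intro h
        rcases Ideal.IsPrime.mem_or_mem ‹_› h with h | h
        · exact hb h
        · exact hs' h
      · let G' : Ideal A := Ideal.ofList (y :: z' ++ (w₁ ++ w₂))
        have hyG : y ∈ G' := Ideal.subset_span List.mem_cons_self
        have hzG : Ideal.ofList z' ≤ G' := Ideal.span_mono (fun t ht =>
          List.mem_cons_of_mem _ (List.mem_append_left _ ht))
        have hwG : Ideal.ofList (w₁ ++ w₂) ≤ G' := Ideal.span_mono (fun t ht =>
          List.mem_cons_of_mem _ (List.mem_append_right _ ht))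
        have hbxG : b * x ∈ G' := by
          have e : b * x = (b * x - v) + (s' * (sy * y) - u) := by
            rw [← huv]
            ring
          rw [e]
          exact add_mem (hwG hbx) (sub_mem (Ideal.mul_mem_left _ _ (Ideal.mul_mem_left _ _ hyG))
            (hzG hu))
        have key : ∀ t ∈ Ideal.ofList (z' ++ (w₁ ++ x :: w₂)), b * t ∈ G' := by
          intro t ht
          induction ht using Submodule.span_induction with
          | mem t ht =>
            rcases List.mem_append.1 ht with ht | ht
            · exact Ideal.mul_mem_left _ _ (hzG (Ideal.subset_span ht))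
            · rcases List.mem_append.1 ht with ht | ht
              · exact Ideal.mul_mem_left _ _ (hwG (Ideal.subset_span (List.mem_append_left _ ht)))
              · rcases List.mem_cons.1 ht with rfl | ht
                · exact hbxG
                · exact Ideal.mul_mem_left _ _
                    (hwG (Ideal.subset_span (List.mem_append_right _ ht)))
          | zero => rw [mul_zero]; exact zero_mem _
          | add t t' _ _ h1 h2 => rw [mul_add]; exact add_mem h1 h2
          | smul c t _ h1 =>
            rw [smul_eq_mul, mul_left_comm]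
            exact Ideal.mul_mem_left _ _ h1
        intro a ha
        rw [mul_assoc]
        exact key _ (hgen a ha)

/-- clearing denominators in a localization away from `g` -/
theorem exists_pow_mul_mem_of_map_mem (g : A) (I : Ideal A) (a : A)
    (h : algebraMap A (Localization.Away g) a ∈ I.map (algebraMap A (Localization.Away g))) :
    ∃ n : ℕ, g ^ n * a ∈ I := by
  obtain ⟨⟨⟨c, hc⟩, ⟨m, hm⟩⟩, h⟩ :=
    (IsLocalization.mem_map_algebraMap_iff (Submonoid.powers g) (Localization.Away g)).1 h
  obtain ⟨n, rfl⟩ := hm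
  simp only at h
  rw [← map_mul] at h
  obtain ⟨⟨m', ⟨n', rfl⟩⟩, h'⟩ := (IsLocalization.eq_iff_exists (Submonoid.powers g)
    (Localization.Away g)).1 h
  simp only at h'
  refine ⟨n' + n, ?_⟩
  have e : g ^ (n' + n) * a = g ^ n' * (a * g ^ n) := by ring
  rw [e, h']
  exact Ideal.mul_mem_left _ _ hc

end Exchange


section Quot

variable {S R : Type u} [CommRing S] [CommRing R]

/-- **Quotient of a Koszul-regular ideal** by a Koszul-regular sequence which is part of a minimal
system of generators at every point. -/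
theorem isKoszulRegularIdeal_map_of_surjective (ev : S →+* R) (hev : Function.Surjective ev)
    (z : List S) (hker : RingHom.ker ev = Ideal.ofList z) (hz : LCI.IsKoszulRegularSeq S z)
    (J' : Ideal S) (hJ' : LCI.IsKoszulRegularIdeal J') (hzJ : ∀ y ∈ z, y ∈ J')
    (hind : ∀ p : Ideal S, p.IsPrime → J' ≤ p → IndAt p J' z) :
    LCI.IsKoszulRegularIdeal (J'.map ev) := by
  intro q hq
  let p : PrimeSpectrum S := PrimeSpectrum.comap ev q
  have hp : J' ≤ p.asIdeal := Ideal.map_le_iff_le_comap.1 hq
  obtain ⟨g₀, hg₀, l, hlJ, hlK, hlgen⟩ := exists_list_of_isKoszulRegularIdeal J' hJ' p hp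
  let φ₀ := algebraMap S (Localization.Away g₀)
  have hpow : ∀ n : ℕ, g₀ ^ n ∉ p.asIdeal := fun n h => hg₀ (p.isPrime.mem_of_pow_mem n h)
  have hz2 : ∀ y ∈ z, ∃ s : S, s ∉ p.asIdeal ∧ s * y ∈ Ideal.ofList l := by
    intro y hy
    have h1 : φ₀ y ∈ (Ideal.ofList l).map φ₀ := by
      rw [Ideal.map_ofList, ← hlgen]
      exact Ideal.mem_map_of_mem _ (hzJ y hy)
    obtain ⟨n, hn⟩ := exists_pow_mul_mem_of_map_mem g₀ (Ideal.ofList l) y h1
    exact ⟨g₀ ^ n, hpow n, hn⟩
  have : p.asIdeal.IsPrime := p.isPrime
  obtain ⟨w, s, hsub, hlen, hs, hgen⟩ := exists_exchange' p.asIdeal J' l hlJ z hz2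
    (hind p.asIdeal p.isPrime hp)
  have hwJ : ∀ x ∈ w, x ∈ J' := fun x hx => hlJ x (hsub.subset hx)
  -- the second localization
  let T₁ := Localization.Away (algebraMap S (Localization.Away g₀) s)
  have instT₁ : IsLocalization.Away (g₀ * s) T₁ := inferInstance
  let φ₁ := algebraMap (Localization.Away g₀) T₁
  let a₁ := algebraMap S T₁
  have ha₁ : a₁ = φ₁.comp φ₀ := IsScalarTower.algebraMap_eq S (Localization.Away g₀) T₁
  have hφ₁ : φ₁.Flat := RingHom.flat_algebraMap_iff.2
    (IsLocalization.flat T₁ (Submonoid.powers (algebraMap S (Localization.Away g₀) s)))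
  have hflat : a₁.Flat := RingHom.flat_algebraMap_iff.2
    (IsLocalization.flat T₁ (Submonoid.powers (g₀ * s)))
  have hmap : ∀ k : List S, k.map a₁ = (k.map φ₀).map φ₁ := by
    intro k
    rw [List.map_map, ha₁]
    rfl
  have hlK₁ : LCI.IsKoszulRegularSeq T₁ (l.map a₁) := by
    rw [hmap]
    exact isKoszulRegularSeq_map_of_flat φ₁ hφ₁ _ hlK
  have hJ₁ : J'.map a₁ = Ideal.ofList (l.map a₁) := by
    rw [hmap, ← Ideal.map_ofList, ← hlgen, Ideal.map_map, ha₁]
  have hsunit : IsUnit (a₁ s) := IsLocalization.Away.isUnit_of_dvd (g₀ * s) (Dvd.intro_left g₀ rfl)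
  have hzw : Ideal.ofList ((z ++ w).map a₁) = Ideal.ofList (l.map a₁) := by
    apply le_antisymm
    · rw [← hJ₁, Ideal.span_le]
      intro y hy
      obtain ⟨x, hx, rfl⟩ := List.mem_map.1 hy
      apply Ideal.mem_map_of_mem
      rcases List.mem_append.1 hx with hx | hx
      · exact hzJ x hx
      · exact hwJ x hx
    · rw [Ideal.span_le]
      intro y hy
      obtain ⟨x, hx, rfl⟩ := List.mem_map.1 hy
      have h1 : a₁ (s * x) ∈ (Ideal.ofList (z ++ w)).map a₁ :=
        Ideal.mem_map_of_mem _ (hgen x (Ideal.subset_span hx))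
      rw [map_mul, Ideal.unit_mul_mem_iff_mem _ hsunit, Ideal.map_ofList] at h1
      exact h1
  have hzwK : LCI.IsKoszulRegularSeq T₁ ((z ++ w).map a₁) :=
    isKoszulRegularSeq_of_ofList_eq (l.map a₁) _ hlK₁
      (by rw [List.length_map, List.length_map, hlen]) hzw
  have hwzK : LCI.IsKoszulRegularSeq T₁ (w.map a₁ ++ z.map a₁) := by
    refine isKoszulRegularSeq_of_perm ?_ hzwK
    rw [List.map_append]
    exact List.perm_append_comm
  have hzK₁ : LCI.IsKoszulRegularSeq T₁ (z.map a₁) := isKoszulRegularSeq_map_of_flat a₁ hflat z hz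
  -- the surjection onto the localization of `R`
  let g : R := ev (g₀ * s)
  have hgq : g ∉ q.asIdeal := by
    intro h
    have h1 : g₀ * s ∈ p.asIdeal := h
    rcases p.isPrime.mem_or_mem h1 with h2 | h2
    · exact hg₀ h2
    · exact hs h2
  have hT : Submonoid.map ev (Submonoid.powers (g₀ * s)) = Submonoid.powers g :=
    Submonoid.map_powers ev (g₀ * s)
  let ψ : T₁ →+* Localization.Away g :=
    IsLocalization.map (Localization.Away g) ev (hT.symm ▸ (Submonoid.powers (g₀ * s)).le_comap_map)
  have hψker : RingHom.ker ψ = Ideal.ofList (z.map a₁) := by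
    rw [← Ideal.map_ofList, ← hker]
    exact IsLocalization.ker_map (Localization.Away g) ev hT
  have hψsurj : Function.Surjective ψ := by
    have : IsLocalization (Submonoid.map ev (Submonoid.powers (g₀ * s))) (Localization.Away g) := by
      rw [hT]
      infer_instance
    exact IsLocalization.map_surjective_of_surjective _ _ _ hev
  have hψa : ψ.comp a₁ = (algebraMap R (Localization.Away g)).comp ev := IsLocalization.map_comp _
  refine ⟨g, hgq, (w.map a₁).map ψ,
    isKoszulRegularSeq_map_of_surjective ψ hψsurj (z.map a₁) (w.map a₁) hψker hzK₁ hwzK, ?_⟩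
  have h1 : (J'.map ev).map (algebraMap R (Localization.Away g)) = (J'.map a₁).map ψ := by
    rw [Ideal.map_map, Ideal.map_map, hψa]
  have h2 : (Ideal.ofList (z.map a₁)).map ψ = ⊥ := by
    rw [Ideal.map_eq_bot_iff_le_ker, hψker]
  rw [h1, hJ₁, ← hzw, List.map_append, Ideal.ofList_append, Ideal.map_sup, h2, bot_sup_eq,
    Ideal.map_ofList]

end Quot


section Transport

variable {S R : Type u} [CommRing S] [CommRing R]

/-- Koszul-regular ideals are transported by ring isomorphisms -/
theorem isKoszulRegularIdeal_map_ringEquiv (σ : S ≃+* R) (J : Ideal S)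
    (hJ : LCI.IsKoszulRegularIdeal J) : LCI.IsKoszulRegularIdeal (J.map (σ : S →+* R)) := by
  intro q hq
  let p : PrimeSpectrum S := PrimeSpectrum.comap (σ : S →+* R) q
  have hp : J ≤ p.asIdeal := Ideal.map_le_iff_le_comap.1 hq
  obtain ⟨g, hg, l₀, hl₀, hgen⟩ := hJ p hp
  have hT : (Submonoid.powers g).map (σ : S ≃+* R).toMonoidHom = Submonoid.powers (σ g) :=
    Submonoid.map_powers _ g
  let κ : Localization.Away g ≃+* Localization.Away (σ g) :=
    IsLocalization.ringEquivOfRingEquiv (Localization.Away g) (Localization.Away (σ g)) σ hT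
  have hκ : (κ : Localization.Away g →+* Localization.Away (σ g)).comp
      (algebraMap S (Localization.Away g)) =
      (algebraMap R (Localization.Away (σ g))).comp (σ : S →+* R) := by
    refine RingHom.ext fun x => ?_
    show κ (algebraMap S (Localization.Away g) x) = algebraMap R (Localization.Away (σ g)) (σ x)
    rw [IsLocalization.ringEquivOfRingEquiv_apply]
    exact IsLocalization.map_eq _ x
  have hgen' : J.map (algebraMap S (Localization.Away g)) = Ideal.ofList l₀ := hgen
  refine ⟨σ g, hg, l₀.map κ, ?_, ?_⟩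
  · exact isKoszulRegularSeq_map_of_flat (κ : Localization.Away g →+* Localization.Away (σ g))
      (RingHom.Flat.of_bijective κ.bijective) l₀ hl₀
  · have h1 : Ideal.span {x | x ∈ l₀.map κ} =
        (Ideal.ofList l₀).map (κ : Localization.Away g →+* Localization.Away (σ g)) := by
      rw [Ideal.map_ofList]
      rfl
    rw [h1, ← hgen', Ideal.map_map, Ideal.map_map, hκ]

end Transport

section AddVar

variable {S R : Type u} [CommRing S] [CommRing R]

/-- adding variables: for a retraction `ev : S → R` of `ι : R → S` whose kernel is generated by a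
Koszul-regular sequence, the preimage of a Koszul-regular ideal is Koszul-regular -/
theorem isKoszulRegularIdeal_comap_of_retraction (ι : R →+* S) (ev : S →+* R)
    (hev : ev.comp ι = RingHom.id R) (z : List S) (hker : RingHom.ker ev = Ideal.ofList z)
    (hz : LCI.IsKoszulRegularSeq S z) (J : Ideal R) (hJ : LCI.IsKoszulRegularIdeal J) :
    LCI.IsKoszulRegularIdeal (J.comap ev) := by
  have hevs : Function.Surjective ev := fun r => ⟨ι r, RingHom.congr_fun hev r⟩
  have hcomap : J.comap ev = J.map ι ⊔ Ideal.ofList z := by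
    apply le_antisymm
    · intro x hx
      have h1 : ev (x - ι (ev x)) = 0 := by
        rw [map_sub, sub_eq_zero]
        exact (RingHom.congr_fun hev (ev x)).symm
      have h2 : x = ι (ev x) + (x - ι (ev x)) := by ring
      rw [h2]
      refine add_mem (Ideal.mem_sup_left (Ideal.mem_map_of_mem _ hx)) (Ideal.mem_sup_right ?_)
      rw [← hker]
      exact h1
    · apply sup_le
      · rw [Ideal.map_le_iff_le_comap]
        intro x hx
        show ev (ι x) ∈ J
        rw [show ev (ι x) = x from RingHom.congr_fun hev x]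
        exact hx
      · rw [← hker]
        intro x hx
        show ev x ∈ J
        rw [RingHom.mem_ker.1 hx]
        exact zero_mem _
  intro p' hp'
  let p : PrimeSpectrum R := PrimeSpectrum.comap ι p'
  have hp : J ≤ p.asIdeal := by
    intro x hx
    show ι x ∈ p'.asIdeal
    apply hp'
    show ev (ι x) ∈ J
    rw [show ev (ι x) = x from RingHom.congr_fun hev x]
    exact hx
  obtain ⟨g, hg, l, hlJ, hlK, hlgen⟩ := exists_list_of_isKoszulRegularIdeal J hJ p hp
  have hgp' : ι g ∉ p'.asIdeal := hg
  let T' := Localization.Away (ι g)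
  let a' := algebraMap S T'
  let φ := algebraMap R (Localization.Away g)
  have hflat : a'.Flat := RingHom.flat_algebraMap_iff.2
    (IsLocalization.flat T' (Submonoid.powers (ι g)))
  -- the surjection `T' → R_g`
  have hevg : ev (ι g) = g := RingHom.congr_fun hev g
  have hT : Submonoid.map ev (Submonoid.powers (ι g)) = Submonoid.powers g := by
    rw [Submonoid.map_powers, hevg]
  let ψ : T' →+* Localization.Away g :=
    IsLocalization.map (Localization.Away g) ev (hT.symm ▸ (Submonoid.powers (ι g)).le_comap_map)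
  have hψker : RingHom.ker ψ = Ideal.ofList (z.map a') := by
    rw [← Ideal.map_ofList, ← hker]
    exact IsLocalization.ker_map (Localization.Away g) ev hT
  have hψsurj : Function.Surjective ψ := by
    have : IsLocalization (Submonoid.map ev (Submonoid.powers (ι g))) (Localization.Away g) := by
      rw [hT]
      infer_instance
    exact IsLocalization.map_surjective_of_surjective _ _ _ hevs
  have hψa : ψ.comp a' = φ.comp ev := IsLocalization.map_comp _
  -- the map `R_g → T'`
  have hT2 : Submonoid.powers g ≤ (Submonoid.powers (ι g)).comap ι := by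
    rintro x ⟨n, rfl⟩
    exact ⟨n, by simp⟩
  let κ : Localization.Away g →+* T' := IsLocalization.map T' ι hT2
  have hκ : κ.comp φ = a'.comp ι := IsLocalization.map_comp _
  have hzK : LCI.IsKoszulRegularSeq T' (z.map a') := isKoszulRegularSeq_map_of_flat a' hflat z hz
  have hwψ : ((l.map ι).map a').map ψ = l.map φ := by
    rw [List.map_map, List.map_map]
    apply List.map_congr_left
    intro x _
    show ψ (a' (ι x)) = φ x
    have h1 : ψ (a' (ι x)) = φ (ev (ι x)) := RingHom.congr_fun hψa (ι x)
    rw [h1, show ev (ι x) = x from RingHom.congr_fun hev x]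
  have hK : LCI.IsKoszulRegularSeq T' ((l.map ι).map a' ++ z.map a') := by
    rw [isKoszulRegularSeq_append_iff_of_surjective ψ hψsurj (z.map a') _ hψker hzK, hwψ]
    exact hlK
  refine ⟨ι g, hgp', (l.map ι ++ z).map a', ?_, ?_⟩
  · rw [List.map_append]
    exact hK
  · have hfun : ∀ x, κ (φ x) = a' (ι x) := fun x => RingHom.congr_fun hκ x
    have h1 : (J.map ι).map a' = Ideal.ofList ((l.map ι).map a') :=
      calc (J.map ι).map a' = J.map (a'.comp ι) := Ideal.map_map _ _
        _ = J.map (κ.comp φ) := by rw [hκ]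
        _ = (J.map φ).map κ := (Ideal.map_map _ _).symm
        _ = (Ideal.ofList (l.map φ)).map κ := by rw [hlgen]
        _ = Ideal.ofList ((l.map φ).map κ) := Ideal.map_ofList _ _
        _ = Ideal.ofList ((l.map ι).map a') := by
          congr 1
          rw [List.map_map, List.map_map]
          exact List.map_congr_left (fun x _ => hfun x)
    show Ideal.map a' (J.comap ev) = Ideal.ofList ((l.map ι ++ z).map a')
    rw [hcomap, Ideal.map_sup, h1, Ideal.map_ofList, List.map_append, Ideal.ofList_append]

end AddVar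

section Deriv

/-- independence criterion: a family with a dual family of derivations -/
theorem indAt_ofFn {R₀ : Type*} [CommRing R₀] [Algebra R₀ A] (p I : Ideal A) [p.IsPrime]
    (hIp : I ≤ p) : ∀ (n : ℕ) (f : Fin n → A) (D : Fin n → Derivation R₀ A A),
    (∀ i, f i ∈ I) → (∀ i j, D i (f j) = if i = j then 1 else 0) → IndAt p I (List.ofFn f)
  | 0, _, _, _, _ => by
    rw [List.ofFn_zero]
    trivial
  | n + 1, f, D, hf, hD => by
    rw [List.ofFn_succ]
    refine ⟨indAt_ofFn p I hIp n (fun i => f i.succ) (fun i => D i.succ) (fun i => hf _)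
      (fun i j => by
        rw [hD]
        simp only [Fin.succ_inj]), ?_⟩
    have hspan : ∀ u ∈ Ideal.ofList (List.ofFn fun i : Fin n => f i.succ),
        u ∈ p ∧ D 0 u ∈ p := by
      intro u hu
      induction hu using Submodule.span_induction with
      | mem t ht =>
        obtain ⟨j, rfl⟩ := (List.mem_ofFn' _ _).1 ht
        refine ⟨hIp (hf _), ?_⟩
        rw [hD, if_neg (Fin.succ_ne_zero j).symm]
        exact zero_mem _
      | zero => exact ⟨zero_mem _, by rw [map_zero]; exact zero_mem _⟩
      | add t t' _ _ h1 h2 => exact ⟨add_mem h1.1 h2.1, by rw [map_add]; exact add_mem h1.2 h2.2⟩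
      | smul c t _ h1 =>
        refine ⟨Ideal.mul_mem_left _ _ h1.1, ?_⟩
        rw [smul_eq_mul, Derivation.leibniz]
        exact add_mem (Ideal.mul_mem_left _ _ h1.2) (Ideal.mul_mem_right _ _ h1.1)
    intro s hs hmem
    rw [Submodule.mem_sup] at hmem
    obtain ⟨u, hu, v, hv, huv⟩ := hmem
    have hu' := hspan u hu
    have hv' : D 0 v ∈ p := by
      refine Submodule.mul_induction_on hv ?_ ?_
      · intro a ha b hb
        rw [Derivation.leibniz]
        exact add_mem (Ideal.mul_mem_right _ _ ha) (Ideal.mul_mem_right _ _ (hIp hb))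
      · intro a b ha hb
        rw [map_add]
        exact add_mem ha hb
    have h1 : D 0 (s * f 0) ∈ p := by
      rw [← huv, map_add]
      exact add_mem hu'.2 hv'
    rw [Derivation.leibniz, hD, if_pos rfl, smul_eq_mul, mul_one, smul_eq_mul] at h1
    have h2 : f 0 * D 0 s ∈ p := Ideal.mul_mem_right _ _ (hIp (hf 0))
    exact hs ((Ideal.add_mem_iff_left _ h2).1 h1)

end Deriv

section PolyNS
open MvPolynomial

section Poly
variable {R : Type u} [CommRing R] (k : ℕ) (h : Fin k → R)

/-- the list `X_j - C (h j)` -/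
noncomputable def xsub : List (MvPolynomial (Fin k) R) :=
  List.ofFn (fun j : Fin k => (X j : MvPolynomial (Fin k) R) - C (h j))

theorem ker_eval_eq : RingHom.ker (MvPolynomial.eval h : MvPolynomial (Fin k) R →+* R) =
    Ideal.ofList (xsub k h) := by
  apply le_antisymm
  · have key : ∀ f : MvPolynomial (Fin k) R, f - C (MvPolynomial.eval h f) ∈
        Ideal.ofList (xsub k h) := by
      intro f
      induction f using MvPolynomial.induction_on with
      | C a => simp
      | add f g hf hg =>
        have e : f + g - C (MvPolynomial.eval h (f + g)) =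
            (f - C (MvPolynomial.eval h f)) + (g - C (MvPolynomial.eval h g)) := by
          rw [map_add, map_add]
          ring
        rw [e]
        exact add_mem hf hg
      | mul_X f j hf =>
        have e : f * X j - C (MvPolynomial.eval h (f * X j)) =
            (f - C (MvPolynomial.eval h f)) * X j +
              C (MvPolynomial.eval h f) * (X j - C (h j)) := by
          rw [map_mul, eval_X, map_mul]
          ring
        rw [e]
        refine add_mem (Ideal.mul_mem_right _ _ hf) (Ideal.mul_mem_left _ _ (Ideal.subset_span ?_))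
        exact (List.mem_ofFn' _ _).2 ⟨j, rfl⟩
    intro f hf
    have := key f
    rwa [RingHom.mem_ker.1 hf, map_zero, sub_zero] at this
  · rw [Ideal.span_le]
    intro f hf
    obtain ⟨j, rfl⟩ := (List.mem_ofFn' _ _).1 hf
    rw [SetLike.mem_coe, RingHom.mem_ker, map_sub, eval_X, eval_C, sub_self]

/-- the translation automorphism `X_j ↦ X_j - C (h j)` -/
noncomputable def transl : MvPolynomial (Fin k) R ≃ₐ[R] MvPolynomial (Fin k) R :=
  AlgEquiv.ofAlgHom (aeval fun j => (X j : MvPolynomial (Fin k) R) - C (h j))
    (aeval fun j => (X j : MvPolynomial (Fin k) R) + C (h j))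
    (by
      apply MvPolynomial.algHom_ext
      intro j
      simp)
    (by
      apply MvPolynomial.algHom_ext
      intro j
      simp)

theorem isKoszulRegularSeq_xsub : LCI.IsKoszulRegularSeq (MvPolynomial (Fin k) R) (xsub k h) := by
  have h1 : RingTheory.Sequence.IsWeaklyRegular (MvPolynomial (Fin k) R)
      (Groth.Agent.Lib.Helper8KoszLim.Xs (A := R) k) := by
    have := Groth.Agent.Lib.Helper8KoszLim.wreg (A := R) k 1
    have e : (Groth.Agent.Lib.Helper8KoszLim.Xs (A := R) k).map (· ^ 1) =
        Groth.Agent.Lib.Helper8KoszLim.Xs (A := R) k := by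
      conv_rhs => rw [← List.map_id (Groth.Agent.Lib.Helper8KoszLim.Xs (A := R) k)]
      exact List.map_congr_left (fun x _ => pow_one x)
    rwa [e] at this
  have h2 : LCI.IsKoszulRegularSeq (MvPolynomial (Fin k) R)
      (Groth.Agent.Lib.Helper8KoszLim.Xs (A := R) k) := by
    rw [isKoszulRegularSeq_iff]
    intro i hi
    exact ModuleCat.subsingleton_of_isZero
      (isZero_KH_of_weaklyRegular _ (ModuleCat.of _ _) h1 i hi)
  have h3 := isKoszulRegularSeq_map_of_flat
    ((transl k h : MvPolynomial (Fin k) R ≃ₐ[R] MvPolynomial (Fin k) R) :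
      MvPolynomial (Fin k) R →+* MvPolynomial (Fin k) R)
    (RingHom.Flat.of_bijective (transl k h).bijective) _ h2
  have e : (Groth.Agent.Lib.Helper8KoszLim.Xs (A := R) k).map
      ((transl k h : MvPolynomial (Fin k) R ≃ₐ[R] MvPolynomial (Fin k) R) :
        MvPolynomial (Fin k) R →+* MvPolynomial (Fin k) R) = xsub k h := by
    unfold Groth.Agent.Lib.Helper8KoszLim.Xs xsub
    rw [List.map_ofFn]
    congr 1
    funext j
    simp [transl]
  rwa [e] at h3

end Poly

end PolyNS

end Groth.Agent.Helper13KzIdeal
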