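import Groth.Agent.Lib.Helper13KzTor

set_option autoImplicit false

namespace Groth.Agent.Helper13KzLift
open CategoryTheory CochainComplex MonoidalCategory CohIII Pointwise
open Groth.Agent.Lib.Helper21 Groth.Agent.Helper13Kz

universe u
variable {S : Type u} [CommRing S]

section Fun
variable {M M' M'' : Type u} [AddCommGroup M] [Module S M] [AddCommGroup M'] [Module S M']
  [AddCommGroup M''] [Module S M'']

lemma KHmap_id (l : List S) (i : ℤ) :
    KHmap l (LinearMap.id : M →ₗ[S] M) i = LinearMap.id := by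
  unfold KHmap
  have h : ModuleCat.ofHom (LinearMap.id : M →ₗ[S] M) = 𝟙 (ModuleCat.of S M) := rfl
  rw [h, koszulMap_id, HomologicalComplex.homologyMap_id]
  rfl

lemma KHmap_comp (l : List S) (f : M' →ₗ[S] M) (g : M →ₗ[S] M'') (i : ℤ) :
    KHmap l (g ∘ₗ f) i = KHmap l g i ∘ₗ KHmap l f i := by
  unfold KHmap
  have h : ModuleCat.ofHom (g ∘ₗ f) = ModuleCat.ofHom f ≫ ModuleCat.ofHom g := rfl
  rw [h, koszulMap_comp, HomologicalComplex.homologyMap_comp]
  rfl

/-- invariance under linear equivalences -/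
theorem subsingleton_KH_of_equiv (l : List S) (e : M ≃ₗ[S] M') (i : ℤ)
    (h : Subsingleton (KH l M i)) : Subsingleton (KH l M' i) := by
  refine ⟨fun a b => ?_⟩
  have h1 : KHmap l e.toLinearMap i ∘ₗ KHmap l e.symm.toLinearMap i = LinearMap.id := by
    rw [← KHmap_comp]
    have : e.toLinearMap ∘ₗ e.symm.toLinearMap = LinearMap.id := by
      ext x; simp
    rw [this, KHmap_id]
  have ha : a = KHmap l e.toLinearMap i (KHmap l e.symm.toLinearMap i a) := by
    rw [← LinearMap.comp_apply, h1]; rfl
  have hb : b = KHmap l e.toLinearMap i (KHmap l e.symm.toLinearMap i b) := by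
    rw [← LinearMap.comp_apply, h1]; rfl
  rw [ha, hb, Subsingleton.elim (KHmap l e.symm.toLinearMap i a) (KHmap l e.symm.toLinearMap i b)]

theorem subsingleton_KH_of_subsingleton (l : List S) [Subsingleton M] (i : ℤ) :
    Subsingleton (KH l M i) := by
  refine ⟨fun a b => ?_⟩
  have h := smul_KH_eq_zero_of_ann (M := M) l (1 : S) (fun m => Subsingleton.elim _ _) i
  have ha := h a
  have hb := h b
  rw [one_smul] at ha hb
  rw [ha, hb]

variable (l : List S) (f : M' →ₗ[S] M) (g : M →ₗ[S] M'') (hf : Function.Injective f)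
  (hg : Function.Surjective g) (hfg : Function.Exact f g)
include hf hg hfg

theorem subsingleton_KH_mid (i : ℤ) (h' : Subsingleton (KH l M' i))
    (h'' : Subsingleton (KH l M'' i)) : Subsingleton (KH l M i) := by
  obtain ⟨δ, h1, -, -⟩ := ses_les l f g hf hg hfg i
  refine ⟨fun a b => ?_⟩
  have key : ∀ x : KH l M i, x = 0 := by
    intro x
    obtain ⟨y, rfl⟩ := (h1 x).mp (Subsingleton.elim _ _)
    rw [Subsingleton.elim y 0, map_zero]
  rw [key a, key b]

theorem subsingleton_KH_shift (i : ℤ) (h : Subsingleton (KH l M i))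
    (h' : Subsingleton (KH l M' (i + 1))) : Subsingleton (KH l M'' i) := by
  obtain ⟨δ, -, h2, -⟩ := ses_les l f g hf hg hfg i
  refine ⟨fun a b => ?_⟩
  have key : ∀ x : KH l M'' i, x = 0 := by
    intro x
    obtain ⟨y, rfl⟩ := (h2 x).mp (Subsingleton.elim _ _)
    rw [Subsingleton.elim y 0, map_zero]
  rw [key a, key b]

theorem subsingleton_KH_shift0 (i : ℤ) (h : Subsingleton (KH l M i))
    (hinj : Function.Injective (KHmap l f (i + 1))) : Subsingleton (KH l M'' i) := by
  obtain ⟨δ, -, h2, h3⟩ := ses_les l f g hf hg hfg i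
  refine ⟨fun a b => ?_⟩
  have key : ∀ x : KH l M'' i, x = 0 := by
    intro x
    have hδ : δ x = 0 := by
      apply hinj
      rw [map_zero]
      exact (h3 (δ x)).mpr ⟨x, rfl⟩
    obtain ⟨y, rfl⟩ := (h2 x).mp hδ
    rw [Subsingleton.elim y 0, map_zero]
  rw [key a, key b]

/-- conversely: vanishing of `H^i(M'')` gives injectivity in degree `i+1`. -/
theorem KHmap_injective_of_subsingleton (i : ℤ) (h : Subsingleton (KH l M'' i)) :
    Function.Injective (KHmap l f (i + 1)) := by
  obtain ⟨δ, -, -, h3⟩ := ses_les l f g hf hg hfg i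
  rw [injective_iff_map_eq_zero]
  intro x hx
  obtain ⟨y, rfl⟩ := (h3 x).mp hx
  rw [Subsingleton.elim y 0, map_zero]

end Fun

section Aug
variable {M M' : Type u} [AddCommGroup M] [Module S M] [AddCommGroup M'] [Module S M']

theorem KHmap_zero_injective_iff (l : List S) (f : M' →ₗ[S] M) :
    Function.Injective (KHmap l f 0) ↔
      ∀ x : M', f x ∈ Ideal.ofList l • (⊤ : Submodule S M) →
        x ∈ Ideal.ofList l • (⊤ : Submodule S M') := by
  have hnat := aug_naturality (ModuleCat.ofHom f) l
  have hnat' : ∀ x : M', (aug (ModuleCat.of S M) l).hom (f x) =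
      KHmap l f 0 ((aug (ModuleCat.of S M') l).hom x) := by
    intro x
    have := congrArg (fun φ => φ.hom x) hnat
    simpa [KHmap] using this
  have hk := aug_ker (ModuleCat.of S M) l
  have hk' := aug_ker (ModuleCat.of S M') l
  have hs' := aug_surjective (ModuleCat.of S M') l
  constructor
  · intro hinj x hx
    have h1 : (aug (ModuleCat.of S M) l).hom (f x) = 0 := by
      rw [← LinearMap.mem_ker, hk]; exact hx
    rw [hnat'] at h1
    have h2 : (aug (ModuleCat.of S M') l).hom x = 0 := hinj (by rw [h1, map_zero])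
    rw [← hk', LinearMap.mem_ker]
    exact h2
  · intro H
    rw [injective_iff_map_eq_zero]
    intro y hy
    obtain ⟨x, rfl⟩ := hs' y
    rw [← hnat'] at hy
    have h1 : f x ∈ Ideal.ofList l • (⊤ : Submodule S M) := by
      rw [← hk, LinearMap.mem_ker]; exact hy
    have h2 := H x h1
    rw [← hk', LinearMap.mem_ker] at h2
    exact h2

end Aug

end Groth.Agent.Helper13KzLift
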