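import Groth.Agent.Lib.Helper13KzLiftB

set_option autoImplicit false

namespace Groth.Agent.Helper13KzLift
open CategoryTheory CochainComplex MonoidalCategory CohIII Pointwise
open Groth.Agent.Lib.Helper21 Groth.Agent.Helper13Kz
open scoped TensorProduct

universe u
variable (A' : Type u) {R' : Type u} [CommRing A'] [CommRing R'] [Algebra A' R'] (l' : List R')

/-- Koszul cohomology of `R' ⊗ X` vanishes in degree `i` -/
def AcycAt (i : ℤ) (X : Type u) [AddCommGroup X] [Module A' X] : Prop :=
  Subsingleton (KH l' (R' ⊗[A'] X) i)

variable {A'} {l'}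
variable {X' X X'' : Type u} [AddCommGroup X'] [Module A' X'] [AddCommGroup X] [Module A' X]
  [AddCommGroup X''] [Module A' X'']

theorem AcycAt.of_equiv {i : ℤ} (e : X ≃ₗ[A'] X') (h : AcycAt A' l' i X) : AcycAt A' l' i X' :=
  subsingleton_KH_of_equiv l'
    (TensorProduct.AlgebraTensorModule.congr (LinearEquiv.refl R' R') e) i h

theorem AcycAt.of_subsingleton {i : ℤ} [Subsingleton X] : AcycAt A' l' i X := by
  have : Subsingleton (R' ⊗[A'] X) := inferInstance
  exact subsingleton_KH_of_subsingleton l' i

section ses
variable [Module.Flat A' R'] (f : X' →ₗ[A'] X) (g : X →ₗ[A'] X'')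

theorem bc_injective (hf : Function.Injective f) : Function.Injective (f.baseChange R') := by
  have := Module.Flat.lTensor_preserves_injective_linearMap (M := R') f hf
  rwa [← LinearMap.baseChange_eq_ltensor] at this

omit [Module.Flat A' R'] in
theorem bc_surjective (hg : Function.Surjective g) : Function.Surjective (g.baseChange R') := by
  have := LinearMap.lTensor_surjective R' hg
  rwa [← LinearMap.baseChange_eq_ltensor] at this

omit [Module.Flat A' R'] in
theorem bc_exact (hg : Function.Surjective g) (hfg : Function.Exact f g) :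
    Function.Exact (f.baseChange R') (g.baseChange R') := by
  have := lTensor_exact R' hfg hg
  rwa [← LinearMap.baseChange_eq_ltensor, ← LinearMap.baseChange_eq_ltensor] at this

variable (hf : Function.Injective f) (hg : Function.Surjective g) (hfg : Function.Exact f g)
include hf hg hfg

theorem AcycAt.mid {i : ℤ} (h' : AcycAt A' l' i X') (h'' : AcycAt A' l' i X'') :
    AcycAt A' l' i X :=
  subsingleton_KH_mid l' (f.baseChange R') (g.baseChange R') (bc_injective f hf)
    (bc_surjective g hg) (bc_exact f g hg hfg) i h' h''

theorem AcycAt.shift {i : ℤ} (h : AcycAt A' l' i X) (h' : AcycAt A' l' (i + 1) X') :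
    AcycAt A' l' i X'' :=
  subsingleton_KH_shift l' (f.baseChange R') (g.baseChange R') (bc_injective f hf)
    (bc_surjective g hg) (bc_exact f g hg hfg) i h h'

theorem AcycAt.shift0 {i : ℤ} (h : AcycAt A' l' i X)
    (hinj : Function.Injective (KHmap l' (f.baseChange R') (i + 1))) :
    AcycAt A' l' i X'' :=
  subsingleton_KH_shift0 l' (f.baseChange R') (g.baseChange R') (bc_injective f hf)
    (bc_surjective g hg) (bc_exact f g hg hfg) i h hinj

theorem AcycAt.injective {i : ℤ} (h : AcycAt A' l' i X'') :
    Function.Injective (KHmap l' (f.baseChange R') (i + 1)) :=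
  KHmap_injective_of_subsingleton l' (f.baseChange R') (g.baseChange R') (bc_injective f hf)
    (bc_surjective g hg) (bc_exact f g hg hfg) i h

end ses


section length
variable [IsLocalRing A'] [Module.Flat A' R']

theorem AcycAt.of_length_le {i : ℤ}
    (hk : AcycAt A' l' i (A' ⧸ IsLocalRing.maximalIdeal A')) :
    ∀ (n : ℕ) (X : Type u) [AddCommGroup X] [Module A' X], Module.length A' X ≤ n →
      AcycAt A' l' i X := by
  intro n
  induction n with
  | zero =>
    intro X _ _ hX
    have h0 : Module.length A' X = 0 := le_antisymm (by simpa using hX) bot_le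
    rw [Module.length_eq_zero_iff] at h0
    exact AcycAt.of_subsingleton
  | succ n ih =>
    intro X _ _ hX
    have hfin : IsFiniteLength A' X := by
      rw [← Module.length_ne_top_iff]
      intro h
      rw [h] at hX
      exact absurd hX (by simp)
    obtain ⟨hN, hA⟩ := isFiniteLength_iff_isNoetherian_isArtinian.mp hfin
    rcases IsAtomic.eq_bot_or_exists_atom_le (⊤ : Submodule A' X) with h | ⟨a, ha, -⟩
    · have : Subsingleton X := by
        rw [← Submodule.subsingleton_iff A']
        exact subsingleton_of_bot_eq_top h.symm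
      exact AcycAt.of_subsingleton
    · have hs : IsSimpleModule A' a := isSimpleModule_iff_isAtom.mpr ha
      obtain ⟨J, hJ, ⟨e⟩⟩ := isSimpleModule_iff_quot_maximal.mp hs
      have hJ' : J = IsLocalRing.maximalIdeal A' := IsLocalRing.eq_maximalIdeal hJ
      subst hJ'
      have h1 : AcycAt A' l' i a := AcycAt.of_equiv e.symm hk
      have hlen := Module.length_eq_add_of_exact a.subtype a.mkQ a.injective_subtype
        a.mkQ_surjective (LinearMap.exact_subtype_mkQ a)
      have hone : Module.length A' a = 1 := Module.length_eq_one_iff.mpr hs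
      rw [hone] at hlen
      have h2 : Module.length A' (X ⧸ a) ≤ n := by
        rw [hlen, add_comm] at hX
        have hX' : Module.length A' (X ⧸ a) + 1 ≤ (n : ℕ∞) + 1 := by exact_mod_cast hX
        exact (ENat.add_le_add_iff_right (by simp)).mp hX'
      exact AcycAt.mid a.subtype a.mkQ a.injective_subtype a.mkQ_surjective
        (LinearMap.exact_subtype_mkQ a) h1 (ih (X ⧸ a) h2)

theorem AcycAt.of_finiteLength {i : ℤ}
    (hk : AcycAt A' l' i (A' ⧸ IsLocalRing.maximalIdeal A'))
    (X : Type u) [AddCommGroup X] [Module A' X] [IsNoetherian A' X] [IsArtinian A' X] :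
    AcycAt A' l' i X := by
  have h := Module.length_ne_top (R := A') (M := X)
  obtain ⟨n, hn⟩ := ENat.ne_top_iff_exists.mp h
  exact AcycAt.of_length_le hk n X (by rw [← hn])

end length

end Groth.Agent.Helper13KzLift
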