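import Groth.Agent.Lib.Helper13KzLiftC

set_option autoImplicit false

namespace Groth.Agent.Helper13KzLift
open CategoryTheory CochainComplex MonoidalCategory CohIII Pointwise
open Groth.Agent.Lib.Helper21 Groth.Agent.Helper13Kz
open scoped TensorProduct

universe u
variable {A' : Type u} {R' : Type u} [CommRing A'] [CommRing R'] [Algebra A' R'] {l' : List R'}

section
variable [IsLocalRing A'] [IsArtinianRing A'] [Module.Flat A' R'] (I : Ideal A')
  (hI : I ≤ IsLocalRing.maximalIdeal A')

/-- the kernel of `A'/I → A'/m` -/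
noncomputable def mbar : Ideal (A' ⧸ I) := RingHom.ker (Ideal.Quotient.factor hI)


omit [IsArtinianRing A'] in
theorem mbar_exact : Function.Exact ((mbar I hI).subtype.restrictScalars A')
    (Ideal.Quotient.factorₐ A' hI).toLinearMap := by
  intro x
  constructor
  · intro hx
    exact ⟨⟨x, hx⟩, rfl⟩
  · rintro ⟨y, rfl⟩
    exact y.2

omit [IsArtinianRing A'] in
theorem mbar_surjective : Function.Surjective (Ideal.Quotient.factorₐ A' hI).toLinearMap :=
  Ideal.Quotient.factor_surjective hI

include hI in
theorem acycAt_residue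
    (H1 : ∀ i : ℤ, i < 0 → AcycAt A' l' i (A' ⧸ I))
    (H2 : ∀ 𝔞 : Ideal (A' ⧸ I), Function.Injective
      (KHmap l' ((𝔞.subtype.restrictScalars A').baseChange R') 0)) :
    ∀ (n : ℕ) (i : ℤ), i + n + 1 = 0 → AcycAt A' l' i (A' ⧸ IsLocalRing.maximalIdeal A') := by
  intro n
  induction n with
  | zero =>
    intro i hi
    have hi' : i = -1 := by simp at hi; omega
    subst hi'
    exact AcycAt.shift0 ((mbar I hI).subtype.restrictScalars A')
      (Ideal.Quotient.factorₐ A' hI).toLinearMap (Subtype.val_injective) (mbar_surjective I hI)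
      (mbar_exact I hI) (H1 (-1) (by norm_num)) (H2 (mbar I hI))
  | succ n ih =>
    intro i hi
    have h1 : AcycAt A' l' (i + 1) (A' ⧸ IsLocalRing.maximalIdeal A') :=
      ih (i + 1) (by push_cast at hi ⊢; omega)
    have h2 : AcycAt A' l' (i + 1) (mbar I hI) := AcycAt.of_finiteLength h1 _
    exact AcycAt.shift ((mbar I hI).subtype.restrictScalars A')
      (Ideal.Quotient.factorₐ A' hI).toLinearMap (Subtype.val_injective) (mbar_surjective I hI)
      (mbar_exact I hI) (H1 i (by push_cast at hi; omega)) h2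

include hI in
theorem acycAt_of_finite
    (H1 : ∀ i : ℤ, i < 0 → AcycAt A' l' i (A' ⧸ I))
    (H2 : ∀ 𝔞 : Ideal (A' ⧸ I), Function.Injective
      (KHmap l' ((𝔞.subtype.restrictScalars A').baseChange R') 0))
    (X : Type u) [AddCommGroup X] [Module A' X] [IsNoetherian A' X] [IsArtinian A' X]
    (i : ℤ) (hi : i < 0) : AcycAt A' l' i X := by
  refine AcycAt.of_finiteLength ?_ X
  exact acycAt_residue I hI H1 H2 (-i - 1).toNat i (by omega)

end

end Groth.Agent.Helper13KzLift
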