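import Groth.Agent.Lib.Helper13KzLiftD

set_option autoImplicit false

namespace Groth.Agent.Helper13KzLift
open CategoryTheory CochainComplex MonoidalCategory CohIII Pointwise
open Groth.Agent.Lib.Helper21 Groth.Agent.Helper13Kz
open scoped TensorProduct

universe u
variable {A' : Type u} {R' : Type u} [CommRing A'] [CommRing R'] [Algebra A' R']

section G0
variable {P : Type u} [AddCommGroup P] [Module R' P] [Module A' P] [IsScalarTower A' R' P]
  (π : R' →ₗ[R'] P) (hπ : Function.Surjective π) (J₀ 𝔠 : Ideal R')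
  (hker : LinearMap.ker π = J₀ ⊔ 𝔠)
  (X : Type u) [AddCommGroup X] [Module A' X]
  (h𝔠 : ∀ c ∈ 𝔠, ∀ y : R' ⊗[A'] X, c • y = 0)
include hπ hker h𝔠

theorem G0 (x : R' ⊗[A'] X) :
    (π.restrictScalars A').rTensor X x = 0 ↔ x ∈ J₀ • (⊤ : Submodule R' (R' ⊗[A'] X)) := by
  constructor
  · intro hx
    have hex := rTensor_exact X (LinearMap.exact_subtype_ker_map (π.restrictScalars A'))
      (show Function.Surjective (π.restrictScalars A') from hπ)
    obtain ⟨z, rfl⟩ := (hex x).mp hx
    clear hx
    induction z using TensorProduct.induction_on with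
    | zero => rw [map_zero]; exact Submodule.zero_mem _
    | tmul j t =>
      rw [LinearMap.rTensor_tmul]
      have hj : (j : R') ∈ J₀ ⊔ 𝔠 := by
        rw [← hker]
        exact j.2
      obtain ⟨a, ha, c, hc, hac⟩ := Submodule.mem_sup.mp hj
      have e : ((LinearMap.ker (π.restrictScalars A')).subtype j) ⊗ₜ[A'] t =
          a • ((1 : R') ⊗ₜ[A'] t) + c • ((1 : R') ⊗ₜ[A'] t) := by
        rw [← add_smul, hac, TensorProduct.smul_tmul', smul_eq_mul, mul_one]
        rfl
      rw [e, h𝔠 c hc, add_zero]
      exact Submodule.smul_mem_smul ha Submodule.mem_top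
    | add z w hz hw =>
      rw [map_add]
      exact Submodule.add_mem _ hz hw
  · intro hx
    refine Submodule.smul_induction_on hx ?_ ?_
    · intro a ha y hy'
      clear hy'
      induction y using TensorProduct.induction_on with
      | zero => rw [smul_zero, map_zero]
      | tmul r t =>
        rw [TensorProduct.smul_tmul', LinearMap.rTensor_tmul]
        have : (π.restrictScalars A') (a • r) = 0 := by
          show π (a • r) = 0
          rw [← LinearMap.mem_ker, hker]
          exact Submodule.mem_sup_left (J₀.mul_mem_right r ha)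
        rw [this, TensorProduct.zero_tmul]
      | add y w hy hw => rw [smul_add, map_add, hy, hw, add_zero]
    · intro y w hy hw
      rw [map_add, hy, hw, add_zero]

end G0

section compat
variable {A B : Type*} [CommRing A] [CommRing B] [Algebra A B]
  (hsurj : Function.Surjective (algebraMap A B))
  (Q : Type*) [AddCommGroup Q] [Module A Q] [Module B Q] [IsScalarTower A B Q]
  {N N' : Type*} [AddCommGroup N] [Module A N] [Module B N] [IsScalarTower A B N]
  [AddCommGroup N'] [Module A N'] [Module B N'] [IsScalarTower A B N']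
include hsurj

theorem lTensor_injective_of_surjective_algebraMap [Module.Flat B Q] (g : N →ₗ[B] N')
    (hg : Function.Injective g) :
    Function.Injective (LinearMap.lTensor Q (g.restrictScalars A)) := by
  have : TensorProduct.CompatibleSMul A B Q N :=
    TensorProduct.CompatibleSMul.of_algebraMap_surjective Q N hsurj
  have : TensorProduct.CompatibleSMul A B Q N' :=
    TensorProduct.CompatibleSMul.of_algebraMap_surjective Q N' hsurj
  have hB : Function.Injective (LinearMap.lTensor Q g) :=
    Module.Flat.lTensor_preserves_injective_linearMap g hg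
  let e := TensorProduct.equivOfCompatibleSMul A B A Q N
  let e' := TensorProduct.equivOfCompatibleSMul A B A Q N'
  have hsq : ∀ z : Q ⊗[B] N, (LinearMap.lTensor Q (g.restrictScalars A)) (e z) =
      e' (LinearMap.lTensor Q g z) := by
    intro z
    induction z using TensorProduct.induction_on with
    | zero => simp
    | tmul q n => rfl
    | add z w hz hw => rw [map_add, map_add, map_add, map_add, hz, hw]
  intro z w hzw
  obtain ⟨z, rfl⟩ := e.surjective z
  obtain ⟨w, rfl⟩ := e.surjective w
  rw [hsq, hsq] at hzw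
  rw [hB (e'.injective hzw)]

end compat

section kill
variable (I : Ideal A') (X : Type u) [AddCommGroup X] [Module A' X]

theorem map_smul_eq_zero (hX : ∀ a ∈ I, ∀ t : X, a • t = 0) :
    ∀ c ∈ I.map (algebraMap A' R'), ∀ y : R' ⊗[A'] X, c • y = 0 := by
  intro c hc
  have key : I.map (algebraMap A' R') ≤ Module.annihilator R' (R' ⊗[A'] X) := by
    rw [Ideal.map_le_iff_le_comap]
    intro a ha
    rw [Ideal.mem_comap, Module.mem_annihilator]
    intro y
    rw [algebraMap_smul]
    induction y using TensorProduct.induction_on with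
    | zero => rw [smul_zero]
    | tmul r t => rw [← TensorProduct.tmul_smul, hX a ha, TensorProduct.tmul_zero]
    | add y w hy hw => rw [smul_add, hy, hw, add_zero]
  exact Module.mem_annihilator.mp (key hc)

end kill



section U1
variable [Module.Flat A' R'] (l' : List R')

theorem AcycAt.injective' {X' X X'' : Type u} [AddCommGroup X'] [Module A' X'] [AddCommGroup X]
    [Module A' X] [AddCommGroup X''] [Module A' X''] (f : X' →ₗ[A'] X) (g : X →ₗ[A'] X'')
    (hf : Function.Injective f) (hg : Function.Surjective g) (hfg : Function.Exact f g)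
    {i j : ℤ} (hij : i + 1 = j) (h : AcycAt A' l' i X'') :
    Function.Injective (KHmap l' (f.baseChange R') j) := by
  subst hij
  exact AcycAt.injective f g hf hg hfg h



theorem flat_of_acycAt {P : Type u} [AddCommGroup P] [Module R' P] [Module A' P]
    [IsScalarTower A' R' P] (π : R' →ₗ[R'] P) (hπ : Function.Surjective π)
    (hker : LinearMap.ker π = Ideal.ofList l' ⊔ ⊥)
    (H : ∀ 𝔟 : Ideal A', AcycAt A' l' (-1) (A' ⧸ 𝔟)) :
    Module.Flat A' P := by
  rw [Module.Flat.iff_lTensor_injective']
  intro 𝔟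
  have hinj : Function.Injective (KHmap l' (𝔟.subtype.baseChange R') 0) :=
    AcycAt.injective' (l' := l') (R' := R') 𝔟.subtype 𝔟.mkQ 𝔟.injective_subtype
      𝔟.mkQ_surjective (LinearMap.exact_subtype_mkQ 𝔟) (by norm_num) (H 𝔟)
  rw [KHmap_zero_injective_iff] at hinj
  have hbot : ∀ (X : Type u) [AddCommGroup X] [Module A' X],
      ∀ c ∈ (⊥ : Ideal R'), ∀ y : R' ⊗[A'] X, c • y = 0 := by
    intro X _ _ c hc y
    rw [(Submodule.mem_bot R').mp hc, zero_smul]
  rw [injective_iff_map_eq_zero]
  intro z hz
  obtain ⟨x, rfl⟩ := LinearMap.rTensor_surjective 𝔟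
    (show Function.Surjective (π.restrictScalars A') from hπ) z
  rw [← LinearMap.comp_apply, LinearMap.lTensor_comp_rTensor, ← LinearMap.rTensor_comp_lTensor,
    LinearMap.comp_apply] at hz
  have h1 := (G0 π hπ (Ideal.ofList l') ⊥ hker A' (hbot A') _).mp hz
  have h2 := hinj x (by rw [LinearMap.baseChange_eq_ltensor]; exact h1)
  exact (G0 π hπ (Ideal.ofList l') ⊥ hker 𝔟 (hbot 𝔟) _).mpr h2

theorem flat_quot_of_acycAt (H : ∀ 𝔟 : Ideal A', AcycAt A' l' (-1) (A' ⧸ 𝔟)) :
    Module.Flat A' (R' ⧸ Ideal.ofList l') := by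
  refine flat_of_acycAt l' (Submodule.mkQ (Ideal.ofList l'))
    (fun y => Submodule.mkQ_surjective (Ideal.ofList l') y) ?_ H
  rw [Submodule.ker_mkQ, sup_bot_eq]

end U1

section U2
variable (I : Ideal A') (l' : List R')
  {Q : Type u} [AddCommGroup Q] [Module R' Q] [Module A' Q] [IsScalarTower A' R' Q]
  [Module (A' ⧸ I) Q] [IsScalarTower A' (A' ⧸ I) Q] [Module.Flat (A' ⧸ I) Q]
  (π : R' →ₗ[R'] Q) (hπ : Function.Surjective π)
  (hker : LinearMap.ker π = Ideal.ofList l' ⊔ I.map (algebraMap A' R'))
include hπ hker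

theorem H2_of_flat (𝔞 : Ideal (A' ⧸ I)) :
    Function.Injective (KHmap l' ((𝔞.subtype.restrictScalars A').baseChange R') 0) := by
  rw [KHmap_zero_injective_iff]
  intro x hx
  rw [LinearMap.baseChange_eq_ltensor] at hx
  have hkill : ∀ (X : Type u) [AddCommGroup X] [Module A' X] [Module (A' ⧸ I) X]
      [IsScalarTower A' (A' ⧸ I) X], ∀ a ∈ I, ∀ t : X, a • t = 0 := by
    intro X _ _ _ _ a ha t
    rw [← algebraMap_smul (A' ⧸ I) a t]
    have : algebraMap A' (A' ⧸ I) a = 0 := Ideal.Quotient.eq_zero_iff_mem.mpr ha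
    rw [this, zero_smul]
  have h1 := (G0 π hπ (Ideal.ofList l') (I.map (algebraMap A' R')) hker (A' ⧸ I)
    (map_smul_eq_zero I (A' ⧸ I) (hkill (A' ⧸ I))) _).mpr hx
  rw [← LinearMap.comp_apply, LinearMap.rTensor_comp_lTensor, ← LinearMap.lTensor_comp_rTensor,
    LinearMap.comp_apply] at h1
  have hinj := lTensor_injective_of_surjective_algebraMap (A := A') (B := A' ⧸ I)
    Ideal.Quotient.mk_surjective Q 𝔞.subtype 𝔞.injective_subtype
  have h2 := hinj (h1.trans (map_zero _).symm)
  exact (G0 π hπ (Ideal.ofList l') (I.map (algebraMap A' R')) hker 𝔞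
    (map_smul_eq_zero I 𝔞 (hkill 𝔞)) _).mp h2

end U2

end Groth.Agent.Helper13KzLift
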