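import Groth.Agent.Lib.Helper13KzLiftE

set_option autoImplicit false

namespace Groth.Agent.Helper13KzLift
open CategoryTheory CochainComplex MonoidalCategory CohIII Pointwise
open Groth.Agent.Lib.Helper21 Groth.Agent.Helper13Kz
open scoped TensorProduct

universe u

theorem ofList_ofFn {S : Type*} [CommRing S] {r : ℕ} (g : Fin r → S) :
    Ideal.ofList (List.ofFn g) = Ideal.span (Set.range g) := by
  unfold Ideal.ofList
  congr 1
  ext x
  exact List.mem_ofFn' g x

variable {A' : Type u} [CommRing A'] (I : Ideal A')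
    {R' : Type u} [CommRing R'] [Algebra A' R']
    (r : ℕ) (f : Fin r → R' ⧸ I.map (algebraMap A' R'))

/-- the projection `R' → (R'/IR')/(f)` -/
noncomputable def piQ : R' →ₗ[R'] ((R' ⧸ I.map (algebraMap A' R')) ⧸ Ideal.span (Set.range f)) :=
  ((Submodule.mkQ (Ideal.span (Set.range f))).restrictScalars R') ∘ₗ
    (Submodule.mkQ (I.map (algebraMap A' R')))

theorem piQ_surjective : Function.Surjective (piQ I r f) := by
  intro y
  obtain ⟨z, rfl⟩ := Submodule.mkQ_surjective (Ideal.span (Set.range f)) y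
  obtain ⟨w, rfl⟩ := Submodule.mkQ_surjective (I.map (algebraMap A' R')) z
  exact ⟨w, rfl⟩

theorem piQ_ker (f' : Fin r → R')
    (hf' : ∀ i, Ideal.Quotient.mk (I.map (algebraMap A' R')) (f' i) = f i) :
    LinearMap.ker (piQ I r f) = Ideal.ofList (List.ofFn f') ⊔ I.map (algebraMap A' R') := by
  have hspan : Ideal.span (Set.range f) =
      (Ideal.ofList (List.ofFn f')).map (Ideal.Quotient.mk (I.map (algebraMap A' R'))) := by
    rw [Ideal.map_ofList, List.map_ofFn, ofList_ofFn]
    congr 2
    funext i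
    exact (hf' i).symm
  ext x
  rw [LinearMap.mem_ker]
  have h1 : piQ I r f x = 0 ↔
      Ideal.Quotient.mk (I.map (algebraMap A' R')) x ∈ Ideal.span (Set.range f) := by
    show Submodule.Quotient.mk (Submodule.Quotient.mk x) = 0 ↔ _
    rw [Submodule.Quotient.mk_eq_zero]
    rfl
  rw [h1, hspan, ← Ideal.mem_comap,
    Ideal.comap_map_of_surjective' _ Ideal.Quotient.mk_surjective, Ideal.mk_ker]


section part1
variable [IsLocalRing A'] [IsArtinianRing A'] [Module.Flat A' R'] (hI : I ≠ ⊤)
  (hf : LCI.IsKoszulRegularSeq (R' ⧸ I.map (algebraMap A' R')) (List.ofFn f))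
  [Module.Flat (A' ⧸ I) ((R' ⧸ I.map (algebraMap A' R')) ⧸ Ideal.span (Set.range f))]
  (f' : Fin r → R')
  (hf' : ∀ i, Ideal.Quotient.mk (I.map (algebraMap A' R')) (f' i) = f i)
include hI hf hf'

theorem acyc_all (X : Type u) [AddCommGroup X] [Module A' X] [IsNoetherian A' X]
    [IsArtinian A' X] (i : ℤ) (hi : i < 0) : AcycAt A' (List.ofFn f') i X := by
  have hIm : I ≤ IsLocalRing.maximalIdeal A' := IsLocalRing.le_maximalIdeal hI
  have hmap : (List.ofFn f').map (Ideal.Quotient.mk (I.map (algebraMap A' R'))) = List.ofFn f := by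
    rw [List.map_ofFn]
    congr 1
    funext i
    exact hf' i
  have H1 : ∀ i : ℤ, i < 0 → AcycAt A' (List.ofFn f') i (A' ⧸ I) := by
    intro i hi
    exact base_acyclic I (List.ofFn f') (by rw [hmap]; exact hf) i hi.ne
  have H2 := H2_of_flat I (List.ofFn f') (piQ I r f) (piQ_surjective I r f)
    (piQ_ker I r f f' hf')
  exact acycAt_of_finite I hIm H1 H2 X i hi

theorem part1_flat : Module.Flat A' (R' ⧸ Ideal.span (Set.range f')) := by
  have h := flat_quot_of_acycAt (A' := A') (List.ofFn f')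
    (fun 𝔟 => acyc_all I r f hI hf f' hf' (A' ⧸ 𝔟) (-1) (by norm_num))
  rwa [ofList_ofFn] at h

theorem part1_koszul : LCI.IsKoszulRegularSeq R' (List.ofFn f') := by
  rw [isKoszulRegularSeq_iff]
  intro i hi
  rcases lt_or_gt_of_ne hi with h | h
  · have h1 := acyc_all I r f hI hf f' hf' A' i h
    exact subsingleton_KH_of_equiv (List.ofFn f')
      (TensorProduct.AlgebraTensorModule.rid A' R' R') i h1
  · exact subsingleton_KH_of_pos R' (List.ofFn f') i h

end part1

end Groth.Agent.Helper13KzLift
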