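import Groth.Agent.Lib.Helper13KzLiftF

set_option autoImplicit false

namespace Groth.Agent.Helper13KzLift
open scoped TensorProduct

universe u
variable {A' : Type u} [CommRing A'] (I : Ideal A')
    {R' : Type u} [CommRing R'] [Algebra A' R']

/-- flatness of `R'/J'` gives `J' ∩ IR' ≤ I J'` -/
theorem inf_map_le_mul (J' : Ideal R') [Module.Flat A' (R' ⧸ J')] :
    J' ⊓ I.map (algebraMap A' R') ≤ I.map (algebraMap A' R') * J' := by
  intro x hx
  obtain ⟨hxJ, hxK⟩ := hx
  have hinj := LinearMap.lTensor_injective_of_exact_of_flat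
    ((Submodule.mkQ J').restrictScalars A') (fun y => Submodule.mkQ_surjective J' y)
    (J'.subtype.restrictScalars A') J'.injective_subtype
    (fun y => by
      show Submodule.mkQ J' y = 0 ↔ y ∈ Set.range J'.subtype
      rw [← LinearMap.mem_ker, Submodule.ker_mkQ]
      exact ⟨fun h => ⟨⟨y, h⟩, rfl⟩, fun ⟨z, hz⟩ => hz ▸ z.2⟩) (A' ⧸ I)
  -- `1 ⊗ x = 0` in `(A'/I) ⊗ R'`
  have hker : (I.map (algebraMap A' R')).restrictScalars A' ≤
      LinearMap.ker (TensorProduct.mk A' (A' ⧸ I) R' 1) := by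
    rw [← Ideal.smul_top_eq_map, Submodule.smul_le]
    intro a ha r' _
    rw [LinearMap.mem_ker, TensorProduct.mk_apply, TensorProduct.tmul_smul,
      TensorProduct.smul_tmul']
    have : a • (1 : A' ⧸ I) = 0 := by
      rw [Algebra.smul_def, mul_one]
      exact Ideal.Quotient.eq_zero_iff_mem.mpr ha
    rw [this, TensorProduct.zero_tmul]
  have h0 : (1 : A' ⧸ I) ⊗ₜ[A'] x = 0 := by
    have := hker (show x ∈ (I.map (algebraMap A' R')).restrictScalars A' from hxK)
    rwa [LinearMap.mem_ker, TensorProduct.mk_apply] at this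
  have h1 : (1 : A' ⧸ I) ⊗ₜ[A'] (⟨x, hxJ⟩ : J') = 0 := by
    apply hinj
    rw [map_zero, LinearMap.lTensor_tmul]
    exact h0
  have h2 : (⟨x, hxJ⟩ : J') ∈ I • (⊤ : Submodule A' J') := by
    have := congrArg (TensorProduct.quotTensorEquivQuotSMul J' I) h1
    rw [TensorProduct.quotTensorEquivQuotSMul_mk_one_tmul, LinearEquiv.map_zero,
      Submodule.Quotient.mk_eq_zero] at this
    exact this
  have h3 : x ∈ (I • (⊤ : Submodule A' J')).map (J'.subtype.restrictScalars A') :=
    ⟨⟨x, hxJ⟩, h2, rfl⟩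
  rw [Submodule.map_smul'', Submodule.map_top] at h3
  have h4 : LinearMap.range (J'.subtype.restrictScalars A') = J'.restrictScalars A' := by
    ext y
    constructor
    · rintro ⟨z, rfl⟩
      exact z.2
    · intro hy
      exact ⟨⟨y, hy⟩, rfl⟩
  rw [h4, ← Ideal.smul_restrictScalars] at h3
  exact h3


/-- Nakayama for a nilpotent ideal -/
theorem le_of_le_sup_mul_of_pow_eq_bot (K J₀ J' : Ideal R') (n : ℕ) (hK : K ^ n = ⊥)
    (h : J' ≤ J₀ ⊔ K * J') : J' ≤ J₀ := by
  have key : ∀ m : ℕ, J' ≤ J₀ ⊔ K ^ m * J' := by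
    intro m
    induction m with
    | zero => rw [pow_zero, one_mul]; exact le_sup_right
    | succ m ih =>
      refine ih.trans (sup_le le_sup_left ?_)
      calc K ^ m * J' ≤ K ^ m * (J₀ ⊔ K * J') := Ideal.mul_mono_right h
        _ = K ^ m * J₀ ⊔ K ^ m * (K * J') := Ideal.mul_sup _ _ _
        _ ≤ J₀ ⊔ K ^ (m + 1) * J' := by
          refine sup_le_sup Ideal.mul_le_right ?_
          rw [← mul_assoc, ← pow_succ]
  have := key n
  rwa [hK, Ideal.bot_mul, sup_bot_eq] at this

section part2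
variable [IsLocalRing A'] [IsArtinianRing A'] (hI : I ≠ ⊤)
  (r : ℕ) (f : Fin r → R' ⧸ I.map (algebraMap A' R'))
include hI

theorem part2 (J' : Ideal R') (hflat : Module.Flat A' (R' ⧸ J'))
    (hJ : J'.map (Ideal.Quotient.mk (I.map (algebraMap A' R'))) = Ideal.span (Set.range f))
    (f' : Fin r → R') (hmem : ∀ i, f' i ∈ J')
    (hf' : ∀ i, Ideal.Quotient.mk (I.map (algebraMap A' R')) (f' i) = f i) :
    J' = Ideal.span (Set.range f') := by
  have hle : Ideal.span (Set.range f') ≤ J' := by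
    rw [Ideal.span_le]
    rintro _ ⟨i, rfl⟩
    exact hmem i
  refine le_antisymm ?_ hle
  have hspan : Ideal.span (Set.range f) =
      (Ideal.span (Set.range f')).map (Ideal.Quotient.mk (I.map (algebraMap A' R'))) := by
    rw [Ideal.map_span, ← Set.range_comp]
    congr 2
    funext i
    exact (hf' i).symm
  -- `J' ≤ J₀ ⊔ K`
  have h1 : J' ≤ Ideal.span (Set.range f') ⊔ I.map (algebraMap A' R') := by
    have := Ideal.le_comap_map (f := Ideal.Quotient.mk (I.map (algebraMap A' R'))) (I := J')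
    rw [hJ, hspan, Ideal.comap_map_of_surjective' _ Ideal.Quotient.mk_surjective,
      Ideal.mk_ker] at this
    exact this
  -- `J' ≤ J₀ ⊔ K * J'`
  have h2 : J' ≤ Ideal.span (Set.range f') ⊔ I.map (algebraMap A' R') * J' := by
    intro x hx
    obtain ⟨y, hy, z, hz, rfl⟩ := Submodule.mem_sup.mp (h1 hx)
    have hzJ : z ∈ J' := by
      have := J'.sub_mem hx (hle hy)
      rwa [add_sub_cancel_left] at this
    exact Submodule.mem_sup.mpr ⟨y, hy, z, inf_map_le_mul I J' ⟨hzJ, hz⟩, rfl⟩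
  -- nilpotency
  have hIm : I ≤ IsLocalRing.maximalIdeal A' := IsLocalRing.le_maximalIdeal hI
  obtain ⟨n, hn⟩ := IsArtinianRing.isNilpotent_jacobson_bot (R := A')
  rw [IsLocalRing.jacobson_eq_maximalIdeal ⊥ bot_ne_top] at hn
  have hIn : I ^ n = ⊥ := by
    rw [eq_bot_iff]
    calc I ^ n ≤ IsLocalRing.maximalIdeal A' ^ n := Ideal.pow_right_mono hIm n
      _ = ⊥ := hn
  have hKn : (I.map (algebraMap A' R')) ^ n = ⊥ := by
    rw [← Ideal.map_pow, hIn, Ideal.map_bot]
  exact le_of_le_sup_mul_of_pow_eq_bot _ _ _ n hKn h2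

end part2

end Groth.Agent.Helper13KzLift
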