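import Groth.Agent.Lib.Helper13KzLiftH

set_option autoImplicit false

namespace Groth.Agent.Helper13KzLift
open CategoryTheory CochainComplex MonoidalCategory CohIII Pointwise
open Groth.Agent.Lib.Helper21 Groth.Agent.Helper13Kz
open scoped TensorProduct

universe u
variable {A' : Type u} {R' : Type u} [CommRing A'] [CommRing R'] [Algebra A' R']

section U2'
variable (I : Ideal A') (l' : List R')
  {Q : Type u} [AddCommGroup Q] [Module R' Q] [Module A' Q] [IsScalarTower A' R' Q]
  [Module (A' ⧸ I) Q] [IsScalarTower A' (A' ⧸ I) Q] [Module.Flat (A' ⧸ I) Q]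
  (π : R' →ₗ[R'] Q) (hπ : Function.Surjective π)
  (hker : LinearMap.ker π = Ideal.ofList l' ⊔ I.map (algebraMap A' R'))
include hπ hker

theorem H2_of_flat' {N N' : Type u} [AddCommGroup N] [Module A' N] [Module (A' ⧸ I) N]
    [IsScalarTower A' (A' ⧸ I) N] [AddCommGroup N'] [Module A' N'] [Module (A' ⧸ I) N']
    [IsScalarTower A' (A' ⧸ I) N'] (g : N →ₗ[A' ⧸ I] N') (hg : Function.Injective g) :
    Function.Injective (KHmap l' ((g.restrictScalars A').baseChange R') 0) := by
  rw [KHmap_zero_injective_iff]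
  intro x hx
  rw [LinearMap.baseChange_eq_ltensor] at hx
  have hkill : ∀ (X : Type u) [AddCommGroup X] [Module A' X] [Module (A' ⧸ I) X]
      [IsScalarTower A' (A' ⧸ I) X], ∀ a ∈ I, ∀ t : X, a • t = 0 := by
    intro X _ _ _ _ a ha t
    rw [← algebraMap_smul (A' ⧸ I) a t]
    have : algebraMap A' (A' ⧸ I) a = 0 := Ideal.Quotient.eq_zero_iff_mem.mpr ha
    rw [this, zero_smul]
  have h1 := (G0 π hπ (Ideal.ofList l') (I.map (algebraMap A' R')) hker N'
    (map_smul_eq_zero I N' (hkill N')) _).mpr hx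
  rw [← LinearMap.comp_apply, LinearMap.rTensor_comp_lTensor, ← LinearMap.lTensor_comp_rTensor,
    LinearMap.comp_apply] at h1
  have hinj := lTensor_injective_of_surjective_algebraMap (A := A') (B := A' ⧸ I)
    Ideal.Quotient.mk_surjective Q g hg
  have h2 := hinj (h1.trans (map_zero _).symm)
  exact (G0 π hπ (Ideal.ofList l') (I.map (algebraMap A' R')) hker N
    (map_smul_eq_zero I N (hkill N)) _).mp h2

omit hπ hker in
theorem AcycAt.shift0' [Module.Flat A' R'] {X' X X'' : Type u} [AddCommGroup X'] [Module A' X']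
    [AddCommGroup X] [Module A' X] [AddCommGroup X''] [Module A' X''] (f : X' →ₗ[A'] X)
    (g : X →ₗ[A'] X'') (hf : Function.Injective f) (hg : Function.Surjective g)
    (hfg : Function.Exact f g) {i j : ℤ} (hij : i + 1 = j) (h : AcycAt A' l' i X)
    (hinj : Function.Injective (KHmap l' (f.baseChange R') j)) : AcycAt A' l' i X'' := by
  subst hij
  exact AcycAt.shift0 f g hf hg hfg h hinj

variable [Module.Flat A' R']

theorem step0 {N N' X : Type u} [AddCommGroup N] [Module A' N] [Module (A' ⧸ I) N]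
    [IsScalarTower A' (A' ⧸ I) N] [AddCommGroup N'] [Module A' N'] [Module (A' ⧸ I) N']
    [IsScalarTower A' (A' ⧸ I) N'] [AddCommGroup X] [Module A' X] [Module (A' ⧸ I) X]
    [IsScalarTower A' (A' ⧸ I) X] (g : N →ₗ[A' ⧸ I] N') (p : N' →ₗ[A' ⧸ I] X)
    (hg : Function.Injective g) (hp : Function.Surjective p) (hex : Function.Exact g p)
    (hF : AcycAt A' l' (-1) N') : AcycAt A' l' (-1) X :=
  AcycAt.shift0' l' (g.restrictScalars A') (p.restrictScalars A') hg hp hex (by norm_num) hF
    (H2_of_flat' I l' π hπ hker g hg)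

omit hπ hker in
theorem stepS {N N' X : Type u} [AddCommGroup N] [Module A' N] [Module (A' ⧸ I) N]
    [IsScalarTower A' (A' ⧸ I) N] [AddCommGroup N'] [Module A' N'] [Module (A' ⧸ I) N']
    [IsScalarTower A' (A' ⧸ I) N'] [AddCommGroup X] [Module A' X] [Module (A' ⧸ I) X]
    [IsScalarTower A' (A' ⧸ I) X] (g : N →ₗ[A' ⧸ I] N') (p : N' →ₗ[A' ⧸ I] X)
    (hg : Function.Injective g) (hp : Function.Surjective p) (hex : Function.Exact g p) {i : ℤ}
    (hF : AcycAt A' l' i N') (hK : AcycAt A' l' (i + 1) N) : AcycAt A' l' i X :=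
  AcycAt.shift (g.restrictScalars A') (p.restrictScalars A') hg hp hex hF hK

variable (H1 : ∀ i : ℤ, i < 0 → AcycAt A' l' i (A' ⧸ I))
include H1

/-- vanishing for all `A'/I`-modules -/
theorem acycAt_of_quotModule : ∀ (n : ℕ) (i : ℤ), i + n + 1 = 0 →
    ∀ (X : Type u) [AddCommGroup X] [Module A' X] [Module (A' ⧸ I) X]
      [IsScalarTower A' (A' ⧸ I) X], AcycAt A' l' i X := by
  intro n
  induction n with
  | zero =>
    intro i hi X _ _ _ _
    have hi' : i = -1 := by simp at hi; omega
    subst hi'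
    have hF : AcycAt A' l' (-1) (X →₀ (A' ⧸ I)) :=
      AcycAt.finsupp (A' ⧸ I) X (H1 (-1) (by norm_num))
    exact step0 I l' π hπ hker
      (N := LinearMap.ker (Finsupp.linearCombination (A' ⧸ I) (id : X → X)))
      (N' := X →₀ (A' ⧸ I)) (X := X)
      (LinearMap.ker (Finsupp.linearCombination (A' ⧸ I) (id : X → X))).subtype
      (Finsupp.linearCombination (A' ⧸ I) (id : X → X))
      (Submodule.injective_subtype _) (Finsupp.linearCombination_id_surjective (A' ⧸ I) X)
      (LinearMap.exact_subtype_ker_map _) hF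
  | succ n ih =>
    intro i hi X _ _ _ _
    have hF : AcycAt A' l' i (X →₀ (A' ⧸ I)) :=
      AcycAt.finsupp (A' ⧸ I) X (H1 i (by push_cast at hi; omega))
    have hK : AcycAt A' l' (i + 1)
        (LinearMap.ker (Finsupp.linearCombination (A' ⧸ I) (id : X → X))) :=
      ih (i + 1) (by push_cast at hi ⊢; omega) _
    exact stepS I l'
      (N := LinearMap.ker (Finsupp.linearCombination (A' ⧸ I) (id : X → X)))
      (N' := X →₀ (A' ⧸ I)) (X := X)
      (LinearMap.ker (Finsupp.linearCombination (A' ⧸ I) (id : X → X))).subtype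
      (Finsupp.linearCombination (A' ⧸ I) (id : X → X))
      (Submodule.injective_subtype _) (Finsupp.linearCombination_id_surjective (A' ⧸ I) X)
      (LinearMap.exact_subtype_ker_map _) hF hK


theorem acycAt_of_torsion (X : Type u) [AddCommGroup X] [Module A' X]
    (hX : Module.IsTorsionBySet A' X I) (i : ℤ) (hi : i < 0) : AcycAt A' l' i X := by
  let _ := hX.module
  have : IsScalarTower A' (A' ⧸ I) X :=
    ⟨fun a b x => by
      obtain ⟨c, rfl⟩ := Ideal.Quotient.mk_surjective b
      show (a • Ideal.Quotient.mk I c) • x = a • (Ideal.Quotient.mk I c • x)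
      rw [Algebra.smul_def, Ideal.Quotient.algebraMap_eq, ← map_mul]
      show (a * c) • x = a • (c • x)
      rw [mul_smul]⟩
  exact acycAt_of_quotModule I l' π hπ hker H1 (-i - 1).toNat i (by omega) X

/-- if `I² = 0`, Koszul cohomology of `R' ⊗ X` vanishes in negative degrees for every `X` -/
theorem acycAt_of_sq_zero (hI : I * I = ⊥) (X : Type u) [AddCommGroup X] [Module A' X]
    (i : ℤ) (hi : i < 0) : AcycAt A' l' i X := by
  have hN : Module.IsTorsionBySet A' (I • (⊤ : Submodule A' X) : Submodule A' X) I := by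
    intro x a
    apply Subtype.ext
    have h1 : (a : A') • (x : X) ∈ I • (I • (⊤ : Submodule A' X)) :=
      Submodule.smul_mem_smul a.2 x.2
    rw [← Submodule.smul_assoc, Ideal.smul_eq_mul, hI, Submodule.bot_smul,
      Submodule.mem_bot] at h1
    exact h1
  have hQ : Module.IsTorsionBySet A' (X ⧸ I • (⊤ : Submodule A' X)) I :=
    Module.isTorsionBySet_quotient_ideal_smul X I
  exact AcycAt.mid (I • (⊤ : Submodule A' X)).subtype (I • (⊤ : Submodule A' X)).mkQ
    (Submodule.injective_subtype _) (Submodule.mkQ_surjective _)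
    (LinearMap.exact_subtype_mkQ _)
    (acycAt_of_torsion I l' π hπ hker H1 _ hN i hi)
    (acycAt_of_torsion I l' π hπ hker H1 _ hQ i hi)

end U2'

end Groth.Agent.Helper13KzLift
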