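import Groth.Agent.Lib.Helper13KzLiftI

set_option autoImplicit false

namespace Groth.Agent.Helper13KzLift
open CategoryTheory CochainComplex MonoidalCategory CohIII Pointwise
open Groth.Agent.Lib.Helper21 Groth.Agent.Helper13Kz
open scoped TensorProduct

universe u
variable {A' : Type u} {R' : Type u} [CommRing A'] [CommRing R'] [Algebra A' R'] (I : Ideal A')

/-- the projection `R' → (R'/IR')/𝔮` -/
noncomputable def piQ2 (𝔮 : Ideal (R' ⧸ I.map (algebraMap A' R'))) :
    R' →ₗ[R'] ((R' ⧸ I.map (algebraMap A' R')) ⧸ 𝔮) :=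
  ((Submodule.mkQ 𝔮).restrictScalars R') ∘ₗ (Submodule.mkQ (I.map (algebraMap A' R')))

theorem piQ2_surjective (𝔮 : Ideal (R' ⧸ I.map (algebraMap A' R'))) :
    Function.Surjective (piQ2 I 𝔮) := by
  intro y
  obtain ⟨z, rfl⟩ := Submodule.mkQ_surjective 𝔮 y
  obtain ⟨w, rfl⟩ := Submodule.mkQ_surjective (I.map (algebraMap A' R')) z
  exact ⟨w, rfl⟩

theorem piQ2_ker (l' : List R') :
    LinearMap.ker (piQ2 I (Ideal.ofList (l'.map (Ideal.Quotient.mk (I.map (algebraMap A' R')))))) =
      Ideal.ofList l' ⊔ I.map (algebraMap A' R') := by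
  ext x
  rw [LinearMap.mem_ker]
  have h1 : piQ2 I (Ideal.ofList (l'.map (Ideal.Quotient.mk (I.map (algebraMap A' R'))))) x = 0 ↔
      Ideal.Quotient.mk (I.map (algebraMap A' R')) x ∈
        Ideal.ofList (l'.map (Ideal.Quotient.mk (I.map (algebraMap A' R')))) := by
    show Submodule.Quotient.mk (Submodule.Quotient.mk x) = 0 ↔ _
    rw [Submodule.Quotient.mk_eq_zero]
    rfl
  rw [h1, ← Ideal.map_ofList, ← Ideal.mem_comap,
    Ideal.comap_map_of_surjective' _ Ideal.Quotient.mk_surjective, Ideal.mk_ker]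

/-- square-zero lifting of Koszul-regular sequences with flat quotient -/
theorem sqZero_main [Module.Flat A' R'] (hI : I * I = ⊥) (l' : List R')
    (hreg : LCI.IsKoszulRegularSeq (R' ⧸ I.map (algebraMap A' R'))
      (l'.map (Ideal.Quotient.mk (I.map (algebraMap A' R')))))
    (hflat : Module.Flat (A' ⧸ I) ((R' ⧸ I.map (algebraMap A' R')) ⧸
      Ideal.ofList (l'.map (Ideal.Quotient.mk (I.map (algebraMap A' R')))))) :
    LCI.IsKoszulRegularSeq R' l' ∧ Module.Flat A' (R' ⧸ Ideal.ofList l') := by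
  have H1 : ∀ i : ℤ, i < 0 → AcycAt A' l' i (A' ⧸ I) :=
    fun i hi => base_acyclic I l' hreg i hi.ne
  have Hall : ∀ (X : Type u) [AddCommGroup X] [Module A' X] (i : ℤ), i < 0 →
      AcycAt A' l' i X := fun X _ _ i hi =>
    acycAt_of_sq_zero I l' (piQ2 I _) (piQ2_surjective I _) (piQ2_ker I l') H1 hI X i hi
  constructor
  · rw [isKoszulRegularSeq_iff]
    intro i hi
    rcases lt_or_gt_of_ne hi with h | h
    · exact subsingleton_KH_of_equiv l' (TensorProduct.AlgebraTensorModule.rid A' R' R') i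
        (Hall A' i h)
    · exact subsingleton_KH_of_pos R' l' i h
  · exact flat_quot_of_acycAt (A' := A') l' (fun 𝔟 => Hall (A' ⧸ 𝔟) (-1) (by norm_num))

end Groth.Agent.Helper13KzLift
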