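import Groth.Agent.Lib.Helper13KzConcat

/-!
# Permutation invariance and change of generators for Koszul-regular sequences (helper13)

* `swapIso`: `cone(x on cone(y on K)) ≅ cone(y on cone(x on K))` (explicit isomorphism of complexes).
* `nonempty_iso_of_perm`, `nonempty_KH_equiv_of_perm`, `isKoszulRegularSeq_of_perm`: the cone-model
  Koszul complex does not depend on the order of the elements.
* `nonempty_equiv_prod`, `subsingleton_of_prod_equiv`: module lemmas (extensions by free `A/I`-modules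
  split; Orzech cancellation).
* `isFreeAt_append`, `isFreeAt_quot`: Koszul cohomology after adjoining elements acting by zero.
* `nonempty_KH_append_equiv`: `K(g ++ f; A) ≃ K(g; A/(f))` on cohomology for `f` Koszul-regular.
* `subsingleton_KH_of_ofList_eq`, `isKoszulRegularSeq_of_ofList_eq`: **change of generators**: a list of
  the same length as a Koszul-regular sequence `f` generating the same ideal is Koszul-regular.
* `isKoszulRegularSeq_map_of_surjective`: `z`, `w ++ z` Koszul-regular ⇒ `w` Koszul-regular modulo `z`.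
* `ofList_eq_top_of_zero_cons`: a Koszul-regular sequence containing `0` generates the unit ideal.
* `IndAt`, `exists_split`, `exists_exchange`: exchange lemma for generators of an ideal near a prime.
-/

set_option autoImplicit false
set_option linter.unusedSimpArgs false
universe u

namespace Groth.Agent.Helper13KzPerm
open CategoryTheory CochainComplex CohIII Limits
open Groth.Agent.Lib.Helper21 Groth.Agent.Helper13Kz

variable {A : Type u} [CommRing A]

section Cone
variable {K L : CochainComplex (ModuleCat.{u} A) ℤ} (φ : K ⟶ L)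

lemma cfst_d (n : ℤ) (z : (mappingCone φ).X n) :
    cfst φ (n + 1) (((mappingCone φ).d n (n + 1)).hom z) =
      - (K.d (n + 1) (n + 1 + 1)).hom (cfst φ n z) := by
  have := mappingCone.d_fst_v φ n (n + 1) (n + 1 + 1) rfl rfl
  exact congr($(this).hom z)

lemma csnd_d (n : ℤ) (z : (mappingCone φ).X n) :
    csnd φ (n + 1) (((mappingCone φ).d n (n + 1)).hom z) =
      (φ.f (n + 1)).hom (cfst φ n z) + (L.d n (n + 1)).hom (csnd φ n z) := by
  have := mappingCone.d_snd_v φ n (n + 1) rfl
  exact congr($(this).hom z)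

lemma smul_id_f_apply (K : CochainComplex (ModuleCat.{u} A) ℤ) (x : A) (m : ℤ) (w : K.X m) :
    ((x • 𝟙 K : K ⟶ K).f m).hom w = x • w := by
  simp

end Cone

section Swap
variable (K : CochainComplex (ModuleCat.{u} A) ℤ) (x y : A)

/-- the single cone -/
noncomputable abbrev C1 : CochainComplex (ModuleCat.{u} A) ℤ := mappingCone (x • 𝟙 K)

/-- the double cone -/
noncomputable abbrev C2 : CochainComplex (ModuleCat.{u} A) ℤ := mappingCone (x • 𝟙 (C1 K y))

/-- the four components of an element of the double cone -/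
noncomputable def pa (n : ℤ) : (C2 K x y).X n →ₗ[A] K.X (n + 1 + 1) :=
  cfst (y • 𝟙 K) (n + 1) ∘ₗ cfst (x • 𝟙 (C1 K y)) n
noncomputable def pb (n : ℤ) : (C2 K x y).X n →ₗ[A] K.X (n + 1) :=
  csnd (y • 𝟙 K) (n + 1) ∘ₗ cfst (x • 𝟙 (C1 K y)) n
noncomputable def pc (n : ℤ) : (C2 K x y).X n →ₗ[A] K.X (n + 1) :=
  cfst (y • 𝟙 K) n ∘ₗ csnd (x • 𝟙 (C1 K y)) n
noncomputable def pd (n : ℤ) : (C2 K x y).X n →ₗ[A] K.X n :=
  csnd (y • 𝟙 K) n ∘ₗ csnd (x • 𝟙 (C1 K y)) n

/-- assembling an element of the double cone from its four components -/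
noncomputable def mk4 (n : ℤ) (a : K.X (n + 1 + 1)) (b c : K.X (n + 1)) (d : K.X n) :
    (C2 K x y).X n :=
  cinl (x • 𝟙 (C1 K y)) n (cinl (y • 𝟙 K) (n + 1) a + cinr (y • 𝟙 K) (n + 1) b) +
    cinr (x • 𝟙 (C1 K y)) n (cinl (y • 𝟙 K) n c + cinr (y • 𝟙 K) n d)

@[simp] lemma pa_mk4 (n : ℤ) (a : K.X (n + 1 + 1)) (b c : K.X (n + 1)) (d : K.X n) :
    pa K x y n (mk4 K x y n a b c d) = a := by
  simp [pa, mk4, cfst_cinl, cfst_cinr, csnd_cinl, csnd_cinr]
@[simp] lemma pb_mk4 (n : ℤ) (a : K.X (n + 1 + 1)) (b c : K.X (n + 1)) (d : K.X n) :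
    pb K x y n (mk4 K x y n a b c d) = b := by
  simp [pb, mk4, cfst_cinl, cfst_cinr, csnd_cinl, csnd_cinr]
@[simp] lemma pc_mk4 (n : ℤ) (a : K.X (n + 1 + 1)) (b c : K.X (n + 1)) (d : K.X n) :
    pc K x y n (mk4 K x y n a b c d) = c := by
  simp [pc, mk4, cfst_cinl, cfst_cinr, csnd_cinl, csnd_cinr]
@[simp] lemma pd_mk4 (n : ℤ) (a : K.X (n + 1 + 1)) (b c : K.X (n + 1)) (d : K.X n) :
    pd K x y n (mk4 K x y n a b c d) = d := by
  simp [pd, mk4, cfst_cinl, cfst_cinr, csnd_cinl, csnd_cinr]

lemma ext4 (n : ℤ) {z w : (C2 K x y).X n} (ha : pa K x y n z = pa K x y n w)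
    (hb : pb K x y n z = pb K x y n w) (hc : pc K x y n z = pc K x y n w)
    (hd : pd K x y n z = pd K x y n w) : z = w := by
  apply cone_ext (x • 𝟙 (C1 K y)) n
  · exact cone_ext (y • 𝟙 K) (n + 1) ha hb
  · exact cone_ext (y • 𝟙 K) n hc hd

/-- the differential in components -/
lemma pa_d (n : ℤ) (z : (C2 K x y).X n) :
    pa K x y (n + 1) (((C2 K x y).d n (n + 1)).hom z) =
      (K.d (n + 1 + 1) (n + 1 + 1 + 1)).hom (pa K x y n z) := by
  simp [pa, cfst_d]
lemma pb_d (n : ℤ) (z : (C2 K x y).X n) :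
    pb K x y (n + 1) (((C2 K x y).d n (n + 1)).hom z) =
      -(y • pa K x y n z) - (K.d (n + 1) (n + 1 + 1)).hom (pb K x y n z) := by
  simp [pb, pa, cfst_d, csnd_d]
  abel
lemma pc_d (n : ℤ) (z : (C2 K x y).X n) :
    pc K x y (n + 1) (((C2 K x y).d n (n + 1)).hom z) =
      x • pa K x y n z - (K.d (n + 1) (n + 1 + 1)).hom (pc K x y n z) := by
  simp [pc, pa, cfst_d, csnd_d]
  abel
lemma pd_d (n : ℤ) (z : (C2 K x y).X n) :
    pd K x y (n + 1) (((C2 K x y).d n (n + 1)).hom z) =
      x • pb K x y n z + y • pc K x y n z + (K.d n (n + 1)).hom (pd K x y n z) := by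
  simp [pd, pb, pc, cfst_d, csnd_d]
  abel

/-- the swap map in degree `n` -/
noncomputable def swapFun (n : ℤ) : (C2 K x y).X n →ₗ[A] (C2 K y x).X n where
  toFun z := mk4 K y x n (-(pa K x y n z)) (pc K x y n z) (pb K x y n z) (pd K x y n z)
  map_add' z w := by
    apply ext4 <;> simp [map_add, add_comm]
  map_smul' r z := by
    apply ext4 <;> simp [map_smul]

@[simp] lemma pa_swapFun (n : ℤ) (z : (C2 K x y).X n) :
    pa K y x n (swapFun K x y n z) = -(pa K x y n z) := pa_mk4 _ _ _ _ _ _ _ _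
@[simp] lemma pb_swapFun (n : ℤ) (z : (C2 K x y).X n) :
    pb K y x n (swapFun K x y n z) = pc K x y n z := pb_mk4 _ _ _ _ _ _ _ _
@[simp] lemma pc_swapFun (n : ℤ) (z : (C2 K x y).X n) :
    pc K y x n (swapFun K x y n z) = pb K x y n z := pc_mk4 _ _ _ _ _ _ _ _
@[simp] lemma pd_swapFun (n : ℤ) (z : (C2 K x y).X n) :
    pd K y x n (swapFun K x y n z) = pd K x y n z := pd_mk4 _ _ _ _ _ _ _ _

lemma swapFun_swapFun (n : ℤ) (z : (C2 K x y).X n) :
    swapFun K y x n (swapFun K x y n z) = z := by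
  apply ext4 <;> simp

lemma swapFun_d (n : ℤ) (z : (C2 K x y).X n) :
    swapFun K x y (n + 1) (((C2 K x y).d n (n + 1)).hom z) =
      ((C2 K y x).d n (n + 1)).hom (swapFun K x y n z) := by
  apply ext4
  · rw [pa_swapFun, pa_d, pa_d, pa_swapFun, map_neg]
  · rw [pb_swapFun, pc_d, pb_d, pa_swapFun, pb_swapFun, smul_neg, neg_neg]
  · rw [pc_swapFun, pb_d, pc_d, pa_swapFun, pc_swapFun, smul_neg]
  · rw [pd_swapFun, pd_d, pd_d, pb_swapFun, pc_swapFun, pd_swapFun, add_comm (x • _)]

/-- the swap morphism -/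
noncomputable def swapHom : C2 K x y ⟶ C2 K y x where
  f n := ModuleCat.ofHom (swapFun K x y n)
  comm' i j hij := by
    have hij' : i + 1 = j := hij
    subst hij'
    ext z
    exact (swapFun_d K x y i z).symm

/-- the swap isomorphism `cone(x on cone(y on K)) ≅ cone(y on cone(x on K))` -/
noncomputable def swapIso : C2 K x y ≅ C2 K y x where
  hom := swapHom K x y
  inv := swapHom K y x
  hom_inv_id := by
    ext n z
    exact swapFun_swapFun K x y n z
  inv_hom_id := by
    ext n z
    exact swapFun_swapFun K y x n z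

end Swap

section Mod
variable {H' H H'' N : Type u} [AddCommGroup H'] [Module A H'] [AddCommGroup H] [Module A H]
  [AddCommGroup H''] [Module A H''] [AddCommGroup N] [Module A N]

/-- an extension of a free `A/I`-module by a module killed by `I` splits -/
theorem nonempty_equiv_prod (I : Ideal A) (f : H' →ₗ[A] H) (g : H →ₗ[A] H'')
    (hf : Function.Injective f) (hfg : Function.Exact f g) (hg : Function.Surjective g)
    (hI : ∀ a ∈ I, ∀ z : H, a • z = 0) (n : ℕ) (e : H'' ≃ₗ[A] (Fin n → A ⧸ I)) :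
    Nonempty (H ≃ₗ[A] H' × (Fin n → A ⧸ I)) := by
  classical
  choose h hh using fun k : Fin n => hg (e.symm (Pi.single k 1))
  let sk : Fin n → (A ⧸ I) →ₗ[A] H := fun k =>
    Submodule.liftQ I (LinearMap.toSpanSingleton A H (h k)) (fun a ha => by
      rw [LinearMap.mem_ker, LinearMap.toSpanSingleton_apply]
      exact hI a ha (h k))
  let s : (Fin n → A ⧸ I) →ₗ[A] H := LinearMap.lsum A (fun _ : Fin n => A ⧸ I) A sk
  have hs : g ∘ₗ s = e.symm.toLinearMap := by
    apply LinearMap.pi_ext
    intro k b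
    obtain ⟨a, rfl⟩ := Ideal.Quotient.mk_surjective b
    have h1 : s (Pi.single k (Ideal.Quotient.mk I a)) = a • h k := by
      simp only [s, LinearMap.lsum_apply, LinearMap.coe_sum, Finset.sum_apply, LinearMap.comp_apply,
        LinearMap.proj_apply]
      rw [Finset.sum_eq_single k]
      · rw [Pi.single_eq_same]
        exact (Submodule.liftQ_apply _ _ _).trans (LinearMap.toSpanSingleton_apply _ _ _ _)
      · intro j _ hj
        rw [Pi.single_eq_of_ne hj, map_zero]
      · intro hk
        exact absurd (Finset.mem_univ k) hk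
    have h2 : (Pi.single k (Ideal.Quotient.mk I a) : Fin n → A ⧸ I) = a • Pi.single k 1 := by
      rw [← Pi.single_smul]
      congr 1
      rw [Algebra.smul_def, mul_one]
      rfl
    rw [LinearMap.comp_apply, h1, map_smul, hh, h2, map_smul]
    rfl
  let l : H'' →ₗ[A] H := s ∘ₗ e.toLinearMap
  have hl : g ∘ₗ l = LinearMap.id := by
    rw [← LinearMap.comp_assoc, hs]
    ext z
    simp
  obtain ⟨E, -⟩ := hfg.splitSurjectiveEquiv hf ⟨l, hl⟩
  exact ⟨E ≪≫ₗ LinearEquiv.prodCongr (LinearEquiv.refl A H') e⟩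

/-- `(N × Bⁿ) × Bᵐ ≃ N × Bⁿ⁺ᵐ` -/
noncomputable def prodFinEquiv (B : Type u) [AddCommGroup B] [Module A B] (n m : ℕ) :
    ((N × (Fin n → B)) × (Fin m → B)) ≃ₗ[A] N × (Fin (n + m) → B) :=
  LinearEquiv.prodAssoc A N (Fin n → B) (Fin m → B) ≪≫ₗ
    LinearEquiv.prodCongr (LinearEquiv.refl A N)
      ((LinearEquiv.sumArrowLequivProdArrow (Fin n) (Fin m) A B).symm ≪≫ₗ
        LinearEquiv.funCongrLeft A B finSumFinEquiv.symm)

/-- Orzech-type cancellation -/
theorem subsingleton_of_prod_equiv (B : Type u) [AddCommGroup B] [Module A B] [Module.Finite A B]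
    (n : ℕ) (e : (N × (Fin n → B)) ≃ₗ[A] (Fin n → B)) : Subsingleton N := by
  let p : (Fin n → B) →ₗ[A] (Fin n → B) := LinearMap.snd A N (Fin n → B) ∘ₗ e.symm.toLinearMap
  have hp : Function.Surjective p := by
    intro v
    exact ⟨e (0, v), by simp [p]⟩
  have hinj := OrzechProperty.injective_of_surjective_endomorphism p hp
  refine ⟨fun a b => ?_⟩
  have h1 : p (e (a - b, 0)) = p 0 := by simp [p]
  have h2 := e.injective ((hinj h1).trans (map_zero e).symm)
  have h3 : a - b = 0 := congrArg Prod.fst h2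
  exact sub_eq_zero.1 h3

end Mod

section Perm

/-- the Koszul complex (cone model) does not depend on the order of the elements -/
theorem nonempty_iso_of_perm (M : ModuleCat.{u} A) {l l' : List A} (h : l.Perm l') :
    Nonempty (koszulCx M l ≅ koszulCx M l') := by
  induction h with
  | nil => exact ⟨Iso.refl _⟩
  | cons x _ ih =>
    obtain ⟨e⟩ := ih
    exact ⟨coneIso e x⟩
  | swap x y l => exact ⟨swapIso (koszulCx M l) y x⟩
  | trans _ _ ih1 ih2 =>
    obtain ⟨e1⟩ := ih1
    obtain ⟨e2⟩ := ih2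
    exact ⟨e1 ≪≫ e2⟩

theorem nonempty_KH_equiv_of_perm (M : Type u) [AddCommGroup M] [Module A M] {l l' : List A}
    (h : l.Perm l') (i : ℤ) : Nonempty (KH l M i ≃ₗ[A] KH l' M i) := by
  obtain ⟨e⟩ := nonempty_iso_of_perm (ModuleCat.of A M) h
  exact ⟨((HomologicalComplex.homologyFunctor (ModuleCat.{u} A) (ComplexShape.up ℤ) i).mapIso
    e).toLinearEquiv⟩

end Perm

section Count
variable (M : Type u) [AddCommGroup M] [Module A M] (I : Ideal A)

/-- `H^i(K(l; M)) ≃ N × (A/I)^n` -/
def IsFreeAt (l : List A) (i : ℤ) (N : Type u) [AddCommGroup N] [Module A N] (n : ℕ) : Prop :=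
  Nonempty (KH l M i ≃ₗ[A] N × (Fin n → A ⧸ I))

/-- the ranks of the Koszul cohomology of a sequence acting by zero -/
def R : ℕ → ℤ → ℕ
  | 0, i => if i = 0 then 1 else 0
  | k + 1, i => R k i + R k (i + 1)

theorem isFreeAt_cons (l : List A) (x : A) (_hx : x ∈ I)
    (hI : ∀ (i : ℤ) (z : KH l M i), x • z = 0)
    (hI' : ∀ a ∈ I, ∀ (i : ℤ) (z : KH (x :: l) M i), a • z = 0)
    (i : ℤ) (N : Type u) [AddCommGroup N] [Module A N] (n m : ℕ)
    (h1 : IsFreeAt M I l i N n) (h2 : IsFreeAt M I l (i + 1) PUnit.{u + 1} m) :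
    IsFreeAt M I (x :: l) i N (n + m) := by
  obtain ⟨g, δ, e1, e2, e3⟩ := cone_les (koszulCx (ModuleCat.of A M) l) x i
  have hz1 : (x • LinearMap.id : KH l M i →ₗ[A] KH l M i) = 0 := by
    ext z
    exact hI i z
  have hz2 : (x • LinearMap.id : KH l M (i + 1) →ₗ[A] KH l M (i + 1)) = 0 := by
    ext z
    exact hI (i + 1) z
  rw [hz1] at e1
  rw [hz2] at e3
  have hg : Function.Injective g := (LinearMap.exact_zero_iff_injective _ g).1 e1
  have hδ : Function.Surjective δ := (LinearMap.exact_zero_iff_surjective _ δ).1 e3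
  obtain ⟨E1⟩ := h1
  obtain ⟨E2⟩ := h2
  let g' : KH l M i →ₗ[A] KH (x :: l) M i := g
  let δ' : KH (x :: l) M i →ₗ[A] KH l M (i + 1) := δ
  obtain ⟨E⟩ := nonempty_equiv_prod I g' δ' hg e2 hδ (fun a ha z => hI' a ha i z) m
    (E2 ≪≫ₗ LinearEquiv.uniqueProd)
  exact ⟨E ≪≫ₗ LinearEquiv.prodCongr E1 (LinearEquiv.refl A _) ≪≫ₗ prodFinEquiv (A ⧸ I) n m⟩


theorem R_zero_of_ne {t : ℤ} (ht : t ≠ 0) : R 0 t = 0 := if_neg ht

theorem isFreeAt_append (l₀ : List A) (t : ℤ) (ht : t ≠ 0)
    (hI : ∀ a ∈ I, ∀ (l' : List A) (i : ℤ) (z : KH (l' ++ l₀) M i), a • z = 0)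
    (h0 : ∀ i : ℤ, t < i → IsFreeAt M I l₀ i PUnit.{u + 1} (R 0 i)) :
    ∀ (f' : List A), (∀ x ∈ f', x ∈ I) →
      (∀ i : ℤ, t < i → IsFreeAt M I (f' ++ l₀) i PUnit.{u + 1} (R f'.length i)) ∧
        IsFreeAt M I (f' ++ l₀) t (KH l₀ M t) (R f'.length t)
  | [], _ => by
    refine ⟨h0, ?_⟩
    show Nonempty (KH l₀ M t ≃ₗ[A] KH l₀ M t × (Fin (R 0 t) → A ⧸ I))
    rw [R_zero_of_ne ht]
    exact ⟨LinearEquiv.prodUnique.symm⟩
  | x :: f'', hf' => by
    obtain ⟨h1, h2⟩ := isFreeAt_append l₀ t ht hI h0 f''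
      (fun y hy => hf' y (List.mem_cons_of_mem _ hy))
    have hx : x ∈ I := hf' x List.mem_cons_self
    refine ⟨fun i hi => ?_, ?_⟩
    · exact isFreeAt_cons M I (f'' ++ l₀) x hx (fun i z => hI x hx f'' i z)
        (fun a ha i z => hI a ha (x :: f'') i z) i PUnit.{u + 1} _ _ (h1 i hi)
        (h1 (i + 1) (by omega))
    · exact isFreeAt_cons M I (f'' ++ l₀) x hx (fun i z => hI x hx f'' i z)
        (fun a ha i z => hI a ha (x :: f'') i z) t (KH l₀ M t) _ _ h2
        (h1 (t + 1) (by omega))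

end Count

section Known
variable (I : Ideal A)

/-- Koszul cohomology of a sequence of elements of `I` on `A/I` is free over `A/I` -/
theorem isFreeAt_quot (g' : List A) (hg' : ∀ x ∈ g', x ∈ I) (i : ℤ) :
    IsFreeAt (A ⧸ I) I g' i PUnit.{u + 1} (R g'.length i) := by
  have hann : ∀ a ∈ I, ∀ m : A ⧸ I, a • m = 0 := by
    intro a ha m
    obtain ⟨b, rfl⟩ := Ideal.Quotient.mk_surjective m
    rw [← Ideal.Quotient.mk_eq_mk, ← Submodule.Quotient.mk_smul]
    exact (Submodule.Quotient.mk_eq_zero _).2 (I.mul_mem_right b ha)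
  have h0 : ∀ j : ℤ, IsFreeAt (A ⧸ I) I [] j PUnit.{u + 1} (R 0 j) := by
    intro j
    by_cases hj : j = 0
    · subst hj
      exact ⟨KHnilEquiv (A ⧸ I) ≪≫ₗ (LinearEquiv.funUnique (Fin 1) A (A ⧸ I)).symm ≪≫ₗ
        LinearEquiv.uniqueProd.symm⟩
    · have : Subsingleton (KH ([] : List A) (A ⧸ I) j) := subsingleton_KH_nil _ j hj
      show Nonempty (KH ([] : List A) (A ⧸ I) j ≃ₗ[A] PUnit.{u + 1} × (Fin (R 0 j) → A ⧸ I))
      rw [R_zero_of_ne hj]
      exact ⟨LinearEquiv.ofSubsingleton _ _⟩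
  have key := (isFreeAt_append (A ⧸ I) I [] (min i 0 - 1) (by omega)
    (fun a ha l' j z => smul_KH_eq_zero_of_ann (A ⧸ I) (l' ++ []) a (hann a ha) j z)
    (fun j _ => h0 j) g' hg').1 i (by omega)
  rwa [List.append_nil] at key

end Known


section Main
open DerivedCategory
attribute [local instance] HasDerivedCategory.standard

/-- if `f` is Koszul-acyclic, `K(g ++ f; A)` computes `K(g; A/(f))` -/
theorem nonempty_KH_append_equiv (f g : List A) (hf : ∀ i : ℤ, i ≠ 0 → Subsingleton (KH f A i))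
    (i : ℤ) : Nonempty (KH (g ++ f) A i ≃ₗ[A] KH g (A ⧸ Ideal.ofList f) i) := by
  let N : ModuleCat.{u} A := ModuleCat.of A (A ⧸ Ideal.ofList f)
  obtain ⟨π, hπ, hker⟩ := Groth.Agent.Helper13KzConcat.exists_surj_KH0 A f
  have hker' : LinearMap.ker π = Ideal.ofList f := by
    rw [hker, smul_eq_mul, Ideal.mul_top]
  let e1 : (A ⧸ LinearMap.ker π) ≃ₗ[A] KH f A 0 := π.quotKerEquivOfSurjective hπ
  let e0 : (koszulCx (ModuleCat.of A A) f).homology 0 ≅ N :=
    (e1.symm ≪≫ₗ Submodule.quotEquivOfEq _ _ hker').toModuleIso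
  have hf' : ∀ i : ℤ, i ≠ 0 → IsZero ((koszulCx (ModuleCat.of A A) f).homology i) :=
    fun i hi => by
      have := hf i hi
      exact ModuleCat.isZero_of_subsingleton _
  obtain ⟨eD⟩ := Groth.Agent.Helper13KzConcat.nonempty_iso_single
    (koszulCx (ModuleCat.of A A) f) N hf' e0
  obtain ⟨eG⟩ := Groth.Agent.Helper13KzConcat.nonempty_iso_append (ModuleCat.of A A) N f eD g
  have hiso : (koszulCx (ModuleCat.of A A) (g ++ f)).homology i ≅ (koszulCx N g).homology i :=
    ((homologyFunctorFactors (ModuleCat.{u} A) i).app _).symm ≪≫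
      (DerivedCategory.homologyFunctor (ModuleCat.{u} A) i).mapIso eG ≪≫
      (homologyFunctorFactors (ModuleCat.{u} A) i).app _
  exact ⟨hiso.toLinearEquiv⟩

/-- **Change of generators**: if `f` is Koszul-acyclic and `g` is a list of the same length generating
the same ideal, then `g` is Koszul-acyclic. -/
theorem subsingleton_KH_of_ofList_eq (f g : List A)
    (hf : ∀ i : ℤ, i ≠ 0 → Subsingleton (KH f A i)) (hlen : g.length = f.length)
    (hfg : Ideal.ofList g = Ideal.ofList f) : ∀ i : ℤ, i ≠ 0 → Subsingleton (KH g A i) := by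
  have key : ∀ n : ℕ, ∀ t : ℤ, t = -((n : ℤ) + 1) → Subsingleton (KH g A t) := by
    intro n
    induction n using Nat.strong_induction_on with
    | _ n ih =>
      intro t ht
      have hsub : ∀ i : ℤ, t < i → i ≠ 0 → Subsingleton (KH g A i) := by
        intro i hti hi
        rcases lt_or_gt_of_ne hi with h | h
        · exact ih (-i - 1).toNat (by omega) i (by omega)
        · exact subsingleton_KH_of_pos A g i h
      let I : Ideal A := Ideal.ofList f
      have hmem : ∀ (l' : List A), I ≤ Ideal.span {x | x ∈ l' ++ g} := by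
        intro l'
        show Ideal.ofList f ≤ _
        rw [← hfg]
        exact Ideal.span_mono (fun x hx => List.mem_append_right l' hx)
      have h0 : ∀ i : ℤ, t < i → IsFreeAt A I g i PUnit.{u + 1} (R 0 i) := by
        intro i hti
        by_cases hi : i = 0
        · subst hi
          obtain ⟨π, hπ, hker⟩ := Groth.Agent.Helper13KzConcat.exists_surj_KH0 A g
          have hker' : LinearMap.ker π = I := by
            rw [hker, smul_eq_mul, Ideal.mul_top, hfg]
          exact ⟨(π.quotKerEquivOfSurjective hπ).symm ≪≫ₗ Submodule.quotEquivOfEq _ _ hker' ≪≫ₗ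
            (LinearEquiv.funUnique (Fin 1) A (A ⧸ I)).symm ≪≫ₗ LinearEquiv.uniqueProd.symm⟩
        · have := hsub i hti hi
          show Nonempty (KH g A i ≃ₗ[A] PUnit.{u + 1} × (Fin (R 0 i) → A ⧸ I))
          rw [R_zero_of_ne hi]
          exact ⟨LinearEquiv.ofSubsingleton _ _⟩
      obtain ⟨E1⟩ := (isFreeAt_append A I g t (by omega)
        (fun a ha l' j z => smul_KH_eq_zero_of_mem A (l' ++ g) a (hmem l' ha) j z) h0 f
        (fun x hx => Ideal.subset_span hx)).2
      obtain ⟨E2⟩ := nonempty_KH_equiv_of_perm A (List.perm_append_comm (l₁ := f) (l₂ := g)) t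
      obtain ⟨E3⟩ := nonempty_KH_append_equiv f g hf t
      obtain ⟨E4⟩ := isFreeAt_quot I g (fun x hx => by
        show x ∈ Ideal.ofList f
        rw [← hfg]
        exact Ideal.subset_span hx) t
      rw [hlen] at E4
      exact subsingleton_of_prod_equiv (A ⧸ I) (R f.length t)
        (E1.symm ≪≫ₗ E2 ≪≫ₗ E3 ≪≫ₗ E4 ≪≫ₗ LinearEquiv.uniqueProd)
  intro i hi
  rcases lt_or_gt_of_ne hi with h | h
  · exact key (-i - 1).toNat i (by omega)
  · exact subsingleton_KH_of_pos A g i h

end Main


section LCI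
open Groth.Agent.Helper13KzLift Groth.Agent.Lib.Helper5.KindFlat

/-- Koszul-regularity does not depend on the order of the elements -/
theorem isKoszulRegularSeq_of_perm {l l' : List A} (h : l.Perm l')
    (hl : LCI.IsKoszulRegularSeq A l) : LCI.IsKoszulRegularSeq A l' := by
  rw [isKoszulRegularSeq_iff] at hl ⊢
  intro i hi
  obtain ⟨e⟩ := nonempty_KH_equiv_of_perm A h i
  have := hl i hi
  exact e.symm.toEquiv.subsingleton

/-- **Change of generators**: a list of the same length as a Koszul-regular sequence generating the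
same ideal is Koszul-regular -/
theorem isKoszulRegularSeq_of_ofList_eq (f g : List A) (hf : LCI.IsKoszulRegularSeq A f)
    (hlen : g.length = f.length) (hfg : Ideal.ofList g = Ideal.ofList f) :
    LCI.IsKoszulRegularSeq A g := by
  rw [isKoszulRegularSeq_iff] at hf ⊢
  exact subsingleton_KH_of_ofList_eq f g hf hlen hfg

/-- if `z` and `w ++ z` are Koszul-regular then the image of `w` in a quotient by `(z)` is
Koszul-regular -/
theorem isKoszulRegularSeq_map_of_surjective {T : Type u} [CommRing T] (ψ : A →+* T)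
    (hψ : Function.Surjective ψ) (z w : List A) (hker : RingHom.ker ψ = Ideal.ofList z)
    (hz : LCI.IsKoszulRegularSeq A z) (hwz : LCI.IsKoszulRegularSeq A (w ++ z)) :
    LCI.IsKoszulRegularSeq T (w.map ψ) := by
  rw [isKoszulRegularSeq_iff] at hz hwz
  unfold LCI.IsKoszulRegularSeq
  intro i hi
  rw [isZero_congr (koszul_eq T (w.map ψ)) i]
  apply isZero_homology_of_restrict ψ (ModuleCat.of T T) w i
  obtain ⟨E⟩ := nonempty_KH_append_equiv z w hz i
  have h1 : Subsingleton (KH w (A ⧸ Ideal.ofList z) i) := by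
    have := hwz i hi
    exact E.symm.toEquiv.subsingleton
  let N : ModuleCat.{u} A := (ModuleCat.restrictScalars ψ).obj (ModuleCat.of T T)
  let ψl : A →ₗ[A] N :=
    { toFun := fun a => ψ a
      map_add' := fun a b => map_add ψ a b
      map_smul' := fun a b => by
        show ψ (a * b) = ψ a * ψ b
        exact map_mul ψ a b }
  have hψl : Function.Surjective ψl := hψ
  have hkerl : LinearMap.ker ψl = Ideal.ofList z := by
    rw [← hker]
    ext a
    exact Iff.rfl
  let e : (A ⧸ Ideal.ofList z) ≃ₗ[A] N :=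
    (Submodule.quotEquivOfEq _ _ hkerl).symm ≪≫ₗ ψl.quotKerEquivOfSurjective hψl
  have h2 : Subsingleton (KH w N i) := subsingleton_KH_of_equiv w e i h1
  exact ModuleCat.isZero_of_subsingleton _

/-- a Koszul-regular sequence containing `0` generates the unit ideal -/
theorem ofList_eq_top_of_zero_cons (l : List A) (h : LCI.IsKoszulRegularSeq A (0 :: l)) :
    Ideal.ofList l = ⊤ := by
  rw [isKoszulRegularSeq_iff] at h
  obtain ⟨g, δ, -, -, e3⟩ := cone_les (koszulCx (ModuleCat.of A A) l) (0 : A) (-1)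
  have hsub : Subsingleton (KH (0 :: l) A (-1)) := h (-1) (by norm_num)
  obtain ⟨π, hπ, hker⟩ := Groth.Agent.Helper13KzConcat.exists_surj_KH0 A l
  rw [smul_eq_mul, Ideal.mul_top] at hker
  rw [← hker, LinearMap.ker_eq_top]
  refine LinearMap.ext fun a => ?_
  have h1 : ((0 : A) • (LinearMap.id : KH l A (-1 + 1) →ₗ[A] KH l A (-1 + 1))) (π a) = 0 := by
    simp
  obtain ⟨y, hy⟩ := (e3 (π a)).1 h1
  have hy0 : y = 0 := @Subsingleton.elim _ hsub y 0
  rw [hy0, map_zero] at hy
  exact hy.symm

end LCI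

section Exchange

/-- triangular independence of the classes of `z` in `I ⊗ κ(p)` -/
def IndAt (p I : Ideal A) : List A → Prop
  | [] => True
  | y :: z => IndAt p I z ∧ ∀ s : A, s ∉ p → s * y ∉ Ideal.ofList z ⊔ p * I

theorem exists_split (p I : Ideal A) : ∀ (w : List A), (∀ x ∈ w, x ∈ I) → ∀ v : A,
    v ∈ Ideal.ofList w → v ∈ p * I ∨ ∃ (w₁ w₂ : List A) (x b : A), w = w₁ ++ x :: w₂ ∧ b ∉ p ∧
      b * x - v ∈ Ideal.ofList (w₁ ++ w₂)
  | [], _, v, hv => by
    left
    rw [Ideal.ofList_nil, Ideal.mem_bot] at hv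
    rw [hv]
    exact zero_mem _
  | x :: w'', hw, v, hv => by
    rw [Ideal.ofList_cons, Submodule.mem_sup] at hv
    obtain ⟨bx, hbx, v'', hv'', rfl⟩ := hv
    obtain ⟨b, rfl⟩ := Ideal.mem_span_singleton'.1 hbx
    by_cases hb : b ∈ p
    · rcases exists_split p I w'' (fun t ht => hw t (List.mem_cons_of_mem _ ht)) v'' hv'' with
        h | ⟨w₁, w₂, x', b', rfl, hb', h⟩
      · left
        exact add_mem (Ideal.mul_mem_mul hb (hw x List.mem_cons_self)) h
      · right
        refine ⟨x :: w₁, w₂, x', b', rfl, hb', ?_⟩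
        have e : b' * x' - (b * x + v'') = (b' * x' - v'') - b * x := by ring
        rw [e, List.cons_append, Ideal.ofList_cons]
        exact sub_mem (Ideal.mem_sup_right h)
          (Ideal.mem_sup_left (Ideal.mul_mem_left _ b (Ideal.mem_span_singleton_self x)))
    · right
      refine ⟨[], w'', x, b, rfl, hb, ?_⟩
      have e : b * x - (b * x + v'') = -v'' := by ring
      rw [e, List.nil_append]
      exact neg_mem hv''

/-- **Exchange**: elements `z` of `I = (l)` independent at the prime `p` can be exchanged against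
elements of `l`, near `p` -/
theorem exists_exchange (p : Ideal A) [p.IsPrime] (I : Ideal A) (l : List A)
    (hl : Ideal.ofList l = I) :
    ∀ (z : List A), (∀ y ∈ z, y ∈ I) → IndAt p I z →
      ∃ (w : List A) (s : A), w.Sublist l ∧ (z ++ w).length = l.length ∧ s ∉ p ∧
        (∀ a ∈ I, s * a ∈ Ideal.ofList (z ++ w))
  | [], _, _ => by
    refine ⟨l, 1, List.Sublist.refl l, rfl, ?_, ?_⟩
    · exact fun h => Ideal.IsPrime.ne_top ‹_› ((Ideal.eq_top_iff_one p).2 h)
    · intro a ha
      rw [one_mul, List.nil_append, hl]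
      exact ha
  | y :: z', hz, hind => by
    obtain ⟨w', s', hsub, hlen, hs', hgen⟩ := exists_exchange p I l hl z'
      (fun t ht => hz t (List.mem_cons_of_mem _ ht)) hind.1
    have hw' : ∀ x ∈ w', x ∈ I := fun x hx => by
      rw [← hl]
      exact Ideal.subset_span (hsub.subset hx)
    have hy := hgen y (hz y List.mem_cons_self)
    rw [Ideal.ofList_append, Submodule.mem_sup] at hy
    obtain ⟨u, hu, v, hv, huv⟩ := hy
    rcases exists_split p I w' hw' v hv with h | ⟨w₁, w₂, x, b, rfl, hb, hbx⟩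
    · exfalso
      apply hind.2 s' hs'
      rw [← huv]
      exact add_mem (Ideal.mem_sup_left hu) (Ideal.mem_sup_right h)
    · refine ⟨w₁ ++ w₂, b * s', ?_, ?_, ?_, ?_⟩
      · exact ((List.sublist_cons_self x w₂).append_left w₁).trans hsub
      · rw [← hlen]
        simp only [List.length_append, List.length_cons]
        omega
      · intro h
        rcases Ideal.IsPrime.mem_or_mem ‹_› h with h | h
        · exact hb h
        · exact hs' h
      · let G' : Ideal A := Ideal.ofList (y :: z' ++ (w₁ ++ w₂))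
        have hyG : y ∈ G' := Ideal.subset_span List.mem_cons_self
        have hzG : Ideal.ofList z' ≤ G' := Ideal.span_mono (fun t ht =>
          List.mem_cons_of_mem _ (List.mem_append_left _ ht))
        have hwG : Ideal.ofList (w₁ ++ w₂) ≤ G' := Ideal.span_mono (fun t ht =>
          List.mem_cons_of_mem _ (List.mem_append_right _ ht))
        have hbxG : b * x ∈ G' := by
          have e : b * x = (b * x - v) + (s' * y - u) := by
            rw [← huv]
            ring
          rw [e]
          exact add_mem (hwG hbx) (sub_mem (Ideal.mul_mem_left _ _ hyG) (hzG hu))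
        have key : ∀ t ∈ Ideal.ofList (z' ++ (w₁ ++ x :: w₂)), b * t ∈ G' := by
          intro t ht
          induction ht using Submodule.span_induction with
          | mem t ht =>
            rcases List.mem_append.1 ht with ht | ht
            · exact Ideal.mul_mem_left _ _ (hzG (Ideal.subset_span ht))
            · rcases List.mem_append.1 ht with ht | ht
              · exact Ideal.mul_mem_left _ _ (hwG (Ideal.subset_span (List.mem_append_left _ ht)))
              · rcases List.mem_cons.1 ht with rfl | ht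
                · exact hbxG
                · exact Ideal.mul_mem_left _ _
                    (hwG (Ideal.subset_span (List.mem_append_right _ ht)))
          | zero => rw [mul_zero]; exact zero_mem _
          | add t t' _ _ h1 h2 => rw [mul_add]; exact add_mem h1 h2
          | smul c t _ h1 =>
            rw [smul_eq_mul, mul_left_comm]
            exact Ideal.mul_mem_left _ _ h1
        intro a ha
        rw [mul_assoc]
        exact key _ (hgen a ha)

end Exchange

end Groth.Agent.Helper13KzPerm
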