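import Groth.Agent.Lib.Helper13KzRank

/-!
# Koszul Euler characteristic of powers (helper13)
-/

set_option autoImplicit false

namespace Groth.Agent.Helper13Kz
open CategoryTheory CochainComplex MonoidalCategory CohIII Pointwise TensorProduct
open Groth.Agent.Lib.Helper21

universe u
variable {A : Type u} [CommRing A]

section Pow
variable {M : Type u} [AddCommGroup M] [Module A M]

theorem FLI.quotSMulTop_pow [Module.Finite A M] {l : List A} {y : A}
    (h : FLI (Ideal.span {a | a ∈ y :: l}) M) (j : ℕ) :
    FLI (Ideal.span {a | a ∈ l}) (QuotSMulTop (y ^ j) M) := by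
  intro p hp hI
  rw [Module.support_quotSMulTop] at hp
  refine h p hp.1 ?_
  rw [Ideal.span_le]
  intro a ha
  rcases List.mem_cons.mp ha with rfl | ha
  · exact p.2.mem_of_pow_mem j (hp.2 (Set.mem_singleton _))
  · exact hI (Ideal.subset_span ha)

theorem FLI.map_pow {l : List (A × ℕ)}
    (h : FLI (Ideal.span {a | a ∈ l.map Prod.fst}) M) :
    FLI (Ideal.span {a | a ∈ l.map (fun q => q.1 ^ q.2)}) M := by
  intro p hp hI
  refine h p hp ?_
  rw [Ideal.span_le]
  intro a ha
  obtain ⟨q, hq, rfl⟩ := List.mem_map.mp ha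
  refine p.2.mem_of_pow_mem q.2 (hI (Ideal.subset_span ?_))
  exact List.mem_map.mpr ⟨q, hq, rfl⟩

theorem chi_quot_pow [IsNoetherianRing A] [Module.Finite A M] (l : List A) (y : A)
    (hy : IsSMulRegular M y) (hfl : FLI (Ideal.span {a | a ∈ y :: l}) M) :
    ∀ e : ℕ, chi l (QuotSMulTop (y ^ e) M) = (e : ℤ) * chi l (QuotSMulTop y M)
  | 0 => by
    have : Subsingleton (QuotSMulTop (y ^ 0) M) := by
      rw [pow_zero]
      refine ⟨fun a b => ?_⟩
      obtain ⟨a, rfl⟩ := Submodule.Quotient.mk_surjective _ a
      obtain ⟨b, rfl⟩ := Submodule.Quotient.mk_surjective _ b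
      rw [Submodule.Quotient.eq, Submodule.mem_smul_pointwise_iff_exists]
      exact ⟨a - b, trivial, one_smul _ _⟩
    rw [chi_of_subsingleton]
    simp
  | e + 1 => by
    obtain ⟨f, g, hf, hg, hfg⟩ := quot_mul_ses M y (y ^ e) hy
    have h1 := chi_add l f g hf hg hfg (by rw [← pow_succ']; exact hfl.quotSMulTop_pow (e + 1))
    have h2 := chi_quot_pow l y hy hfl e
    have h3 : chi l (QuotSMulTop (y ^ (e + 1)) M) = chi l (QuotSMulTop (y * y ^ e) M) := by
      rw [pow_succ']
    rw [h3, h1, h2]
    push_cast
    ring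

end Pow

end Groth.Agent.Helper13Kz

namespace Groth.Agent.Helper13Kz
open CategoryTheory CochainComplex MonoidalCategory CohIII Pointwise TensorProduct
open Groth.Agent.Lib.Helper21

universe u
variable {A : Type u} [CommRing A]

theorem chi_map_pow [IsNoetherianRing A] :
    ∀ (l : List (A × ℕ)) (M : Type u) [AddCommGroup M] [Module A M] [Module.Finite A M],
      FLI (Ideal.span {a | a ∈ l.map Prod.fst}) M →
      chi (l.map (fun q => q.1 ^ q.2)) M =
        (l.map (fun q => (q.2 : ℤ))).prod * chi (l.map Prod.fst) M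
  | [], M, _, _, _, _ => by simp
  | (y, e) :: l, M, _, _, _, hfl => by
    have IH := chi_map_pow l
    simp only [List.map_cons, List.prod_cons] at hfl ⊢
    revert hfl
    refine IsNoetherianRing.induction_on_isQuotientEquivQuotientPrime A (M := M) inferInstance
      (motive := fun N _ _ _ => FLI (Ideal.span {a | a ∈ y :: l.map Prod.fst}) N →
        chi (y ^ e :: l.map (fun q => q.1 ^ q.2)) N =
          ((e : ℤ) * (l.map (fun q => (q.2 : ℤ))).prod) * chi (y :: l.map Prod.fst) N) ?_ ?_ ?_
    · intro N _ _ _ _ _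
      rw [chi_of_subsingleton, chi_of_subsingleton, mul_zero]
    · intro N _ _ _ p e' hfl
      by_cases hz : y ∈ p.asIdeal
      · have h0 := smul_eq_zero_of_equiv_quot e' hz
        have hfl' : FLI (Ideal.span {a | a ∈ l.map Prod.fst}) N := hfl.of_smul_eq_zero h0
        rw [chi_cons_of_smul_eq_zero _ y h0 hfl', mul_zero]
        rcases Nat.eq_zero_or_pos e with he | he
        · subst he
          have hreg : IsSMulRegular N (y ^ 0) := by
            rw [pow_zero]
            exact IsSMulRegular.one N
          rw [chi_cons_of_regular _ _ hreg]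
          have : Subsingleton (QuotSMulTop (y ^ 0) N) := by
            rw [pow_zero]
            refine ⟨fun a b => ?_⟩
            obtain ⟨a, rfl⟩ := Submodule.Quotient.mk_surjective _ a
            obtain ⟨b, rfl⟩ := Submodule.Quotient.mk_surjective _ b
            rw [Submodule.Quotient.eq, Submodule.mem_smul_pointwise_iff_exists]
            exact ⟨a - b, trivial, one_smul _ _⟩
          exact chi_of_subsingleton _
        · refine chi_cons_of_smul_eq_zero _ (y ^ e) (fun n => ?_) hfl'.map_pow
          obtain ⟨k, rfl⟩ : ∃ k, e = k + 1 := ⟨e - 1, by omega⟩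
          rw [pow_succ, mul_smul, h0, smul_zero]
      · have hr := isSMulRegular_of_equiv_quot e' hz
        have hre : IsSMulRegular N (y ^ e) := hr.pow e
        rw [chi_cons_of_regular _ _ hre, chi_cons_of_regular _ _ hr,
          IH (QuotSMulTop (y ^ e) N) (hfl.quotSMulTop_pow e), chi_quot_pow _ y hr hfl e]
        ring
    · intro N₁ _ _ _ N₂ _ _ _ N₃ _ _ _ f g hf hg hfg h1 h3 hfl
      have hfl2 : FLI (Ideal.span {a | a ∈ y ^ e :: l.map (fun q => q.1 ^ q.2)}) N₂ := by
        have := FLI.map_pow (l := (y, e) :: l) (M := N₂) (by simpa using hfl)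
        simpa using this
      rw [chi_add _ f g hf hg hfg hfl, chi_add _ f g hf hg hfg hfl2,
        h1 (hfl.of_injective f hf), h3 (hfl.of_surjective g hg)]
      ring

end Groth.Agent.Helper13Kz
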