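import Groth.Agent.Lib.Helper13KzDim

/-!
# Koszul Euler characteristic: invariance under isomorphism and the rank formula (helper13)
-/

set_option autoImplicit false

namespace Groth.Agent.Helper13Kz
open CategoryTheory CochainComplex MonoidalCategory CohIII Pointwise TensorProduct
open Groth.Agent.Lib.Helper21

universe u
variable {A : Type u} [CommRing A]

section Congr
variable {M N : Type u} [AddCommGroup M] [Module A M] [AddCommGroup N] [Module A N]

theorem length_KH_congr (l : List A) (e : M ≃ₗ[A] N) (i : ℤ) :
    Module.length A (KH l M i) = Module.length A (KH l N i) := by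
  have key : ∀ {M N : Type u} [AddCommGroup M] [Module A M] [AddCommGroup N] [Module A N]
      (e : M ≃ₗ[A] N), Module.length A (KH l N i) ≤ Module.length A (KH l M i) := by
    intro M N _ _ _ _ e
    have h := length_KH_le_add l (e : M →ₗ[A] N) (0 : N →ₗ[A] PUnit.{u + 1}) e.injective
      (Function.surjective_to_subsingleton _) ((e.exact_zero_iff_surjective _).2 e.surjective) i
    rwa [length_KH_of_subsingleton (M := PUnit.{u + 1}) l i, add_zero] at h
  exact le_antisymm (key e.symm) (key e)

theorem chi_congr (l : List A) (e : M ≃ₗ[A] N) : chi l M = chi l N := by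
  unfold chi
  exact chiOf_congr (fun i => length_KH_congr l e i)

end Congr

section Rank
variable [IsDomain A]

local notation "K" => FractionRing A

theorem finrank_add_of_exact {N₁ N₂ N₃ : Type u} [AddCommGroup N₁] [Module A N₁]
    [AddCommGroup N₂] [Module A N₂] [AddCommGroup N₃] [Module A N₃] [Module.Finite A N₂]
    (f : N₁ →ₗ[A] N₂) (g : N₂ →ₗ[A] N₃)
    (hf : Function.Injective f) (hg : Function.Surjective g) (hfg : Function.Exact f g) :
    Module.finrank K (K ⊗[A] N₂) = Module.finrank K (K ⊗[A] N₁) + Module.finrank K (K ⊗[A] N₃) := by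
  have hF : Function.Injective (f.baseChange K) :=
    Module.Flat.lTensor_preserves_injective_linearMap f hf
  have hG : Function.Surjective (g.baseChange K) := LinearMap.lTensor_surjective _ hg
  have hFG : Function.Exact (f.baseChange K) (g.baseChange K) := lTensor_exact _ hfg hg
  have h1 := LinearMap.finrank_range_add_finrank_ker (g.baseChange K)
  rw [LinearMap.range_eq_top.mpr hG, finrank_top, LinearMap.exact_iff.mp hFG,
    LinearMap.finrank_range_of_inj hF] at h1
  omega

end Rank

end Groth.Agent.Helper13Kz

namespace Groth.Agent.Helper13Kz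
open CategoryTheory CochainComplex MonoidalCategory CohIII Pointwise TensorProduct
open Groth.Agent.Lib.Helper21

universe u
variable {A : Type u} [CommRing A]

lemma wb_lt_of_succ_le {a : WithBot ℕ∞} {n : ℕ} (h : a + 1 ≤ (n : WithBot ℕ∞)) :
    a < (n : WithBot ℕ∞) := by
  apply wb_lt_of_succ_lt
  refine lt_of_le_of_lt h ?_
  have h4 : ∀ k : ℕ, ((k : ℕ) : WithBot ℕ∞) = (((k : ℕ) : ℕ∞) : WithBot ℕ∞) := fun _ => rfl
  rw [h4, h4, WithBot.coe_lt_coe, Nat.cast_lt]
  omega

section Rank2
variable [IsDomain A]

local notation "K" => FractionRing A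

lemma subsingleton_tensor_of_smul_eq_zero {N : Type u} [AddCommGroup N] [Module A N] (r : A)
    (hr : r ≠ 0) (h : ∀ n : N, r • n = 0) : Subsingleton (K ⊗[A] N) := by
  refine ⟨fun a b => ?_⟩
  have key : ∀ z : K ⊗[A] N, z = 0 := by
    intro z
    induction z using TensorProduct.induction_on with
    | zero => rfl
    | tmul k n =>
      have hr' : (algebraMap A K r) ≠ 0 := by
        rwa [Ne, IsFractionRing.to_map_eq_zero_iff]
      have : k = r • (k * (algebraMap A K r)⁻¹) := by
        rw [Algebra.smul_def]
        field_simp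
      rw [this, TensorProduct.smul_tmul, h, TensorProduct.tmul_zero]
    | add x y hx hy => rw [hx, hy, add_zero]
  rw [key a, key b]

theorem chi_eq_rank_mul [IsNoetherianRing A] [IsLocalRing A] (l : List A)
    (hl : ∀ a ∈ l, a ∈ IsLocalRing.maximalIdeal A) (hd : ringKrullDim A = (l.length : WithBot ℕ∞))
    (hI : ∀ p : PrimeSpectrum A, Ideal.span {a | a ∈ l} ≤ p.asIdeal → p.asIdeal.IsMaximal)
    (M : Type u) [AddCommGroup M] [Module A M] [Module.Finite A M] :
    chi l M = (Module.finrank K (K ⊗[A] M) : ℤ) * chi l A := by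
  have hFL : ∀ (N : Type u) [AddCommGroup N] [Module A N], FLI (Ideal.span {a | a ∈ l}) N :=
    fun N _ _ p _ h => hI p h
  refine IsNoetherianRing.induction_on_isQuotientEquivQuotientPrime A (M := M) inferInstance
    (motive := fun N _ _ _ => chi l N = (Module.finrank K (K ⊗[A] N) : ℤ) * chi l A) ?_ ?_ ?_
  · intro N _ _ _ _
    have : Subsingleton (K ⊗[A] N) :=
      subsingleton_tensor_of_smul_eq_zero (1 : A) one_ne_zero (fun n => Subsingleton.elim _ _)
    rw [chi_of_subsingleton, Module.finrank_zero_of_subsingleton]
    simp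
  · intro N _ _ _ p e
    by_cases hp : p.asIdeal = ⊥
    · have e2 : N ≃ₗ[A] A := by
        rw [hp] at e
        exact e.trans (Submodule.quotEquivOfEqBot ⊥ rfl)
      have e3 : K ⊗[A] N ≃ₗ[K] K :=
        (TensorProduct.AlgebraTensorModule.congr (LinearEquiv.refl K K) e2).trans
          (TensorProduct.AlgebraTensorModule.rid A K K)
      rw [chi_congr l e2, e3.finrank_eq, Module.finrank_self]
      simp
    · obtain ⟨r, hrp, hr0⟩ := Submodule.exists_mem_ne_zero_of_ne_bot hp
      have : Subsingleton (K ⊗[A] N) :=
        subsingleton_tensor_of_smul_eq_zero r hr0 (smul_eq_zero_of_equiv_quot e hrp)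
      rw [Module.finrank_zero_of_subsingleton]
      simp only [Nat.cast_zero, zero_mul]
      refine chi_eq_zero_of_supportDim_lt l hl N (hFL N) ?_
      rw [Module.supportDim_eq_of_equiv e, Module.supportDim_quotient_eq_ringKrullDim]
      apply wb_lt_of_succ_le
      rw [← hd]
      refine le_trans ?_ (ringKrullDim_quotient_succ_le_of_nonZeroDivisor
        (mem_nonZeroDivisors_of_ne_zero hr0))
      gcongr
      have hle : Ideal.span {r} ≤ p.asIdeal := by
        rw [Ideal.span_le]
        intro z hz
        rw [Set.mem_singleton_iff.mp hz]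
        exact hrp
      exact ringKrullDim_le_of_surjective (Ideal.Quotient.factor hle)
        (Ideal.Quotient.factor_surjective hle)
  · intro N₁ _ _ _ N₂ _ _ _ N₃ _ _ _ f g hf hg hfg h1 h3
    rw [chi_add l f g hf hg hfg (hFL N₂), h1, h3, finrank_add_of_exact f g hf hg hfg]
    push_cast
    ring

end Rank2

end Groth.Agent.Helper13Kz
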