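import Groth.Agent.Lib.Helper5Mult

/-!
# Analysis lemmas for Samuel functions: discrete L'Hôpital for polynomial-like functions (helper13)
-/

set_option autoImplicit false

namespace Groth.Agent.Helper13Sam
open Groth.Agent.Lib.Helper5.PolyLike Groth.Agent.Lib.Helper5.Mult Filter
open Groth.Agent.Lib.Helper5.HilbertSamuelI

lemma B_succ_sub (k m : ℕ) : B (k + 1) (m + 1) - B (k + 1) m = B k (m + 1) := by
  simp only [B_apply]
  have h : (m + 1 + (k + 1)).choose (k + 1) = (m + 1 + k).choose k + (m + (k + 1)).choose (k + 1) := by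
    have : m + 1 + (k + 1) = (m + 1 + k) + 1 := by ring
    rw [this, Nat.choose_succ_succ]
    congr 2
    ring
  rw [h]
  push_cast
  ring

lemma diff_eq (r : ℕ) (c : ℕ → ℤ) (h : ℕ → ℤ) (N₀ : ℕ)
    (hh : ∀ n, N₀ ≤ n → h n = ∑ k ∈ Finset.range (r + 2), c k * B k n) :
    ∀ m, N₀ ≤ m → h (m + 1) - h m = ∑ j ∈ Finset.range (r + 1), c (j + 1) * B j (m + 1) := by
  intro m hm
  rw [hh (m + 1) (by omega), hh m hm, ← Finset.sum_sub_distrib, Finset.sum_range_succ']
  have h0 : c 0 * B 0 (m + 1) - c 0 * B 0 m = 0 := by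
    simp [B_apply]
  rw [h0, add_zero]
  refine Finset.sum_congr rfl (fun j _ => ?_)
  rw [← mul_sub, B_succ_sub]

/-- discrete L'Hôpital for polynomial-like functions -/
theorem tendsto_of_diff (r : ℕ) (h hb E : ℕ → ℤ) (e : ℝ) (hpoly : IsPolyLike (r + 2) h) (c : ℕ)
    (hA : ∀ t, c ≤ t + 1 → h (t + 1) ≤ h t + hb (t + 1))
    (hB : ∀ t, c ≤ t + 1 → h t + hb (t + 1) ≤ h (t + 1) + E (t + 1))
    (hlim : Tendsto (fun n : ℕ => (r.factorial : ℝ) * (hb n : ℝ) / (n : ℝ) ^ r) atTop (nhds e))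
    (hE : Tendsto (fun n : ℕ => (r.factorial : ℝ) * (E n : ℝ) / (n : ℝ) ^ r) atTop (nhds 0)) :
    Tendsto (fun n : ℕ => ((r + 1).factorial : ℝ) * (h n : ℝ) / (n : ℝ) ^ (r + 1)) atTop (nhds e) := by
  obtain ⟨cf, N₀, hcf⟩ := (isPolyLike_iff (r + 2) h).1 hpoly
  have h1 := tendsto_of_eq_sum (r + 1) h cf N₀ hcf
  -- the difference function
  obtain ⟨g, hg⟩ : ∃ g : ℕ → ℤ, g = fun n => h n - h (n - 1) := ⟨_, rfl⟩
  have hgsum : ∀ n, N₀ + 1 ≤ n → g n = ∑ j ∈ Finset.range (r + 1), cf (j + 1) * B j n := by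
    intro n hn
    obtain ⟨m, rfl⟩ : ∃ m, n = m + 1 := ⟨n - 1, by omega⟩
    rw [hg]
    show h (m + 1) - h (m + 1 - 1) = _
    rw [Nat.add_sub_cancel]
    exact diff_eq r cf h N₀ hcf m (by omega)
  have h2 := tendsto_of_eq_sum r g (fun j => cf (j + 1)) (N₀ + 1) hgsum
  -- squeeze
  have hlow : Tendsto (fun n : ℕ => (r.factorial : ℝ) * (hb n : ℝ) / (n : ℝ) ^ r -
      (r.factorial : ℝ) * (E n : ℝ) / (n : ℝ) ^ r) atTop (nhds (e - 0)) := hlim.sub hE
  rw [sub_zero] at hlow
  have h3 : Tendsto (fun n : ℕ => (r.factorial : ℝ) * (g n : ℝ) / (n : ℝ) ^ r) atTop (nhds e) := by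
    refine tendsto_of_tendsto_of_tendsto_of_le_of_le' hlow hlim ?_ ?_
    · filter_upwards [eventually_ge_atTop (c + 1)] with n hn
      obtain ⟨t, rfl⟩ : ∃ t, n = t + 1 := ⟨n - 1, by omega⟩
      have := hB t (by omega)
      have hgt : g (t + 1) = h (t + 1) - h t := by
        rw [hg]
        show h (t + 1) - h (t + 1 - 1) = _
        rw [Nat.add_sub_cancel]
      rw [← sub_div, ← mul_sub]
      apply div_le_div_of_nonneg_right _ (by positivity)
      apply mul_le_mul_of_nonneg_left _ (by positivity)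
      rw [hgt]
      have : (hb (t + 1) : ℤ) - E (t + 1) ≤ h (t + 1) - h t := by linarith
      exact_mod_cast this
    · filter_upwards [eventually_ge_atTop (c + 1)] with n hn
      obtain ⟨t, rfl⟩ : ∃ t, n = t + 1 := ⟨n - 1, by omega⟩
      have := hA t (by omega)
      have hgt : g (t + 1) = h (t + 1) - h t := by
        rw [hg]
        show h (t + 1) - h (t + 1 - 1) = _
        rw [Nat.add_sub_cancel]
      apply div_le_div_of_nonneg_right _ (by positivity)
      apply mul_le_mul_of_nonneg_left _ (by positivity)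
      rw [hgt]
      have : h (t + 1) - h t ≤ hb (t + 1) := by linarith
      exact_mod_cast this
  have heq : (cf (r + 1) : ℝ) = e := tendsto_nhds_unique h2 h3
  rw [← heq]
  exact h1


lemma card_antidiag (r s : ℕ) :
    ((Finset.univ : Finset (Fin (r + 1))).finsuppAntidiag s).card = (s + r).choose r := by
  rw [Finset.card_finsuppAntidiag_nat_eq_choose]
  simp only [Finset.card_univ, Fintype.card_fin]
  have : r + 1 + s - 1 = s + r := by omega
  rw [this, Nat.choose_symm_add]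

lemma card_antidiag_zero (s : ℕ) (hs : 1 ≤ s) :
    ((Finset.univ : Finset (Fin 0)).finsuppAntidiag s).card = 0 := by
  rw [Finset.card_finsuppAntidiag_nat_eq_choose]
  simp only [Finset.card_univ, Fintype.card_fin]
  apply Nat.choose_eq_zero_of_lt
  omega

theorem tendsto_E (r c : ℕ) (C₀ : ℤ) :
    Tendsto (fun n : ℕ => (r.factorial : ℝ) *
      (((((Finset.univ : Finset (Fin r)).finsuppAntidiag (n - c)).card : ℤ) * C₀ : ℤ) : ℝ) /
        (n : ℝ) ^ r) atTop (nhds 0) := by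
  rcases Nat.eq_zero_or_pos r with hr | hr
  · subst hr
    refine tendsto_const_nhds.congr' ?_
    filter_upwards [eventually_ge_atTop (c + 1)] with n hn
    rw [card_antidiag_zero (n - c) (by omega)]
    simp
  · obtain ⟨r', rfl⟩ : ∃ r', r = r' + 1 := ⟨r - 1, by omega⟩
    have h0 := tendsto_B_div r' (r' + 1) (Nat.lt_succ_self r')
    have h1 : Tendsto (fun n : ℕ => ((r' + 1).factorial : ℝ) * |(C₀ : ℝ)| *
        ((B r' n : ℝ) / (n : ℝ) ^ (r' + 1))) atTop (nhds (((r' + 1).factorial : ℝ) * |(C₀ : ℝ)| * 0)) :=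
      h0.const_mul _
    rw [mul_zero] at h1
    have h2 : Tendsto (fun n : ℕ => -(((r' + 1).factorial : ℝ) * |(C₀ : ℝ)| *
        ((B r' n : ℝ) / (n : ℝ) ^ (r' + 1)))) atTop (nhds 0) := by
      simpa using h1.neg
    have hmono : ∀ n : ℕ, (B r' (n - c) : ℝ) ≤ (B r' n : ℝ) := by
      intro n
      rw [B_apply, B_apply]
      have : (n - c + r').choose r' ≤ (n + r').choose r' := Nat.choose_le_choose _ (by omega)
      exact_mod_cast this
    have hBnn : ∀ n : ℕ, (0 : ℝ) ≤ (B r' n : ℝ) := by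
      intro n
      rw [B_apply]
      positivity
    have key : ∀ n : ℕ, |((r' + 1).factorial : ℝ) *
        (((((Finset.univ : Finset (Fin (r' + 1))).finsuppAntidiag (n - c)).card : ℤ) * C₀ : ℤ) : ℝ) /
          (n : ℝ) ^ (r' + 1)| ≤ ((r' + 1).factorial : ℝ) * |(C₀ : ℝ)| *
        ((B r' n : ℝ) / (n : ℝ) ^ (r' + 1)) := by
      intro n
      rw [card_antidiag]
      have hB : (((n - c + r').choose r' : ℕ) : ℝ) = (B r' (n - c) : ℝ) := by
        rw [B_apply]
        push_cast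
        rfl
      have hform : ((r' + 1).factorial : ℝ) *
          ((((((n - c + r').choose r' : ℕ) : ℤ) * C₀ : ℤ)) : ℝ) / (n : ℝ) ^ (r' + 1) =
          ((r' + 1).factorial : ℝ) * ((B r' (n - c) : ℝ) * (C₀ : ℝ)) / (n : ℝ) ^ (r' + 1) := by
        rw [← hB]
        push_cast
        rfl
      rw [hform, abs_div, abs_mul, abs_mul,
        abs_of_nonneg (by positivity : (0:ℝ) ≤ ((r' + 1).factorial : ℝ)),
        abs_of_nonneg (hBnn (n - c)), abs_of_nonneg (by positivity : (0:ℝ) ≤ (n : ℝ) ^ (r' + 1))]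
      have hn0 : (0 : ℝ) ≤ (n : ℝ) ^ (r' + 1) := by positivity
      calc ((r' + 1).factorial : ℝ) * ((B r' (n - c) : ℝ) * |(C₀ : ℝ)|) / (n : ℝ) ^ (r' + 1)
          ≤ ((r' + 1).factorial : ℝ) * ((B r' n : ℝ) * |(C₀ : ℝ)|) / (n : ℝ) ^ (r' + 1) := by
            apply div_le_div_of_nonneg_right _ hn0
            apply mul_le_mul_of_nonneg_left _ (by positivity)
            exact mul_le_mul_of_nonneg_right (hmono n) (abs_nonneg _)
        _ = ((r' + 1).factorial : ℝ) * |(C₀ : ℝ)| * ((B r' n : ℝ) / (n : ℝ) ^ (r' + 1)) := by ring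
    refine tendsto_of_tendsto_of_tendsto_of_le_of_le h2 h1 (fun n => ?_) (fun n => ?_)
    · exact neg_le_of_abs_le (key n)
    · exact le_of_abs_le (key n)


end Groth.Agent.Helper13Sam
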