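import Mathlib
import Groth.Agent.Lib.Helper5SuppDim

/-!
# Additivity of the leading Samuel coefficient on short exact sequences (Artin–Rees squeeze)
-/

set_option autoImplicit false
universe u

namespace Groth.Agent.Lib.Helper5.SamuelAdd

open Filter

section analysis

theorem tendsto_ratio (c : ℕ) :
    Tendsto (fun t : ℕ => (((t - c : ℕ) : ℝ) / (t : ℝ))) atTop (nhds 1) := by
  have h1 : Tendsto (fun t : ℕ => (1 : ℝ) - (c : ℝ) / (t : ℝ)) atTop (nhds (1 - 0)) :=
    tendsto_const_nhds.sub (tendsto_const_div_atTop_nhds_zero_nat (c : ℝ))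
  rw [sub_zero] at h1
  refine h1.congr' ?_
  filter_upwards [eventually_ge_atTop (max c 1)] with t ht
  have htc : c ≤ t := le_trans (le_max_left _ _) ht
  have ht1 : (1 : ℕ) ≤ t := le_trans (le_max_right _ _) ht
  have : (t : ℝ) ≠ 0 := by positivity
  rw [Nat.cast_sub htc]
  field_simp

theorem squeeze (d c : ℕ) (a u : ℕ → ℕ) (e : ℝ) (h1 : ∀ t, c ≤ t → a (t - c) ≤ u t)
    (h2 : ∀ t, u t ≤ a t)
    (ha : Tendsto (fun t : ℕ => (d.factorial : ℝ) * (a t : ℝ) / (t : ℝ) ^ d) atTop (nhds e)) :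
    Tendsto (fun t : ℕ => (d.factorial : ℝ) * (u t : ℝ) / (t : ℝ) ^ d) atTop (nhds e) := by
  have hlow : Tendsto (fun t : ℕ => ((d.factorial : ℝ) * (a (t - c) : ℝ) / ((t - c : ℕ) : ℝ) ^ d) *
      ((((t - c : ℕ) : ℝ) / (t : ℝ))) ^ d) atTop (nhds (e * 1 ^ d)) :=
    (ha.comp (tendsto_sub_atTop_nat c)).mul ((tendsto_ratio c).pow d)
  rw [one_pow, mul_one] at hlow
  refine tendsto_of_tendsto_of_tendsto_of_le_of_le' hlow ha ?_ ?_
  · filter_upwards [eventually_gt_atTop c] with t ht
    have htc : c ≤ t := le_of_lt ht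
    have hpos : (0 : ℝ) < ((t - c : ℕ) : ℝ) := by
      have : 0 < t - c := Nat.sub_pos_of_lt ht
      exact_mod_cast this
    have htpos : (0 : ℝ) < (t : ℝ) := by
      have : 0 < t := lt_of_le_of_lt (Nat.zero_le _) ht
      exact_mod_cast this
    have hle : ((a (t - c) : ℕ) : ℝ) ≤ (u t : ℝ) := by exact_mod_cast h1 t htc
    have heq : ((d.factorial : ℝ) * (a (t - c) : ℝ) / ((t - c : ℕ) : ℝ) ^ d) *
        ((((t - c : ℕ) : ℝ) / (t : ℝ))) ^ d = (d.factorial : ℝ) * (a (t - c) : ℝ) / (t : ℝ) ^ d := by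
      rw [div_pow]
      field_simp
    rw [heq]
    apply div_le_div_of_nonneg_right _ (by positivity)
    exact mul_le_mul_of_nonneg_left hle (by positivity)
  · filter_upwards with t
    have hle : ((u t : ℕ) : ℝ) ≤ (a t : ℝ) := by exact_mod_cast h2 t
    apply div_le_div_of_nonneg_right _ (by positivity)
    exact mul_le_mul_of_nonneg_left hle (by positivity)

end analysis

section algebra

variable {A : Type u} [CommRing A] [IsNoetherianRing A] [IsLocalRing A]

theorem isFiniteLength_quotient (I : Ideal A) (n : ℕ) (hI : IsLocalRing.maximalIdeal A ^ n ≤ I)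
    (M : Type u) [AddCommGroup M] [Module A M] [Module.Finite A M] (N : Submodule A M) (t : ℕ)
    (hN : I ^ t • (⊤ : Submodule A M) ≤ N) : IsFiniteLength A (M ⧸ N) := by
  apply isFiniteLength_of_supportDim_le_zero
  apply supportDim_le_zero_of_forall_isMaximal
  intro p hp
  rw [Module.mem_support_iff_of_finite] at hp
  have h0 : I ^ t ≤ Module.annihilator A (M ⧸ N) := by
    intro a ha
    rw [Module.mem_annihilator]
    intro x
    obtain ⟨y, rfl⟩ := Submodule.Quotient.mk_surjective _ x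
    rw [← Submodule.Quotient.mk_smul, Submodule.Quotient.mk_eq_zero]
    exact hN (Submodule.smul_mem_smul ha trivial)
  have h1 : (IsLocalRing.maximalIdeal A ^ n) ^ t ≤ p.asIdeal :=
    (Ideal.pow_right_mono hI t).trans (h0.trans hp)
  have h2 : IsLocalRing.maximalIdeal A ≤ p.asIdeal :=
    p.2.le_of_pow_le (p.2.le_of_pow_le h1)
  have h3 : p.asIdeal = IsLocalRing.maximalIdeal A :=
    ((IsLocalRing.maximalIdeal.isMaximal A).eq_of_le p.2.ne_top h2).symm
  rw [h3]
  exact IsLocalRing.maximalIdeal.isMaximal A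

variable {M' M M'' : Type u} [AddCommGroup M'] [Module A M'] [AddCommGroup M] [Module A M]
    [AddCommGroup M''] [Module A M'']

omit [IsNoetherianRing A] [IsLocalRing A] in
theorem length_quotient_eq_add (I : Ideal A) (f : M' →ₗ[A] M) (g : M →ₗ[A] M'')
    (hg : Function.Surjective g) (hfg : LinearMap.range f = LinearMap.ker g) (t : ℕ) :
    Module.length A (M ⧸ (I ^ t • (⊤ : Submodule A M))) =
      Module.length A (M' ⧸ ((I ^ t • (⊤ : Submodule A M)).comap f)) +
        Module.length A (M'' ⧸ (I ^ t • (⊤ : Submodule A M''))) := by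
  have hle : (I ^ t • (⊤ : Submodule A M)) ≤ (I ^ t • (⊤ : Submodule A M'')).comap g :=
    Submodule.smul_top_le_comap_smul_top _ _
  refine Module.length_eq_add_of_exact
    (Submodule.mapQ ((I ^ t • (⊤ : Submodule A M)).comap f) (I ^ t • (⊤ : Submodule A M)) f le_rfl)
    (Submodule.mapQ (I ^ t • (⊤ : Submodule A M)) (I ^ t • (⊤ : Submodule A M'')) g hle) ?_ ?_ ?_
  · rw [injective_iff_map_eq_zero]
    intro x hx
    obtain ⟨y, rfl⟩ := Submodule.Quotient.mk_surjective _ x
    rw [Submodule.mapQ_apply, Submodule.Quotient.mk_eq_zero] at hx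
    rw [Submodule.Quotient.mk_eq_zero]
    exact hx
  · intro x
    obtain ⟨y, rfl⟩ := Submodule.Quotient.mk_surjective _ x
    obtain ⟨z, rfl⟩ := hg y
    exact ⟨Submodule.Quotient.mk z, rfl⟩
  · intro x
    constructor
    · intro hx
      obtain ⟨y, rfl⟩ := Submodule.Quotient.mk_surjective _ x
      rw [Submodule.mapQ_apply, Submodule.Quotient.mk_eq_zero] at hx
      have h1 : (I ^ t • (⊤ : Submodule A M'')) = (I ^ t • (⊤ : Submodule A M)).map g := by
        rw [Submodule.map_smul'', Submodule.map_top, LinearMap.range_eq_top.2 hg]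
      rw [h1] at hx
      obtain ⟨z, hz, hzy⟩ := hx
      have h2 : y - z ∈ LinearMap.ker g := by
        rw [LinearMap.mem_ker, map_sub, hzy, sub_self]
      rw [← hfg] at h2
      obtain ⟨w, hw⟩ := h2
      refine ⟨Submodule.Quotient.mk w, ?_⟩
      rw [Submodule.mapQ_apply, hw, Submodule.Quotient.mk_sub, sub_eq_self,
        Submodule.Quotient.mk_eq_zero]
      exact hz
    · rintro ⟨y, rfl⟩
      obtain ⟨w, rfl⟩ := Submodule.Quotient.mk_surjective _ y
      rw [Submodule.mapQ_apply, Submodule.mapQ_apply, Submodule.Quotient.mk_eq_zero]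
      have : f w ∈ LinearMap.ker g := by rw [← hfg]; exact ⟨w, rfl⟩
      rw [LinearMap.mem_ker] at this
      rw [this]
      exact Submodule.zero_mem _

omit [IsNoetherianRing A] [IsLocalRing A] in
theorem smul_top_le_comap (I : Ideal A) (f : M' →ₗ[A] M) (t : ℕ) :
    I ^ t • (⊤ : Submodule A M') ≤ (I ^ t • (⊤ : Submodule A M)).comap f :=
  Submodule.smul_top_le_comap_smul_top _ _

theorem exists_comap_le [Module.Finite A M] (I : Ideal A) (f : M' →ₗ[A] M)
    (hf : Function.Injective f) :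
    ∃ c : ℕ, ∀ t, c ≤ t → (I ^ t • (⊤ : Submodule A M)).comap f ≤
      I ^ (t - c) • (⊤ : Submodule A M') := by
  obtain ⟨k, hk⟩ := Ideal.exists_pow_inf_eq_pow_smul I (LinearMap.range f)
  refine ⟨k, fun t ht x hx => ?_⟩
  have h1 : f x ∈ I ^ t • (⊤ : Submodule A M) ⊓ LinearMap.range f := ⟨hx, ⟨x, rfl⟩⟩
  rw [hk t ht] at h1
  have h2 : I ^ (t - k) • (I ^ k • (⊤ : Submodule A M) ⊓ LinearMap.range f) ≤
      (I ^ (t - k) • (⊤ : Submodule A M')).map f := by
    rw [Submodule.map_smul'', Submodule.map_top]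
    exact Submodule.smul_mono le_rfl inf_le_right
  obtain ⟨y, hy, hyx⟩ := h2 h1
  rwa [← hf hyx]

end algebra

end Groth.Agent.Lib.Helper5.SamuelAdd
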