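import Groth.Agent.Lib.Helper13Sam
import Groth.Agent.Lib.Helper13SamAn
import Groth.Agent.Lib.Helper13KzBound
import Groth.Agent.S12211

/-!
# Samuel multiplicity equals the Koszul Euler characteristic (helper13)
-/

set_option autoImplicit false

namespace Groth.Agent.Helper13Kz
open Pointwise Filter
open Groth.Agent.Helper13Sam

universe u
variable {A : Type u} [CommRing A]

section Small
variable {N : Type u} [AddCommGroup N] [Module A N]

theorem sup_pow_smul_top_of_kill (a b : Ideal A) (ha : ∀ z ∈ a, ∀ n : N, z • n = 0) (t : ℕ) :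
    (a ⊔ b) ^ t • (⊤ : Submodule A N) = b ^ t • (⊤ : Submodule A N) := by
  induction t with
  | zero => simp
  | succ t ih =>
    rw [pow_succ', Submodule.mul_smul, ih, Submodule.sup_smul, pow_succ' b, Submodule.mul_smul]
    have : a • (b ^ t • (⊤ : Submodule A N)) = ⊥ := by
      rw [eq_bot_iff, Submodule.smul_le]
      intro z hz n _
      rw [Submodule.mem_bot]
      exact ha z hz n
    rw [this, bot_sup_eq]

theorem span_cons (x : A) (l : List A) :
    Ideal.span {a | a ∈ x :: l} = Ideal.span {x} ⊔ Ideal.span {a | a ∈ l} :=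
  Ideal.ofList_cons x l

theorem length_quot_sup_eq (x : A) (S : Submodule A N) :
    Module.length A (N ⧸ (x • (⊤ : Submodule A N) ⊔ S)) =
      Module.length A (QuotSMulTop x N ⧸ S.map (Submodule.mkQ (x • (⊤ : Submodule A N)))) :=
  (Submodule.quotientQuotientEquivQuotientSup _ _).length_eq.symm

/-- the Samuel function of `N/xN` in terms of `N` -/
theorem length_quotSMulTop_pow (x : A) (l : List A) (t : ℕ) :
    Module.length A (QuotSMulTop x N ⧸
        (Ideal.span {a | a ∈ l}) ^ t • (⊤ : Submodule A (QuotSMulTop x N))) =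
      Module.length A (N ⧸ (x • (⊤ : Submodule A N) ⊔
        (Ideal.span {x} ⊔ Ideal.span {a | a ∈ l}) ^ t • (⊤ : Submodule A N))) := by
  rw [length_quot_sup_eq, Submodule.map_smul'', Submodule.map_top, Submodule.range_mkQ]
  have hkill : ∀ z ∈ Ideal.span {x}, ∀ n : QuotSMulTop x N, z • n = 0 := by
    intro z hz n
    obtain ⟨w, rfl⟩ := Ideal.mem_span_singleton'.mp hz
    obtain ⟨m, rfl⟩ := Submodule.Quotient.mk_surjective _ n
    rw [← Submodule.Quotient.mk_smul, Submodule.Quotient.mk_eq_zero,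
      Submodule.mem_smul_pointwise_iff_exists]
    exact ⟨w • m, trivial, by rw [mul_comm, mul_smul]⟩
  have := sup_pow_smul_top_of_kill (N := QuotSMulTop x N) (Ideal.span {x})
    (Ideal.span {a | a ∈ l}) hkill t
  rw [show (⊤ : Submodule A (N ⧸ x • (⊤ : Submodule A N))) = (⊤ : Submodule A (QuotSMulTop x N))
    from rfl, this]

end Small


/-- the normalized Samuel sequence -/
noncomputable def seq (l : List A) (N : Type u) [AddCommGroup N] [Module A N] : ℕ → ℝ :=
  fun t => (l.length.factorial : ℝ) *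
    ((Module.length A (N ⧸ (Ideal.span {a | a ∈ l}) ^ t • (⊤ : Submodule A N))).toNat : ℝ) /
      (t : ℝ) ^ l.length

section Cases
variable {N : Type u} [AddCommGroup N] [Module A N]

/-- the ideal of definition attached to `(l, N)` -/
def idl (l : List A) (N : Type u) [AddCommGroup N] [Module A N] : Ideal A :=
  Ideal.span {a | a ∈ l} ⊔ Module.annihilator A N

theorem idl_pow_smul_top (l : List A) {N' : Type u} [AddCommGroup N'] [Module A N']
    (K : Ideal A) (hK : ∀ z ∈ K, ∀ n : N', z • n = 0) (t : ℕ) :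
    (Ideal.span {a | a ∈ l} ⊔ K) ^ t • (⊤ : Submodule A N') =
      (Ideal.span {a | a ∈ l}) ^ t • (⊤ : Submodule A N') := by
  rw [sup_comm]
  exact sup_pow_smul_top_of_kill K _ hK t

theorem idl_isMaximal [Module.Finite A N] {l : List A} (h : FLI (Ideal.span {a | a ∈ l}) N)
    (p : Ideal A) (hp : p.IsPrime) (hle : idl l N ≤ p) : p.IsMaximal := by
  refine h ⟨p, hp⟩ ?_ (le_trans le_sup_left hle)
  rw [Module.mem_support_iff_of_finite]
  exact le_trans le_sup_right hle

theorem seq_of_subsingleton [Subsingleton N] (l : List A) : seq l N = fun _ => 0 := by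
  funext t
  unfold seq
  have : Subsingleton (N ⧸ (Ideal.span {a | a ∈ l}) ^ t • (⊤ : Submodule A N)) :=
    Function.Surjective.subsingleton (Submodule.mkQ_surjective _)
  rw [Module.length_eq_zero_iff.mpr this]
  simp

theorem killCase {x : A} {l : List A} (hx : ∀ n : N, x • n = 0) {e : ℝ}
    (h : Tendsto (seq l N) atTop (nhds e)) : Tendsto (seq (x :: l) N) atTop (nhds 0) := by
  have hkill : ∀ z ∈ Ideal.span {x}, ∀ n : N, z • n = 0 := by
    intro z hz n
    obtain ⟨w, rfl⟩ := Ideal.mem_span_singleton'.mp hz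
    rw [mul_smul, hx, smul_zero]
  have heq : ∀ t : ℕ, seq (x :: l) N t = ((l.length + 1 : ℕ) : ℝ) * (seq l N t * (1 / (t : ℝ))) := by
    intro t
    unfold seq
    rw [span_cons, sup_pow_smul_top_of_kill _ _ hkill, List.length_cons, Nat.factorial_succ,
      pow_succ]
    push_cast
    by_cases ht : (t : ℝ) = 0
    · simp [ht]
    · field_simp
  have h2 : Tendsto (fun t : ℕ => ((l.length + 1 : ℕ) : ℝ) * (seq l N t * (1 / (t : ℝ)))) atTop
      (nhds (((l.length + 1 : ℕ) : ℝ) * (e * 0))) :=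
    (h.mul (tendsto_const_div_atTop_nhds_zero_nat 1)).const_mul _
  rw [mul_zero, mul_zero] at h2
  exact h2.congr (fun t => (heq t).symm)

end Cases


section Exact
variable [IsNoetherianRing A] [IsLocalRing A]
variable {N₁ N₂ N₃ : Type u} [AddCommGroup N₁] [Module A N₁] [AddCommGroup N₂] [Module A N₂]
  [AddCommGroup N₃] [Module A N₃] [Module.Finite A N₁] [Module.Finite A N₂] [Module.Finite A N₃]

theorem idl_isDefinition [Nontrivial N₂] {l : List A}
    (hl : ∀ a ∈ l, a ∈ IsLocalRing.maximalIdeal A) (h : FLI (Ideal.span {a | a ∈ l}) N₂) :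
    idl l N₂ ≤ IsLocalRing.maximalIdeal A ∧ ∃ n : ℕ, IsLocalRing.maximalIdeal A ^ n ≤ idl l N₂ := by
  have hne : idl l N₂ ≠ ⊤ := by
    intro htop
    have h1 : (1 : A) ∈ idl l N₂ := by rw [htop]; trivial
    obtain ⟨a, ha, b, hb, hab⟩ := Submodule.mem_sup.mp h1
    have ham : a ∈ IsLocalRing.maximalIdeal A := by
      have : Ideal.span {a | a ∈ l} ≤ IsLocalRing.maximalIdeal A := by
        rw [Ideal.span_le]
        exact fun z hz => hl z hz
      exact this ha
    have hbu : IsUnit b := by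
      have : b = 1 - a := by rw [← hab]; ring
      rw [this]
      exact IsLocalRing.isUnit_one_sub_self_of_mem_nonunits a ham
    obtain ⟨n, hn⟩ := exists_ne (0 : N₂)
    apply hn
    have := Module.mem_annihilator.mp hb n
    exact (hbu.smul_eq_zero).mp this
  refine ⟨IsLocalRing.le_maximalIdeal hne, ?_⟩
  apply Ideal.exists_pow_le_of_le_radical_of_fg _ (IsNoetherian.noetherian _)
  rw [Ideal.radical_eq_sInf]
  apply le_sInf
  rintro p ⟨hp1, hp2⟩
  have := idl_isMaximal h p hp2 hp1
  rw [IsLocalRing.eq_maximalIdeal this]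

theorem exactCase {l : List A} (hl : ∀ a ∈ l, a ∈ IsLocalRing.maximalIdeal A)
    (f : N₁ →ₗ[A] N₂) (g : N₂ →ₗ[A] N₃)
    (hf : Function.Injective f) (hg : Function.Surjective g) (hfg : Function.Exact f g)
    (hfl : FLI (Ideal.span {a | a ∈ l}) N₂) {e' e'' : ℝ}
    (h1 : Tendsto (seq l N₁) atTop (nhds e')) (h3 : Tendsto (seq l N₃) atTop (nhds e'')) :
    Tendsto (seq l N₂) atTop (nhds (e' + e'')) := by
  rcases subsingleton_or_nontrivial N₂ with hs | hnt
  · have : Subsingleton N₁ := hf.subsingleton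
    have : Subsingleton N₃ := hg.subsingleton
    rw [seq_of_subsingleton] at h1 h3 ⊢
    have e1 : e' = 0 := tendsto_nhds_unique h1 tendsto_const_nhds
    have e3 : e'' = 0 := tendsto_nhds_unique h3 tendsto_const_nhds
    rw [e1, e3, add_zero]
    exact tendsto_const_nhds
  · have hdef := idl_isDefinition hl hfl
    have hk1 : ∀ z ∈ Module.annihilator A N₂, ∀ n : N₁, z • n = 0 := by
      intro z hz n
      apply hf
      rw [map_smul, map_zero]
      exact Module.mem_annihilator.mp hz _
    have hk2 : ∀ z ∈ Module.annihilator A N₂, ∀ n : N₂, z • n = 0 :=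
      fun z hz n => Module.mem_annihilator.mp hz n
    have hk3 : ∀ z ∈ Module.annihilator A N₂, ∀ n : N₃, z • n = 0 := by
      intro z hz n
      obtain ⟨m, rfl⟩ := hg n
      rw [← map_smul, Module.mem_annihilator.mp hz, map_zero]
    have c1 : (fun t : ℕ => (l.length.factorial : ℝ) *
        ((Module.length A (N₁ ⧸ (idl l N₂) ^ t • (⊤ : Submodule A N₁))).toNat : ℝ) /
          (t : ℝ) ^ l.length) = seq l N₁ := by
      funext t
      unfold seq idl
      rw [idl_pow_smul_top l _ hk1]
    have c2 : (fun t : ℕ => (l.length.factorial : ℝ) *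
        ((Module.length A (N₂ ⧸ (idl l N₂) ^ t • (⊤ : Submodule A N₂))).toNat : ℝ) /
          (t : ℝ) ^ l.length) = seq l N₂ := by
      funext t
      unfold seq idl
      rw [idl_pow_smul_top l _ hk2]
    have c3 : (fun t : ℕ => (l.length.factorial : ℝ) *
        ((Module.length A (N₃ ⧸ (idl l N₂) ^ t • (⊤ : Submodule A N₃))).toNat : ℝ) /
          (t : ℝ) ^ l.length) = seq l N₃ := by
      funext t
      unfold seq idl
      rw [idl_pow_smul_top l _ hk3]
    have key := Groth.Agent.S12211.result A (idl l N₂) hdef f g hf hg (LinearMap.exact_iff.mp hfg).symm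
      l.length (supportDim_le_length_of_FLI N₂ l hl hfl) e' e''
      (by rw [c1]; exact h1) (by rw [c3]; exact h3)
    rw [c2] at key
    exact key

end Exact

section Main
open Groth.Agent.Lib.Helper5.PolyLike Groth.Agent.Lib.Helper5.HilbertSamuelI

theorem isFiniteLength_quot_of_FLI [IsNoetherianRing A] {N : Type u} [AddCommGroup N] [Module A N]
    [Module.Finite A N] {I : Ideal A} (hfl : FLI I N) :
    IsFiniteLength A (N ⧸ I • (⊤ : Submodule A N)) := by
  apply Groth.Agent.Lib.Helper5.isFiniteLength_of_supportDim_le_zero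
  apply Groth.Agent.Lib.Helper5.supportDim_le_zero_of_forall_isMaximal
  intro p hp
  rw [Module.support_quotient] at hp
  exact hfl p hp.1 hp.2

theorem toNat_cast_le {a b : ℕ∞} (hb : b ≠ ⊤) (h : a ≤ b) : (a.toNat : ℤ) ≤ (b.toNat : ℤ) := by
  exact_mod_cast ENat.toNat_le_toNat h hb

theorem regCase [IsNoetherianRing A] {N : Type u} [AddCommGroup N] [Module A N] [Module.Finite A N]
    {x : A} {l : List A} (hx : IsSMulRegular N x)
    (hfl : FLI (Ideal.span {a | a ∈ x :: l}) N) {e : ℝ}
    (h : Tendsto (seq l (QuotSMulTop x N)) atTop (nhds e)) :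
    Tendsto (seq (x :: l) N) atTop (nhds e) := by
  classical
  obtain ⟨I, hI⟩ : ∃ I, I = Ideal.span {x} ⊔ Ideal.span {a | a ∈ l} := ⟨_, rfl⟩
  have hspan : Ideal.span {a | a ∈ x :: l} = I := by rw [hI]; exact span_cons x l
  have hrange : Ideal.span (Set.range l.get) = Ideal.span {a | a ∈ l} := by
    rw [Set.range_list_get]
  have hmax : ∀ p : Ideal A, p.IsPrime → idl (x :: l) N ≤ p → p.IsMaximal := idl_isMaximal hfl
  have hk : ∀ z ∈ Module.annihilator A N, ∀ n : N, z • n = 0 :=
    fun z hz n => Module.mem_annihilator.mp hz n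
  have hpow : ∀ t, (idl (x :: l) N) ^ t • (⊤ : Submodule A N) = I ^ t • (⊤ : Submodule A N) := by
    intro t
    unfold idl
    rw [idl_pow_smul_top (x :: l) _ hk, hspan]
  have hfin : ∀ t, Module.length A (N ⧸ I ^ t • (⊤ : Submodule A N)) ≠ ⊤ := by
    intro t
    rw [← hpow]
    exact length_ne_top A _ hmax N t
  have hfin2 : ∀ t, Module.length A (N ⧸ (x • (⊤ : Submodule A N) ⊔ I ^ t • (⊤ : Submodule A N))) ≠ ⊤ := by
    intro t
    have hle : I ^ t • (⊤ : Submodule A N) ≤ x • (⊤ : Submodule A N) ⊔ I ^ t • (⊤ : Submodule A N) :=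
      le_sup_right
    exact ne_top_of_le_ne_top (hfin t)
      (Module.length_le_of_surjective (Submodule.factor hle) (Submodule.factor_surjective hle))
  -- the functions
  obtain ⟨hh, hhdef⟩ : ∃ hh : ℕ → ℤ, hh = Groth.Agent.Lib.Helper5.HilbertSamuelI.chi A (idl (x :: l) N) N := ⟨_, rfl⟩
  have hh_apply : ∀ t, hh t = ((Module.length A (N ⧸ I ^ t • (⊤ : Submodule A N))).toNat : ℤ) := by
    intro t
    rw [hhdef, chi_apply, hpow]
  obtain ⟨hb, hbdef⟩ : ∃ hb : ℕ → ℤ, hb = fun t =>
    ((Module.length A (N ⧸ (x • (⊤ : Submodule A N) ⊔ I ^ t • (⊤ : Submodule A N)))).toNat : ℤ) :=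
    ⟨_, rfl⟩
  obtain ⟨c, hc1, hc⟩ := exists_add_quot_le (N := N) l.get x hx
  rw [hrange, ← hI] at hc
  obtain ⟨E, hEdef⟩ : ∃ E : ℕ → ℤ, E = fun t =>
    ((((Finset.univ : Finset (Fin l.length)).finsuppAntidiag (t - c)).card : ℤ) *
      ((Module.length A (N ⧸ I ^ (c - 1) • (⊤ : Submodule A N))).toNat : ℤ) : ℤ) := ⟨_, rfl⟩
  -- polylike
  have hflq : IsFiniteLength A (N ⧸ Ideal.ofList (x :: l) • (⊤ : Submodule A N)) :=
    isFiniteLength_quot_of_FLI hfl
  have hmem : ∀ z ∈ x :: l, z ∈ idl (x :: l) N := fun z hz =>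
    le_sup_left (α := Ideal A) (Ideal.subset_span hz)
  have hpoly : IsPolyLike (l.length + 2) hh := by
    rw [hhdef]
    exact isPolyLike_of_isFiniteLength_quot A (idl (x :: l) N) hmax (x :: l) hmem N hflq
  -- inequality A
  have hA : ∀ t, c ≤ t + 1 → hh (t + 1) ≤ hh t + hb (t + 1) := by
    intro t _
    rw [hh_apply, hh_apply, hbdef]
    show _ ≤ _ + ((Module.length A (N ⧸ (x • (⊤ : Submodule A N) ⊔ I ^ (t + 1) • (⊤ : Submodule A N)))).toNat : ℤ)
    have hxI : x ∈ I := by
      rw [hI]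
      exact Ideal.mem_sup_left (Ideal.mem_span_singleton_self x)
    have h1 := length_le_add_quot (N := N) x I hxI t
    have h2 := ENat.toNat_le_toNat h1 (WithTop.add_ne_top.mpr ⟨hfin t, hfin2 (t + 1)⟩)
    rw [ENat.toNat_add (hfin t) (hfin2 (t + 1))] at h2
    exact_mod_cast h2
  have hB : ∀ t, c ≤ t + 1 → hh t + hb (t + 1) ≤ hh (t + 1) + E (t + 1) := by
    intro t ht
    rw [hh_apply, hh_apply, hbdef, hEdef]
    show _ + ((Module.length A (N ⧸ (x • (⊤ : Submodule A N) ⊔ I ^ (t + 1) • (⊤ : Submodule A N)))).toNat : ℤ) ≤ _ +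
      ((((Finset.univ : Finset (Fin l.length)).finsuppAntidiag (t + 1 - c)).card : ℤ) *
      ((Module.length A (N ⧸ I ^ (c - 1) • (⊤ : Submodule A N))).toNat : ℤ) : ℤ)
    have h1 := hc t ht
    have hmul : (((Finset.univ : Finset (Fin l.length)).finsuppAntidiag (t + 1 - c)).card : ℕ∞) *
          Module.length A (N ⧸ I ^ (c - 1) • (⊤ : Submodule A N)) ≠ ⊤ :=
      WithTop.mul_ne_top (ENat.natCast_ne_top _) (hfin (c - 1))
    have hne : Module.length A (N ⧸ I ^ (t + 1) • (⊤ : Submodule A N)) +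
        (((Finset.univ : Finset (Fin l.length)).finsuppAntidiag (t + 1 - c)).card : ℕ∞) *
          Module.length A (N ⧸ I ^ (c - 1) • (⊤ : Submodule A N)) ≠ ⊤ :=
      WithTop.add_ne_top.mpr ⟨hfin (t + 1), hmul⟩
    have h2 := ENat.toNat_le_toNat h1 hne
    rw [ENat.toNat_add (hfin t) (hfin2 (t + 1)),
      ENat.toNat_add (hfin (t + 1)) hmul,
      ENat.toNat_mul, ENat.toNat_natCast] at h2
    exact_mod_cast h2
  -- limits
  have hlim : Tendsto (fun n : ℕ => (l.length.factorial : ℝ) * (hb n : ℝ) / (n : ℝ) ^ l.length) atTop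
      (nhds e) := by
    refine h.congr (fun t => ?_)
    unfold seq
    rw [hbdef, length_quotSMulTop_pow, ← hI]
    simp
  have hE : Tendsto (fun n : ℕ => (l.length.factorial : ℝ) * (E n : ℝ) / (n : ℝ) ^ l.length) atTop
      (nhds 0) := by
    rw [hEdef]
    exact tendsto_E l.length c _
  have key := tendsto_of_diff l.length hh hb E e hpoly c hA hB hlim hE
  refine key.congr (fun t => ?_)
  unfold seq
  rw [hh_apply, hspan, List.length_cons]
  simp

theorem seq_nil_eventually (M : Type u) [AddCommGroup M] [Module A M] (t : ℕ) (ht : 1 ≤ t) :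
    seq ([] : List A) M t = ((Module.length A M).toNat : ℝ) := by
  unfold seq
  have hbot : Ideal.span {a : A | a ∈ ([] : List A)} = ⊥ := by
    rw [Ideal.span_eq_bot]
    intro a ha
    simp at ha
  have h2 : (⊥ : Ideal A) ^ t = ⊥ := by
    obtain ⟨s, rfl⟩ : ∃ s, t = s + 1 := ⟨t - 1, by omega⟩
    rw [pow_succ, Ideal.mul_bot]
  rw [hbot, h2, Submodule.bot_smul,
    (Submodule.quotEquivOfEqBot (⊥ : Submodule A M) rfl).length_eq]
  simp

theorem tendsto_seq_chi [IsNoetherianRing A] [IsLocalRing A] :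
    ∀ (l : List A), (∀ a ∈ l, a ∈ IsLocalRing.maximalIdeal A) →
      ∀ (M : Type u) [AddCommGroup M] [Module A M] [Module.Finite A M],
      FLI (Ideal.span {a | a ∈ l}) M → Tendsto (seq l M) atTop (nhds (chi l M : ℝ))
  | [], _, M, _, _, _, _ => by
    rw [chi_nil]
    refine tendsto_const_nhds.congr' ?_
    filter_upwards [eventually_ge_atTop 1] with t ht
    rw [seq_nil_eventually M t ht]
    simp
  | x :: l, hl, M, _, _, _, hfl => by
    have hl' : ∀ a ∈ l, a ∈ IsLocalRing.maximalIdeal A := fun a ha => hl a (List.mem_cons_of_mem _ ha)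
    have IH := tendsto_seq_chi l hl'
    revert hfl
    refine IsNoetherianRing.induction_on_isQuotientEquivQuotientPrime A (M := M) inferInstance
      (motive := fun N _ _ _ => FLI (Ideal.span {a | a ∈ x :: l}) N →
        Tendsto (seq (x :: l) N) atTop (nhds (chi (x :: l) N : ℝ))) ?_ ?_ ?_
    · intro N _ _ _ _ _
      rw [chi_of_subsingleton, seq_of_subsingleton]
      simp
    · intro N _ _ _ p e hfl
      by_cases hz : x ∈ p.asIdeal
      · have h0 := smul_eq_zero_of_equiv_quot e hz
        have hfl' := hfl.of_smul_eq_zero h0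
        rw [chi_cons_of_smul_eq_zero l x h0 hfl']
        have := killCase h0 (IH N hfl')
        simpa using this
      · have hr := isSMulRegular_of_equiv_quot e hz
        rw [chi_cons_of_regular l x hr]
        exact regCase hr hfl (IH (QuotSMulTop x N) hfl.quotSMulTop)
    · intro N₁ _ _ _ N₂ _ _ _ N₃ _ _ _ f g hf hg hfg h1 h3 hfl
      rw [chi_add (x :: l) f g hf hg hfg hfl]
      have := exactCase hl f g hf hg hfg hfl (h1 (hfl.of_injective f hf)) (h3 (hfl.of_surjective g hg))
      simpa using this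

end Main

end Groth.Agent.Helper13Kz
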