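import Groth.Agent.Lib.Helper13LciSrc
import Groth.Agent.Lib.Helper13EtDescB
import Groth.Agent.Lib.Helper12LocPGen
import Groth.Agent.S8658
import Groth.Prelude.Def_AlgSpMor6
import Groth.Prelude.Def_AlgSpCov

/-!
# lci morphisms of algebraic spaces: flat base change (helper13)
-/

set_option autoImplicit false
set_option linter.style.haveILetI false
universe u

open AlgebraicGeometry CategoryTheory CategoryTheory.Limits MorphismProperty

namespace Groth.Agent.Helper13LciAsp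

open Groth.Agent.Lib.Helper5.LciLocal Groth.Agent.Helper13SmKR Groth.Agent.Helper13EtDesc
  Groth.Agent.Helper13LciSrc

variable {S : Scheme.{u}}

/-- `LocP P` is stable under flat base change when `P` is. -/
lemma locP_baseChange_flat (P : MorphismProperty Scheme.{u}) [P.IsStableUnderComposition]
    (hEt : ∀ {A B : Scheme.{u}} (g : A ⟶ B), Etale g → P g)
    (hsrc : ∀ {A B C : Scheme.{u}} (e : A ⟶ B) (k : B ⟶ C) [Etale e] [Surjective e],
      P (e ≫ k) → P k)
    (hcancel : ∀ {A B C : Scheme.{u}} (u : A ⟶ B) (k : B ⟶ C), Etale k → P (u ≫ k) → P u)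
    (hbc : ∀ {X Y X' Y' : Scheme.{u}} (f : X ⟶ Y) (g : Y' ⟶ Y) (f' : X' ⟶ Y') (g' : X' ⟶ X),
      Flat g → IsPullback g' f' f g → P f → P f')
    [P.DescendsAlong (@Surjective ⊓ @Flat ⊓ @LocallyOfFinitePresentation)]
    {X Y X' Y' : AlgSp.Sp S} (hX : AlgSp.IsAlgSpace X) (hY : AlgSp.IsAlgSpace Y)
    (hY' : AlgSp.IsAlgSpace Y') {f : X ⟶ Y} {g : Y' ⟶ Y} {fst : X' ⟶ X} {f' : X' ⟶ Y'}
    (sq : IsPullback fst f' f g) (hg : AlgSp.LocP @Flat g) (hf : AlgSp.LocP P f) :
    AlgSp.LocP P f' := by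
  obtain ⟨V, q, hqe, hqs⟩ := hY.atlas
  obtain ⟨V0, b0, hb0e, hb0s⟩ := hY'.atlas
  obtain ⟨V'', π, κ', sqV⟩ := hqe.1 (b0 ≫ g)
  obtain ⟨κ, rfl⟩ := (AlgSp.yon S).map_surjective κ'
  haveI : Etale π.left := hqe.2 _ _ π sqV
  haveI : Surjective π.left := hqs.2 _ _ π sqV
  have hpe : AlgSp.RepWith @Etale ((AlgSp.yon S).map π ≫ b0) :=
    (AlgSp.RepWith @Etale).comp_mem _ _ ((AlgSp.repWith_yon_map_iff _ _).2 inferInstance) hb0e
  have hps : AlgSp.RepWith @Surjective ((AlgSp.yon S).map π ≫ b0) :=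
    (AlgSp.RepWith @Surjective).comp_mem _ _ ((AlgSp.repWith_yon_map_iff _ _).2 inferInstance) hb0s
  refine Groth.Agent.Lib.Helper12.LocPGen.locP_of_target_cover' P hcancel f' V''
    ((AlgSp.yon S).map π ≫ b0) hpe hps
    (pullback.fst f' ((AlgSp.yon S).map π ≫ b0)) (pullback.snd f' ((AlgSp.yon S).map π ≫ b0))
    (IsPullback.of_hasPullback _ _) ?_
  -- the chart of `X ×_Y V`
  have hXV : AlgSp.IsAlgSpace (pullback f q) :=
    Groth.Agent.S9874.isAlgSpace_of_isPullback hY.diag hX (AlgSp.IsAlgSpace.yon_obj V)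
      (IsPullback.of_hasPullback f q)
  obtain ⟨U, u, hue, hus⟩ := hXV.atlas
  obtain ⟨h, hh⟩ := (AlgSp.yon S).map_surjective (u ≫ pullback.snd f q)
  have hpr1 : AlgSp.RepWith @Etale (pullback.fst f q) :=
    MorphismProperty.of_isPullback (P := AlgSp.RepWith @Etale)
      (IsPullback.of_hasPullback f q).flip hqe
  have hPh : P h.left := hf (u ≫ pullback.fst f q) q h
    ((AlgSp.RepWith @Etale).comp_mem _ _ hue hpr1) hqe
    (by rw [Category.assoc, pullback.condition, ← Category.assoc, ← hh])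
  -- the map `Q ⟶ X ×_Y V`
  have hw : (pullback.fst f' ((AlgSp.yon S).map π ≫ b0) ≫ fst) ≫ f =
      (pullback.snd f' ((AlgSp.yon S).map π ≫ b0) ≫ (AlgSp.yon S).map κ) ≫ q := by
    rw [Category.assoc, sq.w, ← Category.assoc, pullback.condition, Category.assoc, Category.assoc,
      Category.assoc, sqV.w]
  obtain ⟨ρ, hρ⟩ : ∃ ρ : pullback f' ((AlgSp.yon S).map π ≫ b0) ⟶ pullback f q,
      ρ = pullback.lift (pullback.fst f' ((AlgSp.yon S).map π ≫ b0) ≫ fst)
        (pullback.snd f' ((AlgSp.yon S).map π ≫ b0) ≫ (AlgSp.yon S).map κ) hw := ⟨_, rfl⟩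
  have hρ1 : ρ ≫ pullback.fst f q = pullback.fst f' ((AlgSp.yon S).map π ≫ b0) ≫ fst := by
    rw [hρ, pullback.lift_fst]
  have hρ2 : ρ ≫ pullback.snd f q =
      pullback.snd f' ((AlgSp.yon S).map π ≫ b0) ≫ (AlgSp.yon S).map κ := by
    rw [hρ, pullback.lift_snd]
  have big : IsPullback (pullback.fst f' ((AlgSp.yon S).map π ≫ b0) ≫ fst)
      (pullback.snd f' ((AlgSp.yon S).map π ≫ b0)) f (((AlgSp.yon S).map π ≫ b0) ≫ g) :=
    (IsPullback.of_hasPullback f' ((AlgSp.yon S).map π ≫ b0)).paste_horiz sq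
  have sqρ : IsPullback ρ (pullback.snd f' ((AlgSp.yon S).map π ≫ b0)) (pullback.snd f q)
      ((AlgSp.yon S).map κ) := by
    refine IsPullback.of_right ?_ hρ2 (IsPullback.of_hasPullback f q)
    rw [hρ1, sqV.w, ← Category.assoc]
    exact big
  -- the chart of `Q`
  have sqκ : IsPullback ((AlgSp.yon S).map (pullback.fst h κ))
      ((AlgSp.yon S).map (pullback.snd h κ)) ((AlgSp.yon S).map h) ((AlgSp.yon S).map κ) :=
    (IsPullback.of_hasPullback h κ).map (AlgSp.yon S)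
  have hw' : ((AlgSp.yon S).map (pullback.fst h κ) ≫ u) ≫ pullback.snd f q =
      (AlgSp.yon S).map (pullback.snd h κ) ≫ (AlgSp.yon S).map κ := by
    rw [Category.assoc, ← hh, sqκ.w]
  obtain ⟨φ, hφ⟩ : ∃ φ : (AlgSp.yon S).obj (pullback h κ) ⟶
      pullback f' ((AlgSp.yon S).map π ≫ b0),
      φ = sqρ.lift ((AlgSp.yon S).map (pullback.fst h κ) ≫ u)
        ((AlgSp.yon S).map (pullback.snd h κ)) hw' := ⟨_, rfl⟩
  have hφ1 : φ ≫ ρ = (AlgSp.yon S).map (pullback.fst h κ) ≫ u := by rw [hφ, sqρ.lift_fst]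
  have hφ2 : φ ≫ pullback.snd f' ((AlgSp.yon S).map π ≫ b0) =
      (AlgSp.yon S).map (pullback.snd h κ) := by rw [hφ, sqρ.lift_snd]
  have left : IsPullback φ ((AlgSp.yon S).map (pullback.fst h κ)) ρ u := by
    refine IsPullback.of_right ?_ hφ1 sqρ.flip
    rw [hφ2, ← hh]
    exact sqκ.flip
  have hφe : AlgSp.RepWith @Etale φ :=
    MorphismProperty.of_isPullback (P := AlgSp.RepWith @Etale) left.flip hue
  have hφs : AlgSp.RepWith @Surjective φ :=
    MorphismProperty.of_isPullback (P := AlgSp.RepWith @Surjective) left.flip hus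
  refine Groth.Agent.S9950.locP_of_source_cover P hsrc _ φ hφe hφs ?_
  rw [hφ2]
  refine Groth.Agent.Lib.Helper12.LocPGen.locP_yon_map_of P hEt hcancel _ ?_
  have hκfl : Flat κ.left := hg ((AlgSp.yon S).map π ≫ b0) q κ hpe hqe
    (by rw [Category.assoc]; exact sqV.w.symm)
  exact hbc h.left κ.left (pullback.snd h κ).left (pullback.fst h κ).left hκfl
    ((IsPullback.of_hasPullback h κ).map (Over.forget S)) hPh

/-! ### the scheme-level inputs for `P = LciMor` -/

theorem lciMor_of_etale {A B : Scheme.{u}} (g : A ⟶ B) (hg : Etale g) : LciMor g := by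
  haveI := hg
  exact lciMor_of_smooth g

theorem lciMor_cancel_etale {A B C : Scheme.{u}} (u : A ⟶ B) (k : B ⟶ C) (hk : Etale k)
    (h : LciMor (u ≫ k)) : LciMor u := by
  haveI := hk
  exact lciMor_of_comp_of_smooth u k h

theorem lciMor_flat_baseChange {X Y X' Y' : Scheme.{u}} (f : X ⟶ Y) (g : Y' ⟶ Y) (f' : X' ⟶ Y')
    (g' : X' ⟶ X) (hg : Flat g) (hsq : IsPullback g' f' f g) (hf : LciMor f) : LciMor f' := by
  haveI := hg
  exact lciMor_of_isKoszulAt _
    (Groth.Agent.S8658.result f g f' g' hsq (fun x => isKoszulAt_of_lciMor f hf x))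

instance descendsAlong_fppf :
    LciMor.{u}.DescendsAlong (@Surjective ⊓ @Flat ⊓ @LocallyOfFinitePresentation) where
  of_isPullback {A X Y Z fst snd f g} hsq hQ hfst := by
    haveI : Surjective f := hQ.1.1
    haveI : Flat f := hQ.1.2
    haveI : LocallyOfFinitePresentation f := hQ.2
    exact lciMor_of_flat_surjective_open g f f.isOpenMap fst snd hsq.flip hfst

theorem isLCIMor_iff {F G : AlgSp.Sp S} (f : F ⟶ G) :
    AlgSp.IsLCIMor f ↔ AlgSp.LocP LciMor f := by
  constructor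
  · intro h U V a b hh ha hb hc
    exact lciMor_of_isKoszulAt _ (h a b hh ha hb hc)
  · intro h U V a b hh ha hb hc
    exact fun x => isKoszulAt_of_lciMor _ (h a b hh ha hb hc) x

/-- **flat base change of lci morphisms of algebraic spaces** -/
theorem locP_lciMor_baseChange_flat {X Y X' Y' : AlgSp.Sp S} (hX : AlgSp.IsAlgSpace X)
    (hY : AlgSp.IsAlgSpace Y) (hY' : AlgSp.IsAlgSpace Y') {f : X ⟶ Y} {g : Y' ⟶ Y}
    {fst : X' ⟶ X} {f' : X' ⟶ Y'} (sq : IsPullback fst f' f g) (hg : AlgSp.LocP @Flat g)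
    (hf : AlgSp.LocP LciMor f) : AlgSp.LocP LciMor f' :=
  locP_baseChange_flat LciMor lciMor_of_etale
    (fun e k _ _ h => lciMor_of_etale_cover_source e k h) lciMor_cancel_etale
    lciMor_flat_baseChange hX hY hY' sq hg hf

end Groth.Agent.Helper13LciAsp
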