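import Groth.Agent.Lib.Helper13LciAspA
import Groth.Agent.Lib.Helper12FpqcCover

/-!
# lci morphisms of algebraic spaces are fpqc local on the base: descent direction (helper13)
-/

set_option autoImplicit false
set_option linter.style.haveILetI false
universe u

open AlgebraicGeometry CategoryTheory CategoryTheory.Limits MorphismProperty

namespace Groth.Agent.Helper13LciAsp

open Groth.Agent.Lib.Helper5.LciLocal Groth.Agent.Helper13SmKR Groth.Agent.Helper13EtDesc
  Groth.Agent.Helper13LciSrc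

/-- scheme-level descent along a family of flat morphisms to an affine scheme which is refined,
after open surjective localisations, by a standard covering -/
theorem of_refined_standard_fpqc {P : MorphismProperty Scheme.{u}} [IsZariskiLocalAtTarget P]
    (hP : P.DescendsAlong (@Surjective ⊓ @Flat ⊓ @QuasiCompact : MorphismProperty Scheme.{u}))
    {Z : Scheme.{u}} [IsAffine Z] {ι : Type u} (T : ι → Scheme.{u}) (t : ∀ i, T i ⟶ Z)
    (htfl : ∀ i, Flat (t i)) {m : ℕ} (W : Fin m → Scheme.{u}) (c : ∀ j, W j ⟶ Z)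
    (hWa : ∀ j, IsAffine (W j)) (hcs : ∀ z : Z, ∃ j, z ∈ Set.range (c j))
    (i0 : Fin m → ι) (M : Fin m → Scheme.{u}) (e : ∀ j, M j ⟶ W j) (heo : ∀ j, IsOpenMap (e j))
    (hes : ∀ j, Surjective (e j)) (τ : ∀ j, M j ⟶ T (i0 j))
    (hτ : ∀ j, τ j ≫ t (i0 j) = e j ≫ c j)
    {U : Scheme.{u}} (hh : U ⟶ Z) (H : ∀ i, P (pullback.snd hh (t i))) : P hh := by
  have hcov : ∀ z : Z, ∃ i y, t i y = z := by
    intro z
    obtain ⟨j, w, hw⟩ := hcs z
    obtain ⟨x, hx⟩ := (hes j).surj w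
    refine ⟨i0 j, τ j x, ?_⟩
    rw [← Scheme.Hom.comp_apply, hτ, Scheme.Hom.comp_apply, hx, hw]
  let 𝒯 : Scheme.Cover.{u} (Scheme.precoverage @Flat) Z :=
    Scheme.Cover.mkOfCovers ι T t hcov htfl
  let 𝒲 : Scheme.Cover.{0} (Scheme.precoverage ⊤) Z :=
    Scheme.Cover.mkOfCovers (Fin m) W c
      (fun z => by obtain ⟨j, w, hw⟩ := hcs z; exact ⟨j, w, hw⟩) (fun _ => trivial)
  haveI : ∀ j, QuasiCompact (𝒲.f j) := fun j => by
    haveI := hWa j
    show QuasiCompact (c j)
    infer_instance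
  haveI : Finite 𝒲.I₀ := inferInstanceAs (Finite (Fin m))
  haveI hqW : QuasiCompactCover 𝒲.toPreZeroHypercover := QuasiCompactCover.of_finite
  haveI := hes
  let ℰ : ∀ j : 𝒲.I₀, PreZeroHypercover.{0} (𝒲.X j) := fun j =>
    (Scheme.Hom.cover.{u, 0} (P := ⊤) (e j) trivial).toPreZeroHypercover
  haveI : ∀ j, QuasiCompactCover (ℰ j) := fun j =>
    QuasiCompactCover.of_isOpenMap (𝒰 := Scheme.Hom.cover.{u, 0} (P := ⊤) (e j) trivial)
      (fun _ => heo j)
  haveI : QuasiCompactCover (𝒲.toPreZeroHypercover.bind ℰ) :=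
    @AlgebraicGeometry.QuasiCompactCover.instBindScheme _ 𝒲.toPreZeroHypercover hqW ℰ this
  let φ : (𝒲.toPreZeroHypercover.bind ℰ).Hom 𝒯.toPreZeroHypercover :=
    { s₀ := fun ij => i0 ij.1
      h₀ := fun ij => τ ij.1
      w₀ := fun ij => hτ ij.1 }
  haveI : QuasiCompactCover 𝒯.toPreZeroHypercover := QuasiCompactCover.of_hom φ
  exact Groth.Agent.Lib.Helper12.of_fpqcCover hP hh (Scheme.Cover.ofQuasiCompactCover 𝒯) H


variable {S : Scheme.{u}}

theorem sfq_descends : LciMor.{u}.DescendsAlong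
    (@Surjective ⊓ @Flat ⊓ @QuasiCompact : MorphismProperty Scheme.{u}) :=
  Groth.Agent.Lib.Helper5.LciDesc.descendsAlong krDescent

/-- the descent direction over an affine étale chart of the base -/
theorem lciMor_chart_of_fpqcCover_affine {ι : Type u} {Y : AlgSp.Sp S} (Yi : ι → AlgSp.Sp S)
    (g : ∀ i, Yi i ⟶ Y) (hYi : ∀ i, AlgSp.IsAlgSpace (Yi i))
    (hcov : AlgSp.IsFpqcCover Yi g) {X : AlgSp.Sp S} (f : X ⟶ Y)
    (Xi : ι → AlgSp.Sp S) (p : ∀ i, Xi i ⟶ Yi i) (q : ∀ i, Xi i ⟶ X)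
    (sq : ∀ i, IsPullback (q i) (p i) f (g i))
    (H : ∀ i, AlgSp.LocP LciMor (p i))
    {U V : Over S} (hVa : IsAffine V.left) (a : (AlgSp.yon S).obj U ⟶ X)
    (b : (AlgSp.yon S).obj V ⟶ Y) (hh : U ⟶ V) (ha : AlgSp.RepWith @Etale a)
    (hb : AlgSp.RepWith @Etale b) (hcomm : a ≫ f = (AlgSp.yon S).map hh ≫ b) :
    LciMor hh.left := by
  -- atlases of the `Y_i`
  choose A α hαe hαs using fun i => (hYi i).atlas
  -- the schemes `T_i = V ×_Y A_i`
  choose T pr t' sqT using fun i => hb.1 (α i ≫ g i)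
  choose t ht using fun i => (AlgSp.yon S).map_surjective (t' i)
  have hpr : ∀ i, Etale (pr i).left := fun i => hb.2 _ _ (pr i) (sqT i)
  have hchartT : ∀ i, AlgSp.RepWith @Etale ((AlgSp.yon S).map (pr i) ≫ α i) := fun i =>
    (AlgSp.RepWith @Etale).comp_mem _ _ ((AlgSp.repWith_yon_map_iff _ _).2 (hpr i)) (hαe i)
  have hwT : ∀ i, ((AlgSp.yon S).map (pr i) ≫ α i) ≫ g i = (AlgSp.yon S).map (t i) ≫ b := by
    intro i
    rw [Category.assoc, ht i]
    exact (sqT i).w.symm
  have htfl : ∀ i, Flat (t i).left := fun i =>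
    hcov.1 i ((AlgSp.yon S).map (pr i) ≫ α i) b (t i) (hchartT i) hb (hwT i)
  -- the standard covering
  obtain ⟨m, W, c, hWa, -, hcs, hl⟩ := hcov.2 V hVa b
  choose i0 l hl using hl
  choose M e μ' sqM using fun j => (hαe (i0 j)).1 (l j)
  have hee : ∀ j, Etale (e j).left := fun j => (hαe (i0 j)).2 _ _ (e j) (sqM j)
  have hes : ∀ j, Surjective (e j).left := fun j => (hαs (i0 j)).2 _ _ (e j) (sqM j)
  have hwτ : ∀ j, (AlgSp.yon S).map (e j ≫ c j) ≫ b = μ' j ≫ α (i0 j) ≫ g (i0 j) := by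
    intro j
    rw [Functor.map_comp, Category.assoc, ← hl j, ← Category.assoc, ← (sqM j).w, Category.assoc]
  choose τ hτ using fun j => (AlgSp.yon S).map_surjective
    ((sqT (i0 j)).lift ((AlgSp.yon S).map (e j ≫ c j)) (μ' j) (hwτ j))
  have hτt : ∀ j, τ j ≫ t (i0 j) = e j ≫ c j := by
    intro j
    apply (AlgSp.yon S).map_injective
    rw [Functor.map_comp, hτ j, ht, (sqT _).lift_fst]
  haveI := hVa
  refine of_refined_standard_fpqc sfq_descends (fun i => (T i).left) (fun i => (t i).left) htfl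
    (fun j => (W j).left) (fun j => (c j).left) hWa hcs i0 (fun j => (M j).left)
    (fun j => (e j).left) (fun j => by haveI := hee j; exact (e j).left.isOpenMap) hes
    (fun j => (τ j).left) (fun j => by rw [← Over.comp_left, hτt j, Over.comp_left]) hh.left
    (fun i => ?_)
  -- `P` of the projection `U ×_V T_i ⟶ T_i`
  have hsqN : IsPullback (pullback.fst hh (t i)).left (pullback.snd hh (t i)).left hh.left
      (t i).left := (IsPullback.of_hasPullback hh (t i)).map (Over.forget S)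
  rw [← hsqN.isoPullback_inv_snd]
  refine (MorphismProperty.cancel_left_of_respectsIso LciMor _ _).2 ?_
  -- the chart of `p i`
  have sq3 : IsPullback ((AlgSp.yon S).map (pullback.fst hh (t i)))
      ((AlgSp.yon S).map (pullback.snd hh (t i))) ((AlgSp.yon S).map hh)
      ((AlgSp.yon S).map (t i)) := (IsPullback.of_hasPullback hh (t i)).map (AlgSp.yon S)
  have tE : IsPullback (pullback.fst (p i) (α i) ≫ q i) (pullback.snd (p i) (α i)) f
      (α i ≫ g i) := (IsPullback.of_hasPullback (p i) (α i)).paste_horiz (sq i)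
  have sq2 : IsPullback ((AlgSp.yon S).map (t i)) ((AlgSp.yon S).map (pr i)) b (α i ≫ g i) := by
    rw [ht i]
    exact sqT i
  have big := sq3.paste_vert sq2
  rw [← hcomm] at big
  have hwν : ((AlgSp.yon S).map (pullback.fst hh (t i)) ≫ a) ≫ f =
      ((AlgSp.yon S).map (pullback.snd hh (t i)) ≫ (AlgSp.yon S).map (pr i)) ≫ (α i ≫ g i) := by
    rw [Category.assoc]
    exact big.w
  obtain ⟨ν, hν⟩ : ∃ ν : (AlgSp.yon S).obj (pullback hh (t i)) ⟶ pullback (p i) (α i),
      ν = tE.lift _ _ hwν := ⟨_, rfl⟩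
  have hν1 : ν ≫ (pullback.fst (p i) (α i) ≫ q i) =
      (AlgSp.yon S).map (pullback.fst hh (t i)) ≫ a := by rw [hν, tE.lift_fst]
  have hν2 : ν ≫ pullback.snd (p i) (α i) =
      (AlgSp.yon S).map (pullback.snd hh (t i)) ≫ (AlgSp.yon S).map (pr i) := by
    rw [hν, tE.lift_snd]
  have sqν : IsPullback ((AlgSp.yon S).map (pullback.fst hh (t i))) ν a
      (pullback.fst (p i) (α i) ≫ q i) := by
    refine IsPullback.of_bot ?_ hν1.symm tE
    rw [hν2]
    exact big
  have hνe : AlgSp.RepWith @Etale ν :=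
    MorphismProperty.of_isPullback (P := AlgSp.RepWith @Etale) sqν ha
  have hfstE : AlgSp.RepWith @Etale (pullback.fst (p i) (α i)) :=
    MorphismProperty.of_isPullback (P := AlgSp.RepWith @Etale)
      (IsPullback.of_hasPullback (p i) (α i)).flip (hαe i)
  have hchart : AlgSp.RepWith @Etale (ν ≫ pullback.fst (p i) (α i)) :=
    (AlgSp.RepWith @Etale).comp_mem _ _ hνe hfstE
  refine H i (ν ≫ pullback.fst (p i) (α i)) ((AlgSp.yon S).map (pr i) ≫ α i)
    (pullback.snd hh (t i)) hchart (hchartT i) ?_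
  rw [Category.assoc, pullback.condition, ← Category.assoc, hν2, Category.assoc]


/-- the descent direction -/
theorem locP_lciMor_of_fpqcCover_base {ι : Type u} {Y : AlgSp.Sp S} (Yi : ι → AlgSp.Sp S)
    (g : ∀ i, Yi i ⟶ Y) (hYi : ∀ i, AlgSp.IsAlgSpace (Yi i))
    (hcov : AlgSp.IsFpqcCover Yi g) {X : AlgSp.Sp S} (f : X ⟶ Y)
    (Xi : ι → AlgSp.Sp S) (p : ∀ i, Xi i ⟶ Yi i) (q : ∀ i, Xi i ⟶ X)
    (sq : ∀ i, IsPullback (q i) (p i) f (g i))
    (H : ∀ i, AlgSp.LocP LciMor (p i)) : AlgSp.LocP LciMor f := by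
  intro U V a b hh ha hb hcomm
  rw [IsZariskiLocalAtTarget.iff_of_openCover (P := LciMor) V.left.affineCover]
  intro k
  obtain ⟨ζ, hζ⟩ : ∃ ζ : V.left.affineCover.X k ⟶ V.left, ζ = V.left.affineCover.f k := ⟨_, rfl⟩
  haveI : IsOpenImmersion ζ := by rw [hζ]; infer_instance
  show LciMor (pullback.snd hh.left (V.left.affineCover.f k))
  rw [← hζ]
  let Zo : Over S := Over.mk (ζ ≫ V.hom)
  let ζ' : Zo ⟶ V := Over.homMk ζ rfl
  have hZa : IsAffine Zo.left := by
    show IsAffine (V.left.affineCover.X k)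
    infer_instance
  have hsqN : IsPullback (pullback.fst hh ζ').left (pullback.snd hh ζ').left hh.left ζ :=
    (IsPullback.of_hasPullback hh ζ').map (Over.forget S)
  rw [← hsqN.isoPullback_inv_snd]
  refine (MorphismProperty.cancel_left_of_respectsIso LciMor _ _).2 ?_
  have hζe : Etale ζ'.left := by
    show Etale ζ
    infer_instance
  have hfe : Etale (pullback.fst hh ζ').left :=
    MorphismProperty.of_isPullback (P := @Etale) hsqN.flip hζe
  refine lciMor_chart_of_fpqcCover_affine Yi g hYi hcov f Xi p q sq H hZa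
    ((AlgSp.yon S).map (pullback.fst hh ζ') ≫ a) ((AlgSp.yon S).map ζ' ≫ b) (pullback.snd hh ζ')
    ((AlgSp.RepWith @Etale).comp_mem _ _ ((AlgSp.repWith_yon_map_iff _ _).2 hfe) ha)
    ((AlgSp.RepWith @Etale).comp_mem _ _ ((AlgSp.repWith_yon_map_iff _ _).2 hζe) hb) ?_
  rw [Category.assoc, hcomm, ← Category.assoc, ← Functor.map_comp, pullback.condition,
    Functor.map_comp, Category.assoc]

/-- **lci morphisms of algebraic spaces are fpqc local on the base** (`LciMor` form) -/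
theorem isLocalOnBase_fpqc_lciMor :
    AlgSp.IsLocalOnBase (AlgSp.IsFpqcCover (S := S)) (AlgSp.LocP LciMor) := by
  intro ι Y Yi g hY hYi hcov X f hX Xi p q hXi sq
  constructor
  · intro hf i
    exact locP_lciMor_baseChange_flat hX hY (hYi i) (sq i) (hcov.1 i) hf
  · intro H
    exact locP_lciMor_of_fpqcCover_base Yi g hYi hcov f Xi p q sq H

/-- **lci morphisms of algebraic spaces are fpqc local on the base** -/
theorem isLocalOnBase_fpqc_isLCIMor :
    AlgSp.IsLocalOnBase (AlgSp.IsFpqcCover (S := S)) AlgSp.IsLCIMor := by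
  intro ι Y Yi g hY hYi hcov X f hX Xi p q hXi sq
  rw [isLCIMor_iff, isLocalOnBase_fpqc_lciMor Yi g hY hYi hcov f hX Xi p q hXi sq]
  exact forall_congr' fun i => (isLCIMor_iff _).symm

end Groth.Agent.Helper13LciAsp
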