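import Groth.Agent.Lib.Helper13KzSch
import Groth.Agent.Lib.Helper5KzPres

/-!
# The relations of a submersive presentation are Koszul-regular (helper13)

* `flat_away_jacobian`, `eps`, `isKoszulRegularSeq_away_jac`: after inverting the jacobian minor the relations
  `f_1..f_c` of `R[y]` become part of an etale coordinate system, hence Koszul-regular.
* `isKoszulRegularIdeal_ker_of_submersive`: the kernel of a submersive presentation is a Koszul-regular ideal.
-/

set_option autoImplicit false
set_option linter.style.haveILetI false
universe u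

open MvPolynomial

namespace Groth.Agent.Helper13SmKR


section General

/-- for a pre-submersive presentation, the localization at the jacobian is flat -/
theorem flat_away_jacobian {A E : Type u} [CommRing A] [CommRing E] [Algebra A E] {ι σ : Type}
    [Finite ι] [Finite σ] (P : Algebra.PreSubmersivePresentation A E ι σ) :
    Module.Flat A (Localization.Away P.jacobian) := by
  have hΔ : IsUnit (algebraMap E (Localization.Away P.jacobian) P.jacobian) :=
    IsLocalization.Away.algebraMap_isUnit _
  let Q : Algebra.SubmersivePresentation A (Localization.Away P.jacobian) _ _ :=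
    { toPreSubmersivePresentation :=
        .comp (.localizationAway (Localization.Away P.jacobian) P.jacobian) P
      jacobian_isUnit := by simpa [Algebra.smul_def, -isUnit_map_iff, hΔ] }
  haveI : Algebra.IsStandardSmooth A (Localization.Away P.jacobian) := Q.isStandardSmooth
  infer_instance

end General

section Coord

variable {R : Type u} [CommRing R] {n c : ℕ} (f : Fin c → MvPolynomial (Fin n) R)
  (a : Fin c → Fin n) (ha : Function.Injective a)

/-- the relations `f_j(y) - x_j` over `T = R[x_1..x_c]` -/
noncomputable def hrel (j : Fin c) : MvPolynomial (Fin n) (MvPolynomial (Fin c) R) :=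
  map (algebraMap R (MvPolynomial (Fin c) R)) (f j) - C (X j)

/-- the quotient `T[y]/(f_j(y) - x_j)` -/
abbrev EQ : Type u :=
  MvPolynomial (Fin n) (MvPolynomial (Fin c) R) ⧸ Ideal.span (Set.range (hrel f))

/-- the naive presentation -/
noncomputable def pres : Algebra.PreSubmersivePresentation (MvPolynomial (Fin c) R) (EQ f)
    (Fin n) (Fin c) :=
  Algebra.PreSubmersivePresentation.naive (v := hrel f) a ha

end Coord



section Coord

variable {R : Type u} [CommRing R] {n c : ℕ} (f : Fin c → MvPolynomial (Fin n) R)

/-- `x_j ↦ f_j` -/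
noncomputable def phi : MvPolynomial (Fin c) R →+* MvPolynomial (Fin n) R :=
  (aeval f : MvPolynomial (Fin c) R →ₐ[R] MvPolynomial (Fin n) R).toRingHom

/-- evaluation `T[y] → R[y]` -/
noncomputable def ev : MvPolynomial (Fin n) (MvPolynomial (Fin c) R) →+* MvPolynomial (Fin n) R :=
  eval₂Hom (phi f) X

theorem ev_map (p : MvPolynomial (Fin n) R) :
    ev f (map (algebraMap R (MvPolynomial (Fin c) R)) p) = p := by
  unfold ev
  rw [coe_eval₂Hom, eval₂_map]
  have : (phi f).comp (algebraMap R (MvPolynomial (Fin c) R)) = C := by
    ext r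
    simp [phi]
  rw [this]
  exact eval₂_eta p

theorem ev_hrel (j : Fin c) : ev f (hrel f j) = 0 := by
  unfold hrel
  rw [map_sub, ev_map]
  unfold ev
  rw [coe_eval₂Hom, eval₂_C]
  simp [phi]

/-- the map `E → R[y]` -/
noncomputable def eps0 : EQ f →+* MvPolynomial (Fin n) R :=
  Ideal.Quotient.lift _ (ev f) (by
    intro p hp
    have hle : Ideal.span (Set.range (hrel f)) ≤ RingHom.ker (ev f) := by
      rw [Ideal.span_le]
      rintro _ ⟨j, rfl⟩
      exact ev_hrel f j
    exact hle hp)

/-- the map `R[y] → E` -/
noncomputable def chi : MvPolynomial (Fin n) R →+* EQ f :=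
  (Ideal.Quotient.mk (Ideal.span (Set.range (hrel f)))).comp
    (map (algebraMap R (MvPolynomial (Fin c) R)))

theorem chi_eq (p : MvPolynomial (Fin n) R) :
    chi f p = Ideal.Quotient.mk _ (map (algebraMap R (MvPolynomial (Fin c) R)) p) := rfl

theorem eps0_chi : (eps0 f).comp (chi f) = RingHom.id _ := by
  apply MvPolynomial.ringHom_ext
  · intro r
    rw [RingHom.comp_apply, chi_eq, RingHom.id_apply]
    change ev f _ = _
    rw [ev_map]
  · intro i
    rw [RingHom.comp_apply, chi_eq, RingHom.id_apply]
    change ev f _ = _
    rw [ev_map]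

theorem chi_eps0 : (chi f).comp (eps0 f) = RingHom.id _ := by
  apply Ideal.Quotient.ringHom_ext
  apply MvPolynomial.ringHom_ext
  · intro t
    -- as ring homs in `t`
    have key : ((chi f).comp (eps0 f)).comp ((Ideal.Quotient.mk _).comp
        (C : MvPolynomial (Fin c) R →+* MvPolynomial (Fin n) (MvPolynomial (Fin c) R))) =
        (Ideal.Quotient.mk (Ideal.span (Set.range (hrel f)))).comp C := by
      apply MvPolynomial.ringHom_ext
      · intro r
        simp only [RingHom.comp_apply]
        change chi f (ev f (C (C r))) = _
        have : ev f (C (C r)) = C r := by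
          unfold ev
          rw [coe_eval₂Hom, eval₂_C]
          simp [phi]
        rw [this, chi_eq]
        simp
      · intro j
        simp only [RingHom.comp_apply]
        change chi f (ev f (C (X j))) = _
        have : ev f (C (X j)) = f j := by
          unfold ev
          rw [coe_eval₂Hom, eval₂_C]
          simp [phi]
        rw [this, chi_eq]
        -- relation
        have hrel0 : Ideal.Quotient.mk (Ideal.span (Set.range (hrel f))) (hrel f j) = 0 :=
          Ideal.Quotient.eq_zero_iff_mem.mpr (Ideal.subset_span ⟨j, rfl⟩)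
        unfold hrel at hrel0
        rw [map_sub, sub_eq_zero] at hrel0
        exact hrel0
    exact RingHom.congr_fun key t
  · intro i
    simp only [RingHom.comp_apply, RingHom.id_apply]
    change chi f (ev f (X i)) = _
    have : ev f (X i) = X i := by
      unfold ev
      rw [coe_eval₂Hom, eval₂_X]
    rw [this, chi_eq]
    simp

/-- `E ≃ R[y]` -/
noncomputable def eps : EQ f ≃+* MvPolynomial (Fin n) R :=
  RingEquiv.ofRingHom (eps0 f) (chi f) (eps0_chi f) (chi_eps0 f)

end Coord



open Groth.Agent.Lib.Helper5.KindFlat Groth.Agent.Lib.Helper5.KzIdeal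

section Coord

variable {R : Type u} [CommRing R] {n c : ℕ} (f : Fin c → MvPolynomial (Fin n) R)
  (a : Fin c → Fin n) (ha : Function.Injective a)

/-- the jacobian minor -/
noncomputable def jac : MvPolynomial (Fin n) R :=
  (Matrix.of fun i j : Fin c => pderiv (a i) (f j)).det

theorem eps_jacobian : eps f (pres f a ha).jacobian = jac f a := by
  classical
  rw [Algebra.PreSubmersivePresentation.jacobian_eq_jacobiMatrix_det]
  change ev f ((pres f a ha).jacobiMatrix.det) = _
  rw [RingHom.map_det]
  unfold jac
  congr 1
  ext i j
  rw [RingHom.mapMatrix_apply, Matrix.map_apply]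
  unfold pres
  rw [Algebra.PreSubmersivePresentation.jacobiMatrix_naive]
  unfold hrel
  rw [map_sub, pderiv_C, sub_zero, pderiv_map, ev_map]
  rfl

theorem isKoszulRegularSeq_X : LCI.IsKoszulRegularSeq (MvPolynomial (Fin c) R)
    (List.ofFn fun j : Fin c => (X j : MvPolynomial (Fin c) R)) := by
  have h := Groth.Agent.Lib.Helper5.KzPres.isKoszulRegularSeq_uu (S := R) (m := c) (fun _ => 0)
  have e : Groth.Agent.Lib.Helper5.KzPres.uu (S := R) (m := c) (fun _ => 0) =
      fun j : Fin c => (X j : MvPolynomial (Fin c) R) := by
    funext j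
    simp [Groth.Agent.Lib.Helper5.KzPres.uu]
  rwa [e] at h

include ha in
/-- **The relations of a submersive presentation are Koszul-regular away from the jacobian.** -/
theorem isKoszulRegularSeq_away_jac :
    LCI.IsKoszulRegularSeq (Localization.Away (jac f a))
      (List.ofFn fun j => algebraMap (MvPolynomial (Fin n) R) (Localization.Away (jac f a)) (f j)) := by
  haveI : Module.Flat (MvPolynomial (Fin c) R) (Localization.Away (pres f a ha).jacobian) :=
    flat_away_jacobian (pres f a ha)
  have h1 := isKoszulRegularSeq_map_of_flat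
    (algebraMap (MvPolynomial (Fin c) R) (Localization.Away (pres f a ha).jacobian))
    (RingHom.flat_algebraMap_iff.2 inferInstance) _ (isKoszulRegularSeq_X (R := R) (c := c))
  have hM : (Submonoid.powers (pres f a ha).jacobian).map (eps f).toMonoidHom =
      Submonoid.powers (jac f a) := by
    rw [Submonoid.map_powers]
    congr 1
    exact eps_jacobian f a ha
  obtain ⟨ε', hε'⟩ : ∃ ε' : Localization.Away (pres f a ha).jacobian ≃+* Localization.Away (jac f a),
      ∀ x : EQ f, ε' (algebraMap (EQ f) (Localization.Away (pres f a ha).jacobian) x) =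
        algebraMap (MvPolynomial (Fin n) R) (Localization.Away (jac f a)) (eps f x) :=
    ⟨IsLocalization.ringEquivOfRingEquiv (M := Submonoid.powers (pres f a ha).jacobian)
      (T := Submonoid.powers (jac f a)) _ _ (eps f) hM,
      fun x => IsLocalization.ringEquivOfRingEquiv_eq hM x⟩
  have h2 := isKoszulRegularSeq_map_ringEquiv ε' _ h1
  have hx : ∀ j : Fin c, eps f (algebraMap (MvPolynomial (Fin c) R) (EQ f) (X j)) = f j := by
    intro j
    change ev f (C (X j)) = f j
    unfold ev
    rw [coe_eval₂Hom, eval₂_C]
    simp [phi]
  have e : ((List.ofFn fun j : Fin c => (X j : MvPolynomial (Fin c) R)).map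
      (algebraMap (MvPolynomial (Fin c) R) (Localization.Away (pres f a ha).jacobian))).map ε' =
      List.ofFn fun j => algebraMap (MvPolynomial (Fin n) R) (Localization.Away (jac f a)) (f j) := by
    rw [List.map_map, List.map_ofFn]
    congr 1
    funext j
    simp only [Function.comp_apply]
    rw [IsScalarTower.algebraMap_apply (MvPolynomial (Fin c) R) (EQ f)
      (Localization.Away (pres f a ha).jacobian), hε', hx]
  rwa [e] at h2

end Coord



open Groth.Agent.Lib.Helper5.KindFlat Groth.Agent.Lib.Helper5.KzIdeal

theorem isKoszulRegularIdeal_ker_of_submersive {R C : Type u} [CommRing R] [CommRing C]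
    [Algebra R C] {n c : ℕ} (P : Algebra.SubmersivePresentation R C (Fin n) (Fin c)) :
    LCI.IsKoszulRegularIdeal (RingHom.ker (aeval (R := R) P.val).toRingHom) := by
  classical
  intro 𝔭 h𝔭
  have hjac : P.jacobian = aeval (R := R) P.val (jac P.relation P.map) := by
    rw [Algebra.PreSubmersivePresentation.jacobian_eq_jacobiMatrix_det, P.algebraMap_apply]
    congr 1
    unfold jac
    congr 1
    ext i j
    rw [Algebra.PreSubmersivePresentation.jacobiMatrix_apply]
    rfl
  refine ⟨jac P.relation P.map, ?_, _, isKoszulRegularSeq_away_jac P.relation P.map P.map_inj, ?_⟩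
  · intro hmem
    obtain ⟨q, hq⟩ := P.aeval_val_surjective (↑(P.jacobian_isUnit.unit⁻¹) : C)
    have h1 : jac P.relation P.map * q - 1 ∈ RingHom.ker (aeval (R := R) P.val).toRingHom := by
      rw [RingHom.mem_ker]
      change aeval (R := R) P.val (jac P.relation P.map * q - 1) = 0
      rw [map_sub, map_mul, map_one, hq, ← hjac]
      simp
    have h2 := h𝔭 h1
    have h3 : jac P.relation P.map * q ∈ 𝔭.asIdeal := Ideal.mul_mem_right _ _ hmem
    have h4 : (1 : MvPolynomial (Fin n) R) ∈ 𝔭.asIdeal := by
      have := Ideal.sub_mem _ h3 h2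
      simpa using this
    exact 𝔭.isPrime.ne_top ((Ideal.eq_top_iff_one _).2 h4)
  · have hker : RingHom.ker (aeval (R := R) P.val).toRingHom = Ideal.span (Set.range P.relation) := by
      rw [P.span_range_relation_eq_ker, P.ker_eq_ker_aeval_val]
      rfl
    rw [hker, Ideal.map_span]
    congr 1
    ext x
    simp only [Set.mem_image, Set.mem_range, exists_exists_eq_and, Set.mem_ofPred_eq, List.mem_ofFn]

end Groth.Agent.Helper13SmKR
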