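import Groth.Agent.Lib.Helper13LciSmA
import Groth.Agent.Lib.Helper5LciDesc

/-!
# Smooth morphisms and Koszul-regular immersions are lci (helper13)

* `isLCI_of_isStandardSmooth`, `lciMor_of_smooth`.
* `isLCI_iff_of_surjective`: `A → A/I` is lci iff `I` is a Koszul-regular ideal.
* `isRegularImmersion_iff_lciMor`: an immersion is Koszul-regular iff it is lci.
* `isKoszulRegularSeq_relation`: the relations of a submersive presentation form a (global) Koszul-regular sequence.
-/

set_option autoImplicit false
set_option linter.style.haveILetI false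
universe u

open MvPolynomial

namespace Groth.Agent.Helper13SmKR


open Groth.Agent.Lib.Helper5.KindFlat Groth.Agent.Lib.Helper5.KzIdeal
open Groth.Agent.Lib.Helper5.LciLocal Groth.Agent.Lib.Helper5.LciComp
open AlgebraicGeometry CategoryTheory

theorem isLCI_of_isStandardSmooth (R C : Type u) [CommRing R] [CommRing C]
    [Algebra R C] [Algebra.IsStandardSmooth R C] : LCI.IsLCI R C := by
  obtain ⟨ι, σ, _, _, ⟨P0⟩⟩ := ‹Algebra.IsStandardSmooth R C›
  letI : Fintype ι := Fintype.ofFinite ι
  letI : Fintype σ := Fintype.ofFinite σ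
  let P := P0.reindex (Fintype.equivFin ι).symm (Fintype.equivFin σ).symm
  refine ⟨inferInstance, _, aeval (R := R) P.val, P.aeval_val_surjective,
    isKoszulRegularIdeal_ker_of_submersive P⟩

theorem isLCIHom_of_isStandardSmooth {R C : Type u} [CommRing R] [CommRing C] (φ : R →+* C)
    (h : φ.IsStandardSmooth) : IsLCIHom φ := by
  letI := φ.toAlgebra
  haveI : Algebra.IsStandardSmooth R C := h
  exact isLCI_of_isStandardSmooth R C

theorem lciMor_of_smooth {X Y : Scheme.{u}} (f : X ⟶ Y) [Smooth f] : LciMor f := by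
  rw [HasRingHomProperty.iff_exists_appLE (P := LciMor)
    (stableUnderComposition.stableUnderCompositionWithLocalizationAway
      holdsForLocalizationAway).left]
  intro x
  obtain ⟨U, hU, V, hV, hxV, e, h⟩ := Smooth.exists_isStandardSmooth f x
  exact ⟨⟨U, hU⟩, ⟨V, hV⟩, hxV, e, isLCIHom_of_isStandardSmooth _ h⟩



open Groth.Agent.Lib.Helper5.KindFlat Groth.Agent.Lib.Helper5.KzIdeal
open Groth.Agent.Lib.Helper5.LciLocal Groth.Agent.Lib.Helper5.LciComp
open Groth.Agent.Lib.Helper5.KzPres Groth.Agent.Lib.Helper5.ImmBC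
open AlgebraicGeometry CategoryTheory

section Ring

theorem kr_of_comap_ringEquiv {R R' : Type u} [CommRing R] [CommRing R'] (e : R ≃+* R')
    (I : Ideal R') (hI : KR (I.comap (e : R →+* R'))) : KR I := by
  have h2 := kr_comap_ringEquiv e.symm _ hI
  have : (I.comap (e : R →+* R')).comap (e.symm : R' →+* R) = I := by
    ext x
    rw [Ideal.mem_comap, Ideal.mem_comap]
    show e (e.symm x) ∈ I ↔ _
    rw [e.apply_symm_apply]
  rwa [this] at h2

variable (A B : Type u) [CommRing A] [CommRing B] [Algebra A B]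

/-- the presentation with no variables -/
noncomputable def pres0 : MvPolynomial (Fin 0) A →ₐ[A] B :=
  (Algebra.ofId A B).comp (MvPolynomial.isEmptyAlgEquiv A (Fin 0) : _ →ₐ[A] A)

theorem ker_pres0 : RingHom.ker (pres0 A B).toRingHom =
    (RingHom.ker (algebraMap A B)).comap
      ((MvPolynomial.isEmptyAlgEquiv A (Fin 0)).toRingEquiv : _ →+* A) := by
  ext x
  rw [RingHom.mem_ker, Ideal.mem_comap, RingHom.mem_ker]
  rfl

variable {A B}

theorem pres0_surjective (hs : Function.Surjective (algebraMap A B)) :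
    Function.Surjective (pres0 A B) :=
  hs.comp (MvPolynomial.isEmptyAlgEquiv A (Fin 0)).surjective

theorem isLCI_iff_of_surjective (hs : Function.Surjective (algebraMap A B)) :
    LCI.IsLCI A B ↔ LCI.IsKoszulRegularIdeal (RingHom.ker (algebraMap A B)) := by
  constructor
  · rintro ⟨-, n, α, hα, hK⟩
    have h1 := Groth.Agent.Lib.Helper5.KzPres.main A B n 0 α hα (pres0 A B) (pres0_surjective hs) hK
    rw [ker_pres0, kr_iff] at h1
    rw [kr_iff]
    exact kr_of_comap_ringEquiv _ _ h1
  · intro hK
    refine ⟨Algebra.FiniteType.of_surjective (Algebra.ofId A B) hs, 0, pres0 A B,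
      pres0_surjective hs, ?_⟩
    rw [ker_pres0, kr_iff]
    rw [kr_iff] at hK
    exact kr_comap_ringEquiv _ _ hK

theorem isLCIHom_iff_of_surjective {A B : Type u} [CommRing A] [CommRing B] (φ : A →+* B)
    (hs : Function.Surjective φ) :
    IsLCIHom φ ↔ LCI.IsKoszulRegularIdeal (RingHom.ker φ) := by
  letI := φ.toAlgebra
  exact isLCI_iff_of_surjective (A := A) (B := B) hs

end Ring

section Sch

variable {Z X : Scheme.{u}}

theorem lciMor_of_isRegularImmersion (i : Z ⟶ X) (h : RegImm.IsRegularImmersion .koszul i) :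
    LciMor i := by
  rw [HasRingHomProperty.iff_exists_appLE (P := LciMor)
    (stableUnderComposition.stableUnderCompositionWithLocalizationAway
      holdsForLocalizationAway).left]
  intro z
  obtain ⟨U, hzU, hcl, rs, hrs, hker⟩ := h.2 z
  haveI := hcl
  have hW := isAffineOpen_preimage_of_isClosedImmersion_restrict i U.2
  have hsurj := app_surjective_of_isClosedImmersion_restrict i U.2
  refine ⟨U, ⟨i ⁻¹ᵁ U.1, hW⟩, hzU, le_rfl, ?_⟩
  rw [← Scheme.Hom.app_eq_appLE]
  rw [isLCIHom_iff_of_surjective _ hsurj, hker, kr_iff]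
  exact kr_ofList rs hrs

theorem isRegularImmersion_of_lciMor (i : Z ⟶ X) [IsImmersion i] (h : LciMor i) :
    RegImm.IsRegularImmersion .koszul i := by
  refine ⟨inferInstance, fun z => ?_⟩
  obtain ⟨U, hU, hzU, hcl⟩ := Groth.Agent.Helper13KzSch.exists_affine_isClosedImmersion i z
  haveI := hcl
  have hW := isAffineOpen_preimage_of_isClosedImmersion_restrict i hU
  have hsurj := app_surjective_of_isClosedImmersion_restrict i hU
  have h1 := (lciMor_iff i).1 h (i ⁻¹ᵁ U) U hW hU le_rfl
  rw [← Scheme.Hom.app_eq_appLE, isLCIHom_iff_of_surjective _ hsurj] at h1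
  exact Groth.Agent.Helper13KzSch.isRegularImmersionAt_of_isKoszulRegularIdeal_ker i hU h1 z hzU

theorem isRegularImmersion_iff_lciMor (i : Z ⟶ X) [IsImmersion i] :
    RegImm.IsRegularImmersion .koszul i ↔ LciMor i :=
  ⟨lciMor_of_isRegularImmersion i, isRegularImmersion_of_lciMor i⟩

end Sch



open Groth.Agent.Lib.Helper5.KindFlat Groth.Agent.Lib.Helper5.KzIdeal
open Groth.Agent.Lib.Helper5.LciLocal Groth.Agent.Lib.Helper5.LciComp
open Groth.Agent.Lib.Helper5.KzPres Groth.Agent.Lib.Helper5.ImmBC

theorem jac_notMem_of_relation_le {R C : Type u} [CommRing R] [CommRing C]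
    [Algebra R C] {n c : ℕ} (P : Algebra.SubmersivePresentation R C (Fin n) (Fin c))
    (𝔭 : Ideal (MvPolynomial (Fin n) R)) (h𝔭 : 𝔭 ≠ ⊤)
    (hle : Ideal.span (Set.range P.relation) ≤ 𝔭) : jac P.relation P.map ∉ 𝔭 := by
  classical
  have hjac : P.jacobian = aeval (R := R) P.val (jac P.relation P.map) := by
    rw [Algebra.PreSubmersivePresentation.jacobian_eq_jacobiMatrix_det, P.algebraMap_apply]
    congr 1
    unfold jac
    congr 1
    ext i j
    rw [Algebra.PreSubmersivePresentation.jacobiMatrix_apply]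
    rfl
  intro hmem
  obtain ⟨q, hq⟩ := P.aeval_val_surjective (↑(P.jacobian_isUnit.unit⁻¹) : C)
  have h1 : jac P.relation P.map * q - 1 ∈ Ideal.span (Set.range P.relation) := by
    rw [P.span_range_relation_eq_ker, P.ker_eq_ker_aeval_val, RingHom.mem_ker]
    rw [map_sub, map_mul, map_one, hq, ← hjac]
    simp
  have h2 := hle h1
  have h3 : jac P.relation P.map * q ∈ 𝔭 := Ideal.mul_mem_right _ _ hmem
  have h4 : (1 : MvPolynomial (Fin n) R) ∈ 𝔭 := by
    have := Ideal.sub_mem _ h3 h2
    simpa using this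
  exact h𝔭 ((Ideal.eq_top_iff_one _).2 h4)

/-- **The relations of a submersive presentation form a Koszul-regular sequence.** -/
theorem isKoszulRegularSeq_relation {R C : Type u} [CommRing R] [CommRing C]
    [Algebra R C] {n c : ℕ} (P : Algebra.SubmersivePresentation R C (Fin n) (Fin c)) :
    LCI.IsKoszulRegularSeq (MvPolynomial (Fin n) R) (List.ofFn P.relation) := by
  apply Groth.Agent.Helper13KzDesc.isKoszulRegularSeq_of_flat_local
  intro 𝔪 h𝔪
  haveI := h𝔪.isPrime
  by_cases hle : Ideal.span (Set.range P.relation) ≤ 𝔪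
  · have hj := jac_notMem_of_relation_le P 𝔪 h𝔪.ne_top hle
    refine ⟨Localization.Away (jac P.relation P.map), inferInstance, inferInstance, inferInstance,
      ?_, ?_⟩
    · rw [IsLocalization.map_algebraMap_ne_top_iff_disjoint (Submonoid.powers
        (jac P.relation P.map)), Ideal.disjoint_powers_iff_notMem_of_isPrime]
      exact hj
    · rw [List.map_ofFn]
      exact isKoszulRegularSeq_away_jac P.relation P.map P.map_inj
  · have hex : ∃ j, P.relation j ∉ 𝔪 := by
      by_contra hcon
      push Not at hcon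
      apply hle
      rw [Ideal.span_le]
      rintro _ ⟨j, rfl⟩
      exact hcon j
    obtain ⟨j, hj⟩ := hex
    refine ⟨Localization.Away (P.relation j), inferInstance, inferInstance, inferInstance,
      ?_, ?_⟩
    · rw [IsLocalization.map_algebraMap_ne_top_iff_disjoint (Submonoid.powers
        (P.relation j)), Ideal.disjoint_powers_iff_notMem_of_isPrime]
      exact hj
    · apply Groth.Agent.Helper13KzDesc.isKoszulRegularSeq_of_ofList_eq_top
      have hu : IsUnit (algebraMap (MvPolynomial (Fin n) R) (Localization.Away (P.relation j))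
          (P.relation j)) := IsLocalization.Away.algebraMap_isUnit _
      apply Ideal.eq_top_of_isUnit_mem _ _ hu
      apply Ideal.subset_span
      rw [Set.mem_ofPred_eq, List.mem_map]
      exact ⟨P.relation j, List.mem_ofFn.2 ⟨j, rfl⟩, rfl⟩

end Groth.Agent.Helper13SmKR
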