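import Groth.Agent.Lib.Helper13LciSmB

/-!
# Cancellation for lci ring maps (helper13)

* `isLCI_of_isStandardSmooth_of_isLCI`: `A → E` standard smooth and `A → B` lci imply `E → B` lci.
-/

set_option autoImplicit false
set_option linter.style.haveILetI false
universe u

open MvPolynomial

namespace Groth.Agent.Helper13SmKR


open Groth.Agent.Lib.Helper5.KindFlat Groth.Agent.Lib.Helper5.KzIdeal
open Groth.Agent.Lib.Helper5.LciLocal Groth.Agent.Lib.Helper5.LciComp
open Groth.Agent.Lib.Helper5.KzPres Groth.Agent.Lib.Helper5.ImmBC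
open Groth.Agent.Lib.Helper5.KzExch

section Cancel

variable {A : Type u} [CommRing A] (m n : ℕ)

/-- `A[x,y] ≃ A[y][x]` -/
noncomputable def eT : MvPolynomial (Fin n ⊕ Fin m) A ≃ₐ[A]
    MvPolynomial (Fin n) (MvPolynomial (Fin m) A) := MvPolynomial.sumAlgEquiv A (Fin n) (Fin m)

theorem eT_rename (p : MvPolynomial (Fin m) A) :
    eT m n (rename Sum.inr p) = (C p : MvPolynomial (Fin n) (MvPolynomial (Fin m) A)) := by
  have := AlgHom.congr_fun (sumAlgEquiv_comp_rename_inr (R := A) (S₁ := Fin n) (S₂ := Fin m)) p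
  exact this

/-- `∂/∂y_i` on `A[y][x]` -/
noncomputable def dY (i : Fin m) : MvPolynomial (Fin n) (MvPolynomial (Fin m) A) →+
    MvPolynomial (Fin n) (MvPolynomial (Fin m) A) where
  toFun t := eT m n (pderiv (Sum.inr i) ((eT m n).symm t))
  map_zero' := by simp
  map_add' a b := by simp

theorem dY_apply (i : Fin m) (t : MvPolynomial (Fin n) (MvPolynomial (Fin m) A)) :
    dY m n i t = eT m n (pderiv (Sum.inr i) ((eT m n).symm t)) := rfl

theorem dY_mul (i : Fin m) (a b : MvPolynomial (Fin n) (MvPolynomial (Fin m) A)) :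
    dY m n i (a * b) = a * dY m n i b + dY m n i a * b := by
  rw [dY_apply, dY_apply, dY_apply, map_mul, Derivation.leibniz, map_add, smul_eq_mul,
    smul_eq_mul, map_mul, map_mul, AlgEquiv.apply_symm_apply, AlgEquiv.apply_symm_apply]
  ring

theorem dY_C (i : Fin m) (p : MvPolynomial (Fin m) A) :
    dY m n i (C p) = C (pderiv i p) := by
  rw [dY_apply, ← eT_rename, AlgEquiv.symm_apply_apply, pderiv_rename Sum.inr_injective,
    eT_rename]

end Cancel

section CancelMain

variable {A E : Type u} [CommRing A] [CommRing E] [Algebra A E] {m c : ℕ}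
  (P : Algebra.SubmersivePresentation A E (Fin m) (Fin c)) (n : ℕ)

/-- the surjection `A[y][x] → C[x]` -/
noncomputable def rho : MvPolynomial (Fin n) (MvPolynomial (Fin m) A) →+* MvPolynomial (Fin n) E :=
  MvPolynomial.map (aeval (R := A) P.val).toRingHom

theorem rho_surjective : Function.Surjective (rho P n) :=
  MvPolynomial.map_surjective _ P.aeval_val_surjective

/-- the relations, as constants in `A[y][x]` -/
noncomputable def uC (j : Fin c) : MvPolynomial (Fin n) (MvPolynomial (Fin m) A) := C (P.relation j)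

theorem isKoszulRegularSeq_uC :
    LCI.IsKoszulRegularSeq (MvPolynomial (Fin n) (MvPolynomial (Fin m) A)) (List.ofFn (uC P n)) := by
  have hfl : (C : MvPolynomial (Fin m) A →+* MvPolynomial (Fin n) (MvPolynomial (Fin m) A)).Flat := by
    have : (C : MvPolynomial (Fin m) A →+* MvPolynomial (Fin n) (MvPolynomial (Fin m) A)) =
        algebraMap _ _ := rfl
    rw [this, RingHom.flat_algebraMap_iff]
    infer_instance
  have h := isKoszulRegularSeq_map_of_flat _ hfl _ (isKoszulRegularSeq_relation P)
  rw [List.map_ofFn] at h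
  exact h

theorem ker_rho : RingHom.ker (rho P n) = Ideal.span (Set.range (uC P n)) := by
  unfold rho
  rw [MvPolynomial.ker_map]
  have : RingHom.ker (aeval (R := A) P.val).toRingHom = Ideal.span (Set.range P.relation) := by
    rw [P.span_range_relation_eq_ker, P.ker_eq_ker_aeval_val]
    rfl
  rw [this, Ideal.map_span, ← Set.range_comp]
  rfl

/-- the matrix `ρ (∂ u_i / ∂ y_{a k})` -/
noncomputable def MM : Matrix (Fin c) (Fin c) (MvPolynomial (Fin n) E) :=
  fun i k => rho P n (dY m n (P.map k) (uC P n i))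

theorem MM_det_isUnit : IsUnit (MM P n).det := by
  classical
  have h1 : MM P n = ((C.comp (algebraMap P.Ring E)).mapMatrix P.jacobiMatrix).transpose := by
    ext i k
    rw [Matrix.transpose_apply, RingHom.mapMatrix_apply, Matrix.map_apply,
      Algebra.PreSubmersivePresentation.jacobiMatrix_apply]
    unfold MM uC rho
    rw [dY_C, MvPolynomial.map_C, RingHom.comp_apply, P.algebraMap_apply]
    rfl
  rw [h1, Matrix.det_transpose, ← RingHom.map_det, RingHom.comp_apply,
    ← Algebra.PreSubmersivePresentation.jacobian_eq_jacobiMatrix_det]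
  exact P.jacobian_isUnit.map C

/-- the dual derivations -/
noncomputable def DJ (j : Fin c) : MvPolynomial (Fin n) (MvPolynomial (Fin m) A) →+
    MvPolynomial (Fin n) E where
  toFun t := ∑ k, rho P n (dY m n (P.map k) t) * (MM P n)⁻¹ k j
  map_zero' := by simp
  map_add' a b := by
    simp only [map_add, add_mul, Finset.sum_add_distrib]

theorem DJ_mul (j : Fin c) (a b : MvPolynomial (Fin n) (MvPolynomial (Fin m) A)) :
    DJ P n j (a * b) = rho P n a * DJ P n j b + DJ P n j a * rho P n b := by
  show ∑ k, rho P n (dY m n (P.map k) (a * b)) * (MM P n)⁻¹ k j =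
    rho P n a * ∑ k, rho P n (dY m n (P.map k) b) * (MM P n)⁻¹ k j +
    (∑ k, rho P n (dY m n (P.map k) a) * (MM P n)⁻¹ k j) * rho P n b
  rw [Finset.mul_sum, Finset.sum_mul, ← Finset.sum_add_distrib]
  refine Finset.sum_congr rfl fun k _ => ?_
  rw [dY_mul, map_add, map_mul, map_mul]
  ring

theorem DJ_uC (i j : Fin c) : DJ P n j (uC P n i) = if i = j then 1 else 0 := by
  have h := Matrix.mul_nonsing_inv (MM P n) (MM_det_isUnit P n)
  have h2 := congrFun (congrFun h i) j
  rw [Matrix.mul_apply, Matrix.one_apply] at h2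
  exact h2

end CancelMain

section CancelThm

/-- **Cancellation**: if `A → E` is standard smooth and `A → B` is lci, then `E → B` is lci. -/
theorem isLCI_of_isStandardSmooth_of_isLCI (A E B : Type u) [CommRing A] [CommRing E] [CommRing B]
    [Algebra A E] [Algebra E B] [Algebra A B] [IsScalarTower A E B]
    [Algebra.IsStandardSmooth A E] (h : LCI.IsLCI A B) : LCI.IsLCI E B := by
  obtain ⟨ι, σ, _, _, ⟨P0⟩⟩ := ‹Algebra.IsStandardSmooth A E›
  letI : Fintype ι := Fintype.ofFinite ι
  letI : Fintype σ := Fintype.ofFinite σ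
  let P := P0.reindex (Fintype.equivFin ι).symm (Fintype.equivFin σ).symm
  obtain ⟨hft, N, α, hα, hKα⟩ := h
  haveI := hft
  have hftE : Algebra.FiniteType E B := Algebra.FiniteType.of_restrictScalars_finiteType A E B
  obtain ⟨n, β, hβ⟩ := Algebra.FiniteType.iff_quotient_mvPolynomial''.mp hftE
  refine ⟨hftE, n, β, hβ, ?_⟩
  rw [kr_iff]
  apply kr_of_kr_comap (rho P n) (rho_surjective P n) (uC P n) (isKoszulRegularSeq_uC P n)
    (ker_rho P n) (DJ P n) (DJ_mul P n) (DJ_uC P n)
  -- the composite presentation over `A`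
  let e : MvPolynomial (Fin (n + Fintype.card ι)) A ≃ₐ[A]
      MvPolynomial (Fin n) (MvPolynomial (Fin (Fintype.card ι)) A) :=
    (MvPolynomial.renameEquiv A finSumFinEquiv.symm).trans
      (MvPolynomial.sumAlgEquiv A (Fin n) (Fin (Fintype.card ι)))
  let γr : MvPolynomial (Fin (n + Fintype.card ι)) A →+* B :=
    (β.toRingHom.comp (rho P n)).comp (e.toRingEquiv : _ →+* _)
  have hγalg : ∀ a : A, γr (algebraMap A _ a) = algebraMap A B a := by
    intro a
    show β (rho P n (e (algebraMap A _ a))) = _
    rw [e.commutes, MvPolynomial.algebraMap_apply]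
    unfold rho
    rw [MvPolynomial.map_C]
    have h1 : (aeval (R := A) P.val).toRingHom (algebraMap A (MvPolynomial (Fin (Fintype.card ι)) A) a) =
        algebraMap A E a := (aeval (R := A) P.val).commutes a
    rw [h1]
    have h2 : (MvPolynomial.C (algebraMap A E a) : MvPolynomial (Fin n) E) =
        algebraMap E (MvPolynomial (Fin n) E) (algebraMap A E a) := rfl
    rw [h2, β.commutes, ← IsScalarTower.algebraMap_apply]
  let γ : MvPolynomial (Fin (n + Fintype.card ι)) A →ₐ[A] B := { γr with commutes' := hγalg }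
  have hγ : Function.Surjective γ := (hβ.comp (rho_surjective P n)).comp e.surjective
  have hK := Groth.Agent.Lib.Helper5.KzPres.main A B N _ α hα γ hγ hKα
  rw [kr_iff] at hK
  have hker : RingHom.ker γ.toRingHom =
      ((RingHom.ker β.toRingHom).comap (rho P n)).comap (e.toRingEquiv : _ →+* _) := by
    rw [RingHom.comap_ker, RingHom.comap_ker]
  rw [hker] at hK
  exact kr_of_comap_ringEquiv _ _ hK

theorem isLCIHom_of_comp_of_isStandardSmooth {A E B : Type u} [CommRing A] [CommRing E]
    [CommRing B] (φ : A →+* E) (ψ : E →+* B) (hφ : φ.IsStandardSmooth)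
    (h : IsLCIHom (ψ.comp φ)) : IsLCIHom ψ := by
  letI := φ.toAlgebra
  letI := ψ.toAlgebra
  letI := (ψ.comp φ).toAlgebra
  haveI : IsScalarTower A E B := IsScalarTower.of_algebraMap_eq (fun _ => rfl)
  haveI : Algebra.IsStandardSmooth A E := hφ
  exact isLCI_of_isStandardSmooth_of_isLCI A E B h

end CancelThm

end Groth.Agent.Helper13SmKR
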