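import Groth.Agent.Lib.Helper13LciSmC

/-!
# lci morphisms of schemes: factorisation form vs affine-local form (helper13)

* `lciMor_comp`, `lciMor_of_comp_of_smooth` (cancellation), `locallyOfFiniteType_of_lciMor`.
* `lciMor_of_isKoszulAt`, `isKoszulAt_of_lciMor`: `f` is Koszul at every point (`Synt.IsKoszulAt`) iff `f` is lci
  in the affine-local sense (`Helper5.LciLocal.LciMor`).
-/

set_option autoImplicit false
set_option linter.style.haveILetI false
universe u

open MvPolynomial

namespace Groth.Agent.Helper13SmKR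


open Groth.Agent.Lib.Helper5.KindFlat Groth.Agent.Lib.Helper5.KzIdeal
open Groth.Agent.Lib.Helper5.LciLocal Groth.Agent.Lib.Helper5.LciComp
open Groth.Agent.Lib.Helper5.KzPres Groth.Agent.Lib.Helper5.ImmBC
open AlgebraicGeometry CategoryTheory

section Sch

instance : MorphismProperty.IsStableUnderComposition LciMor :=
  HasRingHomProperty.stableUnderComposition stableUnderComposition

theorem lciMor_comp {X Y S : Scheme.{u}} (f : X ⟶ Y) (g : Y ⟶ S) (hf : LciMor f) (hg : LciMor g) :
    LciMor (f ≫ g) :=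
  MorphismProperty.comp_mem _ f g hf hg

/-- **Cancellation**: `f ≫ g` lci and `g` smooth imply `f` lci. -/
theorem lciMor_of_comp_of_smooth {X Y S : Scheme.{u}} (f : X ⟶ Y) (g : Y ⟶ S) [Smooth g]
    (h : LciMor (f ≫ g)) : LciMor f := by
  rw [HasRingHomProperty.iff_exists_appLE (P := LciMor)
    (stableUnderComposition.stableUnderCompositionWithLocalizationAway
      holdsForLocalizationAway).left]
  intro x
  obtain ⟨U, hU, V, hV, hyV, e, hstd⟩ := Smooth.exists_isStandardSmooth g (f x)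
  obtain ⟨_, ⟨W, hW, rfl⟩, hxW, hWle⟩ := X.isBasis_affineOpens.exists_subset_of_mem_open
    (show x ∈ ((f ⁻¹ᵁ V : X.Opens) : Set X) from hyV) (f ⁻¹ᵁ V).2
  refine ⟨⟨V, hV⟩, ⟨W, hW⟩, hxW, hWle, ?_⟩
  have h1 := (lciMor_iff (f ≫ g)).1 h W U hW hU
    (le_trans hWle ((TopologicalSpace.Opens.map f.base).map (homOfLE e)).le)
  rw [← Scheme.Hom.appLE_comp_appLE f g U V W e hWle, CommRingCat.hom_comp] at h1
  exact isLCIHom_of_comp_of_isStandardSmooth _ _ hstd h1

/-- lci morphisms are locally of finite type -/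
theorem locallyOfFiniteType_of_lciMor {X Y : Scheme.{u}} (f : X ⟶ Y) (h : LciMor f) :
    LocallyOfFiniteType f := by
  rw [HasRingHomProperty.iff_appLE (P := @LocallyOfFiniteType)]
  intro U V e
  have h1 := (lciMor_iff f).1 h V.1 U.1 V.2 U.2 e
  letI := (f.appLE U.1 V.1 e).hom.toAlgebra
  exact h1.1

/-- a morphism which is Koszul at every point is lci -/
theorem lciMor_of_isKoszulAt {X S : Scheme.{u}} (f : X ⟶ S) (h : ∀ x : X, Synt.IsKoszulAt f x) :
    LciMor f := by
  choose U P i π hxU _ hi hπ hfac using h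
  apply IsZariskiLocalAtSource.of_iSup_eq_top U
  · rw [eq_top_iff]
    intro x _
    exact TopologicalSpace.Opens.mem_iSup.mpr ⟨x, hxU x⟩
  · intro x
    rw [← hfac x]
    haveI := hπ x
    exact lciMor_comp _ _ (lciMor_of_isRegularImmersion _ (hi x)) (lciMor_of_smooth (π x))

end Sch



open Groth.Agent.Lib.Helper5.KindFlat Groth.Agent.Lib.Helper5.KzIdeal
open Groth.Agent.Lib.Helper5.LciLocal Groth.Agent.Lib.Helper5.LciComp
open Groth.Agent.Lib.Helper5.KzPres Groth.Agent.Lib.Helper5.ImmBC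
open AlgebraicGeometry CategoryTheory

section Sch

theorem smooth_SpecMap_C (R : Type u) [CommRing R] (n : ℕ) :
    Smooth (Spec.map (CommRingCat.ofHom
      (C : R →+* MvPolynomial (Fin n) R))) := by
  rw [HasRingHomProperty.Spec_iff (P := @Smooth)]
  have : (C : R →+* MvPolynomial (Fin n) R) = algebraMap R (MvPolynomial (Fin n) R) := rfl
  rw [CommRingCat.hom_ofHom, this, RingHom.smooth_algebraMap]
  exact {}

/-- an lci morphism is Koszul at every point (factorisation form) -/
theorem isKoszulAt_of_lciMor {X S : Scheme.{u}} (f : X ⟶ S) (h : LciMor f) (x : X) :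
    Synt.IsKoszulAt f x := by
  obtain ⟨_, ⟨V, hV, rfl⟩, hfxV, -⟩ := S.isBasis_affineOpens.exists_subset_of_mem_open
    (Set.mem_univ (f x)) isOpen_univ
  obtain ⟨_, ⟨U, hU, rfl⟩, hxU, hUle⟩ := X.isBasis_affineOpens.exists_subset_of_mem_open
    (show x ∈ ((f ⁻¹ᵁ V : X.Opens) : Set X) from hfxV) (f ⁻¹ᵁ V).2
  have h1 := (lciMor_iff f).1 h U V hU hV hUle
  letI := (f.appLE V U hUle).hom.toAlgebra
  obtain ⟨hft, n, α, hα, hK⟩ := h1
  let π : Spec (CommRingCat.of (MvPolynomial (Fin n) Γ(S, V))) ⟶ S :=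
    Spec.map (CommRingCat.ofHom (C : Γ(S, V) →+* MvPolynomial (Fin n) Γ(S, V))) ≫ hV.fromSpec
  let i : (U : Scheme.{u}) ⟶ Spec (CommRingCat.of (MvPolynomial (Fin n) Γ(S, V))) :=
    hU.isoSpec.hom ≫ Spec.map (CommRingCat.ofHom α.toRingHom)
  haveI hcl : IsClosedImmersion (Spec.map (CommRingCat.ofHom α.toRingHom)) :=
    IsClosedImmersion.spec_of_surjective _ hα
  refine ⟨U, _, i, π, hxU, ?_, ?_, ?_, ?_⟩
  · haveI := locallyOfFiniteType_of_lciMor f h
    infer_instance
  · haveI : IsImmersion i := by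
      show IsImmersion (hU.isoSpec.hom ≫ Spec.map (CommRingCat.ofHom α.toRingHom))
      infer_instance
    apply isRegularImmersion_of_lciMor
    show LciMor (hU.isoSpec.hom ≫ Spec.map (CommRingCat.ofHom α.toRingHom))
    rw [MorphismProperty.cancel_left_of_respectsIso (P := LciMor),
      HasRingHomProperty.Spec_iff (P := LciMor), CommRingCat.hom_ofHom,
      isLCIHom_iff_of_surjective _ hα]
    exact hK
  · haveI := smooth_SpecMap_C Γ(S, V) n
    show Smooth (Spec.map (CommRingCat.ofHom (C : Γ(S, V) →+* MvPolynomial (Fin n) Γ(S, V))) ≫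
      hV.fromSpec)
    infer_instance
  · show (hU.isoSpec.hom ≫ Spec.map (CommRingCat.ofHom α.toRingHom)) ≫
      Spec.map (CommRingCat.ofHom (C : Γ(S, V) →+* MvPolynomial (Fin n) Γ(S, V))) ≫ hV.fromSpec =
      Scheme.Opens.ι U ≫ f
    rw [Category.assoc, ← Spec.map_comp_assoc]
    have hcomp : CommRingCat.ofHom (C : Γ(S, V) →+* MvPolynomial (Fin n) Γ(S, V)) ≫
        CommRingCat.ofHom α.toRingHom = f.appLE V U hUle := by
      ext a
      exact α.commutes a
    rw [hcomp, IsAffineOpen.SpecMap_appLE_fromSpec f hV hU hUle, ← Category.assoc,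
      IsAffineOpen.isoSpec_hom_fromSpec]

end Sch

end Groth.Agent.Helper13SmKR
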