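import Groth.Agent.Lib.Helper13EtDescC
import Groth.Agent.Lib.Helper13LciSmD
import Groth.Agent.Lib.Helper12EtaleNbhdLiftGen
import Groth.Agent.Lib.Helper20EtSrc

/-!
# lci morphisms are étale-local on the source (helper13)
-/

set_option autoImplicit false
set_option linter.style.haveILetI false
universe u

open AlgebraicGeometry CategoryTheory CategoryTheory.Limits TopologicalSpace MvPolynomial

namespace Groth.Agent.Helper13LciSrc

open Groth.Agent.Lib.Helper5.LciLocal Groth.Agent.Helper13SmKR Groth.Agent.Helper13EtDesc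

/-- **lci morphisms descend along étale covers of the source** -/
theorem lciMor_of_etale_cover_source {A B C : Scheme.{u}} (e : A ⟶ B) [Etale e] [Surjective e]
    (k : B ⟶ C) (h : LciMor (e ≫ k)) : LciMor k := by
  haveI : LocallyOfFiniteType (e ≫ k) := locallyOfFiniteType_of_lciMor _ h
  haveI hlft : LocallyOfFiniteType k :=
    Groth.Agent.Lib.Helper20.EtSrc.locallyOfFiniteType_of_etale_cover_source e k
  apply lciMor_of_isKoszulAt
  intro b
  obtain ⟨_, ⟨V, hV, rfl⟩, hkbV, -⟩ := C.isBasis_affineOpens.exists_subset_of_mem_open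
    (Set.mem_univ (k b)) isOpen_univ
  obtain ⟨_, ⟨U, hU, rfl⟩, hbU, hUle⟩ := B.isBasis_affineOpens.exists_subset_of_mem_open
    (show b ∈ ((k ⁻¹ᵁ V : B.Opens) : Set B) from hkbV) (k ⁻¹ᵁ V).2
  have hft : (k.appLE V U hUle).hom.FiniteType :=
    HasRingHomProperty.appLE (P := @LocallyOfFiniteType) k inferInstance ⟨V, hV⟩ ⟨U, hU⟩ hUle
  letI := (k.appLE V U hUle).hom.toAlgebra
  have hft' : Algebra.FiniteType Γ(C, V) Γ(B, U) := hft
  obtain ⟨n, α, hα⟩ := Algebra.FiniteType.iff_quotient_mvPolynomial''.1 hft'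
  let π : Spec (CommRingCat.of (MvPolynomial (Fin n) Γ(C, V))) ⟶ C :=
    Spec.map (CommRingCat.ofHom (MvPolynomial.C : Γ(C, V) →+* MvPolynomial (Fin n) Γ(C, V))) ≫
      hV.fromSpec
  let i : (U : Scheme.{u}) ⟶ Spec (CommRingCat.of (MvPolynomial (Fin n) Γ(C, V))) :=
    hU.isoSpec.hom ≫ Spec.map (CommRingCat.ofHom α.toRingHom)
  haveI hcl : IsClosedImmersion (Spec.map (CommRingCat.ofHom α.toRingHom)) :=
    IsClosedImmersion.spec_of_surjective _ hα
  haveI hcli : IsClosedImmersion i := by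
    show IsClosedImmersion (hU.isoSpec.hom ≫ Spec.map (CommRingCat.ofHom α.toRingHom))
    infer_instance
  haveI hπ : Smooth π := by
    haveI := smooth_SpecMap_C Γ(C, V) n
    show Smooth (Spec.map (CommRingCat.ofHom
      (MvPolynomial.C : Γ(C, V) →+* MvPolynomial (Fin n) Γ(C, V))) ≫ hV.fromSpec)
    infer_instance
  have hfac : i ≫ π = Scheme.Opens.ι U ≫ k := by
    show (hU.isoSpec.hom ≫ Spec.map (CommRingCat.ofHom α.toRingHom)) ≫
      Spec.map (CommRingCat.ofHom (MvPolynomial.C : Γ(C, V) →+* MvPolynomial (Fin n) Γ(C, V))) ≫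
        hV.fromSpec = Scheme.Opens.ι U ≫ k
    rw [Category.assoc, ← Spec.map_comp_assoc]
    have hcomp : CommRingCat.ofHom
        (MvPolynomial.C : Γ(C, V) →+* MvPolynomial (Fin n) Γ(C, V)) ≫
        CommRingCat.ofHom α.toRingHom = k.appLE V U hUle := by
      ext a
      exact α.commutes a
    rw [hcomp, IsAffineOpen.SpecMap_appLE_fromSpec k hV hU hUle, ← Category.assoc,
      IsAffineOpen.isoSpec_hom_fromSpec]
  refine ⟨U, _, i, π, hbU, inferInstance, ⟨inferInstance, fun z => ?_⟩, hπ, hfac⟩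
  -- regularity of `i` at `z`
  obtain ⟨a, ha⟩ := Scheme.Hom.surjective e z.1
  let eU : ((e ⁻¹ᵁ U : A.Opens) : Scheme.{u}) ⟶ (U : Scheme.{u}) := e ∣_ U
  haveI : Etale eU := inferInstanceAs (Etale (e ∣_ U))
  have haU : a ∈ e ⁻¹ᵁ U := by
    change e a ∈ U
    rw [ha]
    exact z.2
  obtain ⟨W, W₀, c, i₀, r, hW, hc, hpb, ⟨w₀, hw₀⟩⟩ :=
    Groth.Agent.Lib.Helper12.EtaleNbhdLiftGen.exists_lift_etale_nbhd i eU ⟨a, haU⟩
  haveI := hc
  haveI : IsClosedImmersion i₀ :=
    MorphismProperty.of_isPullback (P := @IsClosedImmersion) hpb.flip hcli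
  haveI : Etale (r ≫ eU) := MorphismProperty.of_isPullback (P := @Etale) hpb hc
  haveI : Etale r := MorphismProperty.of_postcomp (W := @Etale) (W' := @Etale) r eU
    inferInstance inferInstance
  have hlci : LciMor (i₀ ≫ c ≫ π) := by
    have e1 : i₀ ≫ c ≫ π = (r ≫ Scheme.Opens.ι (e ⁻¹ᵁ U)) ≫ (e ≫ k) := by
      rw [← Category.assoc, hpb.w, Category.assoc, Category.assoc, hfac]
      have : eU ≫ Scheme.Opens.ι U = Scheme.Opens.ι (e ⁻¹ᵁ U) ≫ e := morphismRestrict_ι e U
      rw [← Category.assoc eU, this, Category.assoc, Category.assoc]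
    rw [e1]
    exact lciMor_comp _ _ (lciMor_of_smooth _) h
  have hlci0 : LciMor i₀ := lciMor_of_comp_of_smooth i₀ (c ≫ π) hlci
  have hreg := (isRegularImmersion_of_lciMor i₀ hlci0).2
  have hz : i z ∈ Set.range c := by
    refine ⟨i₀ w₀, ?_⟩
    have h1 : c (i₀ w₀) = i ((r ≫ eU) w₀) := by
      rw [← Scheme.Hom.comp_apply, hpb.w, Scheme.Hom.comp_apply]
    have h2 : (r ≫ eU) w₀ = z := by
      rw [Scheme.Hom.comp_apply, hw₀]
      apply Subtype.ext
      have := congr($(morphismRestrict_ι e U) ⟨a, haU⟩)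
      exact this.trans ha
    rw [h1, h2]
  exact isRegularImmersionAt_koszul_of_flat_open i c c.isOpenMap i₀ (r ≫ eU) hpb.flip hreg z hz

end Groth.Agent.Helper13LciSrc
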