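import Mathlib

/-!
# Injectivity of `M' ⊗ N → M' ⊗ P` for a localization `M'` of `M''` over an algebra (helper13)
-/

set_option autoImplicit false
universe u

namespace Groth.Agent.Helper13LocTensor

open TensorProduct

variable {R' T : Type u} [CommRing R'] [CommRing T] [Algebra R' T] (W : Submonoid T)
  {M'' M' : Type u} [AddCommGroup M''] [AddCommGroup M'] [Module T M''] [Module T M']
  [Module R' M''] [Module R' M'] [IsScalarTower R' T M''] [IsScalarTower R' T M']
  (g : M'' →ₗ[T] M')
  {N P : Type u} [AddCommGroup N] [AddCommGroup P] [Module R' N] [Module R' P] (u : N →ₗ[R'] P)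

theorem rTensor_lTensor_comm (x : M'' ⊗[R'] N) :
    AlgebraTensorModule.rTensor R' P g (u.lTensor M'' x) =
      u.lTensor M' (AlgebraTensorModule.rTensor R' N g x) := by
  induction x using TensorProduct.induction_on with
  | zero => simp
  | tmul m n => simp
  | add x y hx hy => simp only [map_add, hx, hy]

/-- Let `g : M'' → M'` be a localization (at `W ⊆ T`) of `T`-modules, `T` an `R'`-algebra, and
`u : N → P` an `R'`-linear map. If every element of the kernel of `M'' ⊗ N → M'' ⊗ P` dies in
`M' ⊗ N`, then `M' ⊗ N → M' ⊗ P` is injective. -/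
theorem lTensor_injective_of_localized [IsLocalizedModule W g]
    (h : ∀ x : M'' ⊗[R'] N, u.lTensor M'' x = 0 → AlgebraTensorModule.rTensor R' N g x = 0) :
    Function.Injective (u.lTensor M') := by
  rw [injective_iff_map_eq_zero]
  intro z hz
  obtain ⟨⟨x, w⟩, hxw⟩ := IsLocalizedModule.surj W (AlgebraTensorModule.rTensor R' N g) z
  change w • z = AlgebraTensorModule.rTensor R' N g x at hxw
  rw [Submonoid.smul_def] at hxw
  have h1 : AlgebraTensorModule.rTensor R' P g (u.lTensor M'' x) = 0 := by
    rw [rTensor_lTensor_comm, ← hxw, ← AlgebraTensorModule.coe_lTensor (A := T), map_smul,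
      AlgebraTensorModule.coe_lTensor, hz, smul_zero]
  have h1' : AlgebraTensorModule.rTensor R' P g (u.lTensor M'' x) =
      AlgebraTensorModule.rTensor R' P g 0 := by rw [h1, map_zero]
  obtain ⟨w', hw'⟩ := IsLocalizedModule.exists_of_eq (S := W) h1'
  rw [smul_zero, Submonoid.smul_def] at hw'
  have h2 : u.lTensor M'' ((w' : T) • x) = 0 := by
    rw [← AlgebraTensorModule.coe_lTensor (A := T), map_smul, AlgebraTensorModule.coe_lTensor]
    exact hw'
  have h3 := h _ h2
  rw [map_smul, ← hxw] at h3
  have h4 := IsLocalizedModule.smul_injective (AlgebraTensorModule.rTensor R' N g) w'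
    (h3.trans (smul_zero w').symm)
  exact IsLocalizedModule.smul_injective (AlgebraTensorModule.rTensor R' N g) w
    (h4.trans (smul_zero w).symm)

end Groth.Agent.Helper13LocTensor
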