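import Groth.Prelude.Def_EtMil
import Mathlib

/-!
# Helper22: modules over a fibre product of rings (Milnor squares)

Basic facts about `EtMil.IsFibreSquare B' B A' A` (`B' = B ×_A A'` with `A' → A` surjective).
-/

set_option autoImplicit false

namespace Groth.Agent.Lib.Helper22

open TensorProduct

section General

variable {R S M : Type*} [CommRing R] [CommRing S] [Algebra R S] [AddCommGroup M] [Module R M]

/-- If `R → S` is surjective and `1 ⊗ m = 0` in `S ⊗ M`, then `m ∈ (ker) • ⊤`. -/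
theorem mem_ker_smul_top_of_one_tmul_eq_zero (hs : Function.Surjective (algebraMap R S)) (m : M)
    (h : ((1 : S) ⊗ₜ[R] m : S ⊗[R] M) = 0) :
    m ∈ (RingHom.ker (algebraMap R S)) • (⊤ : Submodule R M) := by
  set J := RingHom.ker (algebraMap R S) with hJ
  let g : R →ₗ[R] M →ₗ[R] (M ⧸ (J • (⊤ : Submodule R M))) :=
    LinearMap.toSpanSingleton R _ (Submodule.mkQ _)
  have hs' : Function.Surjective (Algebra.linearMap R S) := hs
  have hle : LinearMap.ker (Algebra.linearMap R S) ≤ LinearMap.ker g := by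
    intro r hr
    rw [LinearMap.mem_ker, Algebra.linearMap_apply] at hr
    rw [LinearMap.mem_ker]
    ext x
    rw [LinearMap.toSpanSingleton_apply, LinearMap.smul_apply, LinearMap.zero_apply,
      Submodule.mkQ_apply, ← Submodule.Quotient.mk_smul, Submodule.Quotient.mk_eq_zero]
    exact Submodule.smul_mem_smul (by rw [hJ, RingHom.mem_ker]; exact hr) Submodule.mem_top
  let e := LinearMap.quotKerEquivOfSurjective (Algebra.linearMap R S) hs'
  let φ0 : S →ₗ[R] M →ₗ[R] (M ⧸ (J • (⊤ : Submodule R M))) :=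
    (Submodule.liftQ _ g hle).comp e.symm.toLinearMap
  have h1 : e.symm 1 = Submodule.Quotient.mk 1 := by
    rw [LinearEquiv.symm_apply_eq, LinearMap.quotKerEquivOfSurjective_apply_mk,
      Algebra.linearMap_apply, map_one]
  have hφ : φ0 1 = Submodule.mkQ _ := by
    show (Submodule.liftQ _ g hle) (e.symm 1) = _
    rw [h1, Submodule.liftQ_apply, LinearMap.toSpanSingleton_apply, one_smul]
  have h2 : TensorProduct.lift φ0 ((1 : S) ⊗ₜ[R] m) = Submodule.Quotient.mk m := by
    rw [TensorProduct.lift.tmul, hφ, Submodule.mkQ_apply]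
  rw [h, map_zero] at h2
  exact (Submodule.Quotient.mk_eq_zero _).mp h2.symm

/-- If `S ⊗ M` is a finite `S`-module there is a finitely generated submodule `N` of `M` such that
for every `N' ≥ N` all `1 ⊗ [m]` vanish in `S ⊗ (M ⧸ N')`. -/
theorem exists_fg_forall_one_tmul_mkQ_eq_zero (R S M : Type*) [CommRing R] [CommRing S]
    [Algebra R S] [AddCommGroup M] [Module R M] [Module.Finite S (S ⊗[R] M)] :
    ∃ N : Submodule R M, N.FG ∧ ∀ N' : Submodule R M, N ≤ N' → ∀ m : M,
      ((1 : S) ⊗ₜ[R] (N'.mkQ m) : S ⊗[R] (M ⧸ N')) = 0 := by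
  obtain ⟨t, ht⟩ := (Module.Finite.fg_top : (⊤ : Submodule S (S ⊗[R] M)).FG)
  obtain ⟨N, hN, hsub⟩ := TensorProduct.exists_finite_submodule_right_of_setFinite
    (↑t : Set (S ⊗[R] M)) t.finite_toSet
  refine ⟨N, Module.Finite.iff_fg.mp hN, ?_⟩
  intro N' hle m
  have hK : (⊤ : Submodule S (S ⊗[R] M)) ≤ LinearMap.ker (LinearMap.baseChange S N'.mkQ) := by
    rw [← ht, Submodule.span_le]
    intro x hx
    obtain ⟨y, rfl⟩ := hsub hx
    have h0 : N'.mkQ ∘ₗ N.subtype = 0 := by
      ext n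
      simp only [LinearMap.comp_apply, Submodule.subtype_apply, Submodule.mkQ_apply,
        LinearMap.zero_apply, Submodule.Quotient.mk_eq_zero]
      exact hle n.2
    rw [SetLike.mem_coe, LinearMap.mem_ker]
    show (LinearMap.lTensor S N'.mkQ) ((LinearMap.lTensor S N.subtype) y) = 0
    rw [← LinearMap.comp_apply, ← LinearMap.lTensor_comp, h0, LinearMap.lTensor_zero,
      LinearMap.zero_apply]
  have := hK (Submodule.mem_top : (1 : S) ⊗ₜ[R] m ∈ ⊤)
  rwa [LinearMap.mem_ker, LinearMap.baseChange_tmul] at this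

end General

universe u

variable {B' B A' A : Type u} [CommRing B'] [CommRing B] [CommRing A'] [CommRing A]
  [Algebra B' B] [Algebra B' A'] [Algebra B A] [Algebra A' A] [Algebra B' A]
  [IsScalarTower B' B A] [IsScalarTower B' A' A]

/-- Elements of `B'` are determined by their images in `B` and `A'`. -/
theorem fs_ext (hsq : EtMil.IsFibreSquare B' B A' A) {x y : B'}
    (h1 : algebraMap B' B x = algebraMap B' B y) (h2 : algebraMap B' A' x = algebraMap B' A' y) :
    x = y := by
  have hcomm : algebraMap B A (algebraMap B' B y) = algebraMap A' A (algebraMap B' A' y) := by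
    rw [← IsScalarTower.algebraMap_apply, ← IsScalarTower.algebraMap_apply]
  obtain ⟨z, _, hz⟩ := hsq.2 _ _ hcomm
  rw [hz x ⟨h1, h2⟩, hz y ⟨rfl, rfl⟩]

/-- `B' → B` is surjective. -/
theorem fs_surjective (hsq : EtMil.IsFibreSquare B' B A' A) :
    Function.Surjective (algebraMap B' B) := by
  intro b
  obtain ⟨a', ha'⟩ := hsq.1 (algebraMap B A b)
  obtain ⟨b', ⟨hb', _⟩, _⟩ := hsq.2 b a' ha'.symm
  exact ⟨b', hb'⟩

/-- Elements of `ker (A' → A)` lift uniquely to `ker (B' → B)`. -/
theorem fs_exists_lift_ker (hsq : EtMil.IsFibreSquare B' B A' A) (a' : A')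
    (ha : algebraMap A' A a' = 0) :
    ∃ b' : B', algebraMap B' B b' = 0 ∧ algebraMap B' A' b' = a' := by
  obtain ⟨b', ⟨h1, h2⟩, _⟩ := hsq.2 0 a' (by rw [map_zero, ha])
  exact ⟨b', h1, h2⟩

theorem fs_ker_aux (j : B') (hj : algebraMap B' B j = 0) (a' : A') :
    algebraMap A' A (a' * algebraMap B' A' j) = 0 := by
  rw [map_mul, ← IsScalarTower.algebraMap_apply, IsScalarTower.algebraMap_apply B' B A, hj,
    map_zero, mul_zero]

/-- For `j ∈ ker (B' → B)`, multiplication by `j` extends to a `B'`-linear map `A' → B'`. -/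
noncomputable def jmap (hsq : EtMil.IsFibreSquare B' B A' A) (j : B')
    (hj : algebraMap B' B j = 0) : A' →ₗ[B'] B' where
  toFun a' := (fs_exists_lift_ker hsq (a' * algebraMap B' A' j) (fs_ker_aux j hj a')).choose
  map_add' x y := by
    apply fs_ext hsq
    · rw [map_add, (fs_exists_lift_ker hsq _ (fs_ker_aux j hj (x + y))).choose_spec.1,
        (fs_exists_lift_ker hsq _ (fs_ker_aux j hj x)).choose_spec.1,
        (fs_exists_lift_ker hsq _ (fs_ker_aux j hj y)).choose_spec.1, add_zero]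
    · rw [map_add, (fs_exists_lift_ker hsq _ (fs_ker_aux j hj (x + y))).choose_spec.2,
        (fs_exists_lift_ker hsq _ (fs_ker_aux j hj x)).choose_spec.2,
        (fs_exists_lift_ker hsq _ (fs_ker_aux j hj y)).choose_spec.2, add_mul]
  map_smul' c x := by
    apply fs_ext hsq
    · rw [RingHom.id_apply, smul_eq_mul, map_mul,
        (fs_exists_lift_ker hsq _ (fs_ker_aux j hj (c • x))).choose_spec.1,
        (fs_exists_lift_ker hsq _ (fs_ker_aux j hj x)).choose_spec.1, mul_zero]
    · rw [RingHom.id_apply, smul_eq_mul, map_mul,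
        (fs_exists_lift_ker hsq _ (fs_ker_aux j hj (c • x))).choose_spec.2,
        (fs_exists_lift_ker hsq _ (fs_ker_aux j hj x)).choose_spec.2, Algebra.smul_def, mul_assoc]

theorem jmap_algebraMap_B (hsq : EtMil.IsFibreSquare B' B A' A) (j : B')
    (hj : algebraMap B' B j = 0) (a' : A') : algebraMap B' B (jmap hsq j hj a') = 0 :=
  (fs_exists_lift_ker hsq _ (fs_ker_aux j hj a')).choose_spec.1

theorem jmap_algebraMap_A' (hsq : EtMil.IsFibreSquare B' B A' A) (j : B')
    (hj : algebraMap B' B j = 0) (a' : A') :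
    algebraMap B' A' (jmap hsq j hj a') = a' * algebraMap B' A' j :=
  (fs_exists_lift_ker hsq _ (fs_ker_aux j hj a')).choose_spec.2

theorem jmap_one (hsq : EtMil.IsFibreSquare B' B A' A) (j : B')
    (hj : algebraMap B' B j = 0) : jmap hsq j hj 1 = j := by
  apply fs_ext hsq
  · rw [jmap_algebraMap_B, hj]
  · rw [jmap_algebraMap_A', one_mul]

variable {L' : Type*} [AddCommGroup L'] [Module B' L']

/-- If `1 ⊗ l = 0` in `A' ⊗ L'` then `ker (B' → B)` kills `l`. -/
theorem fs_smul_eq_zero_of_one_tmul_eq_zero (hsq : EtMil.IsFibreSquare B' B A' A) (l : L')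
    (h2 : ((1 : A') ⊗ₜ[B'] l : A' ⊗[B'] L') = 0) (j : B') (hj : algebraMap B' B j = 0) :
    j • l = 0 := by
  have h : TensorProduct.lift ((LinearMap.lsmul B' L').comp (jmap hsq j hj)) ((1 : A') ⊗ₜ[B'] l)
      = j • l := by
    rw [TensorProduct.lift.tmul, LinearMap.comp_apply, jmap_one, LinearMap.lsmul_apply]
  rw [← h, h2, map_zero]

/-- If `1 ⊗ l = 0` in `B ⊗ L'` then `l ∈ J L'`. -/
theorem fs_mem_smul_top_of_one_tmul_eq_zero (hsq : EtMil.IsFibreSquare B' B A' A) (l : L')
    (h1 : ((1 : B) ⊗ₜ[B'] l : B ⊗[B'] L') = 0) :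
    l ∈ (RingHom.ker (algebraMap B' B)) • (⊤ : Submodule B' L') :=
  mem_ker_smul_top_of_one_tmul_eq_zero (fs_surjective hsq) l h1

/-- An element in the kernel of `L' → (B ⊗ L') × (A' ⊗ L')` which lies in `J • N` for a submodule
`N` all of whose elements die in `A' ⊗ L'` is zero; in particular: -/
theorem fs_eq_zero_of_forall (hsq : EtMil.IsFibreSquare B' B A' A)
    (hA : ∀ l : L', ((1 : A') ⊗ₜ[B'] l : A' ⊗[B'] L') = 0)
    (l : L') (h1 : ((1 : B) ⊗ₜ[B'] l : B ⊗[B'] L') = 0) : l = 0 := by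
  have hl := fs_mem_smul_top_of_one_tmul_eq_zero hsq l h1
  exact Submodule.smul_induction_on hl
    (fun j hj n _ => fs_smul_eq_zero_of_one_tmul_eq_zero hsq n (hA n) j hj)
    (fun x y hx hy => by rw [hx, hy, add_zero])

end Groth.Agent.Lib.Helper22
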