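import Groth.Agent.Lib.Helper22Milnor

/-!
# Helper22: the glued module `N ×_φ M'` over a fibre product of rings recovers `N` and `M'`
-/

set_option autoImplicit false

namespace Groth.Agent.Lib.Helper22

open TensorProduct

theorem one_tmul_eq_zero_of_mem_ker_smul {R S M : Type*} [CommRing R] [CommRing S] [Algebra R S]
    [AddCommGroup M] [Module R M] (y : M)
    (hy : y ∈ (RingHom.ker (algebraMap R S)) • (⊤ : Submodule R M)) :
    ((1 : S) ⊗ₜ[R] y : S ⊗[R] M) = 0 := by
  refine Submodule.smul_induction_on hy ?_ ?_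
  · intro j hj m _
    rw [← TensorProduct.smul_tmul, Algebra.smul_def, RingHom.mem_ker.mp hj, zero_mul,
      TensorProduct.zero_tmul]
  · intro a b ha hb
    rw [TensorProduct.tmul_add, ha, hb, add_zero]

universe u

variable {B' B A' A : Type u} [CommRing B'] [CommRing B] [CommRing A'] [CommRing A]
  [Algebra B' B] [Algebra B' A'] [Algebra B A] [Algebra A' A] [Algebra B' A]
  [IsScalarTower B' B A] [IsScalarTower B' A' A]
  {N M' : Type u} [AddCommGroup N] [Module B N] [Module B' N] [IsScalarTower B' B N]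
  [AddCommGroup M'] [Module A' M'] [Module B' M'] [IsScalarTower B' A' M']
  (φ : A ⊗[B] N ≃ₗ[A] A ⊗[A'] M')

theorem mem_glue_iff (x : N × M') :
    x ∈ EtMil.glue B' φ ↔ φ ((1 : A) ⊗ₜ[B] x.1) = (1 : A) ⊗ₜ[A'] x.2 := Iff.rfl

theorem glue_exists_snd (hsq : EtMil.IsFibreSquare B' B A' A) (n : N) :
    ∃ m' : M', (n, m') ∈ EtMil.glue B' φ := by
  obtain ⟨m', hm'⟩ := TensorProduct.mk_surjective A' M' A hsq.1 (φ ((1 : A) ⊗ₜ[B] n))
  exact ⟨m', hm'.symm⟩

theorem glue_zero_smul_mem (i : A') (hi : algebraMap A' A i = 0) (m' : M') :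
    ((0 : N), i • m') ∈ EtMil.glue B' φ := by
  show φ ((1 : A) ⊗ₜ[B] (0 : N)) = (1 : A) ⊗ₜ[A'] (i • m')
  rw [TensorProduct.tmul_zero, map_zero, ← TensorProduct.smul_tmul, Algebra.smul_def, mul_one, hi,
    TensorProduct.zero_tmul]

theorem glue_span_snd (hsq : EtMil.IsFibreSquare B' B A' A) :
    Submodule.span A' (Set.range (EtMil.glueSnd B' φ)) = ⊤ := by
  set S := Submodule.span A' (Set.range (EtMil.glueSnd B' φ)) with hS
  have h1 : ∀ t : A ⊗[B] N, ∃ s ∈ S, φ t = (1 : A) ⊗ₜ[A'] s := by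
    intro t
    induction t using TensorProduct.induction_on with
    | zero => exact ⟨0, S.zero_mem, by rw [map_zero, TensorProduct.tmul_zero]⟩
    | tmul a n =>
      obtain ⟨a', rfl⟩ := hsq.1 a
      obtain ⟨m0, hm0⟩ := glue_exists_snd φ hsq n
      refine ⟨a' • m0, S.smul_mem a' (Submodule.subset_span ⟨⟨(n, m0), hm0⟩, rfl⟩), ?_⟩
      have e : (algebraMap A' A a') ⊗ₜ[B] n = (algebraMap A' A a') • ((1 : A) ⊗ₜ[B] n) := by
        rw [TensorProduct.smul_tmul', smul_eq_mul, mul_one]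
      rw [e, map_smul, (mem_glue_iff φ _).mp hm0, TensorProduct.smul_tmul', smul_eq_mul, mul_one,
        ← TensorProduct.smul_tmul, Algebra.smul_def, mul_one]
    | add x y hx hy =>
      obtain ⟨s1, hs1, e1⟩ := hx
      obtain ⟨s2, hs2, e2⟩ := hy
      exact ⟨s1 + s2, S.add_mem hs1 hs2, by rw [map_add, e1, e2, TensorProduct.tmul_add]⟩
  rw [eq_top_iff]
  intro m' _
  obtain ⟨s, hs, e⟩ := h1 (φ.symm ((1 : A) ⊗ₜ[A'] m'))
  rw [LinearEquiv.apply_symm_apply] at e
  have h0 : ((1 : A) ⊗ₜ[A'] (m' - s) : A ⊗[A'] M') = 0 := by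
    rw [TensorProduct.tmul_sub, e, sub_self]
  have h2 := mem_ker_smul_top_of_one_tmul_eq_zero hsq.1 (m' - s) h0
  have h3 : m' - s ∈ S := by
    refine Submodule.smul_induction_on h2 ?_ ?_
    · intro i hi m'' _
      exact Submodule.subset_span
        ⟨⟨(0, i • m''), glue_zero_smul_mem φ i (RingHom.mem_ker.mp hi) m''⟩, rfl⟩
    · intro x y hx hy
      exact S.add_mem hx hy
  have := S.add_mem h3 hs
  rwa [sub_add_cancel] at this

theorem glue_exists_mem_smul (hsq : EtMil.IsFibreSquare B' B A' A) (m' : M') :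
    ∀ i : A', algebraMap A' A i = 0 →
      ∃ y ∈ (RingHom.ker (algebraMap B' B)) • (⊤ : Submodule B' (EtMil.glue B' φ)),
        (y : N × M') = (0, i • m') := by
  have hm : m' ∈ Submodule.span A' (Set.range (EtMil.glueSnd B' φ)) := by
    rw [glue_span_snd φ hsq]; trivial
  induction hm using Submodule.span_induction with
  | mem m hm =>
    obtain ⟨x, rfl⟩ := hm
    intro i hi
    obtain ⟨j, hj1, hj2⟩ := fs_exists_lift_ker hsq i hi
    refine ⟨j • x, Submodule.smul_mem_smul (RingHom.mem_ker.mpr hj1) Submodule.mem_top, ?_⟩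
    rw [Submodule.coe_smul]
    apply Prod.ext
    · show j • (x : N × M').1 = 0
      rw [← algebraMap_smul B j, hj1, zero_smul]
    · show j • (x : N × M').2 = i • (EtMil.glueSnd B' φ x)
      rw [← algebraMap_smul A' j, hj2]
      rfl
  | zero =>
    intro i _
    exact ⟨0, Submodule.zero_mem _, by rw [smul_zero]; rfl⟩
  | add x y _ _ hx hy =>
    intro i hi
    obtain ⟨y1, h1, e1⟩ := hx i hi
    obtain ⟨y2, h2, e2⟩ := hy i hi
    refine ⟨y1 + y2, Submodule.add_mem _ h1 h2, ?_⟩
    rw [Submodule.coe_add, e1, e2, smul_add, Prod.mk_add_mk, add_zero]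
  | smul a x _ hx =>
    intro i hi
    obtain ⟨y1, h1, e1⟩ := hx (i * a) (by rw [map_mul, hi, zero_mul])
    exact ⟨y1, h1, by rw [e1, smul_smul]⟩

theorem glue_fst_eq_zero_of_mem_smul
    (y : EtMil.glue B' φ)
    (hy : y ∈ (RingHom.ker (algebraMap B' B)) • (⊤ : Submodule B' (EtMil.glue B' φ))) :
    (y : N × M').1 = 0 := by
  refine Submodule.smul_induction_on hy ?_ ?_
  · intro j hj x _
    rw [Submodule.coe_smul]
    show j • (x : N × M').1 = 0
    rw [← algebraMap_smul B j, RingHom.mem_ker.mp hj, zero_smul]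
  · intro a b ha hb
    rw [Submodule.coe_add, Prod.fst_add, ha, hb, add_zero]

theorem glue_mem_smul_of_fst_eq_zero (hsq : EtMil.IsFibreSquare B' B A' A)
    (x : EtMil.glue B' φ) (hx : (x : N × M').1 = 0) :
    x ∈ (RingHom.ker (algebraMap B' B)) • (⊤ : Submodule B' (EtMil.glue B' φ)) := by
  have hx2 : ((1 : A) ⊗ₜ[A'] (x : N × M').2 : A ⊗[A'] M') = 0 := by
    rw [← (mem_glue_iff φ _).mp x.2, hx, TensorProduct.tmul_zero, map_zero]
  have h2 := mem_ker_smul_top_of_one_tmul_eq_zero hsq.1 _ hx2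
  have key : ∀ m ∈ (RingHom.ker (algebraMap A' A)) • (⊤ : Submodule A' M'),
      ∃ y ∈ (RingHom.ker (algebraMap B' B)) • (⊤ : Submodule B' (EtMil.glue B' φ)),
        (y : N × M') = (0, m) := by
    intro m hm
    refine Submodule.smul_induction_on hm ?_ ?_
    · intro i hi m'' _
      exact glue_exists_mem_smul φ hsq m'' i (RingHom.mem_ker.mp hi)
    · rintro a b ⟨y1, h1, e1⟩ ⟨y2, h2, e2⟩
      refine ⟨y1 + y2, Submodule.add_mem _ h1 h2, ?_⟩
      rw [Submodule.coe_add, e1, e2, Prod.mk_add_mk, add_zero]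
  obtain ⟨y, hy, e⟩ := key _ h2
  have hxy : x = y := Subtype.ext (by rw [e]; exact Prod.ext hx rfl)
  rw [hxy]
  exact hy

/-- `B ⊗_{B'} (N ×_φ M') → N` is bijective. -/
theorem glue_fst_bijective (hsq : EtMil.IsFibreSquare B' B A' A) :
    Function.Bijective (LinearMap.liftBaseChange B (EtMil.glueFst B' φ)) := by
  constructor
  · rw [injective_iff_map_eq_zero]
    intro t ht
    obtain ⟨x, rfl⟩ := TensorProduct.mk_surjective B' (EtMil.glue B' φ) B (fs_surjective hsq) t
    rw [TensorProduct.mk_apply] at ht ⊢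
    rw [LinearMap.liftBaseChange_tmul, one_smul] at ht
    exact one_tmul_eq_zero_of_mem_ker_smul _ (glue_mem_smul_of_fst_eq_zero φ hsq x ht)
  · intro n
    obtain ⟨m', hm'⟩ := glue_exists_snd φ hsq n
    exact ⟨(1 : B) ⊗ₜ[B'] ⟨(n, m'), hm'⟩, by rw [LinearMap.liftBaseChange_tmul, one_smul]; rfl⟩

/-- `A' ⊗_{B'} (N ×_φ M') → M'` is bijective. -/
theorem glue_snd_bijective (hsq : EtMil.IsFibreSquare B' B A' A) :
    Function.Bijective (LinearMap.liftBaseChange A' (EtMil.glueSnd B' φ)) := by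
  constructor
  · -- injectivity
    let e1 : B ⊗[B'] (EtMil.glue B' φ) ≃ₗ[B] N :=
      LinearEquiv.ofBijective _ (glue_fst_bijective φ hsq)
    have he1 : ∀ x : EtMil.glue B' φ, e1 ((1 : B) ⊗ₜ[B'] x) = (x : N × M').1 := by
      intro x
      show (LinearMap.liftBaseChange B (EtMil.glueFst B' φ)) ((1 : B) ⊗ₜ[B'] x) = _
      rw [LinearMap.liftBaseChange_tmul, one_smul]
      rfl
    let Ξ : A ⊗[B'] (EtMil.glue B' φ) ≃ₗ[A] A ⊗[B] N :=
      (AlgebraTensorModule.cancelBaseChange B' B A A (EtMil.glue B' φ)).symm ≪≫ₗ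
        (AlgebraTensorModule.congr (LinearEquiv.refl A A) e1)
    have hΞ : ∀ (a : A) (x : EtMil.glue B' φ), Ξ (a ⊗ₜ[B'] x) = a ⊗ₜ[B] (x : N × M').1 := by
      intro a x
      show (AlgebraTensorModule.congr (LinearEquiv.refl A A) e1)
        ((AlgebraTensorModule.cancelBaseChange B' B A A (EtMil.glue B' φ)).symm (a ⊗ₜ[B'] x)) = _
      rw [AlgebraTensorModule.cancelBaseChange_symm_tmul, AlgebraTensorModule.congr_tmul, he1]
      rfl
    let π : A' →ₗ[B'] A := (IsScalarTower.toAlgHom B' A' A).toLinearMap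
    have hπ : ∀ a', π a' = algebraMap A' A a' := fun _ => rfl
    have hπsurj : Function.Surjective π := hsq.1
    have hcomp : ∀ t : A' ⊗[B'] (EtMil.glue B' φ),
        φ (Ξ (π.rTensor (EtMil.glue B' φ) t)) =
          (1 : A) ⊗ₜ[A'] (LinearMap.liftBaseChange A' (EtMil.glueSnd B' φ) t) := by
      intro t
      induction t using TensorProduct.induction_on with
      | zero => simp
      | tmul a' x =>
        rw [LinearMap.rTensor_tmul, hΞ, LinearMap.liftBaseChange_tmul, hπ]
        have e : (algebraMap A' A a') ⊗ₜ[B] (x : N × M').1 =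
            (algebraMap A' A a') • ((1 : A) ⊗ₜ[B] (x : N × M').1) := by
          rw [TensorProduct.smul_tmul', smul_eq_mul, mul_one]
        rw [e, map_smul, (mem_glue_iff φ _).mp x.2, TensorProduct.smul_tmul', smul_eq_mul, mul_one,
          ← TensorProduct.smul_tmul, Algebra.smul_def, mul_one]
        rfl
      | add x y hx hy =>
        rw [map_add, map_add, map_add, hx, hy, map_add, TensorProduct.tmul_add]
    have hex : Function.Exact ((LinearMap.ker π).subtype.rTensor (EtMil.glue B' φ))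
        (π.rTensor (EtMil.glue B' φ)) :=
      rTensor_exact _ (LinearMap.exact_subtype_ker_map π) hπsurj
    have hker : ∀ s : (LinearMap.ker π) ⊗[B'] (EtMil.glue B' φ),
        ∃ y ∈ (RingHom.ker (algebraMap B' B)) • (⊤ : Submodule B' (EtMil.glue B' φ)),
          (LinearMap.ker π).subtype.rTensor (EtMil.glue B' φ) s = (1 : A') ⊗ₜ[B'] y := by
      intro s
      induction s using TensorProduct.induction_on with
      | zero => exact ⟨0, Submodule.zero_mem _, by rw [map_zero, TensorProduct.tmul_zero]⟩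
      | tmul i x =>
        have hi : algebraMap A' A (i : A') = 0 := i.2
        obtain ⟨j, hj1, hj2⟩ := fs_exists_lift_ker hsq (i : A') hi
        refine ⟨j • x, Submodule.smul_mem_smul (RingHom.mem_ker.mpr hj1) Submodule.mem_top, ?_⟩
        rw [LinearMap.rTensor_tmul, Submodule.subtype_apply, ← TensorProduct.smul_tmul,
          Algebra.smul_def, mul_one, hj2]
      | add a b ha hb =>
        obtain ⟨y1, h1, e1⟩ := ha
        obtain ⟨y2, h2, e2⟩ := hb
        exact ⟨y1 + y2, Submodule.add_mem _ h1 h2, by rw [map_add, e1, e2, TensorProduct.tmul_add]⟩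
    rw [injective_iff_map_eq_zero]
    intro t ht
    have h1 : π.rTensor (EtMil.glue B' φ) t = 0 := by
      have := hcomp t
      rw [ht, TensorProduct.tmul_zero] at this
      have h' := φ.injective (this.trans (map_zero φ).symm)
      exact Ξ.injective (h'.trans (map_zero Ξ).symm)
    obtain ⟨s, rfl⟩ := (hex t).mp h1
    obtain ⟨y, hy, e⟩ := hker s
    rw [e] at ht ⊢
    rw [LinearMap.liftBaseChange_tmul, one_smul] at ht
    have hy1 : (y : N × M').1 = 0 := glue_fst_eq_zero_of_mem_smul φ y hy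
    have hy2 : (y : N × M').2 = 0 := ht
    have : y = 0 := Subtype.ext (Prod.ext hy1 hy2)
    rw [this, TensorProduct.tmul_zero]
  · rw [← LinearMap.range_eq_top, eq_top_iff, ← glue_span_snd φ hsq, Submodule.span_le]
    rintro _ ⟨x, rfl⟩
    exact ⟨(1 : A') ⊗ₜ[B'] x, by rw [LinearMap.liftBaseChange_tmul, one_smul]⟩

end Groth.Agent.Lib.Helper22
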