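import Groth.Agent.Lib.Helper22Milnor

/-!
# Helper22: flatness in short exact sequences; fibre squares of flat algebras
-/

set_option autoImplicit false

namespace Groth.Agent.Lib.Helper22

open TensorProduct

section General

variable {R : Type*} [CommRing R]
  {M' M M'' : Type*} [AddCommGroup M'] [AddCommGroup M] [AddCommGroup M'']
  [Module R M'] [Module R M] [Module R M'']

/-- In a short exact sequence `0 → M' → M → M'' → 0` with `M` and `M''` flat, `M'` is flat. -/
theorem flat_of_exact_of_flat_flat [Module.Flat R M] [Module.Flat R M'']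
    (ι : M' →ₗ[R] M) (δ : M →ₗ[R] M'') (hι : Function.Injective ι) (hδ : Function.Surjective δ)
    (hex : Function.Exact ι δ) : Module.Flat R M' := by
  rw [Module.Flat.iff_rTensor_injective']
  intro I
  have h1 : Function.Injective (ι.lTensor I) :=
    LinearMap.lTensor_injective_of_exact_of_flat δ hδ ι hι hex I
  have h2 : Function.Injective (LinearMap.rTensor M (Submodule.subtype I)) :=
    Module.Flat.rTensor_preserves_injective_linearMap _ (Submodule.subtype_injective I)
  have h3 : (LinearMap.rTensor M (Submodule.subtype I)) ∘ₗ (ι.lTensor I) =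
      (ι.lTensor R) ∘ₗ (LinearMap.rTensor M' (Submodule.subtype I)) := by
    rw [LinearMap.rTensor_comp_lTensor, LinearMap.lTensor_comp_rTensor]
  have h4 : Function.Injective ((ι.lTensor R) ∘ₗ (LinearMap.rTensor M' (Submodule.subtype I))) := by
    rw [← h3]
    exact h2.comp h1
  exact Function.Injective.of_comp h4

/-- In a short exact sequence `0 → M' → M → M'' → 0` with `M'` and `M''` flat, `M` is flat. -/
theorem flat_of_exact_of_flat_flat' [Module.Flat R M'] [Module.Flat R M'']
    (ι : M' →ₗ[R] M) (δ : M →ₗ[R] M'') (hι : Function.Injective ι) (hδ : Function.Surjective δ)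
    (hex : Function.Exact ι δ) : Module.Flat R M := by
  rw [Module.Flat.iff_rTensor_injective']
  intro I
  have hex2 : Function.Exact (ι.lTensor I) (δ.lTensor I) := lTensor_exact I hex hδ
  have h1 : Function.Injective (LinearMap.rTensor M' (Submodule.subtype I)) :=
    Module.Flat.rTensor_preserves_injective_linearMap _ (Submodule.subtype_injective I)
  have h2 : Function.Injective (LinearMap.rTensor M'' (Submodule.subtype I)) :=
    Module.Flat.rTensor_preserves_injective_linearMap _ (Submodule.subtype_injective I)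
  have hιR : Function.Injective (ι.lTensor R) :=
    Module.Flat.lTensor_preserves_injective_linearMap _ hι
  rw [injective_iff_map_eq_zero]
  intro x hx
  have e1 : (LinearMap.rTensor M'' (Submodule.subtype I)) ((δ.lTensor I) x) = 0 := by
    rw [← LinearMap.comp_apply, LinearMap.rTensor_comp_lTensor, ← LinearMap.lTensor_comp_rTensor,
      LinearMap.comp_apply, hx, map_zero]
  have e2 : (δ.lTensor I) x = 0 := h2 (by rw [e1, map_zero])
  obtain ⟨y, rfl⟩ := (hex2 x).mp e2
  have e3 : (ι.lTensor R) ((LinearMap.rTensor M' (Submodule.subtype I)) y) = 0 := by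
    rw [← LinearMap.comp_apply, LinearMap.lTensor_comp_rTensor, ← LinearMap.rTensor_comp_lTensor,
      LinearMap.comp_apply, hx]
  have e4 : y = 0 := h1 (by rw [map_zero]; exact hιR (by rw [e3, map_zero]))
  rw [e4, map_zero]

/-- A product of two flat modules is flat. -/
theorem flat_prod {M N : Type*} [AddCommGroup M] [AddCommGroup N] [Module R M] [Module R N]
    [Module.Flat R M] [Module.Flat R N] : Module.Flat R (M × N) :=
  flat_of_exact_of_flat_flat' (LinearMap.inl R M N) (LinearMap.snd R M N)
    LinearMap.inl_injective LinearMap.snd_surjective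
    (fun x => by
      constructor
      · intro h
        exact ⟨x.1, Prod.ext rfl (by simpa using h.symm)⟩
      · rintro ⟨m, rfl⟩
        rfl)

end General

universe u

section Square

variable {R B' B A' A : Type u} [CommRing R] [CommRing B'] [CommRing B] [CommRing A'] [CommRing A]
    [Algebra B' B] [Algebra B' A'] [Algebra B A] [Algebra A' A] [Algebra B' A]
    [IsScalarTower B' B A] [IsScalarTower B' A' A]
    [Algebra R B'] [Algebra R B] [Algebra R A'] [Algebra R A]
    [IsScalarTower R B' B] [IsScalarTower R B' A'] [IsScalarTower R B' A] [IsScalarTower R B A]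
    [IsScalarTower R A' A]

variable (R B' B A' A) in
/-- `B' → B × A'` -/
noncomputable def fsι : B' →ₗ[R] B × A' :=
  (IsScalarTower.toAlgHom R B' B).toLinearMap.prod (IsScalarTower.toAlgHom R B' A').toLinearMap

variable (R B A' A) in
/-- `B × A' → A`, the difference map. -/
noncomputable def fsδ : B × A' →ₗ[R] A :=
  (IsScalarTower.toAlgHom R B A).toLinearMap.coprod (-(IsScalarTower.toAlgHom R A' A).toLinearMap)

theorem fsι_apply (x : B') : fsι R B' B A' x = (algebraMap B' B x, algebraMap B' A' x) := rfl

theorem fsδ_apply (x : B × A') : fsδ R B A' A x = algebraMap B A x.1 - algebraMap A' A x.2 := by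
  simp [fsδ, sub_eq_add_neg]

theorem fsι_injective (hsq : EtMil.IsFibreSquare B' B A' A) :
    Function.Injective (fsι R B' B A') := by
  intro x y h
  rw [fsι_apply, fsι_apply, Prod.mk.injEq] at h
  exact fs_ext hsq h.1 h.2

theorem fsδ_surjective (hsq : EtMil.IsFibreSquare B' B A' A) :
    Function.Surjective (fsδ R B A' A) := by
  intro a
  obtain ⟨a', ha'⟩ := hsq.1 (-a)
  exact ⟨(0, a'), by rw [fsδ_apply, map_zero, ha', zero_sub, neg_neg]⟩

theorem fs_exact (hsq : EtMil.IsFibreSquare B' B A' A) :
    Function.Exact (fsι R B' B A') (fsδ R B A' A) := by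
  intro x
  constructor
  · intro h
    rw [fsδ_apply, sub_eq_zero] at h
    obtain ⟨b', ⟨h1, h2⟩, _⟩ := hsq.2 x.1 x.2 h
    exact ⟨b', by rw [fsι_apply, h1, h2]⟩
  · rintro ⟨b', rfl⟩
    rw [fsι_apply, fsδ_apply, ← IsScalarTower.algebraMap_apply, ← IsScalarTower.algebraMap_apply,
      sub_self]

/-- If `B`, `A'`, `A` are flat over `R` then so is the fibre product `B'`. -/
theorem fs_flat_corner (hsq : EtMil.IsFibreSquare B' B A' A)
    [Module.Flat R B] [Module.Flat R A'] [Module.Flat R A] : Module.Flat R B' := by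
  have : Module.Flat R (B × A') := flat_prod
  exact flat_of_exact_of_flat_flat (fsι R B' B A') (fsδ R B A' A) (fsι_injective hsq)
    (fsδ_surjective hsq) (fs_exact hsq)

/-- Base change of a fibre square along `R → R'` is again a fibre square when `A` is `R`-flat
(linear form). -/
theorem fs_lTensor (hsq : EtMil.IsFibreSquare B' B A' A) [Module.Flat R A]
    (R' : Type*) [AddCommGroup R'] [Module R R'] :
    ∀ (x : R' ⊗[R] B) (y : R' ⊗[R] A'),
      (IsScalarTower.toAlgHom R B A).toLinearMap.lTensor R' x =
        (IsScalarTower.toAlgHom R A' A).toLinearMap.lTensor R' y →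
      ∃! z : R' ⊗[R] B',
        (IsScalarTower.toAlgHom R B' B).toLinearMap.lTensor R' z = x ∧
        (IsScalarTower.toAlgHom R B' A').toLinearMap.lTensor R' z = y := by
  intro x y hxy
  have hinj : Function.Injective ((fsι R B' B A').lTensor R') :=
    LinearMap.lTensor_injective_of_exact_of_flat (fsδ R B A' A) (fsδ_surjective hsq)
      (fsι R B' B A') (fsι_injective hsq) (fs_exact hsq) R'
  have hex : Function.Exact ((fsι R B' B A').lTensor R') ((fsδ R B A' A).lTensor R') :=
    lTensor_exact R' (fs_exact hsq) (fsδ_surjective hsq)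
  have hfst : (LinearMap.fst R B A') ∘ₗ (fsι R B' B A') =
      (IsScalarTower.toAlgHom R B' B).toLinearMap := by ext; rfl
  have hsnd : (LinearMap.snd R B A') ∘ₗ (fsι R B' B A') =
      (IsScalarTower.toAlgHom R B' A').toLinearMap := by ext; rfl
  have hid : (LinearMap.inl R B A') ∘ₗ (LinearMap.fst R B A') +
      (LinearMap.inr R B A') ∘ₗ (LinearMap.snd R B A') = LinearMap.id := by
    ext <;> simp
  have hdecomp : ∀ t : R' ⊗[R] (B × A'),
      t = (LinearMap.inl R B A').lTensor R' ((LinearMap.fst R B A').lTensor R' t) +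
        (LinearMap.inr R B A').lTensor R' ((LinearMap.snd R B A').lTensor R' t) := by
    intro t
    rw [← LinearMap.comp_apply, ← LinearMap.comp_apply, ← LinearMap.lTensor_comp,
      ← LinearMap.lTensor_comp, ← LinearMap.add_apply, ← LinearMap.lTensor_add, hid,
      LinearMap.lTensor_id, LinearMap.id_apply]
  have hδl : (fsδ R B A' A) ∘ₗ (LinearMap.inl R B A') =
      (IsScalarTower.toAlgHom R B A).toLinearMap := by
    rw [fsδ, LinearMap.coprod_inl]
  have hδr : (fsδ R B A' A) ∘ₗ (LinearMap.inr R B A') =
      -(IsScalarTower.toAlgHom R A' A).toLinearMap := by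
    rw [fsδ, LinearMap.coprod_inr]
  have hw : (fsδ R B A' A).lTensor R' ((LinearMap.inl R B A').lTensor R' x +
      (LinearMap.inr R B A').lTensor R' y) = 0 := by
    rw [map_add, ← LinearMap.comp_apply, ← LinearMap.comp_apply, ← LinearMap.lTensor_comp,
      ← LinearMap.lTensor_comp, hδl, hδr, LinearMap.lTensor_neg, LinearMap.neg_apply, hxy,
      add_neg_cancel]
  obtain ⟨z, hz⟩ := (hex _).mp hw
  have hz1 : (IsScalarTower.toAlgHom R B' B).toLinearMap.lTensor R' z = x := by
    rw [← hfst, LinearMap.lTensor_comp, LinearMap.comp_apply, hz, map_add,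
      ← LinearMap.comp_apply, ← LinearMap.comp_apply, ← LinearMap.lTensor_comp,
      ← LinearMap.lTensor_comp, LinearMap.fst_comp_inl, LinearMap.fst_comp_inr,
      LinearMap.lTensor_id, LinearMap.lTensor_zero, LinearMap.id_apply, LinearMap.zero_apply,
      add_zero]
  have hz2 : (IsScalarTower.toAlgHom R B' A').toLinearMap.lTensor R' z = y := by
    rw [← hsnd, LinearMap.lTensor_comp, LinearMap.comp_apply, hz, map_add,
      ← LinearMap.comp_apply, ← LinearMap.comp_apply, ← LinearMap.lTensor_comp,
      ← LinearMap.lTensor_comp, LinearMap.snd_comp_inl, LinearMap.snd_comp_inr,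
      LinearMap.lTensor_id, LinearMap.lTensor_zero, LinearMap.id_apply, LinearMap.zero_apply,
      zero_add]
  refine ⟨z, ⟨hz1, hz2⟩, ?_⟩
  rintro z' ⟨hz1', hz2'⟩
  apply hinj
  have key : ∀ t : R' ⊗[R] B', (fsι R B' B A').lTensor R' t =
      (LinearMap.inl R B A').lTensor R'
        ((IsScalarTower.toAlgHom R B' B).toLinearMap.lTensor R' t) +
      (LinearMap.inr R B A').lTensor R'
        ((IsScalarTower.toAlgHom R B' A').toLinearMap.lTensor R' t) := by
    intro t
    conv_lhs => rw [hdecomp ((fsι R B' B A').lTensor R' t)]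
    rw [← hfst, ← hsnd, LinearMap.lTensor_comp, LinearMap.lTensor_comp, LinearMap.comp_apply,
      LinearMap.comp_apply]
  rw [key z', key z, hz1, hz2, hz1', hz2']

/-- Algebra form of `fs_lTensor`. -/
theorem fs_baseChange (hsq : EtMil.IsFibreSquare B' B A' A) [Module.Flat R A]
    (R' : Type u) [CommRing R'] [Algebra R R'] :
    Function.Surjective (Algebra.TensorProduct.map (AlgHom.id R R')
      (IsScalarTower.toAlgHom R A' A)) ∧
    ∀ (x : R' ⊗[R] B) (y : R' ⊗[R] A'),
      Algebra.TensorProduct.map (AlgHom.id R R') (IsScalarTower.toAlgHom R B A) x =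
        Algebra.TensorProduct.map (AlgHom.id R R') (IsScalarTower.toAlgHom R A' A) y →
      ∃! z : R' ⊗[R] B',
        Algebra.TensorProduct.map (AlgHom.id R R') (IsScalarTower.toAlgHom R B' B) z = x ∧
        Algebra.TensorProduct.map (AlgHom.id R R') (IsScalarTower.toAlgHom R B' A') z = y := by
  refine ⟨?_, ?_⟩
  · exact LinearMap.lTensor_surjective R' (g := (IsScalarTower.toAlgHom R A' A).toLinearMap) hsq.1
  · intro x y hxy
    exact fs_lTensor hsq R' x y hxy

end Square

/-- For a flat `B'`-module `L'`, the map `L' → (B ⊗ L') × (A' ⊗ L')` is injective. -/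
theorem fs_eq_zero_of_flat {B' B A' A : Type u} [CommRing B'] [CommRing B] [CommRing A']
    [CommRing A] [Algebra B' B] [Algebra B' A'] [Algebra B A] [Algebra A' A] [Algebra B' A]
    [IsScalarTower B' B A] [IsScalarTower B' A' A]
    (hsq : EtMil.IsFibreSquare B' B A' A)
    {L' : Type*} [AddCommGroup L'] [Module B' L'] [Module.Flat B' L'] (l : L')
    (h1 : ((1 : B) ⊗ₜ[B'] l : B ⊗[B'] L') = 0) (h2 : ((1 : A') ⊗ₜ[B'] l : A' ⊗[B'] L') = 0) :
    l = 0 := by
  have hinj : Function.Injective ((fsι B' B' B A').rTensor L') :=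
    Module.Flat.rTensor_preserves_injective_linearMap _ (fsι_injective hsq)
  have hid : (LinearMap.inl B' B A') ∘ₗ (LinearMap.fst B' B A') +
      (LinearMap.inr B' B A') ∘ₗ (LinearMap.snd B' B A') = LinearMap.id := by
    ext <;> simp
  have hdecomp : ∀ t : (B × A') ⊗[B'] L',
      t = (LinearMap.inl B' B A').rTensor L' ((LinearMap.fst B' B A').rTensor L' t) +
        (LinearMap.inr B' B A').rTensor L' ((LinearMap.snd B' B A').rTensor L' t) := by
    intro t
    rw [← LinearMap.comp_apply, ← LinearMap.comp_apply, ← LinearMap.rTensor_comp,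
      ← LinearMap.rTensor_comp, ← LinearMap.add_apply, ← LinearMap.rTensor_add, hid,
      LinearMap.rTensor_id, LinearMap.id_apply]
  have hw : (fsι B' B' B A').rTensor L' ((1 : B') ⊗ₜ[B'] l) = 0 := by
    rw [hdecomp ((fsι B' B' B A').rTensor L' ((1 : B') ⊗ₜ[B'] l))]
    simp only [LinearMap.rTensor_tmul, fsι_apply, map_one, LinearMap.fst_apply,
      LinearMap.snd_apply, h1, h2, map_zero, add_zero]
  have h3 : ((1 : B') ⊗ₜ[B'] l : B' ⊗[B'] L') = 0 := hinj (by rw [hw, map_zero])
  have := congrArg (TensorProduct.lid B' L') h3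
  simpa using this

end Groth.Agent.Lib.Helper22
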