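import Groth.Agent.Lib.Helper22Milnor

/-!
# Helper22: descent of flatness along a fibre product of rings (Milnor square)
-/

set_option autoImplicit false

namespace Groth.Agent.Lib.Helper22

open TensorProduct

section General

variable {R S : Type*} [CommRing R] [CommRing S] [Algebra R S]
  {M : Type*} [AddCommGroup M] [Module R M]

/-- (L) If `S ⊗ M` is `S`-flat, an injective `S`-linear map stays injective after `- ⊗[R] M`. -/
theorem rTensor_restrictScalars_injective [Module.Flat S (S ⊗[R] M)]
    {Y X : Type*} [AddCommGroup Y] [AddCommGroup X] [Module S Y] [Module S X]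
    [Module R Y] [Module R X] [IsScalarTower R S Y] [IsScalarTower R S X]
    (f : Y →ₗ[S] X) (hf : Function.Injective f) :
    Function.Injective ((f.restrictScalars R).rTensor M) := by
  let eY := AlgebraTensorModule.cancelBaseChange R S S Y M
  let eX := AlgebraTensorModule.cancelBaseChange R S S X M
  have hcomm : ∀ t : Y ⊗[R] M,
      (f.restrictScalars R).rTensor M t = eX ((f.rTensor (S ⊗[R] M)) (eY.symm t)) := by
    intro t
    induction t using TensorProduct.induction_on with
    | zero => simp
    | tmul y m =>
      simp only [eY, eX, LinearMap.rTensor_tmul, LinearMap.coe_restrictScalars,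
        AlgebraTensorModule.cancelBaseChange_symm_tmul,
        AlgebraTensorModule.cancelBaseChange_tmul, one_smul]
    | add a b ha hb => simp only [map_add, ha, hb]
  have hinj := Module.Flat.rTensor_preserves_injective_linearMap (M := S ⊗[R] M) f hf
  intro a b hab
  rw [hcomm, hcomm] at hab
  exact eY.symm.injective (hinj (eX.injective hab))

/-- (L') the same for an `S`-submodule, viewed as an `R`-submodule. -/
theorem rTensor_subtype_restrictScalars_injective [Module.Flat S (S ⊗[R] M)]
    {X : Type*} [AddCommGroup X] [Module S X] [Module R X] [IsScalarTower R S X]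
    (Y : Submodule S X) :
    Function.Injective ((Y.restrictScalars R).subtype.rTensor M) := by
  have h1 := rTensor_restrictScalars_injective (R := R) (M := M) Y.subtype Y.subtype_injective
  let e : (Y.restrictScalars R) ≃ₗ[R] Y := (Submodule.restrictScalarsEquiv R S X Y).restrictScalars R
  have h2 : (Y.restrictScalars R).subtype = (Y.subtype.restrictScalars R) ∘ₗ e.toLinearMap := by
    ext x; rfl
  rw [h2, LinearMap.rTensor_comp]
  exact h1.comp (LinearEquiv.rTensor M e).injective

/-- (L_B) if `R → S` is surjective, every `R`-submodule of an `S`-module is fine. -/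
theorem rTensor_subtype_injective_of_surjective [Module.Flat S (S ⊗[R] M)]
    (hs : Function.Surjective (algebraMap R S))
    {X : Type*} [AddCommGroup X] [Module S X] [Module R X] [IsScalarTower R S X]
    (K : Submodule R X) :
    Function.Injective (K.subtype.rTensor M) := by
  let KS : Submodule S X :=
    { carrier := K
      add_mem' := K.add_mem
      zero_mem' := K.zero_mem
      smul_mem' := by
        intro s x hx
        obtain ⟨r, rfl⟩ := hs s
        rw [algebraMap_smul]
        exact K.smul_mem r hx }
  have h : KS.restrictScalars R = K := by ext x; rfl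
  rw [← h]
  exact rTensor_subtype_restrictScalars_injective KS

/-- Diagram chase: if `g : X → Xbar` has kernel `N ≤ K`, and both `g(K) ⊗ M → Xbar ⊗ M` and
`N ⊗ M → X ⊗ M` are injective, then `K ⊗ M → X ⊗ M` is injective. -/
theorem rTensor_subtype_injective_of_chase
    {X Xbar : Type*} [AddCommGroup X] [Module R X] [AddCommGroup Xbar] [Module R Xbar]
    (g : X →ₗ[R] Xbar) (K N : Submodule R X) (hle : N ≤ K)
    (hker : ∀ x ∈ K, (g x = 0 ↔ x ∈ N))
    (h1 : Function.Injective ((Submodule.map g K).subtype.rTensor M))
    (h2 : Function.Injective (N.subtype.rTensor M)) :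
    Function.Injective (K.subtype.rTensor M) := by
  let gK : K →ₗ[R] (Submodule.map g K) := g.submoduleMap K
  have hgK : Function.Surjective gK := g.submoduleMap_surjective K
  let incl : N →ₗ[R] K := Submodule.inclusion hle
  have hexact : Function.Exact incl gK := by
    intro k
    constructor
    · intro h
      have h' : g (k : X) = 0 := congrArg Subtype.val h
      rw [hker _ k.2] at h'
      exact ⟨⟨k.1, h'⟩, Subtype.ext rfl⟩
    · rintro ⟨z, rfl⟩
      apply Subtype.ext
      show g (z : X) = 0
      rw [hker _ (hle z.2)]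
      exact z.2
  have hex2 : Function.Exact (incl.rTensor M) (gK.rTensor M) := rTensor_exact M hexact hgK
  rw [injective_iff_map_eq_zero]
  intro y hy
  have e1 : (Submodule.map g K).subtype ∘ₗ gK = g ∘ₗ K.subtype := by
    ext k; rfl
  have e2 : (gK.rTensor M) y = 0 := by
    apply h1
    rw [map_zero, ← LinearMap.comp_apply, ← LinearMap.rTensor_comp, e1, LinearMap.rTensor_comp,
      LinearMap.comp_apply, hy, map_zero]
  obtain ⟨z, rfl⟩ := (hex2 y).mp e2
  have e3 : K.subtype ∘ₗ incl = N.subtype := by
    ext k; rfl
  have e4 : z = 0 := by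
    apply h2
    rw [map_zero, ← e3, LinearMap.rTensor_comp, LinearMap.comp_apply, hy]
  rw [e4, map_zero]

end General

universe u

variable {B' B A' A : Type u} [CommRing B'] [CommRing B] [CommRing A'] [CommRing A]
  [Algebra B' B] [Algebra B' A'] [Algebra B A] [Algebra A' A] [Algebra B' A]
  [IsScalarTower B' B A] [IsScalarTower B' A' A]
  {L' : Type*} [AddCommGroup L'] [Module B' L']

/-- (a'') For an `A'`-module `X` and a `B'`-submodule `K` containing `I X`, the map
`K ⊗ L' → X ⊗ L'` is injective. -/
theorem fs_rTensor_subtype_injective (hsq : EtMil.IsFibreSquare B' B A' A)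
    [Module.Flat B (B ⊗[B'] L')] [Module.Flat A' (A' ⊗[B'] L')]
    {X : Type*} [AddCommGroup X] [Module A' X] [Module B' X] [IsScalarTower B' A' X]
    (K : Submodule B' X) (hK : ∀ i : A', algebraMap A' A i = 0 → ∀ x : X, i • x ∈ K) :
    Function.Injective (K.subtype.rTensor L') := by
  have : SMulCommClass A' B A := ⟨fun a' b a => by
    simp only [Algebra.smul_def]; ring⟩
  have : SMulCommClass A' B' A := ⟨fun a' b a => by
    simp only [Algebra.smul_def]; ring⟩
  -- g : X → A ⊗[A'] X
  let g : X →ₗ[B'] A ⊗[A'] X := (TensorProduct.mk A' A X 1).restrictScalars B'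
  have hg : ∀ x, g x = (1 : A) ⊗ₜ[A'] x := fun _ => rfl
  let IX : Submodule A' X := (RingHom.ker (algebraMap A' A)) • (⊤ : Submodule A' X)
  have hgker : ∀ x : X, g x = 0 ↔ x ∈ IX.restrictScalars B' := by
    intro x
    rw [Submodule.restrictScalars_mem]
    constructor
    · intro h
      exact mem_ker_smul_top_of_one_tmul_eq_zero hsq.1 x h
    · intro h
      refine Submodule.smul_induction_on h ?_ ?_
      · intro i hi x _
        rw [hg, ← TensorProduct.smul_tmul, Algebra.smul_def, mul_one, (RingHom.mem_ker).mp hi,
          TensorProduct.zero_tmul]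
      · intro x y hx hy
        rw [map_add, hx, hy, add_zero]
  have hle : IX.restrictScalars B' ≤ K := by
    intro x hx
    rw [Submodule.restrictScalars_mem] at hx
    refine Submodule.smul_induction_on hx ?_ ?_
    · intro i hi x _
      exact hK i ((RingHom.mem_ker).mp hi) x
    · intro x y hx hy
      exact K.add_mem hx hy
  have hKbar : Function.Injective ((Submodule.map g K).subtype.rTensor L') :=
    rTensor_subtype_injective_of_surjective (S := B) (fs_surjective hsq) _
  have hIX : Function.Injective ((IX.restrictScalars B').subtype.rTensor L') :=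
    rTensor_subtype_restrictScalars_injective (S := A') IX
  exact rTensor_subtype_injective_of_chase g K _ hle (fun x _ => hgker x) hKbar hIX

/-- Step 3': ideals inside `J = ker (B' → B)`. -/
theorem fs_rTensor_subtype_injective_of_le_ker (hsq : EtMil.IsFibreSquare B' B A' A)
    [Module.Flat B (B ⊗[B'] L')] [Module.Flat A' (A' ⊗[B'] L')]
    (c : Ideal B') (hc : c ≤ RingHom.ker (algebraMap B' B)) :
    Function.Injective ((Submodule.subtype c).rTensor L') := by
  let X : Ideal A' := Ideal.map (algebraMap B' A') c
  let κ : c →ₗ[B'] X :=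
    { toFun := fun x => ⟨algebraMap B' A' x.1, Ideal.mem_map_of_mem _ x.2⟩
      map_add' := by
        intro x y
        apply Subtype.ext
        simp
      map_smul' := by
        intro r x
        apply Subtype.ext
        simp [Algebra.smul_def] }
  have hκ : ∀ x : c, ((κ x : X) : A') = algebraMap B' A' x.1 := fun _ => rfl
  have hκinj : Function.Injective κ := by
    rw [injective_iff_map_eq_zero]
    intro x hx
    have h1 : algebraMap B' A' x.1 = 0 := by rw [← hκ, hx]; rfl
    have h2 : algebraMap B' B x.1 = 0 := (RingHom.mem_ker).mp (hc x.2)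
    apply Subtype.ext
    exact fs_ext hsq (by rw [h2]; exact (map_zero _).symm) (by rw [h1]; exact (map_zero _).symm)
  -- I • X ⊆ range κ
  have hspan : ∀ x0 ∈ X, ∀ i : A', algebraMap A' A i = 0 →
      ∃ c0 ∈ c, algebraMap B' A' c0 = i * x0 := by
    intro x0 hx0
    refine Submodule.span_induction ?_ ?_ ?_ ?_ hx0
    · rintro _ ⟨c0, hc0, rfl⟩ i hi
      obtain ⟨j, _, hj⟩ := fs_exists_lift_ker hsq i hi
      exact ⟨j * c0, c.mul_mem_left j hc0, by rw [map_mul, hj]⟩
    · intro i _
      exact ⟨0, c.zero_mem, by rw [map_zero, mul_zero]⟩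
    · intro x y _ _ hx hy i hi
      obtain ⟨c1, hc1, h1⟩ := hx i hi
      obtain ⟨c2, hc2, h2⟩ := hy i hi
      exact ⟨c1 + c2, c.add_mem hc1 hc2, by rw [map_add, h1, h2, mul_add]⟩
    · intro a x _ hx i hi
      obtain ⟨c1, hc1, h1⟩ := hx (i * a) (by rw [map_mul, hi, zero_mul])
      exact ⟨c1, hc1, by rw [h1, smul_eq_mul, mul_assoc]⟩
  have hK : ∀ i : A', algebraMap A' A i = 0 → ∀ x : X, i • x ∈ LinearMap.range κ := by
    intro i hi x
    obtain ⟨c0, hc0, h0⟩ := hspan x.1 x.2 i hi
    refine ⟨⟨c0, hc0⟩, ?_⟩
    apply Subtype.ext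
    rw [hκ, h0]
    rfl
  have h1 := fs_rTensor_subtype_injective (L' := L') hsq (LinearMap.range κ) hK
  have h2 := rTensor_restrictScalars_injective (R := B') (M := L') (Submodule.subtype X)
    (Submodule.subtype_injective X)
  let e : c ≃ₗ[B'] LinearMap.range κ := LinearEquiv.ofInjective κ hκinj
  have hcomp : ((Submodule.subtype X).restrictScalars B') ∘ₗ (LinearMap.range κ).subtype ∘ₗ
      e.toLinearMap = (Algebra.linearMap B' A') ∘ₗ (Submodule.subtype c) := by
    ext x; rfl
  have h3 : Function.Injective
      ((((Submodule.subtype X).restrictScalars B') ∘ₗ (LinearMap.range κ).subtype ∘ₗ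
      e.toLinearMap).rTensor L') := by
    rw [LinearMap.rTensor_comp, LinearMap.rTensor_comp]
    exact h2.comp (h1.comp (LinearEquiv.rTensor L' e).injective)
  rw [hcomp, LinearMap.rTensor_comp] at h3
  exact Function.Injective.of_comp h3

/-- Flatness descends along a fibre product of rings (Ferrand, Théorème 2.2 (iv)). -/
theorem fs_flat (hsq : EtMil.IsFibreSquare B' B A' A)
    [Module.Flat B (B ⊗[B'] L')] [Module.Flat A' (A' ⊗[B'] L')] : Module.Flat B' L' := by
  rw [Module.Flat.iff_rTensor_injective']
  intro a
  let π : B' →ₗ[B'] B := Algebra.linearMap B' B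
  have h1 : Function.Injective ((Submodule.map π a).subtype.rTensor L') :=
    rTensor_subtype_injective_of_surjective (S := B) (fs_surjective hsq) _
  have h2 : Function.Injective ((Submodule.subtype (a ⊓ RingHom.ker (algebraMap B' B))).rTensor L') :=
    fs_rTensor_subtype_injective_of_le_ker hsq _ inf_le_right
  refine rTensor_subtype_injective_of_chase π a (a ⊓ RingHom.ker (algebraMap B' B)) inf_le_left
    ?_ h1 h2
  intro x hx
  rw [Submodule.mem_inf, RingHom.mem_ker]
  exact ⟨fun h => ⟨hx, h⟩, fun h => h.2⟩

/-- Finiteness descends along a fibre product of rings. -/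
theorem fs_finite (hsq : EtMil.IsFibreSquare B' B A' A)
    [Module.Finite B (B ⊗[B'] L')] [Module.Finite A' (A' ⊗[B'] L')] : Module.Finite B' L' := by
  obtain ⟨N1, hN1, h1⟩ := exists_fg_forall_one_tmul_mkQ_eq_zero B' B L'
  obtain ⟨N2, hN2, h2⟩ := exists_fg_forall_one_tmul_mkQ_eq_zero B' A' L'
  have hfg : (N1 ⊔ N2).FG := hN1.sup hN2
  have htop : N1 ⊔ N2 = ⊤ := by
    rw [eq_top_iff]
    intro l _
    have hq : (N1 ⊔ N2).mkQ l = 0 :=
      fs_eq_zero_of_forall hsq (L' := L' ⧸ (N1 ⊔ N2))
        (fun q => by
          obtain ⟨m, rfl⟩ := (N1 ⊔ N2).mkQ_surjective q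
          exact h2 _ le_sup_right m) _ (h1 _ le_sup_left l)
    rwa [Submodule.mkQ_apply, Submodule.Quotient.mk_eq_zero] at hq
  rw [htop] at hfg
  exact ⟨hfg⟩

/-- If `f : F → L` is surjective with `F` finite, `L` flat and `S ⊗ L` finitely presented over
`S`, then `S ⊗ ker f` is a finite `S`-module. -/
theorem finite_baseChange_ker_of_flat {R S : Type*} [CommRing R] [CommRing S] [Algebra R S]
    {F L : Type*} [AddCommGroup F] [Module R F] [Module.Finite R F] [AddCommGroup L] [Module R L]
    [Module.Flat R L] [Module.FinitePresentation S (S ⊗[R] L)] (f : F →ₗ[R] L)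
    (hf : Function.Surjective f) :
    Module.Finite S (S ⊗[R] (LinearMap.ker f)) := by
  have hinj : Function.Injective ((LinearMap.ker f).subtype.lTensor S) :=
    LinearMap.lTensor_injective_of_exact_of_flat f hf (LinearMap.ker f).subtype
      (LinearMap.ker f).subtype_injective (LinearMap.exact_subtype_ker_map f) S
  have hex : Function.Exact ((LinearMap.ker f).subtype.lTensor S) (f.lTensor S) :=
    lTensor_exact S (LinearMap.exact_subtype_ker_map f) hf
  have hsurj : Function.Surjective (f.baseChange S) := by
    rw [LinearMap.baseChange_eq_ltensor]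
    exact LinearMap.lTensor_surjective S hf
  have hfg : (LinearMap.ker (f.baseChange S)).FG :=
    Module.FinitePresentation.fg_ker (f.baseChange S) hsurj
  have hinj' : Function.Injective ((LinearMap.ker f).subtype.baseChange S) := by
    rw [LinearMap.baseChange_eq_ltensor]
    exact hinj
  have hrange : LinearMap.range ((LinearMap.ker f).subtype.baseChange S) =
      LinearMap.ker (f.baseChange S) := by
    ext x
    rw [LinearMap.mem_range, LinearMap.mem_ker, LinearMap.baseChange_eq_ltensor,
      LinearMap.baseChange_eq_ltensor]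
    exact ((hex x).symm)
  rw [← hrange] at hfg
  have : Module.Finite S (LinearMap.range ((LinearMap.ker f).subtype.baseChange S)) :=
    Module.Finite.iff_fg.mpr hfg
  exact Module.Finite.equiv
    (LinearEquiv.ofInjective ((LinearMap.ker f).subtype.baseChange S) hinj').symm

/-- Finite presentation (for flat modules) descends along a fibre product of rings. -/
theorem fs_finitePresentation (hsq : EtMil.IsFibreSquare B' B A' A)
    [Module.Flat B (B ⊗[B'] L')] [Module.FinitePresentation B (B ⊗[B'] L')]
    [Module.Flat A' (A' ⊗[B'] L')] [Module.FinitePresentation A' (A' ⊗[B'] L')] :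
    Module.FinitePresentation B' L' := by
  have : Module.Flat B' L' := fs_flat hsq
  have : Module.Finite B' L' := fs_finite hsq
  obtain ⟨n, f, hf⟩ := Module.Finite.exists_fin' B' L'
  have : Module.Finite B (B ⊗[B'] (LinearMap.ker f)) := finite_baseChange_ker_of_flat f hf
  have : Module.Finite A' (A' ⊗[B'] (LinearMap.ker f)) := finite_baseChange_ker_of_flat f hf
  have hK : Module.Finite B' (LinearMap.ker f) := fs_finite hsq
  exact Module.finitePresentation_of_surjective f hf (Module.Finite.iff_fg.mp hK)

end Groth.Agent.Lib.Helper22
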