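import Mathlib
import Groth.Prelude.Def_EtMil
import Groth.Agent.S2019
import Groth.Agent.S2020
import Groth.Agent.S14949
import Groth.Agent.Lib.Helper22Milnor

/-!
# Milnor squares of algebras (helper13)

`D' = D ×_C C'` over `B' = B ×_A A'`: `B' → D'` is of finite type / flat / flat and finitely presented /
smooth / étale iff `B → D` and `A' → C'` both are.  Used for S6900.
-/

set_option autoImplicit false
set_option linter.style.haveILetI false
set_option linter.unusedSectionVars false
universe u
open TensorProduct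

namespace Groth.Agent.Helper13MilnorAlg


section Setup

variable (B' B A' A : Type u) [CommRing B'] [CommRing B] [CommRing A'] [CommRing A]
    [Algebra B' B] [Algebra B' A'] [Algebra B A] [Algebra A' A] [Algebra B' A]
    [IsScalarTower B' B A] [IsScalarTower B' A' A]
    (hsq : EtMil.IsFibreSquare B' B A' A)
    (D' D C' C : Type u) [CommRing D'] [CommRing D] [CommRing C'] [CommRing C]
    [Algebra D' D] [Algebra D' C'] [Algebra D C] [Algebra C' C] [Algebra D' C]
    [IsScalarTower D' D C] [IsScalarTower D' C' C]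
    (hsq' : EtMil.IsFibreSquare D' D C' C)
    [Algebra B' D'] [Algebra B D] [Algebra A' C'] [Algebra A C]
    [Algebra B' D] [IsScalarTower B' B D] [IsScalarTower B' D' D]
    [Algebra B' C'] [IsScalarTower B' A' C'] [IsScalarTower B' D' C']
    [Algebra B C] [IsScalarTower B A C] [IsScalarTower B D C]
    [Algebra A' C] [IsScalarTower A' A C] [IsScalarTower A' C' C]
    [Algebra.IsPushout B D A C] [Algebra.IsPushout A' C' A C]

/-- the glueing isomorphism `A ⊗_B D ≅ C ≅ A ⊗_{A'} C'` -/
noncomputable def phi : A ⊗[B] D ≃ₗ[A] A ⊗[A'] C' :=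
  haveI : Algebra.IsPushout B A D C := Algebra.IsPushout.symm inferInstance
  haveI : Algebra.IsPushout A' A C' C := Algebra.IsPushout.symm inferInstance
  (Algebra.IsPushout.equiv B A D C).toLinearEquiv.trans
    (Algebra.IsPushout.equiv A' A C' C).symm.toLinearEquiv

theorem phi_apply_iff (d : D) (c' : C') :
    phi B A' A D C' C ((1 : A) ⊗ₜ[B] d) = (1 : A) ⊗ₜ[A'] c' ↔
      algebraMap D C d = algebraMap C' C c' := by
  haveI : Algebra.IsPushout B A D C := Algebra.IsPushout.symm inferInstance
  haveI : Algebra.IsPushout A' A C' C := Algebra.IsPushout.symm inferInstance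
  change (Algebra.IsPushout.equiv A' A C' C).symm ((Algebra.IsPushout.equiv B A D C) (1 ⊗ₜ d)) = _ ↔ _
  rw [AlgEquiv.symm_apply_eq, Algebra.IsPushout.equiv_tmul, Algebra.IsPushout.equiv_tmul, map_one,
    one_mul, one_mul]

include hsq' in
/-- `D'` is the glued module -/
theorem exists_equiv_glue :
    ∃ e : D' ≃ₗ[B'] EtMil.glue B' (phi B A' A D C' C),
      ∀ d', ((e d' : D × C')) = (algebraMap D' D d', algebraMap D' C' d') := by
  have hmem : ∀ d' : D', ((algebraMap D' D d', algebraMap D' C' d') : D × C') ∈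
      EtMil.glue B' (phi B A' A D C' C) := by
    intro d'
    change phi B A' A D C' C ((1 : A) ⊗ₜ[B] (algebraMap D' D d')) = (1 : A) ⊗ₜ[A'] _
    rw [phi_apply_iff, ← IsScalarTower.algebraMap_apply, ← IsScalarTower.algebraMap_apply]
  let f : D' →ₗ[B'] EtMil.glue B' (phi B A' A D C' C) :=
    { toFun := fun d' => ⟨_, hmem d'⟩
      map_add' := fun x y => by
        apply Subtype.ext
        simp only [map_add, Submodule.coe_add, Prod.mk_add_mk]
      map_smul' := fun b x => by
        apply Subtype.ext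
        apply Prod.ext
        · exact (IsScalarTower.toAlgHom B' D' D).toLinearMap.map_smul b x
        · exact (IsScalarTower.toAlgHom B' D' C').toLinearMap.map_smul b x }
  have hf : Function.Bijective f := by
    constructor
    · intro x y hxy
      have h1 := congrArg (fun z : EtMil.glue B' (phi B A' A D C' C) => (z : D × C')) hxy
      simp only [f, LinearMap.coe_mk, AddHom.coe_mk, Prod.mk.injEq] at h1
      obtain ⟨z, -, hz⟩ := hsq'.2 (algebraMap D' D x) (algebraMap D' C' x) (by
        rw [← IsScalarTower.algebraMap_apply, ← IsScalarTower.algebraMap_apply])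
      rw [hz x ⟨rfl, rfl⟩, hz y ⟨h1.1.symm, h1.2.symm⟩]
    · rintro ⟨⟨d, c'⟩, hdc⟩
      have hdc' : phi B A' A D C' C ((1 : A) ⊗ₜ[B] d) = (1 : A) ⊗ₜ[A'] c' := hdc
      rw [phi_apply_iff] at hdc'
      obtain ⟨z, ⟨hz1, hz2⟩, -⟩ := hsq'.2 d c' hdc'
      refine ⟨z, ?_⟩
      apply Subtype.ext
      simp only [f, LinearMap.coe_mk, AddHom.coe_mk, hz1, hz2]
  exact ⟨LinearEquiv.ofBijective f hf, fun d' => rfl⟩

include hsq hsq' in
theorem isPushout_left : Algebra.IsPushout B' B D' D := by
  obtain ⟨e, he⟩ := exists_equiv_glue B' B A' A D' D C' C hsq'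
  have h19 := (Groth.Agent.S2019.result B' B A' A hsq D C' (phi B A' A D C' C)).1
  rw [Algebra.isPushout_iff]
  let E : B ⊗[B'] D' ≃ₗ[B] D :=
    (TensorProduct.AlgebraTensorModule.congr (LinearEquiv.refl B B) e).trans
      (LinearEquiv.ofBijective _ h19)
  refine IsBaseChange.of_equiv E ?_
  intro d'
  change LinearMap.liftBaseChange B (EtMil.glueFst B' (phi B A' A D C' C))
    ((1 : B) ⊗ₜ[B'] (e d')) = _
  rw [LinearMap.liftBaseChange_tmul, one_smul]
  change ((e d' : D × C')).1 = _
  rw [he]
  rfl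

include hsq hsq' in
theorem isPushout_right : Algebra.IsPushout B' A' D' C' := by
  obtain ⟨e, he⟩ := exists_equiv_glue B' B A' A D' D C' C hsq'
  have h19 := (Groth.Agent.S2019.result B' B A' A hsq D C' (phi B A' A D C' C)).2
  rw [Algebra.isPushout_iff]
  let E : A' ⊗[B'] D' ≃ₗ[A'] C' :=
    (TensorProduct.AlgebraTensorModule.congr (LinearEquiv.refl A' A') e).trans
      (LinearEquiv.ofBijective _ h19)
  refine IsBaseChange.of_equiv E ?_
  intro d'
  change LinearMap.liftBaseChange A' (EtMil.glueSnd B' (phi B A' A D C' C))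
    ((1 : A') ⊗ₜ[B'] (e d')) = _
  rw [LinearMap.liftBaseChange_tmul, one_smul]
  change ((e d' : D × C')).2 = _
  rw [he]
  rfl

end Setup



section Forward

variable (B' B A' A : Type u) [CommRing B'] [CommRing B] [CommRing A'] [CommRing A]
    [Algebra B' B] [Algebra B' A'] [Algebra B A] [Algebra A' A] [Algebra B' A]
    [IsScalarTower B' B A] [IsScalarTower B' A' A]
    (hsq : EtMil.IsFibreSquare B' B A' A)
    (D' D C' C : Type u) [CommRing D'] [CommRing D] [CommRing C'] [CommRing C]
    [Algebra D' D] [Algebra D' C'] [Algebra D C] [Algebra C' C] [Algebra D' C]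
    [IsScalarTower D' D C] [IsScalarTower D' C' C]
    (hsq' : EtMil.IsFibreSquare D' D C' C)
    [Algebra B' D'] [Algebra B D] [Algebra A' C'] [Algebra A C]
    [Algebra B' D] [IsScalarTower B' B D] [IsScalarTower B' D' D]
    [Algebra B' C'] [IsScalarTower B' A' C'] [IsScalarTower B' D' C']
    [Algebra B C] [IsScalarTower B A C] [IsScalarTower B D C]
    [Algebra A' C] [IsScalarTower A' A C] [IsScalarTower A' C' C]
    [Algebra.IsPushout B D A C] [Algebra.IsPushout A' C' A C]

include hsq hsq' in
theorem forward {P : ∀ {R S : Type u} [CommRing R] [CommRing S], (R →+* S) → Prop}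
    (hP : RingHom.IsStableUnderBaseChange @P) (h : P (algebraMap B' D')) :
    P (algebraMap B D) ∧ P (algebraMap A' C') := by
  haveI h1 : Algebra.IsPushout B' D' B D :=
    (isPushout_left B' B A' A hsq D' D C' C hsq').symm
  haveI h2 : Algebra.IsPushout B' D' A' C' :=
    (isPushout_right B' B A' A hsq D' D C' C hsq').symm
  exact ⟨hP B' D' B D h, hP B' D' A' C' h⟩

include hsq hsq' in
theorem flat_backward (h1 : Module.Flat B D) (h2 : Module.Flat A' C') : Module.Flat B' D' := by
  obtain ⟨e, -⟩ := exists_equiv_glue B' B A' A D' D C' C hsq'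
  have := (Groth.Agent.S2020.result B' B A' A hsq).1 D C' (phi B A' A D C' C) h1 h2
  exact Module.Flat.of_linearEquiv e

end Forward



section General

/-- If `S ⊗ D'` is a finite type `S`-algebra there is a finite subset `T` of `D'` such that for
every subalgebra `D'' ⊇ T` all `1 ⊗ [d']` vanish in `S ⊗ (D' ⧸ D'')`. -/
theorem exists_finset_subalgebra (R S D' : Type*) [CommRing R] [CommRing S] [CommRing D']
    [Algebra R S] [Algebra R D'] [Algebra.FiniteType S (S ⊗[R] D')] :
    ∃ T : Finset D', ∀ D'' : Subalgebra R D', (↑T : Set D') ⊆ D'' → ∀ d' : D',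
      ((1 : S) ⊗ₜ[R] (Subalgebra.toSubmodule D'').mkQ d' :
        S ⊗[R] (D' ⧸ Subalgebra.toSubmodule D'')) = 0 := by
  obtain ⟨s, hs⟩ := (Algebra.FiniteType.out : (⊤ : Subalgebra S (S ⊗[R] D')).FG)
  obtain ⟨N, hN, hsub⟩ := TensorProduct.exists_finite_submodule_right_of_setFinite
    (↑s : Set (S ⊗[R] D')) s.finite_toSet
  obtain ⟨T, hT⟩ := Module.Finite.iff_fg.mp hN
  refine ⟨T, fun D'' hTD d' => ?_⟩
  have hle : N ≤ Subalgebra.toSubmodule D'' := by
    rw [← hT, Submodule.span_le]
    exact hTD
  let ι : S ⊗[R] D'' →ₐ[S] S ⊗[R] D' := Algebra.TensorProduct.map (AlgHom.id S S) D''.val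
  have hι : ι.range = ⊤ := by
    rw [eq_top_iff, ← hs, Algebra.adjoin_le_iff]
    intro x hx
    obtain ⟨y, rfl⟩ := hsub hx
    clear hx
    induction y using TensorProduct.induction_on with
    | zero => rw [map_zero]; exact zero_mem _
    | tmul a n =>
      refine ⟨a ⊗ₜ[R] (⟨n.1, hle n.2⟩ : D''), ?_⟩
      simp only [ι, AlgHom.toRingHom_eq_coe, RingHom.coe_coe, Algebra.TensorProduct.map_tmul,
        AlgHom.coe_id, id_eq, Subalgebra.coe_val, LinearMap.lTensor_tmul, Submodule.coe_subtype]
    | add x y hx hy => rw [map_add]; exact add_mem hx hy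
  have h1 : ((1 : S) ⊗ₜ[R] d' : S ⊗[R] D') ∈ ι.range := by rw [hι]; exact Algebra.mem_top
  obtain ⟨y, hy⟩ := (AlgHom.mem_range ι).mp h1
  have h2 : ∀ y : S ⊗[R] D'', ((Subalgebra.toSubmodule D'').mkQ.lTensor S) (ι y) = 0 := by
    intro y
    induction y using TensorProduct.induction_on with
    | zero => rw [map_zero, map_zero]
    | tmul a n =>
      have : (Subalgebra.toSubmodule D'').mkQ (n : D') = 0 := by
        rw [Submodule.mkQ_apply, Submodule.Quotient.mk_eq_zero]
        exact n.2
      simp only [ι, Algebra.TensorProduct.map_tmul, AlgHom.coe_id, id_eq, Subalgebra.coe_val,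
        LinearMap.lTensor_tmul, this, TensorProduct.tmul_zero]
    | add x y hx hy => rw [map_add, map_add, hx, hy, add_zero]
  have h3 := h2 y
  rw [hy, LinearMap.lTensor_tmul] at h3
  exact h3

end General

section FT

variable (B' B A' A : Type u) [CommRing B'] [CommRing B] [CommRing A'] [CommRing A]
    [Algebra B' B] [Algebra B' A'] [Algebra B A] [Algebra A' A] [Algebra B' A]
    [IsScalarTower B' B A] [IsScalarTower B' A' A]
    (hsq : EtMil.IsFibreSquare B' B A' A)
    (D' D C' C : Type u) [CommRing D'] [CommRing D] [CommRing C'] [CommRing C]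
    [Algebra D' D] [Algebra D' C'] [Algebra D C] [Algebra C' C] [Algebra D' C]
    [IsScalarTower D' D C] [IsScalarTower D' C' C]
    (hsq' : EtMil.IsFibreSquare D' D C' C)
    [Algebra B' D'] [Algebra B D] [Algebra A' C'] [Algebra A C]
    [Algebra B' D] [IsScalarTower B' B D] [IsScalarTower B' D' D]
    [Algebra B' C'] [IsScalarTower B' A' C'] [IsScalarTower B' D' C']
    [Algebra B C] [IsScalarTower B A C] [IsScalarTower B D C]
    [Algebra A' C] [IsScalarTower A' A C] [IsScalarTower A' C' C]
    [Algebra.IsPushout B D A C] [Algebra.IsPushout A' C' A C]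

include hsq hsq' in
theorem finiteType_backward (h1 : Algebra.FiniteType B D) (h2 : Algebra.FiniteType A' C') :
    Algebra.FiniteType B' D' := by
  haveI hl := isPushout_left B' B A' A hsq D' D C' C hsq'
  haveI hr := isPushout_right B' B A' A hsq D' D C' C hsq'
  haveI : Algebra.FiniteType B (B ⊗[B'] D') :=
    Algebra.FiniteType.equiv h1 (Algebra.IsPushout.equiv B' B D' D).symm
  haveI : Algebra.FiniteType A' (A' ⊗[B'] D') :=
    Algebra.FiniteType.equiv h2 (Algebra.IsPushout.equiv B' A' D' C').symm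
  obtain ⟨T1, hT1⟩ := exists_finset_subalgebra B' B D'
  obtain ⟨T2, hT2⟩ := exists_finset_subalgebra B' A' D'
  classical
  have hsub1 : (↑T1 : Set D') ⊆ Algebra.adjoin B' (↑(T1 ∪ T2) : Set D') := fun x hx =>
    Algebra.subset_adjoin (by simp only [Finset.coe_union, Set.mem_union]; exact Or.inl hx)
  have hsub2 : (↑T2 : Set D') ⊆ Algebra.adjoin B' (↑(T1 ∪ T2) : Set D') := fun x hx =>
    Algebra.subset_adjoin (by simp only [Finset.coe_union, Set.mem_union]; exact Or.inr hx)
  have htop : Algebra.adjoin B' (↑(T1 ∪ T2) : Set D') = ⊤ := by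
    rw [eq_top_iff]
    intro d' _
    have hq : (Subalgebra.toSubmodule (Algebra.adjoin B' (↑(T1 ∪ T2) : Set D'))).mkQ d' = 0 :=
      Groth.Agent.Lib.Helper22.fs_eq_zero_of_forall hsq
        (L' := D' ⧸ Subalgebra.toSubmodule (Algebra.adjoin B' (↑(T1 ∪ T2) : Set D')))
        (fun q => by
          obtain ⟨m, rfl⟩ := Submodule.mkQ_surjective _ q
          exact hT2 _ hsub2 m) _ (hT1 _ hsub1 d')
    rwa [Submodule.mkQ_apply, Submodule.Quotient.mk_eq_zero] at hq
  exact ⟨⟨T1 ∪ T2, htop⟩⟩

end FT



section General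

/-- If `p : P' → D'` is a surjection of `R`-algebras with `P'` finitely presented and `X ⊗ D'`
finitely presented over `X`, there is a finite subset `T` of `ker p` such that for every ideal
`K'' ⊇ T` of `P'` and every `k ∈ ker p`, `1 ⊗ [k] = 0` in `X ⊗ (P' ⧸ K'')`. -/
theorem exists_finset_ker (R X P' D' : Type*) [CommRing R] [CommRing X] [CommRing P'] [CommRing D']
    [Algebra R X] [Algebra R P'] [Algebra R D'] [Algebra.FinitePresentation R P']
    [Algebra.FinitePresentation X (X ⊗[R] D')] (p : P' →ₐ[R] D') (hp : Function.Surjective p) :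
    ∃ T : Finset P', (↑T : Set P') ⊆ RingHom.ker p ∧ ∀ K'' : Ideal P', (↑T : Set P') ⊆ K'' →
      ∀ k ∈ RingHom.ker p,
        ((1 : X) ⊗ₜ[R] (Ideal.Quotient.mk K'' k) : X ⊗[R] (P' ⧸ K'')) = 0 := by
  let q : X ⊗[R] P' →ₐ[X] X ⊗[R] D' := Algebra.TensorProduct.map (AlgHom.id X X) p
  have hq : Function.Surjective q :=
    Algebra.TensorProduct.map_surjective (AlgHom.id X X) p Function.surjective_id hp
  have hfg : (RingHom.ker q.toRingHom).FG := Algebra.FinitePresentation.ker_fG_of_surjective q hq
  have hker : RingHom.ker q.toRingHom =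
      (RingHom.ker p).map (Algebra.TensorProduct.includeRight : P' →ₐ[R] X ⊗[R] P') :=
    Algebra.TensorProduct.lTensor_ker p hp
  rw [hker] at hfg
  obtain ⟨s', hs', hspan⟩ := (Submodule.fg_span_iff_fg_span_finset_subset _).mp hfg
  classical
  obtain ⟨T, hT, rfl⟩ := Finset.subset_set_image_iff.mp hs'
  refine ⟨T, hT, fun K'' hTK k hk => ?_⟩
  have hmem : ((1 : X) ⊗ₜ[R] k : X ⊗[R] P') ∈
      Ideal.span ((Algebra.TensorProduct.includeRight : P' →ₐ[R] X ⊗[R] P') '' (↑T : Set P')) := by
    have h0 : ((1 : X) ⊗ₜ[R] k : X ⊗[R] P') ∈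
        (RingHom.ker p).map (Algebra.TensorProduct.includeRight : P' →ₐ[R] X ⊗[R] P') :=
      Ideal.mem_map_of_mem _ hk
    have h1 : (RingHom.ker p).map (Algebra.TensorProduct.includeRight : P' →ₐ[R] X ⊗[R] P') =
        Ideal.span ((Algebra.TensorProduct.includeRight : P' →ₐ[R] X ⊗[R] P') '' (↑T : Set P')) := by
      rw [Finset.coe_image] at hspan
      exact hspan
    rw [← h1]
    exact h0
  have hle : Ideal.span ((Algebra.TensorProduct.includeRight : P' →ₐ[R] X ⊗[R] P') '' (↑T : Set P'))
      ≤ RingHom.ker (Algebra.TensorProduct.map (AlgHom.id R X) (Ideal.Quotient.mkₐ R K'')) := by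
    rw [Ideal.span_le]
    rintro _ ⟨t, ht, rfl⟩
    have : Ideal.Quotient.mk K'' t = 0 := Ideal.Quotient.eq_zero_iff_mem.mpr (hTK ht)
    simp only [SetLike.mem_coe, RingHom.mem_ker, Algebra.TensorProduct.includeRight_apply,
      Algebra.TensorProduct.map_tmul, AlgHom.coe_id, id_eq, Ideal.Quotient.mkₐ_eq_mk, this,
      TensorProduct.tmul_zero]
  have h2 := hle hmem
  simpa only [RingHom.mem_ker, Algebra.TensorProduct.map_tmul, AlgHom.coe_id, id_eq,
    Ideal.Quotient.mkₐ_eq_mk] using h2

end General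

section FP

variable (B' B A' A : Type u) [CommRing B'] [CommRing B] [CommRing A'] [CommRing A]
    [Algebra B' B] [Algebra B' A'] [Algebra B A] [Algebra A' A] [Algebra B' A]
    [IsScalarTower B' B A] [IsScalarTower B' A' A]
    (hsq : EtMil.IsFibreSquare B' B A' A)
    (D' D C' C : Type u) [CommRing D'] [CommRing D] [CommRing C'] [CommRing C]
    [Algebra D' D] [Algebra D' C'] [Algebra D C] [Algebra C' C] [Algebra D' C]
    [IsScalarTower D' D C] [IsScalarTower D' C' C]
    (hsq' : EtMil.IsFibreSquare D' D C' C)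
    [Algebra B' D'] [Algebra B D] [Algebra A' C'] [Algebra A C]
    [Algebra B' D] [IsScalarTower B' B D] [IsScalarTower B' D' D]
    [Algebra B' C'] [IsScalarTower B' A' C'] [IsScalarTower B' D' C']
    [Algebra B C] [IsScalarTower B A C] [IsScalarTower B D C]
    [Algebra A' C] [IsScalarTower A' A C] [IsScalarTower A' C' C]
    [Algebra.IsPushout B D A C] [Algebra.IsPushout A' C' A C]

include hsq hsq' in
theorem fp_backward (hflat : Module.Flat B' D') (h1 : Algebra.FinitePresentation B D)
    (h2 : Algebra.FinitePresentation A' C') : Algebra.FinitePresentation B' D' := by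
  haveI hl := isPushout_left B' B A' A hsq D' D C' C hsq'
  haveI hr := isPushout_right B' B A' A hsq D' D C' C hsq'
  haveI : Algebra.FinitePresentation B (B ⊗[B'] D') :=
    Algebra.FinitePresentation.equiv (Algebra.IsPushout.equiv B' B D' D).symm
  haveI : Algebra.FinitePresentation A' (A' ⊗[B'] D') :=
    Algebra.FinitePresentation.equiv (Algebra.IsPushout.equiv B' A' D' C').symm
  have hft : Algebra.FiniteType B' D' :=
    finiteType_backward B' B A' A hsq D' D C' C hsq' inferInstance inferInstance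
  obtain ⟨n, p, hp⟩ := Algebra.FiniteType.iff_quotient_mvPolynomial''.mp hft
  obtain ⟨T1, hT1, hT1'⟩ := exists_finset_ker B' B (MvPolynomial (Fin n) B') D' p hp
  obtain ⟨T2, hT2, hT2'⟩ := exists_finset_ker B' A' (MvPolynomial (Fin n) B') D' p hp
  classical
  have hKle : Ideal.span (↑(T1 ∪ T2) : Set (MvPolynomial (Fin n) B')) ≤ RingHom.ker p := by
    rw [Ideal.span_le]
    intro x hx
    simp only [Finset.coe_union, Set.mem_union] at hx
    rcases hx with hx | hx
    · exact hT1 hx
    · exact hT2 hx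
  have hsub1 : (↑T1 : Set (MvPolynomial (Fin n) B')) ⊆
      Ideal.span (↑(T1 ∪ T2) : Set (MvPolynomial (Fin n) B')) := fun x hx =>
    Ideal.subset_span (by simp only [Finset.coe_union, Set.mem_union]; exact Or.inl hx)
  have hsub2 : (↑T2 : Set (MvPolynomial (Fin n) B')) ⊆
      Ideal.span (↑(T1 ∪ T2) : Set (MvPolynomial (Fin n) B')) := fun x hx =>
    Ideal.subset_span (by simp only [Finset.coe_union, Set.mem_union]; exact Or.inr hx)
  let π : (MvPolynomial (Fin n) B' ⧸ Ideal.span (↑(T1 ∪ T2) : Set (MvPolynomial (Fin n) B')))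
      →ₗ[B'] D' :=
    (Ideal.Quotient.liftₐ _ p (fun a ha => hKle ha)).toLinearMap
  have hπmk : ∀ x, π (Ideal.Quotient.mk _ x) = p x := fun x => rfl
  have hπ : Function.Surjective π := fun d => by
    obtain ⟨x, rfl⟩ := hp d
    exact ⟨Ideal.Quotient.mk _ x, hπmk x⟩
  have hinj : ∀ (X : Type u) [AddCommGroup X] [Module B' X],
      Function.Injective ((LinearMap.ker π).subtype.lTensor X) := fun X _ _ =>
    LinearMap.lTensor_injective_of_exact_of_flat π hπ (LinearMap.ker π).subtype
      (Submodule.injective_subtype _) (LinearMap.exact_subtype_ker_map π) X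
  have hz1 : ∀ l : LinearMap.ker π, ((1 : B) ⊗ₜ[B'] l : B ⊗[B'] (LinearMap.ker π)) = 0 := by
    intro l
    apply hinj B
    rw [map_zero, LinearMap.lTensor_tmul]
    obtain ⟨k, hk⟩ := Ideal.Quotient.mk_surjective l.1
    have hkk : k ∈ RingHom.ker p := by
      rw [RingHom.mem_ker, ← hπmk, hk]
      exact l.2
    have := hT1' _ hsub1 k hkk
    rw [hk] at this
    exact this
  have hz2 : ∀ l : LinearMap.ker π, ((1 : A') ⊗ₜ[B'] l : A' ⊗[B'] (LinearMap.ker π)) = 0 := by
    intro l
    apply hinj A'
    rw [map_zero, LinearMap.lTensor_tmul]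
    obtain ⟨k, hk⟩ := Ideal.Quotient.mk_surjective l.1
    have hkk : k ∈ RingHom.ker p := by
      rw [RingHom.mem_ker, ← hπmk, hk]
      exact l.2
    have := hT2' _ hsub2 k hkk
    rw [hk] at this
    exact this
  have hL : ∀ l : LinearMap.ker π, l = 0 := fun l =>
    Groth.Agent.Lib.Helper22.fs_eq_zero_of_forall hsq hz2 l (hz1 l)
  have hker : RingHom.ker p = Ideal.span (↑(T1 ∪ T2) : Set (MvPolynomial (Fin n) B')) := by
    refine le_antisymm (fun k hk => ?_) hKle
    have hmem : Ideal.Quotient.mk _ k ∈ LinearMap.ker π := by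
      rw [LinearMap.mem_ker, hπmk]
      exact hk
    have := congrArg Subtype.val (hL ⟨_, hmem⟩)
    exact Ideal.Quotient.eq_zero_iff_mem.mp this
  refine Algebra.FinitePresentation.of_surjective hp ?_
  change (RingHom.ker p).FG
  rw [hker]
  exact ⟨_, rfl⟩

end FP



section Factor

open Groth.Agent.Lib.Helper22

variable {B' B A' A : Type u} [CommRing B'] [CommRing B] [CommRing A'] [CommRing A]
  [Algebra B' B] [Algebra B' A'] [Algebra B A] [Algebra A' A] [Algebra B' A]
  [IsScalarTower B' B A] [IsScalarTower B' A' A]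

/-- Every ring map from `B' = B ×_A A'` to a field factors through `B` or through `A'`. -/
theorem exists_factor (hsq : EtMil.IsFibreSquare B' B A' A) (K : Type*) [Field K] (χ : B' →+* K) :
    (∃ ψ : B →+* K, ψ.comp (algebraMap B' B) = χ) ∨
      (∃ ψ : A' →+* K, ψ.comp (algebraMap B' A') = χ) := by
  by_cases h : RingHom.ker (algebraMap B' B) ≤ RingHom.ker χ
  · left
    exact ⟨RingHom.liftOfSurjective (algebraMap B' B) (fs_surjective hsq) ⟨χ, h⟩,
      RingHom.liftOfSurjective_comp _ _ _⟩
  · right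
    obtain ⟨j, hj, hχj⟩ := SetLike.not_le_iff_exists.mp h
    have hj0 : algebraMap B' B j = 0 := hj
    have hχ : χ j ≠ 0 := hχj
    have hmul : ∀ x y : A', jmap hsq j hj0 (x * y) * j = jmap hsq j hj0 x * jmap hsq j hj0 y := by
      intro x y
      apply fs_ext hsq
      · rw [RingHom.map_mul, RingHom.map_mul, jmap_algebraMap_B, jmap_algebraMap_B, zero_mul,
          zero_mul]
      · rw [RingHom.map_mul, RingHom.map_mul, jmap_algebraMap_A', jmap_algebraMap_A',
          jmap_algebraMap_A']
        ring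
    have hB : ∀ b' : B', jmap hsq j hj0 (algebraMap B' A' b') = b' * j := by
      intro b'
      rw [Algebra.algebraMap_eq_smul_one, map_smul, jmap_one, smul_eq_mul]
    refine ⟨{ toFun := fun a' => χ (jmap hsq j hj0 a') * (χ j)⁻¹
              map_one' := by rw [jmap_one]; exact mul_inv_cancel₀ hχ
              map_mul' := fun x y => by
                have := congrArg χ (hmul x y)
                rw [RingHom.map_mul, RingHom.map_mul] at this
                calc χ (jmap hsq j hj0 (x * y)) * (χ j)⁻¹
                    = (χ (jmap hsq j hj0 (x * y)) * χ j) * ((χ j)⁻¹ * (χ j)⁻¹) := by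
                      field_simp
                  _ = χ (jmap hsq j hj0 x) * (χ j)⁻¹ * (χ (jmap hsq j hj0 y) * (χ j)⁻¹) := by
                      rw [this]; ring
              map_zero' := by rw [map_zero, map_zero, zero_mul]
              map_add' := fun x y => by rw [map_add, map_add, add_mul] }, ?_⟩
    ext b'
    simp only [RingHom.coe_comp, RingHom.coe_mk, MonoidHom.coe_mk, OneHom.coe_mk,
      Function.comp_apply, hB, map_mul]
    field_simp

end Factor

section Fibre

/-- base change of a formally smooth pushout to an algebra over the base change ring -/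
theorem formallySmooth_fiber_of_factor (R S D' D K : Type u) [CommRing R] [CommRing S]
    [CommRing D'] [CommRing D] [CommRing K] [Algebra R S] [Algebra R D'] [Algebra S D]
    [Algebra D' D] [Algebra R D] [IsScalarTower R S D] [IsScalarTower R D' D]
    [Algebra.IsPushout R S D' D] [Algebra.FormallySmooth S D] [Algebra R K] (ψ : S →+* K)
    (hψ : ψ.comp (algebraMap R S) = algebraMap R K) :
    Algebra.FormallySmooth K (K ⊗[R] D') := by
  letI : Algebra S K := ψ.toAlgebra
  haveI : IsScalarTower R S K := IsScalarTower.of_algebraMap_eq' (R := R) (S := S) (A := K) hψ.symm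
  let e1 : K ⊗[S] (S ⊗[R] D') ≃ₐ[K] K ⊗[R] D' := Algebra.TensorProduct.cancelBaseChange R S K K D'
  let e2 : K ⊗[S] (S ⊗[R] D') ≃ₐ[K] K ⊗[S] D :=
    Algebra.TensorProduct.congr AlgEquiv.refl (Algebra.IsPushout.equiv R S D' D)
  haveI : Algebra.FormallySmooth K (K ⊗[S] D) := inferInstance
  exact Algebra.FormallySmooth.of_equiv (e2.symm.trans e1)

end Fibre

section SmEt

variable (B' B A' A : Type u) [CommRing B'] [CommRing B] [CommRing A'] [CommRing A]
    [Algebra B' B] [Algebra B' A'] [Algebra B A] [Algebra A' A] [Algebra B' A]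
    [IsScalarTower B' B A] [IsScalarTower B' A' A]
    (hsq : EtMil.IsFibreSquare B' B A' A)
    (D' D C' C : Type u) [CommRing D'] [CommRing D] [CommRing C'] [CommRing C]
    [Algebra D' D] [Algebra D' C'] [Algebra D C] [Algebra C' C] [Algebra D' C]
    [IsScalarTower D' D C] [IsScalarTower D' C' C]
    (hsq' : EtMil.IsFibreSquare D' D C' C)
    [Algebra B' D'] [Algebra B D] [Algebra A' C'] [Algebra A C]
    [Algebra B' D] [IsScalarTower B' B D] [IsScalarTower B' D' D]
    [Algebra B' C'] [IsScalarTower B' A' C'] [IsScalarTower B' D' C']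
    [Algebra B C] [IsScalarTower B A C] [IsScalarTower B D C]
    [Algebra A' C] [IsScalarTower A' A C] [IsScalarTower A' C' C]
    [Algebra.IsPushout B D A C] [Algebra.IsPushout A' C' A C]

include hsq hsq' in
theorem smooth_backward (h1 : Algebra.Smooth B D) (h2 : Algebra.Smooth A' C') :
    Algebra.Smooth B' D' := by
  haveI hl := isPushout_left B' B A' A hsq D' D C' C hsq'
  haveI hr := isPushout_right B' B A' A hsq D' D C' C hsq'
  haveI hflat : Module.Flat B' D' :=
    flat_backward B' B A' A hsq D' D C' C hsq' inferInstance inferInstance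
  haveI : Algebra.FinitePresentation B' D' :=
    fp_backward B' B A' A hsq D' D C' C hsq' hflat inferInstance inferInstance
  refine Algebra.Smooth.of_formallySmooth_fiber (fun I _ => ?_)
  rcases exists_factor hsq I.ResidueField (algebraMap B' I.ResidueField) with ⟨ψ, hψ⟩ | ⟨ψ, hψ⟩
  · exact formallySmooth_fiber_of_factor B' B D' D I.ResidueField ψ hψ
  · exact formallySmooth_fiber_of_factor B' A' D' C' I.ResidueField ψ hψ

include hsq hsq' in
theorem etale_backward (h1 : Algebra.Etale B D) (h2 : Algebra.Etale A' C') :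
    Algebra.Etale B' D' := by
  haveI hl := isPushout_left B' B A' A hsq D' D C' C hsq'
  haveI hr := isPushout_right B' B A' A hsq D' D C' C hsq'
  obtain ⟨hu1, hs1⟩ := Algebra.Etale.iff_formallyUnramified_and_smooth.mp h1
  obtain ⟨hu2, hs2⟩ := Algebra.Etale.iff_formallyUnramified_and_smooth.mp h2
  have hs := smooth_backward B' B A' A hsq D' D C' C hsq' hs1 hs2
  refine Algebra.Etale.iff_formallyUnramified_and_smooth.mpr ⟨⟨?_⟩, hs⟩
  haveI : Subsingleton (B ⊗[B'] Ω[D'⁄B']) :=
    (KaehlerDifferential.tensorKaehlerEquivBase B' B D' D).toEquiv.subsingleton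
  haveI : Subsingleton (A' ⊗[B'] Ω[D'⁄B']) :=
    (KaehlerDifferential.tensorKaehlerEquivBase B' A' D' C').toEquiv.subsingleton
  exact Groth.Agent.S14949.result B' B A' A hsq Ω[D'⁄B']

include hsq hsq' in
theorem main :
    (Algebra.FiniteType B' D' ↔ Algebra.FiniteType B D ∧ Algebra.FiniteType A' C') ∧
    (Module.Flat B' D' ↔ Module.Flat B D ∧ Module.Flat A' C') ∧
    (Module.Flat B' D' ∧ Algebra.FinitePresentation B' D' ↔
      (Module.Flat B D ∧ Algebra.FinitePresentation B D) ∧
        (Module.Flat A' C' ∧ Algebra.FinitePresentation A' C')) ∧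
    (Algebra.Smooth B' D' ↔ Algebra.Smooth B D ∧ Algebra.Smooth A' C') ∧
    (Algebra.Etale B' D' ↔ Algebra.Etale B D ∧ Algebra.Etale A' C') := by
  have fwd_ft : Algebra.FiniteType B' D' → Algebra.FiniteType B D ∧ Algebra.FiniteType A' C' := by
    intro h
    have := forward B' B A' A hsq D' D C' C hsq' RingHom.finiteType_isStableUnderBaseChange
      (RingHom.finiteType_algebraMap.mpr h)
    exact ⟨RingHom.finiteType_algebraMap.mp this.1, RingHom.finiteType_algebraMap.mp this.2⟩
  have fwd_flat : Module.Flat B' D' → Module.Flat B D ∧ Module.Flat A' C' := by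
    intro h
    have := forward B' B A' A hsq D' D C' C hsq' RingHom.Flat.isStableUnderBaseChange
      (RingHom.flat_algebraMap_iff.mpr h)
    exact ⟨RingHom.flat_algebraMap_iff.mp this.1, RingHom.flat_algebraMap_iff.mp this.2⟩
  have fwd_fp : Algebra.FinitePresentation B' D' →
      Algebra.FinitePresentation B D ∧ Algebra.FinitePresentation A' C' := by
    intro h
    have := forward B' B A' A hsq D' D C' C hsq' RingHom.finitePresentation_isStableUnderBaseChange
      (RingHom.finitePresentation_algebraMap.mpr h)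
    exact ⟨RingHom.finitePresentation_algebraMap.mp this.1,
      RingHom.finitePresentation_algebraMap.mp this.2⟩
  have fwd_sm : Algebra.Smooth B' D' → Algebra.Smooth B D ∧ Algebra.Smooth A' C' := by
    intro h
    have := forward B' B A' A hsq D' D C' C hsq' RingHom.Smooth.isStableUnderBaseChange
      (RingHom.smooth_algebraMap.mpr h)
    exact ⟨RingHom.smooth_algebraMap.mp this.1, RingHom.smooth_algebraMap.mp this.2⟩
  have fwd_et : Algebra.Etale B' D' → Algebra.Etale B D ∧ Algebra.Etale A' C' := by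
    intro h
    have := forward B' B A' A hsq D' D C' C hsq' RingHom.Etale.isStableUnderBaseChange
      (RingHom.etale_algebraMap.mpr h)
    exact ⟨RingHom.etale_algebraMap.mp this.1, RingHom.etale_algebraMap.mp this.2⟩
  refine ⟨⟨fwd_ft, fun h => finiteType_backward B' B A' A hsq D' D C' C hsq' h.1 h.2⟩,
    ⟨fwd_flat, fun h => flat_backward B' B A' A hsq D' D C' C hsq' h.1 h.2⟩,
    ⟨fun h => ⟨⟨(fwd_flat h.1).1, (fwd_fp h.2).1⟩, ⟨(fwd_flat h.1).2, (fwd_fp h.2).2⟩⟩,
      fun h => ?_⟩,
    ⟨fwd_sm, fun h => smooth_backward B' B A' A hsq D' D C' C hsq' h.1 h.2⟩,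
    ⟨fwd_et, fun h => etale_backward B' B A' A hsq D' D C' C hsq' h.1 h.2⟩⟩
  have hflat := flat_backward B' B A' A hsq D' D C' C hsq' h.1.1 h.2.1
  exact ⟨hflat, fp_backward B' B A' A hsq D' D C' C hsq' hflat h.1.2 h.2.2⟩

end SmEt


end Groth.Agent.Helper13MilnorAlg
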