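import Groth.Prelude.Def_EtMil
import Mathlib

/-!
# Gluing finite modules over a Milnor square after base change (helper18)
-/
set_option linter.style.haveILetI false
set_option autoImplicit false
set_option linter.unusedSectionVars false
universe u
open TensorProduct

namespace Groth.Agent.Helper18MilGlue


theorem mem_ker_smul_top_aux {C' C : Type u} [CommRing C'] [CommRing C] [Algebra C' C]
    (f : C' →ₐ[C'] C) (hf : Function.Surjective f)
    {M' : Type u} [AddCommGroup M'] [Module C' M'] (m : M')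
    (hm : (1 : C) ⊗ₜ[C'] m = 0) :
    m ∈ (RingHom.ker f) • (⊤ : Submodule C' M') := by
  let e1 : (C' ⧸ RingHom.ker f) ≃ₐ[C'] C := Ideal.quotientKerAlgEquivOfSurjective hf
  let e2 : C ⊗[C'] M' ≃ₗ[C'] (C' ⧸ RingHom.ker f) ⊗[C'] M' :=
    TensorProduct.congr (e1.symm.toLinearEquiv) (LinearEquiv.refl C' M')
  let e3 := TensorProduct.quotTensorEquivQuotSMul M' (RingHom.ker f)
  have h1 : e3 (e2 ((1 : C) ⊗ₜ[C'] m)) = Submodule.Quotient.mk m := by
    simp only [e2, TensorProduct.congr_tmul, LinearEquiv.refl_apply]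
    have h0 : (e1.symm.toLinearEquiv : C ≃ₗ[C'] (C' ⧸ RingHom.ker f)) 1
        = Ideal.Quotient.mk (RingHom.ker f) 1 := by
      change e1.symm 1 = _
      rw [map_one, map_one]
    rw [h0, TensorProduct.quotTensorEquivQuotSMul_mk_tmul, one_smul]
  rw [hm, map_zero, map_zero] at h1
  exact (Submodule.Quotient.mk_eq_zero _).1 h1.symm

/-- for a surjective ring map `C' → C`, `1 ⊗ m = 0` in `C ⊗[C'] M'` implies `m ∈ J M'` -/
theorem mem_ker_smul_top {C' C : Type u} [CommRing C'] [CommRing C] [Algebra C' C]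
    (hs : Function.Surjective (algebraMap C' C))
    {M' : Type u} [AddCommGroup M'] [Module C' M'] (m : M')
    (hm : (1 : C) ⊗ₜ[C'] m = 0) :
    m ∈ (RingHom.ker (algebraMap C' C)) • (⊤ : Submodule C' M') :=
  mem_ker_smul_top_aux (Algebra.ofId C' C) hs m hm



section
variable {D' D C' C : Type u} [CommRing D'] [CommRing D] [CommRing C'] [CommRing C]
  [Algebra D' D] [Algebra D' C'] [Algebra D C] [Algebra C' C] [Algebra D' C]
  [IsScalarTower D' D C] [IsScalarTower D' C' C]
  {N M' : Type u} [AddCommGroup N] [Module D N] [Module D' N] [IsScalarTower D' D N]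
  [AddCommGroup M'] [Module C' M'] [Module D' M'] [IsScalarTower D' C' M']

theorem mem_glue_iff (φ : C ⊗[D] N ≃ₗ[C] C ⊗[C'] M') (w : N × M') :
    w ∈ EtMil.glue D' φ ↔ φ ((1 : C) ⊗ₜ[D] w.1) = (1 : C) ⊗ₜ[C'] w.2 := Iff.rfl

theorem glue_fg (φ : C ⊗[D] N ≃ₗ[C] C ⊗[C'] M')
    (h1 : Function.Surjective (algebraMap D' D)) (h2 : Function.Surjective (algebraMap C' C))
    (h3 : ∀ j : C', algebraMap C' C j = 0 →
      ∃ δ : D', algebraMap D' C' δ = j ∧ algebraMap D' D δ = 0)
    [Module.Finite D N] [Module.Finite C' M'] : (EtMil.glue D' φ).FG := by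
  classical
  obtain ⟨r, y, hy⟩ := Module.Finite.exists_fin (R := D) (M := N)
  obtain ⟨s, z, hz⟩ := Module.Finite.exists_fin (R := C') (M := M')
  -- surjectivity of m ↦ 1 ⊗ m
  have hψ : ∀ t : C ⊗[C'] M', ∃ m : M', (1 : C) ⊗ₜ[C'] m = t := by
    intro t
    induction t using TensorProduct.induction_on with
    | zero => exact ⟨0, by simp⟩
    | tmul c m =>
      obtain ⟨c', rfl⟩ := h2 c
      refine ⟨c' • m, ?_⟩
      rw [← TensorProduct.smul_tmul, Algebra.algebraMap_eq_smul_one]
    | add a b ha hb =>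
      obtain ⟨m₁, rfl⟩ := ha
      obtain ⟨m₂, rfl⟩ := hb
      exact ⟨m₁ + m₂, by rw [TensorProduct.tmul_add]⟩
  choose z' hz' using fun i => hψ (φ ((1 : C) ⊗ₜ[D] y i))
  let x : Fin r → N × M' := fun i => (y i, z' i)
  have hx : ∀ i, x i ∈ EtMil.glue D' φ := fun i => (hz' i).symm
  -- the C'-submodule T
  let ψL : M' →ₗ[C'] C ⊗[C'] M' := TensorProduct.mk C' C M' 1
  let T : Submodule C' (C ⊗[C'] M') := Submodule.map ψL (Submodule.span C' (Set.range z'))
  have hTC : ∀ (c : C) (t : C ⊗[C'] M'), t ∈ T → c • t ∈ T := by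
    intro c t ht
    obtain ⟨c', rfl⟩ := h2 c
    rw [algebraMap_smul]
    exact T.smul_mem c' ht
  have hT1 : ∀ n : N, φ ((1 : C) ⊗ₜ[D] n) ∈ T := by
    intro n
    have hn : n ∈ Submodule.span D (Set.range y) := by rw [hy]; trivial
    induction hn using Submodule.span_induction with
    | mem n hn =>
      obtain ⟨i, rfl⟩ := hn
      rw [← hz' i]
      exact ⟨z' i, Submodule.subset_span ⟨i, rfl⟩, rfl⟩
    | zero => simp
    | add a b _ _ ha hb =>
      rw [TensorProduct.tmul_add, map_add]
      exact T.add_mem ha hb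
    | smul d n _ hn =>
      have : (1 : C) ⊗ₜ[D] (d • n) = algebraMap D C d • ((1 : C) ⊗ₜ[D] n) := by
        rw [← TensorProduct.smul_tmul, TensorProduct.smul_tmul', Algebra.smul_def, mul_one,
          smul_eq_mul, mul_one]
      rw [this, map_smul]
      exact hTC _ _ hn
  have hT : ∀ t₀ : C ⊗[D] N, φ t₀ ∈ T := by
    intro t₀
    induction t₀ using TensorProduct.induction_on with
    | zero => simp
    | tmul c n =>
      have : c ⊗ₜ[D] n = c • ((1 : C) ⊗ₜ[D] n) := by
        rw [TensorProduct.smul_tmul', smul_eq_mul, mul_one]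
      rw [this, map_smul]
      exact hTC _ _ (hT1 n)
    | add a b ha hb =>
      rw [map_add]
      exact T.add_mem ha hb
  have hv : ∀ k, ∃ v ∈ Submodule.span C' (Set.range z'),
      (1 : C) ⊗ₜ[C'] v = (1 : C) ⊗ₜ[C'] z k := by
    intro k
    have := hT (φ.symm ((1 : C) ⊗ₜ[C'] z k))
    rw [LinearEquiv.apply_symm_apply] at this
    obtain ⟨v, hv, hv'⟩ := this
    exact ⟨v, hv, hv'⟩
  choose v hv hv' using hv
  let u : Fin s → M' := fun k => z k - v k
  have hu : ∀ k, (1 : C) ⊗ₜ[C'] u k = 0 := fun k => by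
    simp only [u]
    rw [TensorProduct.tmul_sub, hv' k, sub_self]
  have hu' : ∀ k, ((0 : N), u k) ∈ EtMil.glue D' φ := fun k => by
    rw [mem_glue_iff]
    simp [hu k]
  let G : Submodule D' (N × M') :=
    Submodule.span D' (Set.range x ∪ Set.range (fun k => ((0 : N), u k)))
  have hGle : G ≤ EtMil.glue D' φ := by
    apply Submodule.span_le.2
    rintro w (⟨i, rfl⟩ | ⟨k, rfl⟩)
    · exact hx i
    · exact hu' k
  have hxG : ∀ i, x i ∈ G := fun i => Submodule.subset_span (Or.inl ⟨i, rfl⟩)
  have huG : ∀ k, ((0 : N), u k) ∈ G := fun k => Submodule.subset_span (Or.inr ⟨k, rfl⟩)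
  set J := RingHom.ker (algebraMap C' C) with hJ
  have K1 : ∀ j ∈ J, ∀ i, ((0 : N), j • z' i) ∈ G := by
    intro j hj i
    obtain ⟨δ, hδ1, hδ2⟩ := h3 j hj
    have : ((0 : N), j • z' i) = δ • x i := by
      ext
      · change (0 : N) = δ • y i
        rw [← algebraMap_smul D δ (y i), hδ2, zero_smul]
      · change j • z' i = δ • z' i
        rw [← algebraMap_smul C' δ (z' i), hδ1]
    rw [this]
    exact G.smul_mem _ (hxG i)
  have K2 : ∀ j ∈ J, ∀ k, ((0 : N), j • u k) ∈ G := by
    intro j hj k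
    obtain ⟨δ, hδ1, hδ2⟩ := h3 j hj
    have : ((0 : N), j • u k) = δ • ((0 : N), u k) := by
      ext
      · change (0 : N) = δ • (0 : N)
        rw [smul_zero]
      · change j • u k = δ • u k
        rw [← algebraMap_smul C' δ (u k), hδ1]
    rw [this]
    exact G.smul_mem _ (huG k)
  have hadd : ∀ a b : M', ((0 : N), a + b) = ((0 : N), a) + ((0 : N), b) := by
    intro a b; ext <;> simp
  have K3 : ∀ w ∈ Submodule.span C' (Set.range z'), ∀ j ∈ J, ((0 : N), j • w) ∈ G := by
    intro w hw
    induction hw using Submodule.span_induction with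
    | mem w hw =>
      obtain ⟨i, rfl⟩ := hw
      exact fun j hj => K1 j hj i
    | zero =>
      intro j _
      rw [smul_zero]
      exact G.zero_mem
    | add a b _ _ ha hb =>
      intro j hj
      rw [smul_add, hadd]
      exact G.add_mem (ha j hj) (hb j hj)
    | smul c' a _ ha =>
      intro j hj
      rw [smul_smul]
      exact ha (j * c') (J.mul_mem_right _ hj)
  have K4 : ∀ k, ∀ j ∈ J, ((0 : N), j • z k) ∈ G := by
    intro k j hj
    have : z k = v k + u k := by simp [u]
    rw [this, smul_add, hadd]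
    exact G.add_mem (K3 _ (hv k) j hj) (K2 j hj k)
  have K5 : ∀ m : M', ∀ j ∈ J, ((0 : N), j • m) ∈ G := by
    intro m
    have hm : m ∈ Submodule.span C' (Set.range z) := by rw [hz]; trivial
    induction hm using Submodule.span_induction with
    | mem w hw =>
      obtain ⟨k, rfl⟩ := hw
      exact fun j hj => K4 k j hj
    | zero =>
      intro j _
      rw [smul_zero]
      exact G.zero_mem
    | add a b _ _ ha hb =>
      intro j hj
      rw [smul_add, hadd]
      exact G.add_mem (ha j hj) (hb j hj)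
    | smul c' a _ ha =>
      intro j hj
      rw [smul_smul]
      exact ha (j * c') (J.mul_mem_right _ hj)
  have K6 : ∀ m ∈ J • (⊤ : Submodule C' M'), ((0 : N), m) ∈ G := by
    intro m hm
    refine Submodule.smul_induction_on hm (fun j hj n _ => K5 n j hj) ?_
    intro a b ha hb
    rw [hadd]
    exact G.add_mem ha hb
  have K7 : ∀ n : N, ∃ g ∈ G, g.1 = n := by
    intro n
    have hn : n ∈ Submodule.span D (Set.range y) := by rw [hy]; trivial
    induction hn using Submodule.span_induction with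
    | mem n hn =>
      obtain ⟨i, rfl⟩ := hn
      exact ⟨x i, hxG i, rfl⟩
    | zero => exact ⟨0, G.zero_mem, rfl⟩
    | add a b _ _ ha hb =>
      obtain ⟨g₁, hg₁, rfl⟩ := ha
      obtain ⟨g₂, hg₂, rfl⟩ := hb
      exact ⟨g₁ + g₂, G.add_mem hg₁ hg₂, rfl⟩
    | smul d n _ hn =>
      obtain ⟨g, hg, rfl⟩ := hn
      obtain ⟨d', rfl⟩ := h1 d
      refine ⟨d' • g, G.smul_mem _ hg, ?_⟩
      rw [Prod.smul_fst, algebraMap_smul]
  have hle : EtMil.glue D' φ ≤ G := by
    intro w hw
    obtain ⟨g, hg, hg1⟩ := K7 w.1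
    have hwg : w - g ∈ EtMil.glue D' φ := (EtMil.glue D' φ).sub_mem hw (hGle hg)
    have h0 : (w - g).1 = 0 := by rw [Prod.fst_sub, hg1, sub_self]
    rw [mem_glue_iff, h0, TensorProduct.tmul_zero, map_zero] at hwg
    have hm := mem_ker_smul_top h2 (w - g).2 hwg.symm
    have h6 := K6 _ hm
    have : w = g + ((0 : N), (w - g).2) := by
      ext
      · simp [hg1]
      · simp
    rw [this]
    exact G.add_mem hg h6
  have : EtMil.glue D' φ = G := le_antisymm hle hGle
  rw [this]
  exact Submodule.fg_span ((Set.finite_range _).union (Set.finite_range _))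



end

/-- base change of a surjection along a pushout is surjective -/
theorem surj_of_isPushout (R S R' S' : Type u) [CommRing R] [CommRing S] [CommRing R'] [CommRing S']
    [Algebra R S] [Algebra R R'] [Algebra S S'] [Algebra R' S'] [Algebra R S']
    [IsScalarTower R R' S'] [IsScalarTower R S S'] [Algebra.IsPushout R S R' S']
    (h : Function.Surjective (algebraMap R S)) : Function.Surjective (algebraMap R' S') := by
  intro x
  have hb : IsBaseChange S (IsScalarTower.toAlgHom R R' S').toLinearMap := Algebra.IsPushout.out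
  induction x using hb.inductionOn with
  | zero => exact ⟨0, map_zero _⟩
  | tmul m => exact ⟨m, rfl⟩
  | smul s n hn =>
    obtain ⟨m, rfl⟩ := hn
    obtain ⟨r, rfl⟩ := h s
    refine ⟨algebraMap R R' r * m, ?_⟩
    rw [map_mul, ← IsScalarTower.algebraMap_apply, Algebra.smul_def,
      ← IsScalarTower.algebraMap_apply]
  | add a b ha hb' =>
    obtain ⟨m₁, rfl⟩ := ha
    obtain ⟨m₂, rfl⟩ := hb'
    exact ⟨m₁ + m₂, map_add _ _ _⟩



section
variable (B' B A' A : Type u) [CommRing B'] [CommRing B] [CommRing A'] [CommRing A]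
    [Algebra B' B] [Algebra B' A'] [Algebra B A] [Algebra A' A] [Algebra B' A] [IsScalarTower B' B A] [IsScalarTower B' A' A]
    (hsq : EtMil.IsFibreSquare B' B A' A)
    (D' C' C : Type u) [CommRing D'] [CommRing C'] [CommRing C]
    [Algebra B' D'] [Algebra A' C'] [Algebra A C]
    [Algebra D' C'] [Algebra B' C'] [IsScalarTower B' A' C'] [IsScalarTower B' D' C'] [Algebra.IsPushout B' A' D' C']
    [Algebra D' C] [Algebra B' C] [IsScalarTower B' A C] [IsScalarTower B' D' C] [Algebra.IsPushout B' A D' C]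
    [Algebra C' C] [IsScalarTower D' C' C] [Algebra A' C] [IsScalarTower A' A C] [IsScalarTower A' C' C]

include hsq D' in
theorem surj_C : Function.Surjective (algebraMap C' C) := by
  intro x
  have hb : IsBaseChange A (IsScalarTower.toAlgHom B' D' C).toLinearMap := Algebra.IsPushout.out
  induction x using hb.inductionOn with
  | zero => exact ⟨0, map_zero _⟩
  | tmul m =>
    refine ⟨algebraMap D' C' m, ?_⟩
    rw [← IsScalarTower.algebraMap_apply]
    rfl
  | smul a n hn =>
    obtain ⟨m, rfl⟩ := hn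
    obtain ⟨a', rfl⟩ := hsq.1 a
    refine ⟨algebraMap A' C' a' * m, ?_⟩
    rw [map_mul, ← IsScalarTower.algebraMap_apply, Algebra.smul_def,
      ← IsScalarTower.algebraMap_apply]
  | add a b ha hb' =>
    obtain ⟨m₁, rfl⟩ := ha
    obtain ⟨m₂, rfl⟩ := hb'
    exact ⟨m₁ + m₂, map_add _ _ _⟩

include hsq in
theorem surj_B : Function.Surjective (algebraMap B' B) := by
  intro b
  obtain ⟨a', ha'⟩ := hsq.1 (algebraMap B A b)
  obtain ⟨b', ⟨hb1, -⟩, -⟩ := hsq.2 b a' ha'.symm
  exact ⟨b', hb1⟩

include hsq in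
theorem ker_C (j : C') (hj : algebraMap C' C j = 0) :
    ∃ δ : D', algebraMap D' C' δ = j ∧ ∃ (n : ℕ) (b : Fin n → B') (d : Fin n → D'),
      (∀ i, algebraMap B' B (b i) = 0) ∧ δ = ∑ i, algebraMap B' D' (b i) * d i := by
  let e' : A' ⊗[B'] D' ≃ₐ[A'] C' := Algebra.IsPushout.equiv B' A' D' C'
  let e : A ⊗[B'] D' ≃ₐ[A] C := Algebra.IsPushout.equiv B' A D' C
  let g : A' →ₗ[B'] A := (IsScalarTower.toAlgHom B' A' A).toLinearMap
  have hg : Function.Surjective g := hsq.1
  have hex : Function.Exact (LinearMap.rTensor D' (LinearMap.ker g).subtype) (LinearMap.rTensor D' g) :=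
    rTensor_exact D' (LinearMap.exact_subtype_ker_map g) hg
  -- compatibility
  have hcomp : ∀ t : A' ⊗[B'] D', e (LinearMap.rTensor D' g t) = algebraMap C' C (e' t) := by
    intro t
    induction t using TensorProduct.induction_on with
    | zero => simp
    | tmul a' d =>
      simp only [LinearMap.rTensor_tmul, e, e', Algebra.IsPushout.equiv_tmul, map_mul]
      rw [← IsScalarTower.algebraMap_apply D' C' C, ← IsScalarTower.algebraMap_apply A' C' C,
        IsScalarTower.algebraMap_apply A' A C]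
      rfl
    | add a b ha hb => simp only [map_add, ha, hb]
  have ht : LinearMap.rTensor D' g (e'.symm j) = 0 := by
    apply e.injective
    rw [hcomp, AlgEquiv.apply_symm_apply, hj, map_zero]
  obtain ⟨s, hs⟩ := (hex _).1 ht
  -- every element of the image is of the required form
  have key : ∀ s : (LinearMap.ker g) ⊗[B'] D', ∃ (n : ℕ) (b : Fin n → B') (d : Fin n → D'),
      (∀ i, algebraMap B' B (b i) = 0) ∧
      LinearMap.rTensor D' (LinearMap.ker g).subtype s
        = (1 : A') ⊗ₜ[B'] (∑ i, algebraMap B' D' (b i) * d i) := by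
    intro s
    induction s using TensorProduct.induction_on with
    | zero => exact ⟨0, Fin.elim0, Fin.elim0, fun i => i.elim0, by simp⟩
    | tmul i d =>
      have hi : algebraMap A' A (i : A') = 0 := i.2
      obtain ⟨b', ⟨hb1, hb2⟩, -⟩ := hsq.2 0 (i : A') (by rw [map_zero, hi])
      refine ⟨1, fun _ => b', fun _ => d, fun _ => hb1, ?_⟩
      simp only [LinearMap.rTensor_tmul, Submodule.subtype_apply, Finset.univ_unique,
        Finset.sum_singleton]
      rw [← hb2, Algebra.algebraMap_eq_smul_one, TensorProduct.smul_tmul, Algebra.smul_def]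
    | add a b ha hb =>
      obtain ⟨n₁, b₁, d₁, h₁, e₁⟩ := ha
      obtain ⟨n₂, b₂, d₂, h₂, e₂⟩ := hb
      refine ⟨n₁ + n₂, Fin.append b₁ b₂, Fin.append d₁ d₂, ?_, ?_⟩
      · intro i
        refine Fin.addCases (fun i => ?_) (fun i => ?_) i
        · rw [Fin.append_left]; exact h₁ i
        · rw [Fin.append_right]; exact h₂ i
      · rw [map_add, e₁, e₂, ← TensorProduct.tmul_add, Fin.sum_univ_add]
        simp only [Fin.append_left, Fin.append_right]
  obtain ⟨n, b, d, hb, hbd⟩ := key s
  refine ⟨∑ i, algebraMap B' D' (b i) * d i, ?_, n, b, d, hb, rfl⟩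
  have : e' ((1 : A') ⊗ₜ[B'] (∑ i, algebraMap B' D' (b i) * d i)) = j := by
    rw [← hbd, hs, AlgEquiv.apply_symm_apply]
  rw [← this]
  simp only [e', Algebra.IsPushout.equiv_tmul, map_one, one_mul]

end


end Groth.Agent.Helper18MilGlue
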