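import Mathlib
import Groth.Prelude.Def_EtMil
import Groth.Agent.S2019
import Groth.Agent.S2020
import Groth.Agent.S6921
import Groth.Agent.Lib.Helper22Milnor

/-!
# Relative Milnor glueing: finite presentation (helper13)

In the relative Milnor situation (`B' = B ×_A A'`, `B' → D'`, `D = B ⊗ D'`, `C' = A' ⊗ D'`,
`C = A ⊗ D'`) the glued module `N ×_φ M'` of a `B`-flat finitely presented `D`-module and an
`A'`-flat finitely presented `C'`-module is finitely presented over `D'`.  Used for S6922.
-/

set_option autoImplicit false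
set_option linter.style.haveILetI false
set_option linter.unusedSectionVars false
set_option maxSynthPendingDepth 3
universe u
open TensorProduct

namespace Groth.Agent.Helper13MilnorRel


section Side

variable (R X D' DX : Type u) [CommRing R] [CommRing X] [CommRing D'] [CommRing DX]
  [Algebra R X] [Algebra R D'] [Algebra X DX] [Algebra D' DX] [Algebra R DX]
  [IsScalarTower R X DX] [IsScalarTower R D' DX] [Algebra.IsPushout R X D' DX]
  (L' : Type u) [AddCommGroup L'] [Module D' L'] [Module R L'] [IsScalarTower R D' L']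
  (NX : Type u) [AddCommGroup NX] [Module DX NX] [Module D' NX] [IsScalarTower D' DX NX]

/-- converting bijectivity of `X ⊗_R L' → NX` to bijectivity of `DX ⊗_{D'} L' → NX` -/
theorem bijective_liftBaseChange_of [Module X NX] [IsScalarTower X DX NX] [Module R NX]
    [IsScalarTower R X NX] [IsScalarTower R D' NX] (q : L' →ₗ[D'] NX)
    (h : Function.Bijective (LinearMap.liftBaseChange X (q.restrictScalars R))) :
    Function.Bijective (LinearMap.liftBaseChange DX q) := by
  have key : ∀ z : X ⊗[R] L', LinearMap.liftBaseChange DX q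
      ((Algebra.IsPushout.cancelBaseChange R X D' DX L').symm z) =
      LinearMap.liftBaseChange X (q.restrictScalars R) z := by
    intro z
    induction z using TensorProduct.induction_on with
    | zero => simp
    | tmul x l =>
      rw [Algebra.IsPushout.cancelBaseChange_symm_tmul, LinearMap.liftBaseChange_tmul,
        LinearMap.liftBaseChange_tmul, algebraMap_smul]
      rfl
    | add a b ha hb => rw [map_add, map_add, map_add, ha, hb]
  have h2 : (LinearMap.liftBaseChange DX q : DX ⊗[D'] L' → NX) =
      (LinearMap.liftBaseChange X (q.restrictScalars R)) ∘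
        (Algebra.IsPushout.cancelBaseChange R X D' DX L') := by
    funext w
    rw [Function.comp_apply, ← key, LinearEquiv.symm_apply_apply]
  rw [h2]
  exact h.comp (Algebra.IsPushout.cancelBaseChange R X D' DX L').bijective

variable [Module.Flat R L'] (n : ℕ) (π : (Fin n → D') →ₗ[D'] L') (hπ : Function.Surjective π)
  [Module.FinitePresentation DX NX]
  (q : L' →ₗ[D'] NX) (hq : Function.Bijective (LinearMap.liftBaseChange DX q))

include R X hπ hq in
theorem finite_baseChange_ker : Module.Finite DX (DX ⊗[D'] ↥(LinearMap.ker π)) := by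
  -- (S1) injectivity of the base change of `ker π ⊆ F`
  have hinjR : Function.Injective (((LinearMap.ker π).subtype.restrictScalars R).lTensor X) :=
    LinearMap.lTensor_injective_of_exact_of_flat (π.restrictScalars R) hπ
      ((LinearMap.ker π).subtype.restrictScalars R) (Submodule.injective_subtype _)
      (LinearMap.exact_subtype_ker_map π) X
  have key : ∀ z : X ⊗[R] ↥(LinearMap.ker π),
      (Algebra.IsPushout.cancelBaseChange R X D' DX (Fin n → D')).symm
        (((LinearMap.ker π).subtype.restrictScalars R).lTensor X z) =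
      ((LinearMap.ker π).subtype.baseChange DX)
        ((Algebra.IsPushout.cancelBaseChange R X D' DX ↥(LinearMap.ker π)).symm z) := by
    intro z
    induction z using TensorProduct.induction_on with
    | zero => simp
    | tmul x k =>
      rw [LinearMap.lTensor_tmul, Algebra.IsPushout.cancelBaseChange_symm_tmul,
        Algebra.IsPushout.cancelBaseChange_symm_tmul, LinearMap.baseChange_tmul]
      rfl
    | add a b ha hb => rw [map_add, map_add, map_add, map_add, ha, hb]
  have hinj : Function.Injective ((LinearMap.ker π).subtype.baseChange DX) := by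
    intro w1 w2 h12
    have h1 := key (Algebra.IsPushout.cancelBaseChange R X D' DX ↥(LinearMap.ker π) w1)
    have h2 := key (Algebra.IsPushout.cancelBaseChange R X D' DX ↥(LinearMap.ker π) w2)
    rw [LinearEquiv.symm_apply_apply] at h1 h2
    rw [← h1, ← h2] at h12
    exact (Algebra.IsPushout.cancelBaseChange R X D' DX ↥(LinearMap.ker π)).injective
      (hinjR ((Algebra.IsPushout.cancelBaseChange R X D' DX (Fin n → D')).symm.injective h12))
  -- (S2) the kernel of `DX ⊗ F → NX` is finitely generated
  let ρ : DX ⊗[D'] L' ≃ₗ[DX] NX := LinearEquiv.ofBijective (LinearMap.liftBaseChange DX q) hq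
  have hsurj : Function.Surjective (ρ.toLinearMap ∘ₗ π.baseChange DX) := by
    refine ρ.surjective.comp ?_
    rw [LinearMap.baseChange_eq_ltensor]
    exact LinearMap.lTensor_surjective DX hπ
  have hfg := Module.FinitePresentation.fg_ker (ρ.toLinearMap ∘ₗ π.baseChange DX) hsurj
  have hker : LinearMap.ker (ρ.toLinearMap ∘ₗ π.baseChange DX) =
      LinearMap.range ((LinearMap.ker π).subtype.baseChange DX) := by
    ext w
    rw [LinearMap.mem_ker, LinearMap.comp_apply, LinearEquiv.coe_coe,
      LinearEquiv.map_eq_zero_iff]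
    have hex := lTensor_exact DX (LinearMap.exact_subtype_ker_map π) hπ
    have := hex w
    rw [LinearMap.mem_range]
    constructor
    · intro hw
      obtain ⟨v, hv⟩ := this.mp (by rw [← LinearMap.baseChange_eq_ltensor]; exact hw)
      exact ⟨v, by rw [← hv, LinearMap.baseChange_eq_ltensor]⟩
    · rintro ⟨v, rfl⟩
      have hex2 := hex (((LinearMap.ker π).subtype.baseChange DX) v)
      exact hex2.mpr ⟨v, rfl⟩
  rw [hker] at hfg
  haveI : Module.Finite DX ↥(LinearMap.range ((LinearMap.ker π).subtype.baseChange DX)) :=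
    Module.Finite.iff_fg.mpr hfg
  exact Module.Finite.equiv
    (LinearEquiv.ofInjective ((LinearMap.ker π).subtype.baseChange DX) hinj).symm

end Side



section Rel

variable (B' B A' A : Type u) [CommRing B'] [CommRing B] [CommRing A'] [CommRing A]
    [Algebra B' B] [Algebra B' A'] [Algebra B A] [Algebra A' A] [Algebra B' A]
    [IsScalarTower B' B A] [IsScalarTower B' A' A]
    (hsq : EtMil.IsFibreSquare B' B A' A)
    (D' D C' C : Type u) [CommRing D'] [CommRing D] [CommRing C'] [CommRing C]
    [Algebra B' D'] [Algebra B D] [Algebra A' C'] [Algebra A C]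
    [Algebra D' D] [Algebra B' D] [IsScalarTower B' B D] [IsScalarTower B' D' D]
    [Algebra.IsPushout B' B D' D]
    [Algebra D' C'] [Algebra B' C'] [IsScalarTower B' A' C'] [IsScalarTower B' D' C']
    [Algebra.IsPushout B' A' D' C']
    [Algebra D' C] [Algebra B' C] [IsScalarTower B' A C] [IsScalarTower B' D' C]
    [Algebra.IsPushout B' A D' C]
    [Algebra D C] [IsScalarTower D' D C] [Algebra B C] [IsScalarTower B A C] [IsScalarTower B D C]
    [Algebra C' C] [IsScalarTower D' C' C] [Algebra A' C] [IsScalarTower A' A C]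
    [IsScalarTower A' C' C]

include B' D' A' C' in
theorem isPushout_BADC : Algebra.IsPushout B A D C := by
  haveI : IsScalarTower B' D C := IsScalarTower.of_algebraMap_eq (fun x => by
    rw [IsScalarTower.algebraMap_apply B' D' C, IsScalarTower.algebraMap_apply D' D C,
      ← IsScalarTower.algebraMap_apply B' D' D])
  exact (Algebra.IsPushout.comp_iff (R := B') (S := B) (T := A) (R' := D') (S' := D)
    (T' := C)).mp inferInstance

include B' D' B D in
theorem isPushout_A'AC'C : Algebra.IsPushout A' A C' C := by
  haveI : IsScalarTower B' C' C := IsScalarTower.of_algebraMap_eq (fun x => by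
    rw [IsScalarTower.algebraMap_apply B' D' C, IsScalarTower.algebraMap_apply D' C' C,
      ← IsScalarTower.algebraMap_apply B' D' C'])
  exact (Algebra.IsPushout.comp_iff (R := B') (S := A') (T := A) (R' := D') (S' := C')
    (T' := C)).mp inferInstance

variable {N M' : Type u} [AddCommGroup N] [Module D N] [Module D' N] [IsScalarTower D' D N]
    [AddCommGroup M'] [Module C' M'] [Module D' M'] [IsScalarTower D' C' M']
    (φ : C ⊗[D] N ≃ₗ[C] C ⊗[C'] M')
    [Module B N] [IsScalarTower B D N] [Module A' M'] [IsScalarTower A' C' M']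
    [Module B' N] [IsScalarTower B' B N] [IsScalarTower B' D' N]
    [Module B' M'] [IsScalarTower B' A' M'] [IsScalarTower B' D' M']

/-- the glueing isomorphism over `A` obtained from the one over `C` -/
noncomputable def phiB : A ⊗[B] N ≃ₗ[A] A ⊗[A'] M' :=
  haveI := isPushout_BADC B' B A' A D' D C' C
  haveI := isPushout_A'AC'C B' B A' A D' D C' C
  (Algebra.IsPushout.cancelBaseChange B A D C N).symm ≪≫ₗ (φ.restrictScalars A) ≪≫ₗ
    (Algebra.IsPushout.cancelBaseChange A' A C' C M')

theorem phiB_one_tmul (n : N) (m' : M') :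
    phiB B' B A' A D' D C' C φ ((1 : A) ⊗ₜ[B] n) = (1 : A) ⊗ₜ[A'] m' ↔
      φ ((1 : C) ⊗ₜ[D] n) = (1 : C) ⊗ₜ[C'] m' := by
  haveI := isPushout_BADC B' B A' A D' D C' C
  haveI := isPushout_A'AC'C B' B A' A D' D C' C
  change (Algebra.IsPushout.cancelBaseChange A' A C' C M') (φ
    ((Algebra.IsPushout.cancelBaseChange B A D C N).symm ((1 : A) ⊗ₜ[B] n))) = _ ↔ _
  rw [Algebra.IsPushout.cancelBaseChange_symm_tmul, map_one,
    ← Algebra.IsPushout.cancelBaseChange_tmul A' A C' C M' m']
  exact (Algebra.IsPushout.cancelBaseChange A' A C' C M').injective.eq_iff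

theorem mem_glue_iff (w : N × M') :
    w ∈ EtMil.glue D' φ ↔ w ∈ EtMil.glue B' (phiB B' B A' A D' D C' C φ) :=
  (phiB_one_tmul B' B A' A D' D C' C φ w.1 w.2).symm

/-- the two glued modules agree -/
noncomputable def eps : ↥(EtMil.glue D' φ) ≃ₗ[B'] ↥(EtMil.glue B' (phiB B' B A' A D' D C' C φ)) where
  toFun l := ⟨l.1, (mem_glue_iff B' B A' A D' D C' C φ l.1).mp l.2⟩
  invFun l := ⟨l.1, (mem_glue_iff B' B A' A D' D C' C φ l.1).mpr l.2⟩
  map_add' _ _ := rfl
  map_smul' _ _ := rfl
  left_inv _ := rfl
  right_inv _ := rfl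

end Rel



section Core

variable (B' B A' A : Type u) [CommRing B'] [CommRing B] [CommRing A'] [CommRing A]
    [Algebra B' B] [Algebra B' A'] [Algebra B A] [Algebra A' A] [Algebra B' A]
    [IsScalarTower B' B A] [IsScalarTower B' A' A]
    (hsq : EtMil.IsFibreSquare B' B A' A)
    (D' D C' C : Type u) [CommRing D'] [CommRing D] [CommRing C'] [CommRing C]
    [Algebra B' D'] [Algebra B D] [Algebra A' C'] [Algebra A C]
    [Algebra D' D] [Algebra B' D] [IsScalarTower B' B D] [IsScalarTower B' D' D]
    [Algebra.IsPushout B' B D' D]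
    [Algebra D' C'] [Algebra B' C'] [IsScalarTower B' A' C'] [IsScalarTower B' D' C']
    [Algebra.IsPushout B' A' D' C']
    [Algebra D' C] [Algebra B' C] [IsScalarTower B' A C] [IsScalarTower B' D' C]
    [Algebra.IsPushout B' A D' C]
    [Algebra D C] [IsScalarTower D' D C] [Algebra B C] [IsScalarTower B A C] [IsScalarTower B D C]
    [Algebra C' C] [IsScalarTower D' C' C] [Algebra A' C] [IsScalarTower A' A C]
    [IsScalarTower A' C' C]
    {N M' : Type u} [AddCommGroup N] [Module D N] [Module D' N] [IsScalarTower D' D N]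
    [AddCommGroup M'] [Module C' M'] [Module D' M'] [IsScalarTower D' C' M']
    (φ : C ⊗[D] N ≃ₗ[C] C ⊗[C'] M')
    [Module B N] [IsScalarTower B D N] [Module A' M'] [IsScalarTower A' C' M']
    [Module B' N] [IsScalarTower B' B N] [IsScalarTower B' D' N]
    [Module B' M'] [IsScalarTower B' A' M'] [IsScalarTower B' D' M']

include hsq in
theorem flat_glue [Module.Flat B N] [Module.Flat A' M'] :
    Module.Flat B' ↥(EtMil.glue D' φ) := by
  have h := (Groth.Agent.S2020.result B' B A' A hsq).1 N M' (phiB B' B A' A D' D C' C φ)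
    inferInstance inferInstance
  exact Module.Flat.of_linearEquiv (eps B' B A' A D' D C' C φ)

include hsq in
theorem bijective_fst :
    Function.Bijective (LinearMap.liftBaseChange D (EtMil.glueFst D' φ)) := by
  apply bijective_liftBaseChange_of B' B D' D
  have h19 := (Groth.Agent.S2019.result B' B A' A hsq N M' (phiB B' B A' A D' D C' C φ)).1
  have key : ∀ z : B ⊗[B'] ↥(EtMil.glue D' φ),
      LinearMap.liftBaseChange B ((EtMil.glueFst D' φ).restrictScalars B') z =
      LinearMap.liftBaseChange B (EtMil.glueFst B' (phiB B' B A' A D' D C' C φ))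
        ((eps B' B A' A D' D C' C φ).toLinearMap.lTensor B z) := by
    intro z
    induction z using TensorProduct.induction_on with
    | zero => simp
    | tmul b l =>
      rw [LinearMap.lTensor_tmul, LinearMap.liftBaseChange_tmul, LinearMap.liftBaseChange_tmul]
      rfl
    | add x y hx hy => rw [map_add, map_add, map_add, hx, hy]
  have h2 : (LinearMap.liftBaseChange B ((EtMil.glueFst D' φ).restrictScalars B') :
      B ⊗[B'] ↥(EtMil.glue D' φ) → N) =
      (LinearMap.liftBaseChange B (EtMil.glueFst B' (phiB B' B A' A D' D C' C φ))) ∘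
        ((eps B' B A' A D' D C' C φ).lTensor B) := by
    funext z
    exact key z
  rw [h2]
  exact h19.comp ((eps B' B A' A D' D C' C φ).lTensor B).bijective

include hsq in
theorem bijective_snd :
    Function.Bijective (LinearMap.liftBaseChange C' (EtMil.glueSnd D' φ)) := by
  apply bijective_liftBaseChange_of B' A' D' C'
  have h19 := (Groth.Agent.S2019.result B' B A' A hsq N M' (phiB B' B A' A D' D C' C φ)).2
  have key : ∀ z : A' ⊗[B'] ↥(EtMil.glue D' φ),
      LinearMap.liftBaseChange A' ((EtMil.glueSnd D' φ).restrictScalars B') z =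
      LinearMap.liftBaseChange A' (EtMil.glueSnd B' (phiB B' B A' A D' D C' C φ))
        ((eps B' B A' A D' D C' C φ).toLinearMap.lTensor A' z) := by
    intro z
    induction z using TensorProduct.induction_on with
    | zero => simp
    | tmul b l =>
      rw [LinearMap.lTensor_tmul, LinearMap.liftBaseChange_tmul, LinearMap.liftBaseChange_tmul]
      rfl
    | add x y hx hy => rw [map_add, map_add, map_add, hx, hy]
  have h2 : (LinearMap.liftBaseChange A' ((EtMil.glueSnd D' φ).restrictScalars B') :
      A' ⊗[B'] ↥(EtMil.glue D' φ) → M') =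
      (LinearMap.liftBaseChange A' (EtMil.glueSnd B' (phiB B' B A' A D' D C' C φ))) ∘
        ((eps B' B A' A D' D C' C φ).lTensor A') := by
    funext z
    exact key z
  rw [h2]
  exact h19.comp ((eps B' B A' A D' D C' C φ).lTensor A').bijective

include hsq in
theorem glue_fp [Module.FinitePresentation D N] [Module.Flat B N]
    [Module.FinitePresentation C' M'] [Module.Flat A' M'] :
    Module.FinitePresentation D' ↥(EtMil.glue D' φ) := by
  haveI hflat : Module.Flat B' ↥(EtMil.glue D' φ) := flat_glue B' B A' A hsq D' D C' C φ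
  haveI hfin : Module.Finite D' ↥(EtMil.glue D' φ) :=
    Groth.Agent.S6921.result B' B A' A hsq D' D C' C φ
  obtain ⟨n, l, hl⟩ := Module.Finite.exists_fin (R := D') (M := ↥(EtMil.glue D' φ))
  have hπ : Function.Surjective (Fintype.linearCombination D' l) := by
    rw [← LinearMap.range_eq_top, Fintype.range_linearCombination, hl]
  haveI h1 : Module.Finite D (D ⊗[D'] ↥(LinearMap.ker (Fintype.linearCombination D' l))) :=
    finite_baseChange_ker B' B D' D _ N n (Fintype.linearCombination D' l) hπ
      (EtMil.glueFst D' φ) (bijective_fst B' B A' A hsq D' D C' C φ)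
  haveI h2 : Module.Finite C' (C' ⊗[D'] ↥(LinearMap.ker (Fintype.linearCombination D' l))) :=
    finite_baseChange_ker B' A' D' C' _ M' n (Fintype.linearCombination D' l) hπ
      (EtMil.glueSnd D' φ) (bijective_snd B' B A' A hsq D' D C' C φ)
  obtain ⟨G1, hG1, hG1'⟩ := Groth.Agent.Lib.Helper22.exists_fg_forall_one_tmul_mkQ_eq_zero D' D
    ↥(LinearMap.ker (Fintype.linearCombination D' l))
  obtain ⟨G2, hG2, hG2'⟩ := Groth.Agent.Lib.Helper22.exists_fg_forall_one_tmul_mkQ_eq_zero D' C'
    ↥(LinearMap.ker (Fintype.linearCombination D' l))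
  have hfg : (G1 ⊔ G2).FG := hG1.sup hG2
  have htop : G1 ⊔ G2 = ⊤ := by
    rw [eq_top_iff]
    intro k _
    have hq : (G1 ⊔ G2).mkQ k = 0 := by
      refine Groth.Agent.Lib.Helper22.fs_eq_zero_of_forall hsq
        (L' := ↥(LinearMap.ker (Fintype.linearCombination D' l)) ⧸ (G1 ⊔ G2)) (fun q => ?_) _ ?_
      · obtain ⟨m, rfl⟩ := Submodule.mkQ_surjective _ q
        have := hG2' (G1 ⊔ G2) le_sup_right m
        rw [← Algebra.IsPushout.cancelBaseChange_tmul B' A' D' C' _ ((G1 ⊔ G2).mkQ m), this,
          map_zero]
      · have := hG1' (G1 ⊔ G2) le_sup_left k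
        rw [← Algebra.IsPushout.cancelBaseChange_tmul B' B D' D _ ((G1 ⊔ G2).mkQ k), this,
          map_zero]
    rwa [Submodule.mkQ_apply, Submodule.Quotient.mk_eq_zero] at hq
  have hK : (LinearMap.ker (Fintype.linearCombination D' l)).FG := by
    have : Module.Finite D' ↥(LinearMap.ker (Fintype.linearCombination D' l)) := ⟨htop ▸ hfg⟩
    exact Module.Finite.iff_fg.mp this
  exact Module.finitePresentation_of_free_of_surjective (Fintype.linearCombination D' l) hπ hK

end Core



section Wrap

variable (B' B A' A : Type u) [CommRing B'] [CommRing B] [CommRing A'] [CommRing A]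
    [Algebra B' B] [Algebra B' A'] [Algebra B A] [Algebra A' A] [Algebra B' A]
    [IsScalarTower B' B A] [IsScalarTower B' A' A]
    (hsq : EtMil.IsFibreSquare B' B A' A)
    (D' D C' C : Type u) [CommRing D'] [CommRing D] [CommRing C'] [CommRing C]
    [Algebra B' D'] [Algebra B D] [Algebra A' C'] [Algebra A C]
    [Algebra D' D] [Algebra B' D] [IsScalarTower B' B D] [IsScalarTower B' D' D]
    [Algebra.IsPushout B' B D' D]
    [Algebra D' C'] [Algebra B' C'] [IsScalarTower B' A' C'] [IsScalarTower B' D' C']
    [Algebra.IsPushout B' A' D' C']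
    [Algebra D' C] [Algebra B' C] [IsScalarTower B' A C] [IsScalarTower B' D' C]
    [Algebra.IsPushout B' A D' C]
    [Algebra D C] [IsScalarTower D' D C] [Algebra B C] [IsScalarTower B A C] [IsScalarTower B D C]
    [Algebra C' C] [IsScalarTower D' C' C] [Algebra A' C] [IsScalarTower A' A C]
    [IsScalarTower A' C' C]
    {N M' : Type u} [AddCommGroup N] [Module D N] [Module D' N] [IsScalarTower D' D N]
    [AddCommGroup M'] [Module C' M'] [Module D' M'] [IsScalarTower D' C' M']
    (φ : C ⊗[D] N ≃ₗ[C] C ⊗[C'] M')
    [Module B N] [IsScalarTower B D N] [Module A' M'] [IsScalarTower A' C' M']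

include hsq in
theorem main [Module.FinitePresentation D N] [Module.Flat B N]
    [Module.FinitePresentation C' M'] [Module.Flat A' M'] :
    Module.FinitePresentation D' ↥(EtMil.glue D' φ) := by
  letI iN : Module B' N := Module.compHom N (algebraMap B' D')
  letI iM : Module B' M' := Module.compHom M' (algebraMap B' D')
  have hN : ∀ (b' : B') (n : N), b' • n = algebraMap B' D' b' • n := fun _ _ => rfl
  have hM : ∀ (b' : B') (m : M'), b' • m = algebraMap B' D' b' • m := fun _ _ => rfl
  haveI : IsScalarTower B' D' N := ⟨fun b d n => by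
    rw [hN, Algebra.smul_def, mul_smul]⟩
  haveI : IsScalarTower B' D' M' := ⟨fun b d m => by
    rw [hM, Algebra.smul_def, mul_smul]⟩
  haveI : IsScalarTower B' B N := ⟨fun b' b n => by
    rw [hN, Algebra.smul_def, ← algebraMap_smul D (algebraMap B' B b' * b) n,
      ← algebraMap_smul D (algebraMap B' D' b') (b • n), ← algebraMap_smul D b n, smul_smul,
      map_mul, ← IsScalarTower.algebraMap_apply B' B D, ← IsScalarTower.algebraMap_apply B' D' D]⟩
  haveI : IsScalarTower B' A' M' := ⟨fun b' a m => by
    rw [hM, Algebra.smul_def, ← algebraMap_smul C' (algebraMap B' A' b' * a) m,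
      ← algebraMap_smul C' (algebraMap B' D' b') (a • m), ← algebraMap_smul C' a m, smul_smul,
      map_mul, ← IsScalarTower.algebraMap_apply B' A' C',
      ← IsScalarTower.algebraMap_apply B' D' C']⟩
  exact glue_fp B' B A' A hsq D' D C' C φ

end Wrap


end Groth.Agent.Helper13MilnorRel
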