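import Mathlib
import Groth.Prelude.Def_GrSyz
import Groth.Agent.Lib.Helper13Hilb
import Groth.Agent.Lib.Helper13FreeRes
import Groth.Agent.Lib.Helper23GrSyz

/-!
# Existence of minimal graded free resolutions
-/

set_option autoImplicit false
universe u
open MvPolynomial

namespace Groth.Agent.Helper13MinRes

open Groth.Agent.Helper13Hilb

section mingens

variable {k : Type u} [Field k] {R : Type u} [CommRing R] [Algebra k R]
  (𝒜 : ℤ → Submodule k R) [GradedAlgebra 𝒜]

/-- a grading on a module, given by projections. -/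
structure GrData (E : Type u) [AddCommGroup E] [Module R E] where
  π : ℤ → E →+ E
  piece : ℤ → AddSubgroup E
  π_mem : ∀ d x, π d x ∈ piece d
  sum_π : ∀ x, ∃ T : Finset ℤ, x = ∑ d ∈ T, π d x
  π_smul : ∀ (e j : ℤ) (s : R) (x : E), x ∈ piece j →
    π e (s • x) = (DirectSum.decompose 𝒜 s (e - j) : R) • x

variable {𝒜} {E : Type u} [AddCommGroup E] [Module R E] (G : GrData 𝒜 E)
  (N : Submodule R E)

/-- homogeneous generating families of `N` indexed by `Fin n`. -/
def HomGen (n : ℕ) : Prop :=
  ∃ (a : Fin n → ℤ) (g : Fin n → E), (∀ b, g b ∈ N ∧ g b ∈ G.piece (a b)) ∧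
    Submodule.span R (Set.range g) = N

theorem exists_homGen (hN : N.FG) (hst : ∀ d x, x ∈ N → G.π d x ∈ N) : ∃ n, HomGen G N n := by
  classical
  obtain ⟨T0, hT0⟩ := hN
  choose T hT using G.sum_π
  let s : Finset E := T0.biUnion (fun x => (T x).image (fun d => G.π d x))
  have hT0N : ∀ x ∈ T0, x ∈ N := fun x hx => hT0 ▸ Submodule.subset_span hx
  have hs : ∀ y ∈ s, y ∈ N ∧ ∃ d, y ∈ G.piece d := by
    intro y hy
    obtain ⟨x, hx, hy⟩ := Finset.mem_biUnion.1 hy
    obtain ⟨d, _, rfl⟩ := Finset.mem_image.1 hy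
    exact ⟨hst d x (hT0N x hx), d, G.π_mem d x⟩
  have hspan : Submodule.span R (s : Set E) = N := by
    apply le_antisymm
    · rw [Submodule.span_le]
      intro y hy
      exact (hs y hy).1
    · rw [← hT0, Submodule.span_le]
      intro x hx
      rw [SetLike.mem_coe, hT x]
      refine Submodule.sum_mem _ (fun d hd => Submodule.subset_span ?_)
      exact Finset.mem_biUnion.2 ⟨x, hx, Finset.mem_image_of_mem _ hd⟩
  refine ⟨s.card, fun b => (hs (s.equivFin.symm b) (s.equivFin.symm b).2).2.choose,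
    fun b => (s.equivFin.symm b : E), fun b =>
      ⟨(hs (s.equivFin.symm b) (s.equivFin.symm b).2).1,
        (hs (s.equivFin.symm b) (s.equivFin.symm b).2).2.choose_spec⟩, ?_⟩
  have : Set.range (fun b => (s.equivFin.symm b : E)) = (s : Set E) := by
    ext y
    constructor
    · rintro ⟨b, rfl⟩
      exact (s.equivFin.symm b).2
    · intro hy
      exact ⟨s.equivFin ⟨y, hy⟩, by simp⟩
  rw [this, hspan]

/-- a homogeneous generating family of minimal cardinality has all its relations in `𝔪`. -/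
theorem exists_minGens (𝔪 : Ideal R) (h𝔪 : ∀ (n : ℤ) (p : R), p ∈ 𝒜 n → p ∉ 𝔪 → IsUnit p)
    (hN : N.FG) (hst : ∀ d x, x ∈ N → G.π d x ∈ N) :
    ∃ (n : ℕ) (a : Fin n → ℤ) (g : Fin n → E), (∀ b, g b ∈ N ∧ g b ∈ G.piece (a b)) ∧
      Submodule.span R (Set.range g) = N ∧
      ∀ c : Fin n → R, ∑ b, c b • g b = 0 → ∀ b, c b ∈ 𝔪 := by
  classical
  have hex := exists_homGen G N hN hst
  obtain ⟨a, g, hg, hspan⟩ := Nat.find_spec hex
  have hmin := fun m (hm : m < Nat.find hex) => Nat.find_min hex hm
  refine ⟨Nat.find hex, a, g, hg, hspan, ?_⟩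
  intro c hc b0
  by_contra hb0
  -- a homogeneous component of `c b0` outside `𝔪`
  obtain ⟨d0, hd0⟩ : ∃ d0, (DirectSum.decompose 𝒜 (c b0) d0 : R) ∉ 𝔪 := by
    by_contra hall
    push Not at hall
    apply hb0
    rw [← DirectSum.sum_support_decompose 𝒜 (c b0)]
    exact Ideal.sum_mem _ (fun d _ => hall d)
  obtain ⟨n', hn'⟩ : ∃ n', Nat.find hex = n' + 1 := by
    cases h : Nat.find hex with
    | zero => exact (h ▸ b0).elim0
    | succ n' => exact ⟨n', rfl⟩
  -- the homogeneous relation
  let e : ℤ := d0 + a b0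
  let c' : Fin (Nat.find hex) → R := fun b => (DirectSum.decompose 𝒜 (c b) (e - a b) : R)
  have hc' : ∑ b, c' b • g b = 0 := by
    have h1 := congrArg (G.π e) hc
    rw [map_sum, map_zero] at h1
    rw [← h1]
    refine Finset.sum_congr rfl (fun b _ => ?_)
    rw [G.π_smul e (a b) (c b) (g b) (hg b).2]
  have hunit : IsUnit (c' b0) := by
    have e1 : e - a b0 = d0 := by simp [e]
    have : c' b0 = (DirectSum.decompose 𝒜 (c b0) d0 : R) := by
      show (DirectSum.decompose 𝒜 (c b0) (e - a b0) : R) = _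
      rw [e1]
    rw [this]
    exact h𝔪 d0 _ (SetLike.coe_mem _) hd0
  have hmem := Groth.Agent.Lib.Helper23.mem_span_of_relation g b0 c' hunit hc'
  -- drop `b0`
  apply hmin n' (by omega)
  revert a g c c' b0
  rw [hn']
  intro a g hg hspan c hc b0 hb0 hd0 e c' hc' hunit hmem
  refine ⟨a ∘ b0.succAbove, g ∘ b0.succAbove, fun b => hg _, ?_⟩
  have hrange : Set.range (g ∘ b0.succAbove) = g '' {b' | b' ≠ b0} := by
    rw [Set.range_comp, Fin.range_succAbove]
    rfl
  rw [hrange]
  apply le_antisymm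
  · rw [Submodule.span_le]
    rintro _ ⟨b, _, rfl⟩
    exact (hg b).1
  · rw [← hspan, Submodule.span_le]
    rintro _ ⟨b, rfl⟩
    by_cases hb : b = b0
    · rw [hb]; exact hmem
    · exact Submodule.subset_span ⟨b, hb, rfl⟩

end mingens

section grdata

variable {k : Type u} [Field k] {R : Type u} [CommRing R] [Algebra k R]
  (𝒜 : ℤ → Submodule k R) [GradedAlgebra 𝒜]

/-- the grading data of a graded module. -/
noncomputable def grDataModule {M : Type u} [AddCommGroup M] [Module k M] [Module R M]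
    [IsScalarTower k R M] (ℳ : ℤ → Submodule k M) [DirectSum.Decomposition ℳ]
    [SetLike.GradedSMul 𝒜 ℳ] : GrData 𝒜 M where
  π d :=
    { toFun := fun x => (DirectSum.decompose ℳ x d : M)
      map_zero' := by simp
      map_add' := fun x y => by simp [DirectSum.decompose_add] }
  piece d := (ℳ d).toAddSubgroup
  π_mem d x := SetLike.coe_mem _
  sum_π x := by
    classical
    exact ⟨(DirectSum.decompose ℳ x).support, (DirectSum.sum_support_decompose ℳ x).symm⟩
  π_smul e j s x hx := decompose_smul_of_mem 𝒜 ℳ e j s x hx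

theorem sum_proj {n : ℕ} (a : Fin n → ℤ) (x : Fin n → R) :
    ∃ T : Finset ℤ, x = ∑ d ∈ T, proj 𝒜 a d x := by
  classical
  obtain ⟨T, hT⟩ : ∃ T : Finset ℤ, T = Finset.univ.biUnion
    (fun b => ((DirectSum.decompose 𝒜 (x b)).support).image (· + a b)) := ⟨_, rfl⟩
  refine ⟨T, ?_⟩
  ext b
  rw [Finset.sum_apply]
  simp only [proj_apply]
  have h1 : ∑ d ∈ T, ((DirectSum.decompose 𝒜 (x b)) (d - a b) : R) =
      ∑ e ∈ T.image (· - a b), ((DirectSum.decompose 𝒜 (x b)) e : R) := by
    rw [Finset.sum_image]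
    intro d _ d' _ h
    exact sub_left_injective h
  rw [h1]
  conv_lhs => rw [← DirectSum.sum_support_decompose 𝒜 (x b)]
  apply Finset.sum_subset
  · intro e he
    rw [Finset.mem_image]
    refine ⟨e + a b, ?_, by ring⟩
    rw [hT]
    exact Finset.mem_biUnion.2 ⟨b, Finset.mem_univ _, Finset.mem_image_of_mem _ he⟩
  · intro e _ he
    rw [DFinsupp.notMem_support_iff] at he
    rw [he]
    rfl

/-- the grading data of a free module with basis degrees `a`. -/
noncomputable def grDataFree {n : ℕ} (a : Fin n → ℤ) : GrData 𝒜 (Fin n → R) where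
  π d := (proj 𝒜 a d).toAddMonoidHom
  piece d := (strand 𝒜 a d).toAddSubgroup
  π_mem d x := proj_mem 𝒜 a d x
  sum_π x := sum_proj 𝒜 a x
  π_smul e j s x hx := by
    ext b
    show proj 𝒜 a e (s • x) b = _
    rw [proj_apply]
    simp only [Pi.smul_apply, smul_eq_mul]
    have hxb : x b ∈ 𝒜 (j - a b) := (mem_strand 𝒜 a j x).1 hx b
    have h : e - a b = (e - j) + (j - a b) := by ring
    rw [h, DirectSum.coe_decompose_mul_add_of_right_mem 𝒜 hxb]

end grdata

section stages

variable (k : Type u) [Field k] (σ : Type) [Finite σ]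

/-- a stage of the construction: a homogeneous submodule of a graded free module all of whose
elements have coordinates in the irrelevant ideal. -/
structure Stage where
  n : ℕ
  a : Fin n → ℤ
  K : Submodule (MvPolynomial σ k) (Fin n → MvPolynomial σ k)
  stable : ∀ d v, v ∈ K → proj (GrSyz.stdGr k σ) a d v ∈ K
  min : ∀ v ∈ K, ∀ b, v b ∈ (GrSyz.irrel (GrSyz.stdGr k σ)).toIdeal

variable {k σ}

/-- one step: minimal homogeneous generators of `s.K`. -/
structure Step (s : Stage k σ) where
  t : Stage k σ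
  D : Matrix (Fin s.n) (Fin t.n) (MvPolynomial σ k)
  hom : ∀ i j, D i j ∈ GrSyz.stdGr k σ (t.a j - s.a i)
  range_eq : LinearMap.range (Matrix.mulVecLin D) = s.K
  ker_eq : LinearMap.ker (Matrix.mulVecLin D) = t.K

theorem isUnit_of_homogeneous (n : ℤ) (p : MvPolynomial σ k) (hp : p ∈ GrSyz.stdGr k σ n)
    (hnot : p ∉ (GrSyz.irrel (GrSyz.stdGr k σ)).toIdeal) : IsUnit p :=
  Groth.Agent.Lib.Helper23.isUnit_of_mem_stdGr_of_notMem_irrel hp hnot

theorem exists_step (s : Stage k σ) : Nonempty (Step s) := by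
  classical
  have hfg : s.K.FG := IsNoetherian.noetherian s.K
  obtain ⟨n', a', g', hg, hspan, hrel⟩ := exists_minGens (grDataFree (GrSyz.stdGr k σ) s.a) s.K
    (GrSyz.irrel (GrSyz.stdGr k σ)).toIdeal isUnit_of_homogeneous hfg s.stable
  let D : Matrix (Fin s.n) (Fin n') (MvPolynomial σ k) := Matrix.of (fun i j => g' j i)
  have hD : ∀ c : Fin n' → MvPolynomial σ k, D.mulVec c = ∑ j, c j • g' j := by
    intro c
    rw [Groth.Agent.Lib.Helper23.mulVec_eq_sum_col]
    rfl
  have hhom : ∀ i j, D i j ∈ GrSyz.stdGr k σ (a' j - s.a i) := fun i j =>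
    (mem_strand (GrSyz.stdGr k σ) s.a (a' j) (g' j)).1 (hg j).2 i
  refine ⟨⟨⟨n', a', LinearMap.ker (Matrix.mulVecLin D), ?_, ?_⟩, D, hhom, ?_, rfl⟩⟩
  · intro d v hv
    rw [LinearMap.mem_ker, Matrix.mulVecLin_apply] at hv ⊢
    rw [mulVec_proj (GrSyz.stdGr k σ) s.a a' D hhom d v, hv, map_zero]
  · intro v hv b
    rw [LinearMap.mem_ker, Matrix.mulVecLin_apply, hD] at hv
    exact hrel v hv b
  · rw [← hspan]
    ext x
    rw [LinearMap.mem_range, Submodule.mem_span_range_iff_exists_fun]
    constructor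
    · rintro ⟨c, rfl⟩
      exact ⟨c, (hD c).symm⟩
    · rintro ⟨c, rfl⟩
      exact ⟨c, hD c⟩

/-- a chosen step. -/
noncomputable def step (s : Stage k σ) : Step s := Classical.choice (exists_step s)

/-- the sequence of stages. -/
noncomputable def stage (s0 : Stage k σ) : ℕ → Stage k σ :=
  fun i => Nat.rec s0 (fun _ s => (step s).t) i

variable {M : Type u} [AddCommGroup M] [Module k M] [Module (MvPolynomial σ k) M]
  [IsScalarTower k (MvPolynomial σ k) M] [Module.Finite (MvPolynomial σ k) M]
  (ℳ : ℤ → Submodule k M) [DirectSum.Decomposition ℳ] [SetLike.GradedSMul (GrSyz.stdGr k σ) ℳ]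

theorem exists_stage_zero :
    ∃ (n : ℕ) (a : Fin n → ℤ) (g : Fin n → M), (∀ b, g b ∈ ℳ (a b)) ∧
      Function.Surjective (Fintype.linearCombination (MvPolynomial σ k) g) ∧
      ∀ c, Fintype.linearCombination (MvPolynomial σ k) g c = 0 →
        ∀ b, c b ∈ (GrSyz.irrel (GrSyz.stdGr k σ)).toIdeal := by
  obtain ⟨n, a, g, hg, hspan, hrel⟩ := exists_minGens (grDataModule (GrSyz.stdGr k σ) ℳ)
    (⊤ : Submodule (MvPolynomial σ k) M)
    (GrSyz.irrel (GrSyz.stdGr k σ)).toIdeal isUnit_of_homogeneous Module.Finite.fg_top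
    (fun _ _ _ => Submodule.mem_top)
  refine ⟨n, a, g, fun b => (hg b).2, ?_, ?_⟩
  · rw [← LinearMap.range_eq_top, Fintype.range_linearCombination, hspan]
  · intro c hc b
    rw [Fintype.linearCombination_apply] at hc
    exact hrel c hc b

/-- **Existence of minimal graded free resolutions.** -/
theorem exists_freeRes_isMinimal :
    ∃ F : GrSyz.FreeRes (GrSyz.stdGr k σ) ℳ,
      F.IsMinimal (GrSyz.irrel (GrSyz.stdGr k σ)).toIdeal := by
  classical
  obtain ⟨n, a, g, hg, hsurj, hrel⟩ := exists_stage_zero (k := k) (σ := σ) ℳ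
  have hlin : ∀ c : Fin n → MvPolynomial σ k,
      Fintype.linearCombination (MvPolynomial σ k) g c = ∑ b, c b • g b := fun c =>
    Fintype.linearCombination_apply _ _ _
  let s0 : Stage k σ :=
    { n := n
      a := a
      K := LinearMap.ker (Fintype.linearCombination (MvPolynomial σ k) g)
      stable := by
        intro d v hv
        rw [LinearMap.mem_ker] at hv ⊢
        rw [hlin] at hv ⊢
        have h1 := congrArg (fun x => (DirectSum.decompose ℳ x d : M)) hv
        simp only [DirectSum.decompose_zero, DirectSum.zero_apply, ZeroMemClass.coe_zero] at h1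
        rw [← h1, DirectSum.decompose_sum, DFinsupp.finsetSum_apply,
          AddSubmonoidClass.coe_finsetSum]
        refine Finset.sum_congr rfl (fun b _ => ?_)
        rw [proj_apply, decompose_smul_of_mem (GrSyz.stdGr k σ) ℳ d (a b) (v b) (g b) (hg b)]
      min := fun v hv b => hrel v hv b }
  refine ⟨{ rk := fun i => (stage s0 i).n
            deg := fun i => (stage s0 i).a
            d := fun i => (step (stage s0 i)).D
            aug := g
            d_mem := fun i a b => (step (stage s0 i)).hom a b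
            aug_mem := hg
            aug_surjective := hsurj
            exact_zero := (step (stage s0 0)).range_eq.symm
            exact_succ := fun i =>
              (step (stage s0 i)).ker_eq.trans (step (stage s0 (i + 1))).range_eq.symm }, ?_⟩
  intro i a b
  show (step (stage s0 i)).D a b ∈ _
  have hmem : (step (stage s0 i)).D.mulVec (Pi.single b 1) ∈ (stage s0 i).K := by
    rw [← (step (stage s0 i)).range_eq]
    exact ⟨Pi.single b 1, rfl⟩
  have := (stage s0 i).min _ hmem a
  simpa [Matrix.mulVec_single_one] using this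

end stages

end Groth.Agent.Helper13MinRes
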