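import Mathlib

set_option autoImplicit false

namespace Groth.Agent.Helper13ModAffine

open CategoryTheory CategoryTheory.Limits AlgebraicGeometry Opposite TopologicalSpace
open Scheme.AffineZariskiSite

universe u

noncomputable section

variable {S : Scheme.{u}} {E B : S.Modules}

/-- sections of a module agreeing on all affine opens inside `U` are equal -/
theorem section_ext_affine (B : S.Modules) {U : S.Opens} (s t : Γ(B, U))
    (h : ∀ (W : S.Opens) (_ : IsAffineOpen W) (hle : W ≤ U),
      B.presheaf.map (homOfLE hle).op s = B.presheaf.map (homOfLE hle).op t) : s = t := by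
  refine TopCat.Sheaf.eq_of_locally_eq' ⟨B.presheaf, B.isSheaf⟩
    (fun W : {W : S.affineOpens // (W : S.Opens) ≤ U} => (W.1 : S.Opens)) U
    (fun W => homOfLE W.2) ?_ s t (fun W => h W.1.1 W.1.2 W.2)
  intro x hx
  obtain ⟨_, ⟨W, hW, rfl⟩, hxW, hWU⟩ := S.isBasis_affineOpens.exists_subset_of_mem_open hx U.2
  exact Opens.mem_iSup.mpr ⟨⟨⟨W, hW⟩, hWU⟩, hxW⟩

/-- morphisms of modules agreeing on all affine opens are equal -/
theorem hom_ext_affine (f g : E ⟶ B)
    (h : ∀ (U : S.Opens) (_ : IsAffineOpen U), f.app U = g.app U) : f = g := by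
  apply (Scheme.Modules.toPresheaf S).map_injective
  apply (Functor.IsCoverDense.restrictHomEquivHom (G := toOpensFunctor S)
    (K := Opens.grothendieckTopology S) (ℱ := E.presheaf)
    (ℱ' := (⟨B.presheaf, B.isSheaf⟩ : TopCat.Sheaf Ab S))).symm.injective
  ext U : 2
  exact h U.unop.1 U.unop.2

section Build

variable (d : ∀ (U : S.Opens) (_ : IsAffineOpen U), Γ(E, U) ⟶ Γ(B, U))
  (nat : ∀ {U V : S.AffineZariskiSite} (i : V ⟶ U),
    E.presheaf.map (homOfLE (toOpens_mono i.le)).op ≫ d V.1 V.2 =
      d U.1 U.2 ≫ B.presheaf.map (homOfLE (toOpens_mono i.le)).op)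

/-- the natural transformation on the affine site -/
def affNat : (toOpensFunctor S).op ⋙ E.presheaf ⟶ (toOpensFunctor S).op ⋙ B.presheaf where
  app U := d U.unop.1 U.unop.2
  naturality _ _ i := nat i.unop

/-- the extension to all opens -/
def abHom : E.presheaf ⟶ B.presheaf :=
  Functor.IsCoverDense.restrictHomEquivHom (G := toOpensFunctor S)
    (K := Opens.grothendieckTopology S) (ℱ := E.presheaf)
    (ℱ' := (⟨B.presheaf, B.isSheaf⟩ : TopCat.Sheaf Ab S)) (affNat d nat)

theorem abHom_app (U : S.Opens) (hU : IsAffineOpen U) : (abHom d nat).app (op U) = d U hU := by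
  have h := (Functor.IsCoverDense.restrictHomEquivHom (G := toOpensFunctor S)
    (K := Opens.grothendieckTopology S) (ℱ := E.presheaf)
    (ℱ' := (⟨B.presheaf, B.isSheaf⟩ : TopCat.Sheaf Ab S))).symm_apply_apply (affNat d nat)
  exact NatTrans.congr_app h (op ⟨U, hU⟩)

variable (lin : ∀ (U : S.Opens) (hU : IsAffineOpen U) (a : Γ(S, U)) (m : Γ(E, U)),
    d U hU (a • m) = a • d U hU m)

include lin in
theorem abHom_smul (U : S.Opens) (a : Γ(S, U)) (m : Γ(E, U)) :
    (abHom d nat).app (op U) (a • m) = a • (abHom d nat).app (op U) m := by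
  refine section_ext_affine B _ _ fun W hW hle => ?_
  have hn : ∀ x : Γ(E, U), B.presheaf.map (homOfLE hle).op ((abHom d nat).app (op U) x) =
      d W hW (E.presheaf.map (homOfLE hle).op x) := by
    intro x
    have := (abHom d nat).naturality (homOfLE hle).op
    rw [abHom_app d nat W hW] at this
    exact (CategoryTheory.congr_fun this x).symm
  rw [hn, Scheme.Modules.map_smul, Scheme.Modules.map_smul, lin, hn]

/-- the morphism of modules determined by its values on affine opens -/
def homOfAffine : E ⟶ B :=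
  ⟨PresheafOfModules.homMk (abHom d nat) (fun X r m => abHom_smul d nat lin X.unop r m)⟩

theorem homOfAffine_app (U : S.Opens) (hU : IsAffineOpen U) :
    (homOfAffine d nat lin).app U = d U hU :=
  abHom_app d nat U hU

end Build

end

end Groth.Agent.Helper13ModAffine
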