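import Mathlib
import Groth.Prelude.Def_SheafNL
import Groth.Agent.Lib.Helper5NLIndep
import Groth.Agent.Lib.Helper13NLFlatA

/-!
# Tor amplitude `[-1,0]` of `NL_{B/A}` makes the conormal module of any finite presentation flat
(helper13)
-/

set_option autoImplicit false
set_option linter.style.haveILetI false
universe u
open CategoryTheory CategoryTheory.Limits HomologicalComplex Algebra
attribute [local instance] HasDerivedCategory.standard

namespace Groth.Agent.Helper13NLFlat

open Groth.Agent.Lib.Helper5.NLIndep Groth.Agent.Lib.Helper1.Tor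

variable {A B : Type u} [CommRing A] [CommRing B] [Algebra A B]

/-- the conormal module of a finite polynomial presentation is flat when `NL_{B/A}` has tor
amplitude in `[-1, 0]`. -/
theorem flat_cotangent_of_hasTorAmp {n : ℕ} (φ : MvPolynomial (Fin n) A →ₐ[A] B)
    (hφ : Function.Surjective φ) (h : DRing.HasTorAmplitudeIn B (-1) 0 (LCI.NL A B)) :
    Module.Flat B (genOf φ hφ).toExtension.Cotangent := by
  obtain ⟨e⟩ := nonempty_iso ((genOf φ hφ).defaultHom (Generators.self A B)).toExtensionHom
    ((Generators.self A B).defaultHom (genOf φ hφ)).toExtensionHom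
  have h1 : DRing.HasTorAmplitudeIn B (-1) 0 (DRing.toD (NLCx.cx (genOf φ hφ).toExtension)) :=
    hasTorAmp_of_iso e.symm h
  haveI : Module.Free B (genOf φ hφ).toExtension.CotangentSpace :=
    Module.Free.of_basis (genOf φ hφ).cotangentSpaceBasis
  haveI : Module.Flat B (ModuleCat.of B (genOf φ hφ).toExtension.CotangentSpace) :=
    (inferInstance : Module.Flat B (genOf φ hφ).toExtension.CotangentSpace)
  exact flat_of_hasTorAmp_double
    (ModuleCat.ofHom (genOf φ hφ).toExtension.cotangentComplex) h1

end Groth.Agent.Helper13NLFlat
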