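import Mathlib

/-!
# Base change of the conormal module when the quotient is flat (helper13)

Variant of Mathlib's `Ideal.tensorCotangentEquiv`: `T ⊗[R] I/I² ≃ (I·(T ⊗[R] S))/(…)²` holds when
`S ⧸ I` is `R`-flat (Mathlib assumes `T` flat).
-/

set_option autoImplicit false
set_option linter.style.haveILetI false
universe u
open TensorProduct

namespace Groth.Agent.Helper13NLFlat

section Ideal

variable (R : Type*) {S : Type*} [CommRing R] [CommRing S] [Algebra R S]
variable (T : Type*) [CommRing T] [Algebra R T] (I : Ideal S)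

theorem sq_le : I ^ 2 ≤ I := Ideal.pow_le_self two_ne_zero

/-- the projection `S/I² → S/I`. -/
def qmap : (S ⧸ I ^ 2) →ₗ[R] (S ⧸ I) :=
  (Ideal.Quotient.factorₐ R (I := I ^ 2) (J := I) (sq_le I)).toLinearMap

theorem qmap_surjective : Function.Surjective (qmap R I) :=
  Ideal.Quotient.factor_surjective (sq_le I)

/-- the sequence `I/I² → S/I² → S/I` is exact. -/
theorem exact_cotangentToQuotientSquare :
    Function.Exact (I.cotangentToQuotientSquare.restrictScalars R) (qmap R I) := by
  intro x
  constructor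
  · intro hx
    obtain ⟨y, rfl⟩ := Ideal.Quotient.mk_surjective x
    have hy : y ∈ I := by
      rw [← Ideal.Quotient.eq_zero_iff_mem]
      exact hx
    exact ⟨I.toCotangent ⟨y, hy⟩, rfl⟩
  · rintro ⟨c, rfl⟩
    obtain ⟨⟨y, hy⟩, rfl⟩ := I.toCotangent_surjective c
    change Ideal.Quotient.factor (sq_le I) (Ideal.Quotient.mk (I ^ 2) y) = 0
    rw [Ideal.Quotient.factor_mk, Ideal.Quotient.eq_zero_iff_mem]
    exact hy

set_option backward.isDefEq.respectTransparency.types false in
set_option backward.defeqAttrib.useBackward true in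
/-- If `S ⧸ I` is a flat `R`-module, the canonical map `tensorCotangentHom R T I` is injective. -/
theorem tensorCotangentHom_injective_of_flat_quotient [Module.Flat R (S ⧸ I)] :
    Function.Injective (I.tensorCotangentHom R T) := by
  let a : S →+* T ⊗[R] S := Algebra.TensorProduct.includeRight.toRingHom
  let f : (I.map a).Cotangent →ₗ[T] T ⊗[R] S ⧸ (I.map a) ^ 2 :=
    (Ideal.cotangentToQuotientSquare _).restrictScalars T
  suffices h : Function.Injective (f ∘ₗ Ideal.tensorCotangentHom R T I) from .of_comp h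
  let g : T ⊗[R] I.Cotangent →ₗ[T] T ⊗[R] (S ⧸ I ^ 2) :=
    AlgebraTensorModule.lTensor T T I.cotangentToQuotientSquare
  let hₐ : T ⊗[R] (S ⧸ I ^ 2) ≃ₐ[T] T ⊗[R] S ⧸ (I.map a) ^ 2 :=
    (Algebra.TensorProduct.tensorQuotientEquiv _ _ _ _).trans
      (Ideal.quotientEquivAlgOfEq T (Ideal.map_pow _ _ _))
  have : f ∘ₗ Ideal.tensorCotangentHom R T I = hₐ.toLinearMap ∘ₗ g := by
    ext x
    obtain ⟨x, rfl⟩ := I.toCotangent_surjective x
    dsimp [f, g, hₐ]
    rw [Ideal.tensorCotangentHom_tmul, one_smul, Ideal.toCotangent_to_quotient_square]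
    simp
  rw [this, LinearMap.coe_comp]
  apply hₐ.injective.comp
  exact LinearMap.lTensor_injective_of_exact_of_flat (qmap R I) (qmap_surjective R I)
    (I.cotangentToQuotientSquare.restrictScalars R) I.cotangentToQuotientSquare_injective
    (exact_cotangentToQuotientSquare R I) T

/-- base change of the conormal module when the quotient is flat. -/
noncomputable def tensorCotangentEquiv' [Module.Flat R (S ⧸ I)] :
    T ⊗[R] I.Cotangent ≃ₗ[T]
      (I.map (Algebra.TensorProduct.includeRight.toRingHom : _ →+* T ⊗[R] S)).Cotangent :=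
  LinearEquiv.ofBijective (I.tensorCotangentHom R T)
    ⟨tensorCotangentHom_injective_of_flat_quotient R T I, I.tensorCotangentHom_surjective R T⟩

lemma tensorCotangentEquiv'_tmul [Module.Flat R (S ⧸ I)] (t : T) (x : I) :
    tensorCotangentEquiv' R T I (t ⊗ₜ I.toCotangent x) =
      t • (I.map (Algebra.TensorProduct.includeRight.toRingHom : S →+* T ⊗[R] S)).toCotangent
        ⟨1 ⊗ₜ x, Ideal.mem_map_of_mem _ x.2⟩ :=
  rfl

end Ideal

section Ext

open Algebra Algebra.Extension

variable {R S : Type*} [CommRing R] [CommRing S] [Algebra R S] (P : Extension.{u} R S)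
variable (T : Type*) [CommRing T] [Algebra R T]

theorem flat_quotient_ker [Module.Flat R S] : Module.Flat R (P.Ring ⧸ P.ker) :=
  Module.Flat.of_linearEquiv
    (Ideal.quotientKerAlgEquivOfSurjective (f := IsScalarTower.toAlgHom R P.Ring S)
      P.algebraMap_surjective).toLinearEquiv

set_option backward.isDefEq.respectTransparency.types false in
/-- If `S` is flat over `R`, there is a `T`-linear isomorphism
`T ⊗[R] P.Cotangent ≃ₗ[T] (P.baseChange).Cotangent`. -/
noncomputable def tensorCotangentOfFlat' [Module.Flat R S] :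
    T ⊗[R] P.Cotangent ≃ₗ[T] (P.baseChange (T := T)).Cotangent :=
  haveI := flat_quotient_ker P
  AlgebraTensorModule.congr (.refl T T) (P.cotangentEquivCotangentKer.restrictScalars R) ≪≫ₗ
    tensorCotangentEquiv' R T P.ker ≪≫ₗ
    (Ideal.Cotangent.equivOfEq _ _ (P.ker_baseChange T).symm).restrictScalars T ≪≫ₗ
    (P.baseChange (T := T)).cotangentEquivCotangentKer.symm.restrictScalars T

set_option backward.isDefEq.respectTransparency.types false in
attribute [local instance] Algebra.TensorProduct.rightAlgebra in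
lemma tensorCotangentOfFlat'_tmul [Module.Flat R S] (t : T) (x : P.Cotangent) :
    tensorCotangentOfFlat' P T (t ⊗ₜ x) = t • Cotangent.map (P.toBaseChange T) x := by
  obtain ⟨x, rfl⟩ := Cotangent.mk_surjective x
  simp only [tensorCotangentOfFlat', LinearEquiv.trans_apply, AlgebraTensorModule.congr_tmul,
    LinearEquiv.refl_apply, LinearEquiv.restrictScalars_apply, cotangentEquivCotangentKer_apply,
    Cotangent.val_mk, tensorCotangentEquiv'_tmul, map_smul, Cotangent.map_mk,
    Hom.toAlgHom_apply, Ideal.Cotangent.equivOfEq_toCotangent]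
  rfl

section Lambda

attribute [local instance] Algebra.TensorProduct.rightAlgebra

/-- the comparison map `(T ⊗ S) ⊗_S N(P) → N(P_T)`, linear over `T ⊗ S`. -/
noncomputable def psi :
    (T ⊗[R] S) ⊗[S] P.Cotangent →ₗ[T ⊗[R] S] (P.baseChange (T := T)).Cotangent :=
  LinearMap.liftBaseChange (T ⊗[R] S) (Cotangent.map (P.toBaseChange T))

lemma psi_tmul (l : T ⊗[R] S) (x : P.Cotangent) :
    psi P T (l ⊗ₜ[S] x) = l • Cotangent.map (P.toBaseChange T) x := by
  simp [psi]

/-- `T ⊗_R N(P) → (T ⊗ S) ⊗_S N(P)`. -/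
noncomputable def sigma : T ⊗[R] P.Cotangent →+ (T ⊗[R] S) ⊗[S] P.Cotangent :=
  TensorProduct.liftAddHom
    { toFun := fun t =>
        { toFun := fun x => (t ⊗ₜ[R] (1 : S)) ⊗ₜ[S] x
          map_zero' := TensorProduct.tmul_zero _ _
          map_add' := fun x y => TensorProduct.tmul_add _ x y }
      map_zero' := by
        ext x
        change ((0 : T) ⊗ₜ[R] (1 : S)) ⊗ₜ[S] x = 0
        rw [TensorProduct.zero_tmul, TensorProduct.zero_tmul]
      map_add' := fun t t' => by
        ext x
        change ((t + t') ⊗ₜ[R] (1 : S)) ⊗ₜ[S] x = _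
        rw [TensorProduct.add_tmul, TensorProduct.add_tmul]
        rfl }
    (fun r t x => by
      change ((r • t) ⊗ₜ[R] (1 : S)) ⊗ₜ[S] x = (t ⊗ₜ[R] (1 : S)) ⊗ₜ[S] (r • x)
      rw [← algebraMap_smul S r x, ← TensorProduct.smul_tmul]
      congr 1
      rw [Algebra.smul_def (algebraMap R S r) (t ⊗ₜ[R] (1 : S))]
      change _ = ((1 : T) ⊗ₜ[R] (algebraMap R S r)) * (t ⊗ₜ[R] (1 : S))
      rw [Algebra.TensorProduct.tmul_mul_tmul, one_mul, mul_one, Algebra.algebraMap_eq_smul_one,
        TensorProduct.smul_tmul])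

lemma sigma_tmul (t : T) (x : P.Cotangent) :
    sigma P T (t ⊗ₜ[R] x) = (t ⊗ₜ[R] (1 : S)) ⊗ₜ[S] x := rfl

lemma sigma_surjective : Function.Surjective (sigma P T) := by
  intro w
  induction w using TensorProduct.induction_on with
  | zero => exact ⟨0, map_zero _⟩
  | add a b ha hb =>
    obtain ⟨a', rfl⟩ := ha
    obtain ⟨b', rfl⟩ := hb
    exact ⟨a' + b', map_add _ _ _⟩
  | tmul l x =>
    induction l using TensorProduct.induction_on with
    | zero => exact ⟨0, by rw [map_zero, TensorProduct.zero_tmul]⟩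
    | add a b ha hb =>
      obtain ⟨a', ha'⟩ := ha
      obtain ⟨b', hb'⟩ := hb
      exact ⟨a' + b', by rw [map_add, ha', hb', TensorProduct.add_tmul]⟩
    | tmul t s =>
      refine ⟨t ⊗ₜ[R] (s • x), ?_⟩
      rw [sigma_tmul, ← TensorProduct.smul_tmul]
      congr 1
      rw [Algebra.smul_def s (t ⊗ₜ[R] (1 : S))]
      change ((1 : T) ⊗ₜ[R] s) * (t ⊗ₜ[R] (1 : S)) = _
      rw [Algebra.TensorProduct.tmul_mul_tmul, one_mul, mul_one]

lemma psi_sigma [Module.Flat R S] (w : T ⊗[R] P.Cotangent) :
    psi P T (sigma P T w) = tensorCotangentOfFlat' P T w := by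
  induction w using TensorProduct.induction_on with
  | zero => simp
  | add a b ha hb => rw [map_add, map_add, map_add, ha, hb]
  | tmul t x =>
    rw [sigma_tmul, psi_tmul, tensorCotangentOfFlat'_tmul]
    rw [← algebraMap_smul (T ⊗[R] S) t]
    rfl

lemma psi_bijective [Module.Flat R S] : Function.Bijective (psi P T) := by
  have h1 : Function.Bijective (fun w => psi P T (sigma P T w)) := by
    have : (fun w => psi P T (sigma P T w)) = tensorCotangentOfFlat' P T := by
      funext w
      exact psi_sigma P T w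
    rw [this]
    exact (tensorCotangentOfFlat' P T).bijective
  have hσ : Function.Bijective (sigma P T) :=
    ⟨Function.Injective.of_comp (f := psi P T) h1.1, sigma_surjective P T⟩
  refine ⟨?_, Function.Surjective.of_comp (g := sigma P T) h1.2⟩
  intro a b hab
  obtain ⟨a', rfl⟩ := hσ.2 a
  obtain ⟨b', rfl⟩ := hσ.2 b
  rw [h1.1 hab]

/-- **base change of a flat conormal module to any base change `T ⊗_R S`, `S` flat over `R`.** -/
theorem flat_cotangent_baseChange [Module.Flat R S] [Module.Flat S P.Cotangent] :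
    Module.Flat (T ⊗[R] S) (P.baseChange (T := T)).Cotangent :=
  Module.Flat.of_linearEquiv (LinearEquiv.ofBijective (psi P T) (psi_bijective P T)).symm

end Lambda

end Ext

end Groth.Agent.Helper13NLFlat
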