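import Mathlib
import Groth.Agent.Lib.Helper3FlatModelMod
import Groth.Agent.Lib.Helper5FlatKer
import Groth.Agent.Lib.Helper13TorMore

/-!
# Syzygies of finitely presented flat modules over finitely presented algebras (helper6)

If `B` is a finitely presented `A`-algebra and `M` is a finitely presented `B`-module which is
flat over `A`, then `M` admits a surjection from a finite free `B`-module whose kernel is again
finitely presented (and flat over `A`).
-/

set_option autoImplicit false
set_option linter.style.haveILetI false

universe u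

open TensorProduct

namespace Groth.Agent.Lib.Helper6.PdTor

section pushout

variable {R₀ : Type u} (A : Type u) {S₀ B : Type u} [CommRing R₀] [CommRing A] [CommRing S₀]
  [CommRing B]
  [Algebra R₀ A] [Algebra R₀ S₀] [Algebra A B] [Algebra S₀ B] [Algebra R₀ B]
  [IsScalarTower R₀ A B] [IsScalarTower R₀ S₀ B] [Algebra.IsPushout R₀ A S₀ B]
  {N₁ N₂ N₃ : Type u} [AddCommGroup N₁] [AddCommGroup N₂] [AddCommGroup N₃]
  [Module S₀ N₁] [Module S₀ N₂] [Module S₀ N₃] [Module R₀ N₁] [Module R₀ N₂] [Module R₀ N₃]
  [IsScalarTower R₀ S₀ N₁] [IsScalarTower R₀ S₀ N₂] [IsScalarTower R₀ S₀ N₃]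

include A in
/-- In a pushout square `B = A ⊗[R₀] S₀`, base change along `S₀ → B` keeps a short exact sequence
of `S₀`-modules with `R₀`-flat cokernel left exact. -/
theorem baseChange_injective_of_flat (ι : N₁ →ₗ[S₀] N₂) (π : N₂ →ₗ[S₀] N₃)
    (hι : Function.Injective ι) (hπ : Function.Surjective π) (hex : Function.Exact ι π)
    [Module.Flat R₀ N₃] : Function.Injective (ι.baseChange B) := by
  have h1 : Function.Injective ((ι.restrictScalars R₀).lTensor A) :=
    LinearMap.lTensor_injective_of_exact_of_flat (π.restrictScalars R₀) hπ
      (ι.restrictScalars R₀) hι hex A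
  let e₁ := Algebra.IsPushout.cancelBaseChange R₀ A S₀ B N₁
  let e₂ := Algebra.IsPushout.cancelBaseChange R₀ A S₀ B N₂
  have hsq : ∀ t : A ⊗[R₀] N₁,
      ι.baseChange B (e₁.symm t) = e₂.symm ((ι.restrictScalars R₀).lTensor A t) := by
    intro t
    induction t using TensorProduct.induction_on with
    | zero => simp
    | tmul a n => simp [e₁, e₂]
    | add x y hx hy => simp only [map_add, hx, hy]
  intro x y hxy
  obtain ⟨x', rfl⟩ := e₁.symm.surjective x
  obtain ⟨y', rfl⟩ := e₁.symm.surjective y
  rw [hsq, hsq] at hxy
  rw [h1 (e₂.symm.injective hxy)]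

end pushout

/-- **Finitely presented syzygies.** If `B` is a finitely presented `A`-algebra and `M` is a
finitely presented `B`-module, flat over `A`, then there is a surjection from a finite free
`B`-module onto `M` whose kernel is finitely presented. -/
theorem exists_fp_syzygy (A B M : Type u) [CommRing A] [CommRing B] [Algebra A B]
    [Algebra.FinitePresentation A B] [AddCommGroup M] [Module B M] [Module A M]
    [IsScalarTower A B M] [Module.FinitePresentation B M] [Module.Flat A M] :
    ∃ (F : Type u) (_ : AddCommGroup F) (_ : Module B F) (_ : Module.Free B F)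
      (_ : Module.Finite B F) (π : F →ₗ[B] M),
      Function.Surjective π ∧ Module.FinitePresentation B (LinearMap.ker π) := by
  obtain ⟨R₀, _, _, S₀, _, _, _, _, _, _, M₀, _, _, _, _, _, _, f, hR₀, hS₀, hM₀, hflat, hpo, hf⟩ :=
    Groth.Agent.Lib.Helper3.FlatModelMod.exists_flat_module_model A B M
  haveI : IsNoetherianRing R₀ := Algebra.FiniteType.isNoetherianRing ℤ R₀
  haveI : IsNoetherianRing S₀ := Algebra.FiniteType.isNoetherianRing R₀ S₀
  obtain ⟨m, π₀, hπ₀⟩ := Module.Finite.exists_fin' S₀ M₀
  haveI : Module.FinitePresentation S₀ (LinearMap.ker π₀) :=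
    Module.finitePresentation_of_finite S₀ _
  have hex : Function.Exact (LinearMap.ker π₀).subtype π₀ :=
    LinearMap.exact_subtype_ker_map π₀
  have hinj : Function.Injective ((LinearMap.ker π₀).subtype.baseChange B) :=
    baseChange_injective_of_flat (R₀ := R₀) A (LinearMap.ker π₀).subtype π₀
      (Submodule.subtype_injective _) hπ₀ hex
  have hex' : Function.Exact ((LinearMap.ker π₀).subtype.baseChange B) (π₀.baseChange B) := by
    have := lTensor_exact B hex hπ₀
    simpa only [LinearMap.baseChange_eq_ltensor] using this
  have hsurj : Function.Surjective (π₀.baseChange B) := by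
    rw [LinearMap.baseChange_eq_ltensor]
    exact LinearMap.lTensor_surjective B hπ₀
  refine ⟨B ⊗[S₀] (Fin m → S₀), inferInstance, inferInstance, inferInstance, inferInstance,
    hf.equiv.toLinearMap ∘ₗ π₀.baseChange B, ?_, ?_⟩
  · exact hf.equiv.surjective.comp hsurj
  · have hker : LinearMap.ker (hf.equiv.toLinearMap ∘ₗ π₀.baseChange B) =
        LinearMap.range ((LinearMap.ker π₀).subtype.baseChange B) := by
      rw [LinearMap.ker_comp_of_ker_eq_bot _ (LinearEquiv.ker _)]
      exact LinearMap.exact_iff.mp hex'
    rw [hker]
    exact Module.FinitePresentation.of_equiv (LinearEquiv.ofInjective _ hinj)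

section cat

open CategoryTheory CategoryTheory.Limits MonoidalCategory
open Groth.Agent.Helper13Tor

variable {R : Type u} [CommRing R]

/-- `Tor_i(0, N) = 0`. -/
theorem isZero_tor_of_isZero (X : ModuleCat.{u} R) (hX : IsZero X) (i : ℕ) (N : ModuleCat.{u} R) :
    IsZero (((Tor (ModuleCat.{u} R) i).obj X).obj N) := by
  rcases Nat.eq_zero_or_pos i with rfl | hi
  · refine IsZero.of_iso ?_ ((torZeroIso.app X).app N)
    exact (tensorRight N).map_isZero hX
  · haveI : Subsingleton X := ModuleCat.subsingleton_of_isZero hX
    exact isZero_tor_of_flat N X i hi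

/-- If `Tor_0(X, R) = 0` then `X = 0`. -/
theorem isZero_of_isZero_tor_zero (X : ModuleCat.{u} R)
    (h : IsZero (((Tor (ModuleCat.{u} R) 0).obj X).obj (ModuleCat.of R R))) : IsZero X :=
  h.of_iso (((torZeroIso.app X).app (ModuleCat.of R R)) ≪≫ (ρ_ X)).symm

/-- the syzygy sequence `0 → K → P → X → 0` with `P` projective. -/
theorem exists_projective_ses (X : ModuleCat.{u} R) :
    ∃ S : ShortComplex (ModuleCat.{u} R), S.ShortExact ∧ Projective S.X₂ ∧ S.X₃ = X := by
  let p := Projective.π X
  refine ⟨ShortComplex.mk (kernel.ι p) p (kernel.condition p), ?_, ?_, rfl⟩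
  · exact { exact := ShortComplex.exact_of_f_is_kernel _ (kernelIsKernel p)
            mono_f := inferInstanceAs (Mono (kernel.ι p))
            epi_g := inferInstanceAs (Epi p) }
  · exact inferInstanceAs (Projective (Projective.over X))

/-- **Projective dimension `< i` kills `Tor_i`.** -/
theorem isZero_tor_of_hasProjectiveDimensionLT (i : ℕ) :
    ∀ (X : ModuleCat.{u} R), HasProjectiveDimensionLT X i → ∀ N : ModuleCat.{u} R,
      IsZero (((Tor (ModuleCat.{u} R) i).obj X).obj N) := by
  induction i with
  | zero =>
    intro X hX N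
    exact isZero_tor_of_isZero X (isZero_of_hasProjectiveDimensionLT_zero X) 0 N
  | succ i ih =>
    intro X hX N
    rcases Nat.eq_zero_or_pos i with rfl | hi
    · haveI : Projective X := projective_iff_hasProjectiveDimensionLT_one.2 hX
      exact isZero_tor_of_flat N X 1 Nat.one_pos
    · obtain ⟨S, hS, hP, rfl⟩ := exists_projective_ses X
      have hP' : HasProjectiveDimensionLT S.X₂ i := hasProjectiveDimensionLT_of_ge S.X₂ 1 i hi
      have hK : HasProjectiveDimensionLT S.X₁ i := hS.hasProjectiveDimensionLT_X₁ i hP' hX
      exact isZero_tor_X₃ S hS N i (isZero_tor_of_flat N S.X₂ (i + 1) (Nat.succ_pos i))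
        (ih S.X₁ hK N)

/-- If `Tor_1(X, N) = 0` for all `N`, then `X` is flat. -/
theorem flat_of_isZero_tor_one (X : ModuleCat.{u} R)
    (h : ∀ N : ModuleCat.{u} R, IsZero (((Tor (ModuleCat.{u} R) 1).obj X).obj N)) :
    Module.Flat R X := by
  rw [Module.Flat.iff_lTensor_injective']
  intro I
  let S : ShortComplex (ModuleCat.{u} R) :=
    ShortComplex.mk (ModuleCat.ofHom I.subtype) (ModuleCat.ofHom I.mkQ) (by
      apply ModuleCat.hom_ext
      apply LinearMap.ext
      intro y
      exact (LinearMap.exact_subtype_mkQ I).apply_apply_eq_zero y)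
  have hS : S.ShortExact :=
    { exact := (ShortComplex.ShortExact.moduleCat_exact_iff_function_exact _).2
        (LinearMap.exact_subtype_mkQ I)
      mono_f := (ModuleCat.mono_iff_injective _).2 (Submodule.subtype_injective I)
      epi_g := (ModuleCat.epi_iff_surjective _).2 (Submodule.mkQ_surjective I) }
  exact (isZero_tor_one_iff_lTensor_injective X S hS (h _)).1 (h _)

end cat

section main

open CategoryTheory CategoryTheory.Limits
open Groth.Agent.Helper13Tor

variable (A B : Type u) [CommRing A] [CommRing B] [Algebra A B]
  [Algebra.FinitePresentation A B] [Module.Flat A B]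

/-- **Vanishing of `Tor_j` for `j ≥ i` bounds the projective dimension** of a finitely presented
`B`-module which is flat over `A`. -/
theorem hasProjectiveDimensionLT_of_isZero_tor (i : ℕ) :
    ∀ (M : Type u) [AddCommGroup M] [Module B M] [Module A M] [IsScalarTower A B M]
      [Module.FinitePresentation B M] [Module.Flat A M],
      (∀ j, i ≤ j → ∀ N : ModuleCat.{u} B,
        IsZero (((Tor (ModuleCat.{u} B) j).obj (ModuleCat.of B M)).obj N)) →
      HasProjectiveDimensionLT (ModuleCat.of B M) i := by
  induction i with
  | zero =>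
    intro M _ _ _ _ _ _ h
    exact (isZero_of_isZero_tor_zero _ (h 0 le_rfl _)).hasProjectiveDimensionLT_zero
  | succ i ih =>
    intro M _ _ _ _ _ _ h
    rcases Nat.eq_zero_or_pos i with rfl | hi
    · haveI : Module.Flat B M :=
        flat_of_isZero_tor_one (ModuleCat.of B M) (fun N => h 1 le_rfl N)
      haveI : Module.Projective B M := Module.Flat.projective_of_finitePresentation
      haveI : Projective (ModuleCat.of B M) := (IsProjective.iff_projective M).1 inferInstance
      infer_instance
    · obtain ⟨F, _, _, _, _, π, hπ, hK⟩ := exists_fp_syzygy A B M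
      letI : Module A F := Module.compHom F (algebraMap A B)
      haveI : IsScalarTower A B F := IsScalarTower.of_algebraMap_smul (fun _ _ => rfl)
      haveI : Module.Flat A F := Module.Flat.trans A B F
      haveI : Module.Flat A (LinearMap.ker π) :=
        Groth.Agent.Lib.Helper5.flat_of_exact_of_flat_of_flat
          ((LinearMap.ker π).subtype.restrictScalars A) (π.restrictScalars A)
          (Submodule.subtype_injective _) hπ (LinearMap.exact_subtype_ker_map π)
      let S : ShortComplex (ModuleCat.{u} B) :=
        ShortComplex.mk (ModuleCat.ofHom (LinearMap.ker π).subtype) (ModuleCat.ofHom π) (by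
          apply ModuleCat.hom_ext
          apply LinearMap.ext
          intro y
          exact (LinearMap.exact_subtype_ker_map π).apply_apply_eq_zero y)
      have hS : S.ShortExact :=
        { exact := (ShortComplex.ShortExact.moduleCat_exact_iff_function_exact _).2
            (LinearMap.exact_subtype_ker_map π)
          mono_f := (ModuleCat.mono_iff_injective _).2 (Submodule.subtype_injective _)
          epi_g := (ModuleCat.epi_iff_surjective _).2 hπ }
      haveI : Module.Projective B F := inferInstance
      haveI : Projective (ModuleCat.of B F) := (IsProjective.iff_projective F).1 inferInstance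
      have hF : HasProjectiveDimensionLT S.X₂ (i + 1) :=
        hasProjectiveDimensionLT_of_ge (ModuleCat.of B F) 1 (i + 1) (Nat.succ_pos i)
      have hK' : HasProjectiveDimensionLT S.X₁ i := by
        refine ih (LinearMap.ker π) (fun j hj N => ?_)
        have hj0 : 0 < j := lt_of_lt_of_le hi hj
        exact isZero_tor_X₁ S hS N j (h (j + 1) (Nat.succ_le_succ hj) N)
          (isZero_tor_of_flat N (ModuleCat.of B F) j hj0)
      obtain ⟨i', rfl⟩ : ∃ i', i = i' + 1 := ⟨i - 1, by omega⟩
      exact hS.hasProjectiveDimensionLT_X₃ (i' + 1) hK' hF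

/-- **Projective dimension equals Tor-dimension** for finitely presented modules, flat over the
base, over a flat finitely presented algebra. -/
theorem main (M : Type u) [AddCommGroup M] [Module B M] [Module A M]
    [IsScalarTower A B M] [Module.FinitePresentation B M] [Module.Flat A M] :
    projectiveDimension (ModuleCat.of B M) =
      sInf {n : WithBot ℕ∞ | ∀ i : ℕ, n < i → ∀ N : ModuleCat.{u} B,
        Limits.IsZero (((Tor (ModuleCat.{u} B) i).obj (ModuleCat.of B M)).obj N)} := by
  unfold projectiveDimension
  congr 1
  ext n
  simp only [Set.mem_setOf_eq]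
  constructor
  · intro h i hi N
    exact isZero_tor_of_hasProjectiveDimensionLT i _ (h i hi) N
  · intro h i hi
    exact hasProjectiveDimensionLT_of_isZero_tor A B i M
      (fun j hj N => h j (lt_of_lt_of_le hi (by exact_mod_cast hj)) N)

end main

end Groth.Agent.Lib.Helper6.PdTor
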