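import Mathlib
import Groth.Agent.Lib.Helper6PdTor

/-!
# Fibrewise flatness for finitely presented modules and projective dimension (helper6)
-/

set_option autoImplicit false
set_option linter.style.haveILetI false

universe u

open TensorProduct

namespace Groth.Agent.Lib.Helper6.PdFib

section lemmaX

variable {B C : Type*} [CommRing B] [CommRing C] [Algebra B C]
  {K F M : Type*} [AddCommGroup K] [AddCommGroup F] [AddCommGroup M]
  [Module B K] [Module B F] [Module B M]

theorem baseChange_exact (ι : K →ₗ[B] F) (π : F →ₗ[B] M) (hex : Function.Exact ι π)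
    (hπ : Function.Surjective π) :
    Function.Exact (ι.baseChange C) (π.baseChange C) := by
  have := lTensor_exact C hex hπ
  simpa only [LinearMap.baseChange_eq_ltensor] using this

theorem baseChange_surjective (π : F →ₗ[B] M) (hπ : Function.Surjective π) :
    Function.Surjective (π.baseChange C) := by
  rw [LinearMap.baseChange_eq_ltensor]
  exact LinearMap.lTensor_surjective C hπ

/-- **Change of rings for `Tor₁`-vanishing.** If `K → F → M → 0` is exact over `B`, the base change
`C ⊗ K → C ⊗ F` is injective and `C ⊗ M` is flat over `C`, then `L ⊗_B K → L ⊗_B F` is injective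
for every `C`-module `L`. -/
theorem lTensor_injective_of_baseChange (ι : K →ₗ[B] F) (π : F →ₗ[B] M)
    (hex : Function.Exact ι π) (hπ : Function.Surjective π)
    (hinj : Function.Injective (ι.baseChange C)) [Module.Flat C (C ⊗[B] M)]
    (L : Type*) [AddCommGroup L] [Module B L] [Module C L] [IsScalarTower B C L] :
    Function.Injective (ι.lTensor L) := by
  have h1 : Function.Injective ((ι.baseChange C).lTensor L) :=
    LinearMap.lTensor_injective_of_exact_of_flat (π.baseChange C) (baseChange_surjective π hπ)
      (ι.baseChange C) hinj (baseChange_exact ι π hex hπ) L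
  have hsq := AlgebraTensorModule.lTensor_comp_cancelBaseChange (R := B) (A := C) (B := C)
    (M := L) ι
  intro x y hxy
  obtain ⟨x', rfl⟩ := (AlgebraTensorModule.cancelBaseChange B C C L K).surjective x
  obtain ⟨y', rfl⟩ := (AlgebraTensorModule.cancelBaseChange B C C L K).surjective y
  have hx := LinearMap.congr_fun hsq x'
  have hy := LinearMap.congr_fun hsq y'
  simp only [LinearMap.coe_comp, Function.comp_apply, LinearEquiv.coe_coe] at hx hy
  have h2 : (AlgebraTensorModule.cancelBaseChange B C C L F)
      ((LinearMap.lTensor L (ι.baseChange C)) x') =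
      (AlgebraTensorModule.cancelBaseChange B C C L F)
      ((LinearMap.lTensor L (ι.baseChange C)) y') := by
    erw [← hx, ← hy]
    exact hxy
  rw [h1 ((AlgebraTensorModule.cancelBaseChange B C C L F).injective h2)]

end lemmaX

section lemmaZ

variable {B : Type u} [CommRing B] {K F M : Type u} [AddCommGroup K] [AddCommGroup F]
  [AddCommGroup M] [Module B K] [Module B F] [Module B M]

/-- **Residue-field criterion for flatness of a finitely presented module.** If
`K → F → M → 0` is a finite presentation with `F` finite free and `κ(q) ⊗ K → κ(q) ⊗ F` is injective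
for all maximal ideals `q`, then `M` is flat. -/
theorem flat_of_residueField_lTensor_injective (ι : K →ₗ[B] F) (π : F →ₗ[B] M)
    (hex : Function.Exact ι π) (hπ : Function.Surjective π)
    [Module.Finite B K] [Module.Finite B F] [Module.Free B F]
    (h : ∀ (q : Ideal B) [q.IsMaximal], Function.Injective (ι.lTensor q.ResidueField)) :
    Module.Flat B M := by
  apply Module.flat_of_localized_maximal
  intro P hP
  have hfree : Module.Free (Localization.AtPrime P) (Localization.AtPrime P ⊗[B] M) := by
    refine Module.free_of_lTensor_residueField_injective (ι.baseChange (Localization.AtPrime P))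
      (π.baseChange (Localization.AtPrime P)) (baseChange_surjective π hπ)
      (baseChange_exact ι π hex hπ) ?_
    have hsq := AlgebraTensorModule.lTensor_comp_cancelBaseChange (R := B)
      (A := Localization.AtPrime P) (B := Localization.AtPrime P) (M := P.ResidueField) ι
    intro x y hxy
    have hx := LinearMap.congr_fun hsq x
    have hy := LinearMap.congr_fun hsq y
    simp only [LinearMap.coe_comp, Function.comp_apply, LinearEquiv.coe_coe] at hx hy
    have h2 : (AlgebraTensorModule.cancelBaseChange B (Localization.AtPrime P)
        (Localization.AtPrime P) P.ResidueField K) x =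
        (AlgebraTensorModule.cancelBaseChange B (Localization.AtPrime P)
        (Localization.AtPrime P) P.ResidueField K) y := by
      apply h P
      erw [hx, hy]
      exact congrArg _ hxy
    exact (AlgebraTensorModule.cancelBaseChange B (Localization.AtPrime P)
        (Localization.AtPrime P) P.ResidueField K).injective h2
  haveI : Module.Flat B (Localization.AtPrime P ⊗[B] M) :=
    Module.Flat.trans B (Localization.AtPrime P) _
  exact Module.Flat.of_linearEquiv
    ((LocalizedModule.equivTensorProduct P.primeCompl M).restrictScalars B)

end lemmaZ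

section resField

variable (A : Type u) {B : Type u} [CommRing A] [CommRing B] [Algebra A B]
  (q : Ideal B) [q.IsPrime]

/-- the prime of `A` under `q`. -/
def under : PrimeSpectrum A := ⟨q.comap (algebraMap A B), inferInstance⟩

/-- the canonical map from the fibre ring `B ⊗ κ(p)` to `κ(q)`, for `p = q ∩ A`. -/
noncomputable def fibreToResidueField :
    B ⊗[A] (under A q).asIdeal.ResidueField →ₐ[B] q.ResidueField :=
  Algebra.TensorProduct.lift (Algebra.ofId B q.ResidueField)
    (Ideal.ResidueField.mapₐ (under A q).asIdeal q (Algebra.ofId A B) rfl)
    (fun _ _ => Commute.all _ _)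

end resField

section fibres

variable (A B M : Type u) [CommRing A] [CommRing B] [Algebra A B]
  [AddCommGroup M] [Module B M] [Module A M] [IsScalarTower A B M]

/-- for an `A`-flat `B`-module `M`, base change to a fibre ring `B ⊗ κ` keeps presentations of `M`
left exact. -/
theorem baseChange_fibre_injective [Module.Flat A M] (κ : Type u) [CommRing κ] [Algebra A κ]
    {K F : Type u} [AddCommGroup K] [AddCommGroup F] [Module B K] [Module B F] [Module A K]
    [Module A F] [IsScalarTower A B K] [IsScalarTower A B F]
    (ι : K →ₗ[B] F) (π : F →ₗ[B] M) (hι : Function.Injective ι) (hex : Function.Exact ι π)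
    (hπ : Function.Surjective π) :
    Function.Injective (ι.baseChange (B ⊗[A] κ)) := by
  letI : Algebra κ (B ⊗[A] κ) := Algebra.TensorProduct.rightAlgebra
  exact Groth.Agent.Lib.Helper6.PdTor.baseChange_injective_of_flat (R₀ := A) κ ι π hι hπ hex

/-- **Fibrewise criterion of flatness for finitely presented modules.** -/
theorem flat_of_fibres_flat [Module.FinitePresentation B M] [Module.Flat A M]
    (h : ∀ p : PrimeSpectrum A, Module.Flat (B ⊗[A] p.asIdeal.ResidueField)
      ((B ⊗[A] p.asIdeal.ResidueField) ⊗[B] M)) : Module.Flat B M := by
  obtain ⟨m, π, hπ⟩ := Module.Finite.exists_fin' B M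
  haveI : Module.Finite B (LinearMap.ker π) :=
    Module.Finite.iff_fg.mpr (Module.FinitePresentation.fg_ker π hπ)
  refine flat_of_residueField_lTensor_injective (LinearMap.ker π).subtype π
    (LinearMap.exact_subtype_ker_map π) hπ ?_
  intro q hq
  haveI := h (under A q)
  letI : Module (B ⊗[A] (under A q).asIdeal.ResidueField) q.ResidueField :=
    Module.compHom _ (fibreToResidueField A q).toRingHom
  haveI : IsScalarTower B (B ⊗[A] (under A q).asIdeal.ResidueField) q.ResidueField :=
    ⟨fun b c x => by
      show (fibreToResidueField A q) (b • c) * x = b • ((fibreToResidueField A q) c * x)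
      rw [map_smul, smul_mul_assoc]⟩
  exact lTensor_injective_of_baseChange (C := B ⊗[A] (under A q).asIdeal.ResidueField)
    (LinearMap.ker π).subtype π (LinearMap.exact_subtype_ker_map π) hπ
    (baseChange_fibre_injective A B M _ (LinearMap.ker π).subtype π
      (Submodule.subtype_injective _) (LinearMap.exact_subtype_ker_map π) hπ) q.ResidueField

omit [Module A M] [IsScalarTower A B M] in
/-- A finite `B`-module all of whose fibres over `Spec A` vanish is zero. -/
theorem subsingleton_of_fibres [Module.Finite B M]
    (h : ∀ p : PrimeSpectrum A, Subsingleton ((B ⊗[A] p.asIdeal.ResidueField) ⊗[B] M)) :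
    Subsingleton M := by
  rw [← Module.support_eq_empty_iff (R := B), Set.eq_empty_iff_forall_notMem]
  intro q
  rw [Module.mem_support_iff_nontrivial_residueField_tensorProduct, not_nontrivial_iff_subsingleton]
  haveI := h (under A q.asIdeal)
  letI : Module (B ⊗[A] (under A q.asIdeal).asIdeal.ResidueField) q.asIdeal.ResidueField :=
    Module.compHom _ (fibreToResidueField A q.asIdeal).toRingHom
  haveI : IsScalarTower B (B ⊗[A] (under A q.asIdeal).asIdeal.ResidueField)
      q.asIdeal.ResidueField :=
    ⟨fun b c x => by
      show (fibreToResidueField A q.asIdeal) (b • c) * x =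
        b • ((fibreToResidueField A q.asIdeal) c * x)
      rw [map_smul, smul_mul_assoc]⟩
  exact (AlgebraTensorModule.cancelBaseChange B (B ⊗[A] (under A q.asIdeal).asIdeal.ResidueField)
    (B ⊗[A] (under A q.asIdeal).asIdeal.ResidueField) q.asIdeal.ResidueField M).symm.subsingleton

end fibres

section main

open CategoryTheory CategoryTheory.Limits

variable (A B : Type u) [CommRing A] [CommRing B] [Algebra A B]

/-- short exact sequences of modules as short exact sequences in `ModuleCat`. -/
theorem exists_shortExact {R : Type u} [CommRing R] {K F M : Type u} [AddCommGroup K]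
    [AddCommGroup F] [AddCommGroup M] [Module R K] [Module R F] [Module R M]
    (ι : K →ₗ[R] F) (π : F →ₗ[R] M) (hι : Function.Injective ι) (hex : Function.Exact ι π)
    (hπ : Function.Surjective π) :
    ∃ S : ShortComplex (ModuleCat.{u} R), S.ShortExact ∧ S.X₁ = ModuleCat.of R K ∧
      S.X₂ = ModuleCat.of R F ∧ S.X₃ = ModuleCat.of R M := by
  refine ⟨ShortComplex.mk (ModuleCat.ofHom ι) (ModuleCat.ofHom π) (by
      apply ModuleCat.hom_ext
      apply LinearMap.ext
      intro y
      exact hex.apply_apply_eq_zero y), ?_, rfl, rfl, rfl⟩
  exact { exact := (ShortComplex.ShortExact.moduleCat_exact_iff_function_exact _).2 hex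
          mono_f := (ModuleCat.mono_iff_injective _).2 hι
          epi_g := (ModuleCat.epi_iff_surjective _).2 hπ }

/-- for a short exact sequence `0 → K → F → M → 0` of modules with `F` projective,
`pd M < n + 2 ↔ pd K < n + 1`. -/
theorem hasProjectiveDimensionLT_iff_of_ses {R : Type u} [CommRing R] {K F M : Type u}
    [AddCommGroup K] [AddCommGroup F] [AddCommGroup M] [Module R K] [Module R F] [Module R M]
    [Module.Projective R F]
    (ι : K →ₗ[R] F) (π : F →ₗ[R] M) (hι : Function.Injective ι) (hex : Function.Exact ι π)
    (hπ : Function.Surjective π) (n : ℕ) :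
    HasProjectiveDimensionLT (ModuleCat.of R M) (n + 2) ↔
      HasProjectiveDimensionLT (ModuleCat.of R K) (n + 1) := by
  obtain ⟨S, hS, h₁, h₂, h₃⟩ := exists_shortExact ι π hι hex hπ
  have hP : Projective S.X₂ := by
    rw [h₂]
    exact (IsProjective.iff_projective F).1 inferInstance
  have := hS.hasProjectiveDimensionLT_X₃_iff n hP
  rwa [h₁, h₃] at this

variable [Algebra.FinitePresentation A B] [Module.Flat A B]

/-- **`pd_B M < i` iff all fibres have `pd < i`.** -/
theorem hasProjectiveDimensionLT_iff_fibres (i : ℕ) :
    ∀ (M : Type u) [AddCommGroup M] [Module B M] [Module A M] [IsScalarTower A B M]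
      [Module.FinitePresentation B M] [Module.Flat A M],
      HasProjectiveDimensionLT (ModuleCat.of B M) i ↔
      ∀ p : PrimeSpectrum A, HasProjectiveDimensionLT
        (ModuleCat.of (B ⊗[A] p.asIdeal.ResidueField)
          ((B ⊗[A] p.asIdeal.ResidueField) ⊗[B] M)) i := by
  induction i with
  | zero =>
    intro M _ _ _ _ _ _
    simp only [hasProjectiveDimensionLT_zero_iff_isZero, ModuleCat.isZero_iff_subsingleton]
    constructor
    · intro h p
      exact inferInstanceAs (Subsingleton ((B ⊗[A] p.asIdeal.ResidueField) ⊗[B] M))
    · intro h
      exact subsingleton_of_fibres A B M h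
  | succ i ih =>
    intro M _ _ _ _ _ _
    rcases Nat.eq_zero_or_pos i with rfl | hi
    · simp only [zero_add, ← projective_iff_hasProjectiveDimensionLT_one]
      constructor
      · intro h p
        haveI : Module.Projective B M := (IsProjective.iff_projective M).2 h
        exact (IsProjective.iff_projective _).1 inferInstance
      · intro h
        haveI : Module.Flat B M := by
          refine flat_of_fibres_flat A B M (fun p => ?_)
          haveI : Module.Projective (B ⊗[A] p.asIdeal.ResidueField)
              ((B ⊗[A] p.asIdeal.ResidueField) ⊗[B] M) :=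
            (IsProjective.iff_projective _).2 (h p)
          infer_instance
        haveI : Module.Projective B M := Module.Flat.projective_of_finitePresentation
        exact (IsProjective.iff_projective M).1 inferInstance
    · obtain ⟨i', rfl⟩ : ∃ i', i = i' + 1 := ⟨i - 1, by omega⟩
      obtain ⟨F, _, _, _, _, π, hπ, hK⟩ := Groth.Agent.Lib.Helper6.PdTor.exists_fp_syzygy A B M
      letI : Module A F := Module.compHom F (algebraMap A B)
      haveI : IsScalarTower A B F := IsScalarTower.of_algebraMap_smul (fun _ _ => rfl)
      haveI : Module.Flat A F := Module.Flat.trans A B F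
      haveI : Module.Flat A (LinearMap.ker π) :=
        Groth.Agent.Lib.Helper5.flat_of_exact_of_flat_of_flat
          ((LinearMap.ker π).subtype.restrictScalars A) (π.restrictScalars A)
          (Submodule.subtype_injective _) hπ (LinearMap.exact_subtype_ker_map π)
      have hex := LinearMap.exact_subtype_ker_map π
      have hι : Function.Injective (LinearMap.ker π).subtype := Submodule.subtype_injective _
      rw [hasProjectiveDimensionLT_iff_of_ses (LinearMap.ker π).subtype π hι hex hπ i',
        ih (LinearMap.ker π)]
      refine forall_congr' (fun p => ?_)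
      exact (hasProjectiveDimensionLT_iff_of_ses
        ((LinearMap.ker π).subtype.baseChange (B ⊗[A] p.asIdeal.ResidueField))
        (π.baseChange (B ⊗[A] p.asIdeal.ResidueField))
        (baseChange_fibre_injective A B M _ (LinearMap.ker π).subtype π hι hex hπ)
        (baseChange_exact _ π hex hπ) (baseChange_surjective π hπ) i').symm

theorem projectiveDimension_le_iff' {C : Type*} [Category C] [Abelian C] (X : C)
    (c : WithBot ℕ∞) :
    projectiveDimension X ≤ c ↔ ∀ i : ℕ, c < i → HasProjectiveDimensionLT X i := by
  constructor
  · intro h i hi
    exact projectiveDimension_lt_iff.1 (lt_of_le_of_lt h hi)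
  · intro h
    exact sInf_le h

/-- **Projective dimension is the supremum of the fibrewise projective dimensions.** -/
theorem main (M : Type u) [AddCommGroup M] [Module B M] [Module A M]
    [IsScalarTower A B M] [Module.FinitePresentation B M] [Module.Flat A M] :
    projectiveDimension (ModuleCat.of B M) =
      ⨆ p : PrimeSpectrum A, projectiveDimension
        (ModuleCat.of (B ⊗[A] p.asIdeal.ResidueField)
          ((B ⊗[A] p.asIdeal.ResidueField) ⊗[B] M)) := by
  refine eq_of_forall_ge_iff (fun c => ?_)
  rw [iSup_le_iff, projectiveDimension_le_iff']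
  simp only [projectiveDimension_le_iff']
  constructor
  · intro h p i hi
    exact (hasProjectiveDimensionLT_iff_fibres A B i M).1 (h i hi) p
  · intro h i hi
    exact (hasProjectiveDimensionLT_iff_fibres A B i M).2 (fun p => h p i hi)

end main

end Groth.Agent.Lib.Helper6.PdFib
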