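import Mathlib
import Groth.Prelude.Def_DRing2
import Groth.Agent.Lib.Helper6PdFib
import Groth.Agent.Lib.Helper6RegSm2
import Groth.Agent.Lib.Helper28SerreConv
import Groth.Agent.Lib.Helper28RegLoc
import Groth.Agent.Lib.Helper20SmoothFiber
import Groth.Agent.Lib.Helper3FlatModelMod

/-!
# A flat finite type algebra whose diagonal has finite Tor-dimension is smooth (helper6)
-/

set_option autoImplicit false
set_option linter.style.haveILetI false

universe u

open TensorProduct CategoryTheory

namespace Groth.Agent.Lib.Helper6.DiagSm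

open Groth.Agent.Lib.Helper6.PdFib Groth.Agent.Lib.Helper6.PdTor

theorem exists_free_cover (S₀ : Type u) [CommRing S₀] (M : Type u) [AddCommGroup M] [Module S₀ M] :
    ∃ (F : Type u) (_ : AddCommGroup F) (_ : Module S₀ F) (_ : Module.Free S₀ F)
      (π : F →ₗ[S₀] M), Function.Surjective π :=
  ⟨M →₀ S₀, inferInstance, inferInstance, inferInstance,
    Finsupp.linearCombination S₀ (id : M → M), Finsupp.linearCombination_id_surjective S₀ M⟩

section pdBaseChange

variable {R₀ : Type u} (A' : Type u) {S₀ T : Type u} [CommRing R₀] [CommRing A'] [CommRing S₀]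
  [CommRing T]
  [Algebra R₀ A'] [Algebra R₀ S₀] [Algebra A' T] [Algebra S₀ T] [Algebra R₀ T]
  [IsScalarTower R₀ A' T] [IsScalarTower R₀ S₀ T] [Algebra.IsPushout R₀ A' S₀ T]
  [Module.Flat R₀ S₀]

include A' in
/-- **Projective dimension under Tor-independent base change.** `S₀` flat over `R₀`, `T` the
pushout of `S₀` and `A'` over `R₀`, `M` an `S₀`-module flat over `R₀`: then
`pd_T (T ⊗ M) ≤ pd_{S₀} M`. -/
theorem pdLT_baseChange (n : ℕ) :
    ∀ (M : Type u) [AddCommGroup M] [Module S₀ M] [Module R₀ M] [IsScalarTower R₀ S₀ M]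
      [Module.Flat R₀ M],
      HasProjectiveDimensionLT (ModuleCat.of S₀ M) n →
      HasProjectiveDimensionLT (ModuleCat.of T (T ⊗[S₀] M)) n := by
  induction n with
  | zero =>
    intro M _ _ _ _ _
    simp only [hasProjectiveDimensionLT_zero_iff_isZero, ModuleCat.isZero_iff_subsingleton]
    intro h
    exact inferInstanceAs (Subsingleton (T ⊗[S₀] M))
  | succ n ih =>
    intro M _ _ _ _ _ hM
    rcases Nat.eq_zero_or_pos n with rfl | hn
    · simp only [zero_add, ← projective_iff_hasProjectiveDimensionLT_one] at hM ⊢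
      haveI : Module.Projective S₀ M := (IsProjective.iff_projective M).2 hM
      exact (IsProjective.iff_projective _).1 inferInstance
    · obtain ⟨n', rfl⟩ : ∃ n', n = n' + 1 := ⟨n - 1, by omega⟩
      obtain ⟨F, _, _, _, π, hπ⟩ := exists_free_cover S₀ M
      letI : Module R₀ F := Module.compHom F (algebraMap R₀ S₀)
      haveI : IsScalarTower R₀ S₀ F := IsScalarTower.of_algebraMap_smul (fun _ _ => rfl)
      haveI : Module.Flat R₀ F := Module.Flat.trans R₀ S₀ F
      haveI : Module.Flat R₀ (LinearMap.ker π) := by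
        have h := Groth.Agent.Lib.Helper5.flat_of_exact_of_flat_of_flat (A := R₀)
          (M := ↥(LinearMap.ker π))
          ((LinearMap.ker π).subtype.restrictScalars R₀) (π.restrictScalars R₀)
          (Submodule.subtype_injective _) hπ (LinearMap.exact_subtype_ker_map π)
        convert h
      have hex := LinearMap.exact_subtype_ker_map π
      have hι : Function.Injective (LinearMap.ker π).subtype := Submodule.subtype_injective _
      have key := hasProjectiveDimensionLT_iff_of_ses (R := S₀) (K := ↥(LinearMap.ker π)) (F := F)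
        (M := M) (LinearMap.ker π).subtype π hι hex hπ n'
      rw [key] at hM
      have hK := ih (LinearMap.ker π) hM
      haveI : Module.Projective T (T ⊗[S₀] F) := inferInstance
      have hinj : Function.Injective ((LinearMap.ker π).subtype.baseChange T) :=
        baseChange_injective_of_flat (R₀ := R₀) A' (B := T) (N₁ := ↥(LinearMap.ker π)) (N₂ := F)
          (N₃ := M) (LinearMap.ker π).subtype π hι hπ hex
      have hex' : Function.Exact ((LinearMap.ker π).subtype.baseChange T) (π.baseChange T) :=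
        baseChange_exact _ π hex hπ
      have hsurj : Function.Surjective (π.baseChange T) := baseChange_surjective π hπ
      have key' := hasProjectiveDimensionLT_iff_of_ses (R := T) (K := T ⊗[S₀] ↥(LinearMap.ker π))
        (F := T ⊗[S₀] F) (M := T ⊗[S₀] M)
        ((LinearMap.ker π).subtype.baseChange T) (π.baseChange T) hinj hex' hsurj n'
      exact key'.2 hK

end pdBaseChange

section regular

/-- A maximal ideal whose residue field (as a quotient module) has finite projective dimension
has a regular local ring. -/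
theorem isRegularLocalRing_of_pd_residue {T L : Type u} [CommRing T] [IsNoetherianRing T]
    [Field L] [Module T L] (ψ : T →+* L) (hψ : Function.Surjective ψ)
    (hmod : ∀ (t : T) (l : L), t • l = ψ t * l) (𝔪 : Ideal T) [𝔪.IsPrime]
    (h𝔪 : 𝔪 = RingHom.ker ψ) (n : ℕ)
    (h : HasProjectiveDimensionLT (ModuleCat.of T L) (n + 1)) :
    IsRegularLocalRing (Localization.AtPrime 𝔪) := by
  haveI hmax : 𝔪.IsMaximal := by
    rw [h𝔪]; exact RingHom.ker_isMaximal_of_surjective ψ hψ
  -- the `T`-linear map `L → κ(𝔪)`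
  let ψl : T →ₗ[T] L :=
    { toFun := ψ
      map_add' := map_add ψ
      map_smul' := fun t x => by
        rw [RingHom.id_apply, hmod, smul_eq_mul, map_mul] }
  have hψl : Function.Surjective ψl := hψ
  have hker : LinearMap.ker ψl = 𝔪.restrictScalars T := by
    ext x
    rw [LinearMap.mem_ker, h𝔪]
    rfl
  let χl : T →ₗ[T] 𝔪.ResidueField := Algebra.linearMap T 𝔪.ResidueField
  have hχl : Function.Surjective χl := Ideal.algebraMap_residueField_surjective 𝔪
  have hkerχ : LinearMap.ker χl = 𝔪.restrictScalars T := by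
    ext x
    rw [LinearMap.mem_ker]
    change algebraMap T 𝔪.ResidueField x = 0 ↔ x ∈ 𝔪
    exact Ideal.algebraMap_residueField_eq_zero
  let e : L ≃ₗ[T] 𝔪.ResidueField :=
    (ψl.quotKerEquivOfSurjective hψl).symm ≪≫ₗ
      (Submodule.quotEquivOfEq _ _ (hker.trans hkerχ.symm)) ≪≫ₗ
      (χl.quotKerEquivOfSurjective hχl)
  haveI : HasProjectiveDimensionLE (ModuleCat.of T L) n := h
  have h1 : HasProjectiveDimensionLE (ModuleCat.of T 𝔪.ResidueField) n :=
    ModuleCat.hasProjectiveDimensionLE_of_linearEquiv (M := ModuleCat.of T L)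
      (N := ModuleCat.of T 𝔪.ResidueField) e n
  have h2 : HasProjectiveDimensionLT
      (ModuleCat.of (Localization 𝔪.primeCompl) (𝔪.ResidueField)) (n + 1) :=
    Groth.Agent.Lib.Helper28.hasProjectiveDimensionLT_localization_of_module 𝔪.primeCompl
      𝔪.ResidueField n h1
  haveI : IsNoetherianRing (Localization.AtPrime 𝔪) :=
    IsLocalization.isNoetherianRing 𝔪.primeCompl _ inferInstance
  exact Groth.Agent.Lib.Helper28.isRegularLocalRing_of_hasProjectiveDimensionLT_residueField
    (Localization.AtPrime 𝔪) (n + 1) h2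

end regular

section pushoutTensor

attribute [local instance] Algebra.TensorProduct.rightAlgebra

variable (A B₁ B₂ L : Type u) [CommRing A] [CommRing B₁] [CommRing B₂] [CommRing L]
  [Algebra A B₁] [Algebra A B₂] [Algebra A L] [Algebra B₁ L] [IsScalarTower A B₁ L]

/-- the map `B₁ ⊗[A] B₂ → L ⊗[A] B₂` -/
noncomputable abbrev tensorMapAlg : Algebra (B₁ ⊗[A] B₂) (L ⊗[A] B₂) :=
  (Algebra.TensorProduct.map (IsScalarTower.toAlgHom A B₁ L) (AlgHom.id A B₂)).toRingHom.toAlgebra

attribute [local instance] tensorMapAlg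

theorem tensorMapAlg_tmul (x : B₁) (y : B₂) :
    algebraMap (B₁ ⊗[A] B₂) (L ⊗[A] B₂) (x ⊗ₜ y) = algebraMap B₁ L x ⊗ₜ y := rfl

instance isScalarTower_left_tensorMap : IsScalarTower B₁ (B₁ ⊗[A] B₂) (L ⊗[A] B₂) :=
  IsScalarTower.of_algebraMap_eq fun x => by
    rw [Algebra.TensorProduct.algebraMap_apply, Algebra.TensorProduct.algebraMap_apply,
      tensorMapAlg_tmul, Algebra.algebraMap_self, RingHom.id_apply]

instance isScalarTower_right_tensorMap : IsScalarTower B₂ (B₁ ⊗[A] B₂) (L ⊗[A] B₂) :=
  IsScalarTower.of_algebraMap_eq fun x => by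
    rw [Algebra.TensorProduct.right_algebraMap_apply, Algebra.TensorProduct.right_algebraMap_apply,
      tensorMapAlg_tmul, map_one]

instance isScalarTower_base_tensorMap : IsScalarTower A (B₁ ⊗[A] B₂) (L ⊗[A] B₂) :=
  IsScalarTower.of_algebraMap_eq fun x => by
    rw [Algebra.TensorProduct.algebraMap_apply, Algebra.TensorProduct.algebraMap_apply,
      tensorMapAlg_tmul, ← IsScalarTower.algebraMap_apply]

theorem isPushout_tensorMap : Algebra.IsPushout B₁ L (B₁ ⊗[A] B₂) (L ⊗[A] B₂) :=
  (Algebra.IsPushout.comp_iff A B₁ B₂ (B₁ ⊗[A] B₂) (T := L) (T' := L ⊗[A] B₂)).mp inferInstance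

end pushoutTensor

section main

attribute [local instance] tensorMapAlg

variable (A B : Type u) [CommRing A] [CommRing B] [Algebra A B]
  (L : Type u) [Field L] [Algebra A L] [Algebra B L] [IsScalarTower A B L]

/-- the multiplication map `L ⊗[A] B → L` -/
noncomputable def mulMap : L ⊗[A] B →ₐ[L] L :=
  Algebra.TensorProduct.lift (Algebra.ofId L L) (IsScalarTower.toAlgHom A B L)
    (fun _ _ => Commute.all _ _)

theorem mulMap_tmul (l : L) (b : B) : mulMap A B L (l ⊗ₜ b) = l * algebraMap B L b := by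
  simp [mulMap]

theorem mulMap_surjective : Function.Surjective (mulMap A B L) := fun l =>
  ⟨l ⊗ₜ 1, by rw [mulMap_tmul, map_one, mul_one]⟩

variable {A B} [Algebra (B ⊗[A] B) B]

include A in
theorem isScalarTower_diag (hmul : ∀ x y : B, algebraMap (B ⊗[A] B) B (x ⊗ₜ[A] y) = x * y) :
    IsScalarTower B (B ⊗[A] B) B :=
  IsScalarTower.of_algebraMap_smul fun b x => by
    rw [Algebra.TensorProduct.algebraMap_apply, Algebra.smul_def, hmul, Algebra.algebraMap_self,
      RingHom.id_apply, mul_one, smul_eq_mul]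

theorem mulMap_comp_algebraMap (hmul : ∀ x y : B, algebraMap (B ⊗[A] B) B (x ⊗ₜ[A] y) = x * y)
    (e : B ⊗[A] B) :
    mulMap A B L (algebraMap (B ⊗[A] B) (L ⊗[A] B) e) = algebraMap B L (algebraMap (B ⊗[A] B) B e) := by
  induction e with
  | zero => simp
  | add x y hx hy => simp only [map_add, hx, hy]
  | tmul x y => rw [tensorMapAlg_tmul, mulMap_tmul, hmul, map_mul]

variable [Module.Flat A B]

set_option maxHeartbeats 1000000 in
/-- **Key step.** If `B` has projective dimension `≤ n` over `B ⊗[A] B`, then the local ring of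
`L ⊗[A] B` at the `L`-point defined by `B → L` is regular. -/
theorem isRegularLocalRing_of_pd_diag [Algebra.FiniteType A B]
    (hmul : ∀ x y : B, algebraMap (B ⊗[A] B) B (x ⊗ₜ[A] y) = x * y) (n : ℕ)
    (hpd : HasProjectiveDimensionLT (ModuleCat.of (B ⊗[A] B) B) (n + 1))
    (𝔪 : Ideal (L ⊗[A] B)) [𝔪.IsPrime] (h𝔪 : 𝔪 = RingHom.ker (mulMap A B L).toRingHom) :
    IsRegularLocalRing (Localization.AtPrime 𝔪) := by
  haveI := isPushout_tensorMap A B B L
  haveI := isScalarTower_diag (A := A) hmul
  have h1 := pdLT_baseChange (R₀ := B) L (S₀ := B ⊗[A] B) (T := L ⊗[A] B) (n + 1) B hpd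
  set ψ := mulMap A B L with hψ
  letI : Module (L ⊗[A] B) L := Module.compHom L ψ.toRingHom
  have hmodT : ∀ (t : L ⊗[A] B) (l : L), t • l = ψ t * l := fun _ _ => rfl
  letI : Module (B ⊗[A] B) L :=
    Module.compHom L (ψ.toRingHom.comp (algebraMap (B ⊗[A] B) (L ⊗[A] B)))
  have hmodE : ∀ (e : B ⊗[A] B) (l : L),
      e • l = ψ (algebraMap (B ⊗[A] B) (L ⊗[A] B) e) * l := fun _ _ => rfl
  haveI : IsScalarTower (B ⊗[A] B) (L ⊗[A] B) L := ⟨fun e t l => by
    rw [hmodT, hmodE, hmodT, Algebra.smul_def, map_mul, mul_assoc]⟩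
  haveI : IsScalarTower L (L ⊗[A] B) L := ⟨fun l t x => by
    rw [hmodT, hmodT, map_smul, smul_eq_mul, smul_eq_mul, mul_assoc]⟩
  haveI : IsScalarTower B (B ⊗[A] B) L := ⟨fun b e l => by
    rw [hmodE, hmodE, Algebra.smul_def, map_mul, map_mul, mulMap_comp_algebraMap (L := L) hmul,
      Algebra.TensorProduct.algebraMap_apply, hmul, Algebra.algebraMap_self, RingHom.id_apply,
      mul_one, Algebra.smul_def, mul_assoc]⟩
  let f : B →ₗ[B ⊗[A] B] L :=
    { toFun := algebraMap B L
      map_add' := map_add _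
      map_smul' := fun e b => by
        rw [RingHom.id_apply, hmodE, Algebra.smul_def, map_mul,
          mulMap_comp_algebraMap (L := L) hmul] }
  have hf : IsBaseChange L (f.restrictScalars B) := IsBaseChange.linearMap B L
  have hbc : IsBaseChange (L ⊗[A] B) f :=
    Groth.Agent.Lib.Helper3.FlatModelMod.isBaseChange_of_isPushout (R₀ := B) (R := L)
      (S₀ := B ⊗[A] B) (S := L ⊗[A] B) f hf
  haveI : HasProjectiveDimensionLE (ModuleCat.of (L ⊗[A] B) ((L ⊗[A] B) ⊗[B ⊗[A] B] B)) n := h1
  have h2 : HasProjectiveDimensionLE (ModuleCat.of (L ⊗[A] B) L) n :=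
    ModuleCat.hasProjectiveDimensionLE_of_linearEquiv
      (M := ModuleCat.of (L ⊗[A] B) ((L ⊗[A] B) ⊗[B ⊗[A] B] B))
      (N := ModuleCat.of (L ⊗[A] B) L) hbc.equiv n
  haveI : IsNoetherianRing (L ⊗[A] B) := Algebra.FiniteType.isNoetherianRing L (L ⊗[A] B)
  exact isRegularLocalRing_of_pd_residue ψ.toRingHom (mulMap_surjective A B L) hmodT 𝔪 h𝔪 n h2

omit [Module.Flat A B] [Algebra (B ⊗[A] B) B] in
/-- `L → κ(𝔪)` is bijective for the `L`-point `𝔪` of `L ⊗[A] B`. -/
theorem bijective_algebraMap_residueField (𝔪 : Ideal (L ⊗[A] B)) [𝔪.IsPrime]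
    (h𝔪 : 𝔪 = RingHom.ker (mulMap A B L).toRingHom) :
    Function.Bijective (algebraMap L 𝔪.ResidueField) := by
  haveI hmax : 𝔪.IsMaximal := by
    rw [h𝔪]; exact RingHom.ker_isMaximal_of_surjective _ (mulMap_surjective A B L)
  refine ⟨RingHom.injective _, fun y => ?_⟩
  obtain ⟨t, rfl⟩ := Ideal.algebraMap_residueField_surjective 𝔪 y
  refine ⟨mulMap A B L t, ?_⟩
  rw [IsScalarTower.algebraMap_apply L (L ⊗[A] B) 𝔪.ResidueField, ← sub_eq_zero, ← map_sub,
    Ideal.algebraMap_residueField_eq_zero, h𝔪, RingHom.mem_ker, map_sub]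
  change mulMap A B L (algebraMap L (L ⊗[A] B) (mulMap A B L t)) - mulMap A B L t = 0
  rw [AlgHom.commutes, Algebra.algebraMap_self, RingHom.id_apply, sub_self]

set_option maxHeartbeats 1000000 in
/-- the fibres are smooth at every prime -/
theorem isSmoothAt_fiber_of_pd_diag [Algebra.FiniteType A B]
    (hmul : ∀ x y : B, algebraMap (B ⊗[A] B) B (x ⊗ₜ[A] y) = x * y) (n : ℕ)
    (hpd : HasProjectiveDimensionLT (ModuleCat.of (B ⊗[A] B) B) (n + 1))
    (p : Ideal A) [p.IsPrime] (q : Ideal (p.Fiber B)) [q.IsPrime]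
    (L : Type u) [Field L] [Algebra (p.Fiber B) L]
    (hker : RingHom.ker (algebraMap (p.Fiber B) L) = q) :
    Algebra.IsSmoothAt p.ResidueField q := by
  letI algBD : Algebra B (p.Fiber B) := Algebra.TensorProduct.rightAlgebra
  letI : Algebra p.ResidueField L :=
    ((algebraMap (p.Fiber B) L).comp (algebraMap p.ResidueField (p.Fiber B))).toAlgebra
  haveI : IsScalarTower p.ResidueField (p.Fiber B) L :=
    IsScalarTower.of_algebraMap_eq (R := p.ResidueField) (S := p.Fiber B) (A := L) fun _ => rfl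
  letI : Algebra A L := ((algebraMap (p.Fiber B) L).comp (algebraMap A (p.Fiber B))).toAlgebra
  haveI : IsScalarTower A (p.Fiber B) L :=
    IsScalarTower.of_algebraMap_eq (R := A) (S := p.Fiber B) (A := L) fun _ => rfl
  haveI : IsScalarTower A p.ResidueField L := IsScalarTower.of_algebraMap_eq fun a => by
    rw [IsScalarTower.algebraMap_apply A (p.Fiber B) L,
      IsScalarTower.algebraMap_apply p.ResidueField (p.Fiber B) L,
      ← IsScalarTower.algebraMap_apply A p.ResidueField (p.Fiber B)]
  letI : Algebra B L := ((algebraMap (p.Fiber B) L).comp (algebraMap B (p.Fiber B))).toAlgebra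
  haveI : IsScalarTower B (p.Fiber B) L :=
    IsScalarTower.of_algebraMap_eq (R := B) (S := p.Fiber B) (A := L) fun _ => rfl
  haveI : IsScalarTower A B L := IsScalarTower.of_algebraMap_eq fun a => by
    rw [IsScalarTower.algebraMap_apply A (p.Fiber B) L, IsScalarTower.algebraMap_apply B (p.Fiber B) L]
    congr 1
    exact ((Algebra.TensorProduct.includeRight : B →ₐ[A] p.Fiber B).commutes a).symm
  -- the point
  set 𝔪 : Ideal (L ⊗[A] B) := RingHom.ker (mulMap A B L).toRingHom with h𝔪
  haveI hmax : 𝔪.IsMaximal := RingHom.ker_isMaximal_of_surjective _ (mulMap_surjective A B L)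
  haveI : 𝔪.IsPrime := hmax.isPrime
  have hreg : IsRegularLocalRing (Localization.AtPrime 𝔪) :=
    isRegularLocalRing_of_pd_diag L hmul n hpd 𝔪 h𝔪
  haveI : Algebra.FormallySmooth L 𝔪.ResidueField :=
    Algebra.FormallySmooth.of_equiv
      (AlgEquiv.ofBijective (Algebra.ofId L _) (bijective_algebraMap_residueField L 𝔪 h𝔪))
  have hsm : Algebra.IsSmoothAt L 𝔪 :=
    (Groth.Agent.Lib.Helper6.RegSm.isSmoothAt_iff_isRegularLocalRing L (L ⊗[A] B) 𝔪).2 hreg
  -- descent to the fibre
  haveI := isPushout_tensorMap A p.ResidueField B L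
  haveI : Algebra.FiniteType p.ResidueField (p.Fiber B) :=
    inferInstanceAs (Algebra.FiniteType p.ResidueField (p.ResidueField ⊗[A] B))
  haveI : Algebra.FinitePresentation p.ResidueField (p.Fiber B) :=
    (Algebra.FinitePresentation.of_finiteType (R := p.ResidueField) (A := p.Fiber B)).mp
      inferInstance
  have hdesc := Groth.Agent.Lib.Helper20.SmoothDesc.isSmoothAt_of_flat_baseChange p.ResidueField
    (p.Fiber B) L (L ⊗[A] B) 𝔪 hsm
  have hcomap : 𝔪.comap (algebraMap (p.Fiber B) (L ⊗[A] B)) = q := by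
    have hcompat : ∀ x : p.Fiber B,
        mulMap A B L (algebraMap (p.Fiber B) (L ⊗[A] B) x) = algebraMap (p.Fiber B) L x := by
      intro x
      induction x using TensorProduct.induction_on with
      | zero => simp
      | add x y hx hy => simp only [map_add, hx, hy]
      | tmul k b =>
        change mulMap A B L (algebraMap (p.ResidueField ⊗[A] B) (L ⊗[A] B) (k ⊗ₜ[A] b)) = _
        rw [tensorMapAlg_tmul, mulMap_tmul]
        have h1 : (k ⊗ₜ[A] b : p.Fiber B) =
            algebraMap p.ResidueField (p.Fiber B) k * algebraMap B (p.Fiber B) b := by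
          rw [Algebra.TensorProduct.algebraMap_apply, Algebra.TensorProduct.right_algebraMap_apply,
            Algebra.TensorProduct.tmul_mul_tmul, mul_one, one_mul, Algebra.algebraMap_self,
            RingHom.id_apply]
        rw [h1, map_mul, ← IsScalarTower.algebraMap_apply, ← IsScalarTower.algebraMap_apply]
    rw [← hker, h𝔪]
    ext x
    rw [Ideal.mem_comap, RingHom.mem_ker, RingHom.mem_ker]
    change mulMap A B L (algebraMap (p.Fiber B) (L ⊗[A] B) x) = 0 ↔ _
    rw [hcompat]
  exact Groth.Agent.Lib.Helper20.SmoothDesc.isSmoothAt_congr _ _ hcomap hdesc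

end main

section final

open Groth.Agent.Helper13Tor

/-- **Perfect diagonal implies smooth.** -/
theorem smooth_of_hasFiniteTorDim_diag {A B : Type u} [CommRing A] [CommRing B]
    [Algebra A B] [IsNoetherianRing A] [Algebra.FiniteType A B] [Module.Flat A B]
    [Algebra (B ⊗[A] B) B]
    (hmul : ∀ x y : B, algebraMap (B ⊗[A] B) B (x ⊗ₜ[A] y) = x * y)
    (h : DRing.HasFiniteTorDim (B ⊗[A] B) B) : Algebra.Smooth A B := by
  haveI : Algebra.FinitePresentation A B :=
    (Algebra.FinitePresentation.of_finiteType (R := A) (A := B)).mp inferInstance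
  obtain ⟨n, hn⟩ := h
  haveI : Algebra.FinitePresentation A (B ⊗[A] B) :=
    Algebra.FinitePresentation.trans A B (B ⊗[A] B)
  haveI : IsScalarTower A (B ⊗[A] B) B := IsScalarTower.of_algebraMap_smul fun a x => by
    rw [Algebra.TensorProduct.algebraMap_apply, Algebra.smul_def, hmul, mul_one,
      Algebra.smul_def]
  haveI : IsNoetherianRing (B ⊗[A] B) := Algebra.FiniteType.isNoetherianRing A (B ⊗[A] B)
  haveI : Module.Finite (B ⊗[A] B) B :=
    Module.Finite.of_surjective (Algebra.linearMap (B ⊗[A] B) B) (fun b => ⟨b ⊗ₜ 1, by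
      rw [Algebra.linearMap_apply, hmul, mul_one]⟩)
  haveI : Module.FinitePresentation (B ⊗[A] B) B := Module.finitePresentation_of_finite _ _
  have hpd : HasProjectiveDimensionLT (ModuleCat.of (B ⊗[A] B) B) (n + 1) := by
    refine hasProjectiveDimensionLT_of_isZero_tor A (B ⊗[A] B) (n + 1) B ?_
    intro j hj N
    haveI := hn N j (by omega)
    exact ModuleCat.isZero_of_subsingleton _
  refine Algebra.Smooth.of_formallySmooth_fiber (fun p _ => ?_)
  haveI : Algebra.FiniteType p.ResidueField (p.Fiber B) :=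
    inferInstanceAs (Algebra.FiniteType p.ResidueField (p.ResidueField ⊗[A] B))
  haveI : Algebra.FinitePresentation p.ResidueField (p.Fiber B) :=
    (Algebra.FinitePresentation.of_finiteType (R := p.ResidueField) (A := p.Fiber B)).mp
      inferInstance
  refine Algebra.smoothLocus_eq_univ_iff.mp (Set.eq_univ_iff_forall.mpr fun q => ?_)
  exact isSmoothAt_fiber_of_pd_diag hmul n hpd p q.asIdeal q.asIdeal.ResidueField
    (Ideal.ker_algebraMap_residueField _)

end final

end Groth.Agent.Lib.Helper6.DiagSm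

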