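import Mathlib
import Groth.Prelude.Def_DRing2
import Groth.Agent.Lib.Helper6DiagSm

/-!
# Essentially finite type flat local algebras with perfect diagonal (helper6)
-/

set_option autoImplicit false
set_option linter.style.haveILetI false

universe u

open TensorProduct CategoryTheory

namespace Groth.Agent.Lib.Helper6.EssSm

open Groth.Agent.Lib.Helper6.PdFib Groth.Agent.Lib.Helper6.PdTor Groth.Agent.Lib.Helper6.DiagSm
open Groth.Agent.Helper13Tor

section noeth

variable (R : Type u) [CommRing R] [IsNoetherianRing R]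

/-- **Vanishing of `Tor_j` for `j ≥ i` bounds the projective dimension** of a finite module over a
Noetherian ring. -/
theorem hasProjectiveDimensionLT_of_isZero_tor_noeth (i : ℕ) :
    ∀ (M : Type u) [AddCommGroup M] [Module R M] [Module.Finite R M],
      (∀ j, i ≤ j → ∀ N : ModuleCat.{u} R,
        Limits.IsZero (((Tor (ModuleCat.{u} R) j).obj (ModuleCat.of R M)).obj N)) →
      HasProjectiveDimensionLT (ModuleCat.of R M) i := by
  induction i with
  | zero =>
    intro M _ _ _ h
    exact (isZero_of_isZero_tor_zero _ (h 0 le_rfl _)).hasProjectiveDimensionLT_zero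
  | succ i ih =>
    intro M _ _ _ h
    rcases Nat.eq_zero_or_pos i with rfl | hi
    · haveI : Module.Flat R M :=
        flat_of_isZero_tor_one (ModuleCat.of R M) (fun N => h 1 le_rfl N)
      haveI : Module.FinitePresentation R M := Module.finitePresentation_of_finite R M
      haveI : Module.Projective R M := Module.Flat.projective_of_finitePresentation
      haveI : Projective (ModuleCat.of R M) := (IsProjective.iff_projective M).1 inferInstance
      infer_instance
    · obtain ⟨m, π, hπ⟩ := Module.Finite.exists_fin' R M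
      let S : ShortComplex (ModuleCat.{u} R) :=
        ShortComplex.mk (ModuleCat.ofHom (LinearMap.ker π).subtype) (ModuleCat.ofHom π) (by
          apply ModuleCat.hom_ext
          apply LinearMap.ext
          intro y
          exact (LinearMap.exact_subtype_ker_map π).apply_apply_eq_zero y)
      have hS : S.ShortExact :=
        { exact := (ShortComplex.ShortExact.moduleCat_exact_iff_function_exact _).2
            (LinearMap.exact_subtype_ker_map π)
          mono_f := (ModuleCat.mono_iff_injective _).2 (Submodule.subtype_injective _)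
          epi_g := (ModuleCat.epi_iff_surjective _).2 hπ }
      haveI : Module.Projective R (Fin m → R) := inferInstance
      haveI : Projective (ModuleCat.of R (Fin m → R)) :=
        (IsProjective.iff_projective (Fin m → R)).1 inferInstance
      have hF : HasProjectiveDimensionLT S.X₂ (i + 1) :=
        hasProjectiveDimensionLT_of_ge (ModuleCat.of R (Fin m → R)) 1 (i + 1) (Nat.succ_pos i)
      have hK' : HasProjectiveDimensionLT S.X₁ i := by
        refine ih (LinearMap.ker π) (fun j hj N => ?_)
        have hj0 : 0 < j := lt_of_lt_of_le hi hj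
        exact isZero_tor_X₁ S hS N j (h (j + 1) (Nat.succ_le_succ hj) N)
          (isZero_tor_of_flat N (ModuleCat.of R (Fin m → R)) j hj0)
      obtain ⟨i', rfl⟩ : ∃ i', i = i' + 1 := ⟨i - 1, by omega⟩
      exact hS.hasProjectiveDimensionLT_X₃ (i' + 1) hK' hF

end noeth

section diag

attribute [local instance] tensorMapAlg

variable {A B : Type u} [CommRing A] [CommRing B] [Algebra A B]
  (L : Type u) [Field L] [Algebra A L] [Algebra B L] [IsScalarTower A B L]
  [Algebra (B ⊗[A] B) B] [Module.Flat A B]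

set_option maxHeartbeats 1000000 in
/-- **Key step** (Noetherian version). If `B` has projective dimension `≤ n` over `B ⊗[A] B`, then
the local ring of `L ⊗[A] B` at the `L`-point defined by `B → L` is regular. -/
theorem isRegularLocalRing_of_pd_diag' [IsNoetherianRing (L ⊗[A] B)]
    (hmul : ∀ x y : B, algebraMap (B ⊗[A] B) B (x ⊗ₜ[A] y) = x * y) (n : ℕ)
    (hpd : HasProjectiveDimensionLT (ModuleCat.of (B ⊗[A] B) B) (n + 1))
    (𝔪 : Ideal (L ⊗[A] B)) [𝔪.IsPrime] (h𝔪 : 𝔪 = RingHom.ker (mulMap A B L).toRingHom) :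
    IsRegularLocalRing (Localization.AtPrime 𝔪) := by
  haveI := isPushout_tensorMap A B B L
  haveI := isScalarTower_diag (A := A) hmul
  have h1 := pdLT_baseChange (R₀ := B) L (S₀ := B ⊗[A] B) (T := L ⊗[A] B) (n + 1) B hpd
  set ψ := mulMap A B L with hψ
  letI : Module (L ⊗[A] B) L := Module.compHom L ψ.toRingHom
  have hmodT : ∀ (t : L ⊗[A] B) (l : L), t • l = ψ t * l := fun _ _ => rfl
  letI : Module (B ⊗[A] B) L :=
    Module.compHom L (ψ.toRingHom.comp (algebraMap (B ⊗[A] B) (L ⊗[A] B)))
  have hmodE : ∀ (e : B ⊗[A] B) (l : L),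
      e • l = ψ (algebraMap (B ⊗[A] B) (L ⊗[A] B) e) * l := fun _ _ => rfl
  haveI : IsScalarTower (B ⊗[A] B) (L ⊗[A] B) L := ⟨fun e t l => by
    rw [hmodT, hmodE, hmodT, Algebra.smul_def, map_mul, mul_assoc]⟩
  haveI : IsScalarTower L (L ⊗[A] B) L := ⟨fun l t x => by
    rw [hmodT, hmodT, map_smul, smul_eq_mul, smul_eq_mul, mul_assoc]⟩
  haveI : IsScalarTower B (B ⊗[A] B) L := ⟨fun b e l => by
    rw [hmodE, hmodE, Algebra.smul_def, map_mul, map_mul, mulMap_comp_algebraMap (L := L) hmul,
      Algebra.TensorProduct.algebraMap_apply, hmul, Algebra.algebraMap_self, RingHom.id_apply,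
      mul_one, Algebra.smul_def, mul_assoc]⟩
  let f : B →ₗ[B ⊗[A] B] L :=
    { toFun := algebraMap B L
      map_add' := map_add _
      map_smul' := fun e b => by
        rw [RingHom.id_apply, hmodE, Algebra.smul_def, map_mul,
          mulMap_comp_algebraMap (L := L) hmul] }
  have hf : IsBaseChange L (f.restrictScalars B) := IsBaseChange.linearMap B L
  have hbc : IsBaseChange (L ⊗[A] B) f :=
    Groth.Agent.Lib.Helper3.FlatModelMod.isBaseChange_of_isPushout (R₀ := B) (R := L)
      (S₀ := B ⊗[A] B) (S := L ⊗[A] B) f hf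
  haveI : HasProjectiveDimensionLE (ModuleCat.of (L ⊗[A] B) ((L ⊗[A] B) ⊗[B ⊗[A] B] B)) n := h1
  have h2 : HasProjectiveDimensionLE (ModuleCat.of (L ⊗[A] B) L) n :=
    ModuleCat.hasProjectiveDimensionLE_of_linearEquiv
      (M := ModuleCat.of (L ⊗[A] B) ((L ⊗[A] B) ⊗[B ⊗[A] B] B))
      (N := ModuleCat.of (L ⊗[A] B) L) hbc.equiv n
  exact isRegularLocalRing_of_pd_residue ψ.toRingHom (mulMap_surjective A B L) hmodT 𝔪 h𝔪 n h2

end diag

section loc

variable {A B₀ B : Type u} [CommRing A] [CommRing B₀] [CommRing B] [Algebra A B₀] [Algebra B₀ B]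
  [Algebra A B] [IsScalarTower A B₀ B] (M : Submonoid B₀) [IsLocalization M B]
  (L : Type u) [Field L] [Algebra A L] [Algebra B L] [Algebra B₀ L] [IsScalarTower A B L]
  [IsScalarTower B₀ B L] [IsScalarTower A B₀ L]

include M in
/-- Regularity of the local ring at the `L`-point descends from `L ⊗ B` to `L ⊗ B₀` when `B` is a
localization of `B₀`. -/
theorem isRegularLocalRing_of_isLocalization
    (𝔪 : Ideal (L ⊗[A] B)) [𝔪.IsPrime] (h𝔪 : 𝔪 = RingHom.ker (mulMap A B L).toRingHom)
    (𝔪₀ : Ideal (L ⊗[A] B₀)) [𝔪₀.IsPrime] (h𝔪₀ : 𝔪₀ = RingHom.ker (mulMap A B₀ L).toRingHom)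
    (h : IsRegularLocalRing (Localization.AtPrime 𝔪)) :
    IsRegularLocalRing (Localization.AtPrime 𝔪₀) := by
  let φ : L ⊗[A] B₀ →ₐ[L] L ⊗[A] B :=
    Algebra.TensorProduct.map (AlgHom.id L L) (IsScalarTower.toAlgHom A B₀ B)
  letI : Algebra (L ⊗[A] B₀) (L ⊗[A] B) := φ.toRingHom.toAlgebra
  have hφ : ∀ x, algebraMap (L ⊗[A] B₀) (L ⊗[A] B) x = φ x := fun _ => rfl
  haveI : IsScalarTower L (L ⊗[A] B₀) (L ⊗[A] B) :=
    IsScalarTower.of_algebraMap_eq (fun l => (φ.commutes l).symm)
  have hloc : IsLocalization (M.map (Algebra.TensorProduct.includeRight (R := A) (A := L)))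
      (L ⊗[A] B) :=
    IsLocalization.tensorProduct_tensorProduct_right A L M B (by
      ext b
      simp only [RingHom.coe_comp, Function.comp_apply, AlgHom.toRingHom_eq_coe, RingHom.coe_coe,
        Algebra.TensorProduct.includeRight_apply, hφ, φ, Algebra.TensorProduct.map_tmul,
        AlgHom.coe_id, id_eq, IsScalarTower.coe_toAlgHom'])
  have hcomap : 𝔪.comap (algebraMap (L ⊗[A] B₀) (L ⊗[A] B)) = 𝔪₀ := by
    rw [h𝔪, h𝔪₀]
    ext x
    simp only [Ideal.mem_comap, RingHom.mem_ker, AlgHom.toRingHom_eq_coe, RingHom.coe_coe, hφ]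
    suffices hh : mulMap A B L (φ x) = mulMap A B₀ L x by rw [hh]
    induction x with
    | zero => simp
    | add x y hx hy => simp only [map_add, hx, hy]
    | tmul l b =>
      simp only [φ, Algebra.TensorProduct.map_tmul, AlgHom.coe_id, id_eq,
        IsScalarTower.coe_toAlgHom', mulMap_tmul]
      rw [← IsScalarTower.algebraMap_apply]
  haveI : IsScalarTower (L ⊗[A] B₀) (L ⊗[A] B) (Localization.AtPrime 𝔪) := inferInstance
  have h1 : IsLocalization.AtPrime (Localization.AtPrime 𝔪)
      (𝔪.comap (algebraMap (L ⊗[A] B₀) (L ⊗[A] B))) :=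
    IsLocalization.isLocalization_isLocalization_atPrime_isLocalization
      (M.map (Algebra.TensorProduct.includeRight (R := A) (A := L))) _ 𝔪
  have h2 : IsLocalization.AtPrime (Localization.AtPrime 𝔪) 𝔪₀ := by
    subst hcomap
    exact h1
  exact IsRegularLocalRing.of_ringEquiv
    (IsLocalization.algEquiv 𝔪₀.primeCompl (Localization.AtPrime 𝔪)
      (Localization.AtPrime 𝔪₀)).toRingEquiv

end loc

section final

attribute [local instance] Algebra.TensorProduct.rightAlgebra

set_option maxHeartbeats 1600000 in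
set_option synthInstance.maxHeartbeats 200000 in
/-- `B` local, essentially of finite type and flat over the Noetherian ring `A`, with finite
projective dimension over `B ⊗[A] B`, and a finite type model `B₀` of which `B` is the localization
at the multiplicative set `M` of elements becoming units: then `B₀` is smooth over `A` at the
contraction of the maximal ideal. -/
theorem isSmoothAt_model {A B₀ B : Type u} [CommRing A] [CommRing B₀] [CommRing B]
    [Algebra A B₀] [Algebra B₀ B] [Algebra A B] [IsScalarTower A B₀ B]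
    [IsNoetherianRing A] [IsLocalRing B] [Module.Flat A B] [Algebra.EssFiniteType A B]
    [Algebra.FiniteType A B₀] (q₀ : Ideal B₀) [q₀.IsPrime]
    (hq₀ : q₀ = (IsLocalRing.maximalIdeal B).comap (algebraMap B₀ B))
    [IsLocalization.AtPrime B q₀]
    [Algebra (B ⊗[A] B) B]
    (hmul : ∀ x y : B, algebraMap (B ⊗[A] B) B (x ⊗ₜ[A] y) = x * y) (n : ℕ)
    (hpd : HasProjectiveDimensionLT (ModuleCat.of (B ⊗[A] B) B) (n + 1)) :
    Algebra.IsSmoothAt A q₀ := by
  let L := IsLocalRing.ResidueField B
  haveI : IsNoetherianRing (L ⊗[A] B) := Algebra.EssFiniteType.isNoetherianRing L (L ⊗[A] B)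
  set 𝔪 : Ideal (L ⊗[A] B) := RingHom.ker (mulMap A B L).toRingHom with h𝔪
  haveI hmax : 𝔪.IsMaximal := RingHom.ker_isMaximal_of_surjective _ (mulMap_surjective A B L)
  haveI : 𝔪.IsPrime := hmax.isPrime
  have hreg : IsRegularLocalRing (Localization.AtPrime 𝔪) :=
    isRegularLocalRing_of_pd_diag' L hmul n hpd 𝔪 h𝔪
  set 𝔪₀ : Ideal (L ⊗[A] B₀) := RingHom.ker (mulMap A B₀ L).toRingHom with h𝔪₀
  haveI hmax₀ : 𝔪₀.IsMaximal := RingHom.ker_isMaximal_of_surjective _ (mulMap_surjective A B₀ L)
  haveI : 𝔪₀.IsPrime := hmax₀.isPrime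
  have hreg₀ : IsRegularLocalRing (Localization.AtPrime 𝔪₀) :=
    isRegularLocalRing_of_isLocalization q₀.primeCompl L 𝔪 h𝔪 𝔪₀ h𝔪₀ hreg
  haveI : Algebra.FormallySmooth L 𝔪₀.ResidueField :=
    Algebra.FormallySmooth.of_equiv
      (AlgEquiv.ofBijective (Algebra.ofId L _) (bijective_algebraMap_residueField L 𝔪₀ h𝔪₀))
  have hsm : Algebra.IsSmoothAt L 𝔪₀ :=
    (Groth.Agent.Lib.Helper6.RegSm.isSmoothAt_iff_isRegularLocalRing L (L ⊗[A] B₀) 𝔪₀).2 hreg₀
  haveI : Algebra.FinitePresentation A B₀ :=
    (Algebra.FinitePresentation.of_finiteType (R := A) (A := B₀)).mp inferInstance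
  have hcomap : 𝔪₀.comap (algebraMap B₀ (L ⊗[A] B₀)) = q₀ := by
    rw [hq₀, h𝔪₀]
    ext x
    rw [Ideal.mem_comap, RingHom.mem_ker, Ideal.mem_comap, Algebra.TensorProduct.right_algebraMap_apply]
    change mulMap A B₀ L (1 ⊗ₜ x) = 0 ↔ _
    rw [mulMap_tmul, one_mul, IsScalarTower.algebraMap_apply B₀ B L,
      IsLocalRing.ResidueField.algebraMap_eq, IsLocalRing.residue_eq_zero_iff]
  have hflat : Module.Flat A (Localization.AtPrime (𝔪₀.comap (algebraMap B₀ (L ⊗[A] B₀)))) := by
    refine Groth.Agent.Lib.Helper20.SmoothFiber.flat_localization_congr q₀ _ hcomap.symm ?_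
    let e : B ≃ₐ[B₀] Localization.AtPrime q₀ :=
      IsLocalization.algEquiv q₀.primeCompl B (Localization.AtPrime q₀)
    exact Module.Flat.of_linearEquiv (e.restrictScalars A).toLinearEquiv.symm
  have key := Groth.Agent.Lib.Helper20.SmoothFiber.isSmoothAt_of_flat_of_isSmoothAt_field
    (A := A) (B := B₀) (K := L) (T := L ⊗[A] B₀) (Field.toIsField L) 𝔪₀ hflat hsm
  exact Groth.Agent.Lib.Helper20.SmoothDesc.isSmoothAt_congr _ _ hcomap key

end final

section assemble

set_option maxHeartbeats 1600000 in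
set_option synthInstance.maxHeartbeats 200000 in
/-- **Perfect diagonal, essentially of finite type case.** -/
theorem exists_smooth_isLocalization {A B : Type u} [CommRing A] [CommRing B]
    [Algebra A B] [IsNoetherianRing A] [IsNoetherianRing B] [IsLocalRing B]
    [Module.Flat A B] [Algebra.EssFiniteType A B]
    [Algebra (B ⊗[A] B) B]
    (hmul : ∀ x y : B, algebraMap (B ⊗[A] B) B (x ⊗ₜ[A] y) = x * y)
    (h : DRing.HasFiniteTorDim (B ⊗[A] B) B) :
    ∃ (C : Type u) (_ : CommRing C) (_ : Algebra A C) (_ : Algebra C B) (_ : IsScalarTower A C B)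
      (q : Ideal C) (_ : q.IsPrime), Algebra.Smooth A C ∧ IsLocalization.AtPrime B q := by
  obtain ⟨n, hn⟩ := h
  -- projective dimension
  haveI : IsNoetherianRing (B ⊗[A] B) := Algebra.EssFiniteType.isNoetherianRing B (B ⊗[A] B)
  haveI : Module.Finite (B ⊗[A] B) B :=
    Module.Finite.of_surjective (Algebra.linearMap (B ⊗[A] B) B) (fun b => ⟨b ⊗ₜ 1, by
      rw [Algebra.linearMap_apply, hmul, mul_one]⟩)
  have hpd : HasProjectiveDimensionLT (ModuleCat.of (B ⊗[A] B) B) (n + 1) := by
    refine hasProjectiveDimensionLT_of_isZero_tor_noeth (B ⊗[A] B) (n + 1) B ?_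
    intro j hj N
    haveI := hn N j (by omega)
    exact ModuleCat.isZero_of_subsingleton _
  -- the model
  let B₀ := Algebra.EssFiniteType.subalgebra A B
  let M := Algebra.EssFiniteType.submonoid A B
  let q₀ : Ideal B₀ := (IsLocalRing.maximalIdeal B).comap (algebraMap B₀ B)
  haveI : q₀.IsPrime := Ideal.comap_isPrime _ _
  have hM : M = q₀.primeCompl := by
    ext x
    change IsUnit (algebraMap B₀ B x) ↔ x ∉ q₀
    rw [Ideal.mem_comap, IsLocalRing.mem_maximalIdeal, mem_nonunits_iff, not_not]
  haveI hloc : IsLocalization.AtPrime B q₀ := by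
    change IsLocalization q₀.primeCompl B
    rw [← hM]
    infer_instance
  have hsm : Algebra.IsSmoothAt A q₀ := isSmoothAt_model q₀ rfl hmul n hpd
  haveI : Algebra.FinitePresentation A B₀ :=
    (Algebra.FinitePresentation.of_finiteType (R := A) (A := B₀)).mp inferInstance
  obtain ⟨g, hg, hC⟩ := Algebra.IsSmoothAt.exists_notMem_smooth A q₀
  have hgu : IsUnit (algebraMap B₀ B g) :=
    IsLocalization.map_units B (⟨g, hg⟩ : q₀.primeCompl)
  letI algCB : Algebra (Localization.Away g) B := (IsLocalization.Away.lift g hgu).toAlgebra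
  haveI : IsScalarTower B₀ (Localization.Away g) B := IsScalarTower.of_algebraMap_eq fun x => by
    rw [RingHom.algebraMap_toAlgebra, IsLocalization.Away.lift_eq]
  haveI : IsScalarTower A (Localization.Away g) B := IsScalarTower.of_algebraMap_eq fun a => by
    rw [IsScalarTower.algebraMap_apply A B₀ (Localization.Away g),
      ← IsScalarTower.algebraMap_apply B₀ (Localization.Away g) B,
      ← IsScalarTower.algebraMap_apply A B₀ B]
  let q : Ideal (Localization.Away g) :=
    (IsLocalRing.maximalIdeal B).comap (algebraMap (Localization.Away g) B)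
  haveI : q.IsPrime := Ideal.comap_isPrime _ _
  refine ⟨Localization.Away g, inferInstance, inferInstance, algCB, inferInstance, q, inferInstance,
    hC, ?_⟩
  have h1 : IsLocalization (q₀.primeCompl.map (algebraMap B₀ (Localization.Away g))) B :=
    IsLocalization.isLocalization_of_submonoid_le (Localization.Away g) B (Submonoid.powers g)
      q₀.primeCompl (by
        rw [Submonoid.powers_le]
        exact hg)
  change IsLocalization q.primeCompl B
  refine IsLocalization.of_le (q₀.primeCompl.map (algebraMap B₀ (Localization.Away g))) q.primeCompl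
    ?_ ?_
  · rintro _ ⟨x, hx, rfl⟩
    change _ ∉ q
    rw [Ideal.mem_comap]
    rw [← IsScalarTower.algebraMap_apply B₀ (Localization.Away g) B]
    exact hx
  · intro r hr
    have : algebraMap (Localization.Away g) B r ∉ IsLocalRing.maximalIdeal B := hr
    rwa [IsLocalRing.mem_maximalIdeal, mem_nonunits_iff, not_not] at this

end assemble

end Groth.Agent.Lib.Helper6.EssSm
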