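import Mathlib
import Groth.Agent.Lib.Helper13Vasc1
import Groth.Agent.Lib.Helper28PdQuot
import Groth.Agent.Lib.Helper28SerreConv
import Groth.Agent.Lib.Helper5RLR

/-!
# Vasconcelos' theorem, local form (helper13)

An ideal of finite projective dimension of a Noetherian local ring whose conormal module is free
is generated by a regular sequence.
-/

set_option autoImplicit false
universe u
open CategoryTheory IsLocalRing
open scoped Pointwise

namespace Groth.Agent.Helper13Vasc

variable {S : Type u} [CommRing S]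

/-- the family `x` generates its span `J` and is a basis of `J/J²` over `S/J`. -/
def Indep {r : ℕ} (x : Fin r → S) : Prop :=
  ∀ a : Fin r → S, ∑ i, a i * x i ∈ (Ideal.span (Set.range x)) ^ 2 →
    ∀ i, a i ∈ Ideal.span (Set.range x)

/-- the `j`-th coordinate functional `J → S/J`. -/
theorem exists_coord {r : ℕ} (x : Fin r → S) (hx : Indep x) (j : Fin r) :
    ∃ ψ : ↥(Ideal.span (Set.range x)) →ₗ[S] S ⧸ Ideal.span (Set.range x),
      ∀ (a : Fin r → S) (h : ∑ i, a i * x i ∈ Ideal.span (Set.range x)),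
        ψ ⟨∑ i, a i * x i, h⟩ = Ideal.Quotient.mk _ (a j) := by
  classical
  let L : (Fin r → S) →ₗ[S] S := Fintype.linearCombination S x
  have hL : ∀ a, L a = ∑ i, a i * x i := fun a => by
    simp [L, Fintype.linearCombination_apply]
  have hrange : LinearMap.range L = Ideal.span (Set.range x) := by
    show LinearMap.range (Fintype.linearCombination S x) = Submodule.span S (Set.range x)
    exact Fintype.range_linearCombination S x
  let ψ₀ : (Fin r → S) →ₗ[S] S ⧸ Ideal.span (Set.range x) :=
    (Submodule.mkQ (Ideal.span (Set.range x))) ∘ₗ (LinearMap.proj j)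
  have hker : LinearMap.ker L ≤ LinearMap.ker ψ₀ := by
    intro a ha
    rw [LinearMap.mem_ker, hL] at ha
    rw [LinearMap.mem_ker]
    show Submodule.Quotient.mk (a j) = 0
    rw [Submodule.Quotient.mk_eq_zero]
    exact hx a (by rw [ha]; exact Ideal.zero_mem _) j
  let ψ₁ : ((Fin r → S) ⧸ LinearMap.ker L) →ₗ[S] S ⧸ Ideal.span (Set.range x) :=
    Submodule.liftQ _ ψ₀ hker
  let e : ((Fin r → S) ⧸ LinearMap.ker L) ≃ₗ[S] ↥(Ideal.span (Set.range x)) :=
    L.quotKerEquivRange ≪≫ₗ LinearEquiv.ofEq _ _ hrange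
  refine ⟨ψ₁ ∘ₗ e.symm.toLinearMap, fun a h => ?_⟩
  have he : e (Submodule.Quotient.mk a) = ⟨∑ i, a i * x i, h⟩ := by
    apply Subtype.ext
    show L a = _
    exact hL a
  rw [← he]
  show ψ₁ (e.symm (e (Submodule.Quotient.mk a))) = _
  rw [LinearEquiv.symm_apply_apply]
  rfl

/-- exchange: any `y ∈ J ∖ 𝔪J` can be put into an independent generating family. -/
theorem exists_exchange [IsLocalRing S] {r : ℕ} (x : Fin r → S) (hx : Indep x)
    (hJ : Ideal.span (Set.range x) ≤ maximalIdeal S) (y : S) (hy : y ∈ Ideal.span (Set.range x))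
    (hy' : y ∉ maximalIdeal S * Ideal.span (Set.range x)) :
    ∃ (x' : Fin r → S) (j : Fin r), x' j = y ∧
      Ideal.span (Set.range x') = Ideal.span (Set.range x) ∧ Indep x' := by
  classical
  obtain ⟨c, hc⟩ := Ideal.mem_span_range_iff_exists_fun.1 hy
  have hxmem : ∀ i, x i ∈ Ideal.span (Set.range x) := fun i => Ideal.subset_span ⟨i, rfl⟩
  obtain ⟨j, hj⟩ : ∃ j, IsUnit (c j) := by
    by_contra hcon
    push Not at hcon
    apply hy'
    rw [← hc]
    refine Ideal.sum_mem _ fun i _ => Ideal.mul_mem_mul ?_ (hxmem i)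
    exact (mem_maximalIdeal _).2 (hcon i)
  obtain ⟨u, hu⟩ := hj
  have hsum : c j * x j + ∑ i ∈ Finset.univ.erase j, c i * x i = y := by
    rw [← hc]
    exact Finset.add_sum_erase Finset.univ (fun i => c i * x i) (Finset.mem_univ j)
  have hspan : Ideal.span (Set.range (Function.update x j y)) = Ideal.span (Set.range x) := by
    apply le_antisymm
    · rw [Ideal.span_le]
      rintro _ ⟨i, rfl⟩
      by_cases hij : i = j
      · subst hij
        rw [Function.update_self]
        exact hy
      · rw [Function.update_of_ne hij]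
        exact hxmem i
    · rw [Ideal.span_le]
      rintro _ ⟨i, rfl⟩
      have hmem' : ∀ k, k ≠ j → x k ∈ Ideal.span (Set.range (Function.update x j y)) := by
        intro k hk
        exact Ideal.subset_span ⟨k, Function.update_of_ne hk _ _⟩
      have hymem : y ∈ Ideal.span (Set.range (Function.update x j y)) :=
        Ideal.subset_span ⟨j, Function.update_self _ _ _⟩
      by_cases hij : i = j
      · subst hij
        have h1 : x i = ((u⁻¹ : Sˣ) : S) * (y - ∑ k ∈ Finset.univ.erase i, c k * x k) := by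
          rw [← hsum, add_sub_cancel_right, ← hu, ← mul_assoc, Units.inv_mul, one_mul]
        show x i ∈ _
        rw [h1]
        refine Ideal.mul_mem_left _ _ (Ideal.sub_mem _ hymem ?_)
        exact Ideal.sum_mem _ fun k hk =>
          Ideal.mul_mem_left _ _ (hmem' k (Finset.ne_of_mem_erase hk))
      · exact hmem' i hij
  refine ⟨Function.update x j y, j, Function.update_self _ _ _, hspan, ?_⟩
  intro a ha i
  rw [hspan] at ha ⊢
  -- rewrite the combination in terms of `x`
  let a' : Fin r → S := fun k => Function.update a j 0 k + a j * c k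
  have h1 : ∑ k, a k * Function.update x j y k =
      a j * y + ∑ k ∈ Finset.univ.erase j, a k * x k := by
    rw [← Finset.add_sum_erase Finset.univ (fun k => a k * Function.update x j y k)
      (Finset.mem_univ j)]
    congr 1
    · rw [Function.update_self]
    · refine Finset.sum_congr rfl fun k hk => ?_
      rw [Function.update_of_ne (Finset.ne_of_mem_erase hk)]
  have h2 : ∑ k, a' k * x k = a j * y + ∑ k ∈ Finset.univ.erase j, a k * x k := by
    have h3 : ∑ k, a' k * x k = ∑ k, Function.update a j 0 k * x k + a j * ∑ k, c k * x k := by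
      rw [Finset.mul_sum, ← Finset.sum_add_distrib]
      refine Finset.sum_congr rfl fun k _ => ?_
      show (Function.update a j 0 k + a j * c k) * x k = _
      ring
    rw [h3, hc, add_comm]
    congr 1
    rw [← Finset.add_sum_erase Finset.univ (fun k => Function.update a j 0 k * x k)
      (Finset.mem_univ j)]
    rw [Function.update_self, zero_mul, zero_add]
    refine Finset.sum_congr rfl fun k hk => ?_
    rw [Function.update_of_ne (Finset.ne_of_mem_erase hk)]
  have h4 := hx a' (by rw [h2, ← h1]; exact ha)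
  have haj : a j ∈ Ideal.span (Set.range x) := by
    have h5 := h4 j
    have h6 : a' j = a j * c j := by
      show Function.update a j 0 j + a j * c j = _
      rw [Function.update_self, zero_add]
    rw [h6, ← hu] at h5
    have h7 : a j = a j * (u : S) * ((u⁻¹ : Sˣ) : S) := by
      rw [mul_assoc, Units.mul_inv, mul_one]
    rw [h7]
    exact Ideal.mul_mem_right _ _ h5
  by_cases hij : i = j
  · rw [hij]; exact haj
  · have h5 := h4 i
    have h6 : a' i = a i + a j * c i := by
      show Function.update a j 0 i + a j * c i = _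
      rw [Function.update_of_ne hij]
    rw [h6] at h5
    have h7 : a i = (a i + a j * c i) - a j * c i := by ring
    rw [h7]
    exact Ideal.sub_mem _ h5 (Ideal.mul_mem_right _ _ haj)

/-- prime avoidance: a nonzero ideal containing a regular element contains a regular element
outside `𝔪 J`. -/
theorem exists_regular_not_mem_mul [IsLocalRing S] [IsNoetherianRing S] (J : Ideal S)
    (hJ0 : J ≠ ⊥) (hreg : ∃ y ∈ J, IsSMulRegular S y) :
    ∃ y ∈ J, y ∉ maximalIdeal S * J ∧ IsSMulRegular S y := by
  classical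
  by_contra hcon
  push Not at hcon
  have hfin : (associatedPrimes S S).Finite := associatedPrimes.finite S S
  let T : Finset (Ideal S) := insert (maximalIdeal S * J) hfin.toFinset
  have hsub : ((J : Ideal S) : Set S) ⊆
      ⋃ i ∈ (↑T : Set (Ideal S)), ((id i : Ideal S) : Set S) := by
    intro x hx
    by_cases hx2 : x ∈ maximalIdeal S * J
    · refine Set.mem_biUnion (x := maximalIdeal S * J) ?_ hx2
      exact Finset.mem_coe.mpr (Finset.mem_insert_self _ _)
    · have hnr := hcon x hx hx2
      have : x ∈ ⋃ p ∈ associatedPrimes S S, (p : Set S) := by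
        rw [biUnion_associatedPrimes_eq_compl_regular]
        exact hnr
      obtain ⟨p, hp, hxp⟩ := Set.mem_iUnion₂.mp this
      refine Set.mem_biUnion (x := p) ?_ hxp
      exact Finset.mem_coe.mpr (Finset.mem_insert_of_mem ((Set.Finite.mem_toFinset _).mpr hp))
  rw [Ideal.subset_union_prime (maximalIdeal S * J) (maximalIdeal S * J)] at hsub
  · obtain ⟨i, hi, hle⟩ := hsub
    rw [Finset.mem_insert] at hi
    rcases hi with rfl | hi
    · apply hJ0
      apply Submodule.eq_bot_of_le_smul_of_le_jacobson_bot (maximalIdeal S) J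
        J.fg_of_isNoetherianRing
      · rw [smul_eq_mul]; exact hle
      · rw [IsLocalRing.jacobson_eq_maximalIdeal ⊥ bot_ne_top]
    · rw [Set.Finite.mem_toFinset] at hi
      obtain ⟨y, hyJ, hyreg⟩ := hreg
      have : y ∈ ⋃ p ∈ associatedPrimes S S, (p : Set S) :=
        Set.mem_biUnion hi (hle hyJ)
      rw [biUnion_associatedPrimes_eq_compl_regular] at this
      exact this hyreg
  · intro i hi hne _
    rw [Finset.mem_insert] at hi
    rcases hi with rfl | hi
    · exact absurd rfl hne
    · rw [Set.Finite.mem_toFinset] at hi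
      exact hi.isPrime

/-- If `ψ : J → S/J` is a functional with `ψ y = 1`, then the image of `J` in `S/(y)` is a retract
of `J/yJ` as modules over `S/(y)`. -/
theorem exists_retract_quotSMulTop (J : Ideal S) (y : S) (hy : y ∈ J)
    (ψ : ↥J →ₗ[S] S ⧸ J) (hψ : ψ ⟨y, hy⟩ = 1) :
    ∃ (i : ↥(J.map (Ideal.Quotient.mk (Ideal.span {y}))) →ₗ[S ⧸ Ideal.span {y}]
        QuotSMulTop y ↥J)
      (r : QuotSMulTop y ↥J →ₗ[S ⧸ Ideal.span {y}]
        ↥(J.map (Ideal.Quotient.mk (Ideal.span {y})))),
      r ∘ₗ i = LinearMap.id := by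
  have hsq : Function.Surjective (algebraMap S (S ⧸ Ideal.span {y})) :=
    Ideal.Quotient.mk_surjective
  have hy0 : Ideal.Quotient.mk (Ideal.span {y}) y = 0 :=
    Ideal.Quotient.eq_zero_iff_mem.mpr (Ideal.mem_span_singleton_self y)
  -- the projection `J → J'`
  let ρ : ↥J →ₗ[S] ↥(J.map (Ideal.Quotient.mk (Ideal.span {y}))) :=
    { toFun := fun z => ⟨Ideal.Quotient.mk _ (z : S), Ideal.mem_map_of_mem _ z.2⟩
      map_add' := fun a b => Subtype.ext (map_add _ _ _)
      map_smul' := fun c a => Subtype.ext (by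
        show Ideal.Quotient.mk (Ideal.span {y}) (c * (a : S)) =
          c • Ideal.Quotient.mk (Ideal.span {y}) (a : S)
        rw [Algebra.smul_def, map_mul]
        rfl) }
  have hρ : Function.Surjective ρ := by
    rintro ⟨b, hb⟩
    obtain ⟨z, hz, rfl⟩ := (Ideal.mem_map_iff_of_surjective _ Ideal.Quotient.mk_surjective).1 hb
    exact ⟨⟨z, hz⟩, rfl⟩
  have hρy : ρ ⟨y, hy⟩ = 0 := Subtype.ext hy0
  have hkerρ : y • (⊤ : Submodule S ↥J) ≤ LinearMap.ker ρ := by
    intro z hz
    obtain ⟨w, -, rfl⟩ := (Submodule.mem_smul_pointwise_iff_exists _ _ _).mp hz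
    rw [LinearMap.mem_ker, map_smul]
    apply Subtype.ext
    show y • Ideal.Quotient.mk (Ideal.span {y}) (w : S) = 0
    rw [Algebra.smul_def]
    show Ideal.Quotient.mk (Ideal.span {y}) y * _ = 0
    rw [hy0, zero_mul]
  let r₀ : QuotSMulTop y ↥J →ₗ[S] ↥(J.map (Ideal.Quotient.mk (Ideal.span {y}))) :=
    Submodule.liftQ _ ρ hkerρ
  -- the section
  let ybar : QuotSMulTop y ↥J := Submodule.Quotient.mk ⟨y, hy⟩
  have hμ : J ≤ LinearMap.ker (LinearMap.toSpanSingleton S (QuotSMulTop y ↥J) ybar) := by
    intro s hs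
    rw [LinearMap.mem_ker, LinearMap.toSpanSingleton_apply]
    show (Submodule.Quotient.mk (s • (⟨y, hy⟩ : ↥J)) : QuotSMulTop y ↥J) = 0
    rw [Submodule.Quotient.mk_eq_zero]
    have : s • (⟨y, hy⟩ : ↥J) = y • (⟨s, hs⟩ : ↥J) := Subtype.ext (mul_comm s y)
    rw [this]
    exact Submodule.smul_mem_pointwise_smul _ y ⊤ trivial
  let μ : (S ⧸ J) →ₗ[S] QuotSMulTop y ↥J := Submodule.liftQ J _ hμ
  have hμ1 : μ 1 = ybar := by
    show LinearMap.toSpanSingleton S (QuotSMulTop y ↥J) ybar 1 = ybar
    rw [LinearMap.toSpanSingleton_apply, one_smul]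
  have hr₀μ : ∀ t, r₀ (μ t) = 0 := by
    intro t
    obtain ⟨s, rfl⟩ := Submodule.Quotient.mk_surjective _ t
    show r₀ (LinearMap.toSpanSingleton S (QuotSMulTop y ↥J) ybar s) = 0
    rw [LinearMap.toSpanSingleton_apply, map_smul]
    show s • ρ ⟨y, hy⟩ = 0
    rw [hρy, smul_zero]
  let lam : ↥J →ₗ[S] QuotSMulTop y ↥J :=
    Submodule.mkQ (y • (⊤ : Submodule S ↥J)) - μ ∘ₗ ψ
  have hlamy : lam ⟨y, hy⟩ = 0 := by
    show Submodule.mkQ _ (⟨y, hy⟩ : ↥J) - μ (ψ ⟨y, hy⟩) = 0
    rw [hψ, hμ1]
    exact sub_self _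
  have hkerlam : LinearMap.ker ρ ≤ LinearMap.ker lam := by
    intro z hz
    rw [LinearMap.mem_ker] at hz
    have hz' : Ideal.Quotient.mk (Ideal.span {y}) (z : S) = 0 := congr_arg Subtype.val hz
    rw [Ideal.Quotient.eq_zero_iff_mem, Ideal.mem_span_singleton'] at hz'
    obtain ⟨s, hs⟩ := hz'
    have : z = s • (⟨y, hy⟩ : ↥J) := Subtype.ext hs.symm
    rw [LinearMap.mem_ker, this, map_smul, hlamy, smul_zero]
  let i₀ : ↥(J.map (Ideal.Quotient.mk (Ideal.span {y}))) →ₗ[S] QuotSMulTop y ↥J :=
    (Submodule.liftQ _ lam hkerlam) ∘ₗ (ρ.quotKerEquivOfSurjective hρ).symm.toLinearMap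
  have hi₀ : ∀ z, i₀ (ρ z) = lam z := by
    intro z
    show Submodule.liftQ _ lam hkerlam ((ρ.quotKerEquivOfSurjective hρ).symm (ρ z)) = lam z
    have : (ρ.quotKerEquivOfSurjective hρ).symm (ρ z) = Submodule.Quotient.mk z := by
      rw [LinearEquiv.symm_apply_eq]
      rfl
    rw [this]
    rfl
  refine ⟨i₀.extendScalarsOfSurjective hsq, r₀.extendScalarsOfSurjective hsq, ?_⟩
  apply LinearMap.ext
  intro b
  obtain ⟨z, rfl⟩ := hρ b
  show r₀ (i₀ (ρ z)) = ρ z
  rw [hi₀]
  show r₀ (Submodule.mkQ _ z - μ (ψ z)) = ρ z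
  rw [map_sub, hr₀μ, sub_zero]
  rfl

section quotient

variable {r : ℕ} (x : Fin (r + 1) → S) (j : Fin (r + 1))

/-- the family induced on `S/(x j)` by removing `x j`. -/
noncomputable def quotFamily : Fin r → S ⧸ Ideal.span {x j} :=
  fun k => Ideal.Quotient.mk (Ideal.span {x j}) (x (j.succAbove k))

theorem span_quotFamily :
    Ideal.span (Set.range (quotFamily x j)) =
      (Ideal.span (Set.range x)).map (Ideal.Quotient.mk (Ideal.span {x j})) := by
  rw [Ideal.map_span]
  apply le_antisymm
  · apply Ideal.span_mono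
    rintro _ ⟨k, rfl⟩
    exact ⟨x (j.succAbove k), ⟨_, rfl⟩, rfl⟩
  · rw [Ideal.span_le]
    rintro _ ⟨_, ⟨i, rfl⟩, rfl⟩
    by_cases hij : i = j
    · subst hij
      have : Ideal.Quotient.mk (Ideal.span {x i}) (x i) = 0 :=
        Ideal.Quotient.eq_zero_iff_mem.mpr (Ideal.mem_span_singleton_self _)
      rw [this]
      exact Ideal.zero_mem _
    · obtain ⟨k, rfl⟩ := Fin.exists_succAbove_eq hij
      exact Ideal.subset_span ⟨k, rfl⟩

theorem indep_quotFamily (hx : Indep x) : Indep (quotFamily x j) := by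
  classical
  intro a'' ha'' k
  rw [span_quotFamily] at ha'' ⊢
  have hlift : ∀ k, ∃ a : S, Ideal.Quotient.mk (Ideal.span {x j}) a = a'' k :=
    fun k => Ideal.Quotient.mk_surjective (a'' k)
  choose a ha using hlift
  rw [← Ideal.map_pow] at ha''
  obtain ⟨w, hw, hw'⟩ := (Ideal.mem_map_iff_of_surjective _ Ideal.Quotient.mk_surjective).1 ha''
  have h1 : Ideal.Quotient.mk (Ideal.span {x j}) (∑ k, a k * x (j.succAbove k)) =
      ∑ k, a'' k * quotFamily x j k := by
    rw [map_sum]
    refine Finset.sum_congr rfl fun k _ => ?_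
    rw [map_mul, ha]
    rfl
  have h2 : (∑ k, a k * x (j.succAbove k)) - w ∈ Ideal.span {x j} := by
    rw [← Ideal.Quotient.eq_zero_iff_mem, map_sub, h1, hw', sub_self]
  obtain ⟨b, hb⟩ := Ideal.mem_span_singleton'.1 h2
  have h3 : ∑ i, (Fin.insertNth j (-b) a : Fin (r + 1) → S) i * x i = w := by
    rw [Fin.sum_univ_succAbove _ j]
    simp only [Fin.insertNth_apply_same, Fin.insertNth_apply_succAbove]
    rw [neg_mul, hb]
    ring
  have h4 := hx (Fin.insertNth j (-b) a) (by rw [h3]; exact hw) (j.succAbove k)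
  rw [Fin.insertNth_apply_succAbove] at h4
  rw [← ha k]
  exact Ideal.mem_map_of_mem _ h4

end quotient

open Groth.Agent.Lib.Helper28 Groth.Agent.Lib.Helper21.PdLoc in
/-- **Vasconcelos**: an ideal of finite projective dimension of a Noetherian local ring generated
by a family which is a basis of the conormal module is generated by a regular sequence. -/
theorem exists_regular_of_indep (r : ℕ) :
    ∀ (S : Type u) [CommRing S] [IsLocalRing S] [IsNoetherianRing S] (x : Fin r → S),
      Ideal.span (Set.range x) ≤ maximalIdeal S → Indep x →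
      (∃ n, HasProjectiveDimensionLT (ModuleCat.of S ↥(Ideal.span (Set.range x))) n) →
      ∃ rs : List S, RingTheory.Sequence.IsWeaklyRegular S rs ∧
        Ideal.ofList rs = Ideal.span (Set.range x) := by
  induction r with
  | zero =>
    intro S _ _ _ x _ _ _
    refine ⟨[], RingTheory.Sequence.IsWeaklyRegular.nil S S, ?_⟩
    rw [Ideal.ofList_nil]
    have : Set.range x = ∅ := Set.range_eq_empty x
    rw [this, Ideal.span_empty]
  | succ r ih =>
    intro S _ _ _ x hJ hx hpd
    obtain ⟨n, hn⟩ := hpd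
    have hn1 : HasProjectiveDimensionLT (ModuleCat.of S ↥(Ideal.span (Set.range x))) (n + 1) :=
      hasProjectiveDimensionLT_of_ge _ n (n + 1) (Nat.le_succ n)
    -- `J ≠ ⊥`
    have hJ0 : Ideal.span (Set.range x) ≠ ⊥ := by
      intro h0
      have hx0 : ∀ i, x i = 0 := by
        intro i
        have : x i ∈ Ideal.span (Set.range x) := Ideal.subset_span ⟨i, rfl⟩
        rw [h0] at this
        exact this
      have h1 := hx (fun _ => 1) (by simp [hx0]) 0
      rw [h0] at h1
      exact one_ne_zero h1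
    -- `pd (S/J)` is finite
    have hpdq : HasProjectiveDimensionLT (ModuleCat.of S (S ⧸ Ideal.span (Set.range x)))
        (n + 1 + 1) :=
      (pdLT_succ_iff_of_ses (Ideal.span (Set.range x)).subtype
        (Submodule.mkQ (Ideal.span (Set.range x))) (Submodule.injective_subtype _)
        (Submodule.mkQ_surjective _) (LinearMap.exact_subtype_mkQ _) n).mpr hn1
    obtain ⟨y₀, hy₀J, hy₀reg⟩ := exists_isSMulRegular_mem _ hJ0 (n + 1) hpdq
    obtain ⟨y, hyJ, hym, hyreg⟩ := exists_regular_not_mem_mul _ hJ0 ⟨y₀, hy₀J, hy₀reg⟩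
    obtain ⟨x', j, hx'j, hspan, hx'⟩ := exists_exchange x hx hJ y hyJ hym
    rw [← hspan] at hJ hn1 hyJ ⊢
    subst hx'j
    -- the quotient ring
    have hne : Ideal.span {x' j} ≠ ⊤ := by
      intro h
      have h1 : Ideal.span {x' j} ≤ maximalIdeal S :=
        (Ideal.span_singleton_le_iff_mem _).2 (hJ hyJ)
      exact (maximalIdeal.isMaximal S).ne_top (top_le_iff.1 (h ▸ h1))
    haveI : IsLocalRing (S ⧸ Ideal.span {x' j}) := Groth.Agent.Lib.Helper5.isLocalRing_quotient hne
    -- the hypotheses for the quotient family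
    have hJ' : Ideal.span (Set.range (quotFamily x' j)) ≤
        maximalIdeal (S ⧸ Ideal.span {x' j}) := by
      rw [span_quotFamily, Ideal.map_le_iff_le_comap]
      intro z hz
      rw [Ideal.mem_comap]
      exact (Groth.Agent.Lib.Helper5.mk_mem_maximalIdeal_quotient_iff _ z).2 (hJ hz)
    have hpd' : ∃ n, HasProjectiveDimensionLT (ModuleCat.of (S ⧸ Ideal.span {x' j})
        ↥(Ideal.span (Set.range (quotFamily x' j)))) n := by
      rw [span_quotFamily]
      obtain ⟨ψ, hψ⟩ := exists_coord x' hx' j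
      have hψ1 : ψ ⟨x' j, hyJ⟩ = 1 := by
        classical
        have hsum : ∑ i, (Pi.single j 1 : Fin (r + 1) → S) i * x' i = x' j := by
          rw [Finset.sum_eq_single j]
          · rw [Pi.single_eq_same, one_mul]
          · intro i _ hij
            rw [Pi.single_eq_of_ne hij, zero_mul]
          · intro h
            exact absurd (Finset.mem_univ j) h
        have h1 := hψ (Pi.single j 1) (by rw [hsum]; exact hyJ)
        rw [Pi.single_eq_same, map_one] at h1
        rw [← h1]
        congr 1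
        exact Subtype.ext hsum.symm
      obtain ⟨i, ρ, hri⟩ := exists_retract_quotSMulTop _ (x' j) hyJ ψ hψ1
      have hJreg : IsSMulRegular ↥(Ideal.span (Set.range x')) (x' j) :=
        hyreg.submodule (Ideal.span (Set.range x')) (x' j)
      have h2 := hasProjectiveDimensionLT_quotSMulTop (x' j) hyreg n
        ↥(Ideal.span (Set.range x')) hJreg hn1
      exact ⟨n + 1, hasProjectiveDimensionLT_of_retract i ρ hri (n + 1) h2⟩
    obtain ⟨rs', hrs', hrs'J⟩ := ih (S ⧸ Ideal.span {x' j}) (quotFamily x' j) hJ'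
      (indep_quotFamily x' j hx') hpd'
    obtain ⟨rs₀, hrs₀⟩ := (List.map_surjective_iff.2
      (Ideal.Quotient.mk_surjective (I := Ideal.span {x' j}))) rs'
    refine ⟨x' j :: rs₀, ?_, ?_⟩
    · rw [RingTheory.Sequence.isWeaklyRegular_cons_iff]
      refine ⟨hyreg, ?_⟩
      have hsm : (x' j • (⊤ : Submodule S S)) = Ideal.span {x' j} := by
        rw [← Submodule.ideal_span_singleton_smul, smul_eq_mul, Ideal.mul_top]
      let e : QuotSMulTop (x' j) S ≃ₗ[S] (S ⧸ Ideal.span {x' j}) :=
        Submodule.quotEquivOfEq _ _ hsm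
      rw [e.isWeaklyRegular_congr rs₀,
        ← RingTheory.Sequence.isWeaklyRegular_map_algebraMap_iff (S ⧸ Ideal.span {x' j})
          (S ⧸ Ideal.span {x' j}) rs₀]
      have : rs₀.map (algebraMap S (S ⧸ Ideal.span {x' j})) = rs' := hrs₀
      rw [this]
      exact hrs'
    · rw [Ideal.ofList_cons]
      have h1 : (Ideal.ofList rs₀).map (Ideal.Quotient.mk (Ideal.span {x' j})) =
          (Ideal.span (Set.range x')).map (Ideal.Quotient.mk (Ideal.span {x' j})) := by
        rw [Ideal.map_ofList, hrs₀, hrs'J, span_quotFamily]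
      have h2 := congr_arg (Ideal.comap (Ideal.Quotient.mk (Ideal.span {x' j}))) h1
      rw [Ideal.comap_map_of_surjective _ Ideal.Quotient.mk_surjective,
        Ideal.comap_map_of_surjective _ Ideal.Quotient.mk_surjective,
        ← RingHom.ker_eq_comap_bot, Ideal.mk_ker] at h2
      have h3 : Ideal.span {x' j} ≤ Ideal.span (Set.range x') :=
        (Ideal.span_singleton_le_iff_mem _).2 hyJ
      rw [sup_comm, h2]
      exact sup_eq_left.2 h3

end Groth.Agent.Helper13Vasc
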