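import Mathlib
import Groth.Agent.Lib.Helper13Vasc2

/-!
# Vasconcelos' theorem: localizing the conormal module (helper13)
-/

set_option autoImplicit false
universe u
open CategoryTheory IsLocalRing

namespace Groth.Agent.Helper13Vasc

section cot

/-- the conormal module of the extension of `I` to a localization is projective when that of `I`
is finite projective. -/
theorem projective_cotangent_map {R : Type u} [CommRing R] (I : Ideal R) (M : Submonoid R)
    (T : Type u) [CommRing T] [Algebra R T] [IsLocalization M T]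
    [Module.Finite (R ⧸ I) I.Cotangent]
    [Module.Projective (R ⧸ I) I.Cotangent] :
    Module.Projective (T ⧸ I.map (algebraMap R T)) (I.map (algebraMap R T)).Cotangent := by
  classical
  obtain ⟨N, f, g, hf, -, hfg⟩ :=
    Module.Finite.exists_comp_eq_id_of_projective (R ⧸ I) I.Cotangent
  have hsq : Function.Surjective (algebraMap T (T ⧸ I.map (algebraMap R T))) :=
    Ideal.Quotient.mk_surjective
  -- `ι : R/I → T/J`
  let L : R →ₗ[R] T ⧸ I.map (algebraMap R T) :=
    (Ideal.Quotient.mkₐ R (I.map (algebraMap R T))).toLinearMap ∘ₗ Algebra.linearMap R T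
  have hL : I ≤ LinearMap.ker L := fun r hr => by
    rw [LinearMap.mem_ker]
    show Ideal.Quotient.mk (I.map (algebraMap R T)) (algebraMap R T r) = 0
    exact Ideal.Quotient.eq_zero_iff_mem.2 (Ideal.mem_map_of_mem _ hr)
  let ι : R ⧸ I →ₗ[R] T ⧸ I.map (algebraMap R T) := Submodule.liftQ I L hL
  have hι : ∀ c : R, ι (Ideal.Quotient.mk I c) =
      Ideal.Quotient.mk (I.map (algebraMap R T)) (algebraMap R T c) := fun c => rfl
  -- `θ : I/I² → J/J²`
  let θ : I.Cotangent →ₗ[R] (I.map (algebraMap R T)).Cotangent :=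
    Ideal.mapCotangent I (I.map (algebraMap R T)) (Algebra.ofId R T) Ideal.le_comap_map
  have hθ : ∀ (c : R ⧸ I) (ξ : I.Cotangent), θ (c • ξ) = ι c • θ ξ := by
    intro c ξ
    obtain ⟨c, rfl⟩ := Ideal.Quotient.mk_surjective c
    rw [hι]
    have h1 : (Ideal.Quotient.mk I c) • ξ = c • ξ := by
      rw [← algebraMap_smul (R ⧸ I) c ξ]
      rfl
    rw [h1, map_smul, ← algebraMap_smul T c (θ ξ),
      ← algebraMap_smul (T ⧸ I.map (algebraMap R T)) (algebraMap R T c) (θ ξ)]
    rfl
  have hbc := IsLocalizedModule.isBaseChange M T (Algebra.idealMap T I)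
  let Φ : Fin N → (↥I →ₗ[R] T ⧸ I.map (algebraMap R T)) := fun k =>
    ι ∘ₗ ((LinearMap.proj k ∘ₗ g).restrictScalars R) ∘ₗ I.toCotangent
  let Ψ : Fin N → (↥(I.map (algebraMap R T)) →ₗ[T] T ⧸ I.map (algebraMap R T)) := fun k =>
    hbc.lift (Φ k)
  have hΨ : ∀ k z, Ψ k (Algebra.idealMap T I z) = Φ k z := fun k z => hbc.lift_eq (Φ k) z
  have hΨmul : ∀ k (a b : ↥(I.map (algebraMap R T))), Ψ k (a * b) = 0 := by
    intro k a b
    have h1 : a * b = (a : T) • b := rfl
    rw [h1, map_smul, Algebra.smul_def]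
    have h2 : algebraMap T (T ⧸ I.map (algebraMap R T)) (a : T) = 0 :=
      Ideal.Quotient.eq_zero_iff_mem.2 a.2
    rw [h2, zero_mul]
  let i₀ : Fin N → ((I.map (algebraMap R T)).Cotangent →ₗ[T] T ⧸ I.map (algebraMap R T)) :=
    fun k => Ideal.Cotangent.lift (Ψ k) (hΨmul k)
  let i : (I.map (algebraMap R T)).Cotangent →ₗ[T ⧸ I.map (algebraMap R T)]
      (Fin N → T ⧸ I.map (algebraMap R T)) :=
    (LinearMap.pi i₀).extendScalarsOfSurjective hsq
  obtain ⟨v', hv'⟩ : ∃ v' : Fin N → (I.map (algebraMap R T)).Cotangent,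
      v' = fun k => θ (f (fun j => if k = j then 1 else 0)) := ⟨_, rfl⟩
  let s : (Fin N → T ⧸ I.map (algebraMap R T)) →ₗ[T ⧸ I.map (algebraMap R T)]
      (I.map (algebraMap R T)).Cotangent :=
    Fintype.linearCombination (T ⧸ I.map (algebraMap R T)) v'
  refine Module.Projective.of_split i s ?_
  apply LinearMap.ext
  intro ξ
  obtain ⟨z', rfl⟩ := Ideal.toCotangent_surjective _ ξ
  obtain ⟨⟨z, t⟩, hzt⟩ := IsLocalizedModule.surj M (Algebra.idealMap T I) z'
  have hu : IsUnit (algebraMap R T (t : R)) := IsLocalization.map_units T t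
  have hzt' : algebraMap R T (t : R) • z' = Algebra.idealMap T I z := by
    rw [← hzt, algebraMap_smul]
    rfl
  show s (i ((I.map (algebraMap R T)).toCotangent z')) = (I.map (algebraMap R T)).toCotangent z'
  have hsi : s (i ((I.map (algebraMap R T)).toCotangent z')) = ∑ k, Ψ k z' • v' k := by
    show Fintype.linearCombination (T ⧸ I.map (algebraMap R T)) v'
      (i ((I.map (algebraMap R T)).toCotangent z')) = _
    rw [Fintype.linearCombination_apply]
    rfl
  rw [hsi]
  apply (hu.smul_left_cancel).1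
  rw [Finset.smul_sum]
  have h3 : ∀ k, algebraMap R T (t : R) • (Ψ k z' • v' k) = Φ k z • v' k := by
    intro k
    rw [← smul_assoc, ← (Ψ k).map_smul, hzt', hΨ]
  rw [Finset.sum_congr rfl fun k _ => h3 k]
  have h4 : ∀ k, Φ k z • v' k =
      θ ((g (I.toCotangent z)) k • f (fun j => if k = j then 1 else 0)) := by
    intro k
    rw [hθ, hv']
    rfl
  rw [Finset.sum_congr rfl fun k _ => h4 k, ← map_sum, ← LinearMap.pi_apply_eq_sum_univ f,
    ← LinearMap.comp_apply, hfg, LinearMap.id_apply, ← map_smul, hzt']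
  rfl

/-- an ideal of a Noetherian local ring with projective conormal module is generated by a family
which is a basis of the conormal module. -/
theorem exists_indep_of_projective_cotangent {T : Type u} [CommRing T] [IsLocalRing T]
    [IsNoetherianRing T] (J : Ideal T) (hJ : J ≤ maximalIdeal T)
    [Module.Projective (T ⧸ J) J.Cotangent] :
    ∃ (r : ℕ) (x : Fin r → T), Ideal.span (Set.range x) = J ∧ Indep x := by
  classical
  have hne : J ≠ ⊤ := fun h => (maximalIdeal.isMaximal T).ne_top (top_le_iff.1 (h ▸ hJ))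
  haveI : IsLocalRing (T ⧸ J) := Groth.Agent.Lib.Helper5.isLocalRing_quotient hne
  have : Module.Finite T J.Cotangent :=
    Module.Finite.of_surjective J.toCotangent J.toCotangent_surjective
  have : Module.Finite (T ⧸ J) J.Cotangent :=
    Module.Finite.of_restrictScalars_finite T (T ⧸ J) J.Cotangent
  have : Module.Free (T ⧸ J) J.Cotangent := Module.free_of_flat_of_isLocalRing
  let b := Module.finBasis (T ⧸ J) J.Cotangent
  have hlift : ∀ k, ∃ z : ↥J, J.toCotangent z = b k := fun k => J.toCotangent_surjective (b k)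
  choose x₀ hx₀ using hlift
  have hsmul : ∀ (c : T) (ξ : J.Cotangent), (Ideal.Quotient.mk J c) • ξ = c • ξ := by
    intro c ξ
    rw [← algebraMap_smul (T ⧸ J) c ξ]
    rfl
  have hspan : Ideal.span (Set.range fun k => (x₀ k : T)) = J := by
    apply le_antisymm
    · rw [Ideal.span_le]
      rintro _ ⟨k, rfl⟩
      exact (x₀ k).2
    · refine Submodule.le_of_le_smul_of_le_jacobson_bot (I := J) J.fg_of_isNoetherianRing ?_ ?_
      · rw [IsLocalRing.jacobson_eq_maximalIdeal ⊥ bot_ne_top]
        exact hJ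
      · intro z hz
        have hc : ∀ k, ∃ c : T, Ideal.Quotient.mk J c = b.repr (J.toCotangent ⟨z, hz⟩) k :=
          fun k => Ideal.Quotient.mk_surjective _
        choose c hc using hc
        have h1 : J.toCotangent ⟨z, hz⟩ = J.toCotangent (∑ k, c k • x₀ k) := by
          rw [map_sum]
          conv_lhs => rw [← b.sum_repr (J.toCotangent ⟨z, hz⟩)]
          refine Finset.sum_congr rfl fun k _ => ?_
          rw [map_smul, hx₀, ← hc k, hsmul]
        rw [Ideal.toCotangent_eq] at h1
        have h2 : z = (∑ k, c k • x₀ k : ↥J) + (z - (∑ k, c k • x₀ k : ↥J)) := by ring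
        rw [h2]
        refine Submodule.add_mem_sup ?_ ?_
        · rw [Submodule.coe_sum]
          refine Submodule.sum_mem _ fun k _ => ?_
          rw [Submodule.coe_smul, smul_eq_mul]
          exact Ideal.mul_mem_left _ _ (Ideal.subset_span ⟨k, rfl⟩)
        · rw [smul_eq_mul, ← pow_two]
          exact h1
  refine ⟨_, fun k => (x₀ k : T), hspan, ?_⟩
  intro a ha k
  rw [hspan] at ha ⊢
  have h1 : ((∑ k, a k • x₀ k : ↥J) : T) = ∑ k, a k * (x₀ k : T) := by
    rw [Submodule.coe_sum]
    rfl
  have h2 : J.toCotangent (∑ k, a k • x₀ k) = 0 := by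
    rw [Ideal.toCotangent_eq_zero, h1]
    exact ha
  rw [map_sum] at h2
  have h3 : ∑ k, (Ideal.Quotient.mk J (a k)) • b k = 0 := by
    rw [← h2]
    refine Finset.sum_congr rfl fun k _ => ?_
    rw [map_smul, hx₀, hsmul]
  have h4 := Fintype.linearIndependent_iff.1 b.linearIndependent _ h3 k
  exact Ideal.Quotient.eq_zero_iff_mem.1 h4

end cot

end Groth.Agent.Helper13Vasc
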