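import Mathlib
import Groth.Agent.Lib.Helper13Vasc3

/-!
# Vasconcelos' theorem: spreading out a regular sequence from a localization at a prime to a
basic open neighbourhood (helper13)
-/

set_option autoImplicit false
universe u
open CategoryTheory IsLocalRing

namespace Groth.Agent.Helper13Vasc

section ringseq

variable {A : Type u} [CommRing A]

/-- elementary form of weak regularity of a sequence on the ring itself. -/
theorem isWeaklyRegular_self_iff (rs : List A) :
    RingTheory.Sequence.IsWeaklyRegular A rs ↔
      ∀ i (h : i < rs.length), ∀ w : A, rs[i] * w ∈ Ideal.ofList (rs.take i) →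
        w ∈ Ideal.ofList (rs.take i) := by
  rw [RingTheory.Sequence.isWeaklyRegular_iff]
  refine forall_congr' fun i => forall_congr' fun h => ?_
  rw [isSMulRegular_quotient_iff_mem_of_smul_mem]
  have : (Ideal.ofList (rs.take i) • (⊤ : Submodule A A)) = Ideal.ofList (rs.take i) := by
    rw [smul_eq_mul, Ideal.mul_top]
  rw [this]
  rfl

/-- multiplying the members of a sequence by units changes neither the ideal nor regularity. -/
theorem ofList_eq_of_forall₂_units {l l' : List A}
    (h : List.Forall₂ (fun (t t' : A) => ∃ u : Aˣ, t' = t * (u : A)) l l') :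
    Ideal.ofList l' = Ideal.ofList l := by
  induction h with
  | nil => rfl
  | cons hab _ ih =>
    obtain ⟨u, rfl⟩ := hab
    rw [Ideal.ofList_cons, Ideal.ofList_cons, ih, Ideal.span_singleton_mul_right_unit u.isUnit]

theorem isWeaklyRegular_of_forall₂_units {l l' : List A}
    (h : List.Forall₂ (fun (t t' : A) => ∃ u : Aˣ, t' = t * (u : A)) l l')
    (hl : RingTheory.Sequence.IsWeaklyRegular A l) :
    RingTheory.Sequence.IsWeaklyRegular A l' := by
  rw [isWeaklyRegular_self_iff] at hl ⊢
  intro i hi w hw
  have hlen := h.length_eq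
  have hi' : i < l.length := hlen ▸ hi
  have htake := ofList_eq_of_forall₂_units (List.forall₂_take i h)
  obtain ⟨u, hu⟩ := h.get hi' hi
  rw [htake] at hw ⊢
  have h1 : l'[i] = l[i] * u := hu
  rw [h1, mul_assoc] at hw
  have h2 := hl i hi' _ hw
  have h3 : w = (u⁻¹ : Aˣ) * ((u : A) * w) := by
    rw [← mul_assoc, Units.inv_mul, one_mul]
  rw [h3]
  exact Ideal.mul_mem_left _ _ h2

end ringseq

section spread

variable {R : Type u} [CommRing R]

/-- if a finitely generated ideal `Q` lands in the extension of `A` to a localization then a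
single denominator moves `Q` into `A`. -/
theorem exists_mul_mem_of_map_le (M : Submonoid R) (T : Type u) [CommRing T] [Algebra R T]
    [IsLocalization M T] (Q A : Ideal R) (hQ : Q.FG)
    (h : ∀ z ∈ Q, algebraMap R T z ∈ A.map (algebraMap R T)) :
    ∃ g ∈ M, ∀ z ∈ Q, g * z ∈ A := by
  classical
  obtain ⟨s, rfl⟩ := hQ
  have h1 : ∀ z ∈ s, ∃ m ∈ M, m * z ∈ A := fun z hz =>
    (IsLocalization.algebraMap_mem_map_algebraMap_iff M T A z).1 (h z (Ideal.subset_span hz))
  choose! m hmM hm using h1
  refine ⟨∏ z ∈ s, m z, Submonoid.prod_mem M hmM, ?_⟩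
  intro z hz
  have hle : Ideal.span (s : Set R) ≤
      Submodule.comap (LinearMap.mulLeft R (∏ z ∈ s, m z)) A := by
    rw [Ideal.span_le]
    intro y hy
    show (∏ z ∈ s, m z) * y ∈ A
    rw [← Finset.mul_prod_erase s m hy, mul_assoc, mul_comm, mul_assoc]
    exact Ideal.mul_mem_left _ _ (by rw [mul_comm]; exact hm y hy)
  exact hle hz

/-- **Spreading out**: a sequence of elements of `R` which becomes a weakly regular sequence
generating `I` in the localization at a prime `p ⊇ I` is a regular sequence generating `I` in a
basic open neighbourhood of `p`. -/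
theorem exists_away_isRegular [IsNoetherianRing R] (p : Ideal R) [p.IsPrime] (I : Ideal R)
    (hIp : I ≤ p) (as : List R)
    (H1 : RingTheory.Sequence.IsWeaklyRegular (Localization.AtPrime p)
      (as.map (algebraMap R (Localization.AtPrime p))))
    (H2 : Ideal.ofList (as.map (algebraMap R (Localization.AtPrime p))) =
      I.map (algebraMap R (Localization.AtPrime p))) :
    ∃ g : R, g ∉ p ∧
      RingTheory.Sequence.IsRegular (Localization.Away g)
        (as.map (algebraMap R (Localization.Away g))) ∧
      Ideal.ofList (as.map (algebraMap R (Localization.Away g))) =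
        I.map (algebraMap R (Localization.Away g)) := by
  classical
  rw [isWeaklyRegular_self_iff] at H1
  -- denominators for the regularity conditions
  have hA : ∀ i : Fin as.length, ∃ g ∈ p.primeCompl, ∀ z : R,
      as[i] * z ∈ Ideal.ofList (as.take i) → g * z ∈ Ideal.ofList (as.take i) := by
    intro i
    have hQ : ∀ z ∈ (Ideal.ofList (as.take i)).colon {as[i]},
        algebraMap R (Localization.AtPrime p) z ∈
          (Ideal.ofList (as.take i)).map (algebraMap R (Localization.AtPrime p)) := by
      intro z hz
      rw [Submodule.mem_colon_singleton, smul_eq_mul] at hz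
      have h1 := H1 i (by rw [List.length_map]; exact i.2)
        (algebraMap R (Localization.AtPrime p) z) (by
          rw [← List.map_take, ← Ideal.map_ofList, List.getElem_map, ← map_mul]
          refine Ideal.mem_map_of_mem _ ?_
          rw [mul_comm]
          exact hz)
      rw [← List.map_take, ← Ideal.map_ofList] at h1
      exact h1
    obtain ⟨g, hg, hgQ⟩ := exists_mul_mem_of_map_le p.primeCompl (Localization.AtPrime p)
      ((Ideal.ofList (as.take i)).colon {as[i]}) (Ideal.ofList (as.take i))
      (Ideal.fg_of_isNoetherianRing _) hQ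
    refine ⟨g, hg, fun z hz => hgQ z ?_⟩
    exact Submodule.mem_colon_singleton.2 (by rw [smul_eq_mul, mul_comm]; exact hz)
  choose gi hgiM hgi using hA
  obtain ⟨g', hg'M, hg'⟩ := exists_mul_mem_of_map_le p.primeCompl (Localization.AtPrime p) I
    (Ideal.ofList as) (Ideal.fg_of_isNoetherianRing _) (fun z hz => by
      rw [Ideal.map_ofList, H2]
      exact Ideal.mem_map_of_mem _ hz)
  obtain ⟨g'', hg''M, hg''⟩ := exists_mul_mem_of_map_le p.primeCompl (Localization.AtPrime p)
    (Ideal.ofList as) I (Ideal.fg_of_isNoetherianRing _) (fun z hz => by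
      rw [← H2, ← Ideal.map_ofList]
      exact Ideal.mem_map_of_mem _ hz)
  obtain ⟨g, hgdef⟩ : ∃ g : R, g = (∏ i, gi i) * g' * g'' := ⟨_, rfl⟩
  have hgM : g ∈ p.primeCompl := by
    rw [hgdef]
    exact mul_mem (mul_mem (Submonoid.prod_mem _ fun i _ => hgiM i) hg'M) hg''M
  have hgi' : ∀ (i : Fin as.length) (z : R), as[i] * z ∈ Ideal.ofList (as.take i) →
      g * z ∈ Ideal.ofList (as.take i) := by
    intro i z hz
    have h1 := hgi i z hz
    have h2 : g * z = ((∏ j ∈ Finset.univ.erase i, gi j) * g' * g'') * (gi i * z) := by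
      rw [hgdef, ← Finset.mul_prod_erase Finset.univ gi (Finset.mem_univ i)]
      ring
    rw [h2]
    exact Ideal.mul_mem_left _ _ h1
  have hg1 : ∀ z ∈ I, g * z ∈ Ideal.ofList as := by
    intro z hz
    have h2 : g * z = ((∏ i, gi i) * g'') * (g' * z) := by rw [hgdef]; ring
    rw [h2]
    exact Ideal.mul_mem_left _ _ (hg' z hz)
  have hg2 : ∀ z ∈ Ideal.ofList as, g * z ∈ I := by
    intro z hz
    have h2 : g * z = ((∏ i, gi i) * g') * (g'' * z) := by rw [hgdef]; ring
    rw [h2]
    exact Ideal.mul_mem_left _ _ (hg'' z hz)
  have hgpow : g ∈ Submonoid.powers g := Submonoid.mem_powers g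
  -- the ideal
  have hideal : Ideal.ofList (as.map (algebraMap R (Localization.Away g))) =
      I.map (algebraMap R (Localization.Away g)) := by
    rw [← Ideal.map_ofList]
    apply le_antisymm
    · rw [Ideal.map_le_iff_le_comap]
      intro z hz
      rw [Ideal.mem_comap, IsLocalization.algebraMap_mem_map_algebraMap_iff (Submonoid.powers g)]
      exact ⟨g, hgpow, hg2 z hz⟩
    · rw [Ideal.map_le_iff_le_comap]
      intro z hz
      rw [Ideal.mem_comap, IsLocalization.algebraMap_mem_map_algebraMap_iff (Submonoid.powers g)]
      exact ⟨g, hgpow, hg1 z hz⟩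
  refine ⟨g, hgM, ⟨?_, ?_⟩, hideal⟩
  · -- weak regularity
    rw [isWeaklyRegular_self_iff]
    intro i hi w hw
    have hi' : i < as.length := by rwa [List.length_map] at hi
    rw [← List.map_take, ← Ideal.map_ofList] at hw ⊢
    rw [List.getElem_map] at hw
    obtain ⟨⟨z, m⟩, hzm⟩ := IsLocalization.surj (Submonoid.powers g) w
    have hzm' : w * algebraMap R (Localization.Away g) (m : R) =
        algebraMap R (Localization.Away g) z := hzm
    have h1 : algebraMap R (Localization.Away g) (as[i] * z) ∈
        (Ideal.ofList (as.take i)).map (algebraMap R (Localization.Away g)) := by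
      rw [map_mul, ← hzm', ← mul_assoc]
      exact Ideal.mul_mem_right _ _ hw
    rw [IsLocalization.algebraMap_mem_map_algebraMap_iff (Submonoid.powers g)] at h1
    obtain ⟨m', hm', h2⟩ := h1
    have h3 : as[i] * (m' * z) ∈ Ideal.ofList (as.take i) := by
      have : as[i] * (m' * z) = m' * (as[i] * z) := by ring
      rw [this]
      exact h2
    have h4 := hgi' ⟨i, hi'⟩ (m' * z) h3
    have h5 : algebraMap R (Localization.Away g) z ∈
        (Ideal.ofList (as.take i)).map (algebraMap R (Localization.Away g)) := by
      rw [IsLocalization.algebraMap_mem_map_algebraMap_iff (Submonoid.powers g)]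
      refine ⟨g * m', mul_mem hgpow hm', ?_⟩
      rw [mul_assoc]
      exact h4
    obtain ⟨u, hu⟩ := IsLocalization.map_units (Localization.Away g) m
    have h6 : w = algebraMap R (Localization.Away g) z * ((u⁻¹ : (Localization.Away g)ˣ) :
        Localization.Away g) := by
      rw [← hzm', ← hu, mul_assoc, Units.mul_inv, mul_one]
    rw [h6]
    exact Ideal.mul_mem_right _ _ h5
  · -- properness
    rw [hideal, smul_eq_mul, Ideal.mul_top]
    have hdisj : Disjoint (Submonoid.powers g : Set R) (I : Set R) := by
      rw [Set.disjoint_left]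
      rintro _ ⟨k, rfl⟩ hk
      exact hgM (Ideal.IsPrime.mem_of_pow_mem inferInstance k (hIp hk))
    intro h
    exact (IsLocalization.map_algebraMap_ne_top_iff_disjoint (Submonoid.powers g)
      (Localization.Away g) I).2 hdisj h.symm

end spread

end Groth.Agent.Helper13Vasc
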