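import Mathlib
import Groth.Prelude.Def_SheafNL
import Groth.Agent.Lib.Helper5NLIndep
import Groth.Agent.Lib.Helper5FTD
import Groth.Agent.Lib.Helper6EssSm
import Groth.Agent.Lib.Helper14TorSyz
import Groth.Agent.Lib.Helper13NLFlatB
import Groth.Agent.S2189
import Groth.Agent.S15821

/-!
# `NL_{B/A}` of tor amplitude `[-1,0]` ⇒ lci, Noetherian finite tor dimension case (helper13)
-/

set_option autoImplicit false
set_option linter.style.haveILetI false
universe u
open CategoryTheory CategoryTheory.Limits Algebra
attribute [local instance] HasDerivedCategory.standard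

namespace Groth.Agent.Helper13NLFlat

open Groth.Agent.Lib.Helper5.NLIndep Groth.Agent.Lib.Helper1.Tor Groth.Agent.Lib.Helper1.TorDim
  Groth.Agent.Lib.Helper14.TorSyz

section Proj

variable {R S : Type u} [CommRing R] [CommRing S] [Algebra R S]

/-- the conormal module of an extension is projective over `P.Ring ⧸ P.ker` if it is over `S`. -/
theorem cotangent_projective' (P : Extension.{u} R S) [Module.Projective S P.Cotangent] :
    Module.Projective (P.Ring ⧸ P.ker) P.ker.Cotangent := by
  let e : (P.Ring ⧸ P.ker) ≃+* S := RingHom.quotientKerEquivOfSurjective P.algebraMap_surjective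
  letI : RingHomInvPair (e : (P.Ring ⧸ P.ker) →+* S) (e.symm : S →+* (P.Ring ⧸ P.ker)) :=
    RingHomInvPair.of_ringEquiv e
  letI : RingHomInvPair (e.symm : S →+* (P.Ring ⧸ P.ker)) (e : (P.Ring ⧸ P.ker) →+* S) :=
    RingHomInvPair.symm _ _
  let e₂ : P.ker.Cotangent ≃ₛₗ[(e : (P.Ring ⧸ P.ker) →+* S)] P.Cotangent :=
    { toFun := Extension.Cotangent.of
      invFun := Extension.Cotangent.val
      map_add' := fun _ _ => rfl
      map_smul' := fun q x => by
        obtain ⟨p, rfl⟩ := Ideal.Quotient.mk_surjective q
        apply Extension.Cotangent.ext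
        have he : (e : (P.Ring ⧸ P.ker) →+* S) (Ideal.Quotient.mk _ p) = algebraMap P.Ring S p :=
          RingHom.quotientKerEquivOfSurjective_apply_mk P.algebraMap_surjective p
        rw [he, algebraMap_smul, Extension.Cotangent.val_smul', Extension.Cotangent.val_of,
          Extension.Cotangent.val_of]
        exact (algebraMap_smul (P.Ring ⧸ P.ker) p x)
      left_inv := fun _ => rfl
      right_inv := fun _ => rfl }
  exact Module.Projective.of_equiv e₂.symm

end Proj

section PD

variable {A B : Type u} [CommRing A] [CommRing B] [Algebra A B]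

theorem hasTorDimLE_mono {R : Type u} [CommRing R] {M : Type u} [AddCommGroup M] [Module R M]
    {d d' : ℕ} (hd : d ≤ d') (h : DRing.HasTorDimLE R d M) : DRing.HasTorDimLE R d' M :=
  fun N _ _ p hp => h N p (by omega)

/-- finite projective dimension of the kernel of a polynomial presentation of an algebra of
finite tor dimension over a Noetherian ring. -/
theorem pd_ker_of_hasTorDimLE [IsNoetherianRing A] {n : ℕ} (φ : MvPolynomial (Fin n) A →ₐ[A] B)
    (hφ : Function.Surjective φ) (d : ℕ) (hd : DRing.HasTorDimLE A d B) :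
    HasProjectiveDimensionLT (ModuleCat.of (MvPolynomial (Fin n) A) (RingHom.ker φ.toRingHom))
      (d + n + 1) := by
  letI algPB : Algebra (MvPolynomial (Fin n) A) B := φ.toRingHom.toAlgebra
  have h1 := Groth.Agent.Lib.Helper5.FTD.hasTorAmp_pres φ d hd
  have h2 : DRing.HasTorDimLE (MvPolynomial (Fin n) A) (d + n) B :=
    hasTorDimLE_of_hasTorAmp B (d + n) 0 h1
  have h3 : DRing.HasTorDimLE (MvPolynomial (Fin n) A) (d + n)
      (RingHom.ker φ.toRingHom) := by
    refine hasTorDimLE_ker (R := MvPolynomial (Fin n) A) (Submodule.subtype (RingHom.ker φ.toRingHom))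
      (Algebra.linearMap (MvPolynomial (Fin n) A) B) Subtype.val_injective hφ ?_ (d + n)
      (hasTorDimLE_mono (Nat.le_succ _) h2)
    intro p
    constructor
    · intro hp
      exact ⟨⟨p, hp⟩, rfl⟩
    · rintro ⟨⟨q, hq⟩, rfl⟩
      exact hq
  haveI : Module.Finite (MvPolynomial (Fin n) A) (RingHom.ker φ.toRingHom) :=
    Module.Finite.of_fg (IsNoetherian.noetherian _)
  refine Groth.Agent.Lib.Helper6.EssSm.hasProjectiveDimensionLT_of_isZero_tor_noeth
    (MvPolynomial (Fin n) A) (d + n + 1) (RingHom.ker φ.toRingHom) ?_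
  intro j hj N
  haveI := h3 N j (by omega)
  exact ModuleCat.isZero_of_subsingleton _

end PD

section Main

variable {A B : Type u} [CommRing A] [CommRing B] [Algebra A B]

/-- a regular ideal is Koszul-regular. -/
theorem isKoszulRegularIdeal_of_regular {P : Type u} [CommRing P] (I : Ideal P)
    (h : ∀ (p : Ideal P) [p.IsPrime], I ≤ p → ∃ g : P, g ∉ p ∧ ∃ rs : List (Localization.Away g),
      RingTheory.Sequence.IsRegular (Localization.Away g) rs ∧
        Ideal.ofList rs = I.map (algebraMap P (Localization.Away g))) :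
    LCI.IsKoszulRegularIdeal I := by
  intro 𝔭 h𝔭
  obtain ⟨g, hg, rs, hreg, hof⟩ := h 𝔭.asIdeal h𝔭
  exact ⟨g, hg, rs, (Groth.Agent.S15821.result _ rs hreg.toIsWeaklyRegular).1, hof.symm⟩

/-- **`NL_{B/A}` of tor amplitude `[-1,0]` ⇒ lci** for a finite type algebra of finite tor
dimension over a Noetherian ring. -/
theorem isLCI_of_hasTorAmp_of_finiteTorDim [IsNoetherianRing A] [Algebra.FiniteType A B]
    (hB : DRing.HasFiniteTorDim A B) (h : DRing.HasTorAmplitudeIn B (-1) 0 (LCI.NL A B)) :
    LCI.IsLCI A B := by
  obtain ⟨n, φ, hφ⟩ := Algebra.FiniteType.iff_quotient_mvPolynomial''.mp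
    (inferInstance : Algebra.FiniteType A B)
  refine ⟨inferInstance, n, φ, hφ, ?_⟩
  obtain ⟨d, hd⟩ := hB
  have hker : (genOf φ hφ).toExtension.ker = RingHom.ker φ.toRingHom := genOf_ker φ hφ
  haveI : IsNoetherianRing B := Algebra.FiniteType.isNoetherianRing A B
  haveI hfl : Module.Flat B (genOf φ hφ).toExtension.Cotangent :=
    flat_cotangent_of_hasTorAmp φ hφ h
  haveI : Module.Finite B (genOf φ hφ).toExtension.Cotangent := by
    apply Extension.Cotangent.finite
    rw [hker]
    exact (inferInstance : IsNoetherianRing (MvPolynomial (Fin n) A)).noetherian _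
  haveI : Module.FinitePresentation B (genOf φ hφ).toExtension.Cotangent :=
    Module.finitePresentation_of_finite B _
  haveI : Module.Projective B (genOf φ hφ).toExtension.Cotangent :=
    Module.Flat.projective_of_finitePresentation
  have key : ∀ J : Ideal (MvPolynomial (Fin n) A), J = (genOf φ hφ).toExtension.ker →
      Module.Projective (MvPolynomial (Fin n) A ⧸ J) J.Cotangent := by
    rintro J rfl
    exact cotangent_projective' _
  haveI := key _ hker.symm
  have hpd := pd_ker_of_hasTorDimLE φ hφ d hd
  apply isKoszulRegularIdeal_of_regular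
  intro p hp hIp
  exact Groth.Agent.S2189.result (RingHom.ker φ.toRingHom) (d + n + 1) hpd p hIp

end Main

end Groth.Agent.Helper13NLFlat
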