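import Mathlib
import Groth.Prelude.Def_SheafNL
import Groth.Agent.Lib.Helper13NLFlatC
import Groth.Agent.Lib.Helper13NLFlatD
import Groth.Agent.Lib.Helper13SyntD
import Groth.Agent.Lib.Helper7Synt13

/-!
# `NL_{B/A}` of tor amplitude `[-1,0]` ⇒ lci, flat finitely presented case (helper13)

Fibrewise: the conormal module of the base-changed presentation is flat, hence projective over
the (Noetherian) fibre, so Vasconcelos' theorem makes every fibre a local complete intersection;
hence `A → B` is syntomic, hence lci.
-/

set_option autoImplicit false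
set_option linter.style.haveILetI false
universe u
open CategoryTheory CategoryTheory.Limits Algebra TensorProduct
attribute [local instance] HasDerivedCategory.standard

namespace Groth.Agent.Helper13NLFlat

section Vasc


open IsLocalRing Groth.Agent.Helper13Vasc Groth.Agent.Lib.Helper7.Synt
  Groth.Agent.Lib.Helper1.TorDim

/-- local form of Vasconcelos' theorem (cf. S2189). -/
theorem exists_regular_atPrime {R : Type u} [CommRing R]
    [IsNoetherianRing R] (I : Ideal R) (n : ℕ)
    (hpd : HasProjectiveDimensionLT (ModuleCat.of R I) n)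
    [Module.Projective (R ⧸ I) I.Cotangent] (p : Ideal R) [p.IsPrime] (hIp : I ≤ p) :
    ∃ rs : List (Localization.AtPrime p),
      Ideal.ofList rs = I.map (algebraMap R (Localization.AtPrime p)) ∧
      RingTheory.Sequence.IsRegular (Localization.AtPrime p) rs := by
  classical
  have hJ : I.map (algebraMap R (Localization.AtPrime p)) ≤
      maximalIdeal (Localization.AtPrime p) := by
    rw [Ideal.map_le_iff_le_comap]
    exact le_trans hIp (le_of_eq
      (IsLocalization.AtPrime.comap_maximalIdeal (Localization.AtPrime p) p).symm)
  have hfinR : Module.Finite R I.Cotangent :=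
    Module.Finite.of_surjective I.toCotangent I.toCotangent_surjective
  have hfin : Module.Finite (R ⧸ I) I.Cotangent :=
    Module.Finite.of_restrictScalars_finite R (R ⧸ I) I.Cotangent
  have hproj := projective_cotangent_map I p.primeCompl (Localization.AtPrime p)
  obtain ⟨r, x, hspan, hind⟩ := exists_indep_of_projective_cotangent
    (I.map (algebraMap R (Localization.AtPrime p))) hJ
  have hpdJ : ∃ m, HasProjectiveDimensionLT (ModuleCat.of (Localization.AtPrime p)
      ↥(Ideal.span (Set.range x))) m := by
    rw [hspan]
    have h1 : HasProjectiveDimensionLT (ModuleCat.of R ↥I) (n + 1) :=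
      hasProjectiveDimensionLT_of_ge _ n (n + 1) (Nat.le_succ n)
    have h2 := pdLT_localizedModule p.primeCompl ↥I n h1
    let e₀ : LocalizedModule p.primeCompl ↥I ≃ₗ[R]
        ↥(I.map (algebraMap R (Localization.AtPrime p))) :=
      IsLocalizedModule.linearEquiv p.primeCompl (LocalizedModule.mkLinearMap p.primeCompl ↥I)
        (Algebra.idealMap (Localization.AtPrime p) I)
    let e : LocalizedModule p.primeCompl ↥I ≃ₗ[Localization.AtPrime p]
        ↥(I.map (algebraMap R (Localization.AtPrime p))) :=
      LinearEquiv.extendScalarsOfIsLocalization p.primeCompl (Localization.AtPrime p) e₀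
    have := h2
    exact ⟨n + 1, hasProjectiveDimensionLT_of_iso e.toModuleIso (n + 1)⟩
  obtain ⟨rsT, hrsT, hrsTJ⟩ := exists_regular_of_indep r (Localization.AtPrime p) x
    (hspan ▸ hJ) hind hpdJ
  rw [hspan] at hrsTJ
  refine ⟨rsT, hrsTJ, ?_⟩
  refine RingTheory.Sequence.IsRegular.of_isWeaklyRegular_of_mem_maximalIdeal _ ?_ hrsT
  intro t ht
  apply hJ
  rw [← hrsTJ]
  exact Ideal.subset_span ht

/-- a finite type algebra over a field presented with projective conormal module is a local
complete intersection over the field. -/
theorem isLCIOver_of_projective_cotangent (k : Type u) [Field k] {n : ℕ} {S₀ : Type u}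
    [CommRing S₀] [Algebra k S₀] (φ : MvPolynomial (Fin n) k →ₐ[k] S₀)
    (hφ : Function.Surjective φ)
    [Module.Projective (MvPolynomial (Fin n) k ⧸ RingHom.ker φ.toRingHom)
      (RingHom.ker φ.toRingHom).Cotangent] : Synt.IsLCIOver k S₀ := by
  haveI hft : Algebra.FiniteType k S₀ := Algebra.FiniteType.of_surjective φ hφ
  refine ⟨hft, fun q => ?_⟩
  rw [← isCIOver_localization_iff_exists_away' k φ hφ q.asIdeal,
    isCIOver_localization_iff k φ hφ q.asIdeal]
  have hd : DRing.HasTorDimLE k 0 S₀ := (hasTorDimLE_zero_iff_flat S₀).mpr inferInstance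
  have hpd := pd_ker_of_hasTorDimLE φ hφ 0 hd
  exact exists_regular_atPrime (RingHom.ker φ.toRingHom) _ hpd (q.asIdeal.comap φ.toRingHom)
    (fun x hx => by
      rw [Ideal.mem_comap]
      rw [RingHom.mem_ker] at hx
      rw [hx]
      exact q.asIdeal.zero_mem)


end Vasc


section BC
variable {R S : Type u} [CommRing R] [CommRing S] [Algebra R S] {ι : Type} (P : Generators R S ι)
  (T : Type u) [CommRing T] [Algebra R T]

theorem from_comp_to :
    (P.baseChangeFromBaseChange T).comp (P.baseChangeToBaseChange T) = .id _ := by
  ext x
  exact (MvPolynomial.algebraTensorAlgEquiv R T).apply_symm_apply x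

theorem to_comp_from :
    (P.baseChangeToBaseChange T).comp (P.baseChangeFromBaseChange T) = .id _ := by
  ext x
  exact (MvPolynomial.algebraTensorAlgEquiv R T).symm_apply_apply x

/-- the conormal modules of `T ⊗ P` and of the base-changed generators agree. -/
noncomputable def cotangentBaseChangeEquiv :
    (P.toExtension.baseChange (T := T)).Cotangent ≃ₗ[T ⊗[R] S]
      (P.baseChange T).toExtension.Cotangent :=
  LinearEquiv.ofLinear (Extension.Cotangent.map (P.baseChangeFromBaseChange T))
    (Extension.Cotangent.map (P.baseChangeToBaseChange T))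
    (by
      have h := Extension.Cotangent.map_comp (f := P.baseChangeToBaseChange T)
        (g := P.baseChangeFromBaseChange T)
      rw [from_comp_to, Extension.Cotangent.map_id] at h
      ext x
      exact (LinearMap.congr_fun h x).symm)
    (by
      have h := Extension.Cotangent.map_comp (f := P.baseChangeFromBaseChange T)
        (g := P.baseChangeToBaseChange T)
      rw [to_comp_from, Extension.Cotangent.map_id] at h
      ext x
      exact (LinearMap.congr_fun h x).symm)

end BC


section Main


open Groth.Agent.Lib.Helper5.NLIndep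

variable {A B : Type u} [CommRing A] [CommRing B] [Algebra A B]

set_option maxSynthPendingDepth 3 in
theorem isLCIOver_fiber [Module.Flat A B]
    {n : ℕ} (φ : MvPolynomial (Fin n) A →ₐ[A] B) (hφ : Function.Surjective φ)
    [Module.Flat B (genOf φ hφ).toExtension.Cotangent] (p : Ideal A) [p.IsPrime] :
    Synt.IsLCIOver p.ResidueField (p.Fiber B) := by
  haveI h1 : Module.Flat (p.ResidueField ⊗[A] B)
      ((genOf φ hφ).toExtension.baseChange (T := p.ResidueField)).Cotangent :=
    flat_cotangent_baseChange (genOf φ hφ).toExtension p.ResidueField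
  haveI h2 : Module.Flat (p.ResidueField ⊗[A] B)
      ((genOf φ hφ).baseChange p.ResidueField).toExtension.Cotangent :=
    Module.Flat.of_linearEquiv (cotangentBaseChangeEquiv (genOf φ hφ) p.ResidueField).symm
  haveI : Algebra.FiniteType A B := Algebra.FiniteType.of_surjective φ hφ
  haveI : IsNoetherianRing (p.ResidueField ⊗[A] B) :=
    Algebra.FiniteType.isNoetherianRing p.ResidueField _
  haveI h3 : Module.Finite (p.ResidueField ⊗[A] B)
      ((genOf φ hφ).baseChange p.ResidueField).toExtension.Cotangent := by
    apply Extension.Cotangent.finite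
    exact (inferInstance : IsNoetherianRing (MvPolynomial (Fin n) p.ResidueField)).noetherian _
  haveI : Module.FinitePresentation (p.ResidueField ⊗[A] B)
      ((genOf φ hφ).baseChange p.ResidueField).toExtension.Cotangent :=
    Module.finitePresentation_of_finite _ _
  haveI h4 : Module.Projective (p.ResidueField ⊗[A] B)
      ((genOf φ hφ).baseChange p.ResidueField).toExtension.Cotangent :=
    Module.Flat.projective_of_finitePresentation
  have key : ∀ J : Ideal (MvPolynomial (Fin n) p.ResidueField),
      J = ((genOf φ hφ).baseChange p.ResidueField).toExtension.ker →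
      Module.Projective (MvPolynomial (Fin n) p.ResidueField ⧸ J) J.Cotangent := by
    rintro J rfl
    exact cotangent_projective' _
  obtain ⟨φ', hφ'def⟩ : ∃ φ' : MvPolynomial (Fin n) p.ResidueField →ₐ[p.ResidueField]
      p.ResidueField ⊗[A] B, φ' = IsScalarTower.toAlgHom p.ResidueField
      ((genOf φ hφ).baseChange p.ResidueField).toExtension.Ring
      (p.ResidueField ⊗[A] B) := ⟨_, rfl⟩
  have hφ' : Function.Surjective φ' := by
    rw [hφ'def]
    exact ((genOf φ hφ).baseChange p.ResidueField).toExtension.algebraMap_surjective
  haveI h5 : Module.Projective (MvPolynomial (Fin n) p.ResidueField ⧸ RingHom.ker φ'.toRingHom)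
      (RingHom.ker φ'.toRingHom).Cotangent := key _ (by rw [hφ'def]; rfl)
  exact isLCIOver_of_projective_cotangent p.ResidueField φ' hφ'

theorem isSyntomic_of_flat_cotangent [Module.Flat A B] [Algebra.FinitePresentation A B]
    {n : ℕ} (φ : MvPolynomial (Fin n) A →ₐ[A] B) (hφ : Function.Surjective φ)
    [Module.Flat B (genOf φ hφ).toExtension.Cotangent] : Synt.IsSyntomic A B :=
  ⟨inferInstance, inferInstance, fun p => isLCIOver_fiber φ hφ p.asIdeal⟩

/-- **`NL_{B/A}` of tor amplitude `[-1,0]` ⇒ lci** for a flat algebra of finite presentation. -/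
theorem isLCI_of_hasTorAmp_of_flat [Module.Flat A B] [Algebra.FinitePresentation A B]
    (h : DRing.HasTorAmplitudeIn B (-1) 0 (LCI.NL A B)) : LCI.IsLCI A B := by
  obtain ⟨n, φ, hφ⟩ := Algebra.FiniteType.iff_quotient_mvPolynomial''.mp
    (inferInstance : Algebra.FiniteType A B)
  haveI := flat_cotangent_of_hasTorAmp φ hφ h
  exact Groth.Agent.Helper13Synt.isLCI_of_isSyntomic A B (isSyntomic_of_flat_cotangent φ hφ)


end Main

end Groth.Agent.Helper13NLFlat
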