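import Mathlib

set_option autoImplicit false
universe u

namespace Groth.Agent.Lib.Helper6.OmProj

open IsLocalRing TensorProduct KaehlerDifferential

/-- kernel of `m ↦ 1 ⊗ m : M → R ⊗[P] M` for a surjection `P → R` with kernel `J` is `J M`. -/
theorem ker_mk_eq_smul_top {P R M : Type*} [CommRing P] [CommRing R] [Algebra P R]
    [AddCommGroup M] [Module P M] (hs : Function.Surjective (algebraMap P R)) :
    LinearMap.ker (TensorProduct.mk P R M 1) =
      (RingHom.ker (algebraMap P R)) • (⊤ : Submodule P M) := by
  have hs' : Function.Surjective (Algebra.ofId P R) := hs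
  let e : (P ⧸ RingHom.ker (Algebra.ofId P R)) ≃ₐ[P] R := Ideal.quotientKerAlgEquivOfSurjective hs'
  have hk : RingHom.ker (algebraMap P R) = RingHom.ker (Algebra.ofId P R) := rfl
  rw [hk, ← LinearMap.ker_tensorProductMk]
  ext x
  rw [LinearMap.mem_ker, LinearMap.mem_ker, TensorProduct.mk_apply, TensorProduct.mk_apply]
  constructor
  · intro h
    have := congrArg (LinearMap.rTensor M e.symm.toLinearMap) h
    rw [LinearMap.rTensor_tmul, map_zero] at this
    rw [← this]
    congr 1
    exact (map_one e.symm).symm
  · intro h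
    have := congrArg (LinearMap.rTensor M e.toLinearMap) h
    rw [LinearMap.rTensor_tmul, map_zero] at this
    rw [← this]
    congr 1
    exact (map_one e).symm



/-- **Jacobian criterion, sufficient direction**: `S = P/(f_i)` local, `P` formally smooth with
finite free differentials, and the `1 ⊗ d f_i` linearly independent in `K ⊗ Ω[P/k]` for a field
`K` receiving the residue field of `S`. Then `S` is formally smooth. -/
theorem formallySmooth_of_linearIndependent {k P S K ι : Type*} [CommRing k] [CommRing P]
    [CommRing S] [IsLocalRing S] [Field K] [Finite ι]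
    [Algebra k P] [Algebra k S] [Algebra P S] [IsScalarTower k P S] [Algebra S K] [Algebra P K]
    [IsScalarTower P S K]
    [Algebra.FormallySmooth k P] [Module.Free P Ω[P⁄k]] [Module.Finite P Ω[P⁄k]]
    (h₁ : Function.Surjective (algebraMap P S)) (f : ι → P)
    (hf : RingHom.ker (algebraMap P S) = Ideal.span (Set.range f))
    (h₃ : maximalIdeal S ≤ RingHom.ker (algebraMap S K))
    (hli : LinearIndependent K (fun i => (1 : K) ⊗ₜ[P] KaehlerDifferential.D k P (f i))) :
    Algebra.FormallySmooth k S := by
  classical
  have hfg : (RingHom.ker (algebraMap P S)).FG := by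
    rw [hf]
    exact Submodule.fg_span (Set.finite_range f)
  rw [Algebra.FormallySmooth.iff_injective_cotangentComplexBaseChange P K h₁ hfg h₃]
  haveI : Fintype ι := Fintype.ofFinite ι
  have hmem : ∀ i, f i ∈ RingHom.ker (algebraMap P S) := fun i => by
    rw [hf]; exact Ideal.subset_span ⟨i, rfl⟩
  -- the surjection `(ι → K) → K ⊗ ker`
  let g : (ι → K) →ₗ[K] K ⊗[P] RingHom.ker (algebraMap P S) :=
    Fintype.linearCombination K (fun i => (1 : K) ⊗ₜ[P] (⟨f i, hmem i⟩ : RingHom.ker (algebraMap P S)))
  have hg : Function.Surjective g := by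
    intro t
    induction t using TensorProduct.induction_on with
    | zero => exact ⟨0, map_zero _⟩
    | tmul c x =>
      obtain ⟨x, hx⟩ := x
      have hx' := hx
      rw [hf, Ideal.mem_span_range_iff_exists_fun] at hx'
      obtain ⟨a, ha⟩ := hx'
      refine ⟨fun i => c * algebraMap P K (a i), ?_⟩
      simp only [g, Fintype.linearCombination_apply]
      have : (⟨x, hx⟩ : RingHom.ker (algebraMap P S)) = ∑ i, a i • ⟨f i, hmem i⟩ := by
        apply Subtype.ext
        simp [← ha]
      rw [this, TensorProduct.tmul_sum]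
      refine Finset.sum_congr rfl (fun i _ => ?_)
      rw [TensorProduct.tmul_smul, TensorProduct.smul_tmul', TensorProduct.smul_tmul']
      congr 1
      simp [Algebra.smul_def, mul_comm]
    | add t₁ t₂ h₁ h₂ =>
      obtain ⟨x, rfl⟩ := h₁
      obtain ⟨y, rfl⟩ := h₂
      exact ⟨x + y, map_add _ _ _⟩
  have hcomp : Function.Injective ((cotangentComplexBaseChange k S P K) ∘ₗ g) := by
    have : (cotangentComplexBaseChange k S P K) ∘ₗ g =
        Fintype.linearCombination K (fun i => (1 : K) ⊗ₜ[P] KaehlerDifferential.D k P (f i)) := by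
      apply LinearMap.ext
      intro c
      simp only [g, LinearMap.comp_apply, Fintype.linearCombination_apply, map_sum, map_smul,
        cotangentComplexBaseChange_tmul, one_smul, kerToTensor_apply]
    rw [this, injective_iff_map_eq_zero]
    intro c hc
    rw [Fintype.linearCombination_apply] at hc
    exact funext (Fintype.linearIndependent_iff.mp hli c hc)
  intro x y hxy
  obtain ⟨a, rfl⟩ := hg x
  obtain ⟨b, rfl⟩ := hg y
  exact congrArg g (hcomp hxy)



theorem localRingHom_surjective {B R : Type*} [CommRing B] [CommRing R] (f : B →+* R)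
    (hf : Function.Surjective f) (p' : Ideal R) [p'.IsPrime] (P' : Ideal B) [P'.IsPrime]
    (h : P' = p'.comap f) : Function.Surjective (Localization.localRingHom P' p' f h) := by
  intro y
  obtain ⟨s, t, rfl⟩ := IsLocalization.exists_mk'_eq p'.primeCompl y
  obtain ⟨a, rfl⟩ := hf s
  obtain ⟨b, hb⟩ := hf t.1
  have hb' : b ∈ P'.primeCompl := by
    intro hmem
    rw [h] at hmem
    have : f b ∈ p' := hmem
    rw [hb] at this
    exact t.2 this
  refine ⟨IsLocalization.mk' _ a ⟨b, hb'⟩, ?_⟩
  rw [Localization.localRingHom_mk']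
  congr 1
  exact Subtype.ext hb

theorem exists_of_localRingHom_eq_zero {B R : Type*} [CommRing B] [CommRing R] (f : B →+* R)
    (hf : Function.Surjective f) (p' : Ideal R) [p'.IsPrime] (P' : Ideal B) [P'.IsPrime]
    (h : P' = p'.comap f) (y : Localization.AtPrime P')
    (hy : Localization.localRingHom P' p' f h y = 0) :
    ∃ x ∈ RingHom.ker f, ∃ s : P'.primeCompl,
      y = IsLocalization.mk' (Localization.AtPrime P') x s := by
  obtain ⟨b, s, rfl⟩ := IsLocalization.exists_mk'_eq P'.primeCompl y
  rw [Localization.localRingHom_mk', IsLocalization.mk'_eq_zero_iff] at hy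
  obtain ⟨t, ht⟩ := hy
  obtain ⟨c, hc⟩ := hf t.1
  have hc' : c ∈ P'.primeCompl := by
    intro hmem
    rw [h] at hmem
    have : f c ∈ p' := hmem
    rw [hc] at this
    exact t.2 this
  refine ⟨c * b, ?_, ⟨c, hc'⟩ * s, ?_⟩
  · rw [RingHom.mem_ker, map_mul, hc]; exact ht
  · rw [IsLocalization.mk'_eq_iff_eq]
    congr 1
    simp only [Submonoid.coe_mul]
    ring

end Groth.Agent.Lib.Helper6.OmProj
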