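import Mathlib
import Groth.Agent.Lib.Helper6OmProjA

set_option autoImplicit false
universe u

namespace Groth.Agent.Lib.Helper6.Jac

open IsLocalRing TensorProduct KaehlerDifferential Groth.Agent.Lib.Helper6.OmProj

/-- **Jacobian criterion** for a quotient `A/I` at a prime `P` with preimage `q` in `A`, where `A`
is of finite type over a Noetherian ring `R` and smooth at `q`. -/
theorem isSmoothAt_quotient_iff (R A : Type u) [CommRing R] [CommRing A] [IsNoetherianRing R]
    [Algebra R A] [Algebra.FiniteType R A] (I : Ideal A) (P : Ideal (A ⧸ I)) [P.IsPrime]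
    (q : Ideal A) [q.IsPrime] (hq : q = P.comap (Ideal.Quotient.mk I))
    [hsm : Algebra.IsSmoothAt R q] :
    Algebra.IsSmoothAt R P ↔ ∃ s : Finset A, (↑s : Set A) ⊆ (I : Set A) ∧
      Ideal.map (algebraMap A (Localization.AtPrime q)) I =
        Ideal.span ((algebraMap A (Localization.AtPrime q)) '' (↑s : Set A)) ∧
      LinearIndependent q.ResidueField
        (fun g : ↥s => (1 : q.ResidueField) ⊗ₜ[A] KaehlerDifferential.D R A (g : A)) := by
  classical
  have hIq : I ≤ q := by
    intro x hx
    rw [hq, Ideal.mem_comap, Ideal.Quotient.eq_zero_iff_mem.mpr hx]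
    exact zero_mem _
  -- the map `A_q → (A/I)_P`
  let φ : Localization.AtPrime q →+* Localization.AtPrime P :=
    Localization.localRingHom q P (Ideal.Quotient.mk I) hq
  letI : Algebra (Localization.AtPrime q) (Localization.AtPrime P) := φ.toAlgebra
  have hφ : ∀ y, algebraMap (Localization.AtPrime q) (Localization.AtPrime P) y = φ y :=
    fun y => rfl
  haveI : IsScalarTower R (Localization.AtPrime q) (Localization.AtPrime P) := by
    refine IsScalarTower.of_algebraMap_eq (fun c => ?_)
    rw [hφ, IsScalarTower.algebraMap_apply R A (Localization.AtPrime q),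
      Localization.localRingHom_to_map,
      IsScalarTower.algebraMap_apply R (A ⧸ I) (Localization.AtPrime P),
      IsScalarTower.algebraMap_apply R A (A ⧸ I)]
    rfl
  have hsurj : Function.Surjective
      (algebraMap (Localization.AtPrime q) (Localization.AtPrime P)) :=
    localRingHom_surjective (Ideal.Quotient.mk I) Ideal.Quotient.mk_surjective P q hq
  -- kernel
  have hker : RingHom.ker (algebraMap (Localization.AtPrime q) (Localization.AtPrime P)) =
      Ideal.map (algebraMap A (Localization.AtPrime q)) I := by
    apply le_antisymm
    · intro y hy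
      obtain ⟨x, hx, s', rfl⟩ := exists_of_localRingHom_eq_zero (Ideal.Quotient.mk I)
        Ideal.Quotient.mk_surjective P q hq y (RingHom.mem_ker.mp hy)
      rw [Ideal.mk_ker] at hx
      have hmk : IsLocalization.mk' (Localization.AtPrime q) x s' =
          IsLocalization.mk' (Localization.AtPrime q) 1 s' *
            algebraMap A (Localization.AtPrime q) x := by
        rw [mul_comm, IsLocalization.mul_mk'_eq_mk'_of_mul, mul_one]
      rw [hmk]
      exact Ideal.mul_mem_left _ _ (Ideal.mem_map_of_mem _ hx)
    · rw [Ideal.map_le_iff_le_comap]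
      intro x hx
      rw [Ideal.mem_comap, RingHom.mem_ker, hφ, Localization.localRingHom_to_map,
        Ideal.Quotient.eq_zero_iff_mem.mpr hx, map_zero]
  -- the map `(A/I)_P → κ(q)`
  have hIK : ∀ a ∈ I, algebraMap A q.ResidueField a = 0 := by
    intro a ha
    rw [Ideal.algebraMap_residueField_eq_zero]
    exact hIq ha
  let ψ₀ : A ⧸ I →+* q.ResidueField := Ideal.Quotient.lift I (algebraMap A q.ResidueField) hIK
  have hunits : ∀ y : P.primeCompl, IsUnit (ψ₀ y.1) := by
    rintro ⟨y, hy⟩
    obtain ⟨a, rfl⟩ := Ideal.Quotient.mk_surjective y
    rw [isUnit_iff_ne_zero]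
    intro h0
    apply hy
    have : a ∈ q := by
      have h1 : algebraMap A q.ResidueField a = 0 := h0
      rwa [Ideal.algebraMap_residueField_eq_zero] at h1
    rw [hq] at this
    exact this
  let ψ : Localization.AtPrime P →+* q.ResidueField := IsLocalization.lift hunits
  letI : Algebra (Localization.AtPrime P) q.ResidueField := ψ.toAlgebra
  have hψ : ∀ y, algebraMap (Localization.AtPrime P) q.ResidueField y = ψ y := fun y => rfl
  haveI : IsScalarTower (Localization.AtPrime q) (Localization.AtPrime P) q.ResidueField := by
    refine IsScalarTower.of_algebraMap_eq' ?_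
    apply IsLocalization.ringHom_ext q.primeCompl
    ext a
    simp only [RingHom.comp_apply]
    rw [hψ, hφ, Localization.localRingHom_to_map, IsLocalization.lift_eq]
    rfl
  have h₃ : maximalIdeal (Localization.AtPrime P) ≤
      RingHom.ker (algebraMap (Localization.AtPrime P) q.ResidueField) := by
    intro x hx
    obtain ⟨y, rfl⟩ := hsurj x
    haveI : IsLocalHom (algebraMap (Localization.AtPrime q) (Localization.AtPrime P)) :=
      IsLocalHom.of_surjective _ hsurj
    rw [RingHom.mem_ker,
      ← IsScalarTower.algebraMap_apply (Localization.AtPrime q) (Localization.AtPrime P)]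
    change residue _ y = 0
    rw [residue_eq_zero_iff]
    rw [mem_maximalIdeal, mem_nonunits_iff] at hx ⊢
    exact fun hu => hx (hu.map _)
  -- finiteness
  haveI : IsNoetherianRing A := Algebra.FiniteType.isNoetherianRing R A
  haveI : IsNoetherianRing (Localization.AtPrime q) :=
    IsLocalization.isNoetherianRing q.primeCompl _ inferInstance
  haveI : Algebra.FormallySmooth R (Localization.AtPrime q) := hsm
  haveI : Module.Finite (Localization.AtPrime q) Ω[Localization.AtPrime q⁄R] := inferInstance
  haveI : Module.Free (Localization.AtPrime q) Ω[Localization.AtPrime q⁄R] :=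
    Module.free_of_flat_of_isLocalRing
  have hfg : (RingHom.ker (algebraMap (Localization.AtPrime q) (Localization.AtPrime P))).FG :=
    IsNoetherian.noetherian _
  -- the comparison `Θ`
  let Θ : q.ResidueField ⊗[A] Ω[A⁄R] ≃ₗ[q.ResidueField]
      q.ResidueField ⊗[Localization.AtPrime q] Ω[Localization.AtPrime q⁄R] :=
    (AlgebraTensorModule.cancelBaseChange A (Localization.AtPrime q) q.ResidueField
      q.ResidueField Ω[A⁄R]).symm ≪≫ₗ
    AlgebraTensorModule.congr (LinearEquiv.refl q.ResidueField q.ResidueField)
      (KaehlerDifferential.tensorKaehlerEquivOfFormallyEtale R A (Localization.AtPrime q))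
  have hΘ : ∀ a : A, Θ ((1 : q.ResidueField) ⊗ₜ[A] D R A a) =
      (1 : q.ResidueField) ⊗ₜ[Localization.AtPrime q]
        D R (Localization.AtPrime q) (algebraMap A (Localization.AtPrime q) a) := by
    intro a
    simp [Θ]
  rw [show Algebra.IsSmoothAt R P = Algebra.FormallySmooth R (Localization.AtPrime P) from rfl]
  constructor
  · intro hS
    rw [Algebra.FormallySmooth.iff_injective_cotangentComplexBaseChange
      (Localization.AtPrime q) q.ResidueField hsurj hfg h₃] at hS
    have hmemI : ∀ a : I, algebraMap A (Localization.AtPrime q) a ∈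
        RingHom.ker (algebraMap (Localization.AtPrime q) (Localization.AtPrime P)) := by
      rw [hker]; exact fun a => Ideal.mem_map_of_mem _ a.2
    let w : I → q.ResidueField ⊗[Localization.AtPrime q]
        RingHom.ker (algebraMap (Localization.AtPrime q) (Localization.AtPrime P)) :=
      fun a => (1 : q.ResidueField) ⊗ₜ ⟨algebraMap A (Localization.AtPrime q) a, hmemI a⟩
    have hspan : Submodule.span q.ResidueField (Set.range w) = ⊤ := by
      rw [eq_top_iff]
      rintro t -
      induction t using TensorProduct.induction_on with
      | zero => exact zero_mem _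
      | tmul c x =>
        obtain ⟨x, hx⟩ := x
        obtain ⟨a, ha, s', rfl⟩ := exists_of_localRingHom_eq_zero (Ideal.Quotient.mk I)
          Ideal.Quotient.mk_surjective P q hq x (RingHom.mem_ker.mp hx)
        rw [Ideal.mk_ker] at ha
        have hmk : (⟨IsLocalization.mk' (Localization.AtPrime q) a s', hx⟩ :
            RingHom.ker (algebraMap (Localization.AtPrime q) (Localization.AtPrime P))) =
            (IsLocalization.mk' (Localization.AtPrime q) 1 s') •
              ⟨algebraMap A (Localization.AtPrime q) a, hmemI ⟨a, ha⟩⟩ := by
          apply Subtype.ext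
          simp only [SetLike.mk_smul_mk, smul_eq_mul]
          rw [mul_comm, IsLocalization.mul_mk'_eq_mk'_of_mul, mul_one]
        have hcw : c ⊗ₜ[Localization.AtPrime q]
            (⟨IsLocalization.mk' (Localization.AtPrime q) a s', hx⟩ :
            RingHom.ker (algebraMap (Localization.AtPrime q) (Localization.AtPrime P))) =
            (c * algebraMap (Localization.AtPrime q) q.ResidueField
              (IsLocalization.mk' (Localization.AtPrime q) 1 s')) • w ⟨a, ha⟩ := by
          rw [hmk, ← TensorProduct.smul_tmul, TensorProduct.smul_tmul', smul_eq_mul, mul_one,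
            Algebra.smul_def, mul_comm]
        rw [hcw]
        exact Submodule.smul_mem _ _ (Submodule.subset_span ⟨_, rfl⟩)
      | add t₁ t₂ h₁ h₂ => exact add_mem h₁ h₂
    obtain ⟨κ', a, hainj, hsp, hli⟩ := exists_linearIndependent' q.ResidueField w
    rw [hspan] at hsp
    let bk : Module.Basis κ' q.ResidueField (q.ResidueField ⊗[Localization.AtPrime q]
        RingHom.ker (algebraMap (Localization.AtPrime q) (Localization.AtPrime P))) :=
      Module.Basis.mk hli (by rw [hsp])
    haveI : Module.Finite (Localization.AtPrime q)
        (RingHom.ker (algebraMap (Localization.AtPrime q) (Localization.AtPrime P))) :=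
      Module.Finite.of_fg hfg
    haveI : Finite κ' := Module.Finite.finite_basis bk
    haveI : Fintype κ' := Fintype.ofFinite κ'
    let s : Finset A := Finset.univ.image (fun i => ((a i : I) : A))
    refine ⟨s, ?_, ?_, ?_⟩
    · intro x hx
      simp only [s, Finset.coe_image, Finset.coe_univ, Set.image_univ, Set.mem_range] at hx
      obtain ⟨i, rfl⟩ := hx
      exact (a i).2
    · have h1 := IsLocalRing.span_eq_top_of_tmul_eq_basis (R := Localization.AtPrime q)
        (f := fun i => (⟨algebraMap A (Localization.AtPrime q) (a i), hmemI (a i)⟩ :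
          RingHom.ker (algebraMap (Localization.AtPrime q) (Localization.AtPrime P)))) bk
        (fun i => by simp [bk, w])
      rw [← hker]
      have h2 := congrArg (Submodule.map (Submodule.subtype
        (RingHom.ker (algebraMap (Localization.AtPrime q) (Localization.AtPrime P))))) h1
      rw [Submodule.map_span, Submodule.map_top, Submodule.range_subtype, ← Set.range_comp] at h2
      rw [← h2]
      congr 1
      ext y
      simp [s]
    · have hc : LinearIndependent q.ResidueField
          (⇑(cotangentComplexBaseChange R (Localization.AtPrime P) (Localization.AtPrime q)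
            q.ResidueField) ∘ (w ∘ a)) :=
        hli.map' _ (LinearMap.ker_eq_bot.mpr hS)
      let u : κ' → q.ResidueField ⊗[A] Ω[A⁄R] :=
        fun i => (1 : q.ResidueField) ⊗ₜ[A] D R A ((a i : I) : A)
      have hu : LinearIndependent q.ResidueField u := by
        apply LinearIndependent.of_comp Θ.toLinearMap
        have : ⇑Θ.toLinearMap ∘ u = ⇑(cotangentComplexBaseChange R (Localization.AtPrime P)
            (Localization.AtPrime q) q.ResidueField) ∘ (w ∘ a) := funext fun i => by
          simp only [Function.comp_apply, u, w]
          rw [LinearEquiv.coe_coe, hΘ, cotangentComplexBaseChange_tmul, one_smul,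
            kerToTensor_apply]
        rw [this]
        exact hc
      let e' : κ' ≃ ↥s := Equiv.ofBijective
        (fun i => ⟨((a i : I) : A), Finset.mem_image_of_mem _ (Finset.mem_univ i)⟩)
        ⟨fun i j hij => hainj (Subtype.ext (congrArg (fun z : ↥s => (z : A)) hij)), fun ⟨x, hx⟩ => by
          simp only [s, Finset.mem_image, Finset.mem_univ, true_and] at hx
          obtain ⟨i, rfl⟩ := hx
          exact ⟨i, rfl⟩⟩
      exact (linearIndependent_equiv e').mp hu
  · rintro ⟨s, hsI, hmap, hli⟩
    let f : ↥s → Localization.AtPrime q := fun g => algebraMap A (Localization.AtPrime q) g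
    have hkerf : RingHom.ker (algebraMap (Localization.AtPrime q) (Localization.AtPrime P)) =
        Ideal.span (Set.range f) := by
      rw [hker, hmap]
      congr 1
      ext y
      simp [f]
    have hli' : LinearIndependent q.ResidueField
        (fun g : ↥s => (1 : q.ResidueField) ⊗ₜ[Localization.AtPrime q]
          D R (Localization.AtPrime q) (f g)) := by
      have h := hli.map' Θ.toLinearMap Θ.ker
      have heq : (⇑Θ.toLinearMap ∘ fun g : ↥s => (1 : q.ResidueField) ⊗ₜ[A] D R A (g : A)) =
          fun g : ↥s => (1 : q.ResidueField) ⊗ₜ[Localization.AtPrime q]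
            D R (Localization.AtPrime q) (f g) := funext (fun g => hΘ g)
      rw [heq] at h
      exact h
    exact formallySmooth_of_linearIndependent (k := R) (P := Localization.AtPrime q)
      (S := Localization.AtPrime P) (K := q.ResidueField) hsurj f hkerf h₃ hli'

end Groth.Agent.Lib.Helper6.Jac
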