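import Mathlib
import Groth.Agent.Lib.Helper6Jac
import Groth.Agent.Lib.Helper6SmReg
import Groth.Agent.Lib.Helper5RLR

/-!
# Néron's lemma on smoothness at the special point (helper13)

`main`: `R` regular Noetherian, `A` of finite type over `R`, `A → Λ` with `Λ` a local domain.
If `A` is smooth at the kernel of `A → Λ` and `Λ ⊗_A Ω_{A/R}` is free, then `A` is smooth over `R`
at the preimage of the maximal ideal of `Λ`.

Reusable: `map_eq_span_of_isSmoothAt` (Jacobian criterion with a prescribed family),
`li_of_flat`, `li_of_injective`, `li_of_residue` (transfer of independence of `1 ⊗ vᵢ`),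
`mapK`, `ker_mapK`, `finrank_WK_add` (conormal sequence after base change to a field),
`isSmoothAt_comap_iff`, `isSmoothAt_of_family`.
-/

set_option autoImplicit false
set_option linter.unusedSectionVars false
set_option linter.style.haveILetI false
universe u

namespace Groth.Agent.Helper13Neron

-- ===== part NerA =====

open IsLocalRing TensorProduct KaehlerDifferential Groth.Agent.Lib.Helper6.OmProj

/-- Variant of the Jacobian criterion: if `A/I` is smooth at `P` (and `A` smooth at the preimage
`q`), then any finite family `t ⊆ I` whose differentials are independent in `κ(q) ⊗ Ω_A` and span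
the image of `I` generates `I A_q`. -/
theorem map_eq_span_of_isSmoothAt (R A : Type u) [CommRing R] [CommRing A] [IsNoetherianRing R]
    [Algebra R A] [Algebra.FiniteType R A] (I : Ideal A) (P : Ideal (A ⧸ I)) [P.IsPrime]
    (q : Ideal A) [q.IsPrime] (hq : q = P.comap (Ideal.Quotient.mk I))
    [hsm : Algebra.IsSmoothAt R q] (hSm : Algebra.IsSmoothAt R P)
    (t : Finset A) (htI : (↑t : Set A) ⊆ (I : Set A))
    (hli : LinearIndependent q.ResidueField
      (fun g : ↥t => (1 : q.ResidueField) ⊗ₜ[A] KaehlerDifferential.D R A (g : A)))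
    (hspan : ∀ x ∈ I, (1 : q.ResidueField) ⊗ₜ[A] KaehlerDifferential.D R A x ∈
      Submodule.span q.ResidueField (Set.range
        (fun g : ↥t => (1 : q.ResidueField) ⊗ₜ[A] KaehlerDifferential.D R A (g : A)))) :
    Ideal.map (algebraMap A (Localization.AtPrime q)) I =
      Ideal.span ((algebraMap A (Localization.AtPrime q)) '' (↑t : Set A)) := by
  classical
  have hIq : I ≤ q := by
    intro x hx
    rw [hq, Ideal.mem_comap, Ideal.Quotient.eq_zero_iff_mem.mpr hx]
    exact zero_mem _
  let φ : Localization.AtPrime q →+* Localization.AtPrime P :=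
    Localization.localRingHom q P (Ideal.Quotient.mk I) hq
  letI : Algebra (Localization.AtPrime q) (Localization.AtPrime P) := φ.toAlgebra
  have hφ : ∀ y, algebraMap (Localization.AtPrime q) (Localization.AtPrime P) y = φ y :=
    fun y => rfl
  haveI : IsScalarTower R (Localization.AtPrime q) (Localization.AtPrime P) := by
    refine IsScalarTower.of_algebraMap_eq (fun c => ?_)
    rw [hφ, IsScalarTower.algebraMap_apply R A (Localization.AtPrime q),
      Localization.localRingHom_to_map,
      IsScalarTower.algebraMap_apply R (A ⧸ I) (Localization.AtPrime P),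
      IsScalarTower.algebraMap_apply R A (A ⧸ I)]
    rfl
  have hsurj : Function.Surjective
      (algebraMap (Localization.AtPrime q) (Localization.AtPrime P)) :=
    localRingHom_surjective (Ideal.Quotient.mk I) Ideal.Quotient.mk_surjective P q hq
  have hker : RingHom.ker (algebraMap (Localization.AtPrime q) (Localization.AtPrime P)) =
      Ideal.map (algebraMap A (Localization.AtPrime q)) I := by
    apply le_antisymm
    · intro y hy
      obtain ⟨x, hx, s', rfl⟩ := exists_of_localRingHom_eq_zero (Ideal.Quotient.mk I)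
        Ideal.Quotient.mk_surjective P q hq y (RingHom.mem_ker.mp hy)
      rw [Ideal.mk_ker] at hx
      have hmk : IsLocalization.mk' (Localization.AtPrime q) x s' =
          IsLocalization.mk' (Localization.AtPrime q) 1 s' *
            algebraMap A (Localization.AtPrime q) x := by
        rw [mul_comm, IsLocalization.mul_mk'_eq_mk'_of_mul, mul_one]
      rw [hmk]
      exact Ideal.mul_mem_left _ _ (Ideal.mem_map_of_mem _ hx)
    · rw [Ideal.map_le_iff_le_comap]
      intro x hx
      rw [Ideal.mem_comap, RingHom.mem_ker, hφ, Localization.localRingHom_to_map,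
        Ideal.Quotient.eq_zero_iff_mem.mpr hx, map_zero]
  have hIK : ∀ a ∈ I, algebraMap A q.ResidueField a = 0 := by
    intro a ha
    rw [Ideal.algebraMap_residueField_eq_zero]
    exact hIq ha
  let ψ₀ : A ⧸ I →+* q.ResidueField := Ideal.Quotient.lift I (algebraMap A q.ResidueField) hIK
  have hunits : ∀ y : P.primeCompl, IsUnit (ψ₀ y.1) := by
    rintro ⟨y, hy⟩
    obtain ⟨a, rfl⟩ := Ideal.Quotient.mk_surjective y
    rw [isUnit_iff_ne_zero]
    intro h0
    apply hy
    have : a ∈ q := by
      have h1 : algebraMap A q.ResidueField a = 0 := h0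
      rwa [Ideal.algebraMap_residueField_eq_zero] at h1
    rw [hq] at this
    exact this
  let ψ : Localization.AtPrime P →+* q.ResidueField := IsLocalization.lift hunits
  letI : Algebra (Localization.AtPrime P) q.ResidueField := ψ.toAlgebra
  have hψ : ∀ y, algebraMap (Localization.AtPrime P) q.ResidueField y = ψ y := fun y => rfl
  haveI : IsScalarTower (Localization.AtPrime q) (Localization.AtPrime P) q.ResidueField := by
    refine IsScalarTower.of_algebraMap_eq' ?_
    apply IsLocalization.ringHom_ext q.primeCompl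
    ext a
    simp only [RingHom.comp_apply]
    rw [hψ, hφ, Localization.localRingHom_to_map, IsLocalization.lift_eq]
    rfl
  have h₃ : maximalIdeal (Localization.AtPrime P) ≤
      RingHom.ker (algebraMap (Localization.AtPrime P) q.ResidueField) := by
    intro x hx
    obtain ⟨y, rfl⟩ := hsurj x
    haveI : IsLocalHom (algebraMap (Localization.AtPrime q) (Localization.AtPrime P)) :=
      IsLocalHom.of_surjective _ hsurj
    rw [RingHom.mem_ker,
      ← IsScalarTower.algebraMap_apply (Localization.AtPrime q) (Localization.AtPrime P)]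
    change residue _ y = 0
    rw [residue_eq_zero_iff]
    rw [mem_maximalIdeal, mem_nonunits_iff] at hx ⊢
    exact fun hu => hx (hu.map _)
  haveI : IsNoetherianRing A := Algebra.FiniteType.isNoetherianRing R A
  haveI : IsNoetherianRing (Localization.AtPrime q) :=
    IsLocalization.isNoetherianRing q.primeCompl _ inferInstance
  haveI : Algebra.FormallySmooth R (Localization.AtPrime q) := hsm
  haveI : Module.Finite (Localization.AtPrime q) Ω[Localization.AtPrime q⁄R] := inferInstance
  haveI : Module.Free (Localization.AtPrime q) Ω[Localization.AtPrime q⁄R] :=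
    Module.free_of_flat_of_isLocalRing
  have hfg : (RingHom.ker (algebraMap (Localization.AtPrime q) (Localization.AtPrime P))).FG :=
    IsNoetherian.noetherian _
  let Θ : q.ResidueField ⊗[A] Ω[A⁄R] ≃ₗ[q.ResidueField]
      q.ResidueField ⊗[Localization.AtPrime q] Ω[Localization.AtPrime q⁄R] :=
    (AlgebraTensorModule.cancelBaseChange A (Localization.AtPrime q) q.ResidueField
      q.ResidueField Ω[A⁄R]).symm ≪≫ₗ
    AlgebraTensorModule.congr (LinearEquiv.refl q.ResidueField q.ResidueField)
      (KaehlerDifferential.tensorKaehlerEquivOfFormallyEtale R A (Localization.AtPrime q))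
  have hΘ : ∀ a : A, Θ ((1 : q.ResidueField) ⊗ₜ[A] D R A a) =
      (1 : q.ResidueField) ⊗ₜ[Localization.AtPrime q]
        D R (Localization.AtPrime q) (algebraMap A (Localization.AtPrime q) a) := by
    intro a
    simp [Θ]
  have hS : Algebra.FormallySmooth R (Localization.AtPrime P) := hSm
  rw [Algebra.FormallySmooth.iff_injective_cotangentComplexBaseChange
    (Localization.AtPrime q) q.ResidueField hsurj hfg h₃] at hS
  have hmemI : ∀ a : I, algebraMap A (Localization.AtPrime q) a ∈
      RingHom.ker (algebraMap (Localization.AtPrime q) (Localization.AtPrime P)) := by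
    rw [hker]; exact fun a => Ideal.mem_map_of_mem _ a.2
  let w : I → q.ResidueField ⊗[Localization.AtPrime q]
      RingHom.ker (algebraMap (Localization.AtPrime q) (Localization.AtPrime P)) :=
    fun a => (1 : q.ResidueField) ⊗ₜ ⟨algebraMap A (Localization.AtPrime q) a, hmemI a⟩
  have hspanw : Submodule.span q.ResidueField (Set.range w) = ⊤ := by
    rw [eq_top_iff]
    rintro t' -
    induction t' using TensorProduct.induction_on with
    | zero => exact zero_mem _
    | tmul c x =>
      obtain ⟨x, hx⟩ := x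
      obtain ⟨a, ha, s', rfl⟩ := exists_of_localRingHom_eq_zero (Ideal.Quotient.mk I)
        Ideal.Quotient.mk_surjective P q hq x (RingHom.mem_ker.mp hx)
      rw [Ideal.mk_ker] at ha
      have hmk : (⟨IsLocalization.mk' (Localization.AtPrime q) a s', hx⟩ :
          RingHom.ker (algebraMap (Localization.AtPrime q) (Localization.AtPrime P))) =
          (IsLocalization.mk' (Localization.AtPrime q) 1 s') •
            ⟨algebraMap A (Localization.AtPrime q) a, hmemI ⟨a, ha⟩⟩ := by
        apply Subtype.ext
        simp only [SetLike.mk_smul_mk, smul_eq_mul]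
        rw [mul_comm, IsLocalization.mul_mk'_eq_mk'_of_mul, mul_one]
      have hcw : c ⊗ₜ[Localization.AtPrime q]
          (⟨IsLocalization.mk' (Localization.AtPrime q) a s', hx⟩ :
          RingHom.ker (algebraMap (Localization.AtPrime q) (Localization.AtPrime P))) =
          (c * algebraMap (Localization.AtPrime q) q.ResidueField
            (IsLocalization.mk' (Localization.AtPrime q) 1 s')) • w ⟨a, ha⟩ := by
        rw [hmk, ← TensorProduct.smul_tmul, TensorProduct.smul_tmul', smul_eq_mul, mul_one,
          Algebra.smul_def, mul_comm]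
      rw [hcw]
      exact Submodule.smul_mem _ _ (Submodule.subset_span ⟨_, rfl⟩)
    | add t₁ t₂ h₁ h₂ => exact add_mem h₁ h₂
  -- the key identity
  have hcw : ∀ a : I, cotangentComplexBaseChange R (Localization.AtPrime P) (Localization.AtPrime q)
      q.ResidueField (w a) = Θ ((1 : q.ResidueField) ⊗ₜ[A] D R A (a : A)) := by
    intro a
    rw [hΘ]
    simp only [w]
    rw [cotangentComplexBaseChange_tmul, one_smul, kerToTensor_apply]
  -- the family `w ∘ t`
  let a : ↥t → I := fun g => ⟨(g : A), htI g.2⟩
  have hwli : LinearIndependent q.ResidueField (w ∘ a) := by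
    apply LinearIndependent.of_comp (cotangentComplexBaseChange R (Localization.AtPrime P)
      (Localization.AtPrime q) q.ResidueField)
    have : ⇑(cotangentComplexBaseChange R (Localization.AtPrime P) (Localization.AtPrime q)
        q.ResidueField) ∘ (w ∘ a) = ⇑Θ.toLinearMap ∘
        (fun g : ↥t => (1 : q.ResidueField) ⊗ₜ[A] D R A (g : A)) := funext fun g => by
      simp only [Function.comp_apply]
      rw [hcw]
      rfl
    rw [this]
    exact hli.map' Θ.toLinearMap Θ.ker
  have hwsp : Submodule.span q.ResidueField (Set.range (w ∘ a)) = ⊤ := by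
    rw [eq_top_iff, ← hspanw, Submodule.span_le]
    rintro _ ⟨x, rfl⟩
    -- `w x` lies in the span since its image does and the map is injective
    have h1 := hspan x x.2
    have h2 : Θ ((1 : q.ResidueField) ⊗ₜ[A] D R A (x : A)) ∈ Submodule.map Θ.toLinearMap
        (Submodule.span q.ResidueField (Set.range
          (fun g : ↥t => (1 : q.ResidueField) ⊗ₜ[A] KaehlerDifferential.D R A (g : A)))) :=
      Submodule.mem_map_of_mem h1
    rw [Submodule.map_span, ← Set.range_comp] at h2
    have h3 : (⇑Θ.toLinearMap ∘ fun g : ↥t => (1 : q.ResidueField) ⊗ₜ[A] D R A (g : A)) =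
        ⇑(cotangentComplexBaseChange R (Localization.AtPrime P) (Localization.AtPrime q)
          q.ResidueField) ∘ (w ∘ a) := funext fun g => by
      simp only [Function.comp_apply]
      rw [hcw]
      rfl
    rw [h3, Set.range_comp, ← Submodule.map_span, ← hcw] at h2
    obtain ⟨y, hy, hyx⟩ := h2
    have := hS hyx
    rw [← this]
    exact hy
  let bk : Module.Basis ↥t q.ResidueField (q.ResidueField ⊗[Localization.AtPrime q]
      RingHom.ker (algebraMap (Localization.AtPrime q) (Localization.AtPrime P))) :=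
    Module.Basis.mk hwli (by rw [hwsp])
  haveI : Module.Finite (Localization.AtPrime q)
      (RingHom.ker (algebraMap (Localization.AtPrime q) (Localization.AtPrime P))) :=
    Module.Finite.of_fg hfg
  have h1 := IsLocalRing.span_eq_top_of_tmul_eq_basis (R := Localization.AtPrime q)
    (f := fun g : ↥t => (⟨algebraMap A (Localization.AtPrime q) (g : A), hmemI (a g)⟩ :
      RingHom.ker (algebraMap (Localization.AtPrime q) (Localization.AtPrime P)))) bk
    (fun i => by simp [bk, w, a])
  rw [← hker]
  have h2 := congrArg (Submodule.map (Submodule.subtype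
    (RingHom.ker (algebraMap (Localization.AtPrime q) (Localization.AtPrime P))))) h1
  rw [Submodule.map_span, Submodule.map_top, Submodule.range_subtype, ← Set.range_comp] at h2
  rw [← h2]
  congr 1
  ext y
  simp

-- ===== part NerB =====

open IsLocalRing TensorProduct KaehlerDifferential

section Transfer

variable {P : Type*} [CommRing P] {V : Type*} [AddCommGroup V] [Module P V]
  {S₁ S₂ : Type*} [CommRing S₁] [CommRing S₂] [Algebra P S₁] [Algebra P S₂] [Algebra S₁ S₂]
  [IsScalarTower P S₁ S₂]

/-- Independence of `1 ⊗ vᵢ` ascends along flat extensions of the coefficient ring. -/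
theorem li_of_flat [Module.Flat S₁ S₂] {ι : Type*} (v : ι → V)
    (h : LinearIndependent S₁ (fun i => (1 : S₁) ⊗ₜ[P] v i)) :
    LinearIndependent S₂ (fun i => (1 : S₂) ⊗ₜ[P] v i) := by
  have h1 := Module.Flat.linearIndependent_one_tmul (S := S₂) h
  let e := AlgebraTensorModule.cancelBaseChange P S₁ S₂ S₂ V
  have h2 := h1.map' e.toLinearMap e.ker
  have h3 : (⇑e.toLinearMap ∘ fun i => (1 : S₂) ⊗ₜ[S₁] ((1 : S₁) ⊗ₜ[P] v i)) =
      fun i => (1 : S₂) ⊗ₜ[P] v i := by
    funext i
    simp [e]
  rw [h3] at h2
  exact h2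

/-- Independence of `1 ⊗ vᵢ` descends along injective maps of the coefficient ring. -/
theorem li_of_injective (hinj : Function.Injective (algebraMap S₁ S₂)) {ι : Type*} (v : ι → V)
    (h : LinearIndependent S₂ (fun i => (1 : S₂) ⊗ₜ[P] v i)) :
    LinearIndependent S₁ (fun i => (1 : S₁) ⊗ₜ[P] v i) := by
  let τ : S₁ ⊗[P] V →ₗ[S₁] S₂ ⊗[P] V :=
    AlgebraTensorModule.map (Algebra.linearMap S₁ S₂) LinearMap.id
  apply LinearIndependent.of_comp τ
  have h1 : LinearIndependent S₁ (fun i => (1 : S₂) ⊗ₜ[P] v i) := by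
    refine LinearIndependent.restrict_scalars ?_ h
    intro a b hab
    apply hinj
    simpa [Algebra.smul_def] using hab
  have h3 : (⇑τ ∘ fun i => (1 : S₁) ⊗ₜ[P] v i) = fun i => (1 : S₂) ⊗ₜ[P] v i := by
    funext i
    simp [τ]
  rw [h3]
  exact h1

end Transfer

/-- Lifting independence from the residue field of a local ring. -/
theorem li_of_residue {P : Type u} [CommRing P] {V : Type u} [AddCommGroup V] [Module P V]
    {Λ : Type u} [CommRing Λ] [IsLocalRing Λ] [Algebra P Λ] [Module.Flat Λ (Λ ⊗[P] V)]
    {ι : Type u} (v : ι → V)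
    (h : LinearIndependent (ResidueField Λ) (fun i => (1 : ResidueField Λ) ⊗ₜ[P] v i)) :
    LinearIndependent Λ (fun i => (1 : Λ) ⊗ₜ[P] v i) := by
  apply Module.IsLocalRing.linearIndependent_of_flat
  let e := AlgebraTensorModule.cancelBaseChange P Λ (ResidueField Λ) (ResidueField Λ) V
  have h2 := h.map' e.symm.toLinearMap e.symm.ker
  have h3 : (⇑e.symm.toLinearMap ∘ fun i => (1 : ResidueField Λ) ⊗ₜ[P] v i) =
      (⇑(TensorProduct.mk Λ (ResidueField Λ) (Λ ⊗[P] V) 1) ∘ fun i => (1 : Λ) ⊗ₜ[P] v i) := by
    funext i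
    simp [e]
  rw [h3] at h2
  exact h2

section Conormal

variable (R : Type u) {P A : Type u} [CommRing R] [CommRing P] [CommRing A] [Algebra R P]
  [Algebra R A] [Algebra P A] [IsScalarTower R P A]
  (K : Type u) [Field K] [Algebra P K] [Algebra A K] [IsScalarTower P A K]

/-- The base change to `K` of the map on differentials. -/
noncomputable def mapK : K ⊗[P] Ω[P⁄R] →ₗ[K] K ⊗[A] Ω[A⁄R] :=
  (KaehlerDifferential.mapBaseChange R P A).baseChange K ∘ₗ
    (AlgebraTensorModule.cancelBaseChange P A K K Ω[P⁄R]).symm.toLinearMap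

theorem mapK_tmul (c : K) (ω : Ω[P⁄R]) :
    mapK R K (c ⊗ₜ[P] ω) = c ⊗ₜ[A] KaehlerDifferential.map R R P A ω := by
  simp [mapK]

theorem mapK_surjective (hsurj : Function.Surjective (algebraMap P A)) :
    Function.Surjective (mapK (P := P) (A := A) R K) := by
  unfold mapK
  rw [LinearMap.coe_comp]
  refine Function.Surjective.comp ?_ (LinearEquiv.surjective _)
  rw [LinearMap.baseChange_eq_ltensor]
  exact LinearMap.lTensor_surjective K (KaehlerDifferential.mapBaseChange_surjective R P A hsurj)

/-- The span of the differentials of the elements of the kernel. -/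
noncomputable def WK : Submodule K (K ⊗[P] Ω[P⁄R]) :=
  Submodule.span K {y | ∃ x ∈ RingHom.ker (algebraMap P A), y = (1 : K) ⊗ₜ[P] D R P x}

theorem ker_mapK (hsurj : Function.Surjective (algebraMap P A)) :
    LinearMap.ker (mapK (P := P) (A := A) R K) = WK (P := P) (A := A) R K := by
  apply le_antisymm
  · intro x hx
    rw [LinearMap.mem_ker] at hx
    let e := AlgebraTensorModule.cancelBaseChange P A K K Ω[P⁄R]
    -- an `A`-linear version of the first map of the conormal sequence
    let f₁ : A ⊗[P] ↥(RingHom.ker (algebraMap P A)) →ₗ[A] A ⊗[P] Ω[P⁄R] :=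
      LinearMap.liftBaseChange A (KaehlerDifferential.kerToTensor R P A)
    have hf₁ : ∀ (a : A) (y : ↥(RingHom.ker (algebraMap P A))),
        f₁ (a ⊗ₜ[P] y) = a ⊗ₜ[P] D R P (y : P) := by
      intro a y
      simp [f₁, TensorProduct.smul_tmul']
    have hexact : Function.Exact f₁ (KaehlerDifferential.mapBaseChange R P A) := by
      intro y
      constructor
      · intro hy
        obtain ⟨z, rfl⟩ :=
          (KaehlerDifferential.exact_kerCotangentToTensor_mapBaseChange R P A hsurj y).mp hy
        obtain ⟨z, rfl⟩ := Ideal.toCotangent_surjective _ z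
        refine ⟨(1 : A) ⊗ₜ[P] z, ?_⟩
        rw [hf₁, KaehlerDifferential.kerCotangentToTensor_toCotangent]
      · rintro ⟨w, rfl⟩
        induction w using TensorProduct.induction_on with
        | zero => simp
        | tmul a y =>
          rw [hf₁, KaehlerDifferential.mapBaseChange_tmul, KaehlerDifferential.map_D,
            RingHom.mem_ker.mp y.2, map_zero, smul_zero]
        | add w₁ w₂ h₁ h₂ => rw [map_add, map_add, h₁, h₂, add_zero]
    have hy : (KaehlerDifferential.mapBaseChange R P A).lTensor K (e.symm x) = 0 := by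
      have := hx
      simp only [mapK, LinearMap.coe_comp, Function.comp_apply, LinearEquiv.coe_coe] at this
      rw [LinearMap.baseChange_eq_ltensor] at this
      exact this
    have hex := lTensor_exact K hexact
      (KaehlerDifferential.mapBaseChange_surjective R P A hsurj)
    obtain ⟨z, hz⟩ := (hex (e.symm x)).mp hy
    have hxe : x = e (f₁.lTensor K z) := by
      rw [hz, LinearEquiv.apply_symm_apply]
    rw [hxe]
    clear hxe hz hy hx
    induction z using TensorProduct.induction_on with
    | zero => simp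
    | tmul c y =>
      rw [LinearMap.lTensor_tmul]
      induction y using TensorProduct.induction_on with
      | zero => simp
      | tmul a y =>
        rw [hf₁]
        have : e (c ⊗ₜ[A] (a ⊗ₜ[P] D R P (y : P))) = (a • c) • ((1 : K) ⊗ₜ[P] D R P (y : P)) := by
          simp [e, TensorProduct.smul_tmul']
        rw [this]
        exact Submodule.smul_mem _ _ (Submodule.subset_span ⟨y.1, y.2, rfl⟩)
      | add y₁ y₂ h₁ h₂ =>
        rw [map_add, tmul_add, map_add]
        exact add_mem h₁ h₂
    | add z₁ z₂ h₁ h₂ =>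
      rw [map_add, map_add]
      exact add_mem h₁ h₂
  · unfold WK
    rw [Submodule.span_le]
    rintro _ ⟨x, hx, rfl⟩
    rw [SetLike.mem_coe, LinearMap.mem_ker, mapK_tmul, KaehlerDifferential.map_D,
      RingHom.mem_ker.mp hx, map_zero, tmul_zero]

theorem finrank_WK_add (hsurj : Function.Surjective (algebraMap P A))
    [Module.Finite P Ω[P⁄R]] :
    Module.finrank K (WK (P := P) (A := A) R K) + Module.finrank K (K ⊗[A] Ω[A⁄R]) =
      Module.finrank K (K ⊗[P] Ω[P⁄R]) := by
  have h := LinearMap.finrank_range_add_finrank_ker (mapK (P := P) (A := A) R K)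
  rw [LinearMap.range_eq_top.mpr (mapK_surjective R K hsurj), finrank_top, ker_mapK R K hsurj] at h
  omega

end Conormal

/-- Rank of a base change through an intermediate ring over which the module becomes free. -/
theorem finrank_tensor_eq {A Λ K M : Type u} [CommRing A] [CommRing Λ] [Field K]
    [AddCommGroup M] [Module A M] [Algebra A Λ] [Algebra Λ K] [Algebra A K] [IsScalarTower A Λ K]
    [Module.Free Λ (Λ ⊗[A] M)] [Nontrivial Λ] :
    Module.finrank K (K ⊗[A] M) = Module.finrank Λ (Λ ⊗[A] M) := by
  let e := AlgebraTensorModule.cancelBaseChange A Λ K K M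
  rw [← e.finrank_eq]
  exact Module.finrank_baseChange (R := K) (S := Λ) (M' := Λ ⊗[A] M)

-- ===== part NerC =====

open IsLocalRing TensorProduct KaehlerDifferential

/-- Smoothness at a prime is invariant under algebra isomorphisms. -/
theorem isSmoothAt_comap_iff {R A B : Type u} [CommRing R] [CommRing A] [CommRing B]
    [Algebra R A] [Algebra R B] (e : A ≃ₐ[R] B) (p : Ideal B) [p.IsPrime] :
    Algebra.IsSmoothAt R (p.comap e.toRingEquiv) ↔ Algebra.IsSmoothAt R p := by
  refine Algebra.FormallySmooth.iff_of_equiv ?_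
  exact IsLocalization.algEquivOfAlgEquiv (Localization.AtPrime (p.comap e.toRingEquiv))
    (Localization.AtPrime p) e (e.toRingEquiv.map_primeCompl_comap_eq p)

/-- From generation in the localization to a statement in the ring. -/
theorem exists_mul_mem_of_map_eq {P : Type u} [CommRing P] (q : Ideal P) [q.IsPrime]
    (I : Ideal P) (t : Set P)
    (h : Ideal.map (algebraMap P (Localization.AtPrime q)) I =
      Ideal.span ((algebraMap P (Localization.AtPrime q)) '' t)) :
    ∀ x ∈ I, ∃ u, u ∉ q ∧ u * x ∈ Ideal.span t := by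
  intro x hx
  have h1 : algebraMap P (Localization.AtPrime q) x ∈
      Ideal.map (algebraMap P (Localization.AtPrime q)) (Ideal.span t) := by
    rw [Ideal.map_span, ← h]
    exact Ideal.mem_map_of_mem _ hx
  rw [IsLocalization.mem_map_algebraMap_iff q.primeCompl] at h1
  obtain ⟨⟨y, m⟩, hym⟩ := h1
  rw [← map_mul] at hym
  obtain ⟨c, hc⟩ := (IsLocalization.eq_iff_exists q.primeCompl _).mp hym
  refine ⟨c * m, ?_, ?_⟩
  · exact fun hcm => (q.primeCompl.mul_mem c.2 m.2) hcm
  · have : (c : P) * (m : P) * x = c * y := by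
      rw [mul_assoc, mul_comm (m : P) x]; exact hc
    rw [this]
    exact Ideal.mul_mem_left _ _ y.2

theorem map_eq_span_of_exists_mul_mem {P : Type u} [CommRing P] (q : Ideal P) [q.IsPrime]
    (I : Ideal P) (t : Set P) (ht : t ⊆ I)
    (h : ∀ x ∈ I, ∃ u, u ∉ q ∧ u * x ∈ Ideal.span t) :
    Ideal.map (algebraMap P (Localization.AtPrime q)) I =
      Ideal.span ((algebraMap P (Localization.AtPrime q)) '' t) := by
  rw [← Ideal.map_span]
  apply le_antisymm
  · rw [Ideal.map_le_iff_le_comap]
    intro x hx
    obtain ⟨u, hu, hux⟩ := h x hx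
    rw [Ideal.mem_comap]
    have hunit : IsUnit (algebraMap P (Localization.AtPrime q) u) :=
      IsLocalization.map_units (Localization.AtPrime q) (⟨u, hu⟩ : q.primeCompl)
    have h1 : algebraMap P (Localization.AtPrime q) (u * x) ∈
        Ideal.map (algebraMap P (Localization.AtPrime q)) (Ideal.span t) :=
      Ideal.mem_map_of_mem _ hux
    rw [map_mul] at h1
    exact (Ideal.unit_mul_mem_iff_mem _ hunit).mp h1
  · exact Ideal.map_mono (Ideal.span_le.mpr ht)

/-- The main commutative-algebra step. -/
theorem isSmoothAt_of_family {R P : Type u} [CommRing R] [IsRegularRing R] [CommRing P]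
    [Algebra R P] [Algebra.FiniteType R P] [Algebra.FormallySmooth R P]
    (I : Ideal P) (qP pP : Ideal P) [qP.IsPrime] [pP.IsPrime] (hqp : qP ≤ pP)
    (Q' : Ideal (P ⧸ I)) [Q'.IsPrime] (hQ' : qP = Q'.comap (Ideal.Quotient.mk I))
    (P' : Ideal (P ⧸ I)) [P'.IsPrime] (hP' : pP = P'.comap (Ideal.Quotient.mk I))
    (hsmQ : Algebra.IsSmoothAt R Q')
    (t : Finset P) (htI : (↑t : Set P) ⊆ (I : Set P))
    (hliq : LinearIndependent qP.ResidueField
      (fun g : ↥t => (1 : qP.ResidueField) ⊗ₜ[P] KaehlerDifferential.D R P (g : P)))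
    (hspq : ∀ x ∈ I, (1 : qP.ResidueField) ⊗ₜ[P] KaehlerDifferential.D R P x ∈
      Submodule.span qP.ResidueField (Set.range
        (fun g : ↥t => (1 : qP.ResidueField) ⊗ₜ[P] KaehlerDifferential.D R P (g : P))))
    (hlip : LinearIndependent pP.ResidueField
      (fun g : ↥t => (1 : pP.ResidueField) ⊗ₜ[P] KaehlerDifferential.D R P (g : P))) :
    Algebra.IsSmoothAt R P' := by
  classical
  haveI : IsNoetherianRing R := inferInstance
  have hsmooth : ∀ (r : Ideal P) [r.IsPrime], Algebra.IsSmoothAt R r := by
    intro r _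
    haveI : Algebra.FormallySmooth P (Localization.AtPrime r) := .of_isLocalization r.primeCompl
    exact Algebra.FormallySmooth.comp R P (Localization.AtPrime r)
  haveI := hsmooth qP
  haveI := hsmooth pP
  have hIq : I ≤ qP := by
    intro x hx
    rw [hQ', Ideal.mem_comap, Ideal.Quotient.eq_zero_iff_mem.mpr hx]
    exact zero_mem _
  -- generation at `q`
  have hgenq := map_eq_span_of_isSmoothAt R P I Q' qP hQ' hsmQ t htI hliq hspq
  have hq_mul := exists_mul_mem_of_map_eq qP I (↑t : Set P) hgenq
  -- the quotient by `J = (t)`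
  set J : Ideal P := Ideal.span (↑t : Set P) with hJ
  have hJI : J ≤ I := Ideal.span_le.mpr htI
  have hJp : J ≤ pP := hJI.trans (hIq.trans hqp)
  let P'' : Ideal (P ⧸ J) := pP.map (Ideal.Quotient.mk J)
  have hP''comap : P''.comap (Ideal.Quotient.mk J) = pP := by
    rw [Ideal.comap_map_of_surjective _ Ideal.Quotient.mk_surjective, ← RingHom.ker_eq_comap_bot,
      Ideal.mk_ker, sup_eq_left]
    exact hJp
  haveI : P''.IsPrime := by
    apply Ideal.map_isPrime_of_surjective Ideal.Quotient.mk_surjective
    rw [Ideal.mk_ker]; exact hJp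
  have hsmJ : Algebra.IsSmoothAt R P'' := by
    rw [Groth.Agent.Lib.Helper6.Jac.isSmoothAt_quotient_iff R P J P'' pP hP''comap.symm]
    refine ⟨t, Ideal.subset_span, ?_, hlip⟩
    rw [hJ, Ideal.map_span]
  haveI : Algebra.FinitePresentation R (P ⧸ J) := by
    haveI : Algebra.FiniteType R (P ⧸ J) :=
      Algebra.FiniteType.of_surjective (Ideal.Quotient.mkₐ R J) Ideal.Quotient.mk_surjective
    exact (Algebra.FinitePresentation.of_finiteType).mp inferInstance
  haveI : Algebra.IsSmoothAt R P'' := hsmJ
  haveI hreg : IsRegularLocalRing (Localization.AtPrime P'') :=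
    Groth.Agent.Lib.Helper6.SmReg.isRegularLocalRing_of_isSmoothAt (R := R) P''
  haveI : IsDomain (Localization.AtPrime P'') :=
    Groth.Agent.Lib.Helper5.isDomain_of_isRegularLocalRing _
  -- the domain argument
  have hp_mul : ∀ x ∈ I, ∃ w, w ∉ pP ∧ w * x ∈ J := by
    intro x hx
    obtain ⟨u, hu, hux⟩ := hq_mul x hx
    have hzero : algebraMap (P ⧸ J) (Localization.AtPrime P'') (Ideal.Quotient.mk J u) *
        algebraMap (P ⧸ J) (Localization.AtPrime P'') (Ideal.Quotient.mk J x) = 0 := by
      rw [← map_mul, ← map_mul, Ideal.Quotient.eq_zero_iff_mem.mpr hux, map_zero]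
    have hune : algebraMap (P ⧸ J) (Localization.AtPrime P'') (Ideal.Quotient.mk J u) ≠ 0 := by
      intro h0
      rw [IsLocalization.map_eq_zero_iff P''.primeCompl] at h0
      obtain ⟨⟨m, hm⟩, hmu⟩ := h0
      obtain ⟨w, rfl⟩ := Ideal.Quotient.mk_surjective m
      rw [← map_mul, Ideal.Quotient.eq_zero_iff_mem] at hmu
      have h1 : w * u ∈ qP := hIq (hJI hmu)
      have h2 : w ∈ qP := (Ideal.IsPrime.mem_or_mem ‹qP.IsPrime› h1).resolve_right hu
      apply hm
      change Ideal.Quotient.mk J w ∈ P''
      exact Ideal.mem_map_of_mem _ (hqp h2)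
    have hx0 := (mul_eq_zero.mp hzero).resolve_left hune
    rw [IsLocalization.map_eq_zero_iff P''.primeCompl] at hx0
    obtain ⟨⟨m, hm⟩, hmx⟩ := hx0
    obtain ⟨w, rfl⟩ := Ideal.Quotient.mk_surjective m
    rw [← map_mul, Ideal.Quotient.eq_zero_iff_mem] at hmx
    refine ⟨w, ?_, hmx⟩
    intro hw
    apply hm
    change Ideal.Quotient.mk J w ∈ P''
    exact Ideal.mem_map_of_mem _ hw
  have hgenp := map_eq_span_of_exists_mul_mem pP I (↑t : Set P) htI hp_mul
  rw [Groth.Agent.Lib.Helper6.Jac.isSmoothAt_quotient_iff R P I P' pP hP']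
  exact ⟨t, htI, hgenp, hlip⟩

-- ===== part NerD.0 =====

open IsLocalRing TensorProduct KaehlerDifferential

theorem main_aux {R Λ A P : Type u} [CommRing R] [IsRegularRing R]
    [CommRing Λ] [IsDomain Λ] [IsLocalRing Λ]
    [CommRing A] [Algebra R A] [Algebra A Λ]
    [CommRing P] [Algebra R P] [Algebra.FiniteType R P] [Algebra.FormallySmooth R P]
    [Module.Free P Ω[P⁄R]]
    [Algebra P A] [IsScalarTower R P A] [Algebra P Λ] [IsScalarTower P A Λ]
    (hsurj : Function.Surjective (algebraMap P A))
    [(RingHom.ker (algebraMap A Λ)).IsPrime]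
    (hq : Algebra.IsSmoothAt R (RingHom.ker (algebraMap A Λ)))
    (hfree : Module.Free Λ (Λ ⊗[A] Ω[A⁄R])) :
    Algebra.IsSmoothAt R ((maximalIdeal Λ).comap (algebraMap A Λ)) := by
  classical
  haveI : IsNoetherianRing R := inferInstance
  have hsurj' : Function.Surjective (IsScalarTower.toAlgHom R P A) := hsurj
  set I : Ideal P := RingHom.ker (IsScalarTower.toAlgHom R P A) with hIdef
  have hI : I = RingHom.ker (algebraMap P A) := rfl
  let e : (P ⧸ I) ≃ₐ[R] A := Ideal.quotientKerAlgEquivOfSurjective hsurj'
  have he : ∀ x : P, e (Ideal.Quotient.mk I x) = algebraMap P A x := fun x =>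
    Ideal.quotientKerAlgEquivOfSurjective_mk hsurj' x
  set qA : Ideal A := RingHom.ker (algebraMap A Λ) with hqA
  set pA : Ideal A := (maximalIdeal Λ).comap (algebraMap A Λ) with hpA
  set qP : Ideal P := RingHom.ker (algebraMap P Λ) with hqP
  set pP : Ideal P := (maximalIdeal Λ).comap (algebraMap P Λ) with hpP
  haveI : qP.IsPrime := RingHom.ker_isPrime _
  haveI : pP.IsPrime := Ideal.comap_isPrime _ _
  haveI : pA.IsPrime := Ideal.comap_isPrime _ _
  haveI : Nontrivial P := (algebraMap P Λ).domain_nontrivial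
  let Q' : Ideal (P ⧸ I) := qA.comap e.toRingEquiv
  let P' : Ideal (P ⧸ I) := pA.comap e.toRingEquiv
  have hQ' : qP = Q'.comap (Ideal.Quotient.mk I) := by
    ext x
    simp only [Q', Ideal.mem_comap, hqP, hqA, RingHom.mem_ker]
    change _ ↔ algebraMap A Λ (e (Ideal.Quotient.mk I x)) = 0
    rw [he, ← IsScalarTower.algebraMap_apply]
  have hP' : pP = P'.comap (Ideal.Quotient.mk I) := by
    ext x
    simp only [P', Ideal.mem_comap, hpP, hpA]
    change _ ↔ algebraMap A Λ (e (Ideal.Quotient.mk I x)) ∈ maximalIdeal Λ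
    rw [he, ← IsScalarTower.algebraMap_apply]
  have hqp : qP ≤ pP := by
    intro x hx
    rw [hqP, RingHom.mem_ker] at hx
    rw [hpP, Ideal.mem_comap, hx]
    exact zero_mem _
  have hsmQ : Algebra.IsSmoothAt R Q' := (isSmoothAt_comap_iff e qA).mpr hq
  -- the fields
  let ℓ := ResidueField Λ
  let L := FractionRing Λ
  haveI : IsScalarTower P A L := IsScalarTower.of_algebraMap_eq (fun x => by
    rw [IsScalarTower.algebraMap_apply P Λ L, IsScalarTower.algebraMap_apply A Λ L,
      IsScalarTower.algebraMap_apply P A Λ])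
  -- the dimension count
  have hℓ := finrank_WK_add (P := P) (A := A) R ℓ hsurj
  have hL := finrank_WK_add (P := P) (A := A) R L hsurj
  have h1 : Module.finrank ℓ (ℓ ⊗[A] Ω[A⁄R]) = Module.finrank Λ (Λ ⊗[A] Ω[A⁄R]) :=
    finrank_tensor_eq
  have h2 : Module.finrank L (L ⊗[A] Ω[A⁄R]) = Module.finrank Λ (Λ ⊗[A] Ω[A⁄R]) :=
    finrank_tensor_eq
  have h3 : Module.finrank ℓ (ℓ ⊗[P] Ω[P⁄R]) = Module.finrank P Ω[P⁄R] :=
    Module.finrank_baseChange
  have h4 : Module.finrank L (L ⊗[P] Ω[P⁄R]) = Module.finrank P Ω[P⁄R] :=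
    Module.finrank_baseChange
  have hc : Module.finrank ℓ (WK (P := P) (A := A) R ℓ) =
      Module.finrank L (WK (P := P) (A := A) R L) := by omega
  -- choice of the family `t`
  let w : I → ℓ ⊗[P] Ω[P⁄R] := fun x => (1 : ℓ) ⊗ₜ[P] D R P (x : P)
  have hWw : WK (P := P) (A := A) R ℓ = Submodule.span ℓ (Set.range w) := by
    unfold WK
    congr 1
    ext y
    constructor
    · rintro ⟨x, hx, rfl⟩
      exact ⟨⟨x, hx⟩, rfl⟩
    · rintro ⟨x, rfl⟩
      exact ⟨x.1, x.2, rfl⟩
  obtain ⟨κ', a, hainj, hsp, hli⟩ := exists_linearIndependent' ℓ w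
  haveI : Finite κ' := hli.finite_of_isNoetherian
  haveI : Fintype κ' := Fintype.ofFinite κ'
  let t : Finset P := Finset.univ.image (fun i => ((a i : I) : P))
  have htI : (↑t : Set P) ⊆ (I : Set P) := by
    intro x hx
    simp only [t, Finset.coe_image, Finset.coe_univ, Set.image_univ, Set.mem_range] at hx
    obtain ⟨i, rfl⟩ := hx
    exact (a i).2
  let e' : κ' ≃ ↥t := Equiv.ofBijective
    (fun i => ⟨((a i : I) : P), Finset.mem_image_of_mem _ (Finset.mem_univ i)⟩)
    ⟨fun i j hij => hainj (Subtype.ext (congrArg (fun z : ↥t => (z : P)) hij)), fun ⟨x, hx⟩ => by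
      simp only [t, Finset.mem_image, Finset.mem_univ, true_and] at hx
      obtain ⟨i, rfl⟩ := hx
      exact ⟨i, rfl⟩⟩
  let v : ↥t → Ω[P⁄R] := fun g => D R P (g : P)
  have hliℓ : LinearIndependent ℓ (fun g : ↥t => (1 : ℓ) ⊗ₜ[P] v g) := by
    rw [← linearIndependent_equiv e']
    exact hli
  have hcard : Fintype.card ↥t = Module.finrank ℓ (WK (P := P) (A := A) R ℓ) := by
    rw [hWw, ← hsp, finrank_span_eq_card hli]
    exact (Fintype.card_congr e').symm
  -- transfer to `L`
  have hliΛ : LinearIndependent Λ (fun g : ↥t => (1 : Λ) ⊗ₜ[P] v g) := li_of_residue v hliℓ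
  have hliL : LinearIndependent L (fun g : ↥t => (1 : L) ⊗ₜ[P] v g) :=
    li_of_flat (S₁ := Λ) (S₂ := L) v hliΛ
  have hspanL : Submodule.span L (Set.range (fun g : ↥t => (1 : L) ⊗ₜ[P] v g)) =
      WK (P := P) (A := A) R L := by
    apply Submodule.eq_of_le_of_finrank_eq
    · rw [Submodule.span_le]
      rintro _ ⟨g, rfl⟩
      exact Submodule.subset_span ⟨(g : P), htI g.2, rfl⟩
    · rw [finrank_span_eq_card hliL, hcard, hc]
  -- the residue field of `qP` inside `L`
  have hf₁ : qP ≤ RingHom.ker (algebraMap P L) := by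
    intro x hx
    rw [hqP, RingHom.mem_ker] at hx
    rw [RingHom.mem_ker, IsScalarTower.algebraMap_apply P Λ L, hx, map_zero]
  have hf₂ : qP.primeCompl ≤ (IsUnit.submonoid L).comap (algebraMap P L) := by
    intro x hx
    rw [Submonoid.mem_comap, IsUnit.mem_submonoid_iff, isUnit_iff_ne_zero,
      IsScalarTower.algebraMap_apply P Λ L]
    intro h0
    apply hx
    rw [hqP, SetLike.mem_coe, RingHom.mem_ker]
    exact (IsFractionRing.injective Λ L) (h0.trans (map_zero _).symm)
  let φq : qP.ResidueField →+* L := Ideal.ResidueField.lift qP (algebraMap P L) hf₁ hf₂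
  letI : Algebra qP.ResidueField L := φq.toAlgebra
  haveI : IsScalarTower P qP.ResidueField L := IsScalarTower.of_algebraMap_eq (fun x =>
    (Ideal.ResidueField.lift_algebraMap qP (algebraMap P L) hf₁ hf₂ x).symm)
  have hliq : LinearIndependent qP.ResidueField
      (fun g : ↥t => (1 : qP.ResidueField) ⊗ₜ[P] v g) :=
    li_of_injective (S₁ := qP.ResidueField) (S₂ := L) φq.injective v hliL
  have hspq : ∀ x ∈ I, (1 : qP.ResidueField) ⊗ₜ[P] D R P x ∈
      Submodule.span qP.ResidueField (Set.range
        (fun g : ↥t => (1 : qP.ResidueField) ⊗ₜ[P] v g)) := by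
    intro x hx
    by_contra hnot
    let v' : Option ↥t → Ω[P⁄R] := fun o => o.elim (D R P x) v
    have hli' : LinearIndependent qP.ResidueField
        (fun o : Option ↥t => (1 : qP.ResidueField) ⊗ₜ[P] v' o) := by
      rw [linearIndependent_option]
      exact ⟨hliq, hnot⟩
    have hliL' : LinearIndependent L (fun o : Option ↥t => (1 : L) ⊗ₜ[P] v' o) :=
      li_of_flat (S₁ := qP.ResidueField) (S₂ := L) v' hli'
    rw [linearIndependent_option] at hliL'
    apply hliL'.2
    change (1 : L) ⊗ₜ[P] D R P x ∈ Submodule.span L (Set.range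
      (fun g : ↥t => (1 : L) ⊗ₜ[P] v g))
    rw [hspanL]
    exact Submodule.subset_span ⟨x, hx, rfl⟩
  -- the residue field of `pP` inside `ℓ`
  have hg₁ : pP ≤ RingHom.ker (algebraMap P ℓ) := by
    intro x hx
    rw [RingHom.mem_ker, IsScalarTower.algebraMap_apply P Λ ℓ]
    exact (residue_eq_zero_iff _).mpr hx
  have hg₂ : pP.primeCompl ≤ (IsUnit.submonoid ℓ).comap (algebraMap P ℓ) := by
    intro x hx
    rw [Submonoid.mem_comap, IsUnit.mem_submonoid_iff, isUnit_iff_ne_zero,
      IsScalarTower.algebraMap_apply P Λ ℓ]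
    intro h0
    exact hx ((residue_eq_zero_iff _).mp h0)
  let φp : pP.ResidueField →+* ℓ := Ideal.ResidueField.lift pP (algebraMap P ℓ) hg₁ hg₂
  letI : Algebra pP.ResidueField ℓ := φp.toAlgebra
  haveI : IsScalarTower P pP.ResidueField ℓ := IsScalarTower.of_algebraMap_eq (fun x =>
    (Ideal.ResidueField.lift_algebraMap pP (algebraMap P ℓ) hg₁ hg₂ x).symm)
  have hlip : LinearIndependent pP.ResidueField
      (fun g : ↥t => (1 : pP.ResidueField) ⊗ₜ[P] v g) :=
    li_of_injective (S₁ := pP.ResidueField) (S₂ := ℓ) φp.injective v hliℓ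
  -- conclusion
  have hfin := isSmoothAt_of_family (R := R) I qP pP hqp Q' hQ' P' hP' hsmQ t htI hliq hspq hlip
  exact (isSmoothAt_comap_iff e pA).mp hfin

-- ===== part NerD.1 =====

open IsLocalRing TensorProduct KaehlerDifferential

/-- Néron's lemma: if `Ω_{A/R} ⊗ Λ` is free and `A` is smooth at the kernel of `A → Λ`, then it is
smooth at the preimage of the maximal ideal. -/
theorem main {R Λ A : Type u} [CommRing R] [IsRegularRing R] [CommRing Λ] [IsDomain Λ]
    [IsLocalRing Λ]
    [CommRing A] [Algebra R A] [Algebra.FiniteType R A] [Algebra A Λ]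
    [(RingHom.ker (algebraMap A Λ)).IsPrime]
    (hq : Algebra.IsSmoothAt R (RingHom.ker (algebraMap A Λ)))
    (hfree : Module.Free Λ (Λ ⊗[A] Ω[A⁄R])) :
    Algebra.IsSmoothAt R ((IsLocalRing.maximalIdeal Λ).comap (algebraMap A Λ)) := by
  obtain ⟨n, f, hf⟩ :=
    (Algebra.FiniteType.iff_quotient_mvPolynomial'' (R := R) (S := A)).mp inferInstance
  letI : Algebra (MvPolynomial (Fin n) R) A := f.toRingHom.toAlgebra
  haveI : IsScalarTower R (MvPolynomial (Fin n) R) A :=
    IsScalarTower.of_algebraMap_eq' f.comp_algebraMap.symm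
  letI : Algebra (MvPolynomial (Fin n) R) Λ :=
    ((algebraMap A Λ).comp (algebraMap (MvPolynomial (Fin n) R) A)).toAlgebra
  haveI : IsScalarTower (MvPolynomial (Fin n) R) A Λ :=
    IsScalarTower.of_algebraMap_eq (fun _ => rfl)
  exact main_aux (P := MvPolynomial (Fin n) R) hf hq hfree

end Groth.Agent.Helper13Neron
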