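import Groth.Agent.Lib.Helper28Catenary
import Mathlib.RingTheory.GradedAlgebra.Radical
import Mathlib.RingTheory.MvPolynomial.Homogeneous

/-!
# Helper28ProjNormal: homogeneous minimal primes, CM quotient by complete intersection,
zero-divisors of a complete intersection lie in minimal primes.
-/

set_option autoImplicit false
universe u v w u' v'

namespace Groth.Agent.Lib.Helper28
open RingTheory.Sequence CategoryTheory Abelian TensorProduct
open scoped Pointwise

section HomogeneousPrimes

attribute [local instance] MvPolynomial.gradedAlgebra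

variable {k : Type u} [Field k] {σ : Type v}

/-- Elements of a proper homogeneous ideal of `k[x]` have zero constant coefficient. -/
theorem constantCoeff_eq_zero_of_mem_of_isHomogeneous {P : Ideal (MvPolynomial σ k)}
    (hP : P.IsHomogeneous (MvPolynomial.homogeneousSubmodule σ k)) (hne : P ≠ ⊤)
    {x : MvPolynomial σ k} (hx : x ∈ P) : MvPolynomial.constantCoeff x = 0 := by
  by_contra hc
  have h0 := MvPolynomial.homogeneousComponent_mem_of_mem hP hx 0
  rw [MvPolynomial.homogeneousComponent_zero] at h0
  apply hne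
  apply Ideal.eq_top_of_isUnit_mem _ h0
  have : IsUnit (MvPolynomial.coeff 0 x) := IsUnit.mk0 _ hc
  exact this.map MvPolynomial.C

/-- Minimal primes over a homogeneous ideal are homogeneous. -/
theorem isHomogeneous_of_mem_minimalPrimes {J P : Ideal (MvPolynomial σ k)}
    (hJ : J.IsHomogeneous (MvPolynomial.homogeneousSubmodule σ k)) (hP : P ∈ J.minimalPrimes) :
    P.IsHomogeneous (MvPolynomial.homogeneousSubmodule σ k) := by
  have hprime : P.IsPrime := hP.1.1
  have h1 : ((P.homogeneousCore (MvPolynomial.homogeneousSubmodule σ k)).toIdeal).IsPrime :=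
    Ideal.IsPrime.homogeneousCore hprime
  have h2 : J ≤ (P.homogeneousCore (MvPolynomial.homogeneousSubmodule σ k)).toIdeal := by
    rw [← hJ.toIdeal_homogeneousCore_eq_self]
    exact Ideal.homogeneousCore_mono _ hP.1.2
  have h3 := Ideal.toIdeal_homogeneousCore_le (MvPolynomial.homogeneousSubmodule σ k) P
  have h4 : P ≤ (P.homogeneousCore (MvPolynomial.homogeneousSubmodule σ k)).toIdeal :=
    hP.2 ⟨h1, h2⟩ h3
  have h5 : (P.homogeneousCore (MvPolynomial.homogeneousSubmodule σ k)).toIdeal = P :=
    le_antisymm h3 h4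
  rw [← h5]
  exact (P.homogeneousCore (MvPolynomial.homogeneousSubmodule σ k)).isHomogeneous

theorem constantCoeff_eq_zero_of_mem_minimalPrimes {J P : Ideal (MvPolynomial σ k)}
    (hJ : J.IsHomogeneous (MvPolynomial.homogeneousSubmodule σ k)) (hP : P ∈ J.minimalPrimes)
    {x : MvPolynomial σ k} (hx : x ∈ P) : MvPolynomial.constantCoeff x = 0 :=
  constantCoeff_eq_zero_of_mem_of_isHomogeneous (isHomogeneous_of_mem_minimalPrimes hJ hP)
    hP.1.1.ne_top hx

/-- The ideal generated by homogeneous polynomials is homogeneous. -/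
theorem isHomogeneous_span_range {r : ℕ} (f : Fin r → MvPolynomial σ k) (d : Fin r → ℕ)
    (hf : ∀ i, (f i).IsHomogeneous (d i)) :
    (Ideal.span (Set.range f)).IsHomogeneous (MvPolynomial.homogeneousSubmodule σ k) := by
  apply Ideal.homogeneous_span
  rintro x ⟨i, rfl⟩
  exact ⟨d i, hf i⟩

end HomogeneousPrimes

section CIQuot

variable {A : Type u} [CommRing A] [hA : LocCoh.IsCohenMacaulayRing A]

/-- Local statement: the local rings of `A/(xs)` for `A` Cohen–Macaulay and `ht (xs) ≥ length xs`
are Cohen–Macaulay of dimension `ht q - length xs`. -/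
theorem isCohenMacaulayLocalRing_localization_quotient_ofList (xs : List A) (I : Ideal A)
    (hI : I = Ideal.ofList xs) (h : (xs.length : ℕ∞) ≤ I.height)
    (Q : Ideal (A ⧸ I)) [Q.IsPrime] :
    LocCoh.IsCohenMacaulayLocalRing (Localization.AtPrime Q) ∧
      Q.height + xs.length = (Q.comap (Ideal.Quotient.mk I)).height := by
  have hq : (Q.comap (Ideal.Quotient.mk I)).IsPrime := Ideal.comap_isPrime _ _
  set q := Q.comap (Ideal.Quotient.mk I) with hqdef
  have hIq : I ≤ q := by
    intro x hx
    rw [hqdef, Ideal.mem_comap, Ideal.Quotient.eq_zero_iff_mem.mpr hx]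
    exact Q.zero_mem
  have hR := hA.isCohenMacaulayLocalRing_localization q
  let e := localizationQuotientEquiv I Q
  set ys := xs.map (algebraMap A (Localization.AtPrime q)) with hys
  have hmapI : I.map (algebraMap A (Localization.AtPrime q)) = Ideal.ofList ys := by
    rw [hys, hI, Ideal.map_ofList]
  have hmem : ∀ y ∈ ys, y ∈ IsLocalRing.maximalIdeal (Localization.AtPrime q) := by
    intro y hy
    obtain ⟨a, ha, rfl⟩ := List.mem_map.mp hy
    rw [← Localization.AtPrime.map_eq_maximalIdeal]
    have haI : a ∈ I := by rw [hI]; exact Ideal.subset_span ha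
    exact Ideal.mem_map_of_mem _ (hIq haI)
  have hht : (ys.length : ℕ∞) ≤ (Ideal.ofList ys).height := by
    rw [hys, List.length_map, ← Ideal.map_ofList,
      ← IsLocalization.height_under q.primeCompl, ← hI]
    exact le_trans h (Ideal.height_mono Ideal.le_comap_map)
  obtain ⟨hreg, hCM, hdim⟩ := isWeaklyRegular_of_length_le_height ys hmem hht
  have hne : I.map (algebraMap A (Localization.AtPrime q)) ≠ ⊤ := by
    intro htop
    have hle : I.map (algebraMap A (Localization.AtPrime q)) ≤
        IsLocalRing.maximalIdeal (Localization.AtPrime q) := by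
      rw [hmapI]; exact ofList_le_of_forall_mem hmem
    rw [htop] at hle
    exact (IsLocalRing.maximalIdeal.isMaximal _).ne_top (top_le_iff.mp hle)
  have hlocT : IsLocalRing (Localization.AtPrime q ⧸ I.map (algebraMap A (Localization.AtPrime q))) :=
    Groth.Agent.Lib.Helper5.isLocalRing_quotient hne
  have eL : (Localization.AtPrime q ⧸ (Ideal.ofList ys • ⊤ :
      Submodule (Localization.AtPrime q) (Localization.AtPrime q))) ≃ₗ[Localization.AtPrime q]
      (Localization.AtPrime q ⧸ I.map (algebraMap A (Localization.AtPrime q))) :=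
    Submodule.quotEquivOfEq _ _ (by rw [smul_eq_mul, Ideal.mul_top, hmapI])
  unfold LocCoh.IsCohenMacaulayModule at hCM
  rw [Module.supportDim_eq_of_equiv eL, Module.supportDim_quotient_eq_ringKrullDim] at hCM hdim
  have hdepth : LocCoh.depth (Localization.AtPrime q) (Localization.AtPrime q ⧸ (Ideal.ofList ys • ⊤ :
      Submodule (Localization.AtPrime q) (Localization.AtPrime q))) =
      LocCoh.depth (Localization.AtPrime q ⧸ I.map (algebraMap A (Localization.AtPrime q)))
        (Localization.AtPrime q ⧸ I.map (algebraMap A (Localization.AtPrime q))) := by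
    rw [depth_quotient_self_eq]
    exact idealDepth_congr eL _
  rw [hdepth] at hCM
  have hTCM : LocCoh.IsCohenMacaulayLocalRing
      (Localization.AtPrime q ⧸ I.map (algebraMap A (Localization.AtPrime q))) :=
    { supportDim_eq_depth := by rw [Module.supportDim_self_eq_ringKrullDim]; exact hCM }
  refine ⟨isCohenMacaulayLocalRing_of_ringEquiv e.symm, ?_⟩
  rw [← ringKrullDim_eq_of_ringEquiv e,
    IsLocalization.AtPrime.ringKrullDim_eq_height Q (Localization.AtPrime Q),
    IsLocalization.AtPrime.ringKrullDim_eq_height q (Localization.AtPrime q), hys,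
    List.length_map] at hdim
  have : ((Q.height + (xs.length : ℕ∞) : ℕ∞) : WithBot ℕ∞) = ((q.height : ℕ∞) : WithBot ℕ∞) := by
    rw [← hdim]; rfl
  exact WithBot.coe_injective this

/-- The quotient of a Cohen–Macaulay ring by `xs` with `ht (xs) ≥ length xs` is Cohen–Macaulay. -/
theorem isCohenMacaulayRing_quotient_of_eq_ofList (xs : List A) (I : Ideal A)
    (hI : I = Ideal.ofList xs) (h : (xs.length : ℕ∞) ≤ I.height) :
    LocCoh.IsCohenMacaulayRing (A ⧸ I) ∧
      ∀ (Q : Ideal (A ⧸ I)) [Q.IsPrime],
        Q.height + xs.length = (Q.comap (Ideal.Quotient.mk I)).height := by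
  have hN : IsNoetherianRing A := inferInstance
  refine ⟨{ isCohenMacaulayLocalRing_localization := fun Q hQ =>
    (isCohenMacaulayLocalRing_localization_quotient_ofList xs I hI h Q).1 }, fun Q hQ =>
    (isCohenMacaulayLocalRing_localization_quotient_ofList xs I hI h Q).2⟩

end CIQuot

section UnmixedMin

variable {A : Type u} [CommRing A] [hA : LocCoh.IsCohenMacaulayRing A]

/-- In a Cohen–Macaulay ring, the associated primes of `A/(xs)` with `ht (xs) = length xs` are
minimal over `(xs)`. -/
theorem mem_minimalPrimes_of_mem_associatedPrimes_quot_ofList (xs : List A)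
    (h : (Ideal.ofList xs).height = xs.length) {P : Ideal A}
    (hP : P ∈ associatedPrimes A (A ⧸ (Ideal.ofList xs • ⊤ : Submodule A A))) :
    P ∈ (Ideal.ofList xs).minimalPrimes := by
  have hPp : P.IsPrime := hP.isPrime
  have hht := height_eq_length_of_mem_associatedPrimes_quot_ofList xs (le_of_eq h.symm) hP
  have hJP : Ideal.ofList xs ≤ P := by
    intro x hx
    apply IsAssociatedPrime.annihilator_le hP
    rw [Submodule.mem_annihilator]
    intro z _
    obtain ⟨a, rfl⟩ := Submodule.Quotient.mk_surjective _ z
    rw [← Submodule.Quotient.mk_smul, Submodule.Quotient.mk_eq_zero]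
    exact Submodule.smul_mem_smul hx Submodule.mem_top
  obtain ⟨P', hP', hP'le⟩ := Ideal.exists_minimalPrimes_le hJP
  have hP'p : P'.IsPrime := hP'.1.1
  have h1 : (Ideal.ofList xs).height ≤ P'.height := Ideal.height_mono hP'.1.2
  have h2 : P.height ≤ P'.height := by rw [hht, ← h]; exact h1
  have hN : IsNoetherianRing A := inferInstance
  have : P' = P := Ideal.eq_of_le_of_height_le P' hP'le h2
  rw [← this]
  exact hP'

/-- Zero divisors modulo `(xs)` lie in minimal primes of `(xs)`. -/
theorem exists_mem_minimalPrimes_of_mul_mem (xs : List A)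
    (h : (Ideal.ofList xs).height = xs.length) {s g : A}
    (hsg : s * g ∈ Ideal.ofList xs) (hg : g ∉ Ideal.ofList xs) :
    ∃ P ∈ (Ideal.ofList xs).minimalPrimes, s ∈ P := by
  have hN : IsNoetherianRing A := inferInstance
  have hsm : (Ideal.ofList xs • ⊤ : Submodule A A) = Ideal.ofList xs := by
    rw [smul_eq_mul, Ideal.mul_top]
  set z : A ⧸ (Ideal.ofList xs • ⊤ : Submodule A A) := Submodule.Quotient.mk g with hz
  have hz0 : z ≠ 0 := by
    intro h0
    rw [hz, Submodule.Quotient.mk_eq_zero, hsm] at h0
    exact hg h0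
  obtain ⟨P, hPass, hPle⟩ := exists_le_isAssociatedPrime_of_isNoetherianRing A z hz0
  refine ⟨P, mem_minimalPrimes_of_mem_associatedPrimes_quot_ofList xs h hPass, ?_⟩
  apply hPle
  rw [Submodule.mem_colon_singleton, Submodule.mem_bot, hz, ← Submodule.Quotient.mk_smul,
    Submodule.Quotient.mk_eq_zero, hsm, smul_eq_mul]
  exact hsg

end UnmixedMin

section KillAll

variable {k : Type u} [CommRing k] (m : ℕ)

theorem killFirst_self_apply (x : MvPolynomial (Fin m) k) :
    killFirst (k := k) m m x = MvPolynomial.C (MvPolynomial.constantCoeff x) := by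
  have h : (fun j : Fin m => if (j : ℕ) < m then (0 : MvPolynomial (Fin m) k)
      else MvPolynomial.X j) = fun _ => 0 := by
    funext j
    rw [if_pos j.2]
  unfold killFirst
  rw [h, MvPolynomial.aeval_zero']
  rfl

theorem mem_ker_killFirst_self_iff (x : MvPolynomial (Fin m) k) :
    x ∈ RingHom.ker (killFirst (k := k) m m) ↔ MvPolynomial.constantCoeff x = 0 := by
  rw [RingHom.mem_ker, killFirst_self_apply]
  constructor
  · intro h
    exact MvPolynomial.C_injective _ _ (by rw [h, map_zero])
  · intro h
    rw [h, map_zero]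

end KillAll

end Groth.Agent.Lib.Helper28
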