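import Groth.Agent.Lib.Helper28Hypersurface

/-!
# Lifting Serre's condition from `A/tA` to `A` (helper28)

* `depth_quotient_span_singleton_add_one`: `depth (R/x) + 1 = depth R` as rings;
* `hasSk_self_iff_enat`: `(S_k)` for a ring in terms of `min k (ht p) ≤ depth A_p` in `ℕ∞`;
* `min_succ_height_le_depth_localization_of_hasSk_quotient`;
* `depth_localization_le_depth_localization_add_height`: `depth A_q ≤ depth A_p + ht(q/p)`;
* `hasSk_of_hasSk_quotient_span_singleton`.
-/
set_option autoImplicit false
universe u v w u' v'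

namespace Groth.Agent.Lib.Helper28
open RingTheory.Sequence CategoryTheory Abelian TensorProduct
open scoped Pointwise

section QuotRegLocal

variable {R : Type u} [CommRing R] [IsNoetherianRing R] [IsLocalRing R]

/-- `depth (R/x) + 1 = depth R` for a regular element `x` of the maximal ideal, both as rings. -/
theorem depth_quotient_span_singleton_add_one (x : R) (hx : x ∈ IsLocalRing.maximalIdeal R)
    (hreg : IsSMulRegular R x) [IsLocalRing (R ⧸ Ideal.span {x})] :
    LocCoh.depth (R ⧸ Ideal.span {x}) (R ⧸ Ideal.span {x}) + 1 = LocCoh.depth R R := by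
  have hlochom : IsLocalHom (algebraMap R (R ⧸ Ideal.span {x})) :=
    IsLocalHom.of_surjective _ Ideal.Quotient.mk_surjective
  rw [← depth_eq_depth_of_isLocalHom_of_finite (A := R) (B := R ⧸ Ideal.span {x})
    (M := R ⧸ Ideal.span {x})]
  have hmM : IsLocalRing.maximalIdeal R • (⊤ : Submodule R R) ≠ ⊤ := maximalIdeal_smul_top_ne_top
  have hI : (x • ⊤ : Submodule R R) = Ideal.span {x} := by
    rw [← Submodule.ideal_span_singleton_smul, smul_eq_mul, Ideal.mul_top]
  let e : QuotSMulTop x R ≃ₗ[R] (R ⧸ Ideal.span {x}) := Submodule.quotEquivOfEq _ _ hI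
  unfold LocCoh.depth
  rw [← idealDepth_congr e]
  exact idealDepth_quotSMulTop_add_one (IsLocalRing.maximalIdeal R) R hmM x hx hreg

/-- Serre's condition lifts from `R/x` with a gain of one. -/
theorem min_succ_le_depth_of_quotient (k : ℕ) (x : R) (hx : x ∈ IsLocalRing.maximalIdeal R)
    (hreg : IsSMulRegular R x) [IsLocalRing (R ⧸ Ideal.span {x})]
    (h : min (k : WithBot ℕ∞) (ringKrullDim (R ⧸ Ideal.span {x})) ≤
      ((LocCoh.depth (R ⧸ Ideal.span {x}) (R ⧸ Ideal.span {x}) : ℕ∞) : WithBot ℕ∞)) :
    min ((k + 1 : ℕ) : WithBot ℕ∞) (ringKrullDim R) ≤ ((LocCoh.depth R R : ℕ∞) : WithBot ℕ∞) := by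
  have h1 := depth_quotient_span_singleton_add_one x hx hreg
  have h2 := ringKrullDim_quotient_span_singleton_succ_eq_ringKrullDim hreg hx
  rw [← h1, ← h2]
  push_cast
  rw [min_add_add_right]
  exact add_le_add_left h 1

end QuotRegLocal

section SkLift

variable {A : Type u} [CommRing A] [IsNoetherianRing A]

omit [IsNoetherianRing A] in
/-- Serre's condition `(S_k)` in ring form. -/
theorem hasSk_self_iff_enat (k : ℕ) :
    LocCoh.HasSk k A A ↔ ∀ (p : Ideal A) [p.IsPrime],
      min (k : ℕ∞) p.height ≤ LocCoh.depth (Localization.AtPrime p) (Localization.AtPrime p) := by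
  rw [hasSk_self_iff]
  refine forall_congr' fun p => forall_congr' fun hp => ?_
  rw [show ((k : ℕ) : WithBot ℕ∞) = (((k : ℕ) : ℕ∞) : WithBot ℕ∞) from rfl, ← WithBot.coe_min,
    WithBot.coe_le_coe]

/-- If `A/tA` satisfies `(S_k)`, then at primes `q ∋ t` the depth of `A_q` is at least
`min(k+1, ht q)`. -/
theorem min_succ_height_le_depth_localization_of_hasSk_quotient (k : ℕ) (t : A)
    (hreg : IsSMulRegular A t)
    (hS : LocCoh.HasSk k (A ⧸ Ideal.span {t}) (A ⧸ Ideal.span {t}))
    (q : Ideal A) [hq : q.IsPrime] (htq : t ∈ q) :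
    min ((k + 1 : ℕ) : ℕ∞) q.height ≤
      LocCoh.depth (Localization.AtPrime q) (Localization.AtPrime q) := by
  have hIq : Ideal.span {t} ≤ q := (Ideal.span_singleton_le_iff_mem q).mpr htq
  have hqbar : (q.map (Ideal.Quotient.mk (Ideal.span {t}))).IsPrime :=
    Ideal.map_isPrime_of_surjective Ideal.Quotient.mk_surjective (by rwa [Ideal.mk_ker])
  have hcomap : (q.map (Ideal.Quotient.mk (Ideal.span {t}))).comap (Ideal.Quotient.mk (Ideal.span {t})) = q := by
    rw [Ideal.comap_map_of_surjective _ Ideal.Quotient.mk_surjective, ← RingHom.ker_eq_comap_bot,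
      Ideal.mk_ker, sup_eq_left]
    exact hIq
  -- transport along `hcomap`
  have transport : ∀ (q' : Ideal A) [q'.IsPrime], q' = q →
      min ((k + 1 : ℕ) : ℕ∞) q'.height ≤
        LocCoh.depth (Localization.AtPrime q') (Localization.AtPrime q') →
      min ((k + 1 : ℕ) : ℕ∞) q.height ≤
        LocCoh.depth (Localization.AtPrime q) (Localization.AtPrime q) := by
    intro q' _ e h
    subst e
    exact h
  refine transport _ hcomap ?_
  set qbar : Ideal (A ⧸ Ideal.span {t}) := q.map (Ideal.Quotient.mk (Ideal.span {t})) with hqbardef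
  set q' : Ideal A := qbar.comap (Ideal.Quotient.mk (Ideal.span {t})) with hq'
  set R := Localization.AtPrime q' with hR
  set x : R := algebraMap A R t with hx
  have htq' : t ∈ q' := by rw [hcomap]; exact htq
  have hxm : x ∈ IsLocalRing.maximalIdeal R := by
    rw [← Localization.AtPrime.map_eq_maximalIdeal]
    exact Ideal.mem_map_of_mem _ htq'
  have hregx : IsSMulRegular R x := hreg.of_flat
  have hmapI : (Ideal.span {t}).map (algebraMap A R) = Ideal.span {x} := by
    rw [Ideal.map_span, Set.image_singleton]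
  let e1 : Localization.AtPrime qbar ≃+* (R ⧸ (Ideal.span {t}).map (algebraMap A R)) :=
    localizationQuotientEquiv (Ideal.span {t}) qbar
  let e2 : (R ⧸ (Ideal.span {t}).map (algebraMap A R)) ≃+* (R ⧸ Ideal.span {x}) :=
    Ideal.quotEquivOfEq hmapI
  let e := e1.trans e2
  have hloc : IsLocalRing (R ⧸ Ideal.span {x}) := e.isLocalRing
  have hSq := (hasSk_self_iff_enat k).mp hS qbar
  have h : min (k : WithBot ℕ∞) (ringKrullDim (R ⧸ Ideal.span {x})) ≤
      ((LocCoh.depth (R ⧸ Ideal.span {x}) (R ⧸ Ideal.span {x}) : ℕ∞) : WithBot ℕ∞) := by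
    rw [← ringKrullDim_eq_of_ringEquiv e, ← depth_self_eq_of_ringEquiv e,
      IsLocalization.AtPrime.ringKrullDim_eq_height qbar (Localization.AtPrime qbar)]
    rw [show ((k : ℕ) : WithBot ℕ∞) = (((k : ℕ) : ℕ∞) : WithBot ℕ∞) from rfl, ← WithBot.coe_min,
      WithBot.coe_le_coe]
    exact hSq
  have key := min_succ_le_depth_of_quotient k x hxm hregx h
  rw [IsLocalization.AtPrime.ringKrullDim_eq_height q' R] at key
  rw [show (((k + 1 : ℕ) : ℕ) : WithBot ℕ∞) = (((k + 1 : ℕ) : ℕ∞) : WithBot ℕ∞) from rfl,
    ← WithBot.coe_min, WithBot.coe_le_coe] at key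
  exact key

end SkLift

section SkLift2

variable {A : Type u} [CommRing A] [IsNoetherianRing A]

/-- For primes `p ≤ q`: `depth A_q ≤ depth A_p + ht(q/p)`. -/
theorem depth_localization_le_depth_localization_add_height (p q : Ideal A) [p.IsPrime]
    [q.IsPrime] (hpq : p ≤ q) :
    LocCoh.depth (Localization.AtPrime q) (Localization.AtPrime q) ≤
      LocCoh.depth (Localization.AtPrime p) (Localization.AtPrime p) +
        (q.map (Ideal.Quotient.mk p)).height := by
  set R := Localization.AtPrime q with hR
  set I : Ideal R := p.map (algebraMap A R) with hI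
  have hIm : I ≤ IsLocalRing.maximalIdeal R := by
    rw [← Localization.AtPrime.map_eq_maximalIdeal]
    exact Ideal.map_mono hpq
  have hIM : I • (⊤ : Submodule R R) ≠ ⊤ := smul_top_ne_top_of_le_maximalIdeal hIm
  obtain ⟨n, hn⟩ := ENat.ne_top_iff_exists.mp (idealDepth_ne_top hIM)
  have G1 := depth_le_idealDepth_add_supportDim_quotient I hIm n R hn.symm
  have h1 : LocCoh.idealDepth I R ≤
      LocCoh.depth (Localization.AtPrime p) (Localization.AtPrime p) := by
    rw [← idealDepth_congr (localizedModuleSelfEquiv q) I, ← depth_localizedModule_self p]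
    exact idealDepth_map_localization_le_depth_localization p q A hpq
  have h2 : Module.supportDim R (R ⧸ (I • ⊤ : Submodule R R)) ≤
      (((q.map (Ideal.Quotient.mk p)).height : ℕ∞) : WithBot ℕ∞) := by
    rw [← ringKrullDim_localization_quotient_eq_height p q hpq]
    exact supportDim_quotient_smul_top_le_ringKrullDim_quotient I
  have h3 := G1.trans (add_le_add (WithBot.coe_le_coe.mpr h1) h2)
  rw [← WithBot.coe_add, WithBot.coe_le_coe] at h3
  exact h3

/-- Lifting Serre's condition `(S_k)` from `A/tA` to `A` for a non-zero-divisor `t` in the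
Jacobson radical... here: `A` local, `t` in the maximal ideal. -/
theorem hasSk_of_hasSk_quotient_span_singleton [IsLocalRing A] (k : ℕ) (t : A)
    (ht : t ∈ IsLocalRing.maximalIdeal A) (hreg : IsSMulRegular A t)
    (hS : LocCoh.HasSk k (A ⧸ Ideal.span {t}) (A ⧸ Ideal.span {t})) : LocCoh.HasSk k A A := by
  rw [hasSk_self_iff_enat]
  intro p hp
  by_cases htp : t ∈ p
  · have := min_succ_height_le_depth_localization_of_hasSk_quotient k t hreg hS p htp
    refine le_trans (min_le_min_right _ ?_) this
    exact_mod_cast Nat.le_succ k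
  · -- a minimal prime over `p + (t)`
    have hle : p ⊔ Ideal.span {t} ≤ IsLocalRing.maximalIdeal A :=
      sup_le (IsLocalRing.le_maximalIdeal hp.ne_top)
        ((Ideal.span_singleton_le_iff_mem _).mpr ht)
    obtain ⟨q, hqmin, -⟩ := Ideal.exists_minimalPrimes_le hle
    have hq : q.IsPrime := hqmin.1.1
    have hpq : p ≤ q := le_sup_left.trans hqmin.1.2
    have htq : t ∈ q := hqmin.1.2 (Ideal.mem_sup_right (Ideal.mem_span_singleton_self t))
    have hlt : p < q := lt_of_le_of_ne hpq (fun e => htp (e ▸ htq))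
    have K := min_succ_height_le_depth_localization_of_hasSk_quotient k t hreg hS q htq
    have D := depth_localization_le_depth_localization_add_height p q hpq
    have H1 : (q.map (Ideal.Quotient.mk p)).height ≤ 1 :=
      Ideal.map_height_le_one_of_mem_minimalPrimes hqmin
    have H2 : p.height + 1 ≤ q.height := Ideal.height_add_one_le_of_lt_of_isPrime hlt
    have e1 : min (k : ℕ∞) p.height + 1 ≤
        LocCoh.depth (Localization.AtPrime p) (Localization.AtPrime p) + 1 := by
      calc min (k : ℕ∞) p.height + 1 = min ((k : ℕ∞) + 1) (p.height + 1) :=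
            (min_add_add_right _ _ _).symm
        _ ≤ min ((k + 1 : ℕ) : ℕ∞) q.height := by
            refine min_le_min ?_ H2
            push_cast; exact le_rfl
        _ ≤ LocCoh.depth (Localization.AtPrime q) (Localization.AtPrime q) := K
        _ ≤ LocCoh.depth (Localization.AtPrime p) (Localization.AtPrime p) +
              (q.map (Ideal.Quotient.mk p)).height := D
        _ ≤ LocCoh.depth (Localization.AtPrime p) (Localization.AtPrime p) + 1 := by gcongr
    exact (ENat.add_le_add_iff_right ENat.one_ne_top).mp e1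

end SkLift2

end Groth.Agent.Lib.Helper28
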