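import Mathlib
import Groth.Prelude.Def_BlowUp2
import Groth.Prelude.Def_CurvBase
import Groth.Prelude.Def_Curv2
import Groth.Prelude.Def_FEt
import Groth.Agent.Lib.Helper20EffCartier
import Groth.Agent.Lib.Helper2BlowLocal
import Groth.Agent.Lib.Helper2BlowGlue

/-!
# Flat base change of blow-ups; blow-ups of the completion of a Noetherian local ring (helper2)

Namespace `Groth.Agent.Lib.Helper2.BlowFlatBC`.
* `map_mem_nonZeroDivisors_of_flat`, `isEffCartierIdeal_comap_of_flat`.
* `isBlowUp_of_isPullback_of_flat` : blowing up commutes with flat base change.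
* `exists_iso_of_isBlowUp` : two blow-ups in the same ideal are isomorphic over the base.
* `coe_support_idealSheaf` : the support of the ideal sheaf of `I` on `Spec A` is `V(I)`.
* `exists_sub_mem_map_pow`, `exists_ideal_map_eq` : ideals of the completion containing a power of
  the maximal ideal come from `A`.
* `admissibleBlowup_descends_from_completion`.
-/

set_option autoImplicit false
set_option linter.style.haveILetI false
universe u
open CategoryTheory CategoryTheory.Limits AlgebraicGeometry TopologicalSpace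

namespace Groth.Agent.Lib.Helper2.BlowFlatBC

open Groth.Agent.Lib.Helper2.BlowLocal

/-- a flat ring homomorphism preserves nonzerodivisors. -/
theorem map_mem_nonZeroDivisors_of_flat {A B : Type u} [CommRing A] [CommRing B] (φ : A →+* B)
    (hφ : φ.Flat) {f : A} (hf : f ∈ nonZeroDivisors A) : φ f ∈ nonZeroDivisors B := by
  algebraize [φ]
  have h1 : IsSMulRegular A f := by
    intro a b hab
    have h2 : f * a = f * b := hab
    have h3 : (a - b) * f = 0 := by
      rw [sub_mul, mul_comm a f, mul_comm b f, h2, sub_self]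
    exact sub_eq_zero.1 (hf.2 _ h3)
  have h2 : IsSMulRegular B (algebraMap A B f) := IsSMulRegular.of_flat h1
  rw [mem_nonZeroDivisors_iff_right]
  intro x hx
  have h3 : algebraMap A B f • x = algebraMap A B f • (0 : B) := by
    rw [smul_zero, smul_eq_mul, mul_comm]
    exact hx
  exact h2 h3

variable {X Y : Scheme.{u}}

/-- effective Cartier ideal sheaves pull back along flat morphisms. -/
theorem isEffCartierIdeal_comap_of_flat (γ : X ⟶ Y) [Flat γ] (K : Y.IdealSheafData)
    (hK : BlowUp.IsEffCartierIdeal K) : BlowUp.IsEffCartierIdeal (K.comap γ) := by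
  intro x
  obtain ⟨W, hxW, f, hf, hW⟩ := hK (γ x)
  obtain ⟨_, ⟨O, hO, rfl⟩, hxO, hOW⟩ := (X.isBasis_affineOpens).exists_subset_of_mem_open
    (show x ∈ ((γ ⁻¹ᵁ W.1 : X.Opens) : Set X) from hxW) (γ ⁻¹ᵁ W.1).2
  have hOW' : O ≤ γ ⁻¹ᵁ W.1 := hOW
  refine ⟨⟨O, hO⟩, hxO, (γ.appLE W.1 O hOW').hom f,
    map_mem_nonZeroDivisors_of_flat _ (Scheme.Hom.flat_appLE γ W.2 hO hOW') hf, ?_⟩
  rw [Groth.Agent.Lib.Helper20.EffCartier.ideal_comap_eq_map γ K hO W.2 hOW', hW, Ideal.map_span,
    Set.image_singleton]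

/-- blowing up commutes with flat base change. -/
theorem isBlowUp_of_isPullback_of_flat {S S₁ X₁ : Scheme.{u}} {𝓘 : S.IdealSheafData} {b : X ⟶ S}
    (hb : BlowUp.IsBlowUp b 𝓘) (g : S₁ ⟶ S) [Flat g] (p : X₁ ⟶ X) (q : X₁ ⟶ S₁)
    (sq : IsPullback p q b g) : BlowUp.IsBlowUp q (𝓘.comap g) := by
  haveI : Flat p := MorphismProperty.of_isPullback (P := @Flat) sq.flip inferInstance
  refine ⟨?_, ?_⟩
  · rw [← Scheme.IdealSheafData.comap_comp, ← sq.w, Scheme.IdealSheafData.comap_comp]
    exact isEffCartierIdeal_comap_of_flat p _ hb.1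
  · intro T h hh
    rw [← Scheme.IdealSheafData.comap_comp] at hh
    obtain ⟨h₀, hh₀, hu⟩ := hb.2 T (h ≫ g) hh
    refine ⟨sq.lift h₀ h hh₀, sq.lift_snd _ _ _, ?_⟩
    intro h' hh'
    apply sq.hom_ext
    · rw [sq.lift_fst]
      apply hu
      show (h' ≫ p) ≫ b = h ≫ g
      rw [Category.assoc, sq.w, ← Category.assoc, hh']
    · rw [sq.lift_snd]
      exact hh'

/-- two blow-ups in the same ideal sheaf are isomorphic over the base. -/
theorem exists_iso_of_isBlowUp {S B₁ B₂ : Scheme.{u}} {𝓘 : S.IdealSheafData} {b₁ : B₁ ⟶ S}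
    {b₂ : B₂ ⟶ S} (h₁ : BlowUp.IsBlowUp b₁ 𝓘) (h₂ : BlowUp.IsBlowUp b₂ 𝓘) :
    ∃ e : B₁ ≅ B₂, e.hom ≫ b₂ = b₁ := by
  obtain ⟨φ, hφ, -⟩ := h₂.2 B₁ b₁ h₁.1
  haveI : IsIso φ := Groth.Agent.Lib.Helper2.BlowGlue.isIso_of_isBlowUp h₁ h₂ φ hφ
  exact ⟨asIso φ, hφ⟩

section affine

variable {A : Type u} [CommRing A]

theorem coe_support_idealSheaf (I : Ideal A) :
    ((Curv2.idealSheaf A I).support : Set (Spec (CommRingCat.of A))) =
      PrimeSpectrum.zeroLocus (I : Set A) := by
  unfold Curv2.idealSheaf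
  rw [Scheme.IdealSheafData.coe_support_ofIdealTop, Spec_zeroLocus]
  ext p
  simp only [PrimeSpectrum.mem_zeroLocus, Set.subset_def, Set.mem_preimage, SetLike.mem_coe]
  constructor
  · intro h a ha
    exact h a (Ideal.mem_map_of_mem _ ha)
  · intro h a ha
    have h1 : a ∈ (I.map (Scheme.ΓSpecIso (CommRingCat.of A)).inv.hom).comap
        (Scheme.ΓSpecIso (CommRingCat.of A)).inv.hom := ha
    have hbij : Function.Bijective ((Scheme.ΓSpecIso (CommRingCat.of A)).inv.hom) :=
      (Scheme.ΓSpecIso (CommRingCat.of A)).symm.commRingCatIsoToRingEquiv.bijective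
    rw [Ideal.comap_map_of_bijective _ hbij] at h1
    exact h a h1

theorem isFiniteTypeIdeal_of_isNoetherianRing [IsNoetherianRing A]
    (𝓚 : (Spec (CommRingCat.of A)).IdealSheafData) : BlowUp.IsFiniteTypeIdeal 𝓚 := by
  intro U
  haveI : IsNoetherianRing Γ(Spec (CommRingCat.of A), U.1) :=
    IsLocallyNoetherian.component_noetherian U
  exact IsNoetherian.noetherian _

theorem exists_sub_mem_map_pow [IsNoetherianRing A] (m : Ideal A) (n : ℕ)
    (x : AdicCompletion m A) :
    ∃ a : A, x - algebraMap A (AdicCompletion m A) a ∈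
      (m ^ n).map (algebraMap A (AdicCompletion m A)) := by
  obtain ⟨a, ha⟩ := Submodule.Quotient.mk_surjective _ (AdicCompletion.eval m A n x)
  refine ⟨a, ?_⟩
  have h1 : x - AdicCompletion.of m A a ∈ (AdicCompletion.eval m A n).ker := by
    rw [LinearMap.mem_ker, map_sub, AdicCompletion.eval_of, sub_eq_zero]
    exact ha.symm
  rw [← AdicCompletion.pow_smul_top_eq_ker_eval (IsNoetherian.noetherian m)] at h1
  have h2 : (m ^ n • (⊤ : Submodule A (AdicCompletion m A))) ≤
      ((m ^ n).map (algebraMap A (AdicCompletion m A))).restrictScalars A := by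
    rw [Submodule.smul_le]
    intro r hr y _
    rw [Submodule.restrictScalars_mem, Algebra.smul_def]
    exact Ideal.mul_mem_right _ _ (Ideal.mem_map_of_mem _ hr)
  have h3 := h2 h1
  rw [Submodule.restrictScalars_mem] at h3
  exact h3

theorem exists_ideal_map_eq [IsNoetherianRing A] (m : Ideal A)
    (𝔍 : Ideal (AdicCompletion m A)) (n : ℕ)
    (hn : (m ^ n).map (algebraMap A (AdicCompletion m A)) ≤ 𝔍) :
    ∃ I : Ideal A, I.map (algebraMap A (AdicCompletion m A)) = 𝔍 ∧ m ^ n ≤ I := by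
  have hle : m ^ n ≤ 𝔍.comap (algebraMap A (AdicCompletion m A)) := by
    intro r hr
    exact Ideal.mem_comap.mpr (hn (Ideal.mem_map_of_mem _ hr))
  refine ⟨𝔍.comap (algebraMap A (AdicCompletion m A)), ?_, hle⟩
  apply le_antisymm Ideal.map_comap_le
  intro x hx
  obtain ⟨a, ha⟩ := exists_sub_mem_map_pow m n x
  have haJ : algebraMap A (AdicCompletion m A) a ∈ 𝔍 := by
    have h1 := 𝔍.sub_mem hx (hn ha)
    rwa [sub_sub_cancel] at h1
  have h1 : algebraMap A (AdicCompletion m A) a ∈
      (𝔍.comap (algebraMap A (AdicCompletion m A))).map (algebraMap A (AdicCompletion m A)) :=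
    Ideal.mem_map_of_mem _ (Ideal.mem_comap.mpr haJ)
  have h2 : x - algebraMap A (AdicCompletion m A) a ∈
      (𝔍.comap (algebraMap A (AdicCompletion m A))).map (algebraMap A (AdicCompletion m A)) :=
    Ideal.map_mono hle ha
  have h3 := Ideal.add_mem _ h2 h1
  rwa [sub_add_cancel] at h3

end affine

/-- Admissible blow-ups of the spectrum of the completion of a Noetherian local ring descend. -/
theorem admissibleBlowup_descends_from_completion (A : Type u) [CommRing A] [IsLocalRing A]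
    [IsNoetherianRing A]
    (Y : Scheme.{u}) (c : Y ⟶ Spec (CommRingCat.of (Curv2.cpl A)))
    (J : (Spec (CommRingCat.of (Curv2.cpl A))).IdealSheafData)
    (hJ : BlowUp.IsAdmissibleFor (FEt.puncturedSpec (Curv2.cpl A)) J) (hc : BlowUp.IsBlowUp c J) :
    ∃ (I : (Spec (CommRingCat.of A)).IdealSheafData) (X : Scheme.{u})
      (b : X ⟶ Spec (CommRingCat.of A)),
      BlowUp.IsAdmissibleFor (FEt.puncturedSpec A) I ∧ BlowUp.IsBlowUp b I ∧
      ∃ e : Y ≅ Curv2.bcCpl A b, e.hom ≫ Curv2.bcCplSnd A b = c := by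
  obtain ⟨𝔍, rfl⟩ := exists_idealSheaf_eq J
  -- the maximal ideal of the completion
  have hmax : IsLocalRing.maximalIdeal (Curv2.cpl A) =
      (IsLocalRing.maximalIdeal A).map (algebraMap A (Curv2.cpl A)) :=
    AdicCompletion.maximalIdeal_eq_map
  -- `V(𝔍)` is contained in the closed point
  have hV : ∀ p : PrimeSpectrum (Curv2.cpl A), 𝔍 ≤ p.asIdeal →
      p = IsLocalRing.closedPoint (Curv2.cpl A) := by
    intro p hp
    by_contra hne
    have h1 : p ∈ ((Curv2.idealSheaf (Curv2.cpl A) 𝔍).support :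
        Set (Spec (CommRingCat.of (Curv2.cpl A)))) := by
      rw [coe_support_idealSheaf]
      exact hp
    have h2 : p ∈ ((FEt.puncturedSpec (Curv2.cpl A) : (Spec (CommRingCat.of (Curv2.cpl A))).Opens) :
        Set (Spec (CommRingCat.of (Curv2.cpl A)))) := hne
    exact Set.disjoint_left.mp hJ.2 h1 h2
  have hrad : IsLocalRing.maximalIdeal (Curv2.cpl A) ≤ 𝔍.radical := by
    rw [Ideal.radical_eq_sInf]
    refine le_sInf ?_
    rintro P ⟨hP1, hP2⟩
    have := hV ⟨P, hP2⟩ hP1
    have h3 : P = IsLocalRing.maximalIdeal (Curv2.cpl A) := congrArg PrimeSpectrum.asIdeal this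
    rw [h3]
  have hfg : (IsLocalRing.maximalIdeal (Curv2.cpl A)).FG := by
    rw [hmax]
    exact Ideal.FG.map (IsNoetherian.noetherian _) _
  obtain ⟨n, hn⟩ := Ideal.exists_pow_le_of_le_radical_of_fg hrad hfg
  rw [hmax, ← Ideal.map_pow] at hn
  obtain ⟨I, hI, hIn⟩ := exists_ideal_map_eq (IsLocalRing.maximalIdeal A) 𝔍 n hn
  obtain ⟨X, b, hb⟩ := Groth.Agent.Lib.Helper2.BlowGlue.exists_isBlowUp _ (Curv2.idealSheaf A I)
  refine ⟨Curv2.idealSheaf A I, X, b, ⟨isFiniteTypeIdeal_of_isNoetherianRing _, ?_⟩, hb, ?_⟩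
  · rw [Set.disjoint_left]
    intro p hp hp'
    rw [coe_support_idealSheaf] at hp
    have hp1 : I ≤ p.asIdeal := hp
    have hp2 : IsLocalRing.maximalIdeal A ≤ p.asIdeal :=
      Ideal.IsPrime.le_of_pow_le (hIn.trans hp1)
    have hp3 : p = IsLocalRing.closedPoint A := by
      apply PrimeSpectrum.ext
      exact ((IsLocalRing.maximalIdeal.isMaximal A).eq_of_le p.2.ne_top hp2).symm
    exact hp' hp3
  · haveI : Flat (Spec.map (CommRingCat.ofHom (algebraMap A (Curv2.cpl A)))) := by
      rw [Flat.SpecMap_iff]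
      exact RingHom.flat_algebraMap_iff.mpr inferInstance
    have hbc : BlowUp.IsBlowUp (Curv2.bcCplSnd A b)
        ((Curv2.idealSheaf A I).comap (Spec.map (CommRingCat.ofHom (algebraMap A (Curv2.cpl A))))) :=
      isBlowUp_of_isPullback_of_flat hb _ _ _ (IsPullback.of_hasPullback b _)
    rw [comap_idealSheaf_SpecMap, hI] at hbc
    exact exists_iso_of_isBlowUp hc hbc

end Groth.Agent.Lib.Helper2.BlowFlatBC
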