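import Mathlib
import Groth.Prelude.Def_BlowUp2
import Groth.Agent.Lib.Helper2BlowChart
import Groth.Agent.Lib.Helper2ReesChart
import Groth.Agent.Lib.Helper20RelCartier

/-!
# Flatness of affine blow-up algebras when all thickenings are flat (helper2)

Namespace `Groth.Agent.Lib.Helper2.BlowThickAlg`.
* `fr a n : A →ₗ[A] A_a`, `c ↦ c / a^n`; `fr_mem`, `fr_raise`, `exists_rep`, `mem_span_a_of_rep`,
  `rep_of_mem_span_a`, `eq_of_rep_eq`.
* `trivial_rel_of_flat` : trivial relations in `J / J'` when `A/J'`, `A/J` are flat.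
* `flat_quotient_affineAlgebra` : if all `A/I^(n+1)` are `R`-flat then `A[I/a]/(a)` is `R`-flat.
* `flat_affineAlgebra` : if moreover `A` is `R`-flat then `A[I/a]` is `R`-flat.
* `map_mem_nonZeroDivisors_of_isPushout` : a nonzerodivisor with flat quotient stays a
  nonzerodivisor after arbitrary base change.
-/

set_option autoImplicit false
set_option linter.style.haveILetI false
universe u
open CategoryTheory CategoryTheory.Limits TensorProduct

namespace Groth.Agent.Lib.Helper2.BlowThickAlg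

open Groth.Agent.Lib.Helper2.BlowChart Groth.Agent.Lib.Helper2.ReesChart

section frac

variable {A : Type u} [CommRing A] (I : Ideal A) (a : A)

/-- `c ↦ c / a^n` -/
noncomputable def fr (n : ℕ) : A →ₗ[A] Localization.Away a :=
  (LinearMap.mulRight A (IsLocalization.Away.invSelf a ^ n)).comp
    (Algebra.linearMap A (Localization.Away a))

theorem fr_apply (n : ℕ) (c : A) :
    fr a n c = algebraMap A (Localization.Away a) c * IsLocalization.Away.invSelf a ^ n := rfl

theorem fr_mul (n : ℕ) (r c : A) :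
    fr a n (r * c) = algebraMap A (Localization.Away a) r * fr a n c := by
  rw [fr_apply, fr_apply, map_mul, mul_assoc]

theorem fr_mem (n : ℕ) (c : A) (hc : c ∈ I ^ n) : fr a n c ∈ BlowUp.affineAlgebra A I a :=
  pow_mem_affineAlgebra I a n c hc

theorem fr_raise (c : A) (n k : ℕ) : fr a (n + k) (c * a ^ k) = fr a n c := by
  have h := IsLocalization.Away.mul_invSelf (S := Localization.Away a) a
  rw [fr_apply, fr_apply]
  calc algebraMap A (Localization.Away a) (c * a ^ k) * IsLocalization.Away.invSelf a ^ (n + k)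
      = algebraMap A (Localization.Away a) c * IsLocalization.Away.invSelf a ^ n *
          (algebraMap A (Localization.Away a) a * IsLocalization.Away.invSelf a) ^ k := by
        rw [map_mul, map_pow, pow_add]; ring
    _ = _ := by rw [h, one_pow, mul_one]

theorem fr_zero_apply (c : A) : fr a 0 c = algebraMap A (Localization.Away a) c := by
  rw [fr_apply, pow_zero, mul_one]

theorem exists_rep (ha : a ∈ I) (β : Localization.Away a) (hβ : β ∈ BlowUp.affineAlgebra A I a) :
    ∃ (n : ℕ) (c : A), c ∈ I ^ n ∧ β = fr a n c := by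
  unfold BlowUp.affineAlgebra at hβ
  induction hβ using Algebra.adjoin_induction with
  | mem y hy =>
    obtain ⟨x, hx, rfl⟩ := hy
    refine ⟨1, x, by rwa [pow_one], ?_⟩
    rw [fr_apply, pow_one, mk'_eq_mul_invSelf]
  | algebraMap r =>
    refine ⟨0, r, ?_, (fr_zero_apply a r).symm⟩
    rw [pow_zero, Ideal.one_eq_top]
    trivial
  | add x y _ _ hx hy =>
    obtain ⟨n, c, hc, rfl⟩ := hx
    obtain ⟨m, d, hd, rfl⟩ := hy
    refine ⟨n + m, c * a ^ m + d * a ^ n, ?_, ?_⟩
    · refine add_mem ?_ ?_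
      · rw [pow_add]
        exact Ideal.mul_mem_mul hc (Ideal.pow_mem_pow ha m)
      · rw [pow_add, mul_comm (I ^ n)]
        exact Ideal.mul_mem_mul hd (Ideal.pow_mem_pow ha n)
    · rw [map_add, fr_raise, add_comm n m, fr_raise]
  | mul x y _ _ hx hy =>
    obtain ⟨n, c, hc, rfl⟩ := hx
    obtain ⟨m, d, hd, rfl⟩ := hy
    refine ⟨n + m, c * d, ?_, ?_⟩
    · rw [pow_add]
      exact Ideal.mul_mem_mul hc hd
    · rw [fr_apply, fr_apply, fr_apply, map_mul, pow_add]
      ring

theorem mem_span_a_of_rep (n : ℕ) (w : A) (hw : w ∈ I ^ (n + 1))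
    (β : BlowUp.affineAlgebra A I a) (hβ : (β : Localization.Away a) = fr a n w) :
    β ∈ Ideal.span {algebraMap A (BlowUp.affineAlgebra A I a) a} := by
  rw [Ideal.mem_span_singleton']
  refine ⟨⟨fr a (n + 1) w, fr_mem I a (n + 1) w hw⟩, ?_⟩
  apply Subtype.ext
  have h := IsLocalization.Away.mul_invSelf (S := Localization.Away a) a
  simp only [MulMemClass.coe_mul, Subalgebra.coe_algebraMap]
  rw [hβ, fr_apply, fr_apply, pow_succ]
  calc algebraMap A (Localization.Away a) w * (IsLocalization.Away.invSelf a ^ n *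
        IsLocalization.Away.invSelf a) * algebraMap A (Localization.Away a) a
      = algebraMap A (Localization.Away a) w * IsLocalization.Away.invSelf a ^ n *
          (algebraMap A (Localization.Away a) a * IsLocalization.Away.invSelf a) := by ring
    _ = _ := by rw [h, mul_one]

theorem rep_of_mem_span_a (ha : a ∈ I) (β : BlowUp.affineAlgebra A I a)
    (hβ : β ∈ Ideal.span {algebraMap A (BlowUp.affineAlgebra A I a) a}) :
    ∃ (n : ℕ) (w : A), w ∈ I ^ (n + 1) ∧ (β : Localization.Away a) = fr a n w := by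
  obtain ⟨γ, rfl⟩ := Ideal.mem_span_singleton'.1 hβ
  obtain ⟨n, c, hc, hγ⟩ := exists_rep I a ha γ γ.2
  refine ⟨n, c * a, ?_, ?_⟩
  · rw [pow_succ]
    exact Ideal.mul_mem_mul hc ha
  · simp only [MulMemClass.coe_mul, Subalgebra.coe_algebraMap]
    rw [hγ, fr_apply, fr_apply, map_mul]
    ring

theorem eq_of_rep_eq (Y w : A) (N M : ℕ) (h : fr a N Y = fr a M w) :
    ∃ k : ℕ, a ^ k * (Y * a ^ M) = a ^ k * (w * a ^ N) := by
  have hinv := IsLocalization.Away.mul_invSelf (S := Localization.Away a) a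
  have e1 : algebraMap A (Localization.Away a) (Y * a ^ M) =
      fr a N Y * algebraMap A (Localization.Away a) a ^ (N + M) := by
    rw [fr_apply, map_mul, map_pow, pow_add]
    calc algebraMap A (Localization.Away a) Y * algebraMap A (Localization.Away a) a ^ M
        = algebraMap A (Localization.Away a) Y * algebraMap A (Localization.Away a) a ^ M *
            (algebraMap A (Localization.Away a) a * IsLocalization.Away.invSelf a) ^ N := by
          rw [hinv, one_pow, mul_one]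
      _ = _ := by ring
  have e2 : algebraMap A (Localization.Away a) (w * a ^ N) =
      fr a M w * algebraMap A (Localization.Away a) a ^ (N + M) := by
    rw [fr_apply, map_mul, map_pow, pow_add]
    calc algebraMap A (Localization.Away a) w * algebraMap A (Localization.Away a) a ^ N
        = algebraMap A (Localization.Away a) w * algebraMap A (Localization.Away a) a ^ N *
            (algebraMap A (Localization.Away a) a * IsLocalization.Away.invSelf a) ^ M := by
          rw [hinv, one_pow, mul_one]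
      _ = _ := by ring
  have h1 : algebraMap A (Localization.Away a) (Y * a ^ M) =
      algebraMap A (Localization.Away a) (w * a ^ N) := by rw [e1, e2, h]
  obtain ⟨⟨_, k, rfl⟩, hk⟩ :=
    (IsLocalization.eq_iff_exists (Submonoid.powers a) (Localization.Away a)).1 h1
  exact ⟨k, hk⟩

end frac

section graded

variable {R A : Type u} [CommRing R] [CommRing A] [Algebra R A]

/-- relations in `J/J'` are trivial when `A/J'` and `A/J` are flat. -/
theorem trivial_rel_of_flat (J' J : Ideal A) (hJ : J' ≤ J) [Module.Flat R (A ⧸ J')]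
    [Module.Flat R (A ⧸ J)] {l : ℕ} (f : Fin l → R) (y : Fin l → A) (hy : ∀ i, y i ∈ J)
    (hrel : ∑ i, algebraMap R A (f i) * y i ∈ J') :
    ∃ (k : ℕ) (c : Fin l → Fin k → R) (u : Fin k → A), (∀ j, u j ∈ J) ∧
      (∀ i, y i - ∑ j, algebraMap R A (c i j) * u j ∈ J') ∧ ∀ j, ∑ i, f i * c i j = 0 := by
  let p : (A ⧸ J') →ₗ[R] (A ⧸ J) :=
    (Submodule.mapQ J' J LinearMap.id (fun x hx => hJ hx)).restrictScalars R
  have hpmk : ∀ x : A, p (Ideal.Quotient.mk J' x) = Ideal.Quotient.mk J x := fun x => rfl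
  have hp : Function.Surjective p := by
    intro z
    obtain ⟨z, rfl⟩ := Ideal.Quotient.mk_surjective z
    exact ⟨Ideal.Quotient.mk _ z, rfl⟩
  haveI : Module.Flat R (LinearMap.ker p) :=
    Groth.Agent.Lib.Helper20.RelCartier.flat_of_exact_left (LinearMap.ker p).subtype p
      (LinearMap.ker p).injective_subtype hp (LinearMap.exact_subtype_ker_map p)
  have hsm : ∀ (r : R) (x : A), r • (Ideal.Quotient.mk J' x) =
      Ideal.Quotient.mk J' (algebraMap R A r * x) := fun r x => by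
    rw [← Algebra.smul_def]; rfl
  let z : Fin l → LinearMap.ker p := fun i => ⟨Ideal.Quotient.mk J' (y i), by
    rw [LinearMap.mem_ker, hpmk]
    exact Ideal.Quotient.eq_zero_iff_mem.2 (hy i)⟩
  have hz : ∑ i, f i • z i = 0 := by
    apply Subtype.ext
    rw [Submodule.coe_sum, Submodule.coe_zero]
    have h1 : ∀ i, ((f i • z i : LinearMap.ker p) : A ⧸ J') =
        Ideal.Quotient.mk J' (algebraMap R A (f i) * y i) := fun i => by
      rw [Submodule.coe_smul]
      exact hsm _ _
    rw [Finset.sum_congr rfl (fun i _ => h1 i), ← map_sum]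
    exact Ideal.Quotient.eq_zero_iff_mem.2 hrel
  obtain ⟨k, c, u', hzu, hfc⟩ := Module.Flat.isTrivialRelation_of_sum_smul_eq_zero hz
  choose u hu using fun j => Ideal.Quotient.mk_surjective (u' j : A ⧸ J')
  refine ⟨k, c, u, ?_, ?_, hfc⟩
  · intro j
    have h1 := (u' j).2
    rw [LinearMap.mem_ker, ← hu j, hpmk] at h1
    exact Ideal.Quotient.eq_zero_iff_mem.1 h1
  · intro i
    rw [← Ideal.Quotient.eq_zero_iff_mem, map_sub, map_sum, sub_eq_zero]
    calc Ideal.Quotient.mk J' (y i) = ((z i : LinearMap.ker p) : A ⧸ J') := rfl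
      _ = ∑ j, c i j • ((u' j : LinearMap.ker p) : A ⧸ J') := by
          rw [hzu i, Submodule.coe_sum]
          exact Finset.sum_congr rfl (fun j _ => Submodule.coe_smul _ _)
      _ = _ := Finset.sum_congr rfl (fun j _ => by rw [← hu j, hsm])

end graded

section core

variable {R A : Type u} [CommRing R] [CommRing A]

/-- the instance-free form of `trivial_rel_of_flat` for the graded pieces `I^(N+1)/I^(N+2)` -/
theorem fact_graded (φ : R →+* A) (I : Ideal A)
    (hfl : ∀ n : ℕ, letI := φ.toAlgebra; Module.Flat R (A ⧸ I ^ (n + 1)))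
    (N : ℕ) {l : ℕ} (f : Fin l → R) (y : Fin l → A) (hy : ∀ i, y i ∈ I ^ (N + 1))
    (hrel : ∑ i, φ (f i) * y i ∈ I ^ (N + 2)) :
    ∃ (k : ℕ) (c : Fin l → Fin k → R) (u : Fin k → A), (∀ j, u j ∈ I ^ (N + 1)) ∧
      (∀ i, y i - ∑ j, φ (c i j) * u j ∈ I ^ (N + 2)) ∧ ∀ j, ∑ i, f i * c i j = 0 := by
  letI := φ.toAlgebra
  haveI : Module.Flat R (A ⧸ I ^ (N + 2)) := hfl (N + 1)
  haveI : Module.Flat R (A ⧸ I ^ (N + 1)) := hfl N
  exact trivial_rel_of_flat (I ^ (N + 2)) (I ^ (N + 1)) (Ideal.pow_le_pow_right (Nat.le_succ _))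
    f y hy hrel

/-- the instance-free form of `trivial_rel_of_flat` for the powers `I^(N+1)` -/
theorem fact_power (φ : R →+* A) (I : Ideal A) (hA : φ.Flat)
    (hfl : ∀ n : ℕ, letI := φ.toAlgebra; Module.Flat R (A ⧸ I ^ (n + 1)))
    (N : ℕ) {l : ℕ} (f : Fin l → R) (y : Fin l → A) (hy : ∀ i, y i ∈ I ^ (N + 1))
    (hrel : ∑ i, φ (f i) * y i = 0) :
    ∃ (k : ℕ) (c : Fin l → Fin k → R) (u : Fin k → A), (∀ j, u j ∈ I ^ (N + 1)) ∧
      (∀ i, y i = ∑ j, φ (c i j) * u j) ∧ ∀ j, ∑ i, f i * c i j = 0 := by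
  letI := φ.toAlgebra
  haveI : Module.Flat R A := hA
  haveI : Module.Flat R (A ⧸ (⊥ : Ideal A)) :=
    Module.Flat.of_linearEquiv ((Submodule.quotEquivOfEqBot (⊥ : Ideal A) rfl).restrictScalars R)
  haveI : Module.Flat R (A ⧸ I ^ (N + 1)) := hfl N
  obtain ⟨k, c, u, hu, hyu, hfc⟩ := trivial_rel_of_flat (⊥ : Ideal A) (I ^ (N + 1)) bot_le f y hy
    (by rw [Ideal.mem_bot]; exact hrel)
  exact ⟨k, c, u, hu, fun i => sub_eq_zero.1 (Ideal.mem_bot.1 (hyu i)), hfc⟩

/-- if all `A/I^(n+1)` are flat over `R`, then `A[I/a]/(a)` is flat over `R`. -/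
theorem flat_quotient_affineAlgebra (φ : R →+* A) (I : Ideal A) (a : A) (ha : a ∈ I)
    (hfl : ∀ n : ℕ, letI := φ.toAlgebra; Module.Flat R (A ⧸ I ^ (n + 1))) :
    letI := ((algebraMap A (BlowUp.affineAlgebra A I a)).comp φ).toAlgebra
    Module.Flat R (BlowUp.affineAlgebra A I a ⧸
      Ideal.span {algebraMap A (BlowUp.affineAlgebra A I a) a}) := by
  letI algB : Algebra R (BlowUp.affineAlgebra A I a) :=
    ((algebraMap A (BlowUp.affineAlgebra A I a)).comp φ).toAlgebra
  apply Module.Flat.of_forall_isTrivialRelation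
  intro l f x hfx
  have hsm : ∀ (r : R) (β : BlowUp.affineAlgebra A I a),
      r • (Ideal.Quotient.mk (Ideal.span {algebraMap A (BlowUp.affineAlgebra A I a) a}) β) =
      Ideal.Quotient.mk _ (algebraMap A (BlowUp.affineAlgebra A I a) (φ r) * β) :=
    fun r β => rfl
  choose β hβ using fun i => Ideal.Quotient.mk_surjective (x i)
  choose n c hc hβc using fun i => exists_rep I a ha (β i : Localization.Away a) (β i).2
  obtain ⟨N, hN⟩ : ∃ N, ∀ i, n i ≤ N :=
    ⟨∑ i, n i, fun i => Finset.single_le_sum (fun _ _ => Nat.zero_le _) (Finset.mem_univ i)⟩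
  obtain ⟨y0, hy0def⟩ : ∃ y0 : Fin l → A, ∀ i, y0 i = c i * a ^ (N - n i) := ⟨_, fun _ => rfl⟩
  have hy0 : ∀ i, y0 i ∈ I ^ N := fun i => by
    have h1 : I ^ N = I ^ (n i) * I ^ (N - n i) := by
      rw [← pow_add, Nat.add_sub_cancel' (hN i)]
    rw [h1, hy0def]
    exact Ideal.mul_mem_mul (hc i) (Ideal.pow_mem_pow ha _)
  have hβy0 : ∀ i, (β i : Localization.Away a) = fr a N (y0 i) := fun i => by
    have h1 : fr a (n i + (N - n i)) (c i * a ^ (N - n i)) = fr a (n i) (c i) :=
      fr_raise a _ _ _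
    rw [Nat.add_sub_cancel' (hN i)] at h1
    rw [hβc i, hy0def, h1]
  have h0 : Ideal.Quotient.mk (Ideal.span {algebraMap A (BlowUp.affineAlgebra A I a) a})
      (∑ i, algebraMap A (BlowUp.affineAlgebra A I a) (φ (f i)) * β i) = 0 := by
    rw [map_sum, ← hfx]
    exact Finset.sum_congr rfl (fun i _ => by rw [← hβ i, hsm])
  have hSig := Ideal.Quotient.eq_zero_iff_mem.1 h0
  obtain ⟨M, w, hw, hSw⟩ := rep_of_mem_span_a I a ha _ hSig
  have hSY : ((∑ i, algebraMap A (BlowUp.affineAlgebra A I a) (φ (f i)) * β i :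
      BlowUp.affineAlgebra A I a) : Localization.Away a) = fr a N (∑ i, φ (f i) * y0 i) := by
    rw [map_sum, AddSubmonoidClass.coe_finsetSum]
    refine Finset.sum_congr rfl (fun i _ => ?_)
    rw [MulMemClass.coe_mul, Subalgebra.coe_algebraMap, hβy0 i, fr_mul]
  obtain ⟨k, hk⟩ := eq_of_rep_eq a (∑ i, φ (f i) * y0 i) w N M (hSY.symm.trans hSw)
  obtain ⟨y', hy'def⟩ : ∃ y' : Fin l → A, ∀ i, y' i = y0 i * a ^ (k + M + 1) := ⟨_, fun _ => rfl⟩
  have hy' : ∀ i, y' i ∈ I ^ (N + (k + M) + 1) := fun i => by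
    have h1 : I ^ (N + (k + M) + 1) = I ^ N * I ^ (k + M + 1) := by
      rw [show N + (k + M) + 1 = N + (k + M + 1) by omega, pow_add]
    rw [h1, hy'def]
    exact Ideal.mul_mem_mul (hy0 i) (Ideal.pow_mem_pow ha _)
  have hrel' : ∑ i, φ (f i) * y' i ∈ I ^ (N + (k + M) + 2) := by
    have h1 : ∑ i, φ (f i) * y' i = a * (a ^ k * ((∑ i, φ (f i) * y0 i) * a ^ M)) := by
      have h2 : ∑ i, φ (f i) * y' i = (∑ i, φ (f i) * y0 i) * a ^ (k + M + 1) := by
        rw [Finset.sum_mul]
        exact Finset.sum_congr rfl (fun i _ => by rw [hy'def, mul_assoc])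
      rw [h2]
      ring
    have h3 : I ^ (N + (k + M) + 2) = I * (I ^ k * (I ^ (M + 1) * I ^ N)) := by
      rw [show N + (k + M) + 2 = 1 + (k + ((M + 1) + N)) by omega, pow_add, pow_one, pow_add,
        pow_add]
    rw [h1, hk, h3]
    exact Ideal.mul_mem_mul ha (Ideal.mul_mem_mul (Ideal.pow_mem_pow ha k)
      (Ideal.mul_mem_mul hw (Ideal.pow_mem_pow ha N)))
  obtain ⟨k', c', u, hu, hyu, hfc⟩ := fact_graded φ I hfl (N + (k + M)) f y' hy' hrel'
  have hu' : ∀ j, fr a (N + (k + M) + 1) (u j) ∈ BlowUp.affineAlgebra A I a :=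
    fun j => fr_mem I a _ _ (hu j)
  refine ⟨k', c', fun j => Ideal.Quotient.mk _ ⟨fr a (N + (k + M) + 1) (u j), hu' j⟩, ?_, hfc⟩
  intro i
  have h3 : ∑ j, c' i j • (Ideal.Quotient.mk
      (Ideal.span {algebraMap A (BlowUp.affineAlgebra A I a) a})
      (⟨fr a (N + (k + M) + 1) (u j), hu' j⟩ : BlowUp.affineAlgebra A I a)) =
      Ideal.Quotient.mk _ (∑ j, algebraMap A (BlowUp.affineAlgebra A I a) (φ (c' i j)) *
        (⟨fr a (N + (k + M) + 1) (u j), hu' j⟩ : BlowUp.affineAlgebra A I a)) := by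
    rw [map_sum]
    exact Finset.sum_congr rfl (fun j _ => hsm _ _)
  rw [h3, ← hβ i, Ideal.Quotient.eq]
  apply mem_span_a_of_rep I a (N + (k + M) + 1) (y' i - ∑ j, φ (c' i j) * u j) (hyu i)
  rw [AddSubgroupClass.coe_sub, AddSubmonoidClass.coe_finsetSum, map_sub, map_sum]
  congr 1
  · rw [hβy0 i, hy'def, show N + (k + M) + 1 = N + (k + M + 1) by omega]
    exact (fr_raise a (y0 i) N (k + M + 1)).symm
  · refine Finset.sum_congr rfl (fun j _ => ?_)
    rw [MulMemClass.coe_mul, Subalgebra.coe_algebraMap, fr_mul]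

/-- if `A` and all `A/I^(n+1)` are flat over `R`, then `A[I/a]` is flat over `R`. -/
theorem flat_affineAlgebra (φ : R →+* A) (I : Ideal A) (a : A) (ha : a ∈ I) (hA : φ.Flat)
    (hfl : ∀ n : ℕ, letI := φ.toAlgebra; Module.Flat R (A ⧸ I ^ (n + 1))) :
    ((algebraMap A (BlowUp.affineAlgebra A I a)).comp φ).Flat := by
  letI algB : Algebra R (BlowUp.affineAlgebra A I a) :=
    ((algebraMap A (BlowUp.affineAlgebra A I a)).comp φ).toAlgebra
  show Module.Flat R (BlowUp.affineAlgebra A I a)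
  apply Module.Flat.of_forall_isTrivialRelation
  intro l f β hfβ
  have hsm : ∀ (r : R) (γ : BlowUp.affineAlgebra A I a),
      r • γ = algebraMap A (BlowUp.affineAlgebra A I a) (φ r) * γ := fun r γ => rfl
  choose n c hc hβc using fun i => exists_rep I a ha (β i : Localization.Away a) (β i).2
  obtain ⟨N, hN⟩ : ∃ N, ∀ i, n i ≤ N :=
    ⟨∑ i, n i, fun i => Finset.single_le_sum (fun _ _ => Nat.zero_le _) (Finset.mem_univ i)⟩
  obtain ⟨y0, hy0def⟩ : ∃ y0 : Fin l → A, ∀ i, y0 i = c i * a ^ (N - n i) := ⟨_, fun _ => rfl⟩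
  have hy0 : ∀ i, y0 i ∈ I ^ N := fun i => by
    have h1 : I ^ N = I ^ (n i) * I ^ (N - n i) := by
      rw [← pow_add, Nat.add_sub_cancel' (hN i)]
    rw [h1, hy0def]
    exact Ideal.mul_mem_mul (hc i) (Ideal.pow_mem_pow ha _)
  have hβy0 : ∀ i, (β i : Localization.Away a) = fr a N (y0 i) := fun i => by
    have h1 : fr a (n i + (N - n i)) (c i * a ^ (N - n i)) = fr a (n i) (c i) :=
      fr_raise a _ _ _
    rw [Nat.add_sub_cancel' (hN i)] at h1
    rw [hβc i, hy0def, h1]
  have hSY : fr a N (∑ i, φ (f i) * y0 i) = fr a 0 0 := by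
    rw [map_zero, map_sum]
    have h1 := congrArg (Subtype.val) hfβ
    rw [AddSubmonoidClass.coe_finsetSum] at h1
    rw [← (show ((0 : BlowUp.affineAlgebra A I a) : Localization.Away a) = 0 from rfl), ← h1]
    refine Finset.sum_congr rfl (fun i _ => ?_)
    rw [hsm, MulMemClass.coe_mul, Subalgebra.coe_algebraMap, hβy0 i, fr_mul]
  obtain ⟨k, hk⟩ := eq_of_rep_eq a (∑ i, φ (f i) * y0 i) 0 N 0 hSY
  rw [pow_zero, mul_one, zero_mul, mul_zero] at hk
  obtain ⟨y', hy'def⟩ : ∃ y' : Fin l → A, ∀ i, y' i = y0 i * a ^ (k + 1) := ⟨_, fun _ => rfl⟩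
  have hy' : ∀ i, y' i ∈ I ^ (N + k + 1) := fun i => by
    have h1 : I ^ (N + k + 1) = I ^ N * I ^ (k + 1) := by
      rw [show N + k + 1 = N + (k + 1) by omega, pow_add]
    rw [h1, hy'def]
    exact Ideal.mul_mem_mul (hy0 i) (Ideal.pow_mem_pow ha _)
  have hrel' : ∑ i, φ (f i) * y' i = 0 := by
    have h2 : ∑ i, φ (f i) * y' i = (∑ i, φ (f i) * y0 i) * a ^ (k + 1) := by
      rw [Finset.sum_mul]
      exact Finset.sum_congr rfl (fun i _ => by rw [hy'def, mul_assoc])
    rw [h2, pow_succ, ← mul_assoc, mul_comm _ (a ^ k), hk, zero_mul]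
  obtain ⟨k', c', u, hu, hyu, hfc⟩ := fact_power φ I hA hfl (N + k) f y' hy' hrel'
  have hu' : ∀ j, fr a (N + k + 1) (u j) ∈ BlowUp.affineAlgebra A I a :=
    fun j => fr_mem I a _ _ (hu j)
  refine ⟨k', c', fun j => ⟨fr a (N + k + 1) (u j), hu' j⟩, ?_, hfc⟩
  intro i
  apply Subtype.ext
  rw [AddSubmonoidClass.coe_finsetSum, hβy0 i,
    ← fr_raise a (y0 i) N (k + 1), ← hy'def, hyu i, map_sum,
    show N + (k + 1) = N + k + 1 by omega]
  refine Finset.sum_congr rfl (fun j _ => ?_)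
  rw [hsm, MulMemClass.coe_mul, Subalgebra.coe_algebraMap, fr_mul]

end core

section pushout

/-- a nonzerodivisor whose quotient is flat over the base stays a nonzerodivisor after an arbitrary
base change. -/
theorem map_mem_nonZeroDivisors_of_isPushout {R B R₁ C : CommRingCat.{u}} (φ : R ⟶ B) (ψ : R ⟶ R₁)
    (α : B ⟶ C) (β : R₁ ⟶ C) (H : IsPushout φ ψ α β) (f : B) (hf : f ∈ nonZeroDivisors B)
    (hfl : letI := φ.hom.toAlgebra; Module.Flat R (B ⧸ Ideal.span {f})) :
    α.hom f ∈ nonZeroDivisors C := by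
  letI algB : Algebra R B := φ.hom.toAlgebra
  letI algR₁ : Algebra R R₁ := ψ.hom.toAlgebra
  haveI : Module.Flat R (B ⧸ Ideal.span {f}) := hfl
  have T := CommRingCat.isPushout_tensorProduct R R₁ B
  have Hf : IsPushout (CommRingCat.ofHom (algebraMap R R₁)) (CommRingCat.ofHom (algebraMap R B))
      β α := H.flip
  let e := T.isoIsPushout _ _ Hf
  have hr0 : CommRingCat.ofHom (S := R₁ ⊗[R] B) Algebra.TensorProduct.includeRight.toRingHom ≫
      e.hom = α := T.inr_isoIsPushout_hom _ _ Hf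
  have hr : ∀ b : B, e.hom.hom ((1 : R₁) ⊗ₜ[R] b) = α.hom b := fun b =>
    congrArg (fun k : B ⟶ C => k.hom b) hr0
  have hinj : Function.Injective e.hom.hom := by
    intro x y hxy
    have h1 := congrArg e.inv.hom hxy
    have h2 : ∀ t, e.inv.hom (e.hom.hom t) = t := fun t =>
      congrArg (fun k : CommRingCat.of (R₁ ⊗[R] B) ⟶ CommRingCat.of (R₁ ⊗[R] B) => k.hom t)
        e.hom_inv_id
    rwa [h2, h2] at h1
  -- multiplication by `f`
  let g : B →ₗ[R] B := LinearMap.mulLeft R f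
  let π : B →ₗ[R] (B ⧸ Ideal.span {f}) := (Submodule.mkQ (Ideal.span {f})).restrictScalars R
  have hπ : Function.Surjective π := Submodule.mkQ_surjective _
  have hg : Function.Injective g := by
    rw [injective_iff_map_eq_zero]
    intro b hb
    exact (mem_nonZeroDivisors_iff.1 hf).1 b hb
  have hex : Function.Exact g π := by
    intro y
    change Submodule.Quotient.mk y = 0 ↔ _
    rw [Submodule.Quotient.mk_eq_zero]
    constructor
    · intro hy
      obtain ⟨c, hc⟩ := Ideal.mem_span_singleton'.1 hy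
      exact ⟨c, by rw [← hc]; exact mul_comm _ _⟩
    · rintro ⟨c, rfl⟩
      exact Ideal.mem_span_singleton'.2 ⟨c, mul_comm _ _⟩
  have hinjT : Function.Injective (g.lTensor R₁) :=
    LinearMap.lTensor_injective_of_exact_of_flat π hπ g hg hex R₁
  have hmul : ∀ z : R₁ ⊗[R] B, g.lTensor R₁ z = z * ((1 : R₁) ⊗ₜ[R] f) := by
    intro z
    induction z using TensorProduct.induction_on with
    | zero => rw [map_zero, zero_mul]
    | tmul r b =>
      rw [LinearMap.lTensor_tmul, Algebra.TensorProduct.tmul_mul_tmul, mul_one]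
      congr 1
      exact mul_comm _ _
    | add x y hx hy => rw [map_add, hx, hy, add_mul]
  rw [mem_nonZeroDivisors_iff_right]
  intro c hc
  have h2 : e.hom.hom (e.inv.hom c) = c := congrArg (fun k : C ⟶ C => k.hom c) e.inv_hom_id
  have h3 : e.hom.hom (e.inv.hom c * ((1 : R₁) ⊗ₜ[R] f)) = 0 := by
    rw [map_mul, h2, hr, hc]
  have h4 : e.inv.hom c * ((1 : R₁) ⊗ₜ[R] f) = 0 := hinj (by rw [h3, map_zero])
  rw [← hmul] at h4
  have h5 : e.inv.hom c = 0 := hinjT (by rw [h4, map_zero])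
  rw [← h2, h5, map_zero]

end pushout

end Groth.Agent.Lib.Helper2.BlowThickAlg
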