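import Mathlib
import Groth.Prelude.Def_BlowUp2
import Groth.Prelude.Def_CurvBase
import Groth.Prelude.Def_CInt
import Groth.Agent.Lib.Helper20EffCartier
import Groth.Agent.Lib.Helper20RelCartier
import Groth.Agent.Lib.Helper2BlowLocal
import Groth.Agent.Lib.Helper2BlowChart
import Groth.Agent.Lib.Helper2BlowThickAlg

/-!
# Blowing up commutes with arbitrary base change when all thickenings are flat (helper2)

Namespace `Groth.Agent.Lib.Helper2.BlowThick`.
* `isBlowUp_of_isPullback_of_effCartier` : base change of a blow-up is a blow-up as soon as the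
  pulled back exceptional ideal is effective Cartier.
* `isEffCartierIdeal_comap_of_isPullback` : relative effective Cartier divisors pull back.
* `comap_fromSpec`, `exists_iso_of_chart`, `flat_quotient_of_chart`, `flat_of_chart`, `exists_chart`.
* `flat_exceptional`, `flat_comp_of_thickenings`, `isPullback_baseChangeOver`.
-/

set_option autoImplicit false
set_option linter.style.haveILetI false
universe u
open CategoryTheory CategoryTheory.Limits AlgebraicGeometry TopologicalSpace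

namespace Groth.Agent.Lib.Helper2.BlowThick

open Groth.Agent.Lib.Helper2.BlowLocal Groth.Agent.Lib.Helper2.BlowChart
open Groth.Agent.Lib.Helper2.AffBlowUp
open Groth.Agent.Lib.Helper20.EffCartier Groth.Agent.Lib.Helper20.RelCartier
open Groth.Agent.Lib.Helper2.BlowThickAlg

/-- base change of a blow-up is a blow-up as soon as the pulled back exceptional ideal is
effective Cartier. -/
theorem isBlowUp_of_isPullback_of_effCartier {S S₁ X X₁ : Scheme.{u}} {𝓘 : S.IdealSheafData}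
    {b : X ⟶ S} (hb : BlowUp.IsBlowUp b 𝓘) (g : S₁ ⟶ S) (p : X₁ ⟶ X) (q : X₁ ⟶ S₁)
    (sq : IsPullback p q b g) (hE : BlowUp.IsEffCartierIdeal ((𝓘.comap b).comap p)) :
    BlowUp.IsBlowUp q (𝓘.comap g) := by
  refine ⟨?_, ?_⟩
  · rw [← Scheme.IdealSheafData.comap_comp, ← sq.w, Scheme.IdealSheafData.comap_comp]
    exact hE
  · intro T h hh
    rw [← Scheme.IdealSheafData.comap_comp] at hh
    obtain ⟨h₀, hh₀, hu⟩ := hb.2 T (h ≫ g) hh
    refine ⟨sq.lift h₀ h hh₀, sq.lift_snd _ _ _, ?_⟩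
    intro h' hh'
    apply sq.hom_ext
    · rw [sq.lift_fst]
      apply hu
      show (h' ≫ p) ≫ b = h ≫ g
      rw [Category.assoc, sq.w, ← Category.assoc, hh']
    · rw [sq.lift_snd]
      exact hh'

/-- relative effective Cartier divisors pull back along arbitrary base change. -/
theorem isEffCartierIdeal_comap_of_isPullback {X' S S₁ P : Scheme.{u}} (h : X' ⟶ S) (s : S₁ ⟶ S)
    (p : P ⟶ X') (q : P ⟶ S₁) (sq : IsPullback p q h s) (E : X'.IdealSheafData)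
    (hE : BlowUp.IsEffCartierIdeal E) [Flat (E.subschemeι ≫ h)] :
    BlowUp.IsEffCartierIdeal (E.comap p) := by
  intro z
  obtain ⟨_, ⟨W, hW, rfl⟩, hzW, -⟩ := (S.isBasis_affineOpens).exists_subset_of_mem_open
    (Set.mem_univ (h (p z))) isOpen_univ
  obtain ⟨U, hU, hzU, hUW, f, hf, hEU⟩ :=
    exists_le_of_isEffCartierIdeal hE (p z) (h ⁻¹ᵁ W) hzW
  have hqz : q z ∈ s ⁻¹ᵁ W := by
    show s (q z) ∈ W
    rw [← Scheme.Hom.comp_apply, ← sq.w, Scheme.Hom.comp_apply]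
    exact hzW
  obtain ⟨_, ⟨V, hV, rfl⟩, hzV, hVW⟩ := (S₁.isBasis_affineOpens).exists_subset_of_mem_open
    (show q z ∈ ((s ⁻¹ᵁ W : S₁.Opens) : Set S₁) from hqz) (s ⁻¹ᵁ W).2
  have hVW' : V ≤ s ⁻¹ᵁ W := hVW
  obtain ⟨O, hOdef⟩ : ∃ O : P.Opens, O = p ⁻¹ᵁ U ⊓ q ⁻¹ᵁ V := ⟨_, rfl⟩
  have hO : IsAffineOpen O := by
    have : IsAffine (W : Scheme.{u}) := hW
    have : IsAffine (V : Scheme.{u}) := hV
    have : IsAffine (U : Scheme.{u}) := hU
    exact .of_isIso (Scheme.Hom.isPullback_resLE sq hVW' hUW hOdef).isoPullback.hom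
  have hOU : O ≤ p ⁻¹ᵁ U := by rw [hOdef]; exact inf_le_left
  have hOV : O ≤ q ⁻¹ᵁ V := by rw [hOdef]; exact inf_le_right
  have hpush : IsPushout (h.appLE W U hUW) (s.appLE W V hVW') (p.appLE U O hOU)
      (q.appLE V O hOV) :=
    (isIso_pushoutSection_iff sq hVW' hUW hOdef).1
      (isIso_pushoutSection_of_isAffineOpen sq hVW' hUW hOdef hW hV hU)
  have hzO : z ∈ O := by rw [hOdef]; exact ⟨hzU, hzV⟩
  refine ⟨⟨O, hO⟩, hzO, (p.appLE U O hOU).hom f, ?_, ?_⟩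
  · refine map_mem_nonZeroDivisors_of_isPushout _ _ _ _ hpush f hf ?_
    have := flat_quotient_of_flat h E hW hU hUW
    rw [hEU] at this
    exact this
  · rw [ideal_comap_eq_map p E hO hU hOU, hEU, Ideal.map_span, Set.image_singleton]

/-- the inverse image of an ideal sheaf on an affine open, as the ideal sheaf of an ideal. -/
theorem comap_fromSpec {X : Scheme.{u}} (𝓘 : X.IdealSheafData) {U : X.Opens} (hU : IsAffineOpen U) :
    𝓘.comap hU.fromSpec = Curv2.idealSheaf Γ(X, U) (𝓘.ideal ⟨U, hU⟩) := by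
  apply Scheme.IdealSheafData.ext_of_isAffine
  rw [idealSheaf_ideal_top]
  have e : (⊤ : (Spec Γ(X, U)).Opens) ≤ hU.fromSpec ⁻¹ᵁ U := by
    rw [hU.fromSpec_preimage_self]
  rw [ideal_comap_eq_map hU.fromSpec 𝓘 (isAffineOpen_top _) hU e]
  have h2 : hU.fromSpec.appLE U ⊤ e = (Scheme.ΓSpecIso Γ(X, U)).inv := by
    rw [Scheme.Hom.appLE, hU.fromSpec_app_self, Category.assoc, ← Functor.map_comp]
    convert Category.comp_id _
    exact CategoryTheory.Functor.map_id _ _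
  rw [h2]
  rfl

theorem appLE_congr {X Y : Scheme.{u}} {f f' : X ⟶ Y} (hff' : f = f') (U : Y.Opens) (V : X.Opens)
    (e : V ≤ f ⁻¹ᵁ U) : f.appLE U V e = f'.appLE U V (hff' ▸ e) := by
  subst hff'
  rfl

/-- a chart `ι : Spec B₀ ⟶ X'` lying over the affine open `W` of `S` identifies the sections over
its range with `B₀`, compatibly with the maps from `Γ(S, W)` and with ideal sheaves. -/
theorem exists_iso_of_chart {X' S : Scheme.{u}} (h : X' ⟶ S) {W : S.Opens} (hW : IsAffineOpen W)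
    (B₀ : Type u) [CommRing B₀] (ι : Spec (CommRingCat.of B₀) ⟶ X') [IsOpenImmersion ι]
    (hιW : ι.opensRange ≤ h ⁻¹ᵁ W) (ρ : Γ(S, W) ⟶ CommRingCat.of B₀)
    (hρ : ι ≫ h = Spec.map ρ ≫ hW.fromSpec) :
    ∃ θ : Γ(X', ι.opensRange) ≅ CommRingCat.of B₀,
      h.appLE W ι.opensRange hιW ≫ θ.hom = ρ ∧
      ∀ (E : X'.IdealSheafData) (K : Ideal B₀), E.comap ι = Curv2.idealSheaf B₀ K →
        (E.ideal ⟨ι.opensRange, isAffineOpen_opensRange ι⟩).map θ.hom.hom = K := by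
  have htop : (⊤ : (Spec (CommRingCat.of B₀)).Opens) ≤ ι ⁻¹ᵁ ι.opensRange :=
    fun x _ => ⟨x, rfl⟩
  haveI hiso1 : IsIso (ι.appLE ι.opensRange ⊤ htop) := by
    haveI : IsIso (ι.app ι.opensRange) := Scheme.Hom.isIso_app ι ι.opensRange le_rfl
    haveI : IsIso (homOfLE htop : (⊤ : (Spec (CommRingCat.of B₀)).Opens) ⟶ ι ⁻¹ᵁ ι.opensRange) :=
      ⟨homOfLE le_top, Subsingleton.elim _ _, Subsingleton.elim _ _⟩
    unfold Scheme.Hom.appLE
    infer_instance
  let θ : Γ(X', ι.opensRange) ≅ CommRingCat.of B₀ :=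
    asIso (ι.appLE ι.opensRange ⊤ htop ≫ (Scheme.ΓSpecIso (CommRingCat.of B₀)).hom)
  have hθ : θ.hom = ι.appLE ι.opensRange ⊤ htop ≫ (Scheme.ΓSpecIso (CommRingCat.of B₀)).hom := rfl
  refine ⟨θ, ?_, ?_⟩
  · rw [hθ, ← Category.assoc, Scheme.Hom.appLE_comp_appLE]
    have e₁ : (⊤ : (Spec Γ(S, W)).Opens) ≤ hW.fromSpec ⁻¹ᵁ W := by
      rw [hW.fromSpec_preimage_self]
    have e₂ : (⊤ : (Spec (CommRingCat.of B₀)).Opens) ≤ (Spec.map ρ) ⁻¹ᵁ ⊤ := fun _ _ => trivial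
    have h2 : hW.fromSpec.appLE W ⊤ e₁ = (Scheme.ΓSpecIso Γ(S, W)).inv := by
      rw [Scheme.Hom.appLE, hW.fromSpec_app_self, Category.assoc, ← Functor.map_comp]
      convert Category.comp_id _
      exact CategoryTheory.Functor.map_id _ _
    have h3 : (Spec.map ρ).appLE ⊤ ⊤ e₂ = (Spec.map ρ).appTop :=
      Scheme.Hom.appLE_eq_app (Spec.map ρ) (U := ⊤)
    rw [appLE_congr hρ, ← Scheme.Hom.appLE_comp_appLE (Spec.map ρ) hW.fromSpec W ⊤ ⊤ e₁ e₂, h2, h3,
      ← Scheme.ΓSpecIso_inv_naturality, Category.assoc, Iso.inv_hom_id, Category.comp_id]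
  · intro E K hEK
    have key := ideal_comap_eq_map ι E (isAffineOpen_top _) (isAffineOpen_opensRange ι) htop
    rw [hEK, idealSheaf_ideal_top] at key
    have h4 : ((Scheme.ΓSpecIso (CommRingCat.of B₀)).hom.hom).comp
        ((Scheme.ΓSpecIso (CommRingCat.of B₀)).inv.hom) = RingHom.id _ := by
      rw [← CommRingCat.hom_comp, Iso.inv_hom_id]
      rfl
    rw [hθ, CommRingCat.hom_comp, ← Ideal.map_map, ← key, Ideal.map_map, h4, Ideal.map_id]

/-- flatness of the quotient by an ideal sheaf on a chart. -/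
theorem flat_quotient_of_chart {X' S : Scheme.{u}} (h : X' ⟶ S) {W : S.Opens} (hW : IsAffineOpen W)
    (B₀ : Type u) [CommRing B₀] (ι : Spec (CommRingCat.of B₀) ⟶ X') [IsOpenImmersion ι]
    (hιW : ι.opensRange ≤ h ⁻¹ᵁ W) (ρ : Γ(S, W) ⟶ CommRingCat.of B₀)
    (hρ : ι ≫ h = Spec.map ρ ≫ hW.fromSpec) (E : X'.IdealSheafData) (K : Ideal B₀)
    (hEK : E.comap ι = Curv2.idealSheaf B₀ K)
    (hfl : letI := ρ.hom.toAlgebra; Module.Flat Γ(S, W) (B₀ ⧸ K)) :
    letI := (h.appLE W ι.opensRange hιW).hom.toAlgebra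
    Module.Flat Γ(S, W)
      (Γ(X', ι.opensRange) ⧸ E.ideal ⟨ι.opensRange, isAffineOpen_opensRange ι⟩) := by
  obtain ⟨θ, hθ, hθE⟩ := exists_iso_of_chart h hW B₀ ι hιW ρ hρ
  have hKE := hθE E K hEK
  have hbij : Function.Bijective θ.hom.hom := θ.commRingCatIsoToRingEquiv.bijective
  have h1 : ((Ideal.Quotient.mk K).comp ρ.hom).Flat := by
    letI := ρ.hom.toAlgebra
    exact (flat_comp_iff (A := Γ(S, W)) (B := B₀) (Ideal.Quotient.mk K)
      Ideal.Quotient.mk_surjective K Ideal.mk_ker).2 hfl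
  letI := (h.appLE W ι.opensRange hιW).hom.toAlgebra
  have hsurj : Function.Surjective ((Ideal.Quotient.mk K).comp θ.hom.hom) :=
    Ideal.Quotient.mk_surjective.comp hbij.2
  have hker : RingHom.ker ((Ideal.Quotient.mk K).comp θ.hom.hom) =
      E.ideal ⟨ι.opensRange, isAffineOpen_opensRange ι⟩ := by
    rw [← RingHom.comap_ker, Ideal.mk_ker, ← hKE, Ideal.comap_map_of_bijective _ hbij]
  refine (flat_comp_iff (A := Γ(S, W)) ((Ideal.Quotient.mk K).comp θ.hom.hom) hsurj _ hker).1 ?_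
  have h2 : ((Ideal.Quotient.mk K).comp θ.hom.hom).comp
      (algebraMap Γ(S, W) Γ(X', ι.opensRange)) = (Ideal.Quotient.mk K).comp ρ.hom := by
    rw [RingHom.comp_assoc, ← hθ]
    rfl
  rw [h2]
  exact h1

/-- flatness on a chart. -/
theorem flat_of_chart {X' S : Scheme.{u}} (h : X' ⟶ S) {W : S.Opens} (hW : IsAffineOpen W)
    (B₀ : Type u) [CommRing B₀] (ι : Spec (CommRingCat.of B₀) ⟶ X') [IsOpenImmersion ι]
    (hιW : ι.opensRange ≤ h ⁻¹ᵁ W) (ρ : Γ(S, W) ⟶ CommRingCat.of B₀)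
    (hρ : ι ≫ h = Spec.map ρ ≫ hW.fromSpec) (hfl : ρ.hom.Flat) :
    (h.appLE W ι.opensRange hιW).hom.Flat := by
  obtain ⟨θ, hθ, -⟩ := exists_iso_of_chart h hW B₀ ι hιW ρ hρ
  have h1 : h.appLE W ι.opensRange hιW = ρ ≫ θ.inv := by
    rw [← hθ, Category.assoc, Iso.hom_inv_id, Category.comp_id]
  rw [h1, CommRingCat.hom_comp]
  exact RingHom.Flat.comp hfl
    (RingHom.Flat.of_bijective θ.symm.commRingCatIsoToRingEquiv.bijective)

theorem map_eq_span {A : Type u} [CommRing A] (I : Ideal A) (a : A) (ha : a ∈ I) :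
    I.map (algebraMap A (BlowUp.affineAlgebra A I a)) =
      Ideal.span {algebraMap A (BlowUp.affineAlgebra A I a) a} := by
  apply le_antisymm
  · rw [Ideal.map_le_iff_le_comap]
    intro x hx
    exact Ideal.mem_span_singleton.2 (algebraMap_a_dvd I a hx)
  · rw [Ideal.span_le, Set.singleton_subset_iff]
    exact Ideal.mem_map_of_mem _ ha

/-- affine charts `Spec A[I/a]` of a blow-up, lying over affine opens of `X` and `S`. -/
theorem exists_chart {X X' S : Scheme.{u}} (g : X ⟶ S) (𝓘 : X.IdealSheafData) (b : X' ⟶ X)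
    (hb : BlowUp.IsBlowUp b 𝓘) (x' : X') :
    ∃ (W : S.Opens) (hW : IsAffineOpen W) (U : X.Opens) (hU : IsAffineOpen U)
      (hUW : U ≤ g ⁻¹ᵁ W) (a : Γ(X, U)) (_ : a ∈ 𝓘.ideal ⟨U, hU⟩)
      (ι : Spec (CommRingCat.of (BlowUp.affineAlgebra Γ(X, U) (𝓘.ideal ⟨U, hU⟩) a)) ⟶ X')
      (_ : IsOpenImmersion ι),
      x' ∈ ι.opensRange ∧
      ι ≫ b ≫ g = Spec.map (g.appLE W U hUW ≫ CommRingCat.ofHom
        (algebraMap Γ(X, U) (BlowUp.affineAlgebra Γ(X, U) (𝓘.ideal ⟨U, hU⟩) a))) ≫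
          hW.fromSpec ∧
      (𝓘.comap b).comap ι =
        Curv2.idealSheaf (BlowUp.affineAlgebra Γ(X, U) (𝓘.ideal ⟨U, hU⟩) a)
          (Ideal.span {algebraMap Γ(X, U)
            (BlowUp.affineAlgebra Γ(X, U) (𝓘.ideal ⟨U, hU⟩) a) a}) := by
  obtain ⟨_, ⟨W, hW, rfl⟩, hxW, -⟩ := (S.isBasis_affineOpens).exists_subset_of_mem_open
    (Set.mem_univ (g (b x'))) isOpen_univ
  obtain ⟨_, ⟨U, hU, rfl⟩, hxU, hUW⟩ := (X.isBasis_affineOpens).exists_subset_of_mem_open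
    (show b x' ∈ ((g ⁻¹ᵁ W : X.Opens) : Set X) from hxW) (g ⁻¹ᵁ W).2
  have hUW' : U ≤ g ⁻¹ᵁ W := hUW
  have sq : IsPullback (pullback.fst b hU.fromSpec) (pullback.snd b hU.fromSpec) b hU.fromSpec :=
    IsPullback.of_hasPullback b hU.fromSpec
  have hq : BlowUp.IsBlowUp (pullback.snd b hU.fromSpec)
      (Curv2.idealSheaf Γ(X, U) (𝓘.ideal ⟨U, hU⟩)) := by
    have := isBlowUp_of_isPullback hb hU.fromSpec (pullback.fst b hU.fromSpec)
      (pullback.snd b hU.fromSpec) sq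
    rwa [comap_fromSpec] at this
  obtain ⟨y, hy⟩ : ∃ y, hU.fromSpec y = b x' := by
    have : b x' ∈ Set.range hU.fromSpec := by
      rw [hU.range_fromSpec]
      exact hxU
    exact this
  obtain ⟨x₀, hx₀, -⟩ := Scheme.Pullback.exists_preimage_pullback x' y hy.symm
  obtain ⟨a, ha, V, e, hx₀V, he⟩ := Groth.Agent.Lib.Helper2.BlowChart.main Γ(X, U)
    (𝓘.ideal ⟨U, hU⟩) (pullback.snd b hU.fromSpec) hq x₀
  have hιb : (e.inv ≫ V.ι ≫ pullback.fst b hU.fromSpec) ≫ b =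
      Spec.map (CommRingCat.ofHom (algebraMap Γ(X, U)
        (BlowUp.affineAlgebra Γ(X, U) (𝓘.ideal ⟨U, hU⟩) a))) ≫ hU.fromSpec := by
    rw [Category.assoc, Category.assoc, pullback.condition, ← Category.assoc V.ι, ← he,
      Category.assoc, Iso.inv_hom_id_assoc]
  refine ⟨W, hW, U, hU, hUW', a, ha, e.inv ≫ V.ι ≫ pullback.fst b hU.fromSpec, inferInstance,
    ?_, ?_, ?_⟩
  · refine ⟨e.hom ⟨x₀, hx₀V⟩, ?_⟩
    rw [Scheme.Hom.comp_apply, Scheme.Hom.comp_apply]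
    have h1 : e.inv (e.hom ⟨x₀, hx₀V⟩) = ⟨x₀, hx₀V⟩ := by
      rw [← Scheme.Hom.comp_apply, e.hom_inv_id]
      rfl
    rw [h1]
    exact hx₀
  · rw [← Category.assoc, hιb, Spec.map_comp, Category.assoc, Category.assoc,
      IsAffineOpen.SpecMap_appLE_fromSpec g hW hU hUW']
  · rw [← Scheme.IdealSheafData.comap_comp, hιb, Scheme.IdealSheafData.comap_comp, comap_fromSpec,
      comap_idealSheaf_SpecMap, map_eq_span _ _ ha]

theorem chart_le {X X' S : Scheme.{u}} (g : X ⟶ S) (b : X' ⟶ X) {W : S.Opens}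
    (hW : IsAffineOpen W) {B₀ : CommRingCat.{u}} (ι : Spec B₀ ⟶ X') [IsOpenImmersion ι]
    (ρ : Γ(S, W) ⟶ B₀)
    (hfac : ι ≫ b ≫ g = Spec.map ρ ≫ hW.fromSpec) : ι.opensRange ≤ (b ≫ g) ⁻¹ᵁ W := by
  rintro _ ⟨t, rfl⟩
  show (b ≫ g) (ι t) ∈ W
  rw [← Scheme.Hom.comp_apply, hfac, Scheme.Hom.comp_apply]
  have h1 : hW.fromSpec ((Spec.map ρ) t) ∈ Set.range hW.fromSpec := ⟨_, rfl⟩
  rw [hW.range_fromSpec] at h1
  exact h1

/-- the exceptional divisor is flat over the base when all thickenings are. -/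
theorem flat_exceptional {X X' S : Scheme.{u}} (g : X ⟶ S) (𝓘 : X.IdealSheafData)
    (hflat : ∀ n : ℕ, Flat ((𝓘 ^ (n + 1)).subschemeι ≫ g)) (b : X' ⟶ X)
    (hb : BlowUp.IsBlowUp b 𝓘) : Flat ((𝓘.comap b).subschemeι ≫ b ≫ g) := by
  apply flat_of_local (b ≫ g) (𝓘.comap b)
  intro x'
  obtain ⟨W, hW, U, hU, hUW, a, ha, ι, hι, hx', hfac, hcomap⟩ := exists_chart g 𝓘 b hb x'
  haveI := hι
  have hιW : ι.opensRange ≤ (b ≫ g) ⁻¹ᵁ W := chart_le g b hW ι _ hfac
  refine ⟨W, hW, ι.opensRange, isAffineOpen_opensRange ι, hx', hιW, ?_⟩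
  apply flat_quotient_of_chart (b ≫ g) hW _ ι hιW _ hfac (𝓘.comap b) _ hcomap
  have hfl : ∀ n : ℕ, letI := (g.appLE W U hUW).hom.toAlgebra
      Module.Flat Γ(S, W) (Γ(X, U) ⧸ (𝓘.ideal ⟨U, hU⟩) ^ (n + 1)) := fun n => by
    haveI := hflat n
    exact flat_quotient_of_flat g (𝓘 ^ (n + 1)) hW hU hUW
  exact flat_quotient_affineAlgebra (g.appLE W U hUW).hom (𝓘.ideal ⟨U, hU⟩) a ha hfl

/-- the blow-up is flat over the base when the scheme and all thickenings are. -/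
theorem flat_comp_of_thickenings {X X' S : Scheme.{u}} (g : X ⟶ S) [Flat g]
    (𝓘 : X.IdealSheafData) (hflat : ∀ n : ℕ, Flat ((𝓘 ^ (n + 1)).subschemeι ≫ g)) (b : X' ⟶ X)
    (hb : BlowUp.IsBlowUp b 𝓘) : Flat (b ≫ g) := by
  have hQ : RingHom.StableUnderCompositionWithLocalizationAwaySource RingHom.Flat :=
    fun R S T _ _ _ _ r _ g hg => RingHom.Flat.comp (RingHom.Flat.holdsForLocalizationAway S r) hg
  rw [HasRingHomProperty.iff_exists_appLE (P := @Flat) hQ]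
  intro x'
  obtain ⟨W, hW, U, hU, hUW, a, ha, ι, hι, hx', hfac, hcomap⟩ := exists_chart g 𝓘 b hb x'
  haveI := hι
  have hιW : ι.opensRange ≤ (b ≫ g) ⁻¹ᵁ W := chart_le g b hW ι _ hfac
  refine ⟨⟨W, hW⟩, ⟨ι.opensRange, isAffineOpen_opensRange ι⟩, hx', hιW, ?_⟩
  apply flat_of_chart (b ≫ g) hW _ ι hιW _ hfac
  have hfl : ∀ n : ℕ, letI := (g.appLE W U hUW).hom.toAlgebra
      Module.Flat Γ(S, W) (Γ(X, U) ⧸ (𝓘.ideal ⟨U, hU⟩) ^ (n + 1)) := fun n => by
    haveI := hflat n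
    exact flat_quotient_of_flat g (𝓘 ^ (n + 1)) hW hU hUW
  exact flat_affineAlgebra (g.appLE W U hUW).hom (𝓘.ideal ⟨U, hU⟩) a ha
    (g.flat_appLE hW hU hUW) hfl

/-- the base change square of `CInt.baseChangeOver`. -/
theorem isPullback_baseChangeOver {X X' S S₁ : Scheme.{u}} (b : X' ⟶ X) (g : X ⟶ S)
    (s : S₁ ⟶ S) :
    IsPullback (pullback.fst (b ≫ g) s) (CInt.baseChangeOver b g s) b (pullback.fst g s) := by
  have h1 : CInt.baseChangeOver b g s ≫ pullback.snd g s = pullback.snd (b ≫ g) s := by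
    unfold CInt.baseChangeOver pullback.map
    rw [pullback.lift_snd, Category.comp_id]
  have h2 : CInt.baseChangeOver b g s ≫ pullback.fst g s = pullback.fst (b ≫ g) s ≫ b := by
    unfold CInt.baseChangeOver pullback.map
    rw [pullback.lift_fst]
  have t : IsPullback (pullback.snd g s) (pullback.fst g s) s g :=
    (IsPullback.of_hasPullback g s).flip
  have o : IsPullback (CInt.baseChangeOver b g s ≫ pullback.snd g s) (pullback.fst (b ≫ g) s) s
      (b ≫ g) := by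
    rw [h1]
    exact (IsPullback.of_hasPullback (b ≫ g) s).flip
  exact (IsPullback.of_right o h2 t).flip

/-- blowing up commutes with arbitrary base change when all thickenings are flat. -/
theorem isEffCartierIdeal_comap_of_thickenings {X X' S T P : Scheme.{u}} (g : X ⟶ S)
    (𝓘 : X.IdealSheafData) (hflat : ∀ n : ℕ, Flat ((𝓘 ^ (n + 1)).subschemeι ≫ g)) (b : X' ⟶ X)
    (hb : BlowUp.IsBlowUp b 𝓘) (s : T ⟶ S) (p : P ⟶ X') (q : P ⟶ T)
    (sq : IsPullback p q (b ≫ g) s) : BlowUp.IsEffCartierIdeal ((𝓘.comap b).comap p) := by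
  haveI := flat_exceptional g 𝓘 hflat b hb
  exact isEffCartierIdeal_comap_of_isPullback (b ≫ g) s p q sq (𝓘.comap b) hb.1

end Groth.Agent.Lib.Helper2.BlowThick
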