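import Mathlib
import Groth.Agent.Lib.Helper5RLR3
import Groth.Agent.S5802

/-!
# The Hilbert function of a regular local ring (helper5)

`length (A ⧸ m ^ i) = (i + d - 1).choose d` for a regular local ring of dimension `d`, and the
converse characterisation of regular local rings by their Hilbert function.
-/

set_option autoImplicit false
universe u

namespace Groth.Agent.Lib.Helper5.HilbertRLR

open IsLocalRing

section Colon

variable {A : Type*} [CommRing A] (I' I : Ideal A) (x : A)

/-- Multiplication by `x` as a map `A ⧸ I' → A ⧸ I`. -/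
noncomputable def mulQ (hx : ∀ a ∈ I', x * a ∈ I) : A ⧸ I' →ₗ[A] A ⧸ I :=
  Submodule.mapQ I' I (LinearMap.lsmul A A x) (fun a ha => by
    rw [Submodule.mem_comap]
    simpa using hx a ha)

theorem mulQ_mk (hx : ∀ a ∈ I', x * a ∈ I) (a : A) :
    mulQ I' I x hx (Ideal.Quotient.mk I' a) = Ideal.Quotient.mk I (x * a) := by
  change Submodule.mapQ I' I (LinearMap.lsmul A A x) _ (Submodule.Quotient.mk a) = _
  rw [Submodule.mapQ_apply]
  rfl

/-- The projection `A ⧸ I → A ⧸ (I ⊔ (x))`. -/
noncomputable def projQ : A ⧸ I →ₗ[A] A ⧸ (I ⊔ Ideal.span {x}) :=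
  Submodule.mapQ I (I ⊔ Ideal.span {x}) LinearMap.id (by
    rw [Submodule.comap_id]
    exact le_sup_left)

theorem projQ_mk (a : A) :
    projQ I x (Ideal.Quotient.mk I a) = Ideal.Quotient.mk (I ⊔ Ideal.span {x}) a := by
  change Submodule.mapQ I (I ⊔ Ideal.span {x}) LinearMap.id _ (Submodule.Quotient.mk a) = _
  rw [Submodule.mapQ_apply]
  rfl

theorem projQ_surjective : Function.Surjective (projQ I x) := by
  intro b
  obtain ⟨b, rfl⟩ := Ideal.Quotient.mk_surjective b
  exact ⟨Ideal.Quotient.mk I b, projQ_mk I x b⟩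

theorem exact_mulQ_projQ (hx : ∀ a ∈ I', x * a ∈ I) :
    Function.Exact (mulQ I' I x hx) (projQ I x) := by
  intro b
  obtain ⟨b, rfl⟩ := Ideal.Quotient.mk_surjective b
  rw [projQ_mk, Ideal.Quotient.eq_zero_iff_mem]
  constructor
  · intro hb
    obtain ⟨i, hi, y, hy, rfl⟩ := Submodule.mem_sup.mp hb
    obtain ⟨a, rfl⟩ := Ideal.mem_span_singleton'.mp hy
    refine ⟨Ideal.Quotient.mk I' a, ?_⟩
    rw [mulQ_mk, Ideal.Quotient.eq]
    have : x * a - (i + a * x) = -i := by ring
    rw [this]
    exact I.neg_mem hi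
  · rintro ⟨a, ha⟩
    obtain ⟨a, rfl⟩ := Ideal.Quotient.mk_surjective a
    rw [mulQ_mk, Ideal.Quotient.eq] at ha
    have : b = -(x * a - b) + a * x := by ring
    rw [this]
    exact Ideal.add_mem _ (Ideal.mem_sup_left (I.neg_mem ha))
      (Ideal.mem_sup_right (Ideal.mem_span_singleton'.mpr ⟨a, rfl⟩))

theorem mulQ_injective (hx : ∀ a ∈ I', x * a ∈ I) (h : ∀ a, x * a ∈ I → a ∈ I') :
    Function.Injective (mulQ I' I x hx) := by
  rw [← LinearMap.ker_eq_bot, eq_bot_iff]
  intro a ha
  obtain ⟨a, rfl⟩ := Ideal.Quotient.mk_surjective a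
  rw [LinearMap.mem_ker, mulQ_mk, Ideal.Quotient.eq_zero_iff_mem] at ha
  rw [Submodule.mem_bot, Ideal.Quotient.eq_zero_iff_mem]
  exact h a ha

/-- Additivity of length when `(I : x) = I'`. -/
theorem length_eq_add_of_colon (hx : ∀ a ∈ I', x * a ∈ I) (h : ∀ a, x * a ∈ I → a ∈ I') :
    Module.length A (A ⧸ I) =
      Module.length A (A ⧸ I') + Module.length A (A ⧸ (I ⊔ Ideal.span {x})) :=
  Module.length_eq_add_of_exact _ _ (mulQ_injective I' I x hx h) (projQ_surjective I x)
    (exact_mulQ_projQ I' I x hx)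

theorem length_range_add (hx : ∀ a ∈ I', x * a ∈ I) :
    Module.length A (A ⧸ I) = Module.length A (LinearMap.range (mulQ I' I x hx)) +
      Module.length A (A ⧸ (I ⊔ Ideal.span {x})) := by
  refine Module.length_eq_add_of_exact (LinearMap.range (mulQ I' I x hx)).subtype (projQ I x)
    (Submodule.subtype_injective _) (projQ_surjective I x) ?_
  intro b
  rw [exact_mulQ_projQ I' I x hx b]
  simp

theorem length_ker_add (hx : ∀ a ∈ I', x * a ∈ I) :
    Module.length A (A ⧸ I') = Module.length A (LinearMap.ker (mulQ I' I x hx)) +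
      Module.length A (LinearMap.range (mulQ I' I x hx)) := by
  refine Module.length_eq_add_of_exact (LinearMap.ker (mulQ I' I x hx)).subtype
    (mulQ I' I x hx).rangeRestrict (Submodule.subtype_injective _)
    (LinearMap.surjective_rangeRestrict _) ?_
  intro b
  rw [← LinearMap.mem_ker, LinearMap.ker_rangeRestrict]
  simp

/-- Subadditivity of length in general. -/
theorem length_le_add (hx : ∀ a ∈ I', x * a ∈ I) :
    Module.length A (A ⧸ I) ≤
      Module.length A (A ⧸ I') + Module.length A (A ⧸ (I ⊔ Ideal.span {x})) := by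
  rw [length_range_add I' I x hx, length_ker_add I' I x hx]
  gcongr
  exact le_add_self

/-- If additivity holds (with finite lengths) then `(I : x) ⊆ I'`. -/
theorem colon_of_length_eq (hx : ∀ a ∈ I', x * a ∈ I) (hfin : Module.length A (A ⧸ I) ≠ ⊤)
    (heq : Module.length A (A ⧸ I) =
      Module.length A (A ⧸ I') + Module.length A (A ⧸ (I ⊔ Ideal.span {x}))) :
    ∀ a, x * a ∈ I → a ∈ I' := by
  have h1 := length_range_add I' I x hx
  have h2 := length_ker_add I' I x hx
  have hker : Module.length A (LinearMap.ker (mulQ I' I x hx)) = 0 := by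
    generalize Module.length A (A ⧸ I) = LI at *
    generalize Module.length A (A ⧸ I') = LI' at *
    generalize Module.length A (A ⧸ (I ⊔ Ideal.span {x})) = L3 at *
    generalize Module.length A (LinearMap.range (mulQ I' I x hx)) = Lr at *
    generalize Module.length A (LinearMap.ker (mulQ I' I x hx)) = Lk at *
    have hLI' : LI' ≠ ⊤ := by
      intro h; rw [h, top_add] at heq; exact hfin heq
    have hL3 : L3 ≠ ⊤ := by
      intro h; rw [h, add_top] at heq; exact hfin heq
    have hLr : Lr ≠ ⊤ := by
      intro h; rw [h, top_add] at h1; exact hfin h1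
    have hLk : Lk ≠ ⊤ := by
      intro h; rw [h, top_add] at h2; exact hLI' h2
    lift LI to ℕ using hfin
    lift LI' to ℕ using hLI'
    lift L3 to ℕ using hL3
    lift Lr to ℕ using hLr
    lift Lk to ℕ using hLk
    norm_cast at *
    omega
  rw [Module.length_eq_zero_iff] at hker
  intro a ha
  have hmem : Ideal.Quotient.mk I' a ∈ LinearMap.ker (mulQ I' I x hx) := by
    rw [LinearMap.mem_ker, mulQ_mk, Ideal.Quotient.eq_zero_iff_mem]
    exact ha
  have h0 : (⟨_, hmem⟩ : LinearMap.ker (mulQ I' I x hx)) = 0 := Subsingleton.elim _ _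
  have h3 : Ideal.Quotient.mk I' a = 0 := congrArg Subtype.val h0
  exact Ideal.Quotient.eq_zero_iff_mem.mp h3

end Colon

section QuasiRegular

open MvPolynomial

/-- For a quasi-regular sequence `f` generating `J`: `f 0 * a ∈ J ^ (n + 1)` implies `a ∈ J ^ n`. -/
theorem mem_pow_of_mul_mem_pow_succ {A : Type u} [CommRing A] {c : ℕ} (f : Fin (c + 1) → A)
    (hqr : CAlgX.IsQuasiRegular f) (n : ℕ) (a : A)
    (h : f 0 * a ∈ Ideal.span (Set.range f) ^ (n + 1)) : a ∈ Ideal.span (Set.range f) ^ n := by
  induction n with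
  | zero => simp
  | succ n ih =>
    have h1 : a ∈ Ideal.span (Set.range f) ^ n :=
      ih (Ideal.pow_le_pow_right (Nat.le_succ _) h)
    obtain ⟨G, hG, hGa⟩ := (Ideal.mem_span_pow_iff_exists_isHomogeneous f a).mp h1
    have hP : (X 0 * G : MvPolynomial (Fin (c + 1)) A).IsHomogeneous (1 + n) :=
      (isHomogeneous_X A 0).mul hG
    rw [add_comm 1 n] at hP
    have hev : eval f (X 0 * G) = f 0 * a := by rw [map_mul, eval_X, hGa]
    have hcoeff : ∀ e : Fin (c + 1) →₀ ℕ, coeff e G ∈ Ideal.span (Set.range f) := by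
      intro e
      rw [← coeff_X_mul e 0 G]
      exact hqr (n + 1) (X 0 * G) hP (by rw [hev]; exact h) _
    rw [← hGa, G.as_sum, map_sum, pow_succ']
    refine Ideal.sum_mem _ fun e he => ?_
    rw [eval_monomial]
    refine Ideal.mul_mem_mul (hcoeff e) ?_
    rw [Ideal.mem_span_pow_iff_exists_isHomogeneous]
    refine ⟨monomial e 1, ?_, by rw [eval_monomial, one_mul]⟩
    have hdeg : e.degree = n := by
      rw [Finsupp.degree_eq_weight_one]
      exact hG (mem_support_iff.mp he)
    exact isHomogeneous_monomial 1 (by rw [← hdeg, Finsupp.degree_eq_weight_one])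

end QuasiRegular


section Quot

variable {A : Type u} [CommRing A] [IsLocalRing A] (x : A) [IsLocalRing (A ⧸ Ideal.span {x})]

/-- `A ⧸ (m ^ i + (x))` and `Ā ⧸ m̄ ^ i` have the same length, `Ā = A ⧸ (x)`. -/
theorem length_quotient_sup (i : ℕ) :
    Module.length A (A ⧸ (maximalIdeal A ^ i ⊔ Ideal.span {x})) =
      Module.length (A ⧸ Ideal.span {x})
        ((A ⧸ Ideal.span {x}) ⧸ maximalIdeal (A ⧸ Ideal.span {x}) ^ i) := by
  rw [← Module.length_eq_of_surjective (S := A) (R := A ⧸ Ideal.span {x})
    (M := (A ⧸ Ideal.span {x}) ⧸ maximalIdeal (A ⧸ Ideal.span {x}) ^ i)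
    Ideal.Quotient.mk_surjective]
  obtain ⟨φ, hφ⟩ : ∃ φ : A →ₗ[A] (A ⧸ Ideal.span {x}) ⧸ maximalIdeal (A ⧸ Ideal.span {x}) ^ i,
      ∀ a, φ a = Ideal.Quotient.mk _ (Ideal.Quotient.mk (Ideal.span {x}) a) :=
    ⟨((maximalIdeal (A ⧸ Ideal.span {x}) ^ i).mkQ.restrictScalars A).comp
      (Algebra.linearMap A (A ⧸ Ideal.span {x})), fun a => rfl⟩
  have hsurj : Function.Surjective φ := by
    intro b
    obtain ⟨b, rfl⟩ := Ideal.Quotient.mk_surjective b
    obtain ⟨b, rfl⟩ := Ideal.Quotient.mk_surjective b
    exact ⟨b, hφ b⟩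
  have hker : LinearMap.ker φ = maximalIdeal A ^ i ⊔ Ideal.span {x} := by
    ext a
    rw [LinearMap.mem_ker, hφ, Ideal.Quotient.eq_zero_iff_mem,
      Groth.Agent.Lib.Helper5.maximalIdeal_quotient_eq_map, ← Ideal.map_pow,
      ← Ideal.mem_comap, Ideal.comap_map_of_surjective _ Ideal.Quotient.mk_surjective,
      ← RingHom.ker_eq_comap_bot, Ideal.mk_ker]
  exact ((Submodule.quotEquivOfEq _ _ hker).symm.trans
    (LinearMap.quotKerEquivOfSurjective φ hsurj)).length_eq

end Quot


section Regular

theorem length_quotient_maximalIdeal (A : Type*) [CommRing A] [IsLocalRing A] :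
    Module.length A (A ⧸ maximalIdeal A) = 1 :=
  Module.length_eq_one_iff.mpr
    (isSimpleModule_iff_isCoatom.mpr (Ideal.isMaximal_def.mp inferInstance))

theorem exists_regular_system {A : Type u} [CommRing A] [IsRegularLocalRing A] {d : ℕ}
    (hd : ringKrullDim A = d) :
    ∃ z : Fin d → maximalIdeal A, Ideal.span (Set.range fun i => (z i : A)) = maximalIdeal A := by
  have hNoeth : IsNoetherianRing A := inferInstance
  have hreg : ((maximalIdeal A).spanFinrank : WithBot ℕ∞) = ringKrullDim A :=
    IsRegularLocalRing.spanFinrank_maximalIdeal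
  rw [hd] at hreg
  have hreg' : (maximalIdeal A).spanFinrank = d := by exact_mod_cast hreg
  obtain ⟨s, z, hs, hsup⟩ := Groth.Agent.Lib.Helper5.exists_extension_span_eq_maximalIdeal
    (R := A) (r := 0) (fun i => i.elim0) (linearIndependent_empty_type)
  have hsd : s = d := by omega
  subst hsd
  refine ⟨z, ?_⟩
  have : (Set.range fun i : Fin 0 => ((Fin.elim0 i : maximalIdeal A) : A)) = ∅ :=
    Set.range_eq_empty _
  rw [this, Ideal.span_empty, sup_bot_eq] at hsup
  exact hsup

/-- The Hilbert function of a regular local ring of dimension `d`. -/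
theorem length_quotient_pow_of_isRegularLocalRing (d : ℕ) :
    ∀ (A : Type u) [CommRing A] [IsRegularLocalRing A], ringKrullDim A = d →
      ∀ i : ℕ, 1 ≤ i →
        Module.length A (A ⧸ maximalIdeal A ^ i) = ((i + d - 1).choose d : ℕ∞) := by
  induction d with
  | zero =>
    intro A _ _ hd i hi
    obtain ⟨z, hz⟩ := exists_regular_system hd
    have hm : maximalIdeal A = ⊥ := by
      rw [← hz]
      have : (Set.range fun i : Fin 0 => ((z i : maximalIdeal A) : A)) = ∅ := Set.range_eq_empty _
      rw [this, Ideal.span_empty]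
    have hpow : maximalIdeal A ^ i = maximalIdeal A := by
      rw [hm, ← Ideal.zero_eq_bot, zero_pow (by omega)]
    rw [hpow, length_quotient_maximalIdeal, Nat.choose_zero_right, Nat.cast_one]
  | succ d ihd =>
    intro A _ _ hd i hi
    have hNoeth : IsNoetherianRing A := inferInstance
    obtain ⟨z, hz⟩ := exists_regular_system hd
    obtain ⟨f, hf⟩ : ∃ f : Fin (d + 1) → A, f = fun i => (z i : A) := ⟨_, rfl⟩
    have hfm : Ideal.span (Set.range f) = maximalIdeal A := by rw [hf]; exact hz
    have hreg := Groth.Agent.Lib.Helper5.isRegular_ofFn_of_span_eq_maximalIdeal hd f hfm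
    have hqr := Groth.Agent.S5802.Aux.QR.main A (d + 1) f hreg.toIsWeaklyRegular
    have hli := Groth.Agent.Lib.Helper5.linearIndependent_toCotangent_of_span_eq hd z hz
    obtain ⟨x, hx⟩ : ∃ x : A, x = f 0 := ⟨_, rfl⟩
    have hxm : x ∈ maximalIdeal A := by rw [hx, hf]; exact (z 0).2
    have hx2 : x ∉ maximalIdeal A ^ 2 := by
      have h1 := hli.ne_zero 0
      rw [Ne, Ideal.toCotangent_eq_zero] at h1
      rw [hx, hf]
      exact h1
    have hne : Ideal.span ({x} : Set A) ≠ ⊤ := by
      rw [Ne, Ideal.span_singleton_eq_top]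
      exact (mem_maximalIdeal x).mp hxm
    have hloc : IsLocalRing (A ⧸ Ideal.span ({x} : Set A)) :=
      Groth.Agent.Lib.Helper5.isLocalRing_quotient hne
    obtain ⟨hQreg, hQdim⟩ :=
      Groth.Agent.Lib.Helper5.isRegularLocalRing_quotient_span_singleton hxm hx2
    have hQd : ringKrullDim (A ⧸ Ideal.span ({x} : Set A)) = d := by
      obtain ⟨n, hn⟩ := Groth.Agent.Lib.Helper5.exists_nat_ringKrullDim_eq
        (A ⧸ Ideal.span ({x} : Set A))
      rw [hn, hd] at hQdim
      have : n + 1 = d + 1 := by exact_mod_cast hQdim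
      rw [hn]
      have : n = d := by omega
      rw [this]
    have hcolon : ∀ (n : ℕ) (a : A), x * a ∈ maximalIdeal A ^ (n + 1) → a ∈ maximalIdeal A ^ n := by
      intro n a ha
      rw [← hfm] at ha ⊢
      rw [hx] at ha
      exact mem_pow_of_mul_mem_pow_succ f hqr n a ha
    induction i, hi using Nat.le_induction with
    | base =>
      rw [pow_one, length_quotient_maximalIdeal]
      have : 1 + (d + 1) - 1 = d + 1 := by omega
      rw [this, Nat.choose_self, Nat.cast_one]
    | succ i hi ih =>
      have hx' : ∀ a ∈ maximalIdeal A ^ i, x * a ∈ maximalIdeal A ^ (i + 1) := by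
        intro a ha
        rw [pow_succ']
        exact Ideal.mul_mem_mul hxm ha
      rw [length_eq_add_of_colon (maximalIdeal A ^ i) (maximalIdeal A ^ (i + 1)) x hx' (hcolon i),
        ih, length_quotient_sup x (i + 1), ihd (A ⧸ Ideal.span ({x} : Set A)) hQd (i + 1) (by omega)]
      have e1 : i + (d + 1) - 1 = i + d := by omega
      have e2 : i + 1 + d - 1 = i + d := by omega
      have e3 : i + 1 + (d + 1) - 1 = i + d + 1 := by omega
      rw [e1, e2, e3, Nat.choose_succ_succ (i + d) d]
      push_cast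
      rw [add_comm]

end Regular


section Converse

theorem spanFinrank_quotient_span_singleton {A : Type u} [CommRing A] [IsLocalRing A]
    [IsNoetherianRing A] {x : A} (hx : x ∈ maximalIdeal A) (hx2 : x ∉ maximalIdeal A ^ 2)
    [IsLocalRing (A ⧸ Ideal.span ({x} : Set A))] :
    (maximalIdeal (A ⧸ Ideal.span ({x} : Set A))).spanFinrank + 1 =
      (maximalIdeal A).spanFinrank := by
  have hne : (maximalIdeal A).toCotangent ⟨x, hx⟩ ≠ 0 := by
    rw [Ne, Ideal.toCotangent_eq_zero]
    exact hx2
  have hli : LinearIndependent (ResidueField A)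
      (fun i : Fin 1 => (maximalIdeal A).toCotangent
        ((fun _ : Fin 1 => (⟨x, hx⟩ : maximalIdeal A)) i)) := by
    rw [linearIndependent_unique_iff]
    exact hne
  have hrange : (Set.range fun i : Fin 1 =>
      (((fun _ : Fin 1 => (⟨x, hx⟩ : maximalIdeal A)) i : maximalIdeal A) : A)) = {x} := by
    simp
  have h1 := Groth.Agent.Lib.Helper5.finrank_cotV_span_range_of_linearIndependent
    (fun _ : Fin 1 => (⟨x, hx⟩ : maximalIdeal A)) hli
  rw [hrange] at h1
  have h2 := Groth.Agent.Lib.Helper5.spanFinrank_maximalIdeal_quotient_add_finrank_cotV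
    (Ideal.span ({x} : Set A))
  rw [h1] at h2
  exact h2

theorem length_quotient_pow_zero (A : Type*) [CommRing A] (I : Ideal A) :
    Module.length A (A ⧸ I ^ 0) = 0 := by
  rw [Module.length_eq_zero_iff, pow_zero, Ideal.one_eq_top]
  infer_instance

/-- Upper bound for the Hilbert function in terms of the embedding dimension, and the equality case:
equality for all `i` forces regularity. -/
theorem hilbert_bound (r : ℕ) :
    ∀ (A : Type u) [CommRing A] [IsLocalRing A] [IsNoetherianRing A],
      (maximalIdeal A).spanFinrank = r →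
      (∀ i : ℕ, Module.length A (A ⧸ maximalIdeal A ^ i) ≤ ((i + r - 1).choose r : ℕ∞)) ∧
      ((∀ i : ℕ, 1 ≤ i →
          Module.length A (A ⧸ maximalIdeal A ^ i) = ((i + r - 1).choose r : ℕ∞)) →
        IsRegularLocalRing A) := by
  induction r with
  | zero =>
    intro A _ _ _ hr
    refine ⟨fun i => ?_, fun _ => ?_⟩
    · rcases Nat.eq_zero_or_pos i with rfl | hi
      · rw [length_quotient_pow_zero]
        exact zero_le
      · have hm : maximalIdeal A = ⊥ :=
          (Submodule.spanFinrank_eq_zero_iff_eq_bot (maximalIdeal A).fg_of_isNoetherianRing).mp hr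
        have hpow : maximalIdeal A ^ i = maximalIdeal A := by
          rw [hm, ← Ideal.zero_eq_bot, zero_pow (by omega)]
        rw [hpow, length_quotient_maximalIdeal, Nat.choose_zero_right, Nat.cast_one]
    · apply IsRegularLocalRing.of_spanFinrank_maximalIdeal_le
      rw [hr]
      exact ringKrullDim_nonneg_of_nontrivial
  | succ r ih =>
    intro A _ _ _ hr
    -- an element of `m ∖ m²`
    have hfr : 0 < Module.finrank (ResidueField A) (CotangentSpace A) := by
      rw [← spanFinrank_maximalIdeal_eq_finrank_cotangentSpace, hr]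
      exact Nat.succ_pos r
    obtain ⟨v, hv⟩ := (Module.finrank_pos_iff_exists_ne_zero (R := ResidueField A)).mp hfr
    obtain ⟨z, rfl⟩ := (maximalIdeal A).toCotangent_surjective v
    obtain ⟨x, hxm⟩ := z
    have hx2 : x ∉ maximalIdeal A ^ 2 := by
      rw [Ne, Ideal.toCotangent_eq_zero] at hv
      exact hv
    have hne : Ideal.span ({x} : Set A) ≠ ⊤ := by
      rw [Ne, Ideal.span_singleton_eq_top]
      exact (mem_maximalIdeal x).mp hxm
    have hloc : IsLocalRing (A ⧸ Ideal.span ({x} : Set A)) :=
      Groth.Agent.Lib.Helper5.isLocalRing_quotient hne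
    have hQr : (maximalIdeal (A ⧸ Ideal.span ({x} : Set A))).spanFinrank = r := by
      have := spanFinrank_quotient_span_singleton hxm hx2
      omega
    obtain ⟨hQbound, hQreg⟩ := ih (A ⧸ Ideal.span ({x} : Set A)) hQr
    have hx' : ∀ (i : ℕ) (a : A), a ∈ maximalIdeal A ^ i → x * a ∈ maximalIdeal A ^ (i + 1) := by
      intro i a ha
      rw [pow_succ']
      exact Ideal.mul_mem_mul hxm ha
    have hstep : ∀ i : ℕ, Module.length A (A ⧸ maximalIdeal A ^ (i + 1)) ≤
        Module.length A (A ⧸ maximalIdeal A ^ i) +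
          Module.length (A ⧸ Ideal.span ({x} : Set A))
            ((A ⧸ Ideal.span ({x} : Set A)) ⧸ maximalIdeal (A ⧸ Ideal.span ({x} : Set A)) ^ (i + 1)) := by
      intro i
      rw [← length_quotient_sup x (i + 1)]
      exact length_le_add (maximalIdeal A ^ i) (maximalIdeal A ^ (i + 1)) x (hx' i)
    have hQb : ∀ i : ℕ, Module.length (A ⧸ Ideal.span ({x} : Set A))
        ((A ⧸ Ideal.span ({x} : Set A)) ⧸ maximalIdeal (A ⧸ Ideal.span ({x} : Set A)) ^ (i + 1)) ≤
          (((i + r).choose r : ℕ) : ℕ∞) := by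
      intro i
      have := hQbound (i + 1)
      have e : i + 1 + r - 1 = i + r := by omega
      rwa [e] at this
    have hpascal : ∀ i : ℕ, (((i + r + 1).choose (r + 1) : ℕ) : ℕ∞) =
        (((i + r).choose (r + 1) : ℕ) : ℕ∞) + (((i + r).choose r : ℕ) : ℕ∞) := by
      intro i
      rw [Nat.choose_succ_succ (i + r) r]
      push_cast
      rw [add_comm]
    have hbound : ∀ i : ℕ, Module.length A (A ⧸ maximalIdeal A ^ i) ≤
        (((i + r).choose (r + 1) : ℕ) : ℕ∞) := by
      intro i
      induction i with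
      | zero =>
        rw [length_quotient_pow_zero]
        exact zero_le
      | succ i ihi =>
        have e : i + 1 + r = i + r + 1 := by omega
        rw [e, hpascal i]
        exact (hstep i).trans (add_le_add ihi (hQb i))
    refine ⟨fun i => ?_, fun heq => ?_⟩
    · have e : i + (r + 1) - 1 = i + r := by omega
      rw [e]
      exact hbound i
    · have heq' : ∀ i : ℕ, Module.length A (A ⧸ maximalIdeal A ^ i) =
          (((i + r).choose (r + 1) : ℕ) : ℕ∞) := by
        intro i
        rcases Nat.eq_zero_or_pos i with rfl | hi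
        · rw [length_quotient_pow_zero, zero_add, Nat.choose_succ_self, Nat.cast_zero]
        · have := heq i hi
          have e : i + (r + 1) - 1 = i + r := by omega
          rwa [e] at this
      -- the quotient has the extremal Hilbert function
      have hQeq : ∀ i : ℕ, Module.length (A ⧸ Ideal.span ({x} : Set A))
          ((A ⧸ Ideal.span ({x} : Set A)) ⧸
            maximalIdeal (A ⧸ Ideal.span ({x} : Set A)) ^ (i + 1)) =
            (((i + r).choose r : ℕ) : ℕ∞) := by
        intro i
        refine le_antisymm (hQb i) ?_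
        have h1 := hstep i
        have e : i + 1 + r = i + r + 1 := by omega
        rw [heq' (i + 1), heq' i, e, hpascal i] at h1
        exact (ENat.add_le_add_iff_left (ENat.natCast_ne_top _)).mp h1
      have hQregular : IsRegularLocalRing (A ⧸ Ideal.span ({x} : Set A)) := by
        apply hQreg
        intro i hi
        obtain ⟨j, rfl⟩ : ∃ j, i = j + 1 := ⟨i - 1, by omega⟩
        rw [hQeq j]
        have e : j + 1 + r - 1 = j + r := by omega
        rw [e]
      -- `x` is a nonzerodivisor
      have hcolon : ∀ (i : ℕ) (a : A), x * a ∈ maximalIdeal A ^ (i + 1) → a ∈ maximalIdeal A ^ i := by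
        intro i
        refine colon_of_length_eq (maximalIdeal A ^ i) (maximalIdeal A ^ (i + 1)) x (hx' i) ?_ ?_
        · rw [heq' (i + 1)]
          exact ENat.natCast_ne_top _
        · have e : i + 1 + r = i + r + 1 := by omega
          rw [length_quotient_sup x (i + 1), hQeq i, heq' (i + 1), heq' i, e, hpascal i]
      have hreg : x ∈ nonZeroDivisors A := by
        rw [mem_nonZeroDivisors_iff_right]
        intro a ha
        have hall : ∀ i : ℕ, a ∈ maximalIdeal A ^ i := fun i =>
          hcolon i a (by rw [mul_comm, ha]; exact Ideal.zero_mem _)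
        have hinf : a ∈ ⨅ i : ℕ, maximalIdeal A ^ i := by
          rw [Ideal.mem_iInf]
          exact hall
        rw [Ideal.iInf_pow_eq_bot_of_isLocalRing (maximalIdeal A) Ideal.IsPrime.ne_top'] at hinf
        exact hinf
      exact (Groth.Agent.Lib.Helper5.isRegularLocalRing_of_quotient_span_singleton hxm hreg).1

end Converse


end Groth.Agent.Lib.Helper5.HilbertRLR
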