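import Mathlib

/-!
# The quasi-finite locus commutes with base change
-/

set_option autoImplicit false
universe u

open AlgebraicGeometry CategoryTheory CategoryTheory.Limits

namespace Groth.Agent.Lib.Helper27QFinBC

theorem quasiFiniteAt_iff_fiber {X S : Scheme.{u}} (f : X ⟶ S) [LocallyOfFiniteType f] (x : X)
    (s : S) (hs : f x = s) :
    f.QuasiFiniteAt x ↔
      ∃ z : f.fiber s, f.fiberι s z = x ∧ IsOpen ({z} : Set (f.fiber s)) := by
  subst hs
  rw [Scheme.Hom.quasiFiniteAt_iff_isOpen_singleton_asFiber]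
  constructor
  · intro h
    exact ⟨f.asFiber x, f.fiberι_asFiber x, h⟩
  · rintro ⟨z, hz, hopen⟩
    have : z = f.asFiber x :=
      (f.fiberι _).isEmbedding.injective (by rw [hz, f.fiberι_asFiber])
    rwa [← this]

theorem main {X S X' S' : Scheme.{u}} (f : X ⟶ S) [LocallyOfFiniteType f] (g : S' ⟶ S)
    (g' : X' ⟶ X) (f' : X' ⟶ S') (hsq : IsPullback g' f' f g) :
    {x' : ↑X' | f'.QuasiFiniteAt x'} = g'.base ⁻¹' {x : ↑X | f.QuasiFiniteAt x} := by
  have hf' : LocallyOfFiniteType f' := MorphismProperty.of_isPullback hsq ‹_›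
  ext x'
  simp only [Set.mem_ofPred_eq, Set.mem_preimage]
  constructor
  · intro hq
    have hpb := isPullback_fiberToSpecResidueField_of_isPullback hsq (f' x')
    set hmap : f'.fiber (f' x') ⟶ f.fiber (g (f' x')) :=
      pullback.map _ _ _ _ g' (Spec.map (g.residueFieldMap (f' x'))) g hsq.w.symm (by simp)
      with hmap_def
    have hopen : UniversallyOpen hmap :=
      MorphismProperty.of_isPullback (P := @UniversallyOpen) hpb.flip inferInstance
    rw [quasiFiniteAt_iff_fiber f' x' (f' x') rfl] at hq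
    obtain ⟨z, hz, hzo⟩ := hq
    have hsx : f (g' x') = g (f' x') := by
      rw [← Scheme.Hom.comp_apply, ← Scheme.Hom.comp_apply, hsq.w]
    change f.QuasiFiniteAt (g' x')
    rw [quasiFiniteAt_iff_fiber f (g' x') (g (f' x')) hsx]
    refine ⟨hmap z, ?_, ?_⟩
    · have h1 : hmap ≫ f.fiberι (g (f' x')) = f'.fiberι (f' x') ≫ g' :=
        pullback.lift_fst _ _ _
      rw [← Scheme.Hom.comp_apply, h1, Scheme.Hom.comp_apply, hz]
    · rw [← Set.image_singleton]
      exact hmap.isOpenMap _ hzo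
  · intro hq
    change f.QuasiFiniteAt (g' x') at hq
    set U := f.quasiFiniteLocus with hU
    have hxU : g' x' ∈ U := hq
    have h1 : IsPullback (g' ∣_ U) (g' ⁻¹ᵁ U).ι U.ι g' := isPullback_morphismRestrict g' U
    have h2 := h1.paste_vert hsq
    have h3 : LocallyQuasiFinite (U.ι ≫ f) := by
      rw [← Scheme.Hom.quasiFiniteLocus_eq_top_iff, Scheme.Hom.quasiFiniteLocus_comp]
      exact Scheme.Opens.ι_preimage_self U
    have h4 : LocallyQuasiFinite ((g' ⁻¹ᵁ U).ι ≫ f') :=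
      MorphismProperty.of_isPullback (P := @LocallyQuasiFinite) h2 h3
    have h5 := ((g' ⁻¹ᵁ U).ι ≫ f').quasiFiniteAt ⟨x', hxU⟩
    have h6 : f'.QuasiFiniteAt ((g' ⁻¹ᵁ U).ι ⟨x', hxU⟩) :=
      Scheme.Hom.quasiFiniteAt_comp_iff_of_isOpenImmersion.mp h5
    have h7 : (g' ⁻¹ᵁ U).ι ⟨x', hxU⟩ = x' := by simp
    rwa [h7] at h6

end Groth.Agent.Lib.Helper27QFinBC
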