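import Mathlib
import Groth.Agent.Lib.Helper3GrpFibDim
import Groth.Agent.Lib.Helper27QFinBC

set_option autoImplicit false
set_option linter.style.haveILetI false
universe u

open CategoryTheory CategoryTheory.Limits MonoidalCategory CartesianMonoidalCategory MonObj GrpObj
  AlgebraicGeometry TopologicalSpace Topology

namespace Groth.Agent.Lib.Helper3.GrpHomQF

open Groth.Agent.Lib.Helper3.LocDimBC Groth.Agent.Lib.Helper3.FlatFibDim
  Groth.Agent.Lib.Helper4.FibDim Groth.Agent.Lib.Helper7.TopDim Groth.Agent.Lib.Helper4.VarDim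

/-- in a locally Noetherian scheme a point is open iff the local dimension there is `≤ 0`. -/
theorem isOpen_singleton_iff_localDim_le_zero (F : Scheme.{u}) [IsLocallyNoetherian F] (z : F) :
    IsOpen ({z} : Set F) ↔ FlatMor.localDim F z ≤ 0 := by
  obtain ⟨_, ⟨W, hW, rfl⟩, hzW, -⟩ := F.isBasis_affineOpens.exists_subset_of_mem_open
    (Set.mem_univ z) isOpen_univ
  replace hW : IsAffineOpen W := hW
  haveI : IsNoetherianRing Γ(F, W) := IsLocallyNoetherian.component_noetherian ⟨W, hW⟩
  haveI : NoetherianSpace ((W : Set F) : Type u) := noetherianSpace_of_isAffineOpen W hW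
  have hemb : IsOpenEmbedding (Subtype.val : ((W : Set F) : Type u) → F) :=
    W.isOpen.isOpenEmbedding_subtypeVal
  have h1 := localDim_eq_of_isOpenEmbedding hemb ⟨z, hzW⟩
  have h2 := isOpen_singleton_iff_localDim_eq_zero (X := ((W : Set F) : Type u)) ⟨z, hzW⟩
  have h3 : IsOpen ({z} : Set F) ↔ IsOpen ({⟨z, hzW⟩} : Set ((W : Set F) : Type u)) := by
    constructor
    · intro h
      have := h.preimage hemb.continuous
      convert this using 1
      ext ⟨w, hw⟩
      simp
    · intro h
      have := hemb.isOpenMap _ h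
      simpa using this
  rw [h3, h2, h1]
  exact ⟨fun h => h.le, fun h => le_antisymm h (localDim_nonneg _)⟩

/-- quasi-finiteness at a point is the vanishing of the local fibre dimension (no
quasi-compactness needed). -/
theorem quasiFiniteAt_iff_fibreDimAt_le_zero {X S : Scheme.{u}} (f : X ⟶ S)
    [LocallyOfFiniteType f] (x : X) :
    f.QuasiFiniteAt x ↔ FlatMor.fibreDimAt f x ≤ 0 := by
  haveI : IsLocallyNoetherian (f.fiber (f x)) :=
    LocallyOfFiniteType.isLocallyNoetherian (f.fiberToSpecResidueField (f x))
  rw [Scheme.Hom.quasiFiniteAt_iff_isOpen_singleton_asFiber,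
    isOpen_singleton_iff_localDim_le_zero]
  rfl

theorem locallyQuasiFinite_iff_forall_fibreDimAt_le_zero {X S : Scheme.{u}} (f : X ⟶ S)
    [LocallyOfFiniteType f] :
    LocallyQuasiFinite f ↔ ∀ x : X, FlatMor.fibreDimAt f x ≤ 0 := by
  rw [← Scheme.Hom.quasiFiniteLocus_eq_top_iff]
  constructor
  · intro h x
    rw [← quasiFiniteAt_iff_fibreDimAt_le_zero]
    have : x ∈ f.quasiFiniteLocus := by rw [h]; trivial
    exact this
  · intro h
    apply top_le_iff.mp
    intro x _
    exact (quasiFiniteAt_iff_fibreDimAt_le_zero f x).mpr (h x)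

section shear

variable {C : Type*} [Category C] [CartesianMonoidalCategory C]

/-- the shear `(h, g) ↦ (h · u(g), g)` of `H ⊗ G` attached to a morphism `u : G ⟶ H`. -/
def shearHom {G H : C} [GrpObj H] (u : G ⟶ H) : H ⊗ G ≅ H ⊗ G where
  hom := lift (fst H G * (snd H G ≫ u)) (snd H G)
  inv := lift (fst H G * (snd H G ≫ u)⁻¹) (snd H G)
  hom_inv_id := by
    apply CartesianMonoidalCategory.hom_ext <;> simp [MonObj.comp_mul, GrpObj.comp_inv]
  inv_hom_id := by
    apply CartesianMonoidalCategory.hom_ext <;> simp [MonObj.comp_mul]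

lemma shear_comm {G H : C} [GrpObj G] [GrpObj H] (u : G ⟶ H) [IsMonHom u] :
    (Groth.Agent.Lib.Helper3.GrpFibDim.shearIso' G).hom ≫ (u ▷ G) = (u ▷ G) ≫ (shearHom u).hom := by
  apply CartesianMonoidalCategory.hom_ext
  · simp [Groth.Agent.Lib.Helper3.GrpFibDim.shearIso', shearHom, MonObj.comp_mul, MonObj.mul_comp]
  · simp [Groth.Agent.Lib.Helper3.GrpFibDim.shearIso', shearHom]

end shear

section homogeneity

variable {S : Scheme.{u}} (G H : Over S) [GrpObj G] [GrpObj H] (u : G ⟶ H) [IsMonHom u]
  [LocallyOfFiniteType u.left]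

/-- `u × id` is the base change of `u` along the first projection. -/
theorem isPullback_whiskerRight :
    IsPullback (fst G G).left (u ▷ G).left u.left (fst H G).left := by
  have hr : IsPullback (snd H G).left (fst H G).left G.hom H.hom :=
    (IsPullback.of_hasPullback H.hom G.hom).flip
  have h1 : (u ▷ G).left ≫ (snd H G).left = (snd G G).left := by
    rw [← Over.comp_left, whiskerRight_snd]
  have h2 : (u ▷ G).left ≫ (fst H G).left = (fst G G).left ≫ u.left := by
    rw [← Over.comp_left, whiskerRight_fst, Over.comp_left]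
  have ho : IsPullback ((u ▷ G).left ≫ (snd H G).left) (fst G G).left G.hom (u.left ≫ H.hom) := by
    rw [h1, Over.w u]
    exact (IsPullback.of_hasPullback G.hom G.hom).flip
  exact (IsPullback.of_right ho h2 hr).flip

/-- the local fibre dimension of a homomorphism `u` is the same at `a` and at `a · b`. -/
theorem fibreDimAt_hom_mul (z : ↥(G ⊗ G).left) :
    FlatMor.fibreDimAt u.left (μ[G].left z) = FlatMor.fibreDimAt u.left ((fst G G).left z) := by
  have hpb := isPullback_whiskerRight G H u
  haveI : LocallyOfFiniteType (u ▷ G).left := MorphismProperty.of_isPullback hpb ‹_›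
  have hA : ∀ w : ↥(G ⊗ G).left, FlatMor.fibreDimAt (u ▷ G).left w =
      FlatMor.fibreDimAt u.left ((fst G G).left w) := fun w =>
    fibreDimAt_eq_of_isPullback u.left (fst H G).left (fst G G).left (u ▷ G).left hpb w
  have hc := congrArg (fun f => f.left) (shear_comm u)
  simp only [Over.comp_left] at hc
  haveI : IsIso (Groth.Agent.Lib.Helper3.GrpFibDim.shearIso' G).hom.left := inferInstance
  haveI : IsIso (shearHom u).hom.left := inferInstance
  haveI : LocallyOfFiniteType ((u ▷ G).left ≫ (shearHom u).hom.left) := inferInstance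
  have e1 : FlatMor.fibreDimAt (u ▷ G).left
      ((Groth.Agent.Lib.Helper3.GrpFibDim.shearIso' G).hom.left z) =
      FlatMor.fibreDimAt (u ▷ G).left z := by
    rw [← fibreDimAt_comp_of_isOpenImmersion, hc, fibreDimAt_comp_mono]
  rw [hA, hA] at e1
  rw [← e1, ← Scheme.Hom.comp_apply, ← Over.comp_left]
  congr 2
  simp [Groth.Agent.Lib.Helper3.GrpFibDim.shearIso', Groth.Agent.Lib.Helper3.GrpFibDim.fst_mul_snd]

/-- **the local fibre dimension of a homomorphism of group schemes is constant along the fibres
of `G → S`.** -/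
theorem fibreDimAt_hom_eq_unitSec (x : G.left) :
    FlatMor.fibreDimAt u.left x =
      FlatMor.fibreDimAt u.left (Groth.Agent.Lib.Helper3.GrpFibDim.unitSec G (G.hom x)) := by
  have h := fibreDimAt_hom_mul G H u ((lift (toUnit G ≫ η[G]) (𝟙 G)).left x)
  rw [← Scheme.Hom.comp_apply, ← Scheme.Hom.comp_apply, ← Over.comp_left, ← Over.comp_left,
    lift_comp_one_left, lift_fst, Over.comp_left, Scheme.Hom.comp_apply] at h
  exact h

end homogeneity

section fibres

variable {S : Scheme.{u}} (G H : Over S) [GrpObj G] [GrpObj H] (u : G ⟶ H) [IsMonHom u]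
  [LocallyOfFiniteType u.left]

omit [GrpObj G] [GrpObj H] [IsMonHom u] [LocallyOfFiniteType u.left] in
/-- the base change of `u` to `T` is the base change of `u` along `H_T → H`. -/
theorem isPullback_overPullback_map {T : Scheme.{u}} (t : T ⟶ S) :
    IsPullback (pullback.fst G.hom t) ((Over.pullback t).map u).left u.left
      (pullback.fst H.hom t) := by
  have hr : IsPullback (pullback.snd H.hom t) (pullback.fst H.hom t) t H.hom :=
    (IsPullback.of_hasPullback H.hom t).flip
  have h1 : ((Over.pullback t).map u).left ≫ pullback.snd H.hom t = pullback.snd G.hom t := by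
    simp only [Over.pullback_map_left]
    exact pullback.lift_snd _ _ _
  have h2 : ((Over.pullback t).map u).left ≫ pullback.fst H.hom t =
      pullback.fst G.hom t ≫ u.left := by
    simp only [Over.pullback_map_left]
    exact pullback.lift_fst _ _ _
  have ho : IsPullback (((Over.pullback t).map u).left ≫ pullback.snd H.hom t)
      (pullback.fst G.hom t) t (u.left ≫ H.hom) := by
    rw [h1, Over.w u]
    exact (IsPullback.of_hasPullback G.hom t).flip
  exact (IsPullback.of_right ho h2 hr).flip

omit [GrpObj H] [LocallyOfFiniteType u.left] in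
lemma hom_unitSec' (s : S) : G.hom (Groth.Agent.Lib.Helper3.GrpFibDim.unitSec G s) = s := by
  have h := Over.w η[G]
  have h' : Groth.Agent.Lib.Helper3.GrpFibDim.unitSec G ≫ G.hom = 𝟙 S := by
    simpa [Groth.Agent.Lib.Helper3.GrpFibDim.unitSec] using h
  rw [← Scheme.Hom.comp_apply, h']
  rfl

/-- `u_s` is locally quasi-finite iff the local fibre dimension of `u` vanishes at the unit point
over `s`. -/
theorem locallyQuasiFinite_fibre_iff (s : S) :
    LocallyQuasiFinite ((Over.pullback (S.fromSpecResidueField s)).map u).left ↔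
      FlatMor.fibreDimAt u.left (Groth.Agent.Lib.Helper3.GrpFibDim.unitSec G s) ≤ 0 := by
  have hpb := isPullback_overPullback_map G H u (S.fromSpecResidueField s)
  haveI : LocallyOfFiniteType ((Over.pullback (S.fromSpecResidueField s)).map u).left :=
    MorphismProperty.of_isPullback hpb ‹_›
  rw [locallyQuasiFinite_iff_forall_fibreDimAt_le_zero]
  have hbc : ∀ x' : ↥(pullback G.hom (S.fromSpecResidueField s)),
      FlatMor.fibreDimAt ((Over.pullback (S.fromSpecResidueField s)).map u).left x' =
        FlatMor.fibreDimAt u.left (pullback.fst G.hom (S.fromSpecResidueField s) x') := fun x' =>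
    fibreDimAt_eq_of_isPullback u.left _ _ _ hpb x'
  constructor
  · intro h
    let pt : Spec (S.residueField s) := IsLocalRing.closedPoint (S.residueField s)
    have hpt : S.fromSpecResidueField s pt = s := Scheme.fromSpecResidueField_apply _ _
    obtain ⟨x', hx1, -⟩ := Scheme.Pullback.exists_preimage_pullback (f := G.hom)
      (g := S.fromSpecResidueField s) (Groth.Agent.Lib.Helper3.GrpFibDim.unitSec G s) pt
      (by rw [hom_unitSec', hpt])
    have := h x'
    rw [show FlatMor.fibreDimAt ((Over.pullback (S.fromSpecResidueField s)).map u).left x' = _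
      from hbc x', hx1] at this
    exact this
  · intro h x'
    show FlatMor.fibreDimAt ((Over.pullback (S.fromSpecResidueField s)).map u).left x' ≤ 0
    rw [hbc x', fibreDimAt_hom_eq_unitSec G H u]
    have hs : G.hom (pullback.fst G.hom (S.fromSpecResidueField s) x') = s := by
      rw [← Scheme.Hom.comp_apply, pullback.condition, Scheme.Hom.comp_apply]
      exact Scheme.fromSpecResidueField_apply _ _
    rw [hs]
    exact h

end fibres

end Groth.Agent.Lib.Helper3.GrpHomQF
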