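import Mathlib

set_option autoImplicit false
universe u
open CategoryTheory CategoryTheory.Limits MonoidalCategory CartesianMonoidalCategory MonObj GrpObj AlgebraicGeometry

namespace Groth.Agent.Lib.Helper25.DenseMul

section general

variable {S : Scheme.{u}} (G : Over S)

/-- second projection from a product with a universally open `S`-scheme is an open map. -/
lemma isOpenMap_snd_left_of_universallyOpen (P : Over S) [UniversallyOpen P.hom] :
    IsOpenMap (snd P G).left := by
  rw [Over.snd_left]
  have : UniversallyOpen (pullback.snd P.hom G.hom) := inferInstance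
  exact (pullback.snd P.hom G.hom).isOpenMap

variable [GrpObj G]

/-- `U · V = G` for dense opens `U`, `V` of a group scheme `G` over `S`, at a point `g` such that
`Spec κ(g) ⟶ S` is universally open. -/
theorem exists_mul_eq_of_universallyOpen (U V : G.left.Opens) (hU : Dense (U : Set G.left))
    (hV : Dense (V : Set G.left)) (g : G.left)
    [hg : UniversallyOpen (G.left.fromSpecResidueField g ≫ G.hom)] :
    ∃ z : ↥(G ⊗ G).left, (fst G G).left z ∈ (U : Set G.left) ∧ (snd G G).left z ∈ (V : Set G.left) ∧
      μ[G].left z = g := by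
  -- the point `g` as a morphism from the spectrum of its residue field
  let P : Over S := Over.mk (G.left.fromSpecResidueField g ≫ G.hom)
  have : UniversallyOpen P.hom := hg
  let gP : P ⟶ G := Over.homMk (G.left.fromSpecResidueField g) rfl
  let T : Over S := P ⊗ G
  let a : T ⟶ G := snd P G
  let g' : T ⟶ G := fst P G ≫ gP
  let b : T ⟶ G := a⁻¹ * g'
  -- the automorphism `t ↦ t⁻¹ g` of `T`
  let φ : T ⟶ T := lift (fst P G) b
  let ψ : T ⟶ T := lift (fst P G) (g' * a⁻¹)
  have hφa : φ ≫ a = b := lift_snd _ _
  have hψa : ψ ≫ a = g' * a⁻¹ := lift_snd _ _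
  have hφf : φ ≫ fst P G = fst P G := lift_fst _ _
  have hψf : ψ ≫ fst P G = fst P G := lift_fst _ _
  have hφg : φ ≫ g' = g' := by simp only [g', ← Category.assoc, hφf]
  have hψg : ψ ≫ g' = g' := by simp only [g', ← Category.assoc, hψf]
  have hφψ : φ ≫ ψ = 𝟙 T := by
    apply CartesianMonoidalCategory.hom_ext
    · rw [Category.assoc, hψf, hφf, Category.id_comp]
    · change (φ ≫ ψ) ≫ a = 𝟙 T ≫ a
      rw [Category.assoc, hψa, MonObj.comp_mul, GrpObj.comp_inv, hφg, hφa, Category.id_comp]
      simp only [b]; group
  have hψφ : ψ ≫ φ = 𝟙 T := by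
    apply CartesianMonoidalCategory.hom_ext
    · rw [Category.assoc, hφf, hψf, Category.id_comp]
    · change (ψ ≫ φ) ≫ a = 𝟙 T ≫ a
      rw [Category.assoc, hφa]
      simp only [b]
      rw [MonObj.comp_mul, GrpObj.comp_inv, hψg, hψa, Category.id_comp]
      group
  have : IsIso φ.left :=
    ⟨ψ.left, by rw [← Over.comp_left, hφψ]; rfl, by rw [← Over.comp_left, hψφ]; rfl⟩
  have hopen_a : IsOpenMap a.left := isOpenMap_snd_left_of_universallyOpen G P
  have hopen_φ : IsOpenMap φ.left := φ.left.isOpenEmbedding.isOpenMap
  have hbl : b.left = φ.left ≫ a.left := by rw [← hφa]; rfl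
  have hd1 : Dense (a.left ⁻¹' (U : Set G.left)) := hU.preimage hopen_a
  have hd2 : Dense (b.left ⁻¹' (V : Set G.left)) := by
    have : b.left ⁻¹' (V : Set G.left) = φ.left ⁻¹' (a.left ⁻¹' (V : Set G.left)) := by
      rw [hbl]; rfl
    rw [this]
    exact (hV.preimage hopen_a).preimage hopen_φ
  have ho2 : IsOpen (b.left ⁻¹' (V : Set G.left)) := V.isOpen.preimage b.left.continuous
  have : Nonempty T.left := by
    have : Nonempty P.left := by
      change Nonempty (Spec (G.left.residueField g))
      infer_instance
    exact this.map (lift (𝟙 P) gP).left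
  obtain ⟨t, ht1, ht2⟩ := (hd1.inter_of_isOpen_right hd2 ho2).nonempty
  refine ⟨(lift a b).left t, ?_, ?_, ?_⟩
  · change ((lift a b).left ≫ (fst G G).left) t ∈ (U : Set G.left)
    rw [← Over.comp_left, lift_fst]
    exact ht1
  · change ((lift a b).left ≫ (snd G G).left) t ∈ (V : Set G.left)
    rw [← Over.comp_left, lift_snd]
    exact ht2
  · change ((lift a b).left ≫ μ[G].left) t = g
    rw [← Over.comp_left, ← Hom.mul_def]
    have : a * b = g' := by simp only [b]; group
    rw [this]
    change (G.left.fromSpecResidueField g) ((fst P G).left t) = g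
    exact Scheme.fromSpecResidueField_apply _ _

end general

variable (k : Type u) [Field k] (G : Over (Spec (CommRingCat.of k)))

/-- second projection from a product with a scheme over a field is an open map. -/
lemma isOpenMap_snd_left (P : Over (Spec (CommRingCat.of k))) :
    IsOpenMap (snd P G).left :=
  isOpenMap_snd_left_of_universallyOpen G P

variable [GrpObj G]

theorem exists_mul_eq (U V : G.left.Opens) (hU : Dense (U : Set G.left))
    (hV : Dense (V : Set G.left)) (g : G.left) :
    ∃ z : ↥(G ⊗ G).left, (fst G G).left z ∈ (U : Set G.left) ∧ (snd G G).left z ∈ (V : Set G.left) ∧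
      μ[G].left z = g :=
  exists_mul_eq_of_universallyOpen G U V hU hV g

theorem main (U V : G.left.Opens) (hU : Dense (U : Set G.left)) (hV : Dense (V : Set G.left)) :
    μ[G].left '' ((fst G G).left ⁻¹' (U : Set G.left) ∩ (snd G G).left ⁻¹' (V : Set G.left)) = Set.univ := by
  rw [Set.eq_univ_iff_forall]
  intro g
  obtain ⟨z, h1, h2, h3⟩ := exists_mul_eq k G U V hU hV g
  exact ⟨z, ⟨h1, h2⟩, h3⟩


theorem compactSpace_of_irreducibleSpace (K : Type u) [Field K] (G : Over (Spec (CommRingCat.of K)))
    [GrpObj G] [IrreducibleSpace G.left] : CompactSpace G.left := by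
  obtain ⟨x⟩ : Nonempty G.left := inferInstance
  obtain ⟨_, ⟨(U : G.left.Opens), hU, rfl⟩, hxU, -⟩ :=
    (G.left.isBasis_affineOpens).exists_subset_of_mem_open (Set.mem_univ x) isOpen_univ
  have hU : IsAffineOpen U := hU
  have hUd : Dense (U : Set G.left) := U.isOpen.dense ⟨x, hxU⟩
  have hmain := main K G U U hUd hUd
  -- the set `fst ⁻¹ U ∩ snd ⁻¹ U` is the range of a map from an affine scheme
  have hrange := Scheme.Pullback.range_map (U.ι ≫ G.hom) (U.ι ≫ G.hom) G.hom G.hom U.ι U.ι (𝟙 _)
    (by simp) (by simp)
  have : IsAffine (U : Scheme) := hU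
  have : IsAffine (pullback (U.ι ≫ G.hom) (U.ι ≫ G.hom)) := inferInstance
  have hc : IsCompact ((fst G G).left ⁻¹' (U : Set G.left) ∩ (snd G G).left ⁻¹' (U : Set G.left)) := by
    have h1 : Set.range U.ι = (U : Set G.left) := Scheme.Opens.range_ι U
    rw [h1] at hrange
    rw [Over.fst_left, Over.snd_left, ← hrange]
    exact isCompact_range (Scheme.Hom.continuous _)
  rw [← isCompact_univ_iff, ← hmain]
  exact hc.image μ[G].left.continuous


/-- a surjective closed immersion is universally open. -/
lemma universallyOpen_of_isClosedImmersion_of_surjective {X Y : Scheme.{u}} (f : X ⟶ Y)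
    [IsClosedImmersion f] [Surjective f] : UniversallyOpen f := by
  rw [UniversallyOpen.eq]
  intro X' Y' i₁ i₂ f' hf
  have hf1 : IsClosedImmersion f' := MorphismProperty.of_isPullback hf.flip inferInstance
  have hf2 : Surjective f' := MorphismProperty.of_isPullback hf.flip inferInstance
  exact (f'.isClosedEmbedding.toIsEmbedding.toHomeomorphOfSurjective f'.surjective).isOpenMap

/-- any morphism from the spectrum of a field to the spectrum of a local artinian ring is
universally open. -/
lemma universallyOpen_Spec_map_of_isArtinianRing (A : Type u) [CommRing A] [IsArtinianRing A]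
    [IsLocalRing A] (K : Type u) [Field K] (φ : A →+* K) :
    UniversallyOpen (Spec.map (CommRingCat.ofHom φ)) := by
  have hprime : ∀ p : Ideal A, p.IsPrime → p = IsLocalRing.maximalIdeal A := fun p hp =>
    IsLocalRing.eq_maximalIdeal (IsArtinianRing.isMaximal_of_isPrime p)
  have hker : ∀ a ∈ IsLocalRing.maximalIdeal A, φ a = 0 := by
    intro a ha
    rw [← hprime (RingHom.ker φ) (RingHom.ker_isPrime φ)] at ha
    exact ha
  let ψ : IsLocalRing.ResidueField A →+* K := Ideal.Quotient.lift _ φ hker
  have hφ : φ = ψ.comp (IsLocalRing.residue A) := by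
    ext a; rfl
  have h1 : UniversallyOpen (Spec.map (CommRingCat.ofHom ψ)) := inferInstance
  have h2 : IsClosedImmersion (Spec.map (CommRingCat.ofHom (IsLocalRing.residue A))) :=
    IsClosedImmersion.spec_of_surjective _ Ideal.Quotient.mk_surjective
  have h3 : Surjective (Spec.map (CommRingCat.ofHom (IsLocalRing.residue A))) := by
    constructor
    intro x
    obtain ⟨y⟩ : Nonempty (Spec (CommRingCat.of (IsLocalRing.ResidueField A))) := inferInstance
    refine ⟨y, ?_⟩
    have hsub : ∀ z w : PrimeSpectrum A, z = w := fun z w =>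
      PrimeSpectrum.ext ((hprime _ z.2).trans (hprime _ w.2).symm)
    exact hsub _ _
  have h4 := universallyOpen_of_isClosedImmersion_of_surjective
    (Spec.map (CommRingCat.ofHom (IsLocalRing.residue A)))
  rw [hφ, CommRingCat.ofHom_comp, Spec.map_comp]
  infer_instance


theorem exists_mul_eq_of_isArtinianRing (A : Type u) [CommRing A] [IsArtinianRing A] [IsLocalRing A]
    (G : Over (Spec (CommRingCat.of A))) [GrpObj G] (U V : G.left.Opens)
    (hU : Dense (U : Set G.left)) (hV : Dense (V : Set G.left)) (g : G.left) :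
    ∃ z : ↥(G ⊗ G).left, (fst G G).left z ∈ (U : Set G.left) ∧ (snd G G).left z ∈ (V : Set G.left) ∧
      μ[G].left z = g := by
  have : UniversallyOpen (G.left.fromSpecResidueField g ≫ G.hom) := by
    obtain ⟨θ, hθ⟩ := Spec.map_surjective (G.left.fromSpecResidueField g ≫ G.hom)
    rw [← hθ]
    exact universallyOpen_Spec_map_of_isArtinianRing A (G.left.residueField g) θ.hom
  exact exists_mul_eq_of_universallyOpen G U V hU hV g

end Groth.Agent.Lib.Helper25.DenseMul
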