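import Mathlib
import Groth.Agent.Lib.Helper5FlatCMFibres
import Groth.Agent.Lib.Helper28FormalEquidimLoc
import Groth.Agent.Lib.Helper28ComplCat
import Groth.Agent.Lib.Helper19ComplDim

/-!
# Helper5CMLocusOpen: openness of the Cohen–Macaulay locus

* `isOpen_cm_locus`: for a Noetherian ring with generically CM integral quotients (`CMU`);
* `cm_iff_of_cm_fibre`: along a flat map with CM fibre local ring, `B_Q` is CM iff `A_P` is;
* `isOpen_cm_locus_of_cmFormalFibres`: local rings with CM formal fibres (EGA IV 6.11.8-type).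
-/

set_option autoImplicit false
universe u

namespace Groth.Agent.Lib.Helper5.CMLocusOpen
open Groth.Agent.Lib.Helper28 Groth.Agent.Lib.Helper5 Groth.Agent.Lib.Helper5.GenDepth
  Groth.Agent.Lib.Helper5.CodepthOpen Groth.Agent.Lib.Helper5.FlatCMFibres IsLocalRing

section General

variable {A : Type u} [CommRing A] [IsNoetherianRing A]

theorem cm_iff_height_eq_depth (p : Ideal A) [p.IsPrime] :
    LocCoh.IsCohenMacaulayLocalRing (Localization.AtPrime p) ↔
      p.height = LocCoh.depth (Localization.AtPrime p) (Localization.AtPrime p) := by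
  haveI : IsNoetherianRing (Localization.AtPrime p) :=
    IsLocalization.isNoetherianRing p.primeCompl _ inferInstance
  rw [isCohenMacaulayLocalRing_iff]
  have h : (IsLocalRing.maximalIdeal (Localization.AtPrime p)).height = p.height := by
    have h1 := IsLocalization.AtPrime.ringKrullDim_eq_height p (Localization.AtPrime p)
    rw [← IsLocalRing.maximalIdeal_height_eq_ringKrullDim] at h1
    exact WithBot.coe_injective h1
  rw [h]

theorem depth_le_height (p : Ideal A) [p.IsPrime] :
    LocCoh.depth (Localization.AtPrime p) (Localization.AtPrime p) ≤ p.height := by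
  haveI : IsNoetherianRing (Localization.AtPrime p) :=
    IsLocalization.isNoetherianRing p.primeCompl _ inferInstance
  have h := Groth.Agent.Lib.Helper28.depth_le_supportDim (R := Localization.AtPrime p)
    (M := Localization.AtPrime p)
  rw [supportDim_localization_self] at h
  exact WithBot.coe_le_coe.mp h

theorem cm_iff_codepth_zero (p : Ideal A) [p.IsPrime] :
    LocCoh.IsCohenMacaulayLocalRing (Localization.AtPrime p) ↔
      dm p A ≤ ((dep p A : ℕ∞) : WithBot ℕ∞) + ((0 : ℕ) : WithBot ℕ∞) := by
  obtain ⟨h1, h2⟩ := dep_dm_self p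
  rw [h1, h2, supportDim_localization_self, cm_iff_height_eq_depth, Nat.cast_zero, add_zero,
    WithBot.coe_le_coe]
  exact ⟨fun h => le_of_eq h, fun h => le_antisymm h (depth_le_height p)⟩

theorem isOpen_cm_locus (hCM : CMU A) :
    IsOpen {p : PrimeSpectrum A |
      LocCoh.IsCohenMacaulayLocalRing (Localization.AtPrime p.asIdeal)} := by
  have h := isOpen_codepth_le hCM A 0
  convert h using 1
  ext p
  exact cm_iff_codepth_zero p.asIdeal

end General

section Flat

variable {A B : Type u} [CommRing A] [CommRing B] [IsNoetherianRing A] [IsNoetherianRing B]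
  [Algebra A B] [Module.Flat A B]

theorem cm_iff_of_cm_fibre (Q : Ideal B) [Q.IsPrime]
    (hF : LocCoh.IsCohenMacaulayLocalRing (EGA4.FibLocRing A B Q)) :
    LocCoh.IsCohenMacaulayLocalRing (Localization.AtPrime Q) ↔
      LocCoh.IsCohenMacaulayLocalRing (Localization.AtPrime (Q.comap (algebraMap A B))) := by
  rw [cm_iff_height_eq_depth, cm_iff_height_eq_depth]
  have h := codepth_eq (A := A) Q hF
  have hP : (Q.comap (algebraMap A B)).height ≠ ⊤ := Ideal.height_ne_top_of_isPrime
  have hQ : Q.height ≠ ⊤ := Ideal.height_ne_top_of_isPrime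
  constructor
  · intro h1
    rw [h1, add_comm] at h
    exact ENat.add_right_injective_of_ne_top (h1 ▸ hQ) h
  · intro h1
    rw [← h1, add_comm Q.height] at h
    exact (ENat.add_right_injective_of_ne_top hP h).symm

end Flat

theorem isOpen_cm_locus_of_cmFormalFibres (A : Type u) [CommRing A] [IsNoetherianRing A]
    [IsLocalRing A] (hA : EGA4.HasCMFormalFibres A) :
    IsOpen {p : PrimeSpectrum A |
      LocCoh.IsCohenMacaulayLocalRing (Localization.AtPrime p.asIdeal)} := by
  haveI := isAdicComplete_maximalIdeal_adicCompletion A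
  haveI : Module.FaithfullyFlat A (AdicCompletion (maximalIdeal A) A) :=
    Module.FaithfullyFlat.of_flat_of_isLocalHom
  obtain ⟨W, _, hreg, hCMW, f, hf⟩ :=
    exists_surjective_of_isCohenMacaulayRing_of_isAdicComplete (AdicCompletion (maximalIdeal A) A)
  letI := f.toAlgebra
  have hcmuB : CMU (AdicCompletion (maximalIdeal A) A) :=
    cmu_of_surjective (R := W) hf cmu_of_isCohenMacaulayRing
  have hopenB := isOpen_cm_locus hcmuB
  have hF : ∀ (Q : Ideal (AdicCompletion (maximalIdeal A) A)) [Q.IsPrime],
      LocCoh.IsCohenMacaulayLocalRing (EGA4.FibLocRing A (AdicCompletion (maximalIdeal A) A) Q) :=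
    fun Q _ => forall_isCohenMacaulayRing_fiber_iff.mp hA Q
  have hq : Topology.IsQuotientMap
      (PrimeSpectrum.comap (algebraMap A (AdicCompletion (maximalIdeal A) A))) :=
    PrimeSpectrum.isQuotientMap_of_generalizingMap
      PrimeSpectrum.comap_surjective_of_faithfullyFlat
      (Algebra.HasGoingDown.iff_generalizingMap_primeSpectrumComap.mp inferInstance)
  rw [← hq.isOpen_preimage]
  convert hopenB using 1
  ext Q
  simp only [Set.mem_preimage, Set.mem_ofPred_eq]
  exact (cm_iff_of_cm_fibre Q.asIdeal (hF Q.asIdeal)).symm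

end Groth.Agent.Lib.Helper5.CMLocusOpen
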