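import Mathlib
import Groth.Agent.Lib.Helper5CMLocusOpen
import Groth.Agent.Lib.Helper5FiberBC
import Groth.Agent.Lib.Helper28Unmixed
import Groth.Agent.Lib.Helper28PolyCM
import Groth.Agent.Lib.Helper25DenseMul
import Groth.Agent.S7458

/-!
# Group schemes locally of finite type over a field are Cohen–Macaulay (helper5)

* `cm_of_ringKrullDim_eq_zero`: zero-dimensional Noetherian local rings are Cohen–Macaulay.
* `cm_stalk_fromSpec_iff`: local rings of a scheme at points of an affine open are the localizations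
  of the coordinate ring.
* `dense_cmLocus`: on a locally Noetherian scheme the Cohen–Macaulay locus is dense.
* `isOpen_cmLocus`: for a scheme locally of finite type over a field the Cohen–Macaulay locus is open.
* `cm_stalk_grp`: all local rings of a group scheme locally of finite type over a field are CM.
-/

set_option autoImplicit false
universe u

namespace Groth.Agent.Lib.Helper5.GrpCM
open CategoryTheory CategoryTheory.Limits MonoidalCategory CartesianMonoidalCategory MonObj GrpObj
  AlgebraicGeometry IsLocalRing LocCoh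
  Groth.Agent.Lib.Helper5.FiberRing Groth.Agent.Lib.Helper5.FiberMor
  Groth.Agent.Lib.Helper5.FiberBC Groth.Agent.Lib.Helper5.CMLocusOpen
  Groth.Agent.Lib.Helper5.CodepthOpen Groth.Agent.Lib.Helper28

section Ring

theorem cm_of_ringKrullDim_eq_zero (R : Type u) [CommRing R] [IsLocalRing R] [IsNoetherianRing R]
    (h : ringKrullDim R = 0) : IsCohenMacaulayLocalRing R := by
  have hd : ((LocCoh.depth R R : ℕ∞) : WithBot ℕ∞) ≤ 0 := by
    have := Groth.Agent.Lib.Helper28.depth_le_supportDim (R := R) (M := R)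
    rwa [Module.supportDim_self_eq_ringKrullDim, h] at this
  have hd0 : LocCoh.depth R R = 0 := by
    have h1 : (LocCoh.depth R R : ℕ∞) ≤ 0 := by exact_mod_cast hd
    exact le_antisymm h1 zero_le
  refine @IsCohenMacaulayLocalRing.mk R _ inferInstance inferInstance ?_
  rw [Module.supportDim_self_eq_ringKrullDim, h, hd0]
  rfl

theorem cm_localization_of_mem_minimalPrimes {A : Type u} [CommRing A] [IsNoetherianRing A]
    (p : Ideal A) [p.IsPrime] (hp : p ∈ minimalPrimes A) :
    IsCohenMacaulayLocalRing (Localization.AtPrime p) := by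
  haveI : IsNoetherianRing (Localization.AtPrime p) :=
    IsLocalization.isNoetherianRing p.primeCompl _ inferInstance
  apply cm_of_ringKrullDim_eq_zero
  rw [IsLocalization.AtPrime.ringKrullDim_eq_height p (Localization.AtPrime p),
    Ideal.height_eq_zero_iff.mpr hp]
  rfl

end Ring

section Scheme

theorem cm_stalk_fromSpec_iff {X : Scheme.{u}} {U : X.Opens} (hU : IsAffineOpen U)
    (y : Spec Γ(X, U)) :
    IsCohenMacaulayLocalRing (X.presheaf.stalk (hU.fromSpec y)) ↔
      IsCohenMacaulayLocalRing (Localization.AtPrime y.asIdeal) := by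
  have e : X.presheaf.stalk (hU.fromSpec y) ≃+* Localization.AtPrime y.asIdeal :=
    (asIso (hU.fromSpec.stalkMap y)).commRingCatIsoToRingEquiv.trans
      (Spec.stalkIso _ y).commRingCatIsoToRingEquiv
  exact ⟨isoInv_cm _ _ e, isoInv_cm _ _ e.symm⟩

theorem dense_cmLocus (X : Scheme.{u}) [IsLocallyNoetherian X] :
    Dense {x : X | IsCohenMacaulayLocalRing (X.presheaf.stalk x)} := by
  rw [dense_iff_inter_open]
  rintro W hW ⟨x, hxW⟩
  obtain ⟨U, hU, hxU, hUW⟩ := exists_isAffineOpen_mem_and_subset (x := x) (U := ⟨W, hW⟩) hxW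
  haveI : IsNoetherianRing Γ(X, U) := IsLocallyNoetherian.component_noetherian ⟨U, hU⟩
  haveI : Nontrivial Γ(X, U) := by
    have : Nonempty (PrimeSpectrum Γ(X, U)) := ⟨hU.primeIdealOf ⟨x, hxU⟩⟩
    exact (PrimeSpectrum.nonempty_iff_nontrivial.mp this)
  obtain ⟨p, hp⟩ : (minimalPrimes Γ(X, U)).Nonempty := by
    obtain ⟨q, hq⟩ := Ideal.exists_minimalPrimes_le (I := (⊥ : Ideal Γ(X, U)))
      (J := (hU.primeIdealOf ⟨x, hxU⟩).asIdeal) bot_le
    exact ⟨q, hq.1⟩
  haveI : p.IsPrime := hp.1.1
  have hcm := cm_localization_of_mem_minimalPrimes p hp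
  refine ⟨hU.fromSpec ⟨p, inferInstance⟩, hUW ?_, ?_⟩
  · have : hU.fromSpec ⟨p, inferInstance⟩ ∈ Set.range hU.fromSpec := ⟨_, rfl⟩
    rw [hU.range_fromSpec] at this
    exact this
  · exact (cm_stalk_fromSpec_iff hU ⟨p, inferInstance⟩).mpr hcm

theorem isOpen_cmLocus {k : Type u} [Field k] {X : Scheme.{u}}
    (f : X ⟶ Spec (CommRingCat.of k)) [LocallyOfFiniteType f] :
    IsOpen {x : X | IsCohenMacaulayLocalRing (X.presheaf.stalk x)} := by
  rw [isOpen_iff_forall_mem_open]
  intro x hx
  obtain ⟨U, hU, hxU, -⟩ := exists_isAffineOpen_mem_and_subset (x := x) (U := ⊤) trivial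
  have hft : (f.appLE ⊤ U le_top).hom.FiniteType :=
    HasRingHomProperty.appLE @LocallyOfFiniteType f inferInstance ⟨⊤, isAffineOpen_top _⟩
      ⟨U, hU⟩ le_top
  letI : Algebra Γ(Spec (CommRingCat.of k), ⊤) Γ(X, U) := (f.appLE ⊤ U le_top).hom.toAlgebra
  haveI : Algebra.FiniteType Γ(Spec (CommRingCat.of k), ⊤) Γ(X, U) := hft
  haveI hk : IsCohenMacaulayRing k := isCohenMacaulayRing_of_field k
  haveI hCMk : IsCohenMacaulayRing Γ(Spec (CommRingCat.of k), ⊤) :=
    isCohenMacaulayRing_of_ringEquiv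
      (Scheme.ΓSpecIso (CommRingCat.of k)).symm.commRingCatIsoToRingEquiv
  haveI : IsNoetherianRing Γ(Spec (CommRingCat.of k), ⊤) := hCMk.toIsNoetherian
  obtain ⟨n, φ, hφ⟩ := Algebra.FiniteType.iff_quotient_mvPolynomial''.mp
    (inferInstance : Algebra.FiniteType Γ(Spec (CommRingCat.of k), ⊤) Γ(X, U))
  haveI : IsCohenMacaulayRing (MvPolynomial (Fin n) Γ(Spec (CommRingCat.of k), ⊤)) :=
    isCohenMacaulayRing_mvPolynomial_fin n
  haveI : IsNoetherianRing Γ(X, U) :=
    Algebra.FiniteType.isNoetherianRing Γ(Spec (CommRingCat.of k), ⊤) _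
  letI : Algebra (MvPolynomial (Fin n) Γ(Spec (CommRingCat.of k), ⊤)) Γ(X, U) :=
    φ.toRingHom.toAlgebra
  have hcmu : CMU Γ(X, U) :=
    cmu_of_surjective (R := MvPolynomial (Fin n) Γ(Spec (CommRingCat.of k), ⊤)) hφ
      cmu_of_isCohenMacaulayRing
  have hopen : IsOpen {p : Spec Γ(X, U) |
      IsCohenMacaulayLocalRing (Localization.AtPrime p.asIdeal)} := isOpen_cm_locus hcmu
  refine ⟨hU.fromSpec '' {p : Spec Γ(X, U) |
      IsCohenMacaulayLocalRing (Localization.AtPrime p.asIdeal)}, ?_,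
    hU.fromSpec.isOpenEmbedding.isOpenMap _ hopen, ?_⟩
  · rintro _ ⟨p, hp, rfl⟩
    exact (cm_stalk_fromSpec_iff hU p).mpr hp
  · obtain ⟨p, rfl⟩ : ∃ p, hU.fromSpec p = x := ⟨_, hU.fromSpec_primeIdealOf ⟨x, hxU⟩⟩
    exact ⟨p, (cm_stalk_fromSpec_iff hU p).mp hx, rfl⟩

end Scheme

section Grp

variable (k : Type u) [Field k] (G : Over (Spec (CommRingCat.of k))) [GrpObj G]
  [LocallyOfFiniteType G.hom]

theorem cm_stalk_grp (g : G.left) : IsCohenMacaulayLocalRing (G.left.presheaf.stalk g) := by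
  haveI : IsLocallyNoetherian G.left := LocallyOfFiniteType.isLocallyNoetherian G.hom
  let U : G.left.Opens := ⟨{x | IsCohenMacaulayLocalRing (G.left.presheaf.stalk x)},
    isOpen_cmLocus G.hom⟩
  have hU : Dense (U : Set G.left) := dense_cmLocus G.left
  obtain ⟨z, hz1, hz2, hz3⟩ := Groth.Agent.Lib.Helper25.DenseMul.exists_mul_eq k G U U hU hU g
  have hsq : IsPullback (fst G G).left (snd G G).left G.hom G.hom :=
    IsPullback.of_hasPullback G.hom G.hom
  haveI : Flat G.hom := inferInstance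
  haveI : Flat (snd G G).left := by
    change Flat (pullback.snd G.hom G.hom)
    infer_instance
  haveI : LocallyOfFiniteType (snd G G).left := by
    change LocallyOfFiniteType (pullback.snd G.hom G.hom)
    infer_instance
  haveI : IsLocallyNoetherian (G ⊗ G).left :=
    LocallyOfFiniteType.isLocallyNoetherian (snd G G).left
  haveI : Flat μ[G].left := (Groth.Agent.S7458.result _ G).2 inferInstance
  -- fibre of `G ⟶ Spec k` at `fst z`
  have ha := ((flat_iff G.hom ((fst G G).left z) flatLocalIff_cm isoInv_cm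
    (Flat.stalkMap G.hom _)).mp hz1).2
  haveI := ha.toIsNoetherian
  -- fibre of `snd` at `z`
  have hb := (fiber_stalk_baseChange_iff flatLocalIff_cm isoInv_cm fieldFibP_cm hsq z
    (Or.inl inferInstance)).mpr ha
  -- the local ring of `G × G` at `z`
  have hc := (flat_iff (snd G G).left z flatLocalIff_cm isoInv_cm
    (Flat.stalkMap (snd G G).left z)).mpr ⟨hz2, hb⟩
  -- descend along the multiplication
  have hd := ((flat_iff μ[G].left z flatLocalIff_cm isoInv_cm
    (Flat.stalkMap μ[G].left z)).mp hc).1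
  rw [hz3] at hd
  exact hd

end Grp

end Groth.Agent.Lib.Helper5.GrpCM
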