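import Mathlib
import Groth.Agent.Lib.Helper5GrpCM

/-!
# The Cohen–Macaulay locus of a scheme locally of finite type over a Cohen–Macaulay ring (helper5)

* `isCohenMacaulayRing_of_isArtinianRing`: Artinian rings are Cohen–Macaulay rings.
* `isOpen_cmLocus_of_cmRing`: for `X` locally of finite type over a Cohen–Macaulay ring `A` the
  Cohen–Macaulay locus of `X` is open.
* `exists_closedPoint_cm`: a nonempty scheme locally of finite type over an Artinian ring has a
  closed point with Cohen–Macaulay local ring.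
-/

set_option autoImplicit false
universe u

namespace Groth.Agent.Lib.Helper5.CMLocusSch
open CategoryTheory AlgebraicGeometry IsLocalRing LocCoh
  Groth.Agent.Lib.Helper5.FiberMor Groth.Agent.Lib.Helper5.CMLocusOpen
  Groth.Agent.Lib.Helper5.CodepthOpen Groth.Agent.Lib.Helper28 Groth.Agent.Lib.Helper5.GrpCM

theorem isCohenMacaulayRing_of_isArtinianRing (A : Type u) [CommRing A] [IsArtinianRing A] :
    IsCohenMacaulayRing A := by
  refine { isCohenMacaulayLocalRing_localization := fun p hp => ?_ }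
  apply cm_localization_of_mem_minimalPrimes p
  obtain ⟨q, hq, hqp⟩ := Ideal.exists_minimalPrimes_le (I := (⊥ : Ideal A)) (J := p) bot_le
  have hqmax : q.IsMaximal := (IsArtinianRing.isPrime_iff_isMaximal q).mp hq.1.1
  have hqp' : q = p := hqmax.eq_of_le hp.ne_top hqp
  exact hqp' ▸ hq

theorem isOpen_cmLocus_of_cmRing {A : Type u} [CommRing A] [hA : IsCohenMacaulayRing A]
    {X : Scheme.{u}} (f : X ⟶ Spec (CommRingCat.of A)) [LocallyOfFiniteType f] :
    IsOpen {x : X | IsCohenMacaulayLocalRing (X.presheaf.stalk x)} := by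
  rw [isOpen_iff_forall_mem_open]
  intro x hx
  obtain ⟨U, hU, hxU, -⟩ := exists_isAffineOpen_mem_and_subset (x := x) (U := ⊤) trivial
  have hft : (f.appLE ⊤ U le_top).hom.FiniteType :=
    HasRingHomProperty.appLE @LocallyOfFiniteType f inferInstance ⟨⊤, isAffineOpen_top _⟩
      ⟨U, hU⟩ le_top
  letI : Algebra Γ(Spec (CommRingCat.of A), ⊤) Γ(X, U) := (f.appLE ⊤ U le_top).hom.toAlgebra
  haveI : Algebra.FiniteType Γ(Spec (CommRingCat.of A), ⊤) Γ(X, U) := hft
  haveI hCMk : IsCohenMacaulayRing Γ(Spec (CommRingCat.of A), ⊤) :=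
    isCohenMacaulayRing_of_ringEquiv
      (Scheme.ΓSpecIso (CommRingCat.of A)).symm.commRingCatIsoToRingEquiv
  haveI : IsNoetherianRing Γ(Spec (CommRingCat.of A), ⊤) := hCMk.toIsNoetherian
  obtain ⟨n, φ, hφ⟩ := Algebra.FiniteType.iff_quotient_mvPolynomial''.mp
    (inferInstance : Algebra.FiniteType Γ(Spec (CommRingCat.of A), ⊤) Γ(X, U))
  haveI : IsCohenMacaulayRing (MvPolynomial (Fin n) Γ(Spec (CommRingCat.of A), ⊤)) :=
    isCohenMacaulayRing_mvPolynomial_fin n
  haveI : IsNoetherianRing Γ(X, U) :=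
    Algebra.FiniteType.isNoetherianRing Γ(Spec (CommRingCat.of A), ⊤) _
  letI : Algebra (MvPolynomial (Fin n) Γ(Spec (CommRingCat.of A), ⊤)) Γ(X, U) :=
    φ.toRingHom.toAlgebra
  have hcmu : CMU Γ(X, U) :=
    cmu_of_surjective (R := MvPolynomial (Fin n) Γ(Spec (CommRingCat.of A), ⊤)) hφ
      cmu_of_isCohenMacaulayRing
  have hopen : IsOpen {p : Spec Γ(X, U) |
      IsCohenMacaulayLocalRing (Localization.AtPrime p.asIdeal)} := isOpen_cm_locus hcmu
  refine ⟨hU.fromSpec '' {p : Spec Γ(X, U) |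
      IsCohenMacaulayLocalRing (Localization.AtPrime p.asIdeal)}, ?_,
    hU.fromSpec.isOpenEmbedding.isOpenMap _ hopen, ?_⟩
  · rintro _ ⟨p, hp, rfl⟩
    exact (cm_stalk_fromSpec_iff hU p).mpr hp
  · obtain ⟨p, rfl⟩ : ∃ p, hU.fromSpec p = x := ⟨_, hU.fromSpec_primeIdealOf ⟨x, hxU⟩⟩
    exact ⟨p, (cm_stalk_fromSpec_iff hU p).mp hx, rfl⟩

theorem exists_closedPoint_cm (A : Type u) [CommRing A] [IsArtinianRing A] (X : Scheme.{u})
    (f : X ⟶ Spec (CommRingCat.of A)) [LocallyOfFiniteType f] [Nonempty X] :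
    ∃ x : X, IsClosed ({x} : Set X) ∧ IsCohenMacaulayLocalRing (X.presheaf.stalk x) := by
  haveI := isCohenMacaulayRing_of_isArtinianRing A
  haveI : IsNoetherianRing A := inferInstance
  haveI : IsLocallyNoetherian X := LocallyOfFiniteType.isLocallyNoetherian f
  haveI : JacobsonSpace X := LocallyOfFiniteType.jacobsonSpace f
  have hopen := isOpen_cmLocus_of_cmRing f
  have hne : {x : X | IsCohenMacaulayLocalRing (X.presheaf.stalk x)}.Nonempty :=
    (dense_cmLocus X).nonempty
  obtain ⟨x, hx1, hx2⟩ := nonempty_inter_closedPoints hne hopen.isLocallyClosed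
  exact ⟨x, hx2, hx1⟩

end Groth.Agent.Lib.Helper5.CMLocusSch
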