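import Mathlib

set_option autoImplicit false
set_option linter.style.haveILetI false
universe u
open CategoryTheory CategoryTheory.Limits AlgebraicGeometry Topology TensorProduct

namespace Groth.Agent.Lib.Helper3.LocusConstr

/-- ring-level Noetherian model of a f.p. algebra -/
theorem exists_model (A B : Type u) [CommRing A] [CommRing B] [Algebra A B]
    [Algebra.FinitePresentation A B] :
    ∃ (A₀ B₀ : Type u) (_ : CommRing A₀) (_ : CommRing B₀) (_ : Algebra A₀ A)
      (_ : Algebra A₀ B₀), Algebra.FiniteType ℤ A₀ ∧ Algebra.FinitePresentation A₀ B₀ ∧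
        Nonempty (A ⊗[A₀] B₀ ≃ₐ[A] B) := by
  let P := Algebra.Presentation.ofFinitePresentation A B
  exact ⟨P.Core, P.ModelOfHasCoeffs P.Core, inferInstance, inferInstance, inferInstance,
    inferInstance, inferInstance, inferInstance, ⟨P.tensorModelOfHasCoeffsEquiv P.Core⟩⟩

/-- A morphism of affine schemes, locally of finite presentation, is a base change of
`Spec B₀ ⟶ Spec A₀` of finite presentation with `A₀` Noetherian. -/
theorem exists_noetherian_model {X Y : Scheme.{u}} [IsAffine X] [IsAffine Y] (f : X ⟶ Y)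
    [LocallyOfFinitePresentation f] :
    ∃ (A₀ B₀ : CommRingCat.{u}) (φ₀ : A₀ ⟶ B₀) (xZ : X ⟶ Spec B₀) (yZ : Y ⟶ Spec A₀),
      IsNoetherianRing A₀ ∧ φ₀.hom.FinitePresentation ∧ IsPullback xZ f (Spec.map φ₀) yZ := by
  have hfp : f.appTop.hom.FinitePresentation := f.finitePresentation_appTop
  algebraize [f.appTop.hom]
  obtain ⟨A₀, B₀, _, _, _, _, hfg, hB₀, ⟨e⟩⟩ := exists_model Γ(Y, ⊤) Γ(X, ⊤)
  let β : CommRingCat.of B₀ ⟶ Γ(X, ⊤) :=
    CommRingCat.ofHom (e.toRingEquiv.toRingHom.comp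
      (Algebra.TensorProduct.includeRight (R := A₀) (A := Γ(Y, ⊤)) (B := B₀)).toRingHom)
  have hpo : IsPushout (CommRingCat.ofHom (algebraMap A₀ Γ(Y, ⊤)))
      (CommRingCat.ofHom (algebraMap A₀ B₀)) f.appTop β := by
    refine (CommRingCat.isPushout_tensorProduct A₀ Γ(Y, ⊤) B₀).of_iso (Iso.refl _) (Iso.refl _)
      (Iso.refl _) e.toRingEquiv.toCommRingCatIso (by simp) (by simp) ?_ ?_
    · ext y
      show e (y ⊗ₜ[A₀] (1 : B₀)) = f.appTop.hom y
      have := e.commutes y
      rwa [Algebra.TensorProduct.algebraMap_apply] at this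
    · ext y
      rfl
  have hpb := (isPullback_SpecMap_of_isPushout _ _ _ _ hpo).flip
  have hsq : IsPullback X.toSpecΓ f (Spec.map f.appTop) Y.toSpecΓ :=
    IsPullback.of_horiz_isIso ⟨(Scheme.toSpecΓ_naturality f).symm⟩
  have hN : IsNoetherianRing A₀ := Algebra.FiniteType.isNoetherianRing ℤ A₀
  refine ⟨CommRingCat.of A₀, CommRingCat.of B₀, CommRingCat.ofHom (algebraMap A₀ B₀),
    X.toSpecΓ ≫ Spec.map β, Y.toSpecΓ ≫ Spec.map (CommRingCat.ofHom (algebraMap A₀ Γ(Y, ⊤))),
    hN, ?_, hsq.paste_horiz hpb⟩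
  rw [CommRingCat.hom_ofHom, RingHom.finitePresentation_algebraMap]
  exact hB₀

end Groth.Agent.Lib.Helper3.LocusConstr
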