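import Mathlib
import Groth.Agent.Lib.Helper3LocusConstr

set_option autoImplicit false
set_option linter.style.haveILetI false
universe u
open CategoryTheory CategoryTheory.Limits AlgebraicGeometry Topology TensorProduct

namespace Groth.Agent.Lib.Helper3.LocusConstr

/-- transfer (bc) from canonical pullbacks to general pullback squares -/
theorem bc_of_canonical
    (L : ∀ {X Y : Scheme.{u}} (_ : X ⟶ Y), Set X)
    (hoi : ∀ {X Y U : Scheme.{u}} (f : X ⟶ Y) (j : U ⟶ X), IsOpenImmersion j →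
      L (j ≫ f) = j ⁻¹' L f)
    (hbc : ∀ {X Y Y' : Scheme.{u}} (f : X ⟶ Y) (g : Y' ⟶ Y), LocallyOfFinitePresentation f →
      L (pullback.snd f g) = (pullback.fst f g) ⁻¹' L f)
    {X Y X' Y' : Scheme.{u}} (f : X ⟶ Y) (g : Y' ⟶ Y) (g' : X' ⟶ X) (f' : X' ⟶ Y')
    (hf : LocallyOfFinitePresentation f) (h : IsPullback g' f' f g) : L f' = g' ⁻¹' L f := by
  have h1 : f' = h.isoPullback.hom ≫ pullback.snd f g := by simp
  have h2 : g' = h.isoPullback.hom ≫ pullback.fst f g := by simp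
  rw [h1, hoi _ _ inferInstance, hbc f g hf]
  conv_rhs => rw [h2]
  rfl

theorem isLocallyConstructible_locus
    (L : ∀ {X Y : Scheme.{u}} (_ : X ⟶ Y), Set X)
    (hbc : ∀ {X Y X' Y' : Scheme.{u}} (f : X ⟶ Y) (g : Y' ⟶ Y) (g' : X' ⟶ X) (f' : X' ⟶ Y'),
      LocallyOfFinitePresentation f → IsPullback g' f' f g → L f' = g' ⁻¹' L f)
    (hoi : ∀ {X Y U : Scheme.{u}} (f : X ⟶ Y) (j : U ⟶ X), IsOpenImmersion j →
      LocallyOfFinitePresentation f → L (j ≫ f) = j ⁻¹' L f)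
    (hN : ∀ {A B : CommRingCat.{u}} (φ : A ⟶ B), IsNoetherianRing A → φ.hom.FinitePresentation →
      IsConstructible (L (Spec.map φ)))
    {X Y : Scheme.{u}} (f : X ⟶ Y) [LocallyOfFinitePresentation f] :
    IsLocallyConstructible (L f) := by
  intro x
  obtain ⟨_, ⟨V : Y.Opens, hV, rfl⟩, hxV, -⟩ := Y.isBasis_affineOpens.exists_subset_of_mem_open
      (Set.mem_univ (f x)) isOpen_univ
  obtain ⟨_, ⟨U : X.Opens, hU, rfl⟩, hxU, hUV⟩ := X.isBasis_affineOpens.exists_subset_of_mem_open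
      hxV (f ⁻¹ᵁ V).2
  refine ⟨U, U.2.mem_nhds hxU, U.2, ?_⟩
  haveI : IsAffine (U : Scheme.{u}) := hU
  haveI : IsAffine (V : Scheme.{u}) := hV
  obtain ⟨A₀, B₀, φ₀, xZ, yZ, hA₀, hφ₀, hpb⟩ := exists_noetherian_model (f.resLE V U hUV)
  have h1 : L (f.resLE V U hUV) = xZ ⁻¹' L (Spec.map φ₀) :=
    hbc _ _ _ _ (by rwa [LocallyOfFinitePresentation.SpecMap_iff]) hpb
  have h2 : L (f.resLE V U hUV ≫ V.ι) = L (f.resLE V U hUV) := by
    have hp : IsPullback (𝟙 (U : Scheme.{u})) (f.resLE V U hUV) (f.resLE V U hUV ≫ V.ι) V.ι := by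
      have h0 : IsPullback (𝟙 (U : Scheme.{u})) (f.resLE V U hUV) (f.resLE V U hUV)
          (𝟙 (V : Scheme.{u})) := IsPullback.of_horiz_isIso ⟨by simp⟩
      have := h0.paste_vert (IsKernelPair.id_of_mono V.ι)
      simpa using this
    rw [hbc _ _ _ _ inferInstance hp]
    rfl
  have h3 : L (U.ι ≫ f) = U.ι ⁻¹' L f := hoi f U.ι inferInstance inferInstance
  rw [Scheme.Hom.resLE_comp_ι] at h2
  show IsConstructible (U.ι ⁻¹' L f)
  rw [← h3, h2, h1]
  exact xZ.isConstructible_preimage (hN φ₀ hA₀ hφ₀)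

end Groth.Agent.Lib.Helper3.LocusConstr
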