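import Mathlib
import Groth.Agent.Lib.Helper3LocusConstrB

/-!
# Constructibility of fibrewise loci by generic stratification of the base (helper5)

* `isConstructible_of_forall_irreducible`: Noetherian induction on the closed subsets of the
  target: a set `E` is constructible as soon as over a nonempty open part of every irreducible
  closed subset of the (Noetherian) target it is constructible.
* `exists_int_model`, `isLocallyConstructible_locus_int`: variants of helper3's reduction to a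
  base of finite type over `ℤ`.
* `isConstructible_of_generic`: for a base of finite type over `ℤ`, it suffices to treat, for
  each integral quotient `A₁` of the base, the family over `A₁[1/g]` for a suitable `g ≠ 0`.
-/

set_option autoImplicit false
set_option linter.style.haveILetI false
universe u
open CategoryTheory CategoryTheory.Limits AlgebraicGeometry Topology TensorProduct TopologicalSpace

namespace Groth.Agent.Lib.Helper5.LocusGeneric

section Top

theorem isRetrocompact_of_noetherianSpace {X : Type*} [TopologicalSpace X] [NoetherianSpace X]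
    (s : Set X) : IsRetrocompact s := fun _ _ _ => NoetherianSpace.isCompact _

theorem IsOpen.isConstructible_of_noetherianSpace {X : Type*} [TopologicalSpace X]
    [NoetherianSpace X] {s : Set X} (hs : IsOpen s) : IsConstructible s :=
  (isRetrocompact_of_noetherianSpace s).isConstructible hs

/-- Noetherian induction for constructibility. -/
theorem isConstructible_of_forall_irreducible {X Y : Type*} [TopologicalSpace X]
    [TopologicalSpace Y] [NoetherianSpace Y] (f : X → Y) (E : Set X)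
    (h : ∀ Z : Set Y, IsClosed Z → IsIrreducible Z → ∃ U : Set Y, IsOpen U ∧ (Z ∩ U).Nonempty ∧
      IsConstructible (E ∩ f ⁻¹' (Z ∩ U))) :
    IsConstructible E := by
  suffices H : ∀ s : Closeds Y, IsConstructible (E ∩ f ⁻¹' (s : Set Y)) by
    simpa using H ⊤
  intro s
  apply wellFounded_lt.induction s
  clear s
  intro s H
  rcases eq_or_ne s ⊥ with rfl | h₀
  · simp
  · by_cases h₁ : IsPreirreducible (s : Set Y)
    · obtain ⟨U, hU, ⟨y, hys, hyU⟩, hc⟩ := h s s.isClosed ⟨Closeds.coe_nonempty.2 h₀, h₁⟩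
      let t : Closeds Y := s ⊓ ⟨Uᶜ, hU.isClosed_compl⟩
      have hts : t < s := by
        refine lt_of_le_of_ne inf_le_left fun heq => ?_
        have hy : y ∈ (t : Set Y) := heq ▸ hys
        exact hy.2 hyU
      have h2 := H t hts
      have : E ∩ f ⁻¹' (s : Set Y) = (E ∩ f ⁻¹' ((s : Set Y) ∩ U)) ∪ (E ∩ f ⁻¹' (t : Set Y)) := by
        ext x
        simp only [Set.mem_inter_iff, Set.mem_preimage, Set.mem_union, t, Closeds.coe_inf,
          Closeds.coe_mk, Set.mem_compl_iff, SetLike.mem_coe]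
        tauto
      rw [this]
      exact hc.union h2
    · simp only [isPreirreducible_iff_isClosed_union_isClosed, not_forall, not_or] at h₁
      obtain ⟨z₁, z₂, hz₁, hz₂, hsub, hz₁', hz₂'⟩ := h₁
      lift z₁ to Closeds Y using hz₁
      lift z₂ to Closeds Y using hz₂
      have H1 := H (s ⊓ z₁) (inf_lt_left.2 hz₁')
      have H2 := H (s ⊓ z₂) (inf_lt_left.2 hz₂')
      have : E ∩ f ⁻¹' (s : Set Y) =
          (E ∩ f ⁻¹' ((s ⊓ z₁ : Closeds Y) : Set Y)) ∪ (E ∩ f ⁻¹' ((s ⊓ z₂ : Closeds Y) : Set Y)) := by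
        ext x
        simp only [Set.mem_inter_iff, Set.mem_preimage, Set.mem_union, Closeds.coe_inf,
          SetLike.mem_coe]
        constructor
        · rintro ⟨hxE, hxs⟩
          rcases hsub hxs with h | h
          · exact Or.inl ⟨hxE, hxs, h⟩
          · exact Or.inr ⟨hxE, hxs, h⟩
        · rintro (⟨hxE, hxs, -⟩ | ⟨hxE, hxs, -⟩) <;> exact ⟨hxE, hxs⟩
      rw [this]
      exact H1.union H2

end Top

section Model

open Groth.Agent.Lib.Helper3.LocusConstr

/-- A morphism of affine schemes, locally of finite presentation, is a base change of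
`Spec B₀ ⟶ Spec A₀` of finite presentation with `A₀` of finite type over `ℤ`. -/
theorem exists_int_model {X Y : Scheme.{u}} [IsAffine X] [IsAffine Y] (f : X ⟶ Y)
    [LocallyOfFinitePresentation f] :
    ∃ (A₀ B₀ : CommRingCat.{u}) (φ₀ : A₀ ⟶ B₀) (xZ : X ⟶ Spec B₀) (yZ : Y ⟶ Spec A₀),
      Algebra.FiniteType ℤ A₀ ∧ φ₀.hom.FinitePresentation ∧ IsPullback xZ f (Spec.map φ₀) yZ := by
  have hfp : f.appTop.hom.FinitePresentation := f.finitePresentation_appTop
  algebraize [f.appTop.hom]
  obtain ⟨A₀, B₀, _, _, _, _, hfg, hB₀, ⟨e⟩⟩ := exists_model Γ(Y, ⊤) Γ(X, ⊤)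
  let β : CommRingCat.of B₀ ⟶ Γ(X, ⊤) :=
    CommRingCat.ofHom (e.toRingEquiv.toRingHom.comp
      (Algebra.TensorProduct.includeRight (R := A₀) (A := Γ(Y, ⊤)) (B := B₀)).toRingHom)
  have hpo : IsPushout (CommRingCat.ofHom (algebraMap A₀ Γ(Y, ⊤)))
      (CommRingCat.ofHom (algebraMap A₀ B₀)) f.appTop β := by
    refine (CommRingCat.isPushout_tensorProduct A₀ Γ(Y, ⊤) B₀).of_iso (Iso.refl _) (Iso.refl _)
      (Iso.refl _) e.toRingEquiv.toCommRingCatIso (by simp) (by simp) ?_ ?_
    · ext y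
      show e (y ⊗ₜ[A₀] (1 : B₀)) = f.appTop.hom y
      have := e.commutes y
      rwa [Algebra.TensorProduct.algebraMap_apply] at this
    · ext y
      rfl
  have hpb := (isPullback_SpecMap_of_isPushout _ _ _ _ hpo).flip
  have hsq : IsPullback X.toSpecΓ f (Spec.map f.appTop) Y.toSpecΓ :=
    IsPullback.of_horiz_isIso ⟨(Scheme.toSpecΓ_naturality f).symm⟩
  refine ⟨CommRingCat.of A₀, CommRingCat.of B₀, CommRingCat.ofHom (algebraMap A₀ B₀),
    X.toSpecΓ ≫ Spec.map β, Y.toSpecΓ ≫ Spec.map (CommRingCat.ofHom (algebraMap A₀ Γ(Y, ⊤))),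
    hfg, ?_, hsq.paste_horiz hpb⟩
  rw [CommRingCat.hom_ofHom, RingHom.finitePresentation_algebraMap]
  exact hB₀

theorem isLocallyConstructible_locus_int
    (L : ∀ {X Y : Scheme.{u}} (_ : X ⟶ Y), Set X)
    (hbc : ∀ {X Y X' Y' : Scheme.{u}} (f : X ⟶ Y) (g : Y' ⟶ Y) (g' : X' ⟶ X) (f' : X' ⟶ Y'),
      LocallyOfFinitePresentation f → IsPullback g' f' f g → L f' = g' ⁻¹' L f)
    (hoi : ∀ {X Y U : Scheme.{u}} (f : X ⟶ Y) (j : U ⟶ X), IsOpenImmersion j →
      LocallyOfFinitePresentation f → L (j ≫ f) = j ⁻¹' L f)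
    (hN : ∀ {A B : CommRingCat.{u}} (φ : A ⟶ B), Algebra.FiniteType ℤ A →
      φ.hom.FinitePresentation → IsConstructible (L (Spec.map φ)))
    {X Y : Scheme.{u}} (f : X ⟶ Y) [LocallyOfFinitePresentation f] :
    IsLocallyConstructible (L f) := by
  intro x
  obtain ⟨_, ⟨V : Y.Opens, hV, rfl⟩, hxV, -⟩ := Y.isBasis_affineOpens.exists_subset_of_mem_open
      (Set.mem_univ (f x)) isOpen_univ
  obtain ⟨_, ⟨U : X.Opens, hU, rfl⟩, hxU, hUV⟩ := X.isBasis_affineOpens.exists_subset_of_mem_open
      hxV (f ⁻¹ᵁ V).2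
  refine ⟨U, U.2.mem_nhds hxU, U.2, ?_⟩
  haveI : IsAffine (U : Scheme.{u}) := hU
  haveI : IsAffine (V : Scheme.{u}) := hV
  obtain ⟨A₀, B₀, φ₀, xZ, yZ, hA₀, hφ₀, hpb⟩ := exists_int_model (f.resLE V U hUV)
  have h1 : L (f.resLE V U hUV) = xZ ⁻¹' L (Spec.map φ₀) :=
    hbc _ _ _ _ (by rwa [LocallyOfFinitePresentation.SpecMap_iff]) hpb
  have h2 : L (f.resLE V U hUV ≫ V.ι) = L (f.resLE V U hUV) := by
    have hp : IsPullback (𝟙 (U : Scheme.{u})) (f.resLE V U hUV) (f.resLE V U hUV ≫ V.ι) V.ι := by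
      have h0 : IsPullback (𝟙 (U : Scheme.{u})) (f.resLE V U hUV) (f.resLE V U hUV)
          (𝟙 (V : Scheme.{u})) := IsPullback.of_horiz_isIso ⟨by simp⟩
      have := h0.paste_vert (IsKernelPair.id_of_mono V.ι)
      simpa using this
    rw [hbc _ _ _ _ inferInstance hp]
    rfl
  have h3 : L (U.ι ≫ f) = U.ι ⁻¹' L f := hoi f U.ι inferInstance inferInstance
  rw [Scheme.Hom.resLE_comp_ι] at h2
  show IsConstructible (U.ι ⁻¹' L f)
  rw [← h3, h2, h1]
  exact xZ.isConstructible_preimage (hN φ₀ hA₀ hφ₀)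

end Model

section Generic

variable (L : ∀ {X Y : Scheme.{u}} (_ : X ⟶ Y), Set X)

/-- The stratum of the locus over `V(ker (A → A₁)) ∩ D(a)`. -/
theorem stratum_aux
    (hbc : ∀ {X Y X' Y' : Scheme.{u}} (f : X ⟶ Y) (g : Y' ⟶ Y) (g' : X' ⟶ X) (f' : X' ⟶ Y'),
      LocallyOfFinitePresentation f → IsPullback g' f' f g → L f' = g' ⁻¹' L f)
    (A B A₁ : Type u) [CommRing A] [CommRing B] [CommRing A₁] [Algebra A B] [Algebra A A₁]
    [Algebra.FinitePresentation A B] [IsNoetherianRing A]
    (hs : Function.Surjective (algebraMap A A₁)) (a : A) (g : A₁) (hg : algebraMap A A₁ a = g)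
    (hcon : IsConstructible (L (Spec.map (CommRingCat.ofHom
      (algebraMap (Localization.Away g) (Localization.Away g ⊗[A₁] (A₁ ⊗[A] B))))))) :
    IsConstructible (L (Spec.map (CommRingCat.ofHom (algebraMap A B))) ∩
      (Spec.map (CommRingCat.ofHom (algebraMap A B))) ⁻¹'
        (PrimeSpectrum.zeroLocus (RingHom.ker (algebraMap A A₁) : Set A) ∩
          (PrimeSpectrum.basicOpen a : Set (PrimeSpectrum A)))) := by
  haveI : IsNoetherianRing B := Algebra.FiniteType.isNoetherianRing A B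
  haveI : IsNoetherianRing A₁ := isNoetherianRing_of_surjective A A₁ (algebraMap A A₁) hs
  haveI : IsNoetherianRing (A₁ ⊗[A] B) := Algebra.FiniteType.isNoetherianRing A₁ (A₁ ⊗[A] B)
  haveI : NoetherianSpace ↥(Spec (CommRingCat.of B)) :=
    inferInstanceAs (NoetherianSpace (PrimeSpectrum B))
  haveI : NoetherianSpace ↥(Spec (CommRingCat.of (A₁ ⊗[A] B))) :=
    inferInstanceAs (NoetherianSpace (PrimeSpectrum (A₁ ⊗[A] B)))
  have hlfp : LocallyOfFinitePresentation (Spec.map (CommRingCat.ofHom (algebraMap A B))) := by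
    rw [LocallyOfFinitePresentation.SpecMap_iff, CommRingCat.hom_ofHom,
      RingHom.finitePresentation_algebraMap]
    infer_instance
  -- the two cartesian squares
  have sq1 : IsPullback
      (Spec.map (CommRingCat.ofHom
        (Algebra.TensorProduct.includeRight (R := A) (A := A₁) (B := B)).toRingHom))
      (Spec.map (CommRingCat.ofHom (algebraMap A₁ (A₁ ⊗[A] B))))
      (Spec.map (CommRingCat.ofHom (algebraMap A B)))
      (Spec.map (CommRingCat.ofHom (algebraMap A A₁))) :=
    (isPullback_SpecMap_of_isPushout _ _ _ _ (CommRingCat.isPushout_tensorProduct A A₁ B)).flip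
  have sq2 : IsPullback
      (Spec.map (CommRingCat.ofHom
        (Algebra.TensorProduct.includeRight (R := A₁) (A := Localization.Away g)
          (B := A₁ ⊗[A] B)).toRingHom))
      (Spec.map (CommRingCat.ofHom
        (algebraMap (Localization.Away g) (Localization.Away g ⊗[A₁] (A₁ ⊗[A] B)))))
      (Spec.map (CommRingCat.ofHom (algebraMap A₁ (A₁ ⊗[A] B))))
      (Spec.map (CommRingCat.ofHom (algebraMap A₁ (Localization.Away g)))) :=
    (isPullback_SpecMap_of_isPushout _ _ _ _
      (CommRingCat.isPushout_tensorProduct A₁ (Localization.Away g) (A₁ ⊗[A] B))).flip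
  have hpaste := sq2.paste_horiz sq1
  have hL := hbc _ _ _ _ hlfp hpaste
  haveI : IsClosedImmersion (Spec.map (CommRingCat.ofHom (algebraMap A A₁))) :=
    IsClosedImmersion.spec_of_surjective _ hs
  haveI hι₁ : IsClosedImmersion (Spec.map (CommRingCat.ofHom
      (Algebra.TensorProduct.includeRight (R := A) (A := A₁) (B := B)).toRingHom)) :=
    MorphismProperty.of_isPullback (P := @IsClosedImmersion) sq1.flip inferInstance
  haveI hι₂ : IsOpenImmersion (Spec.map (CommRingCat.ofHom
      (Algebra.TensorProduct.includeRight (R := A₁) (A := Localization.Away g)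
        (B := A₁ ⊗[A] B)).toRingHom)) :=
    MorphismProperty.of_isPullback (P := @IsOpenImmersion) sq2.flip inferInstance
  -- the range of the immersion of the stratum
  have hj : Set.range (Spec.map (CommRingCat.ofHom (algebraMap A₁ (Localization.Away g))) ≫
      Spec.map (CommRingCat.ofHom (algebraMap A A₁))) =
      PrimeSpectrum.zeroLocus (RingHom.ker (algebraMap A A₁) : Set A) ∩
        (PrimeSpectrum.basicOpen a : Set (PrimeSpectrum A)) := by
    ext y
    constructor
    · rintro ⟨z, rfl⟩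
      refine ⟨?_, ?_⟩
      · intro x hx
        show algebraMap A₁ (Localization.Away g) (algebraMap A A₁ x) ∈ z.asIdeal
        rw [RingHom.mem_ker.mp hx, map_zero]
        exact zero_mem _
      · show ¬ algebraMap A₁ (Localization.Away g) (algebraMap A A₁ a) ∈ z.asIdeal
        rw [hg]
        intro h
        exact z.2.ne_top
          (Ideal.eq_top_of_isUnit_mem _ h (IsLocalization.Away.algebraMap_isUnit g))
    · rintro ⟨hy1, hy2⟩
      have h1 : y ∈ Set.range (PrimeSpectrum.comap (algebraMap A A₁)) := by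
        rw [range_comap_of_surjective A₁ (algebraMap A A₁) hs]
        exact hy1
      obtain ⟨y₁, rfl⟩ := h1
      have h2 : y₁ ∈ Set.range (PrimeSpectrum.comap (algebraMap A₁ (Localization.Away g))) := by
        rw [PrimeSpectrum.localization_away_comap_range (Localization.Away g) g]
        show g ∉ y₁.asIdeal
        rw [← hg]
        exact hy2
      obtain ⟨z, rfl⟩ := h2
      exact ⟨z, rfl⟩
  have hrange := Scheme.image_preimage_eq_of_isPullback hpaste.flip Set.univ
  rw [Set.preimage_univ, Set.image_univ, Set.image_univ] at hrange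
  have heq : L (Spec.map (CommRingCat.ofHom (algebraMap A B))) ∩
      (Spec.map (CommRingCat.ofHom (algebraMap A B))) ⁻¹'
        (PrimeSpectrum.zeroLocus (RingHom.ker (algebraMap A A₁) : Set A) ∩
          (PrimeSpectrum.basicOpen a : Set (PrimeSpectrum A))) =
      (Spec.map (CommRingCat.ofHom
        (Algebra.TensorProduct.includeRight (R := A) (A := A₁) (B := B)).toRingHom)) ''
      ((Spec.map (CommRingCat.ofHom
        (Algebra.TensorProduct.includeRight (R := A₁) (A := Localization.Away g)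
          (B := A₁ ⊗[A] B)).toRingHom)) ''
        L (Spec.map (CommRingCat.ofHom
          (algebraMap (Localization.Away g) (Localization.Away g ⊗[A₁] (A₁ ⊗[A] B)))))) := by
    rw [hL]
    ext x
    constructor
    · rintro ⟨hxL, hxS⟩
      have hx := (Set.ext_iff.mp hrange x).mpr ((Set.ext_iff.mp hj _).mpr hxS)
      obtain ⟨w, rfl⟩ := hx
      exact ⟨_, ⟨w, hxL, rfl⟩, rfl⟩
    · rintro ⟨_, ⟨w, hw, rfl⟩, rfl⟩
      exact ⟨hw, (Set.ext_iff.mp hj _).mp ((Set.ext_iff.mp hrange _).mp ⟨w, rfl⟩)⟩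
  rw [heq]
  exact (hcon.image_of_isOpenEmbedding (Scheme.Hom.isOpenEmbedding _)
    (isRetrocompact_of_noetherianSpace _)).image_of_isClosedEmbedding
    (Scheme.Hom.isClosedEmbedding _) (isRetrocompact_of_noetherianSpace _)

theorem exists_stratum
    (hbc : ∀ {X Y X' Y' : Scheme.{u}} (f : X ⟶ Y) (g : Y' ⟶ Y) (g' : X' ⟶ X) (f' : X' ⟶ Y'),
      LocallyOfFinitePresentation f → IsPullback g' f' f g → L f' = g' ⁻¹' L f)
    (hgen : ∀ (A₁ B₁ : Type u) [CommRing A₁] [IsDomain A₁] [CommRing B₁] [Algebra A₁ B₁]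
      [Algebra.FinitePresentation A₁ B₁], Algebra.FiniteType ℤ A₁ →
      ∃ g : A₁, g ≠ 0 ∧ IsConstructible (L (Spec.map (CommRingCat.ofHom
        (algebraMap (Localization.Away g) (Localization.Away g ⊗[A₁] B₁))))))
    (A B : Type u) [CommRing A] [CommRing B] [Algebra A B] [Algebra.FinitePresentation A B]
    (hA : Algebra.FiniteType ℤ A) (𝔭 : Ideal A) [𝔭.IsPrime] :
    ∃ a : A, a ∉ 𝔭 ∧ IsConstructible (L (Spec.map (CommRingCat.ofHom (algebraMap A B))) ∩
      (Spec.map (CommRingCat.ofHom (algebraMap A B))) ⁻¹'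
        (PrimeSpectrum.zeroLocus (𝔭 : Set A) ∩
          (PrimeSpectrum.basicOpen a : Set (PrimeSpectrum A)))) := by
  haveI : IsNoetherianRing A := Algebra.FiniteType.isNoetherianRing ℤ A
  have hA₁ : Algebra.FiniteType ℤ (A ⧸ 𝔭) :=
    Algebra.FiniteType.of_surjective (Ideal.Quotient.mkₐ ℤ 𝔭) (Ideal.Quotient.mkₐ_surjective ℤ 𝔭)
  obtain ⟨g, hg0, hcon⟩ := hgen (A ⧸ 𝔭) ((A ⧸ 𝔭) ⊗[A] B) hA₁
  obtain ⟨a, rfl⟩ := Ideal.Quotient.mk_surjective g
  have ha : a ∉ 𝔭 := fun h => hg0 (Ideal.Quotient.eq_zero_iff_mem.mpr h)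
  refine ⟨a, ha, ?_⟩
  have h := stratum_aux L hbc A B (A ⧸ 𝔭) Ideal.Quotient.mk_surjective a
    (Ideal.Quotient.mk 𝔭 a) rfl hcon
  rwa [Ideal.Quotient.algebraMap_eq, Ideal.mk_ker] at h

/-- Over a base of finite type over `ℤ`, a locus compatible with base change is constructible as
soon as it is generically constructible over every integral quotient of the base. -/
theorem isConstructible_of_generic
    (hbc : ∀ {X Y X' Y' : Scheme.{u}} (f : X ⟶ Y) (g : Y' ⟶ Y) (g' : X' ⟶ X) (f' : X' ⟶ Y'),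
      LocallyOfFinitePresentation f → IsPullback g' f' f g → L f' = g' ⁻¹' L f)
    (hgen : ∀ (A₁ B₁ : Type u) [CommRing A₁] [IsDomain A₁] [CommRing B₁] [Algebra A₁ B₁]
      [Algebra.FinitePresentation A₁ B₁], Algebra.FiniteType ℤ A₁ →
      ∃ g : A₁, g ≠ 0 ∧ IsConstructible (L (Spec.map (CommRingCat.ofHom
        (algebraMap (Localization.Away g) (Localization.Away g ⊗[A₁] B₁))))))
    {A B : CommRingCat.{u}} (φ : A ⟶ B) (hA : Algebra.FiniteType ℤ A)
    (hφ : φ.hom.FinitePresentation) :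
    IsConstructible (L (Spec.map φ)) := by
  algebraize [φ.hom]
  haveI : IsNoetherianRing A := Algebra.FiniteType.isNoetherianRing ℤ A
  haveI : NoetherianSpace ↥(Spec A) := inferInstanceAs (NoetherianSpace (PrimeSpectrum A))
  refine isConstructible_of_forall_irreducible (Spec.map φ) (L (Spec.map φ)) fun Z hZc hZi => ?_
  haveI h𝔭 : (PrimeSpectrum.vanishingIdeal (Z : Set (PrimeSpectrum A))).IsPrime :=
    PrimeSpectrum.isIrreducible_iff_vanishingIdeal_isPrime.mp hZi
  obtain ⟨a, ha, hcon⟩ := exists_stratum L hbc hgen A B hA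
    (PrimeSpectrum.vanishingIdeal (Z : Set (PrimeSpectrum A)))
  have hZ : PrimeSpectrum.zeroLocus
      (PrimeSpectrum.vanishingIdeal (Z : Set (PrimeSpectrum A)) : Set A) =
      (Z : Set (PrimeSpectrum A)) := by
    rw [PrimeSpectrum.zeroLocus_vanishingIdeal_eq_closure]
    exact hZc.closure_eq
  rw [hZ] at hcon
  refine ⟨(PrimeSpectrum.basicOpen a : Set (PrimeSpectrum A)), (PrimeSpectrum.basicOpen a).isOpen,
    ⟨⟨_, h𝔭⟩, ?_, ha⟩, hcon⟩
  have : (⟨_, h𝔭⟩ : PrimeSpectrum A) ∈
      PrimeSpectrum.zeroLocus (PrimeSpectrum.vanishingIdeal (Z : Set (PrimeSpectrum A)) : Set A) :=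
    fun x hx => hx
  rwa [hZ] at this

end Generic

end Groth.Agent.Lib.Helper5.LocusGeneric
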