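import Mathlib
import Groth.Agent.Lib.Helper5CodepthFib
import Groth.Agent.Lib.Helper5LocusGeneric
import Groth.Agent.Lib.Helper5CMLocusSch
import Groth.Agent.Lib.Helper2GenFree

/-!
# Constructibility of the fibrewise codepth loci (EGA IV 9.9.2–9.9.3) (helper5)

* `Lcd n f`: the set of points `x` of the source of `f` at which the local ring of the fibre has
  codepth at most `n`.
* `isLocallyConstructible_lcd`: for `f` locally of finite presentation, `Lcd n f` is locally
  constructible.
-/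

set_option autoImplicit false
set_option linter.style.haveILetI false
universe u
open CategoryTheory CategoryTheory.Limits AlgebraicGeometry Topology TensorProduct TopologicalSpace

namespace Groth.Agent.Lib.Helper5.FibCodepthConstr
open Groth.Agent.Lib.Helper5.CodepthFib Groth.Agent.Lib.Helper5.LocusGeneric
  Groth.Agent.Lib.Helper5.FiberMor Groth.Agent.Lib.Helper5.CodepthOpen
  Groth.Agent.Lib.Helper5.CMLocusOpen Groth.Agent.Lib.Helper5.GrpCM
  Groth.Agent.Lib.Helper5.GenDepth Groth.Agent.Lib.Helper28 Groth.Agent.Lib.Helper2.GenFree LocCoh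

/-- The locus where the local ring of the fibre has codepth at most `n`. -/
def Lcd (n : ℕ) {X Y : Scheme.{u}} (f : X ⟶ Y) : Set X :=
  {x | CodepthLE n ((f.fiber (f x)).presheaf.stalk (f.asFiber x))}

theorem lcd_baseChange (n : ℕ) {X Y X' Y' : Scheme.{u}} (f : X ⟶ Y) (g : Y' ⟶ Y) (g' : X' ⟶ X)
    (f' : X' ⟶ Y') (hf : LocallyOfFinitePresentation f) (hsq : IsPullback g' f' f g) :
    Lcd n f' = g' ⁻¹' Lcd n f := by
  ext x'
  haveI : LocallyOfFiniteType f := inferInstance
  haveI : LocallyOfFiniteType (f.fiberToSpecResidueField (f (g' x'))) := by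
    dsimp only [Scheme.Hom.fiberToSpecResidueField]
    exact MorphismProperty.pullback_snd (P := @LocallyOfFiniteType) f _ inferInstance
  haveI : IsLocallyNoetherian (f.fiber (f (g' x'))) :=
    LocallyOfFiniteType.isLocallyNoetherian (f.fiberToSpecResidueField (f (g' x')))
  exact fiber_stalk_baseChange_iff_of_ringBCInv
    (ringBCInv_of_fibCMInv (fibCMInv_codepthLE n) (isoInv_codepthLE n)) (isoInv_codepthLE n)
    hsq x' (Or.inl inferInstance)

theorem lcd_openImmersion (n : ℕ) {X Y U : Scheme.{u}} (f : X ⟶ Y) (j : U ⟶ X)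
    (hj : IsOpenImmersion j) : Lcd n (j ≫ f) = j ⁻¹' Lcd n f := by
  ext u
  exact fiber_stalk_openImmersion_iff f (isoInv_codepthLE n) j u

section Generic

theorem cmu_of_finiteType_int (A : Type u) [CommRing A] [Algebra ℤ A]
    (hA : Algebra.FiniteType ℤ A) [IsNoetherianRing A] : CMU A := by
  obtain ⟨n, φ, hφ⟩ := Algebra.FiniteType.iff_quotient_mvPolynomial''.mp hA
  haveI : IsRegularRing (ULift.{u} (MvPolynomial (Fin n) ℤ)) :=
    IsRegularRing.of_ringEquiv (ULift.ringEquiv (R := MvPolynomial (Fin n) ℤ)).symm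
  letI : Algebra (ULift.{u} (MvPolynomial (Fin n) ℤ)) A :=
    (φ.toRingHom.comp (ULift.ringEquiv (R := MvPolynomial (Fin n) ℤ)).toRingHom).toAlgebra
  exact cmu_of_regular_quotient (ULift.{u} (MvPolynomial (Fin n) ℤ))
    (hφ.comp (ULift.ringEquiv (R := MvPolynomial (Fin n) ℤ)).surjective)

theorem isCohenMacaulayRing_away {A₁ : Type u} [CommRing A₁] [IsNoetherianRing A₁]
    (g₁ g₂ : A₁)
    (hsub : ∀ p : PrimeSpectrum A₁, g₁ ∉ p.asIdeal →
      IsCohenMacaulayLocalRing (Localization.AtPrime p.asIdeal)) :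
    IsCohenMacaulayRing (Localization.Away (g₁ * g₂)) := by
  haveI : IsNoetherianRing (Localization.Away (g₁ * g₂)) :=
    IsLocalization.isNoetherianRing (Submonoid.powers (g₁ * g₂)) _ inferInstance
  refine { isCohenMacaulayLocalRing_localization := fun p hp => ?_ }
  have e := IsLocalization.localizationLocalizationAtPrimeIsoLocalization
    (Submonoid.powers (g₁ * g₂)) p
  have hg : g₁ * g₂ ∉ p.comap (algebraMap A₁ (Localization.Away (g₁ * g₂))) := fun h =>
    hp.ne_top (Ideal.eq_top_of_isUnit_mem _ h (IsLocalization.Away.algebraMap_isUnit (g₁ * g₂)))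
  have hg₁ : g₁ ∉ p.comap (algebraMap A₁ (Localization.Away (g₁ * g₂))) := fun h =>
    hg (Ideal.mul_mem_right _ _ h)
  have hcm := hsub ⟨p.comap (algebraMap A₁ (Localization.Away (g₁ * g₂))), inferInstance⟩ hg₁
  exact isoInv_cm _ _ e.toRingEquiv hcm

theorem codepthLE_localization_iff {B : Type u} [CommRing B] [IsNoetherianRing B] (n : ℕ)
    (q : Ideal B) [q.IsPrime] :
    CodepthLE n (Localization.AtPrime q) ↔
      dm q B ≤ ((dep q B : ℕ∞) : WithBot ℕ∞) + n := by
  haveI : IsNoetherianRing (Localization.AtPrime q) :=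
    IsLocalization.isNoetherianRing q.primeCompl _ inferInstance
  obtain ⟨h1, h2⟩ := dep_dm_self q
  rw [h1, h2, Module.supportDim_self_eq_ringKrullDim]
  exact ⟨fun ⟨_, _, h⟩ => h, fun h => ⟨inferInstance, inferInstance, h⟩⟩

theorem lcd_spec_eq (n : ℕ) (A' B' : Type u) [CommRing A'] [CommRing B'] [Algebra A' B']
    [hCM : IsCohenMacaulayRing A'] [IsNoetherianRing B'] [Module.Flat A' B'] :
    Lcd n (Spec.map (CommRingCat.ofHom (algebraMap A' B'))) =
      {x : PrimeSpectrum B' | dm x.asIdeal B' ≤ ((dep x.asIdeal B' : ℕ∞) : WithBot ℕ∞) + n} := by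
  haveI : IsNoetherianRing A' := hCM.toIsNoetherian
  haveI : Flat (Spec.map (CommRingCat.ofHom (algebraMap A' B'))) :=
    Flat.SpecMap_iff.mpr (RingHom.flat_algebraMap_iff.mpr inferInstance)
  ext x
  have hfl := Flat.stalkMap (Spec.map (CommRingCat.ofHom (algebraMap A' B'))) x
  have hY : IsCohenMacaulayLocalRing ((Spec (CommRingCat.of A')).presheaf.stalk
      ((Spec.map (CommRingCat.ofHom (algebraMap A' B'))) x)) :=
    isoInv_cm _ _ (Spec.stalkIso (CommRingCat.of A') _).commRingCatIsoToRingEquiv.symm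
      (hCM.isCohenMacaulayLocalRing_localization _)
  have h1 := flat_iff_of_baseCM (Spec.map (CommRingCat.ofHom (algebraMap A' B'))) x
    (baseCMInv_codepthLE n) (isoInv_codepthLE n) hfl hY
  have e := (Spec.stalkIso (CommRingCat.of B') x).commRingCatIsoToRingEquiv
  have h2 : CodepthLE n ((Spec (CommRingCat.of B')).presheaf.stalk x) ↔
      CodepthLE n (Localization.AtPrime x.asIdeal) :=
    ⟨isoInv_codepthLE n _ _ e, isoInv_codepthLE n _ _ e.symm⟩
  exact h1.symm.trans (h2.trans (codepthLE_localization_iff n x.asIdeal))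

theorem lcd_generic (n : ℕ) (A₁ B₁ : Type u) [CommRing A₁] [IsDomain A₁] [CommRing B₁]
    [Algebra A₁ B₁] [Algebra.FinitePresentation A₁ B₁] (hA₁ : Algebra.FiniteType ℤ A₁) :
    ∃ g : A₁, g ≠ 0 ∧ IsConstructible (Lcd n (Spec.map (CommRingCat.ofHom
      (algebraMap (Localization.Away g) (Localization.Away g ⊗[A₁] B₁))))) := by
  haveI : IsNoetherianRing A₁ := Algebra.FiniteType.isNoetherianRing ℤ A₁
  have hcmu : CMU A₁ := cmu_of_finiteType_int A₁ hA₁
  have hopen := isOpen_cm_locus hcmu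
  haveI : (⊥ : Ideal A₁).IsPrime := Ideal.isPrime_bot
  have hη : (⟨⊥, inferInstance⟩ : PrimeSpectrum A₁) ∈ {p : PrimeSpectrum A₁ |
      IsCohenMacaulayLocalRing (Localization.AtPrime p.asIdeal)} := by
    apply cm_localization_of_mem_minimalPrimes (⊥ : Ideal A₁)
    rw [IsDomain.minimalPrimes_eq_singleton_bot]
    rfl
  obtain ⟨_, ⟨g₁, rfl⟩, hη1, hsub⟩ :=
    PrimeSpectrum.isTopologicalBasis_basic_opens.exists_subset_of_mem_open hη hopen
  have hg₁ : g₁ ≠ 0 := fun h => hη1 (by rw [h]; exact zero_mem _)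
  obtain ⟨g₂, hg₂, hfree, -, -, -⟩ := exists_freeAway A₁ B₁ B₁
  refine ⟨g₁ * g₂, mul_ne_zero hg₁ hg₂, ?_⟩
  haveI : Module.Free (Localization.Away (g₁ * g₂)) (Localization.Away (g₁ * g₂) ⊗[A₁] B₁) :=
    (hfree.mul_left g₁).free (Localization.Away (g₁ * g₂))
      (TensorProduct.mk A₁ (Localization.Away (g₁ * g₂)) B₁ 1)
  haveI hCM : IsCohenMacaulayRing (Localization.Away (g₁ * g₂)) :=
    isCohenMacaulayRing_away g₁ g₂ fun p hp => hsub hp
  haveI hfp1 : Algebra.FinitePresentation A₁ (Localization.Away (g₁ * g₂)) :=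
    IsLocalization.Away.finitePresentation (g₁ * g₂)
  have hft1 : Algebra.FiniteType A₁ (Localization.Away (g₁ * g₂)) := inferInstance
  have hft2 : Algebra.FiniteType ℤ (Localization.Away (g₁ * g₂)) :=
    Algebra.FiniteType.trans hA₁ hft1
  have hft3 : Algebra.FiniteType ℤ (Localization.Away (g₁ * g₂) ⊗[A₁] B₁) :=
    Algebra.FiniteType.trans hft2 inferInstance
  haveI : IsNoetherianRing (Localization.Away (g₁ * g₂) ⊗[A₁] B₁) :=
    Algebra.FiniteType.isNoetherianRing ℤ _
  have hcmuB : CMU (Localization.Away (g₁ * g₂) ⊗[A₁] B₁) := cmu_of_finiteType_int _ hft3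
  haveI : NoetherianSpace ↥(Spec (CommRingCat.of (Localization.Away (g₁ * g₂) ⊗[A₁] B₁))) :=
    inferInstanceAs (NoetherianSpace (PrimeSpectrum (Localization.Away (g₁ * g₂) ⊗[A₁] B₁)))
  apply IsOpen.isConstructible_of_noetherianSpace
  rw [lcd_spec_eq]
  exact isOpen_codepth_le hcmuB (Localization.Away (g₁ * g₂) ⊗[A₁] B₁) n

end Generic

/-- **EGA IV 9.9.3-type**: for `f` locally of finite presentation, the set of points at which the
local ring of the fibre has codepth at most `n` is locally constructible. -/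
theorem isLocallyConstructible_lcd (n : ℕ) {X Y : Scheme.{u}} (f : X ⟶ Y)
    [LocallyOfFinitePresentation f] : IsLocallyConstructible (Lcd n f) := by
  refine isLocallyConstructible_locus_int (fun {X Y} f => Lcd n f)
    (fun f g g' f' hf hsq => lcd_baseChange n f g g' f' hf hsq)
    (fun f j hj _ => lcd_openImmersion n f j hj) ?_ f
  intro A B φ hA hφ
  exact isConstructible_of_generic (fun {X Y} f => Lcd n f)
    (fun f g g' f' hf hsq => lcd_baseChange n f g g' f' hf hsq)
    (fun A₁ B₁ _ _ _ _ _ hA₁ => lcd_generic n A₁ B₁ hA₁) φ hA hφ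

end Groth.Agent.Lib.Helper5.FibCodepthConstr
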