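import Mathlib
import Groth.Prelude.Def_EGA43
import Groth.Agent.Lib.Helper4DimFormulaAC
import Groth.Agent.Lib.Helper5FiberMor
import Groth.Agent.S0386
import Groth.Agent.S2082

/-!
# Flatness criteria for a Cohen–Macaulay scheme over a regular base (helper5)

`tfae`: for `f : X ⟶ Y` locally of finite type over a locally Noetherian `Y`, with `O_{Y,f x}`
regular and `O_{X,x}` Cohen–Macaulay: flat with CM fibre ⟺ flat ⟺ universally open near `x` ⟺ open
at the generic points of the components of the fibre through `x` ⟺ dimension formula.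
-/

set_option autoImplicit false
universe u

namespace Groth.Agent.Lib.Helper5.TfaeCMReg

open AlgebraicGeometry CategoryTheory IsLocalRing LocCoh
open Groth.Agent.Lib.Helper5.FiberRing Groth.Agent.Lib.Helper5.FiberMor
open Groth.Agent.Lib.Helper5.FiberStalk

variable {X Y : Scheme.{u}}

theorem flat_to_univOpen (f : X ⟶ Y) [LocallyOfFinitePresentation f] (x : X)
    (hfl : (f.stalkMap x).hom.Flat) : ∃ U : X.Opens, x ∈ U ∧ UniversallyOpen (U.ι ≫ f) := by
  have hopen := Groth.Agent.S0386.result f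
  obtain ⟨U, hU⟩ : ∃ U : X.Opens, (U : Set X) = {x : X | (f.stalkMap x).hom.Flat} :=
    ⟨⟨_, hopen⟩, rfl⟩
  have hxU : x ∈ U := by
    change x ∈ (U : Set X)
    rw [hU]
    exact hfl
  refine ⟨U, hxU, ?_⟩
  haveI : Flat (U.ι ≫ f) := by
    rw [Flat.iff_flat_stalkMap]
    intro u
    rw [Scheme.Hom.stalkMap_comp]
    have h1 : (f.stalkMap (U.ι u)).hom.Flat := by
      have hu : (u.1 : X) ∈ (U : Set X) := u.2
      rw [hU] at hu
      exact hu
    have h2 : (U.ι.stalkMap u).hom.Flat :=
      RingHom.Flat.of_bijective (f := (U.ι.stalkMap u).hom)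
        (ConcreteCategory.bijective_of_isIso (U.ι.stalkMap u))
    exact RingHom.Flat.comp h1 h2
  infer_instance

theorem univOpen_to_isOpenAt (f : X ⟶ Y) (U : X.Opens) (hUO : UniversallyOpen (U.ι ≫ f))
    (z : X) (hzU : z ∈ U) : EGA43.IsOpenAt f.base z := by
  intro W hW
  obtain ⟨W', hW'W, hW'open, hzW'⟩ := mem_nhds_iff.mp hW
  have hmap : IsOpenMap (U.ι ≫ f).base := (U.ι ≫ f).isOpenMap
  have hS : IsOpen ((U.ι ≫ f).base '' (U.ι.base ⁻¹' W')) :=
    hmap _ (hW'open.preimage U.ι.base.hom.continuous)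
  refine Filter.mem_of_superset (hS.mem_nhds ?_) ?_
  · exact ⟨⟨z, hzU⟩, hzW', rfl⟩
  · rintro _ ⟨u, hu, rfl⟩
    exact ⟨U.ι.base u, hW'W hu, rfl⟩

theorem tfae [IsLocallyNoetherian Y] (f : X ⟶ Y)
    [LocallyOfFiniteType f] (x : X) (hreg : IsRegularLocalRing (Y.presheaf.stalk (f.base x)))
    (hCM : LocCoh.IsCohenMacaulayLocalRing (X.presheaf.stalk x)) :
    List.TFAE [
      (f.stalkMap x).hom.Flat ∧
        LocCoh.IsCohenMacaulayLocalRing ((f.fiber (f.base x)).presheaf.stalk (f.asFiber x)),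
      (f.stalkMap x).hom.Flat,
      ∃ U : X.Opens, x ∈ U ∧ UniversallyOpen (U.ι ≫ f),
      (∀ z : ↥(f.fiber (f.base x)), f.asFiber x ∈ closure {z} →
          (∀ z' : ↥(f.fiber (f.base x)), z ∈ closure {z'} → z' = z) →
          EGA43.IsOpenAt f.base ((f.fiberι (f.base x)).base z)),
      ringKrullDim (X.presheaf.stalk x) =
        ringKrullDim (Y.presheaf.stalk (f.base x)) +
          ringKrullDim ((f.fiber (f.base x)).presheaf.stalk (f.asFiber x)) ] := by
  haveI : IsLocallyNoetherian X := LocallyOfFiniteType.isLocallyNoetherian f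
  tfae_have 1 → 2 := fun h => h.1
  tfae_have 2 → 3 := fun h => flat_to_univOpen f x h
  tfae_have 3 → 4 := by
    rintro ⟨U, hxU, hUO⟩ z hz hmax
    refine univOpen_to_isOpenAt f U hUO _ ?_
    have h1 : z ⤳ f.asFiber x := specializes_iff_mem_closure.mpr hz
    have h2 : (f.fiberι (f.base x)).base z ⤳ (f.fiberι (f.base x)).base (f.asFiber x) :=
      h1.map (f.fiberι (f.base x)).base.hom.continuous
    rw [f.fiberι_asFiber x] at h2
    exact h2.mem_open U.isOpen hxU
  tfae_have 4 → 5 := by
    intro h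
    apply Groth.Agent.Lib.Helper4.DimFormula.ringKrullDim_stalk_eq_add_of_isOpenAt f x
    intro z hz hmax
    exact h z (specializes_iff_mem_closure.mp hz)
      (fun z' hz' => hmax z' (specializes_iff_mem_closure.mpr hz'))
  tfae_have 5 → 1 := by
    intro hdim
    obtain ⟨e⟩ := nonempty_stalk_asFiber_equiv f x
    letI : Algebra (Y.presheaf.stalk (f.base x)) (X.presheaf.stalk x) :=
      (f.stalkMap x).hom.toAlgebra
    haveI : IsLocalHom (algebraMap (Y.presheaf.stalk (f.base x)) (X.presheaf.stalk x)) :=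
      inferInstanceAs (IsLocalHom (f.stalkMap x).hom)
    haveI := hreg
    haveI := hCM
    have hdim' : ringKrullDim (X.presheaf.stalk x) = ringKrullDim (Y.presheaf.stalk (f.base x)) +
        ringKrullDim (X.presheaf.stalk x ⧸ (maximalIdeal (Y.presheaf.stalk (f.base x))).map
          (algebraMap (Y.presheaf.stalk (f.base x)) (X.presheaf.stalk x))) := by
      rw [hdim, ringKrullDim_eq_of_ringEquiv e]
      rfl
    have hflat : Module.Flat (Y.presheaf.stalk (f.base x)) (X.presheaf.stalk x) :=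
      Groth.Agent.S2082.result hdim'
    have hfl : (f.stalkMap x).hom.Flat := hflat
    haveI : IsNoetherianRing (X.presheaf.stalk x) := inferInstance
    haveI : IsNoetherianRing (Y.presheaf.stalk (f.base x)) := inferInstance
    exact ⟨hfl, ((flat_iff f x flatLocalIff_cm isoInv_cm hfl).mp hCM).2⟩
  tfae_finish

end Groth.Agent.Lib.Helper5.TfaeCMReg
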