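import Mathlib
import Groth.Agent.Lib.Helper5TfaeCMReg
import Groth.Agent.Lib.Helper4DimFormulaAL
import Groth.Agent.Lib.Helper4DimFormulaAD
import Groth.Agent.Lib.Helper4DimFormulaU

/-!
# Miracle flatness for schemes locally of finite type over a field (helper5)

* `irreducibleComponents_dim_of_homeomorph`: transport of "all irreducible components have
  dimension `d`" along a homeomorphism.
* `stalk_add_ptTrdeg_of_equidim`: `W` lft over a field `k`, all irreducible components of
  dimension `e`: `dim O_{W,w} + trdeg_k κ(w) = e`.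
* `flat_of_equidim`: the scheme form of miracle flatness.
-/

set_option autoImplicit false
universe u

namespace Groth.Agent.Lib.Helper5.MiracleSch

open AlgebraicGeometry CategoryTheory IsLocalRing TopologicalSpace
open Groth.Agent.Lib.Helper4.DimFormula Groth.Agent.Lib.Helper4.VarDim

theorem irreducibleComponents_dim_of_homeomorph {A B : Type*} [TopologicalSpace A]
    [TopologicalSpace B] (φ : A ≃ₜ B) (d : WithBot ℕ∞)
    (h : ∀ Z ∈ irreducibleComponents B, topologicalKrullDim Z = d) :
    ∀ Z ∈ irreducibleComponents A, topologicalKrullDim Z = d := by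
  intro Z hZ
  have hZ' : φ '' Z ∈ irreducibleComponents B := by
    refine ⟨hZ.1.image φ φ.continuous.continuousOn, ?_⟩
    intro W hW hZW
    have h1 : IsIrreducible (φ.symm '' W) := hW.image φ.symm φ.symm.continuous.continuousOn
    have h2 : Z ≤ φ.symm '' W := by
      intro z hz
      exact ⟨φ z, hZW ⟨z, hz, rfl⟩, φ.symm_apply_apply z⟩
    have h3 : φ.symm '' W ≤ Z := hZ.2 h1 h2
    intro w hw
    have h4 : φ.symm w ∈ Z := h3 ⟨w, hw, rfl⟩
    exact ⟨φ.symm w, h4, φ.apply_symm_apply w⟩
  rw [← h _ hZ']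
  exact IsHomeomorph.topologicalKrullDim_eq _ (φ.image Z).isHomeomorph

theorem maximalIdeal_stalk_spec_field (k : Type u) [Field k]
    (pt : ↥(Spec (CommRingCat.of k))) :
    maximalIdeal ((Spec (CommRingCat.of k)).presheaf.stalk pt) = ⊥ := by
  letI : Algebra k ((Spec (CommRingCat.of k)).presheaf.stalk pt) :=
    StructureSheaf.stalkAlgebra k pt
  haveI : IsLocalization.AtPrime ((Spec (CommRingCat.of k)).presheaf.stalk pt) pt.asIdeal :=
    StructureSheaf.IsLocalization.to_stalk k pt
  have H : pt.asIdeal.primeCompl ≤ IsUnit.submonoid k := by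
    intro a ha
    have hne : a ≠ 0 := fun h => ha (by rw [h]; exact zero_mem _)
    exact hne.isUnit
  have e := IsLocalization.atUnits k pt.asIdeal.primeCompl
    (S := (Spec (CommRingCat.of k)).presheaf.stalk pt) H
  rw [← IsLocalRing.isField_iff_maximalIdeal_eq]
  exact MulEquiv.isField (Field.toIsField k) e.symm.toMulEquiv

theorem stalk_add_ptTrdeg_of_equidim (k : Type u) [Field k] {W : Scheme.{u}}
    (g : W ⟶ Spec (CommRingCat.of k)) [LocallyOfFiniteType g] (e : ℕ)
    (hW : ∀ Z ∈ irreducibleComponents (W : Type u), topologicalKrullDim Z = e) (w : W) :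
    ringKrullDim (W.presheaf.stalk w) + (ptTrdeg g w : WithBot ℕ∞) = e := by
  haveI : Subsingleton ↥(Spec (CommRingCat.of k)) :=
    (inferInstance : Subsingleton (PrimeSpectrum k))
  have hpre : g ⁻¹' {g w} = Set.univ := by
    ext z
    simp only [Set.mem_preimage, Set.mem_singleton_iff, Set.mem_univ, iff_true]
    exact Subsingleton.elim _ _
  let φ : ↥(g.fiber (g w)) ≃ₜ W :=
    (g.fiberHomeo (g w)).trans ((Homeomorph.setCongr hpre).trans (Homeomorph.Set.univ W))
  have h1 := fibreDimAt_eq_of_forall_irreducibleComponents g w e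
    (irreducibleComponents_dim_of_homeomorph φ e hW)
  have h2 := fibreDimAt_eq_stalk_add_ptTrdeg g w
  obtain ⟨ψ⟩ := Groth.Agent.Lib.Helper5.FiberStalk.nonempty_stalk_asFiber_equiv g w
  have hbot := maximalIdeal_stalk_spec_field k (g w)
  have h3 : ringKrullDim ((g.fiber (g w)).presheaf.stalk (g.asFiber w)) =
      ringKrullDim (W.presheaf.stalk w) := by
    rw [ringKrullDim_eq_of_ringEquiv ψ]
    have hmap : (maximalIdeal ((Spec (CommRingCat.of k)).presheaf.stalk (g w))).map
        (g.stalkMap w).hom = ⊥ := by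
      rw [hbot, Ideal.map_bot]
    rw [hmap]
    exact ringKrullDim_eq_of_ringEquiv (RingEquiv.quotientBot _)
  rw [← h3, ← h2, h1]

theorem exists_nat_of_add_eq {x : WithBot ℕ∞} {t e : ℕ}
    (h : x + (t : WithBot ℕ∞) = (e : WithBot ℕ∞)) : ∃ n : ℕ, x = n ∧ n + t = e := by
  induction x using WithBot.recBotCoe with
  | bot => simp at h
  | coe y =>
    induction y using ENat.recTopCoe with
    | top =>
      exfalso
      have h' : ((⊤ : ℕ∞) + (t : ℕ∞) : ℕ∞) = (e : ℕ∞) := by exact_mod_cast h
      rw [top_add] at h'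
      exact ENat.top_ne_natCast e h'
    | coe n =>
      refine ⟨n, rfl, ?_⟩
      exact_mod_cast h

theorem flat_of_equidim (k : Type u) [Field k] {X Y : Scheme.{u}}
    (q : Y ⟶ Spec (CommRingCat.of k)) [LocallyOfFiniteType q] (f : X ⟶ Y)
    [LocallyOfFiniteType (f ≫ q)]
    (hY : ∀ y : Y, IsRegularLocalRing (Y.presheaf.stalk y))
    (hX : ∀ x : X, LocCoh.IsCohenMacaulayLocalRing (X.presheaf.stalk x))
    (e d : ℕ) (hde : d ≤ e)
    (hXe : ∀ Z ∈ irreducibleComponents (X : Type u), topologicalKrullDim Z = e)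
    (hYd : ∀ Z ∈ irreducibleComponents (Y : Type u), topologicalKrullDim Z = d)
    (hfib : ∀ y : Y, ∀ Z ∈ irreducibleComponents (f ⁻¹' {y}),
      topologicalKrullDim Z = (e - d : ℕ)) :
    Flat f := by
  haveI : LocallyOfFiniteType f := locallyOfFiniteType_of_comp f q
  haveI : IsLocallyNoetherian Y := LocallyOfFiniteType.isLocallyNoetherian q
  rw [Flat.iff_flat_stalkMap]
  intro x
  have hA := stalk_add_ptTrdeg_of_equidim k (f ≫ q) e hXe x
  have hB := stalk_add_ptTrdeg_of_equidim k q d hYd (f x)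
  have hC1 : FlatMor.fibreDimAt f x = ((e - d : ℕ) : WithBot ℕ∞) :=
    fibreDimAt_eq_of_forall_irreducibleComponents f x (e - d)
      (irreducibleComponents_dim_of_homeomorph (f.fiberHomeo (f x)) _ (hfib (f x)))
  have hC : ringKrullDim ((f.fiber (f x)).presheaf.stalk (f.asFiber x)) +
      (ptTrdeg f x : WithBot ℕ∞) = ((e - d : ℕ) : WithBot ℕ∞) := by
    rw [← fibreDimAt_eq_stalk_add_ptTrdeg f x, hC1]
  have hD := ptTrdeg_comp f q x
  obtain ⟨a, ha, ha'⟩ := exists_nat_of_add_eq hA
  obtain ⟨b, hb, hb'⟩ := exists_nat_of_add_eq hB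
  obtain ⟨c, hc, hc'⟩ := exists_nat_of_add_eq hC
  have habc : a = b + c := by omega
  have hdim : ringKrullDim (X.presheaf.stalk x) =
      ringKrullDim (Y.presheaf.stalk (f x)) +
        ringKrullDim ((f.fiber (f x)).presheaf.stalk (f.asFiber x)) := by
    rw [ha, hb, hc, habc]
    push_cast
    rfl
  exact ((Groth.Agent.Lib.Helper5.TfaeCMReg.tfae f x (hY (f x)) (hX x)).out 4 1).mp hdim

end Groth.Agent.Lib.Helper5.MiracleSch
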