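import Mathlib
import Groth.Agent.Lib.Helper5FibCodepthConstr
import Groth.Agent.Lib.Helper3FlatModel
import Groth.Agent.S0386

/-!
# Openness of the relative Cohen–Macaulay locus (EGA IV 12.1.6) (helper5)

* `cm_of_isDomain_of_dim_le_one`: Noetherian local domains of dimension `≤ 1` are Cohen–Macaulay.
* `cm_stalk_of_specializes`: the Cohen–Macaulay property of the local rings of a locally
  Noetherian scheme is stable under generization.
* `cmfib_generization`: for a flat morphism of finite type of Noetherian affine schemes, the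
  Cohen–Macaulay property of the fibre local rings is stable under generization (by base change to
  one-dimensional local domains).
* `isOpen_lcd_zero_of_flat`: for `f` flat and locally of finite presentation, the set of points at
  which the fibre is Cohen–Macaulay is open.
* `isOpen_isCMAt`: for `f` locally of finite presentation, `{x | MoreMor.IsCMAt f x}` is open.
-/

set_option autoImplicit false
set_option linter.style.haveILetI false
universe u
open CategoryTheory CategoryTheory.Limits AlgebraicGeometry Topology TensorProduct TopologicalSpace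
  IsLocalRing

namespace Groth.Agent.Lib.Helper5.RelCMOpen
open Groth.Agent.Lib.Helper5.CodepthFib Groth.Agent.Lib.Helper5.LocusGeneric
  Groth.Agent.Lib.Helper5.FibCodepthConstr
  Groth.Agent.Lib.Helper5.FiberMor Groth.Agent.Lib.Helper5.FiberRing Groth.Agent.Lib.Helper5.FiberBC
  Groth.Agent.Lib.Helper5.CodepthOpen
  Groth.Agent.Lib.Helper5.CMLocusOpen Groth.Agent.Lib.Helper5.GrpCM
  Groth.Agent.Lib.Helper5.GenDepth Groth.Agent.Lib.Helper28 LocCoh

section Ring

theorem cm_of_isDomain_of_dim_le_one (R : Type u) [CommRing R] [IsDomain R] [IsLocalRing R]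
    [IsNoetherianRing R] (h : ringKrullDim R ≤ 1) : IsCohenMacaulayLocalRing R := by
  rw [isCohenMacaulayLocalRing_iff]
  have hle := FiberRing.depth_le_height R
  have hh : (maximalIdeal R).height ≤ 1 := by
    rw [← IsLocalRing.maximalIdeal_height_eq_ringKrullDim] at h
    exact_mod_cast h
  by_cases hd : LocCoh.depth R R = 0
  · rw [hd]
    have hm := (Groth.Agent.Lib.Helper28.depth_eq_zero_iff (R := R) (M := R)).mp hd
    obtain ⟨-, x, hx⟩ := isAssociatedPrime_iff.mp hm
    have hx0 : x ≠ 0 := by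
      rintro rfl
      have : (1 : R) ∈ maximalIdeal R := by
        rw [hx, Submodule.mem_colon_singleton]
        simp
      exact (maximalIdeal.isMaximal R).ne_top ((Ideal.eq_top_iff_one _).mpr this)
    have hbot : maximalIdeal R = ⊥ := by
      rw [eq_bot_iff]
      intro r hr
      rw [hx, Submodule.mem_colon_singleton, Submodule.mem_bot, smul_eq_mul] at hr
      rcases mul_eq_zero.mp hr with h0 | h0
      · exact h0 ▸ Submodule.zero_mem _
      · exact absurd h0 hx0
    rw [hbot]
    exact Ideal.height_bot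
  · have h1 : 1 ≤ LocCoh.depth R R := Order.one_le_iff_ne_zero.mpr hd
    exact le_antisymm (hh.trans h1) hle

theorem isCohenMacaulayRing_of_isDomain_of_dim_le_one (D : Type u) [CommRing D] [IsDomain D]
    [IsNoetherianRing D] (h : ringKrullDim D ≤ 1) : IsCohenMacaulayRing D := by
  refine { isCohenMacaulayLocalRing_localization := fun p hp => ?_ }
  haveI : IsDomain (Localization.AtPrime p) :=
    IsLocalization.isDomain_localization
      (le_nonZeroDivisors_of_noZeroDivisors (fun h0 => h0 (zero_mem p)))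
  haveI : IsNoetherianRing (Localization.AtPrime p) :=
    IsLocalization.isNoetherianRing p.primeCompl _ inferInstance
  apply cm_of_isDomain_of_dim_le_one
  rw [IsLocalization.AtPrime.ringKrullDim_eq_height p (Localization.AtPrime p)]
  exact (Ideal.height_le_ringKrullDim_of_ne_top hp.ne_top).trans h

theorem exists_prime_height_le_one {C : Type u} [CommRing C] [IsNoetherianRing C]
    {Q' Q : Ideal C} [hQ' : Q'.IsPrime] [hQ : Q.IsPrime] (h : Q' < Q) :
    ∃ p : Ideal (C ⧸ Q'), p.IsPrime ∧ p.height ≤ 1 ∧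
      Q' < p.comap (Ideal.Quotient.mk Q') ∧ p.comap (Ideal.Quotient.mk Q') ≤ Q := by
  obtain ⟨b, hbQ, hbQ'⟩ := SetLike.exists_of_lt h
  have hker : RingHom.ker (Ideal.Quotient.mk Q') ≤ Q := by
    rw [Ideal.mk_ker]
    exact h.le
  haveI : (Q.map (Ideal.Quotient.mk Q')).IsPrime :=
    Ideal.map_isPrime_of_surjective Ideal.Quotient.mk_surjective hker
  have hI : Ideal.span {Ideal.Quotient.mk Q' b} ≤ Q.map (Ideal.Quotient.mk Q') := by
    rw [Ideal.span_singleton_le_iff_mem]
    exact Ideal.mem_map_of_mem _ hbQ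
  obtain ⟨p, hp, hpQ⟩ := Ideal.exists_minimalPrimes_le hI
  haveI := hp.1.1
  refine ⟨p, hp.1.1, Ideal.height_le_one_of_isPrincipal_of_mem_minimalPrimes _ p hp, ?_, ?_⟩
  · refine lt_of_le_of_ne ?_ ?_
    · intro x hx
      rw [Ideal.mem_comap, Ideal.Quotient.eq_zero_iff_mem.mpr hx]
      exact zero_mem _
    · intro heq
      apply hbQ'
      rw [heq, Ideal.mem_comap]
      exact hp.1.2 (Ideal.mem_span_singleton_self _)
  · intro x hx
    have hx' : Ideal.Quotient.mk Q' x ∈ Q.map (Ideal.Quotient.mk Q') := hpQ hx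
    rw [Ideal.mem_map_iff_of_surjective _ Ideal.Quotient.mk_surjective] at hx'
    obtain ⟨y, hy, hxy⟩ := hx'
    have hsub : x - y ∈ Q' := by
      rw [← Ideal.Quotient.eq_zero_iff_mem, map_sub, hxy, sub_self]
    have : x = (x - y) + y := by ring
    rw [this]
    exact Q.add_mem (h.le hsub) hy

end Ring

section Scheme

theorem cm_stalk_of_specializes {X : Scheme.{u}} [IsLocallyNoetherian X] {z z' : X} (h : z' ⤳ z)
    (hz : IsCohenMacaulayLocalRing (X.presheaf.stalk z)) :
    IsCohenMacaulayLocalRing (X.presheaf.stalk z') := by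
  obtain ⟨_, ⟨U, hU : IsAffineOpen U, rfl⟩, hzU, -⟩ :=
    X.isBasis_affineOpens.exists_subset_of_mem_open (Set.mem_univ z) isOpen_univ
  have hz'U : z' ∈ U := h.mem_open U.2 hzU
  haveI : IsNoetherianRing Γ(X, U) := IsLocallyNoetherian.component_noetherian ⟨U, hU⟩
  obtain ⟨p, rfl⟩ : ∃ p, hU.fromSpec p = z := ⟨_, hU.fromSpec_primeIdealOf ⟨z, hzU⟩⟩
  obtain ⟨p', rfl⟩ : ∃ p', hU.fromSpec p' = z' := ⟨_, hU.fromSpec_primeIdealOf ⟨z', hz'U⟩⟩
  have hsp : p' ⤳ p := hU.fromSpec.isOpenEmbedding.isInducing.specializes_iff.mp h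
  have hle : p'.asIdeal ≤ p.asIdeal := (PrimeSpectrum.le_iff_specializes p' p).mpr hsp
  rw [cm_stalk_fromSpec_iff hU] at hz ⊢
  rw [cm_iff_codepth_zero] at hz ⊢
  exact codepth_generization Γ(X, U) 0 hle hz

/-- base change invariance of the Cohen–Macaulay property of fibre local rings, with explicit
image point. -/
theorem cm_fiber_bc_iff {X Y X' Y' : Scheme.{u}} {f : X ⟶ Y} {g : Y' ⟶ Y} {f' : X' ⟶ Y'}
    {g' : X' ⟶ X} [LocallyOfFiniteType f] (hsq : IsPullback g' f' f g) (x' : X') (x : X)
    (hx : g' x' = x) :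
    IsCohenMacaulayLocalRing ((f'.fiber (f' x')).presheaf.stalk (f'.asFiber x')) ↔
      IsCohenMacaulayLocalRing ((f.fiber (f x)).presheaf.stalk (f.asFiber x)) := by
  subst hx
  haveI : LocallyOfFiniteType (f.fiberToSpecResidueField (f (g' x'))) := by
    dsimp only [Scheme.Hom.fiberToSpecResidueField]
    exact MorphismProperty.pullback_snd (P := @LocallyOfFiniteType) f _ inferInstance
  haveI : IsLocallyNoetherian (f.fiber (f (g' x'))) :=
    LocallyOfFiniteType.isLocallyNoetherian (f.fiberToSpecResidueField (f (g' x')))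
  exact fiber_stalk_baseChange_iff flatLocalIff_cm isoInv_cm fieldFibP_cm hsq x'
    (Or.inl inferInstance)

/-- over a Cohen–Macaulay base ring, a flat morphism locally of finite type has Cohen–Macaulay
local ring at `z` iff the fibre through `z` is Cohen–Macaulay at `z`. -/
theorem cm_stalk_iff_cm_fiber_of_cmRing {D : Type u} [CommRing D] [hCM : IsCohenMacaulayRing D]
    {X : Scheme.{u}} (f : X ⟶ Spec (CommRingCat.of D)) [LocallyOfFiniteType f] [Flat f] (z : X) :
    IsCohenMacaulayLocalRing (X.presheaf.stalk z) ↔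
      IsCohenMacaulayLocalRing ((f.fiber (f z)).presheaf.stalk (f.asFiber z)) := by
  haveI : IsNoetherianRing D := hCM.toIsNoetherian
  haveI : IsLocallyNoetherian X := LocallyOfFiniteType.isLocallyNoetherian f
  have hY : IsCohenMacaulayLocalRing ((Spec (CommRingCat.of D)).presheaf.stalk (f z)) :=
    isoInv_cm _ _ (Spec.stalkIso (CommRingCat.of D) _).commRingCatIsoToRingEquiv.symm
      (hCM.isCohenMacaulayLocalRing_localization _)
  have key := flat_iff f z flatLocalIff_cm isoInv_cm (Flat.stalkMap f z)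
  exact ⟨fun h => (key.mp h).2, fun h => key.mpr ⟨hY, h⟩⟩

end Scheme

section Affine

variable {A C : Type u} [CommRing A] [CommRing C] [Algebra A C] [IsNoetherianRing A]
  [IsNoetherianRing C] [Module.Flat A C] [Algebra.FiniteType A C]

/-- the fibre through `x` of `Spec C ⟶ Spec A` is Cohen–Macaulay at `x`. -/
def CMfib (A C : Type u) [CommRing A] [CommRing C] [Algebra A C]
    (x : Spec (CommRingCat.of C)) : Prop :=
  IsCohenMacaulayLocalRing
    (((Spec.map (CommRingCat.ofHom (algebraMap A C))).fiber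
      ((Spec.map (CommRingCat.ofHom (algebraMap A C))) x)).presheaf.stalk
      ((Spec.map (CommRingCat.ofHom (algebraMap A C))).asFiber x))

theorem cmfib_step (Q' : Ideal C) [hQ' : Q'.IsPrime] (p : Ideal (C ⧸ Q')) [hp : p.IsPrime]
    (hht : p.height ≤ 1)
    (h₁ : CMfib A C ⟨p.comap (Ideal.Quotient.mk Q'), inferInstance⟩) :
    CMfib A C ⟨Q', hQ'⟩ := by
  haveI : IsDomain (C ⧸ Q') := Ideal.Quotient.isDomain Q'
  haveI : IsDomain (Localization.AtPrime p) :=
    IsLocalization.isDomain_localization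
      (le_nonZeroDivisors_of_noZeroDivisors (fun h0 => h0 (zero_mem p)))
  haveI : IsNoetherianRing (Localization.AtPrime p) :=
    IsLocalization.isNoetherianRing p.primeCompl _ inferInstance
  have hdim : ringKrullDim (Localization.AtPrime p) ≤ 1 := by
    rw [IsLocalization.AtPrime.ringKrullDim_eq_height p (Localization.AtPrime p)]
    exact_mod_cast hht
  haveI hCM : IsCohenMacaulayRing (Localization.AtPrime p) :=
    isCohenMacaulayRing_of_isDomain_of_dim_le_one _ hdim
  haveI hF1 : LocallyOfFiniteType (Spec.map (CommRingCat.ofHom (algebraMap A C))) := by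
    rw [HasRingHomProperty.Spec_iff (P := @LocallyOfFiniteType), CommRingCat.hom_ofHom,
      RingHom.finiteType_algebraMap]
    infer_instance
  haveI hF2 : Flat (Spec.map (CommRingCat.ofHom (algebraMap A C))) :=
    Flat.SpecMap_iff.mpr (RingHom.flat_algebraMap_iff.mpr inferInstance)
  -- the curve through the two points
  let ψ : C →+* Localization.AtPrime p :=
    (algebraMap (C ⧸ Q') (Localization.AtPrime p)).comp (Ideal.Quotient.mk Q')
  let t : Spec (CommRingCat.of (Localization.AtPrime p)) ⟶ Spec (CommRingCat.of C) :=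
    Spec.map (CommRingCat.ofHom ψ)
  have hsq := IsPullback.of_hasPullback (Spec.map (CommRingCat.ofHom (algebraMap A C)))
    (t ≫ Spec.map (CommRingCat.ofHom (algebraMap A C)))
  let σ : Spec (CommRingCat.of (Localization.AtPrime p)) ⟶
      pullback (Spec.map (CommRingCat.ofHom (algebraMap A C)))
        (t ≫ Spec.map (CommRingCat.ofHom (algebraMap A C))) :=
    pullback.lift t (𝟙 _) (by simp)
  have hσ1 : σ ≫ pullback.fst _ _ = t := pullback.lift_fst _ _ _
  -- the two points
  let c : Spec (CommRingCat.of (Localization.AtPrime p)) :=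
    IsLocalRing.closedPoint (Localization.AtPrime p)
  let η : Spec (CommRingCat.of (Localization.AtPrime p)) := ⟨⊥, Ideal.isPrime_bot⟩
  have hηc : η ⤳ c := (PrimeSpectrum.le_iff_specializes η c).mp bot_le
  have hz : σ η ⤳ σ c := hηc.map σ.continuous
  have hc : t c = ⟨p.comap (Ideal.Quotient.mk Q'), inferInstance⟩ := by
    refine PrimeSpectrum.ext ?_
    show Ideal.comap ψ (maximalIdeal (Localization.AtPrime p)) = _
    rw [← Ideal.comap_comap]
    exact congrArg (Ideal.comap (Ideal.Quotient.mk Q'))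
      (IsLocalization.AtPrime.under_maximalIdeal (Localization.AtPrime p) p)
  have hη : t η = ⟨Q', hQ'⟩ := by
    refine PrimeSpectrum.ext ?_
    show Ideal.comap ψ ⊥ = _
    rw [← Ideal.comap_comap, Ideal.comap_bot_of_injective _
      (IsLocalization.injective (M := p.primeCompl) (Localization.AtPrime p)
        (le_nonZeroDivisors_of_noZeroDivisors (fun h0 => h0 (zero_mem p)))),
      ← RingHom.ker_eq_comap_bot, Ideal.mk_ker]
  have h1c : pullback.fst (Spec.map (CommRingCat.ofHom (algebraMap A C)))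
      (t ≫ Spec.map (CommRingCat.ofHom (algebraMap A C))) (σ c) =
      ⟨p.comap (Ideal.Quotient.mk Q'), inferInstance⟩ := by
    rw [← Scheme.Hom.comp_apply, hσ1]
    exact hc
  have h1η : pullback.fst (Spec.map (CommRingCat.ofHom (algebraMap A C)))
      (t ≫ Spec.map (CommRingCat.ofHom (algebraMap A C))) (σ η) = ⟨Q', hQ'⟩ := by
    rw [← Scheme.Hom.comp_apply, hσ1]
    exact hη
  haveI : LocallyOfFiniteType (pullback.snd (Spec.map (CommRingCat.ofHom (algebraMap A C)))
      (t ≫ Spec.map (CommRingCat.ofHom (algebraMap A C)))) :=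
    MorphismProperty.pullback_snd _ _ inferInstance
  haveI : IsLocallyNoetherian (pullback (Spec.map (CommRingCat.ofHom (algebraMap A C)))
      (t ≫ Spec.map (CommRingCat.ofHom (algebraMap A C)))) :=
    LocallyOfFiniteType.isLocallyNoetherian (pullback.snd _ _)
  have hA := (cm_fiber_bc_iff hsq (σ c) _ h1c).mpr h₁
  have hB := (cm_stalk_iff_cm_fiber_of_cmRing (pullback.snd _ _) (σ c)).mpr hA
  have hC := cm_stalk_of_specializes hz hB
  have hD := (cm_stalk_iff_cm_fiber_of_cmRing (pullback.snd _ _) (σ η)).mp hC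
  exact (cm_fiber_bc_iff hsq (σ η) _ h1η).mp hD

theorem cmfib_generization (x : Spec (CommRingCat.of C)) (hx : CMfib A C x) :
    ∀ (I : Ideal C) (x' : Spec (CommRingCat.of C)), x'.asIdeal = I → I ≤ x.asIdeal →
      CMfib A C x' := by
  intro I
  induction I using WellFoundedGT.induction with
  | ind I IH =>
    intro x' hI hle
    subst hI
    by_cases heq : x'.asIdeal = x.asIdeal
    · have : x' = x := PrimeSpectrum.ext heq
      rw [this]
      exact hx
    · have hlt : x'.asIdeal < x.asIdeal := lt_of_le_of_ne hle heq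
      haveI := x'.2
      haveI := x.2
      obtain ⟨p, hp, hht, hlt', hle'⟩ := exists_prime_height_le_one hlt
      haveI := hp
      have h₁ : CMfib A C ⟨p.comap (Ideal.Quotient.mk x'.asIdeal), inferInstance⟩ :=
        IH _ hlt' ⟨p.comap (Ideal.Quotient.mk x'.asIdeal), inferInstance⟩ rfl hle'
      exact cmfib_step x'.asIdeal p hht h₁

omit [IsNoetherianRing A] [IsNoetherianRing C] [Algebra.FiniteType A C] in
theorem lcd_zero_eq_cmfib :
    Lcd 0 (Spec.map (CommRingCat.ofHom (algebraMap A C))) = {x | CMfib A C x} := by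
  ext x
  exact codepthLE_zero_iff _

omit [IsNoetherianRing A] [IsNoetherianRing C] [Algebra.FiniteType A C] in
theorem isOpen_cmfib (hA : Algebra.FiniteType ℤ A) [Algebra.FinitePresentation A C] :
    IsOpen (Lcd 0 (Spec.map (CommRingCat.ofHom (algebraMap A C)))) := by
  haveI : IsNoetherianRing A := Algebra.FiniteType.isNoetherianRing ℤ A
  haveI : IsNoetherianRing C := Algebra.FiniteType.isNoetherianRing A C
  have hcon : IsConstructible (Lcd 0 (Spec.map (CommRingCat.ofHom (algebraMap A C)))) := by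
    refine isConstructible_of_generic (fun {X Y} f => Lcd 0 f)
      (fun f g g' f' hf hsq => lcd_baseChange 0 f g g' f' hf hsq)
      (fun A₁ B₁ _ _ _ _ _ hA₁ => lcd_generic 0 A₁ B₁ hA₁)
      (CommRingCat.ofHom (algebraMap A C)) hA ?_
    rw [CommRingCat.hom_ofHom, RingHom.finitePresentation_algebraMap]
    infer_instance
  refine PrimeSpectrum.isOpen_of_stableUnderGeneralization_of_isConstructible ?_ hcon
  intro x x' hsp hx
  rw [lcd_zero_eq_cmfib] at hx ⊢
  exact cmfib_generization x hx x'.asIdeal x' rfl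
    ((PrimeSpectrum.le_iff_specializes x' x).mpr hsp)

end Affine

section General

open Groth.Agent.Lib.Helper3.FlatOpen

/-- A flat morphism of affine schemes, locally of finite presentation, is a base change of a flat
finitely presented `Spec B₀ ⟶ Spec A₀` with `A₀` of finite type over `ℤ`. -/
theorem exists_flat_int_model {X Y : Scheme.{u}} [IsAffine X] [IsAffine Y] (f : X ⟶ Y)
    [LocallyOfFinitePresentation f] [Flat f] :
    ∃ (A₀ B₀ : Type u) (_ : CommRing A₀) (_ : CommRing B₀) (_ : Algebra A₀ B₀)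
      (xZ : X ⟶ Spec (CommRingCat.of B₀)) (yZ : Y ⟶ Spec (CommRingCat.of A₀)),
      Algebra.FiniteType ℤ A₀ ∧ Algebra.FinitePresentation A₀ B₀ ∧ Module.Flat A₀ B₀ ∧
        IsPullback xZ f (Spec.map (CommRingCat.ofHom (algebraMap A₀ B₀))) yZ := by
  have hfp : f.appTop.hom.FinitePresentation := f.finitePresentation_appTop
  have hfl : f.appTop.hom.Flat := HasRingHomProperty.appTop (P := @Flat) _ inferInstance
  algebraize [f.appTop.hom]
  obtain ⟨A₀, B₀, _, _, _, _, hfg, hB₀, hflat, ⟨e⟩⟩ := exists_flat_model Γ(Y, ⊤) Γ(X, ⊤)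
  let β : CommRingCat.of B₀ ⟶ Γ(X, ⊤) :=
    CommRingCat.ofHom (e.toRingEquiv.toRingHom.comp
      (Algebra.TensorProduct.includeRight (R := A₀) (A := Γ(Y, ⊤)) (B := B₀)).toRingHom)
  have hpo : IsPushout (CommRingCat.ofHom (algebraMap A₀ Γ(Y, ⊤)))
      (CommRingCat.ofHom (algebraMap A₀ B₀)) f.appTop β := by
    refine (CommRingCat.isPushout_tensorProduct A₀ Γ(Y, ⊤) B₀).of_iso (Iso.refl _) (Iso.refl _)
      (Iso.refl _) e.toRingEquiv.toCommRingCatIso (by simp) (by simp) ?_ ?_
    · ext y
      show e (y ⊗ₜ[A₀] (1 : B₀)) = f.appTop.hom y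
      have := e.commutes y
      rwa [Algebra.TensorProduct.algebraMap_apply] at this
    · ext y
      rfl
  have hpb := (isPullback_SpecMap_of_isPushout _ _ _ _ hpo).flip
  have hsq : IsPullback X.toSpecΓ f (Spec.map f.appTop) Y.toSpecΓ :=
    IsPullback.of_horiz_isIso ⟨(Scheme.toSpecΓ_naturality f).symm⟩
  exact ⟨A₀, B₀, inferInstance, inferInstance, inferInstance,
    X.toSpecΓ ≫ Spec.map β, Y.toSpecΓ ≫ Spec.map (CommRingCat.ofHom (algebraMap A₀ Γ(Y, ⊤))),
    hfg, hB₀, hflat, hsq.paste_horiz hpb⟩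

/-- Openness of a locus compatible with base change and local on the source, for flat morphisms
locally of finite presentation, from the case of a base of finite type over `ℤ`. -/
theorem isOpen_locus_of_flat
    (L : ∀ {X Y : Scheme.{u}} (_ : X ⟶ Y), Set X)
    (hbc : ∀ {X Y X' Y' : Scheme.{u}} (f : X ⟶ Y) (g : Y' ⟶ Y) (g' : X' ⟶ X) (f' : X' ⟶ Y'),
      LocallyOfFinitePresentation f → IsPullback g' f' f g → L f' = g' ⁻¹' L f)
    (hoi : ∀ {X Y U : Scheme.{u}} (f : X ⟶ Y) (j : U ⟶ X), IsOpenImmersion j →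
      L (j ≫ f) = j ⁻¹' L f)
    (hN : ∀ (A B : Type u) [CommRing A] [CommRing B] [Algebra A B]
      [Algebra.FinitePresentation A B] [Module.Flat A B], Algebra.FiniteType ℤ A →
      IsOpen (L (Spec.map (CommRingCat.ofHom (algebraMap A B)))))
    {X Y : Scheme.{u}} (f : X ⟶ Y) [LocallyOfFinitePresentation f] [Flat f] :
    IsOpen (L f) := by
  rw [isOpen_iff_forall_mem_open]
  intro x hx
  obtain ⟨_, ⟨V : Y.Opens, hV, rfl⟩, hxV, -⟩ := Y.isBasis_affineOpens.exists_subset_of_mem_open
      (Set.mem_univ (f x)) isOpen_univ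
  obtain ⟨_, ⟨U : X.Opens, hU, rfl⟩, hxU, hUV⟩ := X.isBasis_affineOpens.exists_subset_of_mem_open
      hxV (f ⁻¹ᵁ V).2
  haveI : IsAffine (U : Scheme.{u}) := hU
  haveI : IsAffine (V : Scheme.{u}) := hV
  obtain ⟨A₀, B₀, _, _, _, xZ, yZ, hA₀, hfp₀, hfl₀, hpb⟩ := exists_flat_int_model (f.resLE V U hUV)
  have h1 : L (f.resLE V U hUV) = xZ ⁻¹' L (Spec.map (CommRingCat.ofHom (algebraMap A₀ B₀))) := by
    refine hbc _ _ _ _ ?_ hpb
    rw [LocallyOfFinitePresentation.SpecMap_iff, CommRingCat.hom_ofHom,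
      RingHom.finitePresentation_algebraMap]
    exact hfp₀
  have h2 : L (f.resLE V U hUV ≫ V.ι) = L (f.resLE V U hUV) := by
    have hp : IsPullback (𝟙 (U : Scheme.{u})) (f.resLE V U hUV) (f.resLE V U hUV ≫ V.ι) V.ι := by
      have h0 : IsPullback (𝟙 (U : Scheme.{u})) (f.resLE V U hUV) (f.resLE V U hUV)
          (𝟙 (V : Scheme.{u})) := IsPullback.of_horiz_isIso ⟨by simp⟩
      have := h0.paste_vert (IsKernelPair.id_of_mono V.ι)
      simpa using this
    rw [hbc _ _ _ _ inferInstance hp]
    rfl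
  have h3 : L (U.ι ≫ f) = U.ι ⁻¹' L f := hoi f U.ι inferInstance
  rw [Scheme.Hom.resLE_comp_ι] at h2
  have hopen : IsOpen (U.ι ⁻¹' L f) := by
    rw [← h3, h2, h1]
    exact (hN A₀ B₀ hA₀).preimage xZ.continuous
  refine ⟨U.ι '' (U.ι ⁻¹' L f), Set.image_preimage_subset _ _,
    U.ι.isOpenEmbedding.isOpenMap _ hopen, ⟨⟨x, hxU⟩, hx, rfl⟩⟩

/-- For `f` flat and locally of finite presentation, the set of points at which the fibre is
Cohen–Macaulay is open. -/
theorem isOpen_lcd_zero_of_flat {X Y : Scheme.{u}} (f : X ⟶ Y) [LocallyOfFinitePresentation f]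
    [Flat f] : IsOpen (Lcd 0 f) :=
  isOpen_locus_of_flat (fun {X Y} f => Lcd 0 f)
    (fun f g g' f' hf hsq => lcd_baseChange 0 f g g' f' hf hsq)
    (fun f j hj => lcd_openImmersion 0 f j hj)
    (fun A B _ _ _ _ _ hA => isOpen_cmfib hA) f

/-- **EGA IV 12.1.6** (Cohen–Macaulay case): for `f` locally of finite presentation, the set of
points at which `f` is Cohen–Macaulay (flat with Cohen–Macaulay fibre) is open. -/
theorem isOpen_isCMAt {X Y : Scheme.{u}} (f : X ⟶ Y) [LocallyOfFinitePresentation f] :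
    IsOpen {x : X | MoreMor.IsCMAt f x} := by
  have hopen := Groth.Agent.S0386.result f
  obtain ⟨U, hU⟩ : ∃ U : X.Opens, (U : Set X) = {x : X | (f.stalkMap x).hom.Flat} :=
    ⟨⟨_, hopen⟩, rfl⟩
  haveI : Flat (U.ι ≫ f) := by
    rw [Flat.iff_flat_stalkMap]
    intro u
    rw [Scheme.Hom.stalkMap_comp]
    have h1 : (f.stalkMap (U.ι u)).hom.Flat := by
      have hu : (u.1 : X) ∈ (U : Set X) := u.2
      rw [hU] at hu
      exact hu
    have h2 : (U.ι.stalkMap u).hom.Flat := Flat.stalkMap U.ι u
    exact RingHom.Flat.comp h1 h2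
  have hE := isOpen_lcd_zero_of_flat (U.ι ≫ f)
  have heq : {x : X | MoreMor.IsCMAt f x} = U.ι '' (Lcd 0 (U.ι ≫ f)) := by
    ext x
    constructor
    · rintro ⟨hfl, hcm⟩
      have hxU : x ∈ (U : Set X) := by rw [hU]; exact hfl
      refine ⟨⟨x, hxU⟩, ?_, rfl⟩
      rw [lcd_openImmersion 0 f U.ι inferInstance]
      exact (codepthLE_zero_iff _).mpr hcm
    · rintro ⟨u, hu, rfl⟩
      rw [lcd_openImmersion 0 f U.ι inferInstance] at hu
      refine ⟨?_, (codepthLE_zero_iff _).mp hu⟩
      have hmem : (u.1 : X) ∈ (U : Set X) := u.2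
      rw [hU] at hmem
      exact hmem
  rw [heq]
  exact U.ι.isOpenEmbedding.isOpenMap _ hE

end General

end Groth.Agent.Lib.Helper5.RelCMOpen
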