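import Mathlib
import Groth.Agent.Lib.Helper4FibDimF

/-!
# Local quasi-finite maps to affine space (helper6)

For `f : X ⟶ S` locally of finite type with `dim_x f⁻¹(f x) ≤ d`, a basic open neighbourhood of `x`
admits a locally quasi-finite `S`-morphism to `𝔸^d`.
-/

set_option autoImplicit false
set_option linter.style.haveILetI false
universe u

open TensorProduct PrimeSpectrum TopologicalSpace Topology AlgebraicGeometry CategoryTheory MvPolynomial

namespace Groth.Agent.Lib.Helper6.QFAff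

open Groth.Agent.Lib.Helper4.FibDim

/-- the morphism `Spec B ⟶ 𝔸(σ; Spec R)` associated with a ring map `R[σ] → B`. -/
noncomputable def toAff {σ : Type u} {R B : CommRingCat.{u}} (ψ : MvPolynomial σ R →+* B) :
    Spec B ⟶ 𝔸(σ; Spec R) :=
  Spec.map (CommRingCat.ofHom ψ) ≫ (AffineSpace.SpecIso σ R).inv

lemma toAff_over {σ : Type u} {R B : CommRingCat.{u}} (ψ : MvPolynomial σ R →+* B) :
    toAff ψ ≫ (𝔸(σ; Spec R) ↘ Spec R) =
      Spec.map (CommRingCat.ofHom (ψ.comp (C : R →+* MvPolynomial σ R))) := by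
  unfold toAff
  rw [Category.assoc, AffineSpace.SpecIso_inv_over, ← Spec.map_comp]
  rfl

lemma locallyQuasiFinite_toAff {σ : Type u} {R B : CommRingCat.{u}} (ψ : MvPolynomial σ R →+* B)
    (hψ : ψ.QuasiFinite) : LocallyQuasiFinite (toAff ψ) := by
  haveI : LocallyQuasiFinite (Spec.map (CommRingCat.ofHom ψ)) :=
    (HasRingHomProperty.Spec_iff (P := @LocallyQuasiFinite)).mpr hψ
  unfold toAff
  infer_instance

theorem exists_basicOpen_quasiFinite {X S : Scheme.{u}} (f : X ⟶ S) [LocallyOfFiniteType f] (x : X)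
    {V : S.Opens} (hV : IsAffineOpen V) {W : X.Opens} (hW : IsAffineOpen W) (hxW : x ∈ W)
    (hWV : W ≤ f ⁻¹ᵁ V) (d : ℕ) (hd : FlatMor.fibreDimAt f x ≤ (d : WithBot ℕ∞)) :
    ∃ (g : Γ(X, W)), x ∈ X.basicOpen g ∧
      ∃ (π : (X.basicOpen g : Scheme.{u}) ⟶ 𝔸(ULift.{u} (Fin d); Spec Γ(S, V))),
      π ≫ (𝔸(ULift.{u} (Fin d); Spec Γ(S, V)) ↘ Spec Γ(S, V)) ≫ hV.fromSpec =
        (X.basicOpen g).ι ≫ f ∧ LocallyQuasiFinite π := by
  have hft : (f.appLE V W hWV).hom.FiniteType := LocallyOfFiniteType.finiteType_appLE f hV hW hWV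
  algebraize [(f.appLE V W hWV).hom]
  set q := hW.primeIdealOf ⟨x, hxW⟩ with hq
  have e : hW.fromSpec q = x := hW.fromSpec_primeIdealOf ⟨x, hxW⟩
  have h3 := fibLD_fromSpec f hW hV hWV q
  rw [e] at h3
  rw [fibreDimAt_eq_fibLD, h3] at hd
  have hd' : fibLD (PrimeSpectrum.comap (algebraMap Γ(S, V) Γ(X, W))) q ≤ (d : WithBot ℕ∞) := hd
  rw [fibLD_comap_eq] at hd'
  set p := PrimeSpectrum.comap (algebraMap Γ(S, V) Γ(X, W)) q with hp
  set Q := PrimeSpectrum.preimageHomeomorphFiber Γ(S, V) Γ(X, W) p ⟨q, rfl⟩ with hQ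
  obtain ⟨g, hg, φ, -, hφ⟩ := exists_quasiFinite_away p.asIdeal Q d hd'
  have hQq : PrimeSpectrum.comap Algebra.TensorProduct.includeRight.toRingHom Q = q :=
    comap_includeRight_preimageHomeomorphFiber p.asIdeal ⟨q, rfl⟩
  have hgq : g ∉ q.asIdeal := by rw [← hQq]; exact hg
  have hxg : x ∈ X.basicOpen g := by
    have h1 : q ∈ hW.fromSpec ⁻¹ᵁ X.basicOpen g := by
      rw [hW.fromSpec_preimage_basicOpen]; exact hgq
    have h2 : hW.fromSpec q ∈ X.basicOpen g := h1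
    rwa [e] at h2
  refine ⟨g, hxg, ?_⟩
  have hU : IsAffineOpen (X.basicOpen g) := hW.basicOpen g
  haveI := hW.isLocalization_basicOpen g
  let eB : Localization.Away g ≃ₐ[Γ(X, W)] Γ(X, X.basicOpen g) :=
    IsLocalization.algEquiv (Submonoid.powers g) _ _
  let ρ : MvPolynomial (ULift.{u} (Fin d)) Γ(S, V) ≃ₐ[Γ(S, V)] MvPolynomial (Fin d) Γ(S, V) :=
    MvPolynomial.renameEquiv Γ(S, V) Equiv.ulift
  let ψ : MvPolynomial (ULift.{u} (Fin d)) Γ(S, V) →+* Γ(X, X.basicOpen g) :=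
    (eB.toRingEquiv.toRingHom.comp φ.toRingHom).comp ρ.toRingEquiv.toRingHom
  have hUV : X.basicOpen g ≤ f ⁻¹ᵁ V := le_trans (X.basicOpen_le g) hWV
  have hψC : ψ.comp (C : Γ(S, V) →+* _) = (f.appLE V (X.basicOpen g) hUV).hom := by
    ext r
    show eB (φ (ρ (C r))) = _
    have h1 : ρ (C r) = C r := by
      show MvPolynomial.rename _ (C r) = C r
      exact MvPolynomial.rename_C _ _
    rw [h1]
    have h2 : φ (C r) = algebraMap Γ(X, W) (Localization.Away g) (algebraMap Γ(S, V) Γ(X, W) r) := by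
      rw [← IsScalarTower.algebraMap_apply]
      exact φ.commutes r
    rw [h2, eB.commutes]
    show (X.presheaf.map (homOfLE (X.basicOpen_le g)).op).hom ((f.appLE V W hWV).hom r) = _
    rw [← RingHom.comp_apply, ← CommRingCat.hom_comp, Scheme.Hom.appLE_map]
  have hψqf : ψ.QuasiFinite := by
    refine RingHom.QuasiFinite.comp (RingHom.QuasiFinite.comp ?_ hφ) ?_
    · exact RingHom.QuasiFinite.of_finite (RingHom.Finite.of_surjective _ eB.surjective)
    · exact RingHom.QuasiFinite.of_finite (RingHom.Finite.of_surjective _ ρ.surjective)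
  refine ⟨hU.isoSpec.hom ≫ toAff (R := Γ(S, V)) (B := Γ(X, X.basicOpen g)) ψ, ?_, ?_⟩
  · rw [Category.assoc, ← Category.assoc (toAff _), toAff_over, hψC]
    show hU.isoSpec.hom ≫ Spec.map (f.appLE V (X.basicOpen g) hUV) ≫ hV.fromSpec = _
    rw [hV.SpecMap_appLE_fromSpec f hU hUV, IsAffineOpen.fromSpec, Category.assoc,
      Iso.hom_inv_id_assoc]
  · haveI := locallyQuasiFinite_toAff (R := Γ(S, V)) (B := Γ(X, X.basicOpen g)) ψ hψqf
    infer_instance

lemma isOpenImmersion_affineSpace_map (σ : Type u) {S T : Scheme.{u}} (i : S ⟶ T) [IsOpenImmersion i] :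
    IsOpenImmersion (AffineSpace.map σ i) :=
  MorphismProperty.of_isPullback (P := @IsOpenImmersion) (AffineSpace.isPullback_map (n := σ) i).flip
    inferInstance

/-- Stacks-style local structure: an affine neighbourhood with a quasi-finite map to `𝔸^d_V`. -/
theorem exists_affine_nhd_quasiFinite {X S : Scheme.{u}} (f : X ⟶ S) [LocallyOfFiniteType f] (x : X)
    (V : S.Opens) (hV : IsAffineOpen V) (hxV : f x ∈ V) (d : ℕ)
    (hd : FlatMor.fibreDimAt f x ≤ (d : WithBot ℕ∞)) :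
    ∃ (U : X.Opens), IsAffineOpen U ∧ x ∈ U ∧
      ∃ (g : (U : Scheme.{u}) ⟶ (V : Scheme.{u}))
        (π : (U : Scheme.{u}) ⟶ 𝔸(ULift.{u} (Fin d); (V : Scheme.{u}))),
        g ≫ V.ι = U.ι ≫ f ∧ π ≫ (𝔸(ULift.{u} (Fin d); (V : Scheme.{u})) ↘ (V : Scheme.{u})) = g ∧
          LocallyQuasiFinite π ∧ LocallyOfFiniteType π := by
  obtain ⟨_, ⟨W : X.Opens, hW, rfl⟩, hxW, hWV⟩ :=
    X.isBasis_affineOpens.exists_subset_of_mem_open hxV (f ⁻¹ᵁ V).2
  replace hW : IsAffineOpen W := hW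
  obtain ⟨g, hxg, π, hπ, hqf⟩ := exists_basicOpen_quasiFinite f x hV hW hxW hWV d hd
  haveI := isOpenImmersion_affineSpace_map (ULift.{u} (Fin d)) hV.isoSpec.inv
  set π' : (X.basicOpen g : Scheme.{u}) ⟶ 𝔸(ULift.{u} (Fin d); (V : Scheme.{u})) :=
    π ≫ AffineSpace.map (ULift.{u} (Fin d)) hV.isoSpec.inv with hπ'
  have hover : (π' ≫ (𝔸(ULift.{u} (Fin d); (V : Scheme.{u})) ↘ (V : Scheme.{u}))) ≫ V.ι =
      (X.basicOpen g).ι ≫ f := by
    rw [hπ', Category.assoc, Category.assoc, AffineSpace.map_over_assoc, ← hπ]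
    rfl
  refine ⟨X.basicOpen g, hW.basicOpen g, hxg, π' ≫ (𝔸(ULift.{u} (Fin d); (V : Scheme.{u})) ↘ _),
    π', hover, rfl, ?_, ?_⟩
  · rw [hπ']; infer_instance
  · haveI : LocallyOfFiniteType (π' ≫ ((𝔸(ULift.{u} (Fin d); (V : Scheme.{u})) ↘ (V : Scheme.{u})) ≫
        V.ι)) := by
      rw [← Category.assoc, hover]; infer_instance
    exact locallyOfFiniteType_of_comp π' ((𝔸(ULift.{u} (Fin d); (V : Scheme.{u})) ↘ (V : Scheme.{u})) ≫
        V.ι)

end Groth.Agent.Lib.Helper6.QFAff
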