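import Mathlib
import Groth.Prelude.Def_EGA43
import Groth.Agent.Lib.Helper6OpenDimB
import Groth.Agent.Lib.Helper7UnivOpen
import Groth.Agent.Lib.Helper4DimFormulaAM
import Groth.Agent.Lib.Helper3LocDimBC
import Groth.Agent.Lib.Helper6EquiSubA

/-! # Equidimensionality at a point under flat base change (EGA IV 13.3.8) -/

set_option autoImplicit false
set_option linter.style.haveILetI false
universe u
open CategoryTheory CategoryTheory.Limits AlgebraicGeometry

namespace Groth.Agent.Lib.Helper6.Fbc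
section P1


open EGA43

/-- **Generizations lift inside a fibre of the base**: for a pullback square `X' = X ×_Y Y'`, a
point `ξ'` of `X'` and a generization `y''` of `f' ξ'` in `Y'` with the same image in `Y`, there is
a generization of `ξ'` over `y''`. (The base change of `X_η ⟶ Spec κ(η)` is open.) -/
theorem exists_specializes_of_isPullback_of_eq {X Y X' Y' : Scheme.{u}} {π : X' ⟶ X} {f' : X' ⟶ Y'}
    {f : X ⟶ Y} {g : Y' ⟶ Y} (sq : IsPullback π f' f g) (ξ' : X') (y'' : Y')
    (hsp : y'' ⤳ f'.base ξ') (hg : g.base y'' = g.base (f'.base ξ')) :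
    ∃ ξ'' : X', ξ'' ⤳ ξ' ∧ f'.base ξ'' = y'' := by
  set η : Y := g.base (f'.base ξ') with hη
  -- the fibre `G` of `g` over `η`
  let ιG := g.fiberι η
  have hr : ∀ b : Y', g.base b = η → b ∈ Set.range ιG.base := by
    intro b hb
    rw [g.range_fiberι]; exact hb
  obtain ⟨b₀, hb₀⟩ := hr (f'.base ξ') rfl
  obtain ⟨b₁, hb₁⟩ := hr y'' hg
  have hsp' : b₁ ⤳ b₀ := by
    apply ιG.isEmbedding.isInducing.specializes_iff.mp
    rw [hb₀, hb₁]; exact hsp
  -- the base change `Q ⟶ G` of `f'`
  have sqA := IsPullback.of_hasPullback f' ιG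
  have sqBig : IsPullback (pullback.fst f' ιG ≫ π) (pullback.snd f' ιG) f (ιG ≫ g) :=
    sqA.paste_horiz sq
  have hcond : ιG ≫ g = g.fiberToSpecResidueField η ≫ Y.fromSpecResidueField η :=
    pullback.condition
  rw [hcond] at sqBig
  have sqC : IsPullback (f.fiberι η) (f.fiberToSpecResidueField η) f (Y.fromSpecResidueField η) :=
    IsPullback.of_hasPullback _ _
  let l : pullback f' ιG ⟶ f.fiber η := sqC.lift (pullback.fst f' ιG ≫ π)
    (pullback.snd f' ιG ≫ g.fiberToSpecResidueField η) (by rw [Category.assoc]; exact sqBig.w)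
  have sqL : IsPullback l (pullback.snd f' ιG) (f.fiberToSpecResidueField η)
      (g.fiberToSpecResidueField η) :=
    IsPullback.of_right (by rw [sqC.lift_fst]; exact sqBig) (sqC.lift_snd _ _ _) sqC
  haveI : UniversallyOpen (pullback.snd f' ιG) :=
    MorphismProperty.of_isPullback (P := @UniversallyOpen) sqL inferInstance
  obtain ⟨q, hq1, hq2⟩ := Scheme.Pullback.exists_preimage_pullback (f := f') (g := ιG) ξ' b₀ hb₀.symm
  have hopen : IsOpenAt (pullback.snd f' ιG).base q :=
    Groth.Agent.Lib.Helper7.isOpenAt_of_isOpenMap (pullback.snd f' ιG).isOpenMap q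
  obtain ⟨q'', hq''sp, hq''⟩ := Groth.Agent.Lib.Helper6.OpenDim.exists_specializes_of_isOpenAt
    (pullback.snd f' ιG) q hopen b₁ (by rw [hq2]; exact hsp')
  refine ⟨(pullback.fst f' ιG).base q'', ?_, ?_⟩
  · rw [← hq1]
    exact hq''sp.map (pullback.fst f' ιG).continuous
  · rw [← Scheme.Hom.comp_apply, pullback.condition, Scheme.Hom.comp_apply, hq'', hb₁]


end P1

section P2


open EGA43 Groth.Agent.Lib.Helper4.DimFormula Groth.Agent.Lib.Helper4.VarDim


/-- the data at maximal points carried by equidimensionality at a point. -/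
theorem forall_maximal_of_isEquidimAt {X Y : Scheme.{u}} (f : X ⟶ Y) [LocallyOfFiniteType f]
    (x : X) (h : IsEquidimAt f x) :
    ∃ e : ℕ, FlatMor.fibreDimAt f x = (e : WithBot ℕ∞) ∧
      ∀ ξ : X, (∀ z : X, z ⤳ ξ → z = ξ) → ξ ⤳ x →
        FlatMor.fibreDimAt f ξ = (e : WithBot ℕ∞) ∧ ∀ y' : Y, y' ⤳ f.base ξ → y' = f.base ξ := by
  obtain ⟨e, U, hxU, h1, h2⟩ := h
  refine ⟨e, Groth.Agent.Lib.Helper6.EquiSub.fibreDimAt_eq_of_equidim f e U h2 x hxU, ?_⟩
  intro ξ hξmax hξx
  have hξU : ξ ∈ U := hξx.mem_open U.2 hxU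
  refine ⟨Groth.Agent.Lib.Helper6.EquiSub.fibreDimAt_eq_of_equidim f e U h2 ξ hξU, ?_⟩
  set u : U.toScheme := ⟨ξ, hξU⟩ with hu
  have humax : ∀ z : U.toScheme, z ⤳ u → z = u := by
    intro z hz
    have := hξmax (U.ι z) (hz.map U.ι.continuous)
    exact U.ι.isOpenEmbedding.injective this
  have hZ := mem_irreducibleComponents_of_forall_specializes u humax
  obtain ⟨W, hW, -, hcl⟩ := h1 _ hZ
  have hcl' : closure ({f.base ξ} : Set Y) = W := by
    rw [← hcl, closure_image_closure (U.ι ≫ f).continuous, Set.image_singleton]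
    rfl
  intro y' hy'
  exact eq_of_specializes_generic (f.base ξ) y' (by rw [hcl']; exact hW) hy'

/-- **EGA IV 13.3.8**: equidimensionality at a point is stable under flat base change to a locally
Noetherian scheme. -/
theorem isEquidimAt_of_flat_baseChange {X Y Y' : Scheme.{u}} (f : X ⟶ Y) [LocallyOfFiniteType f]
    (g : Y' ⟶ Y) [Flat g] [IsLocallyNoetherian Y'] (x : X) (h : IsEquidimAt f x)
    (x' : ↥(pullback f g)) (hx' : (pullback.fst f g).base x' = x) :
    IsEquidimAt (pullback.snd f g) x' := by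
  obtain ⟨e, hfd, hA⟩ := forall_maximal_of_isEquidimAt f x h
  have sq := IsPullback.of_hasPullback f g
  haveI : IsLocallyNoetherian (pullback f g) :=
    LocallyOfFiniteType.isLocallyNoetherian (pullback.snd f g)
  apply isEquidimAt_of_forall_maximal (pullback.snd f g) x' e
  · rw [Groth.Agent.Lib.Helper3.LocDimBC.fibreDimAt_eq_of_isPullback f g _ _ sq x', hx']
    exact hfd
  · intro ξ' hξ'max hξ'x'
    have hgen : GeneralizingMap (pullback.fst f g).base := Flat.generalizingMap (pullback.fst f g)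
    have hξmax : ∀ z : X, z ⤳ (pullback.fst f g).base ξ' → z = (pullback.fst f g).base ξ' := by
      intro z hz
      obtain ⟨z', hz', rfl⟩ := hgen hz
      rw [hξ'max z' hz']
    have hξx : (pullback.fst f g).base ξ' ⤳ x := hx' ▸ hξ'x'.map (pullback.fst f g).continuous
    obtain ⟨h3, h4⟩ := hA _ hξmax hξx
    constructor
    · have h5 : FlatMor.fibreDimAt (pullback.snd f g) ξ' = (e : WithBot ℕ∞) := by
        rw [Groth.Agent.Lib.Helper3.LocDimBC.fibreDimAt_eq_of_isPullback f g _ _ sq ξ']
        exact h3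
      rw [fibreDimAt_eq_ptTrdeg_of_maximal (pullback.snd f g) ξ' (fun z _ hz => hξ'max z hz)] at h5
      exact_mod_cast h5
    · intro y'' hy''
      have e1 : g.base ((pullback.snd f g).base ξ') = f.base ((pullback.fst f g).base ξ') := by
        rw [← Scheme.Hom.comp_apply, ← Scheme.Hom.comp_apply, pullback.condition]
      have h6 : g.base y'' = g.base ((pullback.snd f g).base ξ') := by
        have h7 : g.base y'' ⤳ g.base ((pullback.snd f g).base ξ') := hy''.map g.continuous
        rw [e1] at h7 ⊢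
        exact h4 _ h7
      obtain ⟨ξ'', hsp, hf⟩ := exists_specializes_of_isPullback_of_eq sq ξ' y'' hy'' h6
      rw [← hf, hξ'max ξ'' hsp]


end P2

end Groth.Agent.Lib.Helper6.Fbc
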