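import Mathlib
import Groth.Agent.Lib.Helper6EquiSubF
import Groth.Agent.Lib.Helper10CurveFlat
import Groth.Agent.Lib.Helper28Catenary
import Groth.Agent.Lib.Helper5RLR

set_option autoImplicit false
set_option linter.style.haveILetI false

universe u

open AlgebraicGeometry CategoryTheory TopologicalSpace Topology

namespace Groth.Agent.Lib.Helper6.EquiSub

open Groth.Agent.Lib.Helper4.VarDim Groth.Agent.Lib.Helper4.FibDim
  Groth.Agent.Lib.Helper4.DimFormula Groth.Agent.Lib.Helper6.OpenDim

section ClosedPt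

variable {X Y : Scheme.{u}} (f : X ⟶ Y) [LocallyOfFiniteType f]

attribute [local instance] Curv2.resAlgebra

/-- Every point of a fibre specializes (inside the fibre) to a point closed in the fibre. -/
theorem exists_closed_in_fibre_specialization (z : X) :
    ∃ x : X, f.base x = f.base z ∧ z ⤳ x ∧
      ∀ x' : X, f.base x' = f.base z → x ⤳ x' → x' = x := by
  letI : (f.fiber (f.base z)).Over (Spec (CommRingCat.of (Y.residueField (f.base z)))) :=
    ⟨f.fiberToSpecResidueField (f.base z)⟩
  haveI : LocallyOfFiniteType ((f.fiber (f.base z)) ↘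
      Spec (CommRingCat.of (Y.residueField (f.base z)))) :=
    locallyOfFiniteType_fiberToSpecResidueField f _
  set S : Set ℕ := (fun ζ' => trdegNat (Y.residueField (f.base z)) (f.fiber (f.base z)) ζ') ''
    {ζ' | f.asFiber z ⤳ ζ'} with hS
  have hSne : S.Nonempty := ⟨_, ⟨f.asFiber z, specializes_rfl, rfl⟩⟩
  obtain ⟨m, ⟨ζ₀, hζ₀, rfl⟩, hmin⟩ := wellFounded_lt.has_min S hSne
  refine ⟨f.fiberι (f.base z) ζ₀, base_fiberι f _ ζ₀, ?_, ?_⟩
  · have := hζ₀.map (f.fiberι (f.base z)).continuous
    rwa [f.fiberι_asFiber] at this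
  · intro x' hx' hsp
    have hx'r : x' ∈ Set.range (f.fiberι (f.base z)) := by rw [f.range_fiberι]; exact hx'
    obtain ⟨ζ', rfl⟩ := hx'r
    have h1 : ζ₀ ⤳ ζ' := (f.fiberι (f.base z)).isEmbedding.isInducing.specializes_iff.mp hsp
    by_contra hne
    have hne' : ζ₀ ≠ ζ' := fun h => hne (by rw [h])
    have h2 := trdegNat_lt_of_specializes (Y.residueField (f.base z)) (f.fiber (f.base z))
      ζ₀ ζ' h1 hne'
    exact hmin _ ⟨ζ', hζ₀.trans h1, rfl⟩ h2

end ClosedPt

section RegOne

variable {X Y : Scheme.{u}} [IrreducibleSpace Y] [IsLocallyNoetherian Y]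

omit [IrreducibleSpace Y] in
theorem isDedekindDomain_stalk_of_regular
    (hY : ∀ y : Y, IsRegularLocalRing (Y.presheaf.stalk y) ∧ ringKrullDim (Y.presheaf.stalk y) ≤ 1)
    (y : Y) : IsDedekindDomain (Y.presheaf.stalk y) := by
  haveI := (hY y).1
  haveI : IsDomain (Y.presheaf.stalk y) :=
    Groth.Agent.Lib.Helper5.isDomain_of_isRegularLocalRing _
  haveI : IsIntegrallyClosed (Y.presheaf.stalk y) :=
    Groth.Agent.Lib.Helper28.isIntegrallyClosed_of_isRegularLocalRing _
  have hk : Ring.KrullDimLE 1 (Y.presheaf.stalk y) := by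
    rw [Ring.krullDimLE_iff]
    exact_mod_cast (hY y).2
  have hd : Ring.DimensionLEOne (Y.presheaf.stalk y) :=
    ⟨fun {p} hp hpp => Ring.krullDimLE_one_iff_of_noZeroDivisors.mp hk p hp hpp⟩
  exact { toIsDomain := inferInstance, toIsDedekindRing := { } }

omit [IrreducibleSpace Y] [IsLocallyNoetherian Y] in
theorem isReduced_of_regular
    (hY : ∀ y : Y, IsRegularLocalRing (Y.presheaf.stalk y) ∧ ringKrullDim (Y.presheaf.stalk y) ≤ 1) :
    IsReduced Y := by
  haveI : ∀ y : Y, _root_.IsReduced (Y.presheaf.stalk y) := fun y => by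
    haveI := (hY y).1
    haveI : IsDomain (Y.presheaf.stalk y) :=
      Groth.Agent.Lib.Helper5.isDomain_of_isRegularLocalRing _
    infer_instance
  exact isReduced_of_isReduced_stalk Y

set_option maxHeartbeats 800000 in
/-- EGA IV 14.5.8-type statement over a regular base of dimension `≤ 1`. -/
theorem quasiSection_regular_dim_one
    (hY : ∀ y : Y, IsRegularLocalRing (Y.presheaf.stalk y) ∧ ringKrullDim (Y.presheaf.stalk y) ≤ 1)
    (f : X ⟶ Y) [LocallyOfFiniteType f] (y : Y) :
    (∀ Z ∈ irreducibleComponents (X : Type u), (Z ∩ f.base ⁻¹' {y}).Nonempty →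
        Dense (f.base '' Z)) ↔
      ∀ x : X, f.base x = y → (∀ x' : X, f.base x' = y → x ⤳ x' → x' = x) →
        ∀ Xi ∈ irreducibleComponents (X : Type u), x ∈ Xi →
          ∃ (T : Scheme.{u}) (i : T ⟶ X), IsImmersion i ∧ IrreducibleSpace ↥T ∧ IsReduced T ∧
            x ∈ Set.range i.base ∧ Set.range i.base ⊆ Xi ∧
            LocallyOfFiniteType (i ≫ f) ∧ LocallyQuasiFinite (i ≫ f) ∧ QuasiCompact (i ≫ f) ∧
            IsDominant (i ≫ f) := by
  constructor
  · intro hd x hxy hcl Xi hXi hxXi
    have hdense : Dense (f.base '' Xi) := hd Xi hXi ⟨x, hxXi, hxy⟩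
    set X'' : TopologicalSpace.Closeds X := ⟨Xi, isClosed_of_mem_irreducibleComponents _ hXi⟩
      with hX''
    obtain ⟨ξ, hξ⟩ := QuasiSober.sober hXi.1 (isClosed_of_mem_irreducibleComponents _ hXi)
    have hξcl : closure ({ξ} : Set X) = (X'' : Set X) := hξ.def
    haveI : IrreducibleSpace ↥(Scheme.IdealSheafData.vanishingIdeal X'').subscheme :=
      irreducibleSpace_subscheme X'' ξ hξcl
    haveI : IsReduced (Scheme.IdealSheafData.vanishingIdeal X'').subscheme :=
      Groth.Agent.Lib.Helper10.RedInd.isReduced_subscheme_vanishingIdeal X''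
    haveI : IsIntegral (Scheme.IdealSheafData.vanishingIdeal X'').subscheme :=
      isIntegral_of_irreducibleSpace_of_isReduced _
    haveI : IsReduced Y := isReduced_of_regular hY
    haveI : IsIntegral Y := isIntegral_of_irreducibleSpace_of_isReduced _
    set ι := (Scheme.IdealSheafData.vanishingIdeal X'').subschemeι with hι
    set fW := ι ≫ f with hfW
    have hrange : Set.range ι.base = Xi := range_subschemeι_vanishingIdeal X''
    -- the generic point maps to the generic point
    have hfξ : f.base ξ = genericPoint Y := by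
      have h1 : IsGenericPoint (f.base ξ) (closure (f.base '' Xi)) := hξ.image f.continuous
      rw [hdense.closure_eq] at h1
      exact h1.eq (genericPoint_spec Y)
    have hgen : fW.base (genericPoint ↥(Scheme.IdealSheafData.vanishingIdeal X'').subscheme) =
        genericPoint Y := by
      rw [hfW, Scheme.Hom.comp_apply, subschemeι_genericPoint X'' ξ hξcl]
      exact hfξ
    haveI : IsDominant fW := by
      refine ⟨?_⟩
      rw [DenseRange, dense_iff_closure_eq]
      apply Set.eq_univ_of_univ_subset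
      rw [← (genericPoint_spec Y).def]
      exact closure_mono (Set.singleton_subset_iff.mpr ⟨_, hgen⟩)
    haveI : Flat fW := by
      rw [Flat.iff_flat_stalkMap]
      intro w'
      haveI := isDedekindDomain_stalk_of_regular hY (fW.base w')
      exact Groth.Agent.Lib.Helper10.CurveFlat.flat_of_injective_of_isDedekindDomain _
        (Groth.Agent.Lib.Helper10.CurveFlat.stalkMap_injective_of_generic fW hgen w')
    haveI : LocallyOfFinitePresentation fW :=
      (LocallyOfFinitePresentation.iff_locallyOfFiniteType (f := fW)).mpr inferInstance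
    have hopen : IsOpenMap fW.base := fW.isOpenMap
    obtain ⟨w, hw⟩ : x ∈ Set.range ι.base := by rw [hrange]; exact hxXi
    have hE : EGA43.IsEquidimAt fW w := isEquidimAt_of_isOpenAt fW w (fun z _ _ =>
      Groth.Agent.Lib.Helper7.isOpenAt_of_isOpenMap hopen _)
    have hcl' : ∀ w' : ↥(Scheme.IdealSheafData.vanishingIdeal X'').subscheme,
        fW.base w' = fW.base w → w ⤳ w' → w' = w := by
      intro w' hw' hsp
      have h5 := hcl (ι.base w') (by
        have : f.base (ι.base w') = f.base (ι.base w) := hw'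
        rw [this, hw, hxy]) (by rw [← hw]; exact hsp.map ι.continuous)
      apply ι.isEmbedding.injective
      rw [h5, hw]
    obtain ⟨T, i, hi1, hi2, hi3, ⟨t, ht⟩, hi5, hi6, hi7, hi8⟩ := exists_quasiSection fW w hE hcl'
    refine ⟨T, i ≫ ι, inferInstance, hi2, hi3, ⟨t, by rw [Scheme.Hom.comp_apply, ht, hw]⟩, ?_,
      ?_, ?_, ?_, ?_⟩
    · rintro _ ⟨t', rfl⟩
      rw [← hrange, Scheme.Hom.comp_apply]
      exact ⟨_, rfl⟩
    · rw [Category.assoc]; exact hi5
    · rw [Category.assoc]; exact hi6
    · rw [Category.assoc]; exact hi7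
    · rw [Category.assoc]; exact hi8
  · intro he Z hZ hne
    obtain ⟨z, hzZ, hzy⟩ := hne
    have hzy' : f.base z = y := hzy
    obtain ⟨x, hx1, hx2, hx3⟩ := exists_closed_in_fibre_specialization f z
    have hxZ : x ∈ Z := by
      have hcl := isClosed_of_mem_irreducibleComponents _ hZ
      exact hcl.closure_subset_iff.mpr (Set.singleton_subset_iff.mpr hzZ)
        (specializes_iff_mem_closure.mp hx2)
    obtain ⟨T, i, -, -, -, -, hsub, -, -, -, hdom⟩ := he x (hx1.trans hzy')
      (fun x' hx' hsp => hx3 x' (hx'.trans hzy'.symm) hsp) Z hZ hxZ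
    have hd : DenseRange (i ≫ f).base := hdom.denseRange
    refine hd.mono ?_
    rintro _ ⟨t, rfl⟩
    exact ⟨i.base t, hsub ⟨t, rfl⟩, rfl⟩

end RegOne

end Groth.Agent.Lib.Helper6.EquiSub
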