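import Mathlib
import Groth.Prelude.Def_CAlg2
import Groth.Agent.Lib.Helper4Unibranch
import Groth.Agent.Lib.Helper3GURed
import Groth.Prelude.Def_EGA43
import Groth.Agent.S4935
import Groth.Agent.S3404

/-!
# Unibranch local rings: going-down for integral extensions (helper6)
-/

set_option autoImplicit false
set_option linter.style.haveILetI false
universe u
open IsLocalRing

namespace Groth.Agent.Lib.Helper6.Uni

open Groth.Agent.Lib.Helper4.Unibranch Groth.Agent.Lib.Helper4.Branches
open Groth.Agent.Lib.Helper3.GURed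

/-- unibranchness passes to the reduction -/
theorem isUnibranch_red (R : Type u) [CommRing R] [IsLocalRing R]
    (h : CAlg2.IsUnibranch R) : CAlg2.IsUnibranch (CAlg2.red R) := by
  have hnil : nilradical (CAlg2.red R) = ⊥ := nilradical_eq_zero _
  let e : CAlg2.red R ≃+* CAlg2.red (CAlg2.red R) :=
    (RingEquiv.quotientBot (CAlg2.red R)).symm.trans (Ideal.quotEquivOfEq hnil.symm)
  let Ψ : CAlg2.normRed (CAlg2.red R) ≃+* CAlg2.normRed R := normalizationEquiv e.symm
  rw [isUnibranch_iff_of_ringEquiv (CAlg2.red R) Ψ]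
  obtain ⟨hd, hl⟩ := h
  exact ⟨MulEquiv.isDomain (CAlg2.red R) e.symm.toMulEquiv, hl⟩

/-- transport of unibranchness along a ring isomorphism -/
theorem isUnibranch_of_ringEquiv {A B : Type u} [CommRing A] [CommRing B] [IsLocalRing A]
    [IsLocalRing B] (e : A ≃+* B) (h : CAlg2.IsUnibranch A) : CAlg2.IsUnibranch B := by
  have hnil : nilradical B = (nilradical A).map (e : A →+* B) := by
    ext b
    rw [Ideal.mem_map_iff_of_surjective (e : A →+* B) e.surjective]
    constructor
    · intro hb
      refine ⟨e.symm b, ?_, e.apply_symm_apply b⟩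
      exact (mem_nilradical.mp hb).map e.symm
    · rintro ⟨a, ha, rfl⟩
      exact (mem_nilradical.mp ha).map e
  let ρ : CAlg2.red A ≃+* CAlg2.red B := Ideal.quotientEquiv _ _ e hnil
  let Ψ : CAlg2.normRed B ≃+* CAlg2.normRed A := normalizationEquiv ρ.symm
  rw [isUnibranch_iff_of_ringEquiv B Ψ]
  obtain ⟨hd, hl⟩ := h
  exact ⟨ρ.toMulEquiv.isDomain_iff.mp hd, hl⟩

/-- **Going-down over a unibranch local ring** (generalization of S4935 to a non-reduced base):
`A` unibranch local, `B` a domain integral over `A` such that the kernel of `A → B` consists of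
nilpotents; `n` a prime of `B` over the maximal ideal. Every prime of `A` is the contraction of a
prime contained in `n`. -/
theorem exists_prime_le_of_isUnibranch {A B : Type u} [CommRing A] [IsLocalRing A]
    (hA : CAlg2.IsUnibranch A) [CommRing B] [IsDomain B] [Algebra A B] [Algebra.IsIntegral A B]
    (hker : ∀ a : A, algebraMap A B a = 0 → IsNilpotent a)
    (n : Ideal B) [n.IsPrime] (hn : n.comap (algebraMap A B) = maximalIdeal A)
    (p : Ideal A) [p.IsPrime] :
    ∃ q : Ideal B, q.IsPrime ∧ q ≤ n ∧ q.comap (algebraMap A B) = p := by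
  have hA₀ := isUnibranch_red A hA
  haveI : IsDomain (CAlg2.red A) := hA.1
  let φ : CAlg2.red A →+* B := Ideal.Quotient.lift (nilradical A) (algebraMap A B) (by
    intro a ha
    exact (mem_nilradical.mp ha).map (algebraMap A B) |>.eq_zero)
  letI : Algebra (CAlg2.red A) B := φ.toAlgebra
  have hφ : ∀ a : A, algebraMap (CAlg2.red A) B (Ideal.Quotient.mk _ a) = algebraMap A B a :=
    fun a => rfl
  have hinj : Function.Injective (algebraMap (CAlg2.red A) B) := by
    rw [injective_iff_map_eq_zero]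
    intro x hx
    obtain ⟨a, rfl⟩ := Ideal.Quotient.mk_surjective x
    rw [hφ] at hx
    exact Ideal.Quotient.eq_zero_iff_mem.mpr (mem_nilradical.mpr (hker a hx))
  haveI : Algebra.IsIntegral (CAlg2.red A) B := by
    refine ⟨fun b => ?_⟩
    obtain ⟨P, hP, hPb⟩ := Algebra.IsIntegral.isIntegral (R := A) b
    refine ⟨P.map (Ideal.Quotient.mk (nilradical A)), hP.map _, ?_⟩
    rw [Polynomial.eval₂_map]
    exact hPb
  haveI : IsLocalHom (Ideal.Quotient.mk (nilradical A)) :=
    IsLocalHom.of_surjective _ Ideal.Quotient.mk_surjective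
  have hmax : n.comap (algebraMap (CAlg2.red A) B) = maximalIdeal (CAlg2.red A) := by
    ext x
    obtain ⟨a, rfl⟩ := Ideal.Quotient.mk_surjective x
    rw [Ideal.mem_comap, hφ, ← Ideal.mem_comap, hn]
    constructor
    · intro ha
      rw [mem_maximalIdeal, mem_nonunits_iff] at ha ⊢
      intro hu
      apply ha
      exact (isUnit_map_iff (Ideal.Quotient.mk (nilradical A)) a).mp hu
    · intro ha
      rw [mem_maximalIdeal, mem_nonunits_iff] at ha ⊢
      intro hu
      exact ha (hu.map _)
  let p₀ : Ideal (CAlg2.red A) := p.map (Ideal.Quotient.mk (nilradical A))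
  have hp₀c : p₀.comap (Ideal.Quotient.mk (nilradical A)) = p := by
    rw [Ideal.comap_map_of_surjective' _ Ideal.Quotient.mk_surjective, Ideal.mk_ker, sup_eq_left]
    exact nilradical_le_prime p
  haveI : p₀.IsPrime := by
    apply Ideal.map_isPrime_of_surjective Ideal.Quotient.mk_surjective
    rw [Ideal.mk_ker]
    exact nilradical_le_prime p
  obtain ⟨q, hq, hqn, hqp⟩ := Groth.Agent.S4935.result hA₀ hinj n hmax p₀
  refine ⟨q, hq, hqn, ?_⟩
  rw [← hp₀c, ← hqp, Ideal.comap_comap]
  rfl

/-- **Going-down at a unibranch point**: `S` integral over `A` with irreducible spectrum dominating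
`Spec A`; `m` a prime of `A` with `A_m` unibranch, `n` a prime of `S` over `m`. Every prime
`p' ≤ m` is the contraction of a prime contained in `n`. -/
theorem exists_prime_le_of_isUnibranch_localization {A S : Type u} [CommRing A] [CommRing S]
    [Algebra A S] [Algebra.IsIntegral A S] (hS : (nilradical S).IsPrime)
    (hker : ∀ a : A, IsNilpotent (algebraMap A S a) → IsNilpotent a)
    (m : Ideal A) [m.IsPrime] (hU : CAlg2.IsUnibranch (Localization.AtPrime m))
    (n : Ideal S) [n.IsPrime] (hn : n.comap (algebraMap A S) = m)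
    (p' : Ideal A) [p'.IsPrime] (hp' : p' ≤ m) :
    ∃ q : Ideal S, q.IsPrime ∧ q ≤ n ∧ q.comap (algebraMap A S) = p' := by
  haveI := hS
  let Sb := S ⧸ nilradical S
  let M : Submonoid Sb := Algebra.algebraMapSubmonoid Sb m.primeCompl
  let B₁ := Localization M
  let Am := Localization.AtPrime m
  have hmk : ∀ a : A, algebraMap A Sb a = Ideal.Quotient.mk (nilradical S) (algebraMap A S a) :=
    fun a => rfl
  -- nonzero elements of `M`
  have hM0 : ∀ s : A, s ∉ m → algebraMap A Sb s ≠ 0 := by
    intro s hs h0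
    rw [hmk, Ideal.Quotient.eq_zero_iff_mem, mem_nilradical] at h0
    have := hker s h0
    exact hs (nilradical_le_prime m (mem_nilradical.mpr this))
  have hMle : M ≤ nonZeroDivisors Sb := by
    rintro _ ⟨s, hs, rfl⟩
    exact mem_nonZeroDivisors_of_ne_zero (hM0 s hs)
  haveI : IsDomain B₁ := IsLocalization.isDomain_localization hMle
  haveI : Algebra.IsIntegral A Sb := by
    refine ⟨fun x => ?_⟩
    obtain ⟨s, rfl⟩ := Ideal.Quotient.mk_surjective x
    exact (Algebra.IsIntegral.isIntegral (R := A) s).map (Ideal.Quotient.mkₐ A (nilradical S))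
  haveI : Algebra.IsIntegral Am B₁ := ⟨isIntegral_localization (M := m.primeCompl) (Rₘ := Am)
    (S := Sb) (Sₘ := B₁)⟩
  -- kernel of `Am → B₁`
  have hker₁ : ∀ x : Am, algebraMap Am B₁ x = 0 → IsNilpotent x := by
    intro x hx
    obtain ⟨a, s, rfl⟩ := IsLocalization.exists_mk'_eq m.primeCompl x
    have h1 : algebraMap Am B₁ (IsLocalization.mk' Am a s) =
        IsLocalization.mk' B₁ (algebraMap A Sb a)
          (⟨algebraMap A Sb s, s, s.2, rfl⟩ : M) := by
      rw [localizationAlgebraMap_def, IsLocalization.map_mk']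
    rw [h1, IsLocalization.mk'_eq_zero_iff] at hx
    obtain ⟨c, hc⟩ := hx
    have hc0 : (c : Sb) ≠ 0 := nonZeroDivisors.ne_zero (hMle c.2)
    have ha0 : algebraMap A Sb a = 0 := by
      rcases mul_eq_zero.mp hc with h | h
      · exact absurd h hc0
      · exact h
    rw [hmk, Ideal.Quotient.eq_zero_iff_mem, mem_nilradical] at ha0
    obtain ⟨k, hk⟩ := hker a ha0
    refine ⟨k, ?_⟩
    rw [← IsLocalization.mk'_pow, hk, IsLocalization.mk'_zero]
  -- the prime `n̄` of `Sb`
  let nb : Ideal Sb := n.map (Ideal.Quotient.mk (nilradical S))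
  have hnbc : nb.comap (Ideal.Quotient.mk (nilradical S)) = n := by
    rw [Ideal.comap_map_of_surjective' _ Ideal.Quotient.mk_surjective, Ideal.mk_ker, sup_eq_left]
    exact nilradical_le_prime n
  haveI hnbp : nb.IsPrime := by
    apply Ideal.map_isPrime_of_surjective Ideal.Quotient.mk_surjective
    rw [Ideal.mk_ker]
    exact nilradical_le_prime n
  have hnbA : nb.comap (algebraMap A Sb) = m := by
    rw [← hn, ← hnbc, Ideal.comap_comap]
    rfl
  have hdisj : Disjoint (M : Set Sb) (nb : Set Sb) := by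
    rw [Set.disjoint_left]
    rintro _ ⟨s, hs, rfl⟩ hmem
    have : s ∈ nb.comap (algebraMap A Sb) := hmem
    rw [hnbA] at this
    exact hs this
  let n₁ : Ideal B₁ := nb.map (algebraMap Sb B₁)
  haveI hn₁p : n₁.IsPrime := IsLocalization.isPrime_of_isPrime_disjoint M B₁ nb hnbp hdisj
  have hn₁c : n₁.comap (algebraMap Sb B₁) = nb :=
    IsLocalization.under_map_of_isPrime_disjoint M B₁ hnbp hdisj
  have hn₁m : n₁.comap (algebraMap Am B₁) = maximalIdeal Am := by
    have h1 : (n₁.comap (algebraMap Am B₁)).comap (algebraMap A Am) = m := by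
      rw [Ideal.comap_comap, ← IsScalarTower.algebraMap_eq, IsScalarTower.algebraMap_eq A Sb B₁,
        ← Ideal.comap_comap, hn₁c, hnbA]
    rw [← IsLocalization.map_under m.primeCompl Am (n₁.comap (algebraMap Am B₁)), Ideal.under_def,
      h1, Localization.AtPrime.map_eq_maximalIdeal]
  -- the prime `p₁`
  have hdisjp : Disjoint (m.primeCompl : Set A) (p' : Set A) := by
    rw [Set.disjoint_left]
    intro s hs hsp
    exact hs (hp' hsp)
  let p₁ : Ideal Am := p'.map (algebraMap A Am)
  haveI hp₁p : p₁.IsPrime :=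
    IsLocalization.isPrime_of_isPrime_disjoint m.primeCompl Am p' inferInstance hdisjp
  have hp₁c : p₁.comap (algebraMap A Am) = p' :=
    IsLocalization.under_map_of_isPrime_disjoint m.primeCompl Am inferInstance hdisjp
  obtain ⟨q₁, hq₁p, hq₁n, hq₁c⟩ := exists_prime_le_of_isUnibranch hU hker₁ n₁ hn₁m p₁
  haveI := hq₁p
  refine ⟨(q₁.comap (algebraMap Sb B₁)).comap (Ideal.Quotient.mk (nilradical S)),
    inferInstance, ?_, ?_⟩
  · rw [← hnbc, ← hn₁c]
    exact Ideal.comap_mono (Ideal.comap_mono hq₁n)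
  · rw [← hp₁c, ← hq₁c, Ideal.comap_comap, Ideal.comap_comap, Ideal.comap_comap,
      ← IsScalarTower.algebraMap_eq, IsScalarTower.algebraMap_eq A Sb B₁]
    rfl

/-- Zariski's main theorem, going-down form: if `r ∉ P` and every element of `B` becomes integral
after multiplication by a power of `r`, then primes of the integral closure below `P ∩ S'` lift to
primes of `B` below `P`. -/
theorem exists_prime_le_of_zariski {A B : Type u} [CommRing A] [CommRing B] [Algebra A B]
    (P : Ideal B) [P.IsPrime] (r : B) (hrP : r ∉ P) (hr : IsIntegral A r)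
    (hZ : ∀ x : B, ∃ k : ℕ, IsIntegral A (r ^ k * x))
    (q : Ideal (integralClosure A B)) [q.IsPrime]
    (hq : q ≤ P.comap (algebraMap (integralClosure A B) B)) :
    ∃ Q : Ideal B, Q.IsPrime ∧ Q ≤ P ∧ Q.comap (algebraMap (integralClosure A B) B) = q := by
  let S' := integralClosure A B
  let r' : S' := ⟨r, hr⟩
  let Br := Localization.Away r
  haveI : IsScalarTower S' B Br := inferInstance
  have hloc : IsLocalization (Submonoid.powers r') Br := by
    rw [isLocalization_iff]
    refine ⟨?_, ?_, ?_⟩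
    · rintro ⟨_, k, rfl⟩
      have : algebraMap S' Br (r' ^ k) = algebraMap B Br (r ^ k) := by
        rw [IsScalarTower.algebraMap_apply S' B Br]
        rfl
      rw [this]
      exact IsLocalization.map_units Br (⟨r ^ k, k, rfl⟩ : Submonoid.powers r)
    · intro z
      obtain ⟨b, ⟨_, j, rfl⟩, rfl⟩ := IsLocalization.exists_mk'_eq (Submonoid.powers r) z
      obtain ⟨k, hk⟩ := hZ b
      refine ⟨⟨⟨r ^ k * b, hk⟩, ⟨r' ^ (j + k), j + k, rfl⟩⟩, ?_⟩
      have e1 : algebraMap S' Br (r' ^ (j + k)) = algebraMap B Br (r ^ (j + k)) := by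
        rw [IsScalarTower.algebraMap_apply S' B Br]
        rfl
      have e2 : algebraMap S' Br (⟨r ^ k * b, hk⟩ : S') = algebraMap B Br (r ^ k * b) := by
        rw [IsScalarTower.algebraMap_apply S' B Br]
        rfl
      show _ * algebraMap S' Br (r' ^ (j + k)) = algebraMap S' Br ⟨r ^ k * b, hk⟩
      rw [e1, e2, pow_add, map_mul, ← mul_assoc]
      have e3 : IsLocalization.mk' Br b (⟨r ^ j, j, rfl⟩ : Submonoid.powers r) *
          algebraMap B Br (r ^ j) = algebraMap B Br b :=
        IsLocalization.mk'_spec Br b (⟨r ^ j, j, rfl⟩ : Submonoid.powers r)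
      rw [e3, ← map_mul, mul_comm]
    · intro x y hxy
      have hxy' : algebraMap B Br x.1 = algebraMap B Br y.1 := by
        have h1 := hxy
        rw [IsScalarTower.algebraMap_apply S' B Br, IsScalarTower.algebraMap_apply S' B Br] at h1
        exact h1
      obtain ⟨⟨_, j, rfl⟩, hc⟩ := (IsLocalization.eq_iff_exists (Submonoid.powers r) Br).mp hxy'
      refine ⟨⟨r' ^ j, j, rfl⟩, ?_⟩
      apply Subtype.ext
      exact hc
  haveI : Module.Flat S' Br := IsLocalization.flat Br (Submonoid.powers r')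
  -- the prime `P Br`
  have hdisj : Disjoint (Submonoid.powers r : Set B) (P : Set B) := by
    rw [Set.disjoint_left]
    rintro _ ⟨k, rfl⟩ hmem
    exact hrP (Ideal.IsPrime.mem_of_pow_mem inferInstance k hmem)
  let PB : Ideal Br := P.map (algebraMap B Br)
  haveI hPBp : PB.IsPrime :=
    IsLocalization.isPrime_of_isPrime_disjoint (Submonoid.powers r) Br P inferInstance hdisj
  have hPBc : PB.comap (algebraMap B Br) = P :=
    IsLocalization.under_map_of_isPrime_disjoint (Submonoid.powers r) Br inferInstance hdisj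
  let n : Ideal S' := P.comap (algebraMap S' B)
  haveI : n.IsPrime := Ideal.comap_isPrime _ _
  haveI : PB.LiesOver n := by
    refine ⟨?_⟩
    rw [Ideal.under_def, IsScalarTower.algebraMap_eq S' B Br, ← Ideal.comap_comap, hPBc]
  obtain ⟨Q'', hQle, hQp, hQo⟩ := Ideal.exists_ideal_le_liesOver_of_le (p := q) (q := n) PB hq
  haveI := hQp
  refine ⟨Q''.comap (algebraMap B Br), inferInstance, ?_, ?_⟩
  · rw [← hPBc]
    exact Ideal.comap_mono hQle
  · rw [Ideal.comap_comap, ← IsScalarTower.algebraMap_eq]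
    exact (hQo.over).symm

/-- **Lifting of generizations for a quasi-finite map at a unibranch point** (ring form). -/
theorem exists_prime_le_of_quasiFiniteAt {A B : Type u} [CommRing A] [CommRing B] [Algebra A B]
    [Algebra.FiniteType A B] (P : Ideal B) [P.IsPrime] [Algebra.QuasiFiniteAt A P]
    (hB : (nilradical B).IsPrime)
    (hker : ∀ a : A, IsNilpotent (algebraMap A B a) → IsNilpotent a)
    (hU : CAlg2.IsUnibranch (Localization.AtPrime (P.comap (algebraMap A B))))
    (p' : Ideal A) [p'.IsPrime] (hp' : p' ≤ P.comap (algebraMap A B)) :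
    ∃ Q : Ideal B, Q.IsPrime ∧ Q ≤ P ∧ Q.comap (algebraMap A B) = p' := by
  obtain ⟨r, hrP, hZ⟩ := Algebra.zariskisMainProperty_iff'.mp
    (Algebra.ZariskisMainProperty.of_finiteType (R := A) P)
  have hr : IsIntegral A r := by
    obtain ⟨k, hk⟩ := hZ r
    rw [← pow_succ] at hk
    exact (IsIntegral.pow_iff (by simp)).mp hk
  let S' := integralClosure A B
  have hnil : nilradical S' = (nilradical B).comap (algebraMap S' B) := by
    ext x
    rw [Ideal.mem_comap, mem_nilradical, mem_nilradical]
    constructor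
    · intro h
      exact h.map (algebraMap S' B)
    · rintro ⟨k, hk⟩
      refine ⟨k, Subtype.ext ?_⟩
      have : algebraMap S' B (x ^ k) = 0 := by rw [map_pow]; exact hk
      exact this
  have hS' : (nilradical S').IsPrime := by
    rw [hnil]
    haveI := hB
    exact Ideal.comap_isPrime _ _
  have hker' : ∀ a : A, IsNilpotent (algebraMap A S' a) → IsNilpotent a := by
    intro a ha
    apply hker a
    have := ha.map (algebraMap S' B)
    rwa [← IsScalarTower.algebraMap_apply A S' B] at this
  let n : Ideal S' := P.comap (algebraMap S' B)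
  haveI : n.IsPrime := Ideal.comap_isPrime _ _
  have hn : n.comap (algebraMap A S') = P.comap (algebraMap A B) := by
    rw [Ideal.comap_comap, ← IsScalarTower.algebraMap_eq]
  obtain ⟨q, hqp, hqn, hqc⟩ := exists_prime_le_of_isUnibranch_localization hS' hker'
    (P.comap (algebraMap A B)) hU n hn p' hp'
  haveI := hqp
  obtain ⟨Q, hQp, hQle, hQc⟩ := exists_prime_le_of_zariski P r hrP hr hZ q hqn
  refine ⟨Q, hQp, hQle, ?_⟩
  rw [IsScalarTower.algebraMap_eq A S' B, ← Ideal.comap_comap, hQc, hqc]


open CategoryTheory AlgebraicGeometry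

/-- unibranchness of a stalk gives unibranchness of the localization of the sections over an affine
open. -/
theorem isUnibranch_localization_of_stalk {Y : Scheme.{u}} (V : Y.Opens) (hV : IsAffineOpen V)
    (p : PrimeSpectrum Γ(Y, V))
    (h : CAlg2.IsUnibranch (Y.presheaf.stalk (hV.fromSpec p))) :
    CAlg2.IsUnibranch (Localization.AtPrime p.asIdeal) := by
  have hy : hV.fromSpec p ∈ (V : Set Y) := by
    rw [← hV.range_fromSpec]; exact ⟨p, rfl⟩
  letI := TopCat.Presheaf.algebra_section_stalk Y.presheaf ⟨hV.fromSpec p, hy⟩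
  haveI : IsLocalization p.asIdeal.primeCompl (Y.presheaf.stalk (hV.fromSpec p)) :=
    hV.isLocalization_stalk' p hy
  let e : Localization.AtPrime p.asIdeal ≃ₐ[Γ(Y, V)] Y.presheaf.stalk (hV.fromSpec p) :=
    IsLocalization.algEquiv p.asIdeal.primeCompl _ _
  exact isUnibranch_of_ringEquiv e.symm.toRingEquiv h

/-- **Generizations lift along a dominant quasi-finite morphism of irreducible schemes at a point
with unibranch image.** -/
theorem exists_specializes_of_isUnibranch {X Y : Scheme.{u}} [IrreducibleSpace X]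
    [IrreducibleSpace Y] (f : X ⟶ Y) [LocallyOfFiniteType f] [LocallyQuasiFinite f] [IsDominant f]
    (x : X) (hy : CAlg2.IsUnibranch (Y.presheaf.stalk (f.base x))) (y' : Y) (hy' : y' ⤳ f.base x) :
    ∃ x' : X, x' ⤳ x ∧ f.base x' = y' := by
  obtain ⟨_, ⟨V, hV : IsAffineOpen V, rfl⟩, hyV, -⟩ :=
    Y.isBasis_affineOpens.exists_subset_of_mem_open (Set.mem_univ (f.base x)) isOpen_univ
  obtain ⟨_, ⟨W, hW : IsAffineOpen W, rfl⟩, hxW, hWV⟩ :=
    X.isBasis_affineOpens.exists_subset_of_mem_open (show x ∈ ((f ⁻¹ᵁ V : X.Opens) : Set X) from hyV)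
      (f ⁻¹ᵁ V).isOpen
  have e : W ≤ f ⁻¹ᵁ V := hWV
  let φ : Γ(Y, V) ⟶ Γ(X, W) := f.appLE V W e
  letI : Algebra Γ(Y, V) Γ(X, W) := φ.hom.toAlgebra
  have hft : Algebra.FiniteType Γ(Y, V) Γ(X, W) := by
    have := HasRingHomProperty.appLE (P := @LocallyOfFiniteType) f inferInstance ⟨V, hV⟩ ⟨W, hW⟩ e
    exact (RingHom.finiteType_algebraMap (A := Γ(Y, V)) (B := Γ(X, W))).mp this
  have hqf : Algebra.QuasiFinite Γ(Y, V) Γ(X, W) := by
    have := HasRingHomProperty.appLE (P := @LocallyQuasiFinite) f inferInstance ⟨V, hV⟩ ⟨W, hW⟩ e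
    exact (RingHom.quasiFinite_algebraMap (R := Γ(Y, V)) (S := Γ(X, W))).mp this
  have hcomm : Spec.map φ ≫ hV.fromSpec = hW.fromSpec ≫ f :=
    IsAffineOpen.SpecMap_appLE_fromSpec f hV hW e
  have hx : x ∈ Set.range hW.fromSpec.base := by
    rw [hW.range_fromSpec]; exact hxW
  obtain ⟨P, rfl⟩ := hx
  -- the image point
  have hfx : f.base (hW.fromSpec.base P) = hV.fromSpec.base ((Spec.map φ).base P) := by
    rw [← Scheme.Hom.comp_apply, ← Scheme.Hom.comp_apply, hcomm]
  -- irreducibility of `Spec Γ(X, W)`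
  have hB : (nilradical Γ(X, W)).IsPrime := by
    rw [← PrimeSpectrum.irreducibleSpace_iff_isPrime_nilradical]
    have hirr : IrreducibleSpace ↥W := Subtype.irreducibleSpace
      ⟨⟨_, hxW⟩, (IrreducibleSpace.isIrreducible_univ X).2.open_subset W.isOpen (Set.subset_univ _)⟩
    exact (hW.isoSpec.hom.homeomorph.irreducibleSpace_iff).mp hirr
  -- dominance
  have hker : ∀ a : Γ(Y, V), IsNilpotent (algebraMap Γ(Y, V) Γ(X, W) a) → IsNilpotent a := by
    intro a ha
    rw [Scheme.isNilpotent_iff_basicOpen_eq_bot_of_isCompact hV.isCompact]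
    rw [Scheme.isNilpotent_iff_basicOpen_eq_bot_of_isCompact hW.isCompact] at ha
    have ha' : X.basicOpen (f.appLE V W e a) = ⊥ := ha
    rw [Scheme.basicOpen_appLE] at ha'
    by_contra hne
    have hne' : ((Y.basicOpen a : Y.Opens) : Set Y).Nonempty := by
      rw [Set.nonempty_iff_ne_empty]
      intro h0
      apply hne
      ext z
      simp only [TopologicalSpace.Opens.coe_bot]
      rw [h0]
    -- `W` is dense in `X`
    have hWd : Dense (W : Set X) := W.isOpen.dense ⟨_, hxW⟩
    have hfW : Dense (f.base '' (W : Set X)) := f.denseRange.dense_image f.continuous hWd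
    obtain ⟨_, hz, ⟨w, hwW, rfl⟩⟩ := hfW.inter_open_nonempty _ (Y.basicOpen a).isOpen hne'
    have : w ∈ ((W ⊓ f ⁻¹ᵁ (Y.basicOpen a) : X.Opens) : Set X) := ⟨hwW, hz⟩
    rw [ha'] at this
    exact this
  -- the generization
  have hy'V : y' ∈ V := hy'.mem_open V.isOpen hyV
  have hy'r : y' ∈ Set.range hV.fromSpec.base := by
    rw [hV.range_fromSpec]; exact hy'V
  obtain ⟨p', rfl⟩ := hy'r
  have hspec : p' ⤳ (Spec.map φ).base P := by
    rw [hfx] at hy'
    exact (hV.fromSpec.isOpenEmbedding.isEmbedding.specializes_iff).mp hy'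
  have hle : p'.asIdeal ≤ P.asIdeal.comap (algebraMap Γ(Y, V) Γ(X, W)) :=
    (PrimeSpectrum.le_iff_specializes p' _).mpr hspec
  have hU : CAlg2.IsUnibranch (Localization.AtPrime (P.asIdeal.comap (algebraMap Γ(Y, V) Γ(X, W)))) := by
    have h1 := isUnibranch_localization_of_stalk V hV ((Spec.map φ).base P) (hfx ▸ hy)
    exact h1
  haveI : Algebra.QuasiFiniteAt Γ(Y, V) P.asIdeal := inferInstance
  obtain ⟨Q, hQp, hQle, hQc⟩ := exists_prime_le_of_quasiFiniteAt P.asIdeal hB hker hU p'.asIdeal hle
  let Q' : PrimeSpectrum Γ(X, W) := ⟨Q, hQp⟩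
  refine ⟨hW.fromSpec.base Q', ?_, ?_⟩
  · exact ((PrimeSpectrum.le_iff_specializes Q' P).mp hQle).map hW.fromSpec.continuous
  · rw [← Scheme.Hom.comp_apply, ← hcomm, Scheme.Hom.comp_apply]
    congr 1
    exact PrimeSpectrum.ext hQc

end Groth.Agent.Lib.Helper6.Uni
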