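import Mathlib
import Groth.Prelude.Def_CAlg2
import Groth.Prelude.Def_EGA43
import Groth.Agent.Lib.Helper6UniA
import Groth.Agent.Lib.Helper6UniB
import Groth.Agent.Lib.Helper26UnivOpenAt
import Groth.Agent.Lib.Helper6EquiSubG

/-! # Chevalley's criterion for universal openness (EGA IV 14.4.1, 14.4.4), irreducible base -/

set_option autoImplicit false
set_option linter.style.haveILetI false
universe u
open IsLocalRing CategoryTheory CategoryTheory.Limits AlgebraicGeometry

namespace Groth.Agent.Lib.Helper6.Uni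


open Groth.Agent.Lib.Helper26.UnivOpenAt EGA43

section Ring
open MvPolynomial
attribute [local instance] MvPolynomial.algebraMvPolynomial

theorem isPrime_nilradical_mvPolynomial {B : Type*} [CommRing B] (σ : Type*)
    (hB : (nilradical B).IsPrime) : (nilradical (MvPolynomial σ B)).IsPrime := by
  haveI := hB
  have h : nilradical (MvPolynomial σ B) =
      RingHom.ker (MvPolynomial.map (σ := σ) (Ideal.Quotient.mk (nilradical B))) := by
    ext f
    rw [mem_nilradical, MvPolynomial.isNilpotent_iff, RingHom.mem_ker, MvPolynomial.ext_iff]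
    refine forall_congr' (fun m => ?_)
    rw [MvPolynomial.coeff_map, MvPolynomial.coeff_zero, Ideal.Quotient.eq_zero_iff_mem,
      mem_nilradical]
  rw [h]
  exact RingHom.ker_isPrime _

theorem isNilpotent_of_isNilpotent_map {A B : Type*} [CommRing A] [CommRing B] [Algebra A B]
    (σ : Type*) (hker : ∀ a : A, IsNilpotent (algebraMap A B a) → IsNilpotent a)
    (a : MvPolynomial σ A) (ha : IsNilpotent (MvPolynomial.map (algebraMap A B) a)) :
    IsNilpotent a := by
  rw [MvPolynomial.isNilpotent_iff] at ha ⊢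
  intro m
  have := ha m
  rw [MvPolynomial.coeff_map] at this
  exact hker _ this

set_option maxHeartbeats 1000000 in
/-- **A dominant quasi-finite algebra with irreducible spectrum over a Noetherian ring is
universally open at the points over geometrically unibranch points.** -/
theorem isUnivOpenAt_SpecMap_of_quasiFinite {A B : Type u} [CommRing A] [CommRing B] [Algebra A B]
    [IsNoetherianRing A] [Algebra.FiniteType A B] [Algebra.QuasiFinite A B]
    (hB : (nilradical B).IsPrime)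
    (hker : ∀ a : A, IsNilpotent (algebraMap A B a) → IsNilpotent a)
    (𝔭 : PrimeSpectrum B)
    (hU : CAlg2.IsGeomUnibranch (Localization.AtPrime (𝔭.asIdeal.comap (algebraMap A B)))) :
    IsUnivOpenAt (Spec.map (CommRingCat.ofHom (algebraMap A B)))
      (𝔭 : ↥(Spec (CommRingCat.of B))) := by
  apply isUnivOpenAt_SpecMap_of_ring
  intro A' _ _ p' hp'
  refine isOpenAt_comap_tensor 𝔭 ?_ A' p' hp'
  intro n q hq
  let A₁ := MvPolynomial (Fin n) A
  let B₁ := MvPolynomial (Fin n) B
  let f₀ := Spec.map (CommRingCat.ofHom (algebraMap A B))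
  let f₁ : Spec (CommRingCat.of B₁) ⟶ Spec (CommRingCat.of A₁) :=
    Spec.map (CommRingCat.ofHom (MvPolynomial.map (algebraMap A B)))
  have sq := isPullback_mvPolynomial A B n
  have hft₀ : LocallyOfFiniteType f₀ := by
    rw [HasRingHomProperty.Spec_iff (P := @LocallyOfFiniteType)]
    exact (RingHom.finiteType_algebraMap (A := A) (B := B)).mpr inferInstance
  have hqf₀ : LocallyQuasiFinite f₀ := by
    rw [HasRingHomProperty.Spec_iff (P := @LocallyQuasiFinite)]
    exact (RingHom.quasiFinite_algebraMap (R := A) (S := B)).mpr inferInstance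
  haveI : IsLocallyNoetherian (Spec (CommRingCat.of A)) := inferInstance
  have hfp₀ : LocallyOfFinitePresentation f₀ := LocallyOfFinitePresentation.iff_locallyOfFiniteType.mpr hft₀
  have hft₁ : LocallyOfFiniteType f₁ :=
    MorphismProperty.of_isPullback (P := @LocallyOfFiniteType) sq hft₀
  have hqf₁ : LocallyQuasiFinite f₁ :=
    MorphismProperty.of_isPullback (P := @LocallyQuasiFinite) sq hqf₀
  have hfp₁ : LocallyOfFinitePresentation f₁ :=
    MorphismProperty.of_isPullback (P := @LocallyOfFinitePresentation) sq hfp₀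
  haveI : Algebra.FiniteType A₁ B₁ := by
    rw [HasRingHomProperty.Spec_iff (P := @LocallyOfFiniteType)] at hft₁
    exact (RingHom.finiteType_algebraMap (A := A₁) (B := B₁)).mp hft₁
  haveI : Algebra.QuasiFinite A₁ B₁ := by
    rw [HasRingHomProperty.Spec_iff (P := @LocallyQuasiFinite)] at hqf₁
    exact (RingHom.quasiFinite_algebraMap (R := A₁) (S := B₁)).mp hqf₁
  -- generizations lift
  have hgen : ∀ y' : ↥(Spec (CommRingCat.of A₁)), y' ⤳ f₁.base q →
      ∃ x' : ↥(Spec (CommRingCat.of B₁)), x' ⤳ q ∧ f₁.base x' = y' := by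
    intro y' hy'
    have hle : y'.asIdeal ≤ q.asIdeal.comap (algebraMap A₁ B₁) :=
      (PrimeSpectrum.le_iff_specializes y' _).mpr hy'
    have hcomap : (q.asIdeal.comap (algebraMap A₁ B₁)).comap (C : A →+* A₁) =
        𝔭.asIdeal.comap (algebraMap A B) := by
      rw [Ideal.comap_comap]
      have e1 : (algebraMap A₁ B₁).comp (C : A →+* A₁) = (C : B →+* B₁).comp (algebraMap A B) := by
        refine RingHom.ext (fun a => ?_)
        show algebraMap A₁ B₁ (C a) = C (algebraMap A B a)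
        rw [MvPolynomial.algebraMap_def, MvPolynomial.map_C]
      rw [e1, ← Ideal.comap_comap]
      congr 1
      exact congrArg PrimeSpectrum.asIdeal hq
    have hU₁ : CAlg2.IsGeomUnibranch (Localization.AtPrime (q.asIdeal.comap (algebraMap A₁ B₁))) :=
      isGeomUnibranch_mvPolynomial_localization' _ _ hcomap hU
    haveI : Algebra.QuasiFiniteAt A₁ q.asIdeal := inferInstance
    obtain ⟨Q, hQp, hQle, hQc⟩ := exists_prime_le_of_quasiFiniteAt q.asIdeal
      (isPrime_nilradical_mvPolynomial (Fin n) hB)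
      (isNilpotent_of_isNilpotent_map (Fin n) hker) hU₁.1 y'.asIdeal hle
    refine ⟨⟨Q, hQp⟩, (PrimeSpectrum.le_iff_specializes _ q).mp hQle, PrimeSpectrum.ext hQc⟩
  exact ((Groth.Agent.S3404.result f₁ q).2 hfp₁).mpr hgen

end Ring




open Groth.Agent.Lib.Helper26.UnivOpenAt EGA43


set_option maxHeartbeats 1000000 in
/-- **EGA IV 14.4.1**: a dominant quasi-finite morphism of irreducible schemes over a locally
Noetherian base is universally open at the points over geometrically unibranch points. -/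
theorem isUnivOpenAt_of_quasiFinite_of_isGeomUnibranch {T Y : Scheme.{u}} [IsLocallyNoetherian Y]
    [IrreducibleSpace T] [IrreducibleSpace Y] (h : T ⟶ Y) [LocallyOfFiniteType h]
    [LocallyQuasiFinite h] [IsDominant h] (t : T)
    (hy : CAlg2.IsGeomUnibranch (Y.presheaf.stalk (h.base t))) : IsUnivOpenAt h t := by
  obtain ⟨_, ⟨V, hV : IsAffineOpen V, rfl⟩, hyV, -⟩ :=
    Y.isBasis_affineOpens.exists_subset_of_mem_open (Set.mem_univ (h.base t)) isOpen_univ
  obtain ⟨_, ⟨W, hW : IsAffineOpen W, rfl⟩, hxW, hWV⟩ :=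
    T.isBasis_affineOpens.exists_subset_of_mem_open (show t ∈ ((h ⁻¹ᵁ V : T.Opens) : Set T) from hyV)
      (h ⁻¹ᵁ V).isOpen
  have e : W ≤ h ⁻¹ᵁ V := hWV
  let φ : Γ(Y, V) ⟶ Γ(T, W) := h.appLE V W e
  letI : Algebra Γ(Y, V) Γ(T, W) := φ.hom.toAlgebra
  haveI hN : IsNoetherianRing Γ(Y, V) := IsLocallyNoetherian.component_noetherian ⟨V, hV⟩
  haveI hft : Algebra.FiniteType Γ(Y, V) Γ(T, W) := by
    have := HasRingHomProperty.appLE (P := @LocallyOfFiniteType) h inferInstance ⟨V, hV⟩ ⟨W, hW⟩ e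
    exact (RingHom.finiteType_algebraMap (A := Γ(Y, V)) (B := Γ(T, W))).mp this
  haveI hqf : Algebra.QuasiFinite Γ(Y, V) Γ(T, W) := by
    have := HasRingHomProperty.appLE (P := @LocallyQuasiFinite) h inferInstance ⟨V, hV⟩ ⟨W, hW⟩ e
    exact (RingHom.quasiFinite_algebraMap (R := Γ(Y, V)) (S := Γ(T, W))).mp this
  have hcomm : Spec.map φ ≫ hV.fromSpec = hW.fromSpec ≫ h :=
    IsAffineOpen.SpecMap_appLE_fromSpec h hV hW e
  have hx : t ∈ Set.range hW.fromSpec.base := by
    rw [hW.range_fromSpec]; exact hxW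
  obtain ⟨P, rfl⟩ := hx
  have hfx : h.base (hW.fromSpec.base P) = hV.fromSpec.base ((Spec.map φ).base P) := by
    rw [← Scheme.Hom.comp_apply, ← Scheme.Hom.comp_apply, hcomm]
  have hB : (nilradical Γ(T, W)).IsPrime := by
    rw [← PrimeSpectrum.irreducibleSpace_iff_isPrime_nilradical]
    have hirr : IrreducibleSpace ↥W := Subtype.irreducibleSpace
      ⟨⟨_, hxW⟩, (IrreducibleSpace.isIrreducible_univ T).2.open_subset W.isOpen (Set.subset_univ _)⟩
    exact (hW.isoSpec.hom.homeomorph.irreducibleSpace_iff).mp hirr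
  have hker : ∀ a : Γ(Y, V), IsNilpotent (algebraMap Γ(Y, V) Γ(T, W) a) → IsNilpotent a := by
    intro a ha
    rw [Scheme.isNilpotent_iff_basicOpen_eq_bot_of_isCompact hV.isCompact]
    rw [Scheme.isNilpotent_iff_basicOpen_eq_bot_of_isCompact hW.isCompact] at ha
    have ha' : T.basicOpen (h.appLE V W e a) = ⊥ := ha
    rw [Scheme.basicOpen_appLE] at ha'
    by_contra hne
    have hne' : ((Y.basicOpen a : Y.Opens) : Set Y).Nonempty := by
      rw [Set.nonempty_iff_ne_empty]
      intro h0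
      apply hne
      ext z
      simp only [TopologicalSpace.Opens.coe_bot]
      rw [h0]
    have hWd : Dense (W : Set T) := W.isOpen.dense ⟨_, hxW⟩
    have hfW : Dense (h.base '' (W : Set T)) := h.denseRange.dense_image h.continuous hWd
    obtain ⟨_, hz, ⟨w, hwW, rfl⟩⟩ := hfW.inter_open_nonempty _ (Y.basicOpen a).isOpen hne'
    have : w ∈ ((W ⊓ h ⁻¹ᵁ (Y.basicOpen a) : T.Opens) : Set T) := ⟨hwW, hz⟩
    rw [ha'] at this
    exact this
  have hU : CAlg2.IsGeomUnibranch
      (Localization.AtPrime (P.asIdeal.comap (algebraMap Γ(Y, V) Γ(T, W)))) :=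
    isGeomUnibranch_localization_of_stalk V hV ((Spec.map φ).base P) (hfx ▸ hy)
  have h2 := isUnivOpenAt_SpecMap_of_quasiFinite hB hker P hU
  have h3 : IsUnivOpenAt (Spec.map φ ≫ hV.fromSpec) P :=
    Groth.Agent.S4925.result _ _ _ h2 (isUnivOpenAt_of_universallyOpen _ _)
  rw [hcomm] at h3
  exact Groth.Agent.S4926.result _ _ _ h3




open EGA43

/-- **The map between fibres induced by a base change is open** (for the induced topologies):
for a pullback square and `y : Y`, the image under `fst` of the trace on `snd⁻¹(y)` of an open set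
is the trace on `f⁻¹(g y)` of an open set. -/
theorem exists_isOpen_inter_fibre_eq {P X Y Z : Scheme.{u}} {fst : P ⟶ X} {snd : P ⟶ Y}
    {f : X ⟶ Z} {g : Y ⟶ Z} (sq : IsPullback fst snd f g) (y : Y) (N : Set P) (hN : IsOpen N) :
    ∃ O : Set X, IsOpen O ∧
      O ∩ f.base ⁻¹' {g.base y} = fst.base '' (N ∩ snd.base ⁻¹' {y}) := by
  have key := isPullback_fiberToSpecResidueField_of_isPullback sq y
  set m : snd.fiber y ⟶ f.fiber (g.base y) :=
    pullback.map _ _ _ _ fst (Spec.map (g.residueFieldMap y)) g sq.w.symm (by simp) with hm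
  have hm1 : m ≫ f.fiberι (g.base y) = snd.fiberι y ≫ fst := pullback.lift_fst _ _ _
  haveI : UniversallyOpen m :=
    MorphismProperty.of_isPullback (P := @UniversallyOpen) key.flip inferInstance
  have hopen : IsOpen (m.base '' ((snd.fiberι y).base ⁻¹' N)) :=
    m.isOpenMap _ (hN.preimage (snd.fiberι y).continuous)
  obtain ⟨O, hO, hOeq⟩ := (f.fiberι (g.base y)).isEmbedding.isInducing.isOpen_iff.mp hopen
  refine ⟨O, hO, ?_⟩
  ext x
  constructor
  · rintro ⟨hxO, hxf⟩
    have hxr : x ∈ Set.range (f.fiberι (g.base y)).base := by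
      rw [f.range_fiberι]; exact hxf
    obtain ⟨ζ, rfl⟩ := hxr
    have : ζ ∈ (f.fiberι (g.base y)).base ⁻¹' O := hxO
    rw [hOeq] at this
    obtain ⟨ζ', hζ'N, rfl⟩ := this
    refine ⟨(snd.fiberι y).base ζ', ⟨hζ'N, ?_⟩, ?_⟩
    · have : (snd.fiberι y).base ζ' ∈ Set.range (snd.fiberι y).base := ⟨ζ', rfl⟩
      rw [snd.range_fiberι] at this
      exact this
    · rw [← Scheme.Hom.comp_apply, ← hm1, Scheme.Hom.comp_apply]
  · rintro ⟨p, ⟨hpN, hpy⟩, rfl⟩
    have hpr : p ∈ Set.range (snd.fiberι y).base := by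
      rw [snd.range_fiberι]; exact hpy
    obtain ⟨ζ', rfl⟩ := hpr
    have e1 : fst.base ((snd.fiberι y).base ζ') = (f.fiberι (g.base y)).base (m.base ζ') := by
      rw [← Scheme.Hom.comp_apply, ← hm1, Scheme.Hom.comp_apply]
    rw [e1]
    refine ⟨?_, ?_⟩
    · have : m.base ζ' ∈ (f.fiberι (g.base y)).base ⁻¹' O := by
        rw [hOeq]; exact ⟨ζ', hpN, rfl⟩
      exact this
    · have : (f.fiberι (g.base y)).base (m.base ζ') ∈ Set.range (f.fiberι (g.base y)).base :=
        ⟨_, rfl⟩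
      rw [f.range_fiberι] at this
      exact this

/-- **The locus of points of a fibre at which `f` is universally open is closed in the fibre**
(stated as: a point of the fibre in the closure of a set of such points is such a point). -/
theorem isUnivOpenAt_of_forall_open_exists {X Y : Scheme.{u}} (f : X ⟶ Y) (x : X) (E : Set X)
    (hE : ∀ x₁ ∈ E, f.base x₁ = f.base x ∧ IsUnivOpenAt f x₁)
    (hx : ∀ O : Set X, IsOpen O → x ∈ O → ∃ x₁ ∈ E, x₁ ∈ O) : IsUnivOpenAt f x := by
  intro Y' g x' hx' N' hN'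
  obtain ⟨N, hNN', hNo, hx'N⟩ := mem_nhds_iff.mp hN'
  set y' := (pullback.snd f g).base x' with hy'
  have sq := IsPullback.of_hasPullback f g
  obtain ⟨O, hO, hOeq⟩ := exists_isOpen_inter_fibre_eq sq y' N hNo
  have hfx : f.base x = g.base y' := by
    rw [← hx', ← Scheme.Hom.comp_apply, pullback.condition, Scheme.Hom.comp_apply]
  have hxO : x ∈ O := by
    have : x ∈ (pullback.fst f g).base '' (N ∩ (pullback.snd f g).base ⁻¹' {y'}) :=
      ⟨x', ⟨hx'N, rfl⟩, hx'⟩
    rw [← hOeq] at this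
    exact this.1
  obtain ⟨x₁, hx₁E, hx₁O⟩ := hx O hO hxO
  obtain ⟨hfx₁, hU₁⟩ := hE x₁ hx₁E
  have hx₁mem : x₁ ∈ O ∩ f.base ⁻¹' {g.base y'} := ⟨hx₁O, by
    show f.base x₁ = g.base y'
    rw [hfx₁, hfx]⟩
  rw [hOeq] at hx₁mem
  obtain ⟨x₁', ⟨hx₁'N, hx₁'y⟩, hx₁'⟩ := hx₁mem
  have hopen := hU₁ Y' g x₁' hx₁' N (hNo.mem_nhds hx₁'N)
  have hy₁ : (pullback.snd f g).base x₁' = y' := hx₁'y
  rw [hy₁] at hopen
  exact Filter.mem_of_superset hopen (Set.image_mono hNN')




open EGA43 Groth.Agent.Lib.Helper6.EquiSub Groth.Agent.Lib.Helper4.DimFormula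



/-- a point closed in the fibre of the restriction of `f` to an open subscheme is closed in the
fibre of `f`. -/
theorem closed_in_fibre_of_opens {X Y : Scheme.{u}} (f : X ⟶ Y) [LocallyOfFiniteType f]
    (O : X.Opens) (x₀ : ↥O)
    (hcl : ∀ x' : ↥O, (O.ι ≫ f).base x' = (O.ι ≫ f).base x₀ → x₀ ⤳ x' → x' = x₀) :
    ∀ x' : X, f.base x' = f.base (O.ι.base x₀) → O.ι.base x₀ ⤳ x' → x' = O.ι.base x₀ := by
  intro x' hfx' hsp
  by_contra hne
  have h0 : ptTrdeg (O.ι ≫ f) x₀ = 0 := ptTrdeg_eq_zero_of_closed (O.ι ≫ f) x₀ hcl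
  rw [ptTrdeg_comp_of_isPreimmersion O.ι f x₀] at h0
  have h1 := ptTrdeg_lt_of_specializes f (O.ι.base x₀) x' hfx'.symm hsp (fun h => hne h.symm)
  omega

set_option maxHeartbeats 1000000 in
/-- **Chevalley's criterion at a point, irreducible base**: a morphism equidimensional at `x` over
an irreducible locally Noetherian scheme which is geometrically unibranch at `f x` is universally
open at `x`. -/
theorem isUnivOpenAt_of_isEquidimAt_of_irreducible {X Y : Scheme.{u}} [IrreducibleSpace Y]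
    [IsLocallyNoetherian Y] (f : X ⟶ Y) [LocallyOfFiniteType f] (x : X)
    (hf : IsEquidimAt f x) (hy : CAlg2.IsGeomUnibranch (Y.presheaf.stalk (f.base x))) :
    IsUnivOpenAt f x := by
  obtain ⟨e, U, hxU, h1, h2⟩ := hf
  let E : Set X := {x₁ | x₁ ∈ U ∧ f.base x₁ = f.base x ∧
    ∀ x' : X, f.base x' = f.base x₁ → x₁ ⤳ x' → x' = x₁}
  apply isUnivOpenAt_of_forall_open_exists f x E
  · rintro x₁ ⟨hx₁U, hfx₁, hcl⟩
    refine ⟨hfx₁, ?_⟩
    have hf₁ : IsEquidimAt f x₁ := by
      refine ⟨e, U, hx₁U, ?_, h2⟩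
      intro Z hZ
      obtain ⟨W, hW, hxW, hclW⟩ := h1 Z hZ
      exact ⟨W, hW, hfx₁ ▸ hxW, hclW⟩
    obtain ⟨T, i, hi, hTirr, hTred, ⟨t, rfl⟩, hlft, hlqf, hqc, hdom⟩ :=
      exists_quasiSection f _ hf₁ hcl
    haveI := hi
    haveI := hTirr
    haveI := hlft
    haveI := hlqf
    haveI := hdom
    have hy' : CAlg2.IsGeomUnibranch (Y.presheaf.stalk ((i ≫ f).base t)) := by
      have e1 : (i ≫ f).base t = f.base x := by
        rw [Scheme.Hom.comp_apply]; exact hfx₁
      exact e1 ▸ hy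
    have h3 := isUnivOpenAt_of_quasiFinite_of_isGeomUnibranch (i ≫ f) t hy'
    exact Groth.Agent.S4926.result i f t h3
  · intro O hO hxO
    let O' : X.Opens := ⟨O, hO⟩ ⊓ U
    have hxO' : x ∈ O' := ⟨hxO, hxU⟩
    obtain ⟨x₀, hfx₀, hsp₀, hcl₀⟩ :=
      exists_closed_in_fibre_specialization (O'.ι ≫ f) (⟨x, hxO'⟩ : ↥O')
    have hcl := closed_in_fibre_of_opens f O' x₀
      (fun x' hx' hsp => hcl₀ x' (hx'.trans hfx₀) hsp)
    refine ⟨O'.ι.base x₀, ⟨x₀.2.2, ?_, hcl⟩, x₀.2.1⟩
    have : (O'.ι ≫ f).base x₀ = (O'.ι ≫ f).base (⟨x, hxO'⟩ : ↥O') := hfx₀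
    rw [Scheme.Hom.comp_apply, Scheme.Hom.comp_apply] at this
    exact this


end Groth.Agent.Lib.Helper6.Uni
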