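import Mathlib
import Groth.Prelude.Def_CAlg2
import Groth.Prelude.Def_EGA43
import Groth.Agent.Lib.Helper6UniC
import Groth.Agent.Lib.Helper4DimFormulaAN
import Groth.Agent.Lib.Helper3LocDimBC
import Groth.Agent.Lib.Helper7UnivOpen

/-! # Chevalley's criterion for universal openness (EGA IV 14.4.4), general locally Noetherian base -/

set_option autoImplicit false
set_option linter.style.haveILetI false
universe u
open IsLocalRing CategoryTheory CategoryTheory.Limits AlgebraicGeometry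

namespace Groth.Agent.Lib.Helper6.Uni


open EGA43 Groth.Agent.Lib.Helper6.EquiSub Groth.Agent.Lib.Helper4.DimFormula Groth.Agent.Lib.Helper4.VarDim

/-- a point of a locally Noetherian scheme whose local ring has prime nilradical has an irreducible
open neighbourhood. -/
theorem exists_opens_irreducibleSpace {Y : Scheme.{u}} [IsLocallyNoetherian Y] (y : Y)
    (hy : (nilradical (Y.presheaf.stalk y)).IsPrime) :
    ∃ V : Y.Opens, y ∈ V ∧ IrreducibleSpace ↥V := by
  obtain ⟨U₁, hyU₁, hU₁⟩ := exists_opens_forall_maximal_specializes Y y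
  set ξ₀ : Y := Y.fromSpecStalk y ⟨nilradical (Y.presheaf.stalk y), hy⟩ with hξ₀
  have hξ₀y : ξ₀ ⤳ y := fromSpecStalk_specializes y _
  have hξ₀U : ξ₀ ∈ U₁ := hξ₀y.mem_open U₁.2 hyU₁
  have hmaxeq : ∀ ξ : Y, (∀ ξ' : Y, ξ' ⤳ ξ → ξ' = ξ) → ξ ⤳ y → ξ = ξ₀ := by
    intro ξ hmax hξy
    obtain ⟨𝔮, h𝔮, rfl⟩ := exists_prime_fromSpecStalk_eq hξy
    haveI := h𝔮
    have hle : nilradical (Y.presheaf.stalk y) ≤ 𝔮 := by
      rw [nilradical_eq_sInf]
      exact sInf_le h𝔮
    have := (fromSpecStalk_specializes_iff y (nilradical (Y.presheaf.stalk y)) 𝔮).mpr hle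
    exact (hmax _ this).symm
  have hsub : (U₁ : Set Y) ⊆ closure {ξ₀} := by
    intro z hz
    obtain ⟨ξ, hξ, hξz⟩ := exists_generic_specializes z
    have hξU : ξ ∈ U₁ := hξz.mem_open U₁.2 hz
    have hξmax : ∀ ξ' : Y, ξ' ⤳ ξ → ξ' = ξ := fun ξ' h' => eq_of_specializes_generic ξ ξ' hξ h'
    have := hmaxeq ξ hξmax (hU₁ ξ hξU hξmax)
    rw [← this]
    exact hξz.mem_closure
  refine ⟨U₁, hyU₁, ?_⟩
  exact Subtype.irreducibleSpace
    ⟨⟨_, hyU₁⟩, (isIrreducible_singleton.closure).2.open_subset U₁.isOpen hsub⟩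




open EGA43 Groth.Agent.Lib.Helper6.EquiSub Groth.Agent.Lib.Helper4.DimFormula Groth.Agent.Lib.Helper4.VarDim
open Groth.Agent.Lib.Helper4.Unibranch Groth.Agent.Lib.Helper26.UnivOpenAt


/-- geometric unibranchness of a stalk passes to open subschemes. -/
theorem isGeomUnibranch_stalk_opens {Y : Scheme.{u}} (V : Y.Opens) (y' : ↥V) (y : Y)
    (hyy : V.ι.base y' = y) (hy : CAlg2.IsGeomUnibranch (Y.presheaf.stalk y)) :
    CAlg2.IsGeomUnibranch (V.toScheme.presheaf.stalk y') := by
  subst hyy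
  exact isGeomUnibranch_of_ringEquiv
    (asIso (V.ι.stalkMap y')).commRingCatIsoToRingEquiv hy

/-- the local fibre dimension of the restriction of `f` over an open of the target. -/
theorem fibreDimAt_morphismRestrict {X Y : Scheme.{u}} (f : X ⟶ Y) [LocallyOfFiniteType f]
    (V : Y.Opens) (x' : ↥(f ⁻¹ᵁ V)) :
    FlatMor.fibreDimAt (f ∣_ V) x' = FlatMor.fibreDimAt f x'.1 := by
  have h1 := Groth.Agent.Lib.Helper3.LocDimBC.fibreDimAt_comp_mono (f ∣_ V) V.ι x'
  have h2 := fibreDimAt_opens_ι_comp f (f ⁻¹ᵁ V) x'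
  rw [← h1]
  refine Eq.trans ?_ h2
  congr 1
  exact morphismRestrict_ι f V

/-- equidimensionality at a point passes to the restriction over an open of the target. -/
theorem isEquidimAt_morphismRestrict {X Y : Scheme.{u}} [IsLocallyNoetherian Y] (f : X ⟶ Y)
    [LocallyOfFiniteType f] (V : Y.Opens) (x' : ↥(f ⁻¹ᵁ V)) (hf : IsEquidimAt f x'.1) :
    IsEquidimAt (f ∣_ V) x' := by
  obtain ⟨e, U, hxU, h1, h2⟩ := hf
  haveI : IsLocallyNoetherian X := LocallyOfFiniteType.isLocallyNoetherian f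
  haveI : IsLocallyNoetherian (f ⁻¹ᵁ V).toScheme := inferInstance
  apply isEquidimAt_of_forall_maximal (f ∣_ V) x' e
  · rw [fibreDimAt_morphismRestrict]
    exact fibreDimAt_eq_of_equidim f e U h2 x'.1 hxU
  · intro ξ' hξ'max hξ'x
    set ξ : X := ξ'.1 with hξ
    have hξx : ξ ⤳ x'.1 := hξ'x.map continuous_subtype_val
    have hξU : ξ ∈ U := hξx.mem_open U.2 hxU
    have hξmax : ∀ z : X, z ⤳ ξ → z = ξ := by
      intro z hz
      have hzV : z ∈ f ⁻¹ᵁ V := hz.mem_open (f ⁻¹ᵁ V).2 ξ'.2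
      have h3 : (⟨z, hzV⟩ : ↥(f ⁻¹ᵁ V)) ⤳ ξ' :=
        Topology.IsInducing.subtypeVal.specializes_iff.mp hz
      have := hξ'max _ h3
      exact congrArg Subtype.val this
    constructor
    · have h3 : FlatMor.fibreDimAt (f ∣_ V) ξ' = (e : WithBot ℕ∞) := by
        rw [fibreDimAt_morphismRestrict]
        exact fibreDimAt_eq_of_equidim f e U h2 ξ hξU
      rw [fibreDimAt_eq_ptTrdeg_of_maximal (f ∣_ V) ξ' (fun z _ hz => hξ'max z hz)] at h3
      exact_mod_cast h3
    · -- `f ξ` is a maximal point of `Y`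
      set u : U.toScheme := ⟨ξ, hξU⟩ with hu
      have humax : ∀ z : U.toScheme, z ⤳ u → z = u := by
        intro z hz
        have := hξmax (U.ι z) (hz.map U.ι.continuous)
        exact U.ι.isOpenEmbedding.injective this
      have hZ := mem_irreducibleComponents_of_forall_specializes u humax
      obtain ⟨W, hW, -, hcl⟩ := h1 _ hZ
      have hcl' : closure ({f.base ξ} : Set Y) = W := by
        rw [← hcl, closure_image_closure (U.ι ≫ f).continuous, Set.image_singleton]
        rfl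
      intro y' hy'
      have h6 : V.ι.base ((f ∣_ V).base ξ') = f.base ξ := by
        rw [← Scheme.Hom.comp_apply, morphismRestrict_ι, Scheme.Hom.comp_apply]
        rfl
      have h4 : V.ι.base y' ⤳ f.base ξ := h6 ▸ hy'.map V.ι.continuous
      have h5 := eq_of_specializes_generic (f.base ξ) (V.ι.base y') (by rw [hcl']; exact hW) h4
      exact V.ι.isOpenEmbedding.injective (h5.trans h6.symm)

/-- **Chevalley's criterion at a point** (EGA IV 14.4.4): over a locally Noetherian scheme, a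
morphism locally of finite type which is equidimensional at `x`, with `Y` geometrically unibranch at
`f x`, is universally open at `x`. -/
theorem isUnivOpenAt_of_isEquidimAt {X Y : Scheme.{u}} [IsLocallyNoetherian Y] (f : X ⟶ Y)
    [LocallyOfFiniteType f] (x : X) (hf : IsEquidimAt f x)
    (hy : CAlg2.IsGeomUnibranch (Y.presheaf.stalk (f.base x))) : IsUnivOpenAt f x := by
  have hnil : (nilradical (Y.presheaf.stalk (f.base x))).IsPrime := by
    have := hy.1.1
    exact (Ideal.Quotient.isDomain_iff_prime _).mp this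
  obtain ⟨V, hyV, hirr⟩ := exists_opens_irreducibleSpace (f.base x) hnil
  let x' : ↥(f ⁻¹ᵁ V) := ⟨x, hyV⟩
  have hf' : IsEquidimAt (f ∣_ V) x' := isEquidimAt_morphismRestrict f V x' hf
  have h6 : V.ι.base ((f ∣_ V).base x') = f.base x := by
    rw [← Scheme.Hom.comp_apply, morphismRestrict_ι, Scheme.Hom.comp_apply]
    rfl
  have hy' : CAlg2.IsGeomUnibranch (V.toScheme.presheaf.stalk ((f ∣_ V).base x')) :=
    isGeomUnibranch_stalk_opens V _ _ h6 hy
  haveI : IrreducibleSpace ↥V.toScheme := hirr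
  have h7 : IsUnivOpenAt (f ∣_ V) x' :=
    isUnivOpenAt_of_isEquidimAt_of_irreducible (f ∣_ V) x' hf' hy'
  have h8 : IsUnivOpenAt ((f ∣_ V) ≫ V.ι) x' :=
    Groth.Agent.S4925.result _ _ _ h7 (isUnivOpenAt_of_universallyOpen _ _)
  rw [morphismRestrict_ι] at h8
  exact Groth.Agent.S4926.result _ _ _ h8




open EGA43

/-- a morphism universally open at every point is universally open. -/
theorem universallyOpen_of_forall_isUnivOpenAt {X Y : Scheme.{u}} (f : X ⟶ Y)
    (h : ∀ x : X, IsUnivOpenAt f x) : UniversallyOpen f := by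
  refine ⟨fun X' Y' i₁ i₂ f' sq => ?_⟩
  show IsOpenMap f'.base
  rw [isOpenMap_iff_nhds_le]
  intro p
  rw [Filter.le_map_iff]
  intro s hs
  exact Groth.Agent.Lib.Helper7.isOpenAt_of_isPullback sq.flip (i₁.base p) (h _) p rfl s hs


end Groth.Agent.Lib.Helper6.Uni
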