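import Mathlib
import Groth.Prelude.Def_CAlg2
import Groth.Prelude.Def_EGA43
import Groth.Agent.Lib.Helper6UniD
import Groth.Agent.Lib.Helper4DimFormulaAP
import Groth.Agent.Lib.Helper6OpenDimH

/-! # Criteria for universal openness at the points of a fibre over a geometrically unibranch point
(EGA IV 14.4.8 - 14.4.10) -/

set_option autoImplicit false
set_option linter.style.haveILetI false
universe u
open IsLocalRing CategoryTheory CategoryTheory.Limits AlgebraicGeometry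

namespace Groth.Agent.Lib.Helper6.Uni
section Part0


open EGA43 Groth.Agent.Lib.Helper6.EquiSub Groth.Agent.Lib.Helper4.DimFormula Groth.Agent.Lib.Helper4.VarDim
open Groth.Agent.Lib.Helper4.Unibranch Groth.Agent.Lib.Helper26.UnivOpenAt Groth.Agent.Lib.Helper4.FibDim

/-- the local dimension at `x` of the trace of the range of an embedding on the fibre of `f`
through `x` is the fibre dimension of the composite. -/
theorem localDim_range_inter_fibre {X Y Z : Scheme.{u}} (f : X ⟶ Y) (ι : Z ⟶ X)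
    [IsPreimmersion ι] (T : Set X) (hrange : Set.range ι.base = T) (tx : Z) (hx : ι.base tx ∈ T) :
    FlatMor.localDim ↥(T ∩ f.base ⁻¹' {f.base (ι.base tx)}) ⟨ι.base tx, hx, rfl⟩ =
      FlatMor.fibreDimAt (ι ≫ f) tx := by
  rw [fibreDimAt_eq_fibLD (ι ≫ f) tx]
  have h1 := Groth.Agent.Lib.Helper4.DimFormula.fibLD_comp_isEmbedding f.base ι.base ι.isEmbedding tx
  refine Eq.trans ?_ h1.symm
  have hset : T ∩ f.base ⁻¹' {f.base (ι.base tx)} =
      Set.range ι.base ∩ f.base ⁻¹' {f.base (ι.base tx)} := by rw [hrange]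
  exact localDim_congr_set hset (ι.base tx) ⟨hx, rfl⟩

/-- if `ξ ⤳ x`, `f ξ` is a maximal point of `Y` and
`dim_x (closure {ξ} ∩ f⁻¹(f x)) = trdeg κ(ξ)/κ(f ξ)`, the restriction of `f` to the reduced closed
subscheme `closure {ξ}` is equidimensional at `x`. -/
theorem exists_isEquidimAt_closure_singleton {X Y : Scheme.{u}} [IsLocallyNoetherian Y] (f : X ⟶ Y)
    [LocallyOfFiniteType f] (ξ x : X) (hξx : ξ ⤳ x)
    (hξ : ∀ y' : Y, y' ⤳ f.base ξ → y' = f.base ξ)
    (hdim : FlatMor.localDim ↥(closure {ξ} ∩ f.base ⁻¹' {f.base x}) ⟨x, hξx.mem_closure, rfl⟩ =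
      (ptTrdeg f ξ : WithBot ℕ∞)) :
    ∃ (Z : Scheme.{u}) (ι : Z ⟶ X) (_ : IsClosedImmersion ι) (tx : Z), ι.base tx = x ∧
      IsEquidimAt (ι ≫ f) tx := by
  obtain ⟨Z, ι, hι, hrange⟩ := exists_isClosedImmersion_range_eq X (closure {ξ}) isClosed_closure
  have hx : x ∈ Set.range ι.base := by rw [hrange]; exact hξx.mem_closure
  obtain ⟨tx, rfl⟩ := hx
  have hξr : ξ ∈ Set.range ι.base := by rw [hrange]; exact subset_closure rfl
  obtain ⟨tξ, rfl⟩ := hξr
  have hL := localDim_range_inter_fibre f ι (closure {ι.base tξ}) hrange tx hξx.mem_closure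
  haveI : IsLocallyNoetherian Z := LocallyOfFiniteType.isLocallyNoetherian (ι ≫ f)
  refine ⟨Z, ι, hι, tx, rfl, ?_⟩
  apply isEquidimAt_of_forall_maximal (ι ≫ f) tx (ptTrdeg f (ι.base tξ))
  · rw [← hL]; exact hdim
  · intro ζ hζmax _
    have h1 : ι.base ζ ∈ closure {ι.base tξ} := by rw [← hrange]; exact ⟨ζ, rfl⟩
    have h2 : ι.base tξ ⤳ ι.base ζ := specializes_iff_mem_closure.mpr h1
    have h3 : tξ ⤳ ζ := ι.isEmbedding.isInducing.specializes_iff.mp h2
    have h4 : tξ = ζ := hζmax _ h3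
    subst h4
    refine ⟨Groth.Agent.Lib.Helper4.DimFormula.ptTrdeg_comp_of_isPreimmersion ι f tξ, ?_⟩
    intro y' hy'
    exact hξ y' hy'

/-- **Criterion for universal openness at a point via one irreducible closed subset**: if `ξ ⤳ x`,
`f ξ` is a maximal point of `Y`, `dim_x (closure {ξ} ∩ f⁻¹(f x)) = trdeg κ(ξ)/κ(f ξ)` and `Y` is
geometrically unibranch at `f x`, then `f` is universally open at `x`. -/
theorem isUnivOpenAt_of_closure_singleton {X Y : Scheme.{u}} [IsLocallyNoetherian Y] (f : X ⟶ Y)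
    [LocallyOfFiniteType f] (ξ x : X) (hξx : ξ ⤳ x)
    (hξ : ∀ y' : Y, y' ⤳ f.base ξ → y' = f.base ξ)
    (hdim : FlatMor.localDim ↥(closure {ξ} ∩ f.base ⁻¹' {f.base x}) ⟨x, hξx.mem_closure, rfl⟩ =
      (ptTrdeg f ξ : WithBot ℕ∞))
    (hy : CAlg2.IsGeomUnibranch (Y.presheaf.stalk (f.base x))) : IsUnivOpenAt f x := by
  obtain ⟨Z, ι, hι, tx, rfl, hequi⟩ := exists_isEquidimAt_closure_singleton f ξ x hξx hξ hdim
  have h7 : IsUnivOpenAt (ι ≫ f) tx := isUnivOpenAt_of_isEquidimAt (ι ≫ f) tx hequi hy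
  exact Groth.Agent.S4926.result ι f tx h7

/-- every open neighbourhood of `x` contains a point of the fibre through `x` closed in it. -/
theorem exists_closed_in_fibre_mem_open {X Y : Scheme.{u}} (f : X ⟶ Y) [LocallyOfFiniteType f]
    (x : X) (O : Set X) (hO : IsOpen O) (hxO : x ∈ O) :
    ∃ x₀ : X, x₀ ∈ O ∧ f.base x₀ = f.base x ∧
      ∀ x' : X, f.base x' = f.base x₀ → x₀ ⤳ x' → x' = x₀ := by
  let O' : X.Opens := ⟨O, hO⟩
  have hxO' : x ∈ O' := hxO
  obtain ⟨x₀, hfx₀, hsp₀, hcl₀⟩ :=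
    exists_closed_in_fibre_specialization (O'.ι ≫ f) (⟨x, hxO'⟩ : ↥O')
  have hcl := closed_in_fibre_of_opens f O' x₀
    (fun x' hx' hsp => hcl₀ x' (hx'.trans hfx₀) hsp)
  refine ⟨O'.ι.base x₀, x₀.2, ?_, hcl⟩
  have : (O'.ι ≫ f).base x₀ = (O'.ι ≫ f).base (⟨x, hxO'⟩ : ↥O') := hfx₀
  rw [Scheme.Hom.comp_apply, Scheme.Hom.comp_apply] at this
  exact this

/-- universal openness at the points closed in the fibre implies universal openness on the
fibre. -/
theorem isUnivOpenAt_of_forall_closed {X Y : Scheme.{u}} (f : X ⟶ Y) [LocallyOfFiniteType f]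
    (x : X)
    (h : ∀ x₀ : X, f.base x₀ = f.base x →
      (∀ x' : X, f.base x' = f.base x₀ → x₀ ⤳ x' → x' = x₀) → IsUnivOpenAt f x₀) :
    IsUnivOpenAt f x := by
  apply isUnivOpenAt_of_forall_open_exists f x
    {x₀ | f.base x₀ = f.base x ∧ ∀ x' : X, f.base x' = f.base x₀ → x₀ ⤳ x' → x' = x₀}
  · rintro x₀ ⟨h1, h2⟩
    exact ⟨h1, h x₀ h1 h2⟩
  · intro O hO hxO
    obtain ⟨x₀, hx₀O, h1, h2⟩ := exists_closed_in_fibre_mem_open f x O hO hxO
    exact ⟨x₀, ⟨h1, h2⟩, hx₀O⟩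


end Part0

section Part1


open EGA43 Groth.Agent.Lib.Helper4.DimFormula Groth.Agent.Lib.Helper4.VarDim
open Groth.Agent.Lib.Helper4.FibDim Groth.Agent.Lib.Helper6.OpenDim

/-- a point of the fibre realizing the local fibre dimension is a maximal point of the fibre. -/
theorem exists_maximal_ptTrdeg_eq_fibreDimAt {X Y : Scheme.{u}} (f : X ⟶ Y)
    [LocallyOfFiniteType f] (x : X) :
    ∃ w : X, f.base w = f.base x ∧ w ⤳ x ∧
      (∀ w' : X, f.base w' = f.base w → w' ⤳ w → w' = w) ∧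
      FlatMor.fibreDimAt f x = (ptTrdeg f w : WithBot ℕ∞) := by
  obtain ⟨w, hw, hsp, hfd⟩ := exists_ptTrdeg_eq_fibreDimAt f x
  refine ⟨w, hw, hsp, ?_, hfd⟩
  intro w' hw' hsp'
  by_contra hne
  have h1 := Groth.Agent.Lib.Helper6.EquiSub.ptTrdeg_lt_of_specializes f w' w hw' hsp' hne
  have h2 := (Groth.Agent.Lib.Helper4.DimFormula.ptTrdeg_le_fibreDimAt f w').trans
    (Groth.Agent.Lib.Helper4.DimFormula.fibreDimAt_le_of_specializes f w' x (hsp'.trans hsp))
  rw [hfd] at h2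
  have h3 : ptTrdeg f w' ≤ ptTrdeg f w := by exact_mod_cast h2
  omega

/-- **(b') ⇒ (b)**: if every open neighbourhood of `x` meets the fibre over a maximal point `η` of
`Y` in dimension at least `dim_x (X_{f x})`, then some irreducible component `closure {ξ}` of `X`
through `x` dominates `closure {η}` with
`dim_x (X_{f x}) = dim_x (closure {ξ} ∩ X_{f x}) = trdeg κ(ξ)/κ(η)`. -/
theorem exists_maximal_of_le_dim {X Y : Scheme.{u}} [IsLocallyNoetherian Y] (f : X ⟶ Y)
    [LocallyOfFiniteType f] (x : X) (η : Y) (hη : ∀ y' : Y, y' ⤳ η → y' = η)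
    (h : ∀ U : X.Opens, x ∈ U →
      FlatMor.fibreDimAt f x ≤ topologicalKrullDim ↥((U : Set X) ∩ f.base ⁻¹' {η})) :
    ∃ (ξ : X) (hξx : ξ ⤳ x), (∀ ξ' : X, ξ' ⤳ ξ → ξ' = ξ) ∧ f.base ξ = η ∧
      FlatMor.fibreDimAt f x = (ptTrdeg f ξ : WithBot ℕ∞) ∧
      FlatMor.localDim ↥(closure {ξ} ∩ f.base ⁻¹' {f.base x}) ⟨x, hξx.mem_closure, rfl⟩ =
        (ptTrdeg f ξ : WithBot ℕ∞) := by
  haveI : IsLocallyNoetherian X := LocallyOfFiniteType.isLocallyNoetherian f
  obtain ⟨w₀, -, -, -, hm⟩ := exists_maximal_ptTrdeg_eq_fibreDimAt f x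
  set m : ℕ := ptTrdeg f w₀ with hmdef
  obtain ⟨U₁, hxU₁, hU₁⟩ := exists_opens_forall_maximal_specializes X x
  set U₂ : X.Opens := ⟨{x' : X | FlatMor.fibreDimAt f x' ≤ (m : WithBot ℕ∞)},
    isOpen_setOf_fibreDimAt_le' f _⟩ with hU₂
  have hxU₂ : x ∈ U₂ := by
    change FlatMor.fibreDimAt f x ≤ (m : WithBot ℕ∞)
    rw [hm]
  set U : X.Opens := U₁ ⊓ U₂ with hU
  have hxU : x ∈ U := ⟨hxU₁, hxU₂⟩
  have hdim := h U hxU
  rw [hm] at hdim
  -- a point of `U` over `η` with fibre dimension `m`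
  have hex : ∃ a : X, a ∈ U ∧ f.base a = η ∧ FlatMor.fibreDimAt f a = (m : WithBot ℕ∞) := by
    by_contra hcon
    push Not at hcon
    have hlt : ∀ a : X, a ∈ U → f.base a = η → ∃ k : ℕ, FlatMor.fibreDimAt f a = (k : WithBot ℕ∞) ∧
        k + 1 ≤ m := by
      intro a haU haη
      obtain ⟨w, -, -, -, hk⟩ := exists_maximal_ptTrdeg_eq_fibreDimAt f a
      refine ⟨ptTrdeg f w, hk, ?_⟩
      have h1 : FlatMor.fibreDimAt f a ≤ (m : WithBot ℕ∞) := haU.2
      have h2 := hcon a haU haη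
      rw [hk] at h1 h2
      have h1' : ptTrdeg f w ≤ m := by exact_mod_cast h1
      have h2' : ptTrdeg f w ≠ m := fun h => h2 (by rw [h])
      omega
    by_cases hne : ∃ a : X, a ∈ U ∧ f.base a = η
    · obtain ⟨a₀, ha₀U, ha₀η⟩ := hne
      obtain ⟨k₀, -, hk₀⟩ := hlt a₀ ha₀U ha₀η
      have h3 := topologicalKrullDim_inter_fibre_le f (U : Set X) U.2 η ((m - 1 : ℕ) : WithBot ℕ∞)
        (by
          intro a haU haη
          obtain ⟨k, hk, hkm⟩ := hlt a haU haη
          rw [hk]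
          exact_mod_cast (by omega : k ≤ m - 1))
      have h4 := hdim.trans h3
      have h5 : m ≤ m - 1 := by exact_mod_cast h4
      omega
    · push Not at hne
      have h3 := topologicalKrullDim_inter_fibre_le f (U : Set X) U.2 η ⊥
        (fun a haU haη => absurd haη (hne a haU))
      have h4 := hdim.trans h3
      simp at h4
  obtain ⟨a, haU, haη, hfa⟩ := hex
  obtain ⟨w, hwa, hwsp, hwmax, hwk⟩ := exists_maximal_ptTrdeg_eq_fibreDimAt f a
  have hwU : w ∈ U := hwsp.mem_open U.2 haU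
  have hwη : f.base w = η := hwa.trans haη
  have hwm : ptTrdeg f w = m := by
    rw [hfa] at hwk
    exact_mod_cast hwk.symm
  -- `w` is a maximal point of `X`
  have hwmax' : ∀ ξ' : X, ξ' ⤳ w → ξ' = w := by
    intro ξ' hξ'
    refine hwmax ξ' ?_ hξ'
    have h1 : f.base ξ' ⤳ f.base w := hξ'.map f.continuous
    rw [hwη] at h1 ⊢
    exact hη _ h1
  have hwx : w ⤳ x := hU₁ w hwU.1 hwmax'
  refine ⟨w, hwx, hwmax', hwη, ?_, ?_⟩
  · rw [hm, hwm]
  · obtain ⟨ha', hb'⟩ := localDim_closure_inter_fibre_bounds f w x hwx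
    apply le_antisymm
    · have := hb' m (by rw [hm])
      rwa [hwm]
    · exact ha' w specializes_rfl hwx


end Part1

section Part2


open EGA43 Groth.Agent.Lib.Helper4.DimFormula Groth.Agent.Lib.Helper4.VarDim
open Groth.Agent.Lib.Helper4.FibDim Groth.Agent.Lib.Helper6.OpenDim




theorem closure_image_closure_singleton {X Y : Scheme.{u}} (f : X ⟶ Y) (ξ : X) :
    closure (f.base '' closure {ξ}) = closure {f.base ξ} := by
  rw [closure_image_closure f.continuous, Set.image_singleton]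

theorem localDim_congr_set' {α : Type*} [TopologicalSpace α] {s t : Set α} (h : s = t) (x : α)
    (hx : x ∈ s) (hx' : x ∈ t) : FlatMor.localDim s ⟨x, hx⟩ = FlatMor.localDim t ⟨x, hx'⟩ := by
  subst h; rfl

/-- **(b) ⇒ (a)**, set form. -/
theorem isUnivOpenAt_of_irreducible_closed {X Y : Scheme.{u}} [IsLocallyNoetherian Y] (f : X ⟶ Y)
    [LocallyOfFiniteType f] (x : X) (hy : CAlg2.IsGeomUnibranch (Y.presheaf.stalk (f.base x)))
    (Y₀ : Set Y) (hY₀ : Y₀ ∈ irreducibleComponents (Y : Type u))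
    (Z : Set X) (hZ : IsIrreducible Z) (hZc : IsClosed Z) (hx : x ∈ Z)
    (hcl : closure (f.base '' Z) = Y₀)
    (hdim : ∀ η : Y, closure ({η} : Set Y) = Y₀ →
      FlatMor.localDim ↥(Z ∩ f.base ⁻¹' {f.base x}) ⟨x, ⟨hx, rfl⟩⟩ =
        topologicalKrullDim ↥(Z ∩ f.base ⁻¹' {η})) :
    IsUnivOpenAt f x := by
  obtain ⟨ξ, hξ⟩ := QuasiSober.sober hZ hZc
  have hξcl : closure ({ξ} : Set X) = Z := hξ.def
  subst hξcl
  rw [closure_image_closure_singleton] at hcl
  have hξx : ξ ⤳ x := specializes_iff_mem_closure.mpr hx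
  have hmax : ∀ y' : Y, y' ⤳ f.base ξ → y' = f.base ξ := fun y' hy' =>
    eq_of_specializes_generic _ _ (by rw [hcl]; exact hY₀) hy'
  refine isUnivOpenAt_of_closure_singleton f ξ x hξx hmax ?_ hy
  rw [hdim (f.base ξ) hcl]
  exact topologicalKrullDim_closure_inter_fibre f ξ

/-- **(b') ⇒ (b)**, set form. -/
theorem exists_component_of_le_dim {X Y : Scheme.{u}} [IsLocallyNoetherian Y] (f : X ⟶ Y)
    [LocallyOfFiniteType f] (x : X) (Y₀ : Set Y) (hY₀ : Y₀ ∈ irreducibleComponents (Y : Type u))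
    (η : Y) (hη : closure ({η} : Set Y) = Y₀)
    (h : ∀ U : X.Opens, x ∈ U →
      FlatMor.fibreDimAt f x ≤ topologicalKrullDim ↥((U : Set X) ∩ f.base ⁻¹' {η})) :
    ∃ Z ∈ irreducibleComponents (X : Type u), ∃ hx : x ∈ Z, closure (f.base '' Z) = Y₀ ∧
      ∀ η' : Y, closure ({η'} : Set Y) = Y₀ →
        FlatMor.fibreDimAt f x = FlatMor.localDim ↥(Z ∩ f.base ⁻¹' {f.base x}) ⟨x, ⟨hx, rfl⟩⟩ ∧
        FlatMor.localDim ↥(Z ∩ f.base ⁻¹' {f.base x}) ⟨x, ⟨hx, rfl⟩⟩ =
          topologicalKrullDim ↥(Z ∩ f.base ⁻¹' {η'}) := by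
  have hηmax : ∀ y' : Y, y' ⤳ η → y' = η := fun y' hy' =>
    eq_of_specializes_generic _ _ (by rw [hη]; exact hY₀) hy'
  obtain ⟨ξ, hξx, hξmax, hfξ, hfd, hld⟩ := exists_maximal_of_le_dim f x η hηmax h
  refine ⟨closure {ξ}, mem_irreducibleComponents_of_forall_specializes ξ hξmax, hξx.mem_closure,
    ?_, ?_⟩
  · rw [closure_image_closure_singleton, hfξ, hη]
  · intro η' hη'
    have hηeq : η' = f.base ξ := by
      rw [hfξ]
      exact (inseparable_iff_closure_eq.mpr (hη'.trans hη.symm)).eq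
    subst hηeq
    refine ⟨by rw [hfd, hld], ?_⟩
    rw [hld]
    exact (topologicalKrullDim_closure_inter_fibre f ξ).symm


end Part2

section Part3


open EGA43 Groth.Agent.Lib.Helper4.DimFormula Groth.Agent.Lib.Helper4.VarDim
open Groth.Agent.Lib.Helper4.FibDim Groth.Agent.Lib.Helper6.OpenDim


/-- universal openness at the maximal points of the fibre generizing `x` implies universal
openness at `x`. -/
theorem isUnivOpenAt_of_forall_maximal {X Y : Scheme.{u}} (f : X ⟶ Y) [LocallyOfFiniteType f]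
    (x : X)
    (h : ∀ z : X, f.base z = f.base x → z ⤳ x →
      (∀ z' : X, f.base z' = f.base z → z' ⤳ z → z' = z) → IsUnivOpenAt f z) :
    IsUnivOpenAt f x := by
  apply isUnivOpenAt_of_forall_open_exists f x
    {z | f.base z = f.base x ∧ z ⤳ x ∧ ∀ z' : X, f.base z' = f.base z → z' ⤳ z → z' = z}
  · rintro z ⟨h1, h2, h3⟩
    exact ⟨h1, h z h1 h2 h3⟩
  · intro O hO hxO
    obtain ⟨w, hw, hsp, hmax, -⟩ := exists_maximal_ptTrdeg_eq_fibreDimAt f x
    exact ⟨w, ⟨hw, hsp, hmax⟩, hsp.mem_open hO hxO⟩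

/-- **(c) ⇒ (b')**: if `f` is open at a maximal point `x` of its fibre, every neighbourhood of `x`
meets the fibre over any generization of `f x` in dimension at least `dim_x (X_{f x})`. -/
theorem fibreDimAt_le_dim_inter_fibre_of_isOpenAt {X Y : Scheme.{u}} [IsLocallyNoetherian Y]
    (f : X ⟶ Y) [LocallyOfFiniteType f] (x : X)
    (hmax : ∀ x' : X, f.base x' = f.base x → x' ⤳ x → x' = x) (hopen : IsOpenAt f.base x)
    (U : X.Opens) (hxU : x ∈ U) (y' : Y) (hy' : y' ⤳ f.base x) :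
    FlatMor.fibreDimAt f x ≤ topologicalKrullDim ↥((U : Set X) ∩ f.base ⁻¹' {y'}) := by
  obtain ⟨ξ, hξx, hfξ, -, htξ⟩ := exists_maximal_over_of_isOpenAt f x hmax hopen y' hy'
  subst hfξ
  have hξU : ξ ∈ U := hξx.mem_open U.2 hxU
  rw [fibreDimAt_eq_ptTrdeg_of_maximal f x hmax, ← htξ]
  exact (Groth.Agent.Lib.Helper4.DimFormula.ptTrdeg_le_fibreDimAt f ξ).trans
    (le_topologicalKrullDim_inter_fibre f (U : Set X) U.2 ξ hξU)

/-- **(c) ⇒ (b'')**: if `f` is open at all points over `y`, then for every open `U` of `X` and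
every generization `y'` of `y`, `dim (U ∩ X_y) ≤ dim (U ∩ X_{y'})`. -/
theorem dim_inter_fibre_le_of_isOpenAt {X Y : Scheme.{u}} [IsLocallyNoetherian Y]
    (f : X ⟶ Y) [LocallyOfFiniteType f] (y : Y)
    (hopen : ∀ x : X, f.base x = y → IsOpenAt f.base x) (U : X.Opens) (y' : Y) (hy' : y' ⤳ y) :
    topologicalKrullDim ↥((U : Set X) ∩ f.base ⁻¹' {y}) ≤
      topologicalKrullDim ↥((U : Set X) ∩ f.base ⁻¹' {y'}) := by
  apply topologicalKrullDim_inter_fibre_le f (U : Set X) U.2 y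
  intro x hxU hxy
  subst hxy
  obtain ⟨w, hw, hwsp, hwmax, hfd⟩ := exists_maximal_ptTrdeg_eq_fibreDimAt f x
  have hwU : w ∈ U := hwsp.mem_open U.2 hxU
  have h1 := fibreDimAt_le_dim_inter_fibre_of_isOpenAt f w hwmax (hopen w hw) U hwU y'
    (by rw [hw]; exact hy')
  rw [fibreDimAt_eq_ptTrdeg_of_maximal f w hwmax] at h1
  rw [hfd]
  exact h1

/-- **(b) ⇒ (c)** over an irreducible base: if `f` is open at a maximal point `z` of its fibre,
some irreducible component of `X` through `z` dominates `Y`, with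
`dim_z (Z ∩ X_{f z}) = dim (Z ∩ X_η)`. -/
theorem exists_component_of_isOpenAt_maximal {X Y : Scheme.{u}} [IrreducibleSpace Y]
    [IsLocallyNoetherian Y] (f : X ⟶ Y) [LocallyOfFiniteType f] (z : X)
    (hmax : ∀ x' : X, f.base x' = f.base z → x' ⤳ z → x' = z) (hopen : IsOpenAt f.base z) :
    ∃ Z ∈ irreducibleComponents (X : Type u), ∃ hz : z ∈ Z, Dense (f.base '' Z) ∧
      FlatMor.localDim ↥(Z ∩ f.base ⁻¹' {f.base z}) ⟨z, ⟨hz, rfl⟩⟩ =
        topologicalKrullDim ↥(Z ∩ f.base ⁻¹' {genericPoint Y}) := by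
  obtain ⟨ξ, hξz, hfξ, hξmax, htξ⟩ := exists_maximal_over_of_isOpenAt f z hmax hopen
    (genericPoint ↥Y) (genericPoint_specializes _)
  have hξmax' : ∀ x' : X, x' ⤳ ξ → x' = ξ := by
    intro x' hx'
    refine hξmax x' ?_ hx'
    have h1 : f.base x' ⤳ f.base ξ := hx'.map f.continuous
    rw [hfξ] at h1 ⊢
    exact (h1.antisymm (genericPoint_specializes _)).eq
  have hsub : closure ({z} : Set X) ⊆ closure {ξ} :=
    closure_minimal (Set.singleton_subset_iff.mpr (specializes_iff_mem_closure.mp hξz))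
      isClosed_closure
  refine ⟨closure {ξ}, mem_irreducibleComponents_of_forall_specializes ξ hξmax',
    hξz.mem_closure, ?_, ?_⟩
  · rw [dense_iff_closure_eq]
    apply Set.eq_univ_of_univ_subset
    intro a _
    have h1 : a ∈ closure ({genericPoint ↥Y} : Set Y) := by
      rw [(genericPoint_spec ↥Y).def]; trivial
    have h2 : ({genericPoint ↥Y} : Set Y) ⊆ f.base '' closure {ξ} := by
      rw [Set.singleton_subset_iff]
      exact ⟨ξ, subset_closure rfl, hfξ⟩
    exact closure_mono h2 h1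
  · rw [localDim_eq_ptTrdeg_of_maximal f z hmax _
      (Set.inter_subset_inter hsub le_rfl) Set.inter_subset_right ⟨hξz.mem_closure, rfl⟩,
      ← htξ, ← topologicalKrullDim_closure_inter_fibre f ξ]
    exact topologicalKrullDim_congr_set (by rw [hfξ])


end Part3

end Groth.Agent.Lib.Helper6.Uni
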