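import Mathlib
import Groth.Agent.Lib.Helper6QFAff
import Groth.Agent.Lib.Helper3SmDim
import Groth.Agent.Lib.Helper6FbcA
import Groth.Agent.Lib.Helper6EquiSubC
import Groth.Agent.Lib.Helper6UniE
import Groth.Agent.Lib.Helper3GrpHomQF
import Groth.Agent.Lib.Helper26UnivOpenAt
import Groth.Agent.Lib.Helper4DimFormulaAN

/-!
# EGA IV 13.3.1: equidimensionality at a point and quasi-finite maps to affine space (helper6)
-/

set_option autoImplicit false
set_option linter.style.haveILetI false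
universe u

open TensorProduct PrimeSpectrum TopologicalSpace Topology AlgebraicGeometry CategoryTheory MvPolynomial

namespace Groth.Agent.Lib.Helper6.QFAff

open Groth.Agent.Lib.Helper4.FibDim Groth.Agent.Lib.Helper4.VarDim

/-- the fibres of `𝔸^e_Y ⟶ Y` have local dimension `e` at every point. -/
theorem fibreDimAt_affineSpace (Y : Scheme.{u}) (e : ℕ) (w : 𝔸(ULift.{u} (Fin e); Y)) :
    FlatMor.fibreDimAt (𝔸(ULift.{u} (Fin e); Y) ↘ Y) w = (e : WithBot ℕ∞) := by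
  obtain ⟨_, ⟨V, hV : IsAffineOpen V, rfl⟩, hyV, -⟩ :=
    Y.isBasis_affineOpens.exists_subset_of_mem_open
      (Set.mem_univ ((𝔸(ULift.{u} (Fin e); Y) ↘ Y) w)) isOpen_univ
  have sq := AffineSpace.isPullback_map (n := ULift.{u} (Fin e)) hV.fromSpec
  obtain ⟨p₀, hp₀⟩ : (𝔸(ULift.{u} (Fin e); Y) ↘ Y) w ∈ Set.range hV.fromSpec := by
    rw [hV.range_fromSpec]; exact hyV
  obtain ⟨z, hz1, hz2⟩ :=
    Groth.Agent.Lib.Helper26.UnivOpenAt.exists_preimage_of_isPullback sq w p₀ hp₀.symm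
  haveI : IsOpenImmersion (AffineSpace.map (ULift.{u} (Fin e)) hV.fromSpec) :=
    isOpenImmersion_affineSpace_map _ hV.fromSpec
  let ρ : MvPolynomial (ULift.{u} (Fin e)) Γ(Y, V) ≃ₐ[Γ(Y, V)] MvPolynomial (Fin e) Γ(Y, V) :=
    MvPolynomial.renameEquiv Γ(Y, V) Equiv.ulift
  haveI : IsIso (Spec.map (CommRingCat.ofHom ρ.toRingEquiv.toRingHom)) := by
    have : IsIso (CommRingCat.ofHom ρ.toRingEquiv.toRingHom) :=
      (ρ.toRingEquiv.toCommRingCatIso).isIso_hom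
    infer_instance
  let t : Spec (CommRingCat.of (MvPolynomial (Fin e) Γ(Y, V))) ⟶ 𝔸(ULift.{u} (Fin e); Spec Γ(Y, V)) :=
    toAff (R := Γ(Y, V)) (B := CommRingCat.of (MvPolynomial (Fin e) Γ(Y, V))) ρ.toRingEquiv.toRingHom
  haveI : IsIso t := by
    show IsIso (Spec.map (CommRingCat.ofHom ρ.toRingEquiv.toRingHom) ≫ (AffineSpace.SpecIso _ _).inv)
    infer_instance
  let j : Spec (CommRingCat.of (MvPolynomial (Fin e) Γ(Y, V))) ⟶ 𝔸(ULift.{u} (Fin e); Y) :=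
    t ≫ AffineSpace.map (ULift.{u} (Fin e)) hV.fromSpec
  have hj : j ≫ (𝔸(ULift.{u} (Fin e); Y) ↘ Y) =
      Spec.map (CommRingCat.ofHom (algebraMap Γ(Y, V) (MvPolynomial (Fin e) Γ(Y, V)))) ≫
        hV.fromSpec := by
    show (t ≫ AffineSpace.map (ULift.{u} (Fin e)) hV.fromSpec) ≫ _ = _
    rw [Category.assoc, AffineSpace.map_over, ← Category.assoc, toAff_over]
    congr 3
    refine RingHom.ext (fun r => ?_)
    show ρ (C r) = C r
    exact MvPolynomial.rename_C _ _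
  obtain ⟨z', hz'⟩ : ∃ z', t z' = z := ⟨(inv t) z, by
    rw [← Scheme.Hom.comp_apply, IsIso.inv_hom_id]; rfl⟩
  have hjz : j z' = w := by
    show (t ≫ AffineSpace.map (ULift.{u} (Fin e)) hV.fromSpec) z' = w
    rw [Scheme.Hom.comp_apply, hz', hz1]
  have h2 : ((𝔸(ULift.{u} (Fin e); Y) ↘ Y) : 𝔸(ULift.{u} (Fin e); Y) → Y) ∘
      (j : Spec (CommRingCat.of (MvPolynomial (Fin e) Γ(Y, V))) → 𝔸(ULift.{u} (Fin e); Y)) =
      (hV.fromSpec : Spec Γ(Y, V) → Y) ∘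
        (Spec.map (CommRingCat.ofHom (algebraMap Γ(Y, V) (MvPolynomial (Fin e) Γ(Y, V)))) :
          Spec (CommRingCat.of (MvPolynomial (Fin e) Γ(Y, V))) → Spec Γ(Y, V)) := by
    ext v
    have := congrArg (fun g : Spec (CommRingCat.of (MvPolynomial (Fin e) Γ(Y, V))) ⟶ Y => g v) hj
    simp only [Scheme.Hom.comp_apply] at this
    exact this
  rw [fibreDimAt_eq_fibLD, ← hjz,
    ← fibLD_comp_isOpenEmbedding (𝔸(ULift.{u} (Fin e); Y) ↘ Y) j j.isOpenEmbedding z', h2,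
    fibLD_comp_injective _ _ hV.fromSpec.isOpenEmbedding.injective]
  exact Groth.Agent.Lib.Helper3.SmDim.fibLD_comap_mvPolynomial Γ(Y, V) e z'

/-- generizations lift along `𝔸(σ; Y) ⟶ Y`. -/
theorem exists_specializes_affineSpace_over (σ : Type u) (Y : Scheme.{u}) (w : 𝔸(σ; Y)) (y' : Y)
    (h : y' ⤳ (𝔸(σ; Y) ↘ Y) w) : ∃ w' : 𝔸(σ; Y), w' ⤳ w ∧ (𝔸(σ; Y) ↘ Y) w' = y' :=
  Groth.Agent.Lib.Helper6.OpenDim.exists_specializes_of_isOpenAt (𝔸(σ; Y) ↘ Y) w
    (Groth.Agent.Lib.Helper7.isOpenAt_of_isOpenMap (AffineSpace.isOpenMap_over Y) w) y' h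

open Groth.Agent.Lib.Helper4.DimFormula in
/-- data at the maximal points of the neighbourhood `U` in the definition of `IsEquidimAt`. -/
theorem maximal_data_of_equidim {X Y : Scheme.{u}} (f : X ⟶ Y) [LocallyOfFiniteType f] (e : ℕ)
    (U : X.Opens)
    (h1 : ∀ Z ∈ irreducibleComponents (↥U : Type u),
      ∃ W ∈ irreducibleComponents (Y : Type u), closure ((U.ι ≫ f).base '' Z) = W)
    (h2 : ∀ x' : (↥U : Type u),
      ∀ Z ∈ irreducibleComponents (↥((U.ι ≫ f).fiber ((U.ι ≫ f).base x')) : Type u),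
      topologicalKrullDim (↥Z : Type u) = e)
    (ξ : X) (hξmax : ∀ z : X, z ⤳ ξ → z = ξ) (hξU : ξ ∈ U) :
    ptTrdeg f ξ = e ∧ ∀ y' : Y, y' ⤳ f.base ξ → y' = f.base ξ := by
  constructor
  · have h3 := Groth.Agent.Lib.Helper6.EquiSub.fibreDimAt_eq_of_equidim f e U h2 ξ hξU
    rw [fibreDimAt_eq_ptTrdeg_of_maximal f ξ (fun z _ hz => hξmax z hz)] at h3
    exact_mod_cast h3
  · set u : U.toScheme := ⟨ξ, hξU⟩ with hu
    have humax : ∀ z : U.toScheme, z ⤳ u → z = u := by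
      intro z hz
      have := hξmax (U.ι z) (hz.map U.ι.continuous)
      exact U.ι.isOpenEmbedding.injective this
    have hZ := mem_irreducibleComponents_of_forall_specializes u humax
    obtain ⟨W, hW, hcl⟩ := h1 _ hZ
    have hcl' : closure ({f.base ξ} : Set Y) = W := by
      rw [← hcl, closure_image_closure (U.ι ≫ f).continuous, Set.image_singleton]
      rfl
    intro y' hy'
    exact eq_of_specializes_generic (f.base ξ) y' (by rw [hcl']; exact hW) hy'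

open Groth.Agent.Lib.Helper4.DimFormula in
/-- a locally quasi-finite morphism has relative transcendence degree `0` at every point. -/
theorem ptTrdeg_eq_zero_of_locallyQuasiFinite {X Y : Scheme.{u}} (g : X ⟶ Y) [LocallyOfFiniteType g]
    [LocallyQuasiFinite g] (x : X) : ptTrdeg g x = 0 := by
  have h1 := Groth.Agent.Lib.Helper4.DimFormula.ptTrdeg_le_fibreDimAt g x
  have h2 := (Groth.Agent.Lib.Helper3.GrpHomQF.locallyQuasiFinite_iff_forall_fibreDimAt_le_zero g).mp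
    inferInstance x
  have h3 : (ptTrdeg g x : WithBot ℕ∞) ≤ 0 := h1.trans h2
  have h4 : (ptTrdeg g x : WithBot ℕ∞) ≤ ((0 : ℕ) : WithBot ℕ∞) := h3
  have h5 : ptTrdeg g x ≤ 0 := by exact_mod_cast h4
  omega

open Groth.Agent.Lib.Helper4.DimFormula in
/-- if `g : U ⟶ 𝔸^e_Y` is a locally quasi-finite `Y`-morphism and `u` is a point of `U` with
`ptTrdeg (g ≫ p) u = e` whose image in `Y` is a maximal point, then `g u` is a maximal point. -/
theorem maximal_of_ptTrdeg_eq {U Y : Scheme.{u}} (e : ℕ) (g : U ⟶ 𝔸(ULift.{u} (Fin e); Y))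
    [LocallyOfFiniteType g] [LocallyQuasiFinite g] (u : U)
    (htr : ptTrdeg (g ≫ (𝔸(ULift.{u} (Fin e); Y) ↘ Y)) u = e)
    (hmax : ∀ y' : Y, y' ⤳ (g ≫ (𝔸(ULift.{u} (Fin e); Y) ↘ Y)).base u →
      y' = (g ≫ (𝔸(ULift.{u} (Fin e); Y) ↘ Y)).base u) :
    ∀ w' : 𝔸(ULift.{u} (Fin e); Y), w' ⤳ g.base u → w' = g.base u := by
  intro w' hw'
  by_contra hne
  have h1 : (𝔸(ULift.{u} (Fin e); Y) ↘ Y).base w' = (𝔸(ULift.{u} (Fin e); Y) ↘ Y).base (g.base u) := by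
    have := hmax _ (hw'.map (𝔸(ULift.{u} (Fin e); Y) ↘ Y).continuous)
    exact this
  have h2 := Groth.Agent.Lib.Helper6.EquiSub.ptTrdeg_lt_of_specializes
    (𝔸(ULift.{u} (Fin e); Y) ↘ Y) w' (g.base u) h1 hw' hne
  have h3 : ptTrdeg (𝔸(ULift.{u} (Fin e); Y) ↘ Y) (g.base u) = e := by
    have := ptTrdeg_comp g (𝔸(ULift.{u} (Fin e); Y) ↘ Y) u
    rw [htr, ptTrdeg_eq_zero_of_locallyQuasiFinite g u] at this
    omega
  have h4 : (ptTrdeg (𝔸(ULift.{u} (Fin e); Y) ↘ Y) w' : WithBot ℕ∞) ≤ (e : WithBot ℕ∞) :=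
    (Groth.Agent.Lib.Helper4.DimFormula.ptTrdeg_le_fibreDimAt _ w').trans
      (fibreDimAt_affineSpace Y e w').le
  have h5 : ptTrdeg (𝔸(ULift.{u} (Fin e); Y) ↘ Y) w' ≤ e := by exact_mod_cast h4
  omega

open Groth.Agent.Lib.Helper4.DimFormula in
/-- **EGA IV 13.3.1, a) ⟹ b)**. -/
theorem exists_toAffineSpace_of_isEquidimAt {X Y : Scheme.{u}} (f : X ⟶ Y) [LocallyOfFiniteType f]
    (x : X) (h : EGA43.IsEquidimAt f x) :
    ∃ (e : ℕ) (U : X.Opens) (g : (U : Scheme.{u}) ⟶ 𝔸(ULift.{u} (Fin e); Y)),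
        x ∈ U ∧ g ≫ (𝔸(ULift.{u} (Fin e); Y) ↘ Y) = U.ι ≫ f ∧ LocallyQuasiFinite g ∧
        ∀ Z ∈ irreducibleComponents (↥U : Type u),
          closure (g.base '' Z) ∈ irreducibleComponents (↥𝔸(ULift.{u} (Fin e); Y) : Type u) := by
  obtain ⟨e, U₀, hxU₀, h1, h2⟩ := h
  have hfd : FlatMor.fibreDimAt f x = (e : WithBot ℕ∞) :=
    Groth.Agent.Lib.Helper6.EquiSub.fibreDimAt_eq_of_equidim f e U₀ h2 x hxU₀
  obtain ⟨_, ⟨V : Y.Opens, hV, rfl⟩, hxV, -⟩ :=
    Y.isBasis_affineOpens.exists_subset_of_mem_open (Set.mem_univ (f x)) isOpen_univ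
  replace hV : IsAffineOpen V := hV
  have hxUV : x ∈ U₀ ⊓ f ⁻¹ᵁ V := ⟨hxU₀, hxV⟩
  obtain ⟨_, ⟨W : X.Opens, hW, rfl⟩, hxW, hWUV⟩ :=
    X.isBasis_affineOpens.exists_subset_of_mem_open hxUV (U₀ ⊓ f ⁻¹ᵁ V).2
  replace hW : IsAffineOpen W := hW
  have hWU₀ : W ≤ U₀ := fun a ha => (hWUV ha).1
  have hWV : W ≤ f ⁻¹ᵁ V := fun a ha => (hWUV ha).2
  obtain ⟨g₀, hxg, π, hπ, hqf⟩ := exists_basicOpen_quasiFinite f x hV hW hxW hWV e hfd.le
  haveI := isOpenImmersion_affineSpace_map (ULift.{u} (Fin e)) hV.fromSpec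
  set G : (X.basicOpen g₀ : Scheme.{u}) ⟶ 𝔸(ULift.{u} (Fin e); Y) :=
    π ≫ AffineSpace.map (ULift.{u} (Fin e)) hV.fromSpec with hG
  have hover : G ≫ (𝔸(ULift.{u} (Fin e); Y) ↘ Y) = (X.basicOpen g₀).ι ≫ f := by
    rw [hG, Category.assoc, AffineSpace.map_over, ← hπ]
  haveI hGqf : LocallyQuasiFinite G := by rw [hG]; infer_instance
  haveI hGft : LocallyOfFiniteType G := by
    haveI : LocallyOfFiniteType (G ≫ (𝔸(ULift.{u} (Fin e); Y) ↘ Y)) := by
      rw [hover]; infer_instance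
    exact locallyOfFiniteType_of_comp G (𝔸(ULift.{u} (Fin e); Y) ↘ Y)
  refine ⟨e, X.basicOpen g₀, G, hxg, hover, hGqf, ?_⟩
  show ∀ Z ∈ irreducibleComponents (↥(X.basicOpen g₀).toScheme),
    closure (G.base '' Z) ∈ irreducibleComponents (↥𝔸(ULift.{u} (Fin e); Y) : Type u)
  intro Z hZ
  obtain ⟨u, hu⟩ := QuasiSober.sober hZ.1 (isClosed_of_mem_irreducibleComponents _ hZ)
  have hucl : closure ({u} : Set ↥(X.basicOpen g₀).toScheme) = Z := hu.def
  have humax : ∀ u' : ↥(X.basicOpen g₀).toScheme, u' ⤳ u → u' = u := fun u' hu' =>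
    eq_of_specializes_generic u u' (by rw [hucl]; exact hZ) hu'
  have hξU : (X.basicOpen g₀).ι u ∈ X.basicOpen g₀ := u.2
  have hξmax : ∀ ξ' : X, ξ' ⤳ (X.basicOpen g₀).ι u → ξ' = (X.basicOpen g₀).ι u := by
    intro ξ' hξ'
    have hξ'U : ξ' ∈ X.basicOpen g₀ := hξ'.mem_open (X.basicOpen g₀).2 hξU
    have h1 : (⟨ξ', hξ'U⟩ : ↥(X.basicOpen g₀).toScheme) ⤳ u :=
      (X.basicOpen g₀).ι.isOpenEmbedding.isInducing.specializes_iff.mp hξ'
    have h2 := humax _ h1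
    rw [← h2]
    rfl
  have hξU₀ : (X.basicOpen g₀).ι u ∈ U₀ := hWU₀ (X.basicOpen_le g₀ hξU)
  obtain ⟨htr, hfmax⟩ := maximal_data_of_equidim f e U₀
    (fun Z hZ => by obtain ⟨W, hW, -, hcl⟩ := h1 Z hZ; exact ⟨W, hW, hcl⟩) h2 _ hξmax hξU₀
  have hwmax := maximal_of_ptTrdeg_eq e G u (by
      rw [show G ≫ (𝔸(ULift.{u} (Fin e); Y) ↘ Y) = (X.basicOpen g₀).ι ≫ f from hover,
        ptTrdeg_comp_of_isPreimmersion (X.basicOpen g₀).ι f u]
      exact htr) (by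
      rw [show G ≫ (𝔸(ULift.{u} (Fin e); Y) ↘ Y) = (X.basicOpen g₀).ι ≫ f from hover]
      exact hfmax)
  rw [← hucl, closure_image_closure G.continuous, Set.image_singleton]
  exact mem_irreducibleComponents_of_forall_specializes _ hwmax

open Groth.Agent.Lib.Helper4.DimFormula in
/-- **EGA IV 13.3.1, b) ⟹ a)** over a locally Noetherian base. -/
theorem isEquidimAt_of_toAffineSpace {X Y : Scheme.{u}} [IsLocallyNoetherian Y] (f : X ⟶ Y)
    [LocallyOfFiniteType f] (x : X) (e : ℕ) (U : X.Opens)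
    (g : (U : Scheme.{u}) ⟶ 𝔸(ULift.{u} (Fin e); Y)) (hxU : x ∈ U)
    (hover : g ≫ (𝔸(ULift.{u} (Fin e); Y) ↘ Y) = U.ι ≫ f) [LocallyQuasiFinite g]
    (hcomp : ∀ Z ∈ irreducibleComponents (↥U : Type u),
      closure (g.base '' Z) ∈ irreducibleComponents (↥𝔸(ULift.{u} (Fin e); Y) : Type u)) :
    EGA43.IsEquidimAt f x := by
  haveI : IsLocallyNoetherian X := LocallyOfFiniteType.isLocallyNoetherian f
  haveI hgft : LocallyOfFiniteType g := by
    haveI : LocallyOfFiniteType (g ≫ (𝔸(ULift.{u} (Fin e); Y) ↘ Y)) := by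
      rw [hover]; infer_instance
    exact locallyOfFiniteType_of_comp g (𝔸(ULift.{u} (Fin e); Y) ↘ Y)
  replace hcomp : ∀ Z ∈ irreducibleComponents (↥U.toScheme),
      closure (g.base '' Z) ∈ irreducibleComponents (↥𝔸(ULift.{u} (Fin e); Y) : Type u) := hcomp
  -- transcendence degree at an arbitrary point of `U`
  have htr : ∀ u : U.toScheme, ptTrdeg f (U.ι u) = ptTrdeg (𝔸(ULift.{u} (Fin e); Y) ↘ Y) (g u) := by
    intro u
    rw [← ptTrdeg_comp_of_isPreimmersion U.ι f u, ← hover,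
      ptTrdeg_comp g (𝔸(ULift.{u} (Fin e); Y) ↘ Y) u, ptTrdeg_eq_zero_of_locallyQuasiFinite g u,
      add_zero]
  have hle : ∀ u : U.toScheme, ptTrdeg f (U.ι u) ≤ e := by
    intro u
    rw [htr u]
    have h4 : (ptTrdeg (𝔸(ULift.{u} (Fin e); Y) ↘ Y) (g u) : WithBot ℕ∞) ≤ (e : WithBot ℕ∞) :=
      (Groth.Agent.Lib.Helper4.DimFormula.ptTrdeg_le_fibreDimAt _ (g u)).trans
        (fibreDimAt_affineSpace Y e (g u)).le
    exact_mod_cast h4
  -- the key claim at maximal points of `X` lying in `U`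
  have key : ∀ ξ : X, (∀ ξ' : X, ξ' ⤳ ξ → ξ' = ξ) → ξ ∈ U →
      ptTrdeg f ξ = e ∧ ∀ y' : Y, y' ⤳ f.base ξ → y' = f.base ξ := by
    intro ξ hξmax hξU
    set u : U.toScheme := ⟨ξ, hξU⟩ with hu
    have humax : ∀ z : U.toScheme, z ⤳ u → z = u := by
      intro z hz
      have := hξmax (U.ι z) (hz.map U.ι.continuous)
      exact U.ι.isOpenEmbedding.injective this
    have hZ := mem_irreducibleComponents_of_forall_specializes u humax
    have hW := hcomp _ hZ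
    rw [closure_image_closure g.continuous, Set.image_singleton] at hW
    have hwmax : ∀ w' : 𝔸(ULift.{u} (Fin e); Y), w' ⤳ g u → w' = g u :=
      fun w' hw' => eq_of_specializes_generic (g u) w' hW hw'
    have hfu : (𝔸(ULift.{u} (Fin e); Y) ↘ Y) (g u) = f ξ := by
      have := congrArg (fun φ : U.toScheme ⟶ Y => φ u) hover
      simp only [Scheme.Hom.comp_apply] at this
      exact this
    constructor
    · have h1 := htr u
      have h2 := fibreDimAt_eq_ptTrdeg_of_maximal (𝔸(ULift.{u} (Fin e); Y) ↘ Y) (g u)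
        (fun y _ hy => hwmax y hy)
      rw [fibreDimAt_affineSpace Y e (g u)] at h2
      have h3 : e = ptTrdeg (𝔸(ULift.{u} (Fin e); Y) ↘ Y) (g u) := by exact_mod_cast h2
      show ptTrdeg f (U.ι u) = e
      rw [h1, ← h3]
    · intro y' hy'
      rw [← hfu] at hy' ⊢
      obtain ⟨w', hw', rfl⟩ := exists_specializes_affineSpace_over _ Y (g u) y' hy'
      rw [hwmax w' hw']
  have hfd : FlatMor.fibreDimAt f x = (e : WithBot ℕ∞) := by
    apply le_antisymm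
    · obtain ⟨w₀, -, hw₀x, -, hfd⟩ :=
        Groth.Agent.Lib.Helper6.Uni.exists_maximal_ptTrdeg_eq_fibreDimAt f x
      have hw₀U : w₀ ∈ U := hw₀x.mem_open U.2 hxU
      rw [hfd]
      have := hle ⟨w₀, hw₀U⟩
      exact_mod_cast this
    · obtain ⟨ξ, hξx, hξmax⟩ := Groth.Agent.Lib.Helper4.DimFormula.exists_maximal_specializes X x
      have hξU : ξ ∈ U := hξx.mem_open U.2 hxU
      have h1 := (key ξ hξmax hξU).1
      have h2 := fibreDimAt_eq_ptTrdeg_of_maximal f ξ (fun y _ hy => hξmax y hy)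
      rw [h1] at h2
      rw [← h2]
      exact Groth.Agent.Lib.Helper4.DimFormula.fibreDimAt_le_of_specializes f ξ x hξx
  exact isEquidimAt_of_forall_maximal f x e hfd
    (fun ξ hξmax hξx => key ξ hξmax (hξx.mem_open U.2 hxU))

end Groth.Agent.Lib.Helper6.QFAff
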