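import Mathlib
import Groth.Agent.Lib.Helper5RelCMOpen
import Groth.Agent.Lib.Helper5FibCodepthConstr
import Groth.Agent.Lib.Helper5FiberMor
import Groth.Agent.Lib.Helper5MiracleSch
import Groth.Agent.Lib.Helper5RLR3
import Groth.Agent.Lib.Helper5GrpCM
import Groth.Agent.Lib.Helper6QFAff
import Groth.Agent.Lib.Helper6QFAffB
import Groth.Agent.Lib.Helper4DimFormulaU
import Groth.Agent.Lib.Helper4DimFormulaAD
import Groth.Agent.Lib.Helper4DimFormulaAL
import Groth.Agent.Lib.Helper3LocDimBC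
import Groth.Agent.Lib.Helper3GrpFibDim
import Groth.Agent.Lib.Helper3GrpHomQF
import Groth.Agent.Lib.Helper20FlatDescSch
import Groth.Agent.S2082
import Groth.Agent.S0392
import Groth.Agent.S0386

/-!
# Cohen–Macaulay morphisms and quasi-finite flat maps to affine space (helper5)

EGA IV 15.4.3 / Stacks 37.22: for `f : X ⟶ Y` locally of finite presentation, `f` is
Cohen–Macaulay at `x` (flat at `x` with Cohen–Macaulay fibre) iff an open neighbourhood of `x`
admits a locally quasi-finite `Y`-morphism to an affine space over `Y` which is flat at `x`.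

* `flat_of_regular_of_cm`: ring-level key lemma (miracle flatness + fibrewise criterion).
* `flat_stalkMap_of_isCMAt`: Noetherian base, `g : X ⟶ T` locally quasi-finite over `Y`, the fibre
  of `T ⟶ Y` regular of the same dimension as the (Cohen–Macaulay) fibre of `X ⟶ Y`: `g` flat at `x`.
* `exists_flat_lqf_of_isCMAt`: existence of the flat locally quasi-finite map to affine space.
* `isCMAt_of_lqf_flat`: the converse.
-/

set_option autoImplicit false
set_option linter.style.haveILetI false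
universe u

open CategoryTheory CategoryTheory.Limits AlgebraicGeometry IsLocalRing TensorProduct

namespace Groth.Agent.Lib.Helper5.CMAffSp

open Groth.Agent.Lib.Helper5.FiberMor Groth.Agent.Lib.Helper5.FiberStalk
  Groth.Agent.Lib.Helper5.FiberRing Groth.Agent.Lib.Helper5.CodepthFib
  Groth.Agent.Lib.Helper5.RelCMOpen Groth.Agent.Lib.Helper5 LocCoh

section Ring

variable {A B C : Type u} [CommRing A] [CommRing B] [CommRing C]
  [IsLocalRing A] [IsLocalRing B] [IsLocalRing C]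
  [IsNoetherianRing A] [IsNoetherianRing B] [IsNoetherianRing C]
  [Algebra A B] [Algebra B C] [Algebra A C] [IsScalarTower A B C]
  [IsLocalHom (algebraMap A B)] [IsLocalHom (algebraMap B C)]

/-- Let `A → B → C` be local homomorphisms of Noetherian local rings with `C` flat over `A`. If
`B/m_A B` is regular, `C/m_A C` is Cohen–Macaulay of the same dimension and `C/m_B C` has
dimension `0`, then `C` is flat over `B`. -/
theorem flat_of_regular_of_cm [Module.Flat A C]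
    (hreg : IsRegularLocalRing (B ⧸ (maximalIdeal A).map (algebraMap A B)))
    (hcm : LocCoh.IsCohenMacaulayLocalRing (C ⧸ (maximalIdeal A).map (algebraMap A C)))
    (hdim : ringKrullDim (C ⧸ (maximalIdeal A).map (algebraMap A C)) =
      ringKrullDim (B ⧸ (maximalIdeal A).map (algebraMap A B)))
    (hfib : ringKrullDim (C ⧸ (maximalIdeal B).map (algebraMap B C)) ≤ 0) :
    Module.Flat B C := by
  set I : Ideal B := (maximalIdeal A).map (algebraMap A B) with hI
  set J : Ideal C := I.map (algebraMap B C) with hJ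
  have e₀ : J = (maximalIdeal A).map (algebraMap A C) := by
    rw [hJ, hI, Ideal.map_map, ← IsScalarTower.algebraMap_eq A B C]
  have hIle : I ≤ maximalIdeal B := IsLocalRing.map_maximalIdeal_le (algebraMap A B)
  have hJle : J ≤ maximalIdeal C :=
    (Ideal.map_mono hIle).trans (IsLocalRing.map_maximalIdeal_le (algebraMap B C))
  haveI : Nontrivial (C ⧸ J) := Ideal.Quotient.nontrivial_iff.mpr
    (ne_top_of_le_ne_top (maximalIdeal.isMaximal C).ne_top hJle)
  haveI : Nontrivial (B ⧸ I) := Ideal.Quotient.nontrivial_iff.mpr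
    (ne_top_of_le_ne_top (maximalIdeal.isMaximal B).ne_top hIle)
  haveI hl1 : IsLocalHom (Ideal.Quotient.mk J) :=
    IsLocalHom.of_surjective _ Ideal.Quotient.mk_surjective
  haveI hl2 : IsLocalHom (Ideal.Quotient.mk I) :=
    IsLocalHom.of_surjective _ Ideal.Quotient.mk_surjective
  haveI : IsLocalHom (algebraMap (B ⧸ I) (C ⧸ J)) := by
    constructor
    intro a ha
    obtain ⟨b, rfl⟩ := Ideal.Quotient.mk_surjective a
    have h1 : IsUnit (Ideal.Quotient.mk J (algebraMap B C b)) := ha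
    have h2 : IsUnit (algebraMap B C b) := isUnit_of_map_unit (Ideal.Quotient.mk J) _ h1
    exact (isUnit_of_map_unit (algebraMap B C) b h2).map (Ideal.Quotient.mk I)
  let eS : (C ⧸ J) ≃+* (C ⧸ (maximalIdeal A).map (algebraMap A C)) := Ideal.quotEquivOfEq e₀
  haveI hcmS : LocCoh.IsCohenMacaulayLocalRing (C ⧸ J) := isoInv_cm _ _ eS.symm hcm
  haveI : IsRegularLocalRing (B ⧸ I) := hreg
  have hmR : ∀ b ∈ maximalIdeal B, Ideal.Quotient.mk I b ∈ maximalIdeal (B ⧸ I) := by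
    intro b hb
    rw [mem_maximalIdeal, mem_nonunits_iff]
    intro hu
    exact hb (isUnit_of_map_unit (Ideal.Quotient.mk I) b hu)
  set K : Ideal (C ⧸ J) := (maximalIdeal (B ⧸ I)).map (algebraMap (B ⧸ I) (C ⧸ J)) with hK
  have hKle : K ≤ maximalIdeal (C ⧸ J) :=
    IsLocalRing.map_maximalIdeal_le (algebraMap (B ⧸ I) (C ⧸ J))
  haveI : Nontrivial ((C ⧸ J) ⧸ K) := Ideal.Quotient.nontrivial_iff.mpr
    (ne_top_of_le_ne_top (maximalIdeal.isMaximal (C ⧸ J)).ne_top hKle)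
  have h0 : ringKrullDim ((C ⧸ J) ⧸ K) = 0 := by
    refine le_antisymm ?_ ringKrullDim_nonneg_of_nontrivial
    refine le_trans ?_ hfib
    have hker : ∀ c ∈ (maximalIdeal B).map (algebraMap B C),
        ((Ideal.Quotient.mk K).comp (Ideal.Quotient.mk J)) c = 0 := by
      have hle : (maximalIdeal B).map (algebraMap B C) ≤
          RingHom.ker ((Ideal.Quotient.mk K).comp (Ideal.Quotient.mk J)) := by
        rw [Ideal.map_le_iff_le_comap]
        intro b hb
        rw [Ideal.mem_comap, RingHom.mem_ker, RingHom.comp_apply, Ideal.Quotient.eq_zero_iff_mem]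
        exact Ideal.mem_map_of_mem (algebraMap (B ⧸ I) (C ⧸ J)) (hmR b hb)
      intro c hc
      exact RingHom.mem_ker.mp (hle hc)
    exact ringKrullDim_le_of_surjective (Ideal.Quotient.lift _ _ hker)
      (Ideal.Quotient.lift_surjective_of_surjective _ hker
        (Ideal.Quotient.mk_surjective.comp Ideal.Quotient.mk_surjective))
  have hdimS : ringKrullDim (C ⧸ J) = ringKrullDim (B ⧸ I) + ringKrullDim ((C ⧸ J) ⧸ K) := by
    rw [h0, add_zero, ringKrullDim_eq_of_ringEquiv eS, hdim]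
  haveI hflRS : Module.Flat (B ⧸ I) (C ⧸ J) := Groth.Agent.S2082.result hdimS
  have h : Module.Flat (B ⧸ I) ((B ⧸ I) ⊗[B] C) :=
    Module.Flat.of_linearEquiv
      (Algebra.TensorProduct.quotIdealMapEquivQuotTensor C I).symm.toLinearEquiv
  exact (Groth.Agent.S0392.result (R := A) (S := B) (S' := C) (M := C) h).2

end Ring

section Basics

/-- the local ring of `Spec R` at a point is regular if `R` is a regular ring. -/
theorem isRegularLocalRing_stalk_spec (R : Type u) [CommRing R] [IsRegularRing R]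
    (p : ↥(Spec (CommRingCat.of R))) :
    IsRegularLocalRing ((Spec (CommRingCat.of R)).presheaf.stalk p) := by
  letI : Algebra R ((Spec (CommRingCat.of R)).presheaf.stalk p) := StructureSheaf.stalkAlgebra R p
  haveI : IsLocalization.AtPrime ((Spec (CommRingCat.of R)).presheaf.stalk p) p.asIdeal :=
    StructureSheaf.IsLocalization.to_stalk R p
  exact IsRegularLocalRing.of_ringEquiv
    (IsLocalization.algEquiv p.asIdeal.primeCompl (Localization.AtPrime p.asIdeal)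
      ((Spec (CommRingCat.of R)).presheaf.stalk p)).toRingEquiv

theorem isRegularLocalRing_stalk_of_iso {Z : Scheme.{u}} (R : Type u) [CommRing R]
    [IsRegularRing R] (Φ : Z ≅ Spec (CommRingCat.of R)) (z : Z) :
    IsRegularLocalRing (Z.presheaf.stalk z) := by
  haveI := isRegularLocalRing_stalk_spec R (Φ.hom z)
  exact IsRegularLocalRing.of_ringEquiv (asIso (Φ.hom.stalkMap z)).commRingCatIsoToRingEquiv

/-- the fibres of `𝔸^n_Y ⟶ Y` have regular local rings. -/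
theorem isRegularLocalRing_fiber_affineSpace (n : Type u) [Finite n] (Y : Scheme.{u}) (y : Y)
    (z : ((𝔸(n; Y) ↘ Y).fiber y : Scheme.{u})) :
    IsRegularLocalRing (((𝔸(n; Y) ↘ Y).fiber y).presheaf.stalk z) := by
  have sq := AffineSpace.isPullback_map (n := n) (Y.fromSpecResidueField y)
  let Φ : (𝔸(n; Y) ↘ Y).fiber y ≅
      Spec (CommRingCat.of (MvPolynomial n (Y.residueField y))) :=
    sq.isoPullback.symm ≪≫ AffineSpace.SpecIso n (Y.residueField y)
  exact isRegularLocalRing_stalk_of_iso (MvPolynomial n (Y.residueField y)) Φ z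

set_option backward.isDefEq.respectTransparency.types false in
/-- affine space over `S` is flat over `S`. -/
theorem flat_affineSpace_over (n : Type u) (S : Scheme.{u}) : Flat (𝔸(n; S) ↘ S) :=
  MorphismProperty.pullback_fst _ _ <| by
  have := isIso_of_isTerminal specULiftZIsTerminal.{u} terminalIsTerminal (terminal.from _)
  rw [← terminal.comp_from (Spec.map (CommRingCat.ofHom MvPolynomial.C)),
    MorphismProperty.cancel_right_of_respectsIso (P := @Flat),
    HasRingHomProperty.Spec_iff (P := @Flat), CommRingCat.hom_ofHom,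
    ← MvPolynomial.algebraMap_eq, RingHom.flat_algebraMap_iff]
  infer_instance

theorem isLocallyNoetherian_fiber {X Y : Scheme.{u}} (f : X ⟶ Y) [LocallyOfFiniteType f] (y : Y) :
    IsLocallyNoetherian (f.fiber y) := by
  haveI : LocallyOfFiniteType (f.fiberToSpecResidueField y) := by
    dsimp only [Scheme.Hom.fiberToSpecResidueField]
    exact MorphismProperty.pullback_snd (P := @LocallyOfFiniteType) f _ inferInstance
  exact LocallyOfFiniteType.isLocallyNoetherian (f.fiberToSpecResidueField y)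

theorem isCMAt_comp_openImmersion_iff {X Y U : Scheme.{u}} (f : X ⟶ Y) (j : U ⟶ X)
    [IsOpenImmersion j] (u : U) :
    MoreMor.IsCMAt (j ≫ f) u ↔ MoreMor.IsCMAt f (j u) :=
  and_congr
    (Groth.Agent.Lib.Helper20.FlatDesc.stalkMap_comp_iff_left (Q := fun φ => RingHom.Flat φ)
      RingHom.Flat.respectsIso j f u)
    (fiber_stalk_openImmersion_iff f isoInv_cm j u)

/-- move a map defined on the source of an open immersion `j : U ⟶ X` to an open of `X`. -/
theorem exists_opens_of_openImmersion {X Y T U : Scheme.{u}} (f : X ⟶ Y) (p : T ⟶ Y) (j : U ⟶ X)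
    [IsOpenImmersion j] (g : U ⟶ T) (hover : g ≫ p = j ≫ f) (x : X) (hx : x ∈ Set.range j)
    (hfl : Flat g) (hqf : LocallyQuasiFinite g) :
    ∃ (U' : X.Opens) (g' : (U' : Scheme.{u}) ⟶ T), x ∈ U' ∧ g' ≫ p = U'.ι ≫ f ∧ Flat g' ∧
      LocallyQuasiFinite g' := by
  refine ⟨j.opensRange, j.isoOpensRange.inv ≫ g, hx, ?_, inferInstance, inferInstance⟩
  rw [Category.assoc, hover, ← Category.assoc, Scheme.Hom.isoOpensRange_inv_comp]

end Basics

section Main

open Groth.Agent.Lib.Helper4.DimFormula Groth.Agent.Lib.Helper6.QFAff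
  Groth.Agent.Lib.Helper5.MiracleSch Groth.Agent.Lib.Helper5.GrpCM

/-- **Key step.** `Y` locally Noetherian, `g : X ⟶ T` locally quasi-finite, `π : T ⟶ Y` locally of
finite type whose fibre through `g x` is regular at `g x` of local dimension `d`. If `g ≫ π` is
Cohen–Macaulay at `x` with fibre of local dimension `d` at `x`, then `g` is flat at `x`. -/
theorem flat_stalkMap_of_isCMAt {X T Y : Scheme.{u}} [IsLocallyNoetherian Y] (g : X ⟶ T)
    (π : T ⟶ Y) [LocallyOfFiniteType g] [LocallyOfFiniteType π] [LocallyQuasiFinite g] (x : X)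
    (d : ℕ) (hdπ : FlatMor.fibreDimAt π (g x) = d)
    (hreg : IsRegularLocalRing ((π.fiber (π (g x))).presheaf.stalk (π.asFiber (g x))))
    (hcm : MoreMor.IsCMAt (g ≫ π) x) (hd : FlatMor.fibreDimAt (g ≫ π) x = d) :
    (g.stalkMap x).hom.Flat := by
  haveI : IsLocallyNoetherian T := LocallyOfFiniteType.isLocallyNoetherian π
  haveI : IsLocallyNoetherian X := LocallyOfFiniteType.isLocallyNoetherian g
  obtain ⟨eπ⟩ := nonempty_stalk_asFiber_equiv π (g x)
  obtain ⟨eg⟩ := nonempty_stalk_asFiber_equiv g x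
  obtain ⟨egπ⟩ := nonempty_stalk_asFiber_equiv (g ≫ π) x
  letI iAB : Algebra (Y.presheaf.stalk (π (g x))) (T.presheaf.stalk (g x)) :=
    (π.stalkMap (g x)).hom.toAlgebra
  letI iBC : Algebra (T.presheaf.stalk (g x)) (X.presheaf.stalk x) := (g.stalkMap x).hom.toAlgebra
  letI iAC : Algebra (Y.presheaf.stalk (π (g x))) (X.presheaf.stalk x) :=
    ((g.stalkMap x).hom.comp (π.stalkMap (g x)).hom).toAlgebra
  haveI : IsScalarTower (Y.presheaf.stalk (π (g x))) (T.presheaf.stalk (g x))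
      (X.presheaf.stalk x) := IsScalarTower.of_algebraMap_eq (fun _ => rfl)
  haveI : IsLocalHom (algebraMap (Y.presheaf.stalk (π (g x))) (T.presheaf.stalk (g x))) :=
    inferInstanceAs (IsLocalHom (π.stalkMap (g x)).hom)
  haveI : IsLocalHom (algebraMap (T.presheaf.stalk (g x)) (X.presheaf.stalk x)) :=
    inferInstanceAs (IsLocalHom (g.stalkMap x).hom)
  have hflAC : ((g.stalkMap x).hom.comp (π.stalkMap (g x)).hom).Flat := by
    have h := hcm.1
    rw [Scheme.Hom.stalkMap_comp] at h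
    exact h
  haveI : Module.Flat (Y.presheaf.stalk (π (g x))) (X.presheaf.stalk x) := hflAC
  have hI : (maximalIdeal (Y.presheaf.stalk ((g ≫ π) x))).map ((g ≫ π).stalkMap x).hom =
      (maximalIdeal (Y.presheaf.stalk (π (g x)))).map
        (algebraMap (Y.presheaf.stalk (π (g x))) (X.presheaf.stalk x)) := by
    rw [Scheme.Hom.stalkMap_comp]
    rfl
  let egπ' := egπ.trans (Ideal.quotEquivOfEq hI)
  -- dimensions
  have e1 := fibreDimAt_eq_stalk_add_ptTrdeg (g ≫ π) x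
  have e2 := fibreDimAt_eq_stalk_add_ptTrdeg π (g x)
  have e3 := fibreDimAt_eq_stalk_add_ptTrdeg g x
  have ht := ptTrdeg_comp g π x
  have ht0 := ptTrdeg_eq_zero_of_locallyQuasiFinite g x
  have hqf0 := (Groth.Agent.Lib.Helper3.GrpHomQF.locallyQuasiFinite_iff_forall_fibreDimAt_le_zero
    g).mp inferInstance x
  rw [hd] at e1
  rw [hdπ] at e2
  rw [ht0, Nat.cast_zero, add_zero] at e3
  obtain ⟨n1, hn1, hn1'⟩ := exists_nat_of_add_eq e1.symm
  obtain ⟨n2, hn2, hn2'⟩ := exists_nat_of_add_eq e2.symm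
  have hn : n1 = n2 := by omega
  have hdim : ringKrullDim (X.presheaf.stalk x ⧸ (maximalIdeal (Y.presheaf.stalk (π (g x)))).map
        (algebraMap (Y.presheaf.stalk (π (g x))) (X.presheaf.stalk x))) =
      ringKrullDim (T.presheaf.stalk (g x) ⧸ (maximalIdeal (Y.presheaf.stalk (π (g x)))).map
        (algebraMap (Y.presheaf.stalk (π (g x))) (T.presheaf.stalk (g x)))) := by
    rw [← ringKrullDim_eq_of_ringEquiv egπ', hn1, hn]
    rw [← hn2]
    exact ringKrullDim_eq_of_ringEquiv eπ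
  have hfib : ringKrullDim (X.presheaf.stalk x ⧸ (maximalIdeal (T.presheaf.stalk (g x))).map
      (algebraMap (T.presheaf.stalk (g x)) (X.presheaf.stalk x))) ≤ 0 := by
    have h1 : ringKrullDim (X.presheaf.stalk x ⧸ (maximalIdeal (T.presheaf.stalk (g x))).map
      (algebraMap (T.presheaf.stalk (g x)) (X.presheaf.stalk x))) =
        ringKrullDim ((g.fiber (g x)).presheaf.stalk (g.asFiber x)) :=
      (ringKrullDim_eq_of_ringEquiv eg).symm
    rw [h1, ← e3]
    exact hqf0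
  haveI := hreg
  have hregB : IsRegularLocalRing (T.presheaf.stalk (g x) ⧸
      (maximalIdeal (Y.presheaf.stalk (π (g x)))).map
        (algebraMap (Y.presheaf.stalk (π (g x))) (T.presheaf.stalk (g x)))) :=
    IsRegularLocalRing.of_ringEquiv eπ
  have hcmC : LocCoh.IsCohenMacaulayLocalRing (X.presheaf.stalk x ⧸
      (maximalIdeal (Y.presheaf.stalk (π (g x)))).map
        (algebraMap (Y.presheaf.stalk (π (g x))) (X.presheaf.stalk x))) :=
    isoInv_cm _ _ egπ' hcm.2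
  have key : Module.Flat (T.presheaf.stalk (g x)) (X.presheaf.stalk x) :=
    flat_of_regular_of_cm (A := Y.presheaf.stalk (π (g x))) hregB hcmC hdim hfib
  exact key

/-- general form of the converse: `g` flat and quasi-finite at `x`, `π` flat with regular fibre
at `g x`: then `g ≫ π` is Cohen–Macaulay at `x`. -/
theorem isCMAt_comp_of_regular_of_lqf {X T Y : Scheme.{u}} (g : X ⟶ T) (π : T ⟶ Y)
    [LocallyOfFiniteType g] [LocallyOfFiniteType π] [LocallyQuasiFinite g] (x : X)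
    (hfl : (g.stalkMap x).hom.Flat) (hπfl : (π.stalkMap (g x)).hom.Flat)
    (hreg : IsRegularLocalRing ((π.fiber (π (g x))).presheaf.stalk (π.asFiber (g x)))) :
    MoreMor.IsCMAt (g ≫ π) x := by
  refine ⟨flat_comp g π x hfl hπfl, ?_⟩
  haveI : IsLocallyNoetherian (π.fiber (π (g x))) := isLocallyNoetherian_fiber π _
  haveI : IsLocallyNoetherian ((g ≫ π).fiber ((g ≫ π) x)) := isLocallyNoetherian_fiber (g ≫ π) _
  haveI : IsLocallyNoetherian (g.fiber (g x)) := isLocallyNoetherian_fiber g _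
  refine (comp_iff' g π x flatLocalIff_cm isoInv_cm hfl).mpr ⟨?_, ?_⟩
  · haveI := hreg
    exact isCohenMacaulayLocalRing_of_isRegularLocalRing _
  · apply cm_of_ringKrullDim_eq_zero
    have e3 := fibreDimAt_eq_stalk_add_ptTrdeg g x
    rw [ptTrdeg_eq_zero_of_locallyQuasiFinite g x, Nat.cast_zero, add_zero] at e3
    have hqf0 := (Groth.Agent.Lib.Helper3.GrpHomQF.locallyQuasiFinite_iff_forall_fibreDimAt_le_zero
      g).mp inferInstance x
    refine le_antisymm ?_ ringKrullDim_nonneg_of_nontrivial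
    rw [← e3]
    exact hqf0

/-- the converse direction: a locally quasi-finite `Y`-morphism to affine space, flat at `x`,
forces `f` to be Cohen–Macaulay at `x`. -/
theorem isCMAt_of_lqf_flat {X Y : Scheme.{u}} (f : X ⟶ Y) [LocallyOfFiniteType f] (x : X) (n : ℕ)
    (U : X.Opens) (hx : x ∈ U) (g : (U : Scheme.{u}) ⟶ 𝔸(ULift.{u} (Fin n); Y))
    (hover : g ≫ (𝔸(ULift.{u} (Fin n); Y) ↘ Y) = U.ι ≫ f)
    (hqf : LocallyQuasiFinite g) (hfl : (g.stalkMap ⟨x, hx⟩).hom.Flat) : MoreMor.IsCMAt f x := by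
  have key : MoreMor.IsCMAt (g ≫ (𝔸(ULift.{u} (Fin n); Y) ↘ Y)) ⟨x, hx⟩ := by
    haveI : LocallyOfFiniteType (g ≫ (𝔸(ULift.{u} (Fin n); Y) ↘ Y)) := by
      rw [hover]; infer_instance
    haveI : LocallyOfFiniteType g := locallyOfFiniteType_of_comp g (𝔸(ULift.{u} (Fin n); Y) ↘ Y)
    haveI := flat_affineSpace_over (ULift.{u} (Fin n)) Y
    exact isCMAt_comp_of_regular_of_lqf g _ ⟨x, hx⟩ hfl (Flat.stalkMap _ _)
      (isRegularLocalRing_fiber_affineSpace _ Y _ _)
  rw [hover] at key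
  exact (isCMAt_comp_openImmersion_iff f U.ι ⟨x, hx⟩).mp key

/-- existence over a locally Noetherian base. -/
theorem exists_flat_lqf_of_isCMAt_noeth {X Y : Scheme.{u}} [IsLocallyNoetherian Y] (f : X ⟶ Y)
    [LocallyOfFiniteType f] (x : X) (d : ℕ)
    (hcm : MoreMor.IsCMAt f x) (hd : FlatMor.fibreDimAt f x = d) :
    ∃ (U : X.Opens) (g : (U : Scheme.{u}) ⟶ 𝔸(ULift.{u} (Fin d); Y)), x ∈ U ∧
      g ≫ (𝔸(ULift.{u} (Fin d); Y) ↘ Y) = U.ι ≫ f ∧ Flat g ∧ LocallyQuasiFinite g := by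
  obtain ⟨_, ⟨V : Y.Opens, hV, rfl⟩, hyV, -⟩ :=
    Y.isBasis_affineOpens.exists_subset_of_mem_open (Set.mem_univ (f x)) isOpen_univ
  obtain ⟨U, hU, hxU, g₁, π₁, h1, h2, hqf, hft⟩ :=
    exists_affine_nhd_quasiFinite f x V hV hyV d hd.le
  haveI := isOpenImmersion_affineSpace_map (ULift.{u} (Fin d)) V.ι
  obtain ⟨g, hg⟩ : ∃ g : (U : Scheme.{u}) ⟶ 𝔸(ULift.{u} (Fin d); Y),
      g = π₁ ≫ AffineSpace.map (ULift.{u} (Fin d)) V.ι := ⟨_, rfl⟩
  have hover : g ≫ (𝔸(ULift.{u} (Fin d); Y) ↘ Y) = U.ι ≫ f := by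
    rw [hg, Category.assoc, AffineSpace.map_over, ← Category.assoc, h2, h1]
  haveI hgqf : LocallyQuasiFinite g := by rw [hg]; infer_instance
  haveI : LocallyOfFiniteType (g ≫ (𝔸(ULift.{u} (Fin d); Y) ↘ Y)) := by
    rw [hover]; infer_instance
  haveI hgft : LocallyOfFiniteType g := locallyOfFiniteType_of_comp g (𝔸(ULift.{u} (Fin d); Y) ↘ Y)
  have hx' : (g.stalkMap ⟨x, hxU⟩).hom.Flat := by
    refine flat_stalkMap_of_isCMAt g (𝔸(ULift.{u} (Fin d); Y) ↘ Y) ⟨x, hxU⟩ d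
      (fibreDimAt_affineSpace Y d _) (isRegularLocalRing_fiber_affineSpace _ Y _ _) ?_ ?_
    · rw [hover]
      exact (isCMAt_comp_openImmersion_iff f U.ι ⟨x, hxU⟩).mpr hcm
    · rw [hover, fibreDimAt_opens_ι_comp]
      exact hd
  haveI : IsLocallyNoetherian (𝔸(ULift.{u} (Fin d); Y)) :=
    LocallyOfFiniteType.isLocallyNoetherian (𝔸(ULift.{u} (Fin d); Y) ↘ Y)
  haveI : LocallyOfFinitePresentation g :=
    LocallyOfFinitePresentation.iff_locallyOfFiniteType.mpr hgft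
  let W : (U : Scheme.{u}).Opens := ⟨{u | (g.stalkMap u).hom.Flat}, Groth.Agent.S0386.result g⟩
  have hxW : (⟨x, hxU⟩ : (U : Scheme.{u})) ∈ W := hx'
  haveI : Flat (W.ι ≫ g) := by
    rw [Flat.iff_flat_stalkMap]
    intro w
    have hw : (g.stalkMap (W.ι w)).hom.Flat := w.2
    exact (Groth.Agent.Lib.Helper20.FlatDesc.stalkMap_comp_iff_left
      (Q := fun φ => RingHom.Flat φ) RingHom.Flat.respectsIso W.ι g w).mpr hw
  refine exists_opens_of_openImmersion f (𝔸(ULift.{u} (Fin d); Y) ↘ Y) (W.ι ≫ U.ι) (W.ι ≫ g) ?_ x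
    ⟨⟨⟨x, hxU⟩, hxW⟩, rfl⟩ inferInstance inferInstance
  rw [Category.assoc, hover, Category.assoc]

/-- existence for flat morphisms locally of finite presentation, by reduction to a base of finite
type over `ℤ`. -/
theorem exists_flat_lqf_of_isCMAt_of_flat {X Y : Scheme.{u}} (f : X ⟶ Y)
    [LocallyOfFinitePresentation f] [Flat f] (x : X) (d : ℕ)
    (hcm : MoreMor.IsCMAt f x) (hd : FlatMor.fibreDimAt f x = d) :
    ∃ (U : X.Opens) (g : (U : Scheme.{u}) ⟶ 𝔸(ULift.{u} (Fin d); Y)), x ∈ U ∧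
      g ≫ (𝔸(ULift.{u} (Fin d); Y) ↘ Y) = U.ι ≫ f ∧ Flat g ∧ LocallyQuasiFinite g := by
  obtain ⟨_, ⟨V : Y.Opens, hV, rfl⟩, hxV, -⟩ := Y.isBasis_affineOpens.exists_subset_of_mem_open
      (Set.mem_univ (f x)) isOpen_univ
  obtain ⟨_, ⟨U : X.Opens, hU, rfl⟩, hxU, hUV⟩ := X.isBasis_affineOpens.exists_subset_of_mem_open
      hxV (f ⁻¹ᵁ V).2
  haveI : IsAffine (U : Scheme.{u}) := hU
  haveI : IsAffine (V : Scheme.{u}) := hV
  obtain ⟨f₁, hres, _, _⟩ : ∃ f₁ : (U : Scheme.{u}) ⟶ (V : Scheme.{u}),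
      f₁ ≫ V.ι = U.ι ≫ f ∧ LocallyOfFinitePresentation f₁ ∧ Flat f₁ :=
    ⟨f.resLE V U hUV, Scheme.Hom.resLE_comp_ι _ _, inferInstance, inferInstance⟩
  obtain ⟨A₀, B₀, _, _, _, xZ, yZ, hA₀, hfp₀, hfl₀, hpb₀⟩ := exists_flat_int_model f₁
  obtain ⟨φ, hpb, _, _⟩ : ∃ φ : Spec (CommRingCat.of B₀) ⟶ Spec (CommRingCat.of A₀),
      IsPullback xZ f₁ φ yZ ∧ LocallyOfFinitePresentation φ ∧ Flat φ := by
    refine ⟨_, hpb₀, ?_, ?_⟩
    · rw [LocallyOfFinitePresentation.SpecMap_iff, CommRingCat.hom_ofHom,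
        RingHom.finitePresentation_algebraMap]
      exact hfp₀
    · rw [HasRingHomProperty.Spec_iff (P := @Flat), CommRingCat.hom_ofHom,
        RingHom.flat_algebraMap_iff]
      exact hfl₀
  haveI : IsNoetherianRing A₀ := Algebra.FiniteType.isNoetherianRing ℤ A₀
  haveI : IsLocallyNoetherian (Spec (CommRingCat.of A₀)) := inferInstance
  obtain ⟨x₁, hx₁⟩ : ∃ x₁ : (U : Scheme.{u}), U.ι x₁ = x := ⟨⟨x, hxU⟩, rfl⟩
  have hp : IsPullback (𝟙 (U : Scheme.{u})) f₁ (f₁ ≫ V.ι) V.ι := by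
    have h0 : IsPullback (𝟙 (U : Scheme.{u})) f₁ f₁ (𝟙 (V : Scheme.{u})) :=
      IsPullback.of_horiz_isIso ⟨by simp⟩
    have := h0.paste_vert (IsKernelPair.id_of_mono V.ι)
    simpa using this
  have hcm1 : MoreMor.IsCMAt (f₁ ≫ V.ι) x₁ := by
    rw [hres, isCMAt_comp_openImmersion_iff, hx₁]
    exact hcm
  have hd1 : FlatMor.fibreDimAt (f₁ ≫ V.ι) x₁ = d := by
    rw [hres, fibreDimAt_opens_ι_comp, hx₁]
    exact hd
  have hcm2 : LocCoh.IsCohenMacaulayLocalRing
      ((f₁.fiber (f₁ x₁)).presheaf.stalk (f₁.asFiber x₁)) :=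
    (cm_fiber_bc_iff hp x₁ x₁ rfl).mpr hcm1.2
  have hd2 : FlatMor.fibreDimAt f₁ x₁ = d := by
    rw [Groth.Agent.Lib.Helper3.LocDimBC.fibreDimAt_eq_of_isPullback (f₁ ≫ V.ι) V.ι (𝟙 _) f₁ hp x₁]
    exact hd1
  have hcm3 : MoreMor.IsCMAt φ (xZ x₁) :=
    ⟨Flat.stalkMap φ (xZ x₁), (cm_fiber_bc_iff hpb x₁ (xZ x₁) rfl).mp hcm2⟩
  have hd3 : FlatMor.fibreDimAt φ (xZ x₁) = d := by
    rw [← Groth.Agent.Lib.Helper3.LocDimBC.fibreDimAt_eq_of_isPullback φ yZ xZ f₁ hpb x₁]
    exact hd2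
  obtain ⟨U₂, g₂, hxU₂, hover₂, hfl₂, hqf₂⟩ :=
    exists_flat_lqf_of_isCMAt_noeth φ (xZ x₁) d hcm3 hd3
  have sqtop := (isPullback_morphismRestrict xZ U₂).paste_vert hpb
  have sqA := AffineSpace.isPullback_map (n := ULift.{u} (Fin d)) yZ
  obtain ⟨g₁, hg₁a, hg₁b⟩ : ∃ g₁ : ((xZ ⁻¹ᵁ U₂ : (U : Scheme.{u}).Opens) : Scheme.{u}) ⟶
      𝔸(ULift.{u} (Fin d); (V : Scheme.{u})),
      g₁ ≫ AffineSpace.map (ULift.{u} (Fin d)) yZ = (xZ ∣_ U₂) ≫ g₂ ∧
      g₁ ≫ (𝔸(ULift.{u} (Fin d); (V : Scheme.{u})) ↘ (V : Scheme.{u})) = (xZ ⁻¹ᵁ U₂).ι ≫ f₁ := by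
    have hw : ((xZ ∣_ U₂) ≫ g₂) ≫ (𝔸(ULift.{u} (Fin d); Spec (CommRingCat.of A₀)) ↘
        Spec (CommRingCat.of A₀)) = ((xZ ⁻¹ᵁ U₂).ι ≫ f₁) ≫ yZ := by
      rw [Category.assoc, hover₂]
      exact sqtop.w
    exact ⟨sqA.lift _ _ hw, sqA.lift_fst _ _ hw, sqA.lift_snd _ _ hw⟩
  have big : IsPullback (xZ ∣_ U₂)
      (g₁ ≫ (𝔸(ULift.{u} (Fin d); (V : Scheme.{u})) ↘ (V : Scheme.{u})))
      (g₂ ≫ (𝔸(ULift.{u} (Fin d); Spec (CommRingCat.of A₀)) ↘ Spec (CommRingCat.of A₀))) yZ := by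
    rw [hg₁b, hover₂]
    exact sqtop
  have sqg : IsPullback (xZ ∣_ U₂) g₁ g₂ (AffineSpace.map (ULift.{u} (Fin d)) yZ) :=
    IsPullback.of_bot big hg₁a.symm sqA
  haveI : Flat g₁ := MorphismProperty.of_isPullback (P := @Flat) sqg hfl₂
  haveI : LocallyQuasiFinite g₁ := MorphismProperty.of_isPullback (P := @LocallyQuasiFinite) sqg hqf₂
  haveI := isOpenImmersion_affineSpace_map (ULift.{u} (Fin d)) V.ι
  refine exists_opens_of_openImmersion f (𝔸(ULift.{u} (Fin d); Y) ↘ Y) ((xZ ⁻¹ᵁ U₂).ι ≫ U.ι)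
    (g₁ ≫ AffineSpace.map (ULift.{u} (Fin d)) V.ι) ?_ x ⟨⟨x₁, hxU₂⟩, hx₁⟩ inferInstance inferInstance
  calc (g₁ ≫ AffineSpace.map (ULift.{u} (Fin d)) V.ι) ≫ (𝔸(ULift.{u} (Fin d); Y) ↘ Y)
      = g₁ ≫ ((𝔸(ULift.{u} (Fin d); (V : Scheme.{u})) ↘ (V : Scheme.{u})) ≫ V.ι) := by
        rw [Category.assoc, AffineSpace.map_over]
    _ = ((xZ ⁻¹ᵁ U₂).ι ≫ f₁) ≫ V.ι := by rw [← Category.assoc, hg₁b]
    _ = ((xZ ⁻¹ᵁ U₂).ι ≫ U.ι) ≫ f := by rw [Category.assoc, hres, Category.assoc]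

/-- **EGA IV 15.4.3, a) ⇒ b)**: if `f` (locally of finite presentation) is Cohen–Macaulay at `x`
and the fibre has local dimension `d` at `x`, then an open neighbourhood of `x` admits a flat,
locally quasi-finite `Y`-morphism to `𝔸^d_Y`. -/
theorem exists_flat_lqf_of_isCMAt {X Y : Scheme.{u}} (f : X ⟶ Y) [LocallyOfFinitePresentation f]
    (x : X) (d : ℕ) (hcm : MoreMor.IsCMAt f x) (hd : FlatMor.fibreDimAt f x = d) :
    ∃ (U : X.Opens) (g : (U : Scheme.{u}) ⟶ 𝔸(ULift.{u} (Fin d); Y)), x ∈ U ∧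
      g ≫ (𝔸(ULift.{u} (Fin d); Y) ↘ Y) = U.ι ≫ f ∧ Flat g ∧ LocallyQuasiFinite g := by
  let W₀ : X.Opens := ⟨{x | MoreMor.IsCMAt f x}, isOpen_isCMAt f⟩
  haveI : Flat (W₀.ι ≫ f) := by
    rw [Flat.iff_flat_stalkMap]
    intro w
    have hw : MoreMor.IsCMAt f (W₀.ι w) := w.2
    exact (Groth.Agent.Lib.Helper20.FlatDesc.stalkMap_comp_iff_left
      (Q := fun φ => RingHom.Flat φ) RingHom.Flat.respectsIso W₀.ι f w).mpr hw.1
  obtain ⟨x₀, hx₀⟩ : ∃ x₀ : (W₀ : Scheme.{u}), W₀.ι x₀ = x := ⟨⟨x, hcm⟩, rfl⟩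
  obtain ⟨U₀, g₀, hxU₀, hover₀, hfl₀, hqf₀⟩ :=
    exists_flat_lqf_of_isCMAt_of_flat (W₀.ι ≫ f) x₀ d
      (by rw [isCMAt_comp_openImmersion_iff, hx₀]; exact hcm)
      (by rw [fibreDimAt_opens_ι_comp, hx₀]; exact hd)
  refine exists_opens_of_openImmersion f _ (U₀.ι ≫ W₀.ι) g₀ ?_ x ⟨⟨x₀, hxU₀⟩, hx₀⟩ hfl₀ hqf₀
  rw [hover₀, Category.assoc]

end Main

end Groth.Agent.Lib.Helper5.CMAffSp
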