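import Mathlib
import Groth.Prelude.Def_BlowUp2
import Groth.Prelude.Def_CAlgX
import Groth.Agent.Lib.Helper2BlowThickAlg
import Groth.Agent.Lib.Helper2BlowQRSm
import Groth.Agent.Lib.Helper5RLR2
import Groth.Agent.Lib.Helper6SmReg
import Groth.Agent.Lib.Helper19FSField
import Groth.Agent.S5802

/-!
# Néron blow-up `A[𝔭/π]` of a smooth algebra stays smooth (helper13)

Namespace `Groth.Agent.Helper13NeronBlow`.
* `theta`, `isLocalization_theta`: the affine blow-up algebra commutes with localization of the base.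
* `formallySmooth_residueField_tensor`: fibre criterion plumbing.
* `exists_quasiRegular_of_notMem_sq`: regular system of parameters containing a given element.
* `formallySmooth_chart`: the fibre of the chart is a polynomial ring over the residue field.
-/

set_option autoImplicit false
set_option linter.style.haveILetI false
universe u

namespace Groth.Agent.Helper13NeronBlow


open Groth.Agent.Lib.Helper2.BlowThickAlg

section Compare

variable {A : Type u} [CommRing A] (I : Ideal A) (a : A) (B : Type u) [CommRing B] [Algebra A B]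

/-- the map `A_a → B_a` -/
noncomputable def iota : Localization.Away a →+* Localization.Away (algebraMap A B a) :=
  Localization.awayMap (algebraMap A B) a

theorem iota_algebraMap (x : A) :
    iota a B (algebraMap A (Localization.Away a) x) =
      algebraMap B (Localization.Away (algebraMap A B a)) (algebraMap A B x) := by
  unfold iota Localization.awayMap IsLocalization.Away.map
  exact IsLocalization.map_eq _ x

theorem iota_invSelf :
    iota a B (IsLocalization.Away.invSelf a) = IsLocalization.Away.invSelf (algebraMap A B a) := by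
  have h1 : iota a B (algebraMap A (Localization.Away a) a) *
      iota a B (IsLocalization.Away.invSelf a) = 1 := by
    rw [← map_mul, IsLocalization.Away.mul_invSelf, map_one]
  rw [iota_algebraMap] at h1
  have h2 := IsLocalization.Away.mul_invSelf (S := Localization.Away (algebraMap A B a))
    (algebraMap A B a)
  calc iota a B (IsLocalization.Away.invSelf a)
      = (IsLocalization.Away.invSelf (algebraMap A B a) *
          algebraMap B (Localization.Away (algebraMap A B a)) (algebraMap A B a)) *
          iota a B (IsLocalization.Away.invSelf a) := by rw [mul_comm _ (algebraMap B _ _), h2, one_mul]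
    _ = IsLocalization.Away.invSelf (algebraMap A B a) *
          (algebraMap B (Localization.Away (algebraMap A B a)) (algebraMap A B a) *
          iota a B (IsLocalization.Away.invSelf a)) := by ring
    _ = _ := by rw [h1, mul_one]

theorem iota_fr (n : ℕ) (c : A) :
    iota a B (fr a n c) = fr (algebraMap A B a) n (algebraMap A B c) := by
  rw [fr_apply, fr_apply, map_mul, map_pow, iota_algebraMap, iota_invSelf]

theorem iota_mem (ha : a ∈ I) (x : Localization.Away a) (hx : x ∈ BlowUp.affineAlgebra A I a) :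
    iota a B x ∈ BlowUp.affineAlgebra B (I.map (algebraMap A B)) (algebraMap A B a) := by
  obtain ⟨n, c, hc, rfl⟩ := exists_rep I a ha x hx
  rw [iota_fr]
  apply fr_mem
  rw [← Ideal.map_pow]
  exact Ideal.mem_map_of_mem _ hc

/-- the comparison map `A[I/a] → B[IB/a]` -/
noncomputable def theta (ha : a ∈ I) : BlowUp.affineAlgebra A I a →+*
    BlowUp.affineAlgebra B (I.map (algebraMap A B)) (algebraMap A B a) :=
  ((iota a B).comp (BlowUp.affineAlgebra A I a).val.toRingHom).codRestrict
    (BlowUp.affineAlgebra B (I.map (algebraMap A B)) (algebraMap A B a))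
    (fun x => iota_mem I a B ha x.1 x.2)

theorem coe_theta (ha : a ∈ I) (x : BlowUp.affineAlgebra A I a) :
    ((theta I a B ha x : BlowUp.affineAlgebra B (I.map (algebraMap A B)) (algebraMap A B a)) :
      Localization.Away (algebraMap A B a)) = iota a B (x : Localization.Away a) := rfl

theorem theta_algebraMap (ha : a ∈ I) (x : A) :
    theta I a B ha (algebraMap A (BlowUp.affineAlgebra A I a) x) =
      algebraMap B (BlowUp.affineAlgebra B (I.map (algebraMap A B)) (algebraMap A B a))
        (algebraMap A B x) := by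
  apply Subtype.ext
  rw [coe_theta, Subalgebra.coe_algebraMap, Subalgebra.coe_algebraMap, iota_algebraMap]

end Compare




open Groth.Agent.Lib.Helper2.BlowThickAlg

section Compare

variable {A : Type u} [CommRing A] (I : Ideal A) (a : A) (B : Type u) [CommRing B] [Algebra A B]

theorem isLocalization_theta (M : Submonoid A) [IsLocalization M B] (ha : a ∈ I) :
    letI := (theta I a B ha).toAlgebra
    IsLocalization (M.map (algebraMap A (BlowUp.affineAlgebra A I a)))
      (BlowUp.affineAlgebra B (I.map (algebraMap A B)) (algebraMap A B a)) := by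
  letI := (theta I a B ha).toAlgebra
  refine (isLocalization_iff _ _).2 ⟨?_, ?_, ?_⟩
  · rintro ⟨_, m, hm, rfl⟩
    show IsUnit (theta I a B ha (algebraMap A _ m))
    rw [theta_algebraMap]
    exact (IsLocalization.map_units B ⟨m, hm⟩).map _
  · intro β
    obtain ⟨n, c, hc, hβ⟩ := exists_rep (I.map (algebraMap A B)) (algebraMap A B a)
      (Ideal.mem_map_of_mem _ ha) β.1 β.2
    rw [← Ideal.map_pow] at hc
    obtain ⟨⟨c₀, m⟩, h⟩ := (IsLocalization.mem_map_algebraMap_iff M B).1 hc
    refine ⟨(⟨fr a n c₀, fr_mem I a n c₀ c₀.2⟩, ⟨algebraMap A _ m, m, m.2, rfl⟩), ?_⟩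
    show β * theta I a B ha (algebraMap A _ (m : A)) = theta I a B ha ⟨fr a n c₀, _⟩
    rw [theta_algebraMap]
    apply Subtype.ext
    rw [coe_theta]
    show (β : Localization.Away (algebraMap A B a)) *
      ((algebraMap B (BlowUp.affineAlgebra B (I.map (algebraMap A B)) (algebraMap A B a))
        (algebraMap A B m) : BlowUp.affineAlgebra B (I.map (algebraMap A B)) (algebraMap A B a)) :
        Localization.Away (algebraMap A B a)) = iota a B (fr a n c₀)
    rw [Subalgebra.coe_algebraMap, iota_fr, hβ, fr_apply, fr_apply, ← h, map_mul]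
    ring
  · intro x y hxy
    have hxy' : theta I a B ha x = theta I a B ha y := hxy
    obtain ⟨n, u, hu, hx⟩ := exists_rep I a ha x.1 x.2
    obtain ⟨n', v, hv, hy⟩ := exists_rep I a ha y.1 y.2
    have h1 : iota a B (x : Localization.Away a) = iota a B (y : Localization.Away a) := by
      rw [← coe_theta I a B ha, ← coe_theta I a B ha, hxy']
    rw [hx, hy, iota_fr, iota_fr] at h1
    obtain ⟨k, hk⟩ := eq_of_rep_eq (algebraMap A B a) _ _ _ _ h1
    simp only [← map_pow, ← map_mul] at hk
    obtain ⟨m, hm⟩ := (IsLocalization.eq_iff_exists M B).1 hk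
    refine ⟨⟨algebraMap A _ (m : A), m, m.2, rfl⟩, ?_⟩
    apply Subtype.ext
    show ((algebraMap A (BlowUp.affineAlgebra A I a) (m : A) : BlowUp.affineAlgebra A I a) :
      Localization.Away a) * (x : Localization.Away a) = 
      ((algebraMap A (BlowUp.affineAlgebra A I a) (m : A) : BlowUp.affineAlgebra A I a) :
      Localization.Away a) * (y : Localization.Away a)
    rw [Subalgebra.coe_algebraMap, hx, hy, ← fr_mul, ← fr_mul,
      ← fr_raise a (↑m * u) n (n' + k), ← fr_raise a (↑m * v) n' (n + k)]
    have e1 : n + (n' + k) = n' + (n + k) := by omega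
    rw [e1]
    congr 1
    calc (m : A) * u * a ^ (n' + k) = m * (a ^ k * (u * a ^ n')) := by ring
      _ = m * (a ^ k * (v * a ^ n)) := by rw [hm]
      _ = _ := by ring

end Compare




open TensorProduct IsLocalRing

section FS

variable {R S₀ S : Type u} [CommRing R] [IsLocalRing R] [CommRing S₀] [CommRing S]
  [Algebra R S₀] [Algebra R S] [Algebra S₀ S] [IsScalarTower R S₀ S]

theorem ker_includeRight_le :
    RingHom.ker (Algebra.TensorProduct.includeRight :
      S →ₐ[R] (R ⧸ maximalIdeal R) ⊗[R] S).toRingHom ≤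
      (maximalIdeal R).map (algebraMap R S) := by
  intro b hb
  rw [RingHom.mem_ker] at hb
  have h1 : Algebra.TensorProduct.quotIdealMapEquivQuotTensor S (maximalIdeal R)
      (Ideal.Quotient.mk _ b) = 0 := by
    rw [Algebra.TensorProduct.quotIdealMapEquivQuotTensor_mk]
    exact hb
  have h2 := (Algebra.TensorProduct.quotIdealMapEquivQuotTensor S (maximalIdeal R)).injective
    (h1.trans (map_zero _).symm)
  exact Ideal.Quotient.eq_zero_iff_mem.1 h2

theorem includeRight_surjective :
    Function.Surjective (Algebra.TensorProduct.includeRight :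
      S →ₐ[R] (R ⧸ maximalIdeal R) ⊗[R] S) := by
  intro z
  induction z using TensorProduct.induction_on with
  | zero => exact ⟨0, map_zero _⟩
  | tmul x y =>
    obtain ⟨r, rfl⟩ := Ideal.Quotient.mk_surjective x
    refine ⟨r • y, ?_⟩
    rw [Algebra.TensorProduct.includeRight_apply, TensorProduct.tmul_smul,
      TensorProduct.smul_tmul']
    congr 1
    rw [Algebra.smul_def, mul_one]
    rfl
  | add x y hx hy =>
    obtain ⟨x', rfl⟩ := hx
    obtain ⟨y', rfl⟩ := hy
    exact ⟨x' + y', map_add _ _ _⟩

/-- If `S` is a localization of `S₀` and `S₀/mS₀` is formally smooth over `R/m`, then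
`k ⊗ S` is formally smooth over `k`. -/
theorem formallySmooth_residueField_tensor (N : Submonoid S₀) [IsLocalization N S]
    (h : Algebra.FormallySmooth (R ⧸ maximalIdeal R)
      (S₀ ⧸ (maximalIdeal R).map (algebraMap R S₀))) :
    Algebra.FormallySmooth (ResidueField R) (ResidueField R ⊗[R] S) := by
  show Algebra.FormallySmooth (R ⧸ maximalIdeal R) ((R ⧸ maximalIdeal R) ⊗[R] S)
  obtain ⟨J, hJ⟩ : ∃ J : Ideal S₀, J = (maximalIdeal R).map (algebraMap R S₀) := ⟨_, rfl⟩
  -- the map `S₀/J → k ⊗ S`
  let σ : S₀ →+* (R ⧸ maximalIdeal R) ⊗[R] S :=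
    (Algebra.TensorProduct.includeRight :
      S →ₐ[R] (R ⧸ maximalIdeal R) ⊗[R] S).toRingHom.comp (algebraMap S₀ S)
  have hσ : ∀ x ∈ (maximalIdeal R).map (algebraMap R S₀), σ x = 0 := by
    intro x hx
    have : (maximalIdeal R).map (algebraMap R S₀) ≤ RingHom.ker σ := by
      rw [Ideal.map_le_iff_le_comap]
      intro r hr
      rw [Ideal.mem_comap, RingHom.mem_ker]
      show (1 : R ⧸ maximalIdeal R) ⊗ₜ[R] (algebraMap S₀ S (algebraMap R S₀ r)) = 0
      rw [← IsScalarTower.algebraMap_apply, Algebra.algebraMap_eq_smul_one,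
        TensorProduct.tmul_smul, TensorProduct.smul_tmul']
      have : r • (1 : R ⧸ maximalIdeal R) = 0 := by
        rw [Algebra.smul_def, mul_one]
        exact Ideal.Quotient.eq_zero_iff_mem.2 hr
      rw [this, TensorProduct.zero_tmul]
    exact this hx
  let σb : (S₀ ⧸ (maximalIdeal R).map (algebraMap R S₀)) →+* (R ⧸ maximalIdeal R) ⊗[R] S :=
    Ideal.Quotient.lift _ σ hσ
  have hcomp : algebraMap (R ⧸ maximalIdeal R) ((R ⧸ maximalIdeal R) ⊗[R] S) =
      σb.comp (algebraMap (R ⧸ maximalIdeal R) (S₀ ⧸ (maximalIdeal R).map (algebraMap R S₀))) := by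
    apply Ideal.Quotient.ringHom_ext
    ext r
    show (Ideal.Quotient.mk (maximalIdeal R) r) ⊗ₜ[R] (1 : S) =
      σb (Ideal.Quotient.mk _ (algebraMap R S₀ r))
    show _ = (1 : R ⧸ maximalIdeal R) ⊗ₜ[R] (algebraMap S₀ S (algebraMap R S₀ r))
    rw [← IsScalarTower.algebraMap_apply, Algebra.algebraMap_eq_smul_one,
      TensorProduct.tmul_smul, TensorProduct.smul_tmul']
    congr 1
    rw [Algebra.smul_def, mul_one]
    rfl
  have hσb : σb.FormallySmooth := by
    letI := σb.toAlgebra
    show Algebra.FormallySmooth (S₀ ⧸ (maximalIdeal R).map (algebraMap R S₀))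
      ((R ⧸ maximalIdeal R) ⊗[R] S)
    have hloc : IsLocalization (N.map (Ideal.Quotient.mk ((maximalIdeal R).map (algebraMap R S₀))))
        ((R ⧸ maximalIdeal R) ⊗[R] S) := by
      refine IsLocalization.of_surjective N S (Ideal.Quotient.mk _) Ideal.Quotient.mk_surjective
        (Algebra.TensorProduct.includeRight :
          S →ₐ[R] (R ⧸ maximalIdeal R) ⊗[R] S).toRingHom includeRight_surjective ?_ ?_
      · rfl
      · rw [Ideal.mk_ker, Ideal.map_map, ← IsScalarTower.algebraMap_eq]
        exact ker_includeRight_le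
    haveI := Algebra.FormallyEtale.of_isLocalization (Rₘ := (R ⧸ maximalIdeal R) ⊗[R] S)
      (N.map (Ideal.Quotient.mk ((maximalIdeal R).map (algebraMap R S₀))))
    infer_instance
  have h' : (algebraMap (R ⧸ maximalIdeal R)
      (S₀ ⧸ (maximalIdeal R).map (algebraMap R S₀))).FormallySmooth :=
    RingHom.formallySmooth_algebraMap.2 h
  have := h'.comp hσb
  rw [← hcomp] at this
  exact RingHom.formallySmooth_algebraMap.1 this

end FS




open IsLocalRing

section RSP

variable {B : Type u} [CommRing B]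

open scoped Classical in
/-- In a regular local ring, an element of `m ∖ m²` is a member of a quasi-regular sequence
generating the maximal ideal. -/
theorem exists_quasiRegular_of_notMem_sq [IsRegularLocalRing B] (a₁ : B)
    (ha₁ : a₁ ∈ maximalIdeal B) (ha₂ : a₁ ∉ maximalIdeal B ^ 2) :
    ∃ (c : ℕ) (g : Fin c → B) (i₀ : Fin c), g i₀ = a₁ ∧ CAlgX.IsQuasiRegular g ∧
      maximalIdeal B = Ideal.span (Set.range g) := by
  obtain ⟨v₀, hv₀⟩ : ∃ v₀ : CotangentSpace B,
      v₀ = (maximalIdeal B).toCotangent ⟨a₁, ha₁⟩ := ⟨_, rfl⟩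
  have hv₀ne : v₀ ≠ 0 := by
    rw [hv₀, Ne, Ideal.toCotangent_eq_zero]
    exact ha₂
  have hs : LinearIndepOn (ResidueField B) id ({v₀} : Set (CotangentSpace B)) :=
    (linearIndepOn_singleton_iff (ResidueField B)).2 hv₀ne
  let bas := Module.Basis.extend hs
  obtain ⟨T, hT⟩ : ∃ T : Set (CotangentSpace B), T = hs.extend (Set.subset_univ _) := ⟨_, rfl⟩
  have hv₀T : v₀ ∈ hs.extend (Set.subset_univ _) :=
    Module.Basis.subset_extend hs (Set.mem_singleton v₀)
  haveI : Finite (hs.extend (Set.subset_univ ({v₀} : Set (CotangentSpace B)))) :=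
    Module.Finite.finite_basis bas
  haveI : Fintype (hs.extend (Set.subset_univ ({v₀} : Set (CotangentSpace B)))) :=
    Fintype.ofFinite _
  let e := (Fintype.equivFin (hs.extend (Set.subset_univ ({v₀} : Set (CotangentSpace B))))).symm
  -- lifts
  have hlift : ∀ t : CotangentSpace B, ∃ x : maximalIdeal B,
      (maximalIdeal B).toCotangent x = t ∧ (t = v₀ → x = ⟨a₁, ha₁⟩) := by
    intro t
    by_cases ht : t = v₀
    · exact ⟨⟨a₁, ha₁⟩, by rw [ht, hv₀], fun _ => rfl⟩
    · obtain ⟨x, hx⟩ := Ideal.toCotangent_surjective _ t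
      exact ⟨x, hx, fun h => absurd h ht⟩
  choose lift hlift1 hlift2 using hlift
  let x' : Fin _ → maximalIdeal B := fun i => lift ((e i : CotangentSpace B))
  have hx'eq : (fun i => (maximalIdeal B).toCotangent (x' i)) = fun i => bas (e i) := by
    funext i
    rw [Module.Basis.extend_apply_self]
    exact hlift1 _
  have hli : LinearIndependent (ResidueField B)
      (fun i => (maximalIdeal B).toCotangent (x' i)) := by
    rw [hx'eq]
    exact bas.linearIndependent.comp e e.injective
  have hreg := Groth.Agent.Lib.Helper5.isRegular_ofFn_of_linearIndependent x' hli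
  have hq : CAlgX.IsQuasiRegular (fun i => (x' i : B)) :=
    Groth.Agent.S5802.Aux.QR.main B _ (fun i => (x' i : B)) hreg.toIsWeaklyRegular
  refine ⟨_, fun i => (x' i : B), e.symm ⟨v₀, hv₀T⟩, ?_, hq, ?_⟩
  · show ((lift ((e (e.symm ⟨v₀, hv₀T⟩) : CotangentSpace B)) : maximalIdeal B) : B) = a₁
    rw [Equiv.apply_symm_apply]
    rw [hlift2 v₀ rfl]
  · have hspan : Submodule.span (ResidueField B)
        ((maximalIdeal B).toCotangent '' (Set.range x')) = ⊤ := by
      rw [← Set.range_comp]
      have : ((maximalIdeal B).toCotangent ∘ x') = fun i => bas (e i) := hx'eq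
      rw [this]
      have h2 : Set.range (fun i => bas (e i)) = Set.range bas := by
        exact e.surjective.range_comp bas
      rw [h2]
      exact bas.span_eq
    rw [CotangentSpace.span_image_eq_top_iff] at hspan
    have h3 := congrArg (Submodule.map (maximalIdeal B).subtype) hspan
    rw [Submodule.map_span, Submodule.map_top, Submodule.range_subtype, ← Set.range_comp] at h3
    exact h3.symm

end RSP




open IsLocalRing MvPolynomial

section Chart

theorem flat_affineAlgebra_of_pid {R B : Type u} [CommRing R] [IsDomain R]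
    [IsPrincipalIdealRing R] [CommRing B] [Algebra R B] [Module.Flat R B] (I : Ideal B) (a₁ : B) :
    Module.Flat R (BlowUp.affineAlgebra B I a₁) := by
  haveI : Module.Flat B (Localization.Away a₁) := IsLocalization.flat _ (Submonoid.powers a₁)
  haveI : Module.Flat R (Localization.Away a₁) := Module.Flat.trans R B _
  rw [Module.Flat.flat_iff_torsion_eq_bot_of_isBezout, Submodule.eq_bot_iff]
  intro x hx
  rw [Submodule.mem_torsion_iff] at hx
  obtain ⟨r, hr⟩ := hx
  have h1 : ((x : BlowUp.affineAlgebra B I a₁) : Localization.Away a₁) ∈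
      Submodule.torsion R (Localization.Away a₁) := by
    rw [Submodule.mem_torsion_iff]
    refine ⟨r, ?_⟩
    have := congrArg Subtype.val hr
    simpa using this
  rw [Module.Flat.torsion_eq_bot, Submodule.mem_bot] at h1
  exact Subtype.ext h1

theorem formallySmooth_chart_aux {R B B' : Type u} [CommRing R] [IsLocalRing R] [CommRing B]
    [IsLocalRing B] [Algebra R B] [IsLocalHom (algebraMap R B)]
    [CommRing B'] [Algebra R B'] [Algebra B B'] [IsScalarTower R B B']
    (π : R) (hπ : maximalIdeal R = Ideal.span {π})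
    (hsep : Algebra.FormallySmooth (ResidueField R) (ResidueField B))
    (a₁ : B) (ha₁ : a₁ = algebraMap R B π) {r : ℕ}
    (e : (B' ⧸ Ideal.span {algebraMap B B' a₁}) ≃+* MvPolynomial (Fin r) (B ⧸ maximalIdeal B))
    (he : ∀ x : B, e (Ideal.Quotient.mk _ (algebraMap B B' x)) = C (Ideal.Quotient.mk _ x)) :
    Algebra.FormallySmooth (R ⧸ maximalIdeal R) (B' ⧸ (maximalIdeal R).map (algebraMap R B')) := by
  have hJ : Ideal.span {algebraMap B B' a₁} = (maximalIdeal R).map (algebraMap R B') := by
    rw [hπ, Ideal.map_span, Set.image_singleton, ha₁, ← IsScalarTower.algebraMap_apply]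
  have H : ∃ e : (B' ⧸ Ideal.span {algebraMap B B' a₁}) ≃+*
      MvPolynomial (Fin r) (B ⧸ maximalIdeal B),
      ∀ x : B, e (Ideal.Quotient.mk _ (algebraMap B B' x)) = C (Ideal.Quotient.mk _ x) := ⟨e, he⟩
  clear he e
  rw [hJ] at H
  obtain ⟨e, he⟩ := H
  let ρ : (R ⧸ maximalIdeal R) →+* (B ⧸ maximalIdeal B) :=
    algebraMap (ResidueField R) (ResidueField B)
  have hρ : ρ.FormallySmooth := RingHom.formallySmooth_algebraMap.2 hsep
  have hC : (C : (B ⧸ maximalIdeal B) →+* MvPolynomial (Fin r) (B ⧸ maximalIdeal B)).FormallySmooth := by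
    rw [← MvPolynomial.algebraMap_eq]
    exact RingHom.formallySmooth_algebraMap.2 inferInstance
  obtain ⟨es, hes⟩ : ∃ es : MvPolynomial (Fin r) (B ⧸ maximalIdeal B) →+*
      (B' ⧸ (maximalIdeal R).map (algebraMap R B')),
      ∀ y, es y = e.symm y := ⟨e.symm.toRingHom, fun _ => rfl⟩
  have hesb : Function.Bijective es := by
    have : (es : _ → _) = e.symm := funext hes
    rw [this]
    exact e.symm.bijective
  have he' : es.FormallySmooth := RingHom.FormallySmooth.of_bijective hesb
  have hcomp : algebraMap (R ⧸ maximalIdeal R) (B' ⧸ (maximalIdeal R).map (algebraMap R B')) =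
      es.comp (C.comp ρ) := by
    apply Ideal.Quotient.ringHom_ext
    ext x
    show Ideal.Quotient.mk _ (algebraMap R B' x) = es (C (ρ (Ideal.Quotient.mk _ x)))
    rw [hes]
    have h1 : ρ (Ideal.Quotient.mk _ x) = Ideal.Quotient.mk _ (algebraMap R B x) := rfl
    rw [h1, RingEquiv.eq_symm_apply, ← he, ← IsScalarTower.algebraMap_apply]
  rw [← RingHom.formallySmooth_algebraMap, hcomp]
  exact (hρ.comp hC).comp he'

theorem formallySmooth_chart {R B : Type u} [CommRing R] [IsLocalRing R] [CommRing B]
    [IsLocalRing B] [Algebra R B] [IsLocalHom (algebraMap R B)]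
    (π : R) (hπ : maximalIdeal R = Ideal.span {π})
    (hsep : Algebra.FormallySmooth (ResidueField R) (ResidueField B))
    {c : ℕ} (g : Fin c → B) (hq : CAlgX.IsQuasiRegular g)
    (I : Ideal B) (hI : I = maximalIdeal B) (hspan : I = Ideal.span (Set.range g))
    (i₀ : Fin c) (hgi : g i₀ = algebraMap R B π) :
    Algebra.FormallySmooth (R ⧸ maximalIdeal R)
      (BlowUp.affineAlgebra B I (g i₀) ⧸
        (maximalIdeal R).map (algebraMap R (BlowUp.affineAlgebra B I (g i₀)))) := by
  subst hI
  obtain ⟨r, e, he⟩ := Groth.Agent.Lib.Helper2.BlowQRSm.exists_quotEquiv_compat_of_index g hq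
    (maximalIdeal B) hspan i₀
  exact formallySmooth_chart_aux π hπ hsep (g i₀) hgi e he

end Chart




open IsLocalRing TensorProduct Groth.Agent.Lib.Helper2.BlowQR

theorem formallySmooth_of_local_chart {R P S₀ S : Type u} [CommRing R] [IsLocalRing R]
    [CommRing P] [Algebra R P] [Algebra.FinitePresentation R P]
    [CommRing S₀] [Algebra R S₀] [CommRing S] [IsLocalRing S] [Algebra R S] [Algebra P S]
    [Algebra S₀ S] [IsScalarTower R P S] [IsScalarTower R S₀ S] [Module.Flat R S]
    [IsLocalHom (algebraMap R S)]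
    (M : Submonoid P) [IsLocalization M S] (N : Submonoid S₀) [IsLocalization N S]
    (h : Algebra.FormallySmooth (R ⧸ maximalIdeal R)
      (S₀ ⧸ (maximalIdeal R).map (algebraMap R S₀))) :
    Algebra.FormallySmooth R S := by
  haveI := formallySmooth_residueField_tensor (S := S) N h
  exact Algebra.FormallySmooth.of_formallySmooth_residueField_tensor (P := P) M

theorem isSmoothAt_congr {R A : Type u} [CommRing R] [CommRing A] [Algebra R A] {p q : Ideal A}
    [p.IsPrime] [q.IsPrime] (h : p = q) (hp : Algebra.IsSmoothAt R p) :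
    Algebra.IsSmoothAt R q := by
  subst h
  exact hp

theorem finiteType_affineAlgebra {A : Type u} [CommRing A] [IsNoetherianRing A] (I : Ideal A)
    (a : A) (ha : a ∈ I) : Algebra.FiniteType A (BlowUp.affineAlgebra A I a) := by
  obtain ⟨n, g, hg⟩ := Submodule.fg_iff_exists_fin_generating_family.1
    (IsNoetherian.noetherian I)
  have hI : I = Ideal.span (Set.range (Fin.cons a g : Fin (n + 1) → A)) := by
    rw [Fin.range_cons, Ideal.span_insert]
    have h1 : Ideal.span (Set.range g) = I := hg
    rw [h1]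
    exact (sup_eq_right.2 ((Ideal.span_singleton_le_iff_mem I).2 ha)).symm
  exact Algebra.FiniteType.of_surjective (phi (Fin.cons a g : Fin (n + 1) → A) I hI)
    (phi_surjective _ I hI)



open IsLocalRing TensorProduct Groth.Agent.Lib.Helper2.BlowQR

set_option maxHeartbeats 1600000 in
theorem isSmoothAt_affineAlgebra {R A : Type u} [CommRing R] [IsDomain R]
    [IsDiscreteValuationRing R] [CommRing A] [Algebra R A] [Module.Flat R A]
    [Algebra.FiniteType R A] (π : R) (hπ : maximalIdeal R = Ideal.span {π})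
    (a : A) (haa : a = algebraMap R A π)
    (𝔭 : Ideal A) [𝔭.IsPrime] (ha : a ∈ 𝔭)
    (hsm : Algebra.IsSmoothAt R 𝔭)
    [IsLocalHom (algebraMap R (Localization.AtPrime 𝔭))]
    (hsep : Algebra.FormallySmooth (ResidueField R) (ResidueField (Localization.AtPrime 𝔭)))
    (hπ2 : algebraMap A (Localization.AtPrime 𝔭) a ∉
      maximalIdeal (Localization.AtPrime 𝔭) ^ 2)
    (𝔭' : Ideal (BlowUp.affineAlgebra A 𝔭 a)) [𝔭'.IsPrime]
    (h𝔭' : 𝔭'.comap (algebraMap A (BlowUp.affineAlgebra A 𝔭 a)) = 𝔭) :
    Algebra.IsSmoothAt R 𝔭' := by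
  haveI : IsNoetherianRing A := Algebra.FiniteType.isNoetherianRing R A
  haveI : Algebra.FinitePresentation R A :=
    Algebra.FinitePresentation.of_finiteType.mp inferInstance
  haveI := hsm
  haveI hreg : IsRegularLocalRing (Localization.AtPrime 𝔭) :=
    Groth.Agent.Lib.Helper6.SmReg.isRegularLocalRing_of_isSmoothAt (R := R) 𝔭
  have hIB : 𝔭.map (algebraMap A (Localization.AtPrime 𝔭)) =
      maximalIdeal (Localization.AtPrime 𝔭) := Localization.AtPrime.map_eq_maximalIdeal
  have ha₁ : algebraMap A (Localization.AtPrime 𝔭) a ∈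
      maximalIdeal (Localization.AtPrime 𝔭) := by
    rw [← hIB]
    exact Ideal.mem_map_of_mem _ ha
  obtain ⟨c, g, i₀, hgi, hq, hspan⟩ := exists_quasiRegular_of_notMem_sq _ ha₁ hπ2
  have hgi' : g i₀ = algebraMap R (Localization.AtPrime 𝔭) π := by
    rw [hgi, haa, ← IsScalarTower.algebraMap_apply]
  have hchart := formallySmooth_chart π hπ hsep g hq
    (𝔭.map (algebraMap A (Localization.AtPrime 𝔭))) hIB (hIB.trans hspan) i₀ hgi'
  rw [hgi] at hchart
  letI algθ : Algebra (BlowUp.affineAlgebra A 𝔭 a)
      (BlowUp.affineAlgebra (Localization.AtPrime 𝔭)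
        (𝔭.map (algebraMap A (Localization.AtPrime 𝔭)))
        (algebraMap A (Localization.AtPrime 𝔭) a)) :=
    (theta 𝔭 a (Localization.AtPrime 𝔭) ha).toAlgebra
  haveI hloc : IsLocalization (𝔭.primeCompl.map (algebraMap A (BlowUp.affineAlgebra A 𝔭 a)))
      (BlowUp.affineAlgebra (Localization.AtPrime 𝔭)
        (𝔭.map (algebraMap A (Localization.AtPrime 𝔭)))
        (algebraMap A (Localization.AtPrime 𝔭) a)) :=
    isLocalization_theta 𝔭 a (Localization.AtPrime 𝔭) 𝔭.primeCompl ha
  have hdisj : Disjoint (↑(𝔭.primeCompl.map (algebraMap A (BlowUp.affineAlgebra A 𝔭 a))) :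
      Set (BlowUp.affineAlgebra A 𝔭 a)) (𝔭' : Set (BlowUp.affineAlgebra A 𝔭 a)) := by
    rw [Set.disjoint_left]
    rintro _ ⟨m, hm, rfl⟩ hmem
    apply hm
    rw [← h𝔭']
    exact hmem
  obtain ⟨𝔮, h𝔮⟩ : ∃ 𝔮 : Ideal (BlowUp.affineAlgebra (Localization.AtPrime 𝔭)
        (𝔭.map (algebraMap A (Localization.AtPrime 𝔭)))
        (algebraMap A (Localization.AtPrime 𝔭) a)),
      𝔮 = 𝔭'.map (algebraMap (BlowUp.affineAlgebra A 𝔭 a) _) := ⟨_, rfl⟩
  haveI h𝔮prime : 𝔮.IsPrime := by
    rw [h𝔮]
    exact IsLocalization.isPrime_of_isPrime_disjoint _ _ 𝔭' ‹_› hdisj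
  have hcomap : 𝔮.comap (algebraMap (BlowUp.affineAlgebra A 𝔭 a) _) = 𝔭' := by
    rw [h𝔮]
    exact IsLocalization.comap_map_of_isPrime_disjoint _ _ ‹_› hdisj
  -- towers
  haveI tRAA' : IsScalarTower R A (BlowUp.affineAlgebra A 𝔭 a) :=
    IsScalarTower.of_algebraMap_eq (fun r => rfl)
  haveI tRBB' : IsScalarTower R (Localization.AtPrime 𝔭)
      (BlowUp.affineAlgebra (Localization.AtPrime 𝔭)
        (𝔭.map (algebraMap A (Localization.AtPrime 𝔭)))
        (algebraMap A (Localization.AtPrime 𝔭) a)) :=
    IsScalarTower.of_algebraMap_eq (fun r => rfl)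
  haveI tRA'B' : IsScalarTower R (BlowUp.affineAlgebra A 𝔭 a)
      (BlowUp.affineAlgebra (Localization.AtPrime 𝔭)
        (𝔭.map (algebraMap A (Localization.AtPrime 𝔭)))
        (algebraMap A (Localization.AtPrime 𝔭) a)) := by
    refine IsScalarTower.of_algebraMap_eq (fun r => ?_)
    show _ = theta 𝔭 a (Localization.AtPrime 𝔭) ha (algebraMap R (BlowUp.affineAlgebra A 𝔭 a) r)
    rw [IsScalarTower.algebraMap_apply R A (BlowUp.affineAlgebra A 𝔭 a), theta_algebraMap,
      ← IsScalarTower.algebraMap_apply R A (Localization.AtPrime 𝔭),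
      ← IsScalarTower.algebraMap_apply R (Localization.AtPrime 𝔭)]
  haveI tRA'S : IsScalarTower R (BlowUp.affineAlgebra A 𝔭 a) (Localization.AtPrime 𝔮) :=
    IsScalarTower.to₁₂₄ R (BlowUp.affineAlgebra A 𝔭 a)
      (BlowUp.affineAlgebra (Localization.AtPrime 𝔭)
        (𝔭.map (algebraMap A (Localization.AtPrime 𝔭)))
        (algebraMap A (Localization.AtPrime 𝔭) a)) (Localization.AtPrime 𝔮)
  haveI hSloc : IsLocalization.AtPrime (Localization.AtPrime 𝔮)
      (𝔮.comap (algebraMap (BlowUp.affineAlgebra A 𝔭 a)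
        (BlowUp.affineAlgebra (Localization.AtPrime 𝔭)
        (𝔭.map (algebraMap A (Localization.AtPrime 𝔭)))
        (algebraMap A (Localization.AtPrime 𝔭) a)))) :=
    IsLocalization.isLocalization_isLocalization_atPrime_isLocalization
      (𝔭.primeCompl.map (algebraMap A (BlowUp.affineAlgebra A 𝔭 a))) (Localization.AtPrime 𝔮) 𝔮
  have hπ𝔮 : algebraMap R (BlowUp.affineAlgebra (Localization.AtPrime 𝔭)
        (𝔭.map (algebraMap A (Localization.AtPrime 𝔭)))
        (algebraMap A (Localization.AtPrime 𝔭) a)) π ∈ 𝔮 := by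
    rw [h𝔮, IsScalarTower.algebraMap_apply R (BlowUp.affineAlgebra A 𝔭 a),
      IsScalarTower.algebraMap_apply R A (BlowUp.affineAlgebra A 𝔭 a), ← haa]
    apply Ideal.mem_map_of_mem
    have : a ∈ 𝔭'.comap (algebraMap A (BlowUp.affineAlgebra A 𝔭 a)) := by
      rw [h𝔭']
      exact ha
    exact this
  have hFS : Algebra.FormallySmooth R (Localization.AtPrime 𝔮) := by
    haveI : Algebra.FiniteType A (BlowUp.affineAlgebra A 𝔭 a) := finiteType_affineAlgebra 𝔭 a ha
    haveI : Algebra.FiniteType R (BlowUp.affineAlgebra A 𝔭 a) :=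
      Algebra.FiniteType.trans (inferInstance : Algebra.FiniteType R A) inferInstance
    haveI : Algebra.FinitePresentation R (BlowUp.affineAlgebra A 𝔭 a) :=
      Algebra.FinitePresentation.of_finiteType.mp inferInstance
    haveI : Module.Flat A (Localization.AtPrime 𝔭) := IsLocalization.flat _ 𝔭.primeCompl
    haveI : Module.Flat R (Localization.AtPrime 𝔭) := Module.Flat.trans R A _
    haveI : Module.Flat R (BlowUp.affineAlgebra (Localization.AtPrime 𝔭)
        (𝔭.map (algebraMap A (Localization.AtPrime 𝔭)))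
        (algebraMap A (Localization.AtPrime 𝔭) a)) := flat_affineAlgebra_of_pid _ _
    haveI : Module.Flat (BlowUp.affineAlgebra (Localization.AtPrime 𝔭)
        (𝔭.map (algebraMap A (Localization.AtPrime 𝔭)))
        (algebraMap A (Localization.AtPrime 𝔭) a)) (Localization.AtPrime 𝔮) :=
      IsLocalization.flat _ 𝔮.primeCompl
    haveI : Module.Flat R (Localization.AtPrime 𝔮) :=
      Module.Flat.trans R (BlowUp.affineAlgebra (Localization.AtPrime 𝔭)
        (𝔭.map (algebraMap A (Localization.AtPrime 𝔭)))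
        (algebraMap A (Localization.AtPrime 𝔭) a)) _
    haveI : IsLocalHom (algebraMap R (Localization.AtPrime 𝔮)) := by
      constructor
      intro r hr
      by_contra hnu
      have hrm : r ∈ maximalIdeal R := (mem_maximalIdeal r).2 hnu
      rw [hπ, Ideal.mem_span_singleton] at hrm
      obtain ⟨t, rfl⟩ := hrm
      rw [map_mul] at hr
      have hu : IsUnit (algebraMap R (Localization.AtPrime 𝔮) π) := isUnit_of_mul_isUnit_left hr
      rw [IsScalarTower.algebraMap_apply R (BlowUp.affineAlgebra (Localization.AtPrime 𝔭)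
        (𝔭.map (algebraMap A (Localization.AtPrime 𝔭)))
        (algebraMap A (Localization.AtPrime 𝔭) a)) (Localization.AtPrime 𝔮)] at hu
      exact (IsLocalization.AtPrime.isUnit_to_map_iff (Localization.AtPrime 𝔮) 𝔮 _).1 hu hπ𝔮
    exact formallySmooth_of_local_chart (P := BlowUp.affineAlgebra A 𝔭 a)
      (S₀ := BlowUp.affineAlgebra (Localization.AtPrime 𝔭)
        (𝔭.map (algebraMap A (Localization.AtPrime 𝔭)))
        (algebraMap A (Localization.AtPrime 𝔭) a))
      (𝔮.comap (algebraMap (BlowUp.affineAlgebra A 𝔭 a)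
        (BlowUp.affineAlgebra (Localization.AtPrime 𝔭)
        (𝔭.map (algebraMap A (Localization.AtPrime 𝔭)))
        (algebraMap A (Localization.AtPrime 𝔭) a)))).primeCompl 𝔮.primeCompl hchart
  have key : ∀ (P' : Ideal (BlowUp.affineAlgebra A 𝔭 a)) [P'.IsPrime],
      P' = 𝔮.comap (algebraMap (BlowUp.affineAlgebra A 𝔭 a)
        (BlowUp.affineAlgebra (Localization.AtPrime 𝔭)
        (𝔭.map (algebraMap A (Localization.AtPrime 𝔭)))
        (algebraMap A (Localization.AtPrime 𝔭) a))) → Algebra.IsSmoothAt R P' := by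
    intro P' _ hP'
    subst hP'
    show Algebra.FormallySmooth R (Localization.AtPrime (𝔮.comap _))
    let eq : Localization.AtPrime (𝔮.comap (algebraMap (BlowUp.affineAlgebra A 𝔭 a)
        (BlowUp.affineAlgebra (Localization.AtPrime 𝔭)
        (𝔭.map (algebraMap A (Localization.AtPrime 𝔭)))
        (algebraMap A (Localization.AtPrime 𝔭) a)))) ≃ₐ[BlowUp.affineAlgebra A 𝔭 a]
        Localization.AtPrime 𝔮 :=
      IsLocalization.algEquiv (𝔮.comap (algebraMap (BlowUp.affineAlgebra A 𝔭 a)
        (BlowUp.affineAlgebra (Localization.AtPrime 𝔭)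
        (𝔭.map (algebraMap A (Localization.AtPrime 𝔭)))
        (algebraMap A (Localization.AtPrime 𝔭) a)))).primeCompl _ _
    exact Algebra.FormallySmooth.of_equiv (A := Localization.AtPrime 𝔮)
      (eq.symm.restrictScalars R)
  exact key 𝔭' hcomap.symm


end Groth.Agent.Helper13NeronBlow
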