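import Mathlib
import Groth.Agent.Lib.Helper13Devissage
import Groth.Agent.Lib.Helper13TorMore

/-!
# Tor over a "node": `A` with `x y = 0`, `ann x = (y)`, `ann y = (x)`, `xA ∩ yA = 0`, `(x,y)` maximal.
Then `Tor_i(κ, κ)` has length 2 for all `i ≥ 1`.
-/

set_option autoImplicit false
universe u
open CategoryTheory CategoryTheory.Limits MonoidalCategory TensorProduct

namespace Groth.Agent.Helper13Node

open Groth.Agent.Helper13Tor

variable {A : Type u} [CommRing A]

theorem exact_hom {X Y Z : ModuleCat.{u} A} {f : X ⟶ Y} {g : Y ⟶ Z} (w : f ≫ g = 0)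
    (h : (ShortComplex.mk f g w).Exact) : Function.Exact f.hom g.hom :=
  (ShortComplex.ShortExact.moduleCat_exact_iff_function_exact _).1 h

/-- `Tor_0(f, A/m) = 0` if `f : N → A` has image in `m`. -/
theorem tor_zero_map_eq_zero (m : Ideal A) {N : ModuleCat.{u} A} (f : N ⟶ ModuleCat.of A A)
    (hf : ∀ n, f.hom n ∈ m) :
    ((Tor (ModuleCat.{u} A) 0).map f).app (ModuleCat.of A (A ⧸ m)) = 0 := by
  have h1 : ((Tor (ModuleCat.{u} A) 0).map f).app (ModuleCat.of A (A ⧸ m)) ≫
      (torZeroIso.hom.app (ModuleCat.of A A)).app (ModuleCat.of A (A ⧸ m)) =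
      (torZeroIso.hom.app N).app (ModuleCat.of A (A ⧸ m)) ≫ (f ▷ (ModuleCat.of A (A ⧸ m))) :=
    congrArg (fun t => t.app (ModuleCat.of A (A ⧸ m))) (torZeroIso.hom.naturality f)
  have h2 : f ▷ (ModuleCat.of A (A ⧸ m)) = 0 := by
    refine ModuleCat.hom_ext ?_
    show LinearMap.rTensor (A ⧸ m) f.hom = 0
    refine TensorProduct.ext' fun n c => ?_
    rw [LinearMap.rTensor_tmul, LinearMap.zero_apply]
    have : f.hom n = f.hom n • (1 : A) := by simp
    rw [this, TensorProduct.smul_tmul]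
    have hc : f.hom n • c = 0 := by
      obtain ⟨c, rfl⟩ := Ideal.Quotient.mk_surjective c
      show Ideal.Quotient.mk m (f.hom n * c) = 0
      exact Ideal.Quotient.eq_zero_iff_mem.2 (m.mul_mem_right _ (hf n))
    rw [hc, TensorProduct.tmul_zero]
  rw [h2, comp_zero] at h1
  have h4 : (torZeroIso.hom.app (ModuleCat.of A A)).app (ModuleCat.of A (A ⧸ m)) ≫
      (torZeroIso.inv.app (ModuleCat.of A A)).app (ModuleCat.of A (A ⧸ m)) = 𝟙 _ := by
    rw [← NatTrans.comp_app, Iso.hom_inv_id_app]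
    rfl
  calc ((Tor (ModuleCat.{u} A) 0).map f).app (ModuleCat.of A (A ⧸ m))
      = (((Tor (ModuleCat.{u} A) 0).map f).app (ModuleCat.of A (A ⧸ m)) ≫
          (torZeroIso.hom.app (ModuleCat.of A A)).app (ModuleCat.of A (A ⧸ m))) ≫
          (torZeroIso.inv.app (ModuleCat.of A A)).app (ModuleCat.of A (A ⧸ m)) := by
        rw [Category.assoc, h4, Category.comp_id]
    _ = 0 := by rw [h1, zero_comp]

/-- the connecting map is an isomorphism when the neighbours vanish. -/
theorem nonempty_iso_of_δ (S : ShortComplex (ModuleCat.{u} A)) (hS : S.ShortExact)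
    (Y : ModuleCat.{u} A) (i : ℕ)
    (h₂ : IsZero (((Tor (ModuleCat.{u} A) (i + 1)).obj S.X₂).obj Y))
    (hf : ((Tor (ModuleCat.{u} A) i).map S.f).app Y = 0) :
    Nonempty (((Tor (ModuleCat.{u} A) (i + 1)).obj S.X₃).obj Y ≅
      ((Tor (ModuleCat.{u} A) i).obj S.X₁).obj Y) := by
  obtain ⟨δ, w₁, w₂, hex₁, hex₂⟩ := exists_δ S hS Y i
  have hm : Mono δ := hex₁.mono_g (h₂.eq_of_src _ _)
  have he : Epi δ := hex₂.epi_f hf
  have : IsIso δ := isIso_of_mono_of_epi δ
  exact ⟨asIso δ⟩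

theorem length_eq_of_iso {X Y : ModuleCat.{u} A} (e : X ≅ Y) :
    Module.length A X = Module.length A Y :=
  e.toLinearEquiv.length_eq

/-- additivity of `Tor_i(-, Y)` over a product. -/
theorem length_tor_prod (N₁ N₂ : Type u) [AddCommGroup N₁] [Module A N₁] [AddCommGroup N₂]
    [Module A N₂] (Y : ModuleCat.{u} A) (i : ℕ) :
    Module.length A (((Tor (ModuleCat.{u} A) i).obj (ModuleCat.of A (N₁ × N₂))).obj Y) =
      Module.length A (((Tor (ModuleCat.{u} A) i).obj (ModuleCat.of A N₁)).obj Y) +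
        Module.length A (((Tor (ModuleCat.{u} A) i).obj (ModuleCat.of A N₂)).obj Y) := by
  have hS := Groth.Agent.Helper13Devissage.shortExact_mk (LinearMap.inl A N₁ N₂)
    (LinearMap.snd A N₁ N₂) LinearMap.inl_injective LinearMap.snd_surjective .inl_snd
  have hex := exact_hom _ (tor_exact₂ _ hS Y i)
  have h1 : ((Tor (ModuleCat.{u} A) i).map (ModuleCat.ofHom (LinearMap.inl A N₁ N₂))).app Y ≫
      ((Tor (ModuleCat.{u} A) i).map (ModuleCat.ofHom (LinearMap.fst A N₁ N₂))).app Y = 𝟙 _ := by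
    rw [← NatTrans.comp_app, ← Functor.map_comp]
    have : ModuleCat.ofHom (LinearMap.inl A N₁ N₂) ≫ ModuleCat.ofHom (LinearMap.fst A N₁ N₂) =
        𝟙 _ := by
      refine ModuleCat.hom_ext (LinearMap.ext fun x => ?_)
      rfl
    rw [this, CategoryTheory.Functor.map_id]
    rfl
  have h2 : ((Tor (ModuleCat.{u} A) i).map (ModuleCat.ofHom (LinearMap.inr A N₁ N₂))).app Y ≫
      ((Tor (ModuleCat.{u} A) i).map (ModuleCat.ofHom (LinearMap.snd A N₁ N₂))).app Y = 𝟙 _ := by
    rw [← NatTrans.comp_app, ← Functor.map_comp]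
    have : ModuleCat.ofHom (LinearMap.inr A N₁ N₂) ≫ ModuleCat.ofHom (LinearMap.snd A N₁ N₂) =
        𝟙 _ := by
      refine ModuleCat.hom_ext (LinearMap.ext fun x => ?_)
      rfl
    rw [this, CategoryTheory.Functor.map_id]
    rfl
  have hinj : Function.Injective
      (((Tor (ModuleCat.{u} A) i).map (ModuleCat.ofHom (LinearMap.inl A N₁ N₂))).app Y).hom := by
    have : Mono (((Tor (ModuleCat.{u} A) i).map
        (ModuleCat.ofHom (LinearMap.inl A N₁ N₂))).app Y) := mono_of_mono_fac h1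
    exact (ModuleCat.mono_iff_injective _).1 this
  have hsurj : Function.Surjective
      (((Tor (ModuleCat.{u} A) i).map (ModuleCat.ofHom (LinearMap.snd A N₁ N₂))).app Y).hom := by
    have : Epi (((Tor (ModuleCat.{u} A) i).map
        (ModuleCat.ofHom (LinearMap.snd A N₁ N₂))).app Y) := epi_of_epi_fac h2
    exact (ModuleCat.epi_iff_surjective _).1 this
  exact Module.length_eq_add_of_exact _ _ hinj hsurj hex

/-- `Tor_0(A/J, A/m)` has length one for `J ≤ m` maximal. -/
theorem length_tor_zero_quot (m J : Ideal A) [hm : m.IsMaximal] (hJ : J ≤ m) :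
    Module.length A (((Tor (ModuleCat.{u} A) 0).obj (ModuleCat.of A (A ⧸ J))).obj
      (ModuleCat.of A (A ⧸ m))) = 1 := by
  rw [length_eq_of_iso (((torZeroIso (R := A)).app (ModuleCat.of A (A ⧸ J))).app
    (ModuleCat.of A (A ⧸ m)))]
  show Module.length A ((A ⧸ J) ⊗[A] (A ⧸ m)) = 1
  rw [(TensorProduct.quotTensorEquivQuotSMul (A ⧸ m) J).length_eq]
  have hbot : J • (⊤ : Submodule A (A ⧸ m)) = ⊥ := by
    rw [eq_bot_iff, Submodule.smul_le]
    intro a ha c _
    obtain ⟨c, rfl⟩ := Ideal.Quotient.mk_surjective c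
    rw [Submodule.mem_bot]
    show Ideal.Quotient.mk m (a * c) = 0
    exact Ideal.Quotient.eq_zero_iff_mem.2 (m.mul_mem_right _ (hJ ha))
  rw [(Submodule.quotEquivOfEqBot _ hbot).length_eq, Module.length_eq_one_iff]
  exact isSimpleModule_iff_quot_maximal.2 ⟨m, hm, ⟨LinearEquiv.refl A _⟩⟩

section ses

variable (x y : A)

/-- multiplication by `x` as a map `A/(y) → A`. -/
noncomputable def mulMap (hyx : y * x = 0) : (A ⧸ Ideal.span {y}) →ₗ[A] A :=
  Submodule.liftQ (Ideal.span {y}) (LinearMap.toSpanSingleton A A x) (by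
    rw [Ideal.span_le, Set.singleton_subset_iff]
    show (LinearMap.toSpanSingleton A A x) y = 0
    simpa using hyx)

theorem mulMap_mk (hyx : y * x = 0) (a : A) : mulMap x y hyx (Ideal.Quotient.mk _ a) = a * x := by
  show (LinearMap.toSpanSingleton A A x) a = a * x
  simp

theorem mulMap_injective (hyx : y * x = 0) (ha : ∀ a, a * x = 0 → a ∈ Ideal.span {y}) :
    Function.Injective (mulMap x y hyx) := by
  rw [injective_iff_map_eq_zero]
  intro a h
  obtain ⟨a, rfl⟩ := Ideal.Quotient.mk_surjective a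
  rw [mulMap_mk] at h
  exact Ideal.Quotient.eq_zero_iff_mem.2 (ha a h)

theorem mulMap_exact (hyx : y * x = 0) : Function.Exact (mulMap x y hyx) (Submodule.mkQ (Ideal.span {x})) := by
  intro b
  rw [Submodule.mkQ_apply, Submodule.Quotient.mk_eq_zero]
  constructor
  · intro hb
    obtain ⟨a, rfl⟩ := Ideal.mem_span_singleton'.1 hb
    exact ⟨Ideal.Quotient.mk _ a, mulMap_mk x y hyx a⟩
  · rintro ⟨a, rfl⟩
    obtain ⟨a, rfl⟩ := Ideal.Quotient.mk_surjective a
    rw [mulMap_mk]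
    exact Ideal.mem_span_singleton'.2 ⟨a, rfl⟩

theorem mulMap_mem (hyx : y * x = 0) (m : Ideal A) (hx : x ∈ m) (n : A ⧸ Ideal.span {y}) : mulMap x y hyx n ∈ m := by
  obtain ⟨a, rfl⟩ := Ideal.Quotient.mk_surjective n
  rw [mulMap_mk]
  exact m.mul_mem_left _ hx

/-- `Tor_{i+1}(A/(x), κ) ≅ Tor_i(A/(y), κ)`. -/
theorem step (hyx : y * x = 0) (ha : ∀ a, a * x = 0 → a ∈ Ideal.span {y}) (m : Ideal A) (hx : x ∈ m) (i : ℕ) :
    Nonempty (((Tor (ModuleCat.{u} A) (i + 1)).obj (ModuleCat.of A (A ⧸ Ideal.span {x}))).obj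
        (ModuleCat.of A (A ⧸ m)) ≅
      ((Tor (ModuleCat.{u} A) i).obj (ModuleCat.of A (A ⧸ Ideal.span {y}))).obj
        (ModuleCat.of A (A ⧸ m))) := by
  have hS := Groth.Agent.Helper13Devissage.shortExact_mk (mulMap x y hyx)
    (Submodule.mkQ (Ideal.span {x})) (mulMap_injective x y hyx ha) (Submodule.mkQ_surjective _)
    (mulMap_exact x y hyx)
  have hflat : Module.Flat A (ModuleCat.of A A) := inferInstanceAs (Module.Flat A A)
  refine nonempty_iso_of_δ _ hS (ModuleCat.of A (A ⧸ m)) i ?_ ?_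
  · exact isZero_tor_of_flat _ (ModuleCat.of A A) (i + 1) (by omega)
  · cases i with
    | zero => exact tor_zero_map_eq_zero m _ (mulMap_mem x y hyx m hx)
    | succ i => exact (isZero_tor_of_flat _ (ModuleCat.of A A) (i + 1) (by omega)).eq_of_tgt _ _

end ses

/-- main abstract result -/
theorem length_tor_eq_two (x y : A) (hyx : y * x = 0)
    (ha : ∀ a, a * x = 0 → a ∈ Ideal.span {y}) (hb : ∀ a, a * y = 0 → a ∈ Ideal.span {x})
    (hc : ∀ a b, a * x = b * y → a * x = 0) [hm : (Ideal.span {x, y}).IsMaximal] (i : ℕ) :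
    Module.length A (((Tor (ModuleCat.{u} A) (i + 1)).obj
      (ModuleCat.of A (A ⧸ Ideal.span {x, y}))).obj (ModuleCat.of A (A ⧸ Ideal.span {x, y}))) = 2 := by
  set m : Ideal A := Ideal.span {x, y} with hmdef
  have hx : x ∈ m := Ideal.subset_span (by simp)
  have hy : y ∈ m := Ideal.subset_span (by simp)
  have hxy : x * y = 0 := by rw [mul_comm]; exact hyx
  -- lengths of Tor_i(A/(x), κ), Tor_i(A/(y), κ)
  have key : ∀ j : ℕ,
      Module.length A (((Tor (ModuleCat.{u} A) j).obj (ModuleCat.of A (A ⧸ Ideal.span {x}))).obj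
        (ModuleCat.of A (A ⧸ m))) = 1 ∧
      Module.length A (((Tor (ModuleCat.{u} A) j).obj (ModuleCat.of A (A ⧸ Ideal.span {y}))).obj
        (ModuleCat.of A (A ⧸ m))) = 1 := by
    intro j
    induction j with
    | zero =>
      exact ⟨length_tor_zero_quot m _ ((Ideal.span_singleton_le_iff_mem _).2 hx),
        length_tor_zero_quot m _ ((Ideal.span_singleton_le_iff_mem _).2 hy)⟩
    | succ j ih =>
      obtain ⟨e1⟩ := step x y hyx ha m hx j
      obtain ⟨e2⟩ := step y x hxy hb m hy j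
      exact ⟨(length_eq_of_iso e1).trans ih.2, (length_eq_of_iso e2).trans ih.1⟩
  -- the sequence 0 → A/(y) × A/(x) → A → κ → 0
  let ψ : ((A ⧸ Ideal.span {y}) × (A ⧸ Ideal.span {x})) →ₗ[A] A :=
    (mulMap x y hyx).coprod (mulMap y x hxy)
  have hψ_apply : ∀ a b : A, ψ (Ideal.Quotient.mk _ a, Ideal.Quotient.mk _ b) = a * x + b * y := by
    intro a b
    simp only [ψ, LinearMap.coprod_apply]
    rw [mulMap_mk, mulMap_mk]
  have hψ_inj : Function.Injective ψ := by
    rw [injective_iff_map_eq_zero]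
    rintro ⟨a, b⟩ h
    obtain ⟨a, rfl⟩ := Ideal.Quotient.mk_surjective a
    obtain ⟨b, rfl⟩ := Ideal.Quotient.mk_surjective b
    rw [hψ_apply] at h
    have h1 : a * x = (-b) * y := by rw [neg_mul]; exact eq_neg_of_add_eq_zero_left h
    have h2 : a * x = 0 := hc a (-b) h1
    have h3 : b * y = 0 := by rw [h2, zero_add] at h; exact h
    rw [Prod.mk_eq_zero]
    exact ⟨Ideal.Quotient.eq_zero_iff_mem.2 (ha a h2), Ideal.Quotient.eq_zero_iff_mem.2 (hb b h3)⟩
  have hψ_exact : Function.Exact ψ (Submodule.mkQ m) := by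
    intro z
    rw [Submodule.mkQ_apply, Submodule.Quotient.mk_eq_zero]
    constructor
    · intro hz
      obtain ⟨a, b, rfl⟩ := Ideal.mem_span_pair.1 hz
      exact ⟨(Ideal.Quotient.mk _ a, Ideal.Quotient.mk _ b), hψ_apply a b⟩
    · rintro ⟨⟨a, b⟩, rfl⟩
      obtain ⟨a, rfl⟩ := Ideal.Quotient.mk_surjective a
      obtain ⟨b, rfl⟩ := Ideal.Quotient.mk_surjective b
      rw [hψ_apply]
      exact Ideal.mem_span_pair.2 ⟨a, b, rfl⟩
  have hψ_mem : ∀ n, ψ n ∈ m := by
    rintro ⟨a, b⟩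
    obtain ⟨a, rfl⟩ := Ideal.Quotient.mk_surjective a
    obtain ⟨b, rfl⟩ := Ideal.Quotient.mk_surjective b
    rw [hψ_apply]
    exact m.add_mem (m.mul_mem_left _ hx) (m.mul_mem_left _ hy)
  have hS := Groth.Agent.Helper13Devissage.shortExact_mk ψ (Submodule.mkQ m) hψ_inj
    (Submodule.mkQ_surjective _) hψ_exact
  have hflat : Module.Flat A (ModuleCat.of A A) := inferInstanceAs (Module.Flat A A)
  obtain ⟨e⟩ := nonempty_iso_of_δ _ hS (ModuleCat.of A (A ⧸ m)) i
    (isZero_tor_of_flat _ (ModuleCat.of A A) (i + 1) (by omega))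
    (by
      cases i with
      | zero => exact tor_zero_map_eq_zero m _ hψ_mem
      | succ i => exact (isZero_tor_of_flat _ (ModuleCat.of A A) (i + 1) (by omega)).eq_of_tgt _ _)
  have e' : Module.length A (((Tor (ModuleCat.{u} A) (i + 1)).obj
      (ModuleCat.of A (A ⧸ m))).obj (ModuleCat.of A (A ⧸ m))) =
      Module.length A (((Tor (ModuleCat.{u} A) i).obj
      (ModuleCat.of A ((A ⧸ Ideal.span {y}) × (A ⧸ Ideal.span {x})))).obj
        (ModuleCat.of A (A ⧸ m))) := length_eq_of_iso e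
  rw [e', length_tor_prod, (key i).1, (key i).2]
  rfl

end Groth.Agent.Helper13Node
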