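import Mathlib

/-!
# Rigidity of factorizations in a Noetherian local UFD (helper13)

`exists_finset_divisors`, `exists_not_mem_sup_pow` (Krull), `exists_order_assoc`: if `u v = t₁ t₂ ≠ 0`
with `u ≡ t₁`, `v ≡ t₂` modulo a high power of the maximal ideal then `(u) = (t₁)`, `(v) = (t₂)`.
-/


set_option autoImplicit false
set_option linter.style.haveILetI false
universe u

namespace Groth.Agent.Helper13NodeRetr

open IsLocalRing

/-- In a UFM, the divisors of a nonzero element fall into finitely many association classes. -/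
theorem exists_finset_divisors {D : Type*} [CommMonoidWithZero D]
    [UniqueFactorizationMonoid D]
    (y : D) (hy : y ≠ 0) : ∃ T : Finset D, ∀ x, x ∣ y → ∃ d ∈ T, Associated x d := by
  classical
  haveI : Nontrivial D := ⟨⟨y, 0, hy⟩⟩
  haveI : StrongNormalizationMonoid D := UniqueFactorizationMonoid.strongNormalizationMonoid
  refine ⟨(UniqueFactorizationMonoid.normalizedFactors y).powerset.toFinset.image
    Multiset.prod, ?_⟩
  intro x hx
  have hx0 : x ≠ 0 := by
    rintro rfl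
    exact hy (zero_dvd_iff.mp hx)
  refine ⟨(UniqueFactorizationMonoid.normalizedFactors x).prod, ?_,
    (UniqueFactorizationMonoid.prod_normalizedFactors hx0).symm⟩
  rw [Finset.mem_image]
  refine ⟨UniqueFactorizationMonoid.normalizedFactors x, ?_, rfl⟩
  rw [Multiset.mem_toFinset, Multiset.mem_powerset]
  exact (UniqueFactorizationMonoid.dvd_iff_normalizedFactors_le_normalizedFactors hx0 hy).mp hx

variable {D : Type*} [CommRing D] [IsNoetherianRing D] [IsLocalRing D]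

/-- Krull: if `d ∤ t` then `t ∉ (d) + m^c` for `c` large. -/
theorem exists_not_mem_sup_pow (d t : D) (h : ¬ d ∣ t) :
    ∃ c : ℕ, ∀ c' : ℕ, c ≤ c' → t ∉ Ideal.span {d} ⊔ maximalIdeal D ^ c' := by
  by_contra hcon
  push Not at hcon
  apply h
  have h1 : ∀ c : ℕ, t ∈ Ideal.span {d} ⊔ maximalIdeal D ^ c := by
    intro c
    obtain ⟨c', hc', hmem⟩ := hcon c
    have hle : Ideal.span {d} ⊔ maximalIdeal D ^ c' ≤ Ideal.span {d} ⊔ maximalIdeal D ^ c :=
      sup_le_sup_left (Ideal.pow_le_pow_right hc') _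
    exact hle hmem
  have h2 : (Ideal.Quotient.mk (Ideal.span {d}) t : D ⧸ Ideal.span {d}) ∈
      (⨅ i : ℕ, maximalIdeal D ^ i • (⊤ : Submodule D (D ⧸ Ideal.span {d}))) := by
    rw [Submodule.mem_iInf]
    intro c
    obtain ⟨y, hy, z, hz, hyz⟩ := Submodule.mem_sup.mp (h1 c)
    have : Ideal.Quotient.mk (Ideal.span {d}) t = z • (1 : D ⧸ Ideal.span {d}) := by
      rw [← hyz, map_add, Ideal.Quotient.eq_zero_iff_mem.mpr hy, zero_add, Algebra.smul_def,
        mul_one]
      rfl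
    rw [this]
    exact Submodule.smul_mem_smul hz trivial
  rw [Ideal.iInf_pow_smul_eq_bot_of_isLocalRing _ (maximalIdeal.isMaximal D).ne_top,
    Submodule.mem_bot, Ideal.Quotient.eq_zero_iff_mem, Ideal.mem_span_singleton] at h2
  exact h2

/-- The rigidity of factorizations of `t₁ t₂` in a Noetherian local UFD. -/
theorem exists_order_assoc [IsDomain D] [UniqueFactorizationMonoid D] (t₁ t₂ : D)
    (hΔ : t₁ * t₂ ≠ 0) :
    ∃ c : ℕ, 1 ≤ c ∧ ∀ u v : D, u * v = t₁ * t₂ → u - t₁ ∈ maximalIdeal D ^ c →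
      v - t₂ ∈ maximalIdeal D ^ c →
      Ideal.span {u} = Ideal.span {t₁} ∧ Ideal.span {v} = Ideal.span {t₂} := by
  classical
  obtain ⟨T, hT⟩ := exists_finset_divisors (t₁ * t₂) hΔ
  have key : ∀ t : D, ∃ c : ℕ, ∀ d ∈ T, ¬ d ∣ t → ∀ c' : ℕ, c ≤ c' →
      t ∉ Ideal.span {d} ⊔ maximalIdeal D ^ c' := by
    intro t
    have : ∀ d : D, ∃ c : ℕ, ¬ d ∣ t → ∀ c' : ℕ, c ≤ c' →
        t ∉ Ideal.span {d} ⊔ maximalIdeal D ^ c' := by
      intro d
      by_cases hd : d ∣ t
      · exact ⟨0, fun h => absurd hd h⟩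
      · obtain ⟨c, hc⟩ := exists_not_mem_sup_pow d t hd
        exact ⟨c, fun _ => hc⟩
    choose cf hcf using this
    refine ⟨T.sup cf, fun d hd hdt c' hc' => hcf d hdt c' ((Finset.le_sup hd).trans hc')⟩
  obtain ⟨c₁, hc₁⟩ := key t₁
  obtain ⟨c₂, hc₂⟩ := key t₂
  have hdvd : ∀ (c : ℕ) (t : D), (∀ d ∈ T, ¬ d ∣ t → t ∉ Ideal.span {d} ⊔ maximalIdeal D ^ c) →
      ∀ u : D, u ∣ t₁ * t₂ → u - t ∈ maximalIdeal D ^ c → u ∣ t := by
    intro c t hc u hu hut
    obtain ⟨d, hdT, hud⟩ := hT u hu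
    by_contra hnot
    have hdt : ¬ d ∣ t := fun h => hnot (hud.dvd_iff_dvd_left.mpr h)
    apply hc d hdT hdt
    have hspan : Ideal.span {d} = Ideal.span {u} :=
      (Ideal.span_singleton_eq_span_singleton.mpr hud).symm
    rw [hspan]
    have : t = u + -(u - t) := by ring
    rw [this]
    exact Submodule.add_mem_sup (Ideal.mem_span_singleton_self u) (Ideal.neg_mem_iff _ |>.mpr hut)
  refine ⟨max 1 (max c₁ c₂), le_max_left _ _, ?_⟩
  intro u v huv hu hv
  have h1 : u ∣ t₁ := hdvd _ t₁ (fun d hd hdt => hc₁ d hd hdt _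
    ((le_max_left _ _).trans (le_max_right _ _))) u ⟨v, huv.symm⟩ hu
  have h2 : v ∣ t₂ := hdvd _ t₂ (fun d hd hdt => hc₂ d hd hdt _
    ((le_max_right _ _).trans (le_max_right _ _))) v ⟨u, by rw [← huv, mul_comm]⟩ hv
  obtain ⟨a, ha⟩ := h1
  obtain ⟨b, hb⟩ := h2
  have hab : a * b = 1 := by
    have h3 : t₁ * t₂ * (a * b) = t₁ * t₂ * 1 := by
      rw [mul_one]
      calc t₁ * t₂ * (a * b) = (u * a) * (v * b) := by rw [← huv]; ring
        _ = t₁ * t₂ := by rw [← ha, ← hb]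
    exact mul_left_cancel₀ hΔ h3
  have hua : IsUnit a := IsUnit.of_mul_eq_one b hab
  have hub : IsUnit b := IsUnit.of_mul_eq_one a (by rw [mul_comm]; exact hab)
  constructor
  · rw [Ideal.span_singleton_eq_span_singleton]
    exact ⟨hua.unit, by rw [ha]; rfl⟩
  · rw [Ideal.span_singleton_eq_span_singleton]
    exact ⟨hub.unit, by rw [hb]; rfl⟩

end Groth.Agent.Helper13NodeRetr
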