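import Mathlib

/-!
# Evaluating power series at elements of `J` in a `J`-adically complete ring (helper13)

`evHom J a ha : MvPowerSeries σ S →+* S` with `evHom_C`, `evHom_X`.
-/


set_option autoImplicit false
set_option linter.style.haveILetI false
universe u

namespace Groth.Agent.Helper13NodeRetr

open MvPowerSeries

variable {S : Type*} [CommRing S] {σ : Type*} [Finite σ] (J : Ideal S) (a : σ → S)

/-- evaluating at elements of `J` a polynomial without terms of degree `< n` lands in `J ^ n`. -/
theorem eval_mem_pow (ha : ∀ i, a i ∈ J) (D : MvPolynomial σ S) (n : ℕ)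
    (hD : ∀ x : σ →₀ ℕ, x.degree < n → D.coeff x = 0) :
    MvPolynomial.eval a D ∈ J ^ n := by
  classical
  rw [MvPolynomial.eval_eq]
  refine Ideal.sum_mem _ fun d hd => ?_
  have hdn : n ≤ d.degree := by
    by_contra h
    push Not at h
    exact (MvPolynomial.mem_support_iff.mp hd) (hD d h)
  refine Ideal.mul_mem_left _ _ ?_
  have h1 : ∏ i ∈ d.support, a i ^ d i ∈ J ^ d.degree := by
    rw [Finsupp.degree_apply, ← Finset.prod_pow_eq_pow_sum]
    exact Ideal.prod_mem_prod fun i _ => Ideal.pow_mem_pow (ha i) _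
  exact Ideal.pow_le_pow_right hdn h1

/-- the truncated evaluation maps -/
noncomputable def evTrunc (ha : ∀ i, a i ∈ J) (n : ℕ) : MvPowerSeries σ S →+* S ⧸ J ^ n where
  toFun p := Ideal.Quotient.mk (J ^ n) (MvPolynomial.eval a (truncTotal n p))
  map_zero' := by simp
  map_add' p q := by simp
  map_one' := by
    rcases Nat.eq_zero_or_pos n with rfl | hn
    · haveI : Subsingleton (S ⧸ J ^ 0) := by
        rw [pow_zero, Ideal.one_eq_top]
        exact Ideal.Quotient.subsingleton_iff.mpr rfl
      exact Subsingleton.elim _ _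
    · rw [truncTotal_one hn.ne', map_one, map_one]
  map_mul' p q := by
    rw [← map_mul, ← map_mul, Ideal.Quotient.eq, ← map_sub]
    refine eval_mem_pow J a ha _ n fun x hx => ?_
    rw [MvPolynomial.coeff_sub, coeff_truncTotal _ hx,
      coeff_truncTotal_mul_truncTotal_eq_coeff_mul _ _ hx, sub_self]

theorem evTrunc_apply (ha : ∀ i, a i ∈ J) (n : ℕ) (p : MvPowerSeries σ S) :
    evTrunc J a ha n p = Ideal.Quotient.mk (J ^ n) (MvPolynomial.eval a (truncTotal n p)) := rfl

theorem evTrunc_compat (ha : ∀ i, a i ∈ J) {m n : ℕ} (hle : m ≤ n) :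
    (Ideal.Quotient.factorPow J hle).comp (evTrunc J a ha n) = evTrunc J a ha m := by
  ext p
  rw [RingHom.comp_apply, evTrunc_apply, evTrunc_apply, Ideal.Quotient.factorPow,
    Ideal.Quotient.factor_mk, Ideal.Quotient.eq, ← map_sub]
  refine eval_mem_pow J a ha _ m fun x hx => ?_
  rw [MvPolynomial.coeff_sub, coeff_truncTotal _ hx, coeff_truncTotal _ (hx.trans_le hle), sub_self]

variable [IsAdicComplete J S]

/-- **Evaluation of power series** at elements of `J` in a `J`-adically complete ring. -/
noncomputable def evHom (ha : ∀ i, a i ∈ J) : MvPowerSeries σ S →+* S :=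
  IsAdicComplete.liftRingHom J (evTrunc J a ha) (fun hle => evTrunc_compat J a ha hle)

theorem mk_evHom (ha : ∀ i, a i ∈ J) (n : ℕ) (p : MvPowerSeries σ S) :
    Ideal.Quotient.mk (J ^ n) (evHom J a ha p) =
      Ideal.Quotient.mk (J ^ n) (MvPolynomial.eval a (truncTotal n p)) :=
  IsAdicComplete.mk_liftRingHom J _ _ n p

/-- equality in a Hausdorff ring can be checked modulo `J ^ n` for `n ≥ 2`. -/
theorem eq_of_forall_mk_eq (x y : S) (h : ∀ n : ℕ, 2 ≤ n →
    Ideal.Quotient.mk (J ^ n) x = Ideal.Quotient.mk (J ^ n) y) : x = y := by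
  rw [← sub_eq_zero]
  apply IsHausdorff.haus (inferInstance : IsHausdorff J S)
  intro n
  rw [SModEq.zero, smul_eq_mul, Ideal.mul_top]
  have h2 := h (n + 2) (by omega)
  rw [Ideal.Quotient.eq] at h2
  exact Ideal.pow_le_pow_right (by omega) h2

theorem evHom_C (ha : ∀ i, a i ∈ J) (s : S) : evHom J a ha (C s) = s := by
  classical
  apply eq_of_forall_mk_eq J
  intro n hn
  rw [mk_evHom]
  congr 1
  have : truncTotal n (C s : MvPowerSeries σ S) = MvPolynomial.C s := by
    ext x
    rw [coeff_truncTotal_eq_ite, MvPolynomial.coeff_C, coeff_C]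
    by_cases hx : x = 0
    · subst hx
      rw [if_pos rfl, if_pos]
      rw [map_zero]
      omega
    · rw [if_neg hx, if_neg (Ne.symm hx)]
      simp
  rw [this, MvPolynomial.eval_C]

theorem evHom_X (ha : ∀ i, a i ∈ J) (i : σ) : evHom J a ha (X i) = a i := by
  classical
  apply eq_of_forall_mk_eq J
  intro n hn
  rw [mk_evHom]
  congr 1
  have : truncTotal n (X i : MvPowerSeries σ S) = MvPolynomial.X i := by
    ext x
    rw [coeff_truncTotal_eq_ite, MvPolynomial.coeff_X, coeff_X]
    by_cases hx : x = Finsupp.single i 1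
    · subst hx
      rw [if_pos rfl, if_pos]
      rw [Finsupp.degree_single]
      omega
    · rw [if_neg hx, if_neg (Ne.symm hx)]
      simp
  rw [this, MvPolynomial.eval_X]

end Groth.Agent.Helper13NodeRetr
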