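import Mathlib
import Groth.Agent.S0596
import Groth.Agent.Lib.Helper18ColimSys

/-!
# Approximating formal points of essentially finite type algebras (helper13)

`exists_algHom_approx`: `R` henselian local G-ring, `C` essentially of finite type, `σ : C → R^`
an `R`-algebra map; then some `g : C → R` is congruent to `σ` modulo `m^N R^` (Artin approximation).
-/


set_option autoImplicit false
set_option linter.style.haveILetI false
universe u

namespace Groth.Agent.Helper13NodeRetr

open IsLocalRing

/-- two algebra maps out of a polynomial ring that agree on the variables modulo `K` agree modulo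
`K` everywhere. -/
theorem aeval_sub_mem {R : Type*} [CommRing R] {S : Type*} [CommRing S] [Algebra R S] {n : ℕ}
    (K : Ideal S) (a b : Fin n → S) (hab : ∀ i, a i - b i ∈ K) (P : MvPolynomial (Fin n) R) :
    MvPolynomial.aeval a P - MvPolynomial.aeval b P ∈ K := by
  have h : (Ideal.Quotient.mkₐ R K).comp (MvPolynomial.aeval a) =
      (Ideal.Quotient.mkₐ R K).comp (MvPolynomial.aeval b) := by
    apply MvPolynomial.algHom_ext
    intro i
    simp only [AlgHom.comp_apply, MvPolynomial.aeval_X, Ideal.Quotient.mkₐ_eq_mk]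
    exact Ideal.Quotient.eq.mpr (hab i)
  have h2 := congrArg (fun k : MvPolynomial (Fin n) R →ₐ[R] S ⧸ K => k P) h
  simp only [AlgHom.comp_apply, Ideal.Quotient.mkₐ_eq_mk] at h2
  exact Ideal.Quotient.eq.mp h2

variable (R : Type u) [CommRing R] [HenselianLocalRing R] (hG : CAlg.IsGRing R)
  (C : Type u) [CommRing C] [Algebra R C] [Algebra.EssFiniteType R C]

include hG in
/-- **Approximation of formal points**: an `R`-algebra map `C → R^` (`C` essentially of finite
type over the henselian G-ring `R`) is congruent modulo `m^N R^` to a map `C → R`. -/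
theorem exists_algHom_approx
    (σ : C →ₐ[R] AdicCompletion (maximalIdeal R) R) (N : ℕ) (hN : 1 ≤ N) :
    ∃ g : C →ₐ[R] R, ∀ y : C, σ y - algebraMap R (AdicCompletion (maximalIdeal R) R) (g y) ∈
      (maximalIdeal R ^ N).map (algebraMap R (AdicCompletion (maximalIdeal R) R)) := by
  classical
  haveI : IsNoetherianRing R := hG.1
  set Rh := AdicCompletion (maximalIdeal R) R with hRh
  set K : Ideal Rh := (maximalIdeal R ^ N).map (algebraMap R Rh) with hK
  have hKm : K ≤ maximalIdeal Rh := by
    rw [AdicCompletion.maximalIdeal_eq_map]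
    exact Ideal.map_mono (Ideal.pow_le_self (by omega))
  let C₀ := Algebra.EssFiniteType.subalgebra R C
  let M := Algebra.EssFiniteType.submonoid R C
  obtain ⟨n, π, hπ⟩ := Algebra.FiniteType.iff_quotient_mvPolynomial''.mp
    (inferInstance : Algebra.FiniteType R C₀)
  obtain ⟨k, F, hF⟩ := Submodule.fg_iff_exists_fin_generating_family.mp
    ((inferInstance : IsNoetherianRing (MvPolynomial (Fin n) R)).noetherian
      (RingHom.ker π.toRingHom))
  have hFker : ∀ j, π (F j) = 0 := by
    intro j
    have : F j ∈ RingHom.ker π.toRingHom := by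
      rw [← hF]
      exact Submodule.subset_span ⟨j, rfl⟩
    exact this
  -- the formal solution
  let σ₀ : MvPolynomial (Fin n) R →ₐ[R] Rh := (σ.comp C₀.val).comp π
  let a : Fin n → Rh := fun i => σ₀ (MvPolynomial.X i)
  have hσ₀ : σ₀ = MvPolynomial.aeval a := by
    apply MvPolynomial.algHom_ext
    intro i
    simp [a]
  have ha : ∀ j, MvPolynomial.eval a (MvPolynomial.map (algebraMap R Rh) (F j)) = 0 := by
    intro j
    have h1 : MvPolynomial.eval a (MvPolynomial.map (algebraMap R Rh) (F j)) =
        MvPolynomial.aeval a (F j) := by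
      rw [MvPolynomial.eval_map, MvPolynomial.aeval_def]
    rw [h1, ← hσ₀]
    change σ (C₀.val (π (F j))) = 0
    rw [hFker, map_zero, map_zero]
  obtain ⟨b, hb, hab⟩ := Groth.Agent.S0596.result R hG n k F a ha N
  -- the map on `C₀`
  have hkill : ∀ P, π P = 0 → (MvPolynomial.aeval b : MvPolynomial (Fin n) R →ₐ[R] R) P = 0 := by
    intro P hP
    have hP' : P ∈ Ideal.span (Set.range F) := by
      rw [Ideal.span, hF]
      exact hP
    have hle : Ideal.span (Set.range F) ≤
        RingHom.ker (MvPolynomial.aeval b : MvPolynomial (Fin n) R →ₐ[R] R).toRingHom := by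
      rw [Ideal.span_le]
      rintro _ ⟨j, rfl⟩
      change (MvPolynomial.aeval b) (F j) = 0
      rw [MvPolynomial.aeval_eq_eval]
      exact hb j
    exact hle hP'
  obtain ⟨g₀, hg₀⟩ := Groth.Agent.Lib.Helper18ColimSys.exists_desc π hπ (MvPolynomial.aeval b) hkill
  -- congruence on `C₀`
  have hcong₀ : ∀ x : C₀, σ (x : C) - algebraMap R Rh (g₀ x) ∈ K := by
    intro x
    obtain ⟨P, rfl⟩ := hπ x
    have h1 : σ ((π P : C₀) : C) = MvPolynomial.aeval a P := by
      rw [← hσ₀]
      rfl
    have h2 : algebraMap R Rh (g₀ (π P)) =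
        MvPolynomial.aeval (fun i => algebraMap R Rh (b i)) P := by
      have : g₀ (π P) = MvPolynomial.aeval b P := congrArg (fun k => k P) hg₀
      rw [this]
      exact (MvPolynomial.aeval_algebraMap_apply (A := R) (B := Rh) b P).symm
    rw [h1, h2]
    exact aeval_sub_mem K a _ hab P
  -- units go to units
  have hunit : ∀ y : M, IsUnit (g₀ y) := by
    intro y
    have hy : IsUnit ((y : C₀) : C) := y.2
    have h1 : IsUnit (σ ((y : C₀) : C)) := hy.map σ
    have h2 : IsUnit (algebraMap R Rh (g₀ y)) := by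
      by_contra hnu
      have h3 : algebraMap R Rh (g₀ y) ∈ maximalIdeal Rh := (mem_maximalIdeal _).mpr hnu
      have h4 : σ ((y : C₀) : C) ∈ maximalIdeal Rh := by
        have h5 := Ideal.add_mem _ (hKm (hcong₀ y)) h3
        rwa [sub_add_cancel] at h5
      exact (mem_maximalIdeal _).mp h4 h1
    exact isUnit_of_map_unit (algebraMap R Rh) _ h2
  let g : C →ₐ[R] R := IsLocalization.liftAlgHom (M := M) (f := g₀) hunit
  have hgC₀ : ∀ x : C₀, g (algebraMap C₀ C x) = g₀ x := fun x => IsLocalization.lift_eq _ x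
  refine ⟨g, fun y => ?_⟩
  obtain ⟨⟨x, w⟩, hxw⟩ := IsLocalization.surj M y
  simp only at hxw
  rw [← Ideal.Quotient.eq]
  have hw : IsUnit (Ideal.Quotient.mk K (σ (algebraMap C₀ C w))) :=
    ((w.2 : IsUnit (algebraMap C₀ C w)).map σ).map _
  have e1 : Ideal.Quotient.mk K (σ y) * Ideal.Quotient.mk K (σ (algebraMap C₀ C w)) =
      Ideal.Quotient.mk K (σ (algebraMap C₀ C x)) := by
    rw [← map_mul, ← map_mul, hxw]
  have e2 : Ideal.Quotient.mk K (algebraMap R Rh (g y)) *
      Ideal.Quotient.mk K (algebraMap R Rh (g₀ w)) =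
      Ideal.Quotient.mk K (algebraMap R Rh (g₀ x)) := by
    rw [← map_mul, ← map_mul, ← hgC₀ w, ← hgC₀ x, ← map_mul, hxw]
  have e3 : Ideal.Quotient.mk K (σ (algebraMap C₀ C w)) =
      Ideal.Quotient.mk K (algebraMap R Rh (g₀ w)) := Ideal.Quotient.eq.mpr (hcong₀ w)
  have e4 : Ideal.Quotient.mk K (σ (algebraMap C₀ C x)) =
      Ideal.Quotient.mk K (algebraMap R Rh (g₀ x)) := Ideal.Quotient.eq.mpr (hcong₀ x)
  rw [e4, e3] at e1
  rw [e3] at hw
  exact hw.mul_left_injective (e1.trans e2.symm)

end Groth.Agent.Helper13NodeRetr
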