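import Mathlib

/-!
# Comparing ring maps out of an adic completion (helper13)

`sub_mem_pow_of_sub_mem_pow_of`, `retraction_mem_maximalIdeal`.
-/


set_option autoImplicit false
set_option linter.style.haveILetI false
universe u

namespace Groth.Agent.Helper13NodeRetr

open IsLocalRing

/-- Two ring maps out of an adic completion that send `I` into `𝔫` and agree modulo `𝔫 ^ c` on the
image of `C` agree modulo `𝔫 ^ c`. -/
theorem sub_mem_pow_of_sub_mem_pow_of {C : Type*} [CommRing C] (I : Ideal C) (hI : I.FG)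
    {D : Type*} [CommRing D] (𝔫 : Ideal D) (τ τ' : AdicCompletion I C →+* D) (c : ℕ)
    (hloc : ∀ y ∈ I, τ (AdicCompletion.of I C y) ∈ 𝔫)
    (hloc' : ∀ y ∈ I, τ' (AdicCompletion.of I C y) ∈ 𝔫)
    (h : ∀ y : C, τ (AdicCompletion.of I C y) - τ' (AdicCompletion.of I C y) ∈ 𝔫 ^ c)
    (z : AdicCompletion I C) : τ z - τ' z ∈ 𝔫 ^ c := by
  have key : ∀ (ρ : AdicCompletion I C →+* D), (∀ y ∈ I, ρ (AdicCompletion.of I C y) ∈ 𝔫) →
      ∀ w ∈ (I ^ c).map (algebraMap C (AdicCompletion I C)), ρ w ∈ 𝔫 ^ c := by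
    intro ρ hρ w hw
    have h1 : (I.map (algebraMap C (AdicCompletion I C))).map ρ ≤ 𝔫 := by
      rw [Ideal.map_map, Ideal.map_le_iff_le_comap]
      intro y hy
      exact hρ y hy
    have h2 : ((I ^ c).map (algebraMap C (AdicCompletion I C))).map ρ ≤ 𝔫 ^ c := by
      rw [Ideal.map_pow, Ideal.map_pow]
      exact Ideal.pow_right_mono h1 c
    exact h2 (Ideal.mem_map_of_mem _ hw)
  obtain ⟨y, hy⟩ := Submodule.Quotient.mk_surjective _ (AdicCompletion.eval I C c z)
  have hz : z - AdicCompletion.of I C y ∈ (I ^ c).map (algebraMap C (AdicCompletion I C)) := by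
    have h1 : z - AdicCompletion.of I C y ∈ (AdicCompletion.eval I C c).ker := by
      rw [LinearMap.mem_ker, map_sub, sub_eq_zero, ← hy]
      rfl
    rw [← AdicCompletion.pow_smul_top_eq_ker_eval hI] at h1
    rw [← Submodule.restrictScalars_mem C, ← Ideal.smul_top_eq_map]
    exact h1
  have e : τ z - τ' z = τ (z - AdicCompletion.of I C y) - τ' (z - AdicCompletion.of I C y) +
      (τ (AdicCompletion.of I C y) - τ' (AdicCompletion.of I C y)) := by
    rw [map_sub, map_sub]; ring
  rw [e]
  exact Ideal.add_mem _ (Ideal.sub_mem _ (key τ hloc _ hz) (key τ' hloc' _ hz)) (h y)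

/-- a retraction of a local algebra is a local map. -/
theorem retraction_mem_maximalIdeal {R : Type*} [CommRing R] [IsLocalRing R] {C : Type*}
    [CommRing C] [IsLocalRing C] [Algebra R C] (g : C →ₐ[R] R) (y : C)
    (hy : y ∈ maximalIdeal C) : g y ∈ maximalIdeal R := by
  by_contra hnot
  have hu : IsUnit (g y) := by
    by_contra h
    exact hnot ((mem_maximalIdeal _).mpr h)
  have hu' : IsUnit (algebraMap R C (g y)) := hu.map _
  have h1 : IsUnit (algebraMap R C (g y) - y) := by
    by_contra h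
    have h2 : algebraMap R C (g y) - y ∈ maximalIdeal C := (mem_maximalIdeal _).mpr h
    have h3 := Ideal.add_mem _ h2 hy
    rw [sub_add_cancel] at h3
    exact (mem_maximalIdeal _).mp h3 hu'
  have h4 : IsUnit (g (algebraMap R C (g y) - y)) := h1.map g
  rw [map_sub, AlgHom.commutes, Algebra.algebraMap_self, RingHom.id_apply, sub_self] at h4
  exact not_isUnit_zero h4

end Groth.Agent.Helper13NodeRetr
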