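import Mathlib
import Groth.Prelude.Def_EGA4b
import Groth.Agent.Lib.Helper13NodeRetrA
import Groth.Agent.Lib.Helper13NodeRetrB
import Groth.Agent.Lib.Helper13NodeRetrC
import Groth.Agent.Lib.Helper13NodeRetrD
import Groth.Agent.Lib.Helper19ComplExtend
import Groth.Agent.Lib.Helper19ComplNoeth

/-!
# Retractions realizing a factorization of the node parameter (helper13)

`exists_retraction`: `R` henselian local G-ring with `R^` a UFD, `t₁ t₂ = Δ ≠ 0`, `C` local essentially
of finite type with `C^ ≅ R^[[u,v]]/(uv - Δ)`: there is an `R`-retraction `g : C → R` whose completion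
sends `u, v` to generators of `t₁ R^`, `t₂ R^` (Artin approximation + rigidity of factorizations).
-/

set_option autoImplicit false
set_option linter.style.haveILetI false
universe u
open IsLocalRing

namespace Groth.Agent.Helper13NodeRetr

open MvPowerSeries

variable (R : Type u) [CommRing R] [IsNoetherianRing R] [HenselianLocalRing R] (Δ t₁ t₂ : R)
  (C : Type u) [CommRing C] [IsLocalRing C] [Algebra R C] [Algebra.EssFiniteType R C]

local notation "Rh" => AdicCompletion (maximalIdeal R) R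
local notation "Ch" => AdicCompletion (maximalIdeal C) C
local notation "fN" => (X 0 * X 1 - MvPowerSeries.C (algebraMap R Rh Δ) : MvPowerSeries (Fin 2) Rh)

/-- **Retraction realizing a factorization of the node parameter.** -/
theorem exists_retraction (hG : CAlg.IsGRing R)
    [IsDomain Rh] [UniqueFactorizationMonoid Rh]
    (hΔ : Δ ≠ 0) (ht₁ : t₁ ∈ maximalIdeal R) (ht₂ : t₂ ∈ maximalIdeal R) (ht : t₁ * t₂ = Δ)
    (ψ : Ch ≃+* (MvPowerSeries (Fin 2) Rh ⧸ Ideal.span {fN}))
    (hψ : ψ.toRingHom.comp ((algebraMap C Ch).comp (algebraMap R C)) =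
      (Ideal.Quotient.mk _).comp ((MvPowerSeries.C : Rh →+* MvPowerSeries (Fin 2) Rh).comp
          (algebraMap R Rh))) :
    ∃ (g : C →ₐ[R] R) (ĝ : Ch →+* Rh),
      ĝ.comp (algebraMap C Ch) = (algebraMap R Rh).comp g.toRingHom ∧
      Ideal.span {ĝ (ψ.symm (Ideal.Quotient.mk _ (X 0)))} = Ideal.span {algebraMap R Rh t₁} ∧
      Ideal.span {ĝ (ψ.symm (Ideal.Quotient.mk _ (X 1)))} = Ideal.span {algebraMap R Rh t₂} := by
  classical
  haveI : IsNoetherianRing Rh := Groth.Agent.Lib.Helper19.isNoetherianRing_adicCompletion _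
  have hιinj : Function.Injective (algebraMap R Rh) :=
    AdicCompletion.of_injective (maximalIdeal R) R
  have hmax : maximalIdeal Rh = (maximalIdeal R).map (algebraMap R Rh) :=
    AdicCompletion.maximalIdeal_eq_map
  have hΔh : algebraMap R Rh t₁ * algebraMap R Rh t₂ ≠ 0 := by
    rw [← map_mul, ht]
    intro h
    exact hΔ (hιinj (h.trans (map_zero _).symm))
  obtain ⟨c, hc1, hc⟩ := exists_order_assoc (D := Rh) (algebraMap R Rh t₁) (algebraMap R Rh t₂) hΔh
  -- the evaluation map
  let a : Fin 2 → Rh := ![algebraMap R Rh t₁, algebraMap R Rh t₂]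
  have ha : ∀ i, a i ∈ maximalIdeal Rh := by
    intro i
    rw [hmax]
    fin_cases i
    · exact Ideal.mem_map_of_mem _ ht₁
    · exact Ideal.mem_map_of_mem _ ht₂
  let ev := evHom (maximalIdeal Rh) a ha
  have hevf : ev fN = 0 := by
    rw [map_sub, map_mul, evHom_X, evHom_X, evHom_C, ← ht, map_mul]
    simp [a]
  let evq : (MvPowerSeries (Fin 2) Rh ⧸ Ideal.span {fN}) →+* Rh :=
    Ideal.Quotient.lift _ ev (by
      intro x hx
      obtain ⟨w, rfl⟩ := Ideal.mem_span_singleton'.mp hx
      rw [map_mul, hevf, mul_zero])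
  have hevq : ∀ p, evq (Ideal.Quotient.mk _ p) = ev p := fun p => Ideal.Quotient.lift_mk _ _ _
  -- the formal point
  let τ : Ch →+* Rh := evq.comp ψ.toRingHom
  have hψr : ∀ r : R, ψ (algebraMap C Ch (algebraMap R C r)) =
      Ideal.Quotient.mk _ (MvPowerSeries.C (algebraMap R Rh r)) := fun r =>
    congrArg (fun k : R →+* _ => k r) hψ
  have hτr : ∀ r : R, τ (algebraMap C Ch (algebraMap R C r)) = algebraMap R Rh r := by
    intro r
    change evq (ψ (algebraMap C Ch (algebraMap R C r))) = _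
    rw [hψr, hevq, evHom_C]
  let σ : C →ₐ[R] Rh := AlgHom.mk (τ.comp (algebraMap C Ch)) hτr
  have hσ : ∀ y : C, σ y = τ (algebraMap C Ch y) := fun y => rfl
  obtain ⟨g, hg⟩ := exists_algHom_approx R hG C σ c hc1
  -- the completion of `g`
  haveI : IsNoetherianRing C := Algebra.EssFiniteType.isNoetherianRing R C
  have hgloc : ∀ y ∈ maximalIdeal C, algebraMap R Rh (g y) ∈ maximalIdeal Rh := by
    intro y hy
    rw [hmax]
    exact Ideal.mem_map_of_mem _ (retraction_mem_maximalIdeal g y hy)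
  obtain ⟨Ψ, hΨ⟩ := Groth.Agent.Lib.Helper19.exists_algHom_adicCompletion (R := R)
    (maximalIdeal C) (maximalIdeal Rh) ((Algebra.ofId R Rh).comp g) (by
      rw [Ideal.map_le_iff_le_comap]
      intro y hy
      exact hgloc y hy)
  have hΨ' : ∀ y : C, Ψ (algebraMap C Ch y) = algebraMap R Rh (g y) := fun y => hΨ y
  have hpow : (maximalIdeal R ^ c).map (algebraMap R Rh) = maximalIdeal Rh ^ c := by
    rw [hmax, Ideal.map_pow]
  have hcong : ∀ z : Ch, τ z - Ψ z ∈ maximalIdeal Rh ^ c := by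
    refine sub_mem_pow_of_sub_mem_pow_of (maximalIdeal C)
      (maximalIdeal C).fg_of_isNoetherianRing (maximalIdeal Rh) τ Ψ.toRingHom c ?_ ?_ ?_
    · intro y hy
      have h1 := hg y
      rw [hpow] at h1
      have h2 := Ideal.add_mem _ (Ideal.pow_le_self (by omega) h1) (hgloc y hy)
      rw [sub_add_cancel] at h2
      exact h2
    · intro y hy
      change Ψ (algebraMap C Ch y) ∈ _
      rw [hΨ']
      exact hgloc y hy
    · intro y
      change τ (algebraMap C Ch y) - Ψ (algebraMap C Ch y) ∈ _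
      rw [hΨ', ← hσ, ← hpow]
      exact hg y
  refine ⟨g, Ψ.toRingHom, ?_, ?_⟩
  · exact RingHom.ext fun y => hΨ' y
  -- the two elements
  set u' := Ψ (ψ.symm (Ideal.Quotient.mk _ (X 0))) with hu'
  set v' := Ψ (ψ.symm (Ideal.Quotient.mk _ (X 1))) with hv'
  have hu : u' - algebraMap R Rh t₁ ∈ maximalIdeal Rh ^ c := by
    have h1 := hcong (ψ.symm (Ideal.Quotient.mk _ (X 0)))
    have h2 : τ (ψ.symm (Ideal.Quotient.mk _ (X 0))) = algebraMap R Rh t₁ := by
      change evq (ψ (ψ.symm _)) = _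
      rw [RingEquiv.apply_symm_apply, hevq, evHom_X]
      rfl
    rw [h2] at h1
    have := Ideal.neg_mem_iff _ |>.mpr h1
    rwa [neg_sub] at this
  have hv : v' - algebraMap R Rh t₂ ∈ maximalIdeal Rh ^ c := by
    have h1 := hcong (ψ.symm (Ideal.Quotient.mk _ (X 1)))
    have h2 : τ (ψ.symm (Ideal.Quotient.mk _ (X 1))) = algebraMap R Rh t₂ := by
      change evq (ψ (ψ.symm _)) = _
      rw [RingEquiv.apply_symm_apply, hevq, evHom_X]
      rfl
    rw [h2] at h1
    have := Ideal.neg_mem_iff _ |>.mpr h1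
    rwa [neg_sub] at this
  have huv : u' * v' = algebraMap R Rh t₁ * algebraMap R Rh t₂ := by
    have h1 : (Ideal.Quotient.mk (Ideal.span {fN}) (X 0) : MvPowerSeries (Fin 2) Rh ⧸ Ideal.span {fN}) *
        Ideal.Quotient.mk (Ideal.span {fN}) (X 1) =
        Ideal.Quotient.mk (Ideal.span {fN}) (MvPowerSeries.C (algebraMap R Rh Δ)) := by
      rw [← map_mul, Ideal.Quotient.eq]
      exact Ideal.subset_span rfl
    have h2 : ψ.symm (Ideal.Quotient.mk (Ideal.span {fN}) (MvPowerSeries.C (algebraMap R Rh Δ))) =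
        algebraMap C Ch (algebraMap R C Δ) := by
      rw [RingEquiv.symm_apply_eq, hψr]
    rw [hu', hv', ← map_mul, ← map_mul, h1, h2, hΨ', AlgHom.commutes, ← map_mul, ht]
    rfl
  exact hc u' v' huv hu hv

end Groth.Agent.Helper13NodeRetr
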