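import Mathlib
import Groth.Agent.Lib.Helper13KzLiftH
import Groth.Agent.S11917
import Groth.Agent.Lib.Helper5GorRing
import Groth.Agent.S0343

/-!
# Quotients of Gorenstein rings by Koszul-regular ideals (helper5)

* `acyclic_of_cons`: in a Noetherian local ring, if the Koszul complex of `x :: l` (with `x` in the
  maximal ideal) on a finite module is acyclic off degree `0`, so is that of `l`, and `x` is a
  nonzerodivisor on `H^0(K(l; M)) = M/(l)M`.
* `gorLocal_quotient_of_koszul`: Gorenstein local ring modulo a Koszul-regular sequence in the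
  maximal ideal is Gorenstein.
* `subsingleton_KH_map_of_flat`: flat base change of Koszul acyclicity.
* `gorRing_quotient_of_koszulRegularIdeal`, `gorRing_mvPolynomial`, `gorRing_of_isLCI`.
-/

set_option autoImplicit false
universe u

namespace Groth.Agent.Lib.Helper5.KoszulGor

open CategoryTheory CochainComplex CohIII IsLocalRing LocCoh
open Groth.Agent.Helper13Kz Groth.Agent.Helper13KzLift Groth.Agent.Lib.Helper5.GorRing
open Groth.Agent.Lib.Helper28
open scoped TensorProduct

section Local

variable {A : Type u} [CommRing A]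

theorem cone_les' (K : CochainComplex (ModuleCat.{u} A) ℤ) (x : A) (i j : ℤ) (hij : i + 1 = j) :
    ∃ (g : K.homology i →ₗ[A] (mappingCone (x • 𝟙 K)).homology i)
      (δ : (mappingCone (x • 𝟙 K)).homology i →ₗ[A] K.homology j),
      Function.Exact (x • (LinearMap.id : K.homology i →ₗ[A] K.homology i)) g ∧
      Function.Exact g δ ∧
      Function.Exact δ (x • (LinearMap.id : K.homology j →ₗ[A] K.homology j)) := by
  subst hij
  exact cone_les K x i

theorem subsingleton_of_smul_surjective [IsLocalRing A] {N : Type*} [AddCommGroup N] [Module A N]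
    [Module.Finite A N] (x : A) (hx : x ∈ maximalIdeal A)
    (hs : Function.Surjective (x • (LinearMap.id : N →ₗ[A] N))) : Subsingleton N := by
  have h1 : (⊤ : Submodule A N) ≤ maximalIdeal A • (⊤ : Submodule A N) := by
    intro n _
    obtain ⟨m, rfl⟩ := hs n
    rw [LinearMap.smul_apply, LinearMap.id_apply]
    exact Submodule.smul_mem_smul hx Submodule.mem_top
  have h2 := Submodule.eq_bot_of_le_smul_of_le_jacobson_bot (maximalIdeal A)
    (⊤ : Submodule A N) Module.Finite.fg_top h1
    (by rw [IsLocalRing.jacobson_eq_maximalIdeal ⊥ bot_ne_top])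
  exact (Submodule.subsingleton_iff A).mp (subsingleton_of_bot_eq_top h2.symm)

theorem acyclic_of_cons [IsLocalRing A] [IsNoetherianRing A] (M : Type u) [AddCommGroup M]
    [Module A M] [Module.Finite A M] (x : A) (l : List A) (hx : x ∈ maximalIdeal A)
    (h : ∀ i : ℤ, i ≠ 0 → Subsingleton (KH (x :: l) M i)) :
    (∀ i : ℤ, i ≠ 0 → Subsingleton (KH l M i)) ∧
      Function.Injective (x • (LinearMap.id : KH l M 0 →ₗ[A] KH l M 0)) := by
  constructor
  · intro i hi
    obtain ⟨g, δ, h1, h2, h3⟩ := cone_les (koszulCx (ModuleCat.of A M) l) x i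
    haveI : Subsingleton ((mappingCone (x • 𝟙 (koszulCx (ModuleCat.of A M) l))).homology i) :=
      h i hi
    haveI : IsNoetherian A (KH l M i) := isNoetherian_KH M l i
    apply subsingleton_of_smul_surjective x hx
    intro y
    have hgy : g y = 0 := Subsingleton.elim _ _
    exact (h1 y).mp hgy
  · obtain ⟨g, δ, h1, h2, h3⟩ :=
      cone_les' (koszulCx (ModuleCat.of A M) l) x (-1) 0 (by norm_num)
    haveI : Subsingleton ((mappingCone (x • 𝟙 (koszulCx (ModuleCat.of A M) l))).homology (-1)) :=
      h (-1) (by norm_num)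
    rw [← LinearMap.ker_eq_bot, eq_bot_iff]
    intro y hy
    obtain ⟨z, hz⟩ := (h3 y).mp hy
    rw [Submodule.mem_bot, ← hz, Subsingleton.elim z 0, map_zero]

/-- A Gorenstein local ring modulo a Koszul-regular sequence in the maximal ideal is Gorenstein. -/
theorem gorLocal_quotient_of_koszul (R : Type u) [CommRing R] [hG : IsGorensteinLocalRing R] :
    ∀ (l : List R), (∀ x ∈ l, x ∈ maximalIdeal R) →
      (∀ i : ℤ, i ≠ 0 → Subsingleton (KH l R i)) →
      IsGorensteinLocalRing (R ⧸ Ideal.ofList l)
  | [], _, _ => by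
    have hbot : (⊥ : Ideal R) = Ideal.ofList ([] : List R) := Ideal.ofList_nil.symm
    exact gorLocal_of_ringEquiv ((RingEquiv.quotientBot R).symm.trans (Ideal.quotEquivOfEq hbot))
  | x :: l, hm, hK => by
    obtain ⟨hK0, hinj⟩ := acyclic_of_cons R x l (hm x List.mem_cons_self) hK
    have IH : IsGorensteinLocalRing (R ⧸ Ideal.ofList l) :=
      gorLocal_quotient_of_koszul R l (fun y hy => hm y (List.mem_cons_of_mem _ hy)) hK0
    haveI := IH
    have hmem : Ideal.Quotient.mk (Ideal.ofList l) x ∈ maximalIdeal (R ⧸ Ideal.ofList l) := by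
      rw [← IsLocalRing.map_maximalIdeal_of_surjective (Ideal.Quotient.mk (Ideal.ofList l))
        Ideal.Quotient.mk_surjective]
      exact Ideal.mem_map_of_mem _ (hm x List.mem_cons_self)
    obtain ⟨e⟩ := Groth.Agent.S11917.main R l
    have htop : (Ideal.ofList l • (⊤ : Submodule R R)) = Ideal.ofList l := by
      rw [smul_eq_mul, Ideal.mul_top]
    have hreg : IsSMulRegular (R ⧸ Ideal.ofList l) (Ideal.Quotient.mk (Ideal.ofList l) x) := by
      rw [isSMulRegular_iff_right_eq_zero_of_smul]
      intro a ha
      obtain ⟨r, rfl⟩ := Ideal.Quotient.mk_surjective a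
      rw [smul_eq_mul, ← map_mul, Ideal.Quotient.eq_zero_iff_mem] at ha
      have h0 : x • (Submodule.Quotient.mk r : R ⧸ (Ideal.ofList l • (⊤ : Submodule R R))) = 0 := by
        rw [← Submodule.Quotient.mk_smul, Submodule.Quotient.mk_eq_zero, htop, smul_eq_mul]
        exact ha
      have h1 : (x • (LinearMap.id : KH l R 0 →ₗ[R] KH l R 0))
          (e.symm (Submodule.Quotient.mk r)) = 0 := by
        rw [LinearMap.smul_apply, LinearMap.id_apply, ← map_smul, h0, map_zero]
      have h2 : e.symm (Submodule.Quotient.mk r) = 0 := hinj (h1.trans (map_zero _).symm)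
      have h3 : (Submodule.Quotient.mk r : R ⧸ (Ideal.ofList l • (⊤ : Submodule R R))) = 0 := by
        have := congrArg e h2
        rwa [LinearEquiv.apply_symm_apply, map_zero] at this
      rw [Submodule.Quotient.mk_eq_zero, htop] at h3
      exact Ideal.Quotient.eq_zero_iff_mem.mpr h3
    have hG1 := (Groth.Agent.S0343.result (R ⧸ Ideal.ofList l) _ hmem hreg).mp IH
    haveI := hG1
    have e1 : ((R ⧸ Ideal.ofList l) ⧸ Ideal.span {Ideal.Quotient.mk (Ideal.ofList l) x}) ≃+*
        ((R ⧸ Ideal.ofList l) ⧸ (Ideal.span {x}).map (Ideal.Quotient.mk (Ideal.ofList l))) :=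
      Ideal.quotEquivOfEq (by rw [Ideal.map_span, Set.image_singleton])
    have e2 := DoubleQuot.quotQuotEquivQuotSup (Ideal.ofList l) (Ideal.span {x})
    have e3 : (R ⧸ (Ideal.ofList l ⊔ Ideal.span {x})) ≃+* (R ⧸ Ideal.ofList (x :: l)) :=
      Ideal.quotEquivOfEq (by rw [Ideal.ofList_cons, sup_comm])
    exact gorLocal_of_ringEquiv ((e1.trans e2).trans e3)

end Local

section Flat

variable {S T : Type u} [CommRing S] [CommRing T] (φ : S →+* T)

theorem isZero_homology_of_restrict (M : ModuleCat.{u} T) (l : List S) (i : ℤ)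
    (h : Limits.IsZero ((koszulCx ((ModuleCat.restrictScalars φ).obj M) l).homology i)) :
    Limits.IsZero ((koszulCx M (l.map φ)).homology i) := by
  have h1 : Limits.IsZero ((((ModuleCat.restrictScalars φ).mapHomologicalComplex
      (ComplexShape.up ℤ)).obj (koszulCx M (l.map φ))).homology i) :=
    Limits.IsZero.of_iso h ((HomologicalComplex.homologyFunctor _ _ i).mapIso (restrictIso φ M l))
  rw [← HomologicalComplex.exactAt_iff_isZero_homology] at h1 ⊢
  have h2 : (((koszulCx M (l.map φ)).sc i).map (ModuleCat.restrictScalars φ)).Exact := h1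
  exact (ShortComplex.exact_map_iff_of_faithful _ (ModuleCat.restrictScalars φ)).mp h2

theorem subsingleton_KH_map_of_flat (hφ : φ.Flat) (l : List S) (i : ℤ)
    (h : Subsingleton (KH l S i)) : Subsingleton (KH (l.map φ) T i) := by
  letI : Algebra S T := φ.toAlgebra
  haveI : Module.Flat S T := hφ
  have h1 : Subsingleton (KH l (S ⊗[S] T) i) := subsingleton_KH_tensor_flat S T l i h
  have h2 : Subsingleton (KH l T i) := subsingleton_KH_of_equiv l (TensorProduct.lid S T) i h1
  let e' : T ≃ₗ[S] ((ModuleCat.restrictScalars φ).obj (ModuleCat.of T T)) :=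
    { toFun := fun t => t
      invFun := fun t => t
      left_inv := fun _ => rfl
      right_inv := fun _ => rfl
      map_add' := fun _ _ => rfl
      map_smul' := fun _ _ => rfl }
  have h3 : Subsingleton (KH l ((ModuleCat.restrictScalars φ).obj (ModuleCat.of T T)) i) :=
    subsingleton_KH_of_equiv l e' i h2
  have h4 := isZero_homology_of_restrict φ (ModuleCat.of T T) l i
    (ModuleCat.isZero_of_subsingleton _)
  exact ModuleCat.subsingleton_of_isZero h4

end Flat

section Global

variable {P : Type u} [CommRing P]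

theorem gorLocal_atPrime_quotient (I : Ideal P) (Q : Ideal P) [Q.IsPrime] (hIQ : I ≤ Q)
    (q' : Ideal (P ⧸ I)) [q'.IsPrime] (hq' : q' = Q.map (Ideal.Quotient.mk I))
    (hG : IsGorensteinLocalRing
      (Localization.AtPrime Q ⧸ I.map (algebraMap P (Localization.AtPrime Q)))) :
    IsGorensteinLocalRing (Localization.AtPrime q') := by
  subst hq'
  have inst : IsLocalization (Algebra.algebraMapSubmonoid (P ⧸ I) Q.primeCompl)
      (Localization.AtPrime Q ⧸ I.map (algebraMap P (Localization.AtPrime Q))) :=
    inferInstance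
  rw [algebraMapSubmonoid_quotient_primeCompl I Q hIQ] at inst
  haveI inst' : IsLocalization.AtPrime
      (Localization.AtPrime Q ⧸ I.map (algebraMap P (Localization.AtPrime Q)))
      (Q.map (Ideal.Quotient.mk I)) := inst
  haveI := hG
  exact gorLocal_of_ringEquiv
    (IsLocalization.algEquiv (Q.map (Ideal.Quotient.mk I)).primeCompl
      (Localization.AtPrime Q ⧸ I.map (algebraMap P (Localization.AtPrime Q)))
      (Localization.AtPrime (Q.map (Ideal.Quotient.mk I)))).toRingEquiv

/-- The quotient of a Gorenstein ring by a Koszul-regular ideal is Gorenstein. -/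
theorem gorRing_quotient_of_koszulRegularIdeal [hP : IsGorensteinRing P] (I : Ideal P)
    (hI : LCI.IsKoszulRegularIdeal I) : IsGorensteinRing (P ⧸ I) := by
  refine { isGorensteinLocalRing_localization := ?_ }
  intro q' hq'
  have hQp : (q'.comap (Ideal.Quotient.mk I)).IsPrime := Ideal.comap_isPrime _ _
  have hIQ : I ≤ q'.comap (Ideal.Quotient.mk I) := by
    intro a ha
    rw [Ideal.mem_comap, Ideal.Quotient.eq_zero_iff_mem.mpr ha]
    exact zero_mem _
  obtain ⟨g, hg, l, hl, hspan⟩ := hI ⟨q'.comap (Ideal.Quotient.mk I), hQp⟩ hIQ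
  have hgu : IsUnit (algebraMap P (Localization.AtPrime (q'.comap (Ideal.Quotient.mk I))) g) :=
    IsLocalization.map_units (Localization.AtPrime (q'.comap (Ideal.Quotient.mk I)))
      (⟨g, hg⟩ : (q'.comap (Ideal.Quotient.mk I)).primeCompl)
  let ψ : Localization.Away g →+* Localization.AtPrime (q'.comap (Ideal.Quotient.mk I)) :=
    IsLocalization.Away.lift g hgu
  have hψ : ψ.comp (algebraMap P (Localization.Away g)) =
      algebraMap P (Localization.AtPrime (q'.comap (Ideal.Quotient.mk I))) :=
    IsLocalization.Away.lift_comp g hgu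
  letI : Algebra (Localization.Away g) (Localization.AtPrime (q'.comap (Ideal.Quotient.mk I))) :=
    ψ.toAlgebra
  haveI : IsScalarTower P (Localization.Away g)
      (Localization.AtPrime (q'.comap (Ideal.Quotient.mk I))) :=
    IsScalarTower.of_algebraMap_eq' hψ.symm
  have hflat : Module.Flat (Localization.Away g)
      (Localization.AtPrime (q'.comap (Ideal.Quotient.mk I))) :=
    (Module.flat_iff_of_isLocalization (Localization.Away g) (Submonoid.powers g)
      (Localization.AtPrime (q'.comap (Ideal.Quotient.mk I)))).mpr inferInstance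
  have hK : ∀ i : ℤ, i ≠ 0 → Subsingleton (KH (l.map ψ)
      (Localization.AtPrime (q'.comap (Ideal.Quotient.mk I))) i) := fun i hi =>
    subsingleton_KH_map_of_flat ψ hflat l i ((isKoszulRegularSeq_iff _ l).mp hl i hi)
  have hspan' : Ideal.ofList (l.map ψ) =
      I.map (algebraMap P (Localization.AtPrime (q'.comap (Ideal.Quotient.mk I)))) := by
    rw [← Ideal.map_ofList, ← hψ, ← Ideal.map_map, hspan]
  have hmem : ∀ y ∈ l.map ψ,
      y ∈ maximalIdeal (Localization.AtPrime (q'.comap (Ideal.Quotient.mk I))) := by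
    intro y hy
    have h1 : y ∈ Ideal.ofList (l.map ψ) := Ideal.subset_span hy
    rw [hspan'] at h1
    rw [← Localization.AtPrime.map_eq_maximalIdeal]
    exact Ideal.map_mono hIQ h1
  haveI := hP.isGorensteinLocalRing_localization (q'.comap (Ideal.Quotient.mk I))
  have hGq := gorLocal_quotient_of_koszul
    (Localization.AtPrime (q'.comap (Ideal.Quotient.mk I))) (l.map ψ) hmem hK
  haveI := hGq
  have hG' : IsGorensteinLocalRing (Localization.AtPrime (q'.comap (Ideal.Quotient.mk I)) ⧸
      I.map (algebraMap P (Localization.AtPrime (q'.comap (Ideal.Quotient.mk I))))) :=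
    gorLocal_of_ringEquiv (Ideal.quotEquivOfEq hspan')
  exact gorLocal_atPrime_quotient I (q'.comap (Ideal.Quotient.mk I)) hIQ q'
    (Ideal.map_comap_of_surjective _ Ideal.Quotient.mk_surjective q').symm hG'

theorem gorRing_mvPolynomial (A : Type u) [CommRing A] [hA : IsGorensteinRing A] :
    ∀ n : ℕ, IsGorensteinRing (MvPolynomial (Fin n) A)
  | 0 => gorRing_of_ringEquiv (MvPolynomial.isEmptyRingEquiv A (Fin 0)).symm
  | n + 1 => by
    haveI := gorRing_mvPolynomial A n
    haveI := gorRing_polynomial (MvPolynomial (Fin n) A)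
    exact gorRing_of_ringEquiv (MvPolynomial.finSuccEquiv A n).symm.toRingEquiv

/-- A local complete intersection algebra over a Gorenstein ring is Gorenstein. -/
theorem gorRing_of_isLCI (A B : Type u) [CommRing A] [CommRing B] [Algebra A B]
    (hA : IsGorensteinRing A) (h : LCI.IsLCI A B) : IsGorensteinRing B := by
  obtain ⟨-, n, f, hf, hK⟩ := h
  haveI := gorRing_mvPolynomial A n
  haveI := gorRing_quotient_of_koszulRegularIdeal (RingHom.ker f.toRingHom) hK
  exact gorRing_of_ringEquiv (RingHom.quotientKerEquivOfSurjective (f := f.toRingHom) hf)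

end Global

end Groth.Agent.Lib.Helper5.KoszulGor
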