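import Mathlib
import Groth.Agent.Lib.Helper13KzLiftI
import Groth.Agent.Lib.Helper5KoszulGor

/-!
# Arbitrary base change of Koszul-regular ideals with flat quotient (helper5)

* `acycAt_of_flat_quot`: `R'` flat over `A'`, `l'` a list in `R'` with `K(l'; R')` acyclic in
  negative degrees and `R'/(l')` flat over `A'`; then `K(l'; R' ⊗_{A'} X)` is acyclic in negative
  degrees for every `A'`-module `X`.
* `koszulRegular_baseChange`: `P` flat over `A`, `I ⊆ P` Koszul-regular with `P/I` flat over `A`;
  then `I (P ⊗_A k)` is Koszul-regular for every `A`-algebra `k`.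
* `gorRing_fibre_of_flat_isLCI`: fibres of a flat lci ring map are Gorenstein.
-/

set_option autoImplicit false
universe u

namespace Groth.Agent.Lib.Helper5.KoszulBC

open CategoryTheory CochainComplex CohIII LocCoh
open Groth.Agent.Helper13Kz Groth.Agent.Helper13KzLift
open scoped TensorProduct

section ModuleLevel

variable {A' : Type u} {R' : Type u} [CommRing A'] [CommRing R'] [Algebra A' R']
  (l' : List R')
  {Q : Type u} [AddCommGroup Q] [Module R' Q] [Module A' Q] [IsScalarTower A' R' Q]
  [Module.Flat A' Q]
  (π : R' →ₗ[R'] Q) (hπ : Function.Surjective π)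
  (hker : LinearMap.ker π = Ideal.ofList l')
include hπ hker

theorem H2_flat {N N' : Type u} [AddCommGroup N] [Module A' N] [AddCommGroup N'] [Module A' N']
    (g : N →ₗ[A'] N') (hg : Function.Injective g) :
    Function.Injective (KHmap l' (g.baseChange R') 0) := by
  rw [KHmap_zero_injective_iff]
  intro x hx
  rw [LinearMap.baseChange_eq_ltensor] at hx
  have hker' : LinearMap.ker π = Ideal.ofList l' ⊔ (⊥ : Ideal R') := by
    rw [sup_bot_eq]; exact hker
  have hb : ∀ (X : Type u) [AddCommGroup X] [Module A' X], ∀ c ∈ (⊥ : Ideal R'),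
      ∀ y : R' ⊗[A'] X, c • y = 0 := by
    intro X _ _ c hc y
    rw [(Submodule.mem_bot R').mp hc, zero_smul]
  have h1 := (G0 π hπ (Ideal.ofList l') ⊥ hker' N' (hb N') _).mpr hx
  rw [← LinearMap.comp_apply, LinearMap.rTensor_comp_lTensor, ← LinearMap.lTensor_comp_rTensor,
    LinearMap.comp_apply] at h1
  have hinj : Function.Injective (LinearMap.lTensor Q g) :=
    Module.Flat.lTensor_preserves_injective_linearMap g hg
  have h2 := hinj (h1.trans (map_zero _).symm)
  exact (G0 π hπ (Ideal.ofList l') ⊥ hker' N (hb N) _).mp h2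

variable [Module.Flat A' R']

theorem step0_flat {N N' X : Type u} [AddCommGroup N] [Module A' N] [AddCommGroup N']
    [Module A' N'] [AddCommGroup X] [Module A' X] (g : N →ₗ[A'] N') (p : N' →ₗ[A'] X)
    (hg : Function.Injective g) (hp : Function.Surjective p) (hex : Function.Exact g p)
    (hF : AcycAt A' l' (-1) N') : AcycAt A' l' (-1) X :=
  AcycAt.shift0' l' g p hg hp hex (by norm_num) hF (H2_flat l' π hπ hker g hg)

variable (H1 : ∀ i : ℤ, i < 0 → Subsingleton (KH l' R' i))
include H1

theorem acycAt_aux : ∀ (n : ℕ) (i : ℤ), i + n + 1 = 0 →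
    ∀ (X : Type u) [AddCommGroup X] [Module A' X], AcycAt A' l' i X := by
  have H1' : ∀ i : ℤ, i < 0 → AcycAt A' l' i A' := fun i hi =>
    subsingleton_KH_of_equiv l' (TensorProduct.AlgebraTensorModule.rid A' R' R').symm i (H1 i hi)
  intro n
  induction n with
  | zero =>
    intro i hi X _ _
    have hi' : i = -1 := by simp at hi; omega
    subst hi'
    have hF : AcycAt A' l' (-1) (X →₀ A') := AcycAt.finsupp A' X (H1' (-1) (by norm_num))
    exact step0_flat l' π hπ hker
      (N := LinearMap.ker (Finsupp.linearCombination A' (id : X → X)))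
      (N' := X →₀ A') (X := X)
      (LinearMap.ker (Finsupp.linearCombination A' (id : X → X))).subtype
      (Finsupp.linearCombination A' (id : X → X))
      (Submodule.injective_subtype _) (Finsupp.linearCombination_id_surjective A' X)
      (LinearMap.exact_subtype_ker_map _) hF
  | succ n ih =>
    intro i hi X _ _
    have hF : AcycAt A' l' i (X →₀ A') :=
      AcycAt.finsupp A' X (H1' i (by push_cast at hi; omega))
    have hK : AcycAt A' l' (i + 1)
        (LinearMap.ker (Finsupp.linearCombination A' (id : X → X))) :=
      ih (i + 1) (by push_cast at hi ⊢; omega) _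
    exact AcycAt.shift
      (LinearMap.ker (Finsupp.linearCombination A' (id : X → X))).subtype
      (Finsupp.linearCombination A' (id : X → X))
      (Submodule.injective_subtype _) (Finsupp.linearCombination_id_surjective A' X)
      (LinearMap.exact_subtype_ker_map _) hF hK

theorem acycAt_of_flat_quot (X : Type u) [AddCommGroup X] [Module A' X] (i : ℤ) (hi : i < 0) :
    AcycAt A' l' i X :=
  acycAt_aux l' π hπ hker H1 (-i - 1).toNat i (by omega) X

end ModuleLevel

section RingLevel

variable (A P k : Type u) [CommRing A] [CommRing P] [CommRing k] [Algebra A P] [Algebra A k]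
  [Module.Flat A P]

/-- Step (i): Koszul acyclicity of `K(l; P_g ⊗_A X)` for all `A`-modules `X`. -/
theorem acycAt_away (I : Ideal P) (hflat : Module.Flat A (P ⧸ I)) (g : P)
    (l : List (Localization.Away g)) (hl : LCI.IsKoszulRegularSeq (Localization.Away g) l)
    (hIl : I.map (algebraMap P (Localization.Away g)) = Ideal.span {x | x ∈ l})
    (X : Type u) [AddCommGroup X] [Module A X] (i : ℤ) (hi : i < 0) :
    AcycAt A l i X := by
  letI : Algebra (Localization.Away g) (Localization.Away (Ideal.Quotient.mk I g)) :=
    (Localization.awayMap (Ideal.Quotient.mk I) g).toAlgebra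
  haveI : IsScalarTower A (Localization.Away g) (Localization.Away (Ideal.Quotient.mk I g)) :=
    IsScalarTower.of_algebraMap_eq (fun a => by
      show algebraMap A (Localization.Away (Ideal.Quotient.mk I g)) a =
        (Localization.awayMap (Ideal.Quotient.mk I) g) (algebraMap A (Localization.Away g) a)
      rw [IsScalarTower.algebraMap_apply A P (Localization.Away g),
        IsScalarTower.algebraMap_apply A (P ⧸ I) (Localization.Away (Ideal.Quotient.mk I g))]
      have h2 : (Localization.awayMap (Ideal.Quotient.mk I) g)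
          (algebraMap P (Localization.Away g) (algebraMap A P a)) =
          algebraMap (P ⧸ I) (Localization.Away (Ideal.Quotient.mk I g))
            (Ideal.Quotient.mk I (algebraMap A P a)) := IsLocalization.map_eq _ _
      rw [h2]
      rfl)
  haveI : Module.Flat A (Localization.Away (Ideal.Quotient.mk I g)) :=
    Module.Flat.trans A (P ⧸ I) (Localization.Away (Ideal.Quotient.mk I g))
  haveI : Module.Flat A (Localization.Away g) := Module.Flat.trans A P (Localization.Away g)
  have hπ : Function.Surjective (Algebra.linearMap (Localization.Away g)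
      (Localization.Away (Ideal.Quotient.mk I g))) := by
    haveI : IsLocalization (Submonoid.map (Ideal.Quotient.mk I) (Submonoid.powers g))
        (Localization.Away (Ideal.Quotient.mk I g)) := by
      rw [Submonoid.map_powers]; infer_instance
    exact IsLocalization.map_surjective_of_surjective _ _ _ Ideal.Quotient.mk_surjective
  have hkerψ : RingHom.ker (Localization.awayMap (Ideal.Quotient.mk I) g) = Ideal.ofList l := by
    have := IsLocalization.ker_map (S := Localization.Away g)
      (Localization.Away (Ideal.Quotient.mk I g)) (Ideal.Quotient.mk I)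
      (Submonoid.map_powers (Ideal.Quotient.mk I) g)
    rw [Ideal.mk_ker, hIl] at this
    exact this
  have hker : LinearMap.ker (Algebra.linearMap (Localization.Away g)
      (Localization.Away (Ideal.Quotient.mk I g))) = Ideal.ofList l := by
    rw [← hkerψ]; rfl
  exact acycAt_of_flat_quot l (Algebra.linearMap (Localization.Away g)
      (Localization.Away (Ideal.Quotient.mk I g))) hπ hker
    (fun j hj => (isKoszulRegularSeq_iff (Localization.Away g) l).mp hl j (ne_of_lt hj)) X i hi

/-- Step (ii): `P_g ⊗_A k ≅ (P ⊗_A k)_g` linearly over `P_g`. -/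
theorem nonempty_tensorAwayEquiv (g : P) :
    Nonempty ((Localization.Away g ⊗[A] k) ≃ₗ[Localization.Away g]
      ((ModuleCat.restrictScalars (Localization.awayMap (algebraMap P (P ⊗[A] k)) g)).obj
        (ModuleCat.of (Localization.Away (algebraMap P (P ⊗[A] k) g))
          (Localization.Away (algebraMap P (P ⊗[A] k) g))))) := by
  letI : Algebra (Localization.Away g) (Localization.Away (algebraMap P (P ⊗[A] k) g)) :=
    (Localization.awayMap (algebraMap P (P ⊗[A] k)) g).toAlgebra
  haveI : IsScalarTower P (Localization.Away g)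
      (Localization.Away (algebraMap P (P ⊗[A] k) g)) :=
    IsScalarTower.of_algebraMap_eq (fun x => by
      show algebraMap P (Localization.Away (algebraMap P (P ⊗[A] k) g)) x =
        (Localization.awayMap (algebraMap P (P ⊗[A] k)) g) (algebraMap P (Localization.Away g) x)
      rw [IsScalarTower.algebraMap_apply P (P ⊗[A] k)
        (Localization.Away (algebraMap P (P ⊗[A] k) g))]
      have h2 : (Localization.awayMap (algebraMap P (P ⊗[A] k)) g)
          (algebraMap P (Localization.Away g) x) =
          algebraMap (P ⊗[A] k) (Localization.Away (algebraMap P (P ⊗[A] k) g))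
            (algebraMap P (P ⊗[A] k) x) := IsLocalization.map_eq _ _
      rw [h2])
  haveI : IsLocalization (Algebra.algebraMapSubmonoid (P ⊗[A] k) (Submonoid.powers g))
      (Localization.Away (algebraMap P (P ⊗[A] k) g)) := by
    have h : Algebra.algebraMapSubmonoid (P ⊗[A] k) (Submonoid.powers g) =
        Submonoid.powers (algebraMap P (P ⊗[A] k) g) := Submonoid.map_powers _ g
    rw [h]; infer_instance
  have hbc : IsBaseChange (Localization.Away g)
      ((IsScalarTower.toAlgHom P (P ⊗[A] k)
        (Localization.Away (algebraMap P (P ⊗[A] k) g))).toLinearMap) :=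
    IsLocalizedModule.isBaseChange (Submonoid.powers g) (Localization.Away g) _
  let e3 : (Localization.Away g ⊗[A] k) ≃ₗ[Localization.Away g]
      (Localization.Away (algebraMap P (P ⊗[A] k) g)) :=
    (TensorProduct.AlgebraTensorModule.cancelBaseChange A P (Localization.Away g)
      (Localization.Away g) k).symm ≪≫ₗ hbc.equiv
  let e' : (Localization.Away (algebraMap P (P ⊗[A] k) g)) ≃ₗ[Localization.Away g]
      ((ModuleCat.restrictScalars (Localization.awayMap (algebraMap P (P ⊗[A] k)) g)).obj
        (ModuleCat.of (Localization.Away (algebraMap P (P ⊗[A] k) g))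
          (Localization.Away (algebraMap P (P ⊗[A] k) g)))) :=
    { toFun := fun t => t
      invFun := fun t => t
      left_inv := fun _ => rfl
      right_inv := fun _ => rfl
      map_add' := fun _ _ => rfl
      map_smul' := fun _ _ => rfl }
  exact ⟨e3 ≪≫ₗ e'⟩

theorem koszulSeq_baseChange (I : Ideal P) (hflat : Module.Flat A (P ⧸ I)) (g : P)
    (l : List (Localization.Away g)) (hl : LCI.IsKoszulRegularSeq (Localization.Away g) l)
    (hIl : I.map (algebraMap P (Localization.Away g)) = Ideal.span {x | x ∈ l}) :
    LCI.IsKoszulRegularSeq (Localization.Away (algebraMap P (P ⊗[A] k) g))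
      (l.map (Localization.awayMap (algebraMap P (P ⊗[A] k)) g)) := by
  rw [isKoszulRegularSeq_iff]
  intro i hi
  rcases lt_or_gt_of_ne hi with hneg | hpos
  · have hacyc : AcycAt A l i k := acycAt_away A P I hflat g l hl hIl k i hneg
    obtain ⟨e⟩ := nonempty_tensorAwayEquiv A P k g
    have h3 := subsingleton_KH_of_equiv l e i hacyc
    have h4 := Groth.Agent.Lib.Helper5.KoszulGor.isZero_homology_of_restrict (Localization.awayMap (algebraMap P (P ⊗[A] k)) g)
      (ModuleCat.of (Localization.Away (algebraMap P (P ⊗[A] k) g))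
          (Localization.Away (algebraMap P (P ⊗[A] k) g))) l i
      (ModuleCat.isZero_of_subsingleton _)
    exact ModuleCat.subsingleton_of_isZero h4
  · exact subsingleton_KH_of_pos _ _ i hpos

theorem koszulRegular_baseChange (I : Ideal P) (hI : LCI.IsKoszulRegularIdeal I)
    (hflat : Module.Flat A (P ⧸ I)) :
    LCI.IsKoszulRegularIdeal
      (I.map (Algebra.TensorProduct.includeLeft : P →ₐ[A] P ⊗[A] k)) := by
  intro 𝔮' hJ
  have hJ' : I ≤ 𝔮'.asIdeal.comap (algebraMap P (P ⊗[A] k)) :=
    Ideal.map_le_iff_le_comap.mp hJ
  obtain ⟨g, hg, l, hl, hIl⟩ :=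
    hI ⟨𝔮'.asIdeal.comap (algebraMap P (P ⊗[A] k)), inferInstance⟩ hJ'
  refine ⟨algebraMap P (P ⊗[A] k) g, hg,
    l.map (Localization.awayMap (algebraMap P (P ⊗[A] k)) g),
    koszulSeq_baseChange A P k I hflat g l hl hIl, ?_⟩
  have h1 : (I.map (algebraMap P (P ⊗[A] k))).map
      (algebraMap (P ⊗[A] k) (Localization.Away (algebraMap P (P ⊗[A] k) g))) =
      (I.map (algebraMap P (Localization.Away g))).map
        (Localization.awayMap (algebraMap P (P ⊗[A] k)) g) := by
    rw [Ideal.map_map, Ideal.map_map]
    congr 1
    exact (IsLocalization.map_comp _).symm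
  have h0 : I.map (Algebra.TensorProduct.includeLeft : P →ₐ[A] P ⊗[A] k) =
      I.map (algebraMap P (P ⊗[A] k)) := rfl
  rw [h0, h1, hIl, Ideal.map_span]
  congr 1
  ext x
  simp only [Set.mem_image, Set.mem_ofPred_eq, List.mem_map]

end RingLevel

section Fibre

open Groth.Agent.Lib.Helper5.GorRing Groth.Agent.Lib.Helper5.KoszulGor

/-- Base change of a flat lci algebra to a Gorenstein... here: to a field, is Gorenstein. -/
theorem gorRing_tensor_field_of_flat_isLCI (A B : Type u) [CommRing A] [CommRing B] [Algebra A B]
    [Module.Flat A B] (hl : LCI.IsLCI A B) (k : Type u) [Field k] [Algebra A k] :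
    IsGorensteinRing (B ⊗[A] k) := by
  obtain ⟨-, n, f, hf, hK⟩ := hl
  have hflat : Module.Flat A (MvPolynomial (Fin n) A ⧸ RingHom.ker f.toRingHom) :=
    Module.Flat.of_linearEquiv (Ideal.quotientKerAlgEquivOfSurjective hf).toLinearEquiv
  have hJ := koszulRegular_baseChange A (MvPolynomial (Fin n) A) k (RingHom.ker f.toRingHom)
    hK hflat
  haveI : IsGorensteinRing k := gorRing_of_field k
  haveI : IsGorensteinRing (MvPolynomial (Fin n) k) := gorRing_mvPolynomial k n
  have e1 : MvPolynomial (Fin n) k ≃+* MvPolynomial (Fin n) A ⊗[A] k :=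
    ((MvPolynomial.algebraTensorAlgEquiv A k).symm.toRingEquiv).trans
      (Algebra.TensorProduct.comm A k (MvPolynomial (Fin n) A)).toRingEquiv
  haveI : IsGorensteinRing (MvPolynomial (Fin n) A ⊗[A] k) := gorRing_of_ringEquiv e1
  haveI := gorRing_quotient_of_koszulRegularIdeal _ hJ
  have hF : Function.Surjective (Algebra.TensorProduct.map f (AlgHom.id A k)) :=
    Algebra.TensorProduct.map_surjective f (AlgHom.id A k) hf Function.surjective_id
  have hker : RingHom.ker (Algebra.TensorProduct.map f (AlgHom.id A k)) =
      (RingHom.ker f.toRingHom).map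
        (Algebra.TensorProduct.includeLeft : MvPolynomial (Fin n) A →ₐ[A] _) :=
    Algebra.TensorProduct.rTensor_ker f hf
  have e2 : (MvPolynomial (Fin n) A ⊗[A] k ⧸ (RingHom.ker f.toRingHom).map
      (Algebra.TensorProduct.includeLeft : MvPolynomial (Fin n) A →ₐ[A] _)) ≃+* B ⊗[A] k :=
    (Ideal.quotEquivOfEq hker.symm).trans
      (RingHom.quotientKerEquivOfSurjective
        (f := (Algebra.TensorProduct.map f (AlgHom.id A k)).toRingHom) hF)
  exact gorRing_of_ringEquiv (R := MvPolynomial (Fin n) A ⊗[A] k ⧸ (RingHom.ker f.toRingHom).map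
      (Algebra.TensorProduct.includeLeft : MvPolynomial (Fin n) A →ₐ[A] _)) e2

end Fibre

end Groth.Agent.Lib.Helper5.KoszulBC
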