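import Mathlib
import Groth.Agent.Lib.Helper5GorArt

set_option autoImplicit false
set_option linter.unusedVariables false
set_option linter.unusedSectionVars false
set_option linter.style.haveILetI false

namespace Groth.Agent.Lib.Helper14FrobField

open IsLocalRing Groth.Agent.Lib.Helper5.GorArt

universe u

/-- a nondegenerate ("Frobenius") form on a commutative algebra. -/
def IsFrobForm {κ F : Type*} [CommRing κ] [CommRing F] [Algebra κ F] (φ : F →ₗ[κ] κ) : Prop :=
  ∀ f : F, (∀ g : F, φ (f * g) = 0) → f = 0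

section Local

variable {κ R : Type u} [Field κ] [CommRing R] [Algebra κ R] [IsLocalRing R] [IsArtinianRing R]

theorem exists_frobForm_of_T1 (h : T1 R) : ∃ ψ : R →ₗ[κ] κ, IsFrobForm ψ := by
  obtain ⟨s, hs0, hs⟩ := h
  obtain ⟨ψ, hψ⟩ : ∃ ψ : Module.Dual κ R, ψ s ≠ 0 := by
    by_contra hcon
    push Not at hcon
    exact hs0 ((Module.forall_dual_apply_eq_zero_iff κ s).mp hcon)
  refine ⟨ψ, fun f hf => ?_⟩
  by_contra hf0
  have hI : Ideal.span {f} ≠ ⊥ := by
    rw [Ne, Ideal.span_singleton_eq_bot]; exact hf0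
  obtain ⟨z, hzI, hz0, hzs⟩ := exists_mem_soc (Ideal.span {f}) hI
  obtain ⟨g, rfl⟩ := Ideal.mem_span_singleton'.mp hzI
  rw [hs] at hzs
  obtain ⟨c, hc⟩ := Ideal.mem_span_singleton'.mp hzs
  have hsoc : s ∈ soc R := by rw [hs]; exact Ideal.subset_span rfl
  have hcu : IsUnit c := by
    by_contra hcn
    have hcm : c ∈ maximalIdeal R := (mem_maximalIdeal c).mpr hcn
    have := hsoc c hcm
    rw [this] at hc
    exact hz0 hc.symm
  obtain ⟨u, rfl⟩ := hcu
  apply hψ
  have : s = f * (↑u⁻¹ * g) := by
    have h1 : f * (↑u⁻¹ * g) = ↑u⁻¹ * (g * f) := by ring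
    rw [h1, ← hc, ← mul_assoc, Units.inv_mul, one_mul]
  rw [this]
  exact hf _

theorem T1_of_frobForm [Module.Finite κ R] (ψ : R →ₗ[κ] κ) (hψ : IsFrobForm ψ) : T1 R := by
  classical
  -- the map `Φ : R → R^*`
  let Φ : R →ₗ[κ] Module.Dual κ R :=
    { toFun := fun f => ψ ∘ₗ LinearMap.mulLeft κ f
      map_add' := fun f g => by ext x; simp [add_mul]
      map_smul' := fun c f => by ext x; simp }
  have hΦ : ∀ f g, Φ f g = ψ (f * g) := fun f g => rfl
  have hΦinj : Function.Injective Φ := by
    rw [← LinearMap.ker_eq_bot, LinearMap.ker_eq_bot']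
    intro f hf
    apply hψ
    intro g
    rw [← hΦ, hf]; rfl
  have hΦbij : Function.Bijective Φ :=
    ⟨hΦinj, (LinearMap.injective_iff_surjective_of_finrank_eq_finrank
      (Subspace.dual_finrank_eq).symm).mp hΦinj⟩
  let e : R ≃ₗ[κ] Module.Dual κ R := LinearEquiv.ofBijective Φ hΦbij
  let S : Submodule κ R := (soc R).restrictScalars κ
  let M : Submodule κ R := (maximalIdeal R).restrictScalars κ
  have hS : S = M.dualAnnihilator.comap Φ := by
    ext x
    rw [Submodule.mem_comap, Submodule.mem_dualAnnihilator]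
    constructor
    · intro hx y hy
      rw [hΦ, mul_comm]
      have : y * x = 0 := hx y hy
      rw [this, map_zero]
    · intro hx y hy
      apply hψ
      intro g
      have : y * g ∈ M := (maximalIdeal R).mul_mem_right g hy
      have h1 := hx (y * g) this
      rw [hΦ] at h1
      rw [← h1]; congr 1; ring
  have hfr : Module.finrank κ S + Module.finrank κ M = Module.finrank κ R := by
    have h1 : S = M.dualAnnihilator.map (e.symm : Module.Dual κ R →ₗ[κ] R) := by
      rw [hS]
      exact Submodule.comap_equiv_eq_map_symm e _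
    have h2 : Module.finrank κ S = Module.finrank κ M.dualAnnihilator := by
      rw [h1]; exact LinearEquiv.finrank_map_eq e.symm _
    rw [h2, add_comm]
    exact Subspace.finrank_add_finrank_dualAnnihilator_eq M
  obtain ⟨s, -, hs0, hs⟩ := exists_mem_soc (⊤ : Ideal R) top_ne_bot
  refine ⟨s, hs0, ?_⟩
  let μ : R →ₗ[κ] R := LinearMap.mulRight κ s
  have hker : LinearMap.ker μ = M := by
    ext r
    rw [LinearMap.mem_ker]
    change r * s = 0 ↔ r ∈ maximalIdeal R
    constructor
    · intro hr
      by_contra hrm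
      have : IsUnit r := by
        by_contra h; exact hrm ((mem_maximalIdeal r).mpr h)
      exact hs0 (this.mul_right_eq_zero.mp hr)
    · intro hr
      exact hs r hr
  have hrange : LinearMap.range μ ≤ S := by
    rintro _ ⟨r, rfl⟩
    exact (soc R).mul_mem_left r hs
  have hfr2 : Module.finrank κ (LinearMap.range μ) = Module.finrank κ S := by
    have := LinearMap.finrank_range_add_finrank_ker μ
    rw [hker] at this
    omega
  have heq : LinearMap.range μ = S := Submodule.eq_of_le_of_finrank_eq hrange hfr2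
  apply le_antisymm
  · intro x hx
    have : x ∈ LinearMap.range μ := by rw [heq]; exact hx
    obtain ⟨r, rfl⟩ := this
    exact Ideal.mem_span_singleton'.mpr ⟨r, rfl⟩
  · rw [Ideal.span_le, Set.singleton_subset_iff]; exact hs

end Local

section Global

variable (κ F : Type u) [Field κ] [CommRing F] [Algebra κ F] [Module.Finite κ F]

instance finite_localization (Q : Ideal F) [Q.IsPrime] :
    Module.Finite κ (Localization.AtPrime Q) :=
  haveI : IsArtinianRing F := IsArtinianRing.of_finite κ F
  Module.Finite.of_surjective (Algebra.algHom κ F (Localization.AtPrime Q)).toLinearMap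
    (IsArtinianRing.localization_surjective Q.primeCompl (Localization.AtPrime Q))

theorem frobForm_of_local
    (h : ∀ p : PrimeSpectrum F, ∃ ψ : Localization.AtPrime p.asIdeal →ₗ[κ] κ, IsFrobForm ψ) :
    ∃ φ : F →ₗ[κ] κ, IsFrobForm φ := by
  classical
  haveI : IsArtinianRing F := IsArtinianRing.of_finite κ F
  haveI : Fintype (PrimeSpectrum F) := Fintype.ofFinite _
  choose ψ hψ using h
  let π : ∀ p : PrimeSpectrum F, F →ₗ[κ] Localization.AtPrime p.asIdeal :=
    fun p => (Algebra.algHom κ F (Localization.AtPrime p.asIdeal)).toLinearMap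
  have hπ : ∀ p x, π p x = algebraMap F _ x := fun p x => rfl
  let e := PrimeSpectrum.toPiLocalizationEquiv F
  have he : ∀ x p, e x p = algebraMap F _ x := fun x p => rfl
  refine ⟨∑ p, (ψ p) ∘ₗ (π p), fun f hf => ?_⟩
  apply e.injective
  rw [map_zero]
  funext p
  rw [he]
  apply hψ p
  intro y
  have h1 := hf (e.symm (Pi.single p y))
  rw [LinearMap.sum_apply] at h1
  rw [Finset.sum_eq_single p] at h1
  · rw [LinearMap.comp_apply, hπ, map_mul, ← he (e.symm (Pi.single p y)) p,
      AlgEquiv.apply_symm_apply, Pi.single_eq_same] at h1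
    exact h1
  · intro q _ hqp
    rw [LinearMap.comp_apply, hπ, map_mul, ← he (e.symm (Pi.single p y)) q,
      AlgEquiv.apply_symm_apply, Pi.single_eq_of_ne hqp, mul_zero, map_zero]
  · intro hp; exact absurd (Finset.mem_univ p) hp

theorem frobForm_local (φ : F →ₗ[κ] κ) (hφ : IsFrobForm φ) (p : PrimeSpectrum F) :
    ∃ ψ : Localization.AtPrime p.asIdeal →ₗ[κ] κ, IsFrobForm ψ := by
  classical
  haveI : IsArtinianRing F := IsArtinianRing.of_finite κ F
  let e := PrimeSpectrum.toPiLocalizationEquiv F
  have he : ∀ x p, e x p = algebraMap F _ x := fun x p => rfl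
  let ι : Localization.AtPrime p.asIdeal →ₗ[κ] F :=
    (e.symm.toLinearEquiv.restrictScalars κ).toLinearMap ∘ₗ
      (LinearMap.single κ (fun q : PrimeSpectrum F => Localization.AtPrime q.asIdeal) p)
  have hι : ∀ y, ι y = e.symm (Pi.single p y) := fun y => rfl
  refine ⟨φ ∘ₗ ι, fun y hy => ?_⟩
  have h0 : ι y = 0 := by
    apply hφ
    intro g
    have h1 : ι y * g = ι (y * algebraMap F _ g) := by
      apply e.injective
      rw [map_mul, hι, hι, AlgEquiv.apply_symm_apply, AlgEquiv.apply_symm_apply]
      funext q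
      by_cases hq : q = p
      · subst hq
        rw [Pi.mul_apply, Pi.single_eq_same, Pi.single_eq_same, he]
      · rw [Pi.mul_apply, Pi.single_eq_of_ne hq, Pi.single_eq_of_ne hq, zero_mul]
    rw [h1]
    exact hy _
  rw [hι] at h0
  have h2 : Pi.single p y = (0 : PrimeSpectrum.PiLocalization F) := by
    have := congrArg e h0
    rwa [AlgEquiv.apply_symm_apply, map_zero] at this
  have := congrFun h2 p
  rwa [Pi.single_eq_same] at this

/-- Theorem A: a finite-dimensional commutative algebra over a field has Gorenstein local rings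
iff it admits a nondegenerate form. -/
theorem gor_iff_frobForm :
    (∀ (Q : Ideal F) [Q.IsPrime], LocCoh.IsGorensteinLocalRing (Localization.AtPrime Q)) ↔
      ∃ φ : F →ₗ[κ] κ, IsFrobForm φ := by
  haveI : IsArtinianRing F := IsArtinianRing.of_finite κ F
  constructor
  · intro h
    apply frobForm_of_local
    intro p
    haveI := h p.asIdeal
    exact exists_frobForm_of_T1 (T1_of_gor (Localization.AtPrime p.asIdeal))
  · rintro ⟨φ, hφ⟩ Q hQ
    obtain ⟨ψ, hψ⟩ := frobForm_local κ F φ hφ ⟨Q, hQ⟩
    exact gor_of_T1 _ (T1_of_frobForm ψ hψ)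

end Global

end Groth.Agent.Lib.Helper14FrobField
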