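import Mathlib

set_option autoImplicit false

namespace Groth.Agent.Lib.Helper20.TraceEt

open TensorProduct

universe u v w
variable {A : Type u} {B : Type v} [CommRing A] [CommRing B] [Algebra A B]
  {ι : Type w} [Fintype ι] [DecidableEq ι] (b : Module.Basis ι A B)

/-- `c` is a dual family to the basis `b` with respect to the trace form. -/
def IsDualFamily (c : ι → B) : Prop :=
  ∀ i j, Algebra.trace A B (c i * b j) = if i = j then 1 else 0

variable {b}

lemma repr_eq_trace {c : ι → B} (hc : IsDualFamily b c) (x : B) (i : ι) :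
    b.repr x i = Algebra.trace A B (c i * x) := by
  conv_rhs => rw [← b.sum_repr x]
  simp only [Finset.mul_sum, mul_smul_comm, map_sum, map_smul, hc i, smul_eq_mul, mul_ite,
    mul_one, mul_zero, Finset.sum_ite_eq, Finset.mem_univ, if_true]

variable (b) in
lemma trace_eq_sum_repr (x : B) : Algebra.trace A B x = ∑ i, b.repr (x * b i) i := by
  rw [Algebra.trace_eq_matrix_trace b, Matrix.trace]
  simp [Algebra.leftMulMatrix_eq_repr_mul]

lemma expand {c : ι → B} (hc : IsDualFamily b c) (x : B) :
    x = ∑ i, Algebra.trace A B (c i * x) • b i := by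
  conv_lhs => rw [← b.sum_repr x]
  simp only [repr_eq_trace hc]

lemma eq_zero_of_trace_mul_eq_zero {c : ι → B} (hc : IsDualFamily b c) (y : B)
    (hy : ∀ z, Algebra.trace A B (y * z) = 0) : y = 0 := by
  rw [expand hc y]
  simp only [mul_comm (c _) y, hy, zero_smul, Finset.sum_const_zero]

lemma expand' {c : ι → B} (hc : IsDualFamily b c) (x : B) :
    x = ∑ i, Algebra.trace A B (b i * x) • c i := by
  rw [← sub_eq_zero]
  apply eq_zero_of_trace_mul_eq_zero hc
  intro z
  rw [sub_mul, map_sub, sub_eq_zero, Finset.sum_mul, map_sum]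
  conv_lhs => rw [expand hc z]
  rw [Finset.mul_sum, map_sum]
  refine Finset.sum_congr rfl fun i _ => ?_
  rw [mul_smul_comm, map_smul, smul_mul_assoc, map_smul, smul_eq_mul, smul_eq_mul,
    mul_comm x (b i), mul_comm]

lemma sum_mul_eq_one {c : ι → B} (hc : IsDualFamily b c) : ∑ i, b i * c i = 1 := by
  rw [← sub_eq_zero]
  apply eq_zero_of_trace_mul_eq_zero hc
  intro z
  rw [sub_mul, map_sub, sub_eq_zero, one_mul, Finset.sum_mul, map_sum, trace_eq_sum_repr b z]
  refine Finset.sum_congr rfl fun i _ => ?_
  rw [repr_eq_trace hc]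
  congr 1
  ring

theorem formallyUnramified_of_isDualFamily {c : ι → B} (hc : IsDualFamily b c) :
    Algebra.FormallyUnramified A B := by
  have : Module.Finite A B := Module.Finite.of_basis b
  rw [Algebra.FormallyUnramified.iff_exists_tensorProduct]
  refine ⟨∑ i, b i ⊗ₜ[A] c i, ?_, ?_⟩
  · intro s
    rw [sub_mul, sub_eq_zero, Finset.mul_sum, Finset.mul_sum]
    simp only [Algebra.TensorProduct.tmul_mul_tmul, one_mul]
    calc ∑ i, b i ⊗ₜ[A] (s * c i)
        = ∑ i, b i ⊗ₜ[A] (∑ j, Algebra.trace A B (b j * (s * c i)) • c j) := by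
          refine Finset.sum_congr rfl fun i _ => ?_
          rw [← expand' hc (s * c i)]
      _ = ∑ i, ∑ j, Algebra.trace A B (b j * (s * c i)) • (b i ⊗ₜ[A] c j) := by
          refine Finset.sum_congr rfl fun i _ => ?_
          rw [tmul_sum]
          simp only [tmul_smul]
      _ = ∑ j, ∑ i, Algebra.trace A B (c i * (s * b j)) • (b i ⊗ₜ[A] c j) := by
          rw [Finset.sum_comm]
          refine Finset.sum_congr rfl fun j _ => Finset.sum_congr rfl fun i _ => ?_
          congr 2
          ring
      _ = ∑ j, (s * b j) ⊗ₜ[A] c j := by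
          refine Finset.sum_congr rfl fun j _ => ?_
          conv_rhs => rw [expand hc (s * b j), sum_tmul]
          simp only [smul_tmul']
  · rw [map_sum]
    simp only [Algebra.TensorProduct.lmul'_apply_tmul]
    exact sum_mul_eq_one hc

variable (b) in
theorem exists_isDualFamily_of_isUnit_discr (h : IsUnit (Algebra.discr A b)) :
    ∃ c : ι → B, IsDualFamily b c := by
  set M := Algebra.traceMatrix A b with hM
  have hdet : IsUnit M.det := h
  refine ⟨fun i => ∑ k, (M⁻¹) i k • b k, fun i j => ?_⟩
  have h1 : M⁻¹ * M = 1 := Matrix.nonsing_inv_mul M hdet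
  have h2 := congrFun (congrFun h1 i) j
  rw [Matrix.mul_apply, Matrix.one_apply] at h2
  rw [← h2, Finset.sum_mul, map_sum]
  refine Finset.sum_congr rfl fun k _ => ?_
  rw [smul_mul_assoc, map_smul, smul_eq_mul, hM, Algebra.traceMatrix_apply,
    Algebra.traceForm_apply]

theorem isUnit_discr_of_isDualFamily {c : ι → B} (hc : IsDualFamily b c) :
    IsUnit (Algebra.discr A b) := by
  set M := Algebra.traceMatrix A b with hM
  let N : Matrix ι ι A := Matrix.of fun i k => b.repr (c i) k
  have hNM : N * M = 1 := by
    ext i j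
    rw [Matrix.mul_apply, Matrix.one_apply, ← hc i j]
    conv_rhs => rw [← b.sum_repr (c i), Finset.sum_mul, map_sum]
    refine Finset.sum_congr rfl fun k _ => ?_
    rw [smul_mul_assoc, map_smul, smul_eq_mul, hM, Algebra.traceMatrix_apply,
      Algebra.traceForm_apply]
    rfl
  exact Matrix.isUnit_det_of_left_inverse hNM

omit [DecidableEq ι] in
variable (b) in
lemma repr_mul_basis (t' : B ⊗[A] B) (s : ι → B) (ht : t' = ∑ j, s j ⊗ₜ[A] b j) (x : B)
    (i : ι) :
    (Algebra.TensorProduct.basis B b).repr ((t' * (1 ⊗ₜ[A] x)) * (1 ⊗ₜ[A] b i)) i =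
      ∑ j, s j * algebraMap A B (b.repr (b j * x * b i) i) := by
  rw [ht, Finset.sum_mul, Finset.sum_mul, map_sum, Finsupp.finsetSum_apply]
  refine Finset.sum_congr rfl fun j _ => ?_
  rw [Algebra.TensorProduct.tmul_mul_tmul, Algebra.TensorProduct.tmul_mul_tmul, mul_one,
    mul_one, Algebra.TensorProduct.basis_repr_tmul]
  simp

variable (b) in
theorem exists_expand_of_formallyUnramified [Algebra.FormallyUnramified A B] :
    ∃ s : ι → B, ∀ x : B, x = ∑ i, Algebra.trace A B (b i * x) • s i := by
  have : Module.Finite A B := Module.Finite.of_basis b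
  have : Module.Free A B := Module.Free.of_basis b
  let t := Algebra.FormallyUnramified.elem A B
  let bB := Algebra.TensorProduct.basis B b
  let s : ι → B := fun i => bB.repr t i
  have ht : t = ∑ i, s i ⊗ₜ[A] b i := by
    conv_lhs => rw [← bB.sum_repr t]
    refine Finset.sum_congr rfl fun i _ => ?_
    rw [Algebra.TensorProduct.basis_apply, TensorProduct.smul_tmul', smul_eq_mul, mul_one]
  refine ⟨s, fun x => ?_⟩
  rcases subsingleton_or_nontrivial B with hB | hB
  · exact Subsingleton.elim _ _
  have key : ∀ w : B ⊗[A] B, (Algebra.TensorProduct.lmul' A w ⊗ₜ[A] (1:B)) * t = w * t := by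
    intro w
    induction w using TensorProduct.induction_on with
    | zero => simp
    | tmul a c =>
      rw [Algebra.TensorProduct.lmul'_apply_tmul]
      have := Algebra.FormallyUnramified.one_tmul_mul_elem (R := A) (S := B) c
      calc ((a * c) ⊗ₜ[A] (1:B)) * t = (a ⊗ₜ 1) * ((c ⊗ₜ 1) * t) := by
            rw [← mul_assoc, Algebra.TensorProduct.tmul_mul_tmul, mul_one]
        _ = (a ⊗ₜ 1) * ((1 ⊗ₜ c) * t) := by rw [this]
        _ = (a ⊗ₜ c) * t := by
            rw [← mul_assoc, Algebra.TensorProduct.tmul_mul_tmul, mul_one, one_mul]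
    | add w₁ w₂ h₁ h₂ => rw [map_add, add_tmul, add_mul, add_mul, h₁, h₂]
  let L : (B ⊗[A] B) →ₗ[B] (B ⊗[A] B) := LinearMap.mulLeft B (t * (1 ⊗ₜ x))
  let ι' : B →ₗ[B] (B ⊗[A] B) := LinearMap.toSpanSingleton B _ t
  let π : (B ⊗[A] B) →ₗ[B] B :=
    (Algebra.TensorProduct.lmul'' A).toLinearMap ∘ₗ LinearMap.mulLeft B (1 ⊗ₜ x)
  have h1 : ι' ∘ₗ π = L := by
    refine LinearMap.ext fun z => ?_
    change (Algebra.TensorProduct.lmul'' A ((1 ⊗ₜ[A] x) * z)) • t = (t * (1 ⊗ₜ[A] x)) * z
    have e : ∀ w : B ⊗[A] B, Algebra.TensorProduct.lmul'' A w = Algebra.TensorProduct.lmul' A w :=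
      fun _ => rfl
    rw [e, Algebra.smul_def, Algebra.TensorProduct.algebraMap_apply, Algebra.algebraMap_self,
      RingHom.id_apply, key]
    ring
  have h2 : π ∘ₗ ι' = x • LinearMap.id := by
    refine LinearMap.ext fun y => ?_
    change Algebra.TensorProduct.lmul'' A ((1 ⊗ₜ[A] x) * (y • t)) = x • y
    have e : ∀ w : B ⊗[A] B, Algebra.TensorProduct.lmul'' A w = Algebra.TensorProduct.lmul' A w :=
      fun _ => rfl
    rw [e, Algebra.smul_def, Algebra.TensorProduct.algebraMap_apply, Algebra.algebraMap_self,
      RingHom.id_apply, map_mul, map_mul, Algebra.FormallyUnramified.lmul_elem,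
      Algebra.TensorProduct.lmul'_apply_tmul, Algebra.TensorProduct.lmul'_apply_tmul]
    simp
  have hA : LinearMap.trace B _ L = x := by
    rw [← h1, LinearMap.trace_comp_comm', h2, map_smul, LinearMap.trace_id, Module.finrank_self]
    simp
  have hB : LinearMap.trace B _ L = ∑ i, Algebra.trace A B (b i * x) • s i := by
    rw [LinearMap.trace_eq_matrix_trace B bB, Matrix.trace]
    have hdiag : ∀ i, Matrix.diag (LinearMap.toMatrix bB bB L) i =
        ∑ j, s j * algebraMap A B (b.repr (b j * x * b i) i) := by
      intro i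
      rw [Matrix.diag_apply, LinearMap.toMatrix_apply, LinearMap.mulLeft_apply,
        Algebra.TensorProduct.basis_apply]
      exact repr_mul_basis b t s ht x i
    simp only [hdiag]
    rw [Finset.sum_comm]
    refine Finset.sum_congr rfl fun j _ => ?_
    rw [← Finset.mul_sum, ← map_sum, ← trace_eq_sum_repr b (b j * x), Algebra.smul_def, mul_comm]
  rw [← hB, hA]

variable (b) in
theorem isUnit_discr_of_formallyUnramified [Algebra.FormallyUnramified A B] :
    IsUnit (Algebra.discr A b) := by
  obtain ⟨s, hs⟩ := exists_expand_of_formallyUnramified b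
  set M := Algebra.traceMatrix A b with hM
  let N : Matrix ι ι A := Matrix.of fun i k => b.repr (s i) k
  have hMN : M.transpose * N = 1 := by
    ext j k
    rw [Matrix.mul_apply, Matrix.one_apply]
    have h1 := congrArg (fun y => b.repr y k) (hs (b j))
    simp only [map_sum, map_smul, Finsupp.finsetSum_apply, Finsupp.smul_apply, smul_eq_mul,
      Module.Basis.repr_self, Finsupp.single_apply] at h1
    rw [h1]
    refine Finset.sum_congr rfl fun i _ => ?_
    rw [Matrix.transpose_apply, hM, Algebra.traceMatrix_apply, Algebra.traceForm_apply]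
    rfl
  have := Matrix.isUnit_det_of_right_inverse hMN
  rwa [Matrix.det_transpose] at this

variable (b) in
/-- A finite free algebra is étale iff its discriminant is a unit. -/
theorem etale_iff_isUnit_discr : Algebra.Etale A B ↔ IsUnit (Algebra.discr A b) := by
  have : Module.Finite A B := Module.Finite.of_basis b
  have : Module.Free A B := Module.Free.of_basis b
  constructor
  · intro h
    exact isUnit_discr_of_formallyUnramified b
  · intro h
    obtain ⟨c, hc⟩ := exists_isDualFamily_of_isUnit_discr b h
    have := formallyUnramified_of_isDualFamily hc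
    have : Module.FinitePresentation A B := Module.finitePresentation_of_projective A B
    have : Algebra.FinitePresentation A B := inferInstance
    exact Algebra.Etale.of_formallyUnramified_of_flat

variable (b) in
/-- The trace form is bijective iff the discriminant is a unit. -/
theorem traceForm_bijective_iff_isUnit_discr :
    Function.Bijective (Algebra.traceForm A B) ↔ IsUnit (Algebra.discr A b) := by
  constructor
  · intro h
    have hc : IsDualFamily b (fun i => (LinearEquiv.ofBijective _ h).symm (b.coord i)) := by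
      intro i j
      have := (LinearEquiv.ofBijective _ h).apply_symm_apply (b.coord i)
      have h2 := congrArg (fun φ : Module.Dual A B => φ (b j)) this
      simp only [LinearEquiv.ofBijective_apply, Algebra.traceForm_apply, Module.Basis.coord_apply,
        Module.Basis.repr_self, Finsupp.single_apply] at h2
      rw [h2]
      simp [eq_comm]
    exact isUnit_discr_of_isDualFamily hc
  · intro h
    obtain ⟨c, hc⟩ := exists_isDualFamily_of_isUnit_discr b h
    constructor
    · rw [← LinearMap.ker_eq_bot, LinearMap.ker_eq_bot']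
      intro y hy
      apply eq_zero_of_trace_mul_eq_zero hc
      intro z
      have := congrArg (fun φ : Module.Dual A B => φ z) hy
      simpa [Algebra.traceForm_apply] using this
    · intro φ
      refine ⟨∑ i, φ (b i) • c i, ?_⟩
      apply b.ext
      intro j
      rw [Algebra.traceForm_apply, Finset.sum_mul, map_sum]
      simp only [smul_mul_assoc, map_smul, hc _ j, smul_eq_mul, mul_ite, mul_one, mul_zero,
        Finset.sum_ite_eq', Finset.mem_univ, if_true]

omit [Fintype ι] in
theorem trace_surjective_of_isDualFamily [Nonempty ι] {c : ι → B} (hc : IsDualFamily b c) :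
    Function.Surjective (Algebra.trace A B) := by
  intro a
  obtain ⟨i⟩ := ‹Nonempty ι›
  refine ⟨a • (c i * b i), ?_⟩
  rw [map_smul, hc i i, if_pos rfl, smul_eq_mul, mul_one]

end Groth.Agent.Lib.Helper20.TraceEt
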