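import Mathlib
import Groth.Prelude.Def_QFDual
import Groth.Agent.Lib.Helper20TraceEt
import Groth.Agent.Lib.Helper20SuppBC

set_option autoImplicit false
set_option linter.style.haveILetI false
universe u
open TensorProduct

namespace Groth.Agent.Lib.Helper20.QFDualBC

variable {A B A' B' : Type u} [CommRing A] [CommRing B] [CommRing A'] [CommRing B']
  [Algebra A B] [Algebra A A'] [Algebra B B'] [Algebra A' B'] [Algebra A B']
  [IsScalarTower A A' B'] [IsScalarTower A B B']

/-- `toDual` is compatible with the `B`-actions through the argument. -/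
theorem toDual_comp_mulLeft (hB : Algebra.IsPushout A A' B B') (m : Module.Dual A B) (b : B) :
    hB.out.toDual m ∘ₗ LinearMap.mulLeft A' (algebraMap B B' b) =
      hB.out.toDual (m ∘ₗ LinearMap.mulLeft A b) := by
  apply hB.out.algHom_ext
  intro y
  have hφ : ∀ y, (IsScalarTower.toAlgHom A B B').toLinearMap y = algebraMap B B' y := fun _ => rfl
  rw [hB.out.toDual_comp_apply, LinearMap.comp_apply, LinearMap.mulLeft_apply,
    hφ, LinearMap.comp_apply, LinearMap.mulLeft_apply, ← map_mul, ← hφ]
  exact hB.out.toDual_comp_apply m (b * y)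

/-- `B'`-linear extension of `B`-semilinear maps out of `ω_{B/A}` (i.e. `ω' = B' ⊗_B ω`). -/
theorem exists_lift [Module.Finite A B] [Module.Free A B] (hB : Algebra.IsPushout A A' B B')
    {Q : Type u} [AddCommGroup Q] [Module B' Q] (g : Disc.Omega A B →+ Q)
    (hg : ∀ (b : B) (m : Disc.Omega A B), g (b • m) = algebraMap B B' b • g m) :
    ∃ g' : Disc.Omega A' B' →ₗ[B'] Q, ∀ m, g' (QFDual.bcFin hB m) = g m := by
  letI : Module A' Q := Module.compHom Q (algebraMap A' B')
  letI : Module A Q := Module.compHom Q (algebraMap A B')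
  haveI : IsScalarTower A' B' Q := IsScalarTower.of_algebraMap_smul (fun _ _ => rfl)
  have hAQ : ∀ (a : A) (q : Q), a • q = algebraMap A B' a • q := fun _ _ => rfl
  have hA'Q : ∀ (a : A') (q : Q), a • q = algebraMap A' B' a • q := fun _ _ => rfl
  haveI : IsScalarTower A A' Q := ⟨fun a a' q => by
    rw [hA'Q, hAQ, hA'Q, Algebra.smul_def, map_mul, ← IsScalarTower.algebraMap_apply, mul_smul]⟩
  have ibc := hB.out
  let g₀ : Module.Dual A B →ₗ[A] Q :=
    { toFun := fun m => g ⟨m⟩
      map_add' := fun m n => by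
        have : (⟨m + n⟩ : Disc.Omega A B) = ⟨m⟩ + ⟨n⟩ := rfl
        rw [this, map_add]
      map_smul' := fun a m => by
        have : (⟨a • m⟩ : Disc.Omega A B) = algebraMap A B a • (⟨m⟩ : Disc.Omega A B) := by
          apply Disc.Omega.ext
          apply LinearMap.ext
          intro x
          rw [Disc.Omega.smul_toLinearMap_apply, LinearMap.smul_apply, ← Algebra.smul_def,
            map_smul]
        rw [this, hg, RingHom.id_apply, hAQ, ← IsScalarTower.algebraMap_apply] }
  let g₁ : Module.Dual A' B' →ₗ[A'] Q := ibc.dual.lift g₀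
  have hg₁ : ∀ m, g₁ (ibc.toDual m) = g₀ m := ibc.dual.lift_eq g₀
  have key : ∀ (b' : B') (x : Module.Dual A' B'),
      g₁ (x ∘ₗ LinearMap.mulLeft A' b') = b' • g₁ x := by
    intro b'
    refine ibc.inductionOn b' _ ?_ ?_ ?_ ?_
    · intro x
      have : LinearMap.mulLeft A' (0 : B') = 0 := by ext; simp
      rw [this, LinearMap.comp_zero, map_zero, zero_smul]
    · intro b x
      refine ibc.dual.inductionOn x _ ?_ ?_ ?_ ?_
      · rw [LinearMap.zero_comp, map_zero, smul_zero]
      · intro m
        have hφ : (IsScalarTower.toAlgHom A B B').toLinearMap b = algebraMap B B' b := rfl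
        rw [hφ, toDual_comp_mulLeft hB, hg₁, hg₁]
        exact hg b ⟨m⟩
      · intro a' x hx
        rw [LinearMap.smul_comp, map_smul, map_smul, hx, hA'Q, hA'Q, smul_smul, smul_smul,
          mul_comm]
      · intro x y hx hy
        rw [LinearMap.add_comp, map_add, map_add, hx, hy, smul_add]
    · intro a' b'₁ h x
      have : LinearMap.mulLeft A' (a' • b'₁) = a' • LinearMap.mulLeft A' b'₁ := by
        ext y
        simp
      rw [this, LinearMap.comp_smul, map_smul, h, smul_assoc]
    · intro b₁ b₂ h₁ h₂ x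
      have : LinearMap.mulLeft A' (b₁ + b₂) = LinearMap.mulLeft A' b₁ + LinearMap.mulLeft A' b₂ := by
        ext y
        simp [add_mul]
      rw [this, LinearMap.comp_add, map_add, h₁, h₂, add_smul]
  refine ⟨{ toFun := fun x => g₁ x.toLinearMap
            map_add' := fun x y => by rw [Disc.Omega.add_toLinearMap, map_add]
            map_smul' := fun b' x => key b' x.toLinearMap }, fun m => ?_⟩
  exact hg₁ m.toLinearMap

/-- trace compatibility with base change. -/
theorem trace_algebraMap_of_isPushout [Module.Finite A B] [Module.Free A B] [Module.Finite A' B']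
    [Module.Free A' B'] (hB : Algebra.IsPushout A A' B B') (y : B) :
    Algebra.trace A' B' (algebraMap B B' y) = algebraMap A A' (Algebra.trace A B y) := by
  classical
  let b := Module.Free.chooseBasis A B
  let b' := hB.out.basis b
  have hφ : ∀ y, (IsScalarTower.toAlgHom A B B').toLinearMap y = algebraMap B B' y := fun _ => rfl
  rw [Groth.Agent.Lib.Helper20.TraceEt.trace_eq_sum_repr b',
    Groth.Agent.Lib.Helper20.TraceEt.trace_eq_sum_repr b, map_sum]
  refine Finset.sum_congr rfl fun i _ => ?_
  have h1 : b' i = algebraMap B B' (b i) := hB.out.basis_apply b i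
  rw [h1, ← map_mul, ← hφ]
  exact hB.out.basis_repr_comp_apply b (y * b i) i

theorem bcFin_trace [Module.Finite A B] [Module.Free A B] [Module.Finite A' B']
    [Module.Free A' B'] (hB : Algebra.IsPushout A A' B B') :
    QFDual.bcFin hB (Disc.Omega.trace A B) = Disc.Omega.trace A' B' := by
  apply Disc.Omega.ext
  apply hB.out.algHom_ext
  intro y
  have hφ : ∀ y, (IsScalarTower.toAlgHom A B B').toLinearMap y = algebraMap B B' y := fun _ => rfl
  rw [hφ, QFDual.bcFin_apply_algebraMap]
  exact (trace_algebraMap_of_isPushout hB y).symm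

theorem smul_mk_eq (a' : A') (x : Module.Dual A' B') :
    (⟨a' • x⟩ : Disc.Omega A' B') = algebraMap A' B' a' • (⟨x⟩ : Disc.Omega A' B') := by
  apply Disc.Omega.ext
  apply LinearMap.ext
  intro y
  rw [Disc.Omega.smul_toLinearMap_apply, LinearMap.smul_apply, ← Algebra.smul_def, map_smul]

/-- S8966 (1). -/
theorem map_different_le [Module.Finite A B] [Module.Free A B] [Module.Finite A' B']
    [Module.Free A' B'] (hB : Algebra.IsPushout A A' B B') :
    Ideal.map (algebraMap B B') (QFDual.different B (Disc.Omega.trace A B)) ≤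
      QFDual.different B' (Disc.Omega.trace A' B') := by
  rw [Ideal.map_le_iff_le_comap]
  intro r hr
  rw [QFDual.mem_different_iff] at hr
  rw [Ideal.mem_comap, QFDual.mem_different_iff]
  intro m'
  suffices h : ∀ x : Module.Dual A' B', ∃ c' : B',
      c' • Disc.Omega.trace A' B' = algebraMap B B' r • (⟨x⟩ : Disc.Omega A' B') from
    h m'.toLinearMap
  intro x
  refine hB.out.dual.inductionOn x _ ?_ ?_ ?_ ?_
  · refine ⟨0, ?_⟩
    rw [zero_smul]
    exact (smul_zero _).symm
  · intro m
    obtain ⟨c, hc⟩ := hr ⟨m⟩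
    refine ⟨algebraMap B B' c, ?_⟩
    have h1 : (⟨hB.out.toDual m⟩ : Disc.Omega A' B') = QFDual.bcFin hB ⟨m⟩ := rfl
    rw [h1, ← bcFin_trace hB, ← LinearMap.map_smulₛₗ, ← LinearMap.map_smulₛₗ, hc]
  · rintro a' x ⟨c', hc'⟩
    refine ⟨algebraMap A' B' a' * c', ?_⟩
    rw [smul_mk_eq, smul_comm, ← hc', mul_smul]
  · rintro x y ⟨c₁, h₁⟩ ⟨c₂, h₂⟩
    refine ⟨c₁ + c₂, ?_⟩
    have : (⟨x + y⟩ : Disc.Omega A' B') = ⟨x⟩ + ⟨y⟩ := rfl
    rw [this, smul_add, add_smul, h₁, h₂]

theorem finite_omega [Module.Finite A B] [Module.Free A B] :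
    Module.Finite B (Disc.Omega A B) := by
  classical
  let b := Module.Free.chooseBasis A B
  refine ⟨⟨Finset.univ.image (fun i => (⟨b.coord i⟩ : Disc.Omega A B)), ?_⟩⟩
  rw [eq_top_iff]
  intro m _
  have : m = ∑ i, algebraMap A B (m.toLinearMap (b i)) • (⟨b.coord i⟩ : Disc.Omega A B) := by
    apply Disc.Omega.ext
    apply b.ext
    intro j
    have hsum : ∀ (s : Finset (Module.Free.ChooseBasisIndex A B)) (f : _ → Disc.Omega A B),
        (∑ i ∈ s, f i).toLinearMap = ∑ i ∈ s, (f i).toLinearMap := by
      intro s f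
      induction s using Finset.induction_on with
      | empty => simp
      | insert a s ha ih => rw [Finset.sum_insert ha, Finset.sum_insert ha,
          Disc.Omega.add_toLinearMap, ih]
    rw [hsum, LinearMap.sum_apply]
    simp only [Disc.Omega.smul_toLinearMap_apply, Module.Basis.coord_apply]
    rw [Finset.sum_eq_single j]
    · rw [← Algebra.smul_def, map_smul, Module.Basis.repr_self, Finsupp.smul_apply,
        Finsupp.single_eq_same, smul_eq_mul, mul_one]
    · intro i _ hij
      rw [← Algebra.smul_def, map_smul, Module.Basis.repr_self, Finsupp.smul_apply,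
        Finsupp.single_eq_of_ne hij, smul_zero]
    · intro h
      exact (h (Finset.mem_univ j)).elim
  rw [this]
  refine Submodule.sum_mem _ fun i _ => Submodule.smul_mem _ _ (Submodule.subset_span ?_)
  simp

/-- S8966 (2), the nontrivial inclusion. -/
theorem different_le_of_map_le [Module.Finite A B] [Module.Free A B] [Module.Finite A' B']
    [Module.Free A' B'] (hB : Algebra.IsPushout A A' B B') (q' : Ideal B') [q'.IsPrime]
    (hq' : Ideal.map (algebraMap B B') (QFDual.different B (Disc.Omega.trace A B)) ≤ q') :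
    QFDual.different B' (Disc.Omega.trace A' B') ≤ q' := by
  haveI := finite_omega (A := A) (B := B)
  let τ := Disc.Omega.trace A B
  let N : Submodule B (Disc.Omega A B) := Submodule.span B {τ}
  let M := Disc.Omega A B ⧸ N
  have hann : Module.annihilator B M = QFDual.different B τ := Submodule.annihilator_quotient
  have hq : (⟨q', inferInstance⟩ : PrimeSpectrum B').comap (algebraMap B B') ∈
      Module.support B M := by
    rw [Module.mem_support_iff_of_finite, hann]
    exact Ideal.map_le_iff_le_comap.1 hq'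
  have hsupp := Groth.Agent.Lib.Helper20.SuppBC.mem_support_baseChange_of_comap
    (A := B) (B := B') (N := M) ⟨q', inferInstance⟩ hq
  have hle := Module.annihilator_le_of_mem_support hsupp
  refine le_trans ?_ hle
  intro r' hr'
  rw [QFDual.mem_different_iff] at hr'
  -- the `B`-semilinear map `ω → B' ⊗ M`
  let g : Disc.Omega A B →+ B' ⊗[B] M :=
    { toFun := fun m => (1 : B') ⊗ₜ[B] (N.mkQ m)
      map_zero' := by rw [map_zero, TensorProduct.tmul_zero]
      map_add' := fun m n => by rw [map_add, TensorProduct.tmul_add] }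
  have hg : ∀ (b : B) (m : Disc.Omega A B), g (b • m) = algebraMap B B' b • g m := by
    intro b m
    show (1 : B') ⊗ₜ[B] (N.mkQ (b • m)) = algebraMap B B' b • ((1 : B') ⊗ₜ[B] (N.mkQ m))
    rw [map_smul, ← TensorProduct.smul_tmul, TensorProduct.smul_tmul', smul_eq_mul,
      Algebra.smul_def, mul_one]
  obtain ⟨g', hg'⟩ := exists_lift hB g hg
  have hτ : g' (Disc.Omega.trace A' B') = 0 := by
    rw [← bcFin_trace hB, hg']
    show (1 : B') ⊗ₜ[B] (N.mkQ τ) = 0
    have : N.mkQ τ = 0 := (Submodule.Quotient.mk_eq_zero N).2 (Submodule.mem_span_singleton_self τ)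
    rw [this, TensorProduct.tmul_zero]
  have hkill : ∀ m' : Disc.Omega A' B', r' • g' m' = 0 := by
    intro m'
    obtain ⟨c', hc'⟩ := hr' m'
    rw [← map_smul, ← hc', map_smul, hτ, smul_zero]
  rw [Module.mem_annihilator]
  intro z
  induction z using TensorProduct.induction_on with
  | zero => rw [smul_zero]
  | tmul b'₀ m₀ =>
    obtain ⟨m, rfl⟩ := N.mkQ_surjective m₀
    have h1 : b'₀ ⊗ₜ[B] (N.mkQ m) = b'₀ • g' (QFDual.bcFin hB m) := by
      rw [hg']
      show _ = b'₀ • ((1 : B') ⊗ₜ[B] (N.mkQ m))
      rw [TensorProduct.smul_tmul', smul_eq_mul, mul_one]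
    rw [h1, smul_comm, hkill, smul_zero]
  | add x y hx hy => rw [smul_add, hx, hy, add_zero]

/-- S8966. -/
theorem map_different_le_and_radical_eq [Module.Finite A B] [Module.Free A B]
    [Module.Finite A' B'] [Module.Free A' B'] (hB : Algebra.IsPushout A A' B B') :
    Ideal.map (algebraMap B B') (QFDual.different B (Disc.Omega.trace A B)) ≤
        QFDual.different B' (Disc.Omega.trace A' B') ∧
      (Ideal.map (algebraMap B B') (QFDual.different B (Disc.Omega.trace A B))).radical =
        (QFDual.different B' (Disc.Omega.trace A' B')).radical := by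
  have h1 := map_different_le hB
  refine ⟨h1, le_antisymm (Ideal.radical_mono h1) ?_⟩
  rw [Ideal.radical_le_radical_iff, Ideal.radical_eq_sInf]
  intro r' hr'
  rw [Ideal.mem_sInf]
  rintro q' ⟨hq'le, hq'prime⟩
  haveI := hq'prime
  exact different_le_of_map_le hB q' hq'le hr'

end Groth.Agent.Lib.Helper20.QFDualBC
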