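import Mathlib
import Groth.Prelude.Def_QFDual
import Groth.Agent.Lib.Helper20QFDualBC

set_option autoImplicit false
set_option linter.style.haveILetI false
universe u
open TensorProduct

namespace Groth.Agent.Lib.Helper20.QFDualBC

variable {A B A' B' : Type u} [CommRing A] [CommRing B] [CommRing A'] [CommRing B']
  [Algebra A B] [Algebra A A'] [Algebra B B'] [Algebra A' B'] [Algebra A B']
  [IsScalarTower A A' B'] [IsScalarTower A B B']

/-- for a finitely presented `B` and flat `A'`, `toDual` is a base change. -/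
theorem isBaseChange_toDual_of_flat [Module.FinitePresentation A B] [Module.Flat A A']
    (hB : Algebra.IsPushout A A' B B') : IsBaseChange A' hB.out.toDual := by
  have isb := Module.FinitePresentation.isBaseChange_map A B A A'
  let eM : A' ⊗[A] B ≃ₗ[A'] B' := hB.out.equiv
  let eN : A' ⊗[A] A ≃ₗ[A'] A' := AlgebraTensorModule.rid A A' A'
  let E : (A' ⊗[A] B →ₗ[A'] A' ⊗[A] A) ≃ₗ[A'] Module.Dual A' B' := LinearEquiv.arrowCongr eM eN
  refine IsBaseChange.of_equiv (isb.equiv ≪≫ₗ E) ?_
  intro φ
  rw [LinearEquiv.trans_apply, IsBaseChange.equiv_tmul, one_smul]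
  apply hB.out.algHom_ext
  intro b
  rw [hB.out.toDual_comp_apply]
  show eN ((LinearMap.baseChangeHom A A' B A φ) (eM.symm ((IsScalarTower.toAlgHom A B B').toLinearMap b))) = _
  rw [hB.out.equiv_symm_apply]
  simp [eN, Algebra.smul_def]

/-- `B'`-linear extension of `B`-semilinear maps out of `ω_{B/A}`, assuming `toDual` is a base
change. -/
theorem exists_lift' (hB : Algebra.IsPushout A A' B B') (hdual : IsBaseChange A' hB.out.toDual)
    {Q : Type u} [AddCommGroup Q] [Module B' Q] (g : Disc.Omega A B →+ Q)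
    (hg : ∀ (b : B) (m : Disc.Omega A B), g (b • m) = algebraMap B B' b • g m) :
    ∃ g' : Disc.Omega A' B' →ₗ[B'] Q, ∀ m, g' (QFDual.bcFin hB m) = g m := by
  letI : Module A' Q := Module.compHom Q (algebraMap A' B')
  letI : Module A Q := Module.compHom Q (algebraMap A B')
  haveI : IsScalarTower A' B' Q := IsScalarTower.of_algebraMap_smul (fun _ _ => rfl)
  have hAQ : ∀ (a : A) (q : Q), a • q = algebraMap A B' a • q := fun _ _ => rfl
  have hA'Q : ∀ (a : A') (q : Q), a • q = algebraMap A' B' a • q := fun _ _ => rfl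
  haveI : IsScalarTower A A' Q := ⟨fun a a' q => by
    rw [hA'Q, hAQ, hA'Q, Algebra.smul_def, map_mul, ← IsScalarTower.algebraMap_apply, mul_smul]⟩
  have ibc := hB.out
  let g₀ : Module.Dual A B →ₗ[A] Q :=
    { toFun := fun m => g ⟨m⟩
      map_add' := fun m n => by
        have : (⟨m + n⟩ : Disc.Omega A B) = ⟨m⟩ + ⟨n⟩ := rfl
        rw [this, map_add]
      map_smul' := fun a m => by
        have : (⟨a • m⟩ : Disc.Omega A B) = algebraMap A B a • (⟨m⟩ : Disc.Omega A B) := by
          apply Disc.Omega.ext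
          apply LinearMap.ext
          intro x
          rw [Disc.Omega.smul_toLinearMap_apply, LinearMap.smul_apply, ← Algebra.smul_def,
            map_smul]
        rw [this, hg, RingHom.id_apply, hAQ, ← IsScalarTower.algebraMap_apply] }
  let g₁ : Module.Dual A' B' →ₗ[A'] Q := hdual.lift g₀
  have hg₁ : ∀ m, g₁ (ibc.toDual m) = g₀ m := hdual.lift_eq g₀
  have key : ∀ (b' : B') (x : Module.Dual A' B'),
      g₁ (x ∘ₗ LinearMap.mulLeft A' b') = b' • g₁ x := by
    intro b'
    refine ibc.inductionOn b' _ ?_ ?_ ?_ ?_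
    · intro x
      have : LinearMap.mulLeft A' (0 : B') = 0 := by ext; simp
      rw [this, LinearMap.comp_zero, map_zero, zero_smul]
    · intro b x
      refine hdual.inductionOn x _ ?_ ?_ ?_ ?_
      · rw [LinearMap.zero_comp, map_zero, smul_zero]
      · intro m
        have hφ : (IsScalarTower.toAlgHom A B B').toLinearMap b = algebraMap B B' b := rfl
        rw [hφ, toDual_comp_mulLeft hB, hg₁, hg₁]
        exact hg b ⟨m⟩
      · intro a' x hx
        rw [LinearMap.smul_comp, map_smul, map_smul, hx, hA'Q, hA'Q, smul_smul, smul_smul,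
          mul_comm]
      · intro x y hx hy
        rw [LinearMap.add_comp, map_add, map_add, hx, hy, smul_add]
    · intro a' b'₁ h x
      have : LinearMap.mulLeft A' (a' • b'₁) = a' • LinearMap.mulLeft A' b'₁ := by
        ext y
        simp
      rw [this, LinearMap.comp_smul, map_smul, h, smul_assoc]
    · intro b₁ b₂ h₁ h₂ x
      have : LinearMap.mulLeft A' (b₁ + b₂) = LinearMap.mulLeft A' b₁ + LinearMap.mulLeft A' b₂ := by
        ext y
        simp [add_mul]
      rw [this, LinearMap.comp_add, map_add, h₁, h₂, add_smul]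
  refine ⟨{ toFun := fun x => g₁ x.toLinearMap
            map_add' := fun x y => by rw [Disc.Omega.add_toLinearMap, map_add]
            map_smul' := fun b' x => key b' x.toLinearMap }, fun m => ?_⟩
  exact hg₁ m.toLinearMap

/-- S8958, assuming `toDual` is a base change. -/
theorem omegaBC_bijective_of_isBaseChange (hB : Algebra.IsPushout A A' B B')
    (hdual : IsBaseChange A' hB.out.toDual) (B₁ : Type u) [CommRing B₁] [Algebra B' B₁]
    [Algebra B B₁] [IsScalarTower B B' B₁] :
    Function.Bijective (QFDual.omegaBC (B₁ := B₁) hB) := by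
  -- `Q = B₁ ⊗_B ω` as a `B'`-module
  let Q := QFDual.omega A B B₁
  have hsm : ∀ (x : B') (b₁ : B₁) (φ : Disc.Omega A B),
      x • (b₁ ⊗ₜ[B] φ : Q) = (algebraMap B' B₁ x * b₁) ⊗ₜ[B] φ := by
    intro x b₁ φ
    rw [TensorProduct.smul_tmul', Algebra.smul_def]
  let g : Disc.Omega A B →+ Q :=
    { toFun := fun φ => (1 : B₁) ⊗ₜ[B] φ
      map_zero' := tmul_zero _ _
      map_add' := fun φ ψ => tmul_add _ _ _ }
  have hg : ∀ (b : B) (m : Disc.Omega A B), g (b • m) = algebraMap B B' b • g m := by
    intro b m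
    show (1 : B₁) ⊗ₜ[B] (b • m) = algebraMap B B' b • ((1 : B₁) ⊗ₜ[B] m : Q)
    rw [hsm, ← IsScalarTower.algebraMap_apply, mul_one, ← TensorProduct.smul_tmul,
      Algebra.smul_def, mul_one]
  obtain ⟨g', hg'⟩ := exists_lift' hB hdual g hg
  -- `omegaBC ∘ g' = 1 ⊗ -`
  have hcomp : ∀ m₁ : Disc.Omega A' B',
      QFDual.omegaBC (B₁ := B₁) hB (g' m₁) = (1 : B₁) ⊗ₜ[B'] m₁ := by
    intro m₁
    suffices h : ∀ x : Module.Dual A' B', QFDual.omegaBC (B₁ := B₁) hB (g' ⟨x⟩) =
        (1 : B₁) ⊗ₜ[B'] (⟨x⟩ : Disc.Omega A' B') from h m₁.toLinearMap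
    intro x
    refine hdual.inductionOn x _ ?_ ?_ ?_ ?_
    · have h0 : (⟨0⟩ : Disc.Omega A' B') = 0 := rfl
      rw [h0, map_zero, map_zero, tmul_zero]
    · intro m
      have h1 : (⟨hB.out.toDual m⟩ : Disc.Omega A' B') = QFDual.bcFin hB ⟨m⟩ := rfl
      rw [h1, hg']
      rfl
    · intro a' x hx
      rw [smul_mk_eq, map_smul]
      have h2 : ∀ (y : B') (q : Q), y • q = algebraMap B' B₁ y • q := by
        intro y q
        induction q using TensorProduct.induction_on with
        | zero => rw [smul_zero, smul_zero]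
        | tmul b₁ φ => rw [hsm, TensorProduct.smul_tmul', smul_eq_mul]
        | add q r hq hr => rw [smul_add, smul_add, hq, hr]
      rw [h2, map_smul, hx, TensorProduct.smul_tmul', smul_eq_mul, mul_one,
        ← TensorProduct.smul_tmul, Algebra.smul_def, mul_one]
    · intro x y hx hy
      have h3 : (⟨x + y⟩ : Disc.Omega A' B') = ⟨x⟩ + ⟨y⟩ := rfl
      rw [h3, map_add, map_add, hx, hy, tmul_add]
  -- the inverse
  let inv : QFDual.omega A' B' B₁ →+ Q :=
    TensorProduct.liftAddHom
      { toFun := fun b₁ =>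
          { toFun := fun m₁ => b₁ • g' m₁
            map_zero' := by rw [map_zero, smul_zero]
            map_add' := fun m n => by rw [map_add, smul_add] }
        map_zero' := by ext m₁; exact zero_smul _ _
        map_add' := fun x y => by ext m₁; exact add_smul _ _ _ }
      (by
        intro x b₁ m₁
        show (x • b₁) • g' m₁ = b₁ • g' (x • m₁)
        rw [map_smul]
        generalize g' m₁ = q
        induction q using TensorProduct.induction_on with
        | zero => simp
        | tmul c φ =>
          rw [hsm, TensorProduct.smul_tmul', TensorProduct.smul_tmul', smul_eq_mul, smul_eq_mul,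
            Algebra.smul_def]
          congr 1
          ring
        | add q r hq hr => rw [smul_add, hq, hr, smul_add, smul_add])
  have hinv_tmul : ∀ (b₁ : B₁) (m₁ : Disc.Omega A' B'), inv (b₁ ⊗ₜ[B'] m₁) = b₁ • g' m₁ :=
    fun _ _ => rfl
  have hleft : ∀ z : Q, inv (QFDual.omegaBC (B₁ := B₁) hB z) = z := by
    intro z
    induction z using TensorProduct.induction_on with
    | zero => rw [map_zero, map_zero]
    | tmul b₁ φ =>
      rw [QFDual.omegaBC_tmul, hinv_tmul, hg']
      show b₁ • ((1 : B₁) ⊗ₜ[B] φ) = b₁ ⊗ₜ[B] φ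
      rw [TensorProduct.smul_tmul', smul_eq_mul, mul_one]
    | add x y hx hy => rw [map_add, map_add, hx, hy]
  have hright : ∀ w : QFDual.omega A' B' B₁, QFDual.omegaBC (B₁ := B₁) hB (inv w) = w := by
    intro w
    induction w using TensorProduct.induction_on with
    | zero => rw [map_zero, map_zero]
    | tmul b₁ m₁ =>
      rw [hinv_tmul, map_smul, hcomp, TensorProduct.smul_tmul', smul_eq_mul, mul_one]
    | add x y hx hy => rw [map_add, map_add, hx, hy]
  exact ⟨Function.LeftInverse.injective hleft, Function.RightInverse.surjective hright⟩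

/-- S8958. -/
theorem omegaBC_bijective_of_flat_base [IsNoetherianRing A] [Module.Finite A B]
    [Module.Flat A A'] (hB : Algebra.IsPushout A A' B B') (B₁ : Type u) [CommRing B₁]
    [Algebra B' B₁] [Algebra B B₁] [IsScalarTower B B' B₁] :
    Function.Bijective (QFDual.omegaBC (B₁ := B₁) hB) := by
  haveI : Module.FinitePresentation A B := Module.finitePresentation_of_finite A B
  exact omegaBC_bijective_of_isBaseChange hB (isBaseChange_toDual_of_flat hB) B₁

end Groth.Agent.Lib.Helper20.QFDualBC
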