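import Mathlib
import Groth.Prelude.Def_Disc
import Groth.Agent.Lib.Helper14FrobField
import Groth.Agent.S12080
import Groth.Agent.Lib.Helper20QFDualBC4

set_option autoImplicit false
set_option linter.unusedVariables false
set_option linter.unusedSectionVars false
set_option linter.style.haveILetI false

namespace Groth.Agent.Lib.Helper14GorOmega

open Groth.Agent.Lib.Helper14FrobField

universe u

section Gram

variable {A B : Type u} [CommRing A] [CommRing B] [Algebra A B]
variable {ι : Type*} [Fintype ι] [DecidableEq ι] (b : Module.Basis ι A B)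

/-- the Gram matrix of the form `(x, y) ↦ φ (x y)`. -/
noncomputable def gram (φ : B →ₗ[A] A) : Matrix ι ι A := Matrix.of fun i j => φ (b i * b j)

lemma gram_apply (φ : B →ₗ[A] A) (i j : ι) : gram b φ i j = φ (b i * b j) := rfl

lemma gram_symm (φ : B →ₗ[A] A) (i j : ι) : gram b φ i j = gram b φ j i := by
  rw [gram_apply, gram_apply, mul_comm]

/-- surjectivity up to the Gram determinant. -/
theorem exists_mul_eq (φ ψ : B →ₗ[A] A) :
    ∃ x : B, ∀ y : B, φ (x * y) = (gram b φ).det * ψ y := by
  let v : ι → A := fun i => ψ (b i)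
  let w : ι → A := (gram b φ).adjugate.mulVec v
  refine ⟨∑ j, w j • b j, fun y => ?_⟩
  have key : φ ∘ₗ LinearMap.mulLeft A (∑ j, w j • b j) = (gram b φ).det • ψ := by
    apply b.ext
    intro i
    rw [LinearMap.comp_apply, LinearMap.mulLeft_apply, LinearMap.smul_apply, Finset.sum_mul,
      map_sum]
    have h1 : ∀ j, φ (w j • b j * b i) = gram b φ i j * w j := by
      intro j
      rw [smul_mul_assoc, map_smul, smul_eq_mul, gram_symm, gram_apply, mul_comm]
    simp_rw [h1]
    have h2 : ∑ j, gram b φ i j * w j = ((gram b φ).mulVec w) i := rfl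
    rw [h2]
    have h3 : (gram b φ).mulVec w = (gram b φ).det • v := by
      change (gram b φ).mulVec ((gram b φ).adjugate.mulVec v) = _
      rw [Matrix.mulVec_mulVec, Matrix.mul_adjugate, Matrix.smul_mulVec, Matrix.one_mulVec]
    rw [h3]; rfl
  have := congrArg (fun f => f y) key
  simpa using this

/-- injectivity up to the Gram determinant. -/
theorem smul_eq_zero_of_forall (φ : B →ₗ[A] A) (x : B) (hx : ∀ y : B, φ (x * y) = 0) :
    (gram b φ).det • x = 0 := by
  let c : ι → A := fun k => b.repr x k
  have h1 : (gram b φ).mulVec c = 0 := by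
    funext i
    have h2 : φ (x * b i) = ∑ k, c k * gram b φ k i := by
      conv_lhs => rw [← b.sum_repr x]
      rw [Finset.sum_mul, map_sum]
      refine Finset.sum_congr rfl fun k _ => ?_
      rw [smul_mul_assoc, map_smul, smul_eq_mul, gram_apply]
    rw [hx] at h2
    change ∑ k, gram b φ i k * c k = 0
    rw [h2]
    refine Finset.sum_congr rfl fun k _ => ?_
    rw [gram_symm, mul_comm]
  have h3 : (gram b φ).det • c = 0 := by
    have := congrArg (fun w => (gram b φ).adjugate.mulVec w) h1
    simp only [Matrix.mulVec_mulVec, Matrix.adjugate_mul, Matrix.smul_mulVec, Matrix.one_mulVec,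
      Matrix.mulVec_zero] at this
    exact this
  apply b.repr.injective
  rw [map_smul, map_zero]
  ext k
  have := congrFun h3 k
  simpa using this

end Gram

section Loc

variable {B M : Type u} [CommRing B] [AddCommGroup M] [Module B M]

theorem nonempty_equiv (φ : M) (f : B)
    (hS : ∀ ψ : M, ∃ x : B, x • φ = f • ψ)
    (hI : ∀ x : B, x • φ = 0 → f * x = 0) :
    Nonempty (LocalizedModule.Away f M ≃ₗ[Localization.Away f] Localization.Away f) := by
  let S := Submonoid.powers f
  have hfS : f ∈ S := Submonoid.mem_powers f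
  let L : Localization S →ₗ[Localization S] LocalizedModule S M :=
    LinearMap.toSpanSingleton _ _ (LocalizedModule.mk φ 1)
  have hL : ∀ x, L x = x • LocalizedModule.mk φ 1 := fun x => rfl
  have hinj : Function.Injective L := by
    rw [injective_iff_map_eq_zero]
    intro z hz
    obtain ⟨⟨x, s⟩, rfl⟩ := IsLocalization.mk'_surjective S z
    rw [hL, ← Localization.mk_eq_mk', LocalizedModule.mk_smul_mk] at hz
    rw [← LocalizedModule.zero_mk (s * 1), LocalizedModule.mk_eq] at hz
    obtain ⟨u, hu⟩ := hz
    rw [smul_zero, smul_zero] at hu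
    have h1 : ((u : B) * ((s * 1 : S) : B) * x) • φ = 0 := by
      rw [mul_smul, mul_smul]
      exact hu
    have h2 := hI _ h1
    change IsLocalization.mk' (Localization S) x s = 0
    rw [IsLocalization.mk'_eq_zero_iff]
    refine ⟨⟨f, hfS⟩ * u * (s * 1), ?_⟩
    simp only [Submonoid.coe_mul] at h2 ⊢
    rw [← h2]; ring
  have hsurj : Function.Surjective L := by
    intro z
    induction z using LocalizedModule.induction_on with
    | h ψ s =>
      obtain ⟨x, hx⟩ := hS ψ
      refine ⟨Localization.mk x (⟨f, hfS⟩ * s), ?_⟩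
      rw [hL, LocalizedModule.mk_smul_mk, hx, mul_one]
      exact LocalizedModule.mk_cancel_common_left ⟨f, hfS⟩ s ψ
  exact ⟨(LinearEquiv.ofBijective L ⟨hinj, hsurj⟩).symm⟩

end Loc

section Global

variable {A B : Type u} [CommRing A] [CommRing B] [Algebra A B]
variable {ι : Type*} [Fintype ι] [DecidableEq ι] (b : Module.Basis ι A B)

theorem invertible_of_forall_exists
    (H : ∀ (p : Ideal A) [p.IsPrime], ∃ φ : B →ₗ[A] A, (gram b φ).det ∉ p) :
    Module.Invertible B (Disc.Omega A B) := by
  let s : Set B := {f | ∃ φ : B →ₗ[A] A, f = algebraMap A B (gram b φ).det}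
  apply Groth.Agent.S12080.result B (Disc.Omega A B) s
  · let T : Set A := {d | ∃ φ : B →ₗ[A] A, d = (gram b φ).det}
    have hT : Ideal.span T = ⊤ := by
      by_contra hne
      obtain ⟨m, hm, hle⟩ := Ideal.exists_le_maximal _ hne
      haveI := hm.isPrime
      obtain ⟨φ, hφ⟩ := H m
      exact hφ (hle (Ideal.subset_span ⟨φ, rfl⟩))
    have h1 : Ideal.map (algebraMap A B) (Ideal.span T) = ⊤ := by rw [hT, Ideal.map_top]
    rw [Ideal.map_span] at h1
    have h2 : (algebraMap A B) '' T = s := by
      ext f
      constructor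
      · rintro ⟨d, ⟨φ, rfl⟩, rfl⟩; exact ⟨φ, rfl⟩
      · rintro ⟨φ, rfl⟩; exact ⟨_, ⟨φ, rfl⟩, rfl⟩
    rw [← h2]; exact h1
  · rintro f ⟨φ, rfl⟩
    apply nonempty_equiv (⟨φ⟩ : Disc.Omega A B) _
    · intro ψ
      obtain ⟨x, hx⟩ := exists_mul_eq b φ ψ.toLinearMap
      refine ⟨x, ?_⟩
      apply Disc.Omega.ext; apply LinearMap.ext; intro y
      rw [Disc.Omega.smul_toLinearMap_apply, Disc.Omega.smul_toLinearMap_apply, hx,
        ← Algebra.smul_def, map_smul, smul_eq_mul]
    · intro x hx
      have h1 := smul_eq_zero_of_forall b φ x (fun y => by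
        have h2 := congrArg (fun ω : Disc.Omega A B => ω.toLinearMap y) hx
        simpa using h2)
      rw [← Algebra.smul_def]; exact h1

open TensorProduct in
theorem exists_gram_det_notMem (p : Ideal A) [p.IsPrime]
    (φ' : p.Fiber B →ₗ[p.ResidueField] p.ResidueField) (hφ' : IsFrobForm φ') :
    ∃ φ : B →ₗ[A] A, (gram b φ).det ∉ p := by
  classical
  set κ := p.ResidueField with hκ
  -- denominators
  have hden : ∀ c : κ, ∃ r : A, r ∉ p ∧ ∃ a : A, algebraMap A κ r * c = algebraMap A κ a := by
    intro c
    obtain ⟨t, rfl⟩ := IsLocalRing.residue_surjective c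
    obtain ⟨⟨a, r⟩, rfl⟩ := IsLocalization.mk'_surjective p.primeCompl t
    refine ⟨r, r.2, a, ?_⟩
    rw [IsScalarTower.algebraMap_apply A (Localization.AtPrime p) κ,
      IsScalarTower.algebraMap_apply A (Localization.AtPrime p) κ]
    change IsLocalRing.residue _ _ * IsLocalRing.residue _ _ = IsLocalRing.residue _ _
    rw [← map_mul]
    congr 1
    rw [mul_comm]
    exact IsLocalization.mk'_spec _ a r
  let c : ι → κ := fun i => φ' ((1 : κ) ⊗ₜ[A] b i)
  choose r hr a ha using fun i => hden (c i)
  let R : A := ∏ i, r i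
  have hR : R ∉ p := by
    intro h
    obtain ⟨i, -, hi⟩ := (Ideal.IsPrime.prod_mem_iff).mp h
    exact hr i hi
  let a' : ι → A := fun i => (∏ j ∈ Finset.univ.erase i, r j) * a i
  have ha' : ∀ i, algebraMap A κ R * c i = algebraMap A κ (a' i) := by
    intro i
    have h1 : R = (∏ j ∈ Finset.univ.erase i, r j) * r i :=
      (Finset.prod_erase_mul _ _ (Finset.mem_univ i)).symm
    rw [h1, map_mul, mul_assoc, ha i, ← map_mul]
  let φ : B →ₗ[A] A := b.constr A a'
  have hφb : ∀ i, φ (b i) = a' i := fun i => b.constr_basis A a' i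
  refine ⟨φ, ?_⟩
  -- compatibility
  have hcomp : ∀ y : B, algebraMap A κ R * φ' ((1 : κ) ⊗ₜ[A] y) = algebraMap A κ (φ y) := by
    let lhs : B →ₗ[A] κ :=
      (algebraMap A κ R) • ((φ'.restrictScalars A).comp (TensorProduct.mk A κ B 1))
    let rhs : B →ₗ[A] κ := (Algebra.linearMap A κ).comp φ
    have : lhs = rhs := by
      apply b.ext
      intro i
      change algebraMap A κ R • φ' ((1 : κ) ⊗ₜ[A] b i) = algebraMap A κ (φ (b i))
      rw [hφb, smul_eq_mul]
      exact ha' i
    intro y
    exact congrArg (fun f => f y) this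
  let G' : Matrix ι ι κ := Matrix.of fun i j => φ' (((1 : κ) ⊗ₜ[A] b i) * ((1 : κ) ⊗ₜ[A] b j))
  have hG' : ∀ i j, G' i j = φ' ((1 : κ) ⊗ₜ[A] (b i * b j)) := by
    intro i j
    change φ' (((1 : κ) ⊗ₜ[A] b i) * ((1 : κ) ⊗ₜ[A] b j)) = _
    rw [Algebra.TensorProduct.tmul_mul_tmul, one_mul]
  have hGG : (algebraMap A κ R) • G' = (gram b φ).map (algebraMap A κ) := by
    ext i j
    rw [Matrix.smul_apply, Matrix.map_apply, smul_eq_mul, hG', hcomp, gram_apply]
  have hdet : algebraMap A κ R ^ Fintype.card ι * G'.det = algebraMap A κ (gram b φ).det := by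
    rw [← Matrix.det_smul, hGG, RingHom.map_det]
    rfl
  -- nondegeneracy
  have hG'det : G'.det ≠ 0 := by
    intro h0
    obtain ⟨v, hv0, hv⟩ := Matrix.exists_mulVec_eq_zero_iff.mpr h0
    let bF := Algebra.TensorProduct.basis κ b
    have hbF : ∀ i, bF i = (1 : κ) ⊗ₜ[A] b i := fun i => Algebra.TensorProduct.basis_apply b i
    let f : p.Fiber B := ∑ j, v j • bF j
    have hf : f = 0 := by
      apply hφ'
      intro g
      have : φ' ∘ₗ LinearMap.mulLeft κ f = 0 := by
        apply bF.ext
        intro i
        rw [LinearMap.comp_apply, LinearMap.mulLeft_apply, LinearMap.zero_apply, Finset.sum_mul,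
          map_sum]
        have h1 : ∀ j, φ' (v j • bF j * bF i) = G' i j * v j := by
          intro j
          rw [smul_mul_assoc, map_smul, smul_eq_mul, hbF, hbF, mul_comm (_ ⊗ₜ[A] _), mul_comm]
          rfl
        simp_rw [h1]
        exact congrFun hv i
      exact congrArg (fun F => F g) this
    apply hv0
    have hli := bF.linearIndependent
    rw [Fintype.linearIndependent_iff] at hli
    funext i
    exact hli v hf i
  intro hmem
  have h1 : algebraMap A κ (gram b φ).det = 0 := Ideal.algebraMap_residueField_eq_zero.mpr hmem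
  rw [← hdet] at h1
  have h2 : algebraMap A κ R ≠ 0 := by
    rw [Ne, Ideal.algebraMap_residueField_eq_zero]; exact hR
  exact hG'det ((mul_eq_zero.mp h1).resolve_left (pow_ne_zero _ h2))

end Global


section Main

variable {A B : Type u} [CommRing A] [CommRing B] [Algebra A B] [Module.Finite A B]
  [Module.Free A B]

theorem invertible_of_gor
    (h : ∀ (p : Ideal A) [p.IsPrime], LocCoh.IsGorensteinRing (p.Fiber B)) :
    Module.Invertible B (Disc.Omega A B) := by
  classical
  apply invertible_of_forall_exists (Module.Free.chooseBasis A B)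
  intro p hp
  have hg := h p
  obtain ⟨φ', hφ'⟩ := (gor_iff_frobForm p.ResidueField (p.Fiber B)).mp
    (fun Q hQ => hg.isGorensteinLocalRing_localization Q)
  exact exists_gram_det_notMem _ p φ' hφ'

attribute [local instance] Algebra.TensorProduct.rightAlgebra in
open TensorProduct in
theorem frobForm_of_invertible [Module.Invertible B (Disc.Omega A B)] (p : Ideal A) [p.IsPrime] :
    ∃ φ : p.Fiber B →ₗ[p.ResidueField] p.ResidueField, IsFrobForm φ := by
  set κ := p.ResidueField with hκ
  set F := p.Fiber B with hF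
  haveI : IsArtinianRing F := IsArtinianRing.of_finite κ F
  have hB : Algebra.IsPushout A κ B F := TensorProduct.isPushout
  have hbij := Groth.Agent.Lib.Helper20.QFDualBC.omegaBC_bijective_of_isBaseChange hB hB.out.dual F
  let T : (F ⊗[B] Disc.Omega A B) ≃ₗ[F] Disc.Omega κ F :=
    (LinearEquiv.ofBijective _ hbij).trans (TensorProduct.lid F (Disc.Omega κ F))
  haveI : Module.Invertible F (F ⊗[B] Disc.Omega A B) := inferInstance
  haveI : Module.Invertible F (Disc.Omega κ F) := Module.Invertible.congr T
  haveI : Module.Free F (Disc.Omega κ F) := inferInstance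
  obtain ⟨e⟩ := (Module.Invertible.free_iff_linearEquiv (R := F) (M := Disc.Omega κ F)).mp
    inferInstance
  refine ⟨(e.symm 1).toLinearMap, fun f hf => ?_⟩
  have h1 : f • e.symm 1 = 0 := by
    apply Disc.Omega.ext; apply LinearMap.ext; intro g
    rw [Disc.Omega.smul_toLinearMap_apply]
    exact hf g
  rw [← map_smul, smul_eq_mul, mul_one] at h1
  exact e.symm.map_eq_zero_iff.mp h1

theorem gor_of_invertible [Module.Invertible B (Disc.Omega A B)] (p : Ideal A) [p.IsPrime] :
    LocCoh.IsGorensteinRing (p.Fiber B) := by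
  haveI : IsNoetherianRing (p.Fiber B) := IsNoetherianRing.of_finite p.ResidueField (p.Fiber B)
  exact { isGorensteinLocalRing_localization := fun Q hQ =>
      (gor_iff_frobForm p.ResidueField (p.Fiber B)).mpr (frobForm_of_invertible p) Q }

theorem main :
    (∀ (p : Ideal A) [p.IsPrime], LocCoh.IsGorensteinRing (p.Fiber B)) ↔
      Module.Invertible B (Disc.Omega A B) :=
  ⟨invertible_of_gor, fun h p hp => gor_of_invertible p⟩

end Main

end Groth.Agent.Lib.Helper14GorOmega
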