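import Mathlib
import Groth.Prelude.Def_Disc
import Groth.Agent.S2228
import Groth.Agent.S2210
import Groth.Agent.S2217
import Groth.Agent.S1830
import Groth.Agent.Lib.Helper27NoetherDiff
import Groth.Agent.Lib.Helper5LciLocal
import Groth.Agent.Lib.Helper5GorRing

/-!
# The Noether different of a finite free complete intersection: `B ≃ ω_{B/A}` (helper13)

* `exists_equiv_of_principal`: `B/A` finite free, `ω_{B/A}` invertible, `Ann(ker(B ⊗ B → B)) = (Δ)` ⇒
  there is `e : B ≃ₗ[B] ω` with `e (μ Δ) = Trace`.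
* `exists_diag_generator`: for quasi-finite `B = A[x_1..x_n]/(f_1..f_n)` there is such a `Δ` with
  `μ Δ =` Jacobian determinant.
* `isLCI_of_quasiFinite`, `gorRing_fiber_of_isLCI`.
-/

set_option autoImplicit false
universe u
open TensorProduct

namespace Groth.Agent.Helper13NoetherCI

section Generic

open Groth.Agent.Lib.Helper27NoetherDiff

variable {A B : Type u} [CommRing A] [CommRing B] [Algebra A B]

/-- the `B`-linear functional on `ω_{B/A}` attached to an element of the annihilator of the
diagonal ideal. -/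
noncomputable def phi0 (Δ : B ⊗[A] B)
    (hΔ : Δ ∈ Submodule.annihilator (RingHom.ker (Algebra.TensorProduct.lmul' (S := B) A))) :
    Disc.Omega A B →ₗ[B] B where
  toFun l := pair l.toLinearMap Δ
  map_add' l l' := pair_add _ _ _
  map_smul' c l := by
    have h := (mem_ann_iff Δ).1 hΔ c
    show pair (l.toLinearMap ∘ₗ LinearMap.mulLeft A c) Δ = c * pair l.toLinearMap Δ
    rw [← pair_mul_left, h, pair_mul_right]

@[simp] theorem phi0_apply (Δ : B ⊗[A] B)
    (hΔ : Δ ∈ Submodule.annihilator (RingHom.ker (Algebra.TensorProduct.lmul' (S := B) A)))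
    (l : Disc.Omega A B) : phi0 Δ hΔ l = pair l.toLinearMap Δ := rfl

theorem phi0_trace [Module.Finite A B] [Module.Free A B] (Δ : B ⊗[A] B)
    (hΔ : Δ ∈ Submodule.annihilator (RingHom.ker (Algebra.TensorProduct.lmul' (S := B) A))) :
    phi0 Δ hΔ (Disc.Omega.trace A B) = Algebra.TensorProduct.lmul' (S := B) A Δ := by
  classical
  let b : Module.Basis (Module.Free.ChooseBasisIndex A B) A B := Module.Free.chooseBasis A B
  have h := (mem_ann_iff Δ).1 hΔ
  show pair (Algebra.trace A B) Δ = _
  rw [pair_trace b, ← sum_mul_pair b]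
  refine Finset.sum_congr rfl (fun j _ => ?_)
  rw [h, pair_mul_right]

theorem exists_equiv_of_principal [IsNoetherianRing A] [Module.Finite A B] [Module.Free A B]
    [Module.Invertible B (Disc.Omega A B)] (Δ : B ⊗[A] B)
    (hΔ : Submodule.annihilator (RingHom.ker (Algebra.TensorProduct.lmul' (S := B) A)) =
      Ideal.span {Δ}) :
    ∃ e : B ≃ₗ[B] Disc.Omega A B,
      e (Algebra.TensorProduct.lmul' (S := B) A Δ) = Disc.Omega.trace A B := by
  classical
  have hΔmem : Δ ∈ Submodule.annihilator
      (RingHom.ker (Algebra.TensorProduct.lmul' (S := B) A)) := by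
    rw [hΔ]; exact Ideal.subset_span rfl
  -- every functional is a multiple of `phi0`
  have hmult : ∀ Φ : Disc.Omega A B →ₗ[B] B, ∃ b : B, ∀ l, Φ l = b * phi0 Δ hΔmem l := by
    intro Φ
    obtain ⟨ξ, ⟨hξ, hΦ⟩, -⟩ := Groth.Agent.S2228.result Φ
    rw [hΔ, Ideal.mem_span_singleton'] at hξ
    obtain ⟨t, rfl⟩ := hξ
    refine ⟨Algebra.TensorProduct.lmul' (S := B) A t, fun l => ?_⟩
    rw [hΦ l]
    have h1 : t - (1 : B) ⊗ₜ[A] (Algebra.TensorProduct.lmul' (S := B) A t) ∈
        RingHom.ker (Algebra.TensorProduct.lmul' (S := B) A) := by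
      rw [RingHom.mem_ker, map_sub, Algebra.TensorProduct.lmul'_apply_tmul, one_mul, sub_self]
    have h2 : (t - (1 : B) ⊗ₜ[A] (Algebra.TensorProduct.lmul' (S := B) A t)) * Δ = 0 := by
      have := Submodule.mem_annihilator.1 hΔmem _ h1
      rw [smul_eq_mul, mul_comm] at this
      exact this
    have h3 : t * Δ = ((1 : B) ⊗ₜ[A] (Algebra.TensorProduct.lmul' (S := B) A t)) * Δ := by
      rw [sub_mul, sub_eq_zero] at h2
      exact h2
    rw [h3]
    show pair l.toLinearMap _ = _
    rw [pair_mul_right]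
    rfl
  -- surjectivity of `phi0`
  have hsurj : Function.Surjective (phi0 Δ hΔmem) := by
    have hrange : ∀ z : Module.Dual B (Disc.Omega A B) ⊗[B] Disc.Omega A B,
        contractLeft B (Disc.Omega A B) z ∈ LinearMap.range (phi0 Δ hΔmem) := by
      intro z
      induction z using TensorProduct.induction_on with
      | zero => rw [map_zero]; exact Submodule.zero_mem _
      | tmul Φ l =>
        obtain ⟨b, hb⟩ := hmult Φ
        rw [contractLeft_apply, hb l]
        exact ⟨b • l, by rw [map_smul, smul_eq_mul]⟩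
      | add x y hx hy => rw [map_add]; exact Submodule.add_mem _ hx hy
    intro y
    obtain ⟨z, hz⟩ := (Module.Invertible.bijective (R := B) (M := Disc.Omega A B)).2 y
    rw [← hz]
    exact hrange z
  have hbij := Module.Invertible.bijective_of_surjective hsurj
  refine ⟨(LinearEquiv.ofBijective (phi0 Δ hΔmem) hbij).symm, ?_⟩
  rw [LinearEquiv.symm_apply_eq]
  exact (phi0_trace Δ hΔmem).symm

end Generic

section CI

variable {A : Type u} [CommRing A] {n : ℕ} (f : Fin n → MvPolynomial (Fin n) A)

/-- a generator of the annihilator of the diagonal ideal whose image under multiplication is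
the Jacobian determinant. -/
theorem exists_diag_generator
    [Algebra.QuasiFinite A (MvPolynomial (Fin n) A ⧸ Ideal.span (Set.range f))] :
    ∃ Δ : (MvPolynomial (Fin n) A ⧸ Ideal.span (Set.range f)) ⊗[A]
        (MvPolynomial (Fin n) A ⧸ Ideal.span (Set.range f)),
      Submodule.annihilator (RingHom.ker (Algebra.TensorProduct.lmul'
        (S := MvPolynomial (Fin n) A ⧸ Ideal.span (Set.range f)) A)) = Ideal.span {Δ} ∧
      Algebra.TensorProduct.lmul' (S := MvPolynomial (Fin n) A ⧸ Ideal.span (Set.range f)) A Δ =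
        Ideal.Quotient.mk (Ideal.span (Set.range f))
          (Matrix.det (Matrix.of fun i j => MvPolynomial.pderiv j (f i))) := by
  classical
  have hGCI := Groth.Agent.S2210.isRelGCI_of_quasiFinite f
  have hflat : Module.Flat A (MvPolynomial (Fin n) A ⧸ Ideal.span (Set.range f)) :=
    Groth.Agent.Lib.Helper7.Synt.flat_relGCIRing f hGCI
  have hf : LCI.IsKoszulRegularSeq (MvPolynomial (Fin n) A) (List.ofFn f) :=
    Groth.Agent.S9254.result A n n f hGCI
  let xbar : Fin n → MvPolynomial (Fin n) A ⧸ Ideal.span (Set.range f) :=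
    fun j => Ideal.Quotient.mk _ (MvPolynomial.X j)
  have hae : (MvPolynomial.aeval xbar : MvPolynomial (Fin n) A →ₐ[A] _) =
      Ideal.Quotient.mkₐ A (Ideal.span (Set.range f)) :=
    (MvPolynomial.aeval_unique (Ideal.Quotient.mkₐ A (Ideal.span (Set.range f)))).symm
  have hg := Groth.Agent.Helper13DiagPoly.isKoszulRegularSeq_gg (A := A) xbar
  have hgker := Groth.Agent.Helper13DiagPoly.span_gg (A := A) xbar
  rw [hae] at hgker
  have hmem : ∀ i, f i ⊗ₜ[A] (1 : MvPolynomial (Fin n) A ⧸ Ideal.span (Set.range f)) ∈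
      Ideal.span (Set.range (Groth.Agent.Helper13DiagPoly.gg (A := A) xbar)) := by
    intro i
    rw [hgker, RingHom.mem_ker, Algebra.TensorProduct.productMap_apply_tmul, map_one, mul_one]
    exact Ideal.Quotient.eq_zero_iff_mem.2 (Ideal.subset_span ⟨i, rfl⟩)
  choose c hc using fun i => (Ideal.mem_span_range_iff_exists_fun.1 (hmem i))
  have key := Groth.Agent.S2235.result f hf (Groth.Agent.Helper13DiagPoly.gg (A := A) xbar) hg hgker
    (Matrix.of c) (fun i => (hc i).symm)
  refine ⟨_, key, ?_⟩
  have hcomp : ∀ m, Algebra.TensorProduct.lmul'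
      (S := MvPolynomial (Fin n) A ⧸ Ideal.span (Set.range f)) A
      (Algebra.TensorProduct.map (Ideal.Quotient.mkₐ A (Ideal.span (Set.range f)))
        (AlgHom.id A (MvPolynomial (Fin n) A ⧸ Ideal.span (Set.range f))) m) =
      Algebra.TensorProduct.productMap (Ideal.Quotient.mkₐ A (Ideal.span (Set.range f)))
        (AlgHom.id A (MvPolynomial (Fin n) A ⧸ Ideal.span (Set.range f))) m := by
    intro m
    have : (Algebra.TensorProduct.lmul'
        (S := MvPolynomial (Fin n) A ⧸ Ideal.span (Set.range f)) A).comp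
        (Algebra.TensorProduct.map (Ideal.Quotient.mkₐ A (Ideal.span (Set.range f)))
          (AlgHom.id A (MvPolynomial (Fin n) A ⧸ Ideal.span (Set.range f)))) =
        Algebra.TensorProduct.productMap (Ideal.Quotient.mkₐ A (Ideal.span (Set.range f)))
          (AlgHom.id A (MvPolynomial (Fin n) A ⧸ Ideal.span (Set.range f))) := by
      ext <;> simp
    exact congr($this m)
  rw [hcomp]
  have e1 := AlgHom.map_det (Algebra.TensorProduct.productMap
    (Ideal.Quotient.mkₐ A (Ideal.span (Set.range f)))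
    (AlgHom.id A (MvPolynomial (Fin n) A ⧸ Ideal.span (Set.range f)))) (Matrix.of c)
  have e2 := RingHom.map_det (Ideal.Quotient.mk (Ideal.span (Set.range f)))
    (Matrix.of fun i j => (MvPolynomial.pderiv j) (f i))
  rw [e1, e2]
  congr 1
  ext i j
  have h1 := Groth.Agent.Helper13DiagPoly.productMap_coeff (A := A) xbar (f i) (c i) (hc i).symm j
  rw [hae] at h1
  simp only [AlgHom.mapMatrix_apply, RingHom.mapMatrix_apply, Matrix.map_apply, Matrix.of_apply]
  exact h1

/-- a quasi-finite `A[x_1..x_n]/(f_1..f_n)` is a local complete intersection over `A`. -/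
theorem isLCI_of_quasiFinite
    [Algebra.QuasiFinite A (MvPolynomial (Fin n) A ⧸ Ideal.span (Set.range f))] :
    LCI.IsLCI A (MvPolynomial (Fin n) A ⧸ Ideal.span (Set.range f)) := by
  have hGCI := Groth.Agent.S2210.isRelGCI_of_quasiFinite f
  have hf : LCI.IsKoszulRegularSeq (MvPolynomial (Fin n) A) (List.ofFn f) :=
    Groth.Agent.S9254.result A n n f hGCI
  refine ⟨inferInstance, n, Ideal.Quotient.mkₐ A (Ideal.span (Set.range f)),
    Ideal.Quotient.mkₐ_surjective A _, ?_⟩
  have hk : RingHom.ker (Ideal.Quotient.mkₐ A (Ideal.span (Set.range f))).toRingHom =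
      Ideal.ofList (List.ofFn f) := by
    rw [Groth.Agent.Helper13Wiebe.ofList_ofFn]
    ext p
    rw [RingHom.mem_ker]
    exact Ideal.Quotient.eq_zero_iff_mem
  rw [hk, Groth.Agent.Lib.Helper5.KzIdeal.kr_iff]
  exact Groth.Agent.Lib.Helper5.LciLocal.kr_ofList _ hf

/-- Gorenstein fibres of a flat lci algebra, in the `κ(p) ⊗ B` form. -/
theorem gorRing_fiber_of_isLCI {B : Type u} [CommRing B] [Algebra A B] [Module.Flat A B]
    (hl : LCI.IsLCI A B) (p : Ideal A) [p.IsPrime] : LocCoh.IsGorensteinRing (p.Fiber B) := by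
  have h := Groth.Agent.S1830.result A B hl ⟨p, inferInstance⟩
  exact @Groth.Agent.Lib.Helper5.GorRing.gorRing_of_ringEquiv _ _ _ _
    (Algebra.TensorProduct.comm A B p.ResidueField).toRingEquiv h

end CI

end Groth.Agent.Helper13NoetherCI
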