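import Mathlib
import Groth.Agent.S2093

/-!
# Helper lemmas for "Nagata ⇒ universally Japanese" (helper7)

* `isReduced_cpl_of_forall_ass` : the analytic unramifiedness criterion of helper28's S2093, without
  the domain hypothesis and without the (unused) no-embedded-primes hypothesis.
* `exists_mul_eq_of_prime_den` : if the denominator ideal `p = (R : z)` of `z ∈ Frac R` is prime, `R`
  normal Noetherian, then `z π₀ = u` for some `π₀ ∈ p`, `u ∉ p`.
* `isDiscreteValuationRing_of_principal`.
-/

set_option autoImplicit false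
set_option linter.style.haveILetI false
universe u

namespace Groth.Agent.Lib.Helper7.NagCrit

open Groth CAlg IsLocalRing

theorem isReduced_cpl_of_forall_ass {A : Type u} [CommRing A] [IsLocalRing A] [IsNoetherianRing A]
    (t : A) (ht : t ∈ maximalIdeal A) (hreg : IsSMulRegular A t)
    (h : ∀ q ∈ associatedPrimes A (A ⧸ Ideal.span {t}), ∀ (_ : q.IsPrime),
      IsRegularLocalRing (Localization.AtPrime q) ∧
        IsReduced (AdicCompletion ((maximalIdeal A).map (Ideal.Quotient.mk q)) (A ⧸ q))) :
    IsReduced (AdicCompletion (maximalIdeal A) A) := by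
  haveI hNS : IsNoetherianRing (AdicCompletion (maximalIdeal A) A) :=
    Groth.Agent.Lib.Helper19.isNoetherianRing_adicCompletion _
  have hlochom := Groth.Agent.Lib.Helper28.isLocalHom_algebraMap_adicCompletion A
  have hx'm : algebraMap A (AdicCompletion (maximalIdeal A) A) t ∈
      maximalIdeal (AdicCompletion (maximalIdeal A) A) :=
    IsLocalRing.map_maximalIdeal_le (algebraMap A _) (Ideal.mem_map_of_mem _ ht)
  refine Groth.Agent.S2093.isReduced_of_forall_isDomain_localization_associatedPrimes
    (algebraMap A (AdicCompletion (maximalIdeal A) A) t) hx'm hreg.of_flat ?_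
  intro q hq _
  have hloc : IsLocalRing (EGA4.FibLocRing A (AdicCompletion (maximalIdeal A) A) q) :=
    Groth.Agent.Lib.Helper28.isLocalRing_fibLocRing q
  obtain ⟨hp, hd⟩ := Groth.Agent.S2093.mem_associatedPrimes_and_depth_fib_eq_zero t hreg q hq
  obtain ⟨hregp, hredp⟩ := h _ hp inferInstance
  obtain ⟨e, -⟩ := Groth.Agent.Lib.Helper28.exists_ringEquiv_adicCompletion_quotient
    (maximalIdeal A) (q.comap (algebraMap A (AdicCompletion (maximalIdeal A) A)))
  have hred' : IsReduced (AdicCompletion (maximalIdeal A) A ⧸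
      (q.comap (algebraMap A (AdicCompletion (maximalIdeal A) A))).map
        (algebraMap A (AdicCompletion (maximalIdeal A) A))) :=
    isReduced_of_injective e e.injective
  exact Groth.Agent.S2093.isDomain_localization_of_depth_fib_eq_zero q
    ((Ideal.isRadical_iff_quotient_reduced _).mpr hred') hregp hd

/-- If the denominator ideal of `z` is a prime `p` of the normal Noetherian domain `R`, then
`p R_p` is generated by `z⁻¹`: there are `π₀ ∈ p`, `u ∉ p` with `π₀ z = u`. -/
theorem exists_mul_eq_of_prime_den {R K : Type*} [CommRing R] [IsDomain R] [IsNoetherianRing R]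
    [IsIntegrallyClosed R] [Field K] [Algebra R K] [IsFractionRing R K] (z : K) (p : Ideal R)
    [hpp : p.IsPrime]
    (hp : ∀ s : R, s ∈ p ↔ ∃ r : R, algebraMap R K r = algebraMap R K s * z) :
    ∃ π₀ ∈ p, ∃ u : R, u ∉ p ∧ algebraMap R K u = algebraMap R K π₀ * z := by
  by_contra hcon
  push Not at hcon
  have hinj : Function.Injective (algebraMap R K) := IsFractionRing.injective R K
  let N : Submodule R K := Submodule.map (Algebra.linearMap R K) p
  have hNfg : N.FG := Submodule.FG.map _ (IsNoetherian.noetherian p)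
  have hNne : N ≠ ⊥ := by
    obtain ⟨c, d, hd, rfl⟩ := IsFractionRing.div_surjective (A := R) z
    have hd0 : (d : R) ≠ 0 := nonZeroDivisors.ne_zero hd
    have hdp : d ∈ p := by
      rw [hp]
      refine ⟨c, ?_⟩
      rw [mul_div_cancel₀]
      exact fun h0 => hd0 (hinj (h0.trans (map_zero _).symm))
    intro hbot
    have : algebraMap R K d ∈ N := ⟨d, hdp, rfl⟩
    rw [hbot, Submodule.mem_bot] at this
    exact hd0 (hinj (this.trans (map_zero _).symm))
  have hz : IsIntegral R z := by
    refine isIntegral_of_smul_mem_submodule N hNne hNfg z ?_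
    rintro _ ⟨π, hπ, rfl⟩
    obtain ⟨u, hu⟩ := (hp π).mp hπ
    have hup : u ∈ p := by
      by_contra hup
      exact hcon π hπ u hup hu
    refine ⟨u, hup, ?_⟩
    show algebraMap R K u = z • algebraMap R K π
    rw [hu, smul_eq_mul, mul_comm]
  obtain ⟨r₀, hr₀⟩ := IsIntegrallyClosed.isIntegral_iff.mp hz
  have h1 : (1 : R) ∈ p := by
    rw [hp]
    exact ⟨r₀, by rw [map_one, one_mul, hr₀]⟩
  exact hpp.ne_top ((Ideal.eq_top_iff_one p).mpr h1)

/-- A Noetherian local domain whose maximal ideal is generated, up to units, by one element coming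
from `R` is a discrete valuation ring. -/
theorem isDiscreteValuationRing_of_principal {R B : Type*} [CommRing R] [CommRing B] [IsDomain B]
    [IsNoetherianRing B] [IsLocalRing B] [Algebra R B] (t : B) (ht0 : t ≠ 0) (π₀ u : R)
    (hu : IsUnit (algebraMap R B u)) (hπ : algebraMap R B π₀ ∈ maximalIdeal B)
    (hgen : ∀ β ∈ maximalIdeal B, ∃ (r' : R) (β' ε : B), algebraMap R B r' ∈ maximalIdeal B ∧
      β = ε * (algebraMap R B r' + t * β'))
    (ha : ∀ r' : R, algebraMap R B r' ∈ maximalIdeal B → ∃ r'' : R, u * r' = π₀ * r'')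
    (hb : ∃ r : R, algebraMap R B u * t = algebraMap R B π₀ * algebraMap R B r) :
    IsDiscreteValuationRing B := by
  obtain ⟨v, hv⟩ := hu.exists_left_inv
  have h1 : ∀ r' : R, algebraMap R B r' ∈ maximalIdeal B →
      algebraMap R B r' ∈ Ideal.span {algebraMap R B π₀} := by
    intro r' hr'
    obtain ⟨r'', hr''⟩ := ha r' hr'
    rw [Ideal.mem_span_singleton']
    refine ⟨v * algebraMap R B r'', ?_⟩
    have : algebraMap R B u * algebraMap R B r' = algebraMap R B π₀ * algebraMap R B r'' := by
      rw [← map_mul, ← map_mul, hr'']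
    calc v * algebraMap R B r'' * algebraMap R B π₀
        = v * (algebraMap R B π₀ * algebraMap R B r'') := by ring
      _ = v * (algebraMap R B u * algebraMap R B r') := by rw [this]
      _ = (v * algebraMap R B u) * algebraMap R B r' := by ring
      _ = algebraMap R B r' := by rw [hv, one_mul]
  have h2 : t ∈ Ideal.span {algebraMap R B π₀} := by
    obtain ⟨r, hr⟩ := hb
    rw [Ideal.mem_span_singleton']
    refine ⟨v * algebraMap R B r, ?_⟩
    calc v * algebraMap R B r * algebraMap R B π₀
        = v * (algebraMap R B π₀ * algebraMap R B r) := by ring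
      _ = v * (algebraMap R B u * t) := by rw [hr]
      _ = (v * algebraMap R B u) * t := by ring
      _ = t := by rw [hv, one_mul]
  have h3 : maximalIdeal B = Ideal.span {algebraMap R B π₀} := by
    apply le_antisymm
    · intro β hβ
      obtain ⟨r', β', ε, hr', rfl⟩ := hgen β hβ
      exact Ideal.mul_mem_left _ _ (Ideal.add_mem _ (h1 r' hr') (Ideal.mul_mem_right _ _ h2))
    · rw [Ideal.span_singleton_le_iff_mem]
      exact hπ
  have hprinc : (maximalIdeal B).IsPrincipal := ⟨⟨algebraMap R B π₀, h3⟩⟩
  haveI : IsPrincipalIdealRing B :=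
    ((tfae_of_isNoetherianRing_of_isLocalRing_of_isDomain B).out 4 0).mp hprinc
  refine { not_a_field' := ?_ }
  intro hbot
  have : t ∈ maximalIdeal B := by rw [h3]; exact h2
  rw [hbot, Ideal.mem_bot] at this
  exact ht0 this

end Groth.Agent.Lib.Helper7.NagCrit
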