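import Mathlib
import Groth.Agent.Lib.Helper7NagCrit
import Groth.Agent.Lib.Helper28AUMain
import Groth.Agent.Lib.Helper14Japanese

/-!
# Analytic unramifiedness of `R[t]_Q`, `t ∈ Q` (helper7)

`R` a normal Nagata domain with fraction field `K`, `T = R[t] ⊆ K`, `Q` a prime of `T` containing
`t`.  Then the completion of `T_Q` is reduced.
-/

set_option autoImplicit false
set_option linter.style.haveILetI false
universe u

namespace Groth.Agent.Lib.Helper7.NagL0

open Groth CAlg IsLocalRing Polynomial

section Basic

variable {R : Type u} [CommRing R] [IsDomain R] [IsIntegrallyClosed R]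
  {K : Type u} [Field K] [Algebra R K] [IsFractionRing R K]
  {T : Type u} [CommRing T] [Algebra R T] [Algebra T K] [IsScalarTower R T K]

omit [IsDomain R] [IsIntegrallyClosed R] [IsFractionRing R K] [Algebra T K] [IsScalarTower R T K]
  [Algebra R K] in
/-- every element of `R[t]` is congruent to an element of `R` modulo `t` -/
theorem exists_split (t : T) (hgen : Algebra.adjoin R {t} = ⊤) (w : T) :
    ∃ (r : R) (w' : T), w = algebraMap R T r + t * w' := by
  have hw : w ∈ Algebra.adjoin R {t} := by rw [hgen]; exact Algebra.mem_top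
  rw [Algebra.adjoin_singleton_eq_range_aeval] at hw
  obtain ⟨P, hP⟩ := hw
  have hP' : aeval t P = w := hP
  refine ⟨P.coeff 0, aeval t P.divX, ?_⟩
  rw [← hP']
  conv_lhs => rw [← Polynomial.divX_mul_X_add P]
  rw [map_add, map_mul, aeval_X, aeval_C]
  ring

/-- if `t * w ∈ R` with `w ∈ R[t]` then `w ∈ R` (`R` normal) -/
theorem eq_algebraMap_of_mul_eq (hinj : Function.Injective (algebraMap T K)) (t : T)
    (hgen : Algebra.adjoin R {t} = ⊤) (w : T) (ρ : R) (h : t * w = algebraMap R T ρ) :
    ∃ r : R, w = algebraMap R T r := by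
  have hw : w ∈ Algebra.adjoin R {t} := by rw [hgen]; exact Algebra.mem_top
  rw [Algebra.adjoin_singleton_eq_range_aeval] at hw
  obtain ⟨P, hP0⟩ := hw
  have hP : aeval t P = w := hP0
  set tK : K := algebraMap T K t with htK
  set wK : K := algebraMap T K w with hwK
  let n := P.natDegree
  let N : Submodule R K := Submodule.span R (Set.range fun i : Fin (n + 1) => tK ^ (i : ℕ))
  have hNfg : N.FG := Submodule.fg_span (Set.finite_range _)
  have hmem : ∀ i : ℕ, i ≤ n → tK ^ i ∈ N := fun i hi =>
    Submodule.subset_span ⟨⟨i, Nat.lt_succ_of_le hi⟩, rfl⟩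
  have hNne : N ≠ ⊥ := by
    intro hbot
    have h1 : (tK ^ 0 : K) ∈ N := hmem 0 (Nat.zero_le _)
    rw [hbot, Submodule.mem_bot, pow_zero] at h1
    exact one_ne_zero h1
  have hwN : wK ∈ N := by
    have h1 : wK = aeval tK P := by
      rw [hwK, ← hP, htK, Polynomial.aeval_algebraMap_apply]
    rw [h1, Polynomial.aeval_eq_sum_range]
    refine Submodule.sum_mem _ (fun i hi => Submodule.smul_mem _ _ (hmem i ?_))
    exact Nat.lt_succ_iff.mp (Finset.mem_range.mp hi)
  have hρ : tK * wK = algebraMap R K ρ := by
    rw [htK, hwK, ← map_mul, h, ← IsScalarTower.algebraMap_apply]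
  have hz : IsIntegral R wK := by
    refine isIntegral_of_smul_mem_submodule N hNne hNfg wK ?_
    intro m hm
    induction hm using Submodule.span_induction with
    | mem x hx =>
      obtain ⟨⟨i, hi⟩, rfl⟩ := hx
      rcases i with _ | i
      · simpa using hwN
      · show wK • tK ^ (i + 1) ∈ N
        have : wK • tK ^ (i + 1) = ρ • tK ^ i := by
          rw [smul_eq_mul, Algebra.smul_def, ← hρ, pow_succ]
          ring
        rw [this]
        exact Submodule.smul_mem _ _ (hmem i (by omega))
    | zero => simp
    | add x y _ _ hx hy => rw [smul_add]; exact Submodule.add_mem _ hx hy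
    | smul a x _ hx => rw [smul_comm]; exact Submodule.smul_mem _ _ hx
  obtain ⟨r₀, hr₀⟩ := IsIntegrallyClosed.isIntegral_iff.mp hz
  refine ⟨r₀, hinj ?_⟩
  rw [← IsScalarTower.algebraMap_apply, hr₀]

end Basic


section Quot

variable {R : Type u} [CommRing R] {T : Type u} [CommRing T] [Algebra R T]

/-- (ii): the quotient of `R[t]_Q` by a prime containing `t` is a quotient of a local ring of `R`,
hence Nagata. -/
theorem isNagata_quotient (hR : IsNagata R) (t : T) (hgen : Algebra.adjoin R {t} = ⊤)
    (Q : Ideal T) [Q.IsPrime] (q : Ideal (Localization.AtPrime Q)) [q.IsPrime]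
    (htq : algebraMap T (Localization.AtPrime Q) t ∈ q) :
    IsNagata (Localization.AtPrime Q ⧸ q) := by
  let A := Localization.AtPrime Q
  let n₀ : Ideal R := Q.comap (algebraMap R T)
  haveI : n₀.IsPrime := Ideal.comap_isPrime _ _
  have hNagRn : IsNagata (Localization.AtPrime n₀) :=
    Groth.Agent.Lib.Helper14.isNagata_of_isLocalization R n₀.primeCompl _ hR
  let g : R →+* A ⧸ q := (Ideal.Quotient.mk q).comp ((algebraMap T A).comp (algebraMap R T))
  have hg : ∀ y : n₀.primeCompl, IsUnit (g y) := by
    intro y
    have h1 : algebraMap R T (y : R) ∈ Q.primeCompl := y.2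
    have h2 : IsUnit (algebraMap T A (algebraMap R T (y : R))) :=
      IsLocalization.map_units A ⟨_, h1⟩
    exact h2.map (Ideal.Quotient.mk q)
  let ψ : Localization.AtPrime n₀ →+* A ⧸ q := IsLocalization.lift hg
  have ht0 : Ideal.Quotient.mk q (algebraMap T A t) = 0 := Ideal.Quotient.eq_zero_iff_mem.mpr htq
  have hψ : Function.Surjective ψ := by
    intro β
    obtain ⟨β, rfl⟩ := Ideal.Quotient.mk_surjective β
    obtain ⟨⟨u, v⟩, huv⟩ := IsLocalization.surj Q.primeCompl β
    obtain ⟨r₁, w₁, hr₁⟩ := exists_split t hgen u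
    obtain ⟨s₁, w₂, hs₁⟩ := exists_split t hgen (v : T)
    have hs₁n : s₁ ∈ n₀.primeCompl := by
      intro hmem
      have h1 : algebraMap R T s₁ ∈ Q := hmem
      have h2 : t * w₂ ∈ Q := by
        have h3 : t ∈ Q := by
          by_contra h3
          have h4 : IsUnit (algebraMap T A t) :=
            IsLocalization.map_units A (⟨t, h3⟩ : Q.primeCompl)
          exact (Ideal.IsPrime.ne_top inferInstance) (Ideal.eq_top_of_isUnit_mem q htq h4)
        exact Q.mul_mem_right _ h3
      have h5 : (v : T) ∈ Q := by rw [hs₁]; exact Q.add_mem h1 h2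
      exact v.2 h5
    refine ⟨IsLocalization.mk' _ r₁ ⟨s₁, hs₁n⟩, ?_⟩
    show IsLocalization.lift hg _ = _
    rw [IsLocalization.lift_mk'_spec]
    show Ideal.Quotient.mk q (algebraMap T A (algebraMap R T r₁)) =
      Ideal.Quotient.mk q (algebraMap T A (algebraMap R T s₁)) * Ideal.Quotient.mk q β
    have e1 : Ideal.Quotient.mk q (algebraMap T A u) =
        Ideal.Quotient.mk q (algebraMap T A (algebraMap R T r₁)) := by
      rw [hr₁, map_add, map_add, map_mul, map_mul, ht0, zero_mul, add_zero]
    have e2 : Ideal.Quotient.mk q (algebraMap T A (v : T)) =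
        Ideal.Quotient.mk q (algebraMap T A (algebraMap R T s₁)) := by
      rw [hs₁, map_add, map_add, map_mul, map_mul, ht0, zero_mul, add_zero]
    rw [← e1, ← e2, ← map_mul, mul_comm, huv]
  exact Groth.Agent.Lib.Helper28.isNagata_of_surjective ψ hψ hNagRn

end Quot


section DVR

variable {R : Type u} [CommRing R] [IsDomain R] [IsIntegrallyClosed R] [IsNoetherianRing R]
  {K : Type u} [Field K] [Algebra R K] [IsFractionRing R K]
  {T : Type u} [CommRing T] [IsDomain T] [IsNoetherianRing T] [Algebra R T] [Algebra T K]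
  [IsScalarTower R T K]

/-- (i): the local rings of `R[t]_Q` at the associated primes of `t` are discrete valuation rings. -/
theorem isDiscreteValuationRing_localization (hinj : Function.Injective (algebraMap T K)) (t : T)
    (ht0 : t ≠ 0) (hgen : Algebra.adjoin R {t} = ⊤) (Q : Ideal T) [Q.IsPrime]
    (q : Ideal (Localization.AtPrime Q)) [q.IsPrime]
    (hq : q ∈ associatedPrimes (Localization.AtPrime Q)
      (Localization.AtPrime Q ⧸ Ideal.span {algebraMap T (Localization.AtPrime Q) t})) :
    IsDiscreteValuationRing (Localization.AtPrime q) := by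
  classical
  let A := Localization.AtPrime Q
  let B := Localization.AtPrime q
  have hTA : Function.Injective (algebraMap T A) :=
    IsLocalization.injective A Q.primeCompl_le_nonZeroDivisors
  have hAB : Function.Injective (algebraMap A B) :=
    IsLocalization.injective B q.primeCompl_le_nonZeroDivisors
  have hRK : Function.Injective (algebraMap R K) := IsFractionRing.injective R K
  have hRT : Function.Injective (algebraMap R T) := by
    intro a b hab
    apply hRK
    rw [IsScalarTower.algebraMap_apply R T K, hab, ← IsScalarTower.algebraMap_apply]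
  have hRA : ∀ r : R, algebraMap R A r = algebraMap T A (algebraMap R T r) := fun r =>
    IsScalarTower.algebraMap_apply R T A r
  have hRB : ∀ r : R, algebraMap R B r = algebraMap A B (algebraMap R A r) := fun r =>
    IsScalarTower.algebraMap_apply R A B r
  set t₁ : A := algebraMap T A t with ht₁
  -- description of `q` as an annihilator
  obtain ⟨-, α', hqα⟩ := isAssociatedPrime_iff.mp hq
  obtain ⟨α, rfl⟩ := Ideal.Quotient.mk_surjective α'
  have hqmem : ∀ β : A, β ∈ q ↔ β * α ∈ Ideal.span {t₁} := by
    intro β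
    rw [hqα, Submodule.mem_colon_singleton, Submodule.mem_bot]
    have : β • (Ideal.Quotient.mk (Ideal.span {t₁}) α) = Ideal.Quotient.mk (Ideal.span {t₁}) (β * α) :=
      rfl
    rw [this, Ideal.Quotient.eq_zero_iff_mem]
  have ht₁q : t₁ ∈ q := by
    rw [hqmem]
    exact Ideal.mul_mem_right _ _ (Ideal.mem_span_singleton_self t₁)
  have htQ : t ∈ Q := by
    by_contra h3
    have h4 : IsUnit t₁ := IsLocalization.map_units A (⟨t, h3⟩ : Q.primeCompl)
    exact (Ideal.IsPrime.ne_top inferInstance) (Ideal.eq_top_of_isUnit_mem q ht₁q h4)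
  obtain ⟨⟨u, v⟩, huv⟩ := IsLocalization.surj Q.primeCompl α
  obtain ⟨r, u', hu⟩ := exists_split t hgen u
  have hvunit : IsUnit (algebraMap T A (v : T)) := IsLocalization.map_units A v
  have hqmem' : ∀ β : A, β ∈ q ↔ β * algebraMap R A r ∈ Ideal.span {t₁} := by
    intro β
    rw [hqmem]
    have e1 : β * algebraMap T A u = β * algebraMap R A r + t₁ * (β * algebraMap T A u') := by
      rw [hu, map_add, map_mul, hRA]; ring
    constructor
    · intro h
      have h1 : β * algebraMap T A u ∈ Ideal.span {t₁} := by
        have : β * algebraMap T A u = (β * α) * algebraMap T A (v : T) := by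
          simp only [] at huv
          rw [← huv]; ring
        rw [this]
        exact Ideal.mul_mem_right _ _ h
      have h2 : β * algebraMap R A r = β * algebraMap T A u - t₁ * (β * algebraMap T A u') := by
        rw [e1]; ring
      rw [h2]
      exact Ideal.sub_mem _ h1 (Ideal.mul_mem_right _ _ (Ideal.mem_span_singleton_self t₁))
    · intro h
      have h1 : β * algebraMap T A u ∈ Ideal.span {t₁} := by
        rw [e1]
        exact Ideal.add_mem _ h (Ideal.mul_mem_right _ _ (Ideal.mem_span_singleton_self t₁))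
      have h2 : (β * α) * algebraMap T A (v : T) ∈ Ideal.span {t₁} := by
        have : (β * α) * algebraMap T A (v : T) = β * algebraMap T A u := by
          simp only [] at huv
          rw [← huv]; ring
        rw [this]; exact h1
      obtain ⟨v', hv'⟩ := hvunit.exists_right_inv
      have h3 : β * α = ((β * α) * algebraMap T A (v : T)) * v' := by
        rw [mul_assoc, hv', mul_one]
      rw [h3]
      exact Ideal.mul_mem_right _ _ h2
  -- the contraction of `q` to `R`
  let p' : Ideal R := q.comap (algebraMap R A)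
  haveI hp'prime : p'.IsPrime := Ideal.comap_isPrime _ _
  have hqQ : ∀ w : T, algebraMap T A w ∈ q → w ∈ Q := by
    intro w hw
    have h1 : algebraMap T A w ∈ maximalIdeal A := IsLocalRing.le_maximalIdeal
      (Ideal.IsPrime.ne_top inferInstance) hw
    exact (IsLocalization.AtPrime.to_map_mem_maximal_iff A Q w).mp h1
  -- (F2)
  have hF2 : ∀ s ∈ p', ∃ s'' : R, algebraMap R T s'' ∉ Q ∧
      ∃ ρ : R, algebraMap R T (s'' * s * r) = t * algebraMap R T ρ := by
    intro s hs
    have h1 : algebraMap R A s * algebraMap R A r ∈ Ideal.span {t₁} := (hqmem' _).mp hs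
    obtain ⟨γ, hγ⟩ := Ideal.mem_span_singleton'.mp h1
    obtain ⟨⟨u'', v''⟩, huv''⟩ := IsLocalization.surj Q.primeCompl γ
    simp only [] at huv''
    have h2 : algebraMap R T (s * r) * (v'' : T) = t * u'' := by
      apply hTA
      have e1 : algebraMap T A (algebraMap R T (s * r)) = algebraMap R A s * algebraMap R A r := by
        rw [← hRA, map_mul]
      rw [map_mul (algebraMap T A) _ (v'' : T), map_mul (algebraMap T A) t u'', e1, ← hγ, ← huv'']
      ring
    obtain ⟨s'', w, hs''⟩ := exists_split t hgen (v'' : T)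
    have hs''Q : algebraMap R T s'' ∉ Q := by
      intro hmem
      have h5 : (v'' : T) ∈ Q := by
        rw [hs'']; exact Q.add_mem hmem (Q.mul_mem_right _ htQ)
      exact v''.2 h5
    refine ⟨s'', hs''Q, ?_⟩
    have h3 : t * (u'' - w * algebraMap R T (s * r)) = algebraMap R T (s'' * s * r) := by
      have : algebraMap R T (s'' * s * r) = algebraMap R T (s * r) * algebraMap R T s'' := by
        rw [← map_mul]; congr 1; ring
      rw [this]
      have h4 : algebraMap R T s'' = (v'' : T) - t * w := by rw [hs'']; ring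
      rw [h4]
      linear_combination (-1 : T) * h2
    obtain ⟨ρ, hρ⟩ := eq_algebraMap_of_mul_eq (K := K) hinj t hgen _ _ h3
    exact ⟨ρ, by rw [← h3, hρ]⟩
  -- finitely many generators of `p'` and the common multiplier `σ`
  obtain ⟨G, hG⟩ := (isNoetherianRing_iff_ideal_fg R).mp inferInstance p'
  have hGp : ∀ g ∈ G, g ∈ p' := fun g hg => hG ▸ Ideal.subset_span hg
  choose! s'' hs''Q hs''ρ using hF2
  let σ : R := ∏ g ∈ G, s'' g
  have hσQ : algebraMap R T σ ∉ Q := by
    rw [map_prod]
    intro hmem
    obtain ⟨g, hg, hgQ⟩ := (Ideal.IsPrime.prod_mem_iff).mp hmem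
    exact hs''Q g (hGp g hg) hgQ
  have hσp' : σ ∉ p' := by
    intro hmem
    have h1 : algebraMap T A (algebraMap R T σ) ∈ q := by rw [← hRA]; exact hmem
    exact hσQ (hqQ _ h1)
  set tK : K := algebraMap T K t with htK
  have htK0 : tK ≠ 0 := fun h0 => ht0 (hinj (h0.trans (map_zero _).symm))
  let z : K := algebraMap R K (σ * r) / tK
  have hp'z : ∀ s : R, s ∈ p' ↔ ∃ r₁ : R, algebraMap R K r₁ = algebraMap R K s * z := by
    intro s
    constructor
    · intro hs
      rw [← hG] at hs
      induction hs using Submodule.span_induction with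
      | mem g hg =>
        obtain ⟨ρ, hρ⟩ := hs''ρ g (hGp g hg)
        refine ⟨(∏ g' ∈ G.erase g, s'' g') * ρ, ?_⟩
        have hσg : σ = s'' g * ∏ g' ∈ G.erase g, s'' g' := (Finset.mul_prod_erase G s'' hg).symm
        have h1 : algebraMap R K (s'' g * g * r) = tK * algebraMap R K ρ := by
          rw [IsScalarTower.algebraMap_apply R T K, hρ, map_mul, ← IsScalarTower.algebraMap_apply]
        show _ = algebraMap R K g * (algebraMap R K (σ * r) / tK)
        rw [mul_div_assoc', eq_div_iff htK0, hσg]
        have h2 : algebraMap R K g * algebraMap R K (s'' g * (∏ g' ∈ G.erase g, s'' g') * r) =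
            algebraMap R K (∏ g' ∈ G.erase g, s'' g') * algebraMap R K (s'' g * g * r) := by
          rw [← map_mul, ← map_mul]; congr 1; ring
        rw [h2, h1, map_mul]; ring
      | zero => exact ⟨0, by simp⟩
      | add x y _ _ hx hy =>
        obtain ⟨r₁, hr₁⟩ := hx
        obtain ⟨r₂, hr₂⟩ := hy
        exact ⟨r₁ + r₂, by rw [map_add, map_add, add_mul, hr₁, hr₂]⟩
      | smul a x _ hx =>
        obtain ⟨r₁, hr₁⟩ := hx
        exact ⟨a * r₁, by rw [smul_eq_mul, map_mul, map_mul, hr₁]; ring⟩
    · rintro ⟨r₁, hr₁⟩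
      have h1 : algebraMap R K (s * σ * r) = tK * algebraMap R K r₁ := by
        rw [hr₁]
        show _ = tK * (algebraMap R K s * (algebraMap R K (σ * r) / tK))
        rw [mul_div_assoc', mul_div_assoc', mul_comm tK, mul_div_assoc, div_self htK0, mul_one,
          ← map_mul]
        congr 1; ring
      have h2 : algebraMap R T (s * σ * r) = t * algebraMap R T r₁ := by
        apply hinj
        rw [← IsScalarTower.algebraMap_apply, h1, map_mul, ← IsScalarTower.algebraMap_apply]
      have h3 : (s * σ) ∈ p' := by
        show algebraMap R A (s * σ) ∈ q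
        rw [hqmem', ← map_mul, hRA, h2, map_mul]
        exact Ideal.mul_mem_right _ _ (Ideal.mem_span_singleton_self t₁)
      exact (hp'prime.mem_or_mem h3).resolve_right hσp'
  obtain ⟨π₀, hπ₀, u₀, hu₀, hu₀z⟩ :=
    Groth.Agent.Lib.Helper7.NagCrit.exists_mul_eq_of_prime_den z p' hp'z
  -- now apply the principal-maximal-ideal criterion
  have hmB : ∀ a : A, algebraMap A B a ∈ maximalIdeal B ↔ a ∈ q :=
    fun a => IsLocalization.AtPrime.to_map_mem_maximal_iff B q a
  refine Groth.Agent.Lib.Helper7.NagCrit.isDiscreteValuationRing_of_principal (R := R) (B := B)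
    (algebraMap A B t₁) ?_ π₀ u₀ ?_ ?_ ?_ ?_ ?_
  · intro h0
    have h1 : t₁ = 0 := hAB (h0.trans (map_zero _).symm)
    exact ht0 (hTA (h1.trans (map_zero _).symm))
  · rw [hRB]
    exact IsLocalization.map_units B (⟨algebraMap R A u₀, hu₀⟩ : q.primeCompl)
  · rw [hRB, hmB]; exact hπ₀
  · intro β hβ
    obtain ⟨⟨γ, δ⟩, hγδ⟩ := IsLocalization.surj q.primeCompl β
    simp only [] at hγδ
    have hγq : γ ∈ q := by
      rw [← hmB, ← hγδ]
      exact Ideal.mul_mem_right _ _ hβ
    obtain ⟨⟨u₁, v₁⟩, huv₁⟩ := IsLocalization.surj Q.primeCompl γ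
    simp only [] at huv₁
    obtain ⟨r', w, hr'⟩ := exists_split t hgen u₁
    have hr'q : algebraMap R A r' ∈ q := by
      have h1 : algebraMap T A u₁ ∈ q := by rw [← huv₁]; exact Ideal.mul_mem_right _ _ hγq
      have h2 : algebraMap R A r' = algebraMap T A u₁ - t₁ * algebraMap T A w := by
        rw [hr', map_add, map_mul, hRA]; ring
      rw [h2]
      exact Ideal.sub_mem _ h1 (Ideal.mul_mem_right _ _ ht₁q)
    have hδunit : IsUnit (algebraMap A B (δ : A)) := IsLocalization.map_units B δ
    have hv₁unit : IsUnit (algebraMap A B (algebraMap T A (v₁ : T))) :=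
      (IsLocalization.map_units A v₁).map _
    obtain ⟨δ', hδ'⟩ := hδunit.exists_right_inv
    obtain ⟨v₁', hv₁'⟩ := hv₁unit.exists_right_inv
    refine ⟨r', algebraMap A B (algebraMap T A w), δ' * v₁', ?_, ?_⟩
    · rw [hRB, hmB]; exact hr'q
    · have e1 : algebraMap A B γ = β * algebraMap A B (δ : A) := hγδ.symm
      have e2 : algebraMap A B (algebraMap T A u₁) =
          algebraMap A B γ * algebraMap A B (algebraMap T A (v₁ : T)) := by
        rw [← map_mul, huv₁]
      have e3 : algebraMap A B (algebraMap T A u₁) =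
          algebraMap R B r' + algebraMap A B t₁ * algebraMap A B (algebraMap T A w) := by
        rw [hr', map_add, map_mul, map_add, map_mul, hRB, hRA]
      calc β = β * (algebraMap A B (δ : A) * δ') * (algebraMap A B (algebraMap T A (v₁ : T)) * v₁') := by
            rw [hδ', hv₁', mul_one, mul_one]
        _ = δ' * v₁' * (β * algebraMap A B (δ : A) * algebraMap A B (algebraMap T A (v₁ : T))) := by
            ring
        _ = δ' * v₁' * (algebraMap R B r' + algebraMap A B t₁ * algebraMap A B (algebraMap T A w)) := by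
            rw [← e1, ← e2, e3]
  · intro r' hr'
    rw [hRB, hmB] at hr'
    obtain ⟨r₁, hr₁⟩ := (hp'z r').mp hr'
    refine ⟨r₁, hRK ?_⟩
    rw [map_mul, map_mul, hu₀z, hr₁]; ring
  · refine ⟨σ * r, ?_⟩
    have h1 : algebraMap R K u₀ * tK = algebraMap R K π₀ * algebraMap R K (σ * r) := by
      rw [hu₀z]
      show algebraMap R K π₀ * (algebraMap R K (σ * r) / tK) * tK = _
      rw [mul_assoc, div_mul_cancel₀ _ htK0]
    have h2 : algebraMap R T u₀ * t = algebraMap R T π₀ * algebraMap R T (σ * r) := by
      apply hinj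
      rw [map_mul, map_mul, ← IsScalarTower.algebraMap_apply, ← IsScalarTower.algebraMap_apply,
        ← IsScalarTower.algebraMap_apply]
      exact h1
    rw [hRB, hRB, hRB, hRA, hRA, hRA, ← map_mul, ← map_mul, ← map_mul, ← map_mul, h2]

end DVR

section Main

variable {R : Type u} [CommRing R] [IsDomain R] [IsIntegrallyClosed R]
  {K : Type u} [Field K] [Algebra R K] [IsFractionRing R K]
  {T : Type u} [CommRing T] [Algebra R T] [Algebra T K] [IsScalarTower R T K]

/-- **Lemma L0**: `R` normal Nagata domain, `T = R[t] ⊆ K = Frac R`, `Q ∋ t` a prime of `T`.  Then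
`T_Q` is analytically unramified. -/
theorem isReduced_cpl_localization (hR : IsNagata R)
    (hinj : Function.Injective (algebraMap T K)) (t : T)
    (hgen : Algebra.adjoin R {t} = ⊤) (Q : Ideal T) [Q.IsPrime] (htQ : t ∈ Q) :
    IsReduced (AdicCompletion (maximalIdeal (Localization.AtPrime Q)) (Localization.AtPrime Q)) := by
  haveI := hR.1
  haveI : IsDomain T := hinj.isDomain _
  haveI : Algebra.FiniteType R T := ⟨by
    rw [← hgen]
    exact ⟨{t}, by simp⟩⟩
  haveI : IsNoetherianRing T := Algebra.FiniteType.isNoetherianRing R T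
  by_cases ht0 : t = 0
  · have hsurj : Function.Surjective (algebraMap R T) := by
      intro w
      obtain ⟨r, w', hw⟩ := exists_split t hgen w
      exact ⟨r, by rw [hw, ht0, zero_mul, add_zero]⟩
    have hT : IsNagata T := Groth.Agent.Lib.Helper28.isNagata_of_surjective (algebraMap R T) hsurj hR
    have hA : IsNagata (Localization.AtPrime Q) :=
      Groth.Agent.Lib.Helper14.isNagata_of_isLocalization T Q.primeCompl _ hT
    exact Groth.Agent.Lib.Helper28.isReduced_adicCompletion_of_isNagata _ hA
  · have hTA : Function.Injective (algebraMap T (Localization.AtPrime Q)) :=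
      IsLocalization.injective _ Q.primeCompl_le_nonZeroDivisors
    have ht₁0 : algebraMap T (Localization.AtPrime Q) t ≠ 0 := fun h0 =>
      ht0 (hTA (h0.trans (map_zero _).symm))
    refine Groth.Agent.Lib.Helper7.NagCrit.isReduced_cpl_of_forall_ass
      (algebraMap T (Localization.AtPrime Q) t) ?_ ?_ ?_
    · exact (IsLocalization.AtPrime.to_map_mem_maximal_iff _ Q t).mpr htQ
    · exact (IsRegular.of_ne_zero ht₁0).isSMulRegular
    · intro q hq hqp
      have htq : algebraMap T (Localization.AtPrime Q) t ∈ q :=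
        Groth.Agent.Lib.Helper28.mem_of_mem_associatedPrimes_quotient_span_singleton hq
      constructor
      · haveI : IsDiscreteValuationRing (Localization.AtPrime q) :=
          isDiscreteValuationRing_localization (R := R) (K := K) hinj t ht0 hgen Q q hq
        infer_instance
      · have hNag : IsNagata (Localization.AtPrime Q ⧸ q) := isNagata_quotient hR t hgen Q q htq
        haveI : IsLocalRing (Localization.AtPrime Q ⧸ q) :=
          Groth.Agent.Lib.Helper5.isLocalRing_quotient hqp.ne_top
        have h1 := Groth.Agent.Lib.Helper28.isReduced_adicCompletion_of_isNagata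
          (Localization.AtPrime Q ⧸ q) hNag
        rw [Groth.Agent.Lib.Helper5.maximalIdeal_quotient_eq_map] at h1
        exact h1

end Main

end Groth.Agent.Lib.Helper7.NagL0
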