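import Mathlib
import Groth.Agent.Lib.Helper7NagL0
import Groth.Agent.Lib.Helper4NormalLocus
import Groth.Agent.Lib.Helper28AnalUnram

/-!
# Monogenic birational extensions of normal Nagata domains are N-1 (helper7)

`R` a normal Nagata domain with fraction field `K`, `R ⊆ T = R[x] ⊆ K`.  Then the integral closure
of `T` in `K` is a finite `T`-module.
-/

set_option autoImplicit false
set_option linter.style.haveILetI false
universe u

namespace Groth.Agent.Lib.Helper7.NagN

open Groth CAlg IsLocalRing Polynomial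

section Generic

/-- if `c` and `c x` are integral over `R₀` and `T = R[x]` with `R` integral over `R₀`, then every
element of `T` becomes integral over `R₀` after multiplication by a power of `c`. -/
theorem exists_pow_mul_isIntegral {R R₀ T : Type*} [CommRing R] [CommRing R₀] [CommRing T]
    [Algebra R T] [Algebra R₀ T] (h0 : ∀ r : R, IsIntegral R₀ (algebraMap R T r)) (c x : T)
    (hc : IsIntegral R₀ c) (hcx : IsIntegral R₀ (c * x)) (hgen : Algebra.adjoin R {x} = ⊤)
    (t' : T) : ∃ n : ℕ, IsIntegral R₀ (c ^ n * t') := by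
  have ht' : t' ∈ Algebra.adjoin R {x} := by rw [hgen]; exact Algebra.mem_top
  induction ht' using Algebra.adjoin_induction with
  | mem y hy =>
    rw [Set.mem_singleton_iff] at hy
    exact ⟨1, by rw [hy, pow_one]; exact hcx⟩
  | algebraMap r => exact ⟨0, by rw [pow_zero, one_mul]; exact h0 r⟩
  | add y z _ _ hy hz =>
    obtain ⟨n₁, h₁⟩ := hy
    obtain ⟨n₂, h₂⟩ := hz
    refine ⟨n₁ + n₂, ?_⟩
    have : c ^ (n₁ + n₂) * (y + z) = c ^ n₂ * (c ^ n₁ * y) + c ^ n₁ * (c ^ n₂ * z) := by ring
    rw [this]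
    exact ((hc.pow _).mul h₁).add ((hc.pow _).mul h₂)
  | mul y z _ _ hy hz =>
    obtain ⟨n₁, h₁⟩ := hy
    obtain ⟨n₂, h₂⟩ := hz
    refine ⟨n₁ + n₂, ?_⟩
    have : c ^ (n₁ + n₂) * (y * z) = (c ^ n₁ * y) * (c ^ n₂ * z) := by ring
    rw [this]
    exact h₁.mul h₂

/-- scaling an integral equation: if every element of `T` becomes integral over `R₀` after
multiplication by a power of `c`, the same holds for the elements of `K` integral over `T`. -/
theorem exists_pow_mul_isIntegral_of_isIntegral {R₀ T K : Type*} [CommRing R₀] [CommRing T]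
    [CommRing K] [Algebra R₀ T] [Algebra T K] [Algebra R₀ K] [IsScalarTower R₀ T K] (c : T)
    (hc : IsIntegral R₀ c) (h : ∀ t' : T, ∃ n : ℕ, IsIntegral R₀ (c ^ n * t')) (y : K)
    (hy : IsIntegral T y) : ∃ N : ℕ, IsIntegral R₀ (algebraMap T K (c ^ N) * y) := by
  classical
  obtain ⟨P, hPm, hP⟩ := hy
  choose ν hν using h
  let n : ℕ := P.support.sup fun i => ν (P.coeff i)
  have hn : ∀ i, IsIntegral R₀ (c ^ n * P.coeff i) := by
    intro i
    by_cases hi : i ∈ P.support
    · have hle : ν (P.coeff i) ≤ n := Finset.le_sup (f := fun i => ν (P.coeff i)) hi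
      obtain ⟨k, hk⟩ := Nat.exists_eq_add_of_le hle
      have : c ^ n * P.coeff i = c ^ k * (c ^ ν (P.coeff i) * P.coeff i) := by
        rw [hk]; ring
      rw [this]
      exact (hc.pow k).mul (hν _)
    · rw [Polynomial.notMem_support_iff.mp hi, mul_zero]
      exact isIntegral_zero
  refine ⟨n, ?_⟩
  let C : Subalgebra R₀ T := integralClosure R₀ T
  have hlift : scaleRoots P (c ^ n) ∈ lifts (algebraMap C T) := by
    rw [lifts_iff_coeff_lifts]
    intro i
    rw [coeff_scaleRoots]
    rcases lt_trichotomy i P.natDegree with hi | hi | hi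
    · have h1 : P.coeff i * (c ^ n) ^ (P.natDegree - i) =
          (c ^ n * P.coeff i) * (c ^ n) ^ (P.natDegree - i - 1) := by
        have : P.natDegree - i = (P.natDegree - i - 1) + 1 := by omega
        conv_lhs => rw [this, pow_succ]
        ring
      rw [h1]
      exact ⟨⟨_, (hn i).mul ((hc.pow n).pow _)⟩, rfl⟩
    · rw [hi, Nat.sub_self, pow_zero, mul_one]
      have : P.coeff P.natDegree = 1 := hPm
      rw [this]
      exact ⟨1, rfl⟩
    · rw [coeff_eq_zero_of_natDegree_lt hi, zero_mul]
      exact ⟨0, rfl⟩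
  obtain ⟨q, hq, -, hqm⟩ := lifts_and_natDegree_eq_and_monic hlift ((monic_scaleRoots_iff _).mpr hPm)
  have hint : IsIntegral C (algebraMap T K (c ^ n) * y) := by
    refine ⟨q, hqm, ?_⟩
    have h1 := scaleRoots_eval₂_eq_zero (algebraMap T K) (s := c ^ n) hP
    rw [← hq, eval₂_map] at h1
    exact h1
  exact isIntegral_trans (R := R₀) (A := C) _ hint

/-- a ring between a domain and its fraction field has the same fraction field -/
theorem isFractionRing_of_tower {R T K : Type*} [CommRing R] [IsDomain R] [CommRing T] [Field K]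
    [Algebra R K] [IsFractionRing R K] [Algebra R T] [Algebra T K] [IsScalarTower R T K]
    (hinj : Function.Injective (algebraMap T K)) : IsFractionRing T K := by
  haveI : FaithfulSMul T K := (faithfulSMul_iff_algebraMap_injective T K).mpr hinj
  refine IsFractionRing.of_field T K (fun z => ?_)
  obtain ⟨b, a, -, rfl⟩ := IsFractionRing.div_surjective (A := R) z
  exact ⟨algebraMap R T b, algebraMap R T a, by
    rw [← IsScalarTower.algebraMap_apply, ← IsScalarTower.algebraMap_apply]⟩

end Generic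

section Key

/-- `T = R[x]`, `m` a maximal ideal of `T`.  Then some multiple `c x`, `c ∈ R ∖ m`, satisfies a monic
equation over `R` modulo `m`. -/
theorem exists_monic_aeval_mem {R T : Type*} [CommRing R] [CommRing T] [Algebra R T] (x : T)
    (hgen : Algebra.adjoin R {x} = ⊤) (m : Ideal T) [hm : m.IsMaximal] :
    ∃ c : R, algebraMap R T c ∉ m ∧ ∃ g' : R[X], g'.Monic ∧ g'.natDegree ≠ 0 ∧
      aeval (algebraMap R T c * x) g' ∈ m := by
  classical
  let n : Ideal R := m.comap (algebraMap R T)
  haveI : n.IsPrime := Ideal.comap_isPrime _ _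
  let ι : R ⧸ n →+* T ⧸ m := Ideal.quotientMap m (algebraMap R T) le_rfl
  have hι : Function.Injective ι := Ideal.quotientMap_injective
  let π : T →+* T ⧸ m := Ideal.Quotient.mk m
  have hcomp : ι.comp (Ideal.Quotient.mk n) = π.comp (algebraMap R T) := Ideal.quotientMap_comp_mk le_rfl
  letI : Field (T ⧸ m) := Ideal.Quotient.field m
  -- a polynomial with nonzero reduction vanishing at `x` modulo `m`
  have hG : ∃ G : R[X], G.map (Ideal.Quotient.mk n) ≠ 0 ∧ π (aeval x G) = 0 := by
    by_cases hx : π x = 0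
    · refine ⟨X, ?_, by rw [aeval_X]; exact hx⟩
      rw [Polynomial.map_X]
      exact X_ne_zero
    · obtain ⟨w', hw'⟩ : ∃ w' : T ⧸ m, π x * w' = 1 := ⟨(π x)⁻¹, mul_inv_cancel₀ hx⟩
      obtain ⟨w, rfl⟩ := Ideal.Quotient.mk_surjective w'
      have hw : w ∈ Algebra.adjoin R {x} := by rw [hgen]; exact Algebra.mem_top
      rw [Algebra.adjoin_singleton_eq_range_aeval] at hw
      obtain ⟨P, hP0⟩ := hw
      have hP : aeval x P = w := hP0
      refine ⟨X * P - 1, ?_, ?_⟩
      · intro h0
        have h1 := congrArg (fun q => q.coeff 0) h0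
        simp only [Polynomial.map_sub, Polynomial.map_mul, Polynomial.map_X, Polynomial.map_one,
          coeff_sub, coeff_zero, mul_coeff_zero, coeff_X_zero, zero_mul, coeff_one_zero,
          zero_sub] at h1
        exact one_ne_zero (neg_eq_zero.mp h1)
      · rw [map_sub, map_mul, aeval_X, hP, map_one, map_sub, map_mul, map_one]
        exact sub_eq_zero.mpr hw'
  obtain ⟨G, hG0, hGx⟩ := hG
  set Gb : (R ⧸ n)[X] := G.map (Ideal.Quotient.mk n) with hGb
  have hGbx : eval₂ ι (π x) Gb = 0 := by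
    rw [hGb, eval₂_map, hcomp, ← hGx, aeval_def, hom_eval₂]
  have hlc : Gb.leadingCoeff ≠ 0 := leadingCoeff_ne_zero.mpr hG0
  have hdeg : 1 ≤ Gb.natDegree := by
    by_contra hd
    have hd0 : Gb.natDegree = 0 := by omega
    have h1 : Gb = C (Gb.coeff 0) := eq_C_of_natDegree_eq_zero hd0
    rw [h1, eval₂_C] at hGbx
    have h2 : Gb.coeff 0 = 0 := hι (hGbx.trans (map_zero ι).symm)
    rw [h2, map_zero] at h1
    exact hG0 h1
  have hN := integralNormalization_eval₂_leadingCoeff_mul hdeg ι (π x)
  rw [hGbx, mul_zero] at hN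
  obtain ⟨c, hc⟩ := Ideal.Quotient.mk_surjective Gb.leadingCoeff
  have hcm : algebraMap R T c ∉ m := by
    intro hmem
    have : c ∈ n := hmem
    rw [← Ideal.Quotient.eq_zero_iff_mem, hc] at this
    exact hlc this
  have hlifts : integralNormalization Gb ∈ lifts (Ideal.Quotient.mk n) := by
    obtain ⟨q, hq⟩ := Polynomial.map_surjective (Ideal.Quotient.mk n) Ideal.Quotient.mk_surjective
      (integralNormalization Gb)
    exact (mem_lifts _).mpr ⟨q, hq⟩
  obtain ⟨g', hg', hg'deg, hg'm⟩ := lifts_and_natDegree_eq_and_monic hlifts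
    (monic_integralNormalization hG0)
  refine ⟨c, hcm, g', hg'm, ?_, ?_⟩
  · rw [hg'deg, natDegree_integralNormalization]
    omega
  · rw [← Ideal.Quotient.eq_zero_iff_mem]
    show π (aeval (algebraMap R T c * x) g') = 0
    rw [aeval_def, hom_eval₂, ← hcomp, ← eval₂_map, hg', map_mul]
    have : π (algebraMap R T c) = ι Gb.leadingCoeff := by
      rw [← hc]
      exact (RingHom.congr_fun hcomp c).symm
    rw [this]
    exact hN

end Key

section Local

variable {R : Type u} [CommRing R] [IsDomain R] [IsIntegrallyClosed R]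
  {K : Type u} [Field K] [Algebra R K] [IsFractionRing R K]

open Groth.Agent.Lib.Helper4.NormalLocus in
/-- the local bound at a prime `Q₀ ∋ t₀` of `T₀ = R[t₀]` -/
theorem exists_local_bound (hR : IsNagata R) {T₀ : Type u} [CommRing T₀] [Algebra R T₀]
    [Algebra T₀ K] [IsScalarTower R T₀ K] (hinj : Function.Injective (algebraMap T₀ K)) (t₀ : T₀)
    (hgen : Algebra.adjoin R {t₀} = ⊤) (Q₀ : Ideal T₀) [Q₀.IsPrime] (htQ : t₀ ∈ Q₀) (f₀ : T₀)
    (hden : ∀ y : K, IsIntegral T₀ y → ∃ k : ℕ, f₀ ^ k ∈ den T₀ y) :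
    ∃ n : ℕ, ∀ y : K, IsIntegral T₀ y → ∃ s ∈ Q₀.primeCompl, s * f₀ ^ n ∈ den T₀ y := by
  haveI := hR.1
  haveI : IsDomain T₀ := hinj.isDomain _
  haveI : Algebra.FiniteType R T₀ := ⟨by
    rw [← hgen]
    exact ⟨{t₀}, by simp⟩⟩
  haveI : IsNoetherianRing T₀ := Algebra.FiniteType.isNoetherianRing R T₀
  haveI : IsFractionRing T₀ K := isFractionRing_of_tower (R := R) hinj
  have hM : Q₀.primeCompl ≤ nonZeroDivisors T₀ := Q₀.primeCompl_le_nonZeroDivisors
  letI : Algebra (Localization.AtPrime Q₀) K :=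
    (IsLocalization.lift (M := Q₀.primeCompl) (S := Localization.AtPrime Q₀)
      (g := algebraMap T₀ K)
      (fun y => IsLocalization.map_units K (⟨y, hM y.2⟩ : nonZeroDivisors T₀))).toAlgebra
  haveI : IsScalarTower T₀ (Localization.AtPrime Q₀) K :=
    IsScalarTower.of_algebraMap_eq fun r => (IsLocalization.lift_eq _ r).symm
  haveI : IsFractionRing (Localization.AtPrime Q₀) K :=
    IsFractionRing.isFractionRing_of_isDomain_of_isLocalization Q₀.primeCompl _ _
  haveI : IsReduced (AdicCompletion (maximalIdeal (Localization.AtPrime Q₀))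
      (Localization.AtPrime Q₀)) :=
    Groth.Agent.Lib.Helper7.NagL0.isReduced_cpl_localization (K := K) hR hinj t₀ hgen Q₀ htQ
  have hN1 : IsN1 (Localization.AtPrime Q₀) :=
    Groth.Agent.Lib.Helper28.isN1_of_isReduced_adicCompletion
  have hfin := (Groth.Agent.Lib.Helper14.isN1_iff_of_isFractionRing (Localization.AtPrime Q₀)
    K).mp hN1
  exact exists_uniform_pow Q₀.primeCompl (Localization.AtPrime Q₀) hfin f₀ hden

end Local

section Main

variable {R : Type u} [CommRing R] [IsDomain R] [IsIntegrallyClosed R]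
  {K : Type u} [Field K] [Algebra R K] [IsFractionRing R K]
  {T : Type u} [CommRing T] [Algebra R T] [Algebra T K] [IsScalarTower R T K]

open Groth.Agent.Lib.Helper4.NormalLocus in
/-- **Theorem N**: a monogenic birational extension `T = R[x] ⊆ Frac R` of a normal Nagata domain is
N-1. -/
theorem finite_integralClosure_of_adjoin_singleton (hR : IsNagata R)
    (hinj : Function.Injective (algebraMap T K)) (x : T) (hgen : Algebra.adjoin R {x} = ⊤) :
    Module.Finite T (integralClosure T K) := by
  classical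
  haveI := hR.1
  haveI : IsDomain T := hinj.isDomain _
  haveI : Algebra.FiniteType R T := ⟨by rw [← hgen]; exact ⟨{x}, by simp⟩⟩
  haveI : IsNoetherianRing T := Algebra.FiniteType.isNoetherianRing R T
  haveI : IsFractionRing T K := isFractionRing_of_tower (R := R) hinj
  have hRK : Function.Injective (algebraMap R K) := IsFractionRing.injective R K
  -- write x = b / a
  obtain ⟨b, a, ha, hx⟩ := IsFractionRing.div_surjective (A := R) (algebraMap T K x)
  have ha0 : (a : R) ≠ 0 := nonZeroDivisors.ne_zero ha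
  have haK : algebraMap R K a ≠ 0 := fun h0 => ha0 (hRK (h0.trans (map_zero _).symm))
  set f : T := algebraMap R T a with hf
  have hf0 : f ≠ 0 := by
    intro h0
    apply haK
    rw [IsScalarTower.algebraMap_apply R T K, ← hf, h0, map_zero]
  have hfx : f * x = algebraMap R T b := by
    apply hinj
    rw [map_mul, hf, ← IsScalarTower.algebraMap_apply, ← IsScalarTower.algebraMap_apply, ← hx,
      mul_div_cancel₀ _ haK]
  -- (1) elements of `T` become integral over `R` after multiplying by a power of `f`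
  have hTint : ∀ t' : T, ∃ n : ℕ, IsIntegral R (f ^ n * t') :=
    exists_pow_mul_isIntegral (R := R) (R₀ := R) (fun r => isIntegral_algebraMap) f x
      isIntegral_algebraMap (by rw [hfx]; exact isIntegral_algebraMap) hgen
  -- (2) denominators of integral elements are powers of `f`
  have hden' : ∀ y : K, IsIntegral T y →
      ∃ k : ℕ, ∃ r : R, algebraMap R K r = algebraMap T K (f ^ k) * y := by
    intro y hy
    obtain ⟨N, hN⟩ := exists_pow_mul_isIntegral_of_isIntegral (R₀ := R) f isIntegral_algebraMap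
      hTint y hy
    obtain ⟨r, hr⟩ := IsIntegrallyClosed.isIntegral_iff.mp hN
    exact ⟨N, r, hr⟩
  have hden : ∀ y : K, IsIntegral T y → ∃ k : ℕ, f ^ k ∈ den T y := by
    intro y hy
    obtain ⟨k, r, hr⟩ := hden' y hy
    refine ⟨k, mem_den.mpr ⟨algebraMap R T r, ?_⟩⟩
    rw [← IsScalarTower.algebraMap_apply, hr, Algebra.smul_def]
  refine finite_integralClosure_of_local_bounds (R := T) (K := K) f hf0 hden ?_
  intro m hm
  haveI := hm
  obtain ⟨c, hcm, g', hg'm, hg'deg, hg'mem⟩ := exists_monic_aeval_mem (R := R) x hgen m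
  set cT : T := algebraMap R T c with hcT
  set t : T := aeval (cT * x) g' with ht
  let T₀ : Subalgebra R T := Algebra.adjoin R {t}
  have htT₀ : t ∈ T₀ := Algebra.subset_adjoin (Set.mem_singleton t)
  let t₀ : T₀ := ⟨t, htT₀⟩
  have hgen₀ : Algebra.adjoin R {t₀} = ⊤ := by
    have h1 := Algebra.adjoin_adjoin_coe_preimage (R := R) (s := ({t} : Set T))
    convert h1 using 2
    ext z
    simp [t₀, Subtype.ext_iff]
  have hinj₀ : Function.Injective (algebraMap T₀ K) := by
    intro u v huv
    apply Subtype.ext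
    apply hinj
    exact huv
  haveI : IsFractionRing T₀ K := isFractionRing_of_tower (R := R) hinj₀
  let Q₀ : Ideal T₀ := m.comap (algebraMap T₀ T)
  haveI : Q₀.IsPrime := Ideal.comap_isPrime _ _
  have htQ₀ : t₀ ∈ Q₀ := hg'mem
  let f₀ : T₀ := algebraMap R T₀ a
  have hden₀ : ∀ y : K, IsIntegral T₀ y → ∃ k : ℕ, f₀ ^ k ∈ den T₀ y := by
    intro y hy
    have hy' : IsIntegral T y := hy.tower_top
    obtain ⟨k, r, hr⟩ := hden' y hy'
    refine ⟨k, mem_den.mpr ⟨algebraMap R T₀ r, ?_⟩⟩
    rw [← IsScalarTower.algebraMap_apply, hr, Algebra.smul_def]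
    rfl
  obtain ⟨n₀, hn₀⟩ := exists_local_bound (K := K) hR hinj₀ t₀ hgen₀ Q₀ htQ₀ f₀ hden₀
  refine ⟨n₀, ?_⟩
  intro y hy
  -- `c x` is integral over `T₀`
  have hcx : IsIntegral T₀ (cT * x) := by
    refine IsIntegral.of_aeval_monic (p := g'.map (algebraMap R T₀)) (hg'm.map _) ?_ ?_
    · rw [hg'm.natDegree_map]; exact hg'deg
    · rw [aeval_map_algebraMap]
      exact (isIntegral_algebraMap (x := t₀))
  have hcTint : IsIntegral T₀ cT := by
    have : cT = algebraMap T₀ T (algebraMap R T₀ c) := rfl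
    rw [this]; exact isIntegral_algebraMap
  have hTint₀ : ∀ t' : T, ∃ n : ℕ, IsIntegral T₀ (cT ^ n * t') :=
    exists_pow_mul_isIntegral (R := R) (R₀ := T₀) (fun r => by
      have : algebraMap R T r = algebraMap T₀ T (algebraMap R T₀ r) := rfl
      rw [this]; exact isIntegral_algebraMap) cT x hcTint hcx hgen
  obtain ⟨N, hN⟩ := exists_pow_mul_isIntegral_of_isIntegral (R₀ := T₀) cT hcTint hTint₀ y hy
  obtain ⟨s₀, hs₀, hs₀mem⟩ := hn₀ _ hN
  obtain ⟨a', ha'⟩ := mem_den.mp hs₀mem
  refine ⟨(s₀ : T) * cT ^ N, ?_, mem_den.mpr ⟨(a' : T), ?_⟩⟩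
  · intro hmem
    rcases hm.isPrime.mem_or_mem hmem with h1 | h1
    · exact hs₀ h1
    · exact hcm (hm.isPrime.mem_of_pow_mem _ h1)
  · have e1 : algebraMap T K (a' : T) = algebraMap T₀ K a' := rfl
    rw [e1, ha', Algebra.smul_def, Algebra.smul_def]
    have e2 : algebraMap T₀ K (s₀ * f₀ ^ n₀) = algebraMap T K ((s₀ : T) * f ^ n₀) := rfl
    rw [e2, ← mul_assoc, ← map_mul]
    congr 2
    ring

end Main

end Groth.Agent.Lib.Helper7.NagN
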