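import Mathlib
import Groth.Agent.Lib.Helper7NagN
import Groth.Agent.Lib.Helper7QE
import Groth.Agent.Lib.Helper4Japanese3

/-!
# Monogenic extensions of Nagata domains are N-2; finite type algebras over Nagata rings (helper7)
-/

set_option autoImplicit false
set_option linter.style.haveILetI false
universe u

namespace Groth.Agent.Lib.Helper7.NagM

open Groth CAlg IsLocalRing Polynomial

/-- **Theorem M**: a domain generated by one element over a Nagata subdomain is N-2. -/
theorem isN2_of_adjoin_singleton {R S : Type u} [CommRing R] [IsDomain R] [CommRing S] [IsDomain S]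
    [Algebra R S] (hR : IsNagata R) (hinj : Function.Injective (algebraMap R S)) (x : S)
    (hgen : Algebra.adjoin R {x} = ⊤) : IsN2 S := by
  classical
  haveI := hR.1
  have hN2R : IsN2 R := Groth.Agent.Lib.Helper28.isN2_of_isNagata_of_isDomain R hR
  by_cases htr : Function.Injective (aeval x : R[X] →ₐ[R] S)
  · -- transcendental case
    have hsurj : Function.Surjective (aeval x : R[X] →ₐ[R] S) := by
      intro s
      have hs : s ∈ Algebra.adjoin R {x} := by rw [hgen]; exact Algebra.mem_top
      rw [Algebra.adjoin_singleton_eq_range_aeval] at hs
      exact hs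
    let e : R[X] ≃+* S := RingEquiv.ofBijective (aeval x : R[X] →ₐ[R] S).toRingHom ⟨htr, hsurj⟩
    exact Groth.Agent.Lib.Helper14.isN2_of_ringEquiv e
      (Groth.Agent.Lib.Helper4.Japanese.isN2_polynomial R hN2R)
  · -- algebraic case
    intro L _ _ _ _ hfd
    have hxalg : IsAlgebraic R x := by
      rw [injective_iff_map_eq_zero] at htr
      push Not at htr
      obtain ⟨P, hP, hP0⟩ := htr
      exact ⟨P, hP0, hP⟩
    haveI : Algebra.IsAlgebraic R S := by
      have h1 : (Algebra.adjoin R {x}).IsAlgebraic := Algebra.isAlgebraic_adjoin_singleton_iff.mpr hxalg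
      exact ⟨fun s => h1 s (by rw [hgen]; exact Algebra.mem_top)⟩
    haveI : Algebra.FiniteType R S := ⟨by rw [← hgen]; exact ⟨{x}, by simp⟩⟩
    letI : Algebra R L := ((algebraMap S L).comp (algebraMap R S)).toAlgebra
    haveI : IsScalarTower R S L := IsScalarTower.of_algebraMap_eq fun _ => rfl
    haveI : IsScalarTower R (FractionRing S) L := IsScalarTower.of_algebraMap_eq fun r => by
      rw [IsScalarTower.algebraMap_apply R S L, IsScalarTower.algebraMap_apply S (FractionRing S) L,
        ← IsScalarTower.algebraMap_apply R S (FractionRing S)]
    have hSL : Function.Injective (algebraMap S L) := by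
      rw [IsScalarTower.algebraMap_eq S (FractionRing S) L]
      exact (algebraMap (FractionRing S) L).injective.comp (IsFractionRing.injective S (FractionRing S))
    have hRL : Function.Injective (algebraMap R L) := hSL.comp hinj
    haveI : FaithfulSMul R L := (faithfulSMul_iff_algebraMap_injective R L).mpr hRL
    letI : Algebra (FractionRing R) L := FractionRing.liftAlgebra R L
    haveI : IsScalarTower R (FractionRing R) L := FractionRing.isScalarTower_liftAlgebra R L
    -- `L` is finite over `Frac R`
    haveI : Algebra.IsAlgebraic S (FractionRing S) :=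
      IsLocalization.isAlgebraic (FractionRing S) (nonZeroDivisors S)
    haveI : Algebra.IsAlgebraic R (FractionRing S) := Algebra.IsAlgebraic.trans R S (FractionRing S)
    haveI : Algebra.IsAlgebraic R L := Algebra.IsAlgebraic.trans R (FractionRing S) L
    haveI : Algebra.IsAlgebraic (FractionRing R) L := IsFractionRing.comap_isAlgebraic_iff.mp
      (inferInstance : Algebra.IsAlgebraic R L)
    haveI : Algebra.EssFiniteType R (FractionRing S) := inferInstance
    haveI : Algebra.EssFiniteType R L := Algebra.EssFiniteType.comp R (FractionRing S) L
    haveI : Algebra.EssFiniteType (FractionRing R) L := Algebra.EssFiniteType.of_comp R (FractionRing R) L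
    haveI : Module.Finite (FractionRing R) L := Algebra.finite_of_essFiniteType_of_isAlgebraic
    haveI hfinR' : Module.Finite R (integralClosure R L) :=
      Groth.Agent.Lib.Helper14.IsN2.finite hN2R (FractionRing R) L
    haveI : IsIntegrallyClosed (integralClosure R L) :=
      integralClosure.isIntegrallyClosedOfFiniteExtension (FractionRing R)
    haveI : IsFractionRing (integralClosure R L) L :=
      integralClosure.isFractionRing_of_finite_extension (FractionRing R) L
    have hNag' : IsNagata (integralClosure R L) :=
      Groth.Agent.Lib.Helper7.QE.isNagata_of_finite R _ hR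
    set xL : L := algebraMap S L x with hxL
    let T' : Subalgebra (integralClosure R L) L := Algebra.adjoin (integralClosure R L) {xL}
    have hxT' : xL ∈ T' := Algebra.subset_adjoin (Set.mem_singleton xL)
    let x' : T' := ⟨xL, hxT'⟩
    have hgen' : Algebra.adjoin (integralClosure R L) {x'} = ⊤ := by
      have h1 := Algebra.adjoin_adjoin_coe_preimage (R := integralClosure R L) (s := ({xL} : Set L))
      convert h1 using 2
      ext z
      simp [x', Subtype.ext_iff]
    have hinj' : Function.Injective (algebraMap T' L) := Subtype.val_injective
    have hN : Module.Finite T' (integralClosure T' L) :=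
      Groth.Agent.Lib.Helper7.NagN.finite_integralClosure_of_adjoin_singleton
        (R := integralClosure R L) (K := L) (T := T') hNag' hinj' x' hgen'
    -- `S` maps into `T'`
    have hST : ∀ s : S, algebraMap S L s ∈ T' := by
      intro s
      have hs : s ∈ Algebra.adjoin R {x} := by rw [hgen]; exact Algebra.mem_top
      induction hs using Algebra.adjoin_induction with
      | mem y hy =>
        rw [Set.mem_singleton_iff] at hy
        rw [hy]; exact hxT'
      | algebraMap r =>
        have : algebraMap S L (algebraMap R S r) =
            algebraMap (integralClosure R L) L (algebraMap R (integralClosure R L) r) := rfl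
        rw [this]
        exact T'.algebraMap_mem _
      | add y z _ _ hy hz => rw [map_add]; exact T'.add_mem hy hz
      | mul y z _ _ hy hz => rw [map_mul]; exact T'.mul_mem hy hz
    letI : Algebra S T' := ((algebraMap S L).codRestrict T' hST).toAlgebra
    haveI : IsScalarTower S T' L := IsScalarTower.of_algebraMap_eq fun _ => rfl
    -- `T'` is integral over `S`
    haveI : Algebra.IsIntegral S T' := by
      refine ⟨fun z => ?_⟩
      rw [← isIntegral_algHom_iff (IsScalarTower.toAlgHom S T' L) Subtype.val_injective]
      obtain ⟨z, hz⟩ := z
      show IsIntegral S z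
      induction hz using Algebra.adjoin_induction with
      | mem y hy =>
        rw [Set.mem_singleton_iff] at hy
        rw [hy]; exact isIntegral_algebraMap
      | algebraMap r' =>
        have h1 : IsIntegral R (r' : L) := r'.2
        exact h1.tower_top
      | add y z _ _ hy hz => exact hy.add hz
      | mul y z _ _ hy hz => exact hy.mul hz
    -- `T'` is of finite type over `S`
    haveI : Algebra.FiniteType S T' := by
      obtain ⟨G, hG⟩ := (Module.finite_def.mp hfinR')
      refine ⟨⟨G.image (algebraMap (integralClosure R L) T'), ?_⟩⟩
      rw [eq_top_iff]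
      rintro ⟨z, hz⟩ -
      set A' : Subalgebra S T' := Algebra.adjoin S
        ((G.image (algebraMap (integralClosure R L) T') : Finset T') : Set T') with hA'
      have hR'A' : ∀ r' : integralClosure R L, algebraMap (integralClosure R L) T' r' ∈ A' := by
        intro r'
        have hr' : r' ∈ Submodule.span R (G : Set (integralClosure R L)) := by
          rw [hG]; exact Submodule.mem_top
        induction hr' using Submodule.span_induction with
        | mem g hg =>
          refine Algebra.subset_adjoin ?_
          rw [Finset.coe_image]
          exact ⟨g, hg, rfl⟩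
        | zero => rw [map_zero]; exact A'.zero_mem
        | add y z _ _ hy hz => rw [map_add]; exact A'.add_mem hy hz
        | smul a y _ hy =>
          have : algebraMap (integralClosure R L) T' (a • y) =
              algebraMap S T' (algebraMap R S a) * algebraMap (integralClosure R L) T' y := by
            apply Subtype.ext
            show ((a • y : integralClosure R L) : L) = algebraMap S L (algebraMap R S a) * (y : L)
            rw [Algebra.smul_def, MulMemClass.coe_mul]
            rfl
          rw [this]
          exact A'.mul_mem (A'.algebraMap_mem _) hy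
      induction hz using Algebra.adjoin_induction with
      | mem y hy =>
        rw [Set.mem_singleton_iff] at hy
        subst hy
        exact A'.algebraMap_mem x
      | algebraMap r' => exact hR'A' r'
      | add y z hy' hz' hy hz => exact A'.add_mem hy hz
      | mul y z hy' hz' hy hz => exact A'.mul_mem hy hz
    haveI : Module.Finite S T' := Algebra.IsIntegral.finite
    exact Groth.Agent.Lib.Helper14.finite_integralClosure_of_finite_tower S T' L hN

/-- a ring generated by one element over a Nagata ring is Nagata -/
theorem isNagata_of_adjoin_singleton {R S : Type u} [CommRing R] [CommRing S] [Algebra R S]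
    (hR : IsNagata R) (x : S) (hgen : Algebra.adjoin R {x} = ⊤) : IsNagata S := by
  haveI := hR.1
  haveI : Algebra.FiniteType R S := ⟨by rw [← hgen]; exact ⟨{x}, by simp⟩⟩
  refine ⟨Algebra.FiniteType.isNoetherianRing R S, fun q hq => ?_⟩
  haveI : (q.under R).IsPrime := Ideal.IsPrime.under R q
  have hNag : IsNagata (R ⧸ q.under R) :=
    Groth.Agent.Lib.Helper28.isNagata_of_surjective (Ideal.Quotient.mk _)
      Ideal.Quotient.mk_surjective hR
  refine isN2_of_adjoin_singleton (R := R ⧸ q.under R) (S := S ⧸ q) hNag
    (FaithfulSMul.algebraMap_injective _ _) (Ideal.Quotient.mk q x) ?_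
  rw [eq_top_iff]
  rintro z -
  obtain ⟨z, rfl⟩ := Ideal.Quotient.mk_surjective z
  have hz : z ∈ Algebra.adjoin R {x} := by rw [hgen]; exact Algebra.mem_top
  induction hz using Algebra.adjoin_induction with
  | mem y hy =>
    rw [Set.mem_singleton_iff] at hy
    rw [hy]; exact Algebra.subset_adjoin rfl
  | algebraMap r =>
    have : Ideal.Quotient.mk q (algebraMap R S r) =
        algebraMap (R ⧸ q.under R) (S ⧸ q) (Ideal.Quotient.mk _ r) := rfl
    rw [this]; exact Subalgebra.algebraMap_mem _ _
  | add y z _ _ hy hz => rw [map_add]; exact Subalgebra.add_mem _ hy hz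
  | mul y z _ _ hy hz => rw [map_mul]; exact Subalgebra.mul_mem _ hy hz

theorem isNagata_polynomial {A : Type u} [CommRing A] (hA : IsNagata A) : IsNagata A[X] :=
  isNagata_of_adjoin_singleton hA X Polynomial.adjoin_X

theorem isNagata_mvPolynomial_fin {R : Type u} [CommRing R] (hR : IsNagata R) (n : ℕ) :
    IsNagata (MvPolynomial (Fin n) R) := by
  induction n with
  | zero =>
    exact Groth.Agent.Lib.Helper28.isNagata_of_surjective
      (MvPolynomial.isEmptyRingEquiv R (Fin 0)).symm.toRingHom
      (MvPolynomial.isEmptyRingEquiv R (Fin 0)).symm.surjective hR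
  | succ n ih =>
    exact Groth.Agent.Lib.Helper28.isNagata_of_surjective
      (MvPolynomial.finSuccEquiv R n).symm.toRingEquiv.toRingHom
      (MvPolynomial.finSuccEquiv R n).symm.surjective (isNagata_polynomial ih)

/-- Stacks 0334: finite type algebras over Nagata rings are Nagata. -/
theorem isNagata_of_finiteType (R : Type u) [CommRing R] (hR : IsNagata R) (S : Type u)
    [CommRing S] [Algebra R S] [Algebra.FiniteType R S] : IsNagata S := by
  obtain ⟨n, f, hf⟩ := Algebra.FiniteType.iff_quotient_mvPolynomial''.mp
    (inferInstance : Algebra.FiniteType R S)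
  exact Groth.Agent.Lib.Helper28.isNagata_of_surjective f.toRingHom hf
    (isNagata_mvPolynomial_fin hR n)

/-- Nagata rings are universally Japanese. -/
theorem isUniversallyJapanese_of_isNagata (R : Type u) [CommRing R] (hR : IsNagata R) :
    IsUniversallyJapanese R := by
  intro S _ _ _ hft
  haveI := hft
  exact Groth.Agent.Lib.Helper28.isN2_of_isNagata_of_isDomain S (isNagata_of_finiteType R hR S)

end Groth.Agent.Lib.Helper7.NagM
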