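import Mathlib
import Groth.Agent.Lib.Helper28AnalUnram
import Groth.Agent.Lib.Helper28AUNormal
import Groth.Agent.Lib.Helper7NagM
import Groth.Agent.Lib.Helper3EtRed
import Groth.Agent.Lib.Helper4NormCurve
import Groth.Agent.Lib.Helper4NormFinite
import Groth.Agent.Lib.Helper14Japanese
import Groth.Prelude.Def_Curv2

/-!
# Finiteness of the normalization over an analytically unramified local base (helper13)

`main`: `A` Noetherian local with reduced completion, `X` integral locally of finite type over `A`,
generically étale over `A` ⟹ the normalization of `X` is finite.  Ring-level core: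
`isN1_of_etale_of_injective`.
-/

set_option autoImplicit false
set_option linter.unusedSectionVars false
set_option linter.style.haveILetI false
universe u
open CategoryTheory CategoryTheory.Limits AlgebraicGeometry
open CAlg IsLocalRing TensorProduct

namespace Groth.Agent.Helper13NormFinAU

/-- Ring-level core: `A` Noetherian local, analytically unramified; `B` a domain of finite type over
`A` which embeds into an étale `A`-algebra. Then `B` is N-1. -/
theorem isN1_of_etale_of_injective (A : Type u) [CommRing A] [IsLocalRing A] [IsNoetherianRing A]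
    [IsReduced (AdicCompletion (IsLocalRing.maximalIdeal A) A)]
    (B : Type u) [CommRing B] [IsDomain B] [Algebra A B] [Algebra.FiniteType A B]
    (Bb : Type u) [CommRing Bb] [Algebra B Bb] [Algebra A Bb] [IsScalarTower A B Bb]
    (hinj : Function.Injective (algebraMap B Bb)) [Algebra.Etale A Bb] : CAlg.IsN1 B := by
  haveI hNS : IsNoetherianRing (AdicCompletion (IsLocalRing.maximalIdeal A) A) :=
    Groth.Agent.Lib.Helper19.isNoetherianRing_adicCompletion _
  have hNag : CAlg.IsNagata (AdicCompletion (IsLocalRing.maximalIdeal A) A) :=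
    Groth.Agent.Lib.Helper28.isNagata_of_isAdicComplete_local _
  haveI : Module.FaithfullyFlat A (AdicCompletion (IsLocalRing.maximalIdeal A) A) :=
    Module.FaithfullyFlat.of_flat_of_isLocalHom
  have hNag' : CAlg.IsNagata (AdicCompletion (IsLocalRing.maximalIdeal A) A ⊗[A] B) :=
    Groth.Agent.Lib.Helper7.NagM.isNagata_of_finiteType _ hNag _
  have hNagC : CAlg.IsNagata (B ⊗[A] AdicCompletion (IsLocalRing.maximalIdeal A) A) :=
    Groth.Agent.Lib.Helper28.isNagata_of_surjective
      (Algebra.TensorProduct.comm A (AdicCompletion (IsLocalRing.maximalIdeal A) A) B).toRingEquiv.toRingHom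
      (Algebra.TensorProduct.comm A (AdicCompletion (IsLocalRing.maximalIdeal A) A) B).surjective hNag'
  haveI := hNagC.1
  haveI : IsReduced (AdicCompletion (IsLocalRing.maximalIdeal A) A ⊗[A] Bb) :=
    Groth.Agent.Lib.Helper3.EtRed.isReduced_of_etale (AdicCompletion (IsLocalRing.maximalIdeal A) A) _
  haveI : IsReduced (B ⊗[A] AdicCompletion (IsLocalRing.maximalIdeal A) A) := by
    let g : B ⊗[A] AdicCompletion (IsLocalRing.maximalIdeal A) A →ₐ[A]
        AdicCompletion (IsLocalRing.maximalIdeal A) A ⊗[A] Bb :=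
      (Algebra.TensorProduct.comm A Bb (AdicCompletion (IsLocalRing.maximalIdeal A) A)).toAlgHom.comp
        (Algebra.TensorProduct.map (IsScalarTower.toAlgHom A B Bb) (AlgHom.id A _))
    have h1 : Function.Injective (LinearMap.rTensor (AdicCompletion (IsLocalRing.maximalIdeal A) A)
        (IsScalarTower.toAlgHom A B Bb).toLinearMap) :=
      Module.Flat.rTensor_preserves_injective_linearMap _ hinj
    have hg : Function.Injective g := by
      intro a b hab
      have h2 : (Algebra.TensorProduct.map (IsScalarTower.toAlgHom A B Bb) (AlgHom.id A _)) a =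
          (Algebra.TensorProduct.map (IsScalarTower.toAlgHom A B Bb) (AlgHom.id A _)) b :=
        (Algebra.TensorProduct.comm A Bb (AdicCompletion (IsLocalRing.maximalIdeal A) A)).injective hab
      exact h1 h2
    exact isReduced_of_injective g hg
  exact Groth.Agent.Lib.Helper28.isN1_of_faithfullyFlat
    (B ⊗[A] AdicCompletion (IsLocalRing.maximalIdeal A) A)
    (Groth.Agent.Lib.Helper4.TotalFrac.finite_normalization hNagC)

open Groth.Agent.Lib.Helper4.NormCurve in
/-- N-1 variant of helper4's finiteness criterion for the normalization in the function field. -/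
theorem isFinite_fromNormalization_of_isN1 {X : Scheme.{u}} [IsIntegral X]
    (g : Spec (CommRingCat.of X.functionField) ⟶ X)
    (hg : g = gen X X.functionField (RingHom.id _)) [QuasiCompact g] [QuasiSeparated g]
    (hN1 : ∀ (U : X.Opens), IsAffineOpen U → ∀ (hne : Nonempty ↥U),
      @IsN1 Γ(X, U) _ (@IsIntegral.component_integral X _ U hne)) :
    IsFinite g.fromNormalization := by
  subst hg
  refine Groth.Agent.Lib.Helper4.NormFinite.isFinite_fromNormalization_of_finite _ (fun U hU => ?_)
  letI := ((gen X X.functionField (RingHom.id _)).app U).hom.toAlgebra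
  by_cases hne : Nonempty U
  · letI algAK : Algebra Γ(X, U) X.functionField :=
      ((RingHom.id _).comp (X.germToFunctionField U).hom).toAlgebra
    haveI : IsDomain Γ(X, U) := IsIntegral.component_integral (X := X) U
    haveI : IsFractionRing Γ(X, U) X.functionField :=
      functionField_isFractionRing_of_isAffineOpen X U hU
    have hfin : Module.Finite Γ(X, U) (integralClosure Γ(X, U) X.functionField) :=
      (Groth.Agent.Lib.Helper14.isN1_iff_of_isFractionRing _ _).mp (hN1 U hU hne)
    obtain ⟨ψ⟩ := exists_sectionsAlgEquiv X.functionField (RingHom.id _) U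
    exact Module.Finite.equiv ψ.mapIntegralClosure.toLinearEquiv
  · have hU0 : U = ⊥ := by
      ext x
      simp only [TopologicalSpace.Opens.coe_bot, Set.mem_empty_iff_false, iff_false]
      exact fun hx => hne ⟨⟨x, hx⟩⟩
    subst hU0
    haveI : Subsingleton (integralClosure Γ(X, (⊥ : X.Opens))
        Γ(Spec (CommRingCat.of X.functionField), (gen X X.functionField (RingHom.id _)) ⁻¹ᵁ ⊥)) :=
      Module.subsingleton Γ(X, (⊥ : X.Opens)) _
    exact Module.Finite.of_finite

/-- Sections over nonempty affine opens are N-1. -/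
theorem isN1_sections (A : Type u) [CommRing A] [IsLocalRing A] [IsNoetherianRing A]
    [IsReduced (AdicCompletion (IsLocalRing.maximalIdeal A) A)]
    (X : Scheme.{u}) [IsIntegral X] (f : X ⟶ Spec (CommRingCat.of A)) [LocallyOfFiniteType f]
    (U : X.Opens) (hU : genericPoint X ∈ U) [Etale (U.ι ≫ f)]
    (V : X.Opens) (hV : IsAffineOpen V) (hne : Nonempty V) :
    @CAlg.IsN1 Γ(X, V) _ (@IsIntegral.component_integral X _ V hne) := by
  haveI : IsDomain Γ(X, V) := IsIntegral.component_integral (X := X) V
  have hgV : genericPoint X ∈ V := Groth.Agent.Lib.Helper4.NormCurve.genericPoint_mem V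
  haveI : Nonempty U := ⟨⟨genericPoint X, hU⟩⟩
  haveI : Nonempty (U : Scheme.{u}) := ⟨⟨genericPoint X, hU⟩⟩
  haveI : IsIntegral (U : Scheme.{u}) := isIntegral_of_isOpenImmersion U.ι
  obtain ⟨_, ⟨W, hW, rfl⟩, hxW, hWV⟩ :=
    (U : Scheme.{u}).isBasis_affineOpens.exists_subset_of_mem_open
      (show (⟨genericPoint X, hU⟩ : U) ∈ ((U.ι ⁻¹ᵁ V : (U : Scheme.{u}).Opens) : Set U) from hgV)
      (U.ι ⁻¹ᵁ V).isOpen
  haveI : Nonempty W := ⟨⟨_, hxW⟩⟩
  have hWV' : W ≤ U.ι ⁻¹ᵁ V := hWV
  let φ : A →+* Γ(X, V) :=
    ((Scheme.ΓSpecIso (CommRingCat.of A)).inv ≫ f.appLE ⊤ V le_top).hom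
  let ψ : Γ(X, V) →+* Γ(U, W) := (U.ι.appLE V W hWV').hom
  have hφ : φ.FiniteType := by
    have h1 : (f.appLE ⊤ V le_top).hom.FiniteType :=
      HasRingHomProperty.appLE (P := @LocallyOfFiniteType) _ ‹_›
        ⟨⊤, isAffineOpen_top (Spec (CommRingCat.of A))⟩ ⟨V, hV⟩ le_top
    show ((Scheme.ΓSpecIso (CommRingCat.of A)).inv ≫ f.appLE ⊤ V le_top).hom.FiniteType
    rw [CommRingCat.hom_comp]
    refine RingHom.FiniteType.comp h1 (RingHom.FiniteType.of_surjective _ ?_)
    exact (ConcreteCategory.bijective_of_isIso (Scheme.ΓSpecIso (CommRingCat.of A)).inv).surjective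
  have hψ : Function.Injective ψ := by
    show Function.Injective (U.ι.appLE V W hWV').hom
    rw [Scheme.Opens.ι_appLE]
    haveI : Nonempty (U.ι ''ᵁ W : X.Opens) :=
      ⟨⟨U.ι ⟨genericPoint X, hU⟩, ⟨genericPoint X, hU⟩, hxW, rfl⟩⟩
    exact map_injective_of_isIntegral X _
  have hE : (ψ.comp φ).Etale := by
    have h1 : ((U.ι ≫ f).appLE ⊤ W le_top).hom.Etale :=
      HasRingHomProperty.appLE (P := @Etale) _ ‹_›
        ⟨⊤, isAffineOpen_top (Spec (CommRingCat.of A))⟩ ⟨W, hW⟩ le_top
    have h2 : ψ.comp φ = (((U.ι ≫ f).appLE ⊤ W le_top).hom).comp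
        (Scheme.ΓSpecIso (CommRingCat.of A)).inv.hom := by
      show (U.ι.appLE V W hWV').hom.comp
        ((Scheme.ΓSpecIso (CommRingCat.of A)).inv ≫ f.appLE ⊤ V le_top).hom = _
      rw [← CommRingCat.hom_comp, ← CommRingCat.hom_comp, Category.assoc,
        Scheme.Hom.appLE_comp_appLE]
    rw [h2]
    exact RingHom.Etale.stableUnderComposition _ _
      (RingHom.Etale.of_bijective
        (ConcreteCategory.bijective_of_isIso (Scheme.ΓSpecIso (CommRingCat.of A)).inv)) h1
  letI := φ.toAlgebra
  letI := ψ.toAlgebra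
  letI := (ψ.comp φ).toAlgebra
  haveI : IsScalarTower A Γ(X, V) Γ(U, W) := IsScalarTower.of_algebraMap_eq (fun _ => rfl)
  haveI : Algebra.FiniteType A Γ(X, V) := hφ
  haveI : Algebra.Etale A Γ(U, W) := hE
  exact isN1_of_etale_of_injective A Γ(X, V) Γ(U, W) hψ

theorem main (A : Type u) [CommRing A] [IsLocalRing A] [IsNoetherianRing A]
    [IsReduced (AdicCompletion (IsLocalRing.maximalIdeal A) A)]
    (X : Scheme.{u}) [IsIntegral X] (f : X ⟶ Spec (CommRingCat.of A)) [LocallyOfFiniteType f]
    (U : X.Opens) (hU : genericPoint X ∈ U) [Etale (U.ι ≫ f)]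
    [QuasiCompact (X.fromSpecStalk (genericPoint X))]
    [QuasiSeparated (X.fromSpecStalk (genericPoint X))] :
    IsFinite (Curv2.normalizationι X) := by
  have hg := Groth.Agent.Lib.Helper4.NormCurve.fromSpecStalk_eq_gen (X := X)
  exact isFinite_fromNormalization_of_isN1 _ hg
    (fun V hV hne => isN1_sections A X f U hU V hV hne)

end Groth.Agent.Helper13NormFinAU
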