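import Mathlib

/-!
# Helper13NowhereDense: the largest submodule with nowhere dense support

`Kmin M` = kernel of `M → ∏ M_p` over the minimal primes `p` of `Supp M` (Noetherian `R`, finite `M`).
-/

set_option autoImplicit false
universe u

namespace Groth.Agent.Helper13NowhereDense

variable {R : Type u} [CommRing R] [IsNoetherianRing R] (M : Type u) [AddCommGroup M] [Module R M]
  [Module.Finite R M]

/-- The largest submodule vanishing at all minimal primes of the support. -/
def Kmin : Submodule R M where
  carrier := {m | ∀ p ∈ (Module.annihilator R M).minimalPrimes, ∃ s : R, s ∉ p ∧ s • m = 0}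
  add_mem' := by
    intro a b ha hb p hp
    obtain ⟨s, hs, hsa⟩ := ha p hp
    obtain ⟨t, ht, htb⟩ := hb p hp
    have := hp.1.1
    refine ⟨s * t, fun h => (this.mem_or_mem h).elim hs ht, ?_⟩
    rw [smul_add, mul_comm s t, mul_smul t s a, hsa, smul_zero, zero_add, mul_comm t s, mul_smul,
      htb, smul_zero]
  zero_mem' := by
    intro p hp
    have := hp.1.1
    exact ⟨1, fun h => this.ne_top ((Ideal.eq_top_iff_one _).mpr h), smul_zero _⟩
  smul_mem' := by
    intro c m hm p hp
    obtain ⟨s, hs, hsm⟩ := hm p hp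
    exact ⟨s, hs, by rw [smul_comm, hsm, smul_zero]⟩

variable {M}

theorem mem_Kmin (m : M) : m ∈ (Kmin M : Submodule R M) ↔
    ∀ p ∈ (Module.annihilator R M).minimalPrimes, ∃ s : R, s ∉ p ∧ s • m = 0 := Iff.rfl

/-- minimal primes are not in the support of a submodule contained in `Kmin`. -/
theorem notMem_support_of_le_Kmin (K' : Submodule R M) (h : K' ≤ Kmin M) (p : PrimeSpectrum R)
    (hp : p.asIdeal ∈ (Module.annihilator R M).minimalPrimes) : p ∉ Module.support R K' := by
  intro hmem
  rw [Module.mem_support_iff_exists_annihilator] at hmem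
  obtain ⟨k, hk⟩ := hmem
  obtain ⟨s, hs, hsk⟩ := h k.2 _ hp
  apply hs
  apply hk
  rw [Submodule.mem_annihilator_span_singleton]
  exact Subtype.ext hsk

theorem exists_minimal_le (q : PrimeSpectrum R) (hq : q ∈ Module.support R M) :
    ∃ p : PrimeSpectrum R, p.asIdeal ∈ (Module.annihilator R M).minimalPrimes ∧ p ≤ q ∧
      p ∈ Module.support R M := by
  rw [Module.mem_support_iff_of_finite] at hq
  obtain ⟨p, hp, hpq⟩ := Ideal.exists_minimalPrimes_le hq
  have := hp.1.1
  exact ⟨⟨p, this⟩, hp, hpq, Module.mem_support_iff_of_finite.mpr hp.1.2⟩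

theorem Kmin_mem :
    (Kmin M : Submodule R M) ∈ {K' : Submodule R M | ∀ U : Set (PrimeSpectrum R), IsOpen U →
      U ∩ Module.support R M ⊆ closure (Module.support R ↥K') → U ∩ Module.support R M = ∅} := by
  intro U hU hsub
  rw [Set.eq_empty_iff_forall_notMem]
  rintro q ⟨hqU, hqM⟩
  obtain ⟨p, hp, hpq, hpM⟩ := exists_minimal_le q hqM
  have hpU : p ∈ U := by
    have hspec : p ⤳ q := (PrimeSpectrum.le_iff_specializes p q).mp hpq
    exact hspec.mem_open hU hqU
  have hcl : closure (Module.support R ↥(Kmin M : Submodule R M)) =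
      Module.support R ↥(Kmin M : Submodule R M) := by
    rw [Module.support_eq_zeroLocus]
    exact (PrimeSpectrum.isClosed_zeroLocus _).closure_eq
  have := hsub ⟨hpU, hpM⟩
  rw [hcl] at this
  exact notMem_support_of_le_Kmin (Kmin M) le_rfl p hp this

theorem le_Kmin_of_mem (K' : Submodule R M)
    (hK' : ∀ U : Set (PrimeSpectrum R), IsOpen U →
      U ∩ Module.support R M ⊆ closure (Module.support R ↥K') → U ∩ Module.support R M = ∅) :
    K' ≤ Kmin M := by
  classical
  intro m hm p hp
  by_contra hcon
  push Not at hcon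
  -- Ann(m) ≤ p
  have hprime := hp.1.1
  let p' : PrimeSpectrum R := ⟨p, hprime⟩
  have hp'K : p' ∈ Module.support R ↥K' := by
    rw [Module.mem_support_iff_exists_annihilator]
    refine ⟨⟨m, hm⟩, fun s hs => ?_⟩
    rw [Submodule.mem_annihilator_span_singleton] at hs
    by_contra hsp
    exact hcon s hsp (congrArg Subtype.val hs)
  have hfin : ((Module.annihilator R M).minimalPrimes).Finite :=
    Ideal.finite_minimalPrimes_of_isNoetherianRing R _
  let Z : Set (PrimeSpectrum R) :=
    ⋃ p₂ ∈ ((Module.annihilator R M).minimalPrimes \ {p}), PrimeSpectrum.zeroLocus (p₂ : Set R)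
  have hZ : IsClosed Z :=
    (hfin.subset Set.sdiff_subset).isClosed_biUnion fun _ _ => PrimeSpectrum.isClosed_zeroLocus _
  have hp'M : p' ∈ Module.support R M := Module.mem_support_iff_of_finite.mpr hp.1.2
  have hp'Z : p' ∉ Z := by
    intro hmem
    simp only [Z, Set.mem_iUnion, PrimeSpectrum.mem_zeroLocus, SetLike.coe_subset_coe] at hmem
    obtain ⟨p₂, ⟨hp₂, hne⟩, hle⟩ := hmem
    apply hne
    exact le_antisymm hle (hp.2 hp₂.1 hle)
  have hsub : Zᶜ ∩ Module.support R M ⊆ closure (Module.support R ↥K') := by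
    rintro q ⟨hqZ, hqM⟩
    apply subset_closure
    obtain ⟨p₂, hp₂, hp₂q, -⟩ := exists_minimal_le q hqM
    have : p₂.asIdeal = p := by
      by_contra hne
      apply hqZ
      simp only [Z, Set.mem_iUnion, PrimeSpectrum.mem_zeroLocus, SetLike.coe_subset_coe]
      exact ⟨p₂.asIdeal, ⟨hp₂, hne⟩, hp₂q⟩
    have hle : p' ≤ q := by
      change p ≤ q.asIdeal
      rw [← this]
      exact hp₂q
    exact Module.mem_support_mono hle hp'K
  have := hK' Zᶜ hZ.isOpen_compl hsub
  rw [Set.eq_empty_iff_forall_notMem] at this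
  exact this p' ⟨hp'Z, hp'M⟩

variable {R : Type u} [CommRing R] [IsNoetherianRing R] {M : Type u} [AddCommGroup M] [Module R M]
  [Module.Finite R M]

theorem support_quot_Kmin :
    Module.support R (M ⧸ (Kmin M : Submodule R M)) = Module.support R M := by
  apply le_antisymm
  · exact Module.support_subset_of_surjective (Kmin M : Submodule R M).mkQ
      (Submodule.mkQ_surjective _)
  · intro q hq
    obtain ⟨p, hp, hpq, hpM⟩ := exists_minimal_le q hq
    refine Module.mem_support_mono hpq ?_
    rw [Module.mem_support_iff_exists_annihilator] at hpM ⊢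
    obtain ⟨m, hm⟩ := hpM
    refine ⟨(Kmin M : Submodule R M).mkQ m, fun r hr => ?_⟩
    rw [Submodule.mem_annihilator_span_singleton, ← map_smul, Submodule.mkQ_apply,
      Submodule.Quotient.mk_eq_zero] at hr
    obtain ⟨s, hs, hsr⟩ := hr _ hp
    have h1 : s * r ∈ (R ∙ m).annihilator := by
      rw [Submodule.mem_annihilator_span_singleton, mul_smul]
      exact hsr
    have h2 := hm h1
    have := hp.1.1
    exact (this.mem_or_mem h2).resolve_left hs

theorem assoc_quot_Kmin_subset :
    associatedPrimes R (M ⧸ (Kmin M : Submodule R M)) ⊆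
      (Module.annihilator R M).minimalPrimes := by
  intro q hq
  have hq' := (isAssociatedPrime_iff.mp hq)
  obtain ⟨hprime, x, hx⟩ := hq'
  obtain ⟨m, rfl⟩ := Submodule.mkQ_surjective _ x
  by_contra hnot
  -- then m ∈ Kmin
  have hannq : Module.annihilator R M ≤ q := by
    intro r hr
    rw [hx, Submodule.mem_colon_singleton, Submodule.mem_bot, ← map_smul,
      Module.mem_annihilator.mp hr m, map_zero]
  have hm : m ∈ (Kmin M : Submodule R M) := by
    intro p₁ hp₁
    have hnle : ¬ q ≤ p₁ := by
      intro hle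
      apply hnot
      have : q = p₁ := le_antisymm hle (hp₁.2 ⟨hprime, hannq⟩ hle)
      rw [this]
      exact hp₁
    obtain ⟨s, hsq, hsp⟩ := SetLike.not_le_iff_exists.mp hnle
    rw [hx, Submodule.mem_colon_singleton, Submodule.mem_bot, ← map_smul, Submodule.mkQ_apply,
      Submodule.Quotient.mk_eq_zero] at hsq
    obtain ⟨s', hs', hss⟩ := hsq _ hp₁
    have := hp₁.1.1
    exact ⟨s' * s, fun h => (this.mem_or_mem h).elim hs' hsp, by rw [mul_smul]; exact hss⟩
  have h1 : (1 : R) ∈ q := by
    rw [hx, Submodule.mem_colon_singleton, Submodule.mem_bot, one_smul, Submodule.mkQ_apply,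
      Submodule.Quotient.mk_eq_zero]
    exact hm
  exact hprime.ne_top ((Ideal.eq_top_iff_one _).mpr h1)

theorem exists_pow_smul_eq_zero_of_mem_Kmin (f : R)
    (hf : ∀ p ∈ associatedPrimes R M, ¬ Minimal (fun x => x ∈ associatedPrimes R M) p → f ∈ p)
    (k : M) (hk : k ∈ (Kmin M : Submodule R M)) : ∃ n : ℕ, f ^ n • k = 0 := by
  have hrad : f ∈ ((R ∙ k).annihilator).radical := by
    rw [← Ideal.sInf_minimalPrimes, Submodule.mem_sInf]
    intro q hq
    have h1 : q ∈ associatedPrimes R ↥(R ∙ k) :=
      Module.associatedPrimes.minimalPrimes_annihilator_subset_associatedPrimes R ↥(R ∙ k) hq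
    have h2 : q ∈ associatedPrimes R M :=
      associatedPrimes.subset_of_injective (f := (R ∙ k).subtype) (Submodule.subtype_injective _) h1
    apply hf q h2
    intro hmin
    -- q is a minimal prime of Ann M
    have hannq : Module.annihilator R M ≤ q := by
      have := IsAssociatedPrime.annihilator_le h2
      rwa [Submodule.annihilator_top] at this
    have hqprime : Ideal.IsPrime q := hq.1.1
    obtain ⟨p, hp, hpq⟩ := Ideal.exists_minimalPrimes_le hannq
    have hpass : p ∈ associatedPrimes R M :=
      Module.associatedPrimes.minimalPrimes_annihilator_subset_associatedPrimes R M hp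
    have hqp : q ≤ p := hmin.2 hpass hpq
    have hqeq : q = p := le_antisymm hqp hpq
    obtain ⟨s, hs, hsk⟩ := hk p hp
    apply hs
    rw [← hqeq]
    apply hq.1.2
    rw [Submodule.mem_annihilator_span_singleton]
    exact hsk
  obtain ⟨n, hn⟩ := hrad
  exact ⟨n, (Submodule.mem_annihilator_span_singleton _ _).mp hn⟩

theorem bijective_locMap (f : R)
    (hf : ∀ p ∈ associatedPrimes R M, ¬ Minimal (fun x => x ∈ associatedPrimes R M) p → f ∈ p) :
    Function.Bijective (LocalizedModule.map (Submonoid.powers f) (Kmin M : Submodule R M).mkQ) := by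
  constructor
  · rw [injective_iff_map_eq_zero]
    intro x hx
    induction x using LocalizedModule.induction_on with
    | h m s =>
      obtain ⟨_, b, rfl⟩ := s
      rw [LocalizedModule.map_mk] at hx
      rw [← LocalizedModule.zero_mk (⟨f ^ b, b, rfl⟩ : Submonoid.powers f),
        LocalizedModule.mk_eq] at hx
      obtain ⟨⟨_, a, rfl⟩, hu⟩ := hx
      simp only [Submonoid.smul_def, Submodule.mkQ_apply, smul_zero] at hu
      have hmk : f ^ a • f ^ b • m ∈ (Kmin M : Submodule R M) := by
        rw [← Submodule.Quotient.mk_eq_zero, Submodule.Quotient.mk_smul,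
          Submodule.Quotient.mk_smul]
        exact hu
      obtain ⟨n, hn⟩ := exists_pow_smul_eq_zero_of_mem_Kmin f hf _ hmk
      rw [← LocalizedModule.zero_mk (⟨f ^ b, b, rfl⟩ : Submonoid.powers f),
        LocalizedModule.mk_eq]
      refine ⟨⟨f ^ (n + a), n + a, rfl⟩, ?_⟩
      simp only [Submonoid.smul_def, smul_zero]
      rw [pow_add, mul_smul]
      exact hn
  · exact LocalizedModule.map_surjective _ _ (Submodule.mkQ_surjective _)

end Groth.Agent.Helper13NowhereDense
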