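/-
Helper13WEVal: weakly étale algebras over valuation rings and normal domains.

* `weaklyEtale_of_isLocalization`: localizations are weakly étale.
* `exists_retraction_of_section`: a weakly étale algebra over a local ring with a retraction is trivial
  at the point of the retraction.
* `valuationRing_of_weaklyEtale`: a local ring weakly étale over a valuation ring is a valuation ring.
* `dvd_of_scaleRoots_valuation`, `dvd_of_scaleRoots`: integral dependence on a principal ideal `(s)` implies
  divisibility by `s` in a weakly étale algebra over a valuation ring / integrally closed domain.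
* `isIntegrallyClosedIn_tensor`: `B` weakly étale over an integrally closed domain `A` is integrally closed in
  `B ⊗ Frac A`.
-/
import Mathlib
import Groth.Agent.S7127

set_option autoImplicit false
set_option linter.style.haveILetI false
set_option linter.unusedSectionVars false
open TensorProduct Polynomial

namespace Groth.Agent.Helper13WEVal

universe u

/-- A localization is weakly étale. -/
theorem weaklyEtale_of_isLocalization {R : Type u} [CommRing R] (M : Submonoid R) (S : Type u)
    [CommRing S] [Algebra R S] [IsLocalization M S] : Algebra.WeaklyEtale R S := by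
  haveI : Module.Flat R S := IsLocalization.flat S M
  refine ⟨inferInstance, ?_⟩
  -- `S ⊗[R] S` is the localization of `S` at the image of `M`, whose elements are units.
  haveI : IsLocalization (Algebra.algebraMapSubmonoid S M) (S ⊗[R] S) :=
    IsLocalization.tensor S M
  have hunits : ∀ x ∈ Algebra.algebraMapSubmonoid S M, IsUnit x := by
    rintro _ ⟨m, hm, rfl⟩
    exact IsLocalization.map_units S ⟨m, hm⟩
  have hbij : Function.Bijective (algebraMap S (S ⊗[R] S)) :=
    (IsLocalization.atUnits S (Algebra.algebraMapSubmonoid S M) hunits (S := S ⊗[R] S)).bijective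
  have hcomp : ∀ s : S, Algebra.TensorProduct.lmul' R (S := S) (algebraMap S (S ⊗[R] S) s) = s := by
    intro s
    simp [Algebra.TensorProduct.algebraMap_apply]
  have hb : Function.Bijective (Algebra.TensorProduct.lmul' R (S := S)) := by
    constructor
    · intro x y hxy
      obtain ⟨a, rfl⟩ := hbij.2 x
      obtain ⟨b, rfl⟩ := hbij.2 y
      rw [hcomp, hcomp] at hxy
      rw [hxy]
    · intro s
      exact ⟨algebraMap S (S ⊗[R] S) s, hcomp s⟩
  exact RingHom.Flat.of_bijective hb

/-- A weakly étale algebra `S` over a local ring `R` with a retraction `ρ : S → R` is trivial at the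
point `ρ⁻¹(𝔪)`. -/
theorem exists_retraction_of_section {R S : Type u} [CommRing R] [IsLocalRing R] [CommRing S]
    [Algebra R S] [Algebra.WeaklyEtale R S] (ρ : S →ₐ[R] R) (n : Ideal S) [n.IsPrime]
    (hn : n = (IsLocalRing.maximalIdeal R).comap ρ.toRingHom) :
    ∃ ρ' : Localization.AtPrime n →+* R, (∀ s, ρ' (algebraMap S (Localization.AtPrime n) s) = ρ s) ∧
      Function.Bijective ρ' ∧ (∀ r, ρ' (algebraMap R (Localization.AtPrime n) r) = r) ∧
      Function.Bijective (algebraMap R (Localization.AtPrime n)) := by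
  letI : Algebra S R := ρ.toRingHom.toAlgebra
  haveI : IsScalarTower R S R := IsScalarTower.of_algebraMap_eq' (by
    ext r
    simp [RingHom.algebraMap_toAlgebra])
  haveI : Algebra.WeaklyEtale S R := Groth.Agent.S7127.result R S R
  have hunit : ∀ y : n.primeCompl, IsUnit (ρ.toRingHom y) := by
    rintro ⟨y, hy⟩
    have : ρ y ∉ IsLocalRing.maximalIdeal R := by
      intro h
      apply hy
      rw [hn]
      exact h
    simpa using this
  let ρ' : Localization.AtPrime n →+* R := IsLocalization.lift (M := n.primeCompl) hunit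
  have hρ' : ∀ s : S, ρ' (algebraMap S (Localization.AtPrime n) s) = ρ s := fun s => by
    simp [ρ']
  letI : Algebra (Localization.AtPrime n) R := ρ'.toAlgebra
  haveI : IsScalarTower S (Localization.AtPrime n) R := IsScalarTower.of_algebraMap_eq' (by
    ext s
    simp [RingHom.algebraMap_toAlgebra, hρ'])
  haveI : Module.Flat (Localization.AtPrime n) R :=
    (Module.flat_iff_of_isLocalization (Localization.AtPrime n) n.primeCompl R).mpr inferInstance
  have hsurj : Function.Surjective ρ' := by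
    intro r
    exact ⟨algebraMap S _ (algebraMap R S r), by rw [hρ']; simp⟩
  haveI : IsLocalHom (algebraMap (Localization.AtPrime n) R) := by
    rw [RingHom.algebraMap_toAlgebra]
    exact IsLocalHom.of_surjective ρ' hsurj
  haveI : Module.FaithfullyFlat (Localization.AtPrime n) R :=
    Module.FaithfullyFlat.of_flat_of_isLocalHom
  have hinj : Function.Injective ρ' := FaithfulSMul.algebraMap_injective (Localization.AtPrime n) R
  have hcomp : ∀ r : R, ρ' (algebraMap R (Localization.AtPrime n) r) = r := by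
    intro r
    rw [IsScalarTower.algebraMap_apply R S (Localization.AtPrime n), hρ']
    simp
  refine ⟨ρ', hρ', ⟨hinj, hsurj⟩, hcomp, ?_, ?_⟩
  · intro a b hab
    have := congrArg ρ' hab
    rwa [hcomp, hcomp] at this
  · intro z
    refine ⟨ρ' z, hinj ?_⟩
    rw [hcomp]

section
attribute [local instance] Algebra.TensorProduct.rightAlgebra in
theorem flat_includeRight (V W B : Type u) [CommRing V] [CommRing W] [CommRing B] [Algebra V W]
    [Algebra V B] [Module.Flat V W] :
    (Algebra.TensorProduct.includeRight : B →ₐ[V] W ⊗[V] B).toRingHom.Flat := by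
  have h := RingHom.Flat.isStableUnderBaseChange V W B (W ⊗[V] B)
    (RingHom.flat_algebraMap_iff.mpr inferInstance)
  exact h
end

set_option maxHeartbeats 1000000 in
/-- A local ring that is weakly étale over a valuation ring is a valuation ring. -/
theorem valuationRing_of_weaklyEtale (V B : Type u) [CommRing V] [IsDomain V] [ValuationRing V]
    [CommRing B] [IsLocalRing B] [Algebra V B] [Algebra.WeaklyEtale V B] :
    IsDomain B ∧ ∀ a b : B, ∃ c : B, a * c = b ∨ b * c = a := by
  obtain ⟨q₀, hq₀, -⟩ := Ideal.exists_minimalPrimes_le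
    (bot_le : (⊥ : Ideal B) ≤ IsLocalRing.maximalIdeal B)
  haveI hq₀p : q₀.IsPrime := hq₀.1.1
  let C := B ⧸ q₀
  let L := FractionRing C
  let f : B →+* L := (algebraMap C L).comp (Ideal.Quotient.mk q₀)
  obtain ⟨W, hW, hloc⟩ := IsLocalRing.exists_factor_valuationRing f
  let fW : B →+* W := f.codRestrict W.toSubring hW
  have hfW : ∀ b, ((fW b : W) : L) = f b := fun b => rfl
  haveI : IsLocalHom fW := hloc
  letI : Algebra V W := (fW.comp (algebraMap V B)).toAlgebra
  let fWa : B →ₐ[V] W := { fW with commutes' := fun v => rfl }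
  -- `V → W` is injective
  have hVB : ∀ v : V, v ≠ 0 → algebraMap V B v ∉ q₀ := by
    intro v hv hmem
    have hreg : IsSMulRegular B v :=
      Module.Flat.isSMulRegular_of_nonZeroDivisors (mem_nonZeroDivisors_of_ne_zero hv)
    have hnzd : algebraMap V B v ∈ nonZeroDivisors B := by
      rw [mem_nonZeroDivisors_iff_right]
      intro x hx
      apply hreg
      show v • x = v • 0
      rw [smul_zero, Algebra.smul_def, mul_comm]
      exact hx
    exact (Set.disjoint_left.mp
      (Ideal.disjoint_nonZeroDivisors_of_mem_minimalPrimes hq₀)) hmem hnzd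
  have hVW : ∀ v : V, v ≠ 0 → algebraMap V W v ≠ 0 := by
    intro v hv h0
    have h1 : f (algebraMap V B v) = 0 := by
      have : ((algebraMap V W v : W) : L) = 0 := by rw [h0]; rfl
      exact this
    have h2 : (Ideal.Quotient.mk q₀) (algebraMap V B v) = 0 :=
      (IsFractionRing.injective C L) (by rw [map_zero]; exact h1)
    exact hVB v hv (Ideal.Quotient.eq_zero_iff_mem.mp h2)
  -- `W` is flat over `V`
  haveI : Module.Flat V W := by
    rw [Module.Flat.flat_iff_torsion_eq_bot_of_isBezout, Submodule.eq_bot_iff]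
    intro w hw
    obtain ⟨a, ha⟩ := (Submodule.mem_torsion_iff w).mp hw
    rw [Submonoid.smul_def, Algebra.smul_def] at ha
    rcases mul_eq_zero.mp ha with h | h
    · exact absurd h (hVW a (nonZeroDivisors.ne_zero a.2))
    · exact h
  -- the base change and its retraction
  let BW := W ⊗[V] B
  let ρ : BW →ₐ[W] W := Algebra.TensorProduct.lift (AlgHom.id W W) fWa
    (fun _ _ => Commute.all _ _)
  have hρ : ∀ b : B, ρ (1 ⊗ₜ b) = fW b := fun b => by
    show Algebra.TensorProduct.lift (AlgHom.id W W) fWa _ ((1 : W) ⊗ₜ[V] b) = fW b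
    rw [Algebra.TensorProduct.lift_tmul]
    simp only [map_one, one_mul]
    rfl
  let n₁ : Ideal BW := (IsLocalRing.maximalIdeal W).comap ρ.toRingHom
  haveI : n₁.IsPrime := Ideal.comap_isPrime _ _
  obtain ⟨ρ', hρ', hρ'bij, hρ'W, hbij⟩ := exists_retraction_of_section ρ n₁ rfl
  -- `g : B → (Localization.AtPrime n₁)` is flat and local
  let g : B →+* Localization.AtPrime n₁ := (algebraMap BW (Localization.AtPrime n₁)).comp
    (Algebra.TensorProduct.includeRight : B →ₐ[V] W ⊗[V] B).toRingHom
  have hgb : ∀ b : B, g b = algebraMap BW (Localization.AtPrime n₁) (1 ⊗ₜ b) := fun b => rfl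
  have hgflat : RingHom.Flat (R := B) (S := Localization.AtPrime n₁) g := by
    refine RingHom.Flat.comp (flat_includeRight V W B) ?_
    exact RingHom.flat_algebraMap_iff.mpr (IsLocalization.flat (Localization.AtPrime n₁) n₁.primeCompl)
  letI : Algebra B (Localization.AtPrime n₁) := g.toAlgebra
  haveI : Module.Flat B (Localization.AtPrime n₁) := hgflat
  haveI : IsLocalHom (algebraMap B (Localization.AtPrime n₁)) := by
    constructor
    intro b hb
    have hb' : IsUnit (algebraMap BW (Localization.AtPrime n₁) (1 ⊗ₜ b)) := hb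
    have h1 : (1 : W) ⊗ₜ[V] b ∉ n₁ := by
      intro hmem
      have := (IsLocalization.AtPrime.to_map_mem_maximal_iff (Localization.AtPrime n₁) n₁ _).mpr hmem
      exact (IsLocalRing.mem_maximalIdeal _).mp this hb'
    have h2 : ρ (1 ⊗ₜ b) ∉ IsLocalRing.maximalIdeal W := fun h => h1 h
    rw [hρ] at h2
    have h3 : IsUnit (fW b) := by simpa using h2
    exact IsUnit.of_map fW b h3
  haveI : Module.FaithfullyFlat B (Localization.AtPrime n₁) :=
    Module.FaithfullyFlat.of_flat_of_isLocalHom (A := B) (B := Localization.AtPrime n₁)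
  haveI : FaithfulSMul B (Localization.AtPrime n₁) :=
    Module.FaithfullyFlat.faithfulSMul (A := B) (B := Localization.AtPrime n₁)
  have hginj : Function.Injective g := FaithfulSMul.algebraMap_injective B (Localization.AtPrime n₁)
  have hcompat : ∀ b : B, ρ' (g b) = fW b := fun b => by rw [hgb, hρ', hρ]
  have hfWinj : Function.Injective fW := by
    intro a b hab
    apply hginj
    apply hρ'bij.1
    rw [hcompat, hcompat, hab]
  have hfinj : Function.Injective f := by
    intro a b hab
    apply hfWinj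
    apply Subtype.ext
    exact hab
  haveI : IsDomain B := hfinj.isDomain f
  refine ⟨inferInstance, ?_⟩
  have key : ∀ a b : B, (∃ w : W, fW a * w = fW b) → ∃ c : B, a * c = b := by
    rintro a b ⟨w, hw⟩
    have hmem : b ∈ Ideal.span {a} := by
      rw [← Ideal.comap_map_eq_self_of_faithfullyFlat (B := Localization.AtPrime n₁)
        (Ideal.span {a}), Ideal.mem_comap, Ideal.map_span, Set.image_singleton,
        Ideal.mem_span_singleton]
      refine ⟨algebraMap W _ w, ?_⟩
      apply hρ'bij.1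
      rw [map_mul, hρ'W]
      show ρ' (g b) = ρ' (g a) * w
      rw [hcompat, hcompat, hw]
    obtain ⟨c, hc⟩ := Ideal.mem_span_singleton.mp hmem
    exact ⟨c, hc.symm⟩
  intro a b
  obtain ⟨w, hw⟩ := ValuationRing.cond (fW a) (fW b)
  rcases hw with hw | hw
  · obtain ⟨c, hc⟩ := key a b ⟨w, hw⟩
    exact ⟨c, Or.inl hc⟩
  · obtain ⟨c, hc⟩ := key b a ⟨w, hw⟩
    exact ⟨c, Or.inr hc⟩

/-- Over a valuation ring: if `y` is "integral over the ideal generated by `s`" in a weakly étale
algebra then `y` is divisible by `s`. -/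
theorem dvd_of_scaleRoots_valuation (V B : Type u) [CommRing V] [IsDomain V] [ValuationRing V]
    [CommRing B] [Algebra V B] [Algebra.WeaklyEtale V B] (s : V) (hs : s ≠ 0) (y : B)
    (p : B[X]) (hp : p.Monic) (hpy : (p.scaleRoots (algebraMap V B s)).eval y = 0) :
    ∃ b : B, y = algebraMap V B s * b := by
  by_contra hcon
  set σ := algebraMap V B s with hσ
  let 𝔞 : Ideal B := Submodule.comap (LinearMap.mulRight B y) (Ideal.span {σ})
  have h𝔞 : 𝔞 ≠ ⊤ := by
    intro htop
    have h1 : (1 : B) ∈ 𝔞 := htop ▸ Submodule.mem_top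
    rw [Submodule.mem_comap, LinearMap.mulRight_apply, one_mul] at h1
    obtain ⟨b, hb⟩ := Ideal.mem_span_singleton'.mp h1
    exact hcon ⟨b, by rw [mul_comm]; exact hb.symm⟩
  obtain ⟨n, hn, hle⟩ := Ideal.exists_le_maximal 𝔞 h𝔞
  haveI : n.IsPrime := hn.isPrime
  let Bn := Localization.AtPrime n
  haveI : Algebra.WeaklyEtale B Bn := weaklyEtale_of_isLocalization n.primeCompl Bn
  haveI : Algebra.WeaklyEtale V Bn := Algebra.WeaklyEtale.trans V B Bn
  obtain ⟨hdom, hval⟩ := valuationRing_of_weaklyEtale V Bn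
  haveI := hdom
  haveI : PreValuationRing Bn := ⟨hval⟩
  haveI : ValuationRing Bn := {}
  let F := FractionRing Bn
  let y' : Bn := algebraMap B Bn y
  let σ' : Bn := algebraMap B Bn σ
  have hσ' : σ' ≠ 0 := by
    intro h0
    have hreg : IsSMulRegular Bn s :=
      Module.Flat.isSMulRegular_of_nonZeroDivisors (mem_nonZeroDivisors_of_ne_zero hs)
    have h1 : s • (1 : Bn) = s • (0 : Bn) := by
      rw [smul_zero, Algebra.smul_def, mul_one, IsScalarTower.algebraMap_apply V B Bn]
      exact h0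
    exact one_ne_zero (hreg h1)
  let p' : Bn[X] := p.map (algebraMap B Bn)
  have hp' : p'.Monic := hp.map _
  have hev : (p'.scaleRoots σ').eval y' = 0 := by
    have h1 : (p.scaleRoots σ).map (algebraMap B Bn) = p'.scaleRoots σ' :=
      map_scaleRoots p σ (algebraMap B Bn) (by rw [hp.leadingCoeff, map_one]; exact one_ne_zero)
    rw [← h1, eval_map, eval₂_at_apply, hpy, map_zero]
  let z : F := algebraMap Bn F y' / algebraMap Bn F σ'
  have hσF : algebraMap Bn F σ' ≠ 0 := by
    rw [Ne, map_eq_zero_iff _ (IsFractionRing.injective Bn F)]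
    exact hσ'
  have hz : eval₂ (algebraMap Bn F) z p' = 0 := by
    have h1 := scaleRoots_eval₂_mul (p := p') (algebraMap Bn F) z σ'
    have h2 : algebraMap Bn F σ' * z = algebraMap Bn F y' := by
      show algebraMap Bn F σ' * (algebraMap Bn F y' / algebraMap Bn F σ') = algebraMap Bn F y'
      rw [mul_div_assoc', mul_comm, mul_div_assoc, div_self hσF, mul_one]
    rw [h2, eval₂_at_apply, hev, map_zero] at h1
    rcases mul_eq_zero.mp h1.symm with h | h
    · exact absurd h (pow_ne_zero _ hσF)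
    · exact h
  have hzint : IsIntegral Bn z := ⟨p', hp', hz⟩
  obtain ⟨c, hc⟩ := IsIntegrallyClosed.isIntegral_iff.mp hzint
  -- y' = σ' * c
  have hyc : y' = σ' * c := by
    apply IsFractionRing.injective Bn F
    rw [map_mul, hc]
    show algebraMap Bn F y' = algebraMap Bn F σ' * (algebraMap Bn F y' / algebraMap Bn F σ')
    rw [mul_div_assoc', mul_comm, mul_div_assoc, div_self hσF, mul_one]
  -- clear denominators
  obtain ⟨⟨c₀, t⟩, hct⟩ := IsLocalization.surj n.primeCompl c
  -- hct : c * algebraMap t = algebraMap c₀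
  have h3 : algebraMap B Bn (t * y) = algebraMap B Bn (σ * c₀) := by
    rw [map_mul, map_mul, ← hct]
    show algebraMap B Bn t * y' = σ' * (c * _)
    rw [hyc]; ring
  obtain ⟨u, hu⟩ := (IsLocalization.eq_iff_exists n.primeCompl Bn).mp h3
  have hmem : (u : B) * t ∈ 𝔞 := by
    rw [Submodule.mem_comap, LinearMap.mulRight_apply, Ideal.mem_span_singleton']
    refine ⟨u * c₀, ?_⟩
    rw [mul_assoc (u : B) (t : B) y, hu]; ring
  have : (u : B) * t ∈ n := hle hmem
  rcases hn.isPrime.mem_or_mem this with h | h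
  · exact u.2 h
  · exact t.2 h

section T
variable (A : Type u) [CommRing A] (K : Type u) [AddCommGroup K] [Module A K]
  (B : Type u) [AddCommGroup B] [Module A B]

/-- The image of `B ⊗ N` in `B ⊗ K`. -/
noncomputable def T (N : Submodule A K) : Submodule A (B ⊗[A] K) :=
  LinearMap.range (N.subtype.lTensor B)

variable {A K B}

theorem T_mono {N N' : Submodule A K} (h : N ≤ N') : T A K B N ≤ T A K B N' := by
  rintro _ ⟨β, rfl⟩
  refine ⟨(Submodule.inclusion h).lTensor B β, ?_⟩
  rw [← LinearMap.comp_apply, ← LinearMap.lTensor_comp]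
  rfl

theorem tmul_mem_T {N : Submodule A K} (b : B) {u : K} (hu : u ∈ N) : b ⊗ₜ[A] u ∈ T A K B N :=
  ⟨b ⊗ₜ ⟨u, hu⟩, by simp⟩

theorem T_eq_ker (N : Submodule A K) : T A K B N = LinearMap.ker (N.mkQ.lTensor B) := by
  have h : Function.Exact (N.subtype.lTensor B) (N.mkQ.lTensor B) :=
    lTensor_exact B (LinearMap.exact_subtype_mkQ N) (Submodule.mkQ_surjective N)
  exact (LinearMap.exact_iff.mp h).symm

theorem T_inf [Module.Flat A B] (N₁ N₂ : Submodule A K) :
    T A K B N₁ ⊓ T A K B N₂ ≤ T A K B (N₁ ⊓ N₂) := by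
  rintro x ⟨⟨β₁, rfl⟩, h₂⟩
  rw [SetLike.mem_coe, T_eq_ker, LinearMap.mem_ker] at h₂
  let f : ↥(N₁ ⊓ N₂) →ₗ[A] N₁ := Submodule.inclusion inf_le_left
  let g : N₁ →ₗ[A] K ⧸ N₂ := N₂.mkQ ∘ₗ N₁.subtype
  have hex : Function.Exact f g := by
    intro a
    constructor
    · intro ha
      have ha' : (a : K) ∈ N₂ := by
        simpa [g] using ha
      exact ⟨⟨a, ⟨a.2, ha'⟩⟩, rfl⟩
    · rintro ⟨c, rfl⟩
      simp only [g, f, LinearMap.comp_apply, Submodule.subtype_apply, Submodule.mkQ_apply,
        Submodule.Quotient.mk_eq_zero]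
      exact c.2.2
  have hex' := Module.Flat.lTensor_exact B hex
  have h0 : g.lTensor B β₁ = 0 := by
    rw [show g.lTensor B = (N₂.mkQ.lTensor B) ∘ₗ (N₁.subtype.lTensor B) from
      LinearMap.lTensor_comp _ _ _]
    exact h₂
  obtain ⟨γ, rfl⟩ := (hex' β₁).mp h0
  refine ⟨γ, ?_⟩
  rw [← LinearMap.comp_apply, ← LinearMap.lTensor_comp]
  rfl

end T

section Z
variable {A : Type u} [CommRing A] {K : Type u} [Field K] [Algebra A K]

theorem mem_sSup_of_chain (c : Set (Subalgebra A K)) (hc : IsChain (· ≤ ·) c)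
    (hne : c.Nonempty) {x : K} : x ∈ (sSup c : Subalgebra A K) ↔ ∃ M ∈ c, x ∈ M := by
  haveI : Nonempty c := hne.to_subtype
  rw [sSup_eq_iSup', ← SetLike.mem_coe, Subalgebra.coe_iSup_of_directed hc.directedOn.directed_val,
    Set.mem_iUnion]
  constructor
  · rintro ⟨⟨M, hM⟩, hx⟩
    exact ⟨M, hM, hx⟩
  · rintro ⟨M, hM, hx⟩
    exact ⟨⟨M, hM⟩, hx⟩

theorem exists_mem_chain_forall_mem (c : Set (Subalgebra A K)) (hc : IsChain (· ≤ ·) c)
    (hne : c.Nonempty) (F : Finset K) (hF : ∀ a ∈ F, a ∈ (sSup c : Subalgebra A K)) :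
    ∃ M ∈ c, ∀ a ∈ F, a ∈ M := by
  classical
  induction F using Finset.induction_on with
  | empty =>
    obtain ⟨M, hM⟩ := hne
    exact ⟨M, hM, fun a ha => absurd ha (Finset.notMem_empty a)⟩
  | insert a F _ ih =>
    obtain ⟨M₁, hM₁, h₁⟩ := ih (fun b hb => hF b (Finset.mem_insert_of_mem hb))
    obtain ⟨M₂, hM₂, h₂⟩ := (mem_sSup_of_chain c hc hne).mp
      (hF a (Finset.mem_insert_self a F))
    rcases hc.total hM₁ hM₂ with h | h
    · refine ⟨M₂, hM₂, fun b hb => ?_⟩
      rcases Finset.mem_insert.mp hb with rfl | hb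
      · exact h₂
      · exact h (h₁ b hb)
    · refine ⟨M₁, hM₁, fun b hb => ?_⟩
      rcases Finset.mem_insert.mp hb with rfl | hb
      · exact h h₂
      · exact h₁ b hb

theorem isIntegrallyClosedIn_sSup_chain (c : Set (Subalgebra A K)) (hc : IsChain (· ≤ ·) c)
    (hne : c.Nonempty) (h : ∀ M ∈ c, IsIntegrallyClosedIn M K) :
    IsIntegrallyClosedIn (sSup c : Subalgebra A K) K := by
  classical
  rw [isIntegrallyClosedIn_iff]
  refine ⟨Subtype.val_injective, ?_⟩
  rintro x ⟨p, hp, hpx⟩
  suffices hx : x ∈ (sSup c : Subalgebra A K) from ⟨⟨x, hx⟩, rfl⟩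
  obtain ⟨M, hM, hcoef⟩ := exists_mem_chain_forall_mem c hc hne
    (p.support.image fun i => ((p.coeff i : (sSup c : Subalgebra A K)) : K)) (by
      intro a ha
      obtain ⟨i, -, rfl⟩ := Finset.mem_image.mp ha
      exact (p.coeff i).2)
  have hMU : M ≤ sSup c := le_sSup hM
  let f : M →+* (sSup c : Subalgebra A K) := (Subalgebra.inclusion hMU).toRingHom
  have hlift : p ∈ Polynomial.lifts f := by
    rw [Polynomial.lifts_iff_coeff_lifts]
    intro i
    by_cases hi : i ∈ p.support
    · exact ⟨⟨_, hcoef _ (Finset.mem_image_of_mem _ hi)⟩, Subtype.ext rfl⟩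
    · rw [Polynomial.notMem_support_iff.mp hi]
      exact ⟨0, map_zero _⟩
  obtain ⟨q, hq, -, hqm⟩ := Polynomial.lifts_and_natDegree_eq_and_monic hlift hp
  have hint : IsIntegral M x := by
    refine ⟨q, hqm, ?_⟩
    rw [← hq, Polynomial.eval₂_map] at hpx
    exact hpx
  haveI := h M hM
  obtain ⟨y, hy⟩ := (isIntegrallyClosedIn_iff.mp (h M hM)).2 hint
  have hxM : x ∈ M := by rw [← hy]; exact y.2
  exact hMU hxM

variable {B : Type u} [AddCommGroup B] [Module A B]

theorem exists_mem_T_of_mem_T_sSup (c : Set (Subalgebra A K)) (hc : IsChain (· ≤ ·) c)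
    (hne : c.Nonempty) (x : B ⊗[A] K)
    (hx : x ∈ T A K B (Subalgebra.toSubmodule (sSup c : Subalgebra A K))) :
    ∃ M ∈ c, x ∈ T A K B (Subalgebra.toSubmodule M) := by
  obtain ⟨β, rfl⟩ := hx
  induction β with
  | zero =>
    obtain ⟨M, hM⟩ := hne
    exact ⟨M, hM, by simp⟩
  | tmul b u =>
    obtain ⟨M, hM, huM⟩ := (mem_sSup_of_chain c hc hne).mp u.2
    exact ⟨M, hM, tmul_mem_T b huM⟩
  | add β₁ β₂ h₁ h₂ =>
    obtain ⟨M₁, hM₁, h₁⟩ := h₁
    obtain ⟨M₂, hM₂, h₂⟩ := h₂
    rw [map_add]
    rcases hc.total hM₁ hM₂ with h | h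
    · exact ⟨M₂, hM₂, add_mem (T_mono (B := B) (show Subalgebra.toSubmodule M₁ ≤
        Subalgebra.toSubmodule M₂ from h) h₁) h₂⟩
    · exact ⟨M₁, hM₁, add_mem h₁ (T_mono (B := B) (show Subalgebra.toSubmodule M₂ ≤
        Subalgebra.toSubmodule M₁ from h) h₂)⟩

/-- The integral closure (in `K`) of `m[t]`, as an `A`-subalgebra. -/
noncomputable def icAdjoin (m : Subalgebra A K) (t : K) : Subalgebra A K :=
  (integralClosure (Algebra.adjoin A ((m : Set K) ∪ {t})) K).restrictScalars A

theorem le_icAdjoin (m : Subalgebra A K) (t : K) : m ≤ icAdjoin m t := by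
  intro z hz
  have hz' : z ∈ Algebra.adjoin A ((m : Set K) ∪ {t}) := Algebra.subset_adjoin (Or.inl hz)
  exact (integralClosure (Algebra.adjoin A ((m : Set K) ∪ {t})) K).algebraMap_mem ⟨z, hz'⟩

theorem mem_icAdjoin (m : Subalgebra A K) (t : K) : t ∈ icAdjoin m t := by
  have hz' : t ∈ Algebra.adjoin A ((m : Set K) ∪ {t}) := Algebra.subset_adjoin (Or.inr rfl)
  exact (integralClosure (Algebra.adjoin A ((m : Set K) ∪ {t})) K).algebraMap_mem ⟨t, hz'⟩

instance isIntegrallyClosedIn_icAdjoin (m : Subalgebra A K) (t : K) :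
    IsIntegrallyClosedIn (icAdjoin m t) K :=
  inferInstanceAs (IsIntegrallyClosedIn (integralClosure (Algebra.adjoin A ((m : Set K) ∪ {t})) K) K)

theorem icAdjoin_le_valuationSubring (m : Subalgebra A K) (t : K) (V : ValuationSubring K)
    (hmV : m.toSubring ≤ V.toSubring) (ht : t ∈ V) {z : K} (hz : z ∈ icAdjoin m t) : z ∈ V := by
  haveI : IsIntegrallyClosedIn V.toSubring K := inferInstanceAs (IsIntegrallyClosedIn V K)
  have h1 : (integralClosure (Algebra.adjoin A ((m : Set K) ∪ {t})) K).toSubring ≤ V.toSubring := by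
    rw [Subring.integralClosure_le_iff]
    rintro ⟨w, hw'⟩
    show w ∈ V.toSubring
    induction hw' using Algebra.adjoin_induction with
    | mem x hx =>
      rcases hx with hx | hx
      · exact hmV hx
      · rw [Set.mem_singleton_iff.mp hx]; exact ht
    | algebraMap r => exact hmV (m.algebraMap_mem r)
    | add x y _ _ hx hy => exact V.toSubring.add_mem hx hy
    | mul x y _ _ hx hy => exact V.toSubring.mul_mem hx hy
  exact h1 hz

theorem icAdjoin_inf_le (m : Subalgebra A K) [IsIntegrallyClosedIn m K] (t : K) :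
    icAdjoin m t ⊓ icAdjoin m t⁻¹ ≤ m := by
  rintro z ⟨hz₁, hz₂⟩
  by_contra hzm
  haveI : IsIntegrallyClosedIn m.toSubring K := inferInstanceAs (IsIntegrallyClosedIn m K)
  obtain ⟨V, hmV, hzV⟩ := Subring.exists_le_valuationSubring_of_isIntegrallyClosedIn
    (R := m.toSubring) (x := z) hzm
  rcases V.mem_or_inv_mem t with ht | ht
  · exact hzV (icAdjoin_le_valuationSubring m t V hmV ht hz₁)
  · exact hzV (icAdjoin_le_valuationSubring m t⁻¹ V hmV ht hz₂)

end Z

section Main
variable {A : Type u} [CommRing A] {K : Type u} [Field K] [Algebra A K]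

/-- A subalgebra of a field containing `t` or `t⁻¹` for every `t` is a valuation ring. -/
theorem preValuationRing_of_mem_or_inv_mem (m : Subalgebra A K)
    (h : ∀ t : K, t ≠ 0 → t ∈ m ∨ t⁻¹ ∈ m) : PreValuationRing m := by
  constructor
  intro a b
  by_cases ha : (a : K) = 0
  · refine ⟨0, Or.inr ?_⟩
    apply Subtype.ext
    simp [ha]
  by_cases hb : (b : K) = 0
  · refine ⟨0, Or.inl ?_⟩
    apply Subtype.ext
    simp [hb]
  rcases h ((b : K) / a) (div_ne_zero hb ha) with ht | ht
  · refine ⟨⟨_, ht⟩, Or.inl ?_⟩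
    apply Subtype.ext
    show (a : K) * ((b : K) / a) = b
    field_simp
  · refine ⟨⟨_, ht⟩, Or.inr ?_⟩
    apply Subtype.ext
    show (b : K) * ((b : K) / a)⁻¹ = a
    field_simp

end Main

section Main2
variable {A : Type u} [CommRing A] [IsDomain A] [IsIntegrallyClosed A] {K : Type u} [Field K]
  [Algebra A K] [IsFractionRing A K] {B : Type u} [CommRing B] [Algebra A B]
  [Algebra.WeaklyEtale A B]

/-- The valuation ring case transported into `B ⊗ K`. -/
theorem mem_T_of_valuation (m : Subalgebra A K) (hm : ∀ t : K, t ≠ 0 → t ∈ m ∨ t⁻¹ ∈ m)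
    (s : A) (hs : s ≠ 0) (y : B) (p : B[X]) (hp : p.Monic)
    (hpy : (p.scaleRoots (algebraMap A B s)).eval y = 0) :
    ∃ z ∈ T A K B (Subalgebra.toSubmodule m), s • z = y ⊗ₜ[A] (1 : K) := by
  haveI : PreValuationRing m := preValuationRing_of_mem_or_inv_mem m hm
  haveI : ValuationRing m := {}
  have hsm : algebraMap A m s ≠ 0 := by
    intro h0
    have : algebraMap A K s = 0 := by
      rw [IsScalarTower.algebraMap_apply A m K, h0, map_zero]
    exact hs ((map_eq_zero_iff _ (IsFractionRing.injective A K)).mp this)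
  -- the equation in `m ⊗ B`
  have hβ : ∃ β : m ⊗[A] B, (1 : m) ⊗ₜ[A] y = algebraMap m (m ⊗[A] B) (algebraMap A m s) * β := by
    rcases subsingleton_or_nontrivial (m ⊗[A] B) with hsub | hnt
    · exact ⟨0, Subsingleton.elim _ _⟩
    · let φ : B →+* m ⊗[A] B := (Algebra.TensorProduct.includeRight : B →ₐ[A] m ⊗[A] B).toRingHom
      have hφσ : φ (algebraMap A B s) = algebraMap m (m ⊗[A] B) (algebraMap A m s) := by
        show (1 : m) ⊗ₜ[A] (algebraMap A B s) = _
        rw [Algebra.TensorProduct.algebraMap_apply, Algebra.algebraMap_self, RingHom.id_apply,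
          Algebra.algebraMap_eq_smul_one (R := A) (A := B), ← TensorProduct.smul_tmul,
          ← Algebra.algebraMap_eq_smul_one]
      have hev : ((p.map φ).scaleRoots (algebraMap m (m ⊗[A] B) (algebraMap A m s))).eval
          ((1 : m) ⊗ₜ[A] y) = 0 := by
        have h1 : (p.scaleRoots (algebraMap A B s)).map φ =
            (p.map φ).scaleRoots (φ (algebraMap A B s)) :=
          map_scaleRoots p _ φ (by rw [hp.leadingCoeff, map_one]; exact one_ne_zero)
        rw [← hφσ, ← h1, eval_map]
        have : ((1 : m) ⊗ₜ[A] y) = φ y := rfl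
        rw [this, eval₂_at_apply, hpy, map_zero]
      exact dvd_of_scaleRoots_valuation m (m ⊗[A] B) (algebraMap A m s) hsm _ (p.map φ)
        (hp.map φ) hev
  obtain ⟨β, hβ⟩ := hβ
  let θ : m ⊗[A] B →ₗ[A] B ⊗[A] K :=
    ((Subalgebra.toSubmodule m).subtype.lTensor B) ∘ₗ (TensorProduct.comm A m B).toLinearMap
  refine ⟨θ β, ⟨_, rfl⟩, ?_⟩
  have h1 : algebraMap m (m ⊗[A] B) (algebraMap A m s) * β = s • β := by
    rw [← Algebra.smul_def, algebraMap_smul]
  rw [h1] at hβ
  have h2 := congrArg θ hβ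
  rw [map_smul] at h2
  rw [← h2]
  simp [θ]

end Main2

section Main3
variable {A : Type u} [CommRing A] [IsDomain A] [IsIntegrallyClosed A] (K : Type u) [Field K]
  [Algebra A K] [IsFractionRing A K] {B : Type u} [CommRing B] [Algebra A B]
  [Algebra.WeaklyEtale A B]

include K in
theorem isIntegrallyClosedIn_bot : IsIntegrallyClosedIn (⊥ : Subalgebra A K) K := by
  rw [isIntegrallyClosedIn_iff]
  refine ⟨Subtype.val_injective, ?_⟩
  intro x hx
  haveI : Algebra.IsIntegral A (⊥ : Subalgebra A K) := by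
    constructor
    rintro ⟨z, hz⟩
    obtain ⟨a, rfl⟩ := Algebra.mem_bot.mp hz
    have : (⟨algebraMap A K a, hz⟩ : (⊥ : Subalgebra A K)) = algebraMap A _ a := Subtype.ext rfl
    rw [this]
    exact isIntegral_algebraMap
  have hxA : IsIntegral A x := isIntegral_trans (A := (⊥ : Subalgebra A K)) x hx
  obtain ⟨a, ha⟩ := IsIntegrallyClosed.algebraMap_eq_of_integral hxA
  exact ⟨⟨x, Algebra.mem_bot.mpr ⟨a, ha⟩⟩, rfl⟩

set_option maxHeartbeats 1000000 in
include K in
/-- Main divisibility statement: if `y ∈ B` is integral over the ideal generated by `s ≠ 0` (in the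
sense of the scaled monic equation), then `s ∣ y`. -/
theorem dvd_of_scaleRoots (s : A) (hs : s ≠ 0) (y : B) (p : B[X]) (hp : p.Monic)
    (hpy : (p.scaleRoots (algebraMap A B s)).eval y = 0) : ∃ b : B, y = algebraMap A B s * b := by
  classical
  set sK : K := algebraMap A K s with hsKdef
  have hsK : sK ≠ 0 := by
    rw [hsKdef, Ne, map_eq_zero_iff _ (IsFractionRing.injective A K)]
    exact hs
  have hsinj : ∀ z : B ⊗[A] K, s • z = 0 → z = 0 := by
    intro z hz
    have h1 : s • z = ((1 : B) ⊗ₜ[A] sK) * z := by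
      rw [Algebra.smul_def, Algebra.TensorProduct.algebraMap_apply,
        Algebra.algebraMap_eq_smul_one (R := A) (A := B), TensorProduct.smul_tmul,
        ← Algebra.algebraMap_eq_smul_one]
    have h2 : ((1 : B) ⊗ₜ[A] sK⁻¹) * (((1 : B) ⊗ₜ[A] sK) * z) = z := by
      rw [← mul_assoc, Algebra.TensorProduct.tmul_mul_tmul, one_mul, inv_mul_cancel₀ hsK,
        ← Algebra.TensorProduct.one_def, one_mul]
    rw [← h2, ← h1, hz, mul_zero]
  have hι : Function.Injective (fun b : B => b ⊗ₜ[A] (1 : K)) :=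
    Algebra.TensorProduct.includeLeft_injective (S := A) (IsFractionRing.injective A K)
  let x₀ : B ⊗[A] K := y ⊗ₜ sK⁻¹
  have hx₀ : s • x₀ = y ⊗ₜ[A] (1 : K) := by
    show s • (y ⊗ₜ[A] sK⁻¹) = _
    rw [TensorProduct.smul_tmul', TensorProduct.smul_tmul, Algebra.smul_def, ← hsKdef,
      mul_inv_cancel₀ hsK]
  by_contra hcon
  have hbot : x₀ ∉ T A K B (Subalgebra.toSubmodule (⊥ : Subalgebra A K)) := by
    rintro ⟨β, hβ⟩
    have hall : ∀ β : B ⊗[A] ↥(Subalgebra.toSubmodule (⊥ : Subalgebra A K)),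
        ∃ b : B, ((Subalgebra.toSubmodule (⊥ : Subalgebra A K)).subtype.lTensor B) β =
          b ⊗ₜ[A] (1 : K) := by
      intro β
      induction β with
      | zero => exact ⟨0, by simp⟩
      | tmul b u =>
        obtain ⟨a, ha⟩ := Algebra.mem_bot.mp u.2
        refine ⟨a • b, ?_⟩
        simp only [LinearMap.lTensor_tmul, Submodule.subtype_apply]
        rw [← ha, Algebra.algebraMap_eq_smul_one, TensorProduct.smul_tmul]
      | add β₁ β₂ h₁ h₂ =>
        obtain ⟨b₁, h₁⟩ := h₁
        obtain ⟨b₂, h₂⟩ := h₂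
        exact ⟨b₁ + b₂, by rw [map_add, h₁, h₂, TensorProduct.add_tmul]⟩
    obtain ⟨b, hb⟩ := hall β
    rw [hβ] at hb
    apply hcon
    refine ⟨b, hι ?_⟩
    show y ⊗ₜ[A] (1 : K) = (algebraMap A B s * b) ⊗ₜ[A] (1 : K)
    rw [← hx₀, hb, TensorProduct.smul_tmul', Algebra.smul_def]
  let S : Set (Subalgebra A K) :=
    {M | IsIntegrallyClosedIn M K ∧ x₀ ∉ T A K B (Subalgebra.toSubmodule M)}
  have hbotS : (⊥ : Subalgebra A K) ∈ S := ⟨isIntegrallyClosedIn_bot K, hbot⟩
  obtain ⟨m, -, hmS, hmmax⟩ := zorn_le_nonempty₀ S (by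
    intro c hcS hc M₀ hM₀
    refine ⟨sSup c, ⟨isIntegrallyClosedIn_sSup_chain c hc ⟨M₀, hM₀⟩ (fun M hM => (hcS hM).1), ?_⟩,
      fun z hz => le_sSup hz⟩
    intro hx
    obtain ⟨M, hM, hxM⟩ := exists_mem_T_of_mem_T_sSup c hc ⟨M₀, hM₀⟩ x₀ hx
    exact (hcS hM).2 hxM) ⊥ hbotS
  haveI := hmS.1
  have hval : ∀ t : K, t ≠ 0 → t ∈ m ∨ t⁻¹ ∈ m := by
    intro t _
    by_contra hnot
    rw [not_or] at hnot
    obtain ⟨ht1, ht2⟩ := hnot
    have h1 : x₀ ∈ T A K B (Subalgebra.toSubmodule (icAdjoin m t)) := by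
      by_contra h
      have hS : icAdjoin m t ∈ S := ⟨inferInstance, h⟩
      exact ht1 (hmmax hS (le_icAdjoin m t) (mem_icAdjoin m t))
    have h2 : x₀ ∈ T A K B (Subalgebra.toSubmodule (icAdjoin m t⁻¹)) := by
      by_contra h
      have hS : icAdjoin m t⁻¹ ∈ S := ⟨inferInstance, h⟩
      exact ht2 (hmmax hS (le_icAdjoin m t⁻¹) (mem_icAdjoin m t⁻¹))
    have h3 : x₀ ∈ T A K B (Subalgebra.toSubmodule m) := by
      have h4 := T_inf (B := B) _ _ ⟨h1, h2⟩
      refine T_mono (B := B) ?_ h4
      intro z hz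
      exact icAdjoin_inf_le m t ⟨hz.1, hz.2⟩
    exact hmS.2 h3
  obtain ⟨z, hzT, hz⟩ := mem_T_of_valuation m hval s hs y p hp hpy
  have hzx : z = x₀ := by
    have h0 : s • (z - x₀) = 0 := by rw [smul_sub, hz, hx₀, sub_self]
    exact sub_eq_zero.mp (hsinj _ h0)
  exact hmS.2 (hzx ▸ hzT)

end Main3

theorem isIntegrallyClosedIn_tensor (A : Type u) [CommRing A] [IsDomain A] [IsIntegrallyClosed A]
    (K : Type u) [Field K] [Algebra A K] [IsFractionRing A K] (B : Type u) [CommRing B] [Algebra A B]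
    [Algebra.WeaklyEtale A B] :
    IsIntegrallyClosedIn B (B ⊗[A] K) := by
  have hι : Function.Injective (algebraMap B (B ⊗[A] K)) :=
    Algebra.TensorProduct.includeLeft_injective (S := B) (IsFractionRing.injective A K)
  rw [isIntegrallyClosedIn_iff]
  refine ⟨hι, ?_⟩
  intro x hx
  haveI : IsLocalization (Algebra.algebraMapSubmonoid B (nonZeroDivisors A)) (B ⊗[A] K) :=
    IsLocalization.tensor K (nonZeroDivisors A)
  obtain ⟨⟨y, m⟩, hym⟩ := IsLocalization.surj (Algebra.algebraMapSubmonoid B (nonZeroDivisors A)) x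
  obtain ⟨s, hs, hsm⟩ := m.2
  obtain ⟨p, hp, hpx⟩ := hx
  have hym' : algebraMap B (B ⊗[A] K) (algebraMap A B s) * x = algebraMap B (B ⊗[A] K) y := by
    rw [mul_comm, hsm]
    exact hym
  have h1 : aeval (algebraMap B (B ⊗[A] K) (algebraMap A B s) * x)
      (scaleRoots p (algebraMap A B s)) = 0 := scaleRoots_aeval_eq_zero hpx
  rw [hym', aeval_algebraMap_apply] at h1
  have h2 : (p.scaleRoots (algebraMap A B s)).eval y = 0 := by
    apply hι
    rw [map_zero, ← h1]
    simp
  obtain ⟨b, hb⟩ := dvd_of_scaleRoots K s (nonZeroDivisors.ne_zero hs) y p hp h2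
  refine ⟨b, ?_⟩
  have hunit : IsUnit (algebraMap B (B ⊗[A] K) (algebraMap A B s)) := by
    have := IsLocalization.map_units (B ⊗[A] K) m
    rwa [← hsm] at this
  apply hunit.mul_left_cancel
  rw [hym', hb, map_mul]

end Groth.Agent.Helper13WEVal
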