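import Groth.Agent.Lib.Helper14WEField
import Groth.Prelude.Def_PBC

/-!
# An algebra is the filtered colimit of its finitely generated subalgebras (helper14)

`fgDiagram K B`, `fgCocone K B`, `fgIsColimit K B`: the diagram of finitely generated `K`-subalgebras of
`B` in `Under (CommRingCat.of K)` and its colimit cocone with point `B`.
`isIndEtale_of_fg_etale`: if all f.g. subalgebras are étale then `B` is `EtPBC.IsIndEtale`.
-/

set_option autoImplicit false
universe u
open TensorProduct Polynomial CategoryTheory CategoryTheory.Limits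

namespace Groth.Agent.Lib.Helper14.WEField

section Ind

variable (K B : Type u) [CommRing K] [CommRing B] [Algebra K B]

/-- Index category: finitely generated subalgebras. -/
abbrev FGSub := {S : Subalgebra K B // S.FG}

instance : Nonempty (FGSub K B) := ⟨⟨⊥, Subalgebra.fg_bot⟩⟩

instance : IsDirected (FGSub K B) (· ≤ ·) :=
  ⟨fun S T => ⟨⟨S.1 ⊔ T.1, S.2.sup T.2⟩,
    (le_sup_left : S.1 ≤ S.1 ⊔ T.1), (le_sup_right : T.1 ≤ S.1 ⊔ T.1)⟩⟩

instance : IsFiltered (FGSub K B) := isFiltered_of_directed_le_nonempty _

/-- The diagram of finitely generated subalgebras. -/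
noncomputable def fgDiagram : FGSub K B ⥤ Under (CommRingCat.of K) where
  obj j := Under.mk (CommRingCat.ofHom (algebraMap K j.1))
  map {j k} f := Under.homMk (CommRingCat.ofHom (Subalgebra.inclusion (leOfHom f)).toRingHom) (by
    ext x
    rfl)
  map_id j := by
    ext x
    rfl
  map_comp f g := by
    ext x
    rfl

/-- The cocone with point `B`. -/
noncomputable def fgCocone : Cocone (fgDiagram K B) where
  pt := Under.mk (CommRingCat.ofHom (algebraMap K B))
  ι :=
    { app := fun j => Under.homMk (CommRingCat.ofHom j.1.val.toRingHom) (by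
        ext x
        rfl)
      naturality := by
        intro j k f
        ext x
        rfl }

theorem mem_fg (b : B) : ∃ j : FGSub K B, b ∈ j.1 := by
  have hfg : (Algebra.adjoin K ({b} : Set B)).FG := by
    simpa using Subalgebra.fg_adjoin_finset (R := K) ({b} : Finset B)
  exact ⟨⟨Algebra.adjoin K {b}, hfg⟩, Algebra.subset_adjoin rfl⟩

theorem top_le_iSup : (⊤ : Subalgebra K B) ≤ ⨆ j : FGSub K B, j.1 := by
  intro b _
  obtain ⟨j, hj⟩ := mem_fg K B b
  exact (le_iSup (fun j : FGSub K B => j.1) j) hj

theorem directed_fg : Directed (· ≤ ·) (fun j : FGSub K B => j.1) := by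
  intro S T
  exact ⟨⟨S.1 ⊔ T.1, S.2.sup T.2⟩, le_sup_left, le_sup_right⟩

variable {K B}

/-- The algebra structure on the point of a cocone. -/
@[reducible] def ptAlg (s : Cocone (fgDiagram K B)) : Algebra K s.pt.right :=
  s.pt.hom.hom.toAlgebra

/-- The legs of a cocone as algebra maps. -/
noncomputable def fgLeg (s : Cocone (fgDiagram K B)) (j : FGSub K B) :
    letI := ptAlg s; j.1 →ₐ[K] s.pt.right :=
  letI := ptAlg s
  { (s.ι.app j).right.hom with
    commutes' := fun r => by
      have := congr($(Under.w (s.ι.app j)).hom r)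
      exact this }

theorem fgLeg_compat (s : Cocone (fgDiagram K B)) (i j : FGSub K B) (h : i.1 ≤ j.1) :
    letI := ptAlg s; fgLeg s i = (fgLeg s j).comp (Subalgebra.inclusion h) := by
  letI := ptAlg s
  ext x
  have := congr($(s.w (homOfLE h : i ⟶ j)).right.hom x)
  exact this.symm

/-- The induced map out of `B`. -/
noncomputable def fgDescHom (s : Cocone (fgDiagram K B)) : letI := ptAlg s; B →ₐ[K] s.pt.right :=
  letI := ptAlg s
  (Subalgebra.iSupLift (fun j : FGSub K B => j.1) (directed_fg K B) (fgLeg s) (fgLeg_compat s) ⊤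
    (top_le_iSup K B)).comp (Subalgebra.topEquiv (R := K) (A := B)).symm.toAlgHom

theorem fgDescHom_apply (s : Cocone (fgDiagram K B)) (j : FGSub K B) (b : B) (hb : b ∈ j.1) :
    fgDescHom s b = (s.ι.app j).right.hom ⟨b, hb⟩ := by
  letI := ptAlg s
  change Subalgebra.iSupLift (fun j : FGSub K B => j.1) (directed_fg K B) (fgLeg s) (fgLeg_compat s) ⊤
    (top_le_iSup K B) ⟨b, Algebra.mem_top⟩ = _
  exact Subalgebra.iSupLift_of_mem (K := fun j : FGSub K B => j.1) (i := j)
    (⟨b, Algebra.mem_top⟩ : (⊤ : Subalgebra K B)) hb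

variable (K B)

/-- The cocone of finitely generated subalgebras is a colimit. -/
noncomputable def fgIsColimit : IsColimit (fgCocone K B) where
  desc s := letI := ptAlg s; Under.homMk (CommRingCat.ofHom (fgDescHom s).toRingHom) (by
    ext r
    exact (fgDescHom s).commutes r)
  fac s j := by
    ext x
    exact fgDescHom_apply s j x.1 x.2
  uniq s m hm := by
    ext b
    obtain ⟨j, hj⟩ := mem_fg K B b
    have h1 := congr($(hm j).right.hom ⟨b, hj⟩)
    refine Eq.trans ?_ (fgDescHom_apply s j b hj).symm
    exact h1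

/-- If all finitely generated subalgebras of `B` are étale, then `B` is ind-étale. -/
theorem isIndEtale_of_fg_etale (h : ∀ S : Subalgebra K B, S.FG → Algebra.Etale K S) :
    EtPBC.IsIndEtale K B := by
  refine ⟨FGSub K B, inferInstance, inferInstance, fgDiagram K B, fgCocone K B, fgIsColimit K B,
    fun j => ?_, ⟨Iso.refl _⟩⟩
  have := h j.1 j.2
  have e : (algebraMap K j.1).toAlgebra = (j.1).algebra := Algebra.algebra_ext _ _ (fun r => rfl)
  change @Algebra.Etale K ↥j.1 _ _ ((algebraMap K ↥j.1).toAlgebra)
  rw [e]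
  exact this

end Ind

end Groth.Agent.Lib.Helper14.WEField
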