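import Mathlib
import Groth.Agent.Lib.Helper13WEVal
import Groth.Agent.S1976
import Groth.Agent.S13598
import Groth.Agent.Lib.Helper14ValNorm

/-!
# Olivier's theorem (Stacks 092Z)

A weakly étale local algebra `B` over a strictly henselian local ring `A` (with `A → B` local) is
trivial: `A → B` is bijective.  Main results (namespace `Groth.Agent.Helper13Olivier`):

* `bijective_algebraMap_of_isSepClosed` : a nontrivial w.e. algebra over a separably closed field
  with only trivial idempotents is the field.
* `bijective_algebraMap_tensor` : `A` normal domain with separably closed fraction field `K`,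
  `B` nontrivial w.e. with trivial idempotents ⇒ `K → K ⊗ B` bijective.
* `exists_sub_mem_map_maximalIdeal` : `B = A + 𝔪_A B` if the residue field of `A` is sep. closed.
* `idem_trivial_baseChange` : idempotents of `A' ⊗[A] B` are trivial for `A'` local integral.
* `bijective_of_forall_prime` : fibrewise criterion.
* `olivier` : the theorem.
-/

set_option autoImplicit false
set_option linter.style.haveILetI false
set_option linter.unusedSectionVars false
open TensorProduct Polynomial IsLocalRing

namespace Groth.Agent.Helper13Olivier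

universe u

/-- A nontrivial weakly étale algebra over a separably closed field with only trivial idempotents
is the field itself. -/
theorem bijective_algebraMap_of_isSepClosed (K E : Type u) [Field K] [IsSepClosed K] [CommRing E]
    [Algebra K E] [Algebra.WeaklyEtale K E] [Nontrivial E]
    (hidem : ∀ e : E, IsIdempotentElem e → e = 0 ∨ e = 1) :
    Function.Bijective (algebraMap K E) := by
  classical
  refine ⟨(algebraMap K E).injective, ?_⟩
  intro x
  let S : Subalgebra K E := Algebra.adjoin K {x}
  have hSfg : S.FG := ⟨{x}, by simp [S]⟩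
  haveI : Algebra.Etale K S := (Groth.Agent.S1976.result K E).2 inferInstance S hSfg
  let ε := Algebra.FormallyEtale.equivPiOfIsSepClosed K S
  have hsub : ∀ 𝔭 𝔮 : PrimeSpectrum S, 𝔮 = 𝔭 := by
    intro 𝔭 𝔮
    let δ : S := ε.symm (Pi.single 𝔭 1)
    have hδ : IsIdempotentElem δ := by
      show δ * δ = δ
      simp only [δ]
      rw [← map_mul, ← Pi.single_mul, one_mul]
    have hδE : IsIdempotentElem (δ : E) := by
      show (δ : E) * (δ : E) = δ
      rw [← Subalgebra.coe_mul, hδ.eq]
    have hδ1 : δ = 1 := by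
      rcases hidem _ hδE with h | h
      · exfalso
        have h0 : δ = 0 := Subtype.ext h
        have h1 : ε δ = 0 := by rw [h0, map_zero]
        have h2 : ε δ 𝔭 = 1 := by simp [δ]
        rw [h1] at h2
        exact zero_ne_one h2
      · exact Subtype.ext h
    by_contra hne
    have h1 : ε δ 𝔮 = 0 := by
      simp only [δ, AlgEquiv.apply_symm_apply]
      exact Pi.single_eq_of_ne hne _
    rw [hδ1, map_one] at h1
    exact one_ne_zero h1
  haveI : Nontrivial S := inferInstance
  obtain ⟨𝔭₀⟩ : Nonempty (PrimeSpectrum S) := inferInstance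
  let xS : S := ⟨x, Algebra.subset_adjoin rfl⟩
  refine ⟨ε xS 𝔭₀, ?_⟩
  have h1 : ε xS = ε (algebraMap K S (ε xS 𝔭₀)) := by
    funext 𝔮
    rw [AlgEquiv.commutes, hsub 𝔭₀ 𝔮]
    rfl
  have h2 : xS = algebraMap K S (ε xS 𝔭₀) := ε.injective h1
  have h3 := congrArg (Subtype.val) h2
  exact h3.symm

section
variable (A : Type u) [CommRing A] [IsDomain A] [IsIntegrallyClosed A]
    (K : Type u) [Field K] [Algebra A K] [IsFractionRing A K] (B : Type u) [CommRing B] [Algebra A B]
    [Algebra.WeaklyEtale A B]

/-- Idempotents of `K ⊗ B` come from `B`. -/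
theorem idem_trivial_tensor (hB : ∀ b : B, IsIdempotentElem b → b = 0 ∨ b = 1) :
    ∀ e : K ⊗[A] B, IsIdempotentElem e → e = 0 ∨ e = 1 := by
  intro e he
  let c := Algebra.TensorProduct.comm A K B
  have he' : IsIdempotentElem (c e) := by
    show c e * c e = c e
    rw [← map_mul, he.eq]
  have hint : IsIntegral B (c e) := by
    refine ⟨X ^ 2 - X, monic_X_pow_sub (lt_of_le_of_lt degree_X_le (by norm_num)), ?_⟩
    simp only [eval₂_sub, eval₂_pow, eval₂_X]
    rw [pow_two, he'.eq, sub_self]
  haveI := Groth.Agent.Helper13WEVal.isIntegrallyClosedIn_tensor A K B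
  obtain ⟨hinj, hcl⟩ := isIntegrallyClosedIn_iff.mp
    (Groth.Agent.Helper13WEVal.isIntegrallyClosedIn_tensor A K B)
  obtain ⟨b, hb⟩ := hcl hint
  have hbi : IsIdempotentElem b := by
    apply hinj
    rw [map_mul, hb, he'.eq]
  rcases hB b hbi with h | h
  · left
    apply c.injective
    rw [← hb, h, map_zero, map_zero]
  · right
    apply c.injective
    rw [← hb, h, map_one, map_one]

theorem bijective_algebraMap_tensor [IsSepClosed K] [Nontrivial B]
    (hB : ∀ b : B, IsIdempotentElem b → b = 0 ∨ b = 1) :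
    Function.Bijective (algebraMap K (K ⊗[A] B)) := by
  haveI : Nontrivial (K ⊗[A] B) :=
    (Algebra.TensorProduct.includeRight_injective (R := A) (A := K) (B := B)
      (IsFractionRing.injective A K)).nontrivial
  exact bijective_algebraMap_of_isSepClosed K (K ⊗[A] B) (idem_trivial_tensor A K B hB)

end


theorem idem_local {R : Type*} [CommRing R] [IsLocalRing R] (e : R) (he : IsIdempotentElem e) :
    e = 0 ∨ e = 1 := by
  have h0 : e * (1 - e) = 0 := by rw [mul_sub, mul_one, he.eq, sub_self]
  rcases IsLocalRing.isUnit_or_isUnit_one_sub_self e with h | h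
  · right
    have : 1 - e = 0 := h.mul_left_cancel (by rw [h0, mul_zero])
    exact (sub_eq_zero.mp this).symm
  · left
    exact h.mul_left_cancel (by rw [mul_comm, h0, mul_zero])

/-- If the residue field of `A` is separably closed, `B = A + 𝔪_A B`. -/
theorem exists_sub_mem_map_maximalIdeal (A B : Type u) [CommRing A] [IsLocalRing A]
    [IsSepClosed (ResidueField A)] [CommRing B] [IsLocalRing B] [Algebra A B]
    [IsLocalHom (algebraMap A B)] [Algebra.WeaklyEtale A B] (b : B) :
    ∃ a : A, b - algebraMap A B a ∈ (maximalIdeal A).map (algebraMap A B) := by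
  haveI : Module.FaithfullyFlat A B := Module.FaithfullyFlat.of_flat_of_isLocalHom
  let k := ResidueField A
  let E := k ⊗[A] B
  haveI : Nontrivial E := inferInstance
  have hsurj : Function.Surjective (Algebra.TensorProduct.includeRight : B →ₐ[A] k ⊗[A] B) :=
    Algebra.TensorProduct.includeRight_surjective B IsLocalRing.residue_surjective
  haveI : IsLocalRing E :=
    IsLocalRing.of_surjective' (Algebra.TensorProduct.includeRight : B →ₐ[A] k ⊗[A] B).toRingHom hsurj
  have hbij := bijective_algebraMap_of_isSepClosed k E (fun e he => idem_local e he)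
  obtain ⟨c, hc⟩ := hbij.2 ((1 : k) ⊗ₜ[A] b)
  obtain ⟨a, rfl⟩ := IsLocalRing.residue_surjective c
  refine ⟨a, ?_⟩
  have h1 : (1 : k) ⊗ₜ[A] (b - algebraMap A B a) = 0 := by
    rw [TensorProduct.tmul_sub, ← hc, Algebra.TensorProduct.algebraMap_apply,
      Algebra.algebraMap_eq_smul_one (R := A) (A := B), ← TensorProduct.smul_tmul, sub_eq_zero]
    congr 1
    rw [Algebra.smul_def, mul_one]
    rfl
  have h1' : ((1 : A ⧸ maximalIdeal A) ⊗ₜ[A] (b - algebraMap A B a) :
      (A ⧸ maximalIdeal A) ⊗[A] B) = 0 := h1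
  have h2 := congrArg (TensorProduct.quotTensorEquivQuotSMul B (maximalIdeal A)) h1'
  rw [TensorProduct.quotTensorEquivQuotSMul_mk_one_tmul, map_zero,
    Submodule.Quotient.mk_eq_zero, Ideal.smul_top_eq_map] at h2
  exact h2


section
attribute [local instance] Algebra.TensorProduct.rightAlgebra in
theorem isIntegral_includeRight (A A' B : Type u) [CommRing A] [CommRing A'] [CommRing B]
    [Algebra A A'] [Algebra A B] [Algebra.IsIntegral A A'] :
    (Algebra.TensorProduct.includeRight : B →ₐ[A] A' ⊗[A] B).toRingHom.IsIntegral := by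
  have h := RingHom.isIntegral_isStableUnderBaseChange A A' B (A' ⊗[A] B)
    (algebraMap_isIntegral_iff.mpr inferInstance)
  exact h
end

theorem idem_of_mem_jacobson {S : Type*} [CommRing S] {e : S} (he : IsIdempotentElem e)
    (hJ : e ∈ Ideal.jacobson (⊥ : Ideal S)) : e = 0 := by
  have hu : IsUnit (e * (-1) + 1) := Ideal.mem_jacobson_bot.mp hJ (-1)
  have h0 : (e * (-1) + 1) * e = 0 := by
    have := he.eq
    calc (e * (-1) + 1) * e = e - e * e := by ring
      _ = 0 := by rw [this, sub_self]
  exact hu.mul_left_cancel (by rw [h0, mul_zero])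

theorem mem_jacobson_bot_of_forall {S : Type*} [CommRing S] (x : S)
    (h : ∀ n : Ideal S, n.IsMaximal → x ∈ n) : x ∈ Ideal.jacobson (⊥ : Ideal S) := by
  rw [Ideal.jacobson, Ideal.mem_sInf]
  rintro n ⟨-, hn⟩
  exact h n hn

set_option maxHeartbeats 1000000 in
theorem idem_trivial_baseChange (A B A' : Type u) [CommRing A] [IsLocalRing A] [CommRing B]
    [IsLocalRing B] [Algebra A B] [IsLocalHom (algebraMap A B)] [CommRing A'] [IsLocalRing A']
    [Algebra A A'] [Algebra.IsIntegral A A'] [Nontrivial (A' ⊗[A] B)]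
    (H1 : ∀ b : B, ∃ a : A, b - algebraMap A B a ∈ (maximalIdeal A).map (algebraMap A B)) :
    ∀ e : A' ⊗[A] B, IsIdempotentElem e → e = 0 ∨ e = 1 := by
  let S := A' ⊗[A] B
  let J : Ideal S := Ideal.jacobson ⊥
  let ι : B →+* S := (Algebra.TensorProduct.includeRight : B →ₐ[A] A' ⊗[A] B).toRingHom
  have hι : ι.IsIntegral := isIntegral_includeRight A A' B
  let α : A' →+* S := algebraMap A' S
  -- (ii)
  have hB : ∀ n : Ideal S, n.IsMaximal → n.comap ι = maximalIdeal B := by
    intro n hn
    haveI := hn
    exact IsLocalRing.eq_maximalIdeal (Ideal.isMaximal_comap_of_isIntegral_of_isMaximal' ι hι n)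
  have hιJ : ∀ m ∈ maximalIdeal B, ι m ∈ J := by
    intro m hm
    apply mem_jacobson_bot_of_forall
    intro n hn
    have : m ∈ n.comap ι := by rw [hB n hn]; exact hm
    exact this
  -- (iii)
  have hAJ : ∀ a ∈ maximalIdeal A, algebraMap A S a ∈ J := by
    intro a ha
    have h1 : algebraMap A S a = ι (algebraMap A B a) := by
      show algebraMap A S a = (1 : A') ⊗ₜ[A] (algebraMap A B a)
      rw [Algebra.TensorProduct.algebraMap_apply, Algebra.algebraMap_eq_smul_one (R := A) (A := B),
        ← TensorProduct.smul_tmul, ← Algebra.algebraMap_eq_smul_one]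
    rw [h1]
    apply hιJ
    rw [mem_maximalIdeal, mem_nonunits_iff]
    intro hu
    exact ((mem_maximalIdeal a).mp ha) (IsUnit.of_map (algebraMap A B) a hu)
  -- (iv)
  have hA'J : ∀ a' ∈ maximalIdeal A', α a' ∈ J := by
    intro a' ha'
    apply mem_jacobson_bot_of_forall
    intro n hn
    haveI := hn
    haveI : (n.comap α).IsPrime := Ideal.comap_isPrime _ _
    have hle : maximalIdeal A ≤ (n.comap α).comap (algebraMap A A') := by
      intro a ha
      rw [Ideal.mem_comap, Ideal.mem_comap]
      have h2 : α (algebraMap A A' a) = algebraMap A S a :=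
        (IsScalarTower.algebraMap_apply A A' S a).symm
      rw [h2]
      have h3 : algebraMap A S a ∈ J := hAJ a ha
      rw [show J = Ideal.jacobson ⊥ from rfl, Ideal.jacobson, Ideal.mem_sInf] at h3
      exact h3 ⟨bot_le, hn⟩
    have hmax : ((n.comap α).comap (algebraMap A A')).IsMaximal := by
      have hne : (n.comap α).comap (algebraMap A A') ≠ ⊤ := Ideal.IsPrime.ne_top'
      rw [← (maximalIdeal.isMaximal A).eq_of_le hne hle]
      exact maximalIdeal.isMaximal A
    have hmax' : (n.comap α).IsMaximal :=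
      Ideal.isMaximal_of_isIntegral_of_isMaximal_comap (R := A) (n.comap α) hmax
    have : n.comap α = maximalIdeal A' := IsLocalRing.eq_maximalIdeal hmax'
    have h4 : a' ∈ n.comap α := by rw [this]; exact ha'
    exact h4
  -- (vi)
  have hdec : ∀ x : A' ⊗[A] B, ∃ a' : A', x - α a' ∈ J := by
    intro x
    induction x using TensorProduct.induction_on with
    | zero => exact ⟨0, by simp⟩
    | tmul a' b =>
      obtain ⟨a, ha⟩ := H1 b
      refine ⟨a • a', ?_⟩
      have hm : b - algebraMap A B a ∈ maximalIdeal B := by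
        exact IsLocalRing.map_maximalIdeal_le (algebraMap A B) ha
      have h1 : a' ⊗ₜ[A] b - α (a • a') = α a' * ι (b - algebraMap A B a) := by
        show a' ⊗ₜ[A] b - (a • a') ⊗ₜ[A] (1 : B) = (a' ⊗ₜ[A] (1 : B)) * ((1 : A') ⊗ₜ[A] (b - algebraMap A B a))
        rw [Algebra.TensorProduct.tmul_mul_tmul, mul_one, one_mul, TensorProduct.tmul_sub,
          Algebra.algebraMap_eq_smul_one (R := A) (A := B), TensorProduct.tmul_smul,
          ← TensorProduct.smul_tmul']
      rw [h1]
      exact J.mul_mem_left _ (hιJ _ hm)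
    | add x y hx hy =>
      obtain ⟨a₁, h₁⟩ := hx
      obtain ⟨a₂, h₂⟩ := hy
      refine ⟨a₁ + a₂, ?_⟩
      have : x + y - α (a₁ + a₂) = (x - α a₁) + (y - α a₂) := by rw [map_add]; ring
      rw [this]
      exact J.add_mem h₁ h₂
  -- (vii)
  intro e he
  obtain ⟨a', ha'⟩ := hdec e
  set y := e - α a' with hy
  have he' : e = α a' + y := by rw [hy]; ring
  have hJtop : J ≠ ⊤ := by
    intro h
    have : (⊥ : Ideal S) = ⊤ := Ideal.jacobson_eq_top_iff.mp h
    exact bot_ne_top this
  by_cases h1 : a' ∈ maximalIdeal A'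
  · left
    apply idem_of_mem_jacobson he
    rw [he']
    exact J.add_mem (hA'J a' h1) ha'
  by_cases h2 : 1 - a' ∈ maximalIdeal A'
  · right
    have he1 : IsIdempotentElem (1 - e) := he.one_sub
    have : 1 - e = 0 := by
      apply idem_of_mem_jacobson he1
      have : 1 - e = α (1 - a') - y := by rw [he', map_sub, map_one]; ring
      rw [this]
      exact J.sub_mem (hA'J _ h2) ha'
    exact (sub_eq_zero.mp this).symm
  · exfalso
    have hu1 : IsUnit a' := by
      rw [mem_maximalIdeal, mem_nonunits_iff, not_not] at h1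
      exact h1
    have hu2 : IsUnit (1 - a') := by
      rw [mem_maximalIdeal, mem_nonunits_iff, not_not] at h2
      exact h2
    have hu : IsUnit (α (a' * (1 - a'))) := (hu1.mul hu2).map α
    have hmem : α (a' * (1 - a')) ∈ J := by
      have h3 : α (a' * (1 - a')) = y * (2 * α a' + y - 1) := by
        have h4 : (α a' + y) * (α a' + y) = α a' + y := by rw [← he']; exact he.eq
        rw [map_mul, map_sub, map_one]
        linear_combination (-1 : S) * h4
      rw [h3]
      exact J.mul_mem_right _ ha'
    exact hJtop (Ideal.eq_top_of_isUnit_mem _ hmem hu)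


theorem bijective_algebraMap_tensor_of_normal (A B A' L : Type u) [CommRing A] [IsLocalRing A]
    [IsSepClosed (ResidueField A)] [CommRing B] [IsLocalRing B] [Algebra A B]
    [IsLocalHom (algebraMap A B)] [Algebra.WeaklyEtale A B]
    [CommRing A'] [IsDomain A'] [IsLocalRing A'] [IsIntegrallyClosed A'] [Algebra A A']
    [Algebra.IsIntegral A A']
    [Field L] [IsSepClosed L] [Algebra A' L] [IsFractionRing A' L] [Algebra A L]
    [IsScalarTower A A' L] :
    Function.Bijective (algebraMap L (L ⊗[A] B)) := by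
  haveI : Module.FaithfullyFlat A B := Module.FaithfullyFlat.of_flat_of_isLocalHom
  haveI : Nontrivial (A' ⊗[A] B) := inferInstance
  have hidem := idem_trivial_baseChange A B A' (exists_sub_mem_map_maximalIdeal A B)
  have h1 := bijective_algebraMap_tensor A' L (A' ⊗[A] B) hidem
  let e := Algebra.TensorProduct.cancelBaseChange A A' L L B
  have h2 : (algebraMap L (L ⊗[A] B)) = (e : _ →+* _).comp (algebraMap L (L ⊗[A'] (A' ⊗[A] B))) := by
    ext x
    simp only [RingHom.coe_comp, RingHom.coe_coe, Function.comp_apply, AlgEquiv.commutes]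
  rw [h2]
  exact e.bijective.comp h1

theorem surjective_algebraMap_tensor_descent (A K L B : Type u) [CommRing A] [Field K] [Field L]
    [Algebra A K] [Algebra A L] [Algebra K L] [IsScalarTower A K L] [CommRing B] [Algebra A B]
    (h : Function.Surjective (algebraMap L (L ⊗[A] B))) :
    Function.Surjective (algebraMap K (K ⊗[A] B)) := by
  let φ : K →ₗ[K] K ⊗[A] B := Algebra.linearMap K (K ⊗[A] B)
  have hφ : Function.Surjective (φ.lTensor L) := by
    intro z
    let e := Algebra.TensorProduct.cancelBaseChange A K L L B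
    obtain ⟨l, hl⟩ := h (e z)
    refine ⟨l ⊗ₜ[K] (1 : K), ?_⟩
    apply e.injective
    rw [← hl, LinearMap.lTensor_tmul]
    show e (l ⊗ₜ[K] (algebraMap K (K ⊗[A] B) 1)) = _
    rw [map_one, Algebra.TensorProduct.one_def, Algebra.TensorProduct.cancelBaseChange_tmul,
      one_smul, Algebra.TensorProduct.algebraMap_apply]
    rfl
  exact (Module.FaithfullyFlat.lTensor_surjective_iff_surjective K L φ).mp hφ

section kernel
variable (A : Type u) [CommRing A] (p : Ideal A) [p.IsPrime]
    (K : Type u) [Field K] [Algebra A K] [Algebra (A ⧸ p) K] [IsScalarTower A (A ⧸ p) K]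
    [IsFractionRing (A ⧸ p) K] (B : Type u) [CommRing B] [Algebra A B]

theorem exists_smul_mem_of_tmul_eq_zero (b' : B) (h : (1 : K) ⊗ₜ[A] b' = 0) :
    ∃ t : A, t ∉ p ∧ t • b' ∈ p.map (algebraMap A B) := by
  let M := (A ⧸ p) ⊗[A] B
  let x : M := (1 : A ⧸ p) ⊗ₜ[A] b'
  have hx : (1 : K) ⊗ₜ[A ⧸ p] x = 0 := by
    have h1 := congrArg (TensorProduct.AlgebraTensorModule.cancelBaseChange A (A ⧸ p) K K B).symm h
    rw [TensorProduct.AlgebraTensorModule.cancelBaseChange_symm_tmul, map_zero] at h1
    exact h1
  haveI : IsLocalizedModule (nonZeroDivisors (A ⧸ p)) (TensorProduct.mk (A ⧸ p) K M 1) := by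
    rw [isLocalizedModule_iff_isBaseChange (S := nonZeroDivisors (A ⧸ p)) (A := K)]
    exact TensorProduct.isBaseChange _ _ _
  have hx' : TensorProduct.mk (A ⧸ p) K M 1 x = 0 := hx
  obtain ⟨⟨tb, htb⟩, ht⟩ := (IsLocalizedModule.eq_zero_iff (nonZeroDivisors (A ⧸ p))
    (TensorProduct.mk (A ⧸ p) K M 1)).mp hx'
  obtain ⟨t, rfl⟩ := Ideal.Quotient.mk_surjective tb
  refine ⟨t, ?_, ?_⟩
  · intro htp
    have : (Ideal.Quotient.mk p t) = 0 := Ideal.Quotient.eq_zero_iff_mem.mpr htp
    exact (nonZeroDivisors.ne_zero htb) this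
  · have h2 : ((1 : A ⧸ p) ⊗ₜ[A] (t • b') : (A ⧸ p) ⊗[A] B) = 0 := by
      have h3 : (Ideal.Quotient.mk p t) • x = 0 := ht
      rw [← h3]
      show _ = (Ideal.Quotient.mk p t) • ((1 : A ⧸ p) ⊗ₜ[A] b')
      rw [TensorProduct.smul_tmul', smul_eq_mul, mul_one, TensorProduct.tmul_smul,
        TensorProduct.smul_tmul', Algebra.smul_def, mul_one]
      rfl
    have h4 := congrArg (TensorProduct.quotTensorEquivQuotSMul B p) h2
    rw [TensorProduct.quotTensorEquivQuotSMul_mk_one_tmul, map_zero,
      Submodule.Quotient.mk_eq_zero, Ideal.smul_top_eq_map] at h4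
    exact h4

theorem exists_smul_sub_mem_of_surjective
    (h : Function.Surjective (algebraMap K (K ⊗[A] B))) (b : B) :
    ∃ s : A, s ∉ p ∧ ∃ a : A, s • b - algebraMap A B a ∈ p.map (algebraMap A B) := by
  obtain ⟨c, hc⟩ := h ((1 : K) ⊗ₜ[A] b)
  obtain ⟨⟨xa, ⟨xs, hxs⟩⟩, hx⟩ := IsLocalization.surj (nonZeroDivisors (A ⧸ p)) c
  obtain ⟨a, rfl⟩ := Ideal.Quotient.mk_surjective xa
  obtain ⟨s, rfl⟩ := Ideal.Quotient.mk_surjective xs
  have hx' : c * algebraMap A K s = algebraMap A K a := by
    rw [IsScalarTower.algebraMap_apply A (A ⧸ p) K, IsScalarTower.algebraMap_apply A (A ⧸ p) K]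
    exact hx
  have hsp : s ∉ p := by
    intro hsp
    have : (Ideal.Quotient.mk p s) = 0 := Ideal.Quotient.eq_zero_iff_mem.mpr hsp
    exact (nonZeroDivisors.ne_zero hxs) this
  have h0 : (1 : K) ⊗ₜ[A] (s • b - algebraMap A B a) = 0 := by
    rw [TensorProduct.tmul_sub, TensorProduct.tmul_smul, ← hc,
      Algebra.TensorProduct.algebraMap_apply, Algebra.algebraMap_eq_smul_one (R := A) (A := B),
      TensorProduct.tmul_smul, TensorProduct.smul_tmul', TensorProduct.smul_tmul',
      sub_eq_zero, Algebra.smul_def, Algebra.smul_def, mul_one]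
    congr 1
    rw [Algebra.algebraMap_self_apply, mul_comm]
    exact hx'
  obtain ⟨t, htp, ht⟩ := exists_smul_mem_of_tmul_eq_zero A p K B _ h0
  refine ⟨t * s, ?_, t * a, ?_⟩
  · intro hts
    rcases Ideal.IsPrime.mem_or_mem inferInstance hts with h1 | h1
    · exact htp h1
    · exact hsp h1
  · have : (t * s) • b - algebraMap A B (t * a) = t • (s • b - algebraMap A B a) := by
      rw [smul_sub, mul_smul, map_mul, Algebra.smul_def t (algebraMap A B a)]
    rw [this]
    exact ht

end kernel

set_option maxHeartbeats 1000000 in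
theorem bijective_of_forall_prime (A B : Type u) [CommRing A] [IsLocalRing A] [CommRing B]
    [IsLocalRing B] [Algebra A B] [IsLocalHom (algebraMap A B)] [Algebra.WeaklyEtale A B]
    (H : ∀ (p : Ideal A) [p.IsPrime] (b : B), ∃ s : A, s ∉ p ∧ ∃ a : A,
      s • b - algebraMap A B a ∈ p.map (algebraMap A B)) :
    Function.Bijective (algebraMap A B) := by
  haveI : Module.FaithfullyFlat A B := Module.FaithfullyFlat.of_flat_of_isLocalHom
  haveI : FaithfulSMul A B := Module.FaithfullyFlat.faithfulSMul (A := A) (B := B)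
  refine ⟨FaithfulSMul.algebraMap_injective A B, ?_⟩
  -- the kernel of multiplication
  have hpure : ∀ x ∈ RingHom.ker (Algebra.TensorProduct.lmul' A (S := B)),
      ∃ y ∈ RingHom.ker (Algebra.TensorProduct.lmul' A (S := B)), x = x * y := by
    have hP : (RingHom.ker (Algebra.TensorProduct.lmul' A (S := B))).Pure := by
      letI : Algebra (B ⊗[A] B) B := (Algebra.TensorProduct.lmul' A (S := B)).toRingHom.toAlgebra
      haveI : Module.Flat (B ⊗[A] B) B := Algebra.WeaklyEtale.flat_lmul' A B
      have hsurj : Function.Surjective (Algebra.ofId (B ⊗[A] B) B) := fun b => ⟨b ⊗ₜ 1, by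
        show Algebra.TensorProduct.lmul' A (b ⊗ₜ[A] (1 : B)) = b
        simp⟩
      exact Module.Flat.of_linearEquiv
        (Ideal.quotientKerAlgEquivOfSurjective hsurj).toLinearEquiv
    intro x hx
    exact Ideal.exists_eq_mul_of_pure hx
  -- every generator lies in every prime
  have hgen : ∀ (Q : Ideal (B ⊗[A] B)) [Q.IsPrime] (b : B),
      (1 : B) ⊗ₜ[A] b - b ⊗ₜ[A] (1 : B) ∈ Q := by
    intro Q _ b
    let p : Ideal A := Q.comap (algebraMap A (B ⊗[A] B))
    haveI : p.IsPrime := Ideal.comap_isPrime _ _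
    obtain ⟨s, hsp, a, hsa⟩ := H p b
    have hpQ : p.map (algebraMap A (B ⊗[A] B)) ≤ Q := Ideal.map_le_iff_le_comap.mpr le_rfl
    have hL : (s • b - algebraMap A B a) ⊗ₜ[A] (1 : B) ∈ Q := by
      apply hpQ
      have h1 : (Algebra.TensorProduct.includeLeft : B →ₐ[A] B ⊗[A] B) (s • b - algebraMap A B a)
          ∈ (p.map (algebraMap A B)).map
            (Algebra.TensorProduct.includeLeft : B →ₐ[A] B ⊗[A] B).toRingHom :=
        Ideal.mem_map_of_mem _ hsa
      rw [Ideal.map_map] at h1
      have h2 : (Algebra.TensorProduct.includeLeft : B →ₐ[A] B ⊗[A] B).toRingHom.comp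
          (algebraMap A B) = algebraMap A (B ⊗[A] B) := by
        ext x
        simp
      rw [h2] at h1
      exact h1
    have hR : (1 : B) ⊗ₜ[A] (s • b - algebraMap A B a) ∈ Q := by
      apply hpQ
      have h1 : (Algebra.TensorProduct.includeRight : B →ₐ[A] B ⊗[A] B) (s • b - algebraMap A B a)
          ∈ (p.map (algebraMap A B)).map
            (Algebra.TensorProduct.includeRight : B →ₐ[A] B ⊗[A] B).toRingHom :=
        Ideal.mem_map_of_mem _ hsa
      rw [Ideal.map_map] at h1
      have h2 : (Algebra.TensorProduct.includeRight : B →ₐ[A] B ⊗[A] B).toRingHom.comp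
          (algebraMap A B) = algebraMap A (B ⊗[A] B) := by
        ext x
        simp
      rw [h2] at h1
      exact h1
    have h3 : algebraMap A (B ⊗[A] B) s * ((1 : B) ⊗ₜ[A] b - b ⊗ₜ[A] (1 : B)) ∈ Q := by
      have : algebraMap A (B ⊗[A] B) s * ((1 : B) ⊗ₜ[A] b - b ⊗ₜ[A] (1 : B)) =
          (1 : B) ⊗ₜ[A] (s • b - algebraMap A B a) - (s • b - algebraMap A B a) ⊗ₜ[A] (1 : B) := by
        have e1 : (1 : B) ⊗ₜ[A] (algebraMap A B a) = (algebraMap A B a) ⊗ₜ[A] (1 : B) := by
          rw [Algebra.algebraMap_eq_smul_one (R := A) (A := B), TensorProduct.tmul_smul,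
            TensorProduct.smul_tmul']
        rw [← Algebra.smul_def, smul_sub, TensorProduct.tmul_sub, TensorProduct.sub_tmul, e1,
          TensorProduct.tmul_smul, ← TensorProduct.smul_tmul']
        abel
      rw [this]
      exact Q.sub_mem hR hL
    rcases Ideal.IsPrime.mem_or_mem inferInstance h3 with h4 | h4
    · exact absurd h4 hsp
    · exact h4
  have hker : ∀ x ∈ RingHom.ker (Algebra.TensorProduct.lmul' A (S := B)), IsNilpotent x := by
    intro x hx
    rw [← mem_nilradical, nilradical_eq_sInf, Ideal.mem_sInf]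
    intro Q hQ
    haveI : Q.IsPrime := hQ
    have hle : KaehlerDifferential.ideal A B ≤ Q := by
      rw [← KaehlerDifferential.span_range_eq_ideal, Ideal.span_le]
      rintro _ ⟨b, rfl⟩
      exact hgen Q b
    exact hle hx
  have hzero : ∀ x ∈ RingHom.ker (Algebra.TensorProduct.lmul' A (S := B)), x = 0 := by
    intro x hx
    obtain ⟨y, hy, hxy⟩ := hpure x hx
    obtain ⟨n, hn⟩ := hker y hy
    have hpow : ∀ k : ℕ, x = x * y ^ k := by
      intro k
      induction k with
      | zero => simp
      | succ k ih => rw [pow_succ, ← mul_assoc, ← ih, ← hxy]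
    rw [hpow n, hn, mul_zero]
  -- includeLeft is surjective
  have hsurj : Function.Surjective (Algebra.TensorProduct.includeLeft : B →ₐ[A] B ⊗[A] B) := by
    intro z
    refine ⟨Algebra.TensorProduct.lmul' A z, ?_⟩
    have : (Algebra.TensorProduct.includeLeft : B →ₐ[A] B ⊗[A] B) (Algebra.TensorProduct.lmul' A z) - z
        ∈ RingHom.ker (Algebra.TensorProduct.lmul' A (S := B)) := by
      rw [RingHom.mem_ker, map_sub]
      simp
    exact sub_eq_zero.mp (hzero _ this)
  have hl : Function.Surjective ((Algebra.linearMap A B).lTensor B) := by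
    intro z
    obtain ⟨b, hb⟩ := hsurj z
    refine ⟨b ⊗ₜ[A] (1 : A), ?_⟩
    rw [LinearMap.lTensor_tmul, Algebra.linearMap_apply, map_one]
    exact hb
  exact (Module.FaithfullyFlat.lTensor_surjective_iff_surjective A B (Algebra.linearMap A B)).mp hl

set_option maxHeartbeats 1000000 in
/-- **Olivier's theorem** (Stacks 092Z): a weakly étale local algebra over a strictly henselian
local ring (local homomorphism) is trivial. -/
theorem olivier (A B : Type u) [CommRing A] [HenselianLocalRing A]
    [IsSepClosed (ResidueField A)] [CommRing B] [IsLocalRing B] [Algebra A B]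
    [IsLocalHom (algebraMap A B)] [Algebra.WeaklyEtale A B] :
    Function.Bijective (algebraMap A B) := by
  apply bijective_of_forall_prime
  intro p _ b
  haveI : IsLocalRing (A ⧸ p) :=
    IsLocalRing.of_surjective' (Ideal.Quotient.mk p) Ideal.Quotient.mk_surjective
  haveI : HenselianLocalRing (A ⧸ p) := Groth.Agent.S13598.henselian_quotient p
  let K := FractionRing (A ⧸ p)
  let L := AlgebraicClosure K
  haveI : IsLocalRing (integralClosure (A ⧸ p) L) :=
    Groth.Agent.Lib.Helper14ValNorm.isLocalRing_integralClosure (A ⧸ p) L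
  haveI : Algebra.IsAlgebraic (A ⧸ p) L := by
    haveI : Algebra.IsAlgebraic K L := inferInstance
    exact (IsFractionRing.comap_isAlgebraic_iff (A := A ⧸ p) (K := K) (C := L)).mpr inferInstance
  have hinj : Function.Injective (algebraMap (A ⧸ p) L) := by
    rw [IsScalarTower.algebraMap_eq (A ⧸ p) K L]
    exact (algebraMap K L).injective.comp (IsFractionRing.injective (A ⧸ p) K)
  haveI : IsFractionRing (integralClosure (A ⧸ p) L) L :=
    integralClosure.isFractionRing_of_algebraic (A := A ⧸ p) (L := L)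
      (fun x hx => hinj (by rw [hx, map_zero]))
  haveI : IsIntegrallyClosed (integralClosure (A ⧸ p) L) :=
    (IsIntegrallyClosed.integralClosure_eq_bot_iff L).mp integralClosure_idem
  haveI : Algebra.IsIntegral A (A ⧸ p) := Algebra.isIntegral_of_surjective Ideal.Quotient.mk_surjective
  haveI : Algebra.IsIntegral A (integralClosure (A ⧸ p) L) :=
    Algebra.IsIntegral.trans (A ⧸ p)
  haveI : IsSepClosed L := inferInstance
  have h1 := bijective_algebraMap_tensor_of_normal A B (integralClosure (A ⧸ p) L) L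
  have h2 := surjective_algebraMap_tensor_descent A K L B h1.2
  exact exists_smul_sub_mem_of_surjective A p K B h2 b

end Groth.Agent.Helper13Olivier
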