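import Mathlib
import Groth.Agent.Lib.Helper13PiDecA

set_option autoImplicit false
set_option linter.style.haveILetI false
universe u

namespace Groth.Agent.Helper13PiDec

open Groth.Agent.Lib.Helper28 PrimeSpectrum

theorem main (k S : Type u) [Field k] [CommRing S] [Algebra k S] [Algebra.FiniteType k S]
    [LocCoh.IsCohenMacaulayRing S] :
    ∃ (N : ℕ) (T : Fin (N + 1) → Type u) (_ : ∀ d, CommRing (T d)) (_ : ∀ d, Algebra k (T d)),
      Nonempty (S ≃ₐ[k] ((d : Fin (N + 1)) → T d)) ∧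
        ∀ (d : Fin (N + 1)) (m : Ideal (T d)), m.IsMaximal → m.height = (d : ℕ) := by
  classical
  haveI hNoeth : IsNoetherianRing S := inferInstance
  have hfin : (minimalPrimes S).Finite := minimalPrimes.finite_of_isNoetherianRing S
  -- dimension function
  have hex : ∀ p : Ideal S, ∃ e : ℕ, p.IsPrime → ringKrullDim (S ⧸ p) = e := by
    intro p
    by_cases hp : p.IsPrime
    · obtain ⟨n, e, -, he, -, -⟩ := Groth.Agent.Lib.Helper14.LocalDim.exists_dims (k := k) p
      exact ⟨e, fun _ => he⟩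
    · exact ⟨0, fun h => absurd h hp⟩
  choose δ hδ using hex
  obtain ⟨N, hN⟩ : ∃ N : ℕ, ∀ p ∈ minimalPrimes S, δ p ≤ N :=
    ⟨hfin.toFinset.sup δ, fun p hp => Finset.le_sup (f := δ) (hfin.mem_toFinset.mpr hp)⟩
  let Z : Fin (N + 1) → Set (PrimeSpectrum S) := fun d =>
    {x | ∃ p ∈ minimalPrimes S, p ≤ x.asIdeal ∧ δ p = (d : ℕ)}
  have hZclosed : ∀ d, IsClosed (Z d) := by
    intro d
    have : Z d = ⋃ p ∈ {p | p ∈ minimalPrimes S ∧ δ p = (d : ℕ)}, zeroLocus (p : Set S) := by
      ext x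
      simp only [Z, Set.mem_ofPred_eq, Set.mem_iUnion, mem_zeroLocus, SetLike.coe_subset_coe,
        exists_prop]
      constructor
      · rintro ⟨p, hp, hpx, hd⟩
        exact ⟨p, ⟨hp, hd⟩, hpx⟩
      · rintro ⟨p, ⟨hp, hd⟩, hpx⟩
        exact ⟨p, hp, hpx, hd⟩
    rw [this]
    exact Set.Finite.isClosed_biUnion (hfin.subset fun p hp => hp.1)
      fun p _ => isClosed_zeroLocus _
  have hcov : ∀ x : PrimeSpectrum S, ∃ d, x ∈ Z d := by
    intro x
    obtain ⟨p, hp, hpx⟩ := Ideal.exists_minimalPrimes_le (I := (⊥ : Ideal S)) (J := x.asIdeal)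
      bot_le
    exact ⟨⟨δ p, Nat.lt_succ_of_le (hN p hp)⟩, p, hp, hpx, rfl⟩
  have hdisj : ∀ i j, i ≠ j → Z i ∩ Z j = ∅ := by
    intro i j hij
    ext x
    simp only [Set.mem_inter_iff, Set.mem_empty_iff_false, iff_false, not_and]
    rintro ⟨p, hp, hpx, hpi⟩ ⟨p', hp', hp'x, hp'j⟩
    apply hij
    obtain ⟨m, hm, hxm⟩ := Ideal.exists_le_maximal x.asIdeal x.2.ne_top
    haveI : p.IsPrime := hp.1.1
    haveI : p'.IsPrime := hp'.1.1
    have h1 := height_eq_of_minimalPrime_le k S p hp (δ p) (hδ p inferInstance) m hm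
      (hpx.trans hxm)
    have h2 := height_eq_of_minimalPrime_le k S p' hp' (δ p') (hδ p' inferInstance) m hm
      (hp'x.trans hxm)
    rw [h1] at h2
    have h3 : δ p = δ p' := by exact_mod_cast h2
    apply Fin.ext
    rw [← hpi, ← hp'j, h3]
  have hZclopen : ∀ d, IsClopen (Z d) := by
    intro d
    refine ⟨hZclosed d, ?_⟩
    rw [← isClosed_compl_iff]
    have : (Z d)ᶜ = ⋃ d' ∈ {d' | d' ≠ d}, Z d' := by
      ext x
      simp only [Set.mem_compl_iff, Set.mem_iUnion, Set.mem_ofPred_eq, exists_prop]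
      constructor
      · intro hx
        obtain ⟨d', hd'⟩ := hcov x
        refine ⟨d', ?_, hd'⟩
        rintro rfl
        exact hx hd'
      · rintro ⟨d', hd'd, hd'⟩ hx
        have := hdisj d' d hd'd
        rw [Set.eq_empty_iff_forall_notMem] at this
        exact this x ⟨hd', hx⟩
    rw [this]
    exact Set.Finite.isClosed_biUnion (Set.toFinite _) fun d' _ => hZclosed d'
  obtain ⟨e, he, heZ⟩ := exists_completeOrthogonalIdempotents Z hZclopen hdisj hcov
  refine ⟨N, fun d => S ⧸ Ideal.span {1 - e d}, fun d => inferInstance, fun d => inferInstance,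
    ⟨AlgEquiv.ofBijective (Pi.algHom k (fun d => S ⧸ Ideal.span {1 - e d})
      (fun d => Ideal.Quotient.mkₐ k (Ideal.span {1 - e d}))) he.bijective_pi⟩, ?_⟩
  intro d m hm
  haveI : IsLocalization.Away (e d) (S ⧸ Ideal.span {1 - e d}) :=
    IsLocalization.Away.quotient_of_isIdempotentElem (he.idem d)
  have h1 := IsLocalization.height_under (Submonoid.powers (e d)) m
  rw [← h1]
  have hm' : (m.under S).IsMaximal :=
    Ideal.comap_isMaximal_of_surjective _ Ideal.Quotient.mk_surjective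
  have hmem : 1 - e d ∈ m.under S := by
    change Ideal.Quotient.mk _ (1 - e d) ∈ m
    rw [Ideal.Quotient.eq_zero_iff_mem.mpr
      (Ideal.subset_span (Set.mem_singleton (1 - e d)))]
    exact zero_mem _
  have hnot : e d ∉ m.under S := by
    intro h
    apply hm'.ne_top
    rw [Ideal.eq_top_iff_one]
    have := add_mem hmem h
    rwa [sub_add_cancel] at this
  have hx : (⟨m.under S, hm'.isPrime⟩ : PrimeSpectrum S) ∈ Z d := by
    rw [heZ d]
    exact hnot
  obtain ⟨p, hp, hpx, hpd⟩ := hx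
  haveI : p.IsPrime := hp.1.1
  rw [← hpd]
  exact height_eq_of_minimalPrime_le k S p hp (δ p) (hδ p inferInstance) _ hm' hpx

end Groth.Agent.Helper13PiDec
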