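import Mathlib
import Groth.Agent.Lib.Helper13GrPoly

/-!
# `Proj B[z]`: the identification `θ : A_(z) → B` (helper13; pure Mathlib + Helper13GrPoly)

* `awayCast`, `awayCast_mk`, `awayι_congr`: transport of `Away 𝒜 f` / `Proj.awayι` along `f = g`.
* for a graded ring `A = B[z]` (as in `Helper13GrPoly`) and `θ : Away 𝒜 z →+* B` with
  `θ (ι a z^k / z^k) = a`: `θ_mk`, `θ_fromZero`, `θ_bijective`, and naturality `θ_nat`.
-/

set_option autoImplicit false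
set_option linter.style.haveILetI false

namespace Groth.Agent.Helper13PolyProj

universe u

open Polynomial DirectSum HomogeneousLocalization AlgebraicGeometry CategoryTheory
open Groth.Agent.Helper13GrPoly

section cast
variable {A : Type u} [CommRing A] (𝒜 : ℕ → AddSubgroup A) [GradedRing 𝒜]

/-- transport of the degree-zero localization along an equality of elements -/
def awayCast {f g : A} (h : f = g) : Away 𝒜 f →+* Away 𝒜 g := by
  subst h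
  exact RingHom.id _

theorem awayCast_mk {f g : A} (h : f = g) {d : ℕ} (hf : f ∈ 𝒜 d) (n : ℕ) (x : A)
    (hx : x ∈ 𝒜 (n • d)) :
    awayCast 𝒜 h (Away.mk 𝒜 hf n x hx) = Away.mk 𝒜 (h ▸ hf) n x hx := by
  subst h
  rfl

theorem awayι_congr {f g : A} (h : f = g) {m : ℕ} (hf : f ∈ 𝒜 m) (hm : 0 < m) :
    Proj.awayι 𝒜 g (h ▸ hf) hm =
      Spec.map (CommRingCat.ofHom (awayCast 𝒜 h)) ≫ Proj.awayι 𝒜 f hf hm := by
  subst h
  have : CommRingCat.ofHom (awayCast 𝒜 (rfl : f = f)) = 𝟙 _ := rfl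
  rw [this, Spec.map_id, Category.id_comp]

end cast

section theta
variable {A B : Type u} [CommRing A] [CommRing B] (𝒜 : ℕ → AddSubgroup A) [GradedRing 𝒜]
  (ι : B →+* A) (hι : ∀ b, ι b ∈ 𝒜 0) (z : A) (hz : z ∈ 𝒜 1)
  (hpoly : Function.Bijective (eval₂RingHom ι z))
  (θ : Away 𝒜 z →+* B)
  (hθ : ∀ (q : Away 𝒜 z) (k : ℕ) (a : B),
    q.val = Localization.mk (ι a * z ^ k) ⟨z ^ k, pow_mem (Submonoid.mem_powers z) k⟩ → θ q = a)

include hθ in
theorem θ_mk (n : ℕ) (b : B) (x : A) (hx : x ∈ 𝒜 (n • 1)) (hxb : x = ι b * z ^ n) :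
    θ (Away.mk 𝒜 hz n x hx) = b := by
  apply hθ _ n b
  rw [Away.val_mk]
  subst hxb
  rfl

include hθ hι in
theorem θ_fromZero (b : B) :
    θ (fromZeroRingHom 𝒜 (Submonoid.powers z) (ιZero 𝒜 ι hι b)) = b := by
  apply hθ _ 0 b
  change Localization.mk (ι b) 1 = _
  rw [Localization.mk_eq_mk_iff, Localization.r_iff_exists]
  refine ⟨1, ?_⟩
  simp

include hθ hι hz hpoly in
theorem θ_bijective : Function.Bijective θ := by
  have hν : Function.Bijective (fun b : B => fromZeroRingHom 𝒜 (Submonoid.powers z) (ιZero 𝒜 ι hι b)) :=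
    (fromZeroRingHom_bijective 𝒜 ι hι z hz hpoly).comp (ιZero_bijective 𝒜 ι hι z hz hpoly)
  constructor
  · intro q q' h
    obtain ⟨b, rfl⟩ := hν.2 q
    obtain ⟨b', rfl⟩ := hν.2 q'
    simp only at h
    rw [θ_fromZero 𝒜 ι hι z θ hθ, θ_fromZero 𝒜 ι hι z θ hθ] at h
    rw [h]
  · intro b
    exact ⟨_, θ_fromZero 𝒜 ι hι z θ hθ b⟩

end theta

section nat
variable {A B : Type u} [CommRing A] [CommRing B] (𝒜 : ℕ → AddSubgroup A) [GradedRing 𝒜]
  (ι : B →+* A) (hι : ∀ b, ι b ∈ 𝒜 0) (z : A) (hz : z ∈ 𝒜 1)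
  (hpoly : Function.Bijective (eval₂RingHom ι z))
  (θ : Away 𝒜 z →+* B)
  (hθ : ∀ (q : Away 𝒜 z) (k : ℕ) (a : B),
    q.val = Localization.mk (ι a * z ^ k) ⟨z ^ k, pow_mem (Submonoid.mem_powers z) k⟩ → θ q = a)
  {A' B' : Type u} [CommRing A'] [CommRing B'] (𝒜' : ℕ → AddSubgroup A') [GradedRing 𝒜']
  (ι' : B' →+* A') (z' : A') (hz' : z' ∈ 𝒜' 1)
  (θ' : Away 𝒜' z' →+* B')
  (hθ' : ∀ (q : Away 𝒜' z') (k : ℕ) (a : B'),
    q.val = Localization.mk (ι' a * z' ^ k) ⟨z' ^ k, pow_mem (Submonoid.mem_powers z') k⟩ → θ' q = a)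
  (ρ : 𝒜 →+*ᵍ 𝒜') (ρB : B →+* B') (hρι : ∀ b, ρ (ι b) = ι' (ρB b)) (hρz : ρ z = z')

include hι hz hpoly hθ hθ' hρι in
/-- naturality of `θ` -/
theorem θ_nat (q : Away 𝒜 z) :
    ρB (θ q) = θ' (awayCast 𝒜' hρz (Away.map ρ z q)) := by
  obtain ⟨n, x, hx, rfl⟩ := Away.mk_surjective 𝒜 hz q
  obtain ⟨b, hb⟩ := exists_eq_mul_pow 𝒜 ι hι z hz hpoly _ x hx
  rw [smul_eq_mul, mul_one] at hb
  rw [θ_mk 𝒜 ι z hz θ hθ n b x hx hb, Away.map_mk, awayCast_mk]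
  symm
  apply hθ' _ n (ρB b)
  rw [Away.val_mk, hb, map_mul, map_pow, hρι, hρz]

end nat

end Groth.Agent.Helper13PolyProj
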