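import Mathlib
import Groth.Agent.Lib.Helper3HenselInt

/-!
Transfer of `HenselianLocalRing` along ring isomorphisms, a universe-polymorphic version of
"a local ring integral over a henselian local ring is henselian", and separable closedness of
residue fields of integral local extensions.
-/

set_option autoImplicit false
set_option linter.style.haveILetI false
set_option linter.unusedSectionVars false

namespace Groth.Agent.Lib.Helper16HenselInv

open Polynomial IsLocalRing

universe u v

theorem henselian_of_ringEquiv {V : Type*} {W : Type*} [CommRing V] [CommRing W]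
    [HenselianLocalRing V] (e : V ≃+* W) : HenselianLocalRing W := by
  haveI : IsLocalRing W := e.isLocalRing
  refine ⟨fun f hf a₀ h0 h1 => ?_⟩
  have key : ∀ (p : W[X]) (x : W),
      (p.map (e.symm : W →+* V)).eval (e.symm x) = e.symm (p.eval x) := by
    intro p x
    rw [Polynomial.eval_map]
    exact Polynomial.eval₂_at_apply (e.symm : W →+* V) x
  have hmem : ∀ x : W, x ∈ maximalIdeal W → e.symm x ∈ maximalIdeal V := by
    intro x hx
    rw [mem_maximalIdeal, mem_nonunits_iff] at hx ⊢
    rwa [isUnit_map_iff]
  have hmem' : ∀ x : V, x ∈ maximalIdeal V → e x ∈ maximalIdeal W := by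
    intro x hx
    rw [mem_maximalIdeal, mem_nonunits_iff] at hx ⊢
    rwa [isUnit_map_iff]
  obtain ⟨b, hb, hb'⟩ := HenselianLocalRing.is_henselian (f.map (e.symm : W →+* V))
    (hf.map _) (e.symm a₀) (by rw [key]; exact hmem _ h0)
    (by rw [Polynomial.derivative_map, key]; exact h1.map e.symm)
  refine ⟨e b, ?_, ?_⟩
  · have h3 := key f (e b)
    rw [e.symm_apply_apply] at h3
    rw [Polynomial.IsRoot.def] at hb ⊢
    rw [hb] at h3
    have := congrArg e h3
    rw [e.apply_symm_apply, map_zero] at this
    exact this.symm
  · have := hmem' _ hb'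
    rwa [map_sub, e.apply_symm_apply] at this

/-- A local ring integral over a henselian local ring is henselian (any universes). -/
theorem henselian_of_isIntegral' (S : Type u) (R : Type v) [CommRing S] [CommRing R]
    [HenselianLocalRing S] [IsLocalRing R] [Algebra S R] [Algebra.IsIntegral S R] :
    HenselianLocalRing R := by
  let eS : ULift.{v} S ≃+* S := ULift.ringEquiv
  let eR : ULift.{u} R ≃+* R := ULift.ringEquiv
  haveI : HenselianLocalRing (ULift.{v} S) := henselian_of_ringEquiv eS.symm
  haveI : IsLocalRing (ULift.{u} R) := eR.symm.isLocalRing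
  letI : Algebra (ULift.{v} S) (ULift.{u} R) :=
    ((eR.symm : R →+* ULift.{u} R).comp ((algebraMap S R).comp (eS : ULift.{v} S →+* S))).toAlgebra
  haveI : Algebra.IsIntegral (ULift.{v} S) (ULift.{u} R) := by
    refine ⟨fun x => ?_⟩
    obtain ⟨p, hp, hpx⟩ := Algebra.IsIntegral.isIntegral (R := S) (eR x)
    refine ⟨p.map (eS.symm : S →+* ULift.{v} S), hp.map _, ?_⟩
    rw [Polynomial.eval₂_map]
    have hcomp : (algebraMap (ULift.{v} S) (ULift.{u} R)).comp (eS.symm : S →+* ULift.{v} S)
        = (eR.symm : R →+* ULift.{u} R).comp (algebraMap S R) := by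
      ext s
      rfl
    rw [hcomp]
    have hx : x = (eR.symm : R →+* ULift.{u} R) (eR x) := (eR.symm_apply_apply x).symm
    rw [hx, ← Polynomial.hom_eval₂, hpx, map_zero]
  haveI := Groth.Agent.Lib.Helper3.HenselInt.henselian_of_isIntegral (ULift.{v} S) (ULift.{u} R)
  exact henselian_of_ringEquiv eR

theorem isSepClosed_of_ringEquiv {K K' : Type*} [Field K] [Field K'] [IsSepClosed K]
    (e : K ≃+* K') : IsSepClosed K' := by
  refine ⟨fun p hp => ?_⟩
  have h1 : (p.map (e.symm : K' →+* K)).Separable := hp.map
  have h2 := IsSepClosed.splits_of_separable _ h1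
  have h3 := h2.map (e : K →+* K')
  rw [Polynomial.map_map] at h3
  have h4 : (e : K →+* K').comp (e.symm : K' →+* K) = RingHom.id K' := by
    ext x; simp
  rwa [h4, Polynomial.map_id] at h3

/-- residue field of an integral local extension of a local ring with separably closed residue
field is separably closed. -/
theorem isSepClosed_residueField_of_isIntegral (S : Type u) (R : Type v) [CommRing S] [CommRing R]
    [IsLocalRing S] [IsLocalRing R] [Algebra S R] [IsLocalHom (algebraMap S R)]
    [Algebra.IsIntegral S R] [IsSepClosed (ResidueField S)] : IsSepClosed (ResidueField R) := by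
  haveI : Algebra.IsIntegral (ResidueField S) (ResidueField R) := by
    refine ⟨fun y => ?_⟩
    obtain ⟨r, rfl⟩ := residue_surjective y
    obtain ⟨p, hp, hpx⟩ := Algebra.IsIntegral.isIntegral (R := S) r
    refine ⟨p.map (residue S), hp.map _, ?_⟩
    rw [Polynomial.eval₂_map]
    have hcomp : (algebraMap (ResidueField S) (ResidueField R)).comp (residue S)
        = (residue R).comp (algebraMap S R) := by
      ext s
      rfl
    rw [hcomp, ← Polynomial.hom_eval₂, hpx, map_zero]
  exact Algebra.IsAlgebraic.isSepClosed (F := ResidueField S) (E := ResidueField R)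

end Groth.Agent.Lib.Helper16HenselInv
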