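import Mathlib
import Groth.Prelude.Def_PBC
import Groth.Agent.Lib.Helper3IndEt

set_option autoImplicit false
set_option linter.style.haveILetI false

open CategoryTheory CategoryTheory.Limits TensorProduct

universe u

namespace Groth.Agent.Lib.Helper3.IndZar

open Groth.Agent.Lib.Helper3.IndEt

/-- Constructing `IsIndZariski` from elementary filtered data. -/
theorem isIndZariski_of_filtered {A B : Type u} [CommRing A] [CommRing B] [Algebra A B]
    {J : Type u} [SmallCategory J] [IsFiltered J]
    (R : J → Type u) [∀ j, CommRing (R j)] [∀ j, Algebra A (R j)]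
    [∀ j, Algebra.IsLocalIso A (R j)]
    (t : ∀ {j k : J}, (j ⟶ k) → (R j →ₐ[A] R k))
    (t_id : ∀ j, t (𝟙 j) = AlgHom.id A (R j))
    (t_comp : ∀ {j k l : J} (f : j ⟶ k) (g : k ⟶ l), t (f ≫ g) = (t g).comp (t f))
    (ι : ∀ j, R j →ₐ[A] B)
    (compat : ∀ {j k : J} (g : j ⟶ k) (x : R j), ι k (t g x) = ι j x)
    (surj : ∀ b : B, ∃ j x, ι j x = b)
    (inj : ∀ j (x : R j), ι j x = 0 → ∃ k, ∃ g : j ⟶ k, t g x = 0) :
    EtPBC.IsIndZariski A B := by
  letI instR : ∀ j, Algebra (CommRingCat.of A) (R j) := fun j => inferInstanceAs (Algebra A (R j))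
  letI instB : Algebra (CommRingCat.of A) B := inferInstanceAs (Algebra A B)
  let D : J ⥤ Under (CommRingCat.of A) :=
    { obj := fun j => CommRingCat.mkUnder (CommRingCat.of A) (R j)
      map := fun {j k} g => AlgHom.toUnder (R := CommRingCat.of A) (t g)
      map_id := fun j => by
        rw [t_id]
        rfl
      map_comp := fun {j k l} f g => by
        rw [t_comp]
        rfl }
  let c : Cocone D :=
    { pt := CommRingCat.mkUnder (CommRingCat.of A) B
      ι :=
        { app := fun j => AlgHom.toUnder (R := CommRingCat.of A) (ι j)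
          naturality := fun j k g => by
            apply CommRingCat.mkUnder_ext
            intro x
            exact compat g x } }
  obtain ⟨hc⟩ := nonempty_isColimit_under D c
    (fun x => by
      obtain ⟨j, y, hy⟩ := surj x
      exact ⟨j, y, hy⟩)
    (fun j y hy => by
      obtain ⟨k, g, hg⟩ := inj j y hy
      exact ⟨k, g, hg⟩)
  refine ⟨J, inferInstance, inferInstance, D, c, hc, fun j => ?_, ⟨Iso.refl _⟩⟩
  show @Algebra.IsLocalIso A (R j) _ _ (RingHom.toAlgebra (algebraMap A (R j)))
  convert (inferInstance : Algebra.IsLocalIso A (R j))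
  exact Algebra.algebra_ext _ _ (fun r => rfl)

section idem

variable {A : Type u} [CommRing A]

/-- the join of two idempotents -/
theorem isIdempotentElem_join {e f : A} (he : IsIdempotentElem e) (hf : IsIdempotentElem f) :
    IsIdempotentElem (e + f - e * f) := by
  have he' : e * e = e := he
  have hf' : f * f = f := hf
  show (e + f - e * f) * (e + f - e * f) = e + f - e * f
  have : (e + f - e * f) * (e + f - e * f) =
      e * e + f * f + 2 * (e * f) - 2 * ((e * e) * f) - 2 * (e * (f * f)) + (e * e) * (f * f) := by ring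
  rw [this, he', hf']
  ring

theorem mul_join_left {e f : A} (he : IsIdempotentElem e) : e * (e + f - e * f) = e := by
  have he' : e * e = e := he
  have : e * (e + f - e * f) = e * e + e * f - (e * e) * f := by ring
  rw [this, he']; ring

theorem mul_join_right {e f : A} (hf : IsIdempotentElem f) : f * (e + f - e * f) = f := by
  have hf' : f * f = f := hf
  have : f * (e + f - e * f) = f * e + f * f - e * (f * f) := by ring
  rw [this, hf']; ring

/-- Elements of an ideal spanned by a join-closed set of idempotents are absorbed by one of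
them. -/
theorem exists_idem_absorb (S : Set A) (hS : ∀ e ∈ S, IsIdempotentElem e)
    (h0 : (0 : A) ∈ S) (hjoin : ∀ e ∈ S, ∀ f ∈ S, e + f - e * f ∈ S)
    {x : A} (hx : x ∈ Ideal.span S) : ∃ e ∈ S, x * e = x := by
  induction hx using Submodule.span_induction with
  | mem y hy => exact ⟨y, hy, hS y hy⟩
  | zero => exact ⟨0, h0, by simp⟩
  | add y z _ _ hy hz =>
    obtain ⟨e, heS, he⟩ := hy
    obtain ⟨f, hfS, hf⟩ := hz
    refine ⟨e + f - e * f, hjoin e heS f hfS, ?_⟩
    rw [add_mul]
    conv_lhs => rw [← he, ← hf, mul_assoc, mul_assoc, mul_join_left (hS e heS),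
      mul_join_right (hS f hfS)]
    rw [he, hf]
  | smul c y _ hy =>
    obtain ⟨e, heS, he⟩ := hy
    exact ⟨e, heS, by rw [smul_eq_mul, mul_assoc, he]⟩

/-- **Components of `Spec A` are separated by idempotents.** -/
theorem exists_idempotent_of_not_mem_connectedComponent (p q : PrimeSpectrum A)
    (hq : q ∉ connectedComponent p) :
    ∃ e : A, IsIdempotentElem e ∧ e ∈ p.asIdeal ∧ e ∉ q.asIdeal := by
  classical
  let S : Set A := {e | IsIdempotentElem e ∧ e ∈ p.asIdeal}
  have hSi : ∀ e ∈ S, IsIdempotentElem e := fun e he => he.1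
  have h0 : (0 : A) ∈ S := ⟨IsIdempotentElem.zero, zero_mem _⟩
  have hjoin : ∀ e ∈ S, ∀ f ∈ S, e + f - e * f ∈ S := fun e he f hf =>
    ⟨isIdempotentElem_join he.1 hf.1,
      sub_mem (add_mem he.2 hf.2) (Ideal.mul_mem_right _ _ he.2)⟩
  have hIp : Ideal.span S ≤ p.asIdeal := Ideal.span_le.mpr (fun e he => he.2)
  -- the quotient has only trivial idempotents
  have htriv : ∀ ebar : A ⧸ Ideal.span S, IsIdempotentElem ebar → ebar = 0 ∨ ebar = 1 := by
    intro ebar hebar
    obtain ⟨a, rfl⟩ := Ideal.Quotient.mk_surjective ebar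
    have ha : a * a - a ∈ Ideal.span S := by
      rw [← Ideal.Quotient.eq, map_mul]
      exact hebar
    obtain ⟨e, heS, he⟩ := exists_idem_absorb S hSi h0 hjoin ha
    have hee : e * e = e := heS.1
    let f := a * (1 - e)
    have hf : IsIdempotentElem f := by
      show f * f = f
      have h1 : f * f - f = (a * a - a) - (a * a - a) * e - a * a * (e - e * e) := by
        simp only [f]; ring
      have h2 : f * f - f = 0 := by
        rw [h1, he, hee]; ring
      exact sub_eq_zero.mp h2
    have hfa : Ideal.Quotient.mk (Ideal.span S) f = Ideal.Quotient.mk (Ideal.span S) a := by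
      rw [Ideal.Quotient.eq]
      have : f - a = -(a * e) := by simp only [f]; ring
      rw [this]
      exact neg_mem (Ideal.mul_mem_left _ _ (Ideal.subset_span heS))
    have hf0 : f * (1 - f) = 0 := by
      have : f * (1 - f) = f - f * f := by ring
      rw [this, hf.eq, sub_self]
    have hmem : f * (1 - f) ∈ p.asIdeal := by rw [hf0]; exact zero_mem _
    rcases p.2.mem_or_mem hmem with h | h
    · left
      rw [← hfa]
      exact Ideal.Quotient.eq_zero_iff_mem.mpr (Ideal.subset_span ⟨hf, h⟩)
    · right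
      rw [← hfa]
      have h1f : (1 - f) ∈ Ideal.span S := Ideal.subset_span ⟨hf.one_sub, h⟩
      have := Ideal.Quotient.eq_zero_iff_mem.mpr h1f
      rw [map_sub, map_one, sub_eq_zero] at this
      exact this.symm
  -- so its spectrum is preconnected
  haveI : PreconnectedSpace (PrimeSpectrum (A ⧸ Ideal.span S)) := by
    rw [preconnectedSpace_iff_clopen]
    intro s hs
    obtain ⟨ebar, hebar, rfl⟩ := PrimeSpectrum.isClopen_iff.mp hs
    rcases htriv ebar hebar with h | h
    · left; rw [h]; simp
    · right; rw [h]; simp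
  have hpre : _root_.IsPreconnected (Set.range (PrimeSpectrum.comap (Ideal.Quotient.mk (Ideal.span S)))) :=
    isPreconnected_range (PrimeSpectrum.continuous_comap _)
  have hrange : Set.range (PrimeSpectrum.comap (Ideal.Quotient.mk (Ideal.span S))) =
      PrimeSpectrum.zeroLocus (Ideal.span S : Set A) := by
    rw [_root_.range_comap_of_surjective _ _ Ideal.Quotient.mk_surjective, Ideal.mk_ker]
  rw [hrange] at hpre
  have hpZ : p ∈ PrimeSpectrum.zeroLocus (Ideal.span S : Set A) := hIp
  have hsub := hpre.subset_connectedComponent hpZ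
  have hqZ : q ∉ PrimeSpectrum.zeroLocus (Ideal.span S : Set A) := fun h => hq (hsub h)
  rw [PrimeSpectrum.zeroLocus_span] at hqZ
  simp only [PrimeSpectrum.mem_zeroLocus, Set.not_subset] at hqZ
  obtain ⟨e, heS, heq⟩ := hqZ
  exact ⟨e, heS.1, heS.2, heq⟩

end idem

section quotient

variable (A : Type u) [CommRing A]

/-- idempotents vanishing on `Z`, as a directed preorder -/
def IdemOn (Z : Set (PrimeSpectrum A)) : Type u :=
  {e : A // IsIdempotentElem e ∧ ∀ z ∈ Z, e ∈ z.asIdeal}

variable {A}

instance (Z : Set (PrimeSpectrum A)) : Preorder (IdemOn A Z) where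
  le e f := e.1 * f.1 = e.1
  le_refl e := e.2.1
  le_trans e f g hef hfg := by
    show e.1 * g.1 = e.1
    have h1 : e.1 * f.1 = e.1 := hef
    have h2 : f.1 * g.1 = f.1 := hfg
    rw [← h1, mul_assoc, h2]

theorem IdemOn.le_def {Z : Set (PrimeSpectrum A)} (e f : IdemOn A Z) : e ≤ f ↔ e.1 * f.1 = e.1 :=
  Iff.rfl

/-- the join -/
def IdemOn.join {Z : Set (PrimeSpectrum A)} (e f : IdemOn A Z) : IdemOn A Z :=
  ⟨e.1 + f.1 - e.1 * f.1, isIdempotentElem_join e.2.1 f.2.1, fun z hz =>
    sub_mem (add_mem (e.2.2 z hz) (f.2.2 z hz)) (Ideal.mul_mem_right _ _ (e.2.2 z hz))⟩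

instance (Z : Set (PrimeSpectrum A)) : IsDirectedOrder (IdemOn A Z) :=
  ⟨fun e f => ⟨e.join f, mul_join_left e.2.1, mul_join_right f.2.1⟩⟩

instance (Z : Set (PrimeSpectrum A)) : Nonempty (IdemOn A Z) :=
  ⟨⟨0, IsIdempotentElem.zero, fun z _ => zero_mem _⟩⟩

theorem span_le_of_le {Z : Set (PrimeSpectrum A)} {e f : IdemOn A Z} (h : e ≤ f) :
    Ideal.span {e.1} ≤ Ideal.span {f.1} := by
  rw [Ideal.span_singleton_le_span_singleton]
  exact Dvd.intro_left e.1 h

theorem isLocalIso_quot_idem {e : A} (he : IsIdempotentElem e) :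
    Algebra.IsLocalIso A (A ⧸ Ideal.span {e}) := by
  haveI : IsLocalization.Away (1 - e) (A ⧸ Ideal.span {e}) := by
    apply IsLocalization.away_of_isIdempotentElem he.one_sub
    · rw [sub_sub_cancel]
      exact Ideal.mk_ker
    · exact Ideal.Quotient.mk_surjective
  haveI : Algebra.IsStandardOpenImmersion A (A ⧸ Ideal.span {e}) := ⟨⟨1 - e, inferInstance⟩⟩
  infer_instance

set_option maxHeartbeats 1000000 in
/-- A closed subset of `Spec A` separated from its complement by idempotents is the spectrum of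
an ind-Zariski quotient of `A`. -/
theorem exists_indZariski_quotient (Z : Set (PrimeSpectrum A)) (hZ : IsClosed Z)
    (hsat : ∀ z ∈ Z, ∀ x ∉ Z, ∃ e : A, IsIdempotentElem e ∧ e ∈ z.asIdeal ∧ e ∉ x.asIdeal) :
    ∃ I : Ideal A, EtPBC.IsIndZariski A (A ⧸ I) ∧ PrimeSpectrum.zeroLocus (I : Set A) = Z := by
  classical
  let S : Set A := {e | IsIdempotentElem e ∧ ∀ z ∈ Z, e ∈ z.asIdeal}
  have hSi : ∀ e ∈ S, IsIdempotentElem e := fun e he => he.1
  have h0 : (0 : A) ∈ S := ⟨IsIdempotentElem.zero, fun z _ => zero_mem _⟩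
  have hjoin : ∀ e ∈ S, ∀ f ∈ S, e + f - e * f ∈ S := fun e he f hf =>
    ⟨isIdempotentElem_join he.1 hf.1, fun z hz =>
      sub_mem (add_mem (he.2 z hz) (hf.2 z hz)) (Ideal.mul_mem_right _ _ (he.2 z hz))⟩
  refine ⟨Ideal.span S, ?_, ?_⟩
  · -- ind-Zariski
    haveI : IsFiltered (IdemOn A Z) := isFiltered_of_directed_le_nonempty _
    haveI : ∀ e : IdemOn A Z, Algebra.IsLocalIso A (A ⧸ Ideal.span {e.1}) := fun e =>
      isLocalIso_quot_idem e.2.1
    have hleI : ∀ e : IdemOn A Z, Ideal.span {e.1} ≤ Ideal.span S := fun e => by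
      rw [Ideal.span_singleton_le_iff_mem]
      exact Ideal.subset_span e.2
    refine isIndZariski_of_filtered (J := IdemOn A Z) (fun e => A ⧸ Ideal.span {e.1})
      (fun {e f} h => Ideal.Quotient.factorₐ A (span_le_of_le (leOfHom h)))
      (fun e => ?_) (fun {e f g} h1 h2 => ?_)
      (fun e => Ideal.Quotient.factorₐ A (hleI e)) (fun {e f} h x => ?_) (fun b => ?_)
      (fun e x hx => ?_)
    · apply AlgHom.ext
      intro x
      obtain ⟨a, rfl⟩ := Ideal.Quotient.mk_surjective x
      rfl
    · apply AlgHom.ext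
      intro x
      obtain ⟨a, rfl⟩ := Ideal.Quotient.mk_surjective x
      rfl
    · obtain ⟨a, rfl⟩ := Ideal.Quotient.mk_surjective x
      rfl
    · obtain ⟨a, rfl⟩ := Ideal.Quotient.mk_surjective b
      exact ⟨⟨0, h0⟩, Ideal.Quotient.mk _ a, rfl⟩
    · obtain ⟨a, rfl⟩ := Ideal.Quotient.mk_surjective x
      have ha : a ∈ Ideal.span S := by
        have : Ideal.Quotient.mk (Ideal.span S) a = 0 := hx
        exact Ideal.Quotient.eq_zero_iff_mem.mp this
      obtain ⟨f, hfS, hf⟩ := exists_idem_absorb S hSi h0 hjoin ha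
      let f' : IdemOn A Z := ⟨f, hfS⟩
      have hle : e ≤ e.join f' := mul_join_left e.2.1
      refine ⟨e.join f', homOfLE hle, ?_⟩
      show Ideal.Quotient.mk (Ideal.span {(e.join f').1}) a = 0
      rw [Ideal.Quotient.eq_zero_iff_mem, Ideal.mem_span_singleton]
      refine Dvd.intro_left (a * f) ?_
      have hfk : f * (e.join f').1 = f := mul_join_right (e := e.1) hfS.1
      rw [mul_assoc, hfk, hf]
  · -- zero locus
    apply Set.Subset.antisymm
    · intro x hx
      by_contra hxZ
      choose ez hez using fun z : Z => hsat z.1 z.2 x hxZ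
      have hcov : Z ⊆ ⋃ z : Z, (PrimeSpectrum.basicOpen (1 - ez z) : Set (PrimeSpectrum A)) := by
        intro z hz
        refine Set.mem_iUnion.mpr ⟨⟨z, hz⟩, ?_⟩
        show (1 - ez ⟨z, hz⟩) ∉ z.asIdeal
        intro h1
        exact z.2.ne_top ((Ideal.eq_top_iff_one _).mpr (by
          have := add_mem h1 (hez ⟨z, hz⟩).2.1
          rwa [sub_add_cancel] at this))
      obtain ⟨t, ht⟩ := hZ.isCompact.elim_finite_subcover
        (fun z : Z => (PrimeSpectrum.basicOpen (1 - ez z) : Set (PrimeSpectrum A)))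
        (fun z => (PrimeSpectrum.basicOpen (1 - ez z)).isOpen) hcov
      let e : A := ∏ z ∈ t, ez z
      have heI : IsIdempotentElem e := by
        show e * e = e
        simp only [e]
        rw [← Finset.prod_mul_distrib]
        exact Finset.prod_congr rfl (fun z _ => (hez z).1)
      have heZ : ∀ z ∈ Z, e ∈ z.asIdeal := by
        intro z hz
        obtain ⟨z', hz'⟩ := Set.mem_iUnion.mp (ht hz)
        obtain ⟨hz't, hzz'⟩ := Set.mem_iUnion.mp hz'
        have h1 : (1 - ez z') ∉ z.asIdeal := hzz'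
        have h2 : ez z' * (1 - ez z') = 0 := by
          have : ez z' * (1 - ez z') = ez z' - ez z' * ez z' := by ring
          rw [this, (hez z').1.eq, sub_self]
        have h3 : ez z' ∈ z.asIdeal :=
          (z.2.mem_or_mem (h2 ▸ zero_mem z.asIdeal)).resolve_right h1
        exact (Ideal.IsPrime.prod_mem_iff).mpr ⟨z', hz't, h3⟩
      have hex : e ∈ x.asIdeal := hx (Ideal.subset_span ⟨heI, heZ⟩)
      obtain ⟨z', _, hz'⟩ := (Ideal.IsPrime.prod_mem_iff).mp hex
      exact (hez z').2.2 hz'
    · intro z hz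
      rw [PrimeSpectrum.zeroLocus_span]
      intro e he
      exact he.2 z hz

end quotient

end Groth.Agent.Lib.Helper3.IndZar
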