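import Mathlib
import Groth.Prelude.Def_PBC
import Groth.Agent.Lib.Helper3IndZarCrit

set_option autoImplicit false
set_option linter.style.haveILetI false

universe u

namespace Groth.Agent.Lib.Helper3.IdLoc

open Groth.Agent.Lib.Helper3.IndZarCrit

variable (A B : Type u) [CommRing A] [CommRing B] [Algebra A B]

/-- elementwise local surjectivity -/
def ELSurj : Prop :=
  ∀ (q : PrimeSpectrum B) (b : B), ∃ a s : A, ∃ t : B,
    s ∉ q.asIdeal.comap (algebraMap A B) ∧ t ∉ q.asIdeal ∧
      t * (algebraMap A B s * b - algebraMap A B a) = 0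

/-- elementwise local injectivity -/
def ELInj : Prop :=
  ∀ (q : PrimeSpectrum B) (a : A) (t : B), t ∉ q.asIdeal → t * algebraMap A B a = 0 →
    ∃ s : A, s ∉ q.asIdeal.comap (algebraMap A B) ∧ s * a = 0

variable {A B}

theorem elSurj_of_identifies (h1 : EtPBC.IdentifiesLocalRings A B) : ELSurj A B := by
  intro n b
  obtain ⟨z, hz⟩ := (h1 n).2 (algebraMap B (Localization.AtPrime n.asIdeal) b)
  obtain ⟨a, s, rfl⟩ := IsLocalization.exists_mk'_eq (n.asIdeal.comap (algebraMap A B)).primeCompl z
  rw [Localization.localRingHom_mk'] at hz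
  rw [eq_comm, IsLocalization.eq_mk'_iff_mul_eq] at hz
  rw [← map_mul, IsLocalization.eq_iff_exists n.asIdeal.primeCompl] at hz
  obtain ⟨t, ht⟩ := hz
  refine ⟨a, s, t, s.2, t.2, ?_⟩
  simp only at ht
  rw [mul_sub, mul_comm (algebraMap A B s) b, ht, sub_self]

theorem elInj_of_identifies (h1 : EtPBC.IdentifiesLocalRings A B) : ELInj A B := by
  intro n a t ht hta
  have h0 : algebraMap B (Localization.AtPrime n.asIdeal) (algebraMap A B a) = 0 := by
    rw [IsLocalization.map_eq_zero_iff n.asIdeal.primeCompl]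
    exact ⟨⟨t, ht⟩, hta⟩
  have hz : Localization.localRingHom (n.asIdeal.comap (algebraMap A B)) n.asIdeal
      (algebraMap A B) rfl (algebraMap A _ a) = 0 := by
    rw [Localization.localRingHom_to_map, h0]
  have h0' := (h1 n).1 (hz.trans (map_zero _).symm)
  rw [IsLocalization.map_eq_zero_iff (n.asIdeal.comap (algebraMap A B)).primeCompl] at h0'
  obtain ⟨s, hs⟩ := h0'
  exact ⟨s, s.2, hs⟩

theorem identifies_of_el (hs : ELSurj A B) (hi : ELInj A B) : EtPBC.IdentifiesLocalRings A B := by
  intro q
  constructor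
  · rw [injective_iff_map_eq_zero]
    intro z hz
    obtain ⟨a, s, rfl⟩ :=
      IsLocalization.exists_mk'_eq (q.asIdeal.comap (algebraMap A B)).primeCompl z
    rw [Localization.localRingHom_mk', IsLocalization.mk'_eq_zero_iff] at hz
    obtain ⟨t, ht⟩ := hz
    obtain ⟨s', hs', hs'a⟩ := hi q a t t.2 ht
    rw [IsLocalization.mk'_eq_zero_iff]
    exact ⟨⟨s', hs'⟩, hs'a⟩
  · intro w
    obtain ⟨b, t₀, rfl⟩ := IsLocalization.exists_mk'_eq q.asIdeal.primeCompl w
    obtain ⟨a, s, t, hsp, htq, hst⟩ := hs q b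
    obtain ⟨a', s', t', hsp', htq', hst'⟩ := hs q t₀
    have ha' : a' ∉ q.asIdeal.comap (algebraMap A B) := by
      intro hc
      have hc' : algebraMap A B a' ∈ q.asIdeal := hc
      have h1 : t' * (algebraMap A B s' * t₀) = t' * algebraMap A B a' := by
        rw [mul_sub, sub_eq_zero] at hst'
        exact hst'
      have h2 : t' * (algebraMap A B s' * t₀) ∈ q.asIdeal := by
        rw [h1]
        exact Ideal.mul_mem_left _ _ hc'
      rcases q.2.mem_or_mem h2 with h | h
      · exact htq' h
      · rcases q.2.mem_or_mem h with h | h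
        · exact hsp' h
        · exact t₀.2 h
    have hsa' : s * a' ∈ (q.asIdeal.comap (algebraMap A B)).primeCompl := by
      intro hc
      rcases (inferInstance : (q.asIdeal.comap (algebraMap A B)).IsPrime).mem_or_mem hc with h | h
      · exact hsp h
      · exact ha' h
    refine ⟨IsLocalization.mk' _ (a * s') ⟨s * a', hsa'⟩, ?_⟩
    rw [Localization.localRingHom_mk', IsLocalization.mk'_eq_iff_eq]
    rw [IsLocalization.eq_iff_exists q.asIdeal.primeCompl]
    refine ⟨⟨t * t', ?_⟩, ?_⟩
    · intro hc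
      rcases q.2.mem_or_mem hc with h | h
      · exact htq h
      · exact htq' h
    · rw [mul_sub, sub_eq_zero] at hst hst'
      simp only [map_mul]
      calc t * t' * (↑t₀ * (algebraMap A B a * algebraMap A B s'))
          = (t' * (algebraMap A B s' * t₀)) * (t * algebraMap A B a) := by ring
        _ = (t' * algebraMap A B a') * (t * (algebraMap A B s * b)) := by rw [hst', hst]
        _ = t * t' * (algebraMap A B s * algebraMap A B a' * b) := by ring

theorem identifies_iff : EtPBC.IdentifiesLocalRings A B ↔ ELSurj A B ∧ ELInj A B :=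
  ⟨fun h => ⟨elSurj_of_identifies h, elInj_of_identifies h⟩, fun h => identifies_of_el h.1 h.2⟩

/-- an element becoming a unit in `E_g` avoids primes not containing `g` -/
theorem notMem_of_isUnit_away {E : Type*} [CommRing E] (g y : E) (q : Ideal E) [q.IsPrime]
    (hg : g ∉ q) (hu : IsUnit (algebraMap E (Localization.Away g) y)) : y ∉ q := by
  intro hy
  obtain ⟨w, hw⟩ := hu.exists_right_inv
  obtain ⟨e, sg, rfl⟩ := IsLocalization.exists_mk'_eq (Submonoid.powers g) w
  obtain ⟨i, hi⟩ := sg.2
  rw [IsLocalization.mul_mk'_eq_mk'_of_mul, IsLocalization.mk'_eq_iff_eq_mul, one_mul,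
    IsLocalization.eq_iff_exists (Submonoid.powers g)] at hw
  obtain ⟨⟨_, j, rfl⟩, hj⟩ := hw
  simp only at hj
  have hi' : g ^ i = (sg : E) := hi
  have h1 : g ^ j * g ^ i ∈ q := by
    rw [hi', ← hj]
    exact Ideal.mul_mem_left _ _ (Ideal.mul_mem_right _ _ hy)
  rw [← pow_add] at h1
  exact hg (Ideal.IsPrime.mem_of_pow_mem inferInstance _ h1)

section localIso

variable {E : Type u} [CommRing E] [Algebra A E] [Algebra.IsLocalIso A E]

theorem exists_chart (q : PrimeSpectrum E) :
    ∃ (g : E) (a₀ : A), g ∉ q.asIdeal ∧ a₀ ∉ q.asIdeal.comap (algebraMap A E) ∧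
      IsLocalization.Away a₀ (Localization.Away g) := by
  obtain ⟨g, hg, hstd⟩ :=
    Algebra.IsLocalIso.exists_notMem_isStandardOpenImmersion (R := A) q.asIdeal
  obtain ⟨a₀, ha₀⟩ := hstd.exists_away
  refine ⟨g, a₀, hg, ?_, ha₀⟩
  have hu : IsUnit (algebraMap A (Localization.Away g) a₀) :=
    IsLocalization.Away.algebraMap_isUnit a₀
  rw [IsScalarTower.algebraMap_apply A E (Localization.Away g)] at hu
  exact notMem_of_isUnit_away g _ q.asIdeal hg hu

theorem elSurj_of_isLocalIso : ELSurj A E := by
  intro q x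
  obtain ⟨g, a₀, hg, ha₀, hloc⟩ := exists_chart (A := A) q
  obtain ⟨k, α, hα⟩ := IsLocalization.Away.surj a₀ (algebraMap E (Localization.Away g) x)
  have h0 : algebraMap E (Localization.Away g) (algebraMap A E (a₀ ^ k) * x - algebraMap A E α) = 0 := by
    rw [map_sub, map_mul, ← IsScalarTower.algebraMap_apply A E, ← IsScalarTower.algebraMap_apply A E,
      map_pow, mul_comm, hα, sub_self]
  rw [IsLocalization.map_eq_zero_iff (Submonoid.powers g)] at h0
  obtain ⟨⟨_, j, rfl⟩, hj⟩ := h0
  refine ⟨α, a₀ ^ k, g ^ j, ?_, ?_, hj⟩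
  · intro hc
    exact ha₀ (Ideal.IsPrime.mem_of_pow_mem inferInstance _ hc)
  · intro hc
    exact hg (Ideal.IsPrime.mem_of_pow_mem inferInstance _ hc)

theorem elInj_of_isLocalIso : ELInj A E := by
  intro q a x hx hxa
  obtain ⟨g, a₀, hg, ha₀, hloc⟩ := exists_chart (A := A) q
  obtain ⟨k, α, hα⟩ := IsLocalization.Away.surj a₀ (algebraMap E (Localization.Away g) x)
  -- α ∉ p
  have h0 : algebraMap E (Localization.Away g) (x * algebraMap A E (a₀ ^ k) - algebraMap A E α) = 0 := by
    rw [map_sub, map_mul, ← IsScalarTower.algebraMap_apply A E, ← IsScalarTower.algebraMap_apply A E,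
      map_pow, hα, sub_self]
  rw [IsLocalization.map_eq_zero_iff (Submonoid.powers g)] at h0
  obtain ⟨⟨_, i, rfl⟩, hi⟩ := h0
  simp only at hi
  have hαp : α ∉ q.asIdeal.comap (algebraMap A E) := by
    intro hc
    have hc' : algebraMap A E α ∈ q.asIdeal := hc
    rw [mul_sub, sub_eq_zero] at hi
    have h2 : g ^ i * (x * algebraMap A E (a₀ ^ k)) ∈ q.asIdeal := by
      rw [hi]
      exact Ideal.mul_mem_left _ _ hc'
    rcases q.2.mem_or_mem h2 with h | h
    · exact hg (Ideal.IsPrime.mem_of_pow_mem inferInstance _ h)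
    · rcases q.2.mem_or_mem h with h | h
      · exact hx h
      · rw [map_pow] at h
        exact ha₀ (show algebraMap A E a₀ ∈ q.asIdeal from Ideal.IsPrime.mem_of_pow_mem q.2 _ h)
  have h1 : algebraMap A (Localization.Away g) (α * a) = 0 := by
    rw [map_mul, ← hα, IsScalarTower.algebraMap_apply A E (Localization.Away g) a, mul_right_comm,
      ← map_mul, hxa, map_zero, zero_mul]
  rw [IsLocalization.map_eq_zero_iff (Submonoid.powers a₀)] at h1
  obtain ⟨⟨_, j, rfl⟩, hj⟩ := h1
  refine ⟨a₀ ^ j * α, ?_, ?_⟩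
  · intro hc
    rcases (inferInstance : (q.asIdeal.comap (algebraMap A E)).IsPrime).mem_or_mem hc with h | h
    · exact ha₀ (Ideal.IsPrime.mem_of_pow_mem inferInstance _ h)
    · exact hαp h
  · rw [mul_assoc]
    exact hj

end localIso

/-- ind-Zariski algebras identify local rings -/
theorem identifies_of_factor (H : Obj.Factor A B) : EtPBC.IdentifiesLocalRings A B := by
  classical
  apply identifies_of_el
  · intro q b
    let ψ : MvPolynomial (Fin 1) A →ₐ[A] B := MvPolynomial.aeval (fun _ => b)
    obtain ⟨E, _, _, _, u, v, huv⟩ := H _ ψ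
    have hvx : v (u (MvPolynomial.X 0)) = b := by
      have := congr($huv (MvPolynomial.X 0))
      rw [AlgHom.comp_apply] at this
      rw [this]
      simp [ψ]
    let q' : PrimeSpectrum E := PrimeSpectrum.comap v.toRingHom q
    obtain ⟨a, s, t', hs, ht', hst⟩ := elSurj_of_isLocalIso (A := A) q' (u (MvPolynomial.X 0))
    refine ⟨a, s, v t', ?_, ht', ?_⟩
    · intro hc
      apply hs
      show v (algebraMap A E s) ∈ q.asIdeal
      rw [v.commutes]
      exact hc
    · have := congr(v $hst)
      rw [map_mul, map_sub, map_mul, v.commutes, v.commutes, hvx, map_zero] at this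
      exact this
  · intro q a t ht hta
    let rel : MvPolynomial (Fin 1) A := MvPolynomial.C a * MvPolynomial.X 0
    let I : Ideal (MvPolynomial (Fin 1) A) := Ideal.span {rel}
    haveI : Algebra.FinitePresentation A (MvPolynomial (Fin 1) A ⧸ I) :=
      Algebra.FinitePresentation.quotient ⟨{rel}, by simp [I]⟩
    have hrel : MvPolynomial.aeval (fun _ : Fin 1 => t) rel = 0 := by
      simp only [rel, map_mul, MvPolynomial.aeval_C, MvPolynomial.aeval_X]
      rw [mul_comm]
      exact hta
    let ψ : (MvPolynomial (Fin 1) A ⧸ I) →ₐ[A] B :=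
      Ideal.Quotient.liftₐ I (MvPolynomial.aeval (fun _ => t)) (fun y hy => by
        obtain ⟨z, rfl⟩ := Ideal.mem_span_singleton'.mp hy
        rw [map_mul, hrel, mul_zero])
    obtain ⟨E, _, _, _, u, v, huv⟩ := H _ ψ
    obtain ⟨x, hx⟩ : ∃ x : E, x = u (Ideal.Quotient.mk I (MvPolynomial.X 0)) := ⟨_, rfl⟩
    have hvx : v x = t := by
      have := congr($huv (Ideal.Quotient.mk I (MvPolynomial.X 0)))
      rw [AlgHom.comp_apply] at this
      rw [hx, this]
      simp [ψ]
    have hxa : x * algebraMap A E a = 0 := by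
      have h1 : Ideal.Quotient.mk I rel = 0 :=
        Ideal.Quotient.eq_zero_iff_mem.mpr (Ideal.subset_span rfl)
      have h2 := congr(u $h1)
      rw [map_zero] at h2
      rw [← h2, hx, mul_comm]
      simp only [rel, map_mul]
      congr 1
      show algebraMap A E a = u (algebraMap A _ a)
      rw [u.commutes]
    let q' : PrimeSpectrum E := PrimeSpectrum.comap v.toRingHom q
    have hxq' : x ∉ q'.asIdeal := by
      intro hc
      have : v x ∈ q.asIdeal := hc
      rw [hvx] at this
      exact ht this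
    obtain ⟨s, hs, hsa⟩ := elInj_of_isLocalIso (A := A) q' a x hxq' hxa
    refine ⟨s, ?_, hsa⟩
    intro hc
    apply hs
    show v (algebraMap A E s) ∈ q.asIdeal
    rw [v.commutes]
    exact hc

theorem identifies_of_isIndZariski (h : EtPBC.IsIndZariski A B) : EtPBC.IdentifiesLocalRings A B :=
  identifies_of_factor (factor_of_isIndZariski h)

end Groth.Agent.Lib.Helper3.IdLoc
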