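import Mathlib
import Groth.Prelude.Def_PBC
import Groth.Agent.Lib.Helper3IndZarCrit

set_option autoImplicit false
set_option linter.style.haveILetI false

open CategoryTheory CategoryTheory.Limits TensorProduct

universe u

namespace Groth.Agent.Lib.Helper3.IndZarCrit

/-- local isomorphisms are flat -/
theorem flat_of_isLocalIso (A E : Type*) [CommRing A] [CommRing E] [Algebra A E]
    [Algebra.IsLocalIso A E] : Module.Flat A E := by
  apply Module.flat_of_isLocalized_span E E
    {g : E | Algebra.IsStandardOpenImmersion A (Localization.Away g)}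
    (Algebra.IsLocalIso.span_isStandardOpenImmersion_eq_top A E)
    (fun r => Localization.Away r.1)
    (fun r => (Algebra.linearMap E (Localization.Away r.1)))
  intro r
  obtain ⟨a, ha⟩ := r.2.exists_away
  exact IsLocalization.flat (Localization.Away r.1) (Submonoid.powers a)

/-- an algebra through whose maps from finitely presented algebras factor through local
isomorphisms is flat -/
theorem flat_of_factor {A B : Type u} [CommRing A] [CommRing B] [Algebra A B]
    (H : Obj.Factor A B) : Module.Flat A B := by
  refine Module.Flat.of_forall_isTrivialRelation fun {l f x} h => ?_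
  classical
  let rel : MvPolynomial (Fin l) A := ∑ i, MvPolynomial.C (f i) * MvPolynomial.X i
  let I : Ideal (MvPolynomial (Fin l) A) := Ideal.span {rel}
  haveI : Algebra.FinitePresentation A (MvPolynomial (Fin l) A ⧸ I) :=
    Algebra.FinitePresentation.quotient ⟨{rel}, by simp [I]⟩
  have hrel : MvPolynomial.aeval x rel = 0 := by
    simp only [rel, map_sum, map_mul, MvPolynomial.aeval_C, MvPolynomial.aeval_X]
    simp_rw [← Algebra.smul_def]
    exact h
  let ψ : (MvPolynomial (Fin l) A ⧸ I) →ₐ[A] B :=
    Ideal.Quotient.liftₐ I (MvPolynomial.aeval x) (fun a ha => by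
      obtain ⟨z, rfl⟩ := Ideal.mem_span_singleton'.mp ha
      rw [map_mul, hrel, mul_zero])
  obtain ⟨E, _, _, _, u, v, huv⟩ := H _ ψ
  haveI : Module.Flat A E := flat_of_isLocalIso A E
  let x' : Fin l → E := fun i => u (Ideal.Quotient.mk I (MvPolynomial.X i))
  have hx' : ∀ i, v (x' i) = x i := fun i => by
    have := congr($huv (Ideal.Quotient.mk I (MvPolynomial.X i)))
    rw [AlgHom.comp_apply] at this
    rw [this]
    simp [ψ]
  have h0 : ∑ i, f i • x' i = 0 := by
    have h1 : Ideal.Quotient.mk I rel = 0 :=
      Ideal.Quotient.eq_zero_iff_mem.mpr (Ideal.subset_span rfl)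
    have h2 := congr(u $h1)
    rw [map_zero] at h2
    rw [← h2]
    simp only [rel, map_sum, map_mul]
    refine Finset.sum_congr rfl (fun i _ => ?_)
    rw [Algebra.smul_def]
    congr 1
    show algebraMap A E (f i) = u (algebraMap A _ (f i))
    rw [u.commutes]
  have h0' : Module.IsTrivialRelation f x' := by
    apply Module.Flat.isTrivialRelation_of_sum_smul_eq_zero
    exact h0
  obtain ⟨k, a, y, hxy, hfa⟩ := h0'
  refine ⟨k, a, fun j => v (y j), fun i => ?_, hfa⟩
  rw [← hx', hxy, map_sum]
  refine Finset.sum_congr rfl (fun j _ => ?_)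
  rw [map_smul]

/-- ind-Zariski algebras are flat -/
theorem flat_of_isIndZariski {A B : Type u} [CommRing A] [CommRing B] [Algebra A B]
    (h : EtPBC.IsIndZariski A B) : Module.Flat A B :=
  flat_of_factor (factor_of_isIndZariski h)

end Groth.Agent.Lib.Helper3.IndZarCrit
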