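import Mathlib
import Groth.Agent.Lib.Helper26HenselLift

/-!
# Multivariable Hensel for fixed-point systems `x = a + G(x)`, `G ∈ I·A[x]` (helper26)

* `etale_away_jacobian`: for a square pre-submersive presentation, the localization at the
  jacobian is étale.
* `mem_range_of_fixedPoint`: `(A, I)` Henselian, `C` an `A`-algebra, `J ≤ Jac(C)` with `IC ≤ J`;
  any solution `x ∈ Cⁿ` of `x = a + G(x)` (with `G` having coefficients in `I`) comes from `A`.
-/

set_option autoImplicit false
universe u

open MvPolynomial

namespace Groth.Agent.Lib.Helper26.JacEtale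

open Groth.Agent.Lib.Helper26.HenselEtale Groth.Agent.Lib.Helper26.HenselUnique

section General

theorem etale_away_jacobian {A E : Type u} [CommRing A] [CommRing E] [Algebra A E] {ι σ : Type}
    [Finite ι] [Finite σ] (P : Algebra.PreSubmersivePresentation A E ι σ)
    (hcard : Nat.card ι = Nat.card σ) : Algebra.Etale A (Localization.Away P.jacobian) := by
  have hΔ : IsUnit (algebraMap E (Localization.Away P.jacobian) P.jacobian) :=
    IsLocalization.Away.algebraMap_isUnit _
  let Q : Algebra.SubmersivePresentation A (Localization.Away P.jacobian) _ _ :=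
    { toPreSubmersivePresentation :=
        .comp (.localizationAway (Localization.Away P.jacobian) P.jacobian) P
      jacobian_isUnit := by simpa [Algebra.smul_def, -isUnit_map_iff, hΔ] }
  have : Algebra.IsStandardSmoothOfRelativeDimension 0 A (Localization.Away P.jacobian) :=
    Q.isStandardSmoothOfRelativeDimension (by
      simp only [Algebra.PreSubmersivePresentation.dimension_comp_eq_dimension_add_dimension, Q]
      simp [Algebra.Presentation.dimension, hcard])
  infer_instance

end General

section Deriv

variable {A : Type u} [CommRing A] {σ : Type*}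

theorem pderiv_mem_map (I : Ideal A) (j : σ) (p : MvPolynomial σ A)
    (hp : p ∈ I.map (algebraMap A (MvPolynomial σ A))) :
    pderiv j p ∈ I.map (algebraMap A (MvPolynomial σ A)) := by
  rw [Ideal.map] at hp
  induction hp using Submodule.span_induction with
  | mem x hx =>
    obtain ⟨i, -, rfl⟩ := hx
    rw [MvPolynomial.algebraMap_eq, pderiv_C]
    exact Ideal.zero_mem _
  | zero => rw [map_zero]; exact Ideal.zero_mem _
  | add x y _ _ hx hy => rw [map_add]; exact Ideal.add_mem _ hx hy
  | smul q x hx ih =>
    rw [smul_eq_mul, Derivation.leibniz]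
    refine Ideal.add_mem _ (Ideal.mul_mem_left _ _ ih) ?_
    rw [smul_eq_mul]
    exact Ideal.mul_mem_right _ _ hx

theorem aeval_mem_map (I : Ideal A) {C : Type*} [CommRing C] [Algebra A C] (x : σ → C)
    (p : MvPolynomial σ A) (hp : p ∈ I.map (algebraMap A (MvPolynomial σ A))) :
    aeval x p ∈ I.map (algebraMap A C) := by
  have h1 : (I.map (algebraMap A (MvPolynomial σ A))).map (aeval x : MvPolynomial σ A →ₐ[A] C).toRingHom
      = I.map (algebraMap A C) := by
    rw [Ideal.map_map]
    congr 1
    ext r
    simp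
  rw [← h1]
  exact Ideal.mem_map_of_mem _ hp

end Deriv

section FixedPoint

variable {A : Type u} [CommRing A] (I : Ideal A) {n : ℕ} (a : Fin n → A)
  (G : Fin n → MvPolynomial (Fin n) A)

/-- The relations `X i - a i - G i`. -/
noncomputable def rel (i : Fin n) : MvPolynomial (Fin n) A := X i - C (a i) - G i

/-- The quotient `A[X]/(X i - a i - G i)`. -/
abbrev Quo : Type u := MvPolynomial (Fin n) A ⧸ Ideal.span (Set.range (rel a G))

/-- The naive square presentation. -/
noncomputable def pres : Algebra.PreSubmersivePresentation A (Quo a G) (Fin n) (Fin n) :=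
  Algebra.PreSubmersivePresentation.naive (v := rel a G) id Function.injective_id

/-- The Jacobian determinant as a polynomial. -/
noncomputable def jacPoly : MvPolynomial (Fin n) A := (pres a G).jacobiMatrix.det

theorem jacobian_eq : (pres a G).jacobian = Ideal.Quotient.mk _ (jacPoly a G) := by
  rw [Algebra.PreSubmersivePresentation.jacobian_eq_jacobiMatrix_det]
  rfl

variable {a G}

theorem one_sub_jacPoly_mem (hG : ∀ i, G i ∈ I.map (algebraMap A (MvPolynomial (Fin n) A))) :
    1 - jacPoly a G ∈ I.map (algebraMap A (MvPolynomial (Fin n) A)) := by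
  rw [← Ideal.Quotient.eq_zero_iff_mem, map_sub, map_one, sub_eq_zero, jacPoly, RingHom.map_det]
  have : (Ideal.Quotient.mk (I.map (algebraMap A (MvPolynomial (Fin n) A)))).mapMatrix
      (pres a G).jacobiMatrix = 1 := by
    ext i j
    have e : pderiv i (rel a G j) =
        (Pi.single i 1 : Fin n → MvPolynomial (Fin n) A) j - pderiv i (G j) := by
      rw [rel, map_sub, map_sub, pderiv_X, pderiv_C, sub_zero]
    rw [RingHom.mapMatrix_apply, Matrix.map_apply, pres,
      Algebra.PreSubmersivePresentation.jacobiMatrix_naive, id_eq, e, map_sub,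
      Ideal.Quotient.eq_zero_iff_mem.mpr (pderiv_mem_map I _ _ (hG j)), sub_zero,
      Matrix.one_apply, Pi.single_apply]
    split_ifs with h1 h2 h2
    · exact map_one _
    · exact absurd h1.symm h2
    · exact absurd h2.symm h1
    · exact map_zero _
  rw [this, Matrix.det_one]

instance etale_away : Algebra.Etale A (Localization.Away (pres a G).jacobian) :=
  etale_away_jacobian (pres a G) rfl

/-- The generators of the localization. -/
noncomputable def gen (a : Fin n → A) (G : Fin n → MvPolynomial (Fin n) A) (i : Fin n) :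
    Localization.Away (pres a G).jacobian :=
  algebraMap (Quo a G) _ (Ideal.Quotient.mk _ (X i))

theorem algHom_ext_away {C : Type*} [CommRing C] [Algebra A C]
    (k₁ k₂ : Localization.Away (pres a G).jacobian →ₐ[A] C)
    (h : ∀ i, k₁ (gen a G i) = k₂ (gen a G i)) : k₁ = k₂ := by
  apply IsLocalization.algHom_ext (Submonoid.powers (pres a G).jacobian)
  apply Ideal.Quotient.algHom_ext
  apply MvPolynomial.algHom_ext
  intro i
  exact h i

/-- A solution of the fixed point system in `C` (with `IC ≤ J ≤ Jac C`) gives an algebra map. -/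
theorem exists_algHom_of_fixedPoint
    (hG : ∀ i, G i ∈ I.map (algebraMap A (MvPolynomial (Fin n) A)))
    {C : Type*} [CommRing C] [Algebra A C] (J : Ideal C) (hJ : J ≤ Ideal.jacobson ⊥)
    (hIJ : I.map (algebraMap A C) ≤ J) (x : Fin n → C)
    (hx : ∀ i, x i = algebraMap A C (a i) + aeval x (G i)) :
    ∃ ν : Localization.Away (pres a G).jacobian →ₐ[A] C, ∀ i, ν (gen a G i) = x i := by
  have hker : ∀ p ∈ Ideal.span (Set.range (rel a G)), (aeval x : MvPolynomial (Fin n) A →ₐ[A] C) p = 0 := by
    intro p hp
    have hle : Ideal.span (Set.range (rel a G)) ≤ RingHom.ker (aeval x : MvPolynomial (Fin n) A →ₐ[A] C) := by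
      rw [Ideal.span_le]
      rintro _ ⟨i, rfl⟩
      rw [SetLike.mem_coe, RingHom.mem_ker, rel, map_sub, map_sub, aeval_X, aeval_C]
      rw [hx i]; ring
    exact hle hp
  let ν₁ : Quo a G →ₐ[A] C := Ideal.Quotient.liftₐ _ (aeval x) hker
  have hunit : IsUnit (ν₁ (pres a G).jacobian) := by
    rw [jacobian_eq]
    change IsUnit (aeval x (jacPoly a G))
    apply isUnit_of_sub_one_mem J hJ
    have h1 := aeval_mem_map I x _ (one_sub_jacPoly_mem (a := a) I hG)
    rw [map_sub, map_one] at h1
    have h2 := hIJ h1
    have h3 := J.neg_mem h2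
    simpa using h3
  refine ⟨IsLocalization.Away.liftAlgHom (f := ν₁) (pres a G).jacobian hunit, ?_⟩
  intro i
  rw [gen, IsLocalization.Away.coe_liftAlgHom, IsLocalization.Away.lift_eq]
  change aeval x (X i) = x i
  rw [aeval_X]

/-- **Multivariable Hensel, uniqueness/descent form**: any solution of `x = a + G(x)` in `C`
comes from `A`. -/
theorem mem_range_of_fixedPoint [HenselianRing A I]
    (hG : ∀ i, G i ∈ I.map (algebraMap A (MvPolynomial (Fin n) A)))
    {C : Type u} [CommRing C] [Algebra A C] (J : Ideal C) (hJ : J ≤ Ideal.jacobson ⊥)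
    (hIJ : I.map (algebraMap A C) ≤ J) (x : Fin n → C)
    (hx : ∀ i, x i = algebraMap A C (a i) + aeval x (G i)) (i : Fin n) :
    x i ∈ Set.range (algebraMap A C) := by
  -- the map to A/I
  have hx₀ : ∀ i, (fun i => Ideal.Quotient.mk I (a i)) i =
      algebraMap A (A ⧸ I) (a i) + aeval (fun i => Ideal.Quotient.mk I (a i)) (G i) := by
    intro i
    have h1 := aeval_mem_map I (fun i => Ideal.Quotient.mk I (a i)) _ (hG i)
    rw [Ideal.Quotient.algebraMap_eq, Ideal.map_quotient_self, Ideal.mem_bot] at h1
    rw [h1, add_zero]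
    rfl
  obtain ⟨ρ, hρ⟩ := exists_algHom_of_fixedPoint I hG (⊥ : Ideal (A ⧸ I)) bot_le
    (by rw [Ideal.Quotient.algebraMap_eq, Ideal.map_quotient_self]) _ hx₀
  obtain ⟨τ, hτ⟩ := etale_lift A I _ ρ
  obtain ⟨ν, hν⟩ := exists_algHom_of_fixedPoint I hG J hJ hIJ x hx
  have hτgen : ∀ i, τ (gen a G i) - a i ∈ I := by
    intro i
    have := congrArg (fun k : Localization.Away (pres a G).jacobian →ₐ[A] A ⧸ I => k (gen a G i)) hτ
    simp only [AlgHom.coe_comp, Function.comp_apply, Ideal.Quotient.mkₐ_eq_mk, hρ] at this
    rwa [Ideal.Quotient.mk_eq_mk_iff_sub_mem] at this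
  have hk : (Ideal.Quotient.mkₐ A J).comp ν =
      (Ideal.Quotient.mkₐ A J).comp ((Algebra.ofId A C).comp τ) := by
    apply algHom_ext_away
    intro i
    simp only [AlgHom.coe_comp, Function.comp_apply, Ideal.Quotient.mkₐ_eq_mk, hν,
      Algebra.ofId_apply]
    rw [Ideal.Quotient.mk_eq_mk_iff_sub_mem, hx i]
    have h1 : aeval x (G i) ∈ J := hIJ (aeval_mem_map I x _ (hG i))
    have h2 : algebraMap A C (τ (gen a G i) - a i) ∈ J :=
      hIJ (Ideal.mem_map_of_mem _ (hτgen i))
    have h3 : algebraMap A C (a i) + aeval x (G i) - algebraMap A C (τ (gen a G i)) =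
        aeval x (G i) - algebraMap A C (τ (gen a G i) - a i) := by
      rw [map_sub]; ring
    rw [h3]
    exact J.sub_mem h1 h2
  have hνeq : ν = (Algebra.ofId A C).comp τ := by
    apply algHom_eq_of_sub_mem_jacobson J hJ
    intro y
    have := congrArg (fun k : Localization.Away (pres a G).jacobian →ₐ[A] C ⧸ J => k y) hk
    simp only [AlgHom.coe_comp, Function.comp_apply, Ideal.Quotient.mkₐ_eq_mk] at this
    rwa [Ideal.Quotient.mk_eq_mk_iff_sub_mem] at this
  refine ⟨τ (gen a G i), ?_⟩
  rw [← hν i, hνeq]
  rfl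

end FixedPoint

end Groth.Agent.Lib.Helper26.JacEtale
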