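import Mathlib
import Groth.Agent.Lib.Helper26JacEtale

/-!
# Global lifting of étale algebras along a quotient map (helper3)

`exists_etale_lift`: for a ring `R`, an ideal `I` and an étale `R ⧸ I`-algebra `Eb` there is an
étale `R`-algebra `E` with a surjective `R`-algebra map `E → Eb` whose kernel is `I E`.
-/

set_option autoImplicit false
set_option linter.style.haveILetI false

universe u

open MvPolynomial

namespace Groth.Agent.Lib.Helper3.EtLift

theorem aeval_map_mk {R : Type*} [CommRing R] (I : Ideal R) {Eb : Type*} [CommRing Eb]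
    [Algebra (R ⧸ I) Eb] [Algebra R Eb] [IsScalarTower R (R ⧸ I) Eb] {ι : Type*} (v : ι → Eb)
    (q : MvPolynomial ι R) :
    aeval v (MvPolynomial.map (Ideal.Quotient.mk I) q) = aeval v q := by
  rw [aeval_def, eval₂_map, aeval_def]
  congr 1
  exact (IsScalarTower.algebraMap_eq R (R ⧸ I) Eb).symm

/-- **Global lifting of étale algebras along a quotient map.** -/
theorem exists_etale_lift (R : Type u) [CommRing R] (I : Ideal R) (Eb : Type u) [CommRing Eb]
    [Algebra (R ⧸ I) Eb] [Algebra R Eb] [IsScalarTower R (R ⧸ I) Eb] [Algebra.Etale (R ⧸ I) Eb] :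
    ∃ (E : Type u) (_ : CommRing E) (_ : Algebra R E) (_ : Algebra.Etale R E) (ψ : E →ₐ[R] Eb),
      Function.Surjective ψ ∧ RingHom.ker ψ.toRingHom = I.map (algebraMap R E) := by
  classical
  obtain ⟨ι, σ, hσ, hι, P, hdim⟩ :=
    (Algebra.Etale.iff_isStandardSmoothOfRelativeDimension_zero.mp
      (inferInstance : Algebra.Etale (R ⧸ I) Eb)).out
  have hcard : Nat.card ι = Nat.card σ := by
    have h1 := P.card_relations_le_card_vars_of_isFinite
    have h2 : Nat.card ι - Nat.card σ = 0 := hdim
    omega
  have hmapsurj : Function.Surjective (MvPolynomial.map (σ := ι) (Ideal.Quotient.mk I)) :=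
    MvPolynomial.map_surjective _ Ideal.Quotient.mk_surjective
  choose rel' hrel' using fun s => hmapsurj (P.relation s)
  let P0 : Algebra.PreSubmersivePresentation R
      (MvPolynomial ι R ⧸ Ideal.span (Set.range rel')) ι σ :=
    Algebra.PreSubmersivePresentation.naive (v := rel') P.map P.map_inj
  have hE : Algebra.Etale R (Localization.Away P0.jacobian) :=
    Groth.Agent.Lib.Helper26.JacEtale.etale_away_jacobian P0 hcard
  let ψ00 : MvPolynomial ι R →ₐ[R] Eb := MvPolynomial.aeval P.val
  have hψ00 : ∀ q, ψ00 q = aeval P.val (MvPolynomial.map (Ideal.Quotient.mk I) q) :=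
    fun q => (aeval_map_mk I P.val q).symm
  have hker0 : ∀ a ∈ Ideal.span (Set.range rel'), ψ00 a = 0 := by
    intro a ha
    have : Ideal.span (Set.range rel') ≤ RingHom.ker ψ00.toRingHom := by
      rw [Ideal.span_le]
      rintro _ ⟨s, rfl⟩
      show ψ00 _ = 0
      rw [hψ00, hrel', P.aeval_val_relation]
    exact this ha
  let ψ0 : (MvPolynomial ι R ⧸ Ideal.span (Set.range rel')) →ₐ[R] Eb :=
    Ideal.Quotient.liftₐ _ ψ00 hker0
  have hψ0 : ∀ q, ψ0 (Ideal.Quotient.mk (Ideal.span (Set.range rel')) q) = ψ00 q := fun q => rfl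
  haveI : Fintype σ := Fintype.ofFinite σ
  have hjm : (P0.jacobiMatrix).map (MvPolynomial.map (Ideal.Quotient.mk I)) = P.jacobiMatrix := by
    ext i j
    rw [Matrix.map_apply, Algebra.PreSubmersivePresentation.jacobiMatrix_naive,
      P.jacobiMatrix_apply, ← hrel', MvPolynomial.pderiv_map]
  have hjac : ψ0 P0.jacobian = P.jacobian := by
    rw [P0.jacobian_eq_jacobiMatrix_det, P.jacobian_eq_jacobiMatrix_det, ← hjm]
    show ψ0 (Ideal.Quotient.mk _ P0.jacobiMatrix.det) = _
    rw [hψ0, hψ00, RingHom.map_det, P.algebraMap_apply]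
    rfl
  have hunit : IsUnit (ψ0 P0.jacobian) := hjac ▸ P.jacobian_isUnit
  have hunit' : ∀ y : Submonoid.powers P0.jacobian, IsUnit (ψ0 y) := by
    rintro ⟨_, n, rfl⟩
    rw [map_pow]
    exact hunit.pow n
  let ψ : Localization.Away P0.jacobian →ₐ[R] Eb := IsLocalization.liftAlgHom hunit'
  have hψ : ∀ e0, ψ (algebraMap _ _ e0) = ψ0 e0 := fun e0 => IsLocalization.lift_eq _ _
  refine ⟨Localization.Away P0.jacobian, inferInstance, inferInstance, hE, ψ, ?_, ?_⟩
  · intro eb
    obtain ⟨qb, hqb⟩ := P.algebraMap_surjective eb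
    obtain ⟨q, rfl⟩ := hmapsurj qb
    refine ⟨algebraMap _ _ (Ideal.Quotient.mk (Ideal.span (Set.range rel')) q), ?_⟩
    rw [hψ, hψ0, hψ00, ← P.algebraMap_apply, hqb]
  · apply le_antisymm
    · intro ξ hξ
      rw [RingHom.mem_ker] at hξ
      obtain ⟨e0, s, rfl⟩ := IsLocalization.exists_mk'_eq (Submonoid.powers P0.jacobian) ξ
      have h1 : ψ0 e0 = 0 := by
        have := IsLocalization.mk'_spec (Localization.Away P0.jacobian) e0 s
        have h2 := congrArg ψ this
        rw [map_mul, hψ, hψ] at h2
        have h3 : ψ (IsLocalization.mk' (Localization.Away P0.jacobian) e0 s) = 0 := hξ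
        rw [h3, zero_mul] at h2
        exact h2.symm
      obtain ⟨q, rfl⟩ := Ideal.Quotient.mk_surjective e0
      rw [hψ0, hψ00] at h1
      have h2 : MvPolynomial.map (Ideal.Quotient.mk I) q ∈ P.ker := by
        rw [P.ker_eq_ker_aeval_val, RingHom.mem_ker]
        exact h1
      rw [← P.span_range_relation_eq_ker] at h2
      have h3 : Ideal.span (Set.range P.relation) =
          Ideal.map (MvPolynomial.map (Ideal.Quotient.mk I)) (Ideal.span (Set.range rel')) := by
        rw [Ideal.map_span, ← Set.range_comp]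
        congr 2
        funext s
        exact (hrel' s).symm
      rw [h3, Ideal.mem_map_iff_of_surjective _ hmapsurj] at h2
      obtain ⟨q2, hq2, hq2'⟩ := h2
      have h4 : q - q2 ∈ Ideal.map (C : R →+* MvPolynomial ι R) I := by
        have : q - q2 ∈ RingHom.ker (MvPolynomial.map (σ := ι) (Ideal.Quotient.mk I)) := by
          rw [RingHom.mem_ker, map_sub, hq2', sub_self]
        rw [MvPolynomial.ker_map, Ideal.mk_ker] at this
        exact this
      have h5 : (Ideal.Quotient.mk (Ideal.span (Set.range rel')) q) =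
          Ideal.Quotient.mk (Ideal.span (Set.range rel')) (q - q2) := by
        rw [map_sub, Ideal.Quotient.eq_zero_iff_mem.mpr hq2, sub_zero]
      have h6 : algebraMap (MvPolynomial ι R ⧸ Ideal.span (Set.range rel'))
          (Localization.Away P0.jacobian) (Ideal.Quotient.mk _ q) ∈
          I.map (algebraMap R (Localization.Away P0.jacobian)) := by
        rw [h5]
        have : I.map (algebraMap R (Localization.Away P0.jacobian)) =
            (Ideal.map (C : R →+* MvPolynomial ι R) I).map
              ((algebraMap (MvPolynomial ι R ⧸ Ideal.span (Set.range rel'))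
                (Localization.Away P0.jacobian)).comp (Ideal.Quotient.mk _)) := by
          rw [Ideal.map_map]
          congr 1
        rw [this]
        exact Ideal.mem_map_of_mem _ h4
      have h7 := IsLocalization.mk'_spec (Localization.Away P0.jacobian)
        (Ideal.Quotient.mk (Ideal.span (Set.range rel')) q) s
      rw [← h7] at h6
      exact (Ideal.mul_unit_mem_iff_mem _ (IsLocalization.map_units _ s)).mp h6
    · rw [Ideal.map_le_iff_le_comap]
      intro a ha
      rw [Ideal.mem_comap, RingHom.mem_ker]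
      show ψ (algebraMap R _ a) = 0
      rw [ψ.commutes, IsScalarTower.algebraMap_apply R (R ⧸ I) Eb,
        Ideal.Quotient.algebraMap_eq, Ideal.Quotient.eq_zero_iff_mem.mpr ha, map_zero]

end Groth.Agent.Lib.Helper3.EtLift
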