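import Mathlib
import Groth.Prelude.Def_PBC
import Groth.Agent.Lib.Helper3IndEt
import Groth.Agent.Lib.Helper3EtLift

/-!
# Lifting ind-étale algebras along a quotient map (helper3)
-/

set_option autoImplicit false
set_option linter.style.haveILetI false

open CategoryTheory CategoryTheory.Limits TensorProduct

universe u

namespace Groth.Agent.Lib.Helper3.IndEt

namespace Obj

variable {A B : Type u} [CommRing A] [CommRing B] [Algebra A B]

/-- Coequalizers in the category of étale algebras over an arbitrary target. -/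
theorem exists_coeq {j k : Obj A B} (f g : j ⟶ k) : ∃ (l : Obj A B) (h : k ⟶ l), f ≫ h = g ≫ h := by
  classical
  let t := Algebra.FormallyUnramified.elem A j.E
  let m : j.E ⊗[A] j.E →ₐ[A] k.E := Algebra.TensorProduct.productMap f.1 g.1
  let u : k.E := m t
  have hu1 : ∀ s : j.E, (g.1 s - f.1 s) * u = 0 := by
    intro s
    have := congrArg m (Algebra.FormallyUnramified.one_tmul_sub_tmul_one_mul_elem (R := A) s)
    rw [map_mul, map_sub, map_zero] at this
    simpa [m] using this
  have hu2 : k.φ u = 1 := by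
    have hcomp : (k.φ.comp m) = j.φ.comp (Algebra.TensorProduct.lmul' A (S := j.E)) := by
      apply Algebra.TensorProduct.ext'
      intro a b
      have h1 := congr($(f.2) a)
      have h2 := congr($(g.2) b)
      rw [AlgHom.comp_apply] at h1 h2
      simp [m, h1, h2]
    have := congr($hcomp t)
    rw [AlgHom.comp_apply, AlgHom.comp_apply, Algebra.FormallyUnramified.lmul_elem, map_one] at this
    exact this
  haveI : Algebra.Etale k.E (Localization.Away u) := Algebra.Etale.of_isLocalizationAway u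
  haveI : Algebra.Etale A (Localization.Away u) := Algebra.Etale.comp A k.E (Localization.Away u)
  have hunit : ∀ y : Submonoid.powers u, IsUnit (k.φ y) := by
    rintro ⟨_, n, rfl⟩
    rw [map_pow, hu2, one_pow]
    exact isUnit_one
  let φl : Localization.Away u →ₐ[A] B := IsLocalization.liftAlgHom hunit
  have hφl : ∀ x, φl (algebraMap k.E _ x) = k.φ x := fun x => IsLocalization.lift_eq _ _
  obtain ⟨l, e, he⟩ := exists_obj A φl
  refine ⟨l, ⟨(e.symm : Localization.Away u →ₐ[A] l.E).comp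
    (IsScalarTower.toAlgHom A k.E (Localization.Away u)), ?_⟩, ?_⟩
  · rw [← he]
    apply AlgHom.ext
    intro x
    show φl (e (e.symm (algebraMap k.E _ x))) = k.φ x
    rw [e.apply_symm_apply, hφl]
  · apply Subtype.ext
    rw [comp_val, comp_val]
    apply AlgHom.ext
    intro s
    show e.symm (algebraMap k.E _ (f.1 s)) = e.symm (algebraMap k.E _ (g.1 s))
    congr 1
    rw [IsLocalization.eq_iff_exists (Submonoid.powers u)]
    refine ⟨⟨u, 1, pow_one u⟩, ?_⟩
    have := hu1 s
    rw [sub_mul, sub_eq_zero] at this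
    show u * f.1 s = u * g.1 s
    rw [mul_comm, ← this, mul_comm]

/-- The category of étale `A`-algebras over an arbitrary `A`-algebra `B` is filtered. -/
theorem isFiltered_general : IsFiltered (Obj A B) := by
  haveI : Nonempty (Obj A B) := by
    obtain ⟨j, -, -⟩ := exists_obj A (Algebra.ofId A B)
    exact ⟨j⟩
  haveI : IsFilteredOrEmpty (Obj A B) := by
    refine ⟨fun j k => ?_, fun j k f g => ?_⟩
    · haveI := etale_tensor A j.E k.E
      obtain ⟨l, e, he⟩ := exists_obj A (E := j.E ⊗[A] k.E)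
        (Algebra.TensorProduct.productMap j.φ k.φ)
      refine ⟨l, ⟨(e.symm : j.E ⊗[A] k.E →ₐ[A] l.E).comp Algebra.TensorProduct.includeLeft, ?_⟩,
        ⟨(e.symm : j.E ⊗[A] k.E →ₐ[A] l.E).comp Algebra.TensorProduct.includeRight, ?_⟩, trivial⟩
      · rw [← he]
        ext x
        simp
      · rw [← he]
        ext x
        simp
    · obtain ⟨l, h, hh⟩ := exists_coeq f g
      exact ⟨l, h, hh⟩
  exact {}

end Obj

/-- Concrete description of a filtered colimit of commutative rings. -/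
theorem exists_colimit_ring {J : Type u} [SmallCategory J] [IsFiltered J]
    (R : J → Type u) [∀ j, CommRing (R j)]
    (t : ∀ {j k : J}, (j ⟶ k) → (R j →+* R k))
    (t_id : ∀ j, t (𝟙 j) = RingHom.id (R j))
    (t_comp : ∀ {j k l : J} (f : j ⟶ k) (g : k ⟶ l), t (f ≫ g) = (t g).comp (t f)) :
    ∃ (C : Type u) (_ : CommRing C) (ι : ∀ j, R j →+* C),
      (∀ {j k : J} (g : j ⟶ k) (x : R j), ι k (t g x) = ι j x) ∧
      (∀ c : C, ∃ j x, ι j x = c) ∧
      (∀ j (x : R j), ι j x = 0 → ∃ k, ∃ g : j ⟶ k, t g x = 0) ∧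
      (∀ (T : Type u) [CommRing T] (ψ : ∀ j, R j →+* T),
        (∀ {j k : J} (g : j ⟶ k) (x : R j), ψ k (t g x) = ψ j x) →
        ∃ Ψ : C →+* T, ∀ j x, Ψ (ι j x) = ψ j x) := by
  let F : J ⥤ CommRingCat.{u} :=
    { obj := fun j => CommRingCat.of (R j)
      map := fun g => CommRingCat.ofHom (t g)
      map_id := fun j => by rw [t_id]; rfl
      map_comp := fun f g => by rw [t_comp]; rfl }
  refine ⟨(colimit F : CommRingCat.{u}), inferInstance, fun j => (colimit.ι F j).hom, ?_, ?_, ?_, ?_⟩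
  · intro j k g x
    have := colimit.w F g
    exact congr($(this).hom x)
  · intro c
    obtain ⟨j, y, hy⟩ := Concrete.colimit_exists_rep F c
    exact ⟨j, y, hy⟩
  · intro j x hx
    have h0 : colimit.ι F j x = colimit.ι F j (0 : R j) := by
      rw [map_zero]; exact hx
    obtain ⟨k, f, g, hfg⟩ := (Concrete.colimit_rep_eq_iff_exists F x (0 : R j)).mp h0
    refine ⟨k, f, ?_⟩
    have h1 : t f x = t g 0 := hfg
    rw [h1, map_zero]
  · intro T _ ψ hψ
    let c : Cocone F :=
      { pt := CommRingCat.of T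
        ι :=
          { app := fun j => CommRingCat.ofHom (ψ j)
            naturality := fun j k g => by
              ext x
              exact hψ g x } }
    refine ⟨(colimit.desc F c).hom, fun j x => ?_⟩
    have := colimit.ι_desc c j
    exact congr($(this).hom x)


theorem mem_map_of_algHom {A X Y : Type*} [CommRing A] [CommRing X] [CommRing Y] [Algebra A X]
    [Algebra A Y] (θ : X →ₐ[A] Y) (I : Ideal A) {x : X} (hx : x ∈ I.map (algebraMap A X)) :
    θ x ∈ I.map (algebraMap A Y) := by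
  have := Ideal.mem_map_of_mem θ.toRingHom hx
  rwa [Ideal.map_map, AlgHom.toRingHom_eq_coe, θ.comp_algebraMap] at this


/-- Killing an element of the kernel modulo `I` by passing to a further étale algebra. -/
theorem exists_kill (A : Type u) [CommRing A] (I : Ideal A) (Cb : Type u)
    [CommRing Cb] [Algebra (A ⧸ I) Cb] [Algebra A Cb] [IsScalarTower A (A ⧸ I) Cb]
    (hFac : Obj.Factor (A ⧸ I) Cb)
    (E : Type u) [CommRing E] [Algebra A E] [Algebra.Etale A E] (φ : E →ₐ[A] Cb) (x : E)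
    (hx : φ x = 0) :
    ∃ (E' : Type u) (_ : CommRing E') (_ : Algebra A E') (_ : Algebra.Etale A E')
      (θ : E →ₐ[A] E') (φ' : E' →ₐ[A] Cb), φ'.comp θ = φ ∧ θ x ∈ I.map (algebraMap A E') := by
  classical
  haveI : Algebra.Etale (A ⧸ I) (E ⧸ I.map (algebraMap A E)) :=
    Algebra.Etale.of_equiv (Algebra.TensorProduct.quotIdealMapEquivQuotTensor E I).symm
  have hI' : ∀ y ∈ I.map (algebraMap A E), φ.toRingHom y = 0 := by
    have : I.map (algebraMap A E) ≤ RingHom.ker φ.toRingHom := by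
      rw [Ideal.map_le_iff_le_comap]
      intro a ha
      rw [Ideal.mem_comap, RingHom.mem_ker]
      show φ (algebraMap A E a) = 0
      rw [φ.commutes, IsScalarTower.algebraMap_apply A (A ⧸ I) Cb,
        Ideal.Quotient.algebraMap_eq, Ideal.Quotient.eq_zero_iff_mem.mpr ha, map_zero]
    exact fun y hy => this hy
  let φb : (E ⧸ I.map (algebraMap A E)) →ₐ[A ⧸ I] Cb :=
    { Ideal.Quotient.lift _ φ.toRingHom hI' with
      commutes' := by
        intro r
        obtain ⟨a, rfl⟩ := Ideal.Quotient.mk_surjective r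
        show Ideal.Quotient.lift _ φ.toRingHom hI'
          (Ideal.Quotient.mk _ (algebraMap A E a)) = _
        rw [Ideal.Quotient.lift_mk]
        show φ (algebraMap A E a) = _
        rw [φ.commutes, IsScalarTower.algebraMap_apply A (A ⧸ I) Cb]
        rfl }
  have hφb : ∀ y, φb (Ideal.Quotient.mk _ y) = φ y := fun y => rfl
  obtain ⟨xb, hxb⟩ : ∃ xb : E ⧸ I.map (algebraMap A E),
    xb = Ideal.Quotient.mk (I.map (algebraMap A E)) x := ⟨_, rfl⟩
  obtain ⟨K, hKdef⟩ : ∃ K : Ideal (E ⧸ I.map (algebraMap A E)), K = Ideal.span {xb} :=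
    ⟨_, rfl⟩
  haveI : Algebra.FinitePresentation (A ⧸ I) ((E ⧸ I.map (algebraMap A E)) ⧸ K) :=
    Algebra.FinitePresentation.quotient ⟨{xb}, by simp [hKdef]⟩
  have hK : ∀ y ∈ K, φb y = 0 := by
    intro y hy
    rw [hKdef] at hy
    obtain ⟨z, rfl⟩ := Ideal.mem_span_singleton'.mp hy
    rw [map_mul, hxb, hφb, hx, mul_zero]
  let ψP : ((E ⧸ I.map (algebraMap A E)) ⧸ K) →ₐ[A ⧸ I] Cb := Ideal.Quotient.liftₐ K φb hK
  have hψP : ∀ y, ψP (Ideal.Quotient.mk K y) = φb y := fun y => rfl
  obtain ⟨Eb, _, _, _, f', g', hfg⟩ := hFac _ ψP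
  let ρ : (E ⧸ I.map (algebraMap A E)) →ₐ[A ⧸ I] Eb :=
    f'.comp (Ideal.Quotient.mkₐ (A ⧸ I) K)
  letI algRb : Algebra (E ⧸ I.map (algebraMap A E)) Eb := ρ.toRingHom.toAlgebra
  haveI : IsScalarTower (A ⧸ I) (E ⧸ I.map (algebraMap A E)) Eb :=
    IsScalarTower.of_algebraMap_eq' ρ.comp_algebraMap.symm
  haveI : Algebra.Etale (E ⧸ I.map (algebraMap A E)) Eb :=
    ⟨Algebra.FormallyEtale.of_restrictScalars (R := A ⧸ I),
      Algebra.FinitePresentation.of_restrict_scalars_finitePresentation (A ⧸ I) _ _⟩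
  letI algEjEb : Algebra E Eb :=
    ((algebraMap (E ⧸ I.map (algebraMap A E)) Eb).comp (Ideal.Quotient.mk _)).toAlgebra
  haveI : IsScalarTower E (E ⧸ I.map (algebraMap A E)) Eb :=
    IsScalarTower.of_algebraMap_eq' rfl
  obtain ⟨E', _, algE', hE'et, ψ', hψ'surj, hψ'ker⟩ :=
    EtLift.exists_etale_lift E (I.map (algebraMap A E)) Eb
  letI algAE' : Algebra A E' := ((algebraMap E E').comp (algebraMap A E)).toAlgebra
  haveI : IsScalarTower A E E' := IsScalarTower.of_algebraMap_eq' rfl
  haveI : Algebra.Etale A E' := Algebra.Etale.comp A E E'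
  have hstar : ∀ y : E, g' (ψ' (algebraMap E E' y)) = φ y := by
    intro y
    rw [ψ'.commutes]
    show g' (f' (Ideal.Quotient.mk K (Ideal.Quotient.mk _ y))) = _
    have := congr($hfg (Ideal.Quotient.mk K (Ideal.Quotient.mk _ y)))
    rw [AlgHom.comp_apply] at this
    rw [this, hψP, hφb]
  let φE' : E' →ₐ[A] Cb :=
    { g'.toRingHom.comp ψ'.toRingHom with
      commutes' := by
        intro a
        show g' (ψ' (algebraMap E E' (algebraMap A E a))) = _
        rw [hstar, φ.commutes] }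
  have hφE' : ∀ z, φE' z = g' (ψ' z) := fun z => rfl
  refine ⟨E', inferInstance, algAE', inferInstance, IsScalarTower.toAlgHom A E E', φE', ?_, ?_⟩
  · apply AlgHom.ext
    intro y
    show φE' (algebraMap E E' y) = φ y
    rw [hφE', hstar]
  · have h2 : algebraMap E E' x ∈ RingHom.ker ψ'.toRingHom := by
      rw [RingHom.mem_ker]
      show ψ' (algebraMap E E' x) = 0
      rw [ψ'.commutes]
      show f' (Ideal.Quotient.mk K (Ideal.Quotient.mk _ x)) = 0
      rw [← hxb, Ideal.Quotient.eq_zero_iff_mem.mpr (hKdef ▸ Ideal.subset_span rfl), map_zero]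
    rw [hψ'ker, Ideal.map_map] at h2
    exact h2

/-- **Lifting ind-étale algebras along a quotient map.** -/
theorem exists_indEtale_lift (A : Type u) [CommRing A] (I : Ideal A) (Cb : Type u)
    [CommRing Cb] [Algebra (A ⧸ I) Cb] (h : EtPBC.IsIndEtale (A ⧸ I) Cb) :
    ∃ (C : Type u) (_ : CommRing C) (_ : Algebra A C),
      EtPBC.IsIndEtale A C ∧ Nonempty ((C ⧸ I.map (algebraMap A C)) ≃ₐ[A ⧸ I] Cb) := by
  classical
  letI algACb : Algebra A Cb := ((algebraMap (A ⧸ I) Cb).comp (Ideal.Quotient.mk I)).toAlgebra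
  haveI : IsScalarTower A (A ⧸ I) Cb := IsScalarTower.of_algebraMap_eq' rfl
  haveI : IsFiltered (Obj A Cb) := Obj.isFiltered_general
  have hFac := factor_of_isIndEtale h
  obtain ⟨C, instC, ι, hcompat, hrep, hker, hdesc⟩ :=
    exists_colimit_ring (J := Obj A Cb) (fun j => j.E)
      (fun {j k} (g : j ⟶ k) => g.1.toRingHom) (fun j => rfl) (fun f g => rfl)
  obtain ⟨j0⟩ : Nonempty (Obj A Cb) := IsFiltered.nonempty
  letI algC : Algebra A C := ((ι j0).comp (algebraMap A j0.E)).toAlgebra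
  have halg : ∀ (j : Obj A Cb) (a : A), ι j (algebraMap A j.E a) = algebraMap A C a := by
    intro j a
    let l := IsFiltered.max j j0
    let f : j ⟶ l := IsFiltered.leftToMax j j0
    let g : j0 ⟶ l := IsFiltered.rightToMax j j0
    have h1 := hcompat f (algebraMap A j.E a)
    have h2 := hcompat g (algebraMap A j0.E a)
    have h3 : f.1.toRingHom (algebraMap A j.E a) = algebraMap A l.E a := f.1.commutes a
    have h4 : g.1.toRingHom (algebraMap A j0.E a) = algebraMap A l.E a := g.1.commutes a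
    rw [h3] at h1
    rw [h4] at h2
    rw [← h1, h2]
    rfl
  let ιa : ∀ j : Obj A Cb, j.E →ₐ[A] C := fun j => { ι j with commutes' := halg j }
  have hιa : ∀ j x, ιa j x = ι j x := fun j x => rfl
  have hind : EtPBC.IsIndEtale A C :=
    isIndEtale_of_filtered (J := Obj A Cb) (fun j => j.E) (fun {j k} (g : j ⟶ k) => g.1)
      (fun _ => rfl) (fun _ _ => rfl) ιa (fun g x => hcompat g x) (fun c => hrep c)
      (fun j x hx => hker j x hx)
  obtain ⟨Ψ, hΨ⟩ := hdesc Cb (fun j => j.φ.toRingHom) (fun {j k} g x => congr($(g.2) x))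
  have hΨ' : ∀ j x, Ψ (ι j x) = j.φ x := hΨ
  have hΨalg : ∀ a : A, Ψ (algebraMap A C a) = algebraMap A Cb a := by
    intro a
    rw [← halg j0 a, hΨ', j0.φ.commutes]
  have hΨI : ∀ c ∈ I.map (algebraMap A C), Ψ c = 0 := by
    have : I.map (algebraMap A C) ≤ RingHom.ker Ψ := by
      rw [Ideal.map_le_iff_le_comap]
      intro a ha
      rw [Ideal.mem_comap, RingHom.mem_ker, hΨalg, IsScalarTower.algebraMap_apply A (A ⧸ I) Cb,
        Ideal.Quotient.algebraMap_eq, Ideal.Quotient.eq_zero_iff_mem.mpr ha, map_zero]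
    exact fun c hc => this hc
  let Ψb : (C ⧸ I.map (algebraMap A C)) →ₐ[A ⧸ I] Cb :=
    { Ideal.Quotient.lift _ Ψ hΨI with
      commutes' := by
        intro r
        obtain ⟨a, rfl⟩ := Ideal.Quotient.mk_surjective r
        show Ideal.Quotient.lift _ Ψ hΨI (Ideal.Quotient.mk _ (algebraMap A C a)) = _
        rw [Ideal.Quotient.lift_mk, hΨalg]
        rfl }
  have hΨb : ∀ c, Ψb (Ideal.Quotient.mk _ c) = Ψ c := fun c => rfl
  -- the key kernel computation
  have hinjkey : ∀ (j : Obj A Cb) (x : j.E), j.φ x = 0 → ι j x ∈ I.map (algebraMap A C) := by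
    intro j x hx
    obtain ⟨E', _, _, _, θ, φ', hφ', hθx⟩ := exists_kill A I Cb hFac j.E j.φ x hx
    obtain ⟨l, e, he⟩ := Obj.exists_obj A φ'
    let hjl : j ⟶ l := ⟨(e.symm : E' →ₐ[A] l.E).comp θ, by
      rw [← he, ← hφ']
      apply AlgHom.ext
      intro y
      show φ' (e (e.symm (θ y))) = φ' (θ y)
      rw [e.apply_symm_apply]⟩
    have h1 : ι j x = ιa l (e.symm (θ x)) := by
      rw [hιa]
      exact (hcompat hjl x).symm
    rw [h1]
    apply mem_map_of_algHom
    exact mem_map_of_algHom (e.symm : E' →ₐ[A] l.E) I hθx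
  have hsurj : Function.Surjective Ψb := by
    intro cb
    let ψ : MvPolynomial (Fin 1) (A ⧸ I) →ₐ[A ⧸ I] Cb := MvPolynomial.aeval (fun _ => cb)
    obtain ⟨Eb, _, _, _, f', g', hfg⟩ := hFac _ ψ
    letI algAEb : Algebra A Eb := ((algebraMap (A ⧸ I) Eb).comp (Ideal.Quotient.mk I)).toAlgebra
    haveI : IsScalarTower A (A ⧸ I) Eb := IsScalarTower.of_algebraMap_eq' rfl
    obtain ⟨E, _, _, _, ψE, hψEsurj, -⟩ := EtLift.exists_etale_lift A I Eb
    let φE : E →ₐ[A] Cb := (g'.restrictScalars A).comp ψE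
    obtain ⟨j, e, he⟩ := Obj.exists_obj A φE
    obtain ⟨x, hx⟩ := hψEsurj (f' (MvPolynomial.X 0))
    refine ⟨Ideal.Quotient.mk _ (ι j (e.symm x)), ?_⟩
    rw [hΨb, hΨ', ← he]
    show g' (ψE (e (e.symm x))) = cb
    rw [e.apply_symm_apply, hx]
    have := congr($hfg (MvPolynomial.X 0))
    rw [AlgHom.comp_apply] at this
    rw [this]
    simp [ψ]
  have hinj : Function.Injective Ψb := by
    rw [injective_iff_map_eq_zero]
    intro q hq
    obtain ⟨c, rfl⟩ := Ideal.Quotient.mk_surjective q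
    obtain ⟨j, x, rfl⟩ := hrep c
    rw [hΨb, hΨ'] at hq
    exact Ideal.Quotient.eq_zero_iff_mem.mpr (hinjkey j x hq)
  exact ⟨C, instC, algC, hind, ⟨AlgEquiv.ofBijective Ψb ⟨hinj, hsurj⟩⟩⟩

end Groth.Agent.Lib.Helper3.IndEt
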