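import Mathlib
import Groth.Prelude.Def_PBC
import Groth.Agent.Lib.Helper3IndEtLift

/-!
# The ind-étale hull of an algebra map `A → Ω` (helper3)

`exists_hull A Ω`: there is an ind-étale `A`-algebra `C` with an `A`-algebra map `Ψ : C → Ω`
such that for every étale `A`-algebra `E`, composition with `Ψ` is a bijection
`Hom_A(E, C) ≃ Hom_A(E, Ω)`.
-/

set_option autoImplicit false
set_option linter.style.haveILetI false

open CategoryTheory CategoryTheory.Limits TensorProduct

universe u

namespace Groth.Agent.Lib.Helper3.IndEt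

theorem exists_hull (A Ω : Type u) [CommRing A] [CommRing Ω] [Algebra A Ω] :
    ∃ (C : Type u) (_ : CommRing C) (_ : Algebra A C) (Ψ : C →ₐ[A] Ω),
      EtPBC.IsIndEtale A C ∧
      ∀ (E : Type u) [CommRing E] [Algebra A E] [Algebra.Etale A E],
        Function.Bijective (fun θ : E →ₐ[A] C => Ψ.comp θ) := by
  classical
  haveI : IsFiltered (Obj A Ω) := Obj.isFiltered_general
  obtain ⟨C, instC, ι, hcompat, hrep, hker, hdesc⟩ :=
    exists_colimit_ring (J := Obj A Ω) (fun j => j.E)
      (fun {j k} (g : j ⟶ k) => g.1.toRingHom) (fun j => rfl) (fun f g => rfl)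
  obtain ⟨j0⟩ : Nonempty (Obj A Ω) := IsFiltered.nonempty
  letI algC : Algebra A C := ((ι j0).comp (algebraMap A j0.E)).toAlgebra
  have halg : ∀ (j : Obj A Ω) (a : A), ι j (algebraMap A j.E a) = algebraMap A C a := by
    intro j a
    let l := IsFiltered.max j j0
    let f : j ⟶ l := IsFiltered.leftToMax j j0
    let g : j0 ⟶ l := IsFiltered.rightToMax j j0
    have h1 := hcompat f (algebraMap A j.E a)
    have h2 := hcompat g (algebraMap A j0.E a)
    have h3 : f.1.toRingHom (algebraMap A j.E a) = algebraMap A l.E a := f.1.commutes a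
    have h4 : g.1.toRingHom (algebraMap A j0.E a) = algebraMap A l.E a := g.1.commutes a
    rw [h3] at h1
    rw [h4] at h2
    rw [← h1, h2]
    rfl
  let ιa : ∀ j : Obj A Ω, j.E →ₐ[A] C := fun j => { ι j with commutes' := halg j }
  have hιa : ∀ j x, ιa j x = ι j x := fun j x => rfl
  have hind : EtPBC.IsIndEtale A C :=
    isIndEtale_of_filtered (J := Obj A Ω) (fun j => j.E) (fun {j k} (g : j ⟶ k) => g.1)
      (fun _ => rfl) (fun _ _ => rfl) ιa (fun g x => hcompat g x) (fun c => hrep c)
      (fun j x hx => hker j x hx)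
  obtain ⟨Ψ0, hΨ0⟩ := hdesc Ω (fun j => j.φ.toRingHom) (fun {j k} g x => congr($(g.2) x))
  have hΨ0' : ∀ j x, Ψ0 (ι j x) = j.φ x := hΨ0
  let Ψ : C →ₐ[A] Ω :=
    { Ψ0 with
      commutes' := fun a => by
        show Ψ0 (algebraMap A C a) = _
        rw [← halg j0 a, hΨ0', j0.φ.commutes] }
  have hΨ : ∀ j x, Ψ (ι j x) = j.φ x := hΨ0
  refine ⟨C, instC, algC, Ψ, hind, ?_⟩
  intro E _ _ _
  constructor
  · -- injectivity
    intro θ1 θ2 h12
    have h12' : ∀ s, Ψ (θ1 s) = Ψ (θ2 s) := fun s => congr($h12 s)
    let t := Algebra.FormallyUnramified.elem A E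
    let m : E ⊗[A] E →ₐ[A] C := Algebra.TensorProduct.productMap θ1 θ2
    have hu1 : ∀ s : E, (θ2 s - θ1 s) * m t = 0 := by
      intro s
      have := congrArg m (Algebra.FormallyUnramified.one_tmul_sub_tmul_one_mul_elem (R := A) s)
      rw [map_mul, map_sub, map_zero] at this
      simpa [m] using this
    have hu2 : Ψ (m t) = 1 := by
      have hcomp : (Ψ.comp m) = (Ψ.comp θ1).comp (Algebra.TensorProduct.lmul' A (S := E)) := by
        apply Algebra.TensorProduct.ext'
        intro a b
        simp [m, h12' b]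
      have := congr($hcomp t)
      rw [AlgHom.comp_apply, AlgHom.comp_apply, Algebra.FormallyUnramified.lmul_elem, map_one]
        at this
      exact this
    -- an element of `C` mapping to `1` in `Ω` is a unit
    have hone : IsUnit (m t) := by
      obtain ⟨j, uj, huj⟩ := hrep (m t)
      have hφu : j.φ uj = 1 := by rw [← hΨ, huj, hu2]
      haveI : Algebra.Etale j.E (Localization.Away uj) := Algebra.Etale.of_isLocalizationAway uj
      haveI : Algebra.Etale A (Localization.Away uj) :=
        Algebra.Etale.comp A j.E (Localization.Away uj)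
      have hunit : ∀ y : Submonoid.powers uj, IsUnit (j.φ y) := by
        rintro ⟨_, n, rfl⟩
        rw [map_pow, hφu, one_pow]
        exact isUnit_one
      let φl : Localization.Away uj →ₐ[A] Ω := IsLocalization.liftAlgHom hunit
      have hφl : ∀ x, φl (algebraMap j.E _ x) = j.φ x := fun x => IsLocalization.lift_eq _ _
      obtain ⟨l, e, he⟩ := Obj.exists_obj A φl
      let hjl : j ⟶ l := ⟨(e.symm : Localization.Away uj →ₐ[A] l.E).comp
        (IsScalarTower.toAlgHom A j.E (Localization.Away uj)), by
        rw [← he]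
        apply AlgHom.ext
        intro x
        show φl (e (e.symm (algebraMap j.E _ x))) = j.φ x
        rw [e.apply_symm_apply, hφl]⟩
      have h1 : m t = ι l (e.symm (algebraMap j.E _ uj)) := by
        rw [← huj]
        exact (hcompat hjl uj).symm
      have h2 : IsUnit (ι l (e.symm (algebraMap j.E (Localization.Away uj) uj))) := by
        apply IsUnit.map
        apply IsUnit.map
        exact IsLocalization.Away.algebraMap_isUnit uj
      rw [← h1] at h2
      exact h2
    apply AlgHom.ext
    intro s
    have := (hone.mul_left_eq_zero).mp (hu1 s)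
    rw [sub_eq_zero] at this
    exact this.symm
  · -- surjectivity
    intro φ
    obtain ⟨j, e, he⟩ := Obj.exists_obj A φ
    refine ⟨(ιa j).comp (e.symm : E →ₐ[A] j.E), ?_⟩
    apply AlgHom.ext
    intro x
    show Ψ (ι j (e.symm x)) = φ x
    rw [hΨ, ← he]
    show φ (e (e.symm x)) = φ x
    rw [e.apply_symm_apply]

end Groth.Agent.Lib.Helper3.IndEt
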