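import Mathlib

set_option autoImplicit false
set_option linter.style.haveILetI false

universe u

namespace Groth.Agent.Lib.Helper3.ConsSpace

variable (A : Type u) [CommRing A]

/-- indicator functions of prime ideals -/
def IsPrimeFn (σ : A → Bool) : Prop :=
  σ 0 = true ∧ (∀ a b, σ a = true → σ b = true → σ (a + b) = true) ∧
    (∀ c a, σ a = true → σ (c * a) = true) ∧ σ 1 = false ∧
    (∀ a b, σ (a * b) = true → σ a = true ∨ σ b = true)

/-- the set of primes of `A` with the constructible topology, as a subspace of `A → Bool` -/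
def Cons : Type u := {σ : A → Bool // IsPrimeFn A σ}

instance : TopologicalSpace (Cons A) := inferInstanceAs (TopologicalSpace {σ : A → Bool // IsPrimeFn A σ})

instance : T2Space (Cons A) := inferInstanceAs (T2Space {σ : A → Bool // IsPrimeFn A σ})

instance : TotallyDisconnectedSpace (Cons A) :=
  inferInstanceAs (TotallyDisconnectedSpace {σ : A → Bool // IsPrimeFn A σ})

theorem isClopen_eval (a : A) (b : Bool) : IsClopen {σ : A → Bool | σ a = b} :=
  (isClopen_discrete ({b} : Set Bool)).preimage (continuous_apply a)

theorem isClosed_isPrimeFn : IsClosed {σ : A → Bool | IsPrimeFn A σ} := by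
  have h : {σ : A → Bool | IsPrimeFn A σ} =
      {σ | σ 0 = true} ∩ ((⋂ a, ⋂ b, {σ | σ a = true → σ b = true → σ (a + b) = true}) ∩
        ((⋂ c, ⋂ a, {σ | σ a = true → σ (c * a) = true}) ∩ ({σ | σ 1 = false} ∩
          ⋂ a, ⋂ b, {σ | σ (a * b) = true → σ a = true ∨ σ b = true}))) := by
    ext σ
    simp only [IsPrimeFn, Set.mem_ofPred_eq, Set.mem_inter_iff, Set.mem_iInter]
  rw [h]
  refine (isClopen_eval A 0 true).1.inter (IsClosed.inter ?_ (IsClosed.inter ?_
    ((isClopen_eval A 1 false).1.inter ?_)))
  · refine isClosed_iInter fun a => isClosed_iInter fun b => ?_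
    exact isClosed_imp (isClopen_eval A a true).2
      (isClosed_imp (isClopen_eval A b true).2 (isClopen_eval A (a + b) true).1)
  · refine isClosed_iInter fun c => isClosed_iInter fun a => ?_
    exact isClosed_imp (isClopen_eval A a true).2 (isClopen_eval A (c * a) true).1
  · refine isClosed_iInter fun a => isClosed_iInter fun b => ?_
    exact isClosed_imp (isClopen_eval A (a * b) true).2
      ((isClopen_eval A a true).1.union (isClopen_eval A b true).1)

instance : CompactSpace (Cons A) :=
  isCompact_iff_compactSpace.mp (isClosed_isPrimeFn A).isCompact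

/-- the prime attached to a point of `Cons A` -/
def ρ (t : Cons A) : PrimeSpectrum A :=
  ⟨{ carrier := {a | t.1 a = true}
     zero_mem' := t.2.1
     add_mem' := fun {a b} ha hb => t.2.2.1 a b ha hb
     smul_mem' := fun c a ha => t.2.2.2.1 c a ha },
    ⟨by
      intro htop
      have h1 : (1 : A) ∈ ({ carrier := {a | t.1 a = true}
                             zero_mem' := t.2.1
                             add_mem' := fun {a b} ha hb => t.2.2.1 a b ha hb
                             smul_mem' := fun c a ha => t.2.2.2.1 c a ha } : Ideal A) :=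
        htop ▸ Submodule.mem_top
      have h2 : t.1 1 = true := h1
      rw [t.2.2.2.2.1] at h2
      exact Bool.false_ne_true h2,
     fun {a b} hab => t.2.2.2.2.2 a b hab⟩⟩

theorem mem_ρ {t : Cons A} {a : A} : a ∈ (ρ A t).asIdeal ↔ t.1 a = true := Iff.rfl

theorem isClopen_ρ (f : A) : IsClopen {t : Cons A | f ∈ (ρ A t).asIdeal} :=
  (isClopen_eval A f true).preimage continuous_subtype_val

theorem bijective_ρ : Function.Bijective (ρ A) := by
  classical
  constructor
  · intro t t' h
    apply Subtype.ext
    funext a
    have : a ∈ (ρ A t).asIdeal ↔ a ∈ (ρ A t').asIdeal := by rw [h]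
    rw [mem_ρ, mem_ρ] at this
    cases h1 : t.1 a <;> cases h2 : t'.1 a <;> simp_all
  · intro x
    refine ⟨⟨fun a => decide (a ∈ x.asIdeal), ?_, ?_, ?_, ?_, ?_⟩, ?_⟩
    · simp
    · intro a b ha hb
      simp only [decide_eq_true_eq] at ha hb ⊢
      exact add_mem ha hb
    · intro c a ha
      simp only [decide_eq_true_eq] at ha ⊢
      exact Ideal.mul_mem_left _ c ha
    · simp only [decide_eq_false_iff_not]
      exact x.2.one_notMem
    · intro a b hab
      simp only [decide_eq_true_eq] at hab ⊢
      exact x.2.mem_or_mem hab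
    · ext a
      rw [mem_ρ]
      simp

end Groth.Agent.Lib.Helper3.ConsSpace
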