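import Mathlib

set_option autoImplicit false
set_option linter.style.haveILetI false
universe u

namespace Groth.Agent.Lib.Helper3.LocLift

open TensorProduct

/-- uniform annihilator -/
theorem exists_uniform_kill {A A' : Type*} [CommRing A] [CommRing A'] [Algebra A A']
    (S : Submonoid A) (G : Finset A')
    (h : ∀ g ∈ G, ∃ t : S, algebraMap A A' t * g = 0) :
    ∃ t : S, ∀ g ∈ G, algebraMap A A' t * g = 0 := by
  classical
  induction G using Finset.induction_on with
  | empty => exact ⟨1, by simp⟩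
  | insert a G' ha ih =>
    obtain ⟨t₁, ht₁⟩ := ih (fun g hg => h g (Finset.mem_insert_of_mem hg))
    obtain ⟨t₂, ht₂⟩ := h a (Finset.mem_insert_self a G')
    refine ⟨t₁ * t₂, fun g hg => ?_⟩
    rcases Finset.mem_insert.mp hg with rfl | hg'
    · rw [Submonoid.coe_mul, map_mul, mul_assoc, ht₂, mul_zero]
    · rw [Submonoid.coe_mul, map_mul, mul_comm (algebraMap A A' t₁), mul_assoc, ht₁ g hg', mul_zero]

set_option maxHeartbeats 1000000 in
/-- A map from a finitely presented `A`-algebra to a localization `S⁻¹A` factors through `A_f`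
for some `f ∈ S`. -/
theorem exists_lift_away {A B : Type u} [CommRing A] [CommRing B] [Algebra A B] (S : Submonoid A)
    [IsLocalization S B] (P : Type u) [CommRing P] [Algebra A P]
    [Algebra.FinitePresentation A P] (ψ : P →ₐ[A] B) :
    ∃ f ∈ S, ∃ (ψ' : P →ₐ[A] Localization.Away f) (γ : Localization.Away f →ₐ[A] B),
      γ.comp ψ' = ψ := by
  classical
  obtain ⟨n, π, hπ, G, hG⟩ := Algebra.FinitePresentation.out (R := A) (A := P)
  obtain ⟨s, hs⟩ := IsLocalization.exist_integer_multiples_of_finset S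
    (Finset.univ.image (fun i : Fin n => ψ (π (MvPolynomial.X i))))
  choose a ha using fun i : Fin n =>
    hs (ψ (π (MvPolynomial.X i))) (Finset.mem_image_of_mem _ (Finset.mem_univ i))
  have hsu : IsUnit (algebraMap A B s) := IsLocalization.map_units B s
  obtain ⟨A', hA'⟩ : ∃ A' : Type u, A' = Localization.Away (s : A) := ⟨_, rfl⟩
  subst hA'
  let γ : Localization.Away (s : A) →ₐ[A] B :=
    IsLocalization.Away.liftAlgHom (s : A) (f := Algebra.ofId A B) hsu
  let φ₀ : MvPolynomial (Fin n) A →ₐ[A] Localization.Away (s : A) :=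
    MvPolynomial.aeval (fun i => IsLocalization.mk' (Localization.Away (s : A)) (a i)
      (⟨s, 1, pow_one _⟩ : Submonoid.powers (s : A)))
  have h0 : γ.comp φ₀ = ψ.comp π := by
    apply MvPolynomial.algHom_ext
    intro i
    show γ (φ₀ (MvPolynomial.X i)) = ψ (π (MvPolynomial.X i))
    simp only [φ₀, MvPolynomial.aeval_X]
    show IsLocalization.Away.lift (s : A) hsu _ = _
    rw [IsLocalization.Away.lift, IsLocalization.lift_mk'_spec]
    have := ha i
    rw [Algebra.smul_def] at this
    exact this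
  letI algA'B : Algebra (Localization.Away (s : A)) B := γ.toRingHom.toAlgebra
  haveI : IsScalarTower A (Localization.Away (s : A)) B :=
    IsScalarTower.of_algebraMap_eq (fun x => (γ.commutes x).symm)
  haveI : IsLocalization (S.map (algebraMap A (Localization.Away (s : A)))) B :=
    IsLocalization.isLocalization_of_submonoid_le (Localization.Away (s : A)) B
      (Submonoid.powers (s : A)) S (Submonoid.powers_le.mpr s.2)
  have hkill : ∀ g ∈ G.image φ₀, ∃ t : S, algebraMap A (Localization.Away (s : A)) t * g = 0 := by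
    intro g' hg'
    obtain ⟨g, hg, rfl⟩ := Finset.mem_image.mp hg'
    have h1 : algebraMap (Localization.Away (s : A)) B (φ₀ g) = 0 := by
      show γ (φ₀ g) = 0
      rw [← AlgHom.comp_apply, h0, AlgHom.comp_apply]
      have : g ∈ RingHom.ker π.toRingHom := hG ▸ Ideal.subset_span hg
      rw [show π g = 0 from this, map_zero]
    obtain ⟨m, hm⟩ := (IsLocalization.map_eq_zero_iff
      (S.map (algebraMap A (Localization.Away (s : A)))) B _).mp h1
    obtain ⟨t, ht, htm⟩ := m.2
    exact ⟨⟨t, ht⟩, by rw [← hm]; congr 1⟩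
  obtain ⟨t, ht⟩ := exists_uniform_kill S (G.image φ₀) hkill
  refine ⟨s * t, (s * t).2, ?_⟩
  have hsu' : IsUnit (algebraMap A (Localization.Away ((s : A) * t)) s) :=
    isUnit_of_mul_isUnit_left (by
      rw [← map_mul]; exact IsLocalization.Away.algebraMap_isUnit ((s : A) * t))
  have htu' : IsUnit (algebraMap A (Localization.Away ((s : A) * t)) t) :=
    isUnit_of_mul_isUnit_right (by
      rw [← map_mul]; exact IsLocalization.Away.algebraMap_isUnit ((s : A) * t))
  let δ : Localization.Away (s : A) →ₐ[A] Localization.Away ((s : A) * t) :=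
    IsLocalization.Away.liftAlgHom (s : A) (f := Algebra.ofId A _) hsu'
  have hker : RingHom.ker π.toRingHom ≤ RingHom.ker (δ.comp φ₀).toRingHom := by
    rw [← hG, Ideal.span_le]
    intro g hg
    have h2 := ht (φ₀ g) (Finset.mem_image_of_mem _ hg)
    have h3 : algebraMap A (Localization.Away ((s : A) * t)) t * δ (φ₀ g) = 0 := by
      rw [← δ.commutes, ← map_mul, h2, map_zero]
    exact (htu'.mul_right_eq_zero).mp h3
  have hfu : IsUnit (algebraMap A B ((s : A) * t)) := IsLocalization.map_units B (s * t)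
  let γ' : Localization.Away ((s : A) * t) →ₐ[A] B :=
    IsLocalization.Away.liftAlgHom ((s : A) * t) (f := Algebra.ofId A B) hfu
  refine ⟨AlgHom.liftOfSurjective π hπ (δ.comp φ₀) hker, γ', ?_⟩
  apply AlgHom.ext
  intro p
  obtain ⟨x, rfl⟩ := hπ p
  have h4 : AlgHom.liftOfSurjective π hπ (δ.comp φ₀) hker (π x) = δ (φ₀ x) :=
    AlgHom.liftOfSurjective_apply _ _ _ _ x
  rw [AlgHom.comp_apply, h4]
  have h5 : γ'.comp δ = γ :=
    Subsingleton.elim (h := IsLocalization.algHom_subsingleton (Submonoid.powers (s : A))) _ _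
  rw [← AlgHom.comp_apply, h5, ← AlgHom.comp_apply, h0]
  rfl

set_option maxHeartbeats 1000000 in
/-- An étale algebra over a localization `S⁻¹A` descends to an étale algebra over `A_f` for some
`f ∈ S`. -/
theorem exists_descent_etale_away {A B : Type u} [CommRing A] [CommRing B] [Algebra A B]
    (S : Submonoid A) [IsLocalization S B] (E : Type u) [CommRing E] [Algebra B E]
    [Algebra.Etale B E] :
    ∃ f ∈ S, ∃ (_ : Algebra (Localization.Away f) B) (_ : IsScalarTower A (Localization.Away f) B)
      (E₁ : Type u) (_ : CommRing E₁) (_ : Algebra (Localization.Away f) E₁)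
      (_ : Algebra.Etale (Localization.Away f) E₁),
      Nonempty (B ⊗[Localization.Away f] E₁ ≃ₐ[B] E) := by
  obtain ⟨A₀, E₀, _, _, hfg, _, ⟨e⟩⟩ := Algebra.Etale.exists_subalgebra_fg ℤ B E
  haveI : Algebra.FiniteType ℤ A₀ := (Subalgebra.fg_iff_finiteType A₀).mp hfg
  haveI : Algebra.FinitePresentation ℤ A₀ :=
    Algebra.FinitePresentation.of_finiteType.mp inferInstance
  let φ : A ⊗[ℤ] A₀ →ₐ[A] B :=
    Algebra.TensorProduct.lift (Algebra.ofId A B) A₀.val (fun _ _ => Commute.all _ _)
  obtain ⟨f, hf, ψ', β, hfβ⟩ := exists_lift_away S (A ⊗[ℤ] A₀) φ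
  refine ⟨f, hf, ?_⟩
  obtain ⟨B₁, hB₁⟩ : ∃ B₁ : Type u, B₁ = Localization.Away f := ⟨_, rfl⟩
  subst hB₁
  letI : Algebra (Localization.Away f) B := β.toRingHom.toAlgebra
  haveI : IsScalarTower A (Localization.Away f) B :=
    IsScalarTower.of_algebraMap_eq (fun a => (β.commutes a).symm)
  letI : Algebra A₀ (Localization.Away f) :=
    (ψ'.toRingHom.comp
      (Algebra.TensorProduct.includeRight : A₀ →ₐ[ℤ] A ⊗[ℤ] A₀).toRingHom).toAlgebra
  haveI : IsScalarTower A₀ (Localization.Away f) B := IsScalarTower.of_algebraMap_eq (fun a₀ => by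
    show (a₀ : B) = β (ψ' ((1 : A) ⊗ₜ[ℤ] a₀))
    have := congr($hfβ ((1 : A) ⊗ₜ[ℤ] a₀))
    rw [AlgHom.comp_apply] at this
    rw [this]
    simp [φ])
  refine ⟨inferInstance, inferInstance,
    (Localization.Away f) ⊗[A₀] E₀, inferInstance, inferInstance, inferInstance, ⟨?_⟩⟩
  exact (Algebra.TensorProduct.cancelBaseChange A₀ (Localization.Away f) B B E₀).trans e.symm

end Groth.Agent.Lib.Helper3.LocLift
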