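import Mathlib
import Groth.Prelude.Def_PBC
import Groth.Agent.Lib.Helper3IndZar
import Groth.Agent.Lib.Helper3IndZarCrit
import Groth.Agent.Lib.Helper3LocLift

set_option autoImplicit false
set_option linter.style.haveILetI false

open TensorProduct

universe u

namespace Groth.Agent.Lib.Helper3.LCIndZar

open Groth.Agent.Lib.Helper3.IndZar Groth.Agent.Lib.Helper3.IndZarCrit
open Groth.Agent.Lib.Helper3.LocLift

variable {T : Type u} [TopologicalSpace T] {A : Type u} [CommRing A]

/-- pullback of functions along a discrete quotient -/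
noncomputable def G (S : DiscreteQuotient T) : (S → A) →ₐ[A] LocallyConstant T A where
  toFun c := ⟨c ∘ S.proj, S.proj_isLocallyConstant.comp c⟩
  map_one' := rfl
  map_mul' _ _ := rfl
  map_zero' := rfl
  map_add' _ _ := rfl
  commutes' _ := rfl

theorem G_apply (S : DiscreteQuotient T) (c : S → A) (t : T) : G S c t = c (S.proj t) := rfl

theorem G_injective (S : DiscreteQuotient T) : Function.Injective (G S (A := A)) := by
  intro c c' h
  funext s
  obtain ⟨t, rfl⟩ := S.proj_surjective s
  exact congr($h t)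

theorem mem_range_G (S : DiscreteQuotient T) (h : LocallyConstant T A)
    (hS : S ≤ h.discreteQuotient) : ∃ c, G S c = h := by
  refine ⟨fun s => h (S.proj_surjective s).choose, ?_⟩
  ext t
  rw [G_apply]
  have h1 : S.proj (S.proj_surjective (S.proj t)).choose = S.proj t :=
    (S.proj_surjective (S.proj t)).choose_spec
  have h2 : S.toSetoid (S.proj_surjective (S.proj t)).choose t := Quotient.exact' h1
  exact hS h2

theorem exists_common (F : Finset (LocallyConstant T A)) :
    ∃ S : DiscreteQuotient T, ∀ h ∈ F, ∃ c, G S c = h :=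
  ⟨F.inf LocallyConstant.discreteQuotient, fun h hh => mem_range_G _ h (Finset.inf_le hh)⟩

variable [CompactSpace T]

/-- maps from a finite type `A`-algebra to a principal localization of `LocallyConstant T A`
factor through a local isomorphism over `A` -/
theorem away_factor (u : LocallyConstant T A) (Eu : Type u) [CommRing Eu]
    [Algebra (LocallyConstant T A) Eu] [Algebra A Eu] [IsScalarTower A (LocallyConstant T A) Eu]
    [IsLocalization.Away u Eu]
    (P : Type u) [CommRing P] [Algebra A P] [Algebra.FiniteType A P] (χ : P →ₐ[A] Eu) :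
    ∃ (E : Type u) (_ : CommRing E) (_ : Algebra A E) (_ : Algebra.IsLocalIso A E)
      (f : P →ₐ[A] E) (g : E →ₐ[A] Eu), g.comp f = χ := by
  classical
  obtain ⟨n, π, hπ⟩ := Algebra.FiniteType.iff_quotient_mvPolynomial''.mp
    (inferInstance : Algebra.FiniteType A P)
  choose k h hkh using fun i : Fin n => IsLocalization.Away.surj u (χ (π (MvPolynomial.X i)))
  obtain ⟨S, hS⟩ := exists_common (insert u (Finset.univ.image h))
  obtain ⟨u', hu'⟩ := hS u (Finset.mem_insert_self _ _)
  choose h' hh' using fun i : Fin n =>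
    hS (h i) (Finset.mem_insert_of_mem (Finset.mem_image_of_mem h (Finset.mem_univ i)))
  -- the local isomorphism
  obtain ⟨E, hE⟩ : ∃ E : Type u, E = Localization.Away u' := ⟨_, rfl⟩
  haveI : Algebra.IsLocalIso A (S → A) := Algebra.IsLocalIso.pi_of_finite A _
  haveI : Algebra.IsLocalIso A (Localization.Away u') :=
    Algebra.IsLocalIso.trans A (S → A) (Localization.Away u')
  have huu : IsUnit (algebraMap (LocallyConstant T A) Eu u) :=
    IsLocalization.Away.algebraMap_isUnit u
  let g₀ : (S → A) →ₐ[A] Eu := (IsScalarTower.toAlgHom A (LocallyConstant T A) Eu).comp (G S)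
  have hg₀ : ∀ c, g₀ c = algebraMap (LocallyConstant T A) Eu (G S c) := fun c => rfl
  let g : Localization.Away u' →ₐ[A] Eu :=
    IsLocalization.liftAlgHom (M := Submonoid.powers u') (f := g₀) (by
      rintro ⟨_, j, rfl⟩
      show IsUnit (g₀ (u' ^ j))
      rw [map_pow, hg₀, hu']
      exact huu.pow j)
  have hg_alg : ∀ c, g (algebraMap (S → A) _ c) = algebraMap (LocallyConstant T A) Eu (G S c) := by
    intro c
    exact IsLocalization.lift_eq _ c
  have hg_inj : Function.Injective g := by
    rw [injective_iff_map_eq_zero]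
    intro z hz
    obtain ⟨c, ⟨_, j, rfl⟩, rfl⟩ := IsLocalization.exists_mk'_eq (Submonoid.powers u') z
    rw [IsLocalization.mk'_eq_zero_iff]
    have h1 : g (algebraMap (S → A) _ c) = 0 := by
      have := IsLocalization.mk'_spec (Localization.Away u') c (⟨u' ^ j, j, rfl⟩ : Submonoid.powers u')
      rw [← this, map_mul, hz, zero_mul]
    rw [hg_alg, IsLocalization.map_eq_zero_iff (Submonoid.powers u)] at h1
    obtain ⟨⟨_, m, rfl⟩, hm⟩ := h1
    refine ⟨⟨u' ^ m, m, rfl⟩, ?_⟩
    apply G_injective S
    rw [map_mul, map_pow, hu', map_zero]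
    exact hm
  -- preimages of the generators
  obtain ⟨w, hw⟩ := (IsLocalization.Away.algebraMap_isUnit (S := Localization.Away u') u').exists_left_inv
  have hy : ∀ i : Fin n, g (algebraMap (S → A) _ (h' i) * w ^ k i) = χ (π (MvPolynomial.X i)) := by
    intro i
    apply ((huu.pow (k i)).mul_left_inj).mp
    rw [hkh i, ← hu', ← hg_alg, ← map_pow, ← map_mul, mul_assoc, ← mul_pow, hw, one_pow, mul_one,
      hg_alg, hh' i]
  let θ : MvPolynomial (Fin n) A →ₐ[A] Localization.Away u' :=
    MvPolynomial.aeval (fun i => algebraMap (S → A) _ (h' i) * w ^ k i)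
  have hθ : g.comp θ = χ.comp π := by
    apply MvPolynomial.algHom_ext
    intro i
    show g (θ (MvPolynomial.X i)) = χ (π (MvPolynomial.X i))
    rw [MvPolynomial.aeval_X]
    exact hy i
  have hker : RingHom.ker π.toRingHom ≤ RingHom.ker θ.toRingHom := by
    intro r hr
    rw [RingHom.mem_ker] at hr ⊢
    apply hg_inj
    have := congr($hθ r)
    rw [AlgHom.comp_apply, AlgHom.comp_apply] at this
    have hr' : π r = 0 := hr
    rw [hr', map_zero] at this
    rw [map_zero]
    exact this
  refine ⟨Localization.Away u', inferInstance, inferInstance, inferInstance,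
    AlgHom.liftOfSurjective π hπ θ hker, g, ?_⟩
  apply AlgHom.ext
  intro x
  obtain ⟨p, rfl⟩ := hπ x
  rw [AlgHom.comp_apply, AlgHom.liftOfSurjective_apply]
  exact congr($hθ p)

/-- an `LocallyConstant T A`-algebra through whose principal localizations all maps from
finitely presented algebras factor is ind-Zariski over `A` -/
theorem isIndZariski_of_away (D : Type u) [CommRing D] [Algebra (LocallyConstant T A) D]
    [Algebra A D] [IsScalarTower A (LocallyConstant T A) D]
    (H : ∀ (P' : Type u) [CommRing P'] [Algebra (LocallyConstant T A) P']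
      [Algebra.FinitePresentation (LocallyConstant T A) P'] (ψ : P' →ₐ[LocallyConstant T A] D),
      ∃ (u : LocallyConstant T A) (Eu : Type u) (_ : CommRing Eu)
        (_ : Algebra (LocallyConstant T A) Eu) (_ : IsLocalization.Away u Eu)
        (ψ' : P' →ₐ[LocallyConstant T A] Eu) (γ : Eu →ₐ[LocallyConstant T A] D),
        γ.comp ψ' = ψ) :
    EtPBC.IsIndZariski A D := by
  apply isIndZariski_of_factor
  intro P _ _ _ ψ
  let ψ' : LocallyConstant T A ⊗[A] P →ₐ[LocallyConstant T A] D :=
    Algebra.TensorProduct.lift (Algebra.ofId (LocallyConstant T A) D) ψ (fun _ _ => Commute.all _ _)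
  obtain ⟨u, Eu, _, _, _, ψ'', γ, hγ⟩ := H (LocallyConstant T A ⊗[A] P) ψ'
  letI : Algebra A Eu :=
    ((algebraMap (LocallyConstant T A) Eu).comp (algebraMap A (LocallyConstant T A))).toAlgebra
  haveI : IsScalarTower A (LocallyConstant T A) Eu := IsScalarTower.of_algebraMap_eq (fun _ => rfl)
  let χ : P →ₐ[A] Eu := (ψ''.restrictScalars A).comp Algebra.TensorProduct.includeRight
  obtain ⟨E, _, _, _, f, g, hfg⟩ := away_factor u Eu P χ
  refine ⟨E, inferInstance, inferInstance, inferInstance, f, (γ.restrictScalars A).comp g, ?_⟩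
  apply AlgHom.ext
  intro x
  show γ (g (f x)) = ψ x
  have h1 : g (f x) = χ x := congr($hfg x)
  rw [h1]
  show γ (ψ'' ((1 : LocallyConstant T A) ⊗ₜ[A] x)) = ψ x
  have h2 : γ (ψ'' ((1 : LocallyConstant T A) ⊗ₜ[A] x)) = ψ' ((1 : LocallyConstant T A) ⊗ₜ[A] x) :=
    congr($hγ _)
  rw [h2]
  simp [ψ']

/-- localizations of `LocallyConstant T A` are ind-Zariski over `A` -/
theorem isIndZariski_localization (M : Submonoid (LocallyConstant T A)) (D : Type u) [CommRing D]
    [Algebra (LocallyConstant T A) D] [Algebra A D] [IsScalarTower A (LocallyConstant T A) D]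
    [IsLocalization M D] : EtPBC.IsIndZariski A D := by
  apply isIndZariski_of_away (T := T)
  intro P' _ _ _ ψ
  obtain ⟨f, -, ψ', γ, hγ⟩ := exists_lift_away M P' ψ
  exact ⟨f, Localization.Away f, inferInstance, inferInstance, inferInstance, ψ', γ, hγ⟩

/-- quotients of `LocallyConstant T A` by ideals generated by idempotents are ind-Zariski
over `A` -/
theorem isIndZariski_quotient (𝒮 : Set (LocallyConstant T A))
    (h𝒮 : ∀ e ∈ 𝒮, IsIdempotentElem e) :
    EtPBC.IsIndZariski A (LocallyConstant T A ⧸ Ideal.span 𝒮) := by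
  classical
  -- the join-closure of 𝒮
  obtain ⟨𝒮', h𝒮'⟩ : ∃ 𝒮' : Set (LocallyConstant T A),
      𝒮' = {e | IsIdempotentElem e ∧ e ∈ Ideal.span 𝒮} := ⟨_, rfl⟩
  have hspan : Ideal.span 𝒮' = Ideal.span 𝒮 := by
    apply le_antisymm
    · rw [Ideal.span_le]
      intro e he
      rw [h𝒮'] at he
      exact he.2
    · apply Ideal.span_mono
      intro e he
      rw [h𝒮']
      exact ⟨h𝒮 e he, Ideal.subset_span he⟩
  have habs : ∀ F : Finset (LocallyConstant T A), (∀ x ∈ F, x ∈ Ideal.span 𝒮) →
      ∃ η, IsIdempotentElem η ∧ η ∈ Ideal.span 𝒮 ∧ ∀ x ∈ F, x * η = x := by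
    intro F
    induction F using Finset.induction_on with
    | empty => exact fun _ => ⟨0, IsIdempotentElem.zero, zero_mem _, by simp⟩
    | insert a F' ha ih =>
      intro hF
      obtain ⟨η₁, hη₁, hη₁I, hη₁F⟩ := ih (fun x hx => hF x (Finset.mem_insert_of_mem hx))
      have haI : a ∈ Ideal.span 𝒮' := hspan ▸ hF a (Finset.mem_insert_self _ _)
      obtain ⟨η₂, hη₂, hη₂a⟩ := exists_idem_absorb 𝒮' (fun e he => by rw [h𝒮'] at he; exact he.1)
        (by rw [h𝒮']; exact ⟨IsIdempotentElem.zero, zero_mem _⟩)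
        (fun e he f hf => by
          rw [h𝒮'] at he hf ⊢
          exact ⟨isIdempotentElem_join he.1 hf.1,
            sub_mem (add_mem he.2 hf.2) (Ideal.mul_mem_right _ _ he.2)⟩) haI
      rw [h𝒮'] at hη₂
      refine ⟨η₁ + η₂ - η₁ * η₂, isIdempotentElem_join hη₁ hη₂.1,
        sub_mem (add_mem hη₁I hη₂.2) (Ideal.mul_mem_right _ _ hη₁I), ?_⟩
      intro x hx
      rcases Finset.mem_insert.mp hx with rfl | hx'
      · conv_lhs => rw [← hη₂a, mul_assoc, mul_join_right hη₂.1]
        exact hη₂a
      · conv_lhs => rw [← hη₁F x hx', mul_assoc, mul_join_left hη₁]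
        exact hη₁F x hx'
  apply isIndZariski_of_away (T := T)
  intro P' _ _ _ ψ
  obtain ⟨n, π, hπ, Gs, hGs⟩ := Algebra.FinitePresentation.out (R := LocallyConstant T A) (A := P')
  choose h hh using fun i : Fin n => Ideal.Quotient.mk_surjective (ψ (π (MvPolynomial.X i)))
  let θ : MvPolynomial (Fin n) (LocallyConstant T A) →ₐ[LocallyConstant T A] LocallyConstant T A :=
    MvPolynomial.aeval h
  have hθ : ∀ r, Ideal.Quotient.mk (Ideal.span 𝒮) (θ r) = ψ (π r) := by
    intro r
    have : (Ideal.Quotient.mkₐ (LocallyConstant T A) (Ideal.span 𝒮)).comp θ = ψ.comp π := by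
      apply MvPolynomial.algHom_ext
      intro i
      show Ideal.Quotient.mk _ (θ (MvPolynomial.X i)) = ψ (π (MvPolynomial.X i))
      rw [MvPolynomial.aeval_X]
      exact hh i
    exact congr($this r)
  obtain ⟨η, hη, hηI, hηG⟩ := habs (Gs.image θ) (by
    intro x hx
    obtain ⟨r, hr, rfl⟩ := Finset.mem_image.mp hx
    rw [← Ideal.Quotient.eq_zero_iff_mem, hθ]
    have : r ∈ RingHom.ker π.toRingHom := hGs ▸ Ideal.subset_span hr
    have h0 : π r = 0 := this
    rw [h0, map_zero])
  haveI : IsLocalization.Away (1 - η) (LocallyConstant T A ⧸ Ideal.span {η}) := by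
    apply IsLocalization.away_of_isIdempotentElem hη.one_sub
    · rw [sub_sub_cancel]
      exact Ideal.mk_ker
    · exact Ideal.Quotient.mk_surjective
  let θ' : MvPolynomial (Fin n) (LocallyConstant T A) →ₐ[LocallyConstant T A]
      (LocallyConstant T A ⧸ Ideal.span {η}) :=
    (Ideal.Quotient.mkₐ (LocallyConstant T A) (Ideal.span {η})).comp θ
  have hker : RingHom.ker π.toRingHom ≤ RingHom.ker θ'.toRingHom := by
    rw [← hGs, Ideal.span_le]
    intro r hr
    show Ideal.Quotient.mk (Ideal.span {η}) (θ r) = 0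
    rw [Ideal.Quotient.eq_zero_iff_mem, Ideal.mem_span_singleton']
    exact ⟨θ r, hηG _ (Finset.mem_image_of_mem θ hr)⟩
  have hle : Ideal.span {η} ≤ Ideal.span 𝒮 := by
    rw [Ideal.span_le]
    intro x hx
    rw [Set.mem_singleton_iff.mp hx]
    exact hηI
  refine ⟨1 - η, LocallyConstant T A ⧸ Ideal.span {η}, inferInstance, inferInstance, inferInstance,
    AlgHom.liftOfSurjective π hπ θ' hker, Ideal.Quotient.factorₐ (LocallyConstant T A) hle, ?_⟩
  apply AlgHom.ext
  intro x
  obtain ⟨p, rfl⟩ := hπ x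
  rw [AlgHom.comp_apply, AlgHom.liftOfSurjective_apply]
  show Ideal.Quotient.factor hle (Ideal.Quotient.mk _ (θ p)) = ψ (π p)
  rw [Ideal.Quotient.factor_mk, hθ]

end Groth.Agent.Lib.Helper3.LCIndZar
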