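import Mathlib

set_option autoImplicit false
set_option linter.style.haveILetI false

universe u

namespace Groth.Agent.Lib.Helper3.LCSpec

open TopologicalSpace

variable {T : Type u} [TopologicalSpace T] {A : Type u} [CommRing A]

/-- the point of `Spec (LocallyConstant T A)` attached to a prime of `A` and a point of `T` -/
noncomputable def pt (x : PrimeSpectrum A) (t : T) : PrimeSpectrum (LocallyConstant T A) :=
  PrimeSpectrum.comap (LocallyConstant.evalRingHom t) x

theorem mem_pt {x : PrimeSpectrum A} {t : T} {h : LocallyConstant T A} :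
    h ∈ (pt x t).asIdeal ↔ h t ∈ x.asIdeal := Iff.rfl

/-- the characteristic function of a clopen, as a locally constant function -/
noncomputable def chi (c : Clopens T) : LocallyConstant T A := LocallyConstant.charFn A c.isClopen

theorem chi_apply_of_mem {c : Clopens T} {t : T} (ht : t ∈ c) : (chi c : LocallyConstant T A) t = 1 := by
  show (LocallyConstant.charFn A c.isClopen : T → A) t = 1
  rw [LocallyConstant.coe_charFn]
  exact Set.indicator_of_mem ht _

theorem chi_apply_of_notMem {c : Clopens T} {t : T} (ht : t ∉ c) :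
    (chi c : LocallyConstant T A) t = 0 := by
  show (LocallyConstant.charFn A c.isClopen : T → A) t = 0
  rw [LocallyConstant.coe_charFn]
  exact Set.indicator_of_notMem ht _

theorem chi_inf (c c' : Clopens T) : (chi (c ⊓ c') : LocallyConstant T A) = chi c * chi c' := by
  ext t
  rw [LocallyConstant.mul_apply]
  by_cases h1 : t ∈ c
  · by_cases h2 : t ∈ c'
    · rw [chi_apply_of_mem h1, chi_apply_of_mem h2, chi_apply_of_mem (show t ∈ c ⊓ c' from ⟨h1, h2⟩),
        mul_one]
    · rw [chi_apply_of_notMem h2, chi_apply_of_notMem (show t ∉ c ⊓ c' from fun h => h2 h.2),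
        mul_zero]
  · rw [chi_apply_of_notMem h1, chi_apply_of_notMem (show t ∉ c ⊓ c' from fun h => h1 h.1),
      zero_mul]

theorem chi_mul_chi_compl (c : Clopens T) : (chi c : LocallyConstant T A) * chi cᶜ = 0 := by
  ext t
  rw [LocallyConstant.mul_apply]
  by_cases h1 : t ∈ c
  · rw [chi_apply_of_notMem (show t ∉ cᶜ from fun h => h h1), mul_zero]; rfl
  · rw [chi_apply_of_notMem h1, zero_mul]; rfl

theorem chi_bot : (chi (⊥ : Clopens T) : LocallyConstant T A) = 0 := by
  ext t
  exact chi_apply_of_notMem (fun h => h)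

theorem chi_top : (chi (⊤ : Clopens T) : LocallyConstant T A) = 1 := by
  ext t
  exact chi_apply_of_mem trivial

/-- the fibre of a locally constant function, as a clopen -/
def fib (h : LocallyConstant T A) (t : T) : Clopens T :=
  ⟨h ⁻¹' {h t}, h.isLocallyConstant.isClopen_fiber _⟩

theorem mem_fib (h : LocallyConstant T A) (t : T) : t ∈ fib h t := rfl

theorem mul_chi_fib (h : LocallyConstant T A) (t : T) :
    h * chi (fib h t) = algebraMap A (LocallyConstant T A) (h t) * chi (fib h t) := by
  ext s
  rw [LocallyConstant.mul_apply, LocallyConstant.mul_apply]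
  by_cases hs : s ∈ fib h t
  · have : h s = h t := hs
    rw [this]
    rfl
  · rw [chi_apply_of_notMem hs, mul_zero, mul_zero]

section compact

variable [CompactSpace T]

/-- every prime of `LocallyConstant T A` comes from a point -/
theorem exists_pt (Q : PrimeSpectrum (LocallyConstant T A)) : ∃ x t, Q = pt x t := by
  -- the family of clopens whose characteristic function is not in Q
  let ι := {c : Clopens T // (chi c : LocallyConstant T A) ∉ Q.asIdeal}
  haveI : Nonempty ι := ⟨⟨⊤, by rw [chi_top]; exact Q.2.one_notMem⟩⟩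
  have hne : (⋂ i : ι, (i.1 : Set T)).Nonempty := by
    apply IsCompact.nonempty_iInter_of_directed_nonempty_isCompact_isClosed
    · intro i j
      refine ⟨⟨i.1 ⊓ j.1, ?_⟩, Set.inter_subset_left, Set.inter_subset_right⟩
      rw [chi_inf]
      exact fun h => (Q.2.mem_or_mem h).elim i.2 j.2
    · intro i
      by_contra hemp
      rw [Set.not_nonempty_iff_eq_empty] at hemp
      apply i.2
      have : i.1 = ⊥ := Clopens.ext hemp
      rw [this, chi_bot]
      exact Q.asIdeal.zero_mem
    · intro i
      exact i.1.isClopen.1.isCompact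
    · intro i
      exact i.1.isClopen.1
  obtain ⟨t, ht⟩ := hne
  rw [Set.mem_iInter] at ht
  have hgood : ∀ c : Clopens T, t ∈ c → (chi c : LocallyConstant T A) ∉ Q.asIdeal := by
    intro c htc hc
    have h1 : (chi cᶜ : LocallyConstant T A) ∉ Q.asIdeal := by
      intro h2
      apply Q.2.one_notMem
      have h3 : (1 : LocallyConstant T A) = chi c + chi cᶜ := by
        ext s
        rw [LocallyConstant.add_apply]
        by_cases hs : s ∈ c
        · rw [chi_apply_of_mem hs, chi_apply_of_notMem (show s ∉ cᶜ from fun h => h hs), add_zero]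
          rfl
        · rw [chi_apply_of_notMem hs, chi_apply_of_mem (show s ∈ cᶜ from hs), zero_add]
          rfl
      rw [h3]
      exact add_mem hc h2
    exact ht ⟨cᶜ, h1⟩ htc
  refine ⟨PrimeSpectrum.comap (algebraMap A (LocallyConstant T A)) Q, t, ?_⟩
  ext h
  rw [mem_pt]
  have hc := hgood (fib h t) (mem_fib h t)
  have key := mul_chi_fib h t
  constructor
  · intro hh
    have h1 : h * chi (fib h t) ∈ Q.asIdeal := Ideal.mul_mem_right _ _ hh
    rw [key] at h1
    exact (Q.2.mem_or_mem h1).resolve_right hc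
  · intro hh
    have h1 : algebraMap A (LocallyConstant T A) (h t) * chi (fib h t) ∈ Q.asIdeal :=
      Ideal.mul_mem_right _ _ hh
    rw [← key] at h1
    exact (Q.2.mem_or_mem h1).resolve_right hc

end compact

theorem pt_fst (x : PrimeSpectrum A) (t : T) :
    PrimeSpectrum.comap (algebraMap A (LocallyConstant T A)) (pt x t) = x := by
  ext a
  rfl

section profinite

variable [CompactSpace T] [T2Space T] [TotallyDisconnectedSpace T]

theorem pt_injective {x x' : PrimeSpectrum A} {t t' : T} (h : pt x t = pt x' t') :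
    x = x' ∧ t = t' := by
  have ht : t = t' := by
    by_contra hne
    obtain ⟨U, hU, htU, ht'U⟩ := exists_isClopen_of_totally_separated hne
    have h1 : (chi ⟨U, hU⟩ : LocallyConstant T A) ∈ (pt x' t').asIdeal := by
      rw [mem_pt, chi_apply_of_notMem (c := ⟨U, hU⟩) ht'U]
      exact x'.asIdeal.zero_mem
    rw [← h, mem_pt, chi_apply_of_mem (c := ⟨U, hU⟩) htU] at h1
    exact x.2.one_notMem h1
  refine ⟨?_, ht⟩
  rw [← pt_fst x t, h, pt_fst]

theorem continuous_pt :
    Continuous (fun p : PrimeSpectrum A × T => pt p.1 p.2) := by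
  rw [PrimeSpectrum.isTopologicalBasis_basic_opens.continuous_iff]
  rintro _ ⟨h, rfl⟩
  rw [isOpen_iff_mem_nhds]
  rintro ⟨x, t⟩ hp
  have hp' : h t ∉ x.asIdeal := hp
  have hnhds : (PrimeSpectrum.basicOpen (h t) : Set (PrimeSpectrum A)) ×ˢ ((fib h t : Clopens T) : Set T) ∈
      nhds (x, t) :=
    prod_mem_nhds ((PrimeSpectrum.basicOpen (h t)).isOpen.mem_nhds hp')
      ((fib h t).isClopen.2.mem_nhds (mem_fib h t))
  apply Filter.mem_of_superset hnhds
  rintro ⟨x', t'⟩ ⟨h1, h2⟩
  show h t' ∉ x'.asIdeal
  have : h t' = h t := h2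
  rw [this]
  exact h1

theorem isOpenMap_pt :
    IsOpenMap (fun p : PrimeSpectrum A × T => pt p.1 p.2) := by
  rw [(PrimeSpectrum.isTopologicalBasis_basic_opens.prod isTopologicalBasis_isClopen).isOpenMap_iff]
  rintro _ ⟨_, ⟨a, rfl⟩, U, hU, rfl⟩
  have : (fun p : PrimeSpectrum A × T => pt p.1 p.2) ''
      ((PrimeSpectrum.basicOpen a : Set (PrimeSpectrum A)) ×ˢ U) =
      (PrimeSpectrum.basicOpen (algebraMap A (LocallyConstant T A) a * chi ⟨U, hU⟩) :
        Set (PrimeSpectrum (LocallyConstant T A))) := by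
    ext Q
    constructor
    · rintro ⟨⟨x, t⟩, ⟨h1, h2⟩, rfl⟩
      show _ ∉ (pt x t).asIdeal
      rw [mem_pt, LocallyConstant.mul_apply, chi_apply_of_mem (c := ⟨U, hU⟩) h2, mul_one]
      exact h1
    · intro hQ
      obtain ⟨x, t, rfl⟩ := exists_pt Q
      have hQ' : _ ∉ (pt x t).asIdeal := hQ
      rw [mem_pt, LocallyConstant.mul_apply] at hQ'
      have htU : t ∈ U := by
        by_contra htU
        rw [chi_apply_of_notMem (c := ⟨U, hU⟩) htU, mul_zero] at hQ'
        exact hQ' x.asIdeal.zero_mem
      rw [chi_apply_of_mem (c := ⟨U, hU⟩) htU, mul_one] at hQ'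
      exact ⟨(x, t), ⟨hQ', htU⟩, rfl⟩
  rw [this]
  exact (PrimeSpectrum.basicOpen _).isOpen

/-- `Spec (LocallyConstant T A) ≃ₜ Spec A × T` for profinite `T` -/
noncomputable def specHomeo : PrimeSpectrum A × T ≃ₜ PrimeSpectrum (LocallyConstant T A) :=
  (Equiv.ofBijective (fun p : PrimeSpectrum A × T => pt p.1 p.2)
    ⟨fun p q h => Prod.ext (pt_injective h).1 (pt_injective h).2,
      fun Q => by
        obtain ⟨x, t, rfl⟩ := exists_pt Q
        exact ⟨(x, t), rfl⟩⟩).toHomeomorphOfContinuousOpen continuous_pt isOpenMap_pt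

theorem specHomeo_apply (x : PrimeSpectrum A) (t : T) : specHomeo (x, t) = pt x t := rfl

theorem specHomeo_symm_fst (Q : PrimeSpectrum (LocallyConstant T A)) :
    (specHomeo.symm Q).1 = PrimeSpectrum.comap (algebraMap A (LocallyConstant T A)) Q := by
  obtain ⟨⟨x, t⟩, rfl⟩ := (specHomeo (T := T) (A := A)).surjective Q
  rw [Homeomorph.symm_apply_apply, specHomeo_apply, pt_fst]

end profinite

end Groth.Agent.Lib.Helper3.LCSpec
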