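import Mathlib
import Groth.Prelude.Def_ProEtW
import Groth.Agent.Lib.Helper3LCSpec

set_option autoImplicit false
set_option linter.style.haveILetI false

universe u

namespace Groth.Agent.Lib.Helper3.WLoc

open TopologicalSpace Groth.Agent.Lib.Helper3.LCSpec

variable {T : Type u} [TopologicalSpace T] {A : Type u} [CommRing A]
  (ρ : T → PrimeSpectrum A) (hρ : ∀ f : A, IsClopen {t | f ∈ (ρ t).asIdeal})

/-- the clopen where `f` vanishes -/
def Vc (f : A) : Clopens T := ⟨{t | f ∈ (ρ t).asIdeal}, hρ f⟩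

/-- the function equal to `1` where `f` vanishes and to `f` elsewhere -/
noncomputable def gf (f : A) : LocallyConstant T A :=
  chi (Vc ρ hρ f) + algebraMap A (LocallyConstant T A) f * chi (Vc ρ hρ f)ᶜ

theorem gf_apply_of_mem {f : A} {t : T} (h : f ∈ (ρ t).asIdeal) : gf ρ hρ f t = 1 := by
  have h1 : t ∈ Vc ρ hρ f := h
  have h2 : t ∉ (Vc ρ hρ f)ᶜ := fun h' => h' h1
  show (chi (Vc ρ hρ f) : LocallyConstant T A) t + f * (chi (Vc ρ hρ f)ᶜ : LocallyConstant T A) t = 1
  rw [chi_apply_of_mem h1, chi_apply_of_notMem h2, mul_zero, add_zero]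

theorem gf_apply_of_notMem {f : A} {t : T} (h : f ∉ (ρ t).asIdeal) : gf ρ hρ f t = f := by
  have h1 : t ∉ Vc ρ hρ f := h
  have h2 : t ∈ (Vc ρ hρ f)ᶜ := h1
  show (chi (Vc ρ hρ f) : LocallyConstant T A) t + f * (chi (Vc ρ hρ f)ᶜ : LocallyConstant T A) t = f
  rw [chi_apply_of_notMem h1, chi_apply_of_mem h2, mul_one, zero_add]

/-- the multiplicative set defining the w-localization -/
noncomputable def M : Submonoid (LocallyConstant T A) := Submonoid.closure (Set.range (gf ρ hρ))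

/-- the w-localization along `ρ` -/
abbrev Aw : Type u := Localization (M ρ hρ)

theorem disjoint_M_iff (q : PrimeSpectrum A) (t : T) :
    Disjoint ((M ρ hρ : Submonoid (LocallyConstant T A)) : Set (LocallyConstant T A))
      ((pt q t).asIdeal : Set (LocallyConstant T A)) ↔ q.asIdeal ≤ (ρ t).asIdeal := by
  constructor
  · intro hd f hfq
    by_contra hf
    have h1 : gf ρ hρ f ∈ (pt q t).asIdeal := by
      rw [mem_pt, gf_apply_of_notMem ρ hρ hf]
      exact hfq
    exact Set.disjoint_left.mp hd (Submonoid.subset_closure ⟨f, rfl⟩) h1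
  · intro hle
    rw [Set.disjoint_left]
    intro m hm hmQ
    have hle' : M ρ hρ ≤ (pt q t).asIdeal.primeCompl := by
      apply Submonoid.closure_le.mpr
      rintro _ ⟨f, rfl⟩
      show gf ρ hρ f ∉ (pt q t).asIdeal
      rw [mem_pt]
      by_cases hf : f ∈ (ρ t).asIdeal
      · rw [gf_apply_of_mem ρ hρ hf]
        exact q.2.one_notMem
      · rw [gf_apply_of_notMem ρ hρ hf]
        exact fun h => hf (hle h)
    exact hle' hm hmQ

variable [CompactSpace T] [T2Space T] [TotallyDisconnectedSpace T]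

/-- the embedding of `Spec` of the w-localization into `Spec A × T` -/
noncomputable def Ψ (y : PrimeSpectrum (Aw ρ hρ)) : PrimeSpectrum A × T :=
  (specHomeo (T := T) (A := A)).symm
    (PrimeSpectrum.comap (algebraMap (LocallyConstant T A) (Aw ρ hρ)) y)

theorem isEmbedding_Ψ : Topology.IsEmbedding (Ψ ρ hρ) :=
  (specHomeo (T := T) (A := A)).symm.isEmbedding.comp
    (PrimeSpectrum.localization_comap_isEmbedding (Aw ρ hρ) (M ρ hρ))

theorem range_Ψ : Set.range (Ψ ρ hρ) = {p | p.1.asIdeal ≤ (ρ p.2).asIdeal} := by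
  ext ⟨q, t⟩
  constructor
  · rintro ⟨y, hy⟩
    have h1 : PrimeSpectrum.comap (algebraMap (LocallyConstant T A) (Aw ρ hρ)) y = pt q t := by
      have := congr((specHomeo (T := T) (A := A)) $hy)
      rw [Ψ, Homeomorph.apply_symm_apply, specHomeo_apply] at this
      exact this
    have h2 : PrimeSpectrum.comap (algebraMap (LocallyConstant T A) (Aw ρ hρ)) y ∈
        Set.range (PrimeSpectrum.comap (algebraMap (LocallyConstant T A) (Aw ρ hρ))) := ⟨y, rfl⟩
    rw [PrimeSpectrum.localization_comap_range (Aw ρ hρ) (M ρ hρ), h1] at h2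
    exact (disjoint_M_iff ρ hρ q t).mp h2
  · intro hle
    have h2 : pt q t ∈
        Set.range (PrimeSpectrum.comap (algebraMap (LocallyConstant T A) (Aw ρ hρ))) := by
      rw [PrimeSpectrum.localization_comap_range (Aw ρ hρ) (M ρ hρ)]
      exact (disjoint_M_iff ρ hρ q t).mpr hle
    obtain ⟨y, hy⟩ := h2
    refine ⟨y, ?_⟩
    rw [Ψ, hy, ← specHomeo_apply, Homeomorph.symm_apply_apply]

theorem Ψ_le (y : PrimeSpectrum (Aw ρ hρ)) : (Ψ ρ hρ y).1.asIdeal ≤ (ρ (Ψ ρ hρ y).2).asIdeal := by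
  have : Ψ ρ hρ y ∈ Set.range (Ψ ρ hρ) := ⟨y, rfl⟩
  rw [range_Ψ] at this
  exact this

theorem Ψ_fst (y : PrimeSpectrum (Aw ρ hρ)) :
    (Ψ ρ hρ y).1 = PrimeSpectrum.comap (algebraMap A (Aw ρ hρ)) y := by
  rw [Ψ, specHomeo_symm_fst]
  rfl

/-- the closed point over `t` -/
theorem exists_closedPt (t : T) : ∃ y, Ψ ρ hρ y = (ρ t, t) := by
  have : (ρ t, t) ∈ Set.range (Ψ ρ hρ) := by
    rw [range_Ψ]
    exact le_refl (ρ t).asIdeal
  exact this

theorem specializes_iff (y y' : PrimeSpectrum (Aw ρ hρ)) :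
    y ⤳ y' ↔ (Ψ ρ hρ y).1.asIdeal ≤ (Ψ ρ hρ y').1.asIdeal ∧ (Ψ ρ hρ y).2 = (Ψ ρ hρ y').2 := by
  rw [← (isEmbedding_Ψ ρ hρ).isInducing.specializes_iff]
  have h1 : Ψ ρ hρ y ⤳ Ψ ρ hρ y' ↔
      (Ψ ρ hρ y).1 ⤳ (Ψ ρ hρ y').1 ∧ (Ψ ρ hρ y).2 ⤳ (Ψ ρ hρ y').2 := specializes_prod
  rw [h1, specializes_iff_eq (X := T), ← PrimeSpectrum.le_iff_specializes]
  rfl

theorem isClosed_singleton_iff (y : PrimeSpectrum (Aw ρ hρ)) :
    IsClosed ({y} : Set (PrimeSpectrum (Aw ρ hρ))) ↔ (Ψ ρ hρ y).1 = ρ (Ψ ρ hρ y).2 := by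
  constructor
  · intro hy
    obtain ⟨y', hy'⟩ := exists_closedPt ρ hρ (Ψ ρ hρ y).2
    have hsp : y ⤳ y' := by
      rw [specializes_iff, hy']
      exact ⟨Ψ_le ρ hρ y, rfl⟩
    have : y' ∈ closure ({y} : Set (PrimeSpectrum (Aw ρ hρ))) := specializes_iff_mem_closure.mp hsp
    rw [hy.closure_eq] at this
    have h1 : y' = y := this
    rw [h1] at hy'
    rw [hy']
  · intro hy
    rw [← closure_eq_iff_isClosed]
    apply Set.Subset.antisymm _ subset_closure
    intro y' hy'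
    have hsp : y ⤳ y' := specializes_iff_mem_closure.mpr hy'
    rw [specializes_iff] at hsp
    have h1 := Ψ_le ρ hρ y'
    rw [← hsp.2, ← hy] at h1
    have h2 : (Ψ ρ hρ y').1 = (Ψ ρ hρ y).1 := PrimeSpectrum.ext (le_antisymm h1 hsp.1)
    have h3 : Ψ ρ hρ y' = Ψ ρ hρ y := Prod.ext h2 hsp.2.symm
    exact (isEmbedding_Ψ ρ hρ).injective h3

/-- the spectrum of the w-localization is w-local -/
theorem isWLocal : ProEtW.IsWLocal (PrimeSpectrum (Aw ρ hρ)) := by
  refine ⟨inferInstance, ?_, ?_⟩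
  · -- closed points form a closed set
    have : {y : PrimeSpectrum (Aw ρ hρ) | IsClosed ({y} : Set (PrimeSpectrum (Aw ρ hρ)))} =
        Ψ ρ hρ ⁻¹' (⋂ f : A, ((PrimeSpectrum.zeroLocus {f} : Set (PrimeSpectrum A)) ×ˢ Set.univ ∪
          Set.univ ×ˢ (((Vc ρ hρ f)ᶜ : Clopens T) : Set T))) := by
      ext y
      rw [Set.mem_ofPred_eq, isClosed_singleton_iff, Set.mem_preimage, Set.mem_iInter]
      constructor
      · intro hy f
        by_cases hf : f ∈ (ρ (Ψ ρ hρ y).2).asIdeal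
        · left
          refine ⟨?_, trivial⟩
          rw [hy]
          simpa using hf
        · right
          exact ⟨trivial, hf⟩
      · intro hy
        apply PrimeSpectrum.ext
        apply le_antisymm (Ψ_le ρ hρ y)
        intro f hf
        rcases hy f with h | h
        · simpa using h.1
        · exact absurd hf h.2
    rw [this]
    apply IsClosed.preimage (isEmbedding_Ψ ρ hρ).continuous
    apply isClosed_iInter
    intro f
    apply IsClosed.union
    · exact (PrimeSpectrum.isClosed_zeroLocus _).prod isClosed_univ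
    · exact isClosed_univ.prod ((Vc ρ hρ f)ᶜ).isClopen.1
  · intro y
    obtain ⟨y', hy'⟩ := exists_closedPt ρ hρ (Ψ ρ hρ y).2
    refine ⟨y', ⟨?_, ?_⟩, ?_⟩
    · rw [isClosed_singleton_iff, hy']
    · rw [specializes_iff, hy']
      exact ⟨Ψ_le ρ hρ y, rfl⟩
    · rintro y'' ⟨hc, hsp⟩
      rw [isClosed_singleton_iff] at hc
      rw [specializes_iff] at hsp
      apply (isEmbedding_Ψ ρ hρ).injective
      rw [hy']
      apply Prod.ext
      · show (Ψ ρ hρ y'').1 = ρ (Ψ ρ hρ y).2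
        rw [hc, hsp.2]
      · exact hsp.2.symm

/-- closed points are those lying over the diagonal -/
theorem closedPoints_eq :
    ProEtW.closedPoints (PrimeSpectrum (Aw ρ hρ)) = {y | (Ψ ρ hρ y).1 = ρ (Ψ ρ hρ y).2} := by
  ext y
  exact isClosed_singleton_iff ρ hρ y

/-- the projection to `T` -/
noncomputable def σ (y : PrimeSpectrum (Aw ρ hρ)) : T := (Ψ ρ hρ y).2

theorem continuous_σ : Continuous (σ ρ hρ) :=
  continuous_snd.comp (isEmbedding_Ψ ρ hρ).continuous

theorem isConnected_fiber (t : T) : IsConnected (σ ρ hρ ⁻¹' {t}) := by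
  obtain ⟨c, hc⟩ := exists_closedPt ρ hρ t
  have hcF : c ∈ σ ρ hρ ⁻¹' {t} := by
    show (Ψ ρ hρ c).2 = t
    rw [hc]
  apply IsPathConnected.isConnected
  refine ⟨c, hcF, fun y hy => ?_⟩
  apply JoinedIn.symm
  apply Specializes.joinedIn _ hy hcF
  have hy' : (Ψ ρ hρ y).2 = t := hy
  rw [specializes_iff, hc]
  refine ⟨?_, hy'⟩
  have := Ψ_le ρ hρ y
  rw [hy'] at this
  exact this

/-- the space of components of the w-localization is `T` -/
noncomputable def pi0Homeo : ConnectedComponents (PrimeSpectrum (Aw ρ hρ)) ≃ₜ T :=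
  Continuous.homeoOfEquivCompactToT2
    (f := Equiv.ofBijective (continuous_σ ρ hρ).connectedComponentsLift (by
      constructor
      · intro c c' hcc
        obtain ⟨y, rfl⟩ := ConnectedComponents.surjective_coe c
        obtain ⟨y', rfl⟩ := ConnectedComponents.surjective_coe c'
        rw [Continuous.connectedComponentsLift_apply_coe,
          Continuous.connectedComponentsLift_apply_coe] at hcc
        rw [ConnectedComponents.coe_eq_coe']
        have h1 : y ∈ σ ρ hρ ⁻¹' {σ ρ hρ y'} := hcc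
        have h2 : y' ∈ σ ρ hρ ⁻¹' {σ ρ hρ y'} := rfl
        exact (isConnected_fiber ρ hρ (σ ρ hρ y')).isPreconnected.subset_connectedComponent h2 h1
      · intro t
        obtain ⟨y, hy⟩ := (isConnected_fiber ρ hρ t).nonempty
        exact ⟨ConnectedComponents.mk y,
          ((continuous_σ ρ hρ).connectedComponentsLift_apply_coe y).trans hy⟩))
    (continuous_σ ρ hρ).connectedComponentsLift_continuous

theorem pi0Homeo_mk (y : PrimeSpectrum (Aw ρ hρ)) :
    pi0Homeo ρ hρ (ConnectedComponents.mk y) = σ ρ hρ y :=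
  (continuous_σ ρ hρ).connectedComponentsLift_apply_coe y

theorem comap_surjective (hsurj : Function.Surjective ρ) :
    Function.Surjective (PrimeSpectrum.comap (algebraMap A (Aw ρ hρ))) := by
  intro x
  obtain ⟨t, rfl⟩ := hsurj x
  obtain ⟨y, hy⟩ := exists_closedPt ρ hρ t
  refine ⟨y, ?_⟩
  rw [← Ψ_fst, hy]

theorem bijOn_closedPoints (hbij : Function.Bijective ρ) :
    Set.BijOn (PrimeSpectrum.comap (algebraMap A (Aw ρ hρ)))
      (ProEtW.closedPoints (PrimeSpectrum (Aw ρ hρ))) Set.univ := by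
  refine ⟨fun _ _ => trivial, ?_, ?_⟩
  · intro y hy y' hy' heq
    rw [closedPoints_eq] at hy hy'
    rw [← Ψ_fst, ← Ψ_fst] at heq
    have h1 : ρ (Ψ ρ hρ y).2 = ρ (Ψ ρ hρ y').2 := by
      rw [← hy, ← hy', heq]
    exact (isEmbedding_Ψ ρ hρ).injective (Prod.ext heq (hbij.1 h1))
  · intro x _
    obtain ⟨t, rfl⟩ := hbij.2 x
    obtain ⟨y, hy⟩ := exists_closedPt ρ hρ t
    refine ⟨y, ?_, ?_⟩
    · rw [closedPoints_eq]
      show (Ψ ρ hρ y).1 = ρ (Ψ ρ hρ y).2
      rw [hy]
    · rw [← Ψ_fst, hy]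

end Groth.Agent.Lib.Helper3.WLoc
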