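import Mathlib
import Groth.Prelude.Def_PBC
import Groth.Prelude.Def_ProEtW
import Groth.Agent.Lib.Helper3IdLoc

set_option autoImplicit false
set_option linter.style.haveILetI false

universe u

namespace Groth.Agent.Lib.Helper3.IdLoc

variable {A B : Type u} [CommRing A] [CommRing B] [Algebra A B]

/-- the numerator of a local fraction for an element outside the prime is outside the prime -/
theorem notMem_of_el {q : PrimeSpectrum B} {t₀ : B} (ht₀ : t₀ ∉ q.asIdeal) {a' s' : A} {t' : B}
    (hs' : s' ∉ q.asIdeal.comap (algebraMap A B)) (ht' : t' ∉ q.asIdeal)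
    (hst' : t' * (algebraMap A B s' * t₀ - algebraMap A B a') = 0) :
    a' ∉ q.asIdeal.comap (algebraMap A B) := by
  intro hc
  have hc' : algebraMap A B a' ∈ q.asIdeal := hc
  have h1 : t' * (algebraMap A B s' * t₀) = t' * algebraMap A B a' := by
    rw [mul_sub, sub_eq_zero] at hst'
    exact hst'
  have h2 : t' * (algebraMap A B s' * t₀) ∈ q.asIdeal := by
    rw [h1]
    exact Ideal.mul_mem_left _ _ hc'
  rcases q.2.mem_or_mem h2 with h | h
  · exact ht' h
  · rcases q.2.mem_or_mem h with h | h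
    · exact hs' h
    · exact ht₀ h

/-- elements of `IB` are locally images of elements of `I` -/
theorem exists_local_mem (hs : ELSurj A B) (I : Ideal A) (q : PrimeSpectrum B) {z : B}
    (hz : z ∈ I.map (algebraMap A B)) :
    ∃ (s i : A) (t' : B), s ∉ q.asIdeal.comap (algebraMap A B) ∧ i ∈ I ∧ t' ∉ q.asIdeal ∧
      t' * (algebraMap A B s * z - algebraMap A B i) = 0 := by
  haveI hp : (q.asIdeal.comap (algebraMap A B)).IsPrime := inferInstance
  induction hz using Submodule.span_induction with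
  | mem y hy =>
    obtain ⟨i, hi, rfl⟩ := hy
    exact ⟨1, i, 1, hp.one_notMem, hi, q.2.one_notMem, by simp⟩
  | zero => exact ⟨1, 0, 1, hp.one_notMem, I.zero_mem, q.2.one_notMem, by simp⟩
  | add y z _ _ hy hz =>
    obtain ⟨s₁, i₁, t₁, hs₁, hi₁, ht₁, h₁⟩ := hy
    obtain ⟨s₂, i₂, t₂, hs₂, hi₂, ht₂, h₂⟩ := hz
    refine ⟨s₁ * s₂, s₂ * i₁ + s₁ * i₂, t₁ * t₂, ?_, ?_, ?_, ?_⟩
    · intro hc
      rcases hp.mem_or_mem hc with h | h
      · exact hs₁ h
      · exact hs₂ h
    · exact add_mem (Ideal.mul_mem_left _ _ hi₁) (Ideal.mul_mem_left _ _ hi₂)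
    · intro hc
      rcases q.2.mem_or_mem hc with h | h
      · exact ht₁ h
      · exact ht₂ h
    · simp only [map_mul, map_add]
      have : t₁ * t₂ * (algebraMap A B s₁ * algebraMap A B s₂ * (y + z) -
          (algebraMap A B s₂ * algebraMap A B i₁ + algebraMap A B s₁ * algebraMap A B i₂)) =
          t₂ * algebraMap A B s₂ * (t₁ * (algebraMap A B s₁ * y - algebraMap A B i₁)) +
          t₁ * algebraMap A B s₁ * (t₂ * (algebraMap A B s₂ * z - algebraMap A B i₂)) := by ring
      rw [this, h₁, h₂, mul_zero, mul_zero, add_zero]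
  | smul b z _ hz =>
    obtain ⟨s, i, t', hs', hi, ht', h'⟩ := hz
    obtain ⟨a_b, s_b, t_b, hs_b, ht_b, h_b⟩ := hs q b
    refine ⟨s_b * s, a_b * i, t_b * t', ?_, Ideal.mul_mem_left _ _ hi, ?_, ?_⟩
    · intro hc
      rcases hp.mem_or_mem hc with h | h
      · exact hs_b h
      · exact hs' h
    · intro hc
      rcases q.2.mem_or_mem hc with h | h
      · exact ht_b h
      · exact ht' h
    · simp only [map_mul, smul_eq_mul]
      have : t_b * t' * (algebraMap A B s_b * algebraMap A B s * (b * z) -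
          algebraMap A B a_b * algebraMap A B i) =
          t_b * algebraMap A B s_b * b * (t' * (algebraMap A B s * z - algebraMap A B i)) +
          t' * algebraMap A B i * (t_b * (algebraMap A B s_b * b - algebraMap A B a_b)) := by ring
      rw [this, h', h_b, mul_zero, mul_zero, add_zero]

/-- identifying local rings passes to quotients -/
theorem identifies_quotient (h : EtPBC.IdentifiesLocalRings A B) (I : Ideal A) :
    letI : Algebra (A ⧸ I) (B ⧸ I.map (algebraMap A B)) :=
      (Ideal.quotientMap (I.map (algebraMap A B)) (algebraMap A B) Ideal.le_comap_map).toAlgebra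
    EtPBC.IdentifiesLocalRings (A ⧸ I) (B ⧸ I.map (algebraMap A B)) := by
  letI : Algebra (A ⧸ I) (B ⧸ I.map (algebraMap A B)) :=
    (Ideal.quotientMap (I.map (algebraMap A B)) (algebraMap A B) Ideal.le_comap_map).toAlgebra
  have hφ : ∀ a : A, algebraMap (A ⧸ I) (B ⧸ I.map (algebraMap A B)) (Ideal.Quotient.mk I a) =
      Ideal.Quotient.mk _ (algebraMap A B a) := fun a => Ideal.quotientMap_mk
  have hS := elSurj_of_identifies h
  have hI := elInj_of_identifies h
  apply identifies_of_el
  · intro qb bb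
    obtain ⟨b, rfl⟩ := Ideal.Quotient.mk_surjective bb
    let q : PrimeSpectrum B := PrimeSpectrum.comap (Ideal.Quotient.mk (I.map (algebraMap A B))) qb
    obtain ⟨a, s, t, hs, ht, hst⟩ := hS q b
    refine ⟨Ideal.Quotient.mk I a, Ideal.Quotient.mk I s, Ideal.Quotient.mk _ t, ?_, ht, ?_⟩
    · intro hc
      apply hs
      show Ideal.Quotient.mk _ (algebraMap A B s) ∈ qb.asIdeal
      rw [← hφ]
      exact hc
    · rw [hφ, hφ, ← map_mul, ← map_sub, ← map_mul, hst, map_zero]
  · intro qb ab tb htb h0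
    obtain ⟨a, rfl⟩ := Ideal.Quotient.mk_surjective ab
    obtain ⟨t, rfl⟩ := Ideal.Quotient.mk_surjective tb
    let q : PrimeSpectrum B := PrimeSpectrum.comap (Ideal.Quotient.mk (I.map (algebraMap A B))) qb
    have htq : t ∉ q.asIdeal := htb
    rw [hφ, ← map_mul, Ideal.Quotient.eq_zero_iff_mem] at h0
    obtain ⟨s₀, i₀, t₀, hs₀, hi₀, ht₀, h₀⟩ := exists_local_mem hS I q h0
    have ht₀t : t₀ * t ∉ q.asIdeal := by
      intro hc
      rcases q.2.mem_or_mem hc with h | h
      · exact ht₀ h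
      · exact htq h
    obtain ⟨a₁, s₁, t₁, hs₁, ht₁, h₁⟩ := hS q (t₀ * t)
    have ha₁ := notMem_of_el ht₀t hs₁ ht₁ h₁
    obtain ⟨a₂, s₂, t₂, hs₂, ht₂, h₂⟩ := hS q t₀
    have ht₁₂ : t₁ * t₂ ∉ q.asIdeal := by
      intro hc
      rcases q.2.mem_or_mem hc with h | h
      · exact ht₁ h
      · exact ht₂ h
    have hkey : t₁ * t₂ * algebraMap A B (s₂ * a₁ * s₀ * a - s₁ * i₀ * a₂) = 0 := by
      simp only [map_mul, map_sub]
      have : t₁ * t₂ * (algebraMap A B s₂ * algebraMap A B a₁ * algebraMap A B s₀ * algebraMap A B a -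
          algebraMap A B s₁ * algebraMap A B i₀ * algebraMap A B a₂) =
          t₁ * algebraMap A B s₁ * algebraMap A B s₂ * t₂ *
            (t₀ * (algebraMap A B s₀ * (t * algebraMap A B a) - algebraMap A B i₀)) -
          t₂ * algebraMap A B s₂ * algebraMap A B s₀ * algebraMap A B a *
            (t₁ * (algebraMap A B s₁ * (t₀ * t) - algebraMap A B a₁)) +
          t₁ * algebraMap A B s₁ * algebraMap A B i₀ *
            (t₂ * (algebraMap A B s₂ * t₀ - algebraMap A B a₂)) := by ring
      rw [this, h₀, h₁, h₂, mul_zero, mul_zero, mul_zero, sub_zero, add_zero]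
    obtain ⟨s₃, hs₃, h₃⟩ := hI q _ (t₁ * t₂) ht₁₂ hkey
    haveI hp : (q.asIdeal.comap (algebraMap A B)).IsPrime := inferInstance
    refine ⟨Ideal.Quotient.mk I (s₃ * s₂ * a₁ * s₀), ?_, ?_⟩
    · intro hc
      have hc' : Ideal.Quotient.mk _ (algebraMap A B (s₃ * s₂ * a₁ * s₀)) ∈ qb.asIdeal := by
        rw [← hφ]
        exact hc
      have hc'' : s₃ * s₂ * a₁ * s₀ ∈ q.asIdeal.comap (algebraMap A B) := hc'
      rcases hp.mem_or_mem hc'' with h | h
      · rcases hp.mem_or_mem h with h | h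
        · rcases hp.mem_or_mem h with h | h
          · exact hs₃ h
          · exact hs₂ h
        · exact ha₁ h
      · exact hs₀ h
    · rw [← map_mul, Ideal.Quotient.eq_zero_iff_mem]
      have : s₃ * s₂ * a₁ * s₀ * a = s₃ * (s₂ * a₁ * s₀ * a - s₁ * i₀ * a₂) + s₃ * s₁ * a₂ * i₀ := by
        ring
      rw [this, h₃, zero_add]
      exact Ideal.mul_mem_left _ _ hi₀

/-- a spectrum which is `T1` is w-local -/
theorem isWLocal_of_t1 (R : Type u) [CommRing R] [T1Space (PrimeSpectrum R)] :
    ProEtW.IsWLocal (PrimeSpectrum R) := by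
  refine ⟨inferInstance, ?_, fun x => ⟨x, ⟨isClosed_singleton, specializes_rfl⟩, ?_⟩⟩
  · have : {x : PrimeSpectrum R | IsClosed ({x} : Set (PrimeSpectrum R))} = Set.univ := by
      ext x
      simp
    rw [this]
    exact isClosed_univ
  · rintro y ⟨-, hxy⟩
    exact (specializes_iff_eq.mp hxy).symm

end Groth.Agent.Lib.Helper3.IdLoc
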