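import Mathlib
import Groth.Prelude.Def_ProEtW

set_option autoImplicit false
set_option linter.style.haveILetI false

universe u

namespace Groth.Agent.Lib.Helper3.WLocal

variable {A : Type u} [CommRing A]

/-- the multiplicative set `1 + K` -/
def onePlus (K : Ideal A) : Submonoid A where
  carrier := {s | s - 1 ∈ K}
  one_mem' := by simp
  mul_mem' := fun {a b} ha hb => by
    have : a * b - 1 = (a - 1) * b + (b - 1) := by ring
    show a * b - 1 ∈ K
    rw [this]
    exact add_mem (Ideal.mul_mem_right _ _ ha) hb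

theorem mem_onePlus {K : Ideal A} {s : A} : s ∈ onePlus K ↔ s - 1 ∈ K := Iff.rfl

/-- the generalizations of `V(K)` form the image of `Spec ((1+K)⁻¹ A)` -/
theorem range_comap_onePlus (K : Ideal A) :
    Set.range (PrimeSpectrum.comap (algebraMap A (Localization (onePlus K)))) =
      {x | ∃ z ∈ PrimeSpectrum.zeroLocus (K : Set A), x ⤳ z} := by
  rw [PrimeSpectrum.localization_comap_range (Localization (onePlus K)) (onePlus K)]
  ext p
  simp only [Set.mem_setOf_eq]
  constructor
  · intro hdisj
    have hne : p.asIdeal ⊔ K ≠ ⊤ := by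
      intro htop
      have h1 : (1 : A) ∈ p.asIdeal ⊔ K := htop ▸ Submodule.mem_top
      obtain ⟨y, hy, k, hk, hyk⟩ := Submodule.mem_sup.mp h1
      have hyS : y ∈ onePlus K := by
        rw [mem_onePlus]
        have : y - 1 = -k := by rw [← hyk]; ring
        rw [this]; exact neg_mem hk
      exact Set.disjoint_left.mp hdisj hyS hy
    obtain ⟨m, hm, hle⟩ := Ideal.exists_le_maximal _ hne
    refine ⟨⟨m, hm.isPrime⟩, fun k hk => hle (Ideal.mem_sup_right hk), ?_⟩
    rw [← PrimeSpectrum.le_iff_specializes]
    exact fun y hy => hle (Ideal.mem_sup_left hy)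
  · rintro ⟨z, hz, hpz⟩
    rw [← PrimeSpectrum.le_iff_specializes] at hpz
    rw [Set.disjoint_left]
    intro s hsS hsp
    have h1 : s ∈ z.asIdeal := hpz hsp
    have h2 : s - 1 ∈ z.asIdeal := hz hsS
    exact z.2.ne_top ((Ideal.eq_top_iff_one _).mpr (by
      have := sub_mem h1 h2
      rwa [sub_sub_cancel] at this))

section wlocal

variable (h : ProEtW.IsWLocal (PrimeSpectrum A))
include h

/-- the unique closed specialization -/
noncomputable def r (x : PrimeSpectrum A) : PrimeSpectrum A := (h.2.2 x).choose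

theorem isClosed_r (x : PrimeSpectrum A) : IsClosed ({r h x} : Set (PrimeSpectrum A)) :=
  (h.2.2 x).choose_spec.1.1

theorem specializes_r (x : PrimeSpectrum A) : x ⤳ r h x := (h.2.2 x).choose_spec.1.2

theorem eq_r {x y : PrimeSpectrum A} (hy : IsClosed ({y} : Set (PrimeSpectrum A))) (hxy : x ⤳ y) :
    y = r h x := (h.2.2 x).choose_spec.2 y ⟨hy, hxy⟩

theorem r_eq_of_specializes {x x' : PrimeSpectrum A} (hx : x ⤳ x') : r h x = r h x' :=
  (eq_r h (isClosed_r h x') (hx.trans (specializes_r h x'))).symm ▸ rfl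

theorem r_of_isClosed {c : PrimeSpectrum A} (hc : IsClosed ({c} : Set (PrimeSpectrum A))) :
    r h c = c := (eq_r h hc specializes_rfl).symm

theorem le_r (x : PrimeSpectrum A) : x.asIdeal ≤ (r h x).asIdeal :=
  (PrimeSpectrum.le_iff_specializes _ _).mpr (specializes_r h x)

theorem gen_eq (K : Ideal A) :
    {x | ∃ z ∈ PrimeSpectrum.zeroLocus (K : Set A), x ⤳ z} =
      {x | r h x ∈ PrimeSpectrum.zeroLocus (K : Set A)} := by
  ext x
  simp only [Set.mem_setOf_eq]
  constructor
  · rintro ⟨z, hz, hxz⟩
    rw [r_eq_of_specializes h hxz]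
    exact fun k hk => le_r h z (hz hk)
  · intro hx
    exact ⟨r h x, hx, specializes_r h x⟩

/-- the generalizations of a closed subset of a w-local spectrum form a closed set -/
theorem isClosed_gen (K : Ideal A) :
    IsClosed {x | r h x ∈ PrimeSpectrum.zeroLocus (K : Set A)} := by
  rw [← gen_eq h K, ← range_comap_onePlus K]
  apply PrimeSpectrum.isClosed_range_of_stableUnderSpecialization
  rw [range_comap_onePlus K, gen_eq h K]
  intro x y hxy hx
  show r h y ∈ PrimeSpectrum.zeroLocus (K : Set A)
  rw [← r_eq_of_specializes h hxy]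
  exact hx

/-- closed points not containing `a` form a closed set -/
theorem isClosed_closedPoints_inter_basicOpen (a : A) :
    IsClosed ({x | IsClosed ({x} : Set (PrimeSpectrum A))} ∩
      (PrimeSpectrum.basicOpen a : Set (PrimeSpectrum A))) := by
  obtain ⟨Jc, hJc⟩ : ∃ Jc : Ideal A, PrimeSpectrum.zeroLocus (Jc : Set A) =
      {x | IsClosed ({x} : Set (PrimeSpectrum A))} :=
    ⟨PrimeSpectrum.vanishingIdeal _, by
      rw [PrimeSpectrum.zeroLocus_vanishingIdeal_eq_closure, h.2.1.closure_eq]⟩
  let g₁ : A →+* A ⧸ Jc := Ideal.Quotient.mk Jc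
  let g₂ : (A ⧸ Jc) →+* Localization.Away (g₁ a) := algebraMap _ _
  have hr1 : Set.range (PrimeSpectrum.comap g₁) = {x | IsClosed ({x} : Set (PrimeSpectrum A))} := by
    rw [_root_.range_comap_of_surjective _ g₁ Ideal.Quotient.mk_surjective, Ideal.mk_ker, hJc]
  have hrange : Set.range (PrimeSpectrum.comap (g₂.comp g₁)) =
      {x | IsClosed ({x} : Set (PrimeSpectrum A))} ∩
        (PrimeSpectrum.basicOpen a : Set (PrimeSpectrum A)) := by
    ext x
    constructor
    · rintro ⟨y, rfl⟩
      refine ⟨?_, ?_⟩
      · rw [← hr1]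
        exact ⟨PrimeSpectrum.comap g₂ y, rfl⟩
      · have hy : PrimeSpectrum.comap g₂ y ∈ Set.range (PrimeSpectrum.comap g₂) := ⟨y, rfl⟩
        rw [PrimeSpectrum.localization_away_comap_range (Localization.Away (g₁ a)) (g₁ a)] at hy
        exact hy
    · rintro ⟨hx1, hx2⟩
      rw [← hr1] at hx1
      obtain ⟨y, rfl⟩ := hx1
      have hy : y ∈ Set.range (PrimeSpectrum.comap g₂) := by
        rw [PrimeSpectrum.localization_away_comap_range (Localization.Away (g₁ a)) (g₁ a)]
        exact hx2
      obtain ⟨w, rfl⟩ := hy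
      exact ⟨w, rfl⟩
  rw [← hrange]
  apply PrimeSpectrum.isClosed_range_of_stableUnderSpecialization
  rw [hrange]
  rintro x y hxy ⟨hx1, hx2⟩
  have : y = x := by
    have hy : y ∈ closure ({x} : Set (PrimeSpectrum A)) := specializes_iff_mem_closure.mp hxy
    rw [IsClosed.closure_eq hx1] at hy
    exact hy
  rw [this]
  exact ⟨hx1, hx2⟩

/-- distinct closed points of a w-local spectrum are separated by an idempotent -/
theorem exists_idempotent_sep {c c' : PrimeSpectrum A}
    (hc : IsClosed ({c} : Set (PrimeSpectrum A))) (hc' : IsClosed ({c'} : Set (PrimeSpectrum A)))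
    (hne : c ≠ c') : ∃ e : A, IsIdempotentElem e ∧ e ∈ c.asIdeal ∧ e ∉ c'.asIdeal := by
  have hcm := (PrimeSpectrum.isClosed_singleton_iff_isMaximal c).mp hc
  have hc'm := (PrimeSpectrum.isClosed_singleton_iff_isMaximal c').mp hc'
  -- a ∈ c, a ∉ c'
  obtain ⟨a, hac, hac'⟩ : ∃ a, a ∈ c.asIdeal ∧ a ∉ c'.asIdeal := by
    by_contra hcon
    push Not at hcon
    have hle : c.asIdeal ≤ c'.asIdeal := hcon
    have := hcm.eq_of_le hc'm.ne_top hle
    exact hne (PrimeSpectrum.ext this)
  let W : Set (PrimeSpectrum A) := {x | a ∉ (r h x).asIdeal}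
  have hWc : IsClosed W := by
    obtain ⟨K', hK'⟩ : ∃ K' : Ideal A, PrimeSpectrum.zeroLocus (K' : Set A) =
        {x | IsClosed ({x} : Set (PrimeSpectrum A))} ∩
          (PrimeSpectrum.basicOpen a : Set (PrimeSpectrum A)) :=
      ⟨PrimeSpectrum.vanishingIdeal _, by
        rw [PrimeSpectrum.zeroLocus_vanishingIdeal_eq_closure,
          (isClosed_closedPoints_inter_basicOpen h a).closure_eq]⟩
    have : W = {x | r h x ∈ PrimeSpectrum.zeroLocus (K' : Set A)} := by
      ext x
      simp only [W, Set.mem_setOf_eq]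
      rw [hK']
      constructor
      · intro hx
        exact ⟨isClosed_r h x, hx⟩
      · rintro ⟨-, hx⟩
        exact hx
    rw [this]
    exact isClosed_gen h K'
  have hWo : IsClosed Wᶜ := by
    have : Wᶜ = {x | r h x ∈ PrimeSpectrum.zeroLocus ((Ideal.span {a} : Ideal A) : Set A)} := by
      ext x
      simp only [W, Set.mem_compl_iff, Set.mem_setOf_eq, not_not]
      rw [PrimeSpectrum.zeroLocus_span]
      simp
    rw [this]
    exact isClosed_gen h _
  have hclopen : IsClopen W := ⟨hWc, by simpa using hWo.isOpen_compl⟩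
  obtain ⟨e, he, hWe⟩ := PrimeSpectrum.isClopen_iff.mp hclopen
  refine ⟨e, he, ?_, ?_⟩
  · by_contra hec
    have : c ∈ W := by rw [hWe]; exact hec
    have h2 : a ∉ (r h c).asIdeal := this
    rw [r_of_isClosed h hc] at h2
    exact h2 hac
  · have : c' ∈ W := by
      show a ∉ (r h c').asIdeal
      rw [r_of_isClosed h hc']
      exact hac'
    rw [hWe] at this
    exact this

/-- a point and its closed specialization lie in the same connected component -/
theorem mk_eq_mk_r (x : PrimeSpectrum A) :
    ConnectedComponents.mk x = ConnectedComponents.mk (r h x) := by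
  rw [ConnectedComponents.coe_eq_coe']
  have hpre : IsPreconnected (closure ({x} : Set (PrimeSpectrum A))) :=
    isPreconnected_singleton.closure
  have hx : x ∈ closure ({x} : Set (PrimeSpectrum A)) := subset_closure rfl
  have hr : r h x ∈ closure ({x} : Set (PrimeSpectrum A)) :=
    specializes_iff_mem_closure.mp (specializes_r h x)
  have := hpre.subset_connectedComponent hr
  exact this hx

/-- closed points in the same connected component coincide -/
theorem eq_of_mk_eq {c c' : PrimeSpectrum A}
    (hc : IsClosed ({c} : Set (PrimeSpectrum A))) (hc' : IsClosed ({c'} : Set (PrimeSpectrum A)))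
    (hmk : ConnectedComponents.mk c = ConnectedComponents.mk c') : c = c' := by
  by_contra hne
  obtain ⟨e, he, hec, hec'⟩ := exists_idempotent_sep h hc hc' hne
  -- the clopen V(e) contains c, so contains its component, so contains c'
  have hclopen : IsClopen (PrimeSpectrum.zeroLocus ({e} : Set A)) := by
    rw [PrimeSpectrum.isClopen_iff_zeroLocus]
    exact ⟨e, he, rfl⟩
  have hcV : c ∈ PrimeSpectrum.zeroLocus ({e} : Set A) := by
    simpa using hec
  have hsub := hclopen.connectedComponent_subset hcV
  have hc'c : c' ∈ connectedComponent c := ConnectedComponents.coe_eq_coe'.mp hmk.symm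
  have := hsub hc'c
  simp only [PrimeSpectrum.mem_zeroLocus, Set.singleton_subset_iff, SetLike.mem_coe] at this
  exact hec' this

end wlocal

end Groth.Agent.Lib.Helper3.WLocal
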