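import Mathlib
import Groth.Prelude.Def_PBC
import Groth.Prelude.Def_ProEtW
import Groth.Agent.Lib.Helper3WLocal
import Groth.Agent.Lib.Helper3IdLoc
import Groth.Agent.Lib.Helper3IdLoc2
import Groth.Agent.Lib.Helper10ProCons
import Groth.Agent.S0699

set_option autoImplicit false
set_option linter.style.haveILetI false

universe u

namespace Groth.Agent.Lib.Helper3.WLoc

open Groth.Agent.Lib.Helper3.IdLoc Groth.Agent.Lib.Helper3.WLocal

/-- a `T1` prime spectrum is totally separated -/
theorem totallySeparatedSpace_of_t1 (R : Type u) [CommRing R] [T1Space (PrimeSpectrum R)] :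
    TotallySeparatedSpace (PrimeSpectrum R) := by
  have hw := isWLocal_of_t1 R
  rw [totallySeparatedSpace_iff_exists_isClopen]
  intro x y hxy
  obtain ⟨e, he, hex, hey⟩ := exists_idempotent_sep hw (isClosed_singleton (x := x))
    (isClosed_singleton (x := y)) hxy
  refine ⟨PrimeSpectrum.zeroLocus {e}, ?_, ?_, ?_⟩
  · rw [PrimeSpectrum.isClopen_iff_zeroLocus]
    exact ⟨e, he, rfl⟩
  · simpa using hex
  · simpa using hey

set_option maxHeartbeats 1600000 in
/-- comparison of quotients along a map identifying local rings whose closed points are `V(IB)` -/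
theorem quotient_bijective' (A B : Type u) [CommRing A] [CommRing B] [Algebra A B] (I : Ideal A)
    (h1 : EtPBC.IdentifiesLocalRings A B)
    (hcp : ProEtW.closedPoints (PrimeSpectrum B) =
      PrimeSpectrum.zeroLocus (I.map (algebraMap A B)))
    [T1Space (PrimeSpectrum (A ⧸ I))]
    (hbij : Set.BijOn (PrimeSpectrum.comap (algebraMap A B))
      (ProEtW.closedPoints (PrimeSpectrum B)) (PrimeSpectrum.zeroLocus (R := A) I)) :
    Function.Bijective (Ideal.quotientMap (I.map (algebraMap A B)) (algebraMap A B)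
      Ideal.le_comap_map) := by
  letI : Algebra (A ⧸ I) (B ⧸ I.map (algebraMap A B)) :=
    (Ideal.quotientMap (I.map (algebraMap A B)) (algebraMap A B) Ideal.le_comap_map).toAlgebra
  have hφ : ∀ a : A, algebraMap (A ⧸ I) (B ⧸ I.map (algebraMap A B))
      (Ideal.Quotient.mk I a) = Ideal.Quotient.mk _ (algebraMap A B a) :=
    fun a => Ideal.quotientMap_mk
  have h1' := identifies_quotient h1 I
  let jA : PrimeSpectrum (A ⧸ I) → PrimeSpectrum A := PrimeSpectrum.comap (Ideal.Quotient.mk I)
  have hjA : Topology.IsClosedEmbedding jA :=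
    PrimeSpectrum.isClosedEmbedding_comap_of_surjective _ _ Ideal.Quotient.mk_surjective
  have hjAr : Set.range jA = PrimeSpectrum.zeroLocus (R := A) I := by
    rw [_root_.range_comap_of_surjective _ _ Ideal.Quotient.mk_surjective, Ideal.mk_ker]
  let jB : PrimeSpectrum (B ⧸ I.map (algebraMap A B)) → PrimeSpectrum B :=
    PrimeSpectrum.comap (Ideal.Quotient.mk _)
  have hjB : Topology.IsClosedEmbedding jB :=
    PrimeSpectrum.isClosedEmbedding_comap_of_surjective _ _ Ideal.Quotient.mk_surjective
  have hjBr : Set.range jB = ProEtW.closedPoints (PrimeSpectrum B) := by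
    rw [_root_.range_comap_of_surjective _ _ Ideal.Quotient.mk_surjective, Ideal.mk_ker, hcp]
  haveI := totallySeparatedSpace_of_t1 (A ⧸ I)
  haveI hT1B : T1Space (PrimeSpectrum (B ⧸ I.map (algebraMap A B))) := by
    rw [t1Space_iff_specializes_imp_eq]
    intro x x' hxx'
    have h2 : jB x ⤳ jB x' := hxx'.map hjB.continuous
    have h3 : jB x ∈ ProEtW.closedPoints (PrimeSpectrum B) := hjBr ▸ ⟨x, rfl⟩
    have h4 : IsClosed ({jB x} : Set (PrimeSpectrum B)) := h3
    have h5 : jB x' ∈ closure ({jB x} : Set (PrimeSpectrum B)) :=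
      specializes_iff_mem_closure.mp h2
    rw [h4.closure_eq] at h5
    exact (hjB.injective h5).symm
  obtain ⟨g, hg⟩ : ∃ g : PrimeSpectrum (B ⧸ I.map (algebraMap A B)) →
      PrimeSpectrum (A ⧸ I), g = PrimeSpectrum.comap (algebraMap (A ⧸ I) _) := ⟨_, rfl⟩
  have hsq : ∀ x, jA (g x) = PrimeSpectrum.comap (algebraMap A B) (jB x) := by
    intro x
    rw [hg]
    ext a
    show algebraMap (A ⧸ I) _ (Ideal.Quotient.mk I a) ∈ x.asIdeal ↔
      Ideal.Quotient.mk _ (algebraMap A B a) ∈ x.asIdeal
    rw [hφ]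
  have hjBcl : ∀ x, jB x ∈ ProEtW.closedPoints (PrimeSpectrum B) := fun x => hjBr ▸ ⟨x, rfl⟩
  have hginj : Function.Injective g := by
    intro x x' hxx'
    apply hjB.injective
    apply hbij.injOn (hjBcl x) (hjBcl x')
    rw [← hsq, ← hsq, hxx']
  have hgsurj : Function.Surjective g := by
    intro xb
    have hp : jA xb ∈ PrimeSpectrum.zeroLocus (R := A) I := hjAr ▸ ⟨xb, rfl⟩
    obtain ⟨y, hycl, hy⟩ := hbij.surjOn hp
    rw [← hjBr] at hycl
    obtain ⟨x, rfl⟩ := hycl
    refine ⟨x, ?_⟩
    apply hjA.injective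
    rw [hsq, hy]
  have h5 : Function.Bijective
      (PrimeSpectrum.continuous_comap (algebraMap (A ⧸ I)
        (B ⧸ I.map (algebraMap A B)))).connectedComponentsMap := by
    have hmap : ∀ x, (PrimeSpectrum.continuous_comap (algebraMap (A ⧸ I)
        (B ⧸ I.map (algebraMap A B)))).connectedComponentsMap
        (ConnectedComponents.mk x) = ConnectedComponents.mk (g x) := by
      intro x; rw [hg]; rfl
    constructor
    · intro c c' hcc
      obtain ⟨x, rfl⟩ := ConnectedComponents.surjective_coe c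
      obtain ⟨x', rfl⟩ := ConnectedComponents.surjective_coe c'
      rw [hmap, hmap, ConnectedComponents.coe_eq_coe', connectedComponent_eq_singleton] at hcc
      rw [hginj hcc]
    · intro c
      obtain ⟨xb, rfl⟩ := ConnectedComponents.surjective_coe c
      obtain ⟨x, rfl⟩ := hgsurj xb
      exact ⟨ConnectedComponents.mk x, hmap x⟩
  have h4 : ProEtW.IsWLocalMap (PrimeSpectrum.comap (algebraMap (A ⧸ I)
      (B ⧸ I.map (algebraMap A B)))) :=
    ⟨Groth.Agent.Lib.Helper10.ProCons.isSpectralMap_comap _, fun _ _ => isClosed_singleton⟩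
  exact Groth.Agent.S0699.result (A ⧸ I) (B ⧸ I.map (algebraMap A B)) h1'
    (isWLocal_of_t1 _) (isWLocal_of_t1 _) h4 h5

end Groth.Agent.Lib.Helper3.WLoc
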