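import Mathlib
import Groth.Prelude.Def_PBC
import Groth.Prelude.Def_ProEtW
import Groth.Prelude.Def_EtBase
import Groth.Agent.Lib.Helper1IndEtale
import Groth.Agent.Lib.Helper16HenselInv
import Groth.Agent.Lib.Helper3ShQuot
import Groth.Agent.S0693
import Groth.Agent.S0694
import Groth.Agent.S0737
import Groth.Agent.S0675
import Groth.Agent.S0733
import Groth.Agent.S0734
import Groth.Agent.Lib.Helper3IdLoc
import Groth.Agent.Lib.Helper3IndZarFlat
import Groth.Agent.Lib.Helper18StdEtaleCover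

/-!
# w-local ind-étale covers (Stacks 097Z-type; Bhatt–Scholze 2.2/2.3)

Namespace `Groth.Agent.Helper13WLoc`:
* `etale_of_isLocalIso`, `isIndEtale_of_isIndZariski`
* `isAlgebraic_quotient_of_unramified`, `algebraicResidueExtensions_of_isIndEtale`
* `elem_of_isAlgebraic` / `isAlgebraic_of_elem` (elementary form of algebraicity mod primes)
* `algebraicResidueExtensions_of_adjoin` (base change of algebraic residue extensions)
* `faithfullyFlat_of_flat_of_maximal`, `exists_prime_of_quotient_bijective`,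
  `isStrictlyHenselian_of_ringEquiv`, `adjoin_range_includeLeft_eq_top`
* `closedPoints_ideal`, `mem_closedPoints_iff`
* `exists_wLocal_strictlyHenselian_cover` : every ring has a faithfully flat ind-étale cover with
  w-local spectrum, closed points surjecting, strictly henselian local rings at closed points.
* `exists_wLocal_over` : relative version over a given such cover.
-/

set_option autoImplicit false
set_option linter.style.haveILetI false
set_option linter.unusedSectionVars false
open TensorProduct IsLocalRing CategoryTheory CategoryTheory.Limits Polynomial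

namespace Groth.Agent.Helper13WLoc

universe u

theorem etale_of_isLocalIso (R S : Type u) [CommRing R] [CommRing S] [Algebra R S]
    [Algebra.IsLocalIso R S] : Algebra.Etale R S := by
  rw [← RingHom.etale_algebraMap]
  refine RingHom.Etale.ofLocalizationSpanTarget (algebraMap R S)
    {g : S | Algebra.IsStandardOpenImmersion R (Localization.Away g)}
    (Algebra.IsLocalIso.span_isStandardOpenImmersion_eq_top R S) ?_
  rintro ⟨g, hg⟩
  rw [← IsScalarTower.algebraMap_eq, RingHom.etale_algebraMap]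
  obtain ⟨r, hr⟩ := (hg : Algebra.IsStandardOpenImmersion R (Localization.Away g)).exists_away
  exact Algebra.Etale.of_isLocalizationAway r

theorem isIndEtale_of_isIndZariski {A B : Type u} [CommRing A] [CommRing B] [Algebra A B]
    (h : EtPBC.IsIndZariski A B) : EtPBC.IsIndEtale A B := by
  obtain ⟨J, i1, i2, D, c, hc, hD, e⟩ := h
  refine ⟨J, i1, i2, D, c, hc, ?_, e⟩
  intro j
  letI := (D.obj j).hom.hom.toAlgebra
  haveI := hD j
  exact etale_of_isLocalIso A (D.obj j).right

set_option maxHeartbeats 1000000 in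
theorem isAlgebraic_quotient_of_unramified (A E : Type u) [CommRing A] [CommRing E] [Algebra A E]
    [Algebra.FormallyUnramified A E] [Algebra.FiniteType A E] (Q : Ideal E) [Q.IsPrime] :
    Algebra.IsAlgebraic (A ⧸ Q.comap (algebraMap A E)) (E ⧸ Q) := by
  haveI : (Q.comap (algebraMap A E)).IsPrime := Ideal.comap_isPrime _ _
  haveI : Algebra.FormallyUnramified A (E ⧸ Q) :=
    Algebra.FormallyUnramified.of_surjective (Ideal.Quotient.mkₐ A Q) Ideal.Quotient.mk_surjective
  haveI : IsScalarTower A (A ⧸ Q.comap (algebraMap A E)) (E ⧸ Q) :=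
    IsScalarTower.of_algebraMap_eq (fun _ => rfl)
  haveI : Algebra.FormallyUnramified (A ⧸ Q.comap (algebraMap A E)) (E ⧸ Q) :=
    Algebra.FormallyUnramified.of_restrictScalars A _ _
  haveI : Algebra.FiniteType A (E ⧸ Q) :=
    Algebra.FiniteType.of_surjective (Ideal.Quotient.mkₐ A Q) Ideal.Quotient.mk_surjective
  haveI : Algebra.FiniteType (A ⧸ Q.comap (algebraMap A E)) (E ⧸ Q) :=
    Algebra.FiniteType.of_restrictScalars_finiteType A _ _
  let K := FractionRing (A ⧸ Q.comap (algebraMap A E))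
  haveI : Module.Finite K (K ⊗[A ⧸ Q.comap (algebraMap A E)] (E ⧸ Q)) :=
    Algebra.FormallyUnramified.finite_of_free K _
  haveI : Algebra.IsAlgebraic K (K ⊗[A ⧸ Q.comap (algebraMap A E)] (E ⧸ Q)) :=
    Algebra.IsAlgebraic.of_finite K _
  haveI : Algebra.IsAlgebraic (A ⧸ Q.comap (algebraMap A E))
      (K ⊗[A ⧸ Q.comap (algebraMap A E)] (E ⧸ Q)) :=
    (IsFractionRing.comap_isAlgebraic_iff (K := K)).mpr inferInstance
  have hinj : Function.Injective (Algebra.TensorProduct.includeRight :
      E ⧸ Q →ₐ[A ⧸ Q.comap (algebraMap A E)] K ⊗[A ⧸ Q.comap (algebraMap A E)] (E ⧸ Q)) := by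
    rw [injective_iff_map_eq_zero]
    intro x hx
    haveI : IsLocalizedModule (nonZeroDivisors (A ⧸ Q.comap (algebraMap A E)))
        (TensorProduct.mk (A ⧸ Q.comap (algebraMap A E)) K (E ⧸ Q) 1) := by
      rw [isLocalizedModule_iff_isBaseChange
        (S := nonZeroDivisors (A ⧸ Q.comap (algebraMap A E))) (A := K)]
      exact TensorProduct.isBaseChange _ _ _
    have hx' : TensorProduct.mk (A ⧸ Q.comap (algebraMap A E)) K (E ⧸ Q) 1 x = 0 := hx
    obtain ⟨⟨s, hs⟩, hsx⟩ := (IsLocalizedModule.eq_zero_iff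
      (nonZeroDivisors (A ⧸ Q.comap (algebraMap A E)))
      (TensorProduct.mk (A ⧸ Q.comap (algebraMap A E)) K (E ⧸ Q) 1)).mp hx'
    have h1 : algebraMap (A ⧸ Q.comap (algebraMap A E)) (E ⧸ Q) s * x = 0 := by
      rw [← Algebra.smul_def]; exact hsx
    rcases mul_eq_zero.mp h1 with h2 | h2
    · exfalso
      have : s = 0 := Ideal.algebraMap_quotient_injective (by rw [h2, map_zero])
      exact (nonZeroDivisors.ne_zero hs) this
    · exact h2
  exact Algebra.IsAlgebraic.of_injective _ hinj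

section elem
open Polynomial
variable {A E : Type u} [CommRing A] [CommRing E] [Algebra A E]

theorem mk_aeval_eq (Q : Ideal E) (e : E) (P : A[X]) :
    Ideal.Quotient.mk Q (aeval e P) =
      aeval (Ideal.Quotient.mk Q e) (P.map (Ideal.Quotient.mk (Q.comap (algebraMap A E)))) := by
  rw [aeval_def, aeval_def, eval₂_map, hom_eval₂]
  congr 1

theorem elem_of_isAlgebraic (Q : Ideal E)
    (h : Algebra.IsAlgebraic (A ⧸ Q.comap (algebraMap A E)) (E ⧸ Q)) (e : E) :
    ∃ P : A[X], (∃ n, P.coeff n ∉ Q.comap (algebraMap A E)) ∧ aeval e P ∈ Q := by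
  obtain ⟨P₀, hP₀, hP⟩ := h.isAlgebraic (Ideal.Quotient.mk Q e)
  obtain ⟨P, rfl⟩ := Polynomial.map_surjective (Ideal.Quotient.mk (Q.comap (algebraMap A E)))
    Ideal.Quotient.mk_surjective P₀
  refine ⟨P, ?_, ?_⟩
  · by_contra hcon
    push_neg at hcon
    apply hP₀
    ext n
    rw [coeff_map, coeff_zero]
    exact Ideal.Quotient.eq_zero_iff_mem.mpr (hcon n)
  · rw [← Ideal.Quotient.eq_zero_iff_mem, mk_aeval_eq, hP]

theorem isAlgebraic_of_elem (Q : Ideal E)
    (h : ∀ e : E, ∃ P : A[X], (∃ n, P.coeff n ∉ Q.comap (algebraMap A E)) ∧ aeval e P ∈ Q) :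
    Algebra.IsAlgebraic (A ⧸ Q.comap (algebraMap A E)) (E ⧸ Q) := by
  refine ⟨fun x => ?_⟩
  obtain ⟨e, rfl⟩ := Ideal.Quotient.mk_surjective x
  obtain ⟨P, ⟨n, hn⟩, hP⟩ := h e
  refine ⟨P.map (Ideal.Quotient.mk (Q.comap (algebraMap A E))), ?_, ?_⟩
  · intro h0
    have := congrArg (fun p => p.coeff n) h0
    simp only [coeff_map, coeff_zero] at this
    exact hn (Ideal.Quotient.eq_zero_iff_mem.mp this)
  · rw [← mk_aeval_eq, Ideal.Quotient.eq_zero_iff_mem]
    exact hP

end elem

theorem algebraicResidueExtensions_of_isIndEtale {A B : Type u} [CommRing A] [CommRing B]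
    [Algebra A B] (h : EtPBC.IsIndEtale A B) : ProEtW.AlgebraicResidueExtensions A B := by
  obtain ⟨J, _, _, R, _, _, hR, t, ι, -, hsurj, -⟩ :=
    Groth.Agent.Lib.Helper1.IndEtale.exists_directed_of_isIndEtale h
  intro q _
  apply isAlgebraic_of_elem
  intro b
  obtain ⟨j, e, rfl⟩ := hsurj b
  haveI := hR j
  let Q : Ideal (R j) := q.comap (ι j)
  haveI : Q.IsPrime := Ideal.comap_isPrime _ _
  have hQ : ∀ a, a ∈ Q.comap (algebraMap A (R j)) ↔ a ∈ q.comap (algebraMap A B) := by
    intro a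
    simp only [Q, Ideal.mem_comap]
    rw [AlgHom.commutes]
  obtain ⟨P, ⟨n, hn⟩, hP⟩ := elem_of_isAlgebraic Q (isAlgebraic_quotient_of_unramified A (R j) Q) e
  refine ⟨P, ⟨n, fun hc => hn ((hQ _).mpr hc)⟩, ?_⟩
  rw [Polynomial.aeval_algHom_apply]
  exact hP


set_option maxHeartbeats 1000000 in
/-- Base change of algebraic residue field extensions (general form). -/
theorem algebraicResidueExtensions_of_adjoin (A B C D : Type u) [CommRing A] [CommRing B]
    [CommRing C] [CommRing D] [Algebra A B] [Algebra A C] [Algebra B D] [Algebra C D] [Algebra A D]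
    [IsScalarTower A B D] [IsScalarTower A C D]
    (hgen : Algebra.adjoin C (Set.range (algebraMap B D)) = ⊤)
    (h : ProEtW.AlgebraicResidueExtensions A B) : ProEtW.AlgebraicResidueExtensions C D := by
  intro q' _
  haveI : (q'.comap (algebraMap C D)).IsPrime := Ideal.comap_isPrime _ _
  haveI : (q'.comap (algebraMap B D)).IsPrime := Ideal.comap_isPrime _ _
  haveI : IsScalarTower C (C ⧸ q'.comap (algebraMap C D)) (D ⧸ q') :=
    IsScalarTower.of_algebraMap_eq (fun _ => rfl)
  let T := Subalgebra.algebraicClosure (C ⧸ q'.comap (algebraMap C D)) (D ⧸ q')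
  let U : Subalgebra C D := (T.restrictScalars C).comap (Ideal.Quotient.mkₐ C q')
  have hU : ∀ z : D, z ∈ U ↔ IsAlgebraic (C ⧸ q'.comap (algebraMap C D)) (Ideal.Quotient.mk q' z) :=
    fun z => Iff.rfl
  have hB : Set.range (algebraMap B D) ⊆ U := by
    rintro _ ⟨b, rfl⟩
    rw [SetLike.mem_coe, hU]
    have halg := h (q'.comap (algebraMap B D))
    obtain ⟨P, ⟨n, hn⟩, hP⟩ := elem_of_isAlgebraic (q'.comap (algebraMap B D)) halg b
    refine ⟨(P.map (algebraMap A C)).map (Ideal.Quotient.mk (q'.comap (algebraMap C D))), ?_, ?_⟩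
    · intro h0
      have := congrArg (fun p => p.coeff n) h0
      simp only [coeff_map, coeff_zero] at this
      rw [Ideal.Quotient.eq_zero_iff_mem, Ideal.mem_comap,
        ← IsScalarTower.algebraMap_apply A C D, IsScalarTower.algebraMap_apply A B D] at this
      exact hn this
    · rw [← mk_aeval_eq, Ideal.Quotient.eq_zero_iff_mem, aeval_map_algebraMap,
        Polynomial.aeval_algebraMap_apply]
      exact hP
  have hle : Algebra.adjoin C (Set.range (algebraMap B D)) ≤ U := Algebra.adjoin_le hB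
  rw [hgen] at hle
  refine ⟨fun x => ?_⟩
  obtain ⟨z, rfl⟩ := Ideal.Quotient.mk_surjective x
  exact (hU z).mp (hle Algebra.mem_top)

/-- Flat + every maximal ideal is a contraction ⇒ faithfully flat. -/
theorem faithfullyFlat_of_flat_of_maximal (A C : Type u) [CommRing A] [CommRing C] [Algebra A C]
    [Module.Flat A C]
    (H : ∀ m : Ideal A, m.IsMaximal → ∃ q : Ideal C, q.IsPrime ∧ q.comap (algebraMap A C) = m) :
    Module.FaithfullyFlat A C := by
  refine ⟨fun m hm => ?_⟩
  obtain ⟨q, hq, hqm⟩ := H m hm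
  intro htop
  have h1 : m.map (algebraMap A C) = ⊤ := by
    apply Submodule.restrictScalars_injective A C C
    rw [← Ideal.smul_top_eq_map, htop]
    rfl
  have h2 : m.map (algebraMap A C) ≤ q := by
    rw [Ideal.map_le_iff_le_comap, hqm]
  rw [h1] at h2
  exact hq.ne_top (top_le_iff.mp h2)

/-- Transfer of primes along `B/K ≅ C/KC`. -/
theorem exists_prime_of_quotient_bijective (B C : Type u) [CommRing B] [CommRing C] [Algebra B C]
    (K : Ideal B)
    (hbij : Function.Bijective (Ideal.quotientMap (K.map (algebraMap B C)) (algebraMap B C)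
      Ideal.le_comap_map))
    (q' : Ideal B) [q'.IsPrime] (hK : K ≤ q') :
    ∃ q : Ideal C, q.IsPrime ∧ q.comap (algebraMap B C) = q' := by
  let e := RingEquiv.ofBijective _ hbij
  let ψ : C →+* B ⧸ q' := (Ideal.Quotient.factor hK).comp
    ((e.symm : C ⧸ K.map (algebraMap B C) →+* B ⧸ K).comp (Ideal.Quotient.mk _))
  refine ⟨RingHom.ker ψ, RingHom.ker_isPrime ψ, ?_⟩
  ext b
  rw [Ideal.mem_comap, RingHom.mem_ker]
  have h1 : ψ (algebraMap B C b) = Ideal.Quotient.mk q' b := by
    simp only [ψ, RingHom.comp_apply]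
    have h2 : Ideal.Quotient.mk (K.map (algebraMap B C)) (algebraMap B C b) =
        e (Ideal.Quotient.mk K b) := by
      simp only [e, RingEquiv.ofBijective_apply, Ideal.quotientMap_mk]
    rw [h2]
    simp
  rw [h1, Ideal.Quotient.eq_zero_iff_mem]

theorem isStrictlyHenselian_of_ringEquiv {R S : Type u} [CommRing R] [CommRing S] (e : R ≃+* S)
    (h : EtCoh.IsStrictlyHenselianLocalRing R) : EtCoh.IsStrictlyHenselianLocalRing S := by
  obtain ⟨hR, hsc⟩ := h
  haveI := hR
  haveI : HenselianLocalRing S := Groth.Agent.Lib.Helper16HenselInv.henselian_of_ringEquiv e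
  refine ⟨inferInstance, ?_⟩
  haveI := hsc
  exact Groth.Agent.Lib.Helper3.ShQuot.isSepClosed_of_ringEquiv (IsLocalRing.ResidueField.mapEquiv e)

section
attribute [local instance] Algebra.TensorProduct.rightAlgebra in
theorem adjoin_range_includeLeft_eq_top (A B C : Type u) [CommRing A] [CommRing B] [CommRing C]
    [Algebra A B] [Algebra A C] :
    Algebra.adjoin C (Set.range (algebraMap B (B ⊗[A] C))) = ⊤ := by
  rw [eq_top_iff]
  rintro z -
  induction z using TensorProduct.induction_on with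
  | zero => exact Subalgebra.zero_mem _
  | tmul b c =>
    have h1 : b ⊗ₜ[A] c = c • (algebraMap B (B ⊗[A] C) b) := by
      rw [Algebra.smul_def, Algebra.TensorProduct.algebraMap_apply]
      show _ = ((1 : B) ⊗ₜ[A] c) * (b ⊗ₜ[A] (1 : C))
      rw [Algebra.TensorProduct.tmul_mul_tmul, one_mul, mul_one]
    rw [h1]
    exact Subalgebra.smul_mem _ (Algebra.subset_adjoin (Set.mem_range_self b)) c
  | add x y hx hy => exact Subalgebra.add_mem _ hx hy
end


/-- the radical ideal of the closed points of a w-local spectrum -/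
theorem closedPoints_ideal (R : Type u) [CommRing R] (h : ProEtW.IsWLocal (PrimeSpectrum R)) :
    ∃ I : Ideal R, I.IsRadical ∧
      PrimeSpectrum.zeroLocus (R := R) I = ProEtW.closedPoints (PrimeSpectrum R) := by
  refine ⟨PrimeSpectrum.vanishingIdeal (ProEtW.closedPoints (PrimeSpectrum R)),
    PrimeSpectrum.isRadical_vanishingIdeal _, ?_⟩
  rw [PrimeSpectrum.zeroLocus_vanishingIdeal_eq_closure]
  exact h.2.1.closure_eq

theorem mem_closedPoints_iff {R : Type u} [CommRing R] (x : PrimeSpectrum R) :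
    x ∈ ProEtW.closedPoints (PrimeSpectrum R) ↔ x.asIdeal.IsMaximal :=
  PrimeSpectrum.isClosed_singleton_iff_isMaximal x

set_option maxHeartbeats 1600000 in
theorem exists_wLocal_strictlyHenselian_cover (A : Type u) [CommRing A] :
    ∃ (C : Type u) (_ : CommRing C) (_ : Algebra A C),
      Module.FaithfullyFlat A C ∧ EtPBC.IsIndEtale A C ∧ ProEtW.IsWLocal (PrimeSpectrum C) ∧
      PrimeSpectrum.comap (algebraMap A C) '' ProEtW.closedPoints (PrimeSpectrum C) = Set.univ ∧
      ∀ (m : Ideal C) [m.IsMaximal],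
        EtCoh.IsStrictlyHenselianLocalRing (Localization.AtPrime m) := by
  obtain ⟨Aw, _, _, hff1, hiz1, hwl1, hbij1⟩ := Groth.Agent.S0694.result A
  obtain ⟨I, hI, hI0⟩ := closedPoints_ideal Aw hwl1
  obtain ⟨C', _, _, hff2, hie2, hret⟩ := Groth.Agent.S0693.result Aw
  have h2 := algebraicResidueExtensions_of_isIndEtale hie2
  obtain ⟨hcl, C, _, _, _, _, hiz3, hbij3, hwl3, hwlm3, hcp3⟩ :=
    Groth.Agent.S0737.result Aw C' hwl1 I hI hI0 h2
  letI : Algebra A C := ((algebraMap Aw C).comp (algebraMap A Aw)).toAlgebra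
  haveI : IsScalarTower A Aw C := IsScalarTower.of_algebraMap_eq (fun _ => rfl)
  -- primes of `C` over closed points of `Aw`
  have key : ∀ m : Ideal Aw, m.IsMaximal →
      ∃ q : Ideal C, q.IsPrime ∧ q.comap (algebraMap Aw C) = m := by
    intro m hm
    have hIm : I ≤ m := by
      have hmem : (⟨m, hm.isPrime⟩ : PrimeSpectrum Aw) ∈ PrimeSpectrum.zeroLocus (I : Set Aw) := by
        rw [hI0]
        exact (mem_closedPoints_iff _).mpr hm
      exact (PrimeSpectrum.mem_zeroLocus _ _).mp hmem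
    obtain ⟨⟨q', hq'⟩, hq'm⟩ :=
      PrimeSpectrum.comap_surjective_of_faithfullyFlat (A := Aw) (B := C') ⟨m, hm.isPrime⟩
    have hq'm' : q'.comap (algebraMap Aw C') = m := congrArg PrimeSpectrum.asIdeal hq'm
    have hK : I.map (algebraMap Aw C') ≤ q' := by
      rw [Ideal.map_le_iff_le_comap, hq'm']
      exact hIm
    obtain ⟨q, hq, hqq'⟩ :=
      exists_prime_of_quotient_bijective C' C (I.map (algebraMap Aw C')) hbij3 q' hK
    refine ⟨q, hq, ?_⟩
    rw [IsScalarTower.algebraMap_eq Aw C' C, ← Ideal.comap_comap, hqq', hq'm']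
  haveI : Module.Flat C' C := Groth.Agent.Lib.Helper3.IndZarCrit.flat_of_isIndZariski hiz3
  haveI : Module.Flat Aw C := Module.Flat.trans Aw C' C
  haveI hff3 : Module.FaithfullyFlat Aw C := faithfullyFlat_of_flat_of_maximal Aw C key
  have hie3 : EtPBC.IsIndEtale Aw C :=
    Groth.Agent.S0734.result Aw C' C hie2 (isIndEtale_of_isIndZariski hiz3)
  refine ⟨C, inferInstance, inferInstance, Module.FaithfullyFlat.trans A Aw C,
    Groth.Agent.S0734.result A Aw C (isIndEtale_of_isIndZariski hiz1) hie3, hwl3, ?_, ?_⟩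
  · -- closed points surject onto Spec A
    rw [Set.eq_univ_iff_forall]
    intro p
    obtain ⟨m, hmcl, hmp⟩ := hbij1.surjOn (Set.mem_univ p)
    have hmmax : m.asIdeal.IsMaximal := (mem_closedPoints_iff m).mp hmcl
    obtain ⟨q, hq, hqm⟩ := key m.asIdeal hmmax
    refine ⟨⟨q, hq⟩, ?_, ?_⟩
    · rw [hcp3]
      show PrimeSpectrum.comap (algebraMap Aw C) ⟨q, hq⟩ ∈ ProEtW.closedPoints (PrimeSpectrum Aw)
      have : PrimeSpectrum.comap (algebraMap Aw C) ⟨q, hq⟩ = m := PrimeSpectrum.ext hqm
      rw [this]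
      exact hmcl
    · rw [← hmp]
      apply PrimeSpectrum.ext
      show q.comap (algebraMap A C) = m.asIdeal.comap (algebraMap A Aw)
      rw [IsScalarTower.algebraMap_eq A Aw C, ← Ideal.comap_comap, hqm]
  · -- strictly henselian local rings at maximal ideals
    intro m hm
    have hmcl : (⟨m, hm.isPrime⟩ : PrimeSpectrum C) ∈ ProEtW.closedPoints (PrimeSpectrum C) :=
      (mem_closedPoints_iff _).mpr hm
    rw [hcp3] at hmcl
    have h1 : PrimeSpectrum.comap (algebraMap Aw C) ⟨m, hm.isPrime⟩ ∈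
        PrimeSpectrum.zeroLocus (I : Set Aw) := by rw [hI0]; exact hmcl
    have hIm : I ≤ m.comap (algebraMap Aw C) := (PrimeSpectrum.mem_zeroLocus _ _).mp h1
    let m' : Ideal C' := m.comap (algebraMap C' C)
    haveI : m'.IsPrime := Ideal.comap_isPrime _ _
    have hm'V : (⟨m', inferInstance⟩ : PrimeSpectrum C') ∈
        PrimeSpectrum.zeroLocus (R := C') (I.map (algebraMap Aw C')) := by
      rw [PrimeSpectrum.mem_zeroLocus, SetLike.coe_subset_coe, Ideal.map_le_iff_le_comap]
      show I ≤ (m.comap (algebraMap C' C)).comap (algebraMap Aw C')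
      rw [Ideal.comap_comap, ← IsScalarTower.algebraMap_eq Aw C' C]
      exact hIm
    haveI hm'max : m'.IsMaximal := (mem_closedPoints_iff _).mp (hcl hm'V)
    have hsh := Groth.Agent.S0675.result C' hret m'
    have hid := Groth.Agent.Lib.Helper3.IdLoc.identifies_of_isIndZariski hiz3 ⟨m, hm.isPrime⟩
    exact isStrictlyHenselian_of_ringEquiv (RingEquiv.ofBijective _ hid) hsh

section
attribute [local instance] Algebra.TensorProduct.rightAlgebra in
set_option maxHeartbeats 1600000 in
theorem exists_wLocal_over (A B C : Type u) [CommRing A] [CommRing B] [CommRing C] [Algebra A B]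
    [Algebra A C] (h : ProEtW.AlgebraicResidueExtensions A B)
    (hAC : EtPBC.IsIndEtale A C) [Module.Flat A C]
    (hwlC : ProEtW.IsWLocal (PrimeSpectrum C))
    (hsurj : PrimeSpectrum.comap (algebraMap A C) '' ProEtW.closedPoints (PrimeSpectrum C)
      = Set.univ) :
    ∃ (D : Type u) (_ : CommRing D) (_ : Algebra B D) (_ : Algebra C D) (_ : Algebra A D)
      (_ : IsScalarTower A C D) (_ : IsScalarTower A B D),
      Module.FaithfullyFlat B D ∧ EtPBC.IsIndEtale B D ∧ ProEtW.IsWLocal (PrimeSpectrum D) ∧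
      ProEtW.IsWLocalMap (PrimeSpectrum.comap (algebraMap C D)) ∧
      ProEtW.closedPoints (PrimeSpectrum D) =
        PrimeSpectrum.comap (algebraMap C D) ⁻¹' ProEtW.closedPoints (PrimeSpectrum C) ∧
      PrimeSpectrum.comap (algebraMap B D) '' ProEtW.closedPoints (PrimeSpectrum D) = Set.univ := by
  obtain ⟨J, hJ, hJ0⟩ := closedPoints_ideal C hwlC
  have hgen := adjoin_range_includeLeft_eq_top A B C
  have h' : ProEtW.AlgebraicResidueExtensions C (B ⊗[A] C) :=
    algebraicResidueExtensions_of_adjoin A B C (B ⊗[A] C) hgen h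
  obtain ⟨hcl, D, _, _, _, _, hiz, hbij, hwl, hwlm, hcp⟩ :=
    Groth.Agent.S0737.result C (B ⊗[A] C) hwlC J hJ hJ0 h'
  letI : Algebra B D := ((algebraMap (B ⊗[A] C) D).comp (algebraMap B (B ⊗[A] C))).toAlgebra
  haveI : IsScalarTower B (B ⊗[A] C) D := IsScalarTower.of_algebraMap_eq (fun _ => rfl)
  letI : Algebra A D := ((algebraMap C D).comp (algebraMap A C)).toAlgebra
  haveI : IsScalarTower A C D := IsScalarTower.of_algebraMap_eq (fun _ => rfl)
  haveI : IsScalarTower A B D := by
    refine IsScalarTower.of_algebraMap_eq (fun a => ?_)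
    show algebraMap C D (algebraMap A C a) =
      algebraMap (B ⊗[A] C) D (algebraMap B (B ⊗[A] C) (algebraMap A B a))
    rw [IsScalarTower.algebraMap_apply C (B ⊗[A] C) D, ← IsScalarTower.algebraMap_apply A C (B ⊗[A] C),
      ← IsScalarTower.algebraMap_apply A B (B ⊗[A] C)]
  -- primes of D over compatible pairs
  have key : ∀ (q : Ideal B) [q.IsPrime] (r : Ideal C) [r.IsPrime], J ≤ r →
      q.comap (algebraMap A B) = r.comap (algebraMap A C) →
      ∃ Q : Ideal D, Q.IsPrime ∧ Q.comap (algebraMap B D) = q ∧ Q.comap (algebraMap C D) = r := by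
    intro q _ r _ hJr hqr
    obtain ⟨𝔔, h𝔔, h𝔔q, h𝔔r⟩ :=
      Groth.Agent.Lib.Helper18StdEtaleCover.exists_prime_tensor A B C q r hqr
    have hK : J.map (algebraMap C (B ⊗[A] C)) ≤ 𝔔 := by
      rw [Ideal.map_le_iff_le_comap]
      have : 𝔔.comap (algebraMap C (B ⊗[A] C)) = r := h𝔔r
      rw [this]
      exact hJr
    obtain ⟨Q, hQ, hQ𝔔⟩ := exists_prime_of_quotient_bijective (B ⊗[A] C) D
      (J.map (algebraMap C (B ⊗[A] C))) hbij 𝔔 hK
    refine ⟨Q, hQ, ?_, ?_⟩
    · rw [IsScalarTower.algebraMap_eq B (B ⊗[A] C) D, ← Ideal.comap_comap, hQ𝔔]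
      exact h𝔔q
    · rw [IsScalarTower.algebraMap_eq C (B ⊗[A] C) D, ← Ideal.comap_comap, hQ𝔔]
      exact h𝔔r
  have hsurjB : ∀ q : PrimeSpectrum B, ∃ Q : PrimeSpectrum D,
      Q ∈ ProEtW.closedPoints (PrimeSpectrum D) ∧ PrimeSpectrum.comap (algebraMap B D) Q = q := by
    intro q
    have hp : PrimeSpectrum.comap (algebraMap A B) q ∈
        PrimeSpectrum.comap (algebraMap A C) '' ProEtW.closedPoints (PrimeSpectrum C) := by
      rw [hsurj]; exact Set.mem_univ _
    obtain ⟨r, hrcl, hrp⟩ := hp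
    have hJr : J ≤ r.asIdeal := by
      have : r ∈ PrimeSpectrum.zeroLocus (J : Set C) := by rw [hJ0]; exact hrcl
      exact (PrimeSpectrum.mem_zeroLocus _ _).mp this
    have hqr : q.asIdeal.comap (algebraMap A B) = r.asIdeal.comap (algebraMap A C) :=
      (congrArg PrimeSpectrum.asIdeal hrp).symm
    obtain ⟨Q, hQ, hQq, hQr⟩ := key q.asIdeal r.asIdeal hJr hqr
    refine ⟨⟨Q, hQ⟩, ?_, PrimeSpectrum.ext hQq⟩
    rw [hcp]
    show PrimeSpectrum.comap (algebraMap C D) ⟨Q, hQ⟩ ∈ ProEtW.closedPoints (PrimeSpectrum C)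
    have : PrimeSpectrum.comap (algebraMap C D) ⟨Q, hQ⟩ = r := PrimeSpectrum.ext hQr
    rw [this]
    exact hrcl
  haveI : Module.Flat (B ⊗[A] C) D := Groth.Agent.Lib.Helper3.IndZarCrit.flat_of_isIndZariski hiz
  haveI : Module.Flat B (B ⊗[A] C) := inferInstance
  haveI : Module.Flat B D := Module.Flat.trans B (B ⊗[A] C) D
  have hff : Module.FaithfullyFlat B D := by
    apply faithfullyFlat_of_flat_of_maximal
    intro m hm
    obtain ⟨Q, -, hQ⟩ := hsurjB ⟨m, hm.isPrime⟩
    exact ⟨Q.asIdeal, Q.2, congrArg PrimeSpectrum.asIdeal hQ⟩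
  have hie : EtPBC.IsIndEtale B D :=
    Groth.Agent.S0734.result B (B ⊗[A] C) D (Groth.Agent.S0733.result A C B hAC)
      (isIndEtale_of_isIndZariski hiz)
  refine ⟨D, inferInstance, inferInstance, inferInstance, inferInstance, inferInstance,
    inferInstance, hff, hie, hwl, hwlm, hcp, ?_⟩
  rw [Set.eq_univ_iff_forall]
  intro q
  obtain ⟨Q, hQcl, hQ⟩ := hsurjB q
  exact ⟨Q, hQcl, hQ⟩
end

end Groth.Agent.Helper13WLoc
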