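import Mathlib
import Groth.Prelude.Def_ProEtW
import Groth.Agent.Lib.Helper3WLocal

set_option autoImplicit false
set_option linter.style.haveILetI false

universe u

namespace Groth.Agent.Lib.Helper3.WLocal

variable {A : Type u} [CommRing A]

/-- the set of points whose closed specialization avoids `a` is clopen -/
theorem isClopen_preimage_r (h : ProEtW.IsWLocal (PrimeSpectrum A)) (a : A) :
    IsClopen {x : PrimeSpectrum A | a ∉ (r h x).asIdeal} := by
  obtain ⟨W, hW⟩ : ∃ W : Set (PrimeSpectrum A), W = {x | a ∉ (r h x).asIdeal} := ⟨_, rfl⟩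
  rw [← hW]
  have hWc : IsClosed W := by
    obtain ⟨K', hK'⟩ : ∃ K' : Ideal A, PrimeSpectrum.zeroLocus (K' : Set A) =
        {x | IsClosed ({x} : Set (PrimeSpectrum A))} ∩
          (PrimeSpectrum.basicOpen a : Set (PrimeSpectrum A)) :=
      ⟨PrimeSpectrum.vanishingIdeal _, by
        rw [PrimeSpectrum.zeroLocus_vanishingIdeal_eq_closure,
          (isClosed_closedPoints_inter_basicOpen h a).closure_eq]⟩
    have : W = {x | r h x ∈ PrimeSpectrum.zeroLocus (K' : Set A)} := by
      ext x
      rw [hW, hK']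
      constructor
      · intro hx
        exact ⟨isClosed_r h x, hx⟩
      · rintro ⟨-, hx⟩
        exact hx
    rw [this]
    exact isClosed_gen h K'
  have hWo : IsClosed Wᶜ := by
    have : Wᶜ = {x | r h x ∈ PrimeSpectrum.zeroLocus ((Ideal.span {a} : Ideal A) : Set A)} := by
      ext x
      rw [hW, PrimeSpectrum.zeroLocus_span]
      simp
    rw [this]
    exact isClosed_gen h _
  exact ⟨hWc, by simpa using hWo.isOpen_compl⟩

/-- idempotents with pairwise disjoint, covering basic opens are complete orthogonal -/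
theorem coi_of_partition {ι : Type*} [Fintype ι] (e : ι → A) (he : ∀ i, IsIdempotentElem (e i))
    (hdisj : ∀ i j, i ≠ j → ∀ y : PrimeSpectrum A, e i ∉ y.asIdeal → e j ∉ y.asIdeal → False)
    (hcov : ∀ y : PrimeSpectrum A, ∃ i, e i ∉ y.asIdeal) : CompleteOrthogonalIdempotents e := by
  classical
  have hnil : ∀ x : A, IsIdempotentElem x → (∀ y : PrimeSpectrum A, x ∈ y.asIdeal) → x = 0 := by
    intro x hx hy
    have hn : IsNilpotent x := by
      rw [← mem_nilradical, nilradical_eq_sInf, Ideal.mem_sInf]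
      intro J hJ
      exact hy ⟨J, hJ⟩
    obtain ⟨n, hn⟩ := hn
    rcases Nat.eq_zero_or_pos n with rfl | hpos
    · have h1 : (1 : A) = 0 := by simpa using hn
      have : x = x * 1 := (mul_one x).symm
      rw [this, h1, mul_zero]
    · rw [← hx.pow_succ_eq (n - 1), Nat.sub_add_cancel hpos, hn]
  have hortho : OrthogonalIdempotents e := by
    refine ⟨he, fun i j hij => ?_⟩
    apply hnil _ ((he i).mul (he j))
    intro y
    by_contra hy
    have h1 : e i ∉ y.asIdeal := fun h => hy (Ideal.mul_mem_right _ _ h)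
    have h2 : e j ∉ y.asIdeal := fun h => hy (Ideal.mul_mem_left _ _ h)
    exact hdisj i j hij y h1 h2
  refine ⟨hortho, ?_⟩
  have hs : IsIdempotentElem (∑ i, e i) := hortho.isIdempotentElem_sum
  have h0 : 1 - ∑ i, e i = 0 := by
    apply hnil _ hs.one_sub
    intro y
    obtain ⟨i, hi⟩ := hcov y
    have : (1 - ∑ j, e j) * e i = 0 := by
      rw [sub_mul, one_mul, Finset.sum_mul, Finset.sum_eq_single i, (he i).eq, sub_self]
      · intro j _ hji
        exact hortho.ortho hji
      · intro hi'
        exact absurd (Finset.mem_univ i) hi'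
    have hmem : (1 - ∑ j, e j) * e i ∈ y.asIdeal := this ▸ y.asIdeal.zero_mem
    exact (y.2.mem_or_mem hmem).resolve_right hi
  exact (sub_eq_zero.mp h0).symm

/-- a pointed clopen cover of a spectrum is refined by a complete orthogonal family of
idempotents -/
theorem exists_coi_refining (W : PrimeSpectrum A → Set (PrimeSpectrum A))
    (hW : ∀ x, IsClopen (W x)) (hx : ∀ x, x ∈ W x) :
    ∃ (k : ℕ) (pts : Fin k → PrimeSpectrum A) (e : Fin k → A), CompleteOrthogonalIdempotents e ∧
      ∀ i, (PrimeSpectrum.basicOpen (e i) : Set (PrimeSpectrum A)) ⊆ W (pts i) := by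
  classical
  obtain ⟨F, hF⟩ := isCompact_univ.elim_nhds_subcover W
    (fun x _ => (hW x).isOpen.mem_nhds (hx x))
  obtain ⟨k, hk⟩ : ∃ k, k = F.card := ⟨_, rfl⟩
  let eq : F ≃ Fin k := hk ▸ F.equivFin
  let pts : Fin k → PrimeSpectrum A := fun i => (eq.symm i).1
  let U : Fin k → Set (PrimeSpectrum A) := fun i => W (pts i)
  have hUc : ∀ i, IsClopen (disjointed U i) := by
    intro i
    rw [disjointed_apply]
    apply IsClopen.diff (hW _)
    rw [Finset.sup_set_eq_biUnion]
    exact Set.Finite.isClopen_biUnion (Finset.finite_toSet _) (fun j _ => hW _)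
  have hcov : ∀ y : PrimeSpectrum A, ∃ i, y ∈ disjointed U i := by
    intro y
    have : y ∈ ⋃ i, disjointed U i := by
      rw [iUnion_disjointed]
      have hy := hF.2 (Set.mem_univ y)
      simp only [Set.mem_iUnion] at hy ⊢
      obtain ⟨x, hxF, hyx⟩ := hy
      refine ⟨eq ⟨x, hxF⟩, ?_⟩
      show y ∈ W (eq.symm (eq ⟨x, hxF⟩)).1
      rw [eq.symm_apply_apply]
      exact hyx
    simpa using this
  choose e he heq using fun i => PrimeSpectrum.isClopen_iff.mp (hUc i)
  refine ⟨k, pts, e, coi_of_partition e he ?_ ?_, ?_⟩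
  · intro i j hij y hi hj
    have h1 : y ∈ disjointed U i := by rw [heq i]; exact hi
    have h2 : y ∈ disjointed U j := by rw [heq j]; exact hj
    exact Set.disjoint_left.mp (disjoint_disjointed U hij) h1 h2
  · intro y
    obtain ⟨i, hi⟩ := hcov y
    refine ⟨i, ?_⟩
    rw [heq i] at hi
    exact hi
  · intro i
    rw [← heq i]
    exact disjointed_subset U i

/-- an element nonvanishing on `D(e)` becomes a unit modulo `1 - e` -/
theorem isUnit_mk_of_basicOpen_subset {e τ : A}
    (hsub : (PrimeSpectrum.basicOpen e : Set (PrimeSpectrum A)) ⊆ PrimeSpectrum.basicOpen τ) :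
    IsUnit (Ideal.Quotient.mk (Ideal.span {1 - e}) τ) := by
  by_contra hnu
  obtain ⟨M, hM, hτM⟩ := exists_max_ideal_of_mem_nonunits hnu
  let y : PrimeSpectrum A := ⟨M.comap (Ideal.Quotient.mk (Ideal.span {1 - e})), inferInstance⟩
  have h1 : (1 - e) ∈ y.asIdeal := by
    show Ideal.Quotient.mk (Ideal.span {1 - e}) (1 - e) ∈ M
    have h0 : Ideal.Quotient.mk (Ideal.span {1 - e}) (1 - e) = 0 :=
      Ideal.Quotient.eq_zero_iff_mem.mpr (Ideal.subset_span rfl)
    rw [h0]
    exact M.zero_mem
  have h2 : e ∉ y.asIdeal := by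
    intro h2
    apply y.2.ne_top
    rw [Ideal.eq_top_iff_one]
    have := add_mem h1 h2
    rwa [sub_add_cancel] at this
  have h3 : τ ∉ y.asIdeal := hsub h2
  exact h3 hτM

end Groth.Agent.Lib.Helper3.WLocal
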