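import Mathlib
import Groth.Agent.Lib.Helper13WLoc
import Groth.Agent.Lib.Helper13Olivier
import Groth.Agent.Lib.Helper14WEField
import Groth.Agent.S0700
import Groth.Agent.S7127
import Groth.Agent.S0736

set_option autoImplicit false
set_option linter.style.haveILetI false
set_option linter.unusedSectionVars false
open TensorProduct IsLocalRing CategoryTheory CategoryTheory.Limits Polynomial

namespace Groth.Agent.Helper13WLoc2

universe u

open Groth.Agent.Helper13WLoc

set_option maxHeartbeats 1000000 in
/-- Weakly étale maps induce algebraic residue field extensions. -/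
theorem algebraicResidueExtensions_of_weaklyEtale (A B : Type u) [CommRing A] [CommRing B]
    [Algebra A B] [Algebra.WeaklyEtale A B] : ProEtW.AlgebraicResidueExtensions A B := by
  intro q _
  apply isAlgebraic_of_elem
  intro b
  haveI : (q.comap (algebraMap A B)).IsPrime := Ideal.comap_isPrime _ _
  let K := FractionRing (A ⧸ q.comap (algebraMap A B))
  haveI : Algebra.IsAlgebraic K (K ⊗[A] B) := by
    refine ⟨fun x => ?_⟩
    obtain ⟨f, hf, hfx⟩ :=
      Groth.Agent.Lib.Helper14.WEField.exists_separable_aeval_eq_zero K (K ⊗[A] B) x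
    exact ⟨f, hf.ne_zero, hfx⟩
  haveI : Algebra.IsAlgebraic (A ⧸ q.comap (algebraMap A B)) (K ⊗[A] B) :=
    (IsFractionRing.comap_isAlgebraic_iff (K := K)).mpr inferInstance
  obtain ⟨P₀, hP₀, hP⟩ := Algebra.IsAlgebraic.isAlgebraic
    (R := A ⧸ q.comap (algebraMap A B)) ((1 : K) ⊗ₜ[A] b)
  obtain ⟨P, rfl⟩ := Polynomial.map_surjective (Ideal.Quotient.mk (q.comap (algebraMap A B)))
    Ideal.Quotient.mk_surjective P₀
  have h1 : aeval ((1 : K) ⊗ₜ[A] b) P = 0 := by
    have := hP
    rw [show Ideal.Quotient.mk (q.comap (algebraMap A B)) =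
      algebraMap A (A ⧸ q.comap (algebraMap A B)) from rfl, aeval_map_algebraMap] at this
    exact this
  have h2 : (1 : K) ⊗ₜ[A] (aeval b P) = 0 := by
    have h3 : (Algebra.TensorProduct.includeRight : B →ₐ[A] K ⊗[A] B) (aeval b P) =
        aeval ((1 : K) ⊗ₜ[A] b) P := by
      rw [← Polynomial.aeval_algHom_apply]
      rfl
    rw [← h1, ← h3]
    rfl
  obtain ⟨t, htp, ht⟩ := Groth.Agent.Helper13Olivier.exists_smul_mem_of_tmul_eq_zero A
    (q.comap (algebraMap A B)) K B _ h2
  refine ⟨P, ?_, ?_⟩
  · by_contra hcon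
    push_neg at hcon
    apply hP₀
    ext n
    rw [coeff_map, coeff_zero]
    exact Ideal.Quotient.eq_zero_iff_mem.mpr (hcon n)
  · have hle : (q.comap (algebraMap A B)).map (algebraMap A B) ≤ q := Ideal.map_comap_le
    have h4 : algebraMap A B t * aeval b P ∈ q := by
      rw [← Algebra.smul_def]; exact hle ht
    rcases Ideal.IsPrime.mem_or_mem inferInstance h4 with h5 | h5
    · exact absurd h5 htp
    · exact h5

open Groth.Agent.Lib.Helper3.IdLoc in
/-- It suffices to identify local rings at maximal ideals. -/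
theorem identifies_of_maximal (A B : Type u) [CommRing A] [CommRing B] [Algebra A B]
    (H : ∀ m : PrimeSpectrum B, m.asIdeal.IsMaximal → Function.Bijective
      (Localization.localRingHom (m.asIdeal.comap (algebraMap A B)) m.asIdeal
        (algebraMap A B) rfl)) :
    EtPBC.IdentifiesLocalRings A B := by
  have hsurj : ∀ (n : PrimeSpectrum B), n.asIdeal.IsMaximal → ∀ b : B, ∃ a s : A, ∃ t : B,
      s ∉ n.asIdeal.comap (algebraMap A B) ∧ t ∉ n.asIdeal ∧
        t * (algebraMap A B s * b - algebraMap A B a) = 0 := by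
    intro n hn b
    obtain ⟨z, hz⟩ := (H n hn).2 (algebraMap B (Localization.AtPrime n.asIdeal) b)
    obtain ⟨a, s, rfl⟩ :=
      IsLocalization.exists_mk'_eq (n.asIdeal.comap (algebraMap A B)).primeCompl z
    rw [Localization.localRingHom_mk'] at hz
    rw [eq_comm, IsLocalization.eq_mk'_iff_mul_eq] at hz
    rw [← map_mul, IsLocalization.eq_iff_exists n.asIdeal.primeCompl] at hz
    obtain ⟨t, ht⟩ := hz
    refine ⟨a, s, t, s.2, t.2, ?_⟩
    simp only at ht
    rw [mul_sub, mul_comm (algebraMap A B s) b, ht, sub_self]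
  have hinj : ∀ (n : PrimeSpectrum B), n.asIdeal.IsMaximal → ∀ (a : A) (t : B), t ∉ n.asIdeal →
      t * algebraMap A B a = 0 → ∃ s : A, s ∉ n.asIdeal.comap (algebraMap A B) ∧ s * a = 0 := by
    intro n hn a t ht hta
    have h0 : algebraMap B (Localization.AtPrime n.asIdeal) (algebraMap A B a) = 0 := by
      rw [IsLocalization.map_eq_zero_iff n.asIdeal.primeCompl]
      exact ⟨⟨t, ht⟩, hta⟩
    have hz : Localization.localRingHom (n.asIdeal.comap (algebraMap A B)) n.asIdeal
        (algebraMap A B) rfl (algebraMap A _ a) = 0 := by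
      rw [Localization.localRingHom_to_map, h0]
    have h0' := (H n hn).1 (hz.trans (map_zero _).symm)
    rw [IsLocalization.map_eq_zero_iff (n.asIdeal.comap (algebraMap A B)).primeCompl] at h0'
    obtain ⟨s, hs⟩ := h0'
    exact ⟨s, s.2, hs⟩
  apply identifies_of_el
  · -- ELSurj
    intro q b
    obtain ⟨m, hm, hqm⟩ := Ideal.exists_le_maximal q.asIdeal q.2.ne_top
    obtain ⟨a, s, t, hs, ht, hst⟩ := hsurj ⟨m, hm.isPrime⟩ hm b
    exact ⟨a, s, t, fun hc => hs (Ideal.comap_mono hqm hc), fun hc => ht (hqm hc), hst⟩
  · -- ELInj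
    intro q a t ht hta
    obtain ⟨m, hm, hqm⟩ := Ideal.exists_le_maximal q.asIdeal q.2.ne_top
    obtain ⟨c, u, v, hu, hv, huv⟩ := hsurj ⟨m, hm.isPrime⟩ hm t
    have h1 : v * algebraMap A B (c * a) = 0 := by
      have h2 : v * (algebraMap A B u * t) = v * algebraMap A B c := by
        rw [mul_sub, sub_eq_zero] at huv
        exact huv
      calc v * algebraMap A B (c * a) = (v * algebraMap A B c) * algebraMap A B a := by
            rw [map_mul]; ring
        _ = (v * (algebraMap A B u * t)) * algebraMap A B a := by rw [h2]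
        _ = v * algebraMap A B u * (t * algebraMap A B a) := by ring
        _ = 0 := by rw [hta, mul_zero]
    obtain ⟨w, hw, hwc⟩ := hinj ⟨m, hm.isPrime⟩ hm (c * a) v hv h1
    have hcq : c ∉ q.asIdeal.comap (algebraMap A B) := by
      intro hc
      have hc' : algebraMap A B c ∈ q.asIdeal := hc
      have h2 : v * (algebraMap A B u * t) = v * algebraMap A B c := by
        rw [mul_sub, sub_eq_zero] at huv
        exact huv
      have h3 : v * (algebraMap A B u * t) ∈ q.asIdeal := by
        rw [h2]; exact Ideal.mul_mem_left _ _ hc'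
      rcases q.2.mem_or_mem h3 with h | h
      · exact hv (hqm h)
      · rcases q.2.mem_or_mem h with h | h
        · exact hu (Ideal.comap_mono hqm h)
        · exact ht h
    refine ⟨w * c, ?_, by rw [mul_assoc]; exact hwc⟩
    intro hc
    haveI : (q.asIdeal.comap (algebraMap A B)).IsPrime := Ideal.comap_isPrime _ _
    rcases Ideal.IsPrime.mem_or_mem inferInstance hc with h | h
    · exact hw (Ideal.comap_mono hqm h)
    · exact hcq h

set_option maxHeartbeats 1600000 in
/-- **Bhatt–Scholze 2.3.4**: a weakly étale algebra becomes ind-étale after a faithfully flat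
ind-étale extension. -/
theorem exists_indEtale_cover_of_weaklyEtale (A B : Type u) [CommRing A] [CommRing B] [Algebra A B]
    [Algebra.WeaklyEtale A B] :
    ∃ (B' : Type u) (_ : CommRing B') (_ : Algebra B B') (_ : Algebra A B')
      (_ : IsScalarTower A B B'),
      Module.FaithfullyFlat B B' ∧ EtPBC.IsIndEtale B B' ∧ EtPBC.IsIndEtale A B' := by
  have h := algebraicResidueExtensions_of_weaklyEtale A B
  obtain ⟨C, _, _, hffC, hieC, hwlC, hsurjC, hshC⟩ := exists_wLocal_strictlyHenselian_cover A
  haveI : Module.Flat A C := inferInstance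
  obtain ⟨D, _, _, _, _, _, _, hffD, hieD, hwlD, hwlm, hcp, hsurjD⟩ :=
    exists_wLocal_over A B C h hieC hwlC hsurjC
  haveI : Algebra.WeaklyEtale A C := Groth.Agent.S0736.result A C hieC
  haveI : Algebra.WeaklyEtale B D := Groth.Agent.S0736.result B D hieD
  haveI : Algebra.WeaklyEtale A D := Algebra.WeaklyEtale.trans A B D
  haveI : Algebra.WeaklyEtale C D := Groth.Agent.S7127.result A C D
  have hid : EtPBC.IdentifiesLocalRings C D := by
    apply identifies_of_maximal
    intro m hm
    have hmcl : m ∈ ProEtW.closedPoints (PrimeSpectrum D) := (mem_closedPoints_iff m).mpr hm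
    rw [hcp] at hmcl
    haveI hm' : (m.asIdeal.comap (algebraMap C D)).IsMaximal :=
      (mem_closedPoints_iff (PrimeSpectrum.comap (algebraMap C D) m)).mp hmcl
    obtain ⟨hHens, hSC⟩ := hshC (m.asIdeal.comap (algebraMap C D))
    haveI := hHens
    haveI := hSC
    letI : Algebra (Localization.AtPrime (m.asIdeal.comap (algebraMap C D)))
        (Localization.AtPrime m.asIdeal) :=
      (Localization.localRingHom (m.asIdeal.comap (algebraMap C D)) m.asIdeal
        (algebraMap C D) rfl).toAlgebra
    haveI : IsLocalHom (algebraMap (Localization.AtPrime (m.asIdeal.comap (algebraMap C D)))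
        (Localization.AtPrime m.asIdeal)) :=
      Localization.isLocalHom_localRingHom _ _ _ rfl
    haveI : IsScalarTower C (Localization.AtPrime (m.asIdeal.comap (algebraMap C D)))
        (Localization.AtPrime m.asIdeal) := by
      refine IsScalarTower.of_algebraMap_eq (fun c => ?_)
      show _ = Localization.localRingHom (m.asIdeal.comap (algebraMap C D)) m.asIdeal
        (algebraMap C D) rfl (algebraMap C _ c)
      rw [Localization.localRingHom_to_map]
      exact IsScalarTower.algebraMap_apply C D _ c
    haveI : Algebra.WeaklyEtale C (Localization.AtPrime (m.asIdeal.comap (algebraMap C D))) :=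
      Groth.Agent.Helper13WEVal.weaklyEtale_of_isLocalization
        (m.asIdeal.comap (algebraMap C D)).primeCompl _
    haveI : Algebra.WeaklyEtale D (Localization.AtPrime m.asIdeal) :=
      Groth.Agent.Helper13WEVal.weaklyEtale_of_isLocalization m.asIdeal.primeCompl _
    haveI : Algebra.WeaklyEtale C (Localization.AtPrime m.asIdeal) :=
      Algebra.WeaklyEtale.trans C D _
    haveI : Algebra.WeaklyEtale (Localization.AtPrime (m.asIdeal.comap (algebraMap C D)))
        (Localization.AtPrime m.asIdeal) := Groth.Agent.S7127.result C _ _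
    exact Groth.Agent.Helper13Olivier.olivier _ _
  have hiz : EtPBC.IsIndZariski C D := Groth.Agent.S0700.result C D hid hwlC hwlD hwlm
  have hie' : EtPBC.IsIndEtale A D :=
    Groth.Agent.S0734.result A C D hieC (isIndEtale_of_isIndZariski hiz)
  exact ⟨D, inferInstance, inferInstance, inferInstance, inferInstance, hffD, hieD, hie'⟩

end Groth.Agent.Helper13WLoc2
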