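import Mathlib
import Groth.Prelude.Def_PBC
import Groth.Prelude.Def_ProEtW
import Groth.Agent.Lib.Helper3WLocal
import Groth.Agent.Lib.Helper3LCSpec
import Groth.Agent.Lib.Helper3LCIndZar
import Groth.Agent.Lib.Helper3WLoc
import Groth.Agent.Lib.Helper3IdLoc
import Groth.Agent.Lib.Helper10ProCons
import Groth.Agent.S0699

set_option autoImplicit false
set_option linter.style.haveILetI false

universe u

namespace Groth.Agent.Lib.Helper3.WLocUniv

open TopologicalSpace Groth.Agent.Lib.Helper3.LCSpec Groth.Agent.Lib.Helper3.LCIndZar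
open Groth.Agent.Lib.Helper3.WLoc Groth.Agent.Lib.Helper3.IdLoc Groth.Agent.Lib.Helper3.WLocal

section K

variable {T : Type u} [TopologicalSpace T] [CompactSpace T] [T2Space T] [TotallyDisconnectedSpace T]
  {B : Type u} [CommRing B] (ρ : T → PrimeSpectrum B)
  (hρ : ∀ f : B, IsClopen {t | f ∈ (ρ t).asIdeal})

set_option maxHeartbeats 1600000 in
/-- **Key lemma**: a w-local ring is its own w-localization along its closed points. -/
theorem bijective_algebraMap_Aw (hB : ProEtW.IsWLocal (PrimeSpectrum B))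
    (hinj : Function.Injective ρ)
    (hrange : Set.range ρ = ProEtW.closedPoints (PrimeSpectrum B)) :
    Function.Bijective (algebraMap B (Aw ρ hρ)) := by
  have hind : EtPBC.IsIndZariski B (Aw ρ hρ) := isIndZariski_localization (M ρ hρ) (Aw ρ hρ)
  have hρcl : ∀ t, IsClosed ({ρ t} : Set (PrimeSpectrum B)) := by
    intro t
    have : ρ t ∈ ProEtW.closedPoints (PrimeSpectrum B) := hrange ▸ ⟨t, rfl⟩
    exact this
  obtain ⟨f, hf⟩ : ∃ f : PrimeSpectrum (Aw ρ hρ) → PrimeSpectrum B,
    f = PrimeSpectrum.comap (algebraMap B (Aw ρ hρ)) := ⟨_, rfl⟩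
  have hfΨ : ∀ y, f y = (Ψ ρ hρ y).1 := fun y => by rw [hf, Ψ_fst]
  have hfr : ∀ y, r hB (f y) = ρ (σ ρ hρ y) := by
    intro y
    symm
    apply eq_r hB (hρcl _)
    rw [hfΨ, ← PrimeSpectrum.le_iff_specializes]
    exact Ψ_le ρ hρ y
  have hmap : ∀ y, (PrimeSpectrum.continuous_comap (algebraMap B (Aw ρ hρ))).connectedComponentsMap
      (ConnectedComponents.mk y) = ConnectedComponents.mk (f y) := by
    intro y; rw [hf]; rfl
  apply Groth.Agent.S0699.result B (Aw ρ hρ) (identifies_of_isIndZariski hind) hB (isWLocal ρ hρ)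
  · refine ⟨Groth.Agent.Lib.Helper10.ProCons.isSpectralMap_comap _, ?_⟩
    intro y hy
    have hy' : y ∈ ProEtW.closedPoints (PrimeSpectrum (Aw ρ hρ)) := hy
    rw [closedPoints_eq] at hy'
    have hy'' : (Ψ ρ hρ y).1 = ρ (Ψ ρ hρ y).2 := hy'
    rw [← hf, hfΨ, hy'']
    exact hρcl _
  · constructor
    · intro c c' hcc
      obtain ⟨y, rfl⟩ := ConnectedComponents.surjective_coe c
      obtain ⟨y', rfl⟩ := ConnectedComponents.surjective_coe c'
      rw [hmap, hmap, mk_eq_mk_r hB (f y), mk_eq_mk_r hB (f y'), hfr, hfr] at hcc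
      have h1 : ρ (σ ρ hρ y) = ρ (σ ρ hρ y') := eq_of_mk_eq hB (hρcl _) (hρcl _) hcc
      have h2 : σ ρ hρ y = σ ρ hρ y' := hinj h1
      apply (pi0Homeo ρ hρ).injective
      rw [pi0Homeo_mk, pi0Homeo_mk, h2]
    · intro c
      obtain ⟨x, rfl⟩ := ConnectedComponents.surjective_coe c
      have hrx : r hB x ∈ Set.range ρ := by
        rw [hrange]
        exact isClosed_r hB x
      obtain ⟨t, ht⟩ := hrx
      obtain ⟨y, hy⟩ := exists_closedPt ρ hρ t
      refine ⟨ConnectedComponents.mk y, ?_⟩
      rw [hmap, hfΨ, hy, mk_eq_mk_r hB x, ht]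

end K

/-- the closed points of a w-local spectrum form a profinite space with clopen vanishing loci -/
theorem exists_closedPt_space {B : Type u} [CommRing B] (hB : ProEtW.IsWLocal (PrimeSpectrum B)) :
    ∃ (T : Type u) (_ : TopologicalSpace T) (_ : CompactSpace T) (_ : T2Space T)
      (_ : TotallyDisconnectedSpace T) (ρ : T → PrimeSpectrum B)
      (_ : ∀ f : B, IsClopen {t | f ∈ (ρ t).asIdeal}),
      Function.Injective ρ ∧ Set.range ρ = ProEtW.closedPoints (PrimeSpectrum B) := by
  haveI : CompactSpace ↥(ProEtW.closedPoints (PrimeSpectrum B)) :=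
    isCompact_iff_compactSpace.mp (IsClosed.isCompact hB.2.1)
  haveI : TotallySeparatedSpace ↥(ProEtW.closedPoints (PrimeSpectrum B)) := by
    rw [totallySeparatedSpace_iff_exists_isClopen]
    intro x y hxy
    have hne : x.1 ≠ y.1 := fun h => hxy (Subtype.ext h)
    obtain ⟨e, he, hex, hey⟩ := exists_idempotent_sep hB x.2 y.2 hne
    refine ⟨Subtype.val ⁻¹' PrimeSpectrum.zeroLocus {e}, ?_, ?_, ?_⟩
    · apply IsClopen.preimage _ continuous_subtype_val
      rw [PrimeSpectrum.isClopen_iff_zeroLocus]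
      exact ⟨e, he, rfl⟩
    · simpa using hex
    · simpa using hey
  refine ⟨↥(ProEtW.closedPoints (PrimeSpectrum B)), inferInstance, inferInstance, inferInstance,
    inferInstance, Subtype.val, ?_, Subtype.val_injective, Subtype.range_val⟩
  intro f
  constructor
  · have : {t : ↥(ProEtW.closedPoints (PrimeSpectrum B)) | f ∈ t.1.asIdeal} =
        Subtype.val ⁻¹' (PrimeSpectrum.zeroLocus {f}) := by
      ext t
      simp
    rw [this]
    exact (PrimeSpectrum.isClosed_zeroLocus _).preimage continuous_subtype_val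
  · have hcl := isClosed_closedPoints_inter_basicOpen hB f
    have : {t : ↥(ProEtW.closedPoints (PrimeSpectrum B)) | f ∈ t.1.asIdeal}ᶜ =
        Subtype.val ⁻¹' ({x | IsClosed ({x} : Set (PrimeSpectrum B))} ∩
          (PrimeSpectrum.basicOpen f : Set (PrimeSpectrum B))) := by
      ext t
      simp only [Set.mem_compl_iff, Set.mem_ofPred_eq, Set.mem_preimage, Set.mem_inter_iff]
      constructor
      · intro h
        exact ⟨t.2, h⟩
      · intro h
        exact h.2
    have hcl' : IsClosed {t : ↥(ProEtW.closedPoints (PrimeSpectrum B)) | f ∈ t.1.asIdeal}ᶜ := by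
      rw [this]
      exact hcl.preimage continuous_subtype_val
    simpa using hcl'.isOpen_compl

end Groth.Agent.Lib.Helper3.WLocUniv
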