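import Mathlib
import Groth.Prelude.Def_PBC
import Groth.Prelude.Def_ProEtW
import Groth.Agent.Lib.Helper3WLocal
import Groth.Agent.Lib.Helper3WLocal2
import Groth.Agent.Lib.Helper3IndZarCrit
import Groth.Agent.Lib.Helper3LocLift

set_option autoImplicit false
set_option linter.style.haveILetI false

universe u

namespace Groth.Agent.Lib.Helper3.WLocalIndZar

open Groth.Agent.Lib.Helper3.WLocal Groth.Agent.Lib.Helper3.IndZarCrit
open Groth.Agent.Lib.Helper3.LocLift

set_option maxHeartbeats 1600000

-- local factorization near a point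
theorem local_factor {A B : Type u} [CommRing A] [CommRing B] [Algebra A B]
    (h1 : EtPBC.IdentifiesLocalRings A B) (P : Type u) [CommRing P] [Algebra A P]
    [Algebra.FinitePresentation A P] (ψ : P →ₐ[A] B) (n : PrimeSpectrum B) :
    ∃ (σ : A) (ψ' : P →ₐ[A] Localization.Away σ) (τ : B), τ ∉ n.asIdeal ∧
      ∀ (C : Type u) [CommRing C] [Algebra A C] [Algebra B C] [IsScalarTower A B C],
        IsUnit (algebraMap B C τ) →
        ∃ γ : Localization.Away σ →ₐ[A] C, γ.comp ψ' = (IsScalarTower.toAlgHom A B C).comp ψ := by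
  classical
  obtain ⟨m, hm⟩ : ∃ m : Ideal A, m = n.asIdeal.comap (algebraMap A B) := ⟨_, rfl⟩
  haveI hmp : m.IsPrime := hm ▸ inferInstance
  obtain ⟨θ, hθ⟩ : ∃ θ : Localization.AtPrime m →+* Localization.AtPrime n.asIdeal,
      Function.Bijective θ ∧ ∀ a : A, θ (algebraMap A _ a) = algebraMap B _ (algebraMap A B a) := by
    subst hm
    exact ⟨_, h1 n, fun a => Localization.localRingHom_to_map _ _ _ rfl a⟩
  obtain ⟨hθb, hθa⟩ := hθ
  let θe := RingEquiv.ofBijective θ hθb
  let φn : P →ₐ[A] Localization.AtPrime m :=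
    { toRingHom := (θe.symm : Localization.AtPrime n.asIdeal →+* Localization.AtPrime m).comp
        ((algebraMap B (Localization.AtPrime n.asIdeal)).comp ψ.toRingHom)
      commutes' := fun a => by
        show θe.symm (algebraMap B _ (ψ (algebraMap A P a))) = _
        rw [ψ.commutes, ← hθa]
        exact θe.symm_apply_apply _ }
  have hφn : ∀ x : P, θ (φn x) = algebraMap B _ (ψ x) := fun x => θe.apply_symm_apply _
  obtain ⟨σ, hσ, ψ', γ₀, hγ₀⟩ := exists_lift_away m.primeCompl P φn
  -- generators
  obtain ⟨G, hG⟩ := (Algebra.FiniteType.out : (⊤ : Subalgebra A P).FG)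
  choose k a hka using fun x : P => IsLocalization.Away.surj σ (ψ' x)
  let d : P → B := fun x => ψ x * algebraMap A B σ ^ k x - algebraMap A B (a x)
  have hd : ∀ x, algebraMap B (Localization.AtPrime n.asIdeal) (d x) = 0 := by
    intro x
    have h2 := congr(θ (γ₀ $(hka x)))
    rw [map_mul, map_mul, map_pow, map_pow, AlgHom.commutes, AlgHom.commutes, hθa, hθa] at h2
    have h3 : γ₀ (ψ' x) = φn x := congr($hγ₀ x)
    rw [h3, hφn] at h2
    show algebraMap B _ (ψ x * algebraMap A B σ ^ k x - algebraMap A B (a x)) = 0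
    rw [map_sub, map_mul, map_pow, h2, sub_self]
  have hkill : ∀ g ∈ G.image d, ∃ t : n.asIdeal.primeCompl, algebraMap B B t * g = 0 := by
    intro g hg
    obtain ⟨x, -, rfl⟩ := Finset.mem_image.mp hg
    have := hd x
    rw [IsLocalization.map_eq_zero_iff n.asIdeal.primeCompl] at this
    obtain ⟨t, ht⟩ := this
    exact ⟨t, ht⟩
  obtain ⟨t, ht⟩ := exists_uniform_kill n.asIdeal.primeCompl (G.image d) hkill
  have hσn : algebraMap A B σ ∉ n.asIdeal := by
    intro hc
    apply hσ
    rw [hm]
    exact hc
  refine ⟨σ, ψ', algebraMap A B σ * t, ?_, ?_⟩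
  · intro hc
    rcases n.2.mem_or_mem hc with h | h
    · exact hσn h
    · exact t.2 h
  · intro C _ _ _ _ hu
    rw [map_mul] at hu
    have huσ : IsUnit (algebraMap A C σ) := by
      rw [IsScalarTower.algebraMap_apply A B C]
      exact isUnit_of_mul_isUnit_left hu
    have hut : IsUnit (algebraMap B C t) := isUnit_of_mul_isUnit_right hu
    let γ : Localization.Away σ →ₐ[A] C :=
      IsLocalization.liftAlgHom (M := Submonoid.powers σ) (f := Algebra.ofId A C) (by
        rintro ⟨_, j, rfl⟩
        show IsUnit (algebraMap A C (σ ^ j))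
        rw [map_pow]
        exact huσ.pow j)
    refine ⟨γ, ?_⟩
    apply AlgHom.ext_of_adjoin_eq_top hG
    intro x hx
    have hdx : algebraMap B C (d x) = 0 := by
      have h5 := ht (d x) (Finset.mem_image_of_mem d hx)
      have h6 := congr(algebraMap B C $h5)
      rw [map_mul, map_zero] at h6
      exact (hut.mul_right_eq_zero).mp h6
    have h7 : γ (ψ' x) * algebraMap A C σ ^ k x = algebraMap A C (a x) := by
      have := congr(γ $(hka x))
      rw [map_mul, map_pow, AlgHom.commutes, AlgHom.commutes] at this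
      exact this
    have h8 : algebraMap B C (ψ x) * algebraMap A C σ ^ k x = algebraMap A C (a x) := by
      rw [IsScalarTower.algebraMap_apply A B C σ, IsScalarTower.algebraMap_apply A B C (a x),
        ← map_pow, ← map_mul, ← sub_eq_zero, ← map_sub]
      exact hdx
    show γ (ψ' x) = algebraMap B C (ψ x)
    exact ((huσ.pow (k x)).mul_left_inj).mp (h7.trans h8.symm)


/-- a ring map identifying local rings with w-local target spectrum is ind-Zariski -/
theorem isIndZariski_of_identifies (A B : Type u) [CommRing A] [CommRing B]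
    [Algebra A B] (h1 : EtPBC.IdentifiesLocalRings A B)
    (h3 : ProEtW.IsWLocal (PrimeSpectrum B)) :
    EtPBC.IsIndZariski A B := by
  classical
  apply isIndZariski_of_factor
  intro P _ _ _ ψ
  choose σ ψ' τ hτ hfac using fun n => local_factor h1 P ψ n
  obtain ⟨k, pts, e, he, hsub⟩ := exists_coi_refining
    (fun x : PrimeSpectrum B => {y | τ (r h3 x) ∉ (r h3 y).asIdeal})
    (fun x => isClopen_preimage_r h3 (τ (r h3 x))) (fun x => hτ (r h3 x))
  -- units
  have hunit : ∀ i : Fin k,
      IsUnit (algebraMap B (B ⧸ Ideal.span {1 - e i}) (τ (r h3 (pts i)))) := by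
    intro i
    apply isUnit_mk_of_basicOpen_subset
    intro y hy
    have h5 := hsub i hy
    intro hc
    exact h5 (le_r h3 y hc)
  choose γ hγ using fun i : Fin k => hfac (r h3 (pts i)) (B ⧸ Ideal.span {1 - e i}) (hunit i)
  let C : Type u := ∀ i : Fin k, Localization.Away (σ (r h3 (pts i)))
  haveI : Algebra.IsLocalIso A C := Algebra.IsLocalIso.pi_of_finite A _
  let f : P →ₐ[A] C := Pi.algHom A _ (fun i => ψ' (r h3 (pts i)))
  let gpi : C →ₐ[A] (∀ i : Fin k, B ⧸ Ideal.span {1 - e i}) :=
    Pi.algHom A _ (fun i => (γ i).comp (Pi.evalAlgHom A _ i))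
  let Θ : B →ₐ[A] (∀ i : Fin k, B ⧸ Ideal.span {1 - e i}) :=
    Pi.algHom A _ (fun i => Ideal.Quotient.mkₐ A _)
  have hΘ : Function.Bijective Θ := he.bijective_pi
  let Θe := AlgEquiv.ofBijective Θ hΘ
  refine ⟨C, inferInstance, inferInstance, inferInstance, f,
    (Θe.symm : _ →ₐ[A] B).comp gpi, ?_⟩
  apply AlgHom.ext
  intro x
  show Θe.symm (gpi (f x)) = ψ x
  rw [AlgEquiv.symm_apply_eq]
  funext i
  show γ i (ψ' (r h3 (pts i)) x) = Ideal.Quotient.mk _ (ψ x)
  exact congr($(hγ i) x)


theorem bijective_localRingHom_comp {A B C : Type*} [CommRing A] [CommRing B] [CommRing C]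
    (f : A →+* B) (g : B →+* C) (q : Ideal C) [q.IsPrime]
    (hf : Function.Bijective (Localization.localRingHom ((q.comap g).comap f) (q.comap g) f rfl))
    (hg : Function.Bijective (Localization.localRingHom (q.comap g) q g rfl)) :
    Function.Bijective (Localization.localRingHom (q.comap (g.comp f)) q (g.comp f) rfl) := by
  have h := Localization.localRingHom_comp (I := (q.comap g).comap f) (q.comap g) q f rfl g rfl
  have h' : Function.Bijective
      (Localization.localRingHom ((q.comap g).comap f) q (g.comp f) rfl) := by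
    rw [h]
    exact hg.comp hf
  exact h'

theorem identifies_comp_aux {A B C : Type u} [CommRing A] [CommRing B] [CommRing C]
    [Algebra A B] [Algebra B C] (h1 : EtPBC.IdentifiesLocalRings A B)
    (h2 : EtPBC.IdentifiesLocalRings B C) (φ : A →+* C)
    (hφ : φ = (algebraMap B C).comp (algebraMap A B)) (q : PrimeSpectrum C) :
    Function.Bijective (Localization.localRingHom (q.asIdeal.comap φ) q.asIdeal φ rfl) := by
  subst hφ
  exact bijective_localRingHom_comp (algebraMap A B) (algebraMap B C) q.asIdeal
    (h1 ⟨q.asIdeal.comap (algebraMap B C), inferInstance⟩) (h2 q)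

/-- identifying local rings is stable under composition -/
theorem identifies_comp {A B C : Type u} [CommRing A] [CommRing B] [CommRing C]
    [Algebra A B] [Algebra B C] [Algebra A C] [IsScalarTower A B C]
    (h1 : EtPBC.IdentifiesLocalRings A B) (h2 : EtPBC.IdentifiesLocalRings B C) :
    EtPBC.IdentifiesLocalRings A C :=
  fun q => identifies_comp_aux h1 h2 (algebraMap A C) (IsScalarTower.algebraMap_eq A B C) q

end Groth.Agent.Lib.Helper3.WLocalIndZar
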