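import Mathlib
import Groth.Prelude.Def_PBC
import Groth.Prelude.Def_ProEtW
import Groth.Agent.Lib.Helper3WLocal
import Groth.Agent.Lib.Helper3LCSpec
import Groth.Agent.Lib.Helper3LCIndZar
import Groth.Agent.Lib.Helper3WLoc
import Groth.Agent.Lib.Helper3IdLoc
import Groth.Agent.Lib.Helper3WLocalIndZar
import Groth.Agent.Lib.Helper3WLocUniv
import Groth.Agent.Lib.Helper10ProCons
import Groth.Agent.S0699

set_option autoImplicit false
set_option linter.style.haveILetI false

universe u

namespace Groth.Agent.Lib.Helper3.WLocRetr

open TopologicalSpace Groth.Agent.Lib.Helper3.LCSpec Groth.Agent.Lib.Helper3.LCIndZar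
open Groth.Agent.Lib.Helper3.WLoc Groth.Agent.Lib.Helper3.IdLoc Groth.Agent.Lib.Helper3.WLocal
open Groth.Agent.Lib.Helper3.WLocUniv Groth.Agent.Lib.Helper3.WLocalIndZar

/-- extremal disconnectedness transfers along homeomorphisms -/
theorem extremallyDisconnected_of_homeo {X Y : Type*} [TopologicalSpace X] [TopologicalSpace Y]
    (e : X ≃ₜ Y) [ExtremallyDisconnected Y] : ExtremallyDisconnected X := by
  constructor
  intro U hU
  have h1 : IsOpen (e.symm ⁻¹' U) := hU.preimage e.symm.continuous
  have h2 : IsOpen (closure (e.symm ⁻¹' U)) := ExtremallyDisconnected.open_closure _ h1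
  have h3 : e ⁻¹' closure (e.symm ⁻¹' U) = closure U := by
    rw [e.preimage_closure]
    congr 1
    ext x
    simp
  rw [← h3]
  exact h2.preimage e.continuous

/-- homeomorphic spaces have homeomorphic spaces of components -/
noncomputable def pi0Congr {X Y : Type*} [TopologicalSpace X] [TopologicalSpace Y] (e : X ≃ₜ Y) :
    ConnectedComponents X ≃ₜ ConnectedComponents Y where
  toFun := e.continuous.connectedComponentsMap
  invFun := e.symm.continuous.connectedComponentsMap
  left_inv c := by
    obtain ⟨x, rfl⟩ := ConnectedComponents.surjective_coe c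
    rw [Continuous.connectedComponentsMap_mk, Continuous.connectedComponentsMap_mk,
      e.symm_apply_apply]
  right_inv c := by
    obtain ⟨x, rfl⟩ := ConnectedComponents.surjective_coe c
    rw [Continuous.connectedComponentsMap_mk, Continuous.connectedComponentsMap_mk,
      e.apply_symm_apply]
  continuous_toFun := e.continuous.connectedComponentsMap_continuous
  continuous_invFun := e.symm.continuous.connectedComponentsMap_continuous

/-- the closed points of a w-local spectrum, with the embedding -/
theorem exists_closedPt_space' {B : Type u} [CommRing B] (hB : ProEtW.IsWLocal (PrimeSpectrum B)) :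
    ∃ (T : Type u) (_ : TopologicalSpace T) (_ : CompactSpace T) (_ : T2Space T)
      (_ : TotallyDisconnectedSpace T) (ρ : T → PrimeSpectrum B)
      (_ : ∀ f : B, IsClopen {t | f ∈ (ρ t).asIdeal}),
      Function.Injective ρ ∧ Set.range ρ = ProEtW.closedPoints (PrimeSpectrum B) ∧
        Topology.IsInducing ρ := by
  haveI : CompactSpace ↥(ProEtW.closedPoints (PrimeSpectrum B)) :=
    isCompact_iff_compactSpace.mp (IsClosed.isCompact hB.2.1)
  haveI : TotallySeparatedSpace ↥(ProEtW.closedPoints (PrimeSpectrum B)) := by
    rw [totallySeparatedSpace_iff_exists_isClopen]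
    intro x y hxy
    have hne : x.1 ≠ y.1 := fun h => hxy (Subtype.ext h)
    obtain ⟨e, he, hex, hey⟩ := exists_idempotent_sep hB x.2 y.2 hne
    refine ⟨Subtype.val ⁻¹' PrimeSpectrum.zeroLocus {e}, ?_, ?_, ?_⟩
    · apply IsClopen.preimage _ continuous_subtype_val
      rw [PrimeSpectrum.isClopen_iff_zeroLocus]
      exact ⟨e, he, rfl⟩
    · simpa using hex
    · simpa using hey
  refine ⟨↥(ProEtW.closedPoints (PrimeSpectrum B)), inferInstance, inferInstance, inferInstance,
    inferInstance, Subtype.val, ?_, Subtype.val_injective, Subtype.range_val,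
    Topology.IsInducing.subtypeVal⟩
  intro f
  constructor
  · have : {t : ↥(ProEtW.closedPoints (PrimeSpectrum B)) | f ∈ t.1.asIdeal} =
        Subtype.val ⁻¹' (PrimeSpectrum.zeroLocus {f}) := by
      ext t
      simp
    rw [this]
    exact (PrimeSpectrum.isClosed_zeroLocus _).preimage continuous_subtype_val
  · have hcl := isClosed_closedPoints_inter_basicOpen hB f
    have : {t : ↥(ProEtW.closedPoints (PrimeSpectrum B)) | f ∈ t.1.asIdeal}ᶜ =
        Subtype.val ⁻¹' ({x | IsClosed ({x} : Set (PrimeSpectrum B))} ∩
          (PrimeSpectrum.basicOpen f : Set (PrimeSpectrum B))) := by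
      ext t
      simp only [Set.mem_compl_iff, Set.mem_ofPred_eq, Set.mem_preimage, Set.mem_inter_iff]
      constructor
      · intro h
        exact ⟨t.2, h⟩
      · intro h
        exact h.2
    have hcl' : IsClosed {t : ↥(ProEtW.closedPoints (PrimeSpectrum B)) | f ∈ t.1.asIdeal}ᶜ := by
      rw [this]
      exact hcl.preimage continuous_subtype_val
    simpa using hcl'.isOpen_compl

section K

variable {T : Type u} [TopologicalSpace T] [CompactSpace T] [T2Space T] [TotallyDisconnectedSpace T]
  {A : Type u} [CommRing A] (ρ : T → PrimeSpectrum A)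
  (hρ : ∀ f : A, IsClopen {t | f ∈ (ρ t).asIdeal})

/-- the space of closed points of a w-local spectrum is the space of components -/
noncomputable def pi0HomeoClosedPt (hA : ProEtW.IsWLocal (PrimeSpectrum A))
    (hinj : Function.Injective ρ)
    (hrange : Set.range ρ = ProEtW.closedPoints (PrimeSpectrum A)) :
    ConnectedComponents (PrimeSpectrum A) ≃ₜ T :=
  (pi0Congr (PrimeSpectrum.homeomorphOfRingEquiv
    (RingEquiv.ofBijective (algebraMap A (Aw ρ hρ))
      (bijective_algebraMap_Aw ρ hρ hA hinj hrange)))).trans (pi0Homeo ρ hρ)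

end K

end Groth.Agent.Lib.Helper3.WLocRetr
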