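import Mathlib
import Groth.Prelude.Def_PBC
import Groth.Prelude.Def_ProEtW
import Groth.Agent.Lib.Helper3WLocal
import Groth.Agent.Lib.Helper3LCSpec
import Groth.Agent.Lib.Helper3LCIndZar
import Groth.Agent.Lib.Helper3WLoc
import Groth.Agent.Lib.Helper3IdLoc
import Groth.Agent.Lib.Helper3WLocalIndZar
import Groth.Agent.Lib.Helper3WLocUniv
import Groth.Agent.Lib.Helper3WLocRetr
import Groth.Agent.Lib.Helper10ProCons
import Groth.Agent.S0699

set_option autoImplicit false
set_option linter.style.haveILetI false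

universe u

namespace Groth.Agent.Lib.Helper3.WLocRetr

open TopologicalSpace Groth.Agent.Lib.Helper3.LCSpec Groth.Agent.Lib.Helper3.LCIndZar
open Groth.Agent.Lib.Helper3.WLoc Groth.Agent.Lib.Helper3.IdLoc Groth.Agent.Lib.Helper3.WLocal
open Groth.Agent.Lib.Helper3.WLocUniv Groth.Agent.Lib.Helper3.WLocalIndZar

set_option maxHeartbeats 1600000 in
/-- a surjective map identifying local rings from a w-local ring with extremally disconnected
components to a w-local ring has a retraction -/
theorem retraction_of_wLocal {A B : Type u} [CommRing A] [CommRing B] [Algebra A B]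
    (hA : ProEtW.IsWLocal (PrimeSpectrum A))
    [ExtremallyDisconnected (ConnectedComponents (PrimeSpectrum A))]
    (hB : ProEtW.IsWLocal (PrimeSpectrum B)) (hid : EtPBC.IdentifiesLocalRings A B)
    (hsurj : Function.Surjective (PrimeSpectrum.comap (algebraMap A B))) :
    Nonempty (B →ₐ[A] A) := by
  obtain ⟨TA, _, _, _, _, ρA, hρA, hinjA, hrangeA, hindA⟩ := exists_closedPt_space' hA
  obtain ⟨TB, _, _, _, _, ρB, hρB, hinjB, hrangeB, hindB⟩ := exists_closedPt_space' hB
  haveI : ExtremallyDisconnected TA :=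
    extremallyDisconnected_of_homeo (pi0HomeoClosedPt ρA hρA hA hinjA hrangeA).symm
  obtain ⟨f, hf⟩ : ∃ f : PrimeSpectrum B → PrimeSpectrum A,
    f = PrimeSpectrum.comap (algebraMap A B) := ⟨_, rfl⟩
  have hfc : Continuous f := hf ▸ PrimeSpectrum.continuous_comap _
  have hfsurj : Function.Surjective f := hf ▸ hsurj
  have hρAcl : ∀ t, IsClosed ({ρA t} : Set (PrimeSpectrum A)) := by
    intro t
    have : ρA t ∈ ProEtW.closedPoints (PrimeSpectrum A) := hrangeA ▸ ⟨t, rfl⟩
    exact this
  have hρBcl : ∀ t, IsClosed ({ρB t} : Set (PrimeSpectrum B)) := by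
    intro t
    have : ρB t ∈ ProEtW.closedPoints (PrimeSpectrum B) := hrangeB ▸ ⟨t, rfl⟩
    exact this
  -- the closed subset of TB over closed points of A
  obtain ⟨W, hW⟩ : ∃ W : Set TB, W = {t | f (ρB t) ∈ ProEtW.closedPoints (PrimeSpectrum A)} :=
    ⟨_, rfl⟩
  have hWmem : ∀ t, t ∈ W ↔ f (ρB t) ∈ ProEtW.closedPoints (PrimeSpectrum A) := by
    intro t; rw [hW]; rfl
  have hWcl : IsClosed W := by
    have : W = (fun t => f (ρB t)) ⁻¹' ProEtW.closedPoints (PrimeSpectrum A) := by
      rw [hW]; rfl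
    rw [this]
    exact IsClosed.preimage (hfc.comp hindB.continuous) hA.2.1
  haveI : CompactSpace ↥W := isCompact_iff_compactSpace.mp hWcl.isCompact
  have hgex : ∀ w : ↥W, ∃ t : TA, ρA t = f (ρB w.1) := by
    intro w
    have := (hWmem w.1).mp w.2
    rw [← hrangeA] at this
    exact this
  choose g hg using hgex
  have hgc : Continuous g := by
    rw [hindA.continuous_iff]
    have : ρA ∘ g = fun w : ↥W => f (ρB w.1) := funext hg
    rw [this]
    exact hfc.comp (hindB.continuous.comp continuous_subtype_val)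
  have hgsurj : Function.Surjective g := by
    intro t
    obtain ⟨y, hy⟩ := hfsurj (ρA t)
    have hn : r hB y ∈ Set.range ρB := by
      rw [hrangeB]
      exact isClosed_r hB y
    obtain ⟨tB, htB⟩ := hn
    have hfn : f (ρB tB) = ρA t := by
      rw [htB]
      have hsp : f y ⤳ f (r hB y) := (specializes_r hB y).map hfc
      rw [hy] at hsp
      have := specializes_iff_mem_closure.mp hsp
      rw [(hρAcl t).closure_eq] at this
      exact this
    have htW : tB ∈ W := by
      rw [hWmem, hfn]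
      exact hρAcl t
    refine ⟨⟨tB, htW⟩, ?_⟩
    apply hinjA
    rw [hg, hfn]
  obtain ⟨h, hhc, hh⟩ := CompactT2.ExtremallyDisconnected.projective (A := TA)
    continuous_id hgc hgsurj
  obtain ⟨ρ', hρ'def⟩ : ∃ ρ' : TA → PrimeSpectrum B, ρ' = fun t => ρB (h t).1 := ⟨_, rfl⟩
  have hρ' : ∀ f' : B, IsClopen {t | f' ∈ (ρ' t).asIdeal} := by
    intro f'
    have : {t | f' ∈ (ρ' t).asIdeal} = (fun t => (h t).1) ⁻¹' {t | f' ∈ (ρB t).asIdeal} := by
      rw [hρ'def]; rfl
    rw [this]
    exact (hρB f').preimage (continuous_subtype_val.comp hhc)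
  have hfρ' : ∀ t, f (ρ' t) = ρA t := by
    intro t
    rw [hρ'def]
    show f (ρB (h t).1) = ρA t
    rw [← hg]
    have : g (h t) = t := congr_fun hh t
    rw [this]
  haveI : IsScalarTower A B (LocallyConstant TA B) :=
    ⟨fun a b h => by ext t; exact smul_assoc a b (h t)⟩
  have hindC : EtPBC.IsIndZariski B (Aw ρ' hρ') := isIndZariski_localization (M ρ' hρ') (Aw ρ' hρ')
  have hidC : EtPBC.IdentifiesLocalRings A (Aw ρ' hρ') :=
    identifies_comp hid (identifies_of_isIndZariski hindC)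
  obtain ⟨fC, hfC⟩ : ∃ fC : PrimeSpectrum (Aw ρ' hρ') → PrimeSpectrum A,
    fC = PrimeSpectrum.comap (algebraMap A (Aw ρ' hρ')) := ⟨_, rfl⟩
  have hfCΨ : ∀ y, fC y = f (Ψ ρ' hρ' y).1 := by
    intro y
    rw [hfC, hf, Ψ_fst]
    ext a
    show algebraMap A (Aw ρ' hρ') a ∈ y.asIdeal ↔
      algebraMap B (Aw ρ' hρ') (algebraMap A B a) ∈ y.asIdeal
    rw [IsScalarTower.algebraMap_apply A B (Aw ρ' hρ')]
  have hfCr : ∀ y, r hA (fC y) = ρA (σ ρ' hρ' y) := by
    intro y
    symm
    apply eq_r hA (hρAcl _)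
    rw [hfCΨ, ← hfρ']
    apply Specializes.map _ hfc
    rw [← PrimeSpectrum.le_iff_specializes]
    exact Ψ_le ρ' hρ' y
  have hmap : ∀ y, (PrimeSpectrum.continuous_comap
      (algebraMap A (Aw ρ' hρ'))).connectedComponentsMap
      (ConnectedComponents.mk y) = ConnectedComponents.mk (fC y) := by
    intro y; rw [hfC]; rfl
  have hbij : Function.Bijective (algebraMap A (Aw ρ' hρ')) := by
    apply Groth.Agent.S0699.result A (Aw ρ' hρ') hidC hA (isWLocal ρ' hρ')
    · refine ⟨Groth.Agent.Lib.Helper10.ProCons.isSpectralMap_comap _, ?_⟩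
      intro y hy
      have hy' : y ∈ ProEtW.closedPoints (PrimeSpectrum (Aw ρ' hρ')) := hy
      rw [closedPoints_eq] at hy'
      have hy'' : (Ψ ρ' hρ' y).1 = ρ' (Ψ ρ' hρ' y).2 := hy'
      rw [← hfC, hfCΨ, hy'', hfρ']
      exact hρAcl _
    · constructor
      · intro c c' hcc
        obtain ⟨y, rfl⟩ := ConnectedComponents.surjective_coe c
        obtain ⟨y', rfl⟩ := ConnectedComponents.surjective_coe c'
        rw [hmap, hmap, mk_eq_mk_r hA (fC y), mk_eq_mk_r hA (fC y'), hfCr, hfCr] at hcc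
        have h1 : ρA (σ ρ' hρ' y) = ρA (σ ρ' hρ' y') := eq_of_mk_eq hA (hρAcl _) (hρAcl _) hcc
        have h2 : σ ρ' hρ' y = σ ρ' hρ' y' := hinjA h1
        apply (pi0Homeo ρ' hρ').injective
        rw [pi0Homeo_mk, pi0Homeo_mk, h2]
      · intro c
        obtain ⟨x, rfl⟩ := ConnectedComponents.surjective_coe c
        have hrx : r hA x ∈ Set.range ρA := by
          rw [hrangeA]
          exact isClosed_r hA x
        obtain ⟨t, ht⟩ := hrx
        obtain ⟨y, hy⟩ := exists_closedPt ρ' hρ' t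
        refine ⟨ConnectedComponents.mk y, ?_⟩
        rw [hmap, hfCΨ, hy, mk_eq_mk_r hA x, ← ht]
        show ConnectedComponents.mk (f (ρ' t)) = _
        rw [hfρ']
  let e : A ≃+* Aw ρ' hρ' := RingEquiv.ofBijective (algebraMap A (Aw ρ' hρ')) hbij
  exact ⟨{ toRingHom := (e.symm : Aw ρ' hρ' →+* A).comp (algebraMap B (Aw ρ' hρ'))
           commutes' := fun a => by
             show e.symm (algebraMap B (Aw ρ' hρ') (algebraMap A B a)) = a
             rw [← IsScalarTower.algebraMap_apply A B (Aw ρ' hρ')]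
             exact e.symm_apply_apply a }⟩

end Groth.Agent.Lib.Helper3.WLocRetr
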