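import Mathlib
import Groth.Agent.Lib.Helper13WLoc2
import Groth.Agent.Lib.Helper3IndEtComp
import Groth.Agent.S0678
import Groth.Agent.S0675
import Groth.Agent.S0737
import Groth.Agent.S0734
import Groth.Agent.S0778

set_option autoImplicit false
set_option linter.style.haveILetI false
set_option linter.unusedSectionVars false
open TensorProduct IsLocalRing CategoryTheory CategoryTheory.Limits Polynomial

namespace Groth.Agent.Helper13WLoc3

universe u

open Groth.Agent.Helper13WLoc Groth.Agent.Helper13WLoc2

/-- forward direction -/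
theorem wLocal_of_hasIndEtaleRetractions (A : Type u) [CommRing A]
    (h : ProEtW.HasIndEtaleRetractions A) :
    ProEtW.IsWLocal (PrimeSpectrum A) ∧
      ExtremallyDisconnected (_root_.ConnectedComponents (PrimeSpectrum A)) ∧
      ∀ (m : Ideal A) [m.IsMaximal], EtCoh.IsStrictlyHenselianLocalRing (Localization.AtPrime m) := by
  have h1 : ProEtW.HasIndZariskiRetractions A := by
    intro B _ _ hff hiz
    exact h B hff (isIndEtale_of_isIndZariski hiz)
  have h2 : ProEtW.HasEtaleRetractions A := by
    intro B _ _ hff het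
    haveI := het
    exact h B hff (Groth.Agent.Lib.Helper3.IndEt.isIndEtale_of_etale A B)
  obtain ⟨hwl, hed⟩ := (Groth.Agent.S0678.result A).mp h1
  exact ⟨hwl, hed, fun m _ => Groth.Agent.S0675.result A h2 m⟩

set_option maxHeartbeats 1600000 in
/-- backward direction -/
theorem hasIndEtaleRetractions_of_wLocal (A : Type u) [CommRing A]
    (hwl : ProEtW.IsWLocal (PrimeSpectrum A))
    (hed : ExtremallyDisconnected (_root_.ConnectedComponents (PrimeSpectrum A)))
    (hsh : ∀ (m : Ideal A) [m.IsMaximal],
      EtCoh.IsStrictlyHenselianLocalRing (Localization.AtPrime m)) :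
    ProEtW.HasIndEtaleRetractions A := by
  intro B _ _ hff hie
  haveI := hff
  obtain ⟨I, hI, hI0⟩ := closedPoints_ideal A hwl
  have h2 := algebraicResidueExtensions_of_isIndEtale hie
  obtain ⟨hcl, D, _, _, _, _, hiz, hbij, hwlD, hwlm, hcp⟩ :=
    Groth.Agent.S0737.result A B hwl I hI hI0 h2
  have key : ∀ m : Ideal A, m.IsMaximal →
      ∃ q : Ideal D, q.IsPrime ∧ q.comap (algebraMap A D) = m := by
    intro m hm
    have hIm : I ≤ m := by
      have hmem : (⟨m, hm.isPrime⟩ : PrimeSpectrum A) ∈ PrimeSpectrum.zeroLocus (I : Set A) := by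
        rw [hI0]
        exact (mem_closedPoints_iff _).mpr hm
      exact (PrimeSpectrum.mem_zeroLocus _ _).mp hmem
    obtain ⟨⟨q', hq'⟩, hq'm⟩ :=
      PrimeSpectrum.comap_surjective_of_faithfullyFlat (A := A) (B := B) ⟨m, hm.isPrime⟩
    have hq'm' : q'.comap (algebraMap A B) = m := congrArg PrimeSpectrum.asIdeal hq'm
    have hK : I.map (algebraMap A B) ≤ q' := by
      rw [Ideal.map_le_iff_le_comap, hq'm']
      exact hIm
    obtain ⟨q, hq, hqq'⟩ :=
      exists_prime_of_quotient_bijective B D (I.map (algebraMap A B)) hbij q' hK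
    refine ⟨q, hq, ?_⟩
    rw [IsScalarTower.algebraMap_eq A B D, ← Ideal.comap_comap, hqq', hq'm']
  haveI : Module.Flat B D := Groth.Agent.Lib.Helper3.IndZarCrit.flat_of_isIndZariski hiz
  haveI : Module.Flat A D := Module.Flat.trans A B D
  have hffD : Module.FaithfullyFlat A D := faithfullyFlat_of_flat_of_maximal A D key
  have hieD : EtPBC.IsIndEtale A D :=
    Groth.Agent.S0734.result A B D hie (isIndEtale_of_isIndZariski hiz)
  haveI : Algebra.WeaklyEtale A D := Groth.Agent.S0736.result A D hieD
  have hid : EtPBC.IdentifiesLocalRings A D := by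
    apply identifies_of_maximal
    intro m hm
    have hmcl : m ∈ ProEtW.closedPoints (PrimeSpectrum D) := (mem_closedPoints_iff m).mpr hm
    rw [hcp] at hmcl
    haveI hm' : (m.asIdeal.comap (algebraMap A D)).IsMaximal :=
      (mem_closedPoints_iff (PrimeSpectrum.comap (algebraMap A D) m)).mp hmcl
    obtain ⟨hHens, hSC⟩ := hsh (m.asIdeal.comap (algebraMap A D))
    haveI := hHens
    haveI := hSC
    letI : Algebra (Localization.AtPrime (m.asIdeal.comap (algebraMap A D)))
        (Localization.AtPrime m.asIdeal) :=
      (Localization.localRingHom (m.asIdeal.comap (algebraMap A D)) m.asIdeal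
        (algebraMap A D) rfl).toAlgebra
    haveI : IsLocalHom (algebraMap (Localization.AtPrime (m.asIdeal.comap (algebraMap A D)))
        (Localization.AtPrime m.asIdeal)) :=
      Localization.isLocalHom_localRingHom _ _ _ rfl
    haveI : IsScalarTower A (Localization.AtPrime (m.asIdeal.comap (algebraMap A D)))
        (Localization.AtPrime m.asIdeal) := by
      refine IsScalarTower.of_algebraMap_eq (fun c => ?_)
      show _ = Localization.localRingHom (m.asIdeal.comap (algebraMap A D)) m.asIdeal
        (algebraMap A D) rfl (algebraMap A _ c)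
      rw [Localization.localRingHom_to_map]
      exact IsScalarTower.algebraMap_apply A D _ c
    haveI : Algebra.WeaklyEtale A (Localization.AtPrime (m.asIdeal.comap (algebraMap A D))) :=
      Groth.Agent.Helper13WEVal.weaklyEtale_of_isLocalization
        (m.asIdeal.comap (algebraMap A D)).primeCompl _
    haveI : Algebra.WeaklyEtale D (Localization.AtPrime m.asIdeal) :=
      Groth.Agent.Helper13WEVal.weaklyEtale_of_isLocalization m.asIdeal.primeCompl _
    haveI : Algebra.WeaklyEtale A (Localization.AtPrime m.asIdeal) :=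
      Algebra.WeaklyEtale.trans A D _
    haveI : Algebra.WeaklyEtale (Localization.AtPrime (m.asIdeal.comap (algebraMap A D)))
        (Localization.AtPrime m.asIdeal) := Groth.Agent.S7127.result A _ _
    exact Groth.Agent.Helper13Olivier.olivier _ _
  have hizD : EtPBC.IsIndZariski A D := Groth.Agent.S0700.result A D hid hwl hwlD hwlm
  obtain ⟨ρ⟩ := (Groth.Agent.S0678.result A).mpr ⟨hwl, hed⟩ D hffD hizD
  exact ⟨ρ.comp (IsScalarTower.toAlgHom A B D)⟩

end Groth.Agent.Helper13WLoc3
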