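import Mathlib
import Groth.Agent.Lib.Helper13WLoc3
import Groth.Agent.Lib.Helper3WLocRetr
import Groth.Agent.Lib.Helper3LCIndZar
import Groth.Agent.Lib.Helper3WLoc
import Groth.Agent.Lib.Helper3IndZarFlat
import Groth.Agent.S0677

set_option autoImplicit false
set_option linter.style.haveILetI false
set_option linter.unusedSectionVars false
open TensorProduct IsLocalRing CategoryTheory

namespace Groth.Agent.Helper13WLoc5

universe u

open Groth.Agent.Helper13WLoc Groth.Agent.Lib.Helper3.WLocRetr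
open Groth.Agent.Lib.Helper3.LCIndZar Groth.Agent.Lib.Helper3.WLoc
open Groth.Agent.Lib.Helper3.IndZarCrit

set_option maxHeartbeats 1600000 in
/-- **Bhatt–Scholze 2.4.9 / Stacks 0983**: every ring has a faithfully flat ind-étale
w-contractible cover. -/
theorem exists_wContractible_cover (A : Type u) [CommRing A] :
    ∃ (D : Type u) (_ : CommRing D) (_ : Algebra A D),
      Module.FaithfullyFlat A D ∧ EtPBC.IsIndEtale A D ∧ EtPBC.IsWContractible D := by
  obtain ⟨C, _, _, hffC, hieC, hwlC, hsurjC, hshC⟩ := exists_wLocal_strictlyHenselian_cover A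
  obtain ⟨T, _, _, _, _, ρ, hρ, hinj, hrange, hindT⟩ := exists_closedPt_space' hwlC
  obtain ⟨S, hS⟩ : ∃ S : Stonean.{u}, S = (CompHaus.of T).presentation := ⟨_, rfl⟩
  obtain ⟨π, hπc, hπs⟩ : ∃ π : S → T, Continuous π ∧ Function.Surjective π := by
    subst hS
    refine ⟨(CompHaus.presentation.π (CompHaus.of T)).hom.hom, ?_, ?_⟩
    · exact (CompHaus.presentation.π (CompHaus.of T)).hom.hom.continuous
    · exact (CompHaus.epi_iff_surjective _).mp inferInstance
  obtain ⟨ρ', hρ'⟩ : ∃ ρ' : S → PrimeSpectrum C, ρ' = ρ ∘ π := ⟨_, rfl⟩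
  have hclopen : ∀ f : C, IsClopen {t : S | f ∈ (ρ' t).asIdeal} := by
    intro f
    rw [hρ']
    exact (hρ f).preimage hπc
  have hind : EtPBC.IsIndZariski C (Aw ρ' hclopen) :=
    isIndZariski_localization (M ρ' hclopen) (Aw ρ' hclopen)
  haveI : Module.Flat C (Aw ρ' hclopen) := flat_of_isIndZariski hind
  have hclosed : ∀ y : PrimeSpectrum (Aw ρ' hclopen), y.asIdeal.IsMaximal →
      (y.asIdeal.comap (algebraMap C (Aw ρ' hclopen))).IsMaximal := by
    intro y hy
    have h1 : IsClosed ({y} : Set (PrimeSpectrum (Aw ρ' hclopen))) :=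
      (PrimeSpectrum.isClosed_singleton_iff_isMaximal y).mpr hy
    rw [isClosed_singleton_iff ρ' hclopen, Ψ_fst] at h1
    have h2 : PrimeSpectrum.comap (algebraMap C (Aw ρ' hclopen)) y ∈
        ProEtW.closedPoints (PrimeSpectrum C) := by
      rw [← hrange, h1, congrFun hρ' _]
      exact ⟨_, rfl⟩
    exact (Groth.Agent.Helper13WLoc.mem_closedPoints_iff _).mp h2
  have hff : Module.FaithfullyFlat C (Aw ρ' hclopen) := by
    apply faithfullyFlat_of_flat_of_maximal
    intro m hm
    have h1 : (⟨m, hm.isPrime⟩ : PrimeSpectrum C) ∈ Set.range ρ := by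
      rw [hrange]
      exact (Groth.Agent.Helper13WLoc.mem_closedPoints_iff _).mpr hm
    obtain ⟨t, ht⟩ := h1
    obtain ⟨s, rfl⟩ := hπs t
    obtain ⟨y, hy⟩ := exists_closedPt ρ' hclopen s
    refine ⟨y.asIdeal, y.2, ?_⟩
    have h2 := congrArg Prod.fst hy
    rw [Ψ_fst] at h2
    have h3 : PrimeSpectrum.comap (algebraMap C (Aw ρ' hclopen)) y = ⟨m, hm.isPrime⟩ := by
      rw [h2, congrFun hρ' s]
      exact ht
    exact congrArg PrimeSpectrum.asIdeal h3
  haveI : IsScalarTower A C (LocallyConstant S C) :=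
    ⟨fun a c f => by ext t; exact smul_assoc a c (f t)⟩
  haveI : IsScalarTower A C (Aw ρ' hclopen) := by
    refine IsScalarTower.of_algebraMap_eq (R := A) (S := C) (A := Aw ρ' hclopen) (fun a => ?_)
    rw [IsScalarTower.algebraMap_apply A (LocallyConstant S C) (Aw ρ' hclopen),
      IsScalarTower.algebraMap_apply C (LocallyConstant S C) (Aw ρ' hclopen),
      ← IsScalarTower.algebraMap_apply A C (LocallyConstant S C)]
  haveI := hffC
  haveI := hff
  refine ⟨Aw ρ' hclopen, inferInstance, inferInstance, Module.FaithfullyFlat.trans A C _,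
    Groth.Agent.S0734.result A C _ hieC (isIndEtale_of_isIndZariski hind), ?_⟩
  refine (Groth.Agent.S0677.result _).mpr ⟨isWLocal ρ' hclopen,
    extremallyDisconnected_of_homeo (pi0Homeo ρ' hclopen), ?_⟩
  intro n hn
  haveI := hclosed ⟨n, hn.isPrime⟩ hn
  have hid := Groth.Agent.Lib.Helper3.IdLoc.identifies_of_isIndZariski hind ⟨n, hn.isPrime⟩
  exact isStrictlyHenselian_of_ringEquiv (RingEquiv.ofBijective _ hid)
    (hshC (n.comap (algebraMap C (Aw ρ' hclopen))))

end Groth.Agent.Helper13WLoc5
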