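import Mathlib
import Groth.Prelude.Def_BigSite

/-!
# Small etale site helpers (helper16)

* `mem_smallEtale_iff`: pointwise criterion for covering sieves of the small etale site.
* `bc_map_left_fst`, `bc_map_left_snd`: projections of `(EtCoh.bc f).map g`.
-/

set_option autoImplicit false
open CategoryTheory CategoryTheory.Limits AlgebraicGeometry Opposite
universe u

namespace Groth.Agent.Lib.Helper16.SmallEtale


set_option backward.isDefEq.respectTransparency.types false in
/-- pointwise criterion for covering sieves of the small etale site -/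
lemma mem_smallEtale_iff {X : Scheme.{u}} (U : X.Etale) (R : Sieve U) :
    R ∈ X.smallEtaleTopology U ↔
      ∀ x : U.left, ∃ (W : X.Etale) (g : W ⟶ U) (y : W.left), R g ∧ g.left y = x := by
  have eX : X.smallEtaleTopology =
      (X.smallPretopology (P := EtCoh.etaleMP) (Q := EtCoh.etaleMP)).toGrothendieck :=
    Scheme.smallGrothendieckTopology_eq_toGrothendieck_smallPretopology X le_rfl
  rw [eX]
  constructor
  · intro h x
    obtain ⟨W, g, y, h1, -, h3⟩ := (Scheme.mem_toGrothendieck_smallPretopology U R).1 h x
    exact ⟨W, g, y, h1, h3⟩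
  · intro h
    refine (Scheme.mem_toGrothendieck_smallPretopology U R).2 ?_
    intro x
    obtain ⟨W, g, y, h1, h3⟩ := h x
    exact ⟨W, g, y, h1, inferInstance, h3⟩

set_option backward.isDefEq.respectTransparency.types false in
lemma bc_map_left_fst {X Y : Scheme.{u}} (f : X ⟶ Y) {U V : Y.Etale} (g : V ⟶ U) :
    ((EtCoh.bc f).map g).left ≫ pullback.fst U.hom f = pullback.fst V.hom f ≫ g.left := by
  dsimp [EtCoh.bc]
  exact pullback.lift_fst _ _ _

set_option backward.isDefEq.respectTransparency.types false in
lemma bc_map_left_snd {X Y : Scheme.{u}} (f : X ⟶ Y) {U V : Y.Etale} (g : V ⟶ U) :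
    ((EtCoh.bc f).map g).left ≫ pullback.snd U.hom f = pullback.snd V.hom f := by
  dsimp [EtCoh.bc]
  exact pullback.lift_snd _ _ _

end Groth.Agent.Lib.Helper16.SmallEtale
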