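import Mathlib
import Groth.Prelude.Def_EtBase
import Groth.Agent.Lib.Helper16SmallEtale

/-!
# A small coherent model of the small étale site of a scheme (helper9)

`Cfp X` is a small category (objects and morphisms in `Type (u+1)`): the full subcategory of `X.Etale` on the
étale `X`-schemes whose underlying scheme is quasi-compact and quasi-separated, with morphisms lifted one
universe up.  `G X : Cfp X ⥤ X.Etale` is fully faithful and cover-dense, so by the comparison lemma sheaves on
`(Cfp X, Jfp X)` are the same as sheaves on the small étale site.  `Cfp X` has fibre products and every object is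
quasi-compact for `Jfp X`.
-/

set_option autoImplicit false
set_option linter.style.haveILetI false
open CategoryTheory CategoryTheory.Limits AlgebraicGeometry Opposite
universe u

namespace Groth.Agent.Lib.Helper9.EtFp

lemma qcqs_pullback {A B U W : Scheme.{u}} (f : A ⟶ U) (g : B ⟶ U) [CompactSpace A] [QuasiSeparatedSpace A]
    [CompactSpace B] [QuasiSeparatedSpace B] [QuasiSeparatedSpace U] (e : W ≅ pullback f g) :
    CompactSpace W ∧ QuasiSeparatedSpace W := by
  haveI : QuasiCompact f := inferInstance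
  haveI : QuasiSeparated f := inferInstance
  haveI : CompactSpace (pullback f g : Scheme.{u}) := inferInstance
  haveI : QuasiSeparatedSpace (pullback f g : Scheme.{u}) :=
    quasiSeparatedSpace_of_quasiSeparated (pullback.snd f g)
  exact ⟨QuasiCompact.compactSpace_of_compactSpace e.hom, quasiSeparatedSpace_of_quasiSeparated e.hom⟩

variable (X : Scheme.{u})

/-- étale `X`-schemes which are quasi-compact and quasi-separated -/
def fpProp : ObjectProperty X.Etale := fun V => CompactSpace V.left ∧ QuasiSeparatedSpace V.left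

instance : (fpProp X).IsClosedUnderIsomorphisms where
  of_iso {V V'} e h := by
    obtain ⟨h1, h2⟩ := h
    let e' : V'.left ≅ V.left := ((Scheme.Etale.forget X ⋙ Over.forget X).mapIso e).symm
    exact ⟨QuasiCompact.compactSpace_of_compactSpace e'.hom, quasiSeparatedSpace_of_quasiSeparated e'.hom⟩

instance : (fpProp X).IsClosedUnderLimitsOfShape WalkingCospan := by
  constructor
  rintro V ⟨h⟩
  let Fg : X.Etale ⥤ Scheme.{u} := Scheme.Etale.forget X ⋙ Over.forget X
  have hl := isLimitOfPreserves Fg h.isLimit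
  let e1 : Fg.obj V ≅ limit (h.diag ⋙ Fg) := hl.conePointUniqueUpToIso (limit.isLimit _)
  let e2 : limit (h.diag ⋙ Fg) ≅ pullback ((h.diag ⋙ Fg).map WalkingCospan.Hom.inl)
      ((h.diag ⋙ Fg).map WalkingCospan.Hom.inr) :=
    HasLimit.isoOfNatIso (diagramIsoCospan _)
  obtain ⟨h1, h1'⟩ := h.prop_diag_obj WalkingCospan.left
  obtain ⟨h2, h2'⟩ := h.prop_diag_obj WalkingCospan.right
  obtain ⟨h3, h3'⟩ := h.prop_diag_obj WalkingCospan.one
  exact @qcqs_pullback _ _ _ _ ((h.diag ⋙ Fg).map WalkingCospan.Hom.inl)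
      ((h.diag ⋙ Fg).map WalkingCospan.Hom.inr) h1 h1' h2 h2' h3' (e1 ≪≫ e2)

/-- the full subcategory of qcqs étale `X`-schemes -/
abbrev Fp : Type (u + 1) := (fpProp X).FullSubcategory

/-- the small model: morphisms lifted to `Type (u+1)` -/
abbrev Cfp : Type (u + 1) := ULiftHom.{u + 1} (Fp X)

/-- the inclusion into the small étale site -/
noncomputable def G : Cfp X ⥤ X.Etale := ULiftHom.down ⋙ (fpProp X).ι

instance : (ULiftHom.down : ULiftHom.{u + 1} (Fp X) ⥤ Fp X).IsEquivalence :=
  inferInstanceAs (ULiftHom.equiv (C := Fp X)).inverse.IsEquivalence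

instance : (G X).Full := by unfold G; infer_instance
instance : (G X).Faithful := by unfold G; infer_instance

instance : HasPullbacks (Cfp X) :=
  Adjunction.hasLimitsOfShape_of_equivalence (ULiftHom.down : ULiftHom.{u + 1} (Fp X) ⥤ Fp X)

/-- an object of the small model from a qcqs étale scheme -/
def mk (V : X.Etale) (h : fpProp X V) : Cfp X := ULiftHom.objUp ⟨V, h⟩

@[simp] lemma G_mk (V : X.Etale) (h : fpProp X V) : (G X).obj (mk X V h) = V := rfl

lemma prop_G (V : Cfp X) : fpProp X ((G X).obj V) := (ULiftHom.objDown V).property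

set_option backward.isDefEq.respectTransparency.types false in
instance isCoverDense : (G X).IsCoverDense X.smallEtaleTopology := by
  constructor
  intro U
  rw [Groth.Agent.Lib.Helper16.SmallEtale.mem_smallEtale_iff]
  intro x
  obtain ⟨W, hW, hxW, -⟩ : ∃ W : U.left.Opens, W ∈ U.left.affineOpens ∧ x ∈ W ∧ W ≤ ⊤ :=
    (TopologicalSpace.Opens.isBasis_iff_nbhd.1 U.left.isBasis_affineOpens)
    (show x ∈ (⊤ : U.left.Opens) from trivial)
  have hW' : IsAffineOpen W := hW
  let W' : X.Etale := Scheme.Etale.mk (W.ι ≫ U.hom)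
  have hfp : fpProp X W' := by
    haveI : IsAffine W'.left := hW'
    exact ⟨inferInstance, inferInstance⟩
  let g : W' ⟶ U := MorphismProperty.Over.homMk W.ι rfl trivial
  refine ⟨W', g, ⟨x, hxW⟩, ?_, rfl⟩
  exact Presieve.in_coverByImage (G X) (Y := mk X W' hfp) g

/-- the induced topology on the small model -/
noncomputable abbrev Jfp : GrothendieckTopology (Cfp X) := (G X).inducedTopology X.smallEtaleTopology

lemma mem_Jfp_iff {U : Cfp X} (T : Sieve U) :
    T ∈ Jfp X U ↔ ∀ x : ((G X).obj U).left, ∃ (Z : Cfp X) (r : Z ⟶ U) (z : ((G X).obj Z).left),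
      T r ∧ ((G X).map r).left z = x := by
  rw [Functor.mem_inducedTopology_iff_of_isCoverDense,
    Groth.Agent.Lib.Helper16.SmallEtale.mem_smallEtale_iff]
  constructor
  · intro h x
    obtain ⟨W, g, y, ⟨Z, r, l, hr, rfl⟩, hy⟩ := h x
    exact ⟨Z, r, l.left y, hr, hy⟩
  · intro h x
    obtain ⟨Z, r, z, hr, hz⟩ := h x
    exact ⟨(G X).obj Z, (G X).map r, z, Sieve.image_mem_functorPushforward (G X) T hr, hz⟩

/-- every object of the small model is quasi-compact -/
theorem exists_finite_subcover {U : Cfp X} (T : Sieve U) (hT : T ∈ Jfp X U) :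
    ∃ (ι : Type (u + 1)) (Y : ι → Over U), (Finite ι ∧
      Sieve.ofArrows (fun i => (Y i).left) (fun i => (Y i).hom) ∈ Jfp X U) ∧
      ∀ i, T.arrows (Y i).hom := by
  have h := (mem_Jfp_iff X T).1 hT
  choose Z r z hr hz using h
  haveI : CompactSpace ((G X).obj U).left := (prop_G X U).1
  have hopen : ∀ x, IsOpen (Set.range ((G X).map (r x)).left) := fun x =>
    (((G X).map (r x)).left).isOpenMap.isOpen_range
  obtain ⟨s, hs⟩ := isCompact_univ.elim_finite_subcover
    (fun x => Set.range ((G X).map (r x)).left) hopen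
    (fun x _ => Set.mem_iUnion.2 ⟨x, z x, hz x⟩)
  refine ⟨ULift.{u + 1} s, fun i => Over.mk (r i.down.1), ⟨inferInstance, ?_⟩, fun i => hr _⟩
  rw [mem_Jfp_iff]
  intro x
  obtain ⟨y, hy⟩ := Set.mem_iUnion.1 (hs (Set.mem_univ x))
  obtain ⟨hys, w, hw⟩ := Set.mem_iUnion.1 hy
  exact ⟨Z y, r y, w, Sieve.ofArrows_mk _ _ (⟨⟨y, hys⟩⟩ : ULift.{u + 1} s), hw⟩

end Groth.Agent.Lib.Helper9.EtFp
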