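import Mathlib
import Groth.Prelude.Def_ProEtS
import Groth.Agent.Lib.Helper9EtFp
import Groth.Prelude.Def_SGA4c

/-!
# A small coherent model of the small pro-étale site of a scheme (helper9)

`Cfp X`: the full subcategory of `X.ProEt` on the objects whose underlying scheme is quasi-compact
and quasi-separated, with morphisms lifted one universe up (a small category in `Type (u+1)`).
-/

set_option autoImplicit false
set_option linter.style.haveILetI false
set_option backward.isDefEq.respectTransparency false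
open CategoryTheory CategoryTheory.Limits AlgebraicGeometry Opposite
universe u

namespace Groth.Agent.Lib.Helper9.ProEt

variable (X : Scheme.{u})

/-- the forgetful functor to schemes -/
noncomputable abbrev Fg : X.ProEt ⥤ Scheme.{u} := Scheme.ProEt.forget X ⋙ Over.forget X

instance : (Scheme.ProEt.precoverage X).IsStableUnderComposition := by
  unfold Scheme.ProEt.precoverage; infer_instance
instance : (Scheme.ProEt.precoverage X).IsStableUnderBaseChange := by
  unfold Scheme.ProEt.precoverage; infer_instance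
instance : (Scheme.ProEt.precoverage X).HasIsos := by
  unfold Scheme.ProEt.precoverage; infer_instance

lemma mem_topology_iff {U : X.ProEt} (T : Sieve U) :
    T ∈ Scheme.ProEt.topology X U ↔ ∃ R ∈ Scheme.ProEt.precoverage X U, R ≤ T.arrows := by
  rw [Scheme.ProEt.topology, Precoverage.mem_toGrothendieck_iff_of_isStableUnderComposition]

lemma mem_precoverage_iff {U : X.ProEt} (R : Presieve U) :
    R ∈ Scheme.ProEt.precoverage X U ↔ R.map (Fg X) ∈ Scheme.proetalePrecoverage U.left :=
  Iff.rfl

instance weaklyEtale_left {U V : X.ProEt} (g : U ⟶ V) : WeaklyEtale g.left := by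
  haveI : WeaklyEtale (g.left ≫ V.hom) := by
    rw [CategoryTheory.Over.w g.hom]
    infer_instance
  exact WeaklyEtale.of_comp g.left V.hom

/-- the object of the pro-étale site given by an open subscheme of an object -/
noncomputable def openObj (U : X.ProEt) (W : U.left.Opens) : X.ProEt :=
  Scheme.ProEt.mk (W.ι ≫ U.hom)

/-- the inclusion of an open subscheme -/
noncomputable def openHom (U : X.ProEt) (W : U.left.Opens) : openObj X U W ⟶ U :=
  MorphismProperty.Over.homMk W.ι rfl trivial

lemma openHom_left (U : X.ProEt) (W : U.left.Opens) : (openHom X U W).left = W.ι := rfl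

/-- sufficiency: a finite jointly surjective family of quasi-compact objects covers a quasi-separated object -/
lemma ofArrows_mem_topology {U : X.ProEt} [QuasiSeparatedSpace U.left] {κ : Type} [Finite κ]
    (Z : κ → X.ProEt) (g : ∀ k, Z k ⟶ U) [∀ k, CompactSpace (Z k).left]
    (hsurj : ∀ x : U.left, ∃ (k : κ) (z : (Z k).left), (g k).left z = x) :
    Sieve.ofArrows Z g ∈ Scheme.ProEt.topology X U := by
  rw [mem_topology_iff]
  refine ⟨Presieve.ofArrows Z g, ?_, Sieve.le_generate _⟩
  rw [mem_precoverage_iff, Presieve.map_ofArrows]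
  have h2 : Presieve.ofArrows (fun k => (Z k).left) (fun k => (g k).left) ∈
      Scheme.precoverage @WeaklyEtale U.left := by
    rw [Scheme.ofArrows_mem_precoverage_iff]
    exact ⟨fun x => by obtain ⟨k, z, hz⟩ := hsurj x; exact ⟨k, z, hz⟩, fun k => inferInstance⟩
  refine ⟨?_, h2⟩
  let 𝒰 : Scheme.Cover.{0} (Scheme.precoverage @WeaklyEtale) U.left :=
    { I₀ := κ
      X := fun k => (Z k).left
      f := fun k => (g k).left
      mem₀ := h2 }
  haveI : ∀ k, QuasiCompact (𝒰.f k) := fun k => by
    change QuasiCompact (g k).left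
    infer_instance
  haveI : Finite 𝒰.I₀ := ‹Finite κ›
  have hq : QuasiCompactCover 𝒰.toPreZeroHypercover := QuasiCompactCover.of_finite
  exact Scheme.presieve₀_mem_qcPrecoverage_iff.2 hq

lemma exists_of_map {U : X.ProEt} (R : Presieve U) {Y : Scheme.{u}} (e : Y ⟶ U.left)
    (he : R.map (Fg X) e) (V : Y.Opens) (hV : IsAffineOpen V) :
    ∃ (Z : X.ProEt) (g : Z ⟶ U), R g ∧ ∃ V' : Z.left.Opens, IsAffineOpen V' ∧
      g.left '' (V' : Set Z.left) = e '' (V : Set Y) := by
  obtain ⟨hu⟩ := he
  exact ⟨_, _, hu, V, hV, rfl⟩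

/-- necessity: a covering sieve of a quasi-compact object contains a finite jointly surjective family of
affine objects -/
lemma exists_finite_affine_of_mem {U : X.ProEt} [CompactSpace U.left] (T : Sieve U)
    (hT : T ∈ Scheme.ProEt.topology X U) :
    ∃ (n : ℕ) (Z : Fin n → X.ProEt) (g : ∀ k, Z k ⟶ U), (∀ k, T (g k)) ∧
      (∀ k, IsAffine (Z k).left) ∧ ∀ x : U.left, ∃ (k : Fin n) (z : (Z k).left), (g k).left z = x := by
  rw [mem_topology_iff] at hT
  obtain ⟨R, hR, hle⟩ := hT
  rw [mem_precoverage_iff] at hR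
  obtain ⟨E, hE⟩ := (Precoverage.mem_iff_exists_zeroHypercover).1 hR
  haveI : QuasiCompactCover E.toPreZeroHypercover :=
    inferInstanceAs (QuasiCompactCover
      (E : Scheme.Cover (Scheme.propQCPrecoverage @WeaklyEtale) U.left).toPreZeroHypercover)
  obtain ⟨n, f, V, hV, hcov⟩ := QuasiCompactCover.exists_isAffineOpen_of_isCompact
    E.toPreZeroHypercover (U := ⊤) isCompact_univ
  have hk : ∀ k, (R.map (Fg X)) (E.f (f k)) := fun k => by
    rw [hE]
    exact ⟨f k⟩
  choose Z g hRg V' hV' himg using fun k => exists_of_map X R (E.f (f k)) (hk k) (V k) (hV k)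
  refine ⟨n, fun k => openObj X (Z k) (V' k), fun k => openHom X (Z k) (V' k) ≫ g k,
    fun k => T.downward_closed (hle _ _ (hRg k)) _, fun k => hV' k, ?_⟩
  intro x
  have hx : x ∈ ⋃ i, (E.f (f i)) '' (V i : Set (E.X (f i))) := by
    rw [hcov]
    trivial
  obtain ⟨k, hk'⟩ := Set.mem_iUnion.1 hx
  rw [← himg k] at hk'
  obtain ⟨z, hz, hzx⟩ := hk'
  exact ⟨k, ⟨z, hz⟩, hzx⟩

/-- objects of the pro-étale site with quasi-compact quasi-separated underlying scheme -/
def fpProp : ObjectProperty X.ProEt :=
  fun U => CompactSpace U.left ∧ QuasiSeparatedSpace U.left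

instance : (fpProp X).IsClosedUnderIsomorphisms where
  of_iso {V V'} e h := by
    obtain ⟨h1, h2⟩ := h
    let e' : V'.left ≅ V.left := ((Fg X).mapIso e).symm
    exact ⟨QuasiCompact.compactSpace_of_compactSpace e'.hom, quasiSeparatedSpace_of_quasiSeparated e'.hom⟩

instance : (fpProp X).IsClosedUnderLimitsOfShape WalkingCospan := by
  constructor
  rintro V ⟨h⟩
  have hl := isLimitOfPreserves (Fg X) h.isLimit
  let e1 : (Fg X).obj V ≅ limit (h.diag ⋙ Fg X) := hl.conePointUniqueUpToIso (limit.isLimit _)
  let e2 : limit (h.diag ⋙ Fg X) ≅ pullback ((h.diag ⋙ Fg X).map WalkingCospan.Hom.inl)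
      ((h.diag ⋙ Fg X).map WalkingCospan.Hom.inr) :=
    HasLimit.isoOfNatIso (diagramIsoCospan _)
  obtain ⟨h1, h1'⟩ := h.prop_diag_obj WalkingCospan.left
  obtain ⟨h2, h2'⟩ := h.prop_diag_obj WalkingCospan.right
  obtain ⟨h3, h3'⟩ := h.prop_diag_obj WalkingCospan.one
  exact @Groth.Agent.Lib.Helper9.EtFp.qcqs_pullback _ _ _ _ ((h.diag ⋙ Fg X).map WalkingCospan.Hom.inl)
      ((h.diag ⋙ Fg X).map WalkingCospan.Hom.inr) h1 h1' h2 h2' h3' (e1 ≪≫ e2)

/-- the full subcategory of qcqs objects -/
abbrev Fp : Type (u + 1) := (fpProp X).FullSubcategory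

/-- the small model: morphisms lifted to `Type (u+1)` -/
abbrev Cfp : Type (u + 1) := ULiftHom.{u + 1} (Fp X)

/-- the inclusion into the small pro-étale site -/
noncomputable def G : Cfp X ⥤ X.ProEt := ULiftHom.down ⋙ (fpProp X).ι

instance : (ULiftHom.down : ULiftHom.{u + 1} (Fp X) ⥤ Fp X).IsEquivalence :=
  inferInstanceAs (ULiftHom.equiv (C := Fp X)).inverse.IsEquivalence

instance : (G X).Full := by unfold G; infer_instance
instance : (G X).Faithful := by unfold G; infer_instance

instance : HasPullbacks (Cfp X) :=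
  Adjunction.hasLimitsOfShape_of_equivalence (ULiftHom.down : ULiftHom.{u + 1} (Fp X) ⥤ Fp X)

/-- an object of the small model from a qcqs object -/
def mk (V : X.ProEt) (h : fpProp X V) : Cfp X := ULiftHom.objUp ⟨V, h⟩

@[simp] lemma G_mk (V : X.ProEt) (h : fpProp X V) : (G X).obj (mk X V h) = V := rfl

lemma prop_G (V : Cfp X) : fpProp X ((G X).obj V) := (ULiftHom.objDown V).property

lemma fpProp_of_isAffine (V : X.ProEt) [IsAffine V.left] : fpProp X V :=
  ⟨inferInstance, inferInstance⟩

instance isCoverDense : (G X).IsCoverDense (Scheme.ProEt.topology X) := by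
  constructor
  intro U
  rw [mem_topology_iff]
  refine ⟨Presieve.ofArrows (fun W : U.left.affineOpens => openObj X U W.1)
    (fun W => openHom X U W.1), ?_, ?_⟩
  · rw [mem_precoverage_iff, Presieve.map_ofArrows]
    refine Scheme.zariskiPrecoverage_le_propQCPrecoverage _ ?_
    rw [Scheme.ofArrows_mem_precoverage_iff]
    refine ⟨fun x => ?_, fun W => ?_⟩
    · obtain ⟨W, hW, hxW, -⟩ : ∃ W : U.left.Opens, W ∈ U.left.affineOpens ∧ x ∈ W ∧ W ≤ ⊤ :=
        (TopologicalSpace.Opens.isBasis_iff_nbhd.1 U.left.isBasis_affineOpens)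
        (show x ∈ (⊤ : U.left.Opens) from trivial)
      exact ⟨⟨W, hW⟩, ⟨x, hxW⟩, rfl⟩
    · change IsOpenImmersion W.1.ι
      infer_instance
  · rintro Y g ⟨W⟩
    haveI : IsAffine (openObj X U W.1).left := W.2
    exact Presieve.in_coverByImage (G X) (Y := mk X (openObj X U W.1) (fpProp_of_isAffine X _))
      (openHom X U W.1)

/-- the induced topology on the small model -/
noncomputable abbrev Jfp : GrothendieckTopology (Cfp X) := (G X).inducedTopology (Scheme.ProEt.topology X)

/-- every object of the small model is quasi-compact -/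
theorem isQCSite (U : Cfp X) : ToposFin.IsQCSite (Jfp X) U := by
  intro T hT
  rw [Functor.mem_inducedTopology_iff_of_isCoverDense] at hT
  haveI : CompactSpace ((G X).obj U).left := (prop_G X U).1
  haveI : QuasiSeparatedSpace ((G X).obj U).left := (prop_G X U).2
  obtain ⟨n, Z, g, hg, haff, hsurj⟩ := exists_finite_affine_of_mem X _ hT
  choose W r l hr hfac using hg
  refine ⟨n, W, r, hr, ?_⟩
  rw [Functor.mem_inducedTopology_iff_of_isCoverDense]
  haveI : ∀ k, CompactSpace ((G X).obj (W k)).left := fun k => (prop_G X (W k)).1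
  refine (Scheme.ProEt.topology X).superset_covering ?_
    (ofArrows_mem_topology X (fun k => (G X).obj (W k)) (fun k => (G X).map (r k)) ?_)
  · rw [Sieve.ofArrows, Sieve.generate_le_iff]
    rintro Y h ⟨k⟩
    exact Sieve.image_mem_functorPushforward (G X) _ (Sieve.ofArrows_mk W r k)
  · intro x
    obtain ⟨k, z, hz⟩ := hsurj x
    refine ⟨k, (l k).left z, ?_⟩
    rw [← hz, hfac k]
    rfl

end Groth.Agent.Lib.Helper9.ProEt
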