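import Mathlib
import Groth.Prelude.Def_ProEtS
import Groth.Agent.Lib.Helper9ProEt

set_option autoImplicit false
open CategoryTheory CategoryTheory.Limits AlgebraicGeometry Opposite
open Groth.Agent.Lib.Helper9.ProEt
universe u w

/-!
# Affine weakly contractible objects of the pro-étale site: clopen decompositions (helper9)
-/

namespace Groth.Agent.Lib.Helper9.WC

variable (X : Scheme.{u})

/-- a finite decomposition of an object into pairwise disjoint open subschemes -/
structure Decomp (U : X.ProEt) where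
  n : ℕ
  W : Fin n → U.left.Opens
  disj : Pairwise (fun k l => Disjoint (W k : Set U.left) (W l))
  cov : (⋃ k, (W k : Set U.left)) = Set.univ

variable {X}

namespace Decomp

variable {U : X.ProEt} (D : Decomp X U)

/-- the pieces -/
noncomputable abbrev obj (k : Fin D.n) : X.ProEt := openObj X U (D.W k)

/-- the inclusions of the pieces -/
noncomputable abbrev hom (k : Fin D.n) : D.obj k ⟶ U := openHom X U (D.W k)

instance : ReflectsColimitsOfShape (Discrete (Fin D.n)) (Fg X) := by
  unfold Fg
  infer_instance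

lemma isColimit : Nonempty (IsColimit (Cofan.mk U D.hom)) := by
  have h1 : Nonempty (IsColimit (Cofan.mk U.left (fun k => (D.W k).ι))) := by
    refine nonempty_isColimit_cofanMk_of _ ?_ ?_
    · simp only [Scheme.Opens.opensRange_ι]
      apply TopologicalSpace.Opens.ext
      simp only [TopologicalSpace.Opens.coe_iSup, TopologicalSpace.Opens.coe_top]
      exact D.cov
    · intro k l hkl
      simp only [Function.onFun, Scheme.Opens.opensRange_ι]
      have h : Disjoint (D.W k : Set U.left) (D.W l) := D.disj hkl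
      rw [disjoint_iff] at h ⊢
      apply TopologicalSpace.Opens.ext
      simpa using h
  obtain ⟨h1⟩ := h1
  refine ⟨isColimitOfReflects (Fg X) ?_⟩
  refine (isColimitMapCoconeCofanMkEquiv (Fg X) _ _).symm ?_
  exact h1

/-- the limit cone obtained by applying a finite-product-preserving presheaf -/
noncomputable def isLimitMap (F : X.ProEtᵒᵖ ⥤ Type w) [PreservesFiniteProducts F] :
    IsLimit (F.mapCone (Cofan.mk U D.hom).op) :=
  haveI : PreservesLimitsOfShape (Discrete (Fin D.n)) F := PreservesFiniteProducts.preserves _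
  isLimitOfPreserves F (Cofan.IsColimit.op D.isColimit.some)

lemma map_injective (F : X.ProEtᵒᵖ ⥤ Type w) [PreservesFiniteProducts F]
    (x y : F.obj (op U)) (h : ∀ k, F.map (D.hom k).op x = F.map (D.hom k).op y) : x = y := by
  apply (Types.isLimitEquivSections (D.isLimitMap F)).injective
  apply Subtype.ext
  funext ⟨k⟩
  exact h k

lemma map_surjective (F : X.ProEtᵒᵖ ⥤ Type w) [PreservesFiniteProducts F]
    (x : ∀ k, F.obj (op (D.obj k))) : ∃ t : F.obj (op U), ∀ k, F.map (D.hom k).op t = x k := by
  let s : (Discrete.functor (fun k => op (D.obj k)) ⋙ F).sections :=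
    ⟨fun k => x k.as, by
      rintro ⟨k⟩ ⟨l⟩ ⟨⟨h⟩⟩
      cases h
      simp⟩
  refine ⟨(Types.isLimitEquivSections (D.isLimitMap F)).symm s, fun k => ?_⟩
  exact Types.isLimitEquivSections_symm_apply (D.isLimitMap F) s ⟨k⟩

lemma isClopen (k : Fin D.n) : IsClopen (D.W k : Set U.left) := by
  refine ⟨?_, (D.W k).isOpen⟩
  have h : (D.W k : Set U.left)ᶜ = ⋃ l ∈ {l | l ≠ k}, (D.W l : Set U.left) := by
    ext x
    simp only [Set.mem_compl_iff, SetLike.mem_coe, Set.mem_iUnion, Set.mem_ofPred_eq, exists_prop]
    constructor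
    · intro hx
      have hx' : x ∈ ⋃ l, (D.W l : Set U.left) := by rw [D.cov]; trivial
      obtain ⟨l, hl⟩ := Set.mem_iUnion.1 hx'
      exact ⟨l, fun h => hx (h ▸ hl), hl⟩
    · rintro ⟨l, hlk, hl⟩ hk
      exact Set.disjoint_iff.1 (D.disj hlk) ⟨hl, hk⟩
  rw [← isOpen_compl_iff, h]
  exact isOpen_biUnion (fun l _ => (D.W l).isOpen)

instance [CompactSpace U.left] (k : Fin D.n) : CompactSpace (D.obj k).left :=
  isCompact_iff_compactSpace.1 ((D.isClopen k).1.isCompact)

lemma mem_topology [CompactSpace U.left] [QuasiSeparatedSpace U.left] :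
    Sieve.ofArrows D.obj D.hom ∈ Scheme.ProEt.topology X U := by
  refine ofArrows_mem_topology X D.obj D.hom ?_
  intro x
  have hx' : x ∈ ⋃ l, (D.W l : Set U.left) := by rw [D.cov]; trivial
  obtain ⟨l, hl⟩ := Set.mem_iUnion.1 hx'
  exact ⟨l, ⟨x, hl⟩, rfl⟩

end Decomp


/-- the representable sheaf of sets, valued one universe up -/
noncomputable abbrev hh : X.ProEt ⥤ Sheaf (Scheme.ProEt.topology X) (Type (u + 1)) :=
  GrothendieckTopology.uliftYoneda.{u + 1} (Scheme.ProEt.topology X)

/-- a single covering morphism gives an epimorphism of representable sheaves -/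
lemma epi_hh_map {V U : X.ProEt} (p : V ⟶ U)
    (hp : Sieve.ofArrows (fun _ : Unit => V) (fun _ => p) ∈ Scheme.ProEt.topology X U) :
    Epi ((hh (X := X)).map p) := by
  haveI : Sheaf.IsLocallySurjective ((hh (X := X)).map p) := by
    constructor
    intro T s
    refine (Scheme.ProEt.topology X).superset_covering ?_
      ((Scheme.ProEt.topology X).pullback_stable s.down hp)
    rintro T' f ⟨Y, a, b, ⟨⟨⟩⟩, hab⟩
    refine ⟨⟨a⟩, ?_⟩
    apply ULift.ext
    exact hab
  infer_instance

/-- a weakly contractible object has sections of single covering morphisms -/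
lemma exists_section {V U : X.ProEt} (hU : ProEtS.IsWC U) (p : V ⟶ U)
    (hp : Sieve.ofArrows (fun _ : Unit => V) (fun _ => p) ∈ Scheme.ProEt.topology X U) :
    ∃ s : U ⟶ V, s ≫ p = 𝟙 U := by
  obtain ⟨t, ht⟩ := hU _ _ ((hh (X := X)).map p) (epi_hh_map p hp) ⟨𝟙 U⟩
  exact ⟨t.down, congrArg ULift.down ht⟩


section coprod

variable {n : ℕ} (Z : Fin n → X.ProEt)

instance : WeaklyEtale (Sigma.desc (fun k => (Z k).hom)) :=
  IsZariskiLocalAtSource.sigmaDesc (P := @WeaklyEtale) (fun k => (Z k).prop)

/-- the finite coproduct in the pro-étale site -/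
noncomputable def sig : X.ProEt := Scheme.ProEt.mk (Sigma.desc (fun k => (Z k).hom))

/-- the coprojections -/
noncomputable def sigι (k : Fin n) : Z k ⟶ sig Z :=
  MorphismProperty.Over.homMk (Sigma.ι (fun k => (Z k).left) k)
    (Sigma.ι_desc (fun k => (Z k).hom) k) trivial

/-- the induced morphism -/
noncomputable def sigDesc {U : X.ProEt} (g : ∀ k, Z k ⟶ U) : sig Z ⟶ U :=
  MorphismProperty.Over.homMk (Sigma.desc (fun k => (g k).left)) (by
    apply Sigma.hom_ext
    intro k
    have h1 : Sigma.ι (fun k => (Z k).left) k ≫ (Sigma.desc fun k => (g k).left) ≫ U.hom =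
        (Z k).hom := by
      rw [← Category.assoc, Sigma.ι_desc (fun k => (g k).left) k]
      exact CategoryTheory.Over.w (g k).hom
    exact h1.trans (Sigma.ι_desc (fun k => (Z k).hom) k).symm) trivial

lemma sigι_desc {U : X.ProEt} (g : ∀ k, Z k ⟶ U) (k : Fin n) : sigι Z k ≫ sigDesc Z g = g k := by
  apply MorphismProperty.Over.Hom.ext
  exact Sigma.ι_desc (fun k => (g k).left) k

instance [∀ k, IsAffine (Z k).left] : IsAffine (sig Z).left := by
  change IsAffine (∐ fun k => (Z k).left)
  infer_instance

lemma sigDesc_mem {U : X.ProEt} [QuasiSeparatedSpace U.left] [∀ k, IsAffine (Z k).left]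
    (g : ∀ k, Z k ⟶ U)
    (hsurj : ∀ x : U.left, ∃ (k : Fin n) (z : (Z k).left), (g k).left z = x) :
    Sieve.ofArrows (fun _ : Unit => sig Z) (fun _ => sigDesc Z g) ∈ Scheme.ProEt.topology X U := by
  refine ofArrows_mem_topology X _ _ ?_
  intro x
  obtain ⟨k, z, hz⟩ := hsurj x
  refine ⟨(), (sigι Z k).left z, ?_⟩
  have h : (sigι Z k).left ≫ (sigDesc Z g).left = (g k).left :=
    congrArg (fun f => f.left) (sigι_desc Z g k)
  rw [← hz, ← h]
  rfl

end coprod

/-- a covering sieve of an affine weakly contractible object contains a finite clopen decomposition -/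
theorem exists_decomp_of_isWC {U : X.ProEt} [IsAffine U.left] (hU : ProEtS.IsWC U)
    (R : Sieve U) (hR : R ∈ Scheme.ProEt.topology X U) :
    ∃ D : Decomp X U, ∀ k, R.arrows (D.hom k) := by
  obtain ⟨n, Z, g, hRg, haff, hsurj⟩ := exists_finite_affine_of_mem X R hR
  obtain ⟨s, hs⟩ := exists_section hU (sigDesc Z g) (sigDesc_mem Z g hsurj)
  have hs' : s.left ≫ Sigma.desc (fun k => (g k).left) = 𝟙 U.left :=
    congrArg (fun f => f.left) hs
  let D : Decomp X U :=
    { n := n
      W := fun k => s.left ⁻¹ᵁ (Sigma.ι (fun k => (Z k).left) k).opensRange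
      disj := by
        intro k l hkl
        have := disjoint_opensRange_sigmaι (fun k => (Z k).left) k l hkl
        rw [Set.disjoint_iff]
        rintro x ⟨hx1, hx2⟩
        exact (Set.disjoint_iff.1 ((TopologicalSpace.Opens.coe_disjoint).2 this)) ⟨hx1, hx2⟩
      cov := by
        apply Set.eq_univ_of_forall
        intro x
        obtain ⟨y, hy⟩ := (sigmaOpenCover (fun k => (Z k).left)).covers (s.left x)
        exact Set.mem_iUnion.2 ⟨_, ⟨y, hy⟩⟩ }
  refine ⟨D, fun k => ?_⟩
  have hrange : Set.range ((D.W k).ι ≫ s.left).base ⊆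
      Set.range (Sigma.ι (fun k => (Z k).left) k).base := by
    rintro _ ⟨x, rfl⟩
    exact x.2
  let b0 : (D.W k : Scheme.{u}) ⟶ (Z k).left :=
    IsOpenImmersion.lift (Sigma.ι (fun k => (Z k).left) k) ((D.W k).ι ≫ s.left) hrange
  have hb0 : b0 ≫ Sigma.ι (fun k => (Z k).left) k = (D.W k).ι ≫ s.left :=
    IsOpenImmersion.lift_fac _ _ _
  have hb1 : b0 ≫ (g k).left = (D.W k).ι := by
    calc b0 ≫ (g k).left
        = b0 ≫ Sigma.ι (fun k => (Z k).left) k ≫ Sigma.desc (fun k => (g k).left) := by
          rw [Sigma.ι_desc (fun k => (g k).left) k]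
      _ = ((D.W k).ι ≫ s.left) ≫ Sigma.desc (fun k => (g k).left) := by
          rw [← Category.assoc]
          exact congrArg (fun f => f ≫ Sigma.desc (fun k => (g k).left)) hb0
      _ = (D.W k).ι ≫ (s.left ≫ Sigma.desc (fun k => (g k).left)) := Category.assoc _ _ _
      _ = (D.W k).ι := by rw [hs', Category.comp_id]
  have hb2 : b0 ≫ (Z k).hom = (D.W k).ι ≫ U.hom := by
    have h1 : (g k).left ≫ U.hom = (Z k).hom := CategoryTheory.Over.w (g k).hom
    rw [← h1, ← Category.assoc, hb1]
  let b : D.obj k ⟶ Z k := MorphismProperty.Over.homMk b0 hb2 trivial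
  have hb : b ≫ g k = D.hom k := by
    apply MorphismProperty.Over.Hom.ext
    exact hb1
  rw [← hb]
  exact R.downward_closed (hRg k) b


instance : HasSheafify (Scheme.ProEt.topology X) (Type (u + 1)) :=
  inferInstanceAs (HasSheafify (Scheme.ProEt.topology X) (Type (max (u + 1) u)))

instance : (Scheme.ProEt.topology X).WEqualsLocallyBijective (Type (u + 1)) :=
  inferInstanceAs ((Scheme.ProEt.topology X).WEqualsLocallyBijective (Type (max (u + 1) u)))

/-- on an affine weakly contractible object, a presheaf of sets preserving finite products has the same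
sections as its sheafification -/
theorem bijective_toSheafify {U : X.ProEt} [IsAffine U.left] (hU : ProEtS.IsWC U)
    (F : X.ProEtᵒᵖ ⥤ Type (u + 1)) [PreservesFiniteProducts F] :
    Function.Bijective ((toSheafify (Scheme.ProEt.topology X) F).app (op U)) := by
  constructor
  · intro x y h
    obtain ⟨D, hD⟩ := exists_decomp_of_isWC hU _
      (Presheaf.equalizerSieve_mem (Scheme.ProEt.topology X) (toSheafify _ F) x y h)
    exact D.map_injective F x y hD
  · intro z
    obtain ⟨D, hD⟩ := exists_decomp_of_isWC hU _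
      (Presheaf.imageSieve_mem (Scheme.ProEt.topology X) (toSheafify _ F) z)
    choose x hx using hD
    obtain ⟨t, ht⟩ := D.map_surjective F x
    refine ⟨t, ?_⟩
    have hsh := (isSheaf_iff_isSheaf_of_type _ _).1
      ((presheafToSheaf (Scheme.ProEt.topology X) (Type (u + 1))).obj F).property
    refine (hsh.isSeparated _ D.mem_topology).ext ?_
    rintro T f ⟨Y, a, b, ⟨k⟩, rfl⟩
    have h1 : (sheafify (Scheme.ProEt.topology X) F).map (D.hom k).op
        ((toSheafify (Scheme.ProEt.topology X) F).app (op U) t) =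
        (sheafify (Scheme.ProEt.topology X) F).map (D.hom k).op z := by
      rw [← hx k, ← ht k]
      exact (NatTrans.naturality_apply (toSheafify (Scheme.ProEt.topology X) F) (D.hom k).op t).symm
    rw [op_comp, Functor.map_comp]
    exact congrArg ((sheafify (Scheme.ProEt.topology X) F).map a.op) h1

end Groth.Agent.Lib.Helper9.WC
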