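import Mathlib
import Groth.Prelude.Def_ProEtS
import Groth.Prelude.Def_PBC
import Groth.Agent.Lib.Helper9WC

set_option autoImplicit false
open CategoryTheory CategoryTheory.Limits AlgebraicGeometry Opposite
open Groth.Agent.Lib.Helper9.ProEt
universe u w

/-!
# Affine weakly contractible objects of the pro-étale site and w-contractible rings (helper9)
-/

namespace Groth.Agent.Lib.Helper9.WC

set_option backward.isDefEq.respectTransparency.types false in
/-- weakly étale morphisms of affine schemes are weakly étale algebras -/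
lemma weaklyEtale_SpecMap_iff (R S : Type u) [CommRing R] [CommRing S] [Algebra R S] :
    WeaklyEtale (Spec.map (CommRingCat.ofHom (algebraMap R S))) ↔ Algebra.WeaklyEtale R S := by
  have h1 : Flat (Spec.map (CommRingCat.ofHom (algebraMap R S))) ↔ Module.Flat R S := by
    rw [HasRingHomProperty.Spec_iff (P := @Flat)]
    exact RingHom.flat_algebraMap_iff
  have h2 : Flat (pullback.diagonal (Spec.map (CommRingCat.ofHom (algebraMap R S)))) ↔
      (Algebra.TensorProduct.lmul' R (S := S)).Flat := by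
    rw [diagonal_SpecMap, MorphismProperty.cancel_right_of_respectsIso (P := @Flat),
      HasRingHomProperty.Spec_iff (P := @Flat)]
    rfl
  rw [weaklyEtale_iff, Algebra.weaklyEtale_iff]
  exact and_congr h1 h2


variable {X : Scheme.{u}}

/-- sections of a sheaf of sets over an empty object -/
lemma subsingleton_of_isEmpty (F : Sheaf (Scheme.ProEt.topology X) (Type w)) (Z : X.ProEt)
    [IsEmpty Z.left] : Subsingleton (F.obj.obj (op Z)) := by
  have h := Sheaf.isTerminalOfBotCover F Z (Scheme.ProEt.bot_mem_topology Z)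
  constructor
  intro a b
  have := h.hom_ext (Y := PUnit.{w + 1}) (↾fun _ => a) (↾fun _ => b)
  exact congrArg (fun f : PUnit.{w + 1} ⟶ F.obj.obj (op Z) => f PUnit.unit) this

/-- gluing sections of a sheaf of sets along a finite clopen decomposition -/
lemma Decomp.glue {U : X.ProEt} [CompactSpace U.left] [QuasiSeparatedSpace U.left]
    (D : Decomp X U) (F : Sheaf (Scheme.ProEt.topology X) (Type w))
    (x : ∀ k, F.obj.obj (op (D.obj k))) :
    ∃ t : F.obj.obj (op U), ∀ k, F.obj.map (D.hom k).op t = x k := by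
  have hsh := (isSheaf_iff_isSheaf_of_type _ _).1 F.property
  have h1 : (Presieve.ofArrows D.obj D.hom).IsSheafFor F.obj :=
    hsh.isSheafFor _ D.mem_topology
  rw [Presieve.isSheafFor_arrows_iff] at h1
  have hc : Presieve.Arrows.Compatible F.obj D.hom x := by
    intro i j Z gi gj hg
    by_cases hij : i = j
    · subst hij
      haveI : Mono (D.hom i) := by
        apply (Fg X).mono_of_mono_map
        change Mono (D.W i).ι
        infer_instance
      rw [(cancel_mono (D.hom i)).1 hg]
    · haveI : IsEmpty Z.left := by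
        constructor
        intro z
        have hg' : gi.left ≫ (D.W i).ι = gj.left ≫ (D.W j).ι := congrArg (fun f => f.left) hg
        have h1 : ((gi.left ≫ (D.W i).ι) z) ∈ (D.W i : Set U.left) := (gi.left z).2
        have h2 : ((gi.left ≫ (D.W i).ι) z) ∈ (D.W j : Set U.left) := by
          rw [hg']
          exact (gj.left z).2
        exact Set.disjoint_iff.1 (D.disj hij) ⟨h1, h2⟩
      haveI := subsingleton_of_isEmpty F Z
      exact Subsingleton.elim _ _
  obtain ⟨t, ht, -⟩ := h1 x hc
  exact ⟨t, ht⟩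


/-- every covering sieve contains a finite clopen decomposition -/
def HasDecomps (U : X.ProEt) : Prop :=
  ∀ R : Sieve U, R ∈ Scheme.ProEt.topology X U → ∃ D : Decomp X U, ∀ k, R.arrows (D.hom k)

lemma hasDecomps_of_isWC {U : X.ProEt} [IsAffine U.left] (hU : ProEtS.IsWC U) : HasDecomps U :=
  fun R hR => exists_decomp_of_isWC hU R hR

theorem isWC_of_hasDecomps {U : X.ProEt} [CompactSpace U.left] [QuasiSeparatedSpace U.left]
    (h : HasDecomps U) : ProEtS.IsWC U := by
  intro F G φ hφ z
  haveI : Sheaf.IsLocallySurjective φ := (Sheaf.isLocallySurjective_iff_epi φ).2 hφ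
  obtain ⟨D, hD⟩ := h _ (Presheaf.imageSieve_mem (Scheme.ProEt.topology X) φ.hom z)
  choose x hx using hD
  obtain ⟨t, ht⟩ := D.glue F x
  refine ⟨t, ?_⟩
  have hsh := (isSheaf_iff_isSheaf_of_type _ _).1 G.property
  refine (hsh.isSeparated _ D.mem_topology).ext ?_
  rintro T f ⟨Y, a, b, ⟨k⟩, rfl⟩
  have h1 : G.obj.map (D.hom k).op (φ.hom.app (op U) t) = G.obj.map (D.hom k).op z := by
    rw [← hx k, ← ht k]
    exact (NatTrans.naturality_apply φ.hom (D.hom k).op t).symm
  rw [op_comp, Functor.map_comp]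
  exact congrArg (G.obj.map a.op) h1


theorem isWContractible_of_hasDecomps {U : X.ProEt} [IsAffine U.left] (h : HasDecomps U) :
    EtPBC.IsWContractible ↥(Γ(U.left, ⊤)) := by
  intro B _ _ hff hwe
  let A : CommRingCat.{u} := Γ(U.left, ⊤)
  let φ : A ⟶ CommRingCat.of B := CommRingCat.ofHom (algebraMap A B)
  let q : Spec (CommRingCat.of B) ⟶ U.left := Spec.map φ ≫ U.left.isoSpec.inv
  haveI : WeaklyEtale (Spec.map φ) := (weaklyEtale_SpecMap_iff A B).2 hwe
  haveI : WeaklyEtale q := inferInstance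
  let V : X.ProEt := Scheme.ProEt.mk (q ≫ U.hom)
  let p : V ⟶ U := MorphismProperty.Over.homMk q rfl trivial
  have hp : Sieve.ofArrows (fun _ : Unit => V) (fun _ => p) ∈ Scheme.ProEt.topology X U := by
    haveI : CompactSpace V.left := by
      change CompactSpace (Spec (CommRingCat.of B))
      infer_instance
    refine ofArrows_mem_topology X _ _ ?_
    intro x
    have hs : Surjective (Spec.map φ) :=
      ((flat_and_surjective_SpecMap_iff φ).2
        (RingHom.faithfullyFlat_algebraMap_iff.2 hff)).2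
    obtain ⟨y, hy⟩ := hs.surj (U.left.isoSpec.hom x)
    refine ⟨(), y, ?_⟩
    change (Spec.map φ ≫ U.left.isoSpec.inv) y = x
    rw [Scheme.Hom.comp_apply, hy, ← Scheme.Hom.comp_apply, Iso.hom_inv_id]
    rfl
  obtain ⟨D, hD⟩ := h _ hp
  have hfac : ∀ k, ∃ a : D.obj k ⟶ V, a ≫ p = D.hom k := by
    intro k
    obtain ⟨Y, a, b, ⟨⟨⟩⟩, hab⟩ := hD k
    exact ⟨a, hab⟩
  choose a ha using hfac
  obtain ⟨hc⟩ := D.isColimit
  let s : U ⟶ V := Cofan.IsColimit.desc hc a
  have hs : s ≫ p = 𝟙 U := by
    apply Cofan.IsColimit.hom_ext hc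
    intro k
    rw [← Category.assoc, Cofan.IsColimit.fac hc a k, ha k]
    exact (Category.comp_id _).symm
  obtain ⟨s0, hs0⟩ : ∃ s0 : U.left ⟶ Spec (CommRingCat.of B),
      s0 ≫ Spec.map φ ≫ U.left.isoSpec.inv = 𝟙 U.left :=
    ⟨s.left, congrArg (fun f => f.left) hs⟩
  clear_value s
  let σ : Spec A ⟶ Spec (CommRingCat.of B) := U.left.isoSpec.inv ≫ s0
  have hσ : σ ≫ Spec.map φ = 𝟙 _ := by
    have h1 : s0 ≫ Spec.map φ = U.left.isoSpec.hom := by
      have h2 : (s0 ≫ Spec.map φ) ≫ U.left.isoSpec.inv = 𝟙 U.left := by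
        rw [Category.assoc]; exact hs0
      rw [← Category.comp_id (s0 ≫ Spec.map φ), ← U.left.isoSpec.inv_hom_id,
        ← Category.assoc, h2, Category.id_comp]
    change (U.left.isoSpec.inv ≫ s0) ≫ Spec.map φ = 𝟙 _
    rw [Category.assoc, h1, Iso.inv_hom_id]
  let ψ : CommRingCat.of B ⟶ A := Spec.preimage σ
  have hψ : φ ≫ ψ = 𝟙 A := by
    apply Spec.map_injective
    rw [Spec.map_comp, Spec.map_preimage, hσ, Spec.map_id]
  exact ⟨{ ψ.hom with
    commutes' := fun a => congrArg (fun f : A ⟶ A => f.hom a) hψ }⟩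


/-- a section of the coproduct of a finite family in a sieve gives a clopen decomposition in the sieve -/
lemma exists_decomp_of_section {U : X.ProEt} (R : Sieve U) {n : ℕ} (Z : Fin n → X.ProEt)
    (g : ∀ k, Z k ⟶ U) (hRg : ∀ k, R.arrows (g k)) (s : U ⟶ sig Z)
    (hs : s ≫ sigDesc Z g = 𝟙 U) : ∃ D : Decomp X U, ∀ k, R.arrows (D.hom k) := by
  have hs' : s.left ≫ Sigma.desc (fun k => (g k).left) = 𝟙 U.left :=
    congrArg (fun f => f.left) hs
  let D : Decomp X U :=
    { n := n
      W := fun k => s.left ⁻¹ᵁ (Sigma.ι (fun k => (Z k).left) k).opensRange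
      disj := by
        intro k l hkl
        have := disjoint_opensRange_sigmaι (fun k => (Z k).left) k l hkl
        rw [Set.disjoint_iff]
        rintro x ⟨hx1, hx2⟩
        exact (Set.disjoint_iff.1 ((TopologicalSpace.Opens.coe_disjoint).2 this)) ⟨hx1, hx2⟩
      cov := by
        apply Set.eq_univ_of_forall
        intro x
        obtain ⟨y, hy⟩ := (sigmaOpenCover (fun k => (Z k).left)).covers (s.left x)
        exact Set.mem_iUnion.2 ⟨_, ⟨y, hy⟩⟩ }
  refine ⟨D, fun k => ?_⟩
  have hrange : Set.range ((D.W k).ι ≫ s.left).base ⊆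
      Set.range (Sigma.ι (fun k => (Z k).left) k).base := by
    rintro _ ⟨x, rfl⟩
    exact x.2
  let b0 : (D.W k : Scheme.{u}) ⟶ (Z k).left :=
    IsOpenImmersion.lift (Sigma.ι (fun k => (Z k).left) k) ((D.W k).ι ≫ s.left) hrange
  have hb0 : b0 ≫ Sigma.ι (fun k => (Z k).left) k = (D.W k).ι ≫ s.left :=
    IsOpenImmersion.lift_fac _ _ _
  have hb1 : b0 ≫ (g k).left = (D.W k).ι := by
    calc b0 ≫ (g k).left
        = b0 ≫ Sigma.ι (fun k => (Z k).left) k ≫ Sigma.desc (fun k => (g k).left) := by
          rw [Sigma.ι_desc (fun k => (g k).left) k]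
      _ = ((D.W k).ι ≫ s.left) ≫ Sigma.desc (fun k => (g k).left) := by
          rw [← Category.assoc]
          exact congrArg (fun f => f ≫ Sigma.desc (fun k => (g k).left)) hb0
      _ = (D.W k).ι ≫ (s.left ≫ Sigma.desc (fun k => (g k).left)) := Category.assoc _ _ _
      _ = (D.W k).ι := by rw [hs', Category.comp_id]
  have hb2 : b0 ≫ (Z k).hom = (D.W k).ι ≫ U.hom := by
    have h1 : (g k).left ≫ U.hom = (Z k).hom := CategoryTheory.Over.w (g k).hom
    rw [← h1, ← Category.assoc, hb1]
  let b : D.obj k ⟶ Z k := MorphismProperty.Over.homMk b0 hb2 trivial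
  have hb : b ≫ g k = D.hom k := by
    apply MorphismProperty.Over.Hom.ext
    exact hb1
  rw [← hb]
  exact R.downward_closed (hRg k) b

set_option backward.isDefEq.respectTransparency.types false in
theorem hasDecomps_of_isWContractible {U : X.ProEt} [IsAffine U.left]
    (h : EtPBC.IsWContractible ↥(Γ(U.left, ⊤))) : HasDecomps U := by
  intro R hR
  obtain ⟨n, Z, g, hRg, haff, hsurj⟩ := exists_finite_affine_of_mem X R hR
  haveI := haff
  haveI : IsAffine (sig Z).left := inferInstance
  obtain ⟨f, hf⟩ : ∃ f : (sig Z).left ⟶ U.left, f = (sigDesc Z g).left := ⟨_, rfl⟩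
  haveI : WeaklyEtale f := hf ▸ inferInstance
  have hfs : Surjective f := by
    constructor
    intro x
    obtain ⟨k, z, hz⟩ := hsurj x
    refine ⟨(sigι Z k).left z, ?_⟩
    have h : (sigι Z k).left ≫ (sigDesc Z g).left = (g k).left :=
      congrArg (fun f => f.left) (sigι_desc Z g k)
    rw [hf, ← hz, ← h]
    rfl
  let A : CommRingCat.{u} := Γ(U.left, ⊤)
  let B : CommRingCat.{u} := Γ((sig Z).left, ⊤)
  letI : Algebra A B := f.appTop.hom.toAlgebra
  have hff : Module.FaithfullyFlat A B := by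
    rw [← RingHom.faithfullyFlat_algebraMap_iff]
    exact (Flat.flat_and_surjective_iff_faithfullyFlat_of_isAffine f).1 ⟨inferInstance, hfs⟩
  have hwe : Algebra.WeaklyEtale A B := by
    rw [← weaklyEtale_SpecMap_iff]
    change WeaklyEtale (Spec.map f.appTop)
    exact (MorphismProperty.arrow_mk_iso_iff @WeaklyEtale (arrowIsoSpecΓOfIsAffine f)).1
      inferInstance
  obtain ⟨r⟩ := h B hff hwe
  let s0 : U.left ⟶ (sig Z).left :=
    U.left.isoSpec.hom ≫ Spec.map (CommRingCat.ofHom r.toRingHom) ≫ (sig Z).left.isoSpec.inv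
  have hs0 : s0 ≫ f = 𝟙 U.left := by
    have h1 : f.appTop ≫ CommRingCat.ofHom r.toRingHom = 𝟙 A := by
      ext a
      exact r.commutes a
    simp only [s0, Category.assoc]
    rw [← Scheme.isoSpec_inv_naturality f, ← Spec.map_comp_assoc, h1, Spec.map_id,
      Category.id_comp, Iso.hom_inv_id]
  subst hf
  have hs1 : s0 ≫ (sig Z).hom = U.hom := by
    have h1 : (sigDesc Z g).left ≫ U.hom = (sig Z).hom := CategoryTheory.Over.w (sigDesc Z g).hom
    rw [← h1, ← Category.assoc, hs0, Category.id_comp]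
  let s : U ⟶ sig Z := MorphismProperty.Over.homMk s0 hs1 trivial
  have hs : s ≫ sigDesc Z g = 𝟙 U := by
    apply MorphismProperty.Over.Hom.ext
    exact hs0
  exact exists_decomp_of_section R Z g hRg s hs


theorem isWContractible_iff_isWC (U : X.ProEt) [IsAffine U.left] :
    EtPBC.IsWContractible ↥(Γ(U.left, ⊤)) ↔ ProEtS.IsWC U :=
  ⟨fun h => isWC_of_hasDecomps (hasDecomps_of_isWContractible h),
    fun h => isWContractible_of_hasDecomps (hasDecomps_of_isWC h)⟩

theorem isWContractible_iff_hasDecomps (U : X.ProEt) [IsAffine U.left] :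
    EtPBC.IsWContractible ↥(Γ(U.left, ⊤)) ↔ HasDecomps U :=
  ⟨hasDecomps_of_isWContractible, isWContractible_of_hasDecomps⟩

end Groth.Agent.Lib.Helper9.WC
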