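import Mathlib
import Groth.Agent.Lib.Helper13WLoc5
import Groth.Agent.Lib.Helper9ProEt
import Groth.Agent.Lib.Helper9WC2
import Groth.Agent.S0736

set_option autoImplicit false
set_option linter.style.haveILetI false
set_option linter.unusedSectionVars false
set_option backward.isDefEq.respectTransparency false
open CategoryTheory CategoryTheory.Limits AlgebraicGeometry Opposite

namespace Groth.Agent.Helper13ProEtWC

universe u

open Groth.Agent.Lib.Helper9.ProEt Groth.Agent.Lib.Helper9.WC

/-- w-contractibility is invariant under ring isomorphisms -/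
theorem isWContractible_of_ringEquiv {D D' : Type u} [CommRing D] [CommRing D'] (e : D ≃+* D')
    (h : EtPBC.IsWContractible D) : EtPBC.IsWContractible D' := by
  intro B _ _ hff hwe
  letI : Algebra D D' := e.toRingHom.toAlgebra
  letI : Algebra D B := ((algebraMap D' B).comp e.toRingHom).toAlgebra
  haveI : IsScalarTower D D' B := IsScalarTower.of_algebraMap_eq (fun _ => rfl)
  have hbij : Function.Bijective (algebraMap D D') := e.bijective
  haveI : Module.FaithfullyFlat D D' :=
    Module.FaithfullyFlat.of_linearEquiv D D (LinearEquiv.ofBijective (Algebra.linearMap D D') hbij).symm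
  haveI : Algebra.Etale D D' :=
    Algebra.Etale.of_equiv (AlgEquiv.ofBijective (Algebra.ofId D D') hbij)
  haveI := hff
  haveI := hwe
  haveI : Module.FaithfullyFlat D B := Module.FaithfullyFlat.trans D D' B
  haveI : Algebra.WeaklyEtale D B := Algebra.WeaklyEtale.trans D D' B
  obtain ⟨ρ⟩ := h B inferInstance inferInstance
  refine ⟨{ toRingHom := e.toRingHom.comp ρ.toRingHom, commutes' := fun d' => ?_ }⟩
  obtain ⟨d, rfl⟩ := e.surjective d'
  show e (ρ (algebraMap D' B (e d))) = e d
  have h1 : algebraMap D' B (e d) = algebraMap D B d := rfl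
  rw [h1, ρ.commutes]
  rfl

variable {X : Scheme.{u}}

set_option maxHeartbeats 800000 in
/-- every affine object of the pro-étale site is covered by a single affine object with
w-contractible ring -/
theorem exists_affine_wContractible_cover (U : X.ProEt) [IsAffine U.left] :
    ∃ (V : X.ProEt) (g : V ⟶ U), IsAffine V.left ∧ EtPBC.IsWContractible ↥(Γ(V.left, ⊤)) ∧
      Sieve.ofArrows (fun _ : Unit => V) (fun _ => g) ∈ Scheme.ProEt.topology X U := by
  obtain ⟨D, _, _, hff, hie, hwc⟩ :=
    Groth.Agent.Helper13WLoc5.exists_wContractible_cover ↥(Γ(U.left, ⊤))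
  let φ : Γ(U.left, ⊤) ⟶ CommRingCat.of D := CommRingCat.ofHom (algebraMap _ D)
  haveI : Algebra.WeaklyEtale ↥(Γ(U.left, ⊤)) D := Groth.Agent.S0736.result _ D hie
  haveI : WeaklyEtale (Spec.map φ) := (weaklyEtale_SpecMap_iff _ D).mpr inferInstance
  haveI : Surjective (Spec.map φ) := by
    have h1 : φ.hom.FaithfullyFlat := by
      show (algebraMap ↥(Γ(U.left, ⊤)) D).FaithfullyFlat
      rw [RingHom.faithfullyFlat_algebraMap_iff]
      exact hff
    exact ((flat_and_surjective_SpecMap_iff φ).mpr h1).2
  let p : Spec (CommRingCat.of D) ⟶ U.left := Spec.map φ ≫ U.left.isoSpec.inv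
  haveI : WeaklyEtale p := inferInstance
  haveI : Surjective p := inferInstance
  let V : X.ProEt := Scheme.ProEt.mk (p ≫ U.hom)
  let g : V ⟶ U := MorphismProperty.Over.homMk p rfl trivial
  refine ⟨V, g, ?_, ?_, ?_⟩
  · show IsAffine (Spec (CommRingCat.of D))
    infer_instance
  · exact isWContractible_of_ringEquiv
      (Scheme.ΓSpecIso (CommRingCat.of D)).symm.commRingCatIsoToRingEquiv hwc
  · haveI hcs : CompactSpace V.left := by
      show CompactSpace (Spec (CommRingCat.of D))
      infer_instance
    haveI : ∀ _ : Unit, CompactSpace V.left := fun _ => hcs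
    refine ofArrows_mem_topology X (fun _ : Unit => V) (fun _ => g) ?_
    intro x
    obtain ⟨z, hz⟩ := p.surjective x
    exact ⟨(), z, hz⟩

/-- composition of single covering morphisms -/
theorem singleton_comp_mem {C : Type*} [Category C] (J : GrothendieckTopology C) {V W U : C}
    (g : V ⟶ W) (h : W ⟶ U) (hg : Sieve.generate (Presieve.singleton g) ∈ J W)
    (hh : Sieve.generate (Presieve.singleton h) ∈ J U) :
    Sieve.generate (Presieve.singleton (g ≫ h)) ∈ J U := by
  refine J.transitive hh _ ?_
  rintro Y f ⟨Z, a, b, ⟨⟩, rfl⟩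
  rw [Sieve.pullback_comp]
  apply J.pullback_stable
  refine J.superset_covering ?_ hg
  rintro Y' f' ⟨Z', a', b', ⟨⟩, rfl⟩
  exact ⟨_, a', g ≫ h, ⟨⟩, by simp⟩

/-- the affine opens cover, in the pro-étale topology -/
theorem affineOpens_mem_topology (U : X.ProEt) :
    Sieve.generate (Presieve.ofArrows (fun W : U.left.affineOpens => openObj X U W.1)
      (fun W => openHom X U W.1)) ∈ Scheme.ProEt.topology X U := by
  rw [mem_topology_iff]
  refine ⟨Presieve.ofArrows (fun W : U.left.affineOpens => openObj X U W.1)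
    (fun W => openHom X U W.1), ?_, Sieve.le_generate _⟩
  rw [mem_precoverage_iff, Presieve.map_ofArrows]
  refine Scheme.zariskiPrecoverage_le_propQCPrecoverage _ ?_
  rw [Scheme.ofArrows_mem_precoverage_iff]
  refine ⟨fun x => ?_, fun W => ?_⟩
  · obtain ⟨W, hW, hxW, -⟩ : ∃ W : U.left.Opens, W ∈ U.left.affineOpens ∧ x ∈ W ∧ W ≤ ⊤ :=
      (TopologicalSpace.Opens.isBasis_iff_nbhd.1 U.left.isBasis_affineOpens)
      (show x ∈ (⊤ : U.left.Opens) from trivial)
    exact ⟨⟨W, hW⟩, ⟨x, hxW⟩, rfl⟩
  · change IsOpenImmersion W.1.ι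
    infer_instance

set_option maxHeartbeats 800000 in
/-- every object of the pro-étale site is covered by affines with w-contractible rings -/
theorem exists_affine_wContractible_family (U : X.ProEt) :
    ∃ (ι : Type u) (V : ι → X.ProEt) (g : ∀ i, V i ⟶ U),
      Sieve.generate (Presieve.ofArrows V g) ∈ Scheme.ProEt.topology X U ∧
        ∀ i, IsAffine (V i).left ∧ EtPBC.IsWContractible ↥(Γ((V i).left, ⊤)) := by
  have key : ∀ W : U.left.affineOpens, ∃ (V : X.ProEt) (g : V ⟶ openObj X U W.1),
      IsAffine V.left ∧ EtPBC.IsWContractible ↥(Γ(V.left, ⊤)) ∧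
      Sieve.ofArrows (fun _ : Unit => V) (fun _ => g) ∈
        Scheme.ProEt.topology X (openObj X U W.1) := by
    intro W
    haveI : IsAffine (openObj X U W.1).left := W.2
    exact exists_affine_wContractible_cover _
  choose V g haff hwc hcov using key
  refine ⟨U.left.affineOpens, V, fun W => g W ≫ openHom X U W.1, ?_,
    fun W => ⟨haff W, hwc W⟩⟩
  refine (Scheme.ProEt.topology X).transitive (affineOpens_mem_topology U) _ ?_
  rintro Y f ⟨Z, a, b, ⟨W⟩, rfl⟩
  rw [Sieve.pullback_comp]
  apply (Scheme.ProEt.topology X).pullback_stable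
  refine (Scheme.ProEt.topology X).superset_covering ?_ (hcov W)
  rintro Y' f' ⟨Z', a', b', ⟨⟨⟩⟩, rfl⟩
  exact ⟨_, a', g W ≫ openHom X U W.1, ⟨W⟩, by simp⟩

set_option maxHeartbeats 800000 in
/-- every quasi-compact object of the pro-étale site is covered by a single affine weakly
contractible object -/
theorem exists_affine_isWC_cover (U : X.ProEt) [CompactSpace ↥U.left] :
    ∃ (V : X.ProEt) (g : V ⟶ U),
      Sieve.generate (Presieve.singleton g) ∈ Scheme.ProEt.topology X U ∧ IsAffine V.left ∧
        ProEtS.IsWC V := by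
  obtain ⟨Us, hUs, hUf, hUc⟩ :=
    U.left.isBasis_affineOpens.exists_finite_of_isCompact (U := ⊤) isCompact_univ
  haveI : Finite ↥Us := hUf.to_subtype
  let e : Fin (Nat.card ↥Us) ≃ ↥Us := (Finite.equivFin ↥Us).symm
  let W : Fin (Nat.card ↥Us) → U.left.Opens := fun k => (e k).1
  have hW : ∀ k, IsAffineOpen (W k) := fun k => hUs (e k).2
  let Z : Fin (Nat.card ↥Us) → X.ProEt := fun k => openObj X U (W k)
  haveI : ∀ k, IsAffine (Z k).left := fun k => hW k
  let h : sig Z ⟶ U := sigDesc Z (fun k => openHom X U (W k))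
  have hh : Sieve.generate (Presieve.singleton h) ∈ Scheme.ProEt.topology X U := by
    have h0 : Sieve.generate (Presieve.ofArrows Z (fun k => openHom X U (W k))) ∈
        Scheme.ProEt.topology X U := by
      rw [mem_topology_iff]
      refine ⟨Presieve.ofArrows Z (fun k => openHom X U (W k)), ?_, Sieve.le_generate _⟩
      rw [mem_precoverage_iff, Presieve.map_ofArrows]
      refine Scheme.zariskiPrecoverage_le_propQCPrecoverage _ ?_
      rw [Scheme.ofArrows_mem_precoverage_iff]
      refine ⟨fun x => ?_, fun k => ?_⟩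
      · have hx : x ∈ ((⊤ : U.left.Opens) : Set U.left) := trivial
        rw [hUc] at hx
        simp only [TopologicalSpace.Opens.coe_sSup, Set.mem_iUnion, SetLike.mem_coe,
          exists_prop] at hx
        obtain ⟨W', hW', hxW'⟩ := hx
        refine ⟨e.symm ⟨W', hW'⟩, ⟨x, ?_⟩, rfl⟩
        show x ∈ (e (e.symm ⟨W', hW'⟩)).1
        rw [e.apply_symm_apply]
        exact hxW'
      · change IsOpenImmersion (W k).ι
        infer_instance
    refine (Scheme.ProEt.topology X).superset_covering ?_ h0
    rw [Sieve.generate_le_iff]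
    rintro Y f ⟨k⟩
    exact ⟨_, sigι Z k, h, ⟨⟩, sigι_desc Z _ k⟩
  obtain ⟨V, g, haff, hwc, hcov⟩ := exists_affine_wContractible_cover (sig Z)
  haveI := haff
  have hg : Sieve.generate (Presieve.singleton g) ∈ Scheme.ProEt.topology X (sig Z) := by
    refine (Scheme.ProEt.topology X).superset_covering ?_ hcov
    rintro Y' f' ⟨Z', a', b', ⟨⟨⟩⟩, rfl⟩
    exact ⟨_, a', g, ⟨⟩, rfl⟩
  exact ⟨V, g ≫ h, singleton_comp_mem _ g h hg hh, haff, (isWContractible_iff_isWC V).mp hwc⟩

end Groth.Agent.Helper13ProEtWC
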