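import Mathlib
import Groth.Agent.Lib.Helper13ProEtWC

set_option autoImplicit false
set_option linter.style.haveILetI false
set_option linter.unusedSectionVars false
set_option backward.isDefEq.respectTransparency false
open CategoryTheory CategoryTheory.Limits AlgebraicGeometry Opposite

namespace Groth.Agent.Helper13ProEtSig

universe u w

open Groth.Agent.Lib.Helper9.ProEt Groth.Agent.Lib.Helper9.WC

variable {X : Scheme.{u}}

section bigsig

variable {ι : Type u} (Z : ι → X.ProEt)

instance : WeaklyEtale (Sigma.desc (fun k => (Z k).hom)) :=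
  IsZariskiLocalAtSource.sigmaDesc (P := @WeaklyEtale) (fun k => (Z k).prop)

/-- arbitrary (small) coproducts in the pro-étale site -/
noncomputable def bsig : X.ProEt := Scheme.ProEt.mk (Sigma.desc (fun k => (Z k).hom))

/-- the coprojections -/
noncomputable def bsigι (k : ι) : Z k ⟶ bsig Z :=
  MorphismProperty.Over.homMk (Sigma.ι (fun k => (Z k).left) k)
    (Sigma.ι_desc (fun k => (Z k).hom) k) trivial

/-- the induced morphism -/
noncomputable def bsigDesc {U : X.ProEt} (g : ∀ k, Z k ⟶ U) : bsig Z ⟶ U :=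
  MorphismProperty.Over.homMk (Sigma.desc (fun k => (g k).left)) (by
    apply Sigma.hom_ext
    intro k
    have h1 : Sigma.ι (fun k => (Z k).left) k ≫ (Sigma.desc fun k => (g k).left) ≫ U.hom =
        (Z k).hom := by
      rw [← Category.assoc, Sigma.ι_desc (fun k => (g k).left) k]
      exact CategoryTheory.Over.w (g k).hom
    exact h1.trans (Sigma.ι_desc (fun k => (Z k).hom) k).symm) trivial

lemma bsigι_desc {U : X.ProEt} (g : ∀ k, Z k ⟶ U) (k : ι) : bsigι Z k ≫ bsigDesc Z g = g k := by
  apply MorphismProperty.Over.Hom.ext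
  exact Sigma.ι_desc (fun k => (g k).left) k

set_option backward.isDefEq.respectTransparency.types false in
lemma bsigι_mem_topology : Sieve.ofArrows Z (bsigι Z) ∈ Scheme.ProEt.topology X (bsig Z) := by
  rw [mem_topology_iff]
  refine ⟨Presieve.ofArrows Z (bsigι Z), ?_, Sieve.le_generate _⟩
  rw [mem_precoverage_iff, Presieve.map_ofArrows]
  refine Scheme.zariskiPrecoverage_le_propQCPrecoverage _ ?_
  exact (sigmaOpenCover (fun k => (Z k).left)).mem₀

instance (k : ι) : Mono (bsigι Z k) := by
  apply (Fg X).mono_of_mono_map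
  change Mono (Sigma.ι (fun k => (Z k).left) k)
  infer_instance

/-- gluing sections of a sheaf of sets along a coproduct -/
lemma bsig_glue (F : Sheaf (Scheme.ProEt.topology X) (Type w)) (x : ∀ k, F.obj.obj (op (Z k))) :
    ∃ t : F.obj.obj (op (bsig Z)), ∀ k, F.obj.map (bsigι Z k).op t = x k := by
  classical
  have hsh := (isSheaf_iff_isSheaf_of_type _ _).1 F.property
  have h1 : (Presieve.ofArrows Z (bsigι Z)).IsSheafFor F.obj :=
    hsh.isSheafFor _ (bsigι_mem_topology Z)
  rw [Presieve.isSheafFor_arrows_iff] at h1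
  have hc : Presieve.Arrows.Compatible F.obj (bsigι Z) x := by
    intro i j T gi gj hg
    by_cases hij : i = j
    · subst hij
      rw [(cancel_mono (bsigι Z i)).1 hg]
    · haveI : IsEmpty T.left := by
        have hg' : gi.left ≫ Sigma.ι (fun k => (Z k).left) i =
            gj.left ≫ Sigma.ι (fun k => (Z k).left) j := congrArg (fun f => f.left) hg
        exact isEmpty_of_commSq_sigmaι_of_ne ⟨hg'⟩ hij
      haveI := subsingleton_of_isEmpty F T
      exact Subsingleton.elim _ _
  obtain ⟨t, ht, -⟩ := h1 x hc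
  exact ⟨t, ht⟩

lemma bsig_ext (F : Sheaf (Scheme.ProEt.topology X) (Type w)) (t t' : F.obj.obj (op (bsig Z)))
    (h : ∀ k, F.obj.map (bsigι Z k).op t = F.obj.map (bsigι Z k).op t') : t = t' := by
  have hsh := (isSheaf_iff_isSheaf_of_type _ _).1 F.property
  refine (hsh.isSeparated _ (bsigι_mem_topology Z)).ext ?_
  rintro T f ⟨Y, a, b, ⟨k⟩, rfl⟩
  rw [op_comp, Functor.map_comp]
  exact congrArg (F.obj.map a.op) (h k)

/-- a coproduct of weakly contractible objects is weakly contractible -/
theorem isWC_bsig (h : ∀ k, ProEtS.IsWC (Z k)) : ProEtS.IsWC (bsig Z) := by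
  intro F G φ hφ s
  have h1 : ∀ k, ∃ t : F.obj.obj (op (Z k)), φ.hom.app (op (Z k)) t =
      G.obj.map (bsigι Z k).op s := fun k => h k F G φ hφ _
  choose x hx using h1
  obtain ⟨t, ht⟩ := bsig_glue Z F x
  refine ⟨t, ?_⟩
  apply bsig_ext Z G
  intro k
  rw [← hx k, ← ht k]
  exact (NatTrans.naturality_apply φ.hom (bsigι Z k).op t).symm

end bigsig

/-- every object of the pro-étale site has a single weakly contractible cover -/
theorem exists_isWC_cover (U : X.ProEt) :
    ∃ (V : X.ProEt) (g : V ⟶ U),
      Sieve.generate (Presieve.singleton g) ∈ Scheme.ProEt.topology X U ∧ ProEtS.IsWC V := by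
  obtain ⟨ι, V, g, hcov, hV⟩ :=
    Groth.Agent.Helper13ProEtWC.exists_affine_wContractible_family U
  refine ⟨bsig V, bsigDesc V g, ?_, ?_⟩
  · refine (Scheme.ProEt.topology X).superset_covering ?_ hcov
    rw [Sieve.generate_le_iff]
    rintro Y f ⟨k⟩
    exact ⟨_, bsigι V k, bsigDesc V g, ⟨⟩, bsigι_desc V g k⟩
  · apply isWC_bsig
    intro k
    haveI := (hV k).1
    exact (isWContractible_iff_isWC (V k)).mp (hV k).2

end Groth.Agent.Helper13ProEtSig
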