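import Mathlib
import Groth.Prelude.Def_RelProj4
import Groth.Agent.Lib.Helper13ProjPMap

/-!
# helper13: morphisms of relative Proj's satisfying the chart equations of `RelProj.IsProjQMap`
(same base): they lie over the base, are chartwise the ring-level partial morphisms of
`Helper13ProjPMap`, and inherit target-local properties.
-/

set_option autoImplicit false

namespace Groth.Agent.Helper13RelProj

open CategoryTheory CategoryTheory.Limits AlgebraicGeometry Opposite TopologicalSpace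
open HomogeneousLocalization
open scoped HomogeneousIdeal

universe u

/-- two morphisms agreeing on a jointly surjective family of open immersions are equal -/
theorem hom_ext_of_openImmersions {X Z : Scheme.{u}} (a b : X ⟶ Z)
    (H : ∀ x : X, ∃ (T : Scheme.{u}) (c : T ⟶ X) (_ : IsOpenImmersion c),
      x ∈ Set.range c.base ∧ c ≫ a = c ≫ b) : a = b := by
  refine Scheme.hom_ext_of_forall _ _ fun x => ?_
  obtain ⟨T, c, hc, hx, hab⟩ := H x
  refine ⟨c.opensRange, hx, ?_⟩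
  rw [← cancel_epi c.isoOpensRange.hom, Scheme.Hom.isoOpensRange_hom_ι_assoc,
    Scheme.Hom.isoOpensRange_hom_ι_assoc, hab]

section

variable {S : Scheme.{u}} {𝒜 ℬ : RelProj.QCGrAlg S}
  (φ : 𝒜.toQCAlg ⟶ ℬ.toQCAlg) (hφ : RelProj.IsGradedHom φ)

/-- the graded homomorphism over the affine pair `(U, U)` -/
noncomputable abbrev ψAt (U : S.Opens) (hU : IsAffineOpen U) : 𝒜.deg U hU →+*ᵍ ℬ.deg U hU :=
  (RelProj.QGrHom.ofHom φ hφ).gradedAt U hU U hU le_rfl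

theorem ψAt_apply (U : S.Opens) (hU : IsAffineOpen U) (a : 𝒜.presheaf.obj (op U)) :
    ψAt φ hφ U hU a = (φ.hom.app (op U)).hom a := by
  change (ℬ.presheaf.map (𝟙 (op U))).hom ((φ.hom.app (op U)).hom a) = (φ.hom.app (op U)).hom a
  rw [ℬ.presheaf.map_id]
  rfl

theorem strZero_comp_ψAt (U : S.Opens) (hU : IsAffineOpen U) :
    𝒜.strZero U hU ≫ CommRingCat.ofHom (ψAt φ hφ U hU).gradedZeroRingHom = ℬ.strZero U hU := by
  ext r
  change ψAt φ hφ U hU ((𝒜.str.app (op U)).hom r) = (ℬ.str.app (op U)).hom r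
  rw [ψAt_apply]
  exact congr_arg (fun t => (t.app (op U)).hom r) φ.comm

end


section RingAux
variable {A B σ τ : Type u} [CommRing A] [SetLike σ A] [AddSubgroupClass σ A]
  [CommRing B] [SetLike τ B] [AddSubgroupClass τ B]
  {𝒜 : ℕ → σ} {ℬ : ℕ → τ} [GradedRing 𝒜] [GradedRing ℬ]
  (f : 𝒜 →+*ᵍ ℬ)

theorem fromZero_comp_awayMap (s : A) :
    (Away.map f s).comp (fromZeroRingHom 𝒜 (Submonoid.powers s)) =
      (fromZeroRingHom ℬ (Submonoid.powers (f s))).comp f.gradedZeroRingHom := by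
  refine RingHom.ext fun x => ?_
  have key : ∀ (hle : Submonoid.powers s ≤ (Submonoid.powers (f s)).comap f),
      HomogeneousLocalization.map f hle (HomogeneousLocalization.mk ⟨0, x, 1, one_mem _⟩) =
        HomogeneousLocalization.mk ⟨0, f.gradedZeroRingHom x, 1, one_mem _⟩ := by
    intro hle
    rw [HomogeneousLocalization.map_mk]
    ext
    simp [HomogeneousLocalization.val_mk]
  have hle : Submonoid.powers s ≤ (Submonoid.powers (f s)).comap f := by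
    rintro _ ⟨n, rfl⟩
    exact ⟨n, by simp⟩
  exact key hle

end RingAux

section Rel

variable {S : Scheme.{u}} {𝒜 ℬ : RelProj.QCGrAlg S}
  (φ : 𝒜.toQCAlg ⟶ ℬ.toQCAlg) (hφ : RelProj.IsGradedHom φ)
  {PA PB : Scheme.{u}} {pA : PA ⟶ S} {pB : PB ⟶ S}
  (chartA : ∀ (U : S.Opens) (hU : IsAffineOpen U),
    ((pA ⁻¹ᵁ U : PA.Opens) : Scheme.{u}) ≅ Proj (𝒜.deg U hU))
  (chartB : ∀ (U : S.Opens) (hU : IsAffineOpen U),
    ((pB ⁻¹ᵁ U : PB.Opens) : Scheme.{u}) ≅ Proj (ℬ.deg U hU))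

/-- the chart equations of `RelProj.IsProjQMap` on the affine pairs `(U, U)` -/
def IsQMapDiag (h : PB ⟶ PA) : Prop :=
  ∀ (U : S.Opens) (hU : IsAffineOpen U) (d : ℕ) (hd : 0 < d) (f : 𝒜.presheaf.obj (op U))
    (hf : f ∈ 𝒜.deg U hU d),
    Proj.awayι (ℬ.deg U hU) (ψAt φ hφ U hU f) (Graded.map_mem (ψAt φ hφ U hU) hf) hd ≫
        RelProj.emb pB chartB U hU ≫ h =
      Spec.map (CommRingCat.ofHom (Away.map (ψAt φ hφ U hU) f)) ≫
        Proj.awayι (𝒜.deg U hU) f hf hd ≫ RelProj.emb pA chartA U hU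

theorem isQMapDiag_of_isProjQMap {h : PB ⟶ PA}
    (hh : RelProj.IsProjQMap (RelProj.QGrHom.ofHom φ hφ) pA chartA pB chartB h) :
    IsQMapDiag φ hφ chartA chartB h := by
  intro U hU d hd f hf
  have := hh.2 U hU U hU le_rfl d hd f hf
  unfold RelProj.awayEmb at this
  rw [Category.assoc] at this
  exact this

variable {φ hφ chartA chartB}

theorem emb_comp (hA : RelProj.IsRelProj 𝒜 pA chartA) (U : S.Opens) (hU : IsAffineOpen U) :
    RelProj.emb pA chartA U hU ≫ pA =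
      Proj.toSpecZero (𝒜.deg U hU) ≫ Spec.map (𝒜.strZero U hU) ≫ hU.fromSpec := by
  rw [RelProj.emb, Category.assoc, ← hA.chart_over U hU, Iso.inv_hom_id_assoc]

theorem exists_chart_point (U : S.Opens) (hU : IsAffineOpen U) (x : PB) (hx : pB.base x ∈ U) :
    ∃ z : Proj (ℬ.deg U hU), (RelProj.emb pB chartB U hU).base z = x := by
  have hx' : x ∈ pB ⁻¹ᵁ U := hx
  let x' : ((pB ⁻¹ᵁ U : PB.Opens) : Scheme.{u}) := ⟨x, hx'⟩
  refine ⟨(chartB U hU).hom.base x', ?_⟩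
  have h1 : (chartB U hU).inv.base ((chartB U hU).hom.base x') = x' := by
    change ((chartB U hU).hom ≫ (chartB U hU).inv).base x' = x'
    rw [Iso.hom_inv_id]; rfl
  change (pB ⁻¹ᵁ U).ι.base ((chartB U hU).inv.base ((chartB U hU).hom.base x')) = x
  rw [h1]; rfl

theorem qmap_comp (hA : RelProj.IsRelProj 𝒜 pA chartA) (hB : RelProj.IsRelProj ℬ pB chartB)
    (hdom : ∀ (U : S.Opens) (hU : IsAffineOpen U),
      IsDomOf (ψAt φ hφ U hU) (𝟙 (Proj (ℬ.deg U hU))))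
    {h : PB ⟶ PA} (hh : IsQMapDiag φ hφ chartA chartB h) : h ≫ pA = pB := by
  refine hom_ext_of_openImmersions _ _ fun x => ?_
  obtain ⟨_, ⟨U, hU, rfl⟩, hxU, -⟩ := S.isBasis_affineOpens.exists_subset_of_mem_open
    (Set.mem_univ (pB.base x)) isOpen_univ
  replace hU : IsAffineOpen U := hU
  obtain ⟨z, hz⟩ := exists_chart_point (chartB := chartB) U hU x hxU
  obtain ⟨d, f, hd, hf, hzf⟩ := (hdom U hU z).mp ⟨z, rfl⟩
  rw [← Proj.opensRange_awayι (ℬ.deg U hU) _ (Graded.map_mem (ψAt φ hφ U hU) hf) hd] at hzf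
  obtain ⟨w, hw⟩ := hzf
  refine ⟨_, Proj.awayι (ℬ.deg U hU) (ψAt φ hφ U hU f) (Graded.map_mem (ψAt φ hφ U hU) hf) hd ≫
    RelProj.emb pB chartB U hU, inferInstance, ⟨w, ?_⟩, ?_⟩
  · rw [Scheme.Hom.comp_apply, hw, hz]
  · simp only [Category.assoc]
    rw [reassoc_of% (hh U hU d hd f hf), emb_comp hA, emb_comp hB, Proj.awayι_toSpecZero_assoc,
      Proj.awayι_toSpecZero_assoc, ← strZero_comp_ψAt φ hφ U hU]
    simp only [← Spec.map_comp_assoc]
    congr 2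
    rw [Category.assoc, Category.assoc, ← CommRingCat.ofHom_comp, ← CommRingCat.ofHom_comp,
      fromZero_comp_awayMap]

end Rel


section Local

variable {S : Scheme.{u}} {𝒜 ℬ : RelProj.QCGrAlg S}
  {φ : 𝒜.toQCAlg ⟶ ℬ.toQCAlg} {hφ : RelProj.IsGradedHom φ}
  {PA PB : Scheme.{u}} {pA : PA ⟶ S} {pB : PB ⟶ S}
  {chartA : ∀ (U : S.Opens) (hU : IsAffineOpen U),
    ((pA ⁻¹ᵁ U : PA.Opens) : Scheme.{u}) ≅ Proj (𝒜.deg U hU)}
  {chartB : ∀ (U : S.Opens) (hU : IsAffineOpen U),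
    ((pB ⁻¹ᵁ U : PB.Opens) : Scheme.{u}) ≅ Proj (ℬ.deg U hU)}
  {h : PB ⟶ PA}

/-- the morphism `Proj ℬ(U) ⟶ Proj 𝒜(U)` induced by a morphism `h` over the base -/
noncomputable def localMap (chartA : ∀ (U : S.Opens) (hU : IsAffineOpen U),
      ((pA ⁻¹ᵁ U : PA.Opens) : Scheme.{u}) ≅ Proj (𝒜.deg U hU))
    (chartB : ∀ (U : S.Opens) (hU : IsAffineOpen U),
      ((pB ⁻¹ᵁ U : PB.Opens) : Scheme.{u}) ≅ Proj (ℬ.deg U hU))
    (hcomp : h ≫ pA = pB) (U : S.Opens) (hU : IsAffineOpen U) :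
    Proj (ℬ.deg U hU) ⟶ Proj (𝒜.deg U hU) :=
  (chartB U hU).inv ≫ h.resLE (pA ⁻¹ᵁ U) (pB ⁻¹ᵁ U) (by rw [← hcomp]; exact le_rfl) ≫
    (chartA U hU).hom

theorem localMap_emb (hcomp : h ≫ pA = pB) (U : S.Opens) (hU : IsAffineOpen U) :
    localMap chartA chartB hcomp U hU ≫ RelProj.emb pA chartA U hU =
      RelProj.emb pB chartB U hU ≫ h := by
  simp only [localMap, RelProj.emb, Category.assoc, Iso.hom_inv_id_assoc,
    Scheme.Hom.resLE_comp_ι]

theorem isPMap_localMap (hcomp : h ≫ pA = pB) (hh : IsQMapDiag φ hφ chartA chartB h)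
    (U : S.Opens) (hU : IsAffineOpen U) :
    IsPMap (ψAt φ hφ U hU) (𝟙 _) (localMap chartA chartB hcomp U hU) := by
  intro d f hd hf c hc
  rw [Category.comp_id] at hc
  subst hc
  rw [← cancel_mono (RelProj.emb pA chartA U hU), Category.assoc, localMap_emb, Category.assoc]
  exact hh U hU d hd f hf

/-- A target-local property holds for `h` as soon as it holds for all its local forms. -/
theorem of_forall_localMap (hcomp : h ≫ pA = pB) (P : MorphismProperty Scheme.{u})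
    [IsZariskiLocalAtTarget P]
    (H : ∀ (U : S.Opens) (hU : IsAffineOpen U), P (localMap chartA chartB hcomp U hU)) : P h := by
  rw [IsZariskiLocalAtTarget.iff_of_iSup_eq_top (P := P) (fun U : S.affineOpens => pA ⁻¹ᵁ U.1)
    (iSup_preimage_affineOpens pA)]
  rintro ⟨U, hU⟩
  replace hU : IsAffineOpen U := hU
  have e : h ⁻¹ᵁ (pA ⁻¹ᵁ U) = pB ⁻¹ᵁ U := by
    rw [← hcomp]; rfl
  have key : h ∣_ (pA ⁻¹ᵁ U) = (Scheme.isoOfEq _ e).hom ≫ (chartB U hU).hom ≫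
      localMap chartA chartB hcomp U hU ≫ (chartA U hU).inv := by
    rw [← cancel_mono (pA ⁻¹ᵁ U).ι, morphismRestrict_ι]
    simp only [localMap, Category.assoc, Iso.hom_inv_id_assoc, Iso.hom_inv_id, Category.comp_id,
      Scheme.Hom.resLE_comp_ι, Scheme.isoOfEq_hom_ι_assoc]
  change P (h ∣_ (pA ⁻¹ᵁ U))
  rw [key, MorphismProperty.cancel_left_of_respectsIso (P := P),
    MorphismProperty.cancel_left_of_respectsIso (P := P),
    MorphismProperty.cancel_right_of_respectsIso (P := P)]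
  exact H U hU

/-- A target-local property holds for a morphism satisfying the chart equations as soon as it
holds for `Spec` of all the maps `𝒜(U)_(f) → ℬ(U)_(φ f)`. -/
theorem qmap_of_forall_away (hA : RelProj.IsRelProj 𝒜 pA chartA)
    (hB : RelProj.IsRelProj ℬ pB chartB)
    (hdom : ∀ (U : S.Opens) (hU : IsAffineOpen U),
      IsDomOf (ψAt φ hφ U hU) (𝟙 (Proj (ℬ.deg U hU))))
    (hh : IsQMapDiag φ hφ chartA chartB h) (P : MorphismProperty Scheme.{u})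
    [IsZariskiLocalAtTarget P]
    (H : ∀ (U : S.Opens) (hU : IsAffineOpen U) (i : ℕ) (_ : 0 < i) (s : 𝒜.presheaf.obj (op U))
      (_ : s ∈ 𝒜.deg U hU i), P (Spec.map (CommRingCat.ofHom (Away.map (ψAt φ hφ U hU) s)))) :
    P h := by
  have hcomp := qmap_comp hA hB hdom hh
  refine of_forall_localMap (chartA := chartA) (chartB := chartB) hcomp P fun U hU => ?_
  exact (isPMap_localMap hcomp hh U hU).of_forall_away (hdom U hU) P (H U hU)

end Local


section TNRel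

variable {S : Scheme.{u}} {𝒜 ℬ : RelProj.QCGrAlg S}
  {φ : 𝒜.toQCAlg ⟶ ℬ.toQCAlg} {hφ : RelProj.IsGradedHom φ}
  {PA PB : Scheme.{u}} {pA : PA ⟶ S} {pB : PB ⟶ S}
  {chartA : ∀ (U : S.Opens) (hU : IsAffineOpen U),
    ((pA ⁻¹ᵁ U : PA.Opens) : Scheme.{u}) ≅ Proj (𝒜.deg U hU)}
  {chartB : ∀ (U : S.Opens) (hU : IsAffineOpen U),
    ((pB ⁻¹ᵁ U : PB.Opens) : Scheme.{u}) ≅ Proj (ℬ.deg U hU)}

theorem isDomOf_of_TN (n : ℕ)
    (hTN : ∀ k, n ≤ k → ∀ (U : S.Opens) (hU : IsAffineOpen U), ∀ y ∈ ℬ.deg U hU k,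
      ∃ x ∈ 𝒜.deg U hU k, (φ.hom.app (op U)).hom x = y)
    (U : S.Opens) (hU : IsAffineOpen U) :
    IsDomOf (ψAt φ hφ U hU) (𝟙 (Proj (ℬ.deg U hU))) :=
  isDomOf_id_of_TN n fun k hk b hb => by
    obtain ⟨a, ha, hab⟩ := hTN k hk U hU b hb
    exact ⟨a, ha, by rw [ψAt_apply]; exact hab⟩

theorem domQ_eq_top_of_isDomOf
    (hdom : ∀ (U : S.Opens) (hU : IsAffineOpen U),
      IsDomOf (ψAt φ hφ U hU) (𝟙 (Proj (ℬ.deg U hU)))) :
    RelProj.domQ (RelProj.QGrHom.ofHom φ hφ) pB chartB = ⊤ := by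
  rw [eq_top_iff]
  intro x _
  obtain ⟨_, ⟨U, hU, rfl⟩, hxU, -⟩ := S.isBasis_affineOpens.exists_subset_of_mem_open
    (Set.mem_univ (pB.base x)) isOpen_univ
  replace hU : IsAffineOpen U := hU
  obtain ⟨z, hz⟩ := exists_chart_point (chartB := chartB) U hU x hxU
  obtain ⟨d, f, hd, hf, hzf⟩ := (hdom U hU z).mp ⟨z, rfl⟩
  have hle : U ≤ (𝟙 S : S ⟶ S) ⁻¹ᵁ U := le_rfl
  refine Opens.mem_iSup.mpr ⟨⟨(⟨U, hU⟩, ⟨U, hU⟩), hle⟩, ?_⟩
  refine ⟨z, ?_, hz⟩
  change z ∈ RelCone.domOpen (ψAt φ hφ U hU)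
  rw [RelCone.mem_domOpen]
  exact ⟨f, HomogeneousIdeal.mem_irrelevant_of_mem _ hd hf,
    (ProjectiveSpectrum.mem_basicOpen _ _ _).mp hzf⟩

end TNRel

end Groth.Agent.Helper13RelProj
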