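import Mathlib
import Groth.Prelude.Def_RelProj4
import Groth.Agent.Lib.Helper13ProjQMap

/-!
# helper13: the open `G(φ)` of a relative Proj (same base): compatibility with restriction to basic
opens, description over an affine open, and the partial morphism `Proj(φ) : G(φ) ⟶ Proj 𝒜`.
-/

set_option autoImplicit false

namespace Groth.Agent.Helper13RelProj

open CategoryTheory CategoryTheory.Limits AlgebraicGeometry Opposite TopologicalSpace
open HomogeneousLocalization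
open scoped HomogeneousIdeal

universe u

section RingAux2
variable {A B σ τ : Type u} [CommRing A] [SetLike σ A] [AddSubgroupClass σ A]
  [CommRing B] [SetLike τ B] [AddSubgroupClass τ B]
  {𝒜 : ℕ → σ} {ℬ : ℕ → τ} [GradedRing 𝒜] [GradedRing ℬ]
  (f : 𝒜 →+*ᵍ ℬ)

theorem map_mem_irrelevant {a : A} (ha : a ∈ (HomogeneousIdeal.irrelevant 𝒜).toIdeal) :
    f a ∈ (HomogeneousIdeal.irrelevant ℬ).toIdeal := by
  classical
  change f a ∈ HomogeneousIdeal.irrelevant ℬ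
  have ha' : a ∈ HomogeneousIdeal.irrelevant 𝒜 := ha
  rw [HomogeneousIdeal.mem_irrelevant_iff, GradedRing.proj_apply] at ha' ⊢
  rw [← GradedRingHom.map_directSumDecompose, ha', map_zero]

/-- if the image of an element of the irrelevant ideal avoids an ideal, so does the image of one of
its homogeneous components of positive degree -/
theorem exists_homogeneous_not_mem (I : Ideal B) {a : A}
    (ha : a ∈ (HomogeneousIdeal.irrelevant 𝒜).toIdeal) (hfa : f a ∉ I) :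
    ∃ (d : ℕ) (a' : A), 0 < d ∧ a' ∈ 𝒜 d ∧ f a' ∉ I := by
  classical
  by_contra hcon
  push Not at hcon
  apply hfa
  rw [← DirectSum.sum_support_decompose 𝒜 a, map_sum]
  refine Ideal.sum_mem _ fun d _ => ?_
  by_cases hd : d = 0
  · subst hd
    have ha' : a ∈ HomogeneousIdeal.irrelevant 𝒜 := ha
    rw [HomogeneousIdeal.mem_irrelevant_iff, GradedRing.proj_apply] at ha'
    rw [ha', map_zero]
    exact zero_mem _
  · exact hcon d _ (Nat.pos_of_ne_zero hd) (SetLike.coe_mem _)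

/-- membership in `RelCone.domOpen` through homogeneous elements of positive degree -/
theorem mem_domOpen_iff (x : Proj ℬ) :
    x ∈ RelCone.domOpen f ↔
      ∃ (d : ℕ) (a : A), 0 < d ∧ a ∈ 𝒜 d ∧ x ∈ Proj.basicOpen ℬ (f a) := by
  rw [RelCone.mem_domOpen]
  constructor
  · rintro ⟨a, ha, hx⟩
    let x' : ProjectiveSpectrum ℬ := x
    obtain ⟨d, a', hd, ha', hx'⟩ := exists_homogeneous_not_mem f x'.asHomogeneousIdeal.toIdeal ha hx
    exact ⟨d, a', hd, ha', hx'⟩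
  · rintro ⟨d, a, hd, ha, hx⟩
    exact ⟨a, HomogeneousIdeal.mem_irrelevant_of_mem _ hd ha, hx⟩

theorem isDomOf_domOpen : IsDomOf f (RelCone.domOpen f).ι := by
  intro x
  rw [Scheme.Opens.range_ι]
  exact mem_domOpen_iff f x

theorem domOpen_congr {f g : 𝒜 →+*ᵍ ℬ} (h : ∀ a, f a = g a) :
    RelCone.domOpen f = RelCone.domOpen g := by
  ext x
  simp only [SetLike.mem_coe, RelCone.mem_domOpen, h]

end RingAux2


section LemmaR

variable {S : Scheme.{u}} {𝒜 ℬ : RelProj.QCGrAlg S}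
  (φ : 𝒜.toQCAlg ⟶ ℬ.toQCAlg) (hφ : RelProj.IsGradedHom φ)

theorem res_ψAt {U V : S.Opens} (hU : IsAffineOpen U) (hV : IsAffineOpen V) (i : V ≤ U)
    (a : 𝒜.presheaf.obj (op U)) :
    ℬ.res hU hV i (ψAt φ hφ U hU a) = ψAt φ hφ V hV (𝒜.res hU hV i a) := by
  simp only [ψAt_apply, RelProj.QCGrAlg.res_apply]
  exact congr_arg (fun t => t.hom a) (φ.hom.naturality (homOfLE i).op).symm

theorem ψAt_str (U : S.Opens) (hU : IsAffineOpen U) (r : Γ(S, U)) :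
    ψAt φ hφ U hU ((𝒜.str.app (op U)).hom r) = (ℬ.str.app (op U)).hom r := by
  rw [ψAt_apply]
  exact congr_arg (fun t => (t.app (op U)).hom r) φ.comm

theorem mem_domOpen_res_iff (U : S.Opens) (hU : IsAffineOpen U) (r : Γ(S, U))
    (z : Proj (ℬ.deg (S.basicOpen r) (hU.basicOpen r))) :
    z ∈ RelCone.domOpen (ψAt φ hφ (S.basicOpen r) (hU.basicOpen r)) ↔
      (Proj.map (ℬ.res hU (hU.basicOpen r) (S.basicOpen_le r)) (ℬ.irrelevant_le_map U hU r)).base z ∈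
        RelCone.domOpen (ψAt φ hφ U hU) := by
  classical
  rw [mem_domOpen_iff, mem_domOpen_iff]
  constructor
  · rintro ⟨d, f, hd, hf, hz⟩
    let ρA := 𝒜.res hU (hU.basicOpen r) (S.basicOpen_le r)
    let ρB := ℬ.res hU (hU.basicOpen r) (S.basicOpen_le r)
    let _inst := (𝒜.presheaf.map (homOfLE (S.basicOpen_le r)).op).hom.toAlgebra
    let c := (𝒜.str.app (op U)).hom r
    have hloc : IsLocalization.Away c (𝒜.presheaf.obj (op (S.basicOpen r))) := 𝒜.isQC U hU r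
    obtain ⟨⟨x, s, hs⟩, hxs⟩ := IsLocalization.surj (Submonoid.powers c) f
    obtain ⟨k, rfl⟩ := (Submonoid.mem_powers_iff _ _).mp hs
    change f * ρA (c ^ k) = ρA x at hxs
    have hc0 : ρA (c ^ k) ∈ 𝒜.deg (S.basicOpen r) (hU.basicOpen r) 0 := by
      rw [map_pow]
      exact SetLike.pow_mem_graded _ (ρA.map_mem (𝒜.str_mem U hU r))
    have hfi : f * ρA (c ^ k) ∈ 𝒜.deg (S.basicOpen r) (hU.basicOpen r) d := by
      simpa only [add_zero] using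
        SetLike.mul_mem_graded (A := 𝒜.deg (S.basicOpen r) (hU.basicOpen r)) hf hc0
    have hxi : ρA (DirectSum.decompose (𝒜.deg U hU) x d : 𝒜.presheaf.obj (op U)) =
        f * ρA (c ^ k) := by
      rw [GradedRingHom.map_directSumDecompose, ← hxs, DirectSum.decompose_of_mem_same _ hfi]
    refine ⟨d, (DirectSum.decompose (𝒜.deg U hU) x d : 𝒜.presheaf.obj (op U)), hd,
      SetLike.coe_mem _, ?_⟩
    change z ∈ (Proj.map ρB (ℬ.irrelevant_le_map U hU r)) ⁻¹ᵁ Proj.basicOpen (ℬ.deg U hU) _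
    rw [Proj.map_preimage_basicOpen, res_ψAt φ hφ hU (hU.basicOpen r) (S.basicOpen_le r)]
    change z ∈ Proj.basicOpen _ (ψAt φ hφ (S.basicOpen r) (hU.basicOpen r) (ρA _))
    rw [hxi, map_mul, Proj.basicOpen_mul]
    refine ⟨hz, ?_⟩
    -- the second factor is a unit
    have hunit : IsUnit (ψAt φ hφ (S.basicOpen r) (hU.basicOpen r) (ρA (c ^ k))) := by
      rw [← res_ψAt φ hφ hU (hU.basicOpen r) (S.basicOpen_le r), map_pow, ψAt_str]
      let _instB := (ℬ.presheaf.map (homOfLE (S.basicOpen_le r)).op).hom.toAlgebra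
      have hlocB : IsLocalization.Away ((ℬ.str.app (op U)).hom r)
          (ℬ.presheaf.obj (op (S.basicOpen r))) := ℬ.isQC U hU r
      exact IsLocalization.map_units (M := Submonoid.powers ((ℬ.str.app (op U)).hom r))
        (ℬ.presheaf.obj (op (S.basicOpen r))) ⟨((ℬ.str.app (op U)).hom r) ^ k, k, rfl⟩
    let z' : ProjectiveSpectrum (ℬ.deg (S.basicOpen r) (hU.basicOpen r)) := z
    change _ ∉ z'.asHomogeneousIdeal
    intro hmem
    exact z'.isPrime.ne_top (Ideal.eq_top_of_isUnit_mem _ hmem hunit)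
  · rintro ⟨d, g, hd, hg, hz⟩
    refine ⟨d, 𝒜.res hU (hU.basicOpen r) (S.basicOpen_le r) g, hd,
      (𝒜.res hU (hU.basicOpen r) (S.basicOpen_le r)).map_mem hg, ?_⟩
    rw [← res_ψAt φ hφ hU (hU.basicOpen r) (S.basicOpen_le r)]
    exact hz

end LemmaR


section Star

variable {S : Scheme.{u}} {𝒜 ℬ : RelProj.QCGrAlg S}
  (φ : 𝒜.toQCAlg ⟶ ℬ.toQCAlg) (hφ : RelProj.IsGradedHom φ)
  {PB : Scheme.{u}} {pB : PB ⟶ S}
  (chartB : ∀ (U : S.Opens) (hU : IsAffineOpen U),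
    ((pB ⁻¹ᵁ U : PB.Opens) : Scheme.{u}) ≅ Proj (ℬ.deg U hU))

/-- the piece of `G(φ)` over the affine open `U` -/
noncomputable def domPiece (U : S.Opens) (hU : IsAffineOpen U) : PB.Opens :=
  (RelProj.emb pB chartB U hU) ''ᵁ RelCone.domOpen (ψAt φ hφ U hU)

theorem mem_domPiece {U : S.Opens} {hU : IsAffineOpen U} {x : PB} :
    x ∈ domPiece φ hφ chartB U hU ↔
      ∃ z ∈ RelCone.domOpen (ψAt φ hφ U hU), (RelProj.emb pB chartB U hU).base z = x := Iff.rfl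

theorem emb_mem_preimage (U : S.Opens) (hU : IsAffineOpen U) (z : Proj (ℬ.deg U hU)) :
    (RelProj.emb pB chartB U hU).base z ∈ pB ⁻¹ᵁ U := by
  change (pB ⁻¹ᵁ U).ι.base ((chartB U hU).inv.base z) ∈ pB ⁻¹ᵁ U
  exact ((chartB U hU).inv.base z).2

theorem domPiece_le_preimage (U : S.Opens) (hU : IsAffineOpen U) :
    domPiece φ hφ chartB U hU ≤ pB ⁻¹ᵁ U := by
  rintro x ⟨z, -, rfl⟩
  exact emb_mem_preimage chartB U hU z

variable {chartB}
variable (hB : RelProj.IsRelProj ℬ pB chartB)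

include hB in
theorem domPiece_basicOpen (U : S.Opens) (hU : IsAffineOpen U) (r : Γ(S, U)) :
    domPiece φ hφ chartB (S.basicOpen r) (hU.basicOpen r) =
      domPiece φ hφ chartB U hU ⊓ pB ⁻¹ᵁ (S.basicOpen r) := by
  have hemb := RelProj.map_res_emb hB U hU r
  ext x
  constructor
  · rintro ⟨z, hz, rfl⟩
    refine ⟨⟨_, (mem_domOpen_res_iff φ hφ U hU r z).mp hz, ?_⟩, emb_mem_preimage chartB _ _ z⟩
    rw [← hemb]
    rfl
  · rintro ⟨⟨zU, hzU, hx⟩, hxW⟩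
    replace hx : (RelProj.emb pB chartB U hU).base zU = x := hx
    obtain ⟨zW, hzW⟩ := exists_chart_point (chartB := chartB) (S.basicOpen r) (hU.basicOpen r) x hxW
    refine ⟨zW, (mem_domOpen_res_iff φ hφ U hU r zW).mpr ?_, hzW⟩
    have : (RelProj.emb pB chartB U hU).base
        ((Proj.map (ℬ.res hU (hU.basicOpen r) (S.basicOpen_le r))
          (ℬ.irrelevant_le_map U hU r)).base zW) = (RelProj.emb pB chartB U hU).base zU := by
      rw [hx, ← hzW, ← hemb]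
      rfl
    rw [(RelProj.emb pB chartB U hU).isOpenEmbedding.injective this]
    exact hzU

include hB in
theorem domPiece_of_eq_basicOpen (U : S.Opens) (hU : IsAffineOpen U) (r : Γ(S, U))
    (W : S.Opens) (hW : IsAffineOpen W) (h : W = S.basicOpen r) :
    domPiece φ hφ chartB W hW = domPiece φ hφ chartB U hU ⊓ pB ⁻¹ᵁ W := by
  subst h
  exact domPiece_basicOpen φ hφ hB U hU r

include hB in
theorem domPiece_inf_preimage_le (U : S.Opens) (hU : IsAffineOpen U) (V : S.Opens)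
    (hV : IsAffineOpen V) :
    domPiece φ hφ chartB V hV ⊓ pB ⁻¹ᵁ U ≤ domPiece φ hφ chartB U hU := by
  rintro x ⟨hxV, hxU⟩
  have hxV' : pB.base x ∈ V := domPiece_le_preimage φ hφ chartB V hV hxV
  obtain ⟨f, g, hfg, hxf⟩ := exists_basicOpen_le_affine_inter hU hV (pB.base x) ⟨hxU, hxV'⟩
  have h1 := domPiece_of_eq_basicOpen φ hφ hB V hV g (S.basicOpen f) (hU.basicOpen f) hfg
  have h2 := domPiece_basicOpen φ hφ hB U hU f
  have hx1 : x ∈ domPiece φ hφ chartB (S.basicOpen f) (hU.basicOpen f) := by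
    rw [h1]
    exact ⟨hxV, hxf⟩
  rw [h2] at hx1
  exact hx1.1

end Star


section DomQ

variable {S : Scheme.{u}} {𝒜 ℬ : RelProj.QCGrAlg S}
  (φ : 𝒜.toQCAlg ⟶ ℬ.toQCAlg) (hφ : RelProj.IsGradedHom φ)
  {PB : Scheme.{u}} {pB : PB ⟶ S}
  {chartB : ∀ (U : S.Opens) (hU : IsAffineOpen U),
    ((pB ⁻¹ᵁ U : PB.Opens) : Scheme.{u}) ≅ Proj (ℬ.deg U hU)}

theorem gradedAt_ofHom_eq (U : S.Opens) (hU : IsAffineOpen U) (U' : S.Opens) (hU' : IsAffineOpen U')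
    (hle : U' ≤ (𝟙 S : S ⟶ S) ⁻¹ᵁ U) (a : 𝒜.presheaf.obj (op U)) :
    (RelProj.QGrHom.ofHom φ hφ).gradedAt U hU U' hU' hle a =
      ψAt φ hφ U' hU' (𝒜.res hU hU' hle a) := by
  rw [ψAt_apply]
  change (ℬ.presheaf.map (homOfLE hle).op).hom ((φ.hom.app (op U)).hom a) =
    (φ.hom.app (op U')).hom ((𝒜.presheaf.map (homOfLE hle).op).hom a)
  exact congr_arg (fun t => t.hom a) (φ.hom.naturality (homOfLE hle).op).symm

theorem domOpen_gradedAt_le (U : S.Opens) (hU : IsAffineOpen U) (U' : S.Opens)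
    (hU' : IsAffineOpen U') (hle : U' ≤ (𝟙 S : S ⟶ S) ⁻¹ᵁ U) :
    RelCone.domOpen ((RelProj.QGrHom.ofHom φ hφ).gradedAt U hU U' hU' hle) ≤
      RelCone.domOpen (ψAt φ hφ U' hU') := by
  intro z hz
  rw [RelCone.mem_domOpen] at hz ⊢
  obtain ⟨f, hf, hfz⟩ := hz
  refine ⟨𝒜.res hU hU' hle f, map_mem_irrelevant _ hf, ?_⟩
  rw [← gradedAt_ofHom_eq]
  exact hfz

theorem domQ_eq_iSup_domPiece :
    RelProj.domQ (RelProj.QGrHom.ofHom φ hφ) pB chartB =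
      ⨆ U : S.affineOpens, domPiece φ hφ chartB U.1 U.2 := by
  apply le_antisymm
  · unfold RelProj.domQ
    refine iSup_le fun V => ?_
    obtain ⟨⟨⟨U, hU⟩, ⟨U', hU'⟩⟩, hle⟩ := V
    replace hU : IsAffineOpen U := hU
    replace hU' : IsAffineOpen U' := hU'
    refine le_trans ?_ (le_iSup _ ⟨U', hU'⟩)
    change (RelProj.emb pB chartB U' hU') ''ᵁ
      RelCone.domOpen ((RelProj.QGrHom.ofHom φ hφ).gradedAt U hU U' hU' hle) ≤
        (RelProj.emb pB chartB U' hU') ''ᵁ RelCone.domOpen (ψAt φ hφ U' hU')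
    exact Scheme.Hom.image_mono _ (domOpen_gradedAt_le φ hφ U hU U' hU' hle)
  · refine iSup_le fun U => ?_
    obtain ⟨U, hU⟩ := U
    replace hU : IsAffineOpen U := hU
    have hle : U ≤ (𝟙 S : S ⟶ S) ⁻¹ᵁ U := le_rfl
    intro x hx
    exact Opens.mem_iSup.mpr ⟨⟨(⟨U, hU⟩, ⟨U, hU⟩), hle⟩, hx⟩

theorem domQ_inf_preimage (hB : RelProj.IsRelProj ℬ pB chartB) (U : S.Opens) (hU : IsAffineOpen U) :
    RelProj.domQ (RelProj.QGrHom.ofHom φ hφ) pB chartB ⊓ pB ⁻¹ᵁ U = domPiece φ hφ chartB U hU := by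
  rw [domQ_eq_iSup_domPiece]
  apply le_antisymm
  · rintro x ⟨hx, hxU⟩
    obtain ⟨V, hxV⟩ := Opens.mem_iSup.mp hx
    exact domPiece_inf_preimage_le φ hφ hB U hU V.1 V.2 ⟨hxV, hxU⟩
  · exact le_inf (le_iSup (fun U : S.affineOpens => domPiece φ hφ chartB U.1 U.2) ⟨U, hU⟩)
      (domPiece_le_preimage φ hφ chartB U hU)

end DomQ


section PartialMap

variable {S : Scheme.{u}} {𝒜 ℬ : RelProj.QCGrAlg S}
  (φ : 𝒜.toQCAlg ⟶ ℬ.toQCAlg) (hφ : RelProj.IsGradedHom φ)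
  {PA PB : Scheme.{u}} {pA : PA ⟶ S} {pB : PB ⟶ S}
  (chartA : ∀ (U : S.Opens) (hU : IsAffineOpen U),
    ((pA ⁻¹ᵁ U : PA.Opens) : Scheme.{u}) ≅ Proj (𝒜.deg U hU))
  (chartB : ∀ (U : S.Opens) (hU : IsAffineOpen U),
    ((pB ⁻¹ᵁ U : PB.Opens) : Scheme.{u}) ≅ Proj (ℬ.deg U hU))

/-- `Φ : G ⟶ PA` satisfies the chart equations of `Proj(φ)` on the diagonal affine pairs -/
def IsQMapOnDiag (G : PB.Opens) (Φ : (G : Scheme.{u}) ⟶ PA) : Prop :=
  ∀ (U : S.Opens) (hU : IsAffineOpen U) (d : ℕ) (hd : 0 < d) (f : 𝒜.presheaf.obj (op U))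
    (hf : f ∈ 𝒜.deg U hU d)
    (c : Spec (CommRingCat.of (Away (ℬ.deg U hU) (ψAt φ hφ U hU f))) ⟶ (G : Scheme.{u})),
    c ≫ G.ι = Proj.awayι (ℬ.deg U hU) (ψAt φ hφ U hU f)
        (Graded.map_mem (ψAt φ hφ U hU) hf) hd ≫ RelProj.emb pB chartB U hU →
      c ≫ Φ = Spec.map (CommRingCat.ofHom (Away.map (ψAt φ hφ U hU) f)) ≫
        Proj.awayι (𝒜.deg U hU) f hf hd ≫ RelProj.emb pA chartA U hU

theorem isQMapOnDiag_of_isProjQMapOn
    {Φ : ((RelProj.domQ (RelProj.QGrHom.ofHom φ hφ) pB chartB : PB.Opens) : Scheme.{u}) ⟶ PA}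
    (hΦ : RelProj.IsProjQMapOn (RelProj.QGrHom.ofHom φ hφ) pA chartA pB chartB
      (RelProj.domQ (RelProj.QGrHom.ofHom φ hφ) pB chartB) Φ) :
    IsQMapOnDiag φ hφ chartA chartB (RelProj.domQ (RelProj.QGrHom.ofHom φ hφ) pB chartB) Φ := by
  intro U hU d hd f hf c hc
  have hle : U ≤ (𝟙 S : S ⟶ S) ⁻¹ᵁ U := le_rfl
  have hW := RelProj.range_awayEmb_subset_domQ (RelProj.QGrHom.ofHom φ hφ) pB chartB U hU U hU hle hd f hf
  have := hΦ U hU U hU hle d hd f hf hW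
  have hc' : c = IsOpenImmersion.lift (RelProj.domQ (RelProj.QGrHom.ofHom φ hφ) pB chartB).ι
      (RelProj.awayEmb (RelProj.QGrHom.ofHom φ hφ) pB chartB U hU U hU hle hd f hf) hW := by
    rw [← cancel_mono (RelProj.domQ (RelProj.QGrHom.ofHom φ hφ) pB chartB).ι,
      IsOpenImmersion.lift_fac, hc]
    rfl
  rw [hc']
  exact this

variable {φ hφ chartA chartB}

theorem chart_over_base (hA : RelProj.IsRelProj 𝒜 pA chartA) (hB : RelProj.IsRelProj ℬ pB chartB)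
    (U : S.Opens) (hU : IsAffineOpen U) (d : ℕ) (hd : 0 < d) (f : 𝒜.presheaf.obj (op U))
    (hf : f ∈ 𝒜.deg U hU d) :
    Spec.map (CommRingCat.ofHom (Away.map (ψAt φ hφ U hU) f)) ≫
        Proj.awayι (𝒜.deg U hU) f hf hd ≫ RelProj.emb pA chartA U hU ≫ pA =
      Proj.awayι (ℬ.deg U hU) (ψAt φ hφ U hU f) (Graded.map_mem (ψAt φ hφ U hU) hf) hd ≫
        RelProj.emb pB chartB U hU ≫ pB := by
  rw [emb_comp hA, emb_comp hB, Proj.awayι_toSpecZero_assoc,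
    Proj.awayι_toSpecZero_assoc, ← strZero_comp_ψAt φ hφ U hU]
  simp only [← Spec.map_comp_assoc]
  congr 2
  rw [Category.assoc, Category.assoc, ← CommRingCat.ofHom_comp, ← CommRingCat.ofHom_comp,
    fromZero_comp_awayMap]

end PartialMap


section PartialLocal

variable {S : Scheme.{u}} {𝒜 ℬ : RelProj.QCGrAlg S}
  {φ : 𝒜.toQCAlg ⟶ ℬ.toQCAlg} {hφ : RelProj.IsGradedHom φ}
  {PA PB : Scheme.{u}} {pA : PA ⟶ S} {pB : PB ⟶ S}
  {chartA : ∀ (U : S.Opens) (hU : IsAffineOpen U),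
    ((pA ⁻¹ᵁ U : PA.Opens) : Scheme.{u}) ≅ Proj (𝒜.deg U hU)}
  {chartB : ∀ (U : S.Opens) (hU : IsAffineOpen U),
    ((pB ⁻¹ᵁ U : PB.Opens) : Scheme.{u}) ≅ Proj (ℬ.deg U hU)}
  (hA : RelProj.IsRelProj 𝒜 pA chartA) (hB : RelProj.IsRelProj ℬ pB chartB)
  {G : PB.Opens} (hG : ∀ (U : S.Opens) (hU : IsAffineOpen U),
    G ⊓ pB ⁻¹ᵁ U = domPiece φ hφ chartB U hU)
  {Φ : (G : Scheme.{u}) ⟶ PA} (hΦ : IsQMapOnDiag φ hφ chartA chartB G Φ)

include hG in
/-- every point of `G` lies in a standard chart -/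
theorem exists_chart_of_mem (x : (G : Scheme.{u})) :
    ∃ (U : S.Opens) (hU : IsAffineOpen U) (d : ℕ) (hd : 0 < d) (f : 𝒜.presheaf.obj (op U))
      (hf : f ∈ 𝒜.deg U hU d)
      (c : Spec (CommRingCat.of (Away (ℬ.deg U hU) (ψAt φ hφ U hU f))) ⟶ (G : Scheme.{u})),
      c ≫ G.ι = Proj.awayι (ℬ.deg U hU) (ψAt φ hφ U hU f)
        (Graded.map_mem (ψAt φ hφ U hU) hf) hd ≫ RelProj.emb pB chartB U hU ∧
      x ∈ Set.range c.base := by
  obtain ⟨_, ⟨U, hU, rfl⟩, hxU, -⟩ := S.isBasis_affineOpens.exists_subset_of_mem_open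
    (Set.mem_univ (pB.base (G.ι.base x))) isOpen_univ
  replace hU : IsAffineOpen U := hU
  have hx : G.ι.base x ∈ G ⊓ pB ⁻¹ᵁ U := ⟨x.2, hxU⟩
  rw [hG U hU] at hx
  obtain ⟨z, hz, hzx⟩ := hx
  obtain ⟨d, f, hd, hf, hzf⟩ := (mem_domOpen_iff _ z).mp hz
  rw [← Proj.opensRange_awayι (ℬ.deg U hU) _ (Graded.map_mem (ψAt φ hφ U hU) hf) hd] at hzf
  obtain ⟨w, hw⟩ := hzf
  have hrange : Set.range (Proj.awayι (ℬ.deg U hU) (ψAt φ hφ U hU f)
      (Graded.map_mem (ψAt φ hφ U hU) hf) hd ≫ RelProj.emb pB chartB U hU).base ⊆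
      Set.range G.ι.base := by
    rw [Scheme.Opens.range_ι]
    rintro _ ⟨w', rfl⟩
    have : (Proj.awayι (ℬ.deg U hU) (ψAt φ hφ U hU f)
        (Graded.map_mem (ψAt φ hφ U hU) hf) hd ≫ RelProj.emb pB chartB U hU).base w' ∈
        domPiece φ hφ chartB U hU := by
      refine ⟨_, (mem_domOpen_iff _ _).mpr ⟨d, f, hd, hf, ?_⟩, rfl⟩
      rw [← Proj.opensRange_awayι (ℬ.deg U hU) _ (Graded.map_mem (ψAt φ hφ U hU) hf) hd]
      exact ⟨w', rfl⟩
    rw [← hG U hU] at this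
    exact this.1
  refine ⟨U, hU, d, hd, f, hf, IsOpenImmersion.lift G.ι _ hrange, IsOpenImmersion.lift_fac _ _ _,
    w, ?_⟩
  apply G.ι.isOpenEmbedding.injective
  rw [← Scheme.Hom.comp_apply, IsOpenImmersion.lift_fac, Scheme.Hom.comp_apply, hw]
  exact hzx

include hA hB hG hΦ in
theorem partial_comp : Φ ≫ pA = G.ι ≫ pB := by
  refine hom_ext_of_openImmersions _ _ fun x => ?_
  obtain ⟨U, hU, d, hd, f, hf, c, hc, hx⟩ := exists_chart_of_mem hG x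
  have hci : IsOpenImmersion c := by
    have : IsOpenImmersion (c ≫ G.ι) := by rw [hc]; infer_instance
    exact IsOpenImmersion.of_comp c G.ι
  refine ⟨_, c, hci, hx, ?_⟩
  rw [← Category.assoc, hΦ U hU d hd f hf c hc, ← Category.assoc c, hc]
  simp only [Category.assoc]
  exact chart_over_base hA hB U hU d hd f hf

end PartialLocal


section PartialLocal2

variable {S : Scheme.{u}} {𝒜 ℬ : RelProj.QCGrAlg S}
  {φ : 𝒜.toQCAlg ⟶ ℬ.toQCAlg} {hφ : RelProj.IsGradedHom φ}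
  {PA PB : Scheme.{u}} {pA : PA ⟶ S} {pB : PB ⟶ S}
  {chartA : ∀ (U : S.Opens) (hU : IsAffineOpen U),
    ((pA ⁻¹ᵁ U : PA.Opens) : Scheme.{u}) ≅ Proj (𝒜.deg U hU)}
  {chartB : ∀ (U : S.Opens) (hU : IsAffineOpen U),
    ((pB ⁻¹ᵁ U : PB.Opens) : Scheme.{u}) ≅ Proj (ℬ.deg U hU)}
  {G : PB.Opens} {Φ : (G : Scheme.{u}) ⟶ PA}

theorem localDom_range (hcomp : Φ ≫ pA = G.ι ≫ pB) (U : S.Opens) (hU : IsAffineOpen U) :
    Set.range ((Φ ⁻¹ᵁ (pA ⁻¹ᵁ U)).ι ≫ G.ι).base ⊆ Set.range (RelProj.emb pB chartB U hU).base := by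
  rintro _ ⟨x, rfl⟩
  have hx : pA.base (Φ.base ((Φ ⁻¹ᵁ (pA ⁻¹ᵁ U)).ι.base x)) ∈ U := x.2
  rw [← Scheme.Hom.comp_apply, hcomp] at hx
  exact exists_chart_point (chartB := chartB) U hU _ hx

/-- the open immersion `Φ⁻¹(pA⁻¹ U) ⟶ Proj ℬ(U)` -/
noncomputable def localDom (chartB : ∀ (U : S.Opens) (hU : IsAffineOpen U),
      ((pB ⁻¹ᵁ U : PB.Opens) : Scheme.{u}) ≅ Proj (ℬ.deg U hU))
    (hcomp : Φ ≫ pA = G.ι ≫ pB) (U : S.Opens) (hU : IsAffineOpen U) :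
    ((Φ ⁻¹ᵁ (pA ⁻¹ᵁ U) : (G : Scheme.{u}).Opens) : Scheme.{u}) ⟶ Proj (ℬ.deg U hU) :=
  IsOpenImmersion.lift (RelProj.emb pB chartB U hU) ((Φ ⁻¹ᵁ (pA ⁻¹ᵁ U)).ι ≫ G.ι)
    (localDom_range hcomp U hU)

@[reassoc]
theorem localDom_emb (hcomp : Φ ≫ pA = G.ι ≫ pB) (U : S.Opens) (hU : IsAffineOpen U) :
    localDom chartB hcomp U hU ≫ RelProj.emb pB chartB U hU = (Φ ⁻¹ᵁ (pA ⁻¹ᵁ U)).ι ≫ G.ι :=
  IsOpenImmersion.lift_fac _ _ _

instance (hcomp : Φ ≫ pA = G.ι ≫ pB) (U : S.Opens) (hU : IsAffineOpen U) :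
    IsOpenImmersion (localDom chartB hcomp U hU) := by
  have : IsOpenImmersion (localDom chartB hcomp U hU ≫ RelProj.emb pB chartB U hU) := by
    rw [localDom_emb]; infer_instance
  exact IsOpenImmersion.of_comp _ (RelProj.emb pB chartB U hU)

variable (hG : ∀ (U : S.Opens) (hU : IsAffineOpen U),
    G ⊓ pB ⁻¹ᵁ U = domPiece φ hφ chartB U hU)

include hG in
theorem isDomOf_localDom (hcomp : Φ ≫ pA = G.ι ≫ pB) (U : S.Opens) (hU : IsAffineOpen U) :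
    IsDomOf (ψAt φ hφ U hU) (localDom chartB hcomp U hU) := by
  intro z
  rw [← mem_domOpen_iff]
  constructor
  · rintro ⟨x, rfl⟩
    have h1 : (RelProj.emb pB chartB U hU).base ((localDom chartB hcomp U hU).base x) ∈
        G ⊓ pB ⁻¹ᵁ U := by
      rw [← Scheme.Hom.comp_apply, localDom_emb, Scheme.Hom.comp_apply]
      refine ⟨((Φ ⁻¹ᵁ (pA ⁻¹ᵁ U)).ι.base x).2, ?_⟩
      have hx : pA.base (Φ.base ((Φ ⁻¹ᵁ (pA ⁻¹ᵁ U)).ι.base x)) ∈ U := x.2
      rw [← Scheme.Hom.comp_apply, hcomp] at hx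
      exact hx
    rw [hG U hU] at h1
    obtain ⟨z', hz', hzz⟩ := h1
    rw [← (RelProj.emb pB chartB U hU).isOpenEmbedding.injective hzz]
    exact hz'
  · intro hz
    have h1 : (RelProj.emb pB chartB U hU).base z ∈ G ⊓ pB ⁻¹ᵁ U := by
      rw [hG U hU]
      exact ⟨z, hz, rfl⟩
    let x' : (G : Scheme.{u}) := ⟨_, h1.1⟩
    have hx' : x' ∈ Φ ⁻¹ᵁ (pA ⁻¹ᵁ U) := by
      change pA.base (Φ.base x') ∈ U
      rw [← Scheme.Hom.comp_apply, hcomp]
      exact h1.2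
    let x'' : ((Φ ⁻¹ᵁ (pA ⁻¹ᵁ U) : (G : Scheme.{u}).Opens) : Scheme.{u}) := ⟨x', hx'⟩
    refine ⟨x'', ?_⟩
    apply (RelProj.emb pB chartB U hU).isOpenEmbedding.injective
    rw [← Scheme.Hom.comp_apply, localDom_emb]
    rfl

theorem isPMap_localDom (hΦ : IsQMapOnDiag φ hφ chartA chartB G Φ)
    (hcomp : Φ ≫ pA = G.ι ≫ pB) (U : S.Opens) (hU : IsAffineOpen U) :
    IsPMap (ψAt φ hφ U hU) (localDom chartB hcomp U hU)
      ((Φ ∣_ (pA ⁻¹ᵁ U)) ≫ (chartA U hU).hom) := by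
  intro d f hd hf c hc
  rw [← cancel_mono (RelProj.emb pA chartA U hU)]
  have h1 : (c ≫ (Φ ∣_ (pA ⁻¹ᵁ U)) ≫ (chartA U hU).hom) ≫ RelProj.emb pA chartA U hU =
      (c ≫ (Φ ⁻¹ᵁ (pA ⁻¹ᵁ U)).ι) ≫ Φ := by
    simp only [RelProj.emb, Category.assoc, Iso.hom_inv_id_assoc, morphismRestrict_ι]
  rw [h1, Category.assoc (Spec.map _)]
  refine hΦ U hU d hd f hf _ ?_
  rw [Category.assoc, ← localDom_emb hcomp U hU, ← Category.assoc, hc]

include hG in
/-- A target-local property holds for `Φ` as soon as it holds for `Spec` of all the maps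
`𝒜(U)_(f) → ℬ(U)_(φ f)`. -/
theorem partial_of_forall_away (hA : RelProj.IsRelProj 𝒜 pA chartA)
    (hB : RelProj.IsRelProj ℬ pB chartB) (hΦ : IsQMapOnDiag φ hφ chartA chartB G Φ)
    (P : MorphismProperty Scheme.{u}) [IsZariskiLocalAtTarget P]
    (H : ∀ (U : S.Opens) (hU : IsAffineOpen U) (i : ℕ) (_ : 0 < i) (s : 𝒜.presheaf.obj (op U))
      (_ : s ∈ 𝒜.deg U hU i), P (Spec.map (CommRingCat.ofHom (Away.map (ψAt φ hφ U hU) s)))) :
    P Φ := by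
  have hcomp := partial_comp hA hB hG hΦ
  rw [IsZariskiLocalAtTarget.iff_of_iSup_eq_top (P := P) (fun U : S.affineOpens => pA ⁻¹ᵁ U.1)
    (iSup_preimage_affineOpens pA)]
  rintro ⟨U, hU⟩
  replace hU : IsAffineOpen U := hU
  have h2 : P ((Φ ∣_ (pA ⁻¹ᵁ U)) ≫ (chartA U hU).hom) :=
    (isPMap_localDom hΦ hcomp U hU).of_forall_away (isDomOf_localDom hG hcomp U hU) P (H U hU)
  rw [MorphismProperty.cancel_right_of_respectsIso (P := P)] at h2
  exact h2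

end PartialLocal2


section Final

variable {S : Scheme.{u}} {𝒜 ℬ : RelProj.QCGrAlg S}
  {φ : 𝒜.toQCAlg ⟶ ℬ.toQCAlg} {hφ : RelProj.IsGradedHom φ}
  {PA PB : Scheme.{u}} {pA : PA ⟶ S} {pB : PB ⟶ S}
  {chartA : ∀ (U : S.Opens) (hU : IsAffineOpen U),
    ((pA ⁻¹ᵁ U : PA.Opens) : Scheme.{u}) ≅ Proj (𝒜.deg U hU)}
  {chartB : ∀ (U : S.Opens) (hU : IsAffineOpen U),
    ((pB ⁻¹ᵁ U : PB.Opens) : Scheme.{u}) ≅ Proj (ℬ.deg U hU)}
  {G : PB.Opens} {Φ : (G : Scheme.{u}) ⟶ PA}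

set_option backward.isDefEq.respectTransparency false in
theorem partial_isAffineHom (hG : ∀ (U : S.Opens) (hU : IsAffineOpen U),
      G ⊓ pB ⁻¹ᵁ U = domPiece φ hφ chartB U hU)
    (hA : RelProj.IsRelProj 𝒜 pA chartA)
    (hB : RelProj.IsRelProj ℬ pB chartB) (hΦ : IsQMapOnDiag φ hφ chartA chartB G Φ) :
    IsAffineHom Φ :=
  partial_of_forall_away hG hA hB hΦ @IsAffineHom fun _ _ _ _ _ _ => inferInstance

theorem domPiece_eq_gradedHomAt (U : S.Opens) (hU : IsAffineOpen U) :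
    domPiece φ hφ chartB U hU =
      (RelProj.emb pB chartB U hU) ''ᵁ RelCone.domOpen (RelProj.gradedHomAt φ hφ U hU) := by
  unfold domPiece
  rw [domOpen_congr (f := ψAt φ hφ U hU) (g := RelProj.gradedHomAt φ hφ U hU)
    (fun a => ψAt_apply φ hφ U hU a)]

end Final

end Groth.Agent.Helper13RelProj
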