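import Mathlib
import Groth.Prelude.Def_RelProj4
import Groth.Agent.Lib.Helper13AwayBC
import Groth.Agent.Lib.Helper13ProjQMap2

set_option autoImplicit false

namespace Groth.Agent.Helper13ProjBC

open CategoryTheory CategoryTheory.Limits AlgebraicGeometry Opposite TopologicalSpace
open HomogeneousLocalization
open scoped HomogeneousIdeal

universe u

section PairCover

variable {S S' : Scheme.{u}} (g : S' ⟶ S)

/-- the index type of affine pairs -/
abbrev Pairs : Type u :=
  {V : S.affineOpens × S'.affineOpens // (V.2 : S'.Opens) ≤ g ⁻¹ᵁ (V.1 : S.Opens)}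

theorem exists_pair (y : S') : ∃ (V : Pairs g), y ∈ (V.1.2 : S'.Opens) := by
  obtain ⟨_, ⟨U, hU, rfl⟩, hyU, -⟩ := S.isBasis_affineOpens.exists_subset_of_mem_open
    (Set.mem_univ (g.base y)) isOpen_univ
  obtain ⟨_, ⟨U', hU', rfl⟩, hyU', hle⟩ := S'.isBasis_affineOpens.exists_subset_of_mem_open
    (show y ∈ ((g ⁻¹ᵁ U : S'.Opens) : Set S') from hyU) (g ⁻¹ᵁ U).2
  exact ⟨⟨(⟨U, hU⟩, ⟨U', hU'⟩), hle⟩, hyU'⟩

theorem Pairs.isAffineOpen₂ (V : Pairs g) : IsAffineOpen (V.1.2 : S'.Opens) := V.1.2.2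

theorem Pairs.isAffineOpen₁ (V : Pairs g) : IsAffineOpen (V.1.1 : S.Opens) := V.1.1.2

/-- the affine open cover of `S'` by the affine opens lying over affine opens of `S` -/
noncomputable def pairCover : S'.OpenCover :=
  Scheme.Cover.mkOfCovers (Pairs g) (fun V => Spec Γ(S', (V.1.2 : S'.Opens)))
    (fun V => V.isAffineOpen₂.fromSpec)
    (fun y => by
      obtain ⟨V, hy⟩ := exists_pair g y
      refine ⟨V, ?_⟩
      have : y ∈ Set.range V.isAffineOpen₂.fromSpec.base := by
        rw [IsAffineOpen.range_fromSpec]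
        exact hy
      exact this)
    (fun V => inferInstance)

end PairCover

section RelSpecBC

variable {S S' : Scheme.{u}} {g : S' ⟶ S} {A : RelSpec.QCAlg S} {B : RelSpec.QCAlg S'}

theorem isPullback_ι (A : RelSpec.QCAlg S) (U : S.Opens) (hU : IsAffineOpen U) :
    IsPullback (Spec.map (A.str.app (op U))) (A.ι U hU) hU.fromSpec A.π := by
  refine IsOpenImmersion.isPullback _ _ _ _ (A.ι_π U hU) ?_
  rw [hU.opensRange_fromSpec, A.π_preimage U hU]

theorem isPullback_specQMap (u : RelSpec.QHom g A B) (hu : RelSpec.IsQBaseChange u)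
    (h : B.spec ⟶ A.spec) (hh : RelSpec.IsSpecQMap u h) : IsPullback h B.π A.π g := by
  refine (Scheme.isPullback_of_openCover B.π h g A.π (pairCover g) fun V => ?_).flip
  obtain ⟨⟨⟨U, hU⟩, ⟨U', hU'⟩⟩, hle⟩ := V
  replace hU : IsAffineOpen U := hU
  replace hU' : IsAffineOpen U' := hU'
  have hsq' := (isPullback_ι B U' hU').flip
  have hsq := isPullback_ι A U hU
  have htop : IsPullback (Spec.map (B.str.app (op U'))) (Spec.map (u.appLE U U' hle))
      (Spec.map (g.appLE U U' hle)) (Spec.map (A.str.app (op U))) :=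
    isPullback_SpecMap_of_isPushout _ _ _ _ (hu U hU U' hU' hle)
  have h1 := htop.paste_vert hsq
  rw [← hh U hU U' hU' hle, IsAffineOpen.SpecMap_appLE_fromSpec g hU hU' hle] at h1
  refine IsPullback.of_iso h1 hsq'.isoPullback (Iso.refl _) (Iso.refl _) (Iso.refl _) ?_ ?_ ?_ ?_
  · simp only [Iso.refl_hom, Category.comp_id]
    exact (hsq'.isoPullback_hom_snd).symm
  · simp only [Iso.refl_hom, Category.comp_id]
    rw [← Category.assoc]
    congr 1
    exact (hsq'.isoPullback_hom_fst).symm
  · simp only [Iso.refl_hom, Category.comp_id, Category.id_comp]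
    rfl
  · simp only [Iso.refl_hom, Category.comp_id, Category.id_comp]

end RelSpecBC

end Groth.Agent.Helper13ProjBC
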