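import Mathlib
import Groth.Agent.Lib.Helper13ProjBC

set_option autoImplicit false

namespace Groth.Agent.Helper13ProjBC

open CategoryTheory CategoryTheory.Limits AlgebraicGeometry Opposite TopologicalSpace
open HomogeneousLocalization Groth.Agent.Helper13AwayBC Groth.Agent.Helper13RelProj
open scoped HomogeneousIdeal

universe u

section cat

variable {R' R B A : CommRingCat.{u}} {i : R' ⟶ R} {sB : R' ⟶ B} {sA : R ⟶ A} {uu : B ⟶ A}
  (hpo : IsPushout i sB sA uu)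
  {σ τ : Type u} [SetLike σ B] [AddSubgroupClass σ B] [SetLike τ A] [AddSubgroupClass τ A]
  {ℬ : ℕ → σ} {𝒜 : ℕ → τ} [GradedRing ℬ] [GradedRing 𝒜]
  (φ : ℬ →+*ᵍ 𝒜) (hφ : ∀ b, φ b = uu.hom b)
  (h0B : ∀ r, sB.hom r ∈ ℬ 0) (h0A : ∀ r, sA.hom r ∈ 𝒜 0)

include hpo hφ h0B h0A in
theorem isPushout_away_cat {d : ℕ} {f : B} (hf : f ∈ ℬ d)
    (a' : R' →+* Away ℬ f)
    (ha' : ∀ r, (a' r).val = algebraMap B (Localization.Away f) (sB.hom r))
    (a : R →+* Away 𝒜 (φ f))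
    (ha : ∀ r, (a r).val = algebraMap A (Localization.Away (φ f)) (sA.hom r)) :
    IsPushout i (CommRingCat.ofHom a') (CommRingCat.ofHom a)
      (CommRingCat.ofHom (Away.map φ f)) := by
  letI : Algebra R' R := i.hom.toAlgebra
  letI : Algebra R' B := sB.hom.toAlgebra
  letI : Algebra R A := sA.hom.toAlgebra
  letI : Algebra B A := uu.hom.toAlgebra
  letI : Algebra R' A := (uu.hom.comp sB.hom).toAlgebra
  haveI : IsScalarTower R' B A := .of_algebraMap_eq' rfl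
  haveI : IsScalarTower R' R A := .of_algebraMap_eq' (by
    have := hpo.w
    exact congr_arg CommRingCat.Hom.hom this.symm)
  haveI : Algebra.IsPushout R' R B A := CommRingCat.isPushout_iff_isPushout.mp hpo
  exact isPushout_away φ hφ h0B h0A hf a' ha' a ha

end cat

section irr

open TensorProduct

theorem irrelevant_le_map_alg (R' R : Type u) {B A : Type u} [CommRing R'] [CommRing R] [CommRing B]
    [CommRing A]
    {σ τ : Type*} [SetLike σ B] [AddSubgroupClass σ B] [SetLike τ A] [AddSubgroupClass τ A]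
    {ℬ : ℕ → σ} {𝒜 : ℕ → τ} [GradedRing ℬ] [GradedRing 𝒜]
    [Algebra R' R] [Algebra R' B] [Algebra R A] [Algebra R' A] [IsScalarTower R' R A]
    [Algebra B A] [IsScalarTower R' B A] [Algebra.IsPushout R' R B A]
    (φ : ℬ →+*ᵍ 𝒜) (hφA : ∀ b, φ b = algebraMap B A b)
    (h0A : ∀ r, algebraMap R A r ∈ 𝒜 0) : 𝒜₊ ≤ ℬ₊.map φ := by
  rw [HomogeneousIdeal.irrelevant_le]
  intro n hn a ha
  change a ∈ Ideal.map φ (ℬ₊).toIdeal
  let ε := Algebra.IsPushout.equiv R' R B A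
  have key : ∀ t : R ⊗[R'] B, GradedRing.proj 𝒜 n (ε t) ∈ Ideal.map φ (ℬ₊).toIdeal := by
    intro t
    induction t using TensorProduct.induction_on with
    | zero => simp
    | tmul r b =>
      rw [Algebra.IsPushout.equiv_tmul, proj_zero_mul 𝒜 n (h0A r), ← hφA, ← map_proj]
      exact Ideal.mul_mem_left _ _ (Ideal.mem_map_of_mem _
        (HomogeneousIdeal.mem_irrelevant_of_mem _ hn (proj_mem ℬ n b)))
    | add x y hx hy =>
      rw [map_add, map_add]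
      exact Ideal.add_mem _ hx hy
  have := key (ε.symm a)
  rwa [AlgEquiv.apply_symm_apply, GradedRing.proj_apply,
    DirectSum.decompose_of_mem_same 𝒜 ha] at this

end irr

section cat2

variable {R' R B A : CommRingCat.{u}} {i : R' ⟶ R} {sB : R' ⟶ B} {sA : R ⟶ A} {uu : B ⟶ A}
  (hpo : IsPushout i sB sA uu)
  {σ τ : Type u} [SetLike σ B] [AddSubgroupClass σ B] [SetLike τ A] [AddSubgroupClass τ A]
  {ℬ : ℕ → σ} {𝒜 : ℕ → τ} [GradedRing ℬ] [GradedRing 𝒜]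
  (φ : ℬ →+*ᵍ 𝒜) (hφ : ∀ b, φ b = uu.hom b)
  (h0A : ∀ r, sA.hom r ∈ 𝒜 0)

include hpo hφ h0A in
theorem irrelevant_le_map_cat : 𝒜₊ ≤ ℬ₊.map φ := by
  letI : Algebra R' R := i.hom.toAlgebra
  letI : Algebra R' B := sB.hom.toAlgebra
  letI : Algebra R A := sA.hom.toAlgebra
  letI : Algebra B A := uu.hom.toAlgebra
  letI : Algebra R' A := (uu.hom.comp sB.hom).toAlgebra
  haveI : IsScalarTower R' B A := .of_algebraMap_eq' rfl
  haveI : IsScalarTower R' R A := .of_algebraMap_eq' (by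
    have := hpo.w
    exact congr_arg CommRingCat.Hom.hom this.symm)
  haveI : Algebra.IsPushout R' R B A := CommRingCat.isPushout_iff_isPushout.mp hpo
  exact irrelevant_le_map_alg R' R φ hφ h0A

variable (hirr : 𝒜₊ ≤ ℬ₊.map φ)
  (zB : R' ⟶ CommRingCat.of (ℬ 0)) (hzB : ∀ r, ((zB.hom r : ℬ 0) : B) = sB.hom r)
  (zA : R ⟶ CommRingCat.of (𝒜 0)) (hzA : ∀ r, ((zA.hom r : 𝒜 0) : A) = sA.hom r)

include hpo hφ hzB hzA in
/-- ring-level base change for `Proj`, categorical form -/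
theorem isPullback_proj_cat :
    IsPullback (Proj.map φ hirr) (Proj.toSpecZero 𝒜 ≫ Spec.map zA)
      (Proj.toSpecZero ℬ ≫ Spec.map zB) (Spec.map i) := by
  refine isPullback_map_of_forall_away φ hirr _ _ _ fun d hd f hf => ?_
  rw [Proj.awayι_toSpecZero_assoc, Proj.awayι_toSpecZero_assoc, ← Spec.map_comp, ← Spec.map_comp]
  refine isPullback_SpecMap_of_isPushout _ _ _ _ ?_
  have h := isPushout_away_cat hpo φ hφ (fun r => by rw [← hzB]; exact SetLike.coe_mem _)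
    (fun r => by rw [← hzA]; exact SetLike.coe_mem _) hf
    ((fromZeroRingHom ℬ _).comp zB.hom)
    (fun r => by
      change (fromZeroRingHom ℬ _ (zB.hom r)).val = _
      rw [← Localization.mk_one_eq_algebraMap, ← hzB]
      rfl)
    ((fromZeroRingHom 𝒜 _).comp zA.hom)
    (fun r => by
      change (fromZeroRingHom 𝒜 _ (zA.hom r)).val = _
      rw [← Localization.mk_one_eq_algebraMap, ← hzA]
      rfl)
  exact h.flip

end cat2

section RelProjBC

variable {S : Scheme.{u}} {𝒮 : RelProj.QCGrAlg S} {P : Scheme.{u}} {p : P ⟶ S}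
  {chart : ∀ (U : S.Opens) (hU : IsAffineOpen U),
    ((p ⁻¹ᵁ U : P.Opens) : Scheme.{u}) ≅ Proj (𝒮.deg U hU)}

theorem opensRange_emb (U : S.Opens) (hU : IsAffineOpen U) :
    (RelProj.emb p chart U hU).opensRange = p ⁻¹ᵁ U := by
  unfold RelProj.emb
  rw [Scheme.Hom.opensRange_comp_of_isIso, Scheme.Opens.opensRange_ι]

/-- the chart square of a relative `Proj` is cartesian -/
theorem isPullback_emb (hP : RelProj.IsRelProj 𝒮 p chart) (U : S.Opens) (hU : IsAffineOpen U) :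
    IsPullback (Proj.toSpecZero (𝒮.deg U hU) ≫ Spec.map (𝒮.strZero U hU))
      (RelProj.emb p chart U hU) hU.fromSpec p := by
  refine IsOpenImmersion.isPullback _ _ _ _ ?_ ?_
  · rw [emb_comp hP, Category.assoc]
  · rw [hU.opensRange_fromSpec, opensRange_emb]

end RelProjBC

section RelProjBC2

variable {Y Y' P P' : Scheme.{u}} (ψ : Y' ⟶ Y) {𝒮 : RelProj.QCGrAlg Y} {𝒮' : RelProj.QCGrAlg Y'}
  (uu : ∀ (U : Y.Opens) (U' : Y'.Opens) (_ : U' ≤ ψ ⁻¹ᵁ U),
    𝒮.presheaf.obj (op U) ⟶ 𝒮'.presheaf.obj (op U'))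
  (φ : ∀ (U : Y.Opens) (hU : IsAffineOpen U) (U' : Y'.Opens) (hU' : IsAffineOpen U')
    (_ : U' ≤ ψ ⁻¹ᵁ U), 𝒮.deg U hU →+*ᵍ 𝒮'.deg U' hU')
  (hφ : ∀ (U : Y.Opens) (hU : IsAffineOpen U) (U' : Y'.Opens) (hU' : IsAffineOpen U')
    (hle : U' ≤ ψ ⁻¹ᵁ U) (b : 𝒮.presheaf.obj (op U)),
      φ U hU U' hU' hle b = (uu U U' hle).hom b)
  (hpo : ∀ (U : Y.Opens) (_ : IsAffineOpen U) (U' : Y'.Opens) (_ : IsAffineOpen U')
    (hle : U' ≤ ψ ⁻¹ᵁ U),
      IsPushout (ψ.appLE U U' hle) (𝒮.str.app (op U)) (𝒮'.str.app (op U')) (uu U U' hle))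
  (hirr : ∀ (U : Y.Opens) (hU : IsAffineOpen U) (U' : Y'.Opens) (hU' : IsAffineOpen U')
    (hle : U' ≤ ψ ⁻¹ᵁ U), (𝒮'.deg U' hU')₊ ≤ ((𝒮.deg U hU)₊).map (φ U hU U' hU' hle))
  {p : P ⟶ Y}
  {chart : ∀ (U : Y.Opens) (hU : IsAffineOpen U),
    ((p ⁻¹ᵁ U : P.Opens) : Scheme.{u}) ≅ Proj (𝒮.deg U hU)}
  (hP : RelProj.IsRelProj 𝒮 p chart) {p' : P' ⟶ Y'}
  {chart' : ∀ (U' : Y'.Opens) (hU' : IsAffineOpen U'),
    ((p' ⁻¹ᵁ U' : P'.Opens) : Scheme.{u}) ≅ Proj (𝒮'.deg U' hU')}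
  (hP' : RelProj.IsRelProj 𝒮' p' chart') (g : P' ⟶ P)
  (hg : ∀ (U : Y.Opens) (hU : IsAffineOpen U) (U' : Y'.Opens) (hU' : IsAffineOpen U')
    (hle : U' ≤ ψ ⁻¹ᵁ U),
      RelProj.emb p' chart' U' hU' ≫ g =
        Proj.map (φ U hU U' hU' hle) (hirr U hU U' hU' hle) ≫ RelProj.emb p chart U hU)

include hφ hpo hP hP' hg in
/-- relative `Proj` commutes with base change -/
theorem isPullback_relProj : IsPullback g p' p ψ := by
  refine (Scheme.isPullback_of_openCover p' g ψ p (pairCover ψ) fun V => ?_).flip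
  obtain ⟨⟨⟨U, hU⟩, ⟨U', hU'⟩⟩, hle⟩ := V
  replace hU : IsAffineOpen U := hU
  replace hU' : IsAffineOpen U' := hU'
  have hsq' := (isPullback_emb hP' U' hU').flip
  have hsq := isPullback_emb hP U hU
  have htop : IsPullback (Proj.toSpecZero (𝒮'.deg U' hU') ≫ Spec.map (𝒮'.strZero U' hU'))
      (Proj.map (φ U hU U' hU' hle) (hirr U hU U' hU' hle))
      (Spec.map (ψ.appLE U U' hle))
      (Proj.toSpecZero (𝒮.deg U hU) ≫ Spec.map (𝒮.strZero U hU)) :=
    (isPullback_proj_cat (hpo U hU U' hU' hle) (φ U hU U' hU' hle) (hφ U hU U' hU' hle)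
      (hirr U hU U' hU' hle) (𝒮.strZero U hU) (fun _ => rfl) (𝒮'.strZero U' hU')
      (fun _ => rfl)).flip
  have h1 := htop.paste_vert hsq
  rw [← hg U hU U' hU' hle, IsAffineOpen.SpecMap_appLE_fromSpec ψ hU hU' hle] at h1
  refine IsPullback.of_iso h1 hsq'.isoPullback (Iso.refl _) (Iso.refl _) (Iso.refl _) ?_ ?_ ?_ ?_
  · simp only [Iso.refl_hom, Category.comp_id]
    exact (hsq'.isoPullback_hom_snd).symm
  · simp only [Iso.refl_hom, Category.comp_id]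
    rw [← Category.assoc]
    congr 1
    exact (hsq'.isoPullback_hom_fst).symm
  · simp only [Iso.refl_hom, Category.comp_id, Category.id_comp]
    rfl
  · simp only [Iso.refl_hom, Category.comp_id, Category.id_comp]

end RelProjBC2

end Groth.Agent.Helper13ProjBC
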