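import Mathlib
import Groth.Agent.Lib.Helper13RelProjA

/-!
# helper13: relative Proj toolbox, part E: glueing morphisms over the affine opens of the base;
uniqueness of the relative Proj and existence of the induced morphism
-/

set_option autoImplicit false

namespace Groth.Agent.Helper13RelProj

open CategoryTheory CategoryTheory.Limits AlgebraicGeometry Opposite TopologicalSpace
open HomogeneousLocalization
open scoped HomogeneousIdeal

universe u

open Scheme.AffineZariskiSite in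
set_option backward.defeqAttrib.useBackward true in
set_option backward.isDefEq.respectTransparency false in
theorem exists_glue {S P Z : Scheme.{u}} (p : P ⟶ S)
    (g : ∀ U : S.AffineZariskiSite, ((p ⁻¹ᵁ U.1 : P.Opens) : Scheme.{u}) ⟶ Z)
    (compat : ∀ (V : S.AffineZariskiSite) (r : Γ(S, V.1)),
      P.homOfLE (p.preimage_mono (S.basicOpen_le r)) ≫ g V = g (V.basicOpen r)) :
    ∃ G : P ⟶ Z, ∀ U : S.AffineZariskiSite, (p ⁻¹ᵁ U.1).ι ≫ G = g U := by
  have H : ∀ {U V : S.AffineZariskiSite} (i : U ⟶ V),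
      Scheme.Cover.trans ((directedCover S).pullback₁ p) i ≫
        ((pullbackRestrictIsoRestrict p V.1).hom ≫ g V) =
      (pullbackRestrictIsoRestrict p U.1).hom ≫ g U := by
    intro U V i
    have : (pullbackRestrictIsoRestrict p U.1).inv ≫
        Scheme.Cover.trans ((directedCover S).pullback₁ p) i ≫
        (pullbackRestrictIsoRestrict p V.1).hom = P.homOfLE
          (p.preimage_mono (toOpens_mono i.1.1)) := by
      rw [← cancel_mono (Scheme.Opens.ι _)]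
      simp +instances [Scheme.Cover.trans, Scheme.Cover.locallyDirectedPullbackCover]
    rw [← Iso.inv_comp_eq, reassoc_of% this]
    obtain ⟨r, hr⟩ := i.1.1
    obtain rfl : V.basicOpen r = U := Subtype.ext hr
    exact compat V r
  refine ⟨Scheme.OpenCover.glueMorphismsOfLocallyDirected ((directedCover S).pullback₁ p)
    (fun U => (pullbackRestrictIsoRestrict p U.1).hom ≫ g U) H, fun U => ?_⟩
  rw [← cancel_epi (pullbackRestrictIsoRestrict p U.1).hom, ← Category.assoc]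
  trans ((directedCover S).pullback₁ p).f U ≫
    Scheme.OpenCover.glueMorphismsOfLocallyDirected ((directedCover S).pullback₁ p)
    (fun U => (pullbackRestrictIsoRestrict p U.1).hom ≫ g U) H
  · congr 1; simp
  exact Scheme.OpenCover.map_glueMorphismsOfLocallyDirected _ _ H _

/-- two morphisms out of `P` agreeing on all `p⁻¹(U)`, `U` affine, are equal -/
theorem hom_ext_preimage_affine {S P Z : Scheme.{u}} (p : P ⟶ S) (a b : P ⟶ Z)
    (h : ∀ (U : S.Opens) (_ : IsAffineOpen U), (p ⁻¹ᵁ U).ι ≫ a = (p ⁻¹ᵁ U).ι ≫ b) : a = b := by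
  refine Scheme.hom_ext_of_forall _ _ fun x => ?_
  obtain ⟨_, ⟨U, hU, rfl⟩, hxU, -⟩ := S.isBasis_affineOpens.exists_subset_of_mem_open
    (Set.mem_univ (p.base x)) isOpen_univ
  exact ⟨p ⁻¹ᵁ U, hxU, h U hU⟩

section Proj
variable {A B σ τ : Type u} [CommRing A] [SetLike σ A] [AddSubgroupClass σ A]
  [CommRing B] [SetLike τ B] [AddSubgroupClass τ B]
  {𝒜 : ℕ → σ} {ℬ : ℕ → τ} [GradedRing 𝒜] [GradedRing ℬ]

theorem map_congr {f f' : 𝒜 →+*ᵍ ℬ} (h : f = f') (hf : ℬ₊ ≤ 𝒜₊.map f) (hf' : ℬ₊ ≤ 𝒜₊.map f') :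
    Proj.map f hf = Proj.map f' hf' := by
  subst h; rfl
end Proj

section Uniq
variable {Y P P' : Scheme.{u}} (𝒮 : RelProj.QCGrAlg Y) {p : P ⟶ Y}
    {chart : ∀ (U : Y.Opens) (hU : IsAffineOpen U),
      (((p ⁻¹ᵁ U : P.Opens) : Scheme.{u}) ≅ Proj (𝒮.deg U hU))}
    (hP : RelProj.IsRelProj 𝒮 p chart) {p' : P' ⟶ Y}
    {chart' : ∀ (U : Y.Opens) (hU : IsAffineOpen U),
      (((p' ⁻¹ᵁ U : P'.Opens) : Scheme.{u}) ≅ Proj (𝒮.deg U hU))}
    (hP' : RelProj.IsRelProj 𝒮 p' chart')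

/-- chart immersion compatibility (cf. `RelProj.map_res_emb`) -/
theorem map_res_inv_ι (hP : RelProj.IsRelProj 𝒮 p chart) (U : Y.Opens) (hU : IsAffineOpen U)
    (r : Γ(Y, U)) :
    Proj.map (𝒮.res hU (hU.basicOpen r) (Y.basicOpen_le r)) (𝒮.irrelevant_le_map U hU r) ≫
        (chart U hU).inv ≫ (p ⁻¹ᵁ U).ι =
      (chart (Y.basicOpen r) (hU.basicOpen r)).inv ≫ (p ⁻¹ᵁ (Y.basicOpen r)).ι := by
  have e := hP.chart_res U hU r
  rw [← Iso.inv_comp_eq] at e
  rw [← e, Category.assoc, Category.assoc, Iso.hom_inv_id_assoc, Scheme.homOfLE_ι]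

include hP hP' in
theorem exists_chart_iso_hom :
    ∃ e : P ⟶ P', ∀ (U : Y.Opens) (hU : IsAffineOpen U),
      (p ⁻¹ᵁ U).ι ≫ e = (chart U hU).hom ≫ (chart' U hU).inv ≫ (p' ⁻¹ᵁ U).ι := by
  obtain ⟨G, hG⟩ := exists_glue p
    (fun U => (chart U.1 U.2).hom ≫ (chart' U.1 U.2).inv ≫ (p' ⁻¹ᵁ U.1).ι) (by
      intro V r
      rw [← Category.assoc, hP.chart_res V.1 V.2 r, Category.assoc,
        map_res_inv_ι 𝒮 hP' V.1 V.2 r]
      rfl)
  exact ⟨G, fun U hU => hG ⟨U, hU⟩⟩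

include hP hP' in
theorem comp_eq_of_chartwise (e : P ⟶ P')
    (he : ∀ (U : Y.Opens) (hU : IsAffineOpen U),
      (p ⁻¹ᵁ U).ι ≫ e = (chart U hU).hom ≫ (chart' U hU).inv ≫ (p' ⁻¹ᵁ U).ι) : e ≫ p' = p := by
  refine hom_ext_preimage_affine p _ _ fun U hU => ?_
  rw [← Category.assoc, he U hU]
  simp only [Category.assoc]
  rw [← hP'.chart_over U hU, Iso.inv_hom_id_assoc, hP.chart_over U hU]

include hP hP' in
theorem relProj_unique :
    (∃! e : P ⟶ P', ∀ (U : Y.Opens) (hU : IsAffineOpen U),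
        (p ⁻¹ᵁ U).ι ≫ e = (chart U hU).hom ≫ (chart' U hU).inv ≫ (p' ⁻¹ᵁ U).ι) ∧
      ∀ e : P ⟶ P', (∀ (U : Y.Opens) (hU : IsAffineOpen U),
        (p ⁻¹ᵁ U).ι ≫ e = (chart U hU).hom ≫ (chart' U hU).inv ≫ (p' ⁻¹ᵁ U).ι) →
          IsIso e ∧ e ≫ p' = p := by
  constructor
  · obtain ⟨e, he⟩ := exists_chart_iso_hom 𝒮 hP hP'
    refine ⟨e, he, fun e₂ he₂ => ?_⟩
    refine hom_ext_preimage_affine p _ _ fun U hU => ?_
    rw [he U hU, he₂ U hU]
  · intro e he
    refine ⟨?_, comp_eq_of_chartwise 𝒮 hP hP' e he⟩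
    obtain ⟨e', he'⟩ := exists_chart_iso_hom 𝒮 hP' hP
    refine ⟨e', ?_, ?_⟩
    · refine hom_ext_preimage_affine p _ _ fun U hU => ?_
      rw [← Category.assoc, he U hU]
      simp only [Category.assoc]
      rw [he' U hU, Iso.inv_hom_id_assoc, Iso.hom_inv_id_assoc, Category.comp_id]
    · refine hom_ext_preimage_affine p' _ _ fun U hU => ?_
      rw [← Category.assoc, he' U hU]
      simp only [Category.assoc]
      rw [he U hU, Iso.inv_hom_id_assoc, Iso.hom_inv_id_assoc, Category.comp_id]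

end Uniq

section MapExists

variable {S : Scheme.{u}} {𝒜 ℬ : RelProj.QCGrAlg S}
  (φ : 𝒜.toQCAlg ⟶ ℬ.toQCAlg) (hφ : RelProj.IsGradedHom φ)
  (hirr : ∀ (U : S.Opens) (hU : IsAffineOpen U),
      (ℬ.deg U hU)₊ ≤ ((𝒜.deg U hU)₊).map (RelProj.gradedHomAt φ hφ U hU))
    {PA PB : Scheme.{u}} {pA : PA ⟶ S} {pB : PB ⟶ S}
    {chartA : ∀ (U : S.Opens) (hU : IsAffineOpen U),
      ((pA ⁻¹ᵁ U : PA.Opens) : Scheme.{u}) ≅ Proj (𝒜.deg U hU)}
    {chartB : ∀ (U : S.Opens) (hU : IsAffineOpen U),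
      ((pB ⁻¹ᵁ U : PB.Opens) : Scheme.{u}) ≅ Proj (ℬ.deg U hU)}
    (hA : RelProj.IsRelProj 𝒜 pA chartA) (hB : RelProj.IsRelProj ℬ pB chartB)

theorem res_comp_gradedHomAt (U : S.Opens) (hU : IsAffineOpen U) (r : Γ(S, U)) :
    (ℬ.res hU (hU.basicOpen r) (S.basicOpen_le r)).comp (RelProj.gradedHomAt φ hφ U hU) =
      (RelProj.gradedHomAt φ hφ (S.basicOpen r) (hU.basicOpen r)).comp
        (𝒜.res hU (hU.basicOpen r) (S.basicOpen_le r)) := by
  ext x
  exact congr_arg (fun t => t.hom x) (φ.hom.naturality (homOfLE (S.basicOpen_le r)).op).symm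

include hA hB in
theorem relProjMap_compat (U : S.Opens) (hU : IsAffineOpen U) (r : Γ(S, U)) :
    PB.homOfLE (pB.preimage_mono (S.basicOpen_le r)) ≫ (chartB U hU).hom ≫
      Proj.map (RelProj.gradedHomAt φ hφ U hU) (hirr U hU) ≫ (chartA U hU).inv ≫ (pA ⁻¹ᵁ U).ι =
    (chartB (S.basicOpen r) (hU.basicOpen r)).hom ≫
      Proj.map (RelProj.gradedHomAt φ hφ (S.basicOpen r) (hU.basicOpen r))
        (hirr (S.basicOpen r) (hU.basicOpen r)) ≫
      (chartA (S.basicOpen r) (hU.basicOpen r)).inv ≫ (pA ⁻¹ᵁ (S.basicOpen r)).ι := by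
  rw [← Category.assoc, hB.chart_res U hU r, Category.assoc, ← map_res_inv_ι 𝒜 hA U hU r]
  congr 1
  rw [← Category.assoc, ← Proj.map_comp, ← Category.assoc (Proj.map _ _) (Proj.map _ _),
    ← Proj.map_comp]
  congr 1
  exact map_congr (res_comp_gradedHomAt φ hφ U hU r) _ _

include hA hB in
theorem exists_relProjMap : ∃ h : PB ⟶ PA, RelProj.IsRelProjMap φ hφ hirr chartA chartB h := by
  obtain ⟨G, hG⟩ := exists_glue pB
    (fun U => (chartB U.1 U.2).hom ≫ Proj.map (RelProj.gradedHomAt φ hφ U.1 U.2) (hirr U.1 U.2) ≫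
      (chartA U.1 U.2).inv ≫ (pA ⁻¹ᵁ U.1).ι)
    (fun V r => relProjMap_compat φ hφ hirr hA hB V.1 V.2 r)
  exact ⟨G, fun U hU => hG ⟨U, hU⟩⟩

end MapExists

end Groth.Agent.Helper13RelProj
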