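import Mathlib
import Groth.Agent.Lib.Helper13ProjQMap2
import Groth.Agent.Lib.Helper13RelProjE
import Groth.Agent.Lib.Helper27PolyGraded

/-!
# helper13: functoriality of the partial morphisms `G(φ) ⟶ Proj 𝒜` with respect to commutative
squares of graded rings (used to glue them over the affine opens of a base).
-/

set_option autoImplicit false

namespace Groth.Agent.Helper13RelProj

open CategoryTheory CategoryTheory.Limits AlgebraicGeometry Opposite TopologicalSpace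
open HomogeneousLocalization
open scoped HomogeneousIdeal

universe u

section LemmaC

variable {A A' B B' σ σ' τ τ' : Type u}
  [CommRing A] [SetLike σ A] [AddSubgroupClass σ A]
  [CommRing A'] [SetLike σ' A'] [AddSubgroupClass σ' A']
  [CommRing B] [SetLike τ B] [AddSubgroupClass τ B]
  [CommRing B'] [SetLike τ' B'] [AddSubgroupClass τ' B']
  {𝒜 : ℕ → σ} {𝒜' : ℕ → σ'} {ℬ : ℕ → τ} {ℬ' : ℕ → τ'}
  [GradedRing 𝒜] [GradedRing 𝒜'] [GradedRing ℬ] [GradedRing ℬ']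

theorem awayι_comp_map_of_eq (β : ℬ →+*ᵍ ℬ') (hβ : ℬ'₊ ≤ ℬ₊.map β) {d : ℕ} (hd : 0 < d)
    {s : B} (hs : s ∈ ℬ d) {t : B'} (h : β s = t) (ht : t ∈ ℬ' d) :
    Proj.awayι ℬ' t ht hd ≫ Proj.map β hβ =
      Spec.map (CommRingCat.ofHom (mapTo β h)) ≫ Proj.awayι ℬ s hs hd := by
  subst h
  exact Proj.awayι_comp_map β hβ hd s hs

theorem mapTo_comp_awayMap' (φ : 𝒜 →+*ᵍ ℬ) (φ' : 𝒜' →+*ᵍ ℬ') (α : 𝒜 →+*ᵍ 𝒜') (β : ℬ →+*ᵍ ℬ')
    (hsq : ∀ a, β (φ a) = φ' (α a)) {d : ℕ} {f : A} (hf : f ∈ 𝒜 d) :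
    (mapTo β (hsq f)).comp (Away.map φ f) = (Away.map φ' (α f)).comp (Away.map α f) := by
  ext a
  obtain ⟨n, a, ha, rfl⟩ := a.mk_surjective _ hf
  simp only [RingHom.comp_apply]
  rw [Away.map_mk, val_mapTo_mk, Away.map_mk, Away.map_mk, Away.val_mk, hsq]

variable {φ : 𝒜 →+*ᵍ ℬ} {φ' : 𝒜' →+*ᵍ ℬ'} {α : 𝒜 →+*ᵍ 𝒜'} {β : ℬ →+*ᵍ ℬ'}
  (hsq : ∀ a, β (φ a) = φ' (α a)) (hα : 𝒜'₊ ≤ 𝒜₊.map α) (hβ : ℬ'₊ ≤ ℬ₊.map β)
  {X X' : Scheme.{u}} {j : X ⟶ Proj ℬ} [IsOpenImmersion j] {j' : X' ⟶ Proj ℬ'}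
  [IsOpenImmersion j'] (hj : IsDomOf φ j) (hj' : IsDomOf φ' j')
  {p : X ⟶ Proj 𝒜} {p' : X' ⟶ Proj 𝒜'} (hp : IsPMap φ j p) (hp' : IsPMap φ' j' p')
  {k : X' ⟶ X} (hk : k ≫ j = j' ≫ Proj.map β hβ)

include hsq hα hj hj' hp hp' hk in
theorem pmap_natural : k ≫ p = p' ≫ Proj.map α hα := by
  refine hom_ext_of_openImmersions _ _ fun x' => ?_
  -- find a chart of `X'` at an element of the form `α f`
  obtain ⟨d', f', hd', hf', hx'⟩ := (hj' (j'.base x')).mp ⟨x', rfl⟩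
  let 𝔮 : ProjectiveSpectrum ℬ' := j'.base x'
  have hf'irr : f' ∈ (𝒜'₊).toIdeal := HomogeneousIdeal.mem_irrelevant_of_mem _ hd' hf'
  have hex : ∃ (d : ℕ) (f : A), 0 < d ∧ f ∈ 𝒜 d ∧ φ' (α f) ∉ 𝔮.asHomogeneousIdeal.toIdeal := by
    by_contra hcon
    push Not at hcon
    apply hx'
    have hle : (𝒜₊.map α).toIdeal ≤ (𝔮.asHomogeneousIdeal.toIdeal).comap (φ' : A' →+* B') := by
      change Ideal.map α (𝒜₊).toIdeal ≤ _
      rw [Ideal.map_le_iff_le_comap]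
      intro a ha
      by_contra hna
      obtain ⟨d, a', hd, ha', hn⟩ := exists_homogeneous_not_mem (φ'.comp α)
        𝔮.asHomogeneousIdeal.toIdeal ha hna
      exact hn (hcon d a' hd ha')
    exact hle (hα hf'irr)
  obtain ⟨d, f, hd, hf, hfx⟩ := hex
  have hαf : α f ∈ 𝒜' d := Graded.map_mem α hf
  refine ⟨_, chartX hj' hαf hd, inferInstance, ?_, ?_⟩
  · rw [range_chartX]
    exact hfx
  · have h1 : chartX hj' hαf hd ≫ k =
        Spec.map (CommRingCat.ofHom (mapTo β (hsq f))) ≫ chartX hj hf hd := by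
      rw [← cancel_mono j, Category.assoc, hk, chartX_fac_assoc, Category.assoc, chartX_fac]
      exact awayι_comp_map_of_eq β hβ hd (Graded.map_mem φ hf) (hsq f) _
    rw [reassoc_of% h1, hp.chartX_comp hj hf hd, reassoc_of% (hp'.chartX_comp hj' hαf hd),
      Proj.awayι_comp_map α hα hd f hf, ← Spec.map_comp_assoc, ← Spec.map_comp_assoc,
      ← CommRingCat.ofHom_comp, ← CommRingCat.ofHom_comp, mapTo_comp_awayMap' φ φ' α β hsq hf]

end LemmaC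


section Glue

variable {S : Scheme.{u}} {𝒜 ℬ : RelProj.QCGrAlg S}
  {φ : 𝒜.toQCAlg ⟶ ℬ.toQCAlg} {hφ : RelProj.IsGradedHom φ}
  {PA PB : Scheme.{u}} {pA : PA ⟶ S} {pB : PB ⟶ S}
  {chartA : ∀ (U : S.Opens) (hU : IsAffineOpen U),
    ((pA ⁻¹ᵁ U : PA.Opens) : Scheme.{u}) ≅ Proj (𝒜.deg U hU)}
  {chartB : ∀ (U : S.Opens) (hU : IsAffineOpen U),
    ((pB ⁻¹ᵁ U : PB.Opens) : Scheme.{u}) ≅ Proj (ℬ.deg U hU)}
  {G : PB.Opens}

theorem baseDom_range (chartB : ∀ (U : S.Opens) (hU : IsAffineOpen U),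
      ((pB ⁻¹ᵁ U : PB.Opens) : Scheme.{u}) ≅ Proj (ℬ.deg U hU)) (G : PB.Opens)
    (U : S.Opens) (hU : IsAffineOpen U) :
    Set.range (((G.ι ≫ pB) ⁻¹ᵁ U).ι ≫ G.ι).base ⊆ Set.range (RelProj.emb pB chartB U hU).base := by
  rintro _ ⟨x, rfl⟩
  have hx : (G.ι ≫ pB).base (((G.ι ≫ pB) ⁻¹ᵁ U).ι.base x) ∈ U := x.2
  exact exists_chart_point (chartB := chartB) U hU _ hx

/-- the open immersion `(G ∩ pB⁻¹ U) ⟶ Proj ℬ(U)` -/
noncomputable def baseDom (chartB : ∀ (U : S.Opens) (hU : IsAffineOpen U),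
      ((pB ⁻¹ᵁ U : PB.Opens) : Scheme.{u}) ≅ Proj (ℬ.deg U hU)) (G : PB.Opens)
    (U : S.Opens) (hU : IsAffineOpen U) :
    (((G.ι ≫ pB) ⁻¹ᵁ U : (G : Scheme.{u}).Opens) : Scheme.{u}) ⟶ Proj (ℬ.deg U hU) :=
  IsOpenImmersion.lift (RelProj.emb pB chartB U hU) (((G.ι ≫ pB) ⁻¹ᵁ U).ι ≫ G.ι)
    (baseDom_range chartB G U hU)

@[reassoc]
theorem baseDom_emb (U : S.Opens) (hU : IsAffineOpen U) :
    baseDom chartB G U hU ≫ RelProj.emb pB chartB U hU = ((G.ι ≫ pB) ⁻¹ᵁ U).ι ≫ G.ι :=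
  IsOpenImmersion.lift_fac _ _ _

instance (U : S.Opens) (hU : IsAffineOpen U) : IsOpenImmersion (baseDom chartB G U hU) := by
  have : IsOpenImmersion (baseDom chartB G U hU ≫ RelProj.emb pB chartB U hU) := by
    rw [baseDom_emb]; infer_instance
  exact IsOpenImmersion.of_comp _ (RelProj.emb pB chartB U hU)

variable (hG : ∀ (U : S.Opens) (hU : IsAffineOpen U),
    G ⊓ pB ⁻¹ᵁ U = domPiece φ hφ chartB U hU)

include hG in
theorem isDomOf_baseDom (U : S.Opens) (hU : IsAffineOpen U) :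
    IsDomOf (ψAt φ hφ U hU) (baseDom chartB G U hU) := by
  intro z
  rw [← mem_domOpen_iff]
  constructor
  · rintro ⟨x, rfl⟩
    have h1 : (RelProj.emb pB chartB U hU).base ((baseDom chartB G U hU).base x) ∈
        G ⊓ pB ⁻¹ᵁ U := by
      rw [← Scheme.Hom.comp_apply, baseDom_emb, Scheme.Hom.comp_apply]
      exact ⟨(((G.ι ≫ pB) ⁻¹ᵁ U).ι.base x).2, x.2⟩
    rw [hG U hU] at h1
    obtain ⟨z', hz', hzz⟩ := h1
    rw [← (RelProj.emb pB chartB U hU).isOpenEmbedding.injective hzz]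
    exact hz'
  · intro hz
    have h1 : (RelProj.emb pB chartB U hU).base z ∈ G ⊓ pB ⁻¹ᵁ U := by
      rw [hG U hU]
      exact ⟨z, hz, rfl⟩
    let x' : (G : Scheme.{u}) := ⟨_, h1.1⟩
    have hx' : x' ∈ (G.ι ≫ pB) ⁻¹ᵁ U := h1.2
    let x'' : (((G.ι ≫ pB) ⁻¹ᵁ U : (G : Scheme.{u}).Opens) : Scheme.{u}) := ⟨x', hx'⟩
    refine ⟨x'', ?_⟩
    apply (RelProj.emb pB chartB U hU).isOpenEmbedding.injective
    rw [← Scheme.Hom.comp_apply, baseDom_emb]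
    rfl

/-- the ring-level partial morphism over `U` -/
noncomputable def basePMap (U : S.Opens) (hU : IsAffineOpen U) :
    (((G.ι ≫ pB) ⁻¹ᵁ U : (G : Scheme.{u}).Opens) : Scheme.{u}) ⟶ Proj (𝒜.deg U hU) :=
  (exists_isPMap (isDomOf_baseDom hG U hU)).choose

theorem isPMap_basePMap (U : S.Opens) (hU : IsAffineOpen U) :
    IsPMap (ψAt φ hφ U hU) (baseDom chartB G U hU) (basePMap hG U hU) :=
  (exists_isPMap (isDomOf_baseDom hG U hU)).choose_spec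

include hG in
theorem basePMap_compat (hA : RelProj.IsRelProj 𝒜 pA chartA) (hB : RelProj.IsRelProj ℬ pB chartB)
    (U : S.Opens) (hU : IsAffineOpen U) (r : Γ(S, U)) :
    (G : Scheme.{u}).homOfLE ((G.ι ≫ pB).preimage_mono (S.basicOpen_le r)) ≫
        basePMap hG U hU ≫ RelProj.emb pA chartA U hU =
      basePMap hG (S.basicOpen r) (hU.basicOpen r) ≫
        RelProj.emb pA chartA (S.basicOpen r) (hU.basicOpen r) := by
  rw [← RelProj.map_res_emb hA U hU r]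
  have hk : (G : Scheme.{u}).homOfLE ((G.ι ≫ pB).preimage_mono (S.basicOpen_le r)) ≫
      baseDom chartB G U hU = baseDom chartB G (S.basicOpen r) (hU.basicOpen r) ≫
        Proj.map (ℬ.res hU (hU.basicOpen r) (S.basicOpen_le r)) (ℬ.irrelevant_le_map U hU r) := by
    rw [← cancel_mono (RelProj.emb pB chartB U hU), Category.assoc, baseDom_emb,
      Scheme.homOfLE_ι_assoc, Category.assoc, RelProj.map_res_emb hB U hU r, baseDom_emb]
  have := pmap_natural (res_ψAt φ hφ hU (hU.basicOpen r) (S.basicOpen_le r))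
    (𝒜.irrelevant_le_map U hU r) (ℬ.irrelevant_le_map U hU r)
    (isDomOf_baseDom hG U hU) (isDomOf_baseDom hG (S.basicOpen r) (hU.basicOpen r))
    (isPMap_basePMap hG U hU) (isPMap_basePMap hG (S.basicOpen r) (hU.basicOpen r)) hk
  rw [reassoc_of% this]

include hG in
theorem exists_partial (hA : RelProj.IsRelProj 𝒜 pA chartA) (hB : RelProj.IsRelProj ℬ pB chartB) :
    ∃ Φ : (G : Scheme.{u}) ⟶ PA, IsQMapOnDiag φ hφ chartA chartB G Φ := by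
  obtain ⟨Φ, hΦ⟩ := exists_glue (G.ι ≫ pB)
    (fun U => basePMap hG U.1 U.2 ≫ RelProj.emb pA chartA U.1 U.2)
    (fun V r => basePMap_compat hG hA hB V.1 V.2 r)
  refine ⟨Φ, ?_⟩
  intro U hU d hd f hf c hc
  have hrange : Set.range c.base ⊆ Set.range ((G.ι ≫ pB) ⁻¹ᵁ U).ι.base := by
    rw [Scheme.Opens.range_ι]
    rintro _ ⟨w, rfl⟩
    change (G.ι ≫ pB).base (c.base w) ∈ U
    rw [← Scheme.Hom.comp_apply, ← Category.assoc, hc, Category.assoc, Scheme.Hom.comp_apply,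
      Scheme.Hom.comp_apply]
    exact emb_mem_preimage chartB U hU _
  let c' := IsOpenImmersion.lift ((G.ι ≫ pB) ⁻¹ᵁ U).ι c hrange
  have hc' : c' ≫ ((G.ι ≫ pB) ⁻¹ᵁ U).ι = c := IsOpenImmersion.lift_fac _ _ _
  have hcj : c' ≫ baseDom chartB G U hU = Proj.awayι (ℬ.deg U hU) (ψAt φ hφ U hU f)
      (Graded.map_mem (ψAt φ hφ U hU) hf) hd := by
    rw [← cancel_mono (RelProj.emb pB chartB U hU), Category.assoc, baseDom_emb,
      reassoc_of% hc', hc]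
  have h1 := isPMap_basePMap hG U hU d f hd hf c' hcj
  rw [← hc', Category.assoc, hΦ ⟨U, hU⟩, reassoc_of% h1]

end Glue


section Retraction

variable {A B σ τ : Type u} [CommRing A] [SetLike σ A] [AddSubgroupClass σ A]
  [CommRing B] [SetLike τ B] [AddSubgroupClass τ B]
  {𝒜 : ℕ → σ} {ℬ : ℕ → τ} [GradedRing 𝒜] [GradedRing ℬ]

theorem specMap_awayMap_of_eq_id (χ : 𝒜 →+*ᵍ 𝒜) (hχ : χ = GradedRingHom.id 𝒜) {d : ℕ} {f : A}
    (hf : f ∈ 𝒜 d) (hd : 0 < d) :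
    Spec.map (CommRingCat.ofHom (Away.map χ f)) ≫ Proj.awayι 𝒜 f hf hd =
      Proj.awayι 𝒜 (χ f) (Graded.map_mem χ hf) hd := by
  subst hχ
  rw [Away.map_id]
  change Spec.map (𝟙 _) ≫ _ = _
  rw [Spec.map_id, Category.id_comp]
  rfl

theorem isIso_specMap_awayMap_of_eq_id (χ : 𝒜 →+*ᵍ 𝒜) (hχ : χ = GradedRingHom.id 𝒜) (f : A) :
    IsIso (Spec.map (CommRingCat.ofHom (Away.map χ f))) := by
  subst hχ
  rw [Away.map_id]
  change IsIso (Spec.map (𝟙 _))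
  infer_instance

/-- `Spec` of `Away.map ψ f` is surjective when `ψ` has a graded retraction -/
theorem surjective_specMap_awayMap_of_retraction (ψ : 𝒜 →+*ᵍ ℬ) (θ : ℬ →+*ᵍ 𝒜)
    (h : ∀ a, θ (ψ a) = a) (f : A) :
    Surjective (Spec.map (CommRingCat.ofHom (Away.map ψ f))) := by
  have hχ : θ.comp ψ = GradedRingHom.id 𝒜 := by
    ext a; exact h a
  have h1 := isIso_specMap_awayMap_of_eq_id (θ.comp ψ) hχ f
  rw [Away.map_comp] at h1
  change IsIso (Spec.map (CommRingCat.ofHom (Away.map ψ f) ≫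
    CommRingCat.ofHom (Away.map θ (ψ f)))) at h1
  rw [Spec.map_comp] at h1
  exact Surjective.of_comp (Spec.map (CommRingCat.ofHom (Away.map θ (ψ f)))) _

end Retraction

section Uniq

variable {S : Scheme.{u}} {𝒜 ℬ : RelProj.QCGrAlg S}
  {φ : 𝒜.toQCAlg ⟶ ℬ.toQCAlg} {hφ : RelProj.IsGradedHom φ}
  {PA PB : Scheme.{u}} {pA : PA ⟶ S} {pB : PB ⟶ S}
  {chartA : ∀ (U : S.Opens) (hU : IsAffineOpen U),
    ((pA ⁻¹ᵁ U : PA.Opens) : Scheme.{u}) ≅ Proj (𝒜.deg U hU)}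
  {chartB : ∀ (U : S.Opens) (hU : IsAffineOpen U),
    ((pB ⁻¹ᵁ U : PB.Opens) : Scheme.{u}) ≅ Proj (ℬ.deg U hU)}
  {G : PB.Opens}
  (hG : ∀ (U : S.Opens) (hU : IsAffineOpen U),
    G ⊓ pB ⁻¹ᵁ U = domPiece φ hφ chartB U hU)

include hG in
theorem partial_unique {Φ Φ' : (G : Scheme.{u}) ⟶ PA}
    (h : IsQMapOnDiag φ hφ chartA chartB G Φ) (h' : IsQMapOnDiag φ hφ chartA chartB G Φ') :
    Φ = Φ' := by
  refine hom_ext_of_openImmersions _ _ fun x => ?_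
  obtain ⟨U, hU, d, hd, f, hf, c, hc, hx⟩ := exists_chart_of_mem hG x
  have hci : IsOpenImmersion c := by
    have : IsOpenImmersion (c ≫ G.ι) := by rw [hc]; infer_instance
    exact IsOpenImmersion.of_comp c G.ι
  exact ⟨_, c, hci, hx, by rw [h U hU d hd f hf c hc, h' U hU d hd f hf c hc]⟩

end Uniq


section RelRetraction

variable {S : Scheme.{u}} {𝒜 ℬ : RelProj.QCGrAlg S}
  {φ : 𝒜.toQCAlg ⟶ ℬ.toQCAlg} {hφ : RelProj.IsGradedHom φ}
  {PA PB : Scheme.{u}} {pA : PA ⟶ S} {pB : PB ⟶ S}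
  {chartA : ∀ (U : S.Opens) (hU : IsAffineOpen U),
    ((pA ⁻¹ᵁ U : PA.Opens) : Scheme.{u}) ≅ Proj (𝒜.deg U hU)}
  {chartB : ∀ (U : S.Opens) (hU : IsAffineOpen U),
    ((pB ⁻¹ᵁ U : PB.Opens) : Scheme.{u}) ≅ Proj (ℬ.deg U hU)}
  {G : PB.Opens}
  (hG : ∀ (U : S.Opens) (hU : IsAffineOpen U),
    G ⊓ pB ⁻¹ᵁ U = domPiece φ hφ chartB U hU)

include hG in
theorem exists_chart (U : S.Opens) (hU : IsAffineOpen U) (d : ℕ) (hd : 0 < d)
    (f : 𝒜.presheaf.obj (op U)) (hf : f ∈ 𝒜.deg U hU d) :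
    ∃ c : Spec (CommRingCat.of (Away (ℬ.deg U hU) (ψAt φ hφ U hU f))) ⟶ (G : Scheme.{u}),
      c ≫ G.ι = Proj.awayι (ℬ.deg U hU) (ψAt φ hφ U hU f)
        (Graded.map_mem (ψAt φ hφ U hU) hf) hd ≫ RelProj.emb pB chartB U hU := by
  have hrange : Set.range (Proj.awayι (ℬ.deg U hU) (ψAt φ hφ U hU f)
      (Graded.map_mem (ψAt φ hφ U hU) hf) hd ≫ RelProj.emb pB chartB U hU).base ⊆
      Set.range G.ι.base := by
    rw [Scheme.Opens.range_ι]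
    rintro _ ⟨w', rfl⟩
    have : (Proj.awayι (ℬ.deg U hU) (ψAt φ hφ U hU f)
        (Graded.map_mem (ψAt φ hφ U hU) hf) hd ≫ RelProj.emb pB chartB U hU).base w' ∈
        domPiece φ hφ chartB U hU := by
      refine ⟨_, (mem_domOpen_iff _ _).mpr ⟨d, f, hd, hf, ?_⟩, rfl⟩
      rw [← Proj.opensRange_awayι (ℬ.deg U hU) _ (Graded.map_mem (ψAt φ hφ U hU) hf) hd]
      exact ⟨w', rfl⟩
    rw [← hG U hU] at this
    exact this.1
  exact ⟨IsOpenImmersion.lift G.ι _ hrange, IsOpenImmersion.lift_fac _ _ _⟩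

include hG in
theorem partial_retraction {Φ : (G : Scheme.{u}) ⟶ PA}
    (hΦ : IsQMapOnDiag φ hφ chartA chartB G Φ)
    (θ : ℬ.toQCAlg ⟶ 𝒜.toQCAlg) (hθ : RelProj.IsGradedHom θ) (hφθ : φ ≫ θ = 𝟙 _)
    (hirr : ∀ (U : S.Opens) (hU : IsAffineOpen U),
      (𝒜.deg U hU)₊ ≤ ((ℬ.deg U hU)₊).map (RelProj.gradedHomAt θ hθ U hU))
    (j : PA ⟶ PB) (hj : RelProj.IsRelProjMap θ hθ hirr chartB chartA j)
    (j' : PA ⟶ (G : Scheme.{u})) (hj' : j' ≫ G.ι = j) : j' ≫ Φ = 𝟙 PA := by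
  refine hom_ext_of_openImmersions _ _ fun y => ?_
  obtain ⟨_, ⟨U, hU, rfl⟩, hyU, -⟩ := S.isBasis_affineOpens.exists_subset_of_mem_open
    (Set.mem_univ (pA.base y)) isOpen_univ
  replace hU : IsAffineOpen U := hU
  obtain ⟨x, hx⟩ := exists_chart_point (chartB := chartA) U hU y hyU
  have hxcov := (iSup_basicOpen_pos_eq_top (𝒜.deg U hU)).ge (Set.mem_univ x)
  obtain ⟨⟨d, f⟩, hxf⟩ := Opens.mem_iSup.mp hxcov
  have hd : 0 < (d : ℕ) := d.2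
  have hf : (f : 𝒜.presheaf.obj (op U)) ∈ 𝒜.deg U hU d := f.2
  let ψ := ψAt φ hφ U hU
  let θU := RelProj.gradedHomAt θ hθ U hU
  have hθψ : ∀ a, θU (ψ a) = a := by
    intro a
    change (θ.hom.app (op U)).hom (ψAt φ hφ U hU a) = a
    rw [ψAt_apply]
    exact congr_arg (fun t => (t.hom.app (op U)).hom a) hφθ
  have hχ : θU.comp ψ = GradedRingHom.id (𝒜.deg U hU) := by
    ext a; exact hθψ a
  have hψf : ψ (f : 𝒜.presheaf.obj (op U)) ∈ ℬ.deg U hU d := Graded.map_mem ψ hf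
  obtain ⟨c, hc⟩ := exists_chart hG U hU d hd (f : 𝒜.presheaf.obj (op U)) hf
  have hembj : RelProj.emb pA chartA U hU ≫ j =
      Proj.map θU (hirr U hU) ≫ RelProj.emb pB chartB U hU := by
    rw [RelProj.emb, Category.assoc, hj U hU, Iso.inv_hom_id_assoc]
    rfl
  refine ⟨_, Proj.awayι (𝒜.deg U hU) (θU (ψ (f : 𝒜.presheaf.obj (op U))))
    (Graded.map_mem θU hψf) hd ≫ RelProj.emb pA chartA U hU, inferInstance, ?_, ?_⟩
  · have : x ∈ (Proj.awayι (𝒜.deg U hU) (θU (ψ (f : 𝒜.presheaf.obj (op U))))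
        (Graded.map_mem θU hψf) hd).opensRange := by
      rw [Proj.opensRange_awayι, hθψ]
      exact hxf
    obtain ⟨w, hw⟩ := this
    exact ⟨w, by rw [Scheme.Hom.comp_apply, hw, hx]⟩
  · have h1 : (Proj.awayι (𝒜.deg U hU) (θU (ψ (f : 𝒜.presheaf.obj (op U))))
        (Graded.map_mem θU hψf) hd ≫ RelProj.emb pA chartA U hU) ≫ j' =
        Spec.map (CommRingCat.ofHom (Away.map θU (ψ (f : 𝒜.presheaf.obj (op U))))) ≫ c := by
      rw [← cancel_mono G.ι, Category.assoc, Category.assoc, hj', hembj,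
        Proj.awayι_comp_map_assoc θU (hirr U hU) hd _ hψf, Category.assoc, hc]
    rw [Category.comp_id, ← Category.assoc, h1, Category.assoc, hΦ U hU d hd _ hf c hc,
      ← Spec.map_comp_assoc, ← CommRingCat.ofHom_comp]
    have h2 := specMap_awayMap_of_eq_id (θU.comp ψ) hχ hf hd
    rw [Away.map_comp] at h2
    rw [← Category.assoc]
    exact congr_arg (· ≫ RelProj.emb pA chartA U hU) h2

end RelRetraction


section PointedCone

variable {S : Scheme.{u}} {𝒜 ℬ : RelProj.QCGrAlg S}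
  (φ : 𝒜.toQCAlg ⟶ ℬ.toQCAlg) (hφ : RelProj.IsGradedHom φ)
  {PB : Scheme.{u}} {pB : PB ⟶ S}
  {chartB : ∀ (U : S.Opens) (hU : IsAffineOpen U),
    ((pB ⁻¹ᵁ U : PB.Opens) : Scheme.{u}) ≅ Proj (ℬ.deg U hU)}

theorem iSup_gradedHomAt_eq_iSup_domPiece :
    (⨆ U : S.affineOpens, (RelProj.emb pB chartB U.1 U.2) ''ᵁ
        RelCone.domOpen (RelProj.gradedHomAt φ hφ U.1 U.2)) =
      ⨆ U : S.affineOpens, domPiece φ hφ chartB U.1 U.2 :=
  iSup_congr fun U => (domPiece_eq_gradedHomAt U.1 U.2).symm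

theorem iSup_gradedHomAt_inf_preimage (hB : RelProj.IsRelProj ℬ pB chartB)
    (U : S.Opens) (hU : IsAffineOpen U) :
    (⨆ U : S.affineOpens, (RelProj.emb pB chartB U.1 U.2) ''ᵁ
        RelCone.domOpen (RelProj.gradedHomAt φ hφ U.1 U.2)) ⊓ pB ⁻¹ᵁ U =
      domPiece φ hφ chartB U hU := by
  rw [iSup_gradedHomAt_eq_iSup_domPiece]
  apply le_antisymm
  · rintro x ⟨hx, hxU⟩
    obtain ⟨V, hxV⟩ := Opens.mem_iSup.mp hx
    exact domPiece_inf_preimage_le φ hφ hB U hU V.1 V.2 ⟨hxV, hxU⟩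
  · exact le_inf (le_iSup (fun U : S.affineOpens => domPiece φ hφ chartB U.1 U.2) ⟨U, hU⟩)
      (domPiece_le_preimage φ hφ chartB U hU)

theorem pointedProjCone_inf_preimage {𝒮 𝒮h : RelProj.QCGrAlg S} {ι : 𝒮.toQCAlg ⟶ 𝒮h.toQCAlg}
    {z : 𝒮h.presheaf.obj (op ⊤)} (hz : RelCone.IsPolyOver 𝒮 𝒮h ι z)
    {PC : Scheme.{u}} {pC : PC ⟶ S}
    {chartC : ∀ (U : S.Opens) (hU : IsAffineOpen U),
      ((pC ⁻¹ᵁ U : PC.Opens) : Scheme.{u}) ≅ Proj (𝒮h.deg U hU)}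
    (hPC : RelProj.IsRelProj 𝒮h pC chartC) (U : S.Opens) (hU : IsAffineOpen U) :
    RelCone.pointedProjCone 𝒮 hz pC chartC ⊓ pC ⁻¹ᵁ U = domPiece ι hz.graded chartC U hU :=
  iSup_gradedHomAt_inf_preimage ι hz.graded hPC U hU

end PointedCone


section Convert

variable {S : Scheme.{u}} {𝒜 ℬ : RelProj.QCGrAlg S}
  {φ : 𝒜.toQCAlg ⟶ ℬ.toQCAlg} {hφ : RelProj.IsGradedHom φ}
  {PA PB : Scheme.{u}} {pA : PA ⟶ S} {pB : PB ⟶ S}
  {chartA : ∀ (U : S.Opens) (hU : IsAffineOpen U),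
    ((pA ⁻¹ᵁ U : PA.Opens) : Scheme.{u}) ≅ Proj (𝒜.deg U hU)}
  {chartB : ∀ (U : S.Opens) (hU : IsAffineOpen U),
    ((pB ⁻¹ᵁ U : PB.Opens) : Scheme.{u}) ≅ Proj (ℬ.deg U hU)}
  {G : PB.Opens} {Φ : (G : Scheme.{u}) ⟶ PA}

theorem ψAt_eq_gradedHomAt (U : S.Opens) (hU : IsAffineOpen U) :
    ψAt φ hφ U hU = RelProj.gradedHomAt φ hφ U hU :=
  DFunLike.ext _ _ (ψAt_apply φ hφ U hU)

/-- the chart condition for a family of graded homomorphisms -/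
def IsChartCond (Ψ : ∀ (U : S.Opens) (hU : IsAffineOpen U), 𝒜.deg U hU →+*ᵍ ℬ.deg U hU)
    (chartA : ∀ (U : S.Opens) (hU : IsAffineOpen U),
      ((pA ⁻¹ᵁ U : PA.Opens) : Scheme.{u}) ≅ Proj (𝒜.deg U hU))
    (chartB : ∀ (U : S.Opens) (hU : IsAffineOpen U),
      ((pB ⁻¹ᵁ U : PB.Opens) : Scheme.{u}) ≅ Proj (ℬ.deg U hU))
    (G : PB.Opens) (Φ : (G : Scheme.{u}) ⟶ PA) : Prop :=
  ∀ (U : S.Opens) (hU : IsAffineOpen U) (d : ℕ) (hd : 0 < d) (f : 𝒜.presheaf.obj (op U))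
    (hf : f ∈ 𝒜.deg U hU d)
    (c : Spec (CommRingCat.of (Away (ℬ.deg U hU) (Ψ U hU f))) ⟶ (G : Scheme.{u})),
    c ≫ G.ι = Proj.awayι (ℬ.deg U hU) (Ψ U hU f) ((Ψ U hU).2 hf) hd ≫
        RelProj.emb pB chartB U hU →
      c ≫ Φ = Spec.map (CommRingCat.ofHom (Away.map (Ψ U hU) f)) ≫
        Proj.awayι (𝒜.deg U hU) f hf hd ≫ RelProj.emb pA chartA U hU

theorem isQMapOnDiag_iff_isChartCond :
    IsQMapOnDiag φ hφ chartA chartB G Φ ↔
      IsChartCond (fun U hU => RelProj.gradedHomAt φ hφ U hU) chartA chartB G Φ := by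
  have e : (fun U hU => ψAt φ hφ U hU) = fun U hU => RelProj.gradedHomAt φ hφ U hU := by
    funext U hU
    exact ψAt_eq_gradedHomAt U hU
  rw [← e]
  rfl

end Convert


section PolyRetraction

variable {A B σ τ : Type u} [CommRing A] [SetLike σ A] [AddSubgroupClass σ A]
  [CommRing B] [SetLike τ B] [AddSubgroupClass τ B]
  {𝒜 : ℕ → σ} {ℬ : ℕ → τ} [GradedRing 𝒜] [GradedRing ℬ]

/-- If `B = A[z]` with `z` of degree one, `ψ : A → B` has a graded retraction (`z ↦ 0`). -/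
theorem exists_graded_retraction (ψ : 𝒜 →+*ᵍ ℬ) {z : B} (hz : z ∈ ℬ 1)
    (hbij : Function.Bijective (Polynomial.eval₂RingHom (ψ : A →+* B) z)) :
    ∃ θ : ℬ →+*ᵍ 𝒜, ∀ a, θ (ψ a) = a := by
  let e : Polynomial A ≃+* B := RingEquiv.ofBijective _ hbij
  let θ₀ : B →+* A := (Polynomial.evalRingHom 0).comp e.symm.toRingHom
  have hθ₀ : ∀ p : Polynomial A, θ₀ (Polynomial.eval₂ (ψ : A →+* B) z p) = p.coeff 0 := by
    intro p
    have : e p = Polynomial.eval₂ (ψ : A →+* B) z p := rfl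
    rw [← this]
    change Polynomial.eval 0 (e.symm (e p)) = _
    rw [RingEquiv.symm_apply_apply, Polynomial.coeff_zero_eq_eval_zero]
  refine ⟨{ θ₀ with map_mem := ?_ }, ?_⟩
  · intro n b hb
    obtain ⟨p, rfl⟩ := hbij.2 b
    change Polynomial.eval₂ (ψ : A →+* B) z p ∈ ℬ n at hb
    change θ₀ (Polynomial.eval₂ (ψ : A →+* B) z p) ∈ 𝒜 n
    rw [hθ₀]
    exact (Groth.Agent.Lib.Helper27PolyGraded.coeff_mem ψ hz hbij.1 p hb 0).1 (Nat.zero_le n)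
  · intro a
    change θ₀ (ψ a) = a
    have : Polynomial.eval₂ (ψ : A →+* B) z (Polynomial.C a) = ψ a := Polynomial.eval₂_C _ _
    rw [← this, hθ₀, Polynomial.coeff_C_zero]

end PolyRetraction

end Groth.Agent.Helper13RelProj
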