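import Mathlib
import Groth.Agent.Lib.Helper13ProjGlue

set_option autoImplicit false

namespace Groth.Agent.Helper13RelProj

open CategoryTheory CategoryTheory.Limits AlgebraicGeometry Opposite TopologicalSpace
open HomogeneousLocalization
open scoped HomogeneousIdeal

universe u

/-- Glue morphisms defined on a jointly surjective family of open immersions, compatible after
refinement. -/
theorem exists_glue_of_refinement {X Z : Scheme.{u}} {ι : Type*} (C : ι → Scheme.{u})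
    (c : ∀ i, C i ⟶ X) [∀ i, IsOpenImmersion (c i)]
    (hcov : ∀ x : X, ∃ i, x ∈ Set.range (c i).base)
    (m : ∀ i, C i ⟶ Z)
    (compat : ∀ (i j : ι) (x : X), x ∈ Set.range (c i).base → x ∈ Set.range (c j).base →
      ∃ (k : ι) (ti : C k ⟶ C i) (tj : C k ⟶ C j), x ∈ Set.range (c k).base ∧
        ti ≫ c i = c k ∧ tj ≫ c j = c k ∧ ti ≫ m i = m k ∧ tj ≫ m j = m k) :
    ∃ M : X ⟶ Z, ∀ i, c i ≫ M = m i := by
  have H : ∀ i j : ι, pullback.fst (c i) (c j) ≫ m i = pullback.snd (c i) (c j) ≫ m j := by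
    intro i j
    refine Scheme.hom_ext_of_forall _ _ fun q => ?_
    have hqi : (pullback.fst (c i) (c j) ≫ c i).base q ∈ Set.range (c i).base :=
      ⟨(pullback.fst (c i) (c j)).base q, rfl⟩
    have hqj : (pullback.fst (c i) (c j) ≫ c i).base q ∈ Set.range (c j).base := by
      rw [pullback.condition]
      exact ⟨(pullback.snd (c i) (c j)).base q, rfl⟩
    obtain ⟨k, ti, tj, hk, hti, htj, hmi, hmj⟩ := compat i j _ hqi hqj
    let U : (pullback (c i) (c j)).Opens := (pullback.fst (c i) (c j) ≫ c i) ⁻¹ᵁ (c k).opensRange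
    have hrange : Set.range (U.ι ≫ pullback.fst (c i) (c j) ≫ c i).base ⊆ Set.range (c k).base := by
      rintro _ ⟨w, rfl⟩
      exact w.2
    let t : (U : Scheme.{u}) ⟶ C k := IsOpenImmersion.lift (c k) _ hrange
    have ht : t ≫ c k = U.ι ≫ pullback.fst (c i) (c j) ≫ c i := IsOpenImmersion.lift_fac _ _ _
    have h1 : U.ι ≫ pullback.fst (c i) (c j) = t ≫ ti := by
      rw [← cancel_mono (c i), Category.assoc, Category.assoc, hti, ht]
    have h2 : U.ι ≫ pullback.snd (c i) (c j) = t ≫ tj := by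
      rw [← cancel_mono (c j), Category.assoc, Category.assoc, htj, ht, pullback.condition]
    refine ⟨U, hk, ?_⟩
    rw [reassoc_of% h1, reassoc_of% h2, hmi, hmj]
  let 𝒰 : X.OpenCover := Scheme.Cover.mkOfCovers ι C c
    (fun x => by
      obtain ⟨i, y, hy⟩ := hcov x
      exact ⟨i, y, hy⟩) (fun i => inferInstance)
  exact ⟨𝒰.glueMorphisms m H, fun i => 𝒰.ι_glueMorphisms m H i⟩

section QPairs

variable {Y Y' : Scheme.{u}}

/-- an affine pair: affine opens `U ⊆ Y`, `U' ⊆ g⁻¹ U` -/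
structure APair (g : Y' ⟶ Y) where
  U : Y.Opens
  hU : IsAffineOpen U
  U' : Y'.Opens
  hU' : IsAffineOpen U'
  hle : U' ≤ g ⁻¹ᵁ U

variable {g : Y' ⟶ Y} {𝒮 : RelProj.QCGrAlg Y} {𝒮' : RelProj.QCGrAlg Y'}
  (u : RelProj.QGrHom g 𝒮 𝒮')

/-- the graded homomorphism over an affine pair -/
noncomputable abbrev φV (V : APair g) : 𝒮.deg V.U V.hU →+*ᵍ 𝒮'.deg V.U' V.hU' :=
  u.gradedAt V.U V.hU V.U' V.hU' V.hle

theorem res_gradedAt {U : Y.Opens} (hU : IsAffineOpen U) {U' W' : Y'.Opens}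
    (hU' : IsAffineOpen U') (hW' : IsAffineOpen W') (hle : U' ≤ g ⁻¹ᵁ U) (i' : W' ≤ U')
    (a : 𝒮.presheaf.obj (op U)) :
    𝒮'.res hU' hW' i' (u.gradedAt U hU U' hU' hle a) =
      u.gradedAt U hU W' hW' (i'.trans hle) a := by
  simp only [RelProj.QGrHom.gradedAt_apply, RelProj.QCGrAlg.res_apply]
  exact congr_arg (fun t => t.hom a) (u.appLE_map hle i')

theorem gradedAt_res {U W : Y.Opens} (hU : IsAffineOpen U) (hW : IsAffineOpen W) (i : W ≤ U)
    {W' : Y'.Opens} (hW' : IsAffineOpen W') (hle : W' ≤ g ⁻¹ᵁ W) (a : 𝒮.presheaf.obj (op U)) :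
    u.gradedAt W hW W' hW' hle (𝒮.res hU hW i a) =
      u.gradedAt U hU W' hW' (hle.trans (g.preimage_mono i)) a := by
  simp only [RelProj.QGrHom.gradedAt_apply, RelProj.QCGrAlg.res_apply]
  exact congr_arg (fun t => t.hom a) (u.map_appLE i hle)

/-- shrink `U'` to a basic open -/
abbrev APair.shrink' (V : APair g) (r' : Γ(Y', V.U')) : APair g :=
  ⟨V.U, V.hU, Y'.basicOpen r', V.hU'.basicOpen r', (Y'.basicOpen_le r').trans V.hle⟩

/-- shrink `U` to a basic open -/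
abbrev APair.shrink (V : APair g) (r : Γ(Y, V.U)) (h : V.U' ≤ g ⁻¹ᵁ (Y.basicOpen r)) : APair g :=
  ⟨Y.basicOpen r, V.hU.basicOpen r, V.U', V.hU', h⟩

theorem mem_domOpen_shrink'_iff (V : APair g) (r' : Γ(Y', V.U'))
    (z : Proj (𝒮'.deg (Y'.basicOpen r') (V.hU'.basicOpen r'))) :
    z ∈ RelCone.domOpen (φV u (V.shrink' r')) ↔
      (Proj.map (𝒮'.res V.hU' (V.hU'.basicOpen r') (Y'.basicOpen_le r'))
        (𝒮'.irrelevant_le_map V.U' V.hU' r')).base z ∈ RelCone.domOpen (φV u V) := by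
  rw [mem_domOpen_iff, mem_domOpen_iff]
  have key : ∀ f : 𝒮.presheaf.obj (op V.U),
      (z ∈ Proj.basicOpen _ (φV u (V.shrink' r') f) ↔
        (Proj.map (𝒮'.res V.hU' (V.hU'.basicOpen r') (Y'.basicOpen_le r'))
          (𝒮'.irrelevant_le_map V.U' V.hU' r')).base z ∈ Proj.basicOpen _ (φV u V f)) := by
    intro f
    change _ ↔ z ∈ (Proj.map (𝒮'.res V.hU' (V.hU'.basicOpen r') (Y'.basicOpen_le r'))
      (𝒮'.irrelevant_le_map V.U' V.hU' r')) ⁻¹ᵁ Proj.basicOpen _ (φV u V f)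
    rw [Proj.map_preimage_basicOpen, res_gradedAt]
  constructor
  · rintro ⟨d, f, hd, hf, hz⟩
    exact ⟨d, f, hd, hf, (key f).mp hz⟩
  · rintro ⟨d, f, hd, hf, hz⟩
    exact ⟨d, f, hd, hf, (key f).mpr hz⟩

theorem domOpen_shrink (V : APair g) (r : Γ(Y, V.U)) (h : V.U' ≤ g ⁻¹ᵁ (Y.basicOpen r)) :
    RelCone.domOpen (φV u (V.shrink r h)) = RelCone.domOpen (φV u V) := by
  ext z
  simp only [SetLike.mem_coe]
  constructor
  · intro hz
    rw [RelCone.mem_domOpen] at hz ⊢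
    obtain ⟨f', hf', hfz⟩ := hz
    by_contra hcon
    push Not at hcon
    apply hfz
    let 𝔮 : ProjectiveSpectrum (𝒮'.deg V.U' V.hU') := z
    have hle : ((𝒮.deg V.U V.hU)₊.map (𝒮.res V.hU (V.hU.basicOpen r) (Y.basicOpen_le r))).toIdeal ≤
        (𝔮.asHomogeneousIdeal.toIdeal).comap
          ((φV u (V.shrink r h)) : 𝒮.presheaf.obj (op (Y.basicOpen r)) →+* _) := by
      change Ideal.map (𝒮.res V.hU (V.hU.basicOpen r) (Y.basicOpen_le r))
        ((𝒮.deg V.U V.hU)₊).toIdeal ≤ _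
      rw [Ideal.map_le_iff_le_comap]
      intro a ha
      have := hcon a ha
      change φV u (V.shrink r h) (𝒮.res V.hU (V.hU.basicOpen r) (Y.basicOpen_le r) a) ∈
        𝔮.asHomogeneousIdeal.toIdeal
      rw [show φV u (V.shrink r h) (𝒮.res V.hU (V.hU.basicOpen r) (Y.basicOpen_le r) a) =
        φV u V a from gradedAt_res u V.hU (V.hU.basicOpen r) (Y.basicOpen_le r) V.hU' h a]
      exact this
    exact hle (𝒮.irrelevant_le_map V.U V.hU r hf')
  · intro hz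
    rw [mem_domOpen_iff] at hz ⊢
    obtain ⟨d, f, hd, hf, hfz⟩ := hz
    refine ⟨d, 𝒮.res V.hU (V.hU.basicOpen r) (Y.basicOpen_le r) f, hd,
      (𝒮.res V.hU (V.hU.basicOpen r) (Y.basicOpen_le r)).map_mem hf, ?_⟩
    rw [show φV u (V.shrink r h) (𝒮.res V.hU (V.hU.basicOpen r) (Y.basicOpen_le r) f) =
      φV u V f from gradedAt_res u V.hU (V.hU.basicOpen r) (Y.basicOpen_le r) V.hU' h f]
    exact hfz

end QPairs

section QPieces

variable {Y Y' : Scheme.{u}} {g : Y' ⟶ Y} {𝒮 : RelProj.QCGrAlg Y} {𝒮' : RelProj.QCGrAlg Y'}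
  (u : RelProj.QGrHom g 𝒮 𝒮')
  {P P' : Scheme.{u}} {p : P ⟶ Y}
  (chart : ∀ (U : Y.Opens) (hU : IsAffineOpen U),
    ((p ⁻¹ᵁ U : P.Opens) : Scheme.{u}) ≅ Proj (𝒮.deg U hU))
  {p' : P' ⟶ Y'}
  (chart' : ∀ (U' : Y'.Opens) (hU' : IsAffineOpen U'),
    ((p' ⁻¹ᵁ U' : P'.Opens) : Scheme.{u}) ≅ Proj (𝒮'.deg U' hU'))

theorem piece_range (V : APair g) :
    Set.range ((RelCone.domOpen (φV u V)).ι ≫ RelProj.emb p' chart' V.U' V.hU').base ⊆
      Set.range (RelProj.domQ u p' chart').ι.base := by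
  rw [Scheme.Opens.range_ι]
  rintro _ ⟨z, rfl⟩
  refine Opens.mem_iSup.mpr ⟨⟨(⟨V.U, V.hU⟩, ⟨V.U', V.hU'⟩), V.hle⟩, ?_⟩
  exact ⟨z.1, z.2, rfl⟩

/-- the piece of `G(u)` over an affine pair -/
noncomputable def pieceEmb (V : APair g) :
    ((RelCone.domOpen (φV u V) : (Proj (𝒮'.deg V.U' V.hU')).Opens) : Scheme.{u}) ⟶
      ((RelProj.domQ u p' chart' : P'.Opens) : Scheme.{u}) :=
  IsOpenImmersion.lift (RelProj.domQ u p' chart').ι _ (piece_range u chart' V)

@[reassoc]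
theorem pieceEmb_ι (V : APair g) :
    pieceEmb u chart' V ≫ (RelProj.domQ u p' chart').ι =
      (RelCone.domOpen (φV u V)).ι ≫ RelProj.emb p' chart' V.U' V.hU' :=
  IsOpenImmersion.lift_fac _ _ _

instance (V : APair g) : IsOpenImmersion (pieceEmb u chart' V) := by
  have : IsOpenImmersion (pieceEmb u chart' V ≫ (RelProj.domQ u p' chart').ι) := by
    rw [pieceEmb_ι]; infer_instance
  exact IsOpenImmersion.of_comp _ (RelProj.domQ u p' chart').ι

theorem mem_range_pieceEmb_iff (V : APair g)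
    (x : ((RelProj.domQ u p' chart' : P'.Opens) : Scheme.{u})) :
    x ∈ Set.range (pieceEmb u chart' V).base ↔
      ∃ z ∈ RelCone.domOpen (φV u V),
        (RelProj.emb p' chart' V.U' V.hU').base z = (RelProj.domQ u p' chart').ι.base x := by
  constructor
  · rintro ⟨w, rfl⟩
    refine ⟨w.1, w.2, ?_⟩
    rw [← Scheme.Hom.comp_apply, pieceEmb_ι]
    rfl
  · rintro ⟨z, hz, hzx⟩
    let w : ((RelCone.domOpen (φV u V) : (Proj (𝒮'.deg V.U' V.hU')).Opens) : Scheme.{u}) :=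
      ⟨z, hz⟩
    refine ⟨w, ?_⟩
    apply (RelProj.domQ u p' chart').ι.isOpenEmbedding.injective
    rw [← Scheme.Hom.comp_apply, pieceEmb_ι, ← hzx]
    rfl

theorem exists_piece (x : ((RelProj.domQ u p' chart' : P'.Opens) : Scheme.{u})) :
    ∃ V : APair g, x ∈ Set.range (pieceEmb u chart' V).base := by
  have hx : (RelProj.domQ u p' chart').ι.base x ∈ RelProj.domQ u p' chart' := x.2
  obtain ⟨⟨⟨⟨U, hU⟩, ⟨U', hU'⟩⟩, hle⟩, z, hz, hzx⟩ := Opens.mem_iSup.mp hx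
  exact ⟨⟨U, hU, U', hU', hle⟩, (mem_range_pieceEmb_iff u chart' _ x).mpr ⟨z, hz, hzx⟩⟩

/-- the ring-level partial morphism over an affine pair -/
noncomputable def piecePMap (V : APair g) :
    ((RelCone.domOpen (φV u V) : (Proj (𝒮'.deg V.U' V.hU')).Opens) : Scheme.{u}) ⟶
      Proj (𝒮.deg V.U V.hU) :=
  (exists_isPMap (isDomOf_domOpen (φV u V))).choose

theorem isPMap_piecePMap (V : APair g) :
    IsPMap (φV u V) (RelCone.domOpen (φV u V)).ι (piecePMap u V) :=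
  (exists_isPMap (isDomOf_domOpen (φV u V))).choose_spec

/-- the partial morphism over an affine pair, into `P` -/
noncomputable def pieceMap (V : APair g) :
    ((RelCone.domOpen (φV u V) : (Proj (𝒮'.deg V.U' V.hU')).Opens) : Scheme.{u}) ⟶ P :=
  piecePMap u V ≫ RelProj.emb p chart V.U V.hU

end QPieces

section QRefine

variable {Y Y' : Scheme.{u}} {g : Y' ⟶ Y} {𝒮 : RelProj.QCGrAlg Y} {𝒮' : RelProj.QCGrAlg Y'}
  (u : RelProj.QGrHom g 𝒮 𝒮')
  {P P' : Scheme.{u}} {p : P ⟶ Y}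
  {chart : ∀ (U : Y.Opens) (hU : IsAffineOpen U),
    ((p ⁻¹ᵁ U : P.Opens) : Scheme.{u}) ≅ Proj (𝒮.deg U hU)}
  {p' : P' ⟶ Y'}
  {chart' : ∀ (U' : Y'.Opens) (hU' : IsAffineOpen U'),
    ((p' ⁻¹ᵁ U' : P'.Opens) : Scheme.{u}) ≅ Proj (𝒮'.deg U' hU')}

theorem refine_shrink' (hP' : RelProj.IsRelProj 𝒮' p' chart') (V : APair g) (r' : Γ(Y', V.U')) :
    ∃ t : ((RelCone.domOpen (φV u (V.shrink' r')) :
        (Proj (𝒮'.deg (Y'.basicOpen r') (V.hU'.basicOpen r'))).Opens) : Scheme.{u}) ⟶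
        ((RelCone.domOpen (φV u V) : (Proj (𝒮'.deg V.U' V.hU')).Opens) : Scheme.{u}),
      t ≫ pieceEmb u chart' V = pieceEmb u chart' (V.shrink' r') ∧
      t ≫ pieceMap u chart V = pieceMap u chart (V.shrink' r') := by
  let β := 𝒮'.res V.hU' (V.hU'.basicOpen r') (Y'.basicOpen_le r')
  have hβ := 𝒮'.irrelevant_le_map V.U' V.hU' r'
  have hrange : Set.range ((RelCone.domOpen (φV u (V.shrink' r'))).ι ≫ Proj.map β hβ).base ⊆
      Set.range (RelCone.domOpen (φV u V)).ι.base := by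
    rw [Scheme.Opens.range_ι]
    rintro _ ⟨w, rfl⟩
    exact (mem_domOpen_shrink'_iff u V r' w.1).mp w.2
  let k := IsOpenImmersion.lift (RelCone.domOpen (φV u V)).ι _ hrange
  have hk : k ≫ (RelCone.domOpen (φV u V)).ι =
      (RelCone.domOpen (φV u (V.shrink' r'))).ι ≫ Proj.map β hβ := IsOpenImmersion.lift_fac _ _ _
  have hα : (𝒮.deg V.U V.hU)₊ ≤ ((𝒮.deg V.U V.hU)₊).map (GradedRingHom.id (𝒮.deg V.U V.hU)) := by
    simp
  have hnat := pmap_natural (φ := φV u V) (φ' := φV u (V.shrink' r'))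
    (α := GradedRingHom.id (𝒮.deg V.U V.hU)) (β := β)
    (fun a => res_gradedAt u V.hU V.hU' (V.hU'.basicOpen r') V.hle (Y'.basicOpen_le r') a)
    hα hβ (isDomOf_domOpen _) (isDomOf_domOpen _) (isPMap_piecePMap u V)
    (isPMap_piecePMap u (V.shrink' r')) hk
  refine ⟨k, ?_, ?_⟩
  · rw [← cancel_mono (RelProj.domQ u p' chart').ι, Category.assoc, pieceEmb_ι, pieceEmb_ι,
      reassoc_of% hk, RelProj.map_res_emb hP' V.U' V.hU' r']
  · unfold pieceMap
    rw [reassoc_of% hnat, Proj.map_id, Category.id_comp]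

theorem refine_shrink (hP : RelProj.IsRelProj 𝒮 p chart) (V : APair g) (r : Γ(Y, V.U))
    (h : V.U' ≤ g ⁻¹ᵁ (Y.basicOpen r)) :
    ∃ t : ((RelCone.domOpen (φV u (V.shrink r h)) :
        (Proj (𝒮'.deg V.U' V.hU')).Opens) : Scheme.{u}) ⟶
        ((RelCone.domOpen (φV u V) : (Proj (𝒮'.deg V.U' V.hU')).Opens) : Scheme.{u}),
      t ≫ pieceEmb u chart' V = pieceEmb u chart' (V.shrink r h) ∧
      t ≫ pieceMap u chart V = pieceMap u chart (V.shrink r h) := by
  let α := 𝒮.res V.hU (V.hU.basicOpen r) (Y.basicOpen_le r)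
  have hα := 𝒮.irrelevant_le_map V.U V.hU r
  let k := (Proj (𝒮'.deg V.U' V.hU')).homOfLE (le_of_eq (domOpen_shrink u V r h))
  have hβ : (𝒮'.deg V.U' V.hU')₊ ≤
      ((𝒮'.deg V.U' V.hU')₊).map (GradedRingHom.id (𝒮'.deg V.U' V.hU')) := by
    simp
  have hk : k ≫ (RelCone.domOpen (φV u V)).ι =
      (RelCone.domOpen (φV u (V.shrink r h))).ι ≫
        Proj.map (GradedRingHom.id (𝒮'.deg V.U' V.hU')) hβ := by
    rw [Proj.map_id, Category.comp_id, Scheme.homOfLE_ι]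
  have hnat := pmap_natural (φ := φV u V) (φ' := φV u (V.shrink r h))
    (α := α) (β := GradedRingHom.id (𝒮'.deg V.U' V.hU'))
    (fun a => (gradedAt_res u V.hU (V.hU.basicOpen r) (Y.basicOpen_le r) V.hU' h a).symm)
    hα hβ (isDomOf_domOpen _) (isDomOf_domOpen _) (isPMap_piecePMap u V)
    (isPMap_piecePMap u (V.shrink r h)) hk
  refine ⟨k, ?_, ?_⟩
  · rw [← cancel_mono (RelProj.domQ u p' chart').ι, Category.assoc, pieceEmb_ι, pieceEmb_ι,
      Scheme.homOfLE_ι_assoc]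
  · unfold pieceMap
    rw [reassoc_of% hnat, RelProj.map_res_emb hP V.U V.hU r]

end QRefine

section QFinal

variable {Y Y' : Scheme.{u}} {g : Y' ⟶ Y} {𝒮 : RelProj.QCGrAlg Y} {𝒮' : RelProj.QCGrAlg Y'}
  (u : RelProj.QGrHom g 𝒮 𝒮')
  {P P' : Scheme.{u}} {p : P ⟶ Y}
  {chart : ∀ (U : Y.Opens) (hU : IsAffineOpen U),
    ((p ⁻¹ᵁ U : P.Opens) : Scheme.{u}) ≅ Proj (𝒮.deg U hU)}
  {p' : P' ⟶ Y'}
  {chart' : ∀ (U' : Y'.Opens) (hU' : IsAffineOpen U'),
    ((p' ⁻¹ᵁ U' : P'.Opens) : Scheme.{u}) ≅ Proj (𝒮'.deg U' hU')}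

theorem mem_range_shrink' (hP' : RelProj.IsRelProj 𝒮' p' chart') (V : APair g) (r' : Γ(Y', V.U'))
    (x : ((RelProj.domQ u p' chart' : P'.Opens) : Scheme.{u}))
    (hx : x ∈ Set.range (pieceEmb u chart' V).base)
    (hxr : p'.base ((RelProj.domQ u p' chart').ι.base x) ∈ Y'.basicOpen r') :
    x ∈ Set.range (pieceEmb u chart' (V.shrink' r')).base := by
  rw [mem_range_pieceEmb_iff] at hx ⊢
  obtain ⟨z, hz, hzx⟩ := hx
  obtain ⟨w, hw⟩ := exists_chart_point (chartB := chart') (Y'.basicOpen r') (V.hU'.basicOpen r')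
    _ hxr
  refine ⟨w, ?_, hw⟩
  rw [mem_domOpen_shrink'_iff]
  have : (RelProj.emb p' chart' V.U' V.hU').base
      ((Proj.map (𝒮'.res V.hU' (V.hU'.basicOpen r') (Y'.basicOpen_le r'))
        (𝒮'.irrelevant_le_map V.U' V.hU' r')).base w) =
      (RelProj.emb p' chart' V.U' V.hU').base z := by
    rw [hzx, ← hw, ← RelProj.map_res_emb hP' V.U' V.hU' r']
    rfl
  rw [(RelProj.emb p' chart' V.U' V.hU').isOpenEmbedding.injective this]
  exact hz

theorem mem_range_shrink (V : APair g) (r : Γ(Y, V.U)) (h : V.U' ≤ g ⁻¹ᵁ (Y.basicOpen r))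
    (x : ((RelProj.domQ u p' chart' : P'.Opens) : Scheme.{u}))
    (hx : x ∈ Set.range (pieceEmb u chart' V).base) :
    x ∈ Set.range (pieceEmb u chart' (V.shrink r h)).base := by
  rw [mem_range_pieceEmb_iff] at hx ⊢
  obtain ⟨z, hz, hzx⟩ := hx
  refine ⟨z, ?_, hzx⟩
  rw [domOpen_shrink]
  exact hz

/-- refinement of an affine pair by basic opens -/
theorem exists_refine (hP : RelProj.IsRelProj 𝒮 p chart) (hP' : RelProj.IsRelProj 𝒮' p' chart')
    (V W : APair g) (r : Γ(Y, V.U)) (hr : W.U = Y.basicOpen r) (r' : Γ(Y', V.U'))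
    (hr' : W.U' = Y'.basicOpen r') :
    (∃ t : ((RelCone.domOpen (φV u W) : (Proj (𝒮'.deg W.U' W.hU')).Opens) : Scheme.{u}) ⟶
        ((RelCone.domOpen (φV u V) : (Proj (𝒮'.deg V.U' V.hU')).Opens) : Scheme.{u}),
      t ≫ pieceEmb u chart' V = pieceEmb u chart' W ∧
      t ≫ pieceMap u chart V = pieceMap u chart W) ∧
    ∀ x : ((RelProj.domQ u p' chart' : P'.Opens) : Scheme.{u}),
      x ∈ Set.range (pieceEmb u chart' V).base →
      p'.base ((RelProj.domQ u p' chart').ι.base x) ∈ W.U' →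
      x ∈ Set.range (pieceEmb u chart' W).base := by
  obtain ⟨WU, hWU, WU', hWU', hWle⟩ := W
  simp only at hr hr'
  subst hr hr'
  obtain ⟨t1, h1a, h1b⟩ := refine_shrink' u (chart := chart) hP' V r'
  obtain ⟨t2, h2a, h2b⟩ := refine_shrink u (chart' := chart') hP (V.shrink' r') r hWle
  refine ⟨⟨t2 ≫ t1, ?_, ?_⟩, fun x hx hxW => ?_⟩
  · rw [Category.assoc, h1a]
    exact h2a
  · rw [Category.assoc, h1b]
    exact h2b
  · exact mem_range_shrink u (V.shrink' r') r hWle x (mem_range_shrink' u hP' V r' x hx hxW)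

theorem basicOpen_cast {X : Scheme.{u}} {O₁ O₂ : X.Opens} (e : O₁ = O₂) (b : Γ(X, O₁)) :
    X.basicOpen (e ▸ b : Γ(X, O₂)) = X.basicOpen b := by
  subst e
  rfl

theorem pieces_compat (hP : RelProj.IsRelProj 𝒮 p chart) (hP' : RelProj.IsRelProj 𝒮' p' chart')
    (V1 V2 : APair g) (x : ((RelProj.domQ u p' chart' : P'.Opens) : Scheme.{u}))
    (hx1 : x ∈ Set.range (pieceEmb u chart' V1).base)
    (hx2 : x ∈ Set.range (pieceEmb u chart' V2).base) :
    ∃ (K : APair g)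
      (t1 : ((RelCone.domOpen (φV u K) : (Proj (𝒮'.deg K.U' K.hU')).Opens) : Scheme.{u}) ⟶
        ((RelCone.domOpen (φV u V1) : (Proj (𝒮'.deg V1.U' V1.hU')).Opens) : Scheme.{u}))
      (t2 : ((RelCone.domOpen (φV u K) : (Proj (𝒮'.deg K.U' K.hU')).Opens) : Scheme.{u}) ⟶
        ((RelCone.domOpen (φV u V2) : (Proj (𝒮'.deg V2.U' V2.hU')).Opens) : Scheme.{u})),
      x ∈ Set.range (pieceEmb u chart' K).base ∧
      t1 ≫ pieceEmb u chart' V1 = pieceEmb u chart' K ∧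
      t2 ≫ pieceEmb u chart' V2 = pieceEmb u chart' K ∧
      t1 ≫ pieceMap u chart V1 = pieceMap u chart K ∧
      t2 ≫ pieceMap u chart V2 = pieceMap u chart K := by
  set x' := (RelProj.domQ u p' chart').ι.base x with hx'
  have hy1 : p'.base x' ∈ V1.U' := by
    obtain ⟨z, -, hzx⟩ := (mem_range_pieceEmb_iff u chart' V1 x).mp hx1
    rw [hx', ← hzx]
    exact emb_mem_preimage chart' V1.U' V1.hU' z
  have hy2 : p'.base x' ∈ V2.U' := by
    obtain ⟨z, -, hzx⟩ := (mem_range_pieceEmb_iff u chart' V2 x).mp hx2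
    rw [hx', ← hzx]
    exact emb_mem_preimage chart' V2.U' V2.hU' z
  have hgy1 : g.base (p'.base x') ∈ V1.U := V1.hle hy1
  have hgy2 : g.base (p'.base x') ∈ V2.U := V2.hle hy2
  obtain ⟨f₁, f₂, hff, hyf⟩ := exists_basicOpen_le_affine_inter V1.hU V2.hU _ ⟨hgy1, hgy2⟩
  obtain ⟨a₁, a₂, haa, hya⟩ := exists_basicOpen_le_affine_inter V1.hU' V2.hU' _ ⟨hy1, hy2⟩
  -- a basic open of `D(a₁)` inside `g⁻¹ D(f₁)`
  have hmem : p'.base x' ∈ (g ⁻¹ᵁ (Y.basicOpen f₁) : Y'.Opens) := hyf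
  obtain ⟨b, hb, hyb⟩ := (V1.hU'.basicOpen a₁).exists_basicOpen_le
    (V := g ⁻¹ᵁ (Y.basicOpen f₁)) ⟨p'.base x', hmem⟩ hya
  obtain ⟨r'₁, hr'₁⟩ := V1.hU'.basicOpen_basicOpen_is_basicOpen a₁ b
  obtain ⟨r'₂, hr'₂⟩ := V2.hU'.basicOpen_basicOpen_is_basicOpen a₂ (haa ▸ b)
  rw [basicOpen_cast] at hr'₂
  let K : APair g := ⟨Y.basicOpen f₁, V1.hU.basicOpen f₁, Y'.basicOpen b,
    (V1.hU'.basicOpen a₁).basicOpen b, hb⟩
  obtain ⟨⟨t1, h1a, h1b⟩, hm1⟩ := exists_refine u hP hP' V1 K f₁ rfl r'₁ hr'₁.symm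
  obtain ⟨⟨t2, h2a, h2b⟩, -⟩ := exists_refine u hP hP' V2 K f₂ hff r'₂ hr'₂.symm
  exact ⟨K, t1, t2, hm1 x hx1 hyb, h1a, h2a, h1b, h2b⟩

/-- existence of the morphism `Proj(u)` on `G(u)` -/
theorem exists_qmapOn (hP : RelProj.IsRelProj 𝒮 p chart) (hP' : RelProj.IsRelProj 𝒮' p' chart') :
    ∃ v : ((RelProj.domQ u p' chart' : P'.Opens) : Scheme.{u}) ⟶ P,
      ∀ V : APair g, pieceEmb u chart' V ≫ v = pieceMap u chart V :=
  exists_glue_of_refinement
    (fun V : APair g =>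
      ((RelCone.domOpen (φV u V) : (Proj (𝒮'.deg V.U' V.hU')).Opens) : Scheme.{u}))
    (pieceEmb u chart') (exists_piece u chart') (pieceMap u chart)
    (fun V1 V2 x hx1 hx2 => pieces_compat u hP hP' V1 V2 x hx1 hx2)

end QFinal

section QFinal2

variable {Y Y' : Scheme.{u}} {g : Y' ⟶ Y} {𝒮 : RelProj.QCGrAlg Y} {𝒮' : RelProj.QCGrAlg Y'}
  (u : RelProj.QGrHom g 𝒮 𝒮')
  {P P' : Scheme.{u}} {p : P ⟶ Y}
  {chart : ∀ (U : Y.Opens) (hU : IsAffineOpen U),
    ((p ⁻¹ᵁ U : P.Opens) : Scheme.{u}) ≅ Proj (𝒮.deg U hU)}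
  {p' : P' ⟶ Y'}
  {chart' : ∀ (U' : Y'.Opens) (hU' : IsAffineOpen U'),
    ((p' ⁻¹ᵁ U' : P'.Opens) : Scheme.{u}) ≅ Proj (𝒮'.deg U' hU')}

theorem isProjQMapOn_of_pieces
    (v : ((RelProj.domQ u p' chart' : P'.Opens) : Scheme.{u}) ⟶ P)
    (hv : ∀ V : APair g, pieceEmb u chart' V ≫ v = pieceMap u chart V) :
    RelProj.IsProjQMapOn u p chart p' chart' (RelProj.domQ u p' chart') v := by
  intro U hU U' hU' hle d hd f hf hW
  let V : APair g := ⟨U, hU, U', hU', hle⟩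
  have hc : IsOpenImmersion.lift (RelProj.domQ u p' chart').ι
      (RelProj.awayEmb u p' chart' U hU U' hU' hle hd f hf) hW =
      chartX (isDomOf_domOpen (φV u V)) hf hd ≫ pieceEmb u chart' V := by
    rw [← cancel_mono (RelProj.domQ u p' chart').ι, IsOpenImmersion.lift_fac, Category.assoc,
      pieceEmb_ι, chartX_fac_assoc]
    rfl
  rw [hc, Category.assoc, hv V]
  unfold pieceMap
  rw [← Category.assoc, (isPMap_piecePMap u V).chartX_comp (isDomOf_domOpen (φV u V)) hf hd,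
    Category.assoc]

/-- every point of `G(u)` lies in a standard chart -/
theorem exists_std_chart (x : ((RelProj.domQ u p' chart' : P'.Opens) : Scheme.{u})) :
    ∃ (U : Y.Opens) (hU : IsAffineOpen U) (U' : Y'.Opens) (hU' : IsAffineOpen U')
      (hle : U' ≤ g ⁻¹ᵁ U) (d : ℕ) (hd : 0 < d) (f : 𝒮.presheaf.obj (op U))
      (hf : f ∈ 𝒮.deg U hU d)
      (hW : Set.range (RelProj.awayEmb u p' chart' U hU U' hU' hle hd f hf).base ⊆
        Set.range (RelProj.domQ u p' chart').ι.base),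
      x ∈ Set.range (IsOpenImmersion.lift (RelProj.domQ u p' chart').ι
        (RelProj.awayEmb u p' chart' U hU U' hU' hle hd f hf) hW).base := by
  obtain ⟨V, hxV⟩ := exists_piece u chart' x
  obtain ⟨z, hz, hzx⟩ := (mem_range_pieceEmb_iff u chart' V x).mp hxV
  obtain ⟨d, f, hd, hf, hzf⟩ := (mem_domOpen_iff _ z).mp hz
  rw [← Proj.opensRange_awayι (𝒮'.deg V.U' V.hU') _ (Graded.map_mem (φV u V) hf) hd] at hzf
  obtain ⟨w, hw⟩ := hzf
  have hW := RelProj.range_awayEmb_subset_domQ u p' chart' V.U V.hU V.U' V.hU' V.hle hd f hf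
  refine ⟨V.U, V.hU, V.U', V.hU', V.hle, d, hd, f, hf, hW, w, ?_⟩
  apply (RelProj.domQ u p' chart').ι.isOpenEmbedding.injective
  rw [← Scheme.Hom.comp_apply, IsOpenImmersion.lift_fac, ← hzx, ← hw]
  rfl

theorem qmapOn_unique {v v' : ((RelProj.domQ u p' chart' : P'.Opens) : Scheme.{u}) ⟶ P}
    (hv : RelProj.IsProjQMapOn u p chart p' chart' (RelProj.domQ u p' chart') v)
    (hv' : RelProj.IsProjQMapOn u p chart p' chart' (RelProj.domQ u p' chart') v') : v = v' := by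
  refine hom_ext_of_openImmersions _ _ fun x => ?_
  obtain ⟨U, hU, U', hU', hle, d, hd, f, hf, hW, hx⟩ := exists_std_chart u x
  refine ⟨_, IsOpenImmersion.lift (RelProj.domQ u p' chart').ι
    (RelProj.awayEmb u p' chart' U hU U' hU' hle hd f hf) hW, ?_, hx, ?_⟩
  · have : IsOpenImmersion (RelProj.awayEmb u p' chart' U hU U' hU' hle hd f hf) := by
      unfold RelProj.awayEmb; infer_instance
    have : IsOpenImmersion (IsOpenImmersion.lift (RelProj.domQ u p' chart').ι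
        (RelProj.awayEmb u p' chart' U hU U' hU' hle hd f hf) hW ≫
          (RelProj.domQ u p' chart').ι) := by
      rw [IsOpenImmersion.lift_fac]; infer_instance
    exact IsOpenImmersion.of_comp _ (RelProj.domQ u p' chart').ι
  · rw [hv U hU U' hU' hle d hd f hf hW, hv' U hU U' hU' hle d hd f hf hW]

theorem strZero_comp_gradedAt (U : Y.Opens) (hU : IsAffineOpen U) (U' : Y'.Opens)
    (hU' : IsAffineOpen U') (hle : U' ≤ g ⁻¹ᵁ U) :
    𝒮.strZero U hU ≫ CommRingCat.ofHom (u.gradedAt U hU U' hU' hle).gradedZeroRingHom =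
      g.appLE U U' hle ≫ 𝒮'.strZero U' hU' := by
  ext r
  change (u.appLE U U' hle).hom ((𝒮.str.app (op U)).hom r) =
    (𝒮'.str.app (op U')).hom ((g.appLE U U' hle).hom r)
  exact congr_arg (fun t => t.hom r) (u.str_appLE U U' hle)

theorem qmapOn_comp (hP : RelProj.IsRelProj 𝒮 p chart) (hP' : RelProj.IsRelProj 𝒮' p' chart')
    {v : ((RelProj.domQ u p' chart' : P'.Opens) : Scheme.{u}) ⟶ P}
    (hv : RelProj.IsProjQMapOn u p chart p' chart' (RelProj.domQ u p' chart') v) :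
    v ≫ p = (RelProj.domQ u p' chart').ι ≫ p' ≫ g := by
  refine hom_ext_of_openImmersions _ _ fun x => ?_
  obtain ⟨U, hU, U', hU', hle, d, hd, f, hf, hW, hx⟩ := exists_std_chart u x
  refine ⟨_, IsOpenImmersion.lift (RelProj.domQ u p' chart').ι
    (RelProj.awayEmb u p' chart' U hU U' hU' hle hd f hf) hW, ?_, hx, ?_⟩
  · have : IsOpenImmersion (RelProj.awayEmb u p' chart' U hU U' hU' hle hd f hf) := by
      unfold RelProj.awayEmb; infer_instance
    have : IsOpenImmersion (IsOpenImmersion.lift (RelProj.domQ u p' chart').ι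
        (RelProj.awayEmb u p' chart' U hU U' hU' hle hd f hf) hW ≫
          (RelProj.domQ u p' chart').ι) := by
      rw [IsOpenImmersion.lift_fac]; infer_instance
    exact IsOpenImmersion.of_comp _ (RelProj.domQ u p' chart').ι
  · rw [← Category.assoc, hv U hU U' hU' hle d hd f hf hW, ← Category.assoc (IsOpenImmersion.lift _ _ _),
      IsOpenImmersion.lift_fac]
    unfold RelProj.awayEmb
    simp only [Category.assoc]
    rw [emb_comp hP, reassoc_of% (emb_comp hP'), Proj.awayι_toSpecZero_assoc,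
      Proj.awayι_toSpecZero_assoc, ← IsAffineOpen.SpecMap_appLE_fromSpec g hU hU' hle]
    simp only [← Spec.map_comp_assoc]
    congr 2
    rw [← strZero_comp_gradedAt u U hU U' hU' hle, Category.assoc, Category.assoc,
      ← CommRingCat.ofHom_comp, ← CommRingCat.ofHom_comp, fromZero_comp_awayMap]

end QFinal2

end Groth.Agent.Helper13RelProj
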