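import Mathlib
import Groth.Agent.Lib.Helper13ProjBC2
import Groth.Agent.Lib.Helper13ProjGlue2

set_option autoImplicit false

namespace Groth.Agent.Helper13ProjBC

open CategoryTheory CategoryTheory.Limits AlgebraicGeometry Opposite TopologicalSpace
open HomogeneousLocalization Groth.Agent.Helper13AwayBC Groth.Agent.Helper13RelProj
open scoped HomogeneousIdeal

universe u

section Ring

variable {A B σ τ : Type u} [CommRing A] [SetLike σ A] [AddSubgroupClass σ A]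
  [CommRing B] [SetLike τ B] [AddSubgroupClass τ B]
  {𝒜 : ℕ → σ} {ℬ : ℕ → τ} [GradedRing 𝒜] [GradedRing ℬ]

theorem domOpen_eq_top_of_irrelevant_le (φ : 𝒜 →+*ᵍ ℬ) (hirr : ℬ₊ ≤ 𝒜₊.map φ) :
    RelCone.domOpen φ = ⊤ := by
  rw [eq_top_iff]
  intro z _
  rw [RelCone.mem_domOpen]
  by_contra hcon
  push Not at hcon
  let 𝔮 : ProjectiveSpectrum ℬ := z
  apply 𝔮.not_irrelevant_le
  refine le_trans hirr ?_
  change Ideal.map φ (𝒜₊).toIdeal ≤ 𝔮.asHomogeneousIdeal.toIdeal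
  rw [Ideal.map_le_iff_le_comap]
  intro a ha
  exact hcon a ha

end Ring

section Rel

variable {Y Y' : Scheme.{u}} {ψ : Y' ⟶ Y} {𝒮 : RelProj.QCGrAlg Y} {𝒮' : RelProj.QCGrAlg Y'}
  (u : RelProj.QGrHom ψ 𝒮 𝒮')
  {P P' : Scheme.{u}} {p : P ⟶ Y}
  {chart : ∀ (U : Y.Opens) (hU : IsAffineOpen U),
    ((p ⁻¹ᵁ U : P.Opens) : Scheme.{u}) ≅ Proj (𝒮.deg U hU)}
  {p' : P' ⟶ Y'}
  {chart' : ∀ (U' : Y'.Opens) (hU' : IsAffineOpen U'),
    ((p' ⁻¹ᵁ U' : P'.Opens) : Scheme.{u}) ≅ Proj (𝒮'.deg U' hU')}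

theorem domQ_eq_top_of_forall
    (H : ∀ (U : Y.Opens) (hU : IsAffineOpen U) (U' : Y'.Opens) (hU' : IsAffineOpen U')
      (hle : U' ≤ ψ ⁻¹ᵁ U), RelCone.domOpen (u.gradedAt U hU U' hU' hle) = ⊤) :
    RelProj.domQ u p' chart' = ⊤ := by
  rw [eq_top_iff]
  intro x _
  obtain ⟨⟨⟨⟨U, hU⟩, ⟨U', hU'⟩⟩, hle⟩, hy⟩ := exists_pair ψ (p'.base x)
  replace hU : IsAffineOpen U := hU
  replace hU' : IsAffineOpen U' := hU'
  obtain ⟨z, hz⟩ := exists_chart_point (chartB := chart') U' hU' x hy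
  refine Opens.mem_iSup.mpr ⟨⟨(⟨U, hU⟩, ⟨U', hU'⟩), hle⟩, ?_⟩
  refine ⟨z, ?_, hz⟩
  rw [H U hU U' hU' hle]
  trivial

theorem hirr_of_isQBaseChange (hu : RelSpec.IsQBaseChange u.toQHom)
    (U : Y.Opens) (hU : IsAffineOpen U) (U' : Y'.Opens) (hU' : IsAffineOpen U')
    (hle : U' ≤ ψ ⁻¹ᵁ U) :
    (𝒮'.deg U' hU')₊ ≤ ((𝒮.deg U hU)₊).map (u.gradedAt U hU U' hU' hle) :=
  irrelevant_le_map_cat (hu U hU U' hU' hle) (u.gradedAt U hU U' hU' hle) (fun _ => rfl)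
    (fun r => 𝒮'.str_mem U' hU' r)

theorem emb_comp_of_isProjQMap {h : P' ⟶ P}
    (hh : RelProj.IsProjQMap u p chart p' chart' h)
    (U : Y.Opens) (hU : IsAffineOpen U) (U' : Y'.Opens) (hU' : IsAffineOpen U')
    (hle : U' ≤ ψ ⁻¹ᵁ U)
    (hirr : (𝒮'.deg U' hU')₊ ≤ ((𝒮.deg U hU)₊).map (u.gradedAt U hU U' hU' hle)) :
    RelProj.emb p' chart' U' hU' ≫ h =
      Proj.map (u.gradedAt U hU U' hU' hle) hirr ≫ RelProj.emb p chart U hU := by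
  refine (Proj.mapAffineOpenCover _ hirr).openCover.hom_ext _ _ fun s => ?_
  have h1 := hh.2 U hU U' hU' hle s.1 s.1.2 s.2 s.2.2
  unfold RelProj.awayEmb at h1
  rw [Category.assoc] at h1
  refine Eq.trans h1 ?_
  exact (Proj.awayι_comp_map_assoc _ hirr s.1.2 _ s.2.2 _).symm

end Rel

end Groth.Agent.Helper13ProjBC
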