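import Mathlib
import Groth.Agent.Lib.Helper13ProjBC2

set_option autoImplicit false

namespace Groth.Agent.Helper13ProjBC

open CategoryTheory CategoryTheory.Limits AlgebraicGeometry Opposite TopologicalSpace
open HomogeneousLocalization Groth.Agent.Helper13AwayBC Groth.Agent.Helper13RelProj
open scoped HomogeneousIdeal
open Scheme.AffineZariskiSite

universe u

section Exist

variable {Y : Scheme.{u}} (𝒮 : RelProj.QCGrAlg Y)

theorem isPushout_res {U V : Y.AffineZariskiSite} (i : V ⟶ U) :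
    IsPushout (Y.presheaf.map (homOfLE (toOpens_mono i.le)).op) (𝒮.str.app (op U.1))
      (𝒮.str.app (op V.1)) (𝒮.presheaf.map (homOfLE (toOpens_mono i.le)).op) :=
  𝒮.toQCAlg.coequifibered i.op

theorem hirr_res {U V : Y.AffineZariskiSite} (i : V ⟶ U) :
    (𝒮.deg V.1 V.2)₊ ≤ ((𝒮.deg U.1 U.2)₊).map (𝒮.res U.2 V.2 (toOpens_mono i.le)) :=
  irrelevant_le_map_cat (isPushout_res 𝒮 i) (𝒮.res U.2 V.2 (toOpens_mono i.le)) (fun _ => rfl)
    (fun r => 𝒮.str_mem V.1 V.2 r)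

/-- the structure morphism `Proj 𝒮(U) ⟶ U` -/
noncomputable def toBaseU (U : Y.AffineZariskiSite) :
    Proj (𝒮.deg U.1 U.2) ⟶ (U.1 : Scheme.{u}) :=
  Proj.toSpecZero (𝒮.deg U.1 U.2) ≫ Spec.map (𝒮.strZero U.1 U.2) ≫ U.2.isoSpec.inv

theorem toBaseU_ι (U : Y.AffineZariskiSite) :
    toBaseU 𝒮 U ≫ U.1.ι =
      Proj.toSpecZero (𝒮.deg U.1 U.2) ≫ Spec.map (𝒮.strZero U.1 U.2) ≫ U.2.fromSpec := by
  unfold toBaseU
  simp only [Category.assoc, IsAffineOpen.isoSpec_inv_ι]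

theorem isPullback_proj_res {U V : Y.AffineZariskiSite} (i : V ⟶ U) :
    IsPullback (Proj.map (𝒮.res U.2 V.2 (toOpens_mono i.le)) (hirr_res 𝒮 i))
      (toBaseU 𝒮 V) (toBaseU 𝒮 U) (Y.homOfLE (toOpens_mono i.le)) := by
  have h := isPullback_proj_cat (isPushout_res 𝒮 i) (𝒮.res U.2 V.2 (toOpens_mono i.le))
    (fun _ => rfl) (hirr_res 𝒮 i) (𝒮.strZero U.1 U.2) (fun _ => rfl) (𝒮.strZero V.1 V.2)
    (fun _ => rfl)
  refine IsPullback.of_iso h (Iso.refl _) (Iso.refl _) V.2.isoSpec.symm U.2.isoSpec.symm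
    ?_ ?_ ?_ ?_
  · simp
  · simp [toBaseU]
  · simp [toBaseU]
  · simp only [Iso.symm_hom]
    rw [← cancel_mono U.1.ι, Category.assoc, Category.assoc, IsAffineOpen.isoSpec_inv_ι,
      Scheme.homOfLE_ι, IsAffineOpen.isoSpec_inv_ι]
    exact U.2.map_fromSpec V.2 _

end Exist

section Exist2

theorem projMap_congr {A B σ τ : Type u} [CommRing A] [SetLike σ A] [AddSubgroupClass σ A]
    [CommRing B] [SetLike τ B] [AddSubgroupClass τ B]
    {𝒜 : ℕ → σ} {ℬ : ℕ → τ} [GradedRing 𝒜] [GradedRing ℬ]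
    {f f' : 𝒜 →+*ᵍ ℬ} (h : f = f') (hf : ℬ₊ ≤ 𝒜₊.map f) (hf' : ℬ₊ ≤ 𝒜₊.map f') :
    Proj.map f hf = Proj.map f' hf' := by
  subst h; rfl

variable {Y : Scheme.{u}} (𝒮 : RelProj.QCGrAlg Y)

/-- the functor `U ↦ Proj 𝒮(U)` on the affine Zariski site -/
noncomputable def projFunctor : Y.AffineZariskiSite ⥤ Scheme.{u} where
  obj U := Proj (𝒮.deg U.1 U.2)
  map {V U} i := Proj.map (𝒮.res U.2 V.2 (toOpens_mono i.le)) (hirr_res 𝒮 i)
  map_id U := by
    have e : 𝒮.res U.2 U.2 (toOpens_mono (𝟙 U : U ⟶ U).le) = GradedRingHom.id (𝒮.deg U.1 U.2) := by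
      ext a
      change (𝒮.presheaf.map (𝟙 (op U.1))).hom a = a
      rw [𝒮.presheaf.map_id]
      rfl
    rw [projMap_congr e _ (by simp), Proj.map_id]
  map_comp {W V U} i j := by
    have e : 𝒮.res U.2 W.2 (toOpens_mono (i ≫ j).le) =
        (𝒮.res V.2 W.2 (toOpens_mono i.le)).comp (𝒮.res U.2 V.2 (toOpens_mono j.le)) := by
      ext a
      change (𝒮.presheaf.map _).hom a = (𝒮.presheaf.map _).hom ((𝒮.presheaf.map _).hom a)
      rw [← CommRingCat.comp_apply, ← 𝒮.presheaf.map_comp]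
      rfl
    rw [projMap_congr e _ (HomogeneousIdeal.irrelevant_le_map_comp (hirr_res 𝒮 j) (hirr_res 𝒮 i)), Proj.map_comp]

/-- the relative gluing datum of the `Proj 𝒮(U)` -/
noncomputable def projGluingData : (directedCover Y).RelativeGluingData where
  functor := projFunctor 𝒮
  natTrans :=
    { app := fun U => toBaseU 𝒮 U
      naturality := fun V U i => (isPullback_proj_res 𝒮 i).w }
  equifibered := fun V U i => isPullback_proj_res 𝒮 i

end Exist2

section Exist3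

variable {Y : Scheme.{u}} (𝒮 : RelProj.QCGrAlg Y)

instance : ((projGluingData 𝒮).functor ⋙ Scheme.forget).IsLocallyDirected :=
  Scheme.Cover.RelativeGluingData.instIsLocallyDirectedI₀CompFunctorForgetOfIsThin ..

/-- the glued relative `Proj` -/
noncomputable def relProj : Scheme.{u} := (projGluingData 𝒮).glued

/-- its structure morphism -/
noncomputable def relProjπ : relProj 𝒮 ⟶ Y := (projGluingData 𝒮).toBase

/-- the canonical open immersions `Proj 𝒮(U) ⟶ Proj(𝒮)` -/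
noncomputable def relProjι (U : Y.AffineZariskiSite) : Proj (𝒮.deg U.1 U.2) ⟶ relProj 𝒮 :=
  (projGluingData 𝒮).cover.f U

instance (U : Y.AffineZariskiSite) : IsOpenImmersion (relProjι 𝒮 U) :=
  (projGluingData 𝒮).cover.map_prop _

theorem isPullback_relProjι (U : Y.AffineZariskiSite) :
    IsPullback (toBaseU 𝒮 U) (relProjι 𝒮 U) U.1.ι (relProjπ 𝒮) :=
  (projGluingData 𝒮).isPullback_natTrans_ι_toBase U

theorem relProjι_res {U V : Y.AffineZariskiSite} (i : V ⟶ U) :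
    Proj.map (𝒮.res U.2 V.2 (toOpens_mono i.le)) (hirr_res 𝒮 i) ≫ relProjι 𝒮 U = relProjι 𝒮 V :=
  colimit.w (projGluingData 𝒮).functor i

/-- the charts of the glued relative `Proj` -/
noncomputable def relProjChart (U : Y.Opens) (hU : IsAffineOpen U) :
    (((relProjπ 𝒮) ⁻¹ᵁ U : (relProj 𝒮).Opens) : Scheme.{u}) ≅ Proj (𝒮.deg U hU) :=
  (isPullback_morphismRestrict (relProjπ 𝒮) U).isoIsPullback _ _ (isPullback_relProjι 𝒮 ⟨U, hU⟩)

theorem relProjChart_hom_ι (U : Y.Opens) (hU : IsAffineOpen U) :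
    (relProjChart 𝒮 U hU).hom ≫ relProjι 𝒮 ⟨U, hU⟩ = ((relProjπ 𝒮) ⁻¹ᵁ U).ι :=
  IsPullback.isoIsPullback_hom_snd _ _ _ _

theorem relProjChart_hom_toBaseU (U : Y.Opens) (hU : IsAffineOpen U) :
    (relProjChart 𝒮 U hU).hom ≫ toBaseU 𝒮 ⟨U, hU⟩ = (relProjπ 𝒮) ∣_ U :=
  IsPullback.isoIsPullback_hom_fst _ _ _ _

theorem isRelProj_relProj : RelProj.IsRelProj 𝒮 (relProjπ 𝒮) (relProjChart 𝒮) where
  chart_over U hU := by
    have h1 := toBaseU_ι 𝒮 ⟨U, hU⟩
    rw [← h1, ← Category.assoc, relProjChart_hom_toBaseU, morphismRestrict_ι]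
  chart_res U hU r := by
    let i : (Scheme.AffineZariskiSite.basicOpen (⟨U, hU⟩ : Y.AffineZariskiSite) r) ⟶
        (⟨U, hU⟩ : Y.AffineZariskiSite) :=
      homOfLE (Scheme.AffineZariskiSite.basicOpen_le (⟨U, hU⟩ : Y.AffineZariskiSite) r)
    have hw := relProjι_res 𝒮 i
    have hoi : IsOpenImmersion (relProjι 𝒮 (⟨U, hU⟩ : Y.AffineZariskiSite)) :=
      (projGluingData 𝒮).cover.map_prop _
    have hmono : Mono (relProjι 𝒮 (⟨U, hU⟩ : Y.AffineZariskiSite)) := inferInstance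
    rw [← cancel_mono (relProjι 𝒮 (⟨U, hU⟩ : Y.AffineZariskiSite)), Category.assoc, Category.assoc,
      relProjChart_hom_ι, Scheme.homOfLE_ι]
    have : Proj.map (𝒮.res hU (hU.basicOpen r) (Y.basicOpen_le r))
        (𝒮.irrelevant_le_map U hU r) ≫ relProjι 𝒮 ⟨U, hU⟩ =
        relProjι 𝒮 ⟨Y.basicOpen r, hU.basicOpen r⟩ := hw
    rw [this, relProjChart_hom_ι]

end Exist3

end Groth.Agent.Helper13ProjBC
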