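import Mathlib
import Groth.Agent.Lib.Helper13ProjGlue2
import Groth.Agent.Lib.Helper13ProjBC

set_option autoImplicit false

namespace Groth.Agent.Helper13SpecQMap

open CategoryTheory CategoryTheory.Limits AlgebraicGeometry Opposite TopologicalSpace
open Groth.Agent.Helper13RelProj Groth.Agent.Helper13ProjBC

universe u

section Res

variable {S : Scheme.{u}} (A : RelSpec.QCAlg S)

theorem ι_res_basic {U W : S.Opens} (hU : IsAffineOpen U) (hW : IsAffineOpen W) (f : Γ(S, U))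
    (hWf : W = S.basicOpen f) (hle : W ≤ U) :
    Spec.map (A.presheaf.map (homOfLE hle).op) ≫ A.ι U hU = A.ι W hW := by
  subst hWf
  exact A.ι_res (U := (⟨U, hU⟩ : S.AffineZariskiSite))
    (V := Scheme.AffineZariskiSite.basicOpen (⟨U, hU⟩ : S.AffineZariskiSite) f)
    (homOfLE (Scheme.AffineZariskiSite.basicOpen_le (⟨U, hU⟩ : S.AffineZariskiSite) f))

theorem ι_π_mem {V : S.Opens} (hV : IsAffineOpen V) (x : Spec (A.presheaf.obj (op V))) :
    A.π.base ((A.ι V hV).base x) ∈ V := by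
  have : (A.ι V hV).base x ∈ (A.ι V hV).opensRange := ⟨x, rfl⟩
  rw [← A.π_preimage V hV] at this
  exact this

theorem mem_range_ι_iff {V : S.Opens} (hV : IsAffineOpen V) (x : A.spec) :
    x ∈ Set.range (A.ι V hV).base ↔ A.π.base x ∈ V := by
  change x ∈ (A.ι V hV).opensRange ↔ _
  rw [← A.π_preimage V hV]
  rfl

/-- restriction of charts along an arbitrary inclusion of affine opens -/
theorem ι_res_le {U V : S.Opens} (hU : IsAffineOpen U) (hV : IsAffineOpen V) (h : V ≤ U) :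
    Spec.map (A.presheaf.map (homOfLE h).op) ≫ A.ι U hU = A.ι V hV := by
  refine hom_ext_of_openImmersions _ _ fun x => ?_
  have hy : A.π.base ((A.ι V hV).base x) ∈ V := ι_π_mem A hV x
  obtain ⟨f, g, hfg, hyf⟩ := exists_basicOpen_le_affine_inter hU hV _ ⟨h hy, hy⟩
  have hW : IsAffineOpen (S.basicOpen g) := hV.basicOpen g
  have e1 : Spec.map (A.presheaf.map (homOfLE (S.basicOpen_le g)).op) ≫ A.ι V hV = A.ι _ hW :=
    ι_res_basic A hV hW g rfl _
  have e2 : Spec.map (A.presheaf.map (homOfLE ((S.basicOpen_le g).trans h)).op) ≫ A.ι U hU =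
      A.ι _ hW := ι_res_basic A hU hW f hfg.symm _
  have hoi : IsOpenImmersion (Spec.map (A.presheaf.map (homOfLE (S.basicOpen_le g)).op)) := by
    have : IsOpenImmersion (Spec.map (A.presheaf.map (homOfLE (S.basicOpen_le g)).op) ≫
        A.ι V hV) := by
      rw [e1]; infer_instance
    exact IsOpenImmersion.of_comp _ (A.ι V hV)
  refine ⟨_, Spec.map (A.presheaf.map (homOfLE (S.basicOpen_le g)).op), hoi, ?_, ?_⟩
  · have hx : (A.ι V hV).base x ∈ Set.range (A.ι _ hW).base := by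
      rw [mem_range_ι_iff, ← hfg]
      exact hyf
    obtain ⟨w, hw⟩ := hx
    refine ⟨w, (A.ι V hV).injective ?_⟩
    rw [← hw, ← e1]
    rfl
  · rw [← Category.assoc, ← Spec.map_comp, ← Functor.map_comp, e1]
    exact e2

end Res

section QMap

variable {S S' : Scheme.{u}} {g : S' ⟶ S} {A : RelSpec.QCAlg S} {B : RelSpec.QCAlg S'}
  (u : RelSpec.QHom g A B)

theorem exists_apair (y : S') : ∃ V : APair g, y ∈ V.U' := by
  obtain ⟨V, hy⟩ := exists_pair g y
  exact ⟨⟨V.1.1.1, V.1.1.2, V.1.2.1, V.1.2.2, V.2⟩, hy⟩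

theorem exists_apair_le (V1 V2 : APair g) (y : S') (h1 : y ∈ V1.U') (h2 : y ∈ V2.U') :
    ∃ W : APair g, y ∈ W.U' ∧ W.U ≤ V1.U ∧ W.U ≤ V2.U ∧ W.U' ≤ V1.U' ∧ W.U' ≤ V2.U' := by
  have hgy1 : g.base y ∈ V1.U := V1.hle h1
  have hgy2 : g.base y ∈ V2.U := V2.hle h2
  obtain ⟨_, ⟨U, hU, rfl⟩, hyU, hUle⟩ := S.isBasis_affineOpens.exists_subset_of_mem_open
    (show g.base y ∈ ((V1.U ⊓ V2.U : S.Opens) : Set S) from ⟨hgy1, hgy2⟩) (V1.U ⊓ V2.U).2
  obtain ⟨_, ⟨U', hU', rfl⟩, hyU', hle⟩ := S'.isBasis_affineOpens.exists_subset_of_mem_open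
    (show y ∈ (((g ⁻¹ᵁ U) ⊓ (V1.U' ⊓ V2.U') : S'.Opens) : Set S') from ⟨hyU, h1, h2⟩)
    ((g ⁻¹ᵁ U) ⊓ (V1.U' ⊓ V2.U')).2
  refine ⟨⟨U, hU, U', hU', fun z hz => (hle hz).1⟩, hyU', fun z hz => (hUle hz).1,
    fun z hz => (hUle hz).2, fun z hz => (hle hz).2.1, fun z hz => (hle hz).2.2⟩

/-- the local pieces of `Spec(u)` -/
noncomputable def pieceMap (V : APair g) : Spec (B.presheaf.obj (op V.U')) ⟶ A.spec :=
  Spec.map (u.appLE V.U V.U' V.hle) ≫ A.ι V.U V.hU

theorem pieceMap_res (V W : APair g) (hU : W.U ≤ V.U) (hU' : W.U' ≤ V.U') :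
    Spec.map (B.presheaf.map (homOfLE hU').op) ≫ pieceMap u V = pieceMap u W := by
  unfold pieceMap
  rw [← Category.assoc, ← Spec.map_comp, u.appLE_map V.hle hU',
    ← u.map_appLE hU W.hle, Spec.map_comp, Category.assoc, ι_res_le A V.hU W.hU hU]

theorem exists_specQMap : ∃ h : B.spec ⟶ A.spec, RelSpec.IsSpecQMap u h := by
  obtain ⟨M, hM⟩ := exists_glue_of_refinement (X := B.spec) (Z := A.spec) (ι := APair g)
    (fun V => Spec (B.presheaf.obj (op V.U'))) (fun V => B.ι V.U' V.hU')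
    (fun x => by
      obtain ⟨V, hV⟩ := exists_apair (g := g) (B.π.base x)
      exact ⟨V, (mem_range_ι_iff B V.hU' x).mpr hV⟩)
    (fun V => pieceMap u V)
    (fun V1 V2 x h1 h2 => by
      rw [mem_range_ι_iff] at h1 h2
      obtain ⟨W, hW, a1, a2, b1, b2⟩ := exists_apair_le V1 V2 _ h1 h2
      exact ⟨W, Spec.map (B.presheaf.map (homOfLE b1).op), Spec.map (B.presheaf.map (homOfLE b2).op),
        (mem_range_ι_iff B W.hU' x).mpr hW, ι_res_le B V1.hU' W.hU' b1, ι_res_le B V2.hU' W.hU' b2,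
        pieceMap_res u V1 W a1 b1, pieceMap_res u V2 W a2 b2⟩)
  exact ⟨M, fun U hU U' hU' hle => hM ⟨U, hU, U', hU', hle⟩⟩

theorem specQMap_unique {h h' : B.spec ⟶ A.spec} (hh : RelSpec.IsSpecQMap u h)
    (hh' : RelSpec.IsSpecQMap u h') : h = h' := by
  refine hom_ext_of_openImmersions _ _ fun x => ?_
  obtain ⟨V, hV⟩ := exists_apair (g := g) (B.π.base x)
  refine ⟨_, B.ι V.U' V.hU', inferInstance, (mem_range_ι_iff B V.hU' x).mpr hV, ?_⟩
  rw [hh V.U V.hU V.U' V.hU' V.hle, hh' V.U V.hU V.U' V.hU' V.hle]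

theorem specQMap_π {h : B.spec ⟶ A.spec} (hh : RelSpec.IsSpecQMap u h) : h ≫ A.π = B.π ≫ g := by
  refine hom_ext_of_openImmersions _ _ fun x => ?_
  obtain ⟨V, hV⟩ := exists_apair (g := g) (B.π.base x)
  refine ⟨_, B.ι V.U' V.hU', inferInstance, (mem_range_ι_iff B V.hU' x).mpr hV, ?_⟩
  rw [← Category.assoc, hh V.U V.hU V.U' V.hU' V.hle, Category.assoc, A.ι_π, ← Category.assoc,
    ← Spec.map_comp, u.str_appLE, Spec.map_comp, Category.assoc,
    IsAffineOpen.SpecMap_appLE_fromSpec g V.hU V.hU' V.hle, ← Category.assoc, ← B.ι_π,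
    Category.assoc]

end QMap

end Groth.Agent.Helper13SpecQMap
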