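import Mathlib
import Groth.Prelude.Def_RelSpec
import Groth.Agent.Lib.Helper13SpecQMap

set_option autoImplicit false

namespace Groth.Agent.Helper13RelSpecLocal

open CategoryTheory CategoryTheory.Limits AlgebraicGeometry Opposite TopologicalSpace
open Groth.Agent.Helper13SpecQMap

universe u

noncomputable section

variable {S : Scheme.{u}} (A : RelSpec.QCAlg S)

/-- the cover of the relative spectrum by its charts over the affine opens -/
def chartCover : A.spec.OpenCover :=
  Scheme.Cover.mkOfCovers {U : S.Opens // IsAffineOpen U} (fun U => Spec (A.presheaf.obj (op U.1)))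
    (fun U => A.ι U.1 U.2)
    (fun x => by
      obtain ⟨_, ⟨V, hV, rfl⟩, hxV, -⟩ := S.isBasis_affineOpens.exists_subset_of_mem_open
        (Set.mem_univ (A.π.base x)) isOpen_univ
      exact ⟨⟨V, hV⟩, (mem_range_ι_iff A hV x).mpr hxV⟩)
    (fun U => inferInstance)

/-- a source-local property of the structure morphism can be checked on the charts -/
theorem π_of_source_local (P : MorphismProperty Scheme.{u}) [IsZariskiLocalAtSource P]
    (h : ∀ (U : S.Opens) (hU : IsAffineOpen U), P (Spec.map (A.str.app (op U)) ≫ hU.fromSpec)) :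
    P A.π := by
  rw [IsZariskiLocalAtSource.iff_of_openCover (P := P) (chartCover A)]
  intro U
  change P (A.ι U.1 U.2 ≫ A.π)
  rw [A.ι_π]
  exact h U.1 U.2

set_option backward.isDefEq.respectTransparency false in
theorem locallyOfFiniteType_π
    (h : ∀ (U : S.Opens) (_ : IsAffineOpen U), (A.str.app (op U)).hom.FiniteType) :
    LocallyOfFiniteType A.π := by
  refine π_of_source_local A @LocallyOfFiniteType fun U hU => ?_
  haveI : LocallyOfFiniteType (Spec.map (A.str.app (op U))) :=
    (HasRingHomProperty.Spec_iff (P := @LocallyOfFiniteType)).mpr (h U hU)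
  infer_instance

variable {A} {B : RelSpec.QCAlg S} (ψ : A ⟶ B)

theorem specMap_preimage_range (U : S.Opens) (hU : IsAffineOpen U) :
    RelSpec.QCAlg.specMap ψ ⁻¹ᵁ (A.ι U hU).opensRange = (B.ι U hU).opensRange := by
  rw [← A.π_preimage U hU, ← B.π_preimage U hU, ← Scheme.Hom.comp_preimage,
    RelSpec.QCAlg.specMap_π]

theorem isPullback_specMap_ι (U : S.Opens) (hU : IsAffineOpen U) :
    IsPullback (Spec.map (ψ.hom.app (op U))) (B.ι U hU) (A.ι U hU) (RelSpec.QCAlg.specMap ψ) :=
  IsOpenImmersion.isPullback _ _ _ _ (RelSpec.QCAlg.ι_specMap U hU ψ)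
    (specMap_preimage_range ψ U hU)

/-- a target-local property of the morphism of relative spectra can be checked on the charts -/
theorem specMap_of_target_local (P : MorphismProperty Scheme.{u}) [IsZariskiLocalAtTarget P]
    (h : ∀ (U : S.Opens) (_ : IsAffineOpen U), P (Spec.map (ψ.hom.app (op U)))) :
    P (RelSpec.QCAlg.specMap ψ) := by
  rw [IsZariskiLocalAtTarget.iff_of_openCover (P := P) (chartCover A)]
  intro U
  have hsq := (isPullback_specMap_ι ψ U.1 U.2).flip
  change P (pullback.snd (RelSpec.QCAlg.specMap ψ) (A.ι U.1 U.2))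
  have e : hsq.isoPullback.hom ≫ pullback.snd (RelSpec.QCAlg.specMap ψ) (A.ι U.1 U.2) =
      Spec.map (ψ.hom.app (op U.1)) := hsq.isoPullback_hom_snd
  rw [← MorphismProperty.cancel_left_of_respectsIso (P := P) hsq.isoPullback.hom, e]
  exact h U.1 U.2

end

end Groth.Agent.Helper13RelSpecLocal
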