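import Mathlib
import Groth.Prelude.Def_RelSpec
import Groth.Prelude.Def_AffAlg

set_option autoImplicit false

namespace Groth.Agent.Helper13QCAlgPO

open CategoryTheory CategoryTheory.Limits AlgebraicGeometry Opposite TopologicalSpace

universe u

variable {S : Scheme.{u}}

/-- presheaf maps into a quasi-coherent algebra agree if they agree on affine opens -/
theorem presheaf_hom_ext_affine {F : TopCat.Presheaf CommRingCat.{u} S.carrier} (A : RelSpec.QCAlg S)
    {α β : F ⟶ A.presheaf}
    (h : ∀ (U : S.Opens) (_ : IsAffineOpen U), α.app (op U) = β.app (op U)) : α = β := by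
  apply (Functor.IsCoverDense.restrictHomEquivHom (G := Scheme.AffineZariskiSite.toOpensFunctor S)
    (K := Opens.grothendieckTopology S) (ℱ := F)
    (ℱ' := (⟨A.presheaf, A.isSheaf⟩ : TopCat.Sheaf CommRingCat.{u} S.carrier))).symm.injective
  ext U : 2
  exact h U.unop.1 U.unop.2

/-- the natural transformation on the affine site given by a compatible family -/
noncomputable def affineFamily {F : TopCat.Presheaf CommRingCat.{u} S.carrier} (A : RelSpec.QCAlg S)
    (d : ∀ (U : S.Opens) (_ : IsAffineOpen U), F.obj (op U) ⟶ A.presheaf.obj (op U))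
    (hd : ∀ (U V : S.Opens) (hU : IsAffineOpen U) (hV : IsAffineOpen V) (h : V ≤ U),
      F.map (homOfLE h).op ≫ d V hV = d U hU ≫ A.presheaf.map (homOfLE h).op) :
    (Scheme.AffineZariskiSite.toOpensFunctor S).op ⋙ F ⟶
      (Scheme.AffineZariskiSite.toOpensFunctor S).op ⋙ A.presheaf where
  app U := d U.unop.1 U.unop.2
  naturality U V i :=
    hd U.unop.1 V.unop.1 U.unop.2 V.unop.2 (Scheme.AffineZariskiSite.toOpens_mono i.unop.le)

/-- extension of a compatible family on affine opens to a map of presheaves -/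
noncomputable def extendAffine {F : TopCat.Presheaf CommRingCat.{u} S.carrier} (A : RelSpec.QCAlg S)
    (d : ∀ (U : S.Opens) (_ : IsAffineOpen U), F.obj (op U) ⟶ A.presheaf.obj (op U))
    (hd : ∀ (U V : S.Opens) (hU : IsAffineOpen U) (hV : IsAffineOpen V) (h : V ≤ U),
      F.map (homOfLE h).op ≫ d V hV = d U hU ≫ A.presheaf.map (homOfLE h).op) :
    F ⟶ A.presheaf :=
  Functor.IsCoverDense.restrictHomEquivHom (G := Scheme.AffineZariskiSite.toOpensFunctor S)
    (K := Opens.grothendieckTopology S) (ℱ := F)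
    (ℱ' := (⟨A.presheaf, A.isSheaf⟩ : TopCat.Sheaf CommRingCat.{u} S.carrier)) (affineFamily A d hd)

theorem extendAffine_app {F : TopCat.Presheaf CommRingCat.{u} S.carrier} (A : RelSpec.QCAlg S)
    (d : ∀ (U : S.Opens) (_ : IsAffineOpen U), F.obj (op U) ⟶ A.presheaf.obj (op U))
    (hd : ∀ (U V : S.Opens) (hU : IsAffineOpen U) (hV : IsAffineOpen V) (h : V ≤ U),
      F.map (homOfLE h).op ≫ d V hV = d U hU ≫ A.presheaf.map (homOfLE h).op)
    (U : S.Opens) (hU : IsAffineOpen U) : (extendAffine A d hd).app (op U) = d U hU := by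
  have h := (Functor.IsCoverDense.restrictHomEquivHom
    (G := Scheme.AffineZariskiSite.toOpensFunctor S)
    (K := Opens.grothendieckTopology S) (ℱ := F)
    (ℱ' := (⟨A.presheaf, A.isSheaf⟩ : TopCat.Sheaf CommRingCat.{u} S.carrier))).symm_apply_apply
      (affineFamily A d hd)
  exact NatTrans.congr_app h (op ⟨U, hU⟩)

/-- a square of quasi-coherent algebras that is a pushout of rings over every affine open is a
pushout of quasi-coherent algebras -/
theorem isPushout_of_forall_affine {A0 A1 A2 A3 : RelSpec.QCAlg S} (φ1 : A0 ⟶ A1) (φ2 : A0 ⟶ A2)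
    (ψ1 : A1 ⟶ A3) (ψ2 : A2 ⟶ A3)
    (H : ∀ (U : S.Opens) (_ : IsAffineOpen U), IsPushout (φ1.hom.app (op U)) (φ2.hom.app (op U))
      (ψ1.hom.app (op U)) (ψ2.hom.app (op U))) :
    IsPushout φ1 φ2 ψ1 ψ2 := by
  have w : φ1 ≫ ψ1 = φ2 ≫ ψ2 := by
    apply RelSpec.QCAlg.hom_ext
    apply presheaf_hom_ext_affine A3
    intro U hU
    exact (H U hU).w
  have hcond : ∀ (s : PushoutCocone φ1 φ2) (U : S.Opens),
      φ1.hom.app (op U) ≫ s.inl.hom.app (op U) = φ2.hom.app (op U) ≫ s.inr.hom.app (op U) := by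
    intro s U
    have := congrArg (fun t : A0 ⟶ s.pt => t.hom.app (op U)) s.condition
    exact this
  -- the descent map on affine opens
  let d : ∀ (s : PushoutCocone φ1 φ2) (U : S.Opens) (hU : IsAffineOpen U),
      A3.presheaf.obj (op U) ⟶ s.pt.presheaf.obj (op U) := fun s U hU =>
    (H U hU).desc (s.inl.hom.app (op U)) (s.inr.hom.app (op U)) (hcond s U)
  have hd : ∀ (s : PushoutCocone φ1 φ2) (U V : S.Opens) (hU : IsAffineOpen U) (hV : IsAffineOpen V)
      (h : V ≤ U), A3.presheaf.map (homOfLE h).op ≫ d s V hV =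
        d s U hU ≫ s.pt.presheaf.map (homOfLE h).op := by
    intro s U V hU hV h
    apply (H U hU).hom_ext
    · rw [← Category.assoc, ← ψ1.hom.naturality, Category.assoc]
      simp only [d, IsPushout.inl_desc, IsPushout.inl_desc_assoc]
      exact (s.inl.hom.naturality _)
    · rw [← Category.assoc, ← ψ2.hom.naturality, Category.assoc]
      simp only [d, IsPushout.inr_desc, IsPushout.inr_desc_assoc]
      exact (s.inr.hom.naturality _)
  have hcomm : ∀ s : PushoutCocone φ1 φ2, A3.str ≫ extendAffine s.pt (d s) (hd s) = s.pt.str := by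
    intro s
    apply presheaf_hom_ext_affine s.pt
    intro U hU
    rw [NatTrans.comp_app, extendAffine_app _ _ _ U hU]
    have h1 : A3.str.app (op U) = A1.str.app (op U) ≫ ψ1.hom.app (op U) := by
      rw [← NatTrans.comp_app, ψ1.comm]
    have h2 : A1.str.app (op U) ≫ s.inl.hom.app (op U) = s.pt.str.app (op U) := by
      rw [← NatTrans.comp_app, s.inl.comm]
    rw [h1, Category.assoc]
    simp only [d, IsPushout.inl_desc]
    exact h2
  refine ⟨⟨w⟩, ⟨PushoutCocone.IsColimit.mk _
    (fun s => ⟨extendAffine s.pt (d s) (hd s), hcomm s⟩) ?_ ?_ ?_⟩⟩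
  · intro s
    apply RelSpec.QCAlg.hom_ext
    apply presheaf_hom_ext_affine s.pt
    intro U hU
    change ψ1.hom.app (op U) ≫ (extendAffine s.pt (d s) (hd s)).app (op U) = _
    rw [extendAffine_app _ _ _ U hU]
    simp only [d, IsPushout.inl_desc]
  · intro s
    apply RelSpec.QCAlg.hom_ext
    apply presheaf_hom_ext_affine s.pt
    intro U hU
    change ψ2.hom.app (op U) ≫ (extendAffine s.pt (d s) (hd s)).app (op U) = _
    rw [extendAffine_app _ _ _ U hU]
    simp only [d, IsPushout.inr_desc]
  · intro s m h1 h2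
    apply RelSpec.QCAlg.hom_ext
    apply presheaf_hom_ext_affine s.pt
    intro U hU
    change m.hom.app (op U) = (extendAffine s.pt (d s) (hd s)).app (op U)
    rw [extendAffine_app _ _ _ U hU]
    apply (H U hU).hom_ext
    · simp only [d, IsPushout.inl_desc]
      exact congrArg (fun t : A1 ⟶ s.pt => t.hom.app (op U)) h1
    · simp only [d, IsPushout.inr_desc]
      exact congrArg (fun t : A2 ⟶ s.pt => t.hom.app (op U)) h2

end Groth.Agent.Helper13QCAlgPO
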