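import Mathlib
import Groth.Prelude.Def_RelSpec
import Groth.Agent.Lib.Helper13SymLoc
import Groth.Agent.Lib.Helper13QCAlgOfAffine
import Groth.Agent.Lib.Helper2Push

set_option autoImplicit false

namespace Groth.Agent.Helper13SymAlg

open CategoryTheory CategoryTheory.Limits AlgebraicGeometry Opposite TopologicalSpace
open Scheme.AffineZariskiSite Groth.Agent.Helper13SymLoc Groth.Agent.Helper13QCAlgOfAffine

universe u

noncomputable section

variable {S : Scheme.{u}} (E : S.Modules)

/-- restriction of sections of a module, as an additive map -/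
def resE {U V : S.Opens} (h : V ≤ U) : Γ(E, U) →+ Γ(E, V) := (E.presheaf.map (homOfLE h).op).hom

/-- restriction of functions as a ring hom -/
def resO {U V : S.Opens} (h : V ≤ U) : Γ(S, U) →+* Γ(S, V) := (S.presheaf.map (homOfLE h).op).hom

theorem resE_smul {U V : S.Opens} (h : V ≤ U) (a : Γ(S, U)) (m : Γ(E, U)) :
    resE E h (a • m) = resO h a • resE E h m :=
  Scheme.Modules.map_smul E (homOfLE h) a m

theorem resE_id (U : S.Opens) (m : Γ(E, U)) : resE E (le_refl U) m = m := by
  unfold resE
  rw [show (homOfLE (le_refl U)).op = 𝟙 (op U) from rfl, E.presheaf.map_id]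
  rfl

theorem resE_comp {U V W : S.Opens} (h : V ≤ U) (h' : W ≤ V) (m : Γ(E, U)) :
    resE E h' (resE E h m) = resE E (h'.trans h) m := by
  unfold resE
  rw [show (homOfLE (h'.trans h)).op = (homOfLE h).op ≫ (homOfLE h').op from rfl,
    E.presheaf.map_comp]
  rfl

theorem resO_id (U : S.Opens) (a : Γ(S, U)) : resO (le_refl U) a = a := by
  unfold resO
  rw [show (homOfLE (le_refl U)).op = 𝟙 (op U) from rfl, S.presheaf.map_id]
  rfl

theorem resO_comp {U V W : S.Opens} (h : V ≤ U) (h' : W ≤ V) (a : Γ(S, U)) :
    resO h' (resO h a) = resO (h'.trans h) a := by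
  unfold resO
  rw [show (homOfLE (h'.trans h)).op = (homOfLE h).op ≫ (homOfLE h').op from rfl,
    S.presheaf.map_comp]
  rfl

/-- the restriction maps of the symmetric algebras -/
def symRes {U V : S.Opens} (h : V ≤ U) :
    SymmetricAlgebra Γ(S, U) Γ(E, U) →+* SymmetricAlgebra Γ(S, V) Γ(E, V) :=
  symMap (resO h) (resE E h) (resE_smul E h)

theorem symRes_id (U : S.Opens) : symRes E (le_refl U) = RingHom.id _ := by
  refine ringHom_ext (fun a => ?_) (fun m => ?_)
  · unfold symRes
    rw [symMap_algebraMap, resO_id, RingHom.id_apply]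
  · unfold symRes
    rw [symMap_ι, resE_id, RingHom.id_apply]

theorem symRes_comp {U V W : S.Opens} (h : V ≤ U) (h' : W ≤ V) :
    (symRes E h').comp (symRes E h) = symRes E (h'.trans h) := by
  refine ringHom_ext (fun a => ?_) (fun m => ?_)
  · unfold symRes
    rw [RingHom.comp_apply, symMap_algebraMap, symMap_algebraMap, symMap_algebraMap, resO_comp]
  · unfold symRes
    rw [RingHom.comp_apply, symMap_ι, symMap_ι, symMap_ι, resE_comp]

/-- the symmetric algebras of the sections over affine opens -/
def symFunctor : S.AffineZariskiSiteᵒᵖ ⥤ CommRingCat.{u} where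
  obj U := CommRingCat.of (SymmetricAlgebra Γ(S, U.unop.1) Γ(E, U.unop.1))
  map {U V} i := CommRingCat.ofHom (symRes E (toOpens_mono i.unop.le))
  map_id U := by
    have := symRes_id E U.unop.1
    ext1
    exact this
  map_comp {U V W} i j := by
    have := symRes_comp E (toOpens_mono i.unop.le) (toOpens_mono j.unop.le)
    ext1
    exact this.symm

/-- the structure map over an open -/
def symStrApp (U : S.Opens) : Γ(S, U) ⟶ CommRingCat.of (SymmetricAlgebra Γ(S, U) Γ(E, U)) :=
  CommRingCat.ofHom (algebraMap Γ(S, U) (SymmetricAlgebra Γ(S, U) Γ(E, U)))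

theorem symStrApp_naturality {U V : S.Opens} (h : V ≤ U) :
    S.presheaf.map (homOfLE h).op ≫ symStrApp E V =
      symStrApp E U ≫ CommRingCat.ofHom (symRes E h) := by
  ext1
  refine RingHom.ext fun a => ?_
  change algebraMap Γ(S, V) (SymmetricAlgebra Γ(S, V) Γ(E, V)) (resO h a) =
    symRes E h (algebraMap Γ(S, U) (SymmetricAlgebra Γ(S, U) Γ(E, U)) a)
  unfold symRes
  rw [symMap_algebraMap]

/-- the structure maps -/
def symStr : (toOpensFunctor S).op ⋙ S.presheaf ⟶ symFunctor E where
  app U := symStrApp E U.unop.1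
  naturality {U V} i := symStrApp_naturality E (toOpens_mono i.unop.le)

theorem coequifibered_symStr [E.IsQuasicoherent] : (symStr E).Coequifibered := by
  rw [coequifibered_iff_forall_isLocalizationAway]
  intro U f
  have hloc := Groth.Agent.Lib.Helper2.Push.IsLocOn.of_isQuasicoherent U.2 E
  exact isLocalization_symMap (resO (S.basicOpen_le f)) (resE E (S.basicOpen_le f))
    (resE_smul E _) f (U.2.isLocalization_basicOpen f)
    (fun s => by
      obtain ⟨n, t, ht⟩ := hloc.exists_extension f s
      exact ⟨n, t, ht.symm⟩)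
    (fun t ht => hloc.exists_pow_smul_eq_zero f t ht)

end

end Groth.Agent.Helper13SymAlg
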