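import Mathlib
import Groth.Prelude.Def_RelSpec
import Groth.Agent.Lib.Helper13SymFunctor
import Groth.Agent.Lib.Helper13ModAffine
import Groth.Agent.Lib.Helper13QCAlgPO

set_option autoImplicit false

namespace Groth.Agent.Helper13SymAlg

open CategoryTheory CategoryTheory.Limits AlgebraicGeometry Opposite TopologicalSpace
open Scheme.AffineZariskiSite Groth.Agent.Helper13SymLoc Groth.Agent.Helper13QCAlgOfAffine
open Groth.Agent.Helper13ModAffine Groth.Agent.Helper13QCAlgPO

universe u

noncomputable section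

variable {S : Scheme.{u}} (E : S.Modules) [E.IsQuasicoherent]

/-- the symmetric algebra of a quasi-coherent module, as a quasi-coherent algebra -/
def symAlg : RelSpec.QCAlg S := qcAlg (coequifibered_symStr E)

variable (U : S.Opens) (hU : IsAffineOpen U)

/-- the identification of the sections over an affine open -/
def γ : (symAlg E).presheaf.obj (op U) ⟶ CommRingCat.of (SymmetricAlgebra Γ(S, U) Γ(E, U)) :=
  gammaAff (coequifibered_symStr E) U hU

instance : IsIso (γ E U hU) := isIso_gammaAff (coequifibered_symStr E) U hU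

theorem γ_naturality {U V : S.AffineZariskiSite} (i : V ⟶ U) :
    (symAlg E).presheaf.map (homOfLE (toOpens_mono i.le)).op ≫ γ E V.1 V.2 =
      γ E U.1 U.2 ≫ CommRingCat.ofHom (symRes E (toOpens_mono i.le)) :=
  gammaAff_naturality (coequifibered_symStr E) i

theorem str_γ : (symAlg E).str.app (op U) ≫ γ E U hU = symStrApp E U :=
  π_app_gammaAff (coequifibered_symStr E) U hU

theorem γ_inv_γ (x : SymmetricAlgebra Γ(S, U) Γ(E, U)) :
    (γ E U hU).hom ((inv (γ E U hU)).hom x) = x := by
  have := IsIso.inv_hom_id (γ E U hU)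
  exact congrArg (fun t : CommRingCat.of (SymmetricAlgebra Γ(S, U) Γ(E, U)) ⟶ _ => t.hom x) this

theorem inv_γ_γ (x : (symAlg E).presheaf.obj (op U)) :
    (inv (γ E U hU)).hom ((γ E U hU).hom x) = x := by
  have := IsIso.hom_inv_id (γ E U hU)
  exact congrArg (fun t : (symAlg E).presheaf.obj (op U) ⟶ _ => t.hom x) this

theorem inv_γ_algebraMap (a : Γ(S, U)) :
    (inv (γ E U hU)).hom (algebraMap Γ(S, U) (SymmetricAlgebra Γ(S, U) Γ(E, U)) a) =
      ((symAlg E).str.app (op U)).hom a := by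
  have h := str_γ E U hU
  have h2 : ((symAlg E).str.app (op U)).hom a =
      (inv (γ E U hU)).hom ((γ E U hU).hom (((symAlg E).str.app (op U)).hom a)) :=
    (inv_γ_γ E U hU _).symm
  rw [h2]
  congr 1
  exact (congrArg (fun t : Γ(S, U) ⟶ _ => t.hom a) h).symm

/-- the universal map over an affine open -/
def jAff : Γ(E, U) ⟶ Γ((symAlg E).toModule, U) :=
  AddCommGrpCat.ofHom (((inv (γ E U hU)).hom : _ →+* _).toAddMonoidHom.comp
    (SymmetricAlgebra.ι Γ(S, U) Γ(E, U)).toAddMonoidHom)

theorem jAff_apply (m : Γ(E, U)) :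
    (jAff E U hU m : (symAlg E).presheaf.obj (op U)) =
      (inv (γ E U hU)).hom (SymmetricAlgebra.ι Γ(S, U) Γ(E, U) m) := rfl

theorem γ_injective : Function.Injective (γ E U hU).hom := by
  intro x y hxy
  rw [← inv_γ_γ E U hU x, ← inv_γ_γ E U hU y, hxy]

theorem jAff_nat {U V : S.AffineZariskiSite} (i : V ⟶ U) :
    E.presheaf.map (homOfLE (toOpens_mono i.le)).op ≫ jAff E V.1 V.2 =
      jAff E U.1 U.2 ≫ (symAlg E).toModule.presheaf.map (homOfLE (toOpens_mono i.le)).op := by
  ext m
  change (jAff E V.1 V.2 (resE E (toOpens_mono i.le) m) : (symAlg E).presheaf.obj (op V.1)) =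
    ((symAlg E).presheaf.map (homOfLE (toOpens_mono i.le)).op).hom (jAff E U.1 U.2 m)
  apply γ_injective E V.1 V.2
  rw [jAff_apply, jAff_apply, γ_inv_γ]
  have h := γ_naturality E i
  have h2 := congrArg (fun t : (symAlg E).presheaf.obj (op U.1) ⟶ _ =>
    t.hom ((inv (γ E U.1 U.2)).hom (SymmetricAlgebra.ι Γ(S, U.1) Γ(E, U.1) m))) h
  simp only [CommRingCat.hom_comp, RingHom.coe_comp, Function.comp_apply] at h2
  rw [h2, γ_inv_γ]
  change _ = symRes E (toOpens_mono i.le) _
  unfold symRes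
  rw [symMap_ι]

theorem jAff_lin (a : Γ(S, U)) (m : Γ(E, U)) :
    jAff E U hU (a • m) = a • jAff E U hU m := by
  change (inv (γ E U hU)).hom (SymmetricAlgebra.ι Γ(S, U) Γ(E, U) (a • m)) =
    (((symAlg E).str.app (op U)).hom a *
      (inv (γ E U hU)).hom (SymmetricAlgebra.ι Γ(S, U) Γ(E, U) m) :
        (symAlg E).presheaf.obj (op U))
  rw [map_smul, Algebra.smul_def, map_mul, inv_γ_algebraMap]

/-- the universal module map `E → Sym(E)` -/
def j : E ⟶ (symAlg E).toModule :=
  homOfAffine (fun U hU => jAff E U hU) (fun i => jAff_nat E i) (fun U hU a m => jAff_lin E U hU a m)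

theorem j_app : (j E).app U = jAff E U hU := homOfAffine_app _ _ _ U hU

end

noncomputable section Extend

variable {S : Scheme.{u}}

/-- extension of a family on affine opens, natural for the morphisms of the affine site -/
def extendSite {F : TopCat.Presheaf CommRingCat.{u} S.carrier} (A : RelSpec.QCAlg S)
    (d : ∀ (U : S.Opens) (_ : IsAffineOpen U), F.obj (op U) ⟶ A.presheaf.obj (op U))
    (hd : ∀ {U V : S.AffineZariskiSite} (i : V ⟶ U),
      F.map (homOfLE (toOpens_mono i.le)).op ≫ d V.1 V.2 =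
        d U.1 U.2 ≫ A.presheaf.map (homOfLE (toOpens_mono i.le)).op) : F ⟶ A.presheaf :=
  Functor.IsCoverDense.restrictHomEquivHom (G := toOpensFunctor S)
    (K := Opens.grothendieckTopology S) (ℱ := F)
    (ℱ' := (⟨A.presheaf, A.isSheaf⟩ : TopCat.Sheaf CommRingCat.{u} S.carrier))
    { app := fun U => d U.unop.1 U.unop.2
      naturality := fun _ _ i => hd i.unop }

theorem extendSite_app {F : TopCat.Presheaf CommRingCat.{u} S.carrier} (A : RelSpec.QCAlg S)
    (d : ∀ (U : S.Opens) (_ : IsAffineOpen U), F.obj (op U) ⟶ A.presheaf.obj (op U))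
    (hd : ∀ {U V : S.AffineZariskiSite} (i : V ⟶ U),
      F.map (homOfLE (toOpens_mono i.le)).op ≫ d V.1 V.2 =
        d U.1 U.2 ≫ A.presheaf.map (homOfLE (toOpens_mono i.le)).op)
    (U : S.Opens) (hU : IsAffineOpen U) : (extendSite A d hd).app (op U) = d U hU := by
  have h := (Functor.IsCoverDense.restrictHomEquivHom (G := toOpensFunctor S)
    (K := Opens.grothendieckTopology S) (ℱ := F)
    (ℱ' := (⟨A.presheaf, A.isSheaf⟩ : TopCat.Sheaf CommRingCat.{u} S.carrier))).symm_apply_apply
      ({ app := fun U => d U.unop.1 U.unop.2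
         naturality := fun _ _ i => hd i.unop } :
        (toOpensFunctor S).op ⋙ F ⟶ (toOpensFunctor S).op ⋙ A.presheaf)
  exact NatTrans.congr_app h (op ⟨U, hU⟩)

end Extend

noncomputable section Univ

variable {S : Scheme.{u}} (E : S.Modules) [E.IsQuasicoherent] (B : RelSpec.QCAlg S)
  (φ : E ⟶ B.toModule)

/-- `φ` over an open, as an additive map into the ring of sections -/
def φAdd (U : S.Opens) : Γ(E, U) →+ B.presheaf.obj (op U) := (φ.app U).hom

theorem φAdd_smul (U : S.Opens) (a : Γ(S, U)) (m : Γ(E, U)) :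
    φAdd E B φ U (a • m) = (B.str.app (op U)).hom a * φAdd E B φ U m :=
  φ.app_smul a m

theorem φAdd_res {U V : S.Opens} (h : V ≤ U) (m : Γ(E, U)) :
    φAdd E B φ V (resE E h m) = (B.presheaf.map (homOfLE h).op).hom (φAdd E B φ U m) :=
  CategoryTheory.congr_fun (φ.mapPresheaf.naturality (homOfLE h).op) m

/-- the algebra map out of the symmetric algebra over an open -/
def σ (U : S.Opens) : SymmetricAlgebra Γ(S, U) Γ(E, U) →+* B.presheaf.obj (op U) :=
  symLift (B.str.app (op U)).hom (φAdd E B φ U) (φAdd_smul E B φ U)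

theorem σ_nat {U V : S.Opens} (h : V ≤ U) :
    (σ E B φ V).comp (symRes E h) = (B.presheaf.map (homOfLE h).op).hom.comp (σ E B φ U) := by
  refine ringHom_ext (fun a => ?_) (fun m => ?_)
  · unfold symRes σ
    rw [RingHom.comp_apply, RingHom.comp_apply, symMap_algebraMap, symLift_algebraMap,
      symLift_algebraMap]
    exact congrArg (fun t : Γ(S, U) ⟶ _ => t.hom a) (B.str.naturality (homOfLE h).op)
  · unfold symRes σ
    rw [RingHom.comp_apply, RingHom.comp_apply, symMap_ι, symLift_ι, symLift_ι, φAdd_res]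

/-- the extension over an affine open -/
def ψAff (U : S.Opens) (hU : IsAffineOpen U) :
    (symAlg E).presheaf.obj (op U) ⟶ B.presheaf.obj (op U) :=
  γ E U hU ≫ CommRingCat.ofHom (σ E B φ U)

theorem ψAff_nat {U V : S.AffineZariskiSite} (i : V ⟶ U) :
    (symAlg E).presheaf.map (homOfLE (toOpens_mono i.le)).op ≫ ψAff E B φ V.1 V.2 =
      ψAff E B φ U.1 U.2 ≫ B.presheaf.map (homOfLE (toOpens_mono i.le)).op := by
  have h1 := γ_naturality E i
  have h2 : CommRingCat.ofHom (symRes E (toOpens_mono i.le)) ≫ CommRingCat.ofHom (σ E B φ V.1) =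
      CommRingCat.ofHom (σ E B φ U.1) ≫ B.presheaf.map (homOfLE (toOpens_mono i.le)).op := by
    ext1
    exact σ_nat E B φ (toOpens_mono i.le)
  unfold ψAff
  rw [← Category.assoc, h1, Category.assoc, h2, Category.assoc]

/-- the extension as a map of presheaves -/
def ψHom : (symAlg E).presheaf ⟶ B.presheaf :=
  extendSite B (fun U hU => ψAff E B φ U hU) (fun i => ψAff_nat E B φ i)

theorem ψHom_app (U : S.Opens) (hU : IsAffineOpen U) :
    (ψHom E B φ).app (op U) = ψAff E B φ U hU :=
  extendSite_app B _ _ U hU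

theorem ψHom_comm : (symAlg E).str ≫ ψHom E B φ = B.str := by
  apply presheaf_hom_ext_affine B
  intro U hU
  rw [NatTrans.comp_app, ψHom_app E B φ U hU]
  unfold ψAff
  rw [← Category.assoc, str_γ]
  ext1
  refine RingHom.ext fun a => ?_
  change σ E B φ U (algebraMap Γ(S, U) _ a) = _
  unfold σ
  rw [symLift_algebraMap]

/-- the extension as a homomorphism of quasi-coherent algebras -/
def ψ : symAlg E ⟶ B := ⟨ψHom E B φ, ψHom_comm E B φ⟩

theorem j_ψ : j E ≫ RelSpec.QCAlg.Hom.toModuleMap (ψ E B φ) = φ := by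
  apply hom_ext_affine
  intro U hU
  rw [Scheme.Modules.Hom.comp_app, j_app E U hU]
  ext m
  change ((ψHom E B φ).app (op U)).hom (jAff E U hU m : (symAlg E).presheaf.obj (op U)) =
    φAdd E B φ U m
  rw [ψHom_app E B φ U hU, jAff_apply]
  unfold ψAff
  rw [CommRingCat.hom_comp, RingHom.comp_apply, γ_inv_γ]
  change σ E B φ U _ = _
  unfold σ
  rw [symLift_ι]

theorem ψ_unique (ψ' : symAlg E ⟶ B)
    (h : j E ≫ RelSpec.QCAlg.Hom.toModuleMap ψ' = φ) : ψ' = ψ E B φ := by
  apply RelSpec.QCAlg.hom_ext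
  apply presheaf_hom_ext_affine B
  intro U hU
  change ψ'.hom.app (op U) = (ψHom E B φ).app (op U)
  rw [ψHom_app E B φ U hU]
  unfold ψAff
  rw [← IsIso.inv_comp_eq]
  ext1
  refine ringHom_ext (fun a => ?_) (fun m => ?_)
  · change (ψ'.hom.app (op U)).hom ((inv (γ E U hU)).hom (algebraMap Γ(S, U) _ a)) =
      σ E B φ U (algebraMap Γ(S, U) _ a)
    unfold σ
    rw [inv_γ_algebraMap, symLift_algebraMap]
    exact congrArg (fun t : Γ(S, U) ⟶ _ => t.hom a) (NatTrans.congr_app ψ'.comm (op U))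
  · change (ψ'.hom.app (op U)).hom ((inv (γ E U hU)).hom (SymmetricAlgebra.ι Γ(S, U) Γ(E, U) m)) =
      σ E B φ U (SymmetricAlgebra.ι Γ(S, U) Γ(E, U) m)
    unfold σ
    rw [symLift_ι]
    have h1 := congrArg (fun t : E ⟶ B.toModule => (t.app U).hom m) h
    simp only [Scheme.Modules.Hom.comp_app] at h1
    rw [j_app E U hU] at h1
    exact h1

theorem isSymAlg : RelSpec.IsSymAlg E (symAlg E) (j E) := fun B φ =>
  ⟨ψ E B φ, j_ψ E B φ, fun ψ' h => ψ_unique E B φ ψ' h⟩

end Univ

end Groth.Agent.Helper13SymAlg
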