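import Mathlib
import Groth.Prelude.Def_RelSpec
import Groth.Agent.Lib.Helper13SymAlg

set_option autoImplicit false

namespace Groth.Agent.Helper13SymAlg

open CategoryTheory CategoryTheory.Limits AlgebraicGeometry Opposite TopologicalSpace
open Scheme.AffineZariskiSite Groth.Agent.Helper13SymLoc Groth.Agent.Helper13QCAlgOfAffine
open Groth.Agent.Helper13ModAffine Groth.Agent.Helper13QCAlgPO

universe u

noncomputable section

variable {S : Scheme.{u}}

theorem toModuleMap_id (A : RelSpec.QCAlg S) :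
    RelSpec.QCAlg.Hom.toModuleMap (𝟙 A) = 𝟙 A.toModule := by
  apply Scheme.Modules.hom_ext
  intro U
  rfl

theorem toModuleMap_comp {A B C : RelSpec.QCAlg S} (f : A ⟶ B) (g : B ⟶ C) :
    RelSpec.QCAlg.Hom.toModuleMap (f ≫ g) =
      RelSpec.QCAlg.Hom.toModuleMap f ≫ RelSpec.QCAlg.Hom.toModuleMap g := by
  apply Scheme.Modules.hom_ext
  intro U
  rfl

variable (E : S.Modules) [E.IsQuasicoherent]

/-- two symmetric algebras of the same module are canonically isomorphic -/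
theorem exists_iso_of_isSymAlg {A A' : RelSpec.QCAlg S} {j : E ⟶ A.toModule} {j' : E ⟶ A'.toModule}
    (hA : RelSpec.IsSymAlg E A j) (hA' : RelSpec.IsSymAlg E A' j') :
    ∃ θ : A ≅ A', j ≫ RelSpec.QCAlg.Hom.toModuleMap θ.hom = j' := by
  obtain ⟨θ, hθ, -⟩ := hA A' j'
  obtain ⟨θ', hθ', -⟩ := hA' A j
  have h1 : θ ≫ θ' = 𝟙 A := by
    obtain ⟨ψ, -, hψ⟩ := hA A j
    have e1 : θ ≫ θ' = ψ := hψ _ (by
      change j ≫ RelSpec.QCAlg.Hom.toModuleMap (θ ≫ θ') = j
      rw [toModuleMap_comp, ← Category.assoc, hθ, hθ'])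
    have e2 : 𝟙 A = ψ := hψ _ (by
      change j ≫ RelSpec.QCAlg.Hom.toModuleMap (𝟙 A) = j
      rw [toModuleMap_id, Category.comp_id])
    rw [e1, e2]
  have h2 : θ' ≫ θ = 𝟙 A' := by
    obtain ⟨ψ, -, hψ⟩ := hA' A' j'
    have e1 : θ' ≫ θ = ψ := hψ _ (by
      change j' ≫ RelSpec.QCAlg.Hom.toModuleMap (θ' ≫ θ) = j'
      rw [toModuleMap_comp, ← Category.assoc, hθ', hθ])
    have e2 : 𝟙 A' = ψ := hψ _ (by
      change j' ≫ RelSpec.QCAlg.Hom.toModuleMap (𝟙 A') = j'
      rw [toModuleMap_id, Category.comp_id])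
    rw [e1, e2]
  exact ⟨⟨θ, θ', h1, h2⟩, hθ⟩

theorem bijective_app_of_iso {A A' : RelSpec.QCAlg S} (θ : A ≅ A') (U : S.Opens) :
    Function.Bijective (θ.hom.hom.app (op U)).hom := by
  have h1 : θ.hom.hom.app (op U) ≫ θ.inv.hom.app (op U) = 𝟙 _ := by
    rw [← NatTrans.comp_app, ← RelSpec.QCAlg.comp_hom, θ.hom_inv_id]
    rfl
  have h2 : θ.inv.hom.app (op U) ≫ θ.hom.hom.app (op U) = 𝟙 _ := by
    rw [← NatTrans.comp_app, ← RelSpec.QCAlg.comp_hom, θ.inv_hom_id]
    rfl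
  refine Function.bijective_iff_has_inverse.mpr ⟨(θ.inv.hom.app (op U)).hom, fun x => ?_, fun x => ?_⟩
  · exact congrArg (fun t : A.presheaf.obj (op U) ⟶ _ => t.hom x) h1
  · exact congrArg (fun t : A'.presheaf.obj (op U) ⟶ _ => t.hom x) h2

variable (U : S.Opens) (hU : IsAffineOpen U)

theorem σ_symAlg : σ E (symAlg E) (j E) U = (inv (γ E U hU)).hom := by
  refine ringHom_ext (fun a => ?_) (fun m => ?_)
  · unfold σ
    rw [symLift_algebraMap, inv_γ_algebraMap]
  · unfold σ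
    rw [symLift_ι]
    change ((j E).app U).hom m = _
    rw [j_app E U hU]
    rfl

theorem σ_comp {A A' : RelSpec.QCAlg S} (j : E ⟶ A.toModule) (θ : A ⟶ A') (V : S.Opens) :
    σ E A' (j ≫ RelSpec.QCAlg.Hom.toModuleMap θ) V = (θ.hom.app (op V)).hom.comp (σ E A j V) := by
  refine ringHom_ext (fun a => ?_) (fun m => ?_)
  · unfold σ
    rw [RingHom.comp_apply, symLift_algebraMap, symLift_algebraMap]
    exact (congrArg (fun t : Γ(S, V) ⟶ _ => t.hom a) (NatTrans.congr_app θ.comm (op V))).symm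
  · unfold σ
    rw [RingHom.comp_apply, symLift_ι, symLift_ι]
    rfl

include hU in
/-- local structure of a symmetric algebra: over an affine open it is the symmetric algebra of the
sections -/
theorem bijective_σ {A : RelSpec.QCAlg S} {j : E ⟶ A.toModule} (hA : RelSpec.IsSymAlg E A j) :
    Function.Bijective (σ E A j U) := by
  obtain ⟨θ, hθ⟩ := exists_iso_of_isSymAlg E (isSymAlg E) hA
  rw [← hθ, σ_comp, σ_symAlg E U hU]
  refine (bijective_app_of_iso θ U).comp ?_
  exact ConcreteCategory.bijective_of_isIso (inv (γ E U hU))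

end

end Groth.Agent.Helper13SymAlg
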