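import Mathlib
import Groth.Agent.Lib.Helper13SymLoc

set_option autoImplicit false

namespace Groth.Agent.Helper13SymLoc

universe u

open SymmetricAlgebra CategoryTheory CategoryTheory.Limits

section

variable {R : Type u} [CommRing R] {M N P : Type u} [AddCommGroup M] [Module R M]
  [AddCommGroup N] [Module R N] [AddCommGroup P] [Module R P]

/-- the symmetric algebra of a biproduct is the pushout of the symmetric algebras -/
theorem isPushout_sym_biprod (inl : M →+ P) (inr : N →+ P) (fst : P →+ M) (snd : P →+ N)
    (hinl : ∀ (a : R) (m : M), inl (a • m) = a • inl m)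
    (hinr : ∀ (a : R) (n : N), inr (a • n) = a • inr n)
    (hfst : ∀ (a : R) (p : P), fst (a • p) = a • fst p)
    (hsnd : ∀ (a : R) (p : P), snd (a • p) = a • snd p)
    (h1 : ∀ m, fst (inl m) = m) (h2 : ∀ n, snd (inr n) = n) (h3 : ∀ n, fst (inr n) = 0)
    (h4 : ∀ m, snd (inl m) = 0) (h5 : ∀ p, inl (fst p) + inr (snd p) = p) :
    IsPushout (CommRingCat.ofHom (algebraMap R (SymmetricAlgebra R M)))
      (CommRingCat.ofHom (algebraMap R (SymmetricAlgebra R N)))
      (CommRingCat.ofHom (symMap (RingHom.id R) inl hinl))
      (CommRingCat.ofHom (symMap (RingHom.id R) inr hinr)) := by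
  have w : CommRingCat.ofHom (algebraMap R (SymmetricAlgebra R M)) ≫
      CommRingCat.ofHom (symMap (RingHom.id R) inl hinl) =
      CommRingCat.ofHom (algebraMap R (SymmetricAlgebra R N)) ≫
      CommRingCat.ofHom (symMap (RingHom.id R) inr hinr) := by
    ext1
    refine RingHom.ext fun a => ?_
    change symMap (RingHom.id R) inl hinl (algebraMap R _ a) =
      symMap (RingHom.id R) inr hinr (algebraMap R _ a)
    rw [symMap_algebraMap, symMap_algebraMap]
  refine ⟨⟨w⟩, ⟨PushoutCocone.IsColimit.mk _ (fun s => ?_) ?_ ?_ ?_⟩⟩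
  · -- the descent map
    exact CommRingCat.ofHom (symLift (R := R) (M := P)
      (s.inl.hom.comp (algebraMap R (SymmetricAlgebra R M)))
      (((s.inl.hom : _ →+* _).toAddMonoidHom.comp ((ι R M).toAddMonoidHom.comp fst)) +
        ((s.inr.hom : _ →+* _).toAddMonoidHom.comp ((ι R N).toAddMonoidHom.comp snd)))
      (fun a p => by
        have hc : s.inr.hom (algebraMap R (SymmetricAlgebra R N) a) =
            s.inl.hom (algebraMap R (SymmetricAlgebra R M) a) :=
          (congrArg (fun t : CommRingCat.of R ⟶ s.pt => t.hom a) s.condition).symm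
        simp only [AddMonoidHom.add_apply, AddMonoidHom.coe_comp, Function.comp_apply,
          RingHom.toAddMonoidHom_eq_coe, AddMonoidHom.coe_coe, LinearMap.toAddMonoidHom_coe,
          hfst, hsnd, map_smul, Algebra.smul_def, map_mul, RingHom.coe_comp, hc]
        ring))
  · intro s
    ext1
    refine ringHom_ext (fun a => ?_) (fun m => ?_)
    · simp only [CommRingCat.hom_comp, CommRingCat.hom_ofHom, RingHom.coe_comp,
        Function.comp_apply, symMap_algebraMap, RingHom.id_apply, symLift_algebraMap]
    · simp only [CommRingCat.hom_comp, CommRingCat.hom_ofHom, RingHom.coe_comp,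
        Function.comp_apply, symMap_ι, symLift_ι, AddMonoidHom.add_apply, AddMonoidHom.coe_comp,
        RingHom.toAddMonoidHom_eq_coe, AddMonoidHom.coe_coe, LinearMap.toAddMonoidHom_coe, h1, h4,
        map_zero, add_zero]
  · intro s
    ext1
    refine ringHom_ext (fun a => ?_) (fun n => ?_)
    · have hc : s.inr.hom (algebraMap R (SymmetricAlgebra R N) a) =
          s.inl.hom (algebraMap R (SymmetricAlgebra R M) a) :=
        (congrArg (fun t : CommRingCat.of R ⟶ s.pt => t.hom a) s.condition).symm
      simp only [CommRingCat.hom_comp, CommRingCat.hom_ofHom, RingHom.coe_comp,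
        Function.comp_apply, symMap_algebraMap, RingHom.id_apply, symLift_algebraMap, hc]
    · simp only [CommRingCat.hom_comp, CommRingCat.hom_ofHom, RingHom.coe_comp,
        Function.comp_apply, symMap_ι, symLift_ι, AddMonoidHom.add_apply, AddMonoidHom.coe_comp,
        RingHom.toAddMonoidHom_eq_coe, AddMonoidHom.coe_coe, LinearMap.toAddMonoidHom_coe, h2, h3,
        map_zero, zero_add]
  · intro s m' hl hr
    ext1
    refine ringHom_ext (fun a => ?_) (fun p => ?_)
    · have := congrArg (fun t : CommRingCat.of (SymmetricAlgebra R M) ⟶ s.pt =>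
        t.hom (algebraMap R _ a)) hl
      simp only [CommRingCat.hom_comp, CommRingCat.hom_ofHom, RingHom.coe_comp,
        Function.comp_apply, symMap_algebraMap, RingHom.id_apply] at this
      simp only [CommRingCat.hom_ofHom, symLift_algebraMap, RingHom.coe_comp, Function.comp_apply]
      exact this
    · have hl' := congrArg (fun t : CommRingCat.of (SymmetricAlgebra R M) ⟶ s.pt =>
        t.hom (ι R M (fst p))) hl
      have hr' := congrArg (fun t : CommRingCat.of (SymmetricAlgebra R N) ⟶ s.pt =>
        t.hom (ι R N (snd p))) hr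
      simp only [CommRingCat.hom_comp, CommRingCat.hom_ofHom, RingHom.coe_comp,
        Function.comp_apply, symMap_ι] at hl' hr'
      simp only [CommRingCat.hom_ofHom, symLift_ι, AddMonoidHom.add_apply, AddMonoidHom.coe_comp,
        Function.comp_apply, RingHom.toAddMonoidHom_eq_coe, AddMonoidHom.coe_coe,
        LinearMap.toAddMonoidHom_coe]
      rw [← hl', ← hr', ← map_add, ← map_add, h5]

end

end Groth.Agent.Helper13SymLoc
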