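import Mathlib
import Groth.Prelude.Def_RelSpec
import Groth.Agent.Lib.Helper13SymAlgLocal
import Groth.Agent.Lib.Helper13RelSpecLocal
import Groth.Agent.Lib.Helper13SymBiprodAlg
import Groth.Agent.Lib.Helper13ProjBC
import Groth.Agent.Lib.Helper23QCohAbelian

set_option autoImplicit false

namespace Groth.Agent.Helper13SymAlg

open CategoryTheory CategoryTheory.Limits AlgebraicGeometry Opposite TopologicalSpace
open Groth.Agent.Helper13SymLoc Groth.Agent.Helper13RelSpecLocal

universe u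

noncomputable section

variable {S : Scheme.{u}}

theorem σ_precomp (E F : S.Modules) [E.IsQuasicoherent] [F.IsQuasicoherent]
    (u : E ⟶ F) (B : RelSpec.QCAlg S) (k : F ⟶ B.toModule) (U : S.Opens) :
    σ E B (u ≫ k) U = (σ F B k U).comp
      (symMap (RingHom.id Γ(S, U)) (u.app U).hom (fun a m => u.app_smul a m)) := by
  refine ringHom_ext (fun a => ?_) (fun m => ?_)
  · unfold σ
    rw [RingHom.comp_apply, symLift_algebraMap, symMap_algebraMap, symLift_algebraMap]
    rfl
  · unfold σ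
    rw [RingHom.comp_apply, symLift_ι, symMap_ι, symLift_ι]
    rfl

/-- the identification of sections of a symmetric algebra over an affine open, as an isomorphism of
rings -/
def σIso (E : S.Modules) [E.IsQuasicoherent] {A : RelSpec.QCAlg S} {j : E ⟶ A.toModule}
    (hA : RelSpec.IsSymAlg E A j) (U : S.Opens) (hU : IsAffineOpen U) :
    CommRingCat.of (SymmetricAlgebra Γ(S, U) Γ(E, U)) ≅ A.presheaf.obj (op U) :=
  (RingEquiv.ofBijective (σ E A j U) (bijective_σ E U hU hA)).toCommRingCatIso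

theorem σIso_hom (E : S.Modules) [E.IsQuasicoherent] {A : RelSpec.QCAlg S} {j : E ⟶ A.toModule}
    (hA : RelSpec.IsSymAlg E A j) (U : S.Opens) (hU : IsAffineOpen U) :
    (σIso E hA U hU).hom = CommRingCat.ofHom (σ E A j U) := rfl

section Biprod

variable (E F : S.Modules) [E.IsQuasicoherent] [F.IsQuasicoherent]
  {AE AF A : RelSpec.QCAlg S} {jE : E ⟶ AE.toModule} {jF : F ⟶ AF.toModule}
  {j : E ⊞ F ⟶ A.toModule}
  (hAE : RelSpec.IsSymAlg E AE jE) (hAF : RelSpec.IsSymAlg F AF jF)
  (hA : RelSpec.IsSymAlg (E ⊞ F) A j)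
  (ψE : AE ⟶ A) (ψF : AF ⟶ A)
  (hψE : jE ≫ RelSpec.QCAlg.Hom.toModuleMap ψE = biprod.inl ≫ j)
  (hψF : jF ≫ RelSpec.QCAlg.Hom.toModuleMap ψF = biprod.inr ≫ j)

include hAE hAF hA hψE hψF in
theorem isPushout_sections_biprod (U : S.Opens) (hU : IsAffineOpen U) :
    IsPushout (AE.str.app (op U)) (AF.str.app (op U)) (ψE.hom.app (op U))
      (ψF.hom.app (op U)) := by
  haveI : (E ⊞ F).IsQuasicoherent :=
    Groth.Agent.Lib.Helper23.QCohLocal.isQuasicoherent_biprod E F
  have hrel : ∀ {X Y Z : S.Modules} (a : X ⟶ Y) (b : Y ⟶ Z) (x : Γ(X, U)),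
      (b.app U).hom ((a.app U).hom x) = ((a ≫ b).app U).hom x := fun a b x => rfl
  have hsym := isPushout_sym_biprod (R := Γ(S, U))
    ((biprod.inl : E ⟶ E ⊞ F).app U).hom ((biprod.inr : F ⟶ E ⊞ F).app U).hom
    ((biprod.fst : E ⊞ F ⟶ E).app U).hom ((biprod.snd : E ⊞ F ⟶ F).app U).hom
    (fun a m => (biprod.inl : E ⟶ E ⊞ F).app_smul a m)
    (fun a m => (biprod.inr : F ⟶ E ⊞ F).app_smul a m)
    (fun a m => (biprod.fst : E ⊞ F ⟶ E).app_smul a m)
    (fun a m => (biprod.snd : E ⊞ F ⟶ F).app_smul a m)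
    (fun m => by rw [hrel, biprod.inl_fst]; rfl)
    (fun m => by rw [hrel, biprod.inr_snd]; rfl)
    (fun m => by rw [hrel, biprod.inr_fst]; rfl)
    (fun m => by rw [hrel, biprod.inl_snd]; rfl)
    (fun p => by
      rw [hrel, hrel]
      have := congrArg (fun t : E ⊞ F ⟶ E ⊞ F => (t.app U).hom p) (biprod.total (X := E) (Y := F))
      exact this)
  refine IsPushout.of_iso hsym (Iso.refl _) (σIso E hAE U hU) (σIso F hAF U hU) (σIso (E ⊞ F) hA U hU)
    ?_ ?_ ?_ ?_
  · rw [σIso_hom, Iso.refl_hom, Category.id_comp]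
    ext1
    refine RingHom.ext fun a => ?_
    change σ E AE jE U (algebraMap _ _ a) = _
    unfold σ
    rw [symLift_algebraMap]
  · rw [σIso_hom, Iso.refl_hom, Category.id_comp]
    ext1
    refine RingHom.ext fun a => ?_
    change σ F AF jF U (algebraMap _ _ a) = _
    unfold σ
    rw [symLift_algebraMap]
  · rw [σIso_hom, σIso_hom]
    ext1
    have e1 := σ_comp E jE ψE U
    rw [hψE, σ_precomp E (E ⊞ F) biprod.inl A j U] at e1
    exact e1
  · rw [σIso_hom, σIso_hom]
    ext1
    have e1 := σ_comp F jF ψF U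
    rw [hψF, σ_precomp F (E ⊞ F) biprod.inr A j U] at e1
    exact e1

include hAE hAF hA hψE hψF in
theorem isPullback_vectorBundle_biprod :
    IsPullback (RelSpec.QCAlg.specMap ψE) (RelSpec.QCAlg.specMap ψF) AE.π AF.π := by
  refine Scheme.isPullback_of_openCover (RelSpec.QCAlg.specMap ψE) (RelSpec.QCAlg.specMap ψF)
    AE.π AF.π (chartCover AE) fun V => ?_
  obtain ⟨U, hU⟩ := V
  have hsq' := (isPullback_specMap_ι ψE U hU).flip
  have htop : IsPullback (Spec.map (ψE.hom.app (op U))) (Spec.map (ψF.hom.app (op U)))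
      (Spec.map (AE.str.app (op U))) (Spec.map (AF.str.app (op U))) :=
    isPullback_SpecMap_of_isPushout _ _ _ _
      (isPushout_sections_biprod E F hAE hAF hA ψE ψF hψE hψF U hU)
  have hbot := Groth.Agent.Helper13ProjBC.isPullback_ι AF U hU
  have h1 := htop.paste_vert hbot
  rw [← RelSpec.QCAlg.ι_specMap U hU ψF, ← AE.ι_π U hU] at h1
  refine IsPullback.of_iso h1 hsq'.isoPullback (Iso.refl _) (Iso.refl _) (Iso.refl _) ?_ ?_ ?_ ?_
  · simp only [Iso.refl_hom, Category.comp_id]
    exact (hsq'.isoPullback_hom_snd).symm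
  · simp only [Iso.refl_hom, Category.comp_id]
    rw [← Category.assoc]
    congr 1
    exact (hsq'.isoPullback_hom_fst).symm
  · simp only [Iso.refl_hom, Category.comp_id, Category.id_comp]
    rfl
  · simp only [Iso.refl_hom, Category.comp_id, Category.id_comp]

end Biprod

end

end Groth.Agent.Helper13SymAlg
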