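import Mathlib
import Groth.Prelude.Def_RelProj
import Groth.Prelude.Def_RelProj2
import Groth.Prelude.Def_Pic
import Groth.Agent.Lib.Helper13GrPoly
import Groth.Agent.Lib.Helper13SymBiprod
import Groth.Agent.Lib.Helper18FinFlat3

set_option autoImplicit false
set_option linter.style.haveILetI false
set_option linter.unusedSectionVars false
universe u
open CategoryTheory CategoryTheory.Limits AlgebraicGeometry Opposite TopologicalSpace

namespace Groth.Agent.Helper13ProjLine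

open Groth.Agent.Helper13SymAlg Groth.Agent.Helper13SymLoc Groth.Agent.Helper13GrPoly

section
variable {Y : Scheme.{u}} (L : Y.Modules) [L.IsQuasicoherent]
  (𝒮L : RelProj.QCGrAlg Y) (j : L ⟶ 𝒮L.toModule) (hj : RelProj.IsGrSymAlg L 𝒮L j)

/-- invertible modules have, locally, a basis with one element over affine opens -/
theorem exists_affine_basis (hL : PicF.IsInvertible L) (x : Y) :
    ∃ (W : Y.Opens) (_ : IsAffineOpen W), x ∈ W ∧
      Nonempty (Module.Basis (Fin 1) Γ(Y, W) Γ(L, W)) := by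
  obtain ⟨U₀, hx, ⟨e⟩⟩ := hL x
  let e' : L.restrict U₀.ι ≅ FlatMod.freeMod (↑U₀ : Scheme.{u}) 1 :=
    e ≪≫ (coproductUniqueIso (fun _ : Fin 1 => Coh.structureModule (↑U₀ : Scheme.{u}))).symm
  obtain ⟨W, hW, hxW, hb⟩ :=
    Groth.Agent.Helper18FinFlat.exists_affine_basis_of_restrict_iso_freeMod' L U₀.ι e' ⟨x, hx⟩
  exact ⟨W, hW, hxW, hb⟩

include hj in
/-- over an affine open where `L` has a basis `{t₀}`, the algebra `𝒮L(W)` is the polynomial ring in
`j(t₀)` over `Γ(Y, W)`. -/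
theorem bijective_eval₂ {W : Y.Opens} (hW : IsAffineOpen W)
    (b : Module.Basis (Fin 1) Γ(Y, W) Γ(L, W)) :
    Function.Bijective (Polynomial.eval₂RingHom (𝒮L.str.app (op W)).hom
      (φAdd L 𝒮L.toQCAlg j W (b 0))) := by
  let e₁ := SymmetricAlgebra.equivMvPolynomial b
  let e₂ := MvPolynomial.uniqueAlgEquiv Γ(Y, W) (Fin 1)
  have hσ := bijective_σ L W hW hj.1
  have key : Polynomial.eval₂RingHom (𝒮L.str.app (op W)).hom (φAdd L 𝒮L.toQCAlg j W (b 0)) =
      ((σ L 𝒮L.toQCAlg j W).comp e₁.symm.toAlgHom.toRingHom).comp e₂.symm.toAlgHom.toRingHom := by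
    refine Polynomial.ringHom_ext (fun r => ?_) ?_
    · have h1 : e₂.symm (Polynomial.C r) = MvPolynomial.C r := by
        rw [AlgEquiv.symm_apply_eq]
        simp [e₂]
      have h2 : e₁.symm (MvPolynomial.C r) = algebraMap _ _ r := by
        rw [AlgEquiv.symm_apply_eq]
        simp [e₁]
      show Polynomial.eval₂ (𝒮L.str.app (op W)).hom _ (Polynomial.C r) =
        (σ L 𝒮L.toQCAlg j W) (e₁.symm (e₂.symm (Polynomial.C r)))
      rw [Polynomial.eval₂_C, h1, h2]
      unfold σ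
      rw [symLift_algebraMap]
    · have h1 : e₂.symm Polynomial.X = MvPolynomial.X (0 : Fin 1) := by
        rw [AlgEquiv.symm_apply_eq]
        simp [e₂]
      show Polynomial.eval₂ (𝒮L.str.app (op W)).hom _ Polynomial.X =
        (σ L 𝒮L.toQCAlg j W) (e₁.symm (e₂.symm Polynomial.X))
      rw [Polynomial.eval₂_X, h1, SymmetricAlgebra.equivMvPolynomial_symm_X]
      unfold σ
      rw [symLift_ι]
  rw [key]
  exact (hσ.comp e₁.symm.bijective).comp e₂.symm.bijective

end

section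
variable {Y PL : Scheme.{u}} (L : Y.Modules) [L.IsQuasicoherent]
  (𝒮L : RelProj.QCGrAlg Y) (j : L ⟶ 𝒮L.toModule) (hj : RelProj.IsGrSymAlg L 𝒮L j)
  (pL : PL ⟶ Y)
  (chartL : ∀ (U : Y.Opens) (hU : IsAffineOpen U),
    (((pL ⁻¹ᵁ U : PL.Opens) : Scheme.{u}) ≅ Proj (𝒮L.deg U hU)))
  (hPL : RelProj.IsRelProj 𝒮L pL chartL)

include hj hPL in
theorem isIso_morphismRestrict {W : Y.Opens} (hW : IsAffineOpen W)
    (b : Module.Basis (Fin 1) Γ(Y, W) Γ(L, W)) : IsIso (pL ∣_ W) := by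
  have hz : φAdd L 𝒮L.toQCAlg j W (b 0) ∈ 𝒮L.deg W hW 1 := hj.2 W hW (b 0)
  have hiso := isIso_toSpecZero_comp (𝒮L.deg W hW) (𝒮L.str.app (op W)).hom (𝒮L.str_mem W hW)
    (φAdd L 𝒮L.toQCAlg j W (b 0)) hz (bijective_eval₂ L 𝒮L j hj hW b)
  have hstr : CommRingCat.ofHom (ιZero (𝒮L.deg W hW) (𝒮L.str.app (op W)).hom (𝒮L.str_mem W hW)) =
      𝒮L.strZero W hW := rfl
  rw [hstr] at hiso
  have hco := hPL.chart_over W hW
  have h1 : (pL ∣_ W) ≫ W.ι = (pL ⁻¹ᵁ W).ι ≫ pL := morphismRestrict_ι pL W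
  have h2 : pL ∣_ W = ((chartL W hW).hom ≫ (Proj.toSpecZero (𝒮L.deg W hW) ≫
      Spec.map (𝒮L.strZero W hW))) ≫ hW.isoSpec.inv := by
    rw [← cancel_mono W.ι, h1, ← hco]
    simp only [Category.assoc, IsAffineOpen.isoSpec_inv_ι]
  rw [h2]
  infer_instance

include hj hPL in
/-- **the relative `Proj` of the graded symmetric algebra of an invertible module is the base.** -/
theorem isIso_relProj (hL : PicF.IsInvertible L) : IsIso pL := by
  have : MorphismProperty.isomorphisms Scheme.{u} pL := by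
    refine IsZariskiLocalAtTarget.of_forall_exists_morphismRestrict fun x => ?_
    obtain ⟨W, hW, hxW, ⟨b⟩⟩ := exists_affine_basis L hL x
    exact ⟨W, hxW, isIso_morphismRestrict L 𝒮L j hj pL chartL hPL hW b⟩
  exact this

end

end Groth.Agent.Helper13ProjLine
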