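import Mathlib

/-!
# `Proj` of a surjective graded ring hom is a closed immersion
-/

set_option autoImplicit false
universe u
open AlgebraicGeometry CategoryTheory CategoryTheory.Limits HomogeneousLocalization

namespace Groth.Agent.Lib.Helper27ProjClosed

variable {R A : Type u} [CommRing R] [CommRing A] [Algebra R A] (𝒜 : ℕ → Submodule R A)
  [GradedAlgebra 𝒜]
  {B : Type u} [CommRing B] [Algebra R B] (ℬ : ℕ → Submodule R B) [GradedAlgebra ℬ]

theorem map_decompose (φ : 𝒜 →+*ᵍ ℬ) (a : A) (k : ℕ) :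
    φ (DirectSum.decompose 𝒜 a k : A) = (DirectSum.decompose ℬ (φ a) k : B) := by
  classical
  conv_rhs => rw [← DirectSum.sum_support_decompose 𝒜 a, map_sum, DirectSum.decompose_sum,
    DFinsupp.finset_sum_apply, AddSubmonoidClass.coe_finset_sum]
  rw [Finset.sum_eq_single k]
  · rw [DirectSum.decompose_of_mem_same ℬ (Graded.map_mem φ (SetLike.coe_mem _))]
  · intro j _ hjk
    rw [DirectSum.decompose_of_mem_ne ℬ (Graded.map_mem φ (SetLike.coe_mem _)) hjk]
  · intro hk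
    rw [DFinsupp.notMem_support_iff] at hk
    rw [hk]
    simp

theorem away_map_surjective (φ : 𝒜 →+*ᵍ ℬ) (hsurj : Function.Surjective φ) {d : ℕ} (s : A)
    (hs : s ∈ 𝒜 d) : Function.Surjective (Away.map φ s) := by
  intro y
  obtain ⟨n, b, hb, rfl⟩ := Away.mk_surjective ℬ (Graded.map_mem φ hs) y
  obtain ⟨a, rfl⟩ := hsurj b
  refine ⟨Away.mk 𝒜 hs n (DirectSum.decompose 𝒜 a (n • d) : A) (SetLike.coe_mem _), ?_⟩
  rw [Away.map_mk]
  congr 1
  rw [map_decompose, DirectSum.decompose_of_mem_same ℬ hb]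

variable {𝒜 ℬ}

theorem isPullback_away (φ : 𝒜 →+*ᵍ ℬ)
    (hφ : HomogeneousIdeal.irrelevant ℬ ≤ (HomogeneousIdeal.irrelevant 𝒜).map φ)
    {n : ℕ} (hn : 0 < n) (s : A) (hs : s ∈ 𝒜 n) :
    IsPullback (Spec.map (CommRingCat.ofHom (Away.map φ s)))
      (Proj.awayι ℬ (φ s) (Graded.map_mem φ hs) hn) (Proj.awayι 𝒜 s hs hn) (Proj.map φ hφ) := by
  refine IsOpenImmersion.isPullback _ _ _ _ (Proj.awayι_comp_map φ hφ hn s hs) ?_
  rw [Proj.opensRange_awayι, Proj.opensRange_awayι, Proj.map_preimage_basicOpen]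

theorem isClosedImmersion_map (φ : 𝒜 →+*ᵍ ℬ) (hsurj : Function.Surjective φ)
    (hφ : HomogeneousIdeal.irrelevant ℬ ≤ (HomogeneousIdeal.irrelevant 𝒜).map φ) :
    IsClosedImmersion (Proj.map φ hφ) := by
  refine IsZariskiLocalAtTarget.of_openCover (P := @IsClosedImmersion)
    (Proj.affineOpenCover 𝒜).openCover (fun i => ?_)
  obtain ⟨⟨n, hn⟩, ⟨s, hs⟩⟩ := i
  have hs' : s ∈ 𝒜 n := hs
  have hpb := (isPullback_away φ hφ hn s hs').flip
  have hcl : IsClosedImmersion (Spec.map (CommRingCat.ofHom (Away.map φ s))) :=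
    IsClosedImmersion.spec_of_surjective _ (away_map_surjective 𝒜 ℬ φ hsurj s hs')
  have h1 : Scheme.Cover.pullbackHom (Proj.affineOpenCover 𝒜).openCover (Proj.map φ hφ)
      ⟨⟨n, hn⟩, ⟨s, hs⟩⟩ = hpb.isoPullback.inv ≫ Spec.map (CommRingCat.ofHom (Away.map φ s)) :=
    (Iso.eq_inv_comp _).mpr hpb.isoPullback_hom_snd
  rw [h1]
  haveI h2 : IsIso hpb.isoPullback.inv := Iso.isIso_inv _
  haveI h3 : IsClosedImmersion hpb.isoPullback.inv := inferInstance
  exact @IsClosedImmersion.comp _ _ _ _ _ h3 hcl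

end Groth.Agent.Lib.Helper27ProjClosed
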