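import Groth.Agent.Lib.Helper13Dehom
import Groth.Agent.Lib.Helper13GradedQuot
import Groth.Agent.Lib.Helper27ProjClosed

/-!
# Closed subschemes of `Proj 𝒜` are `Proj` of graded quotients (helper13)

For degree-one elements `f i` (finitely many) whose `D₊(f i)` cover `Proj 𝒜` and an ideal sheaf `I` on `Proj 𝒜`,
`J hf I` is the homogeneous ideal of `A` whose degree `k` elements are the `a` with `a / f_i^k ∈ I(D₊(f i))` for all `i`;
`dehom_mem_iff`: `a / f_i^k ∈ I(D₊(f i)) ↔ ∃ e, f_i^e a ∈ J`.  `map_app_dehom_eq_zero_iff` computes the kernel of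
`Proj.map φ` over `D₊(g)`; `irrelevant_le_map`: the `Proj.map` hypothesis for surjective graded homs.
`exists_proj_quot`: a closed immersion `Z ⟶ Proj 𝒜` is isomorphic over `Proj 𝒜` to `Proj (A ⧸ J) ⟶ Proj 𝒜`.
-/

set_option autoImplicit false
set_option linter.unusedSectionVars false
set_option linter.style.haveILetI false
universe u

open CategoryTheory CategoryTheory.Limits AlgebraicGeometry TopologicalSpace Opposite
  HomogeneousLocalization

namespace Groth.Agent.Helper13ProjQuotIdeal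

open Groth.Agent.Lib.Helper27GrTildeSect Groth.Agent.Helper13GrTildeFrac
  Groth.Agent.Helper13Dehom Groth.Agent.Helper13GradedQuot

section general
variable {X : Scheme.{u}}

/-- if the restriction of `x` to the basic open `D(r)` lies in the ideal sheaf, then `r^e x` does on `U` -/
theorem exists_pow_mul_mem (I : X.IdealSheafData) (U : X.affineOpens) (r : Γ(X, U))
    (V : X.affineOpens) (hV : V.1 = X.basicOpen r) (hVU : V ≤ U) (x : Γ(X, U))
    (hx : (X.presheaf.map (homOfLE hVU).op).hom x ∈ I.ideal V) : ∃ e : ℕ, r ^ e * x ∈ I.ideal U := by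
  have hV' : V = X.affineBasicOpen r := Subtype.ext hV
  subst hV'
  rw [← I.map_ideal_basicOpen] at hx
  have := U.2.isLocalization_basicOpen r
  obtain ⟨m, ⟨e, rfl⟩, h⟩ := (IsLocalization.algebraMap_mem_map_algebraMap_iff
    (Submonoid.powers r) (S := Γ(X, X.basicOpen r)) (I.ideal U) x).1 hx
  exact ⟨e, h⟩

end general

variable {R A : Type u} [CommRing R] [CommRing A] [Algebra R A] {𝒜 : ℕ → Submodule R A}
  [GradedAlgebra 𝒜]
variable {ι : Type u} {f : ι → A} (hf : ∀ i, f i ∈ 𝒜 1) (I : (Proj 𝒜).IdealSheafData)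

/-- `D₊(f i)` as an affine open -/
def Uaff (i : ι) : (Proj 𝒜).affineOpens :=
  ⟨Proj.basicOpen 𝒜 (f i), Proj.isAffineOpen_basicOpen 𝒜 (f i) (hf i) one_pos⟩

/-- `D₊(f i) ∩ D₊(f j)` as an affine open -/
def Uaff₂ (i j : ι) : (Proj 𝒜).affineOpens :=
  ⟨Proj.basicOpen 𝒜 (f i) ⊓ Proj.basicOpen 𝒜 (f j), by
    have h := Proj.isAffineOpen_basicOpen 𝒜 (f i * f j)
      (SetLike.mul_mem_graded (hf i) (hf j)) (by norm_num : 0 < 1 + 1)
    rwa [Proj.basicOpen_mul] at h⟩

/-- the elements whose dehomogenization w.r.t. `f i` lies in the ideal sheaf -/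
noncomputable def K (i : ι) : Ideal A := Ideal.comap (dehom (hf i)) (I.ideal (Uaff hf i))

/-- the homogeneous ideal attached to an ideal sheaf on `Proj` -/
noncomputable def J : HomogeneousIdeal 𝒜 := (⨅ i, K hf I i).homogeneousCore 𝒜

theorem mem_J_iff {k : ℕ} {a : A} (ha : a ∈ 𝒜 k) :
    a ∈ (J hf I).toIdeal ↔ ∀ i, dehom (hf i) a ∈ I.ideal (Uaff hf i) := by
  constructor
  · intro h i
    have h1 := Ideal.toIdeal_homogeneousCore_le 𝒜 (⨅ i, K hf I i) h
    rw [Ideal.mem_iInf] at h1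
    exact h1 i
  · intro h
    refine Ideal.mem_homogeneousCore_of_homogeneous_of_mem ⟨k, ha⟩ ?_
    rw [Ideal.mem_iInf]
    exact h

theorem exists_uniform' {κ : Type*} [Finite κ] {p : κ → ℕ → Prop}
    (hmono : ∀ j k k', k ≤ k' → p j k → p j k') (h : ∀ j, ∃ k, p j k) : ∃ k, ∀ j, p j k := by
  classical
  choose k hk using h
  haveI := Fintype.ofFinite κ
  exact ⟨Finset.univ.sup k, fun j => hmono j (k j) _ (Finset.le_sup (Finset.mem_univ j)) (hk j)⟩

/-- membership of `a / f_i^k` in the ideal sheaf over `D₊(f i)` in terms of `J` -/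
theorem dehom_mem_iff [Finite ι] (i : ι) {k : ℕ} {a : A} (ha : a ∈ 𝒜 k) :
    dehom (hf i) a ∈ I.ideal (Uaff hf i) ↔ ∃ e : ℕ, (f i) ^ e * a ∈ (J hf I).toIdeal := by
  constructor
  · intro h
    have h1 : ∀ j, ∃ e : ℕ, dehom (hf j) ((f i) ^ e * a) ∈ I.ideal (Uaff hf j) := by
      intro j
      have hle : Uaff₂ hf i j ≤ Uaff hf j :=
        (inf_le_right : Proj.basicOpen 𝒜 (f i) ⊓ Proj.basicOpen 𝒜 (f j) ≤ Proj.basicOpen 𝒜 (f j))
      have hle' : Uaff₂ hf i j ≤ Uaff hf i :=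
        (inf_le_left : Proj.basicOpen 𝒜 (f i) ⊓ Proj.basicOpen 𝒜 (f j) ≤ Proj.basicOpen 𝒜 (f i))
      obtain ⟨e, he⟩ := exists_pow_mul_mem I (Uaff hf j) (dehom (hf j) (f i)) (Uaff₂ hf i j)
        (basicOpen_dehom (hf i) (hf j)).symm hle (dehom (hf j) a) (by
          have h2 := I.ideal_le_comap_ideal hle' h
          rw [Ideal.mem_comap] at h2
          have h3 : resO (inf_le_right : Proj.basicOpen 𝒜 (f i) ⊓ Proj.basicOpen 𝒜 (f j) ≤ _)
              (dehom (hf j) a) = _ := dehom_overlap (hf i) (hf j) ha inf_le_left inf_le_right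
          have h4 : resO (inf_le_right : Proj.basicOpen 𝒜 (f i) ⊓ Proj.basicOpen 𝒜 (f j) ≤ _)
              (dehom (hf j) a) ∈ I.ideal (Uaff₂ hf i j) := by
            rw [h3]
            exact Ideal.mul_mem_left _ _ h2
          exact h4)
      refine ⟨e, ?_⟩
      rw [map_mul, map_pow]
      exact he
    obtain ⟨E, hE⟩ := exists_uniform' (p := fun j e => dehom (hf j) ((f i) ^ e * a) ∈
        I.ideal (Uaff hf j))
      (by
        intro j e e' hee' he
        obtain ⟨d, rfl⟩ := Nat.exists_eq_add_of_le hee'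
        have : (f i) ^ (e + d) * a = (f i) ^ d * ((f i) ^ e * a) := by ring
        rw [this, map_mul]
        exact Ideal.mul_mem_left _ _ he) h1
    refine ⟨E, ?_⟩
    rw [mem_J_iff hf I (SetLike.mul_mem_graded (pow_mem_deg (hf i) E) ha)]
    exact hE
  · rintro ⟨e, he⟩
    have h1 := (mem_J_iff hf I (SetLike.mul_mem_graded (pow_mem_deg (hf i) e) ha)).1 he i
    rwa [map_mul, map_pow, dehom_self, one_pow, one_mul] at h1

section gradedHom
variable {B : Type u} [CommRing B] [Algebra R B] {ℬ : ℕ → Submodule R B} [GradedAlgebra ℬ]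
  (φ : 𝒜 →+*ᵍ ℬ)

/-- for a surjective graded ring hom the irrelevant ideal of the target is the image of the irrelevant ideal -/
theorem irrelevant_le_map (hsurj : Function.Surjective φ) :
    HomogeneousIdeal.irrelevant ℬ ≤ (HomogeneousIdeal.irrelevant 𝒜).map φ := by
  change (HomogeneousIdeal.irrelevant ℬ).toIdeal ≤
    ((HomogeneousIdeal.irrelevant 𝒜).map φ).toIdeal
  rw [HomogeneousIdeal.toIdeal_map]
  intro b hb
  obtain ⟨a, rfl⟩ := hsurj b
  replace hb : φ a ∈ HomogeneousIdeal.irrelevant ℬ := hb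
  rw [HomogeneousIdeal.mem_irrelevant_iff, GradedRing.proj_apply,
    ← Groth.Agent.Lib.Helper27ProjClosed.map_decompose 𝒜 ℬ φ a 0] at hb
  have h1 : φ a = φ (a - (DirectSum.decompose 𝒜 a 0 : A)) := by rw [map_sub, hb, sub_zero]
  rw [h1]
  apply Ideal.mem_map_of_mem
  change _ ∈ HomogeneousIdeal.irrelevant 𝒜
  rw [HomogeneousIdeal.mem_irrelevant_iff, GradedRing.proj_apply, DirectSum.decompose_sub,
    DirectSum.sub_apply, Submodule.coe_sub, DirectSum.decompose_coe, DirectSum.of_eq_same,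
    sub_self]

theorem away_mk_eq_zero_iff {g : B} (hg : g ∈ ℬ 1) (k : ℕ) (b : B) (hb : b ∈ ℬ (k • 1)) :
    Away.mk ℬ hg k b hb = 0 ↔ ∃ e : ℕ, g ^ e * b = 0 := by
  rw [← (HomogeneousLocalization.val_injective _).eq_iff, Away.val_mk,
    HomogeneousLocalization.val_zero, Localization.mk_eq_mk', IsLocalization.mk'_eq_zero_iff]
  constructor
  · rintro ⟨⟨_, e, rfl⟩, h⟩
    exact ⟨e, h⟩
  · rintro ⟨e, h⟩
    exact ⟨⟨_, e, rfl⟩, h⟩

theorem awayToSection_injective {g : B} (hg : g ∈ ℬ 1) :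
    Function.Injective (Proj.awayToSection ℬ g).hom := by
  have hiso : IsIso (Proj.awayToSection ℬ g) := by
    have := (Proj.basicOpenIsoAway ℬ g hg one_pos).isIso_hom
    rwa [Proj.basicOpenIsoAway_hom] at this
  exact (ConcreteCategory.bijective_of_isIso (Proj.awayToSection ℬ g)).1

/-- the kernel of `Proj.map φ` over `D₊(f)` -/
theorem map_app_dehom_eq_zero_iff
    (hφ : HomogeneousIdeal.irrelevant ℬ ≤ (HomogeneousIdeal.irrelevant 𝒜).map φ)
    {g : A} (hg : g ∈ 𝒜 1) {k : ℕ} {a : A} (ha : a ∈ 𝒜 k) :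
    ((Proj.map φ hφ).app (Proj.basicOpen 𝒜 g)).hom (dehom hg a) = 0 ↔
      ∃ e : ℕ, φ (g ^ e * a) = 0 := by
  have ha' : a ∈ 𝒜 (k • 1) := by simpa using ha
  rw [dehom_eq_awayToSection hg ha']
  have h1 := Proj.awayToSection_comp_appLE φ hφ hg
  have h2 := CategoryTheory.congr_fun h1 (Away.mk 𝒜 hg k a ha')
  rw [ConcreteCategory.comp_apply, ConcreteCategory.comp_apply] at h2
  have h3 : ((Proj.map φ hφ).app (Proj.basicOpen 𝒜 g)).hom
      ((Proj.awayToSection 𝒜 g).hom (Away.mk 𝒜 hg k a ha')) =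
      (Proj.awayToSection ℬ (φ g)).hom (Away.map φ g (Away.mk 𝒜 hg k a ha')) := h2
  have hg' : φ g ∈ ℬ 1 := Graded.map_mem φ hg
  have key : ((Proj.map φ hφ).app (Proj.basicOpen 𝒜 g)).hom
      ((Proj.awayToSection 𝒜 g).hom (Away.mk 𝒜 hg k a ha')) =
      (Proj.awayToSection ℬ (φ g)).hom (Away.mk ℬ hg' k (φ a) (Graded.map_mem φ ha')) :=
    h3.trans (congrArg _ (Away.map_mk φ g hg k a ha'))
  have h4 : (∃ e : ℕ, φ (g ^ e * a) = 0) ↔ ∃ e : ℕ, (φ g) ^ e * φ a = 0 := by
    simp only [map_mul, map_pow]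
  rw [h4, ← away_mk_eq_zero_iff hg' k (φ a) (Graded.map_mem φ ha')]
  constructor
  · intro h
    apply awayToSection_injective hg'
    rw [map_zero]
    exact key.symm.trans h
  · intro h
    refine key.trans ?_
    rw [h, map_zero]
    rfl

end gradedHom

include hf in
theorem exists_dehom_eq (i : ι) (r : Γ(Proj 𝒜, Proj.basicOpen 𝒜 (f i))) :
    ∃ (j : ℕ) (a : A) (_ : a ∈ 𝒜 j), dehom (hf i) a = r := by
  obtain ⟨j, a, ha, h⟩ := exists_awayToSection_eq (hf i) one_pos r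
  exact ⟨j, a, by simpa using ha, (dehom_eq_awayToSection (hf i) ha).trans h⟩

include hf in
/-- **closed subschemes of `Proj 𝒜`** (`𝒜₊` generated by finitely many degree-one elements) are `Proj` of graded
quotients -/
theorem exists_proj_quot [Finite ι] (hcov : ⨆ i, Proj.basicOpen 𝒜 (f i) = ⊤) {Z : Scheme.{u}}
    (i : Z ⟶ Proj 𝒜) [IsClosedImmersion i] :
    ∃ (B : Type u) (_ : CommRing B) (_ : Algebra R B) (ℬ : ℕ → Submodule R B)
      (_ : GradedAlgebra ℬ) (φ : 𝒜 →+*ᵍ ℬ) (_ : Function.Surjective φ)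
      (hφ : HomogeneousIdeal.irrelevant ℬ ≤ (HomogeneousIdeal.irrelevant 𝒜).map φ)
      (e : Z ≅ Proj ℬ), e.hom ≫ Proj.map φ hφ = i := by
  letI : GradedAlgebra (qgr 𝒜 (J hf i.ker).toIdeal) :=
    gradedAlgebraQuot 𝒜 (J hf i.ker).toIdeal (J hf i.ker).isHomogeneous
  have hsurj := quotHom_surjective 𝒜 (J hf i.ker).toIdeal
  have hφ := irrelevant_le_map (quotHom 𝒜 (J hf i.ker).toIdeal) hsurj
  haveI : IsClosedImmersion (Proj.map (quotHom 𝒜 (J hf i.ker).toIdeal) hφ) :=
    Groth.Agent.Lib.Helper27ProjClosed.isClosedImmersion_map _ hsurj hφ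
  have hker : (Proj.map (quotHom 𝒜 (J hf i.ker).toIdeal) hφ).ker = i.ker := by
    refine Scheme.IdealSheafData.ext_of_iSup_eq_top (Uaff hf) hcov (fun j => ?_)
    rw [Scheme.Hom.ker_apply]
    ext x
    obtain ⟨k, a, ha, rfl⟩ := exists_dehom_eq hf j x
    rw [RingHom.mem_ker]
    refine (map_app_dehom_eq_zero_iff _ hφ (hf j) ha).trans ?_
    refine Iff.trans ?_ (dehom_mem_iff hf i.ker j ha).symm
    simp only [quotHom_eq_zero_iff]
  haveI := IsClosedImmersion.isIso_lift (Proj.map (quotHom 𝒜 (J hf i.ker).toIdeal) hφ) i hker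
  exact ⟨_, _, _, _, _, quotHom 𝒜 (J hf i.ker).toIdeal, hsurj, hφ,
    asIso (IsClosedImmersion.lift (Proj.map (quotHom 𝒜 (J hf i.ker).toIdeal) hφ) i hker.le),
    IsClosedImmersion.lift_fac _ _ _⟩

end Groth.Agent.Helper13ProjQuotIdeal
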