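import Groth.Agent.Lib.Helper13Dehom
import Groth.Agent.Lib.Helper13AffMor
import Groth.Agent.Lib.Helper27TwistAmple

/-!
# helper13: morphisms into `Proj 𝒜` through the charts `D₊(f)`, `f ∈ 𝒜 1`

* `exists_dehom_eq` : `dehom hf` is surjective; `exists_dehomLift` : ring maps `ψ : A → B` with `ψ f = 1` factor
  through `dehom hf : A → Γ(Proj 𝒜, D₊(f))`.
* `fromSpec_eq`, `toBase`, `strMap`, `fromSpec_toBase` : the structure morphism `Proj 𝒜 ⟶ Spec R` on charts.
* `toAff_eq_toAff` : criterion for two chart morphisms `V ⟶ D₊(f) ⟶ Proj 𝒜`, `V ⟶ D₊(g) ⟶ Proj 𝒜` to coincide.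
* `gsec_eq_smul` : `f' = (f'/f) • f` as sections of `O(1)`.
-/

set_option autoImplicit false
set_option linter.unusedSectionVars false
universe u

open CategoryTheory CategoryTheory.Limits AlgebraicGeometry TopologicalSpace Opposite
  HomogeneousLocalization

namespace Groth.Agent.Helper13ProjUP

open Groth.Agent.Lib.Helper27GrTildeSect Groth.Agent.Helper13GrTildeFrac
  Groth.Agent.Helper13Dehom Groth.Agent.Helper13AffMor
open Groth.Agent.Lib.Helper23.SecTw Groth.Agent.Lib.Helper6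

variable {R A : Type u} [CommRing R] [CommRing A] [Algebra R A] {𝒜 : ℕ → Submodule R A}
  [GradedAlgebra 𝒜]

theorem exists_dehom_eq {f : A} (hf : f ∈ 𝒜 1) (r : Γ(Proj 𝒜, Proj.basicOpen 𝒜 f)) :
    ∃ (j : ℕ) (a : A) (_ : a ∈ 𝒜 j), dehom hf a = r := by
  obtain ⟨j, a, ha, h⟩ := exists_awayToSection_eq hf one_pos r
  exact ⟨j, a, by simpa using ha, (dehom_eq_awayToSection hf ha).trans h⟩

theorem isAffineOpen_basicOpen {f : A} (hf : f ∈ 𝒜 1) : IsAffineOpen (Proj.basicOpen 𝒜 f) :=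
  Proj.isAffineOpen_basicOpen 𝒜 f hf one_pos

/-- the universal property of dehomogenization: a ring map `ψ : A → B` with `ψ f = 1` factors through
`dehom hf : A → Γ(Proj 𝒜, D₊(f))`. -/
theorem exists_dehomLift {f : A} (hf : f ∈ 𝒜 1) {B : Type u} [CommRing B] (ψ : A →+* B) (hψ : ψ f = 1) :
    ∃ φ : Γ(Proj 𝒜, Proj.basicOpen 𝒜 f) →+* B, ∀ a, φ (dehom hf a) = ψ a := by
  have hu : IsUnit (ψ f) := hψ ▸ isUnit_one
  let l : Localization.Away f →+* B := IsLocalization.Away.lift f hu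
  let φ : Γ(Proj 𝒜, Proj.basicOpen 𝒜 f) →+* B :=
    (l.comp (algebraMap (Away 𝒜 f) (Localization.Away f))).comp
      (Proj.basicOpenIsoAway 𝒜 f hf one_pos).inv.hom
  refine ⟨φ, fun a => ?_⟩
  have key : ∀ (j : ℕ) (a : A) (ha : a ∈ 𝒜 j), φ (dehom hf a) = ψ a := by
    intro j a ha
    have ha' : a ∈ 𝒜 (j • 1) := by simpa using ha
    rw [dehom_eq_awayToSection hf ha']
    have h1 : (Proj.basicOpenIsoAway 𝒜 f hf one_pos).inv.hom
        ((Proj.awayToSection 𝒜 f).hom (Away.mk 𝒜 hf j a ha')) = Away.mk 𝒜 hf j a ha' := by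
      have := (Proj.basicOpenIsoAway 𝒜 f hf one_pos).hom_inv_id
      have h2 := congrArg (fun g => g.hom (Away.mk 𝒜 hf j a ha')) this
      simpa [Proj.basicOpenIsoAway_hom] using h2
    change l (algebraMap (Away 𝒜 f) (Localization.Away f) ((Proj.basicOpenIsoAway 𝒜 f hf one_pos).inv.hom _)) = _
    rw [h1]
    change l (Away.mk 𝒜 hf j a ha').val = _
    rw [Away.val_mk, Localization.mk_eq_mk']
    have h3 := IsLocalization.mk'_spec (Localization.Away f) a
      (⟨f ^ j, ⟨j, rfl⟩⟩ : Submonoid.powers f)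
    have h4 := congrArg l h3
    rw [map_mul] at h4
    have h5 : ∀ x : A, l (algebraMap A (Localization.Away f) x) = ψ x :=
      fun x => IsLocalization.Away.lift_eq f hu x
    rw [h5, h5, map_pow, hψ, one_pow, mul_one] at h4
    exact h4
  induction a using DirectSum.Decomposition.inductionOn 𝒜 with
  | zero => simp
  | homogeneous a => exact key _ a.1 a.2
  | add a b ha hb => rw [map_add, map_add, map_add, ha, hb]

theorem fromSpec_eq {f : A} (hf : f ∈ 𝒜 1) :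
    (isAffineOpen_basicOpen hf).fromSpec =
      Spec.map (Proj.awayToSection 𝒜 f) ≫ Proj.awayι 𝒜 f hf one_pos := by
  have hU := isAffineOpen_basicOpen hf
  haveI : IsIso (Proj.basicOpen 𝒜 f).toSpecΓ := by
    rw [← hU.isoSpec_hom]; infer_instance
  rw [← cancel_epi (Proj.basicOpen 𝒜 f).toSpecΓ, hU.toSpecΓ_fromSpec, Proj.awayι, ← Category.assoc,
    ← Category.assoc]
  have : (Proj.basicOpen 𝒜 f).toSpecΓ ≫ Spec.map (Proj.awayToSection 𝒜 f) =
      (Proj.basicOpenIsoSpec 𝒜 f hf one_pos).hom := by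
    rw [Proj.basicOpenIsoSpec_hom]; rfl
  rw [this, Iso.hom_inv_id, Category.id_comp]

variable (𝒜) in
/-- the structure morphism `Proj 𝒜 ⟶ Spec R` -/
noncomputable def toBase : Proj 𝒜 ⟶ Spec (CommRingCat.of R) :=
  Proj.toSpecZero 𝒜 ≫ Spec.map (CommRingCat.ofHom (algebraMap R (𝒜 0)))

/-- the structure map `R → Γ(Proj 𝒜, D₊(f))` -/
noncomputable def strMap {f : A} (hf : f ∈ 𝒜 1) : CommRingCat.of R ⟶ Γ(Proj 𝒜, Proj.basicOpen 𝒜 f) :=
  CommRingCat.ofHom ((dehom hf).comp (algebraMap R A))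

theorem strMap_apply {f : A} (hf : f ∈ 𝒜 1) (c : R) : (strMap hf).hom c = dehom hf (algebraMap R A c) := rfl

theorem fromSpec_toBase {f : A} (hf : f ∈ 𝒜 1) :
    (isAffineOpen_basicOpen hf).fromSpec ≫ toBase 𝒜 = Spec.map (strMap hf) := by
  rw [fromSpec_eq hf, toBase, Category.assoc, Proj.awayι_toSpecZero_assoc, ← Spec.map_comp, ← Spec.map_comp]
  congr 1
  ext c
  change (Proj.awayToSection 𝒜 f).hom (fromZeroRingHom 𝒜 _ (algebraMap R (𝒜 0) c)) =
    dehom hf (algebraMap R A c)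
  have hc : algebraMap R A c ∈ 𝒜 (0 • 1) := by
    simpa using SetLike.algebraMap_mem_graded 𝒜 c
  rw [dehom_eq_awayToSection hf (j := 0) hc]
  congr 1
  apply HomogeneousLocalization.val_injective
  rw [Away.val_mk]
  change Localization.mk _ _ = _
  congr 1
  ext
  simp

/-- compatibility criterion for two morphisms into `Proj 𝒜` through `D₊(f)` and `D₊(g)` -/
theorem toAff_eq_toAff {f g : A} (hf : f ∈ 𝒜 1) (hg : g ∈ 𝒜 1) {X : Scheme.{u}} {V : X.Opens}
    (α : Γ(Proj 𝒜, Proj.basicOpen 𝒜 f) ⟶ Γ(X, V)) (β : Γ(Proj 𝒜, Proj.basicOpen 𝒜 g) ⟶ Γ(X, V))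
    (u v : Γ(X, V)) (huv : u * v = 1) (hu : α.hom (dehom hf g) = u)
    (hαβ : ∀ (d : ℕ) (a : A), a ∈ 𝒜 d → β.hom (dehom hg a) = v ^ d * α.hom (dehom hf a)) :
    toAff (isAffineOpen_basicOpen hf) α = toAff (isAffineOpen_basicOpen hg) β := by
  have hUf := isAffineOpen_basicOpen hf
  have hUg := isAffineOpen_basicOpen hg
  have hW : Proj.basicOpen 𝒜 g ⊓ Proj.basicOpen 𝒜 f = (Proj 𝒜).basicOpen (dehom hf g) :=
    (basicOpen_dehom hg hf).symm
  have hWaff : IsAffineOpen (Proj.basicOpen 𝒜 g ⊓ Proj.basicOpen 𝒜 f) := by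
    rw [hW]; exact hUf.basicOpen _
  have hWf : Proj.basicOpen 𝒜 g ⊓ Proj.basicOpen 𝒜 f ≤ Proj.basicOpen 𝒜 f := inf_le_right
  have hWg : Proj.basicOpen 𝒜 g ⊓ Proj.basicOpen 𝒜 f ≤ Proj.basicOpen 𝒜 g := inf_le_left
  have hunit : IsUnit (α.hom (dehom hf g)) := by
    rw [hu]; exact IsUnit.of_mul_eq_one _ huv
  obtain ⟨α', hα'⟩ := exists_lift_basicOpen hUf (dehom hf g) hW hWf α hunit
  have hα'' : ∀ r, α'.hom (resO hWf r) = α.hom r := by
    intro r
    have := congrArg (fun φ => φ.hom r) hα'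
    exact this
  have hv : α'.hom (resO hWg (dehom hg f)) = v := by
    have h1 := dehom_mul_dehom hf hg hWf hWg
    have h2 := congrArg α'.hom h1
    rw [map_mul, map_one, hα'', hu] at h2
    calc α'.hom (resO hWg (dehom hg f)) = α'.hom (resO hWg (dehom hg f)) * (u * v) := by
          rw [huv, mul_one]
      _ = (α'.hom (resO hWg (dehom hg f)) * u) * v := by ring
      _ = v := by rw [h2, one_mul]
  have hβ : (Proj 𝒜).presheaf.map (homOfLE hWg).op ≫ α' = β := by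
    ext r
    obtain ⟨d, a, ha, rfl⟩ := exists_dehom_eq hg r
    change α'.hom (resO hWg (dehom hg a)) = _
    rw [dehom_overlap hf hg ha hWf hWg, map_mul, map_pow, hv, hα'', hαβ d a ha]
  rw [← hα', toAff_of_le hUf hWaff hWf, ← hβ, toAff_of_le hUg hWaff hWg]

/-- `f' = (f'/f) f` as sections of `O(1)` over opens inside `D₊(f)` -/
theorem gsec_eq_smul {f f' : A} (hf : f ∈ 𝒜 1) (hf' : f' ∈ 𝒜 1) {W : (Proj 𝒜).Opens}
    (hW : W ≤ Proj.basicOpen 𝒜 f) :
    gsec 𝒜 1 W hf' = resO hW (dehom hf f') • gsec 𝒜 1 W hf := by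
  unfold gsec
  rw [fracSec_eq_smul_iff]
  intro y hy
  rw [funVal_resO, funVal_dehom hf hf', Localization.mk_mul, Localization.mk_eq_mk_iff,
    Localization.r_iff_exists]
  refine ⟨1, ?_⟩
  simp only [OneMemClass.coe_one, one_mul, Submonoid.coe_mul, pow_one, mul_one]
  ring

end Groth.Agent.Helper13ProjUP
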