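import Mathlib

/-!
# Rings in which every proper finitely generated ideal has a nonzero annihilator ("property (P)")

Under (P), every injective linear map from a finite projective module to a projective module is
split; every injective map between projective modules is universally injective.
-/

universe u

namespace Groth.Agent.Helper13PropP

open TensorProduct

variable (R : Type u) [CommRing R]

/-- Property (P). -/
def PropP : Prop := ∀ I : Ideal R, I.FG → I ≠ ⊤ → I.annihilator ≠ ⊥

/-- `N` has the split-injective property: any injective map from `N` to a projective module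
has a retraction. -/
def SP (N : Type u) [AddCommGroup N] [Module R N] : Prop :=
  ∀ (M : Type u) [AddCommGroup M] [Module R M] [Module.Projective R M] (u : N →ₗ[R] M),
    Function.Injective u → ∃ v : M →ₗ[R] N, v ∘ₗ u = LinearMap.id

variable {R}

theorem sp_self (hP : PropP R) : SP R R := by
  classical
  intro M _ _ _ u hu
  obtain ⟨s, hs⟩ := (Module.projective_def' (R := R) (P := M)).mp inferInstance
  have hsinj : Function.Injective s := LinearMap.injective_of_comp_eq_id _ _ hs
  set m : M := u 1 with hm
  have hur : ∀ r : R, u r = r • m := by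
    intro r
    have : u (r • (1 : R)) = r • u 1 := u.map_smul r 1
    simpa using this
  set c : M →₀ R := s m with hc
  set I : Ideal R := Ideal.span (c '' (c.support : Set M)) with hI
  have hIfg : I.FG := by
    refine ⟨c.support.image c, ?_⟩
    rw [hI, Finset.coe_image]
  have hann : I.annihilator = ⊥ := by
    rw [eq_bot_iff]
    intro r hr
    rw [hI, Submodule.mem_annihilator_span] at hr
    have h1 : r • c = 0 := by
      ext j
      by_cases hj : j ∈ c.support
      · simpa using hr ⟨c j, ⟨j, hj, rfl⟩⟩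
      · have : c j = 0 := by simpa using hj
        simp [this]
    have h2 : s (r • m) = 0 := by rw [map_smul]; exact h1
    have h3 : r • m = 0 := hsinj (by rw [h2, map_zero])
    have h4 : r = 0 := hu (by rw [hur r, h3, map_zero])
    simpa using h4
  have htop : I = ⊤ := by
    by_contra hne
    exact hP I hIfg hne hann
  have h1 : (1 : R) ∈ Submodule.span R (c '' (c.support : Set M)) := by
    have : (1 : R) ∈ I := by rw [htop]; trivial
    exact this
  obtain ⟨l, hl, hl1⟩ := (Finsupp.mem_span_image_iff_linearCombination R).mp h1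
  -- the functional
  let w : (M →₀ R) →ₗ[R] R := Finsupp.linearCombination R (fun j => l j)
  have hw : w c = 1 := by
    rw [← hl1]
    simp only [w, Finsupp.linearCombination_apply, Finsupp.sum, smul_eq_mul]
    have hsub : l.support ⊆ c.support := by
      intro j hj
      exact (Finsupp.mem_supported R l).mp hl hj
    rw [← Finset.sum_subset hsub]
    · exact Finset.sum_congr rfl (fun j _ => mul_comm _ _)
    · intro j _ hj
      have : l j = 0 := by simpa using hj
      simp [this]
  refine ⟨w ∘ₗ s, ?_⟩
  ext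
  simp only [LinearMap.comp_apply, LinearMap.id_apply]
  exact hw

theorem sp_of_equiv {N N' : Type u} [AddCommGroup N] [Module R N] [AddCommGroup N'] [Module R N']
    (e : N ≃ₗ[R] N') (h : SP R N) : SP R N' := by
  intro M _ _ _ u hu
  obtain ⟨v, hv⟩ := h M (u ∘ₗ e.toLinearMap) (hu.comp e.injective)
  refine ⟨e.toLinearMap ∘ₗ v, ?_⟩
  ext x
  obtain ⟨y, rfl⟩ := e.surjective x
  have := LinearMap.congr_fun hv y
  simp only [LinearMap.comp_apply, LinearEquiv.coe_coe, LinearMap.id_apply] at this ⊢
  rw [this]

theorem sp_prod {N₁ N₂ : Type u} [AddCommGroup N₁] [Module R N₁] [AddCommGroup N₂] [Module R N₂]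
    (h₁ : SP R N₁) (h₂ : SP R N₂) : SP R (N₁ × N₂) := by
  intro M _ _ _ u hu
  let u₁ : N₁ →ₗ[R] M := u ∘ₗ LinearMap.inl R N₁ N₂
  have hu₁ : Function.Injective u₁ := hu.comp LinearMap.inl_injective
  obtain ⟨v₁, hv₁⟩ := h₁ M u₁ hu₁
  have hv₁' : ∀ x, v₁ (u (x, 0)) = x := fun x => LinearMap.congr_fun hv₁ x
  let π : M →ₗ[R] M := LinearMap.id - u₁ ∘ₗ v₁
  have hπ : ∀ m, π m = m - u (v₁ m, 0) := fun m => rfl
  let u₂ : N₂ →ₗ[R] M := π ∘ₗ u ∘ₗ LinearMap.inr R N₁ N₂
  have hu₂' : ∀ y, u₂ y = u (-v₁ (u (0, y)), y) := by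
    intro y
    show π (u (0, y)) = _
    rw [hπ, ← map_sub]
    congr 1
    ext <;> simp
  have hu₂ : Function.Injective u₂ := by
    rw [injective_iff_map_eq_zero]
    intro y hy
    rw [hu₂' y] at hy
    have := hu (hy.trans (map_zero u).symm)
    exact (Prod.ext_iff.mp this).2
  obtain ⟨v₂, hv₂⟩ := h₂ M u₂ hu₂
  have hv₂' : ∀ y, v₂ (π (u (0, y))) = y := fun y => LinearMap.congr_fun hv₂ y
  have hπu₁ : ∀ x, π (u (x, 0)) = 0 := by
    intro x
    rw [hπ, hv₁', sub_self]
  let v₂' : M →ₗ[R] N₂ := v₂ ∘ₗ π
  have hv₂'' : ∀ x y, v₂' (u (x, y)) = y := by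
    intro x y
    have : (x, y) = (x, (0 : N₂)) + ((0 : N₁), y) := by ext <;> simp
    show v₂ (π (u (x, y))) = y
    rw [this, map_add, map_add, hπu₁, zero_add, hv₂']
  refine ⟨LinearMap.prod (v₁ - v₁ ∘ₗ u ∘ₗ LinearMap.inr R N₁ N₂ ∘ₗ v₂') v₂', ?_⟩
  refine LinearMap.ext fun z => ?_
  obtain ⟨x, y⟩ := z
  have hxy : (x, y) = (x, (0 : N₂)) + ((0 : N₁), y) := by ext <;> simp
  have e1 : v₁ (u (x, y)) = x + v₁ (u (0, y)) := by rw [hxy, map_add, map_add, hv₁']
  show ((v₁ - v₁ ∘ₗ u ∘ₗ LinearMap.inr R N₁ N₂ ∘ₗ v₂') (u (x, y)), v₂' (u (x, y))) = (x, y)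
  rw [hv₂'' x y]
  congr 1
  show v₁ (u (x, y)) - v₁ (u (0, v₂' (u (x, y)))) = x
  rw [hv₂'' x y, e1, add_sub_cancel_right]

theorem sp_pi_fin (hP : PropP R) (n : ℕ) : SP R (Fin n → R) := by
  induction n with
  | zero =>
    intro M _ _ _ u hu
    refine ⟨0, ?_⟩
    refine LinearMap.ext fun x => ?_
    exact Subsingleton.elim _ _
  | succ n ih =>
    exact sp_of_equiv (Fin.consLinearEquiv R (fun _ : Fin n.succ => R)) (sp_prod (sp_self hP) ih)

theorem sp_of_retract {N N' : Type u} [AddCommGroup N] [Module R N] [AddCommGroup N'] [Module R N']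
    [Module.Projective R N] (i : N' →ₗ[R] N) (s : N →ₗ[R] N') (hsi : s ∘ₗ i = LinearMap.id)
    (h : SP R N) : SP R N' := by
  intro M _ _ _ u hu
  have hsi' : ∀ x, s (i x) = x := fun x => LinearMap.congr_fun hsi x
  let ut : N →ₗ[R] M × N := LinearMap.prod (u ∘ₗ s) (LinearMap.id - i ∘ₗ s)
  have hut : Function.Injective ut := by
    rw [injective_iff_map_eq_zero]
    intro n hn
    have h1 : u (s n) = 0 := (Prod.ext_iff.mp hn).1
    have h2 : n - i (s n) = 0 := (Prod.ext_iff.mp hn).2
    have h3 : s n = 0 := hu (h1.trans (map_zero u).symm)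
    rw [h3, map_zero, sub_zero] at h2
    exact h2
  obtain ⟨vt, hvt⟩ := h (M × N) ut hut
  refine ⟨s ∘ₗ vt ∘ₗ LinearMap.inl R M N, ?_⟩
  ext x
  simp only [LinearMap.comp_apply, LinearMap.id_apply, LinearMap.inl_apply]
  have h1 : ut (i x) = (u x, 0) := by
    show (u (s (i x)), i x - i (s (i x))) = _
    rw [hsi', sub_self]
  have h2 := LinearMap.congr_fun hvt (i x)
  simp only [LinearMap.comp_apply, LinearMap.id_apply] at h2
  rw [← h1, h2, hsi']

theorem sp_of_finite_projective (hP : PropP R) (N : Type u) [AddCommGroup N] [Module R N]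
    [Module.Finite R N] [Module.Projective R N] : SP R N := by
  obtain ⟨n, f, g, -, -, hfg⟩ := Module.Finite.exists_comp_eq_id_of_projective R N
  exact sp_of_retract g f hfg (sp_pi_fin hP n)

/-- Under (P), the cokernel of an injective map between finite projective modules is projective. -/
theorem projective_quotient_range (hP : PropP R) (N M : Type u) [AddCommGroup N] [Module R N]
    [Module.Finite R N] [Module.Projective R N] [AddCommGroup M] [Module R M]
    [Module.Projective R M] (u : N →ₗ[R] M) (hu : Function.Injective u) :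
    Module.Projective R (M ⧸ LinearMap.range u) := by
  obtain ⟨v, hv⟩ := sp_of_finite_projective hP N M u hu
  have hv' : ∀ x, v (u x) = x := fun x => LinearMap.congr_fun hv x
  let i : (M ⧸ LinearMap.range u) →ₗ[R] M :=
    (LinearMap.range u).liftQ (LinearMap.id - u ∘ₗ v) (by
      rintro _ ⟨x, rfl⟩
      simp [hv'])
  refine Module.Projective.of_split i (LinearMap.range u).mkQ ?_
  ext m
  simp only [LinearMap.comp_apply, Submodule.mkQ_apply, LinearMap.id_apply, i,
    Submodule.liftQ_apply, LinearMap.sub_apply]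
  rw [Submodule.Quotient.mk_sub]
  have : (Submodule.Quotient.mk (u (v m)) : M ⧸ LinearMap.range u) = 0 := by
    rw [Submodule.Quotient.mk_eq_zero]
    exact ⟨v m, rfl⟩
  rw [this, sub_zero]

/-- Every element of `(ι →₀ R) ⊗ Q` comes from a finite sub-sum. -/
theorem exists_finset_rTensor (ι : Type u) (Q : Type u) [AddCommGroup Q] [Module R Q]
    (z : (ι →₀ R) ⊗[R] Q) :
    ∃ (J : Finset ι) (z' : (J → R) ⊗[R] Q),
      (Fintype.linearCombination R (fun j : J => Finsupp.single (j : ι) (1 : R))).rTensor Q z' = z := by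
  classical
  set ζ := TensorProduct.finsuppScalarLeft R Q ι z with hζ
  have hz : z = ∑ j ∈ ζ.support, (Finsupp.single j (1 : R)) ⊗ₜ[R] ζ j := by
    apply (TensorProduct.finsuppScalarLeft R Q ι).injective
    rw [map_sum, ← hζ]
    have key : ∀ j, (TensorProduct.finsuppScalarLeft R Q ι) (Finsupp.single j (1 : R) ⊗ₜ[R] ζ j) =
        Finsupp.single j (ζ j) := by
      intro j
      rw [TensorProduct.finsuppScalarLeft_apply_tmul, Finsupp.sum_single_index (by simp), one_smul]
    simp only [key]
    exact (Finsupp.sum_single ζ).symm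
  refine ⟨ζ.support, ∑ j ∈ ζ.support.attach, (Pi.single j (1 : R)) ⊗ₜ[R] ζ j, ?_⟩
  rw [map_sum]
  conv_rhs => rw [hz, ← Finset.sum_attach]
  refine Finset.sum_congr rfl (fun j _ => ?_)
  rw [LinearMap.rTensor_tmul]
  congr 1
  rw [Fintype.linearCombination_apply, Finset.sum_eq_single j]
  · simp
  · intro b _ hb
    simp [hb]
  · intro h; exact absurd (Finset.mem_univ j) h

/-- Under (P), an injective linear map from a free module `ι →₀ R` to a projective module is
universally injective. -/
theorem rTensor_injective_of_free (hP : PropP R) (ι : Type u) (M : Type u)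
    [AddCommGroup M] [Module R M] [Module.Projective R M] (u : (ι →₀ R) →ₗ[R] M)
    (hu : Function.Injective u) (Q : Type u) [AddCommGroup Q] [Module R Q] :
    Function.Injective (u.rTensor Q) := by
  classical
  rw [injective_iff_map_eq_zero]
  intro z hz
  obtain ⟨J, z', rfl⟩ := exists_finset_rTensor ι Q z
  set incl : (J → R) →ₗ[R] (ι →₀ R) :=
    Fintype.linearCombination R (fun j : J => Finsupp.single (j : ι) (1 : R)) with hincl
  have hincl_inj : Function.Injective incl := by
    rw [injective_iff_map_eq_zero]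
    intro g hg
    funext j
    have := DFunLike.congr_fun hg (j : ι)
    simp only [hincl, Fintype.linearCombination_apply, Finsupp.coe_finsetSum, Finsupp.coe_smul,
      Finset.sum_apply, Pi.smul_apply, smul_eq_mul, Finsupp.coe_zero, Pi.zero_apply] at this
    rw [Finset.sum_eq_single j] at this
    · simpa using this
    · intro b _ hb
      have : (b : ι) ≠ (j : ι) := fun h => hb (Subtype.ext h)
      simp [this]
    · intro h; exact absurd (Finset.mem_univ j) h
  have hJ : SP R (J → R) := sp_of_finite_projective hP (J → R)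
  obtain ⟨w, hw⟩ := hJ M (u ∘ₗ incl) (hu.comp hincl_inj)
  have h1 : ((u ∘ₗ incl).rTensor Q) z' = 0 := by
    rw [LinearMap.rTensor_comp]
    exact hz
  have h2 : z' = 0 := by
    have := congrArg (w.rTensor Q) h1
    rw [← LinearMap.comp_apply, ← LinearMap.rTensor_comp, hw, LinearMap.rTensor_id,
      LinearMap.id_apply, map_zero] at this
    exact this
  rw [h2, map_zero]

/-- Under (P), an injective linear map between projective modules is universally injective. -/
theorem rTensor_injective_of_injective (hP : PropP R) (N M : Type u) [AddCommGroup N] [Module R N]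
    [Module.Projective R N] [AddCommGroup M] [Module R M] [Module.Projective R M]
    (u : N →ₗ[R] M) (hu : Function.Injective u) (Q : Type u) [AddCommGroup Q] [Module R Q] :
    Function.Injective (u.rTensor Q) := by
  classical
  obtain ⟨s, hs⟩ := (Module.projective_def' (R := R) (P := N)).mp inferInstance
  set π : (N →₀ R) →ₗ[R] N := Finsupp.linearCombination R id with hπ
  have hs' : ∀ x, π (s x) = x := fun x => LinearMap.congr_fun hs x
  let ut : (N →₀ R) →ₗ[R] M × (N →₀ R) := LinearMap.prod (u ∘ₗ π) (LinearMap.id - s ∘ₗ π)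
  have hut : Function.Injective ut := by
    rw [injective_iff_map_eq_zero]
    intro f hf
    have h1 : u (π f) = 0 := (Prod.ext_iff.mp hf).1
    have h2 : f - s (π f) = 0 := (Prod.ext_iff.mp hf).2
    have h3 : π f = 0 := hu (h1.trans (map_zero u).symm)
    rw [h3, map_zero, sub_zero] at h2
    exact h2
  have hcomp : ut ∘ₗ s = LinearMap.inl R M (N →₀ R) ∘ₗ u := by
    ext x
    · simp [ut, hs']
    · simp [ut, hs']
  have hinj := rTensor_injective_of_free hP N (M × (N →₀ R)) ut hut Q
  have hsinj : Function.Injective (s.rTensor Q) := by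
    apply Function.LeftInverse.injective (g := π.rTensor Q)
    intro z
    rw [← LinearMap.comp_apply, ← LinearMap.rTensor_comp, hs, LinearMap.rTensor_id,
      LinearMap.id_apply]
  have h3 : Function.Injective ((ut ∘ₗ s).rTensor Q) := by
    rw [LinearMap.rTensor_comp]
    exact hinj.comp hsinj
  rw [hcomp, LinearMap.rTensor_comp] at h3
  exact Function.Injective.of_comp h3

end Groth.Agent.Helper13PropP
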