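import Mathlib
/-! Helper2SubtrLim: the algebraic limit argument behind "pair lifting at finite level implies
valuation ring lifting" (used for universally submersive ⇒ universally S-subtrusive over a
locally Noetherian base). Pure Mathlib. -/
set_option autoImplicit false
universe u
open TensorProduct IsLocalRing

namespace Groth.Agent.Lib.Helper2.SubtrLim

section Sat
variable (V : Type u) {R : Type u} [CommRing V] [IsDomain V] [CommRing R] [Algebra V R]

/-- Saturation of an ideal of a `V`-algebra with respect to the nonzero elements of `V`. -/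
def sat (I : Ideal R) : Ideal R where
  carrier := {r | ∃ v : V, v ≠ 0 ∧ algebraMap V R v * r ∈ I}
  zero_mem' := ⟨1, one_ne_zero, by rw [mul_zero]; exact I.zero_mem⟩
  add_mem' := by
    rintro r₁ r₂ ⟨v₁, h₁, e₁⟩ ⟨v₂, h₂, e₂⟩
    refine ⟨v₁ * v₂, mul_ne_zero h₁ h₂, ?_⟩
    have : algebraMap V R (v₁ * v₂) * (r₁ + r₂) =
        algebraMap V R v₂ * (algebraMap V R v₁ * r₁) +
          algebraMap V R v₁ * (algebraMap V R v₂ * r₂) := by
      rw [map_mul]; ring
    rw [this]
    exact I.add_mem (I.mul_mem_left _ e₁) (I.mul_mem_left _ e₂)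
  smul_mem' := by
    rintro c r ⟨v, h, e⟩
    refine ⟨v, h, ?_⟩
    have : algebraMap V R v * (c • r) = c * (algebraMap V R v * r) := by
      rw [smul_eq_mul]; ring
    rw [this]
    exact I.mul_mem_left _ e

theorem le_sat (I : Ideal R) : I ≤ sat V I := fun r hr =>
  ⟨1, one_ne_zero, by rw [map_one, one_mul]; exact hr⟩

theorem sat_sat {I : Ideal R} {v : V} (hv : v ≠ 0) {r : R}
    (hr : algebraMap V R v * r ∈ sat V I) : r ∈ sat V I := by
  obtain ⟨v', h', e'⟩ := hr
  exact ⟨v' * v, mul_ne_zero h' hv, by rw [map_mul, mul_assoc]; exact e'⟩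

theorem exists_eq_mul_of_mem_map [ValuationRing V] {x : R}
    (hx : x ∈ Ideal.map (algebraMap V R) (maximalIdeal V)) :
    ∃ m ∈ maximalIdeal V, ∃ ρ : R, x = algebraMap V R m * ρ := by
  unfold Ideal.map at hx
  induction hx using Submodule.span_induction with
  | mem x h =>
    obtain ⟨m, hm, rfl⟩ := h
    exact ⟨m, hm, 1, (mul_one _).symm⟩
  | zero => exact ⟨0, zero_mem _, 0, by simp⟩
  | add x y _ _ ihx ihy =>
    obtain ⟨m₁, hm₁, ρ₁, rfl⟩ := ihx
    obtain ⟨m₂, hm₂, ρ₂, rfl⟩ := ihy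
    rcases ValuationRing.dvd_total m₁ m₂ with ⟨c, rfl⟩ | ⟨c, rfl⟩
    · exact ⟨m₁, hm₁, ρ₁ + algebraMap V R c * ρ₂, by rw [map_mul]; ring⟩
    · exact ⟨m₂, hm₂, algebraMap V R c * ρ₁ + ρ₂, by rw [map_mul]; ring⟩
  | smul a x _ ih =>
    obtain ⟨m, hm, ρ, rfl⟩ := ih
    exact ⟨m, hm, a * ρ, by rw [smul_eq_mul]; ring⟩

theorem exists_primes [ValuationRing V]
    (h : ∀ (v m : V) (ρ : R), v ≠ 0 → m ∈ maximalIdeal V →
      algebraMap V R v ≠ algebraMap V R (v * m) * ρ) :
    ∃ q' q : Ideal R, q'.IsPrime ∧ q.IsPrime ∧ q' ≤ q ∧ q'.comap (algebraMap V R) = ⊥ ∧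
      q.comap (algebraMap V R) = maximalIdeal V := by
  classical
  obtain ⟨mR, hmR⟩ : ∃ mR : Ideal R, mR = Ideal.map (algebraMap V R) (maximalIdeal V) := ⟨_, rfl⟩
  let S : Set (Ideal R) :=
    {J | (∀ v : V, v ≠ 0 → ∀ r : R, algebraMap V R v * r ∈ J → r ∈ J) ∧ (1 : R) ∉ J ⊔ mR}
  have hT : sat V (⊥ : Ideal R) ∈ S := by
    refine ⟨fun v hv r hr => sat_sat V hv hr, ?_⟩
    intro h1
    obtain ⟨t, ht, μ, hμ, e⟩ := Submodule.mem_sup.mp h1
    obtain ⟨v, hv, hvt⟩ := ht
    rw [hmR] at hμ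
    obtain ⟨m, hm, ρ, rfl⟩ := exists_eq_mul_of_mem_map V hμ
    rw [Ideal.mem_bot] at hvt
    apply h v m ρ hv hm
    calc algebraMap V R v = algebraMap V R v * (t + algebraMap V R m * ρ) := by rw [e, mul_one]
      _ = algebraMap V R (v * m) * ρ := by rw [mul_add, hvt, zero_add, map_mul, mul_assoc]
  obtain ⟨J, -, hJ⟩ := zorn_le_nonempty₀ S (fun c hc hchain y hy => by
    have hmem : ∀ z : R, z ∈ sSup c ↔ ∃ J ∈ c, z ∈ J := fun z =>
      Submodule.mem_sSup_of_directed ⟨y, hy⟩ hchain.directedOn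
    refine ⟨sSup c, ⟨?_, ?_⟩, fun z hz => le_sSup hz⟩
    · intro v hv r hr
      obtain ⟨J, hJc, hrJ⟩ := (hmem _).mp hr
      exact (hmem _).mpr ⟨J, hJc, (hc hJc).1 v hv r hrJ⟩
    · intro h1
      obtain ⟨j, hj, μ, hμ, e⟩ := Submodule.mem_sup.mp h1
      obtain ⟨J, hJc, hjJ⟩ := (hmem _).mp hj
      exact (hc hJc).2 (Submodule.mem_sup.mpr ⟨j, hjJ, μ, hμ, e⟩)) _ hT
  have hJS : J ∈ S := hJ.prop
  have hprime : J.IsPrime := by
    rw [Ideal.isPrime_iff]
    refine ⟨fun htop => hJS.2 (by rw [htop]; exact Submodule.mem_sup_left Submodule.mem_top), ?_⟩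
    intro a b hab
    by_contra hcon
    rw [not_or] at hcon
    obtain ⟨ha, hb⟩ := hcon
    have key : ∀ c : R, c ∉ J → (1 : R) ∈ sat V (J ⊔ Ideal.span {c}) ⊔ mR := by
      intro c hc
      by_contra h1
      have hmem : sat V (J ⊔ Ideal.span {c}) ∈ S := ⟨fun v hv r hr => sat_sat V hv hr, h1⟩
      have hle : J ≤ sat V (J ⊔ Ideal.span {c}) := le_sup_left.trans (le_sat V _)
      have := hJ.le_of_ge hmem hle
      exact hc (this (le_sat V _ (Submodule.mem_sup_right (Ideal.mem_span_singleton_self c))))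
    obtain ⟨ra, hra, μa, hμa, ea⟩ := Submodule.mem_sup.mp (key a ha)
    obtain ⟨rb, hrb, μb, hμb, eb⟩ := Submodule.mem_sup.mp (key b hb)
    obtain ⟨va, hva, ha'⟩ := hra
    obtain ⟨vb, hvb, hb'⟩ := hrb
    obtain ⟨ja, hja, ca, hca, eqa⟩ := Submodule.mem_sup.mp ha'
    obtain ⟨jb, hjb, cb, hcb, eqb⟩ := Submodule.mem_sup.mp hb'
    obtain ⟨xa, rfl⟩ := Ideal.mem_span_singleton'.mp hca
    obtain ⟨xb, rfl⟩ := Ideal.mem_span_singleton'.mp hcb
    have hprod : algebraMap V R (va * vb) * (ra * rb) ∈ J := by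
      have e1 : algebraMap V R (va * vb) * (ra * rb) =
          (algebraMap V R va * ra) * (algebraMap V R vb * rb) := by rw [map_mul]; ring
      rw [e1, ← eqa, ← eqb]
      have e2 : (ja + xa * a) * (jb + xb * b) =
          ja * (jb + xb * b) + (xa * a) * jb + (xa * xb) * (a * b) := by ring
      rw [e2]
      exact J.add_mem (J.add_mem (J.mul_mem_right _ hja) (J.mul_mem_left _ hjb))
        (J.mul_mem_left _ hab)
    have hrr : ra * rb ∈ J := hJS.1 _ (mul_ne_zero hva hvb) _ hprod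
    apply hJS.2
    have e3 : (1 : R) = ra * rb + (ra * μb + μa * rb + μa * μb) := by
      calc (1 : R) = (ra + μa) * (rb + μb) := by rw [ea, eb, one_mul]
        _ = _ := by ring
    rw [e3]
    exact Submodule.mem_sup.mpr ⟨_, hrr, _, mR.add_mem (mR.add_mem (mR.mul_mem_left _ hμb)
      (mR.mul_mem_right _ hμa)) (mR.mul_mem_left _ hμb), rfl⟩
  have hcomap : J.comap (algebraMap V R) = ⊥ := by
    rw [eq_bot_iff]
    intro v hv
    rw [Ideal.mem_comap] at hv
    rw [Ideal.mem_bot]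
    by_contra hv0
    have h1 : (1 : R) ∈ J := hJS.1 v hv0 1 (by rwa [mul_one])
    exact hJS.2 (Submodule.mem_sup_left h1)
  have hne : J ⊔ mR ≠ ⊤ := fun htop => hJS.2 (htop ▸ Submodule.mem_top)
  obtain ⟨M, hM, hle⟩ := Ideal.exists_le_maximal _ hne
  refine ⟨J, M, hprime, hM.isPrime, le_sup_left.trans hle, hcomap, ?_⟩
  apply le_antisymm
  · exact IsLocalRing.le_maximalIdeal (Ideal.comap_ne_top _ hM.ne_top)
  · intro v hv
    rw [Ideal.mem_comap]
    apply hle
    rw [hmR]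
    exact Submodule.mem_sup_right (Ideal.mem_map_of_mem _ hv)

end Sat

section Descent
variable {A B V : Type u} [CommRing A] [CommRing B] [CommRing V] [Algebra A B] [Algebra A V]

theorem descent (v m : V) (ρ : V ⊗[A] B)
    (h : algebraMap V (V ⊗[A] B) v = algebraMap V (V ⊗[A] B) (v * m) * ρ) :
    ∃ S : Finset V, ∀ A' : Subalgebra A V, (↑S : Set V) ⊆ A' →
      ∃ (hv : v ∈ A') (hm : m ∈ A'), ∀ (O : Type u) [CommRing O] (α : A' →+* O) (β : B →+* O),
        (∀ a : A, α (algebraMap A A' a) = β (algebraMap A B a)) →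
        ∃ s : O, α ⟨v, hv⟩ = α ⟨v, hv⟩ * α ⟨m, hm⟩ * s := by
  classical
  obtain ⟨s, rfl⟩ := TensorProduct.exists_finset ρ
  have hid : v ⊗ₜ[A] (1 : B) = ∑ i ∈ s, (v * m * i.1) ⊗ₜ[A] i.2 := by
    rw [Algebra.TensorProduct.algebraMap_apply, Algebra.TensorProduct.algebraMap_apply,
      Finset.mul_sum] at h
    rw [Algebra.algebraMap_self_apply, Algebra.algebraMap_self_apply] at h
    rw [h]
    refine Finset.sum_congr rfl fun i _ => ?_
    rw [Algebra.TensorProduct.tmul_mul_tmul, one_mul]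
  let gens : Finset V := insert v (s.image fun i => v * m * i.1)
  let N : Submodule A V := Submodule.span A (gens : Set V)
  have hNfg : N.FG := ⟨gens, rfl⟩
  have hvN : v ∈ N := Submodule.subset_span (Finset.mem_coe.mpr (Finset.mem_insert_self _ _))
  have hiN : ∀ i ∈ s, v * m * i.1 ∈ N := fun i hi => Submodule.subset_span
    (Finset.mem_coe.mpr (Finset.mem_insert_of_mem (Finset.mem_image_of_mem _ hi)))
  let x : N ⊗[A] B := (⟨v, hvN⟩ : N) ⊗ₜ[A] (1 : B)
  let y : N ⊗[A] B := ∑ i ∈ s.attach, (⟨v * m * i.1.1, hiN i.1 i.2⟩ : N) ⊗ₜ[A] i.1.2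
  have hxy : N.subtype.rTensor B x = N.subtype.rTensor B y := by
    simp only [x, y, map_sum, LinearMap.rTensor_tmul, Submodule.subtype_apply]
    rw [hid]
    exact (Finset.sum_attach s (fun i => (v * m * i.1) ⊗ₜ[A] i.2)).symm
  obtain ⟨N', hN'fg, hle, hxy'⟩ := Submodule.FG.exists_rTensor_fg_inclusion_eq hNfg hxy
  obtain ⟨S', hS'⟩ := hN'fg
  refine ⟨S' ∪ insert v (insert m (s.image Prod.fst)), fun A' hA' => ?_⟩
  have hvA : v ∈ A' := hA' (by simp)
  have hmA : m ∈ A' := hA' (by simp)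
  have hwA : ∀ i ∈ s, i.1 ∈ A' := fun i hi => hA' (by
    simp only [Finset.coe_union, Finset.coe_insert, Finset.coe_image, Set.mem_union,
      Set.mem_insert_iff, Set.mem_image, Finset.mem_coe]
    exact Or.inr (Or.inr (Or.inr ⟨i, hi, rfl⟩)))
  have hN'A : ∀ n ∈ N', n ∈ A' := by
    intro n hn
    rw [← hS'] at hn
    have hsub : (S' : Set V) ⊆ (Subalgebra.toSubmodule A' : Set V) := fun z hz =>
      hA' (by simp only [Finset.coe_union, Set.mem_union]; exact Or.inl hz)
    exact Submodule.span_le.mpr hsub hn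
  refine ⟨hvA, hmA, fun O _ α β hαβ => ?_⟩
  letI : Algebra A O := (β.comp (algebraMap A B)).toAlgebra
  let βa : B →ₐ[A] O := { β with commutes' := fun a => rfl }
  let αa : A' →ₐ[A] O := { α with commutes' := fun a => hαβ a }
  let Φ : A' ⊗[A] B →ₐ[A] O := Algebra.TensorProduct.productMap αa βa
  let ι' : N' →ₗ[A] A' :=
    { toFun := fun n => ⟨n.1, hN'A n.1 n.2⟩
      map_add' := fun _ _ => rfl
      map_smul' := fun _ _ => rfl }
  have key := congrArg (fun z => Φ (LinearMap.rTensor B ι' z)) hxy'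
  simp only [x, y, map_sum, LinearMap.rTensor_tmul] at key
  refine ⟨∑ i ∈ s.attach, α ⟨i.1.1, hwA i.1 i.2⟩ * β i.1.2, ?_⟩
  have hL : Φ ((ι' ((Submodule.inclusion hle) ⟨v, hvN⟩)) ⊗ₜ[A] (1 : B)) = α ⟨v, hvA⟩ := by
    change Φ ((⟨v, hvA⟩ : A') ⊗ₜ[A] (1 : B)) = _
    rw [Algebra.TensorProduct.productMap_apply_tmul]
    change α ⟨v, hvA⟩ * β 1 = _
    rw [map_one, mul_one]
  rw [hL] at key
  rw [Finset.mul_sum]
  refine key.trans (Finset.sum_congr rfl fun i _ => ?_)
  change Φ ((⟨v * m * i.1.1, _⟩ : A') ⊗ₜ[A] i.1.2) = _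
  rw [Algebra.TensorProduct.productMap_apply_tmul]
  change α ⟨v * m * i.1.1, _⟩ * β i.1.2 = _
  have e : (⟨v * m * i.1.1, hN'A _ (hle (hiN i.1 i.2))⟩ : A') =
      ⟨v, hvA⟩ * ⟨m, hmA⟩ * ⟨i.1.1, hwA i.1 i.2⟩ := rfl
  rw [e, map_mul, map_mul]
  ring

end Descent

section Core
variable {A V : Type u} [CommRing A] [CommRing V] [IsDomain V] [ValuationRing V] [Algebra A V]

theorem exists_valuation_of_primes {B : Type u} [CommRing B] [Algebra A B]
    (q' q : Ideal (V ⊗[A] B)) [q'.IsPrime] [q.IsPrime] (hle : q' ≤ q)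
    (hq' : q'.comap (algebraMap V (V ⊗[A] B)) = ⊥)
    (hq : q.comap (algebraMap V (V ⊗[A] B)) = maximalIdeal V) :
    ∃ (V' : Type u) (_ : CommRing V') (_ : IsDomain V') (_ : ValuationRing V')
      (ν : V →+* V') (β' : B →+* V'), Function.Injective ν ∧ IsLocalHom ν ∧
        ∀ a : A, ν (algebraMap A V a) = β' (algebraMap A B a) := by
  let R := V ⊗[A] B
  let C := R ⧸ q'
  let K' := FractionRing C
  let L := Localization.AtPrime q
  let π : R →+* K' := (algebraMap C K').comp (Ideal.Quotient.mk q')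
  have hπ : ∀ r : R, π r = 0 ↔ r ∈ q' := by
    intro r
    change algebraMap C K' (Ideal.Quotient.mk q' r) = 0 ↔ _
    rw [map_eq_zero_iff _ (IsFractionRing.injective C K'), Ideal.Quotient.eq_zero_iff_mem]
  have hunit : ∀ y : q.primeCompl, IsUnit (π y) := by
    intro y
    rw [isUnit_iff_ne_zero, Ne, hπ]
    exact fun hy => y.2 (hle hy)
  let f : L →+* K' := IsLocalization.lift (M := q.primeCompl) hunit
  have hf : ∀ r : R, f (algebraMap R L r) = π r := fun r => IsLocalization.lift_eq hunit r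
  obtain ⟨W, hW, hloc⟩ := IsLocalRing.exists_factor_valuationRing f
  let fW : L →+* W := f.codRestrict W.toSubring hW
  let ν : V →+* W := fW.comp ((algebraMap R L).comp (algebraMap V R))
  let β' : B →+* W := fW.comp ((algebraMap R L).comp
    (Algebra.TensorProduct.includeRight : B →ₐ[A] R).toRingHom)
  refine ⟨W, inferInstance, inferInstance, inferInstance, ν, β', ?_, ?_, ?_⟩
  · rw [injective_iff_map_eq_zero]
    intro v hv
    have h1 : ((ν v : W) : K') = π (algebraMap V R v) := hf _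
    rw [hv] at h1
    have h2 : algebraMap V R v ∈ q' := (hπ _).mp h1.symm
    have h3 : v ∈ q'.comap (algebraMap V R) := h2
    rw [hq'] at h3
    exact h3
  · constructor
    intro v hv
    have h1 : IsUnit (algebraMap R L (algebraMap V R v)) := hloc.map_nonunit _ hv
    rw [IsLocalization.AtPrime.isUnit_to_map_iff L q] at h1
    by_contra hvu
    have h2 : v ∈ maximalIdeal V := (mem_maximalIdeal v).mpr hvu
    rw [← hq] at h2
    exact h1 h2
  · intro a
    change fW (algebraMap R L (algebraMap V R (algebraMap A V a))) =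
      fW (algebraMap R L (Algebra.TensorProduct.includeRight (algebraMap A B a)))
    congr 2
    rw [Algebra.TensorProduct.algebraMap_apply, Algebra.TensorProduct.includeRight_apply,
      Algebra.algebraMap_self_apply, Algebra.algebraMap_eq_smul_one,
      Algebra.algebraMap_eq_smul_one (R := A) (A := B), TensorProduct.smul_tmul]

theorem core {ι : Type*} [Finite ι] (B : ι → Type u) [∀ k, CommRing (B k)]
    [∀ k, Algebra A (B k)]
    (H : ∀ A' : Subalgebra A V, A'.FG → ∃ (k : ι) (W : Type u) (_ : CommRing W) (_ : IsDomain W)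
        (_ : IsLocalRing W) (α : A' →+* W) (β : B k →+* W), Function.Injective α ∧
          (∀ x : A', (x : V) ∈ maximalIdeal V → α x ∈ maximalIdeal W) ∧
          ∀ a : A, α (algebraMap A A' a) = β (algebraMap A (B k) a)) :
    ∃ (k : ι) (V' : Type u) (_ : CommRing V') (_ : IsDomain V') (_ : ValuationRing V')
      (ν : V →+* V') (β' : B k →+* V'), Function.Injective ν ∧ IsLocalHom ν ∧
        ∀ a : A, ν (algebraMap A V a) = β' (algebraMap A (B k) a) := by
  classical
  haveI := Fintype.ofFinite ι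
  by_cases hex : ∃ k : ι, ∀ (v m : V) (ρ : V ⊗[A] B k), v ≠ 0 → m ∈ maximalIdeal V →
      algebraMap V (V ⊗[A] B k) v ≠ algebraMap V (V ⊗[A] B k) (v * m) * ρ
  · obtain ⟨k, hk⟩ := hex
    obtain ⟨q', q, hq'p, hqp, hle, hq', hq⟩ := exists_primes V hk
    obtain ⟨V', i1, i2, i3, ν, β', h1, h2, h3⟩ := exists_valuation_of_primes q' q hle hq' hq
    exact ⟨k, V', i1, i2, i3, ν, β', h1, h2, h3⟩
  · exfalso
    push Not at hex
    choose v m ρ hv hm hρ using hex
    choose S hS using fun k => descent (v k) (m k) (ρ k) (hρ k)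
    let T : Finset V := Finset.univ.biUnion S
    let A' : Subalgebra A V := Algebra.adjoin A (T : Set V)
    have hfg : A'.FG := Subalgebra.fg_adjoin_finset T
    obtain ⟨k, W, _, _, _, α, β, hinj, hmax, hcomp⟩ := H A' hfg
    have hsub : (↑(S k) : Set V) ⊆ A' := fun z hz => Algebra.subset_adjoin
      (Finset.mem_coe.mpr (Finset.mem_biUnion.mpr ⟨k, Finset.mem_univ k, hz⟩))
    obtain ⟨hvA, hmA, hO⟩ := hS k A' hsub
    obtain ⟨s, hs⟩ := hO W α β hcomp
    have hα0 : α ⟨v k, hvA⟩ ≠ 0 := by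
      intro h0
      have := hinj (h0.trans (map_zero α).symm)
      exact hv k (congrArg Subtype.val this)
    have h1 : α ⟨m k, hmA⟩ * s = 1 := by
      have : α ⟨v k, hvA⟩ * (α ⟨m k, hmA⟩ * s) = α ⟨v k, hvA⟩ * 1 := by
        rw [mul_one, ← mul_assoc]; exact hs.symm
      exact mul_left_cancel₀ hα0 this
    have h2 : IsUnit (α ⟨m k, hmA⟩) := IsUnit.of_mul_eq_one _ h1
    exact (mem_maximalIdeal _).mp (hmax ⟨m k, hmA⟩ (hm k)) h2

end Core

end Groth.Agent.Lib.Helper2.SubtrLim
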