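import Mathlib
import Groth.Agent.Lib.Helper4DVRSch

/-!
# The existence part of the valuative criterion from discrete valuation rings

`existence_of_dvr`: over a locally noetherian base, a quasi-compact morphism locally of finite type
satisfying the existence part of the valuative criterion for discrete valuation rings (of residue
fields of points of the source) satisfies it for all valuation rings.
-/

open CategoryTheory CategoryTheory.Limits AlgebraicGeometry IsLocalRing TopologicalSpace

universe u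

namespace Groth.Agent.Lib.Helper4.DVREx


open Groth.Agent.Lib.Helper4

/-- A morphism from the spectrum of a local ring factors through any affine open containing the
image of the closed point. -/
lemma exists_factor_fromSpec {X : Scheme.{u}} {R : CommRingCat.{u}} [IsLocalRing R]
    (g : Spec R ⟶ X) {U : X.Opens} (hU : IsAffineOpen U) (hg : g (closedPoint R) ∈ U) :
    ∃ lam : Γ(X, U) ⟶ R, g = Spec.map lam ≫ hU.fromSpec := by
  refine ⟨X.presheaf.germ U _ hg ≫ Scheme.stalkClosedPointTo g, ?_⟩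
  rw [Spec.map_comp, Category.assoc]
  have h1 : Spec.map (X.presheaf.germ U _ hg) ≫ hU.fromSpec = X.fromSpecStalk _ :=
    hU.fromSpecStalk_eq_fromSpecStalk hg
  rw [h1, Scheme.Spec_stalkClosedPointTo_fromSpecStalk]

lemma fromSpecResidueField_eq {X : Scheme.{u}} {U : X.Opens} (hU : IsAffineOpen U) (ξ : X)
    (hξ : ξ ∈ U) :
    X.fromSpecResidueField ξ = Spec.map (X.evaluation U ξ hξ) ≫ hU.fromSpec := by
  rw [Scheme.fromSpecResidueField, ← hU.fromSpecStalk_eq_fromSpecStalk hξ,
    IsAffineOpen.fromSpecStalk, ← Spec.map_comp_assoc]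
  rfl

lemma fromSpec_cancel {X : Scheme.{u}} {U : X.Opens} (hU : IsAffineOpen U) {R : CommRingCat.{u}}
    {a b : Γ(X, U) ⟶ R} (h : Spec.map a ≫ hU.fromSpec = Spec.map b ≫ hU.fromSpec) : a = b := by
  have : Mono hU.fromSpec := inferInstance
  exact Spec.map_injective ((cancel_mono hU.fromSpec).mp h)




lemma essFiniteType_evaluation {X : Scheme.{u}} {U : X.Opens} (hU : IsAffineOpen U) (ξ : X)
    (hξ : ξ ∈ U) : (X.evaluation U ξ hξ).hom.EssFiniteType := by
  have h0 : X.evaluation U ξ hξ = X.presheaf.germ U ξ hξ ≫ X.residue ξ := rfl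
  rw [h0, CommRingCat.hom_comp]
  refine RingHom.EssFiniteType.comp ?_
    (RingHom.FiniteType.of_surjective _ (X.residue_surjective ξ)).essFiniteType
  have := hU.isLocalization_stalk ⟨ξ, hξ⟩
  let _ := X.presheaf.algebra_section_stalk (U := U) ⟨ξ, hξ⟩
  have h2 : Algebra.EssFiniteType Γ(X, U) (X.presheaf.stalk ξ) :=
    Algebra.EssFiniteType.of_isLocalization _ (hU.primeIdealOf ⟨ξ, hξ⟩).asIdeal.primeCompl
  exact h2

set_option maxHeartbeats 1000000 in
set_option backward.isDefEq.respectTransparency false in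
open Classical in
/-- The existence part of the valuative criterion follows from its discrete version, over a locally
noetherian base, for quasi-compact morphisms locally of finite type. -/
theorem existence_of_dvr {X Y : Scheme.{u}} [IsLocallyNoetherian Y] (f : X ⟶ Y)
    [LocallyOfFiniteType f] [QuasiCompact f]
    (H : ∀ (ξ : X) (V : ValuationSubring (X.residueField ξ)), IsDiscreteValuationRing V →
      ∀ y : Spec (CommRingCat.of V) ⟶ Y,
        Spec.map (CommRingCat.ofHom V.subtype) ≫ y = X.fromSpecResidueField ξ ≫ f →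
        ∃ l : Spec (CommRingCat.of V) ⟶ X, l ≫ f = y ∧
          Spec.map (CommRingCat.ofHom V.subtype) ≫ l = X.fromSpecResidueField ξ) :
    ValuativeCriterion.Existence f := by
  rintro ⟨R, K, i₁, i₂, ⟨w⟩⟩
  set ξ : X := i₁ (closedPoint (CommRingCat.of K)) with hξdef
  let ι : X.residueField ξ ⟶ CommRingCat.of K :=
    Scheme.descResidueField (Scheme.stalkClosedPointTo i₁)
  have hi₁ : Spec.map ι ≫ X.fromSpecResidueField ξ = i₁ :=
    Scheme.descResidueField_stalkClosedPointTo_fromSpecResidueField K X i₁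
  obtain ⟨W, hW, hyW, -⟩ := exists_isAffineOpen_mem_and_subset (U := ⊤)
    (x := i₂ (closedPoint (CommRingCat.of R))) (by simp)
  obtain ⟨β, hβ⟩ := exists_factor_fromSpec i₂ hW hyW
  have hc : IsCompact ((f ⁻¹ᵁ W : X.Opens) : Set X) := f.isCompact_preimage hW.isCompact
  obtain ⟨𝒰, h𝒰fin, h𝒰⟩ := (isCompact_iff_finite_and_eq_biUnion_affineOpens).mp hc
  have hle : ∀ U ∈ 𝒰, (U : X.Opens) ≤ f ⁻¹ᵁ W := fun U hU => by
    rw [h𝒰]; exact le_iSup₂ (f := fun (i : X.affineOpens) (_ : i ∈ 𝒰) => (i : X.Opens)) U hU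
  have hξW : ξ ∈ f ⁻¹ᵁ W := by
    have h1 : f ξ = hW.fromSpec ((Spec.map (CommRingCat.ofHom (algebraMap R K)) ≫ Spec.map β)
        (closedPoint (CommRingCat.of K))) := by
      rw [hξdef, ← Scheme.Hom.comp_apply, w, hβ, ← Category.assoc, Scheme.Hom.comp_apply]
    have h2 : f ξ ∈ Set.range hW.fromSpec := ⟨_, h1.symm⟩
    rw [hW.range_fromSpec] at h2
    exact h2
  -- valuation subrings
  let RK : ValuationSubring K :=
    ⟨(algebraMap R K).range, ValuationRing.isInteger_or_isInteger R⟩
  let R' : ValuationSubring (X.residueField ξ) := RK.comap ι.hom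
  -- key identity
  have KI : ∀ (U : X.affineOpens) (hU : U ∈ 𝒰) (hξU : ξ ∈ U.1),
      f.appLE W U (hle U hU) ≫ X.evaluation U ξ hξU ≫ ι =
        β ≫ CommRingCat.ofHom (algebraMap R K) := by
    intro U hU hξU
    apply fromSpec_cancel hW
    have e1 : Spec.map (X.evaluation U ξ hξU) ≫ U.2.fromSpec = X.fromSpecResidueField ξ :=
      (fromSpecResidueField_eq U.2 ξ hξU).symm
    calc Spec.map (f.appLE W U (hle U hU) ≫ X.evaluation U ξ hξU ≫ ι) ≫ hW.fromSpec
        = Spec.map ι ≫ Spec.map (X.evaluation U ξ hξU) ≫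
            (Spec.map (f.appLE W U (hle U hU)) ≫ hW.fromSpec) := by
          simp only [Spec.map_comp, Category.assoc]
      _ = Spec.map ι ≫ (Spec.map (X.evaluation U ξ hξU) ≫ U.2.fromSpec) ≫ f := by
          rw [IsAffineOpen.SpecMap_appLE_fromSpec f hW U.2 (hle U hU), Category.assoc]
      _ = i₁ ≫ f := by rw [e1, ← Category.assoc, hi₁]
      _ = Spec.map (β ≫ CommRingCat.ofHom (algebraMap R K)) ≫ hW.fromSpec := by
          rw [w, hβ, Spec.map_comp, Category.assoc]
  have hinj : Function.Injective (algebraMap R K) := IsFractionRing.injective R K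
  by_cases hcen : ∃ U ∈ 𝒰, ∃ hξU : ξ ∈ (U : X.affineOpens).1,
      ∀ c, (X.evaluation U ξ hξU).hom c ∈ R'
  · -- a centre exists
    obtain ⟨U, hU, hξU, hUR⟩ := hcen
    have hmem : ∀ c, (X.evaluation U ξ hξU ≫ ι).hom c ∈ (algebraMap R K).range := fun c => hUR c
    let e : R ≃+* (algebraMap R K).range :=
      RingEquiv.ofBijective (algebraMap R K).rangeRestrict
        ⟨fun a b h => hinj (congrArg Subtype.val h), (algebraMap R K).rangeRestrict_surjective⟩
    let lamR : Γ(X, U) →+* R :=
      (e.symm : _ →+* R).comp ((X.evaluation U ξ hξU ≫ ι).hom.codRestrict _ hmem)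
    have hlam : ∀ c, algebraMap R K (lamR c) = (X.evaluation U ξ hξU ≫ ι).hom c := by
      intro c
      have := e.apply_symm_apply ((X.evaluation U ξ hξU ≫ ι).hom.codRestrict _ hmem c)
      exact congrArg Subtype.val this
    have hlam' : CommRingCat.ofHom lamR ≫ CommRingCat.ofHom (algebraMap R K) =
        X.evaluation U ξ hξU ≫ ι := by
      ext c; exact hlam c
    refine ⟨⟨⟨Spec.map (CommRingCat.ofHom lamR) ≫ U.2.fromSpec, ?_, ?_⟩⟩⟩
    · dsimp only
      rw [← Category.assoc, ← Spec.map_comp, hlam', Spec.map_comp, Category.assoc,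
        ← fromSpecResidueField_eq U.2 ξ hξU, hi₁]
    · dsimp only
      rw [Category.assoc, ← IsAffineOpen.SpecMap_appLE_fromSpec f hW U.2 (hle U hU),
        ← Category.assoc, ← Spec.map_comp]
      conv_rhs => rw [hβ]
      congr 2
      ext b
      apply hinj
      have h3 := congrArg (fun φ => φ.hom b) (KI U hU hξU)
      simp only [CommRingCat.hom_comp, RingHom.coe_comp, Function.comp_apply,
        CommRingCat.hom_ofHom] at h3
      rw [← h3]
      exact hlam _
  · exfalso
    push Not at hcen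
    -- choose bad elements
    choose c hc using hcen
    -- some chart contains ξ
    obtain ⟨U₀, hU₀, hξU₀⟩ : ∃ U₀ ∈ 𝒰, ξ ∈ (U₀ : X.affineOpens).1 := by
      rw [h𝒰] at hξW
      simpa [Opens.mem_iSup] using hξW
    -- the finite set `E`
    let eU : X.affineOpens → X.residueField ξ := fun U =>
      if h : U ∈ 𝒰 ∧ ξ ∈ U.1 then ((X.evaluation U ξ h.2).hom (c U h.1 h.2))⁻¹ else 0
    let E : Finset (X.residueField ξ) := h𝒰fin.toFinset.image eU
    have hE : ∀ e ∈ E, e ∈ R'.nonunits := by
      intro e he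
      obtain ⟨U, -, rfl⟩ := Finset.mem_image.mp he
      by_cases h : U ∈ 𝒰 ∧ ξ ∈ U.1
      · simp only [eU, h, and_self, dite_true]
        exact DVRDom.inv_mem_nonunits_of_notMem R' (hc U h.1 h.2)
      · simp only [eU, h, dite_false]
        rw [ValuationSubring.mem_nonunits_iff, map_zero]; exact zero_lt_one
    have hne : ∃ e ∈ E, e ≠ 0 := by
      refine ⟨eU U₀, Finset.mem_image.mpr ⟨U₀, h𝒰fin.mem_toFinset.mpr hU₀, rfl⟩, ?_⟩
      have h : U₀ ∈ 𝒰 ∧ ξ ∈ U₀.1 := ⟨hU₀, hξU₀⟩
      simp only [eU, h, and_self, dite_true]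
      apply inv_ne_zero
      intro h0
      apply hc U₀ hU₀ hξU₀
      rw [h0]; exact R'.zero_mem
    -- the algebra structure on `κ(ξ)` over `Γ(Y, W)`
    let β₀ : Γ(Y, W) ⟶ X.residueField ξ := f.appLE W U₀ (hle U₀ hU₀) ≫ X.evaluation U₀ ξ hξU₀
    let _ : Algebra Γ(Y, W) (X.residueField ξ) := β₀.hom.toAlgebra
    have hNoeth : IsNoetherianRing Γ(Y, W) := IsLocallyNoetherian.component_noetherian ⟨W, hW⟩
    have hess : Algebra.EssFiniteType Γ(Y, W) (X.residueField ξ) := by
      have h1 : (f.appLE W U₀ (hle U₀ hU₀)).hom.EssFiniteType :=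
        (f.finiteType_appLE hW U₀.2 (hle U₀ hU₀)).essFiniteType
      have h2 := essFiniteType_evaluation U₀.2 ξ hξU₀
      exact h1.comp h2
    have hB₀ : ∀ b : Γ(Y, W), algebraMap Γ(Y, W) (X.residueField ξ) b ∈ R' := by
      intro b
      change ι.hom (β₀.hom b) ∈ RK
      have h3 := congrArg (fun φ => φ.hom b) (KI U₀ hU₀ hξU₀)
      simp only [CommRingCat.hom_comp, RingHom.coe_comp, Function.comp_apply,
        CommRingCat.hom_ofHom] at h3
      exact ⟨β.hom b, h3.symm⟩
    obtain ⟨V, hVd, hVmem, hVE, -⟩ := DVRDom.exists_dvr_of_valuationSubring R' hB₀ E hE hne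
    -- the morphism `y : Spec V ⟶ Y`
    let βV : Γ(Y, W) ⟶ CommRingCat.of V :=
      CommRingCat.ofHom (β₀.hom.codRestrict V.toSubring hVmem)
    have hβV : βV ≫ CommRingCat.ofHom V.subtype = β₀ := rfl
    let y : Spec (CommRingCat.of V) ⟶ Y := Spec.map βV ≫ hW.fromSpec
    have hy : Spec.map (CommRingCat.ofHom V.subtype) ≫ y = X.fromSpecResidueField ξ ≫ f := by
      rw [← Category.assoc, ← Spec.map_comp, hβV, Spec.map_comp, Category.assoc,
        IsAffineOpen.SpecMap_appLE_fromSpec f hW U₀.2 (hle U₀ hU₀), ← Category.assoc,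
        ← fromSpecResidueField_eq U₀.2 ξ hξU₀]
    obtain ⟨l, hl1, hl2⟩ := H ξ V hVd y hy
    -- the image of the closed point
    have := hVd
    set x₁ : X := l (closedPoint (CommRingCat.of V)) with hx₁
    have hx₁W : x₁ ∈ f ⁻¹ᵁ W := by
      have h1 : f x₁ = hW.fromSpec (Spec.map βV (closedPoint (CommRingCat.of V))) := by
        rw [hx₁, ← Scheme.Hom.comp_apply, hl1, Scheme.Hom.comp_apply]
      have h2 : f x₁ ∈ Set.range hW.fromSpec := ⟨_, h1.symm⟩
      rw [hW.range_fromSpec] at h2
      exact h2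
    obtain ⟨U, hU, hx₁U⟩ : ∃ U ∈ 𝒰, x₁ ∈ (U : X.affineOpens).1 := by
      rw [h𝒰] at hx₁W
      simpa [Opens.mem_iSup] using hx₁W
    -- `ξ` specializes to `x₁`
    have hspec : ξ ⤳ x₁ := by
      have h1 : ξ = l (Spec.map (CommRingCat.ofHom V.subtype)
          (closedPoint (CommRingCat.of (X.residueField ξ)))) := by
        rw [← Scheme.Hom.comp_apply, hl2]
        exact (Scheme.fromSpecResidueField_apply ξ _).symm
      rw [h1]
      exact (specializes_closedPoint (R := V) _).map l.continuous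
    have hξU : ξ ∈ U.1 := hspec.mem_open U.1.2 hx₁U
    obtain ⟨lam, hlam⟩ := exists_factor_fromSpec l U.2 hx₁U
    have hlam2 : lam ≫ CommRingCat.ofHom V.subtype = X.evaluation U ξ hξU := by
      apply fromSpec_cancel U.2
      rw [Spec.map_comp, Category.assoc, ← hlam, hl2, fromSpecResidueField_eq U.2 ξ hξU]
    -- contradiction
    have hcU := hc U hU hξU
    have h1 : (X.evaluation U ξ hξU).hom (c U hU hξU) ∈ V := by
      rw [← hlam2]
      exact (lam.hom (c U hU hξU)).2
    have h2 : eU U ∈ V.nonunits :=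
      hVE _ (Finset.mem_image.mpr ⟨U, h𝒰fin.mem_toFinset.mpr hU, rfl⟩)
    have h : U ∈ 𝒰 ∧ ξ ∈ U.1 := ⟨hU, hξU⟩
    simp only [eU, h, and_self, dite_true] at h2
    have h3 := DVRDom.mul_mem_nonunits V h1 h2
    have hne0 : (X.evaluation U ξ hξU).hom (c U hU hξU) ≠ 0 := by
      intro h0
      apply hcU
      rw [h0]; exact R'.zero_mem
    rw [mul_inv_cancel₀ hne0, ValuationSubring.mem_nonunits_iff, map_one] at h3
    exact lt_irrefl _ h3



/-- Comparison between a valuation subring's ambient field and `FractionRing`. -/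
lemma dvr_bridge {L : Type u} [Field L] (V : ValuationSubring L) :
    ∃ (a : CommRingCat.of L ⟶ CommRingCat.of (FractionRing V))
      (b : CommRingCat.of (FractionRing V) ⟶ CommRingCat.of L),
      a ≫ b = 𝟙 _ ∧ b ≫ a = 𝟙 _ ∧
      CommRingCat.ofHom V.subtype ≫ a = CommRingCat.ofHom (algebraMap V (FractionRing V)) ∧
      CommRingCat.ofHom (algebraMap V (FractionRing V)) ≫ b = CommRingCat.ofHom V.subtype := by
  let e : FractionRing V ≃ₐ[V] L := FractionRing.algEquiv V L
  refine ⟨CommRingCat.ofHom (e.symm : L →+* FractionRing V),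
    CommRingCat.ofHom (e : FractionRing V →+* L), ?_, ?_, ?_, ?_⟩
  · ext x; exact e.apply_symm_apply x
  · ext x; exact e.symm_apply_apply x
  · ext x; exact e.symm.commutes x
  · ext x; exact e.commutes x

/-- `existence_of_dvr` with the hypothesis in `FractionRing` form. -/
theorem existence_of_dvr' {X Y : Scheme.{u}} [IsLocallyNoetherian Y] (f : X ⟶ Y)
    [LocallyOfFiniteType f] [QuasiCompact f]
    (H : ∀ (A : Type u) [CommRing A] [IsDomain A] [IsDiscreteValuationRing A]
      (x : Spec (CommRingCat.of (FractionRing A)) ⟶ X) (y : Spec (CommRingCat.of A) ⟶ Y),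
      x ≫ f = Spec.map (CommRingCat.ofHom (algebraMap A (FractionRing A))) ≫ y →
      ∃ l : Spec (CommRingCat.of A) ⟶ X, l ≫ f = y ∧
        Spec.map (CommRingCat.ofHom (algebraMap A (FractionRing A))) ≫ l = x) :
    ValuativeCriterion.Existence f := by
  refine existence_of_dvr f fun ξ V hV y hy => ?_
  have := hV
  obtain ⟨a, b, hab, hba, ha, hb⟩ := dvr_bridge V
  obtain ⟨l, hl1, hl2⟩ := H V (Spec.map a ≫ X.fromSpecResidueField ξ) y (by
    rw [Category.assoc, ← hy, ← Category.assoc, ← Spec.map_comp, ha])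
  refine ⟨l, hl1, ?_⟩
  rw [← hb, Spec.map_comp, Category.assoc, hl2, ← Category.assoc, ← Spec.map_comp, hab,
    Spec.map_id, Category.id_comp]


end Groth.Agent.Lib.Helper4.DVREx
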