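import Mathlib
import Groth.Prelude.Def_W4c2submetdescSubtr
import Groth.Prelude.Def_SGA1
import Groth.Agent.Lib.Helper2SubtrLim
import Groth.Agent.Lib.Helper10SubtrVal2
import Groth.Agent.Lib.Helper10SubtrVal4
import Groth.Agent.Lib.Helper10SubtrDVR
import Groth.Agent.Lib.Helper10QCClosed
import Groth.Agent.Lib.Helper4DVREx
import Groth.Agent.Lib.Helper4DVRSch
/-! Helper2SubtrNoeth: over a locally Noetherian base, quasi-compact universally submersive
morphisms are universally S-subtrusive; DVR lifting criterion. -/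
set_option autoImplicit false
universe u
open CategoryTheory CategoryTheory.Limits AlgebraicGeometry IsLocalRing TopologicalSpace

namespace Groth.Agent.Lib.Helper2.SubtrNoeth

/-- Pair lifting at finite level: for every integral affine scheme `Spec A'` locally of finite type
over `Y` and every prime `p` of `A'`, there is a local domain `W` with an injective map `A' → W`
with centre `p`, and a morphism `Spec W ⟶ X` over `Y`. -/
def FinLevelLift {X Y : Scheme.{u}} (f : X ⟶ Y) : Prop :=
  ∀ (A' : Type u) [CommRing A'] [IsDomain A'] (h : Spec (CommRingCat.of A') ⟶ Y)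
    [LocallyOfFiniteType h] (p : Ideal A') [p.IsPrime],
    ∃ (W : Type u) (_ : CommRing W) (_ : IsDomain W) (_ : IsLocalRing W) (α : A' →+* W)
      (a : Spec (CommRingCat.of W) ⟶ X),
      Function.Injective α ∧ (maximalIdeal W).comap α = p ∧
        a ≫ f = Spec.map (CommRingCat.ofHom α) ≫ h

theorem univSSubtrusive_of_finLevelLift {X Y : Scheme.{u}} (f : X ⟶ Y) [QuasiCompact f]
    (H : FinLevelLift f) : Subtr.UnivSSubtrusive f := by
  rw [Groth.Agent.Lib.Helper10.SubtrVal.main2]
  intro V _ _ _ g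
  obtain ⟨_, ⟨U₀, hU, rfl⟩, hgU, -⟩ := Y.isBasis_affineOpens.exists_subset_of_mem_open
    (Set.mem_univ (g (closedPoint V))) isOpen_univ
  obtain ⟨U, rfl⟩ : ∃ U : Y.Opens, U = U₀ := ⟨U₀, rfl⟩
  obtain ⟨γ, hγ⟩ := Groth.Agent.Lib.Helper4.DVREx.exists_factor_fromSpec
    (R := CommRingCat.of V) g hU hgU
  have hcpt : IsCompact ((f ⁻¹ᵁ U : X.Opens) : Set X) :=
    QuasiCompact.isCompact_preimage (f := f) _ U.2 hU.isCompact
  obtain ⟨s, hs, e⟩ := isCompact_iff_finite_and_eq_biUnion_affineOpens.mp hcpt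
  haveI : Finite s := hs.to_subtype
  have hle : ∀ k : s, ((k : X.affineOpens) : X.Opens) ≤ f ⁻¹ᵁ U := by
    intro k
    rw [e]
    exact le_iSup₂ (f := fun i (_ : i ∈ s) => (i : X.Opens)) _ k.2
  let φ : ∀ k : s, Γ(Y, U) ⟶ Γ(X, ((k : X.affineOpens) : X.Opens)) :=
    fun k => f.appLE U _ (hle k)
  have hφ : ∀ k : s, Spec.map (φ k) ≫ hU.fromSpec = (k : X.affineOpens).2.fromSpec ≫ f :=
    fun k => IsAffineOpen.SpecMap_appLE_fromSpec f hU (k : X.affineOpens).2 (hle k)
  letI : Algebra Γ(Y, U) V := γ.hom.toAlgebra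
  letI : ∀ k : s, Algebra Γ(Y, U) Γ(X, ((k : X.affineOpens) : X.Opens)) :=
    fun k => (φ k).hom.toAlgebra
  have Hcore : ∀ A' : Subalgebra Γ(Y, U) V, A'.FG → ∃ (k : s) (W : Type u) (_ : CommRing W)
      (_ : IsDomain W) (_ : IsLocalRing W) (α : A' →+* W)
      (β : Γ(X, ((k : X.affineOpens) : X.Opens)) →+* W), Function.Injective α ∧
        (∀ x : A', (x : V) ∈ maximalIdeal V → α x ∈ maximalIdeal W) ∧
        ∀ a : Γ(Y, U), α (algebraMap Γ(Y, U) A' a) =
          β (algebraMap Γ(Y, U) Γ(X, ((k : X.affineOpens) : X.Opens)) a) := by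
    intro A' hfg
    let h' : Spec (CommRingCat.of A') ⟶ Y :=
      Spec.map (CommRingCat.ofHom (algebraMap Γ(Y, U) A')) ≫ hU.fromSpec
    haveI : LocallyOfFiniteType h' := by
      have hft : (algebraMap Γ(Y, U) A').FiniteType := by
        have : Algebra.FiniteType Γ(Y, U) A' := (Subalgebra.fg_iff_finiteType A').mp hfg
        exact RingHom.finiteType_algebraMap.mpr this
      haveI : LocallyOfFiniteType (Spec.map (CommRingCat.ofHom (algebraMap Γ(Y, U) A'))) :=
        HasRingHomProperty.Spec_iff.mpr hft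
      infer_instance
    let p : Ideal A' := (maximalIdeal V).comap (algebraMap A' V)
    haveI : p.IsPrime := Ideal.comap_isPrime _ _
    obtain ⟨W, _, _, _, α, a, hα, hp, ha⟩ := H A' h' p
    have hcp : a (closedPoint W) ∈ ((f ⁻¹ᵁ U : X.Opens) : Set X) := by
      change f (a (closedPoint W)) ∈ (U : Set Y)
      rw [← Scheme.Hom.comp_apply, ha]
      have : (Spec.map (CommRingCat.ofHom α) ≫ h') (closedPoint W) ∈ Set.range hU.fromSpec := by
        refine ⟨(Spec.map (CommRingCat.ofHom α) ≫
          Spec.map (CommRingCat.ofHom (algebraMap Γ(Y, U) A'))) (closedPoint W), ?_⟩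
        rw [← Scheme.Hom.comp_apply, Category.assoc]
      rwa [hU.range_fromSpec] at this
    rw [e] at hcp
    simp only [Opens.coe_iSup, Set.mem_iUnion] at hcp
    obtain ⟨k₀, hk₀, hak⟩ := hcp
    obtain ⟨lam, hlam⟩ := Groth.Agent.Lib.Helper4.DVREx.exists_factor_fromSpec
      (R := CommRingCat.of W) a k₀.2 hak
    refine ⟨⟨k₀, hk₀⟩, W, inferInstance, inferInstance, inferInstance, α, lam.hom, hα, ?_, ?_⟩
    · intro x hx
      have hxp : x ∈ p := hx
      rw [← hp] at hxp
      exact hxp
    · intro a₀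
      have h1 : Spec.map (φ ⟨k₀, hk₀⟩ ≫ lam) ≫ hU.fromSpec =
          Spec.map (CommRingCat.ofHom (algebraMap Γ(Y, U) A') ≫ CommRingCat.ofHom α) ≫
            hU.fromSpec := by
        rw [Spec.map_comp, Category.assoc, hφ, ← Category.assoc, ← hlam, ha, Spec.map_comp,
          Category.assoc]
      have h2 := Groth.Agent.Lib.Helper4.DVREx.fromSpec_cancel hU h1
      have h3 := congrArg (fun m => m.hom a₀) h2
      exact h3.symm
  obtain ⟨k, V', _, _, _, ν, β', hν, hloc, hcomp⟩ :=
    Groth.Agent.Lib.Helper2.SubtrLim.core (A := Γ(Y, U)) (V := V)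
      (fun k : s => Γ(X, ((k : X.affineOpens) : X.Opens))) Hcore
  refine ⟨V', inferInstance, inferInstance, inferInstance,
    Spec.map (CommRingCat.ofHom β') ≫ (k : X.affineOpens).2.fromSpec,
    Spec.map (CommRingCat.ofHom ν), ?_, ?_⟩
  · constructor
    haveI := hloc
    exact Groth.Agent.Lib.Helper10.SubtrVal.comap_surjective_of_injective_of_isLocalHom ν hν
  · rw [Category.assoc, ← hφ k, hγ, ← Category.assoc, ← Category.assoc, ← Spec.map_comp,
      ← Spec.map_comp]
    congr 2
    ext a₀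
    exact (hcomp a₀).symm

theorem injective_and_isLocalHom_of_comap_surjective {R R' : Type u} [CommRing R] [IsDomain R]
    [IsLocalRing R] [CommRing R'] [IsLocalRing R'] (ψ : R →+* R')
    (h : Function.Surjective (PrimeSpectrum.comap ψ)) :
    Function.Injective ψ ∧ IsLocalHom ψ := by
  constructor
  · obtain ⟨P, hP⟩ := h ⟨⊥, Ideal.isPrime_bot⟩
    rw [RingHom.injective_iff_ker_eq_bot, eq_bot_iff]
    intro x hx
    have h1 : x ∈ (PrimeSpectrum.comap ψ P).asIdeal := by
      change ψ x ∈ P.asIdeal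
      rw [RingHom.mem_ker.mp hx]
      exact P.asIdeal.zero_mem
    rw [hP] at h1
    exact h1
  · obtain ⟨P, hP⟩ := h (closedPoint R)
    apply ((IsLocalRing.local_hom_TFAE ψ).out 0 3).mpr
    have h1 : maximalIdeal R = Ideal.comap ψ P.asIdeal := by
      have := congrArg PrimeSpectrum.asIdeal hP
      exact this.symm
    rw [h1]
    exact Ideal.comap_mono (IsLocalRing.le_maximalIdeal P.2.ne_top)

theorem finLevel_of_lift {X Y : Scheme.{u}} (f : X ⟶ Y) {A' : Type u} [CommRing A']
    (h : Spec (CommRingCat.of A') ⟶ Y) (p : Ideal A')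
    (D : Type u) [CommRing D] [IsDomain D] [IsLocalRing D] (d : A' →+* D)
    (hd : Function.Injective d) (hdp : (maximalIdeal D).comap d = p)
    (W : Type u) [CommRing W] [IsDomain W] [IsLocalRing W] (a : Spec (CommRingCat.of W) ⟶ X)
    (b : Spec (CommRingCat.of W) ⟶ Spec (CommRingCat.of D))
    (hb : Function.Surjective b) (hab : a ≫ f = b ≫ Spec.map (CommRingCat.ofHom d) ≫ h) :
    ∃ (W : Type u) (_ : CommRing W) (_ : IsDomain W) (_ : IsLocalRing W) (α : A' →+* W)
      (a : Spec (CommRingCat.of W) ⟶ X),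
      Function.Injective α ∧ (maximalIdeal W).comap α = p ∧
        a ≫ f = Spec.map (CommRingCat.ofHom α) ≫ h := by
  let δ : CommRingCat.of D ⟶ CommRingCat.of W := Spec.preimage b
  have hδ : Spec.map δ = b := Spec.map_preimage b
  have hsurj : Function.Surjective (PrimeSpectrum.comap δ.hom) := by
    rw [← hδ] at hb
    exact hb
  obtain ⟨hinj, hloc⟩ := injective_and_isLocalHom_of_comap_surjective δ.hom hsurj
  refine ⟨W, inferInstance, inferInstance, inferInstance, δ.hom.comp d, a, hinj.comp hd, ?_, ?_⟩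
  · have h4 : (maximalIdeal W).comap δ.hom = maximalIdeal D :=
      ((IsLocalRing.local_hom_TFAE δ.hom).out 0 4).mp hloc
    rw [← Ideal.comap_comap, h4, hdp]
  · rw [hab, ← hδ, ← Category.assoc, ← Spec.map_comp]
    rfl

/-- A discrete valuation ring through a prime of an integral locally Noetherian affine scheme. -/
theorem exists_dvr_of_prime (A' : Type u) [CommRing A'] [IsDomain A']
    [IsLocallyNoetherian (Spec (CommRingCat.of A'))] (p : Ideal A') [p.IsPrime] :
    ∃ (D : Type u) (_ : CommRing D) (_ : IsDomain D) (_ : IsDiscreteValuationRing D)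
      (d : A' →+* D), Function.Injective d ∧ (maximalIdeal D).comap d = p := by
  by_cases hp : p = ⊥
  · subst hp
    refine ⟨PowerSeries (FractionRing A'), inferInstance, inferInstance, inferInstance,
      (PowerSeries.C (R := FractionRing A')).comp (algebraMap A' (FractionRing A')), ?_, ?_⟩
    · exact (PowerSeries.C_injective).comp (IsFractionRing.injective A' (FractionRing A'))
    · ext x
      rw [Ideal.mem_comap, mem_maximalIdeal, mem_nonunits_iff, Ideal.mem_bot]
      change ¬ IsUnit (PowerSeries.C (algebraMap A' (FractionRing A') x)) ↔ _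
      rw [PowerSeries.isUnit_iff_constantCoeff, PowerSeries.constantCoeff_C, isUnit_iff_ne_zero,
        not_not, map_eq_zero_iff _ (IsFractionRing.injective A' (FractionRing A'))]
  · let x : Spec (CommRingCat.of A') := (⟨⊥, Ideal.isPrime_bot⟩ : PrimeSpectrum A')
    let x' : Spec (CommRingCat.of A') := (⟨p, inferInstance⟩ : PrimeSpectrum A')
    have hsp : x ⤳ x' := (PrimeSpectrum.le_iff_specializes
      (⟨⊥, Ideal.isPrime_bot⟩ : PrimeSpectrum A') ⟨p, inferInstance⟩).mp bot_le
    have hne : x ≠ x' := fun h => hp (congrArg PrimeSpectrum.asIdeal h).symm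
    obtain ⟨Vs, hVs, g₀, hg1, hg2⟩ := Groth.Agent.Lib.Helper4.DVRSch.exists_dvr_hom hsp hne
      (L := ↑((Spec (CommRingCat.of A')).residueField x))
      (𝟙 ((Spec (CommRingCat.of A')).residueField x)) (RingHom.FiniteType.id _).essFiniteType
    let δ : CommRingCat.of A' ⟶ CommRingCat.of ↥Vs := Spec.preimage g₀
    have hδ : Spec.map δ = g₀ := Spec.map_preimage g₀
    refine ⟨↥Vs, inferInstance, inferInstance, hVs, δ.hom, ?_, ?_⟩
    · let pt : Spec (CommRingCat.of ↑((Spec (CommRingCat.of A')).residueField x)) :=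
        closedPoint ↑((Spec (CommRingCat.of A')).residueField x)
      let ηV : Spec (CommRingCat.of ↥Vs) := Spec.map (CommRingCat.ofHom Vs.subtype) pt
      have hηV : ηV.asIdeal = ⊥ := by
        change Ideal.comap Vs.subtype pt.asIdeal = ⊥
        have hpt : pt.asIdeal = ⊥ := by
          have := pt.isPrime
          exact Ideal.eq_bot_of_prime pt.asIdeal
        rw [hpt]
        exact Ideal.comap_bot_of_injective _ Subtype.val_injective
      have h2 := congrArg (fun m : Spec (CommRingCat.of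
        ↑((Spec (CommRingCat.of A')).residueField x)) ⟶ Spec (CommRingCat.of A') => m pt) hg1
      change g₀ ηV = _ at h2
      rw [Scheme.Hom.comp_apply, Scheme.fromSpecResidueField_apply] at h2
      rw [RingHom.injective_iff_ker_eq_bot]
      have h3 : (Spec.map δ ηV).asIdeal = ⊥ := by rw [hδ, h2]
      change Ideal.comap δ.hom ηV.asIdeal = ⊥ at h3
      rw [hηV] at h3
      exact h3
    · have h3 : (Spec.map δ (closedPoint ↥Vs)).asIdeal = p := by rw [hδ, hg2]
      exact h3

theorem finLevelLift_of_univSubmersive {X Y : Scheme.{u}} [IsLocallyNoetherian Y] (f : X ⟶ Y)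
    (hf : SGA1.UnivSubmersive f) : FinLevelLift f := by
  intro A' _ _ h _ p _
  haveI : IsLocallyNoetherian (Spec (CommRingCat.of A')) :=
    LocallyOfFiniteType.isLocallyNoetherian h
  obtain ⟨D, _, _, _, d, hd, hdp⟩ := exists_dvr_of_prime A' p
  let g₁ : Spec (CommRingCat.of D) ⟶ Y := Spec.map (CommRingCat.ofHom d) ≫ h
  have hq : Topology.IsQuotientMap (pullback.snd f g₁) :=
    hf (pullback.fst f g₁) g₁ (pullback.snd f g₁) (IsPullback.of_hasPullback f g₁).flip
  have hsub : Subtr.IsSSubtrusive (pullback.snd f g₁) :=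
    (Groth.Agent.Lib.Helper10.SubtrDVR.main D _).mp hq
  let ηD : Spec (CommRingCat.of D) := (⟨⊥, Ideal.isPrime_bot⟩ : PrimeSpectrum D)
  have hη : ηD ⤳ closedPoint D := specializes_closedPoint (R := D) ηD
  obtain ⟨w, w', hww, hw, hw'⟩ := hsub hη
  obtain ⟨Av, s, hs1, hs2⟩ :=
    Groth.Agent.Lib.Helper10.SubtrVal.exists_valuationRing_of_specializes hww
  refine finLevel_of_lift f h p D d hd hdp ↥Av (s ≫ pullback.fst f g₁)
    (s ≫ pullback.snd f g₁) ?_ ?_
  · intro y
    rcases Groth.Agent.Lib.Helper10.SubtrDVR.eq_closedPoint_or_eq_bot D y with rfl | rfl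
    · refine ⟨closedPoint ↥Av, ?_⟩
      change pullback.snd f g₁ (s (closedPoint ↥Av)) = _
      rw [hs1, hw]
    · let pt : Spec ((pullback f g₁).residueField w') :=
        closedPoint ((pullback f g₁).residueField w')
      refine ⟨Spec.map (CommRingCat.ofHom Av.subtype) pt, ?_⟩
      change pullback.snd f g₁ (s (Spec.map (CommRingCat.ofHom Av.subtype) pt)) = _
      have h2 := congrArg
        (fun m : Spec ((pullback f g₁).residueField w') ⟶ pullback f g₁ => m pt) hs2
      change s (Spec.map (CommRingCat.ofHom Av.subtype) pt) = _ at h2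
      rw [h2, Scheme.fromSpecResidueField_apply, hw']
  · rw [Category.assoc, Category.assoc, pullback.condition]

/-- The DVR lifting property. -/
def DVRLift {X Y : Scheme.{u}} (f : X ⟶ Y) : Prop :=
  ∀ (D : Type u) [CommRing D] [IsDomain D] [IsDiscreteValuationRing D]
    (g : Spec (CommRingCat.of D) ⟶ Y),
    ∃ (D' : Type u) (_ : CommRing D') (_ : IsDomain D') (_ : IsDiscreteValuationRing D')
      (a : Spec (CommRingCat.of D') ⟶ X) (b : Spec (CommRingCat.of D') ⟶ Spec (CommRingCat.of D)),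
      Surjective b ∧ a ≫ f = b ≫ g

theorem finLevelLift_of_dvrLift {X Y : Scheme.{u}} [IsLocallyNoetherian Y] (f : X ⟶ Y)
    (hf : DVRLift f) : FinLevelLift f := by
  intro A' _ _ h _ p _
  haveI : IsLocallyNoetherian (Spec (CommRingCat.of A')) :=
    LocallyOfFiniteType.isLocallyNoetherian h
  obtain ⟨D, _, _, _, d, hd, hdp⟩ := exists_dvr_of_prime A' p
  obtain ⟨D', _, _, _, a, b, hb, hab⟩ := hf D (Spec.map (CommRingCat.ofHom d) ≫ h)
  exact finLevel_of_lift f h p D d hd hdp D' a b hb.surj hab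

theorem dvrLift_of_univSSubtrusive {X Y : Scheme.{u}} (f : X ⟶ Y) [LocallyOfFiniteType f]
    (hf : Subtr.UnivSSubtrusive f) : DVRLift f := by
  intro D _ _ _ g
  have hsub : Subtr.IsSSubtrusive (pullback.snd f g) :=
    hf (pullback.fst f g) g (pullback.snd f g) (IsPullback.of_hasPullback f g).flip
  let ηD : Spec (CommRingCat.of D) := (⟨⊥, Ideal.isPrime_bot⟩ : PrimeSpectrum D)
  have hη : ηD ⤳ closedPoint D := specializes_closedPoint (R := D) ηD
  obtain ⟨w, w', hww, hw, hw'⟩ := hsub hη
  have hne : w' ≠ w := by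
    intro h
    rw [h] at hw'
    exact Groth.Agent.Lib.Helper10.SubtrDVR.bot_ne_closedPoint D (hw'.symm.trans hw)
  haveI : IsLocallyNoetherian (pullback f g) := inferInstance
  obtain ⟨Vs, hVs, g₀, hg1, hg2⟩ := Groth.Agent.Lib.Helper4.DVRSch.exists_dvr_hom hww hne
    (L := ↑((pullback f g).residueField w'))
    (𝟙 ((pullback f g).residueField w')) (RingHom.FiniteType.id _).essFiniteType
  refine ⟨↥Vs, inferInstance, inferInstance, hVs, g₀ ≫ pullback.fst f g,
    g₀ ≫ pullback.snd f g, ⟨?_⟩, by rw [Category.assoc, Category.assoc, pullback.condition]⟩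
  intro y
  rcases Groth.Agent.Lib.Helper10.SubtrDVR.eq_closedPoint_or_eq_bot D y with rfl | rfl
  · refine ⟨closedPoint ↥Vs, ?_⟩
    change pullback.snd f g (g₀ (closedPoint ↥Vs)) = _
    rw [hg2, hw]
  · let pt : Spec (CommRingCat.of ↑((pullback f g).residueField w')) :=
      closedPoint ↑((pullback f g).residueField w')
    refine ⟨Spec.map (CommRingCat.ofHom Vs.subtype) pt, ?_⟩
    change pullback.snd f g (g₀ (Spec.map (CommRingCat.ofHom Vs.subtype) pt)) = _
    have h2 := congrArg (fun m : Spec (CommRingCat.of ↑((pullback f g).residueField w')) ⟶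
      pullback f g => m pt) hg1
    change g₀ (Spec.map (CommRingCat.ofHom Vs.subtype) pt) = _ at h2
    rw [Scheme.Hom.comp_apply, Scheme.fromSpecResidueField_apply] at h2
    rw [h2, hw']

theorem univSubmersive_of_univSSubtrusive {X Y : Scheme.{u}} (f : X ⟶ Y) [QuasiCompact f]
    (hf : Subtr.UnivSSubtrusive f) : SGA1.UnivSubmersive f := by
  intro X' Y' i₁ i₂ f' hpb
  have hqc : QuasiCompact f' := MorphismProperty.of_isPullback hpb.flip inferInstance
  have hsub : Subtr.IsSSubtrusive f' := hf i₁ i₂ f' hpb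
  have hsurj : Function.Surjective f' := by
    intro y
    obtain ⟨x, _, _, hx, _⟩ := hsub (specializes_refl y)
    exact ⟨x, hx⟩
  change Topology.IsQuotientMap f'
  rw [Topology.isQuotientMap_iff_isClosed]
  refine ⟨hsurj, fun C => ⟨fun hC => hC.preimage f'.continuous, fun hC => ?_⟩⟩
  have himg : f' '' (f' ⁻¹' C) = C := Set.image_preimage_eq C hsurj
  rw [← himg]
  apply Groth.Agent.Lib.Helper10.QCClosed.isClosed_image_of_stableUnderSpecialization f' _ hC
  rw [himg]
  intro y' y hyy hy'
  obtain ⟨x, x', hxx, hx, hx'⟩ := hsub hyy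
  have hx'C : x' ∈ f' ⁻¹' C := by
    change f' x' ∈ C
    rw [hx']
    exact hy'
  have hxC : x ∈ f' ⁻¹' C := hxx.mem_closed hC hx'C
  rw [← hx]
  exact hxC

theorem univSubmersive_iff_univSSubtrusive {X Y : Scheme.{u}} [IsLocallyNoetherian Y]
    (f : X ⟶ Y) [QuasiCompact f] : SGA1.UnivSubmersive f ↔ Subtr.UnivSSubtrusive f :=
  ⟨fun h => univSSubtrusive_of_finLevelLift f (finLevelLift_of_univSubmersive f h),
    univSubmersive_of_univSSubtrusive f⟩

theorem tfae {X Y : Scheme.{u}} [IsLocallyNoetherian Y] (f : X ⟶ Y) [LocallyOfFiniteType f]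
    [QuasiCompact f] :
    List.TFAE [SGA1.UnivSubmersive f, Subtr.UnivSSubtrusive f, DVRLift f] := by
  tfae_have 1 ↔ 2 := univSubmersive_iff_univSSubtrusive f
  tfae_have 2 → 3 := dvrLift_of_univSSubtrusive f
  tfae_have 3 → 2 := fun h => univSSubtrusive_of_finLevelLift f (finLevelLift_of_dvrLift f h)
  tfae_finish

end Groth.Agent.Lib.Helper2.SubtrNoeth
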