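import Mathlib
import Groth.Prelude.Def_W4c1hilbchowincPtFun
import Groth.Agent.Lib.Helper4DVRDom
import Groth.Agent.Lib.Helper4TotalFrac
import Groth.Agent.Lib.Helper2SubtrNoeth

/-!
# Pointwise functions varying algebraically along DVRs on normal Noetherian rings (helper13)

* `evalAt f g`: the value of a pointwise function `f` on `X` at a field-valued point `g : Spec K ⟶ X`;
  `evalAt_ofSection_Spec`, `evalAt_comp`, `eq_of_evalAt_eq`, `isAlgebraic_of_field`.
* `isIntegral_of_forall_dvr`: valuative criterion of integrality over a Noetherian ring with DVRs.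
* `core`: the algebraic core; `main`: a pointwise function on `Spec A` (`A` reduced Noetherian,
  integrally closed in its total ring of fractions) varying algebraically along DVRs is the function of
  a unique global section.
-/

set_option autoImplicit false
set_option linter.unusedSectionVars false
set_option linter.style.haveILetI false
universe u
open CategoryTheory AlgebraicGeometry IsLocalRing W4c1hilbchowinc
open Groth.Agent.Lib.Helper4.TotalFrac

namespace Groth.Agent.Helper13PtFun


/-- The value of a pointwise function at a field-valued point. -/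
noncomputable def evalAt {X : Scheme.{u}} (f : PtFun X) {K : Type u} [Field K]
    (g : Spec (CommRingCat.of K) ⟶ X) : K :=
  (X.descResidueField (Scheme.stalkClosedPointTo g)).hom (f (g (closedPoint K)))

/-- Lemma A: value of the pointwise function of a section at a field-valued point of `Spec A`. -/
theorem evalAt_ofSection_Spec (A : Type u) [CommRing A] (s : Γ(Spec (CommRingCat.of A), ⊤))
    {K : Type u} [Field K] (φ : A →+* K) :
    evalAt (PtFun.ofSection (Spec (CommRingCat.of A)) s) (Spec.map (CommRingCat.ofHom φ)) =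
      φ ((Scheme.ΓSpecIso (CommRingCat.of A)).hom s) := by
  unfold evalAt PtFun.ofSection
  have h1 := Scheme.germ_stalkClosedPointTo_Spec (CommRingCat.ofHom φ)
  have h2 := Scheme.residue_descResidueField
    (Scheme.stalkClosedPointTo (Spec.map (CommRingCat.ofHom φ)))
  have h3 : (Spec (CommRingCat.of A)).Γevaluation
      ((Spec.map (CommRingCat.ofHom φ)) (closedPoint K)) ≫
      (Spec (CommRingCat.of A)).descResidueField
        (Scheme.stalkClosedPointTo (Spec.map (CommRingCat.ofHom φ))) =
      (Scheme.ΓSpecIso (CommRingCat.of A)).hom ≫ CommRingCat.ofHom φ := by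
    rw [← h1]
    unfold Scheme.Γevaluation Scheme.evaluation
    rw [Category.assoc, h2]
  exact congrArg (fun m => m.hom s) h3

/-- Lemma B: value at a composite. -/
theorem evalAt_comp {X Y : Scheme.{u}} (f : PtFun X) (g : Y ⟶ X) {K : Type u} [Field K]
    (h : Spec (CommRingCat.of K) ⟶ Y) :
    evalAt f (h ≫ g) = evalAt (f.pullback g) h := by
  unfold evalAt PtFun.pullback
  have h1 := Scheme.descResidueField_stalkClosedPointTo_comp g h
  exact congrArg (fun m => m.hom (f ((h ≫ g) (closedPoint K)))) h1

/-- Lemma C: values at a field-valued point detect equality at its image point. -/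
theorem eq_of_evalAt_eq {X : Scheme.{u}} (f f' : PtFun X) {K : Type u} [Field K]
    (g : Spec (CommRingCat.of K) ⟶ X) (h : evalAt f g = evalAt f' g) :
    f (g (closedPoint K)) = f' (g (closedPoint K)) :=
  (X.descResidueField (Scheme.stalkClosedPointTo g)).hom.injective h

/-- Lemma D: every pointwise function on the spectrum of a field is algebraic. -/
theorem isAlgebraic_of_field (K : Type u) [Field K] (F : PtFun (Spec (CommRingCat.of K))) :
    F.IsAlgebraic := by
  haveI : Subsingleton (Spec (CommRingCat.of K)) :=
    inferInstanceAs (Subsingleton (PrimeSpectrum K))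
  have hsurj : Function.Surjective
      ((Spec (CommRingCat.of K)).Γevaluation (closedPoint K)).hom := by
    unfold Scheme.Γevaluation Scheme.evaluation
    rw [CommRingCat.hom_comp, RingHom.coe_comp]
    refine Function.Surjective.comp (Scheme.residue_surjective _ _) ?_
    have h1 := germ_stalkClosedPointIso_hom (CommRingCat.of K)
    have h2 : (Spec (CommRingCat.of K)).presheaf.germ ⊤ (closedPoint K) trivial =
        (Scheme.ΓSpecIso (CommRingCat.of K)).hom ≫ (stalkClosedPointIso (CommRingCat.of K)).inv := by
      rw [← h1, Category.assoc, Iso.hom_inv_id, Category.comp_id]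
    rw [h2]
    exact (ConcreteCategory.bijective_of_isIso _).surjective
  obtain ⟨s, hs⟩ := hsurj (F (closedPoint K))
  refine ⟨s, ?_⟩
  funext x
  obtain rfl : x = closedPoint K := Subsingleton.elim _ _
  exact hs



/-- If `y ∈ V.nonunits` and `y ≠ 0` then `y⁻¹ ∉ V`. -/
theorem inv_notMem_of_mem_nonunits {L : Type*} [Field L] (V : ValuationSubring L) {y : L}
    (hy : y ∈ V.nonunits) (hy0 : y ≠ 0) : y⁻¹ ∉ V := by
  intro hmem
  rw [ValuationSubring.mem_nonunits_iff] at hy
  rw [← V.valuation_le_one_iff, map_inv₀] at hmem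
  have h0 : V.valuation y ≠ 0 := (map_ne_zero _).mpr hy0
  have h1 : 1 ≤ V.valuation y := (inv_le_one₀ (zero_lt_iff.mpr h0)).mp hmem
  exact absurd hy (not_lt.mpr h1)

/-- Valuative criterion of integrality over a Noetherian ring, with discrete valuation rings. -/
theorem isIntegral_of_forall_dvr {A : Type u} [CommRing A] [IsNoetherianRing A] {L : Type u}
    [Field L] [Algebra A L]
    (hfrac : ∀ z : L, ∃ a s : A, algebraMap A L s ≠ 0 ∧ z * algebraMap A L s = algebraMap A L a)
    (v : L)
    (hv : ∀ V : ValuationSubring L, IsDiscreteValuationRing V →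
      (∀ a : A, algebraMap A L a ∈ V) → v ∈ V) :
    IsIntegral A v := by
  by_contra hni
  have hv0 : v ≠ 0 := by
    rintro rfl
    exact hni isIntegral_zero
  set y : L := v⁻¹ with hy
  have hy0 : y ≠ 0 := inv_ne_zero hv0
  have hyv : y * v = 1 := inv_mul_cancel₀ hv0
  let S : Subalgebra A L := Algebra.adjoin A {y}
  have hyS : y ∈ S := Algebra.subset_adjoin rfl
  haveI hft : Algebra.FiniteType A S :=
    (Subalgebra.fg_iff_finiteType S).mp ⟨{y}, by simp [S]⟩
  haveI hSN : IsNoetherianRing S := Algebra.FiniteType.isNoetherianRing A S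
  let B : Subring L := S.toSubring
  let e : S ≃+* B :=
    { toFun := fun x => ⟨x.1, x.2⟩
      invFun := fun x => ⟨x.1, x.2⟩
      left_inv := fun _ => rfl
      right_inv := fun _ => rfl
      map_mul' := fun _ _ => rfl
      map_add' := fun _ _ => rfl }
  haveI : IsNoetherianRing B := isNoetherianRing_of_ringEquiv S e
  haveI : FaithfulSMul B L := (faithfulSMul_iff_algebraMap_injective B L).mpr Subtype.val_injective
  haveI : IsFractionRing B L := by
    refine IsFractionRing.of_field (R := B) (K := L) fun z => ?_
    obtain ⟨a, s, hs, hz⟩ := hfrac z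
    refine ⟨⟨algebraMap A L a, S.algebraMap_mem a⟩, ⟨algebraMap A L s, S.algebraMap_mem s⟩, ?_⟩
    change z = algebraMap A L a / algebraMap A L s
    rw [eq_div_iff hs]
    exact hz
  let ξ : B := ⟨y, hyS⟩
  have hξ0 : ξ ≠ 0 := fun h => hy0 (congrArg Subtype.val h)
  have hξ : Ideal.span {ξ} ≠ ⊤ := by
    intro htop
    have hu : IsUnit ξ := Ideal.span_singleton_eq_top.mp htop
    obtain ⟨w, hw⟩ := hu.exists_right_inv
    have hw' : y * (w : L) = 1 := congrArg Subtype.val hw
    have hwv : (w : L) = v := by
      have : (w : L) = y⁻¹ := eq_inv_of_mul_eq_one_right hw'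
      rw [this, hy, inv_inv]
    have hvS : v ∈ S := hwv ▸ w.2
    have h1 : IsIntegral (Algebra.adjoin A {y}) v := by
      have : v = algebraMap S L ⟨v, hvS⟩ := rfl
      rw [this]
      exact isIntegral_algebraMap
    exact hni (isIntegral_of_isIntegral_adjoin_of_mul_eq_one v y hyv h1)
  obtain ⟨V, hV, hBV, hξV⟩ :=
    Groth.Agent.Lib.Helper4.DVRDom.exists_dvr_of_noetherian_subring B ξ hξ0 hξ
  have hvV : v ∈ V := hv V hV (fun a => hBV (S.algebraMap_mem a))
  have hnot := inv_notMem_of_mem_nonunits V hξV hy0
  apply hnot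
  change v⁻¹⁻¹ ∈ V
  rw [inv_inv]
  exact hvV



section Core

variable (A : Type u) [CommRing A] [IsReduced A] [IsNoetherianRing A]

theorem algebraMap_resField (M : MaximalSpectrum (FractionRing A)) (a : A) :
    algebraMap A (resField A M) a =
      Ideal.Quotient.mk M.asIdeal (algebraMap A (FractionRing A) a) := rfl

/-- Step A: elements of the residue fields of the total fraction ring are fractions. -/
theorem frac_repr (M : MaximalSpectrum (FractionRing A)) (z : resField A M) :
    ∃ a s : A, algebraMap A (resField A M) s ≠ 0 ∧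
      z * algebraMap A (resField A M) s = algebraMap A (resField A M) a := by
  obtain ⟨q, rfl⟩ := Ideal.Quotient.mk_surjective z
  obtain ⟨a, s, rfl⟩ := IsLocalization.exists_mk'_eq (nonZeroDivisors A) q
  refine ⟨a, s, ?_, ?_⟩
  · have hu : IsUnit (algebraMap A (FractionRing A) s) := IsLocalization.map_units _ s
    rw [algebraMap_resField]
    exact (hu.map (Ideal.Quotient.mk M.asIdeal)).ne_zero
  · rw [algebraMap_resField, algebraMap_resField, ← map_mul, IsLocalization.mk'_spec]

/-- Step C: an integral family of elements of the residue fields comes from `A`. -/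
theorem exists_of_integral [IsIntegrallyClosed A]
    (v : ∀ M : MaximalSpectrum (FractionRing A), resField A M)
    (hv : ∀ M, IsIntegral A (v M)) : ∃ a : A, ∀ M, algebraMap A (resField A M) a = v M := by
  let e := (IsArtinianRing.equivPi (FractionRing A)).restrictScalars A
  have h1 : IsIntegral A v := isIntegral_pi (resField A) v hv
  have h2 : IsIntegral A (e.symm v) := h1.map e.symm.toAlgHom
  obtain ⟨a, ha⟩ := IsIntegrallyClosed.isIntegral_iff.mp h2
  refine ⟨a, fun M => ?_⟩
  have h3 : e (algebraMap A (FractionRing A) a) = v := by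
    rw [ha]
    exact e.apply_symm_apply v
  have h4 := congrFun h3 M
  rw [← h4, algebraMap_resField]
  exact (IsArtinianRing.equivPi_apply (R := FractionRing A) (algebraMap A (FractionRing A) a) M).symm

/-- Step D: every prime of `A` contains the contraction of a maximal ideal of the total fraction
ring. -/
theorem exists_maximalSpectrum_comap_le (P : Ideal A) [P.IsPrime] :
    ∃ M : MaximalSpectrum (FractionRing A),
      M.asIdeal.comap (algebraMap A (FractionRing A)) ≤ P := by
  obtain ⟨p, hp, hpP⟩ := Ideal.exists_minimalPrimes_le (I := ⊥) (J := P) bot_le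
  have hp' : p ∈ minimalPrimes A := hp
  haveI hpp : p.IsPrime := hp.1.1
  have hd : Disjoint (nonZeroDivisors A : Set A) (p : Set A) :=
    (Ideal.disjoint_nonZeroDivisors_of_mem_minimalPrimes hp').symm
  have hprime : (p.map (algebraMap A (FractionRing A))).IsPrime :=
    IsLocalization.isPrime_of_isPrime_disjoint (nonZeroDivisors A) _ p hpp hd
  haveI := hprime
  have hmax : (p.map (algebraMap A (FractionRing A))).IsMaximal :=
    IsArtinianRing.isMaximal_of_isPrime _
  refine ⟨⟨_, hmax⟩, ?_⟩
  have := IsLocalization.under_map_of_isPrime_disjoint (nonZeroDivisors A) (FractionRing A) hpp hd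
  rw [Ideal.under_def] at this
  rw [this]
  exact hpP

/-- The core algebraic statement. -/
theorem core [IsIntegrallyClosed A]
    (E : ∀ (K : Type u) [Field K], (A →+* K) → K)
    (hE1 : ∀ (K K' : Type u) [Field K] [Field K'] (φ : A →+* K) (j : K →+* K'),
      E K' (j.comp φ) = j (E K φ))
    (hE2 : ∀ (R : Type u) [CommRing R] [IsDomain R] [IsDiscreteValuationRing R] (φ : A →+* R),
      ∃ r : R, ∀ (K : Type u) [Field K] (ι : R →+* K), E K (ι.comp φ) = ι r) :
    ∃ a : A, ∀ (P : Ideal A) [P.IsPrime], ∃ (K : Type u) (_ : Field K) (φ : A →+* K),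
      RingHom.ker φ = P ∧ E K φ = φ a := by
  -- the values at the generic points
  let v : ∀ M : MaximalSpectrum (FractionRing A), resField A M :=
    fun M => E (resField A M) (algebraMap A (resField A M))
  have hvint : ∀ M, IsIntegral A (v M) := by
    intro M
    refine isIntegral_of_forall_dvr (frac_repr A M) (v M) (fun V hV hAV => ?_)
    haveI := hV
    let φ : A →+* V := (algebraMap A (resField A M)).codRestrict V.toSubring hAV
    obtain ⟨r, hr⟩ := hE2 V φ
    have h1 := hr (resField A M) V.subtype
    have h2 : V.subtype.comp φ = algebraMap A (resField A M) := RingHom.ext fun _ => rfl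
    rw [h2] at h1
    change E (resField A M) (algebraMap A (resField A M)) ∈ V
    rw [h1]
    exact r.2
  obtain ⟨a, ha⟩ := exists_of_integral A v hvint
  refine ⟨a, fun P _ => ?_⟩
  obtain ⟨M, hMP⟩ := exists_maximalSpectrum_comap_le A P
  -- the minimal prime
  set p : Ideal A := M.asIdeal.comap (algebraMap A (FractionRing A)) with hp
  haveI : p.IsPrime := Ideal.comap_isPrime _ _
  let D := A ⧸ p
  let P' : Ideal D := P.map (Ideal.Quotient.mk p)
  haveI : P'.IsPrime :=
    Ideal.map_isPrime_of_surjective Ideal.Quotient.mk_surjective (by rwa [Ideal.mk_ker])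
  obtain ⟨R, _, _, _, d, hdinj, hdP'⟩ :=
    Groth.Agent.Lib.Helper2.SubtrNoeth.exists_dvr_of_prime D P'
  let φV : A →+* R := d.comp (Ideal.Quotient.mk p)
  have hkerφV : ∀ x : A, φV x = 0 ↔ x ∈ p := by
    intro x
    change d (Ideal.Quotient.mk p x) = 0 ↔ _
    rw [map_eq_zero_iff d hdinj, Ideal.Quotient.eq_zero_iff_mem]
  have hcomap : (maximalIdeal R).comap φV = P := by
    change (maximalIdeal R).comap (d.comp (Ideal.Quotient.mk p)) = P
    rw [← Ideal.comap_comap, hdP']
    exact Ideal.comap_map_mk hMP
  -- the generic point of `R`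
  let ι : R →+* FractionRing R := algebraMap R (FractionRing R)
  have hιinj : Function.Injective ι := IsFractionRing.injective R (FractionRing R)
  let θ : A →+* FractionRing R := ι.comp φV
  have hθ0 : ∀ x : A, θ x = 0 ↔ x ∈ p := by
    intro x
    change ι (φV x) = 0 ↔ _
    rw [map_eq_zero_iff ι hιinj, hkerφV]
  have hunits : ∀ s : nonZeroDivisors A, IsUnit (θ s) := by
    intro s
    rw [isUnit_iff_ne_zero, Ne, hθ0]
    intro hs
    have hu : IsUnit (algebraMap A (FractionRing A) s) := IsLocalization.map_units _ s
    exact M.isMaximal.ne_top (Ideal.eq_top_of_isUnit_mem _ hs hu)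
  let Θ : FractionRing A →+* FractionRing R := IsLocalization.lift hunits
  have hΘ : ∀ x : A, Θ (algebraMap A (FractionRing A) x) = θ x := fun x => IsLocalization.lift_eq _ x
  have hΘM : ∀ q ∈ M.asIdeal, Θ q = 0 := by
    intro q hq
    obtain ⟨x, s, rfl⟩ := IsLocalization.exists_mk'_eq (nonZeroDivisors A) q
    have h1 : IsLocalization.mk' (FractionRing A) x s * algebraMap A (FractionRing A) s =
        algebraMap A (FractionRing A) x := IsLocalization.mk'_spec _ x s
    have hx : x ∈ p := by
      change algebraMap A (FractionRing A) x ∈ M.asIdeal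
      rw [← h1]
      exact M.asIdeal.mul_mem_right _ hq
    have h2 : Θ (IsLocalization.mk' (FractionRing A) x s) * θ s = θ x := by
      rw [← hΘ, ← hΘ, ← map_mul, h1]
    rw [(hθ0 x).mpr hx] at h2
    exact (mul_eq_zero.mp h2).resolve_right (hunits s).ne_zero
  let j : resField A M →+* FractionRing R := Ideal.Quotient.lift M.asIdeal Θ hΘM
  have hj : j.comp (algebraMap A (resField A M)) = θ := by
    ext x
    change j (Ideal.Quotient.mk M.asIdeal (algebraMap A (FractionRing A) x)) = θ x
    rw [Ideal.Quotient.lift_mk, hΘ]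
  have hEθ : E (FractionRing R) θ = θ a := by
    rw [← hj, hE1]
    change j (v M) = _
    rw [← ha M]
    rfl
  obtain ⟨r, hr⟩ := hE2 R φV
  have hrι : ι r = ι (φV a) := by
    rw [← hr (FractionRing R) ι]
    exact hEθ
  have hra : r = φV a := hιinj hrι
  refine ⟨ResidueField R, inferInstance, (IsLocalRing.residue R).comp φV, ?_, ?_⟩
  · rw [← RingHom.comap_ker, IsLocalRing.ker_residue]
    exact hcomap
  · rw [hr (ResidueField R) (IsLocalRing.residue R), hra]
    rfl

end Core



theorem main (A : Type u) [CommRing A] [IsReduced A] [IsNoetherianRing A] [IsIntegrallyClosed A]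
    (f : PtFun (Spec (CommRingCat.of A))) (hf : f.VariesAlongDVR) :
    ∃! a : Γ(Spec (CommRingCat.of A), ⊤), PtFun.ofSection (Spec (CommRingCat.of A)) a = f := by
  -- the values at field-valued points
  let E : ∀ (K : Type u) [Field K], (A →+* K) → K :=
    fun K _ φ => evalAt f (Spec.map (CommRingCat.ofHom φ))
  -- algebraicity along a ring map gives the values at all further field-valued points
  have key : ∀ (R : Type u) [CommRing R] (φ : A →+* R)
      (s : Γ(Spec (CommRingCat.of R), ⊤))
      (hs : PtFun.ofSection (Spec (CommRingCat.of R)) s =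
        f.pullback (Spec.map (CommRingCat.ofHom φ)))
      (K : Type u) [Field K] (ι : R →+* K),
      E K (ι.comp φ) = ι ((Scheme.ΓSpecIso (CommRingCat.of R)).hom s) := by
    intro R _ φ s hs K _ ι
    change evalAt f (Spec.map (CommRingCat.ofHom (ι.comp φ))) = _
    rw [CommRingCat.ofHom_comp, Spec.map_comp, evalAt_comp, ← hs, evalAt_ofSection_Spec]
  have hE2 : ∀ (R : Type u) [CommRing R] [IsDomain R] [IsDiscreteValuationRing R] (φ : A →+* R),
      ∃ r : R, ∀ (K : Type u) [Field K] (ι : R →+* K), E K (ι.comp φ) = ι r := by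
    intro R _ _ _ φ
    obtain ⟨s, hs⟩ := hf R (Spec.map (CommRingCat.ofHom φ))
    exact ⟨_, fun K _ ι => key R φ s hs K ι⟩
  have hE1 : ∀ (K K' : Type u) [Field K] [Field K'] (φ : A →+* K) (j : K →+* K'),
      E K' (j.comp φ) = j (E K φ) := by
    intro K K' _ _ φ j
    obtain ⟨s, hs⟩ := isAlgebraic_of_field K (f.pullback (Spec.map (CommRingCat.ofHom φ)))
    have h1 := key K φ s hs K' j
    have h2 := key K φ s hs K (RingHom.id K)
    rw [RingHom.id_comp] at h2
    rw [h1, h2]
    rfl
  obtain ⟨a, ha⟩ := core A E hE1 hE2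
  have hex : PtFun.ofSection (Spec (CommRingCat.of A))
      ((Scheme.ΓSpecIso (CommRingCat.of A)).inv a) = f := by
    funext x
    haveI : x.asIdeal.IsPrime := x.isPrime
    obtain ⟨K, _, φ, hker, hEφ⟩ := ha x.asIdeal
    have hGc : (Spec.map (CommRingCat.ofHom φ)) (closedPoint K) = x := by
      apply PrimeSpectrum.ext
      change Ideal.comap φ (maximalIdeal K) = x.asIdeal
      rw [IsLocalRing.maximalIdeal_eq_bot, ← RingHom.ker_eq_comap_bot]
      exact hker
    have h1 : evalAt (PtFun.ofSection (Spec (CommRingCat.of A))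
        ((Scheme.ΓSpecIso (CommRingCat.of A)).inv a)) (Spec.map (CommRingCat.ofHom φ)) =
        evalAt f (Spec.map (CommRingCat.ofHom φ)) := by
      rw [evalAt_ofSection_Spec]
      change φ ((Scheme.ΓSpecIso (CommRingCat.of A)).hom
        ((Scheme.ΓSpecIso (CommRingCat.of A)).inv a)) = E K φ
      rw [hEφ]
      congr 1
      exact congrArg (fun m => m.hom a) (Scheme.ΓSpecIso (CommRingCat.of A)).inv_hom_id
    have h2 := eq_of_evalAt_eq _ _ _ h1
    rw [hGc] at h2
    exact h2
  refine ⟨_, hex, fun b hb => ?_⟩
  -- uniqueness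
  set a' := (Scheme.ΓSpecIso (CommRingCat.of A)).inv a with ha'
  have hzero : ∀ x : Spec (CommRingCat.of A),
      (Spec (CommRingCat.of A)).Γevaluation x (b - a') = 0 := by
    intro x
    rw [map_sub, sub_eq_zero]
    exact (congrFun hb x).trans (congrFun hex x).symm
  have hbot : (Spec (CommRingCat.of A)).basicOpen (b - a') = ⊥ := by
    rw [Scheme.basicOpen_eq_bot_iff_forall_evaluation_eq_zero]
    intro x
    exact hzero x.1
  have := (basicOpen_eq_bot_iff (X := Spec (CommRingCat.of A)) (b - a')).mp hbot
  exact sub_eq_zero.mp this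

end Groth.Agent.Helper13PtFun
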