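import Mathlib

/-!
# Radicial ring maps (helper20)

`FMap ψ` : ring maps to fields are determined by their restriction along `ψ`.  This is equivalent
to: `Spec` injective with purely inseparable residue field extensions, and it is stable under base
change.
-/

universe u

namespace Groth.Agent.Lib.Helper20.Radicial

open TensorProduct

/-- Maps to fields are determined by their restriction along `ψ`. -/
def FMap {A C : Type u} [CommRing A] [CommRing C] (ψ : A →+* C) : Prop :=
  ∀ (K : Type u) [Field K] (χ₁ χ₂ : C →+* K), χ₁.comp ψ = χ₂.comp ψ → χ₁ = χ₂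

section

variable {R S : Type u} [CommRing R] [CommRing S] [Algebra R S]

/-- the radicial condition in the form of the statement -/
def Rad (R S : Type u) [CommRing R] [CommRing S] [Algebra R S] : Prop :=
  Function.Injective (PrimeSpectrum.comap (algebraMap R S)) ∧
    ∀ (q : Ideal S) [q.IsPrime] (x : q.ResidueField), ∃ n : ℕ,
      x ^ (ringExpChar (q.comap (algebraMap R S)).ResidueField) ^ n ∈
        Set.range (Ideal.ResidueField.map (q.comap (algebraMap R S)) q (algebraMap R S) rfl)

theorem FMap_of_rad (h : Rad R S) : FMap (algebraMap R S) := by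
  obtain ⟨hinj, hpi⟩ := h
  intro K _ χ₁ χ₂ hχ
  have hq : RingHom.ker χ₁ = RingHom.ker χ₂ := by
    have := @hinj ⟨RingHom.ker χ₁, RingHom.ker_isPrime χ₁⟩ ⟨RingHom.ker χ₂, RingHom.ker_isPrime χ₂⟩
      (by
        ext1
        show (RingHom.ker χ₁).comap (algebraMap R S) = (RingHom.ker χ₂).comap (algebraMap R S)
        rw [RingHom.comap_ker, RingHom.comap_ker, hχ])
    exact congrArg PrimeSpectrum.asIdeal this
  set q := RingHom.ker χ₁ with hqdef
  haveI : q.IsPrime := RingHom.ker_isPrime χ₁
  have hu : ∀ (χ : S →+* K), RingHom.ker χ = q →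
      q.primeCompl ≤ (IsUnit.submonoid K).comap χ := by
    intro χ hk s hs
    show IsUnit (χ s)
    rw [isUnit_iff_ne_zero]
    intro h0
    exact hs (hk ▸ (RingHom.mem_ker.mpr h0))
  set l₁ := Ideal.ResidueField.lift q χ₁ le_rfl (hu χ₁ rfl) with hl₁
  set l₂ := Ideal.ResidueField.lift q χ₂ (le_of_eq hq) (hu χ₂ hq.symm) with hl₂
  have hl : l₁ = l₂ := by
    set e := ringExpChar (q.comap (algebraMap R S)).ResidueField with he
    haveI : ExpChar (q.comap (algebraMap R S)).ResidueField e := ringExpChar.expChar _
    have hc : l₁.comp (Ideal.ResidueField.map (q.comap (algebraMap R S)) q (algebraMap R S) rfl) =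
        l₂.comp (Ideal.ResidueField.map (q.comap (algebraMap R S)) q (algebraMap R S) rfl) := by
      apply Ideal.ResidueField.ringHom_ext
      ext r
      simp only [RingHom.comp_apply, Ideal.ResidueField.map_algebraMap]
      rw [hl₁, hl₂, Ideal.ResidueField.lift_algebraMap, Ideal.ResidueField.lift_algebraMap]
      exact RingHom.congr_fun hχ r
    haveI : ExpChar K e := expChar_of_injective_ringHom
      (f := l₁.comp (Ideal.ResidueField.map (q.comap (algebraMap R S)) q (algebraMap R S) rfl))
      (RingHom.injective _) e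
    refine RingHom.ext fun x => ?_
    obtain ⟨n, y, hy⟩ := hpi q x
    apply iterateFrobenius_inj K e n
    rw [iterateFrobenius_def, iterateFrobenius_def, ← map_pow, ← map_pow, ← hy]
    exact RingHom.congr_fun hc y
  ext s
  have h1 : l₁ (algebraMap S q.ResidueField s) = χ₁ s := Ideal.ResidueField.lift_algebraMap _ _ _ _ _
  have h2 : l₂ (algebraMap S q.ResidueField s) = χ₂ s := Ideal.ResidueField.lift_algebraMap _ _ _ _ _
  rw [← h1, ← h2, hl]

theorem rad_of_FMap (h : FMap (algebraMap R S)) : Rad R S := by
  constructor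
  · intro q₁ q₂ hq
    have hp₂ : q₁.asIdeal.comap (algebraMap R S) = q₂.asIdeal.comap (algebraMap R S) :=
      congrArg PrimeSpectrum.asIdeal hq
    let p := q₁.asIdeal.comap (algebraMap R S)
    let m₁ : p.ResidueField →+* q₁.asIdeal.ResidueField :=
      Ideal.ResidueField.map p q₁.asIdeal (algebraMap R S) rfl
    let m₂ : p.ResidueField →+* q₂.asIdeal.ResidueField :=
      Ideal.ResidueField.map p q₂.asIdeal (algebraMap R S) hp₂
    letI := m₁.toAlgebra
    letI := m₂.toAlgebra
    let T := q₁.asIdeal.ResidueField ⊗[p.ResidueField] q₂.asIdeal.ResidueField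
    haveI : Nontrivial T :=
      Algebra.TensorProduct.nontrivial_of_algebraMap_injective_of_flat_left _ _ _
        (RingHom.injective _)
    obtain ⟨m, hm⟩ := Ideal.exists_maximal T
    letI := Ideal.Quotient.field m
    let g₁ : q₁.asIdeal.ResidueField →+* T ⧸ m :=
      (Ideal.Quotient.mk m).comp Algebra.TensorProduct.includeLeftRingHom
    let g₂ : q₂.asIdeal.ResidueField →+* T ⧸ m :=
      (Ideal.Quotient.mk m).comp
        (Algebra.TensorProduct.includeRight : _ →ₐ[p.ResidueField] T).toRingHom
    have key := h (T ⧸ m) (g₁.comp (algebraMap S _)) (g₂.comp (algebraMap S _)) (by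
      ext r
      simp only [RingHom.comp_apply]
      have e1 : algebraMap S q₁.asIdeal.ResidueField (algebraMap R S r) =
          m₁ (algebraMap R p.ResidueField r) :=
        (Ideal.ResidueField.map_algebraMap p q₁.asIdeal (algebraMap R S) rfl r).symm
      have e2 : algebraMap S q₂.asIdeal.ResidueField (algebraMap R S r) =
          m₂ (algebraMap R p.ResidueField r) :=
        (Ideal.ResidueField.map_algebraMap p q₂.asIdeal (algebraMap R S) hp₂ r).symm
      rw [e1, e2]
      show Ideal.Quotient.mk m ((m₁ (algebraMap R p.ResidueField r)) ⊗ₜ 1) =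
        Ideal.Quotient.mk m (1 ⊗ₜ (m₂ (algebraMap R p.ResidueField r)))
      congr 1
      generalize algebraMap R p.ResidueField r = c
      calc (m₁ c) ⊗ₜ[p.ResidueField] (1 : q₂.asIdeal.ResidueField)
          = (c • (1 : q₁.asIdeal.ResidueField)) ⊗ₜ[p.ResidueField] (1 : q₂.asIdeal.ResidueField) := by
            rw [← Algebra.algebraMap_eq_smul_one]; rfl
        _ = (1 : q₁.asIdeal.ResidueField) ⊗ₜ[p.ResidueField] (c • (1 : q₂.asIdeal.ResidueField)) :=
            TensorProduct.smul_tmul _ _ _
        _ = (1 : q₁.asIdeal.ResidueField) ⊗ₜ[p.ResidueField] (m₂ c) := by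
            rw [← Algebra.algebraMap_eq_smul_one]; rfl)
    have k1 : RingHom.ker (g₁.comp (algebraMap S q₁.asIdeal.ResidueField)) = q₁.asIdeal := by
      rw [RingHom.ker_comp_of_injective _ (RingHom.injective g₁), Ideal.ker_algebraMap_residueField]
    have k2 : RingHom.ker (g₂.comp (algebraMap S q₂.asIdeal.ResidueField)) = q₂.asIdeal := by
      rw [RingHom.ker_comp_of_injective _ (RingHom.injective g₂), Ideal.ker_algebraMap_residueField]
    ext1
    exact k1.symm.trans ((congrArg RingHom.ker key).trans k2)
  · intro q _ x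
    let p := q.comap (algebraMap R S)
    let m₁ : p.ResidueField →+* q.ResidueField :=
      Ideal.ResidueField.map p q (algebraMap R S) rfl
    letI := m₁.toAlgebra
    have hpi : IsPurelyInseparable p.ResidueField q.ResidueField := by
      haveI : Nonempty (q.ResidueField →+* AlgebraicClosure q.ResidueField) :=
        ⟨algebraMap _ _⟩
      apply IsPurelyInseparable.of_injective_comp_algebraMap p.ResidueField q.ResidueField
        (AlgebraicClosure q.ResidueField)
      intro f g hfg
      apply Ideal.ResidueField.ringHom_ext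
      apply h
      ext r
      simp only [RingHom.comp_apply]
      have e1 : algebraMap S q.ResidueField (algebraMap R S r) =
          algebraMap p.ResidueField q.ResidueField (algebraMap R p.ResidueField r) :=
        (Ideal.ResidueField.map_algebraMap p q (algebraMap R S) rfl r).symm
      rw [e1]
      exact RingHom.congr_fun hfg _
    obtain ⟨n, y, hy⟩ := (isPurelyInseparable_iff_pow_mem p.ResidueField
      (ringExpChar p.ResidueField)).mp hpi x
    exact ⟨n, y, hy⟩

end

theorem FMap_baseChange {R S R' : Type u} [CommRing R] [CommRing S] [CommRing R'] [Algebra R S]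
    [Algebra R R'] (h : FMap (algebraMap R S)) : FMap (algebraMap R' (R' ⊗[R] S)) := by
  intro K _ χ₁ χ₂ hχ
  have h2 : χ₁.comp (Algebra.TensorProduct.includeRight : S →ₐ[R] R' ⊗[R] S).toRingHom =
      χ₂.comp (Algebra.TensorProduct.includeRight : S →ₐ[R] R' ⊗[R] S).toRingHom := by
    apply h
    ext r
    simp only [RingHom.comp_apply]
    have e : (Algebra.TensorProduct.includeRight : S →ₐ[R] R' ⊗[R] S).toRingHom (algebraMap R S r) =
        algebraMap R' (R' ⊗[R] S) (algebraMap R R' r) := by
      show (1 : R') ⊗ₜ[R] (algebraMap R S r) = (algebraMap R R' r) ⊗ₜ[R] (1 : S)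
      rw [Algebra.algebraMap_eq_smul_one, Algebra.algebraMap_eq_smul_one, TensorProduct.smul_tmul]
    rw [e]
    exact RingHom.congr_fun hχ _
  refine RingHom.ext fun t => ?_
  induction t using TensorProduct.induction_on with
  | zero => simp
  | tmul a s =>
    have e : a ⊗ₜ[R] s = algebraMap R' (R' ⊗[R] S) a *
        (Algebra.TensorProduct.includeRight : S →ₐ[R] R' ⊗[R] S).toRingHom s := by
      show a ⊗ₜ[R] s = (a ⊗ₜ[R] (1 : S)) * ((1 : R') ⊗ₜ[R] s)
      rw [Algebra.TensorProduct.tmul_mul_tmul, mul_one, one_mul]
    rw [e, map_mul, map_mul]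
    congr 1
    · exact RingHom.congr_fun hχ a
    · exact RingHom.congr_fun h2 s
  | add x y hx hy => rw [map_add, map_add, hx, hy]

/-- Stability of the radicial condition under base change. -/
theorem rad_baseChange {R S R' : Type u} [CommRing R] [CommRing S] [CommRing R'] [Algebra R S]
    [Algebra R R'] (h : Rad R S) : Rad R' (R' ⊗[R] S) :=
  rad_of_FMap (FMap_baseChange (FMap_of_rad h))

end Groth.Agent.Lib.Helper20.Radicial
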