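import Groth.Agent.Lib.Helper20AWNFun

/-!
# Seminormal rings and subintegral universal homeomorphisms (helper20)
-/

set_option autoImplicit false
set_option linter.style.haveILetI false

universe u

namespace Groth.Agent.Lib.Helper20.SNRing

open AlgebraicGeometry CategoryTheory TensorProduct
open Groth.Agent.Lib.Helper20.AWN Groth.Agent.Lib.Helper20.AWNFun
open Groth.Agent.Lib.Helper20.Tower Groth.Agent.Lib.Helper20.EtaPt

/-- Ring-level "all residue field extensions are trivial". -/
def ResSurj {A C : Type u} [CommRing A] [CommRing C] (ψ : A →+* C) : Prop :=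
  ∀ Q : PrimeSpectrum C, Function.Surjective
    (Ideal.ResidueField.map (PrimeSpectrum.comap ψ Q).asIdeal Q.asIdeal ψ rfl)

variable {B W : Type u} [CommRing B] [CommRing W]

theorem isReduced_of_isSeminormalRing (hB : HTop.IsSeminormalRing B) : IsReduced B :=
  Groth.Agent.Lib.Helper11.isReduced_of_isSeminormalRing hB

theorem ResSurj.of_comp {A B C : Type u} [CommRing A] [CommRing B] [CommRing C] (f : A →+* B)
    (g : B →+* C) (h : ResSurj (g.comp f)) : ResSurj g := by
  intro Q z
  obtain ⟨y, hy⟩ := h Q z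
  have hcomp := residueField_map_comp
    (PrimeSpectrum.comap (g.comp f) Q).asIdeal (PrimeSpectrum.comap g Q).asIdeal Q.asIdeal f g
    rfl rfl rfl
  refine ⟨Ideal.ResidueField.map _ _ f rfl y, ?_⟩
  rw [← hy]
  exact (RingHom.congr_fun hcomp y).symm

theorem bijective_of_UH_of_isSeminormalRing (χ : B →+* W) (hχ : UH χ) (hres : ResSurj χ)
    (hB : HTop.IsSeminormalRing B) [IsReduced W] : Function.Bijective χ := by
  haveI : IsReduced B := isReduced_of_isSeminormalRing hB
  have hinj : Function.Injective χ := by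
    rw [injective_iff_map_eq_zero]
    intro b hb
    have h1 : b ∈ nilradical B := by
      rw [nilradical_eq_sInf, Ideal.mem_sInf]
      intro P hP
      obtain ⟨Q, hQ⟩ := hχ.2.1 ⟨P, hP⟩
      have h1 : b ∈ (PrimeSpectrum.comap χ Q).asIdeal := by
        show χ b ∈ Q.asIdeal
        rw [hb]
        exact zero_mem _
      rw [hQ] at h1
      exact h1
    rw [nilradical_eq_zero] at h1
    exact h1
  refine ⟨hinj, ?_⟩
  letI := χ.toAlgebra
  have hmem : ∀ w : W, w ∈ (⊥ : Subalgebra B W) ↔ w ∈ χ.range := by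
    intro w
    rw [Algebra.mem_bot]
    rfl
  have hι_int : (algebraMap (⊥ : Subalgebra B W) W).IsIntegral := by
    intro w
    exact (show IsIntegral B w from hχ.1 w).tower_top
  have hUH' : UH (algebraMap (⊥ : Subalgebra B W) W) :=
    UH_of_comp_right (algebraMap B (⊥ : Subalgebra B W)) (algebraMap (⊥ : Subalgebra B W) W)
      Subtype.val_injective hι_int hχ
  have hres' : ResSurj (algebraMap (⊥ : Subalgebra B W) W) :=
    ResSurj.of_comp (algebraMap B (⊥ : Subalgebra B W)) (algebraMap (⊥ : Subalgebra B W) W) hres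
  have htop : (⊥ : Subalgebra B W) = ⊤ := by
    apply eq_top_of_closed_of_residue _ hUH' hres'
    intro w h2 h3
    obtain ⟨x, hx⟩ := (hmem _).mp h2
    obtain ⟨y, hy⟩ := (hmem _).mp h3
    have hxy : x ^ 3 = y ^ 2 := by
      apply hinj
      rw [map_pow, map_pow, hx, hy]
      ring
    obtain ⟨a, ⟨ha2, ha3⟩, -⟩ := hB x y hxy
    have : χ a = w := by
      apply eq_of_sq_cube_of_isReduced
      · rw [← map_pow, ← ha2, hx]
      · rw [← map_pow, ← ha3, hy]
    exact (hmem w).mpr ⟨a, this⟩
  intro w
  have hw : w ∈ (⊥ : Subalgebra B W) := htop ▸ Algebra.mem_top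
  exact (hmem w).mp hw

end Groth.Agent.Lib.Helper20.SNRing
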