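import Mathlib
import Groth.Prelude.Def_HTop2
import Groth.Agent.Lib.Helper20SNRing
import Groth.Agent.Lib.Helper20Radicial

/-!
# Elements of a universally homeomorphic extension of a seminormal ring with rational residues
(helper14)

`mem_range_of_residue`: let `g : C → C'` be a ring map whose `Spec` is a universal homeomorphism
(`UH g`), `C` seminormal, `C'` reduced.  If `y : C'` has, at every prime `Q'` of `C'`, its residue
class in `κ(Q')` coming from `κ(g⁻¹ Q')`, then `y` lies in the image of `g`.
-/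

set_option autoImplicit false
set_option linter.unusedVariables false
set_option linter.unusedSectionVars false
set_option linter.style.haveILetI false
universe u

namespace Groth.Agent.Lib.Helper14.SNRange

open Groth.Agent.Lib.Helper20.AWN (UH)
open Groth.Agent.Lib.Helper20.SNRing (ResSurj bijective_of_UH_of_isSeminormalRing)
open Groth.Agent.Lib.Helper20.Radicial (FMap Rad FMap_of_rad rad_of_FMap)

section transport
variable {C D : Type*} [CommRing C] [CommRing D]

lemma range_map_congr {I₀ I₁ : Ideal C} [I₀.IsPrime] [I₁.IsPrime] (h : I₀ = I₁) (J : Ideal D)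
    [J.IsPrime] (f : C →+* D) (h0 : I₀ = J.comap f) (h1 : I₁ = J.comap f) :
    Set.range (Ideal.ResidueField.map I₀ J f h0) = Set.range (Ideal.ResidueField.map I₁ J f h1) := by
  subst h
  rfl

end transport

section main
variable {C C' : Type u} [CommRing C] [CommRing C'] (g : C →+* C')

theorem mem_range_of_residue (hg : UH g) (hC : HTop.IsSeminormalRing C) [IsReduced C'] (y : C')
    (hy : ∀ Q' : PrimeSpectrum C', algebraMap C' Q'.asIdeal.ResidueField y ∈
      Set.range (Ideal.ResidueField.map (PrimeSpectrum.comap g Q').asIdeal Q'.asIdeal g rfl)) :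
    y ∈ Set.range g := by
  classical
  letI : Algebra C C' := g.toAlgebra
  have hgalg : algebraMap C C' = g := rfl
  obtain ⟨hint, hsurj, hF⟩ := hg
  haveI hintA : Algebra.IsIntegral C C' := ⟨hint⟩
  set W : Subalgebra C C' := Algebra.adjoin C {y} with hW
  have hyW : y ∈ W := Algebra.subset_adjoin (Set.mem_singleton y)
  set χ : C →+* W := algebraMap C W with hχ
  set ι : W →+* C' := algebraMap W C' with hι
  have hιinj : Function.Injective ι := Subtype.val_injective
  have hιχ : ∀ c, ι (χ c) = g c := fun c => rfl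
  haveI : Algebra.IsIntegral W C' := Algebra.IsIntegral.tower_top (R := C)
  haveI : IsReduced W := isReduced_of_injective ι hιinj
  -- lying over for `W ⊆ C'`
  have hLO : ∀ (P : Ideal W) [P.IsPrime], ∃ Q : Ideal C', Q.IsPrime ∧ Q.comap ι = P := by
    intro P _
    obtain ⟨Q, -, hQ, hQP⟩ := Ideal.exists_ideal_over_prime_of_isIntegral P (⊥ : Ideal C') (by
      intro w hw
      have hw1 : ι w = 0 := Ideal.mem_bot.mp (Ideal.mem_comap.mp hw)
      have hw0 : w = 0 := hιinj (by rw [hw1, map_zero])
      rw [hw0]; exact P.zero_mem)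
    exact ⟨Q, hQ, hQP⟩
  have hradg : Rad C C' := rad_of_FMap hF
  -- injectivity of `Spec W → Spec C`
  have hinjχ : Function.Injective (PrimeSpectrum.comap χ) := by
    intro P₁ P₂ h12
    obtain ⟨Q₁, hQ₁, hQP₁⟩ := hLO P₁.asIdeal
    obtain ⟨Q₂, hQ₂, hQP₂⟩ := hLO P₂.asIdeal
    have h1 : PrimeSpectrum.comap g ⟨Q₁, hQ₁⟩ = PrimeSpectrum.comap g ⟨Q₂, hQ₂⟩ := by
      apply PrimeSpectrum.ext
      show Q₁.comap g = Q₂.comap g
      have e1 : Q₁.comap g = (Q₁.comap ι).comap χ := rfl
      have e2 : Q₂.comap g = (Q₂.comap ι).comap χ := rfl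
      rw [e1, e2, hQP₁, hQP₂]
      exact congrArg PrimeSpectrum.asIdeal h12
    have h2 := hradg.1 h1
    have h3 : Q₁ = Q₂ := congrArg PrimeSpectrum.asIdeal h2
    apply PrimeSpectrum.ext
    rw [← hQP₁, ← hQP₂, h3]
  -- residue fields of `W` are those of `C`
  have hres : ResSurj χ := by
    intro Q
    set L : Subfield Q.asIdeal.ResidueField :=
      (Ideal.ResidueField.map (PrimeSpectrum.comap χ Q).asIdeal Q.asIdeal χ rfl).fieldRange with hL
    have hmemL : ∀ z, z ∈ L ↔ z ∈ Set.range
        (Ideal.ResidueField.map (PrimeSpectrum.comap χ Q).asIdeal Q.asIdeal χ rfl) := fun z => by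
      rw [hL, RingHom.mem_fieldRange]; rfl
    -- the key point: the class of `y`
    have hKy : algebraMap W Q.asIdeal.ResidueField ⟨y, hyW⟩ ∈ L := by
      obtain ⟨Q', hQ', hQQ'⟩ := hLO Q.asIdeal
      obtain ⟨t, ht⟩ := hy ⟨Q', hQ'⟩
      have hf : Q'.comap g = Q.asIdeal.comap χ := by
        rw [← hQQ']; rfl
      have hcomp : (Ideal.ResidueField.map Q.asIdeal Q' ι hQQ'.symm).comp
          (Ideal.ResidueField.map (Q'.comap g) Q.asIdeal χ hf) =
          Ideal.ResidueField.map (Q'.comap g) Q' g rfl := by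
        apply Ideal.ResidueField.ringHom_ext
        ext a
        simp only [RingHom.comp_apply, Ideal.ResidueField.map_algebraMap]
        rfl
      have h1 : Ideal.ResidueField.map Q.asIdeal Q' ι hQQ'.symm
          (Ideal.ResidueField.map (Q'.comap g) Q.asIdeal χ hf t) =
          Ideal.ResidueField.map Q.asIdeal Q' ι hQQ'.symm
            (algebraMap W Q.asIdeal.ResidueField ⟨y, hyW⟩) := by
        rw [← RingHom.comp_apply, hcomp, Ideal.ResidueField.map_algebraMap]
        exact ht
      have h2 := (Ideal.ResidueField.map Q.asIdeal Q' ι hQQ'.symm).injective h1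
      rw [hmemL]
      have hrc := range_map_congr (I₀ := Q'.comap g) (I₁ := (PrimeSpectrum.comap χ Q).asIdeal) hf
        Q.asIdeal χ hf rfl
      rw [← hrc]
      exact ⟨t, h2⟩
    have hall : ∀ (x : C') (hx : x ∈ W), algebraMap W Q.asIdeal.ResidueField ⟨x, hx⟩ ∈ L := by
      intro x hx
      induction hx using Algebra.adjoin_induction with
      | mem x hx =>
        rw [Set.mem_singleton_iff] at hx
        subst hx
        exact hKy
      | algebraMap r =>
        rw [hmemL]
        refine ⟨algebraMap C _ r, ?_⟩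
        rw [Ideal.ResidueField.map_algebraMap]
        rfl
      | add x z hx hz hx' hz' =>
        have : (⟨x + z, W.add_mem hx hz⟩ : W) = ⟨x, hx⟩ + ⟨z, hz⟩ := rfl
        rw [this, map_add]
        exact L.add_mem hx' hz'
      | mul x z hx hz hx' hz' =>
        have : (⟨x * z, W.mul_mem hx hz⟩ : W) = ⟨x, hx⟩ * ⟨z, hz⟩ := rfl
        rw [this, map_mul]
        exact L.mul_mem hx' hz'
    intro z
    obtain ⟨a, s, -, rfl⟩ := IsFractionRing.div_surjective (A := W ⧸ Q.asIdeal) z
    obtain ⟨a', rfl⟩ := Ideal.Quotient.mk_surjective a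
    obtain ⟨s', rfl⟩ := Ideal.Quotient.mk_surjective s
    rw [Ideal.algebraMap_quotient_residueField_mk, Ideal.algebraMap_quotient_residueField_mk]
    have ha := hall a'.1 a'.2
    have hs := hall s'.1 s'.2
    exact (hmemL _).mp (L.div_mem ha hs)
  have hUHχ : UH χ := by
    refine ⟨?_, ?_, ?_⟩
    · intro w
      exact (isIntegral_algHom_iff W.val Subtype.val_injective).mp (hint w.1)
    · intro q
      obtain ⟨Q', hQ'⟩ := hsurj q
      refine ⟨PrimeSpectrum.comap ι Q', ?_⟩
      rw [← hQ']
      rfl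
    · apply FMap_of_rad (R := C) (S := W)
      refine ⟨hinjχ, ?_⟩
      intro q _ x
      refine ⟨0, ?_⟩
      rw [pow_zero, pow_one]
      exact hres ⟨q, inferInstance⟩ x
  have hbij := bijective_of_UH_of_isSeminormalRing χ hUHχ hres hC
  obtain ⟨c, hc⟩ := hbij.2 ⟨y, hyW⟩
  refine ⟨c, ?_⟩
  rw [← hιχ, hc]
  rfl

end main

end Groth.Agent.Lib.Helper14.SNRange
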