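import Groth.Agent.Lib.Helper19ComplDim
import Groth.Agent.Lib.Helper5RLR
import Mathlib

/-!
# DVRs and completion (helper19)
-/

set_option autoImplicit false
universe u

open IsLocalRing

namespace Groth.Agent.Lib.Helper19

/-- A Noetherian local ring is a DVR iff it is regular of dimension one. -/
theorem isDiscreteValuationRing_iff_regular_dim_one (A : Type u) [CommRing A] [IsLocalRing A]
    [IsNoetherianRing A] :
    (∃ _ : IsDomain A, IsDiscreteValuationRing A) ↔
      IsRegularLocalRing A ∧ ringKrullDim A = 1 := by
  constructor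
  · rintro ⟨hd, hdvr⟩
    exact ⟨inferInstance, IsDiscreteValuationRing.ringKrullDim_eq_one A⟩
  · rintro ⟨hreg, hdim⟩
    haveI hd : IsDomain A := Groth.Agent.Lib.Helper5.isDomain_of_isRegularLocalRing A
    refine ⟨hd, ?_⟩
    rw [← IsLocalRing.finrank_CotangentSpace_eq_one_iff]
    have h := (IsRegularLocalRing.iff_finrank_cotangentSpace A).mp hreg
    rw [hdim] at h
    exact_mod_cast h

theorem isDiscreteValuationRing_iff_adicCompletion (A : Type u) [CommRing A] [IsLocalRing A]
    [IsNoetherianRing A] :
    (∃ _ : IsDomain A, IsDiscreteValuationRing A) ↔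
      ∃ _ : IsDomain (AdicCompletion (IsLocalRing.maximalIdeal A) A),
        IsDiscreteValuationRing (AdicCompletion (IsLocalRing.maximalIdeal A) A) := by
  rw [isDiscreteValuationRing_iff_regular_dim_one, isDiscreteValuationRing_iff_regular_dim_one,
    ← isRegularLocalRing_adicCompletion_iff, ringKrullDim_adicCompletion_maximalIdeal]

end Groth.Agent.Lib.Helper19
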