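import Mathlib
import Groth.Agent.Lib.Helper13PtFun
import Groth.Agent.Lib.Helper19ComplDVR
import Groth.Agent.Lib.Helper28ComplCat
import Groth.Agent.Lib.Helper28AnalUnram
import Groth.Agent.Lib.Helper14SNRange
import Groth.Agent.Lib.Helper4TotalFrac
import Groth.Agent.Lib.Helper11SN

/-!
# Pointwise functions on seminormal Noetherian rings (helper13)

`main_sn`: on a seminormal Noetherian ring with finite normalization, every pointwise function
varying algebraically along complete DVRs comes from a unique global section.
-/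

set_option autoImplicit false
set_option linter.unusedSectionVars false
set_option linter.style.haveILetI false
universe u
open CategoryTheory AlgebraicGeometry IsLocalRing W4c1hilbchowinc
open Groth.Agent.Helper13PtFun
open Groth.Agent.Lib.Helper4.TotalFrac

namespace Groth.Agent.Helper13PtFunSN

-- ===== part 1 =====

/-- Values at field-valued points are compatible with field extensions. -/
theorem evalAt_SpecMap_comp {X : Scheme.{u}} (F : PtFun X) {K K' : Type u} [Field K] [Field K']
    (g₀ : Spec (CommRingCat.of K) ⟶ X) (j : K →+* K') :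
    evalAt F (Spec.map (CommRingCat.ofHom j) ≫ g₀) = j (evalAt F g₀) := by
  obtain ⟨s, hs⟩ := isAlgebraic_of_field K (F.pullback g₀)
  have h1 : ∀ (K'' : Type u) [Field K''] (j' : K →+* K''),
      evalAt F (Spec.map (CommRingCat.ofHom j') ≫ g₀) =
        j' ((Scheme.ΓSpecIso (CommRingCat.of K)).hom s) := by
    intro K'' _ j'
    rw [evalAt_comp, ← hs, evalAt_ofSection_Spec]
  have h2 := h1 K (RingHom.id K)
  have h3 : Spec.map (CommRingCat.ofHom (RingHom.id K)) ≫ g₀ = g₀ := by
    rw [CommRingCat.ofHom_id, Spec.map_id, Category.id_comp]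
  rw [h3] at h2
  rw [h1 K' j, h2]
  rfl

/-- The value of a pointwise function on `Spec A` at a field-valued point. -/
noncomputable def E {A : Type u} [CommRing A] (f : PtFun (Spec (CommRingCat.of A))) (K : Type u)
    [Field K] (φ : A →+* K) : K :=
  evalAt f (Spec.map (CommRingCat.ofHom φ))

section
variable {A : Type u} [CommRing A] (f : PtFun (Spec (CommRingCat.of A)))

theorem E_comp (K K' : Type u) [Field K] [Field K'] (φ : A →+* K) (j : K →+* K') :
    E f K' (j.comp φ) = j (E f K φ) := by
  unfold E
  rw [CommRingCat.ofHom_comp, Spec.map_comp, evalAt_SpecMap_comp]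

theorem E_ofSection (s : Γ(Spec (CommRingCat.of A), ⊤)) (K : Type u) [Field K] (φ : A →+* K) :
    E (PtFun.ofSection (Spec (CommRingCat.of A)) s) K φ =
      φ ((Scheme.ΓSpecIso (CommRingCat.of A)).hom s) :=
  evalAt_ofSection_Spec A s φ

theorem E_pullback {N : Type u} [CommRing N] (ν : A →+* N) (K : Type u) [Field K] (ψ : N →+* K) :
    E (f.pullback (Spec.map (CommRingCat.ofHom ν))) K ψ = E f K (ψ.comp ν) := by
  unfold E
  rw [CommRingCat.ofHom_comp, Spec.map_comp, evalAt_comp]

theorem pullback_pullback {X Y Z : Scheme.{u}} (F : PtFun X) (h : Y ⟶ X) (g : Z ⟶ Y) :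
    (F.pullback h).pullback g = F.pullback (g ≫ h) := by
  funext z
  unfold PtFun.pullback
  have := Scheme.residueFieldMap_comp g h z
  rw [this]
  rfl

theorem variesAlongDVR_pullback {X Y : Scheme.{u}} (F : PtFun X) (h : Y ⟶ X)
    (hF : F.VariesAlongDVR) : (F.pullback h).VariesAlongDVR := by
  intro R _ _ _ g
  rw [pullback_pullback]
  exact hF R (g ≫ h)

/-- If the values of `f` at enough field-valued points are those of `a`, then `f` is the function of
`a`. -/
theorem ofSection_eq_of_forall (a : A)
    (h : ∀ (P : Ideal A) [P.IsPrime], ∃ (K : Type u) (_ : Field K) (φ : A →+* K),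
      RingHom.ker φ = P ∧ E f K φ = φ a) :
    PtFun.ofSection (Spec (CommRingCat.of A)) ((Scheme.ΓSpecIso (CommRingCat.of A)).inv a) = f := by
  funext x
  haveI : x.asIdeal.IsPrime := x.isPrime
  obtain ⟨K, _, φ, hker, hEφ⟩ := h x.asIdeal
  have hGc : (Spec.map (CommRingCat.ofHom φ)) (closedPoint K) = x := by
    apply PrimeSpectrum.ext
    change Ideal.comap φ (maximalIdeal K) = x.asIdeal
    rw [IsLocalRing.maximalIdeal_eq_bot, ← RingHom.ker_eq_comap_bot]
    exact hker
  have h1 : evalAt (PtFun.ofSection (Spec (CommRingCat.of A))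
      ((Scheme.ΓSpecIso (CommRingCat.of A)).inv a)) (Spec.map (CommRingCat.ofHom φ)) =
      evalAt f (Spec.map (CommRingCat.ofHom φ)) := by
    rw [evalAt_ofSection_Spec]
    change φ ((Scheme.ΓSpecIso (CommRingCat.of A)).hom
      ((Scheme.ΓSpecIso (CommRingCat.of A)).inv a)) = E f K φ
    rw [hEφ]
    congr 1
    exact congrArg (fun m => m.hom a) (Scheme.ΓSpecIso (CommRingCat.of A)).inv_hom_id
  have h2 := eq_of_evalAt_eq _ _ _ h1
  rw [hGc] at h2
  exact h2

/-- Uniqueness of the section with given pointwise function over a reduced ring. -/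
theorem ofSection_injective [IsReduced A] (b b' : Γ(Spec (CommRingCat.of A), ⊤))
    (h : PtFun.ofSection (Spec (CommRingCat.of A)) b =
      PtFun.ofSection (Spec (CommRingCat.of A)) b') : b = b' := by
  have hzero : ∀ x : Spec (CommRingCat.of A),
      (Spec (CommRingCat.of A)).Γevaluation x (b - b') = 0 := by
    intro x
    rw [map_sub, sub_eq_zero]
    exact congrFun h x
  have hbot : (Spec (CommRingCat.of A)).basicOpen (b - b') = ⊥ := by
    rw [Scheme.basicOpen_eq_bot_iff_forall_evaluation_eq_zero]
    intro x
    exact hzero x.1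
  have := (basicOpen_eq_bot_iff (X := Spec (CommRingCat.of A)) (b - b')).mp hbot
  exact sub_eq_zero.mp this

end

-- ===== part 2 =====

theorem E_of_ofSection_eq {A R : Type u} [CommRing A] [CommRing R]
    (f : PtFun (Spec (CommRingCat.of A))) (φ : A →+* R) (s : Γ(Spec (CommRingCat.of R), ⊤))
    (hs : PtFun.ofSection (Spec (CommRingCat.of R)) s =
      f.pullback (Spec.map (CommRingCat.ofHom φ)))
    (K : Type u) [Field K] (ι : R →+* K) :
    E f K (ι.comp φ) = ι ((Scheme.ΓSpecIso (CommRingCat.of R)).hom s) := by
  rw [← E_pullback, ← hs, E_ofSection]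

/-- An element of an extension `S` of a DVR `R` (local, injective) whose image in `Frac S` comes
from `Frac R` lies in `R`. -/
theorem exists_of_fraction {R S : Type*} [CommRing R] [IsDomain R] [IsDiscreteValuationRing R]
    [CommRing S] [IsDomain S] (c : R →+* S) [IsLocalHom c] (hc : Function.Injective c)
    (K L : Type*) [Field K] [Field L] [Algebra R K] [IsFractionRing R K] [Algebra S L]
    [IsFractionRing S L] (j : K →+* L)
    (hj : ∀ x, j (algebraMap R K x) = algebraMap S L (c x)) (ŝ : S) (k : K)
    (h : algebraMap S L ŝ = j k) : ∃ r, c r = ŝ := by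
  obtain ⟨a, b, hb, rfl⟩ := IsFractionRing.div_surjective (A := R) k
  have hb0 : b ≠ 0 := nonZeroDivisors.ne_zero hb
  have hcb0 : c b ≠ 0 := (map_ne_zero_iff c hc).mpr hb0
  have hLinj : Function.Injective (algebraMap S L) := IsFractionRing.injective S L
  have hLcb : algebraMap S L (c b) ≠ 0 := (map_ne_zero_iff _ hLinj).mpr hcb0
  have h1 : ŝ * c b = c a := by
    apply hLinj
    rw [map_mul, h, map_div₀, hj, hj, div_mul_cancel₀ _ hLcb]
  rcases ValuationRing.dvd_total a b with hab | hba
  · obtain ⟨u, rfl⟩ := hab
    have ha0 : a ≠ 0 := fun h0 => hb0 (by rw [h0, zero_mul])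
    have hca0 : c a ≠ 0 := (map_ne_zero_iff c hc).mpr ha0
    have h2 : c a * (ŝ * c u) = c a * 1 := by
      rw [mul_one]
      calc c a * (ŝ * c u) = ŝ * (c a * c u) := by ring
        _ = c a := by rw [← map_mul]; exact h1
    have h3 : ŝ * c u = 1 := mul_left_cancel₀ hca0 h2
    have hu : IsUnit (c u) := IsUnit.of_mul_eq_one _ (by rw [mul_comm]; exact h3)
    have hu' : IsUnit u := IsUnit.of_map c u hu
    obtain ⟨w, hw⟩ := hu'.exists_right_inv
    refine ⟨w, ?_⟩
    have : c u * c w = 1 := by rw [← map_mul, hw, map_one]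
    calc c w = (ŝ * c u) * c w := by rw [h3, one_mul]
      _ = ŝ * (c u * c w) := by ring
      _ = ŝ := by rw [this, mul_one]
  · obtain ⟨r, rfl⟩ := hba
    refine ⟨r, ?_⟩
    have h2 : c b * ŝ = c b * c r := by
      rw [mul_comm, h1, map_mul]
    exact (mul_left_cancel₀ hcb0 h2).symm

/-- Algebraicity along complete discrete valuation rings implies algebraicity along all discrete
valuation rings. -/
theorem variesAlongDVR_of_complete {X : Scheme.{u}} (F : PtFun X)
    (hF : F.VariesAlongCompleteDVR) : F.VariesAlongDVR := by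
  intro R _ _ _ g
  obtain ⟨hdom, hdvr⟩ := (Groth.Agent.Lib.Helper19.isDiscreteValuationRing_iff_adicCompletion R).mp
    ⟨inferInstance, inferInstance⟩
  haveI := hdom
  haveI := hdvr
  haveI : IsAdicComplete (maximalIdeal (AdicCompletion (maximalIdeal R) R))
      (AdicCompletion (maximalIdeal R) R) :=
    Groth.Agent.Lib.Helper28.isAdicComplete_maximalIdeal_adicCompletion R
  haveI : Module.FaithfullyFlat R (AdicCompletion (maximalIdeal R) R) :=
    Module.FaithfullyFlat.of_flat_of_isLocalHom
  obtain ⟨c', hc'⟩ : ∃ c' : R →+* AdicCompletion (maximalIdeal R) R,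
      c' = algebraMap R (AdicCompletion (maximalIdeal R) R) := ⟨_, rfl⟩
  haveI : IsLocalHom c' := by rw [hc']; infer_instance
  have hc'inj : Function.Injective c' := by
    rw [hc']
    exact FaithfulSMul.algebraMap_injective R (AdicCompletion (maximalIdeal R) R)
  obtain ⟨c, hc⟩ : ∃ c : Spec (CommRingCat.of (AdicCompletion (maximalIdeal R) R)) ⟶
      Spec (CommRingCat.of R), c = Spec.map (CommRingCat.ofHom c') := ⟨_, rfl⟩
  obtain ⟨ŝ, hŝ⟩ := hF (AdicCompletion (maximalIdeal R) R) (c ≫ g)
  have hŝ' : PtFun.ofSection _ ŝ = (F.pullback g).pullback c := by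
    rw [hŝ, pullback_pullback]
  -- the value at the generic point
  have h2 : E (F.pullback g) (FractionRing (AdicCompletion (maximalIdeal R) R))
      ((algebraMap (AdicCompletion (maximalIdeal R) R)
        (FractionRing (AdicCompletion (maximalIdeal R) R))).comp c') =
      algebraMap _ _ ((Scheme.ΓSpecIso (CommRingCat.of (AdicCompletion (maximalIdeal R) R))).hom ŝ) :=
    E_of_ofSection_eq (F.pullback g) c' ŝ (by rw [hŝ', hc]) _ _
  have hinj2 : Function.Injective ((algebraMap (AdicCompletion (maximalIdeal R) R)
      (FractionRing (AdicCompletion (maximalIdeal R) R))).comp c') :=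
    (IsFractionRing.injective _ _).comp hc'inj
  let j : FractionRing R →+* FractionRing (AdicCompletion (maximalIdeal R) R) :=
    IsFractionRing.lift hinj2
  have hj : ∀ x, j (algebraMap R (FractionRing R) x) =
      algebraMap _ _ (c' x) := fun x => IsFractionRing.lift_algebraMap hinj2 x
  have hjcomp : j.comp (algebraMap R (FractionRing R)) =
      (algebraMap (AdicCompletion (maximalIdeal R) R)
        (FractionRing (AdicCompletion (maximalIdeal R) R))).comp c' :=
    RingHom.ext hj
  have h1 := E_comp (F.pullback g) (FractionRing R)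
    (FractionRing (AdicCompletion (maximalIdeal R) R)) (algebraMap R (FractionRing R)) j
  rw [hjcomp, h2] at h1
  obtain ⟨r, hr⟩ := exists_of_fraction c' hc'inj (FractionRing R)
    (FractionRing (AdicCompletion (maximalIdeal R) R)) j hj _ _ h1
  refine ⟨(Scheme.ΓSpecIso (CommRingCat.of R)).inv r, ?_⟩
  funext q
  have hsurj : Function.Surjective c := by
    rw [hc]
    change Function.Surjective (PrimeSpectrum.comap c')
    rw [hc']
    exact PrimeSpectrum.comap_surjective_of_faithfullyFlat (A := R)
      (B := AdicCompletion (maximalIdeal R) R)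
  obtain ⟨q', rfl⟩ := hsurj q
  have e1 := congrFun hŝ' q'
  have hŝr : ŝ = c.appTop ((Scheme.ΓSpecIso (CommRingCat.of R)).inv r) := by
    have h3 : (Scheme.ΓSpecIso (CommRingCat.of (AdicCompletion (maximalIdeal R) R))).inv (c' r) =
        c.appTop ((Scheme.ΓSpecIso (CommRingCat.of R)).inv r) := by
      rw [hc]
      exact congrArg (fun m => m.hom r) (Scheme.ΓSpecIso_inv_naturality (CommRingCat.ofHom c'))
    rw [← h3, hr]
    exact (congrArg (fun m => m.hom ŝ)
      (Scheme.ΓSpecIso (CommRingCat.of (AdicCompletion (maximalIdeal R) R))).hom_inv_id).symm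
  have e2 : PtFun.ofSection _ ŝ q' = c.residueFieldMap q'
      (PtFun.ofSection (Spec (CommRingCat.of R))
        ((Scheme.ΓSpecIso (CommRingCat.of R)).inv r) (c q')) := by
    unfold PtFun.ofSection
    rw [Scheme.Γevaluation_naturality_apply, ← hŝr]
  rw [e2] at e1
  exact (c.residueFieldMap q').hom.injective e1

-- ===== part 3 =====

/-- A field-valued point of a finite product of rings factors through one of the factors. -/
theorem exists_factor_of_pi {ι : Type*} [Fintype ι] [DecidableEq ι] (N : ι → Type*)
    [∀ i, CommRing (N i)] {Ω : Type*} [Field Ω] (χ : (∀ i, N i) →+* Ω) :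
    ∃ (i : ι) (ψ : N i →+* Ω), ∀ x, χ x = ψ (x i) := by
  have hsum : ∑ i, (Pi.single i (1 : N i) : ∀ i, N i) = 1 := Finset.univ_sum_single 1
  have h1 : ∑ i, χ (Pi.single i (1 : N i)) = 1 := by rw [← map_sum, hsum, map_one]
  obtain ⟨i, hi⟩ : ∃ i, χ (Pi.single i (1 : N i)) ≠ 0 := by
    by_contra hno
    push Not at hno
    rw [Finset.sum_eq_zero (fun i _ => hno i)] at h1
    exact zero_ne_one h1
  have hidem : χ (Pi.single i (1 : N i)) * χ (Pi.single i (1 : N i)) = χ (Pi.single i (1 : N i)) := by
    rw [← map_mul, ← Pi.single_mul, one_mul]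
  have hone : χ (Pi.single i (1 : N i)) = 1 := by
    have := mul_left_cancel₀ hi (hidem.trans (mul_one _).symm)
    exact this
  let ψ : N i →+* Ω :=
    { toFun := fun n => χ (Pi.single i n)
      map_one' := hone
      map_mul' := fun a b => by rw [← map_mul, ← Pi.single_mul]
      map_zero' := by rw [Pi.single_zero, map_zero]
      map_add' := fun a b => by rw [← map_add, ← Pi.single_add] }
  refine ⟨i, ψ, fun x => ?_⟩
  change χ x = χ (Pi.single i (x i))
  have h2 : x * Pi.single i (1 : N i) = Pi.single i (x i) := by
    funext k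
    by_cases hk : k = i
    · subst hk
      simp
    · simp [Pi.single_eq_of_ne hk]
  rw [← h2, map_mul, hone, mul_one]

open Groth.Agent.Lib.Helper20.AWN (UH) in
/-- Abstract descent of a family of elements of finitely many integral extensions of a seminormal
ring, whose values at field-valued points only depend on the induced points of `A`. -/
theorem exists_of_seminormal {A : Type u} [CommRing A] (hA : HTop.IsSeminormalRing A)
    {ι : Type u} [Fintype ι] [DecidableEq ι] (N : ι → Type u) [∀ i, CommRing (N i)]
    [∀ i, Algebra A (N i)] [∀ i, Algebra.IsIntegral A (N i)] [∀ i, IsReduced (N i)]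
    (hinj : Function.Injective (algebraMap A (∀ i, N i)))
    (E : ∀ (K : Type u) [Field K], (A →+* K) → K)
    (hE1 : ∀ (K K' : Type u) [Field K] [Field K'] (φ : A →+* K) (j : K →+* K'),
      E K' (j.comp φ) = j (E K φ))
    (b : ∀ i, N i)
    (hb : ∀ i (K : Type u) [Field K] (ψ : N i →+* K),
      ψ (b i) = E K (ψ.comp (algebraMap A (N i)))) :
    ∃ a : A, ∀ i, algebraMap A (N i) a = b i := by
  haveI hintPi : Algebra.IsIntegral A (∀ i, N i) :=
    ⟨fun x => Groth.Agent.Lib.Helper4.TotalFrac.isIntegral_pi N x
      (fun i => Algebra.IsIntegral.isIntegral (x i))⟩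
  let W : Subalgebra A (∀ i, N i) := Algebra.adjoin A {b}
  have hbW : b ∈ W := Algebra.subset_adjoin rfl
  let bW : W := ⟨b, hbW⟩
  let g : A →+* W := algebraMap A W
  haveI : IsReduced (∀ i, N i) := inferInstance
  haveI : IsReduced W := isReduced_of_injective W.val Subtype.val_injective
  haveI : Algebra.IsIntegral W (∀ i, N i) := Algebra.IsIntegral.tower_top (R := A)
  haveI : Algebra.IsIntegral A W :=
    Algebra.IsIntegral.of_injective W.val Subtype.val_injective
  have hginj : Function.Injective g := by
    intro x y hxy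
    apply hinj
    exact congrArg (fun w : W => (w : ∀ i, N i)) hxy
  -- the key fact
  have KF : ∀ (K : Type u) [Field K] (χ : W →+* K), χ bW = E K (χ.comp g) := by
    intro K _ χ
    set q : Ideal W := RingHom.ker χ with hq
    haveI : q.IsPrime := RingHom.ker_isPrime χ
    obtain ⟨Q, -, hQp, hQq⟩ := Ideal.exists_ideal_over_prime_of_isIntegral q
      (⊥ : Ideal (∀ i, N i)) (by
        rw [Ideal.comap_bot_of_injective _ Subtype.val_injective]
        exact bot_le)
    haveI := hQp
    obtain ⟨i, ψ, hψ⟩ := exists_factor_of_pi N (algebraMap (∀ i, N i) Q.ResidueField)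
    let χ₀ : W →+* q.ResidueField := algebraMap W q.ResidueField
    have hunits : q.primeCompl ≤ (IsUnit.submonoid K).comap χ := by
      intro w hw
      rw [Submonoid.mem_comap, IsUnit.mem_submonoid_iff, isUnit_iff_ne_zero]
      exact hw
    let j₁ : q.ResidueField →+* K := Ideal.ResidueField.lift q χ le_rfl hunits
    have hj₁ : ∀ w, j₁ (χ₀ w) = χ w := fun w => Ideal.ResidueField.lift_algebraMap q χ le_rfl hunits w
    let j₂ : q.ResidueField →+* Q.ResidueField :=
      Ideal.ResidueField.map q Q (algebraMap W (∀ i, N i)) hQq.symm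
    have hj₂ : ∀ w, j₂ (χ₀ w) = algebraMap (∀ i, N i) Q.ResidueField (algebraMap W (∀ i, N i) w) :=
      fun w => Ideal.ResidueField.map_algebraMap q Q (algebraMap W (∀ i, N i)) hQq.symm w
    have h1 : j₂ (χ₀ bW) = j₂ (E q.ResidueField (χ₀.comp g)) := by
      rw [hj₂, ← hE1]
      change algebraMap (∀ i, N i) Q.ResidueField b = _
      rw [hψ, hb i]
      congr 1
      ext a
      change ψ (algebraMap A (N i) a) = j₂ (χ₀ (g a))
      rw [hj₂, hψ]
      rfl
    have h2 : χ₀ bW = E q.ResidueField (χ₀.comp g) := j₂.injective h1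
    have h3 : χ = j₁.comp χ₀ := RingHom.ext fun w => (hj₁ w).symm
    rw [h3, RingHom.comp_assoc, hE1, ← h2]
    rfl
  -- `g` is a universal homeomorphism on spectra
  have hUH : UH g := by
    refine ⟨algebraMap_isIntegral_iff.mpr inferInstance, ?_, ?_⟩
    · intro P
      haveI := P.isPrime
      obtain ⟨Q, -, hQp, hQ⟩ := Ideal.exists_ideal_over_prime_of_isIntegral P.asIdeal
        (⊥ : Ideal W) (by
          rw [Ideal.comap_bot_of_injective _ hginj]
          exact bot_le)
      exact ⟨⟨Q, hQp⟩, PrimeSpectrum.ext hQ⟩
    · intro K _ χ₁ χ₂ hcomp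
      have hbb : χ₁ bW = χ₂ bW := by rw [KF K χ₁, KF K χ₂, hcomp]
      ext ⟨x, hx⟩
      induction hx using Algebra.adjoin_induction with
      | mem y hy =>
        obtain rfl : y = b := hy
        exact hbb
      | algebraMap r => exact congrArg (fun m : A →+* K => m r) hcomp
      | add x y hx hy ihx ihy =>
        have : (⟨x + y, W.add_mem hx hy⟩ : W) = ⟨x, hx⟩ + ⟨y, hy⟩ := rfl
        rw [this, map_add, map_add, ihx, ihy]
      | mul x y hx hy ihx ihy =>
        have : (⟨x * y, W.mul_mem hx hy⟩ : W) = ⟨x, hx⟩ * ⟨y, hy⟩ := rfl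
        rw [this, map_mul, map_mul, ihx, ihy]
  -- the residue condition
  have hres : ∀ Q' : PrimeSpectrum W, algebraMap W Q'.asIdeal.ResidueField bW ∈
      Set.range (Ideal.ResidueField.map (PrimeSpectrum.comap g Q').asIdeal Q'.asIdeal g rfl) := by
    intro Q'
    have h1 := KF Q'.asIdeal.ResidueField (algebraMap W Q'.asIdeal.ResidueField)
    have h2 : (algebraMap W Q'.asIdeal.ResidueField).comp g =
        (Ideal.ResidueField.map (PrimeSpectrum.comap g Q').asIdeal Q'.asIdeal g rfl).comp
          (algebraMap A (PrimeSpectrum.comap g Q').asIdeal.ResidueField) := by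
      ext a
      exact (Ideal.ResidueField.map_algebraMap _ _ g rfl a).symm
    rw [h1, h2, hE1]
    exact ⟨_, rfl⟩
  obtain ⟨a, ha⟩ := Groth.Agent.Lib.Helper14.SNRange.mem_range_of_residue g hUH hA bW hres
  refine ⟨a, fun i => ?_⟩
  have : (algebraMap A (∀ i, N i) a) = b := congrArg (fun w : W => (w : ∀ i, N i)) ha
  exact congrFun this i

-- ===== part 4 =====

theorem main_sn (A : Type u) [CommRing A] [IsNoetherianRing A] (hA : HTop.IsSeminormalRing A)
    (hfin : Module.Finite A (integralClosure A (FractionRing A)))
    (f : PtFun (Spec (CommRingCat.of A))) (hf : f.VariesAlongCompleteDVR) :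
    ∃! a : Γ(Spec (CommRingCat.of A), ⊤), PtFun.ofSection (Spec (CommRingCat.of A)) a = f := by
  classical
  haveI : IsReduced A := Groth.Agent.Lib.Helper11.isReduced_of_isSeminormalRing hA
  have hfD : f.VariesAlongDVR := variesAlongDVR_of_complete f hf
  haveI : Finite (MaximalSpectrum (FractionRing A)) := inferInstance
  letI : Fintype (MaximalSpectrum (FractionRing A)) := Fintype.ofFinite _
  -- the factors are finite over `A`
  haveI hfinPi : Module.Finite A
      (∀ M : MaximalSpectrum (FractionRing A), integralClosure A (resField A M)) :=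
    Module.Finite.equiv (normalizationEquivPi A).toLinearEquiv
  haveI hfinN : ∀ M : MaximalSpectrum (FractionRing A),
      Module.Finite A (integralClosure A (resField A M)) := fun M =>
    Module.Finite.of_surjective
      (LinearMap.proj (R := A) (φ := fun M : MaximalSpectrum (FractionRing A) =>
        integralClosure A (resField A M)) M) (Function.surjective_eval M)
  haveI hNN : ∀ M : MaximalSpectrum (FractionRing A),
      IsNoetherianRing (integralClosure A (resField A M)) := fun M =>
    IsNoetherianRing.of_finite A _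
  haveI hIC : ∀ M : MaximalSpectrum (FractionRing A),
      IsIntegrallyClosed (integralClosure A (resField A M)) := fun M =>
    isIntegrallyClosed_integralClosure_field A (resField A M)
  -- sections on the factors
  have hb : ∀ M : MaximalSpectrum (FractionRing A), ∃ b : integralClosure A (resField A M),
      ∀ (K : Type u) [Field K] (ψ : integralClosure A (resField A M) →+* K),
        ψ b = E f K (ψ.comp (algebraMap A (integralClosure A (resField A M)))) := by
    intro M
    obtain ⟨b', hb', -⟩ := Groth.Agent.Helper13PtFun.main (integralClosure A (resField A M))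
      (f.pullback (Spec.map (CommRingCat.ofHom
        (algebraMap A (integralClosure A (resField A M))))))
      (variesAlongDVR_pullback f _ hfD)
    refine ⟨(Scheme.ΓSpecIso (CommRingCat.of (integralClosure A (resField A M)))).hom b',
      fun K _ ψ => ?_⟩
    rw [← E_pullback, ← hb', E_ofSection]
  choose b hb using hb
  -- injectivity of `A → ∏`
  have hinj : Function.Injective (algebraMap A
      (∀ M : MaximalSpectrum (FractionRing A), integralClosure A (resField A M))) := by
    rw [injective_iff_map_eq_zero]
    intro a ha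
    have h1 : ∀ M : MaximalSpectrum (FractionRing A), algebraMap A (resField A M) a = 0 := by
      intro M
      have := congrFun ha M
      exact congrArg Subtype.val this
    have h2 : IsArtinianRing.equivPi (FractionRing A) (algebraMap A (FractionRing A) a) = 0 := by
      funext M
      rw [IsArtinianRing.equivPi_apply]
      exact h1 M
    have h3 : algebraMap A (FractionRing A) a = 0 :=
      (IsArtinianRing.equivPi (FractionRing A)).injective (by rw [h2, map_zero])
    exact (IsLocalization.injective (FractionRing A) (le_refl (nonZeroDivisors A)))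
      (by rw [h3, map_zero])
  obtain ⟨a, ha⟩ := exists_of_seminormal hA
    (fun M : MaximalSpectrum (FractionRing A) => integralClosure A (resField A M)) hinj
    (fun K _ φ => E f K φ) (fun K K' _ _ φ j => E_comp f K K' φ j) b hb
  have hex : PtFun.ofSection (Spec (CommRingCat.of A))
      ((Scheme.ΓSpecIso (CommRingCat.of A)).inv a) = f := by
    apply ofSection_eq_of_forall
    intro P _
    obtain ⟨M, hMP⟩ := exists_maximalSpectrum_comap_le A P
    have hker : RingHom.ker (algebraMap A (integralClosure A (resField A M))) ≤ P := by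
      intro x hx
      apply hMP
      rw [RingHom.mem_ker] at hx
      have h1 : algebraMap A (resField A M) x = 0 := congrArg Subtype.val hx
      rw [Ideal.mem_comap]
      rw [algebraMap_resField] at h1
      exact Ideal.Quotient.eq_zero_iff_mem.mp h1
    obtain ⟨Q, -, hQp, hQ⟩ := Ideal.exists_ideal_over_prime_of_isIntegral P
      (⊥ : Ideal (integralClosure A (resField A M))) (by
        rw [← RingHom.ker_eq_comap_bot]
        exact hker)
    haveI := hQp
    refine ⟨Q.ResidueField, inferInstance,
      (algebraMap (integralClosure A (resField A M)) Q.ResidueField).comp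
        (algebraMap A (integralClosure A (resField A M))), ?_, ?_⟩
    · rw [← RingHom.comap_ker, Ideal.ker_algebraMap_residueField]
      exact hQ
    · rw [← hb M, ← ha M]
      rfl
  exact ⟨_, hex, fun b' hb' => ofSection_injective _ _ (hb'.trans hex.symm)⟩

end Groth.Agent.Helper13PtFunSN
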