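import Mathlib
import Groth.Prelude.Def_GrSyz
import Groth.Agent.Lib.Helper13Hilb
import Groth.Agent.Lib.Helper13HB
import Groth.Agent.Lib.Helper13FreeRes

/-!
# Points in projective space: the homogeneous vanishing ideal
-/

set_option autoImplicit false
universe u
open MvPolynomial

namespace Groth.Agent.Helper13Pts

open Groth.Agent.Helper13Hilb

variable {k : Type u} [Field k] {σ : Type} [Fintype σ] [DecidableEq σ]

/-- evaluation along the line through `p`: `f ↦ f(t p) ∈ k[t]`. -/
noncomputable def ev (p : σ → k) : MvPolynomial σ k →ₐ[k] Polynomial k :=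
  MvPolynomial.aeval (fun i => Polynomial.C (p i) * Polynomial.X)

theorem ev_X (p : σ → k) (i : σ) : ev p (X i) = Polynomial.C (p i) * Polynomial.X := by
  simp [ev]

theorem ev_monomial (p : σ → k) (m : σ →₀ ℕ) (a : k) :
    ev p (monomial m a) = Polynomial.C (a * m.prod (fun i e => p i ^ e)) * Polynomial.X ^ m.degree := by
  unfold ev
  rw [MvPolynomial.aeval_monomial]
  simp only [mul_pow, Finsupp.prod]
  rw [Finset.prod_mul_distrib, Finset.prod_pow_eq_pow_sum, Finsupp.degree_apply]
  rw [map_mul, map_prod]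
  simp only [map_pow]
  rw [mul_assoc]
  rfl

theorem coeff_ev (p : σ → k) (f : MvPolynomial σ k) (j : ℕ) :
    (ev p f).coeff j = MvPolynomial.eval p (homogeneousComponent j f) := by
  induction f using MvPolynomial.induction_on' with
  | monomial m a =>
    rw [ev_monomial, Polynomial.coeff_C_mul, Polynomial.coeff_X_pow]
    by_cases h : m.degree = j
    · rw [MvPolynomial.homogeneousComponent_of_mem (n := m.degree)
        (MvPolynomial.isHomogeneous_monomial a rfl), if_pos h.symm, if_pos h.symm,
        MvPolynomial.eval_monomial]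
      simp
    · rw [MvPolynomial.homogeneousComponent_of_mem (n := m.degree)
        (MvPolynomial.isHomogeneous_monomial a rfl), if_neg (fun h' => h h'.symm),
        if_neg (fun h' => h h'.symm)]
      simp
  | add f g hf hg =>
    rw [map_add, Polynomial.coeff_add, hf, hg, map_add, map_add]

variable (Z : Finset (σ → k)) (I : Ideal (MvPolynomial σ k))
  (hI : ∀ f : MvPolynomial σ k, f ∈ I ↔
      ∀ p ∈ Z, ∀ j : ℕ, MvPolynomial.eval p (MvPolynomial.homogeneousComponent j f) = 0)

include hI in
theorem mem_iff_ev (f : MvPolynomial σ k) : f ∈ I ↔ ∀ p ∈ Z, ev p f = 0 := by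
  rw [hI]
  constructor
  · intro h p hp
    ext j
    rw [coeff_ev, h p hp j, Polynomial.coeff_zero]
  · intro h p hp j
    rw [← coeff_ev, h p hp, Polynomial.coeff_zero]


omit [DecidableEq σ] in
theorem decompose_eq_homogeneousComponent (f : MvPolynomial σ k) (e : ℕ) :
    (DirectSum.decompose (GrSyz.stdGr k σ) f (e : ℤ) : MvPolynomial σ k) =
      homogeneousComponent e f := by
  classical
  conv_lhs => rw [← MvPolynomial.sum_homogeneousComponent f]
  rw [DirectSum.decompose_sum, DFinsupp.finsetSum_apply, AddSubmonoidClass.coe_finsetSum]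
  by_cases he : e ∈ Finset.range (f.totalDegree + 1)
  · rw [Finset.sum_eq_single_of_mem e he]
    · exact DirectSum.decompose_of_mem_same _
        (by rw [Groth.Agent.Helper13HB.stdGr_natCast]; exact homogeneousComponent_mem e f)
    · intro j _ hj
      exact DirectSum.decompose_of_mem_ne _
        (by rw [Groth.Agent.Helper13HB.stdGr_natCast]; exact homogeneousComponent_mem j f)
        (by exact_mod_cast hj)
  · rw [Finset.sum_eq_zero]
    · rw [homogeneousComponent_eq_zero]
      simp only [Finset.mem_range, not_lt] at he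
      omega
    · intro j hj
      have hne : j ≠ e := fun h => he (h ▸ hj)
      exact DirectSum.decompose_of_mem_ne _
        (by rw [Groth.Agent.Helper13HB.stdGr_natCast]; exact homogeneousComponent_mem j f)
        (by exact_mod_cast hne)

include hI in
theorem isHomogeneous : I.IsHomogeneous (GrSyz.stdGr k σ) := by
  intro n f hf
  by_cases hn : n < 0
  · have h0 : (DirectSum.decompose (GrSyz.stdGr k σ) f n : MvPolynomial σ k) ∈
        GrSyz.stdGr k σ n := SetLike.coe_mem _
    have h1 : (DirectSum.decompose (GrSyz.stdGr k σ) f n : MvPolynomial σ k) ∈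
        (⊥ : Submodule k (MvPolynomial σ k)) := Groth.Agent.Helper13HB.stdGr_neg (k := k) (σ := σ) n hn ▸ h0
    rw [Submodule.mem_bot] at h1
    rw [h1]
    exact I.zero_mem
  · obtain ⟨e, rfl⟩ := Int.eq_ofNat_of_zero_le (not_lt.1 hn)
    have hmem : (DirectSum.decompose (GrSyz.stdGr k σ) f (e : ℤ) : MvPolynomial σ k) ∈
        GrSyz.stdGr k σ (e : ℤ) := SetLike.coe_mem _
    rw [Groth.Agent.Helper13HB.mem_I_iff_of_homogeneous Z I hI e _ hmem]
    intro p hp
    rw [decompose_eq_homogeneousComponent]
    exact (hI f).1 hf p hp e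

omit [DecidableEq σ] in
theorem X_mem_irrel (i : σ) :
    (X i : MvPolynomial σ k) ∈ (GrSyz.irrel (GrSyz.stdGr k σ)).toIdeal := by
  rw [Groth.Agent.Helper13FreeRes.irrel_stdGr_eq_ker, RingHom.mem_ker]
  simp

include hI in
/-- there is an element of the irrelevant ideal which is a nonzerodivisor modulo `I`. -/
theorem exists_nzd (hZ : ∀ p ∈ Z, p ≠ 0) :
    ∃ h ∈ (GrSyz.irrel (GrSyz.stdGr k σ)).toIdeal, ∀ g, h * g ∈ I → g ∈ I := by
  classical
  by_contra hcon
  push Not at hcon
  have hsub : (((GrSyz.irrel (GrSyz.stdGr k σ)).toIdeal : Ideal (MvPolynomial σ k)) :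
      Set (MvPolynomial σ k)) ⊆ ⋃ p ∈ (Z : Set (σ → k)),
        ((RingHom.ker (ev p).toRingHom : Ideal (MvPolynomial σ k)) : Set (MvPolynomial σ k)) := by
    intro h hh
    by_contra hnot
    simp only [Set.mem_iUnion, not_exists] at hnot
    obtain ⟨g, hg, hgI⟩ := hcon h hh
    apply hgI
    rw [mem_iff_ev Z I hI] at hg ⊢
    intro p hp
    have h1 := hg p hp
    rw [map_mul] at h1
    rcases mul_eq_zero.1 h1 with h2 | h2
    · exact absurd h2 (hnot p (Finset.mem_coe.2 hp))
    · exact h2
  rw [Ideal.subset_union_prime (Classical.arbitrary _) (Classical.arbitrary _)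
    (fun p _ _ _ => RingHom.ker_isPrime _)] at hsub
  obtain ⟨p, hp, hle⟩ := hsub
  have hp0 := hZ p hp
  obtain ⟨i, hi⟩ : ∃ i, p i ≠ 0 := by
    by_contra h
    push Not at h
    exact hp0 (funext h)
  have := hle (X_mem_irrel i)
  rw [RingHom.mem_ker] at this
  have h2 : ev p (X i) = 0 := this
  rw [ev_X] at h2
  have := congrArg (fun q => Polynomial.coeff q 1) h2
  simp at this
  exact hi this

end Groth.Agent.Helper13Pts
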