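import Mathlib
import Groth.Prelude.Def_GrSyz

/-!
# Permuting the chosen bases of a graded free resolution; sorting the degrees
-/

set_option autoImplicit false
universe u
open CategoryTheory

namespace Groth.Agent.Helper13Reindex

section lin

variable {R : Type u} [CommRing R]

theorem lc_comp {M : Type*} [AddCommGroup M] [Module R M] {n : Type*} [Fintype n]
    (g : n → M) (e : n ≃ n) (v : n → R) :
    Fintype.linearCombination R (g ∘ e) v = Fintype.linearCombination R g (v ∘ e.symm) := by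
  rw [Fintype.linearCombination_apply, Fintype.linearCombination_apply]
  refine Fintype.sum_equiv e _ _ (fun b => ?_)
  simp

theorem mem_range_submatrix {m n : Type*} [Fintype m] [Fintype n]
    (D : Matrix m n R) (e₁ : m ≃ m) (e₂ : n ≃ n) (v : m → R) :
    v ∈ LinearMap.range (Matrix.mulVecLin (D.submatrix e₁ e₂)) ↔
      v ∘ e₁.symm ∈ LinearMap.range (Matrix.mulVecLin D) := by
  constructor
  · rintro ⟨w, rfl⟩
    refine ⟨w ∘ e₂.symm, ?_⟩
    rw [Matrix.mulVecLin_apply, Matrix.mulVecLin_apply, Matrix.submatrix_mulVec_equiv]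
    funext a
    simp
  · rintro ⟨w, hw⟩
    refine ⟨w ∘ e₂, ?_⟩
    rw [Matrix.mulVecLin_apply] at hw ⊢
    rw [Matrix.submatrix_mulVec_equiv]
    have : (w ∘ e₂) ∘ e₂.symm = w := by funext a; simp
    rw [this, hw]
    funext a
    simp

theorem mem_ker_submatrix {m n : Type*} [Fintype m] [Fintype n]
    (D : Matrix m n R) (e₁ : m ≃ m) (e₂ : n ≃ n) (v : n → R) :
    v ∈ LinearMap.ker (Matrix.mulVecLin (D.submatrix e₁ e₂)) ↔
      v ∘ e₂.symm ∈ LinearMap.ker (Matrix.mulVecLin D) := by
  rw [LinearMap.mem_ker, LinearMap.mem_ker, Matrix.mulVecLin_apply, Matrix.mulVecLin_apply,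
    Matrix.submatrix_mulVec_equiv]
  constructor
  · intro h
    funext a
    have := congrFun h (e₁.symm a)
    simpa using this
  · intro h
    rw [h]
    rfl

end lin

variable {R : Type u} [CommRing R] {σ' : Type u} [SetLike σ' R]
  {𝒜 : ℤ → σ'} {M : Type u} [AddCommGroup M] [Module R M] {τ : Type u} [SetLike τ M]
  [AddSubgroupClass τ M] {ℳ : ℤ → τ} [DirectSum.Decomposition ℳ] [SetLike.GradedSMul 𝒜 ℳ]
  (F : GrSyz.FreeRes 𝒜 ℳ) (e : ∀ i, Equiv.Perm (Fin (F.rk i)))

/-- the resolution with permuted bases. -/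
def reindex : GrSyz.FreeRes 𝒜 ℳ where
  rk := F.rk
  deg i b := F.deg i (e i b)
  d i := (F.d i).submatrix (e i) (e (i + 1))
  aug b := F.aug (e 0 b)
  d_mem i a b := F.d_mem i (e i a) (e (i + 1) b)
  aug_mem b := F.aug_mem (e 0 b)
  aug_surjective := by
    intro m
    obtain ⟨v, hv⟩ := F.aug_surjective m
    refine ⟨v ∘ e 0, ?_⟩
    have h := lc_comp (R := R) F.aug (e 0) (v ∘ e 0)
    have h2 : (v ∘ e 0) ∘ (e 0).symm = v := by funext a; simp
    rw [h2] at h
    exact h.trans hv
  exact_zero := by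
    ext v
    rw [mem_range_submatrix, ← F.exact_zero, LinearMap.mem_ker, LinearMap.mem_ker]
    have h := lc_comp (R := R) F.aug (e 0) v
    exact Eq.congr_left h
  exact_succ i := by
    ext v
    rw [mem_ker_submatrix, mem_range_submatrix, F.exact_succ i]

@[simp] theorem reindex_rk (i : ℕ) : (reindex F e).rk i = F.rk i := rfl

theorem reindex_deg (i : ℕ) (b : Fin (F.rk i)) : (reindex F e).deg i b = F.deg i (e i b) := rfl

theorem reindex_isMinimal (𝔪 : Ideal R) (hF : F.IsMinimal 𝔪) : (reindex F e).IsMinimal 𝔪 :=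
  fun i a b => hF i (e i a) (e (i + 1) b)

theorem reindex_hasLengthLE (n : ℕ) (hF : F.HasLengthLE n) : (reindex F e).HasLengthLE n :=
  fun i hi => hF i hi

/-- the resolution with all bases sorted by non-increasing degree. -/
noncomputable def sorted : GrSyz.FreeRes 𝒜 ℳ :=
  reindex F (fun i => Tuple.sort (fun b => - F.deg i b))

@[simp] theorem sorted_rk (i : ℕ) : (sorted F).rk i = F.rk i := rfl

theorem sorted_isMinimal (𝔪 : Ideal R) (hF : F.IsMinimal 𝔪) : (sorted F).IsMinimal 𝔪 :=
  reindex_isMinimal F _ 𝔪 hF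

theorem sorted_hasLengthLE (n : ℕ) (hF : F.HasLengthLE n) : (sorted F).HasLengthLE n :=
  reindex_hasLengthLE F _ n hF

theorem sorted_antitone (i : ℕ) (b b' : Fin ((sorted F).rk i)) (h : b ≤ b') :
    (sorted F).deg i b' ≤ (sorted F).deg i b := by
  have hm := Tuple.monotone_sort (fun b => - F.deg i b) h
  simp only [Function.comp_apply, neg_le_neg_iff] at hm
  exact hm

end Groth.Agent.Helper13Reindex
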