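import Mathlib
import Groth.Prelude.Def_GrSyz
import Groth.Agent.Lib.Helper13Tor
import Groth.Agent.Lib.Helper13FreeRes

/-!
# Hilbert's syzygy theorem: `Tor_i^S(k, M) = 0` for `i > n` over `S = k[x_1..x_n]`
-/

set_option autoImplicit false
universe u
open MvPolynomial CategoryTheory

namespace Groth.Agent.Helper13Syzygy

variable (k : Type u) [Field k] (n : ℕ)

/-- the ideal generated by the first `j` variables. -/
noncomputable def I (j : ℕ) : Ideal (MvPolynomial (Fin n) k) :=
  Ideal.span {p | ∃ l : Fin n, (l : ℕ) < j ∧ p = X l}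

/-- the endomorphism killing the first `j` variables. -/
noncomputable def φ (j : ℕ) : MvPolynomial (Fin n) k →ₐ[k] MvPolynomial (Fin n) k :=
  MvPolynomial.aeval (fun l : Fin n => if (l : ℕ) < j then 0 else X l)

theorem φ_X (j : ℕ) (l : Fin n) : φ k n j (X l) = if (l : ℕ) < j then 0 else X l := by
  simp [φ]

theorem X_mem_I (j : ℕ) (l : Fin n) (hl : (l : ℕ) < j) : (X l : MvPolynomial (Fin n) k) ∈ I k n j :=
  Ideal.subset_span ⟨l, hl, rfl⟩

theorem sub_φ_mem (j : ℕ) (p : MvPolynomial (Fin n) k) : p - φ k n j p ∈ I k n j := by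
  induction p using MvPolynomial.induction_on with
  | C a =>
    have : φ k n j (C a) = C a := by simp [φ]
    rw [this, sub_self]
    exact Ideal.zero_mem _
  | add p q hp hq =>
    rw [map_add]
    have : p + q - (φ k n j p + φ k n j q) = (p - φ k n j p) + (q - φ k n j q) := by ring
    rw [this]
    exact Ideal.add_mem _ hp hq
  | mul_X p l hp =>
    rw [map_mul]
    have : p * X l - φ k n j p * φ k n j (X l) =
        (p - φ k n j p) * X l + φ k n j p * (X l - φ k n j (X l)) := by ring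
    rw [this]
    refine Ideal.add_mem _ (Ideal.mul_mem_right _ _ hp) (Ideal.mul_mem_left _ _ ?_)
    rw [φ_X]
    split_ifs with h
    · rw [sub_zero]; exact X_mem_I k n j l h
    · rw [sub_self]; exact Ideal.zero_mem _

theorem ker_φ (j : ℕ) : RingHom.ker (φ k n j) = I k n j := by
  apply le_antisymm
  · intro p hp
    have h := sub_φ_mem k n j p
    rw [RingHom.mem_ker] at hp
    have hp' : φ k n j p = 0 := hp
    rwa [hp', sub_zero] at h
  · unfold I
    rw [Ideal.span_le]
    rintro _ ⟨l, hl, rfl⟩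
    rw [SetLike.mem_coe, RingHom.mem_ker]
    show φ k n j (X l) = 0
    rw [φ_X, if_pos hl]

theorem mem_I_of_X_mul_mem (j : ℕ) (hj : j < n) (p : MvPolynomial (Fin n) k)
    (h : X ⟨j, hj⟩ * p ∈ I k n j) : p ∈ I k n j := by
  rw [← ker_φ, RingHom.mem_ker] at h ⊢
  have h' : φ k n j (X ⟨j, hj⟩ * p) = 0 := h
  rw [map_mul, φ_X, if_neg (lt_irrefl j)] at h'
  rcases mul_eq_zero.1 h' with h0 | h0
  · exact absurd h0 (MvPolynomial.X_ne_zero _)
  · exact h0

theorem I_succ (j : ℕ) (hj : j < n) :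
    I k n (j + 1) = I k n j ⊔ Ideal.span {(X ⟨j, hj⟩ : MvPolynomial (Fin n) k)} := by
  unfold I
  rw [← Ideal.span_union]
  congr 1
  ext p
  simp only [Set.mem_ofPred_eq, Set.mem_union, Set.mem_singleton_iff]
  constructor
  · rintro ⟨l, hl, rfl⟩
    by_cases h : (l : ℕ) < j
    · exact Or.inl ⟨l, h, rfl⟩
    · right
      have : l = ⟨j, hj⟩ := Fin.ext (by simp only; omega)
      rw [this]
  · rintro (⟨l, hl, rfl⟩ | rfl)
    · exact ⟨l, by omega, rfl⟩
    · exact ⟨⟨j, hj⟩, by simp, rfl⟩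

theorem I_mono (j : ℕ) : I k n j ≤ I k n (j + 1) := by
  unfold I
  apply Ideal.span_mono
  rintro _ ⟨l, hl, rfl⟩
  exact ⟨l, by omega, rfl⟩

theorem I_zero : I k n 0 = ⊥ := by
  unfold I
  rw [Ideal.span_eq_bot]
  rintro _ ⟨l, hl, rfl⟩
  omega

theorem I_top_eq_irrel :
    I k n n = (GrSyz.irrel (GrSyz.stdGr k (Fin n))).toIdeal := by
  rw [Groth.Agent.Helper13FreeRes.irrel_stdGr_eq_ker, ← ker_φ]
  ext p
  rw [RingHom.mem_ker, RingHom.mem_ker]
  have h : φ k n n p = C (constantCoeff p) := by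
    have : (fun l : Fin n => if (l : ℕ) < n then (0 : MvPolynomial (Fin n) k) else X l) = 0 := by
      funext l
      simp [l.2]
    unfold φ
    rw [this, MvPolynomial.aeval_zero]
    rfl
  show φ k n n p = 0 ↔ _
  rw [h]
  constructor
  · intro h0
    exact (MvPolynomial.C_injective (Fin n) k) (h0.trans (map_zero _).symm)
  · intro h0
    rw [h0, map_zero]

section ses

open Groth.Agent.Helper13Tor

variable {k n}

/-- multiplication by `x_j` on `S/I_j`. -/
noncomputable def mulX (j : ℕ) (hj : j < n) :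
    (MvPolynomial (Fin n) k ⧸ I k n j) →ₗ[MvPolynomial (Fin n) k]
      (MvPolynomial (Fin n) k ⧸ I k n j) :=
  LinearMap.lsmul (MvPolynomial (Fin n) k) _ (X ⟨j, hj⟩)

/-- the projection `S/I_j → S/I_{j+1}`. -/
noncomputable def projQ (j : ℕ) :
    (MvPolynomial (Fin n) k ⧸ I k n j) →ₗ[MvPolynomial (Fin n) k]
      (MvPolynomial (Fin n) k ⧸ I k n (j + 1)) :=
  Submodule.mapQ (I k n j) (I k n (j + 1)) LinearMap.id (I_mono k n j)

theorem mulX_injective (j : ℕ) (hj : j < n) : Function.Injective (mulX (k := k) j hj) := by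
  rw [← LinearMap.ker_eq_bot, LinearMap.ker_eq_bot']
  intro y hy
  obtain ⟨p, rfl⟩ := Submodule.Quotient.mk_surjective _ y
  have h1 : (Submodule.Quotient.mk (X ⟨j, hj⟩ * p) : MvPolynomial (Fin n) k ⧸ I k n j) = 0 := hy
  rw [Submodule.Quotient.mk_eq_zero] at h1 ⊢
  exact mem_I_of_X_mul_mem k n j hj p h1

theorem projQ_surjective (j : ℕ) : Function.Surjective (projQ (k := k) (n := n) j) := by
  intro y
  obtain ⟨p, rfl⟩ := Submodule.Quotient.mk_surjective _ y
  exact ⟨Submodule.Quotient.mk p, rfl⟩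

theorem exact_mulX_projQ (j : ℕ) (hj : j < n) :
    Function.Exact (mulX (k := k) j hj) (projQ (k := k) (n := n) j) := by
  intro y
  constructor
  · intro hy
    obtain ⟨p, rfl⟩ := Submodule.Quotient.mk_surjective _ y
    have h1 : (Submodule.Quotient.mk p : MvPolynomial (Fin n) k ⧸ I k n (j + 1)) = 0 := hy
    rw [Submodule.Quotient.mk_eq_zero, I_succ k n j hj, Submodule.mem_sup] at h1
    obtain ⟨a, ha, b, hb, rfl⟩ := h1
    obtain ⟨q, rfl⟩ := Ideal.mem_span_singleton'.1 hb
    refine ⟨Submodule.Quotient.mk q, ?_⟩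
    show (Submodule.Quotient.mk (X ⟨j, hj⟩ * q) : MvPolynomial (Fin n) k ⧸ I k n j) = _
    rw [eq_comm, ← sub_eq_zero, ← Submodule.Quotient.mk_sub, Submodule.Quotient.mk_eq_zero]
    have : a + q * X ⟨j, hj⟩ - X ⟨j, hj⟩ * q = a := by ring
    rw [this]
    exact ha
  · rintro ⟨x, rfl⟩
    obtain ⟨q, rfl⟩ := Submodule.Quotient.mk_surjective _ x
    show (Submodule.Quotient.mk (X ⟨j, hj⟩ * q) : MvPolynomial (Fin n) k ⧸ I k n (j + 1)) = 0
    rw [Submodule.Quotient.mk_eq_zero]
    exact Ideal.mul_mem_right _ _ (X_mem_I k n (j + 1) ⟨j, hj⟩ (by simp))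

/-- the short exact sequence `0 → S/I_j → S/I_j → S/I_{j+1} → 0`. -/
noncomputable def ses (j : ℕ) (hj : j < n) : ShortComplex (ModuleCat.{u} (MvPolynomial (Fin n) k)) :=
  ShortComplex.mk (ModuleCat.ofHom (mulX (k := k) j hj)) (ModuleCat.ofHom (projQ (k := k) j)) (by
    apply ModuleCat.hom_ext
    apply LinearMap.ext
    intro y
    exact (exact_mulX_projQ j hj).apply_apply_eq_zero y)

theorem ses_shortExact (j : ℕ) (hj : j < n) : (ses (k := k) j hj).ShortExact where
  exact := (ShortComplex.ShortExact.moduleCat_exact_iff_function_exact _).2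
    (exact_mulX_projQ j hj)
  mono_f := (ModuleCat.mono_iff_injective _).2 (mulX_injective j hj)
  epi_g := (ModuleCat.epi_iff_surjective _).2 (projQ_surjective j)

/-- `Tor_i(S/I_j, Y) = 0` for `i > j`. -/
theorem isZero_tor_quot (Y : ModuleCat.{u} (MvPolynomial (Fin n) k)) (j : ℕ) (hj : j ≤ n) :
    ∀ i, j < i → Limits.IsZero (((Tor (ModuleCat.{u} (MvPolynomial (Fin n) k)) i).obj
      (ModuleCat.of _ (MvPolynomial (Fin n) k ⧸ I k n j))).obj Y) := by
  induction j with
  | zero =>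
    intro i hi
    have hflat : Module.Flat (MvPolynomial (Fin n) k) (MvPolynomial (Fin n) k ⧸ I k n 0) :=
      Module.Flat.of_linearEquiv (Submodule.quotEquivOfEqBot _ (I_zero k n))
    exact isZero_tor_of_flat Y (ModuleCat.of _ (MvPolynomial (Fin n) k ⧸ I k n 0)) i hi
  | succ j ih =>
    intro i hi
    obtain ⟨i', rfl⟩ : ∃ i', i = i' + 1 := ⟨i - 1, by omega⟩
    exact isZero_tor_X₃ (ses (k := k) j (by omega)) (ses_shortExact j (by omega)) Y i'
      (ih (by omega) (i' + 1) (by omega)) (ih (by omega) i' (by omega))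

end ses

/-- **Hilbert's syzygy theorem** (Tor form): `Tor_i^S(S/𝔪, Y) = 0` for `i > n`. -/
theorem isZero_tor_residue (Y : ModuleCat.{u} (MvPolynomial (Fin n) k)) (i : ℕ) (hi : n < i) :
    Limits.IsZero (((Tor (ModuleCat.{u} (MvPolynomial (Fin n) k)) i).obj
      (ModuleCat.of _ (MvPolynomial (Fin n) k ⧸
        (GrSyz.irrel (GrSyz.stdGr k (Fin n))).toIdeal))).obj Y) := by
  rw [← I_top_eq_irrel]
  exact isZero_tor_quot Y n le_rfl i hi

end Groth.Agent.Helper13Syzygy
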