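import Mathlib
import Groth.Prelude.Def_GrSyz
import Groth.Prelude.Def_GrLC
import Groth.Agent.Lib.Helper13Hilb
import Groth.Agent.Lib.Helper13HB
import Groth.Agent.Lib.Helper13Pts
import Groth.Agent.Lib.Helper13TorLin
import Groth.Agent.Lib.Helper13Syzygy
import Groth.Agent.Lib.Helper13Reindex
import Groth.Agent.Lib.Helper13MinRes
import Groth.Agent.Lib.Helper23GrSyz
import Groth.Agent.S15436
import Groth.Agent.S15428
import Groth.Agent.S15432

/-!
# The minimal resolution of the ideal of a finite set of points in the projective plane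
-/

set_option autoImplicit false
universe u
open MvPolynomial CategoryTheory

namespace Groth.Agent.Helper13PtsRes

open Groth.Agent.Helper13Hilb Groth.Agent.Lib.Helper23

section cyclic

variable {k : Type u} [Field k] {σ : Type} [Fintype σ] [DecidableEq σ]
  {M : Type u} [AddCommGroup M] [Module k M] [Module (MvPolynomial σ k) M]
  [IsScalarTower k (MvPolynomial σ k) M]
  {ℳ : ℤ → Submodule k M} [DirectSum.Decomposition ℳ] [SetLike.GradedSMul (GrSyz.stdGr k σ) ℳ]
  (π : MvPolynomial σ k →ₗ[MvPolynomial σ k] M)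
  (hπg : ∀ (g : ℤ) (p : MvPolynomial σ k), p ∈ GrSyz.stdGr k σ g → π p ∈ ℳ g)
  (F : GrSyz.FreeRes (GrSyz.stdGr k σ) ℳ)
  (hF : F.IsMinimal (GrSyz.irrel (GrSyz.stdGr k σ)).toIdeal)

include hF in
theorem mem_irrel_of_augLin_eq_zero (v : Fin (F.rk 0) → MvPolynomial σ k) (hv : F.augLin v = 0)
    (b : Fin (F.rk 0)) : v b ∈ (GrSyz.irrel (GrSyz.stdGr k σ)).toIdeal := by
  have : v ∈ LinearMap.ker (Fintype.linearCombination (MvPolynomial σ k) F.aug) := hv
  rw [F.exact_zero] at this
  obtain ⟨w, rfl⟩ := this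
  exact mulVec_mem_of_entries_mem _ (F.d 0) (hF 0) w b

omit [Fintype σ] [DecidableEq σ] in
theorem not_mem_irrel_of_isUnit {s : MvPolynomial σ k} (hs : IsUnit s) :
    s ∉ (GrSyz.irrel (GrSyz.stdGr k σ)).toIdeal := by
  intro h
  obtain ⟨u, rfl⟩ := hs
  have h1 : ((u⁻¹ : (MvPolynomial σ k)ˣ) : MvPolynomial σ k) * (u : MvPolynomial σ k) ∈
      (GrSyz.irrel (GrSyz.stdGr k σ)).toIdeal := Ideal.mul_mem_left _ _ h
  rw [Units.inv_mul] at h1
  exact one_notMem_irrel h1

include hπg hF in
theorem exists_unit_aug (hπ : Function.Surjective π) (b : Fin (F.rk 0)) :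
    ∃ s : MvPolynomial σ k, IsUnit s ∧ F.aug b = π s := by
  classical
  obtain ⟨c, hc⟩ := F.aug_surjective (π 1)
  obtain ⟨s, hs, hsb⟩ := Groth.Agent.Helper13HB.exists_of_mem_piece π hπg hπ (F.deg 0 b) (F.aug b)
    (F.aug_mem b)
  refine ⟨s, ?_, hsb.symm⟩
  apply isUnit_of_mem_stdGr_of_notMem_irrel hs
  intro hsm
  have hv : F.augLin (Pi.single b 1 - s • c) = 0 := by
    rw [map_sub, map_smul]
    have h1 : F.augLin (Pi.single b 1) = F.aug b := by
      show Fintype.linearCombination (MvPolynomial σ k) F.aug (Pi.single b 1) = F.aug b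
      rw [Fintype.linearCombination_apply_single, one_smul]
    have hc' : F.augLin c = π 1 := hc
    rw [h1, hc', ← map_smul, smul_eq_mul, mul_one, hsb, sub_self]
  have h2 := mem_irrel_of_augLin_eq_zero F hF _ hv b
  rw [Pi.sub_apply, Pi.single_eq_same, Pi.smul_apply, smul_eq_mul] at h2
  have h3 : s * c b ∈ (GrSyz.irrel (GrSyz.stdGr k σ)).toIdeal := Ideal.mul_mem_right _ _ hsm
  have h4 := Ideal.add_mem _ h2 h3
  rw [sub_add_cancel] at h4
  exact one_notMem_irrel h4

include hπg hF in
theorem rk_zero_eq_one (hπ : Function.Surjective π) (h1 : π 1 ≠ 0) : F.rk 0 = 1 := by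
  classical
  have hs := exists_unit_aug π hπg F hF hπ
  choose s hsu hsb using hs
  have hne : F.rk 0 ≠ 0 := by
    intro h0
    obtain ⟨c, hc⟩ := F.aug_surjective (π 1)
    have : IsEmpty (Fin (F.rk 0)) := by rw [h0]; infer_instance
    rw [Fintype.linearCombination_apply, Finset.univ_eq_empty, Finset.sum_empty] at hc
    exact h1 hc.symm
  have hlt : F.rk 0 < 2 := by
    by_contra hge
    push Not at hge
    let b : Fin (F.rk 0) := ⟨0, by omega⟩
    let b' : Fin (F.rk 0) := ⟨1, by omega⟩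
    have hbb : b ≠ b' := by
      intro h
      have := congrArg Fin.val h
      simp [b, b'] at this
    have hv : F.augLin (s b' • Pi.single b 1 - s b • Pi.single b' 1) = 0 := by
      rw [map_sub, map_smul, map_smul]
      have e1 : ∀ b₀, F.augLin (Pi.single b₀ 1) = F.aug b₀ := by
        intro b₀
        show Fintype.linearCombination (MvPolynomial σ k) F.aug (Pi.single b₀ 1) = F.aug b₀
        rw [Fintype.linearCombination_apply_single, one_smul]
      rw [e1, e1, hsb b, hsb b', ← map_smul, ← map_smul, smul_eq_mul, smul_eq_mul, mul_comm,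
        sub_self]
    have h2 := mem_irrel_of_augLin_eq_zero F hF _ hv b
    rw [Pi.sub_apply, Pi.smul_apply, Pi.smul_apply, Pi.single_eq_same,
      Pi.single_eq_of_ne hbb, smul_eq_mul, smul_eq_mul, mul_one, mul_zero, sub_zero] at h2
    exact not_mem_irrel_of_isUnit (hsu b') h2
  omega

end cyclic


section points

variable {k : Type u} [Field k]
  {M : Type u} [AddCommGroup M] [Module k M] [Module (MvPolynomial (Fin 3) k) M]
  [IsScalarTower k (MvPolynomial (Fin 3) k) M]
  {ℳ : ℤ → Submodule k M} [DirectSum.Decomposition ℳ]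
  [SetLike.GradedSMul (GrSyz.stdGr k (Fin 3)) ℳ]
  (π : MvPolynomial (Fin 3) k →ₗ[MvPolynomial (Fin 3) k] M)
  (hπg : ∀ (g : ℤ) (p : MvPolynomial (Fin 3) k), p ∈ GrSyz.stdGr k (Fin 3) g → π p ∈ ℳ g)
  (Z : Finset (Fin 3 → k)) (I : Ideal (MvPolynomial (Fin 3) k))
  (hI : ∀ f : MvPolynomial (Fin 3) k, f ∈ I ↔
      ∀ p ∈ Z, ∀ j : ℕ, MvPolynomial.eval p (MvPolynomial.homogeneousComponent j f) = 0)
  (F : GrSyz.FreeRes (GrSyz.stdGr k (Fin 3)) ℳ)
  (hF : F.IsMinimal (GrSyz.irrel (GrSyz.stdGr k (Fin 3))).toIdeal)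

include hI hF in
/-- the minimal resolution of `S/I` for the ideal of points in the plane has length `≤ 2`. -/
theorem hasLengthLE_two (hZ : ∀ p ∈ Z, p ≠ 0) (hπ : Function.Surjective π)
    (hker : LinearMap.ker π = I) : F.HasLengthLE 2 := by
  have hfin : Module.Finite (MvPolynomial (Fin 3) k) M := Module.Finite.of_surjective π hπ
  intro i hi
  have h1 := Groth.Agent.S15436.result k 2 M ℳ F hF i
  have h2 : Limits.IsZero (((Tor (ModuleCat.{u} (MvPolynomial (Fin 3) k)) i).obj
      (ModuleCat.of (MvPolynomial (Fin 3) k) ((MvPolynomial (Fin 3) k) ⧸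
        (GrSyz.irrel (GrSyz.stdGr k (Fin 3))).toIdeal))).obj
        (ModuleCat.of (MvPolynomial (Fin 3) k) M)) := by
    by_cases h3 : i = 3
    · subst h3
      obtain ⟨h, hh𝔪, hnzd⟩ := Groth.Agent.Helper13Pts.exists_nzd Z I hI hZ
      refine Groth.Agent.Helper13TorLin.isZero_tor_of_nzd _
        (ModuleCat.of (MvPolynomial (Fin 3) k) M) h ?_ ?_ 3
        (fun Q => Groth.Agent.Helper13Syzygy.isZero_tor_residue k 3 Q 4 (by omega))
      · intro x
        obtain ⟨s, rfl⟩ := Submodule.Quotient.mk_surjective _ x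
        rw [← Submodule.Quotient.mk_smul, Submodule.Quotient.mk_eq_zero]
        exact Ideal.mul_mem_right _ _ hh𝔪
      · intro y hy
        obtain ⟨g, rfl⟩ := hπ y
        have hy' : h • π g = 0 := hy
        rw [← map_smul, smul_eq_mul] at hy'
        have h4 : h * g ∈ LinearMap.ker π := hy'
        rw [hker] at h4
        have h5 := hnzd g h4
        rw [← hker] at h5
        exact h5
    · exact Groth.Agent.Helper13Syzygy.isZero_tor_residue k 3 _ i (by omega)
  have h3 := ModuleCat.subsingleton_of_isZero h2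
  rw [Module.length_eq_zero] at h1
  exact_mod_cast h1.symm

include hπg hI in
/-- the vanishing of the quadratic and linear coefficients of the Hilbert polynomial. -/
theorem hilbert_coeffs (hπ : Function.Surjective π) (hker : LinearMap.ker π = I)
    (hlen : F.HasLengthLE 2) :
    ((F.rk 0 : ℤ) - F.rk 1 + F.rk 2) = 0 ∧
      ((∑ b : Fin (F.rk 0), (3 - 2 * F.deg 0 b)) - (∑ b : Fin (F.rk 1), (3 - 2 * F.deg 1 b)) +
          (∑ b : Fin (F.rk 2), (3 - 2 * F.deg 2 b))) = 0 := by
  classical
  have hfin : Module.Finite (MvPolynomial (Fin 3) k) M := Module.Finite.of_surjective π hπ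
  have hHF := fun d => Groth.Agent.S15428.result k 2 M ℳ F 2 hlen d
  have hbd := fun d => Groth.Agent.Helper13HB.finrank_piece_le π hπg Z I hI hπ hker d
  obtain ⟨D, hD⟩ : ∃ D : ℤ, ∀ (i : ℕ) (b : Fin (F.rk i)), i < 3 → F.deg i b ≤ D := by
    refine ⟨∑ i ∈ Finset.range 3, ∑ b : Fin (F.rk i), |F.deg i b|, fun i b hi => ?_⟩
    calc F.deg i b ≤ |F.deg i b| := le_abs_self _
      _ ≤ ∑ b : Fin (F.rk i), |F.deg i b| :=
          Finset.single_le_sum (f := fun b => |F.deg i b|) (fun _ _ => abs_nonneg _)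
            (Finset.mem_univ b)
      _ ≤ ∑ i ∈ Finset.range 3, ∑ b : Fin (F.rk i), |F.deg i b| :=
          Finset.single_le_sum (f := fun i => ∑ b : Fin (F.rk i), |F.deg i b|)
            (fun _ _ => Finset.sum_nonneg (fun _ _ => abs_nonneg _)) (Finset.mem_range.2 hi)
  have hquad : ∀ d, D ≤ d → 2 * (Module.finrank k ↥(ℳ d) : ℤ) =
      ((F.rk 0 : ℤ) - F.rk 1 + F.rk 2) * d ^ 2 +
      ((∑ b : Fin (F.rk 0), (3 - 2 * F.deg 0 b)) - (∑ b : Fin (F.rk 1), (3 - 2 * F.deg 1 b)) +
        (∑ b : Fin (F.rk 2), (3 - 2 * F.deg 2 b))) * d +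
      ((∑ b : Fin (F.rk 0), (F.deg 0 b ^ 2 - 3 * F.deg 0 b + 2)) -
        (∑ b : Fin (F.rk 1), (F.deg 1 b ^ 2 - 3 * F.deg 1 b + 2)) +
        (∑ b : Fin (F.rk 2), (F.deg 2 b ^ 2 - 3 * F.deg 2 b + 2))) := by
    intro d hd
    rw [hHF d, Finset.sum_range_succ, Finset.sum_range_succ, Finset.sum_range_one]
    have e0 := Groth.Agent.Helper13HB.sum_expand (F.deg 0) d (fun b => (hD 0 b (by omega)).trans hd)
    have e1 := Groth.Agent.Helper13HB.sum_expand (F.deg 1) d (fun b => (hD 1 b (by omega)).trans hd)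
    have e2 := Groth.Agent.Helper13HB.sum_expand (F.deg 2) d (fun b => (hD 2 b (by omega)).trans hd)
    simp only [pow_zero, pow_one, one_mul, neg_mul, even_two, Even.neg_pow, one_pow]
    linear_combination e0 - e1 + e2
  exact Groth.Agent.Helper13HB.quad_bounded _ _ _ (2 * (Z.card : ℤ)) D (fun d hd => by
    rw [← hquad d hd]
    have := hbd d
    constructor
    · positivity
    · exact_mod_cast Nat.mul_le_mul_left 2 this)


include hπg hI in
/-- the ideal of a nonempty finite set of points of the plane lying on a curve of degree `d` is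
generated by at most `d + 1` elements (abstract form). -/
theorem main_abstract (hZ : ∀ p ∈ Z, p ≠ 0) (hZne : Z.Nonempty) (hπ : Function.Surjective π)
    (hker : LinearMap.ker π = I) (d : ℕ)
    (hf : ∃ f ∈ I, MvPolynomial.IsHomogeneous f d ∧ f ≠ 0) :
    Submodule.spanFinrank I ≤ d + 1 := by
  classical
  have hfin : Module.Finite (MvPolynomial (Fin 3) k) M := Module.Finite.of_surjective π hπ
  obtain ⟨F₀, hF₀⟩ := Groth.Agent.Helper13MinRes.exists_freeRes_isMinimal (k := k) (σ := Fin 3) ℳ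
  obtain ⟨F, hFdef⟩ : ∃ F, F = Groth.Agent.Helper13Reindex.sorted F₀ := ⟨_, rfl⟩
  have hF : F.IsMinimal (GrSyz.irrel (GrSyz.stdGr k (Fin 3))).toIdeal := by
    rw [hFdef]
    exact Groth.Agent.Helper13Reindex.sorted_isMinimal F₀ _ hF₀
  have hanti : ∀ (i : ℕ) (b b' : Fin (F.rk i)), b ≤ b' → F.deg i b' ≤ F.deg i b := by
    subst hFdef
    exact Groth.Agent.Helper13Reindex.sorted_antitone F₀
  have hlen := hasLengthLE_two π Z I hI F hF hZ hπ hker
  have hπ1 : π 1 ≠ 0 := by
    intro h
    have : (1 : MvPolynomial (Fin 3) k) ∈ LinearMap.ker π := h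
    rw [hker] at this
    exact Groth.Agent.Helper13HB.one_notMem Z I hI hZne this
  have hrk0 := rk_zero_eq_one π hπg F hF hπ hπ1
  have hdeg0 := Groth.Agent.Helper13HB.deg_zero_eq_zero π hπg F hπ hπ1 hrk0
  obtain ⟨hc₂, -⟩ := hilbert_coeffs π hπg Z I hI F hπ hker hlen
  obtain ⟨t, ht⟩ : ∃ t, t = F.rk 2 := ⟨_, rfl⟩
  have h2 : F.rk 2 = t := ht.symm
  have h1 : F.rk 1 = t + 1 := by
    rw [hrk0] at hc₂
    push_cast at hc₂
    omega
  have key := Groth.Agent.S15432.result k Z hZ hZne I hI M ℳ π hπ hπg hker F hF hlen t h1 h2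
    (fun i j hij => hanti 1 _ _ (show (Fin.cast h1.symm i).val ≤ (Fin.cast h1.symm j).val from hij))
    (fun i j hij => hanti 2 _ _ (show (Fin.cast h2.symm i).val ≤ (Fin.cast h2.symm j).val from hij))
  obtain ⟨hef, hsum⟩ := key
  have hlast : (t : ℤ) ≤ F.deg 1 (Fin.cast h1.symm (Fin.last t)) := by
    rw [Fin.sum_univ_castSucc] at hsum
    have h3 : ∑ j : Fin t, (1 : ℤ) ≤ ∑ j : Fin t,
        (F.deg 2 (Fin.cast h2.symm j) - F.deg 1 (Fin.cast h1.symm j.castSucc)) :=
      Finset.sum_le_sum (fun j _ => (hef j).1)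
    rw [Finset.sum_sub_distrib] at h3
    simp only [Finset.sum_const, Finset.card_univ, Fintype.card_fin, nsmul_eq_mul, mul_one] at h3
    linarith
  have hall : ∀ l : Fin (F.rk 1), (t : ℤ) ≤ F.deg 1 l := by
    intro l
    refine hlast.trans (hanti 1 l (Fin.cast h1.symm (Fin.last t)) ?_)
    show l.val ≤ (Fin.cast h1.symm (Fin.last t)).val
    have := l.2
    simp only [Fin.val_cast, Fin.val_last]
    omega
  -- generators
  have hsub : Subsingleton (Fin (F.rk 0)) := by rw [hrk0]; infer_instance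
  let b₀ : Fin (F.rk 0) := ⟨0, by omega⟩
  have haug : ∀ g : MvPolynomial (Fin 3) k,
      F.augLin (fun _ => g) = g • F.aug b₀ := by
    intro g
    rw [augLin_apply]
    rw [Fintype.sum_eq_single b₀ (fun b hb => absurd (Subsingleton.elim b b₀) hb)]
  have hIaug : ∀ g : MvPolynomial (Fin 3) k, g ∈ I ↔ g • F.aug b₀ = 0 := by
    intro g
    constructor
    · intro hg
      obtain ⟨q, hq⟩ := hπ (F.aug b₀)
      rw [← hq, ← map_smul, smul_eq_mul]
      have h3 : g * q ∈ LinearMap.ker π := by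
        rw [hker]
        exact I.mul_mem_right _ hg
      exact h3
    · intro hg
      obtain ⟨c, hc⟩ := F.aug_surjective (π 1)
      have hc' : c b₀ • F.aug b₀ = π 1 := by
        rw [← hc, Fintype.linearCombination_apply,
          Fintype.sum_eq_single b₀ (fun b hb => absurd (Subsingleton.elim b b₀) hb)]
      have h3 : π g = 0 := by
        have h4 : π g = g • π 1 := by rw [← map_smul, smul_eq_mul, mul_one]
        rw [h4, ← hc', smul_comm, hg, smul_zero]
      rw [← hker]
      exact h3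
  have hIspan : I = Ideal.span (Set.range (fun l : Fin (F.rk 1) => F.d 0 b₀ l)) := by
    apply le_antisymm
    · intro g hg
      have h3 : (fun _ => g) ∈ LinearMap.ker (Fintype.linearCombination (MvPolynomial (Fin 3) k) F.aug) := by
        show F.augLin (fun _ => g) = 0
        rw [haug]
        exact (hIaug g).1 hg
      rw [F.exact_zero] at h3
      obtain ⟨w, hw⟩ := h3
      have h4 := congrFun hw b₀
      rw [Matrix.mulVecLin_apply, Matrix.mulVec, dotProduct] at h4
      rw [← h4]
      exact Ideal.sum_mem _ (fun l _ => Ideal.mul_mem_right _ _ (Ideal.subset_span ⟨l, rfl⟩))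
    · rw [Ideal.span_le]
      rintro _ ⟨l, rfl⟩
      rw [SetLike.mem_coe, hIaug]
      have h3 := Groth.Agent.Helper13FreeRes.aug_dLin F (Pi.single l 1)
      have hcol : F.dLin 0 (Pi.single l 1) = fun _ => F.d 0 b₀ l := by
        funext b
        rw [Subsingleton.elim b b₀]
        show ((F.d 0).mulVec (Pi.single l 1)) b₀ = _
        rw [Matrix.mulVec_single_one]
        rfl
      rw [hcol, haug] at h3
      exact h3
  have hfr : Submodule.spanFinrank I ≤ t + 1 := by
    have h3 : Submodule.spanFinrank (Ideal.span (Set.range (fun l : Fin (F.rk 1) => F.d 0 b₀ l))) ≤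
        (Set.range (fun l : Fin (F.rk 1) => F.d 0 b₀ l)).ncard :=
      Submodule.spanFinrank_span_le_ncard_of_finite (Set.finite_range _)
    have h4 : (Set.range (fun l : Fin (F.rk 1) => F.d 0 b₀ l)).ncard ≤ t + 1 := by
      rw [← Set.image_univ]
      refine (Set.ncard_image_le (Set.finite_univ)).trans ?_
      rw [Set.ncard_univ, Nat.card_eq_fintype_card, Fintype.card_fin, h1]
    rw [← hIspan] at h3
    exact h3.trans h4
  have htd : t ≤ d := by
    by_contra hlt
    push Not at hlt
    obtain ⟨f, hfI, hfh, hf0⟩ := hf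
    have hfmem : f ∈ GrSyz.stdGr k (Fin 3) (d : ℤ) := by
      rw [Groth.Agent.Helper13HB.stdGr_natCast]
      exact hfh
    have hv : (fun _ : Fin (F.rk 0) => f) ∈ strand (GrSyz.stdGr k (Fin 3)) (F.deg 0) (d : ℤ) := by
      rw [mem_strand]
      intro b
      rw [hdeg0 b, sub_zero]
      exact hfmem
    obtain ⟨w, hw, hwv⟩ := exists_strand_zero F (d : ℤ) _ hv (by
      rw [haug]
      exact (hIaug f).1 hfI)
    have hw0 : w = 0 := by
      funext l
      have h3 := (mem_strand _ _ _ _).1 hw l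
      rw [Groth.Agent.Helper13HB.stdGr_neg _ (by have := hall l; omega)] at h3
      exact (Submodule.mem_bot _).1 h3
    rw [hw0, map_zero] at hwv
    exact hf0 (congrFun hwv b₀).symm
  omega


include hπg hI in
/-- the ideal of a nonempty finite set of points of the plane has a free resolution of length
one (abstract form). -/
theorem exists_length_one_abstract (hZ : ∀ p ∈ Z, p ≠ 0) (hZne : Z.Nonempty)
    (hπ : Function.Surjective π) (hker : LinearMap.ker π = I) :
    ∃ (n m : ℕ) (Ψ : Matrix (Fin n) (Fin m) (MvPolynomial (Fin 3) k))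
      (π' : (Fin n → MvPolynomial (Fin 3) k) →ₗ[MvPolynomial (Fin 3) k] MvPolynomial (Fin 3) k),
      n = m + 1 ∧ LinearMap.ker Ψ.mulVecLin = ⊥ ∧
        LinearMap.ker π' = LinearMap.range Ψ.mulVecLin ∧ LinearMap.range π' = I := by
  classical
  have hfin : Module.Finite (MvPolynomial (Fin 3) k) M := Module.Finite.of_surjective π hπ
  obtain ⟨F, hF⟩ := Groth.Agent.Helper13MinRes.exists_freeRes_isMinimal (k := k) (σ := Fin 3) ℳ
  have hlen := hasLengthLE_two π Z I hI F hF hZ hπ hker
  have hπ1 : π 1 ≠ 0 := by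
    intro h
    have : (1 : MvPolynomial (Fin 3) k) ∈ LinearMap.ker π := h
    rw [hker] at this
    exact Groth.Agent.Helper13HB.one_notMem Z I hI hZne this
  have hrk0 := rk_zero_eq_one π hπg F hF hπ hπ1
  obtain ⟨hc₂, -⟩ := hilbert_coeffs π hπg Z I hI F hπ hker hlen
  have h1 : F.rk 1 = F.rk 2 + 1 := by
    rw [hrk0] at hc₂
    push_cast at hc₂
    omega
  have hsub : Subsingleton (Fin (F.rk 0)) := by rw [hrk0]; infer_instance
  let b₀ : Fin (F.rk 0) := ⟨0, by omega⟩
  have haug : ∀ g : MvPolynomial (Fin 3) k,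
      F.augLin (fun _ => g) = g • F.aug b₀ := by
    intro g
    rw [augLin_apply]
    rw [Fintype.sum_eq_single b₀ (fun b hb => absurd (Subsingleton.elim b b₀) hb)]
  have hIaug : ∀ g : MvPolynomial (Fin 3) k, g ∈ I ↔ g • F.aug b₀ = 0 := by
    intro g
    constructor
    · intro hg
      obtain ⟨q, hq⟩ := hπ (F.aug b₀)
      rw [← hq, ← map_smul, smul_eq_mul]
      have h3 : g * q ∈ LinearMap.ker π := by
        rw [hker]
        exact I.mul_mem_right _ hg
      exact h3
    · intro hg
      obtain ⟨c, hc⟩ := F.aug_surjective (π 1)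
      have hc' : c b₀ • F.aug b₀ = π 1 := by
        rw [← hc, Fintype.linearCombination_apply,
          Fintype.sum_eq_single b₀ (fun b hb => absurd (Subsingleton.elim b b₀) hb)]
      have h3 : π g = 0 := by
        have h4 : π g = g • π 1 := by rw [← map_smul, smul_eq_mul, mul_one]
        rw [h4, ← hc', smul_comm, hg, smul_zero]
      rw [← hker]
      exact h3
  refine ⟨F.rk 1, F.rk 2, F.d 1, (LinearMap.proj b₀) ∘ₗ (F.dLin 0), h1, ?_, ?_, ?_⟩
  · rw [LinearMap.ker_eq_bot]
    exact Groth.Agent.Helper13HB.mulVec_injective_of_rk_zero F 1 (hlen 3 (by omega))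
  · rw [← F.exact_succ 0]
    ext v
    rw [LinearMap.mem_ker, LinearMap.mem_ker, LinearMap.comp_apply, LinearMap.proj_apply]
    constructor
    · intro h
      funext b
      rw [Subsingleton.elim b b₀]
      exact h
    · intro h
      exact congrFun h b₀
  · ext g
    rw [hIaug, ← haug]
    constructor
    · rintro ⟨v, rfl⟩
      have h3 : (fun _ : Fin (F.rk 0) => ((LinearMap.proj b₀) ∘ₗ (F.dLin 0)) v) = F.dLin 0 v := by
        funext b
        rw [Subsingleton.elim b b₀]
        rfl
      rw [h3]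
      exact Groth.Agent.Helper13FreeRes.aug_dLin F v
    · intro h
      have h3 : (fun _ : Fin (F.rk 0) => g) ∈
          LinearMap.ker (Fintype.linearCombination (MvPolynomial (Fin 3) k) F.aug) := h
      rw [F.exact_zero] at h3
      obtain ⟨w, hw⟩ := h3
      exact ⟨w, congrFun hw b₀⟩

end points

end Groth.Agent.Helper13PtsRes
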