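import Mathlib
import Groth.Prelude

/-!
# Universally injective (pure) maps: the equational criterion   (helper13)

* `Equational f` : whenever `f x_i = Σ_j a_ij y_j` there are `z_j` with `x_i = Σ_j a_ij z_j`.
* `equational_of_fp` : injective after tensoring with all f.p. modules ⇒ equational.
* `univInj_of_equational` : injective + equational ⇒ universally injective.
* `exists_lift_of_equational` : f.p. modules lift along surjections with equational kernel.
-/

set_option autoImplicit false
universe u
open TensorProduct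

namespace Groth.Agent.Helper13Pure

variable {R : Type u} [CommRing R]

/-- The equational condition for purity. -/
def Equational {M₁ M₂ : Type u} [AddCommGroup M₁] [Module R M₁] [AddCommGroup M₂] [Module R M₂]
    (f : M₁ →ₗ[R] M₂) : Prop :=
  ∀ (n m : ℕ) (x : Fin n → M₁) (y : Fin m → M₂) (a : Fin n → Fin m → R),
    (∀ i, f (x i) = ∑ j, a i j • y j) → ∃ z : Fin m → M₁, ∀ i, x i = ∑ j, a i j • z j

section fp
variable {M₁ M₂ : Type u} [AddCommGroup M₁] [Module R M₁] [AddCommGroup M₂] [Module R M₂]
  (f : M₁ →ₗ[R] M₂)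

theorem piScalarRight_lTensor_mulVecLin {n m : ℕ} (a : Fin n → Fin m → R)
    (w : M₁ ⊗[R] (Fin m → R)) (i : Fin n) :
    TensorProduct.piScalarRight R R M₁ (Fin n)
      (LinearMap.lTensor M₁ (Matrix.mulVecLin (Matrix.of a)) w) i =
      ∑ j, a i j • TensorProduct.piScalarRight R R M₁ (Fin m) w j := by
  induction w using TensorProduct.induction_on with
  | zero => simp
  | tmul u v =>
    rw [LinearMap.lTensor_tmul, TensorProduct.piScalarRight_apply,
      TensorProduct.piScalarRightHom_tmul, TensorProduct.piScalarRight_apply,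
      TensorProduct.piScalarRightHom_tmul]
    simp only [Matrix.mulVecLin_apply, Matrix.mulVec, dotProduct, Matrix.of_apply]
    rw [Finset.sum_smul]
    refine Finset.sum_congr rfl (fun j _ => ?_)
    rw [mul_smul]
  | add w₁ w₂ h₁ h₂ =>
    simp only [map_add, Pi.add_apply, h₁, h₂, smul_add, Finset.sum_add_distrib]

theorem equational_of_fp
    (h : ∀ (Q : Type u) [AddCommGroup Q] [Module R Q], Module.FinitePresentation R Q →
        Function.Injective (f.rTensor Q)) : Equational f := by
  classical
  intro n m x y a hxy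
  let c : (Fin m → R) →ₗ[R] (Fin n → R) := Matrix.mulVecLin (Matrix.of a)
  let π := (LinearMap.range c).mkQ
  have hfp : Module.FinitePresentation R ((Fin n → R) ⧸ LinearMap.range c) := by
    refine Module.finitePresentation_of_free_of_surjective π (Submodule.mkQ_surjective _) ?_
    rw [Submodule.ker_mkQ, LinearMap.range_eq_map]
    exact (Module.Finite.fg_top).map c
  have hex : Function.Exact c π := LinearMap.exact_map_mkQ_range c
  have hex' : Function.Exact (LinearMap.lTensor M₁ c) (LinearMap.lTensor M₁ π) :=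
    lTensor_exact M₁ hex (Submodule.mkQ_surjective _)
  let t : M₁ ⊗[R] (Fin n → R) := ∑ i, x i ⊗ₜ[R] Pi.single i (1 : R)
  have hc : ∀ j : Fin m, c (Pi.single j 1) = ∑ i, a i j • Pi.single i (1 : R) := by
    intro j
    ext i
    simp [c, Matrix.mulVecLin_apply, Matrix.mulVec, dotProduct, Pi.single_apply,
      Finset.sum_apply]
  have ht0 : LinearMap.lTensor M₁ π t = 0 := by
    apply h _ hfp
    rw [map_zero, ← LinearMap.comp_apply, LinearMap.rTensor_comp_lTensor,
      ← LinearMap.lTensor_comp_rTensor, LinearMap.comp_apply]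
    have h1 : LinearMap.rTensor (Fin n → R) f t =
        ∑ j, y j ⊗ₜ[R] c (Pi.single j 1) := by
      simp only [t, map_sum, LinearMap.rTensor_tmul, hxy, TensorProduct.sum_tmul,
        TensorProduct.smul_tmul, hc, TensorProduct.tmul_sum]
      rw [Finset.sum_comm]
    rw [h1, map_sum]
    refine Finset.sum_eq_zero (fun j _ => ?_)
    rw [LinearMap.lTensor_tmul, hex.apply_apply_eq_zero, TensorProduct.tmul_zero]
  obtain ⟨w, hw⟩ := (hex' t).1 ht0
  refine ⟨TensorProduct.piScalarRight R R M₁ (Fin m) w, fun i => ?_⟩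
  rw [← piScalarRight_lTensor_mulVecLin a w i]
  change x i = TensorProduct.piScalarRight R R M₁ (Fin n) (LinearMap.lTensor M₁ c w) i
  rw [hw]
  simp only [t, map_sum, TensorProduct.piScalarRight_apply, TensorProduct.piScalarRightHom_tmul,
    Finset.sum_apply, Pi.single_apply]
  simp

/-- every element of `Q ⊗ M` is `Σ e_j ⊗ x_j` when the `e_j` span `Q` -/
theorem exists_sum_tmul {Q M : Type u} [AddCommGroup Q] [Module R Q] [AddCommGroup M] [Module R M]
    {m : ℕ} (e : Fin m → Q) (he : Submodule.span R (Set.range e) = ⊤) (t : Q ⊗[R] M) :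
    ∃ x : Fin m → M, t = ∑ j, e j ⊗ₜ[R] x j := by
  induction t using TensorProduct.induction_on with
  | zero => exact ⟨0, by simp⟩
  | tmul q u =>
    have hq : q ∈ Submodule.span R (Set.range e) := by rw [he]; trivial
    obtain ⟨c, rfl⟩ := (Submodule.mem_span_range_iff_exists_fun R).1 hq
    refine ⟨fun j => c j • u, ?_⟩
    rw [TensorProduct.sum_tmul]
    refine Finset.sum_congr rfl (fun j _ => ?_)
    rw [TensorProduct.smul_tmul]
  | add t₁ t₂ h₁ h₂ =>
    obtain ⟨x₁, rfl⟩ := h₁
    obtain ⟨x₂, rfl⟩ := h₂
    refine ⟨x₁ + x₂, ?_⟩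
    simp only [Pi.add_apply, TensorProduct.tmul_add, Finset.sum_add_distrib]

theorem univInj_of_equational (hf : Function.Injective f) (h : Equational f) :
    CAlgX.UniversallyInjective R f := by
  classical
  intro Q _ _
  rw [← LinearMap.lTensor_inj_iff_rTensor_inj, injective_iff_map_eq_zero]
  intro x hx
  obtain ⟨Q₀, hQ₀, x₀, hx₀⟩ := TensorProduct.exists_of_fg x
  have h0 : LinearMap.rTensor M₂ Q₀.subtype (LinearMap.lTensor Q₀ f x₀) = 0 := by
    rw [← LinearMap.comp_apply, LinearMap.rTensor_comp_lTensor, ← LinearMap.lTensor_comp_rTensor,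
      LinearMap.comp_apply, hx₀, hx]
  obtain ⟨Q₁, hle, hQ₁, ht⟩ := TensorProduct.eq_zero_of_fg_of_subtype_eq_zero hQ₀ h0
  set x₁ := LinearMap.rTensor M₁ (Submodule.inclusion hle) x₀ with hx₁
  have hx₁x : LinearMap.rTensor M₁ Q₁.subtype x₁ = x := by
    rw [hx₁, ← LinearMap.comp_apply, ← LinearMap.rTensor_comp, Submodule.subtype_comp_inclusion,
      hx₀]
  have hfx₁ : LinearMap.lTensor Q₁ f x₁ = 0 := by
    rw [hx₁, ← LinearMap.comp_apply, LinearMap.lTensor_comp_rTensor,
      ← LinearMap.rTensor_comp_lTensor, LinearMap.comp_apply, ht]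
  suffices hx₁0 : x₁ = 0 by rw [← hx₁x, hx₁0, map_zero]
  haveI : Module.Finite R Q₁ := Module.Finite.iff_fg.2 hQ₁
  obtain ⟨m, e, he⟩ := Module.Finite.exists_fin (R := R) (M := Q₁)
  obtain ⟨x', hx'⟩ := exists_sum_tmul e he x₁
  have hv : ∑ j, e j ⊗ₜ[R] f (x' j) = (0 : Q₁ ⊗[R] M₂) := by
    rw [← hfx₁, hx', map_sum]
    simp only [LinearMap.lTensor_tmul]
  obtain ⟨κ, a, y, h1, h2⟩ := TensorProduct.vanishesTrivially_of_sum_tmul_eq_zero R he hv
  obtain ⟨z, hz⟩ := h m κ x' y a h1
  rw [hx']
  calc ∑ j, e j ⊗ₜ[R] x' j = ∑ j, ∑ k, (a j k • e j) ⊗ₜ[R] z k := by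
        refine Finset.sum_congr rfl (fun j _ => ?_)
        rw [hz j, TensorProduct.tmul_sum]
        refine Finset.sum_congr rfl (fun k _ => ?_)
        rw [TensorProduct.smul_tmul]
    _ = ∑ k, (∑ j, a j k • e j) ⊗ₜ[R] z k := by
        rw [Finset.sum_comm]
        refine Finset.sum_congr rfl (fun k _ => ?_)
        rw [TensorProduct.sum_tmul]
    _ = 0 := by
        refine Finset.sum_eq_zero (fun k _ => ?_)
        rw [h2 k, TensorProduct.zero_tmul]

theorem equational_of_univInj (h : CAlgX.UniversallyInjective R f) : Equational f :=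
  equational_of_fp f (fun Q _ _ _ => h Q)

theorem injective_of_rTensor_self (h1 : Function.Injective (f.rTensor R)) :
    Function.Injective f := by
  have hcomm : (TensorProduct.rid R M₂).toLinearMap ∘ₗ f.rTensor R =
      f ∘ₗ (TensorProduct.rid R M₁).toLinearMap := by
    apply TensorProduct.ext'
    intro x r
    simp
  intro x y hxy
  have e1 : f.rTensor R ((TensorProduct.rid R M₁).symm x) =
      f.rTensor R ((TensorProduct.rid R M₁).symm y) := by
    apply (TensorProduct.rid R M₂).injective
    have hx := LinearMap.congr_fun hcomm ((TensorProduct.rid R M₁).symm x)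
    have hy := LinearMap.congr_fun hcomm ((TensorProduct.rid R M₁).symm y)
    simp only [LinearMap.comp_apply, LinearEquiv.coe_coe, LinearEquiv.apply_symm_apply] at hx hy
    rw [hx, hy, hxy]
  exact (TensorProduct.rid R M₁).symm.injective (h1 e1)

theorem injective_of_univInj (h : CAlgX.UniversallyInjective R f) : Function.Injective f :=
  injective_of_rTensor_self f (h R)

end fp

/-- Finitely presented modules lift along surjections whose kernel is equational (pure). -/
theorem exists_lift_of_equational {L N F : Type u} [AddCommGroup L] [Module R L]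
    [AddCommGroup N] [Module R N] [AddCommGroup F] [Module R F] [Module.FinitePresentation R F]
    (g : L →ₗ[R] N) (hg : Function.Surjective g) (h : Equational (LinearMap.ker g).subtype)
    (φ : F →ₗ[R] N) : ∃ ψ : F →ₗ[R] L, g ∘ₗ ψ = φ := by
  classical
  obtain ⟨n, m, p, c, hp, hcp⟩ := Module.FinitePresentation.exists_fin' R F
  choose l hl using fun j : Fin n => hg (φ (p (Pi.single j 1)))
  let lin : (Fin n → L) → (Fin n → R) →ₗ[R] L := fun v => Fintype.linearCombination R v
  have hglin : ∀ v : Fin n → R, g (lin l v) = φ (p v) := by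
    intro v
    simp only [lin, Fintype.linearCombination_apply, map_sum, map_smul, hl]
    have hv : v = ∑ x, v x • (Pi.single x (1 : R) : Fin n → R) := by
      ext i
      simp [Finset.sum_apply, Pi.single_apply]
    conv_rhs => rw [hv]
    simp only [map_sum, map_smul]
  -- relations
  let r : Fin m → Fin n → R := fun i => c (Pi.single i 1)
  have hk : ∀ i, lin l (r i) ∈ LinearMap.ker g := by
    intro i
    rw [LinearMap.mem_ker, hglin, hcp.apply_apply_eq_zero, map_zero]
  obtain ⟨z, hz⟩ := h m n (fun i => ⟨lin l (r i), hk i⟩) l r (by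
    intro i
    simp only [Submodule.subtype_apply, lin, Fintype.linearCombination_apply])
  let l' : Fin n → L := fun j => l j - (z j : L)
  have hl'c : ∀ v : Fin m → R, lin l' (c v) = 0 := by
    have hcomp : lin l' ∘ₗ c = 0 := by
      apply (Pi.basisFun R (Fin m)).ext
      intro i
      have hzi := congr_arg Subtype.val (hz i)
      simp only [Submodule.coe_sum, Submodule.coe_smul] at hzi
      simp only [LinearMap.comp_apply, Pi.basisFun_apply, LinearMap.zero_apply, lin,
        Fintype.linearCombination_apply, l', smul_sub, Finset.sum_sub_distrib]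
      rw [sub_eq_zero]
      simpa [lin, Fintype.linearCombination_apply, r] using hzi
    intro v
    exact LinearMap.congr_fun hcomp v
  have hker : LinearMap.ker p ≤ LinearMap.ker (lin l') := by
    intro v hv
    obtain ⟨w, rfl⟩ := (hcp v).1 hv
    exact hl'c w
  let e := LinearMap.quotKerEquivOfSurjective p hp
  refine ⟨(LinearMap.ker p).liftQ (lin l') hker ∘ₗ e.symm.toLinearMap, ?_⟩
  apply LinearMap.ext
  intro u
  obtain ⟨v, rfl⟩ := hp u
  have he : e.symm (p v) = Submodule.Quotient.mk v := by
    rw [LinearEquiv.symm_apply_eq]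
    rfl
  simp only [LinearMap.comp_apply, LinearEquiv.coe_coe, he, Submodule.liftQ_apply]
  rw [← hglin v]
  simp only [lin, Fintype.linearCombination_apply, l', smul_sub, Finset.sum_sub_distrib, map_sub,
    map_sum, map_smul]
  rw [sub_eq_self]
  refine Finset.sum_eq_zero (fun j _ => ?_)
  rw [LinearMap.mem_ker.1 (z j).2, smul_zero]

section cover
variable (R) (M : Type u) [AddCommGroup M] [Module R M]

/-- index type: finite presentations with a map to `M` -/
abbrev Idx : Type u :=
  Σ (n : ℕ) (m : ℕ) (a : Fin m → Fin n → R),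
    ((Fin n → R) ⧸ Submodule.span R (Set.range a)) →ₗ[R] M

/-- the finitely presented modules -/
def QQ (i : Idx R M) : Type u := (Fin i.1 → R) ⧸ Submodule.span R (Set.range i.2.2.1)

noncomputable instance instQQAddCommGroup (i : Idx R M) : AddCommGroup (QQ R M i) :=
  inferInstanceAs (AddCommGroup ((Fin i.1 → R) ⧸ Submodule.span R (Set.range i.2.2.1)))

noncomputable instance instQQModule (i : Idx R M) : Module R (QQ R M i) :=
  inferInstanceAs (Module R ((Fin i.1 → R) ⧸ Submodule.span R (Set.range i.2.2.1)))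

theorem QQ_fp (i : Idx R M) : Module.FinitePresentation R (QQ R M i) := by
  show Module.FinitePresentation R ((Fin i.1 → R) ⧸ Submodule.span R (Set.range i.2.2.1))
  refine Module.finitePresentation_of_free_of_surjective
    (Submodule.span R (Set.range i.2.2.1)).mkQ (Submodule.mkQ_surjective _) ?_
  rw [Submodule.ker_mkQ]
  exact Submodule.fg_span (Set.finite_range _)

/-- the structure map of an index -/
def toM (i : Idx R M) : QQ R M i →ₗ[R] M := i.2.2.2

open Classical in
/-- the canonical map from the direct sum -/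
noncomputable def cov : (Π₀ i : Idx R M, QQ R M i) →ₗ[R] M :=
  DFinsupp.lsum (R := R) (M := fun i : Idx R M => QQ R M i) (N := M) ℕ
    (fun i => toM R M i)

variable {R M}

theorem span_le_ker {n m : ℕ} (y : Fin n → M) (a : Fin m → Fin n → R)
    (h : ∀ i, ∑ j, a i j • y j = 0) :
    Submodule.span R (Set.range a) ≤ LinearMap.ker (Fintype.linearCombination R y) := by
  rw [Submodule.span_le]
  rintro _ ⟨i, rfl⟩
  rw [SetLike.mem_coe, LinearMap.mem_ker, Fintype.linearCombination_apply]
  exact h i

/-- the index attached to elements `y_j` with relations `a` -/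
noncomputable def idx {n m : ℕ} (y : Fin n → M) (a : Fin m → Fin n → R)
    (h : ∀ i, ∑ j, a i j • y j = 0) : Idx R M :=
  ⟨n, m, a, (Submodule.span R (Set.range a)).liftQ (Fintype.linearCombination R y)
    (span_le_ker y a h)⟩

/-- the quotient map onto `QQ (idx y a h)` -/
noncomputable def mkQQ {n m : ℕ} (y : Fin n → M) (a : Fin m → Fin n → R)
    (h : ∀ i, ∑ j, a i j • y j = 0) : (Fin n → R) →ₗ[R] QQ R M (idx y a h) :=
  (Submodule.span R (Set.range a)).mkQ

theorem mkQQ_row {n m : ℕ} (y : Fin n → M) (a : Fin m → Fin n → R)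
    (h : ∀ i, ∑ j, a i j • y j = 0) (i : Fin m) : mkQQ y a h (a i) = 0 := by
  show (Submodule.span R (Set.range a)).mkQ (a i) = 0
  rw [Submodule.mkQ_apply, Submodule.Quotient.mk_eq_zero]
  exact Submodule.subset_span ⟨i, rfl⟩

theorem idx_map_mkQQ {n m : ℕ} (y : Fin n → M) (a : Fin m → Fin n → R)
    (h : ∀ i, ∑ j, a i j • y j = 0) (v : Fin n → R) :
    toM R M (idx y a h) (mkQQ y a h v) = Fintype.linearCombination R y v := by
  show (Submodule.span R (Set.range a)).liftQ (Fintype.linearCombination R y) _
    (Submodule.Quotient.mk v) = _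
  rw [Submodule.liftQ_apply]

open Classical in
/-- the generators in the direct sum -/
noncomputable def gen {n m : ℕ} (y : Fin n → M) (a : Fin m → Fin n → R)
    (h : ∀ i, ∑ j, a i j • y j = 0) (j : Fin n) : Π₀ i : Idx R M, QQ R M i :=
  DFinsupp.lsingle (R := R) (M := fun i : Idx R M => QQ R M i) (idx y a h)
    (mkQQ y a h (Pi.single j 1))

theorem cov_gen {n m : ℕ} (y : Fin n → M) (a : Fin m → Fin n → R)
    (h : ∀ i, ∑ j, a i j • y j = 0) (j : Fin n) : cov R M (gen y a h j) = y j := by
  classical
  unfold cov gen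
  rw [DFinsupp.lsingle_apply, DFinsupp.lsum_single, idx_map_mkQQ,
    Fintype.linearCombination_apply]
  simp [Pi.single_apply]

theorem sum_smul_gen {n m : ℕ} (y : Fin n → M) (a : Fin m → Fin n → R)
    (h : ∀ i, ∑ j, a i j • y j = 0) (i : Fin m) : ∑ j, a i j • gen y a h j = 0 := by
  classical
  unfold gen
  simp only [← map_smul, ← map_sum]
  have : (∑ j, a i j • (Pi.single j (1 : R) : Fin n → R)) = a i := by
    ext k
    simp [Finset.sum_apply, Pi.single_apply]
  rw [this, mkQQ_row, map_zero]

theorem cov_surjective : Function.Surjective (cov R M) := by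
  intro m₀
  refine ⟨gen (fun _ : Fin 1 => m₀) (fun i : Fin 0 => i.elim0) (fun i => i.elim0) 0, ?_⟩
  rw [cov_gen]

theorem cov_equational : Equational (M₁ := LinearMap.ker (cov R M))
    (M₂ := Π₀ i : Idx R M, QQ R M i) (LinearMap.ker (cov R M)).subtype := by
  intro n m x y a hxy
  have hrel : ∀ i, ∑ j, a i j • cov R M (y j) = 0 := by
    intro i
    have := congr_arg (cov R M) (hxy i)
    rw [Submodule.subtype_apply, LinearMap.mem_ker.1 (x i).2, map_sum] at this
    simp only [map_smul] at this
    exact this.symm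
  refine ⟨fun j => ⟨y j - gen (fun j => cov R M (y j)) a hrel j, ?_⟩, fun i => ?_⟩
  · rw [LinearMap.mem_ker, map_sub, cov_gen, sub_self]
  · apply Subtype.ext
    rw [Submodule.coe_sum]
    simp only [Submodule.coe_smul, smul_sub, Finset.sum_sub_distrib]
    rw [sum_smul_gen, sub_zero]
    exact hxy i

end cover

end Groth.Agent.Helper13Pure
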