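import Mathlib

set_option autoImplicit false

open TensorProduct

namespace Groth.Agent.Lib.Helper22.AssFlatBC

universe u v

section Abstract

variable {F : Type*} {F' : Type*} [CommRing F] [CommRing F'] [Algebra F F']
  [IsNoetherianRing F] [IsNoetherianRing F'] [Module.Flat F F']
  {M : Type*} {M' : Type*} [AddCommGroup M] [Module F M] [AddCommGroup M'] [Module F' M'] [Module F M']
  [IsScalarTower F F' M']

/-- Associated primes lift along a flat base change `F → F'`, provided the prime survives. -/
theorem exists_ass_comap_eq (g : M →ₗ[F] M') (hg : IsBaseChange F' g)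
    (P : Ideal F) (hP : P ∈ associatedPrimes F M) (hne : Nontrivial (F' ⊗[F] (F ⧸ P))) :
    ∃ Q ∈ associatedPrimes F' M', Q.comap (algebraMap F F') = P := by
  have hPprime : P.IsPrime := hP.1
  obtain ⟨_, j, hj⟩ := (isAssociatedPrime_iff_exists_injective_linearMap P M).mp hP
  -- the injection `F' ⊗ (F/P) → F' ⊗ M ≃ M'`
  have hinj1 : Function.Injective (j.lTensor F') :=
    Module.Flat.lTensor_preserves_injective_linearMap j hj
  let ι : F' ⊗[F] (F ⧸ P) →ₗ[F'] M' :=
    hg.equiv.toLinearMap ∘ₗ (TensorProduct.AlgebraTensorModule.lTensor F' F' j)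
  have hι : Function.Injective ι := by
    intro x y hxy
    apply hinj1
    exact hg.equiv.injective hxy
  have hkill : ∀ a ∈ P, ∀ m : F' ⊗[F] (F ⧸ P), a • m = 0 := by
    intro a ha m
    induction m using TensorProduct.induction_on with
    | zero => rw [smul_zero]
    | tmul x y =>
      obtain ⟨y, rfl⟩ := Ideal.Quotient.mk_surjective y
      rw [TensorProduct.smul_tmul', TensorProduct.smul_tmul, Algebra.smul_def,
        Ideal.Quotient.algebraMap_eq, ← map_mul, Ideal.Quotient.eq_zero_iff_mem.mpr
        (Ideal.mul_mem_right _ _ ha), TensorProduct.tmul_zero]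
    | add x y hx hy => rw [smul_add, hx, hy, add_zero]
  obtain ⟨Q, hQ⟩ := associatedPrimes.nonempty F' (F' ⊗[F] (F ⧸ P))
  refine ⟨Q, associatedPrimes.subset_of_injective hι hQ, ?_⟩
  have hQprime : Q.IsPrime := hQ.1
  obtain ⟨_, m, hm⟩ := hQ
  have hm0 : m ≠ 0 := by
    intro h0
    apply hQprime.ne_top
    rw [hm, h0, Ideal.eq_top_iff_one]
    apply Ideal.le_radical
    rw [Submodule.mem_colon_singleton, smul_zero]
    exact Submodule.zero_mem _
  ext a
  rw [Ideal.mem_comap]
  constructor
  · intro ha
    by_contra haP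
    -- `a` is regular on `F/P`, hence on `F' ⊗ F/P`
    have hreg : IsSMulRegular (F ⧸ P) a := by
      intro x y hxy
      obtain ⟨x, rfl⟩ := Ideal.Quotient.mk_surjective x
      obtain ⟨y, rfl⟩ := Ideal.Quotient.mk_surjective y
      simp only [Algebra.smul_def, Ideal.Quotient.algebraMap_eq, ← map_mul] at hxy
      rw [Ideal.Quotient.eq, ← mul_sub] at hxy
      rw [Ideal.Quotient.eq]
      exact (hPprime.mem_or_mem hxy).resolve_left haP
    have hreg' : IsSMulRegular (F' ⊗[F] (F ⧸ P)) a := hreg.lTensor F'
    rw [hm] at ha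
    obtain ⟨n, hn⟩ := ha
    rw [Submodule.mem_colon_singleton, Submodule.mem_bot, ← map_pow, algebraMap_smul] at hn
    exact hm0 ((hreg'.pow n) (hn.trans (smul_zero _).symm))
  · intro ha
    rw [hm]
    apply Ideal.le_radical
    rw [Submodule.mem_colon_singleton, Submodule.mem_bot, algebraMap_smul]
    exact hkill a ha m

end Abstract

end Groth.Agent.Lib.Helper22.AssFlatBC
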