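import Mathlib

/-!
# Regular sequences on localized fibres: saturation calculus and basic isomorphisms
(helper22, for S2586)
-/

set_option autoImplicit false

open scoped Pointwise

namespace Groth.Agent.Lib.Helper22.RegFib

section Sat

variable {S : Type*} [CommRing S] {M : Type*} [AddCommGroup M] [Module S M]

/-- Saturation of a submodule with respect to a submonoid of the ring. -/
def sat (T : Submonoid S) (K : Submodule S M) : Submodule S M where
  carrier := {x | ∃ s ∈ T, s • x ∈ K}
  add_mem' := by
    rintro a b ⟨s, hs, ha⟩ ⟨t, ht, hb⟩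
    refine ⟨s * t, T.mul_mem hs ht, ?_⟩
    rw [smul_add]
    refine K.add_mem ?_ ?_
    · rw [mul_comm, mul_smul]; exact K.smul_mem t ha
    · rw [mul_smul]; exact K.smul_mem s hb
  zero_mem' := ⟨1, T.one_mem, by simp⟩
  smul_mem' := by
    rintro c x ⟨s, hs, hx⟩
    exact ⟨s, hs, by rw [smul_comm]; exact K.smul_mem c hx⟩

theorem mem_sat {T : Submonoid S} {K : Submodule S M} {x : M} :
    x ∈ sat T K ↔ ∃ s ∈ T, s • x ∈ K := Iff.rfl

theorem le_sat (T : Submonoid S) (K : Submodule S M) : K ≤ sat T K :=
  fun x hx => ⟨1, T.one_mem, by rwa [one_smul]⟩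

theorem smul_mem_sat_iff {T : Submonoid S} {K : Submodule S M} {t : S} (ht : t ∈ T) {x : M} :
    t • x ∈ sat T K ↔ x ∈ sat T K := by
  constructor
  · rintro ⟨s, hs, h⟩
    exact ⟨s * t, T.mul_mem hs ht, by rwa [mul_smul]⟩
  · intro h
    exact (sat T K).smul_mem t h

theorem mk_eq_zero_iff (T : Submonoid S) (x : M) (s : T) :
    LocalizedModule.mk x s = 0 ↔ x ∈ sat T (⊥ : Submodule S M) := by
  rw [← LocalizedModule.zero_mk s, LocalizedModule.mk_eq]
  constructor
  · rintro ⟨u, hu⟩
    refine ⟨u * s, T.mul_mem u.2 s.2, ?_⟩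
    rw [Submodule.mem_bot, mul_smul]
    simpa [Submonoid.smul_def] using hu
  · rintro ⟨t, ht, h⟩
    rw [Submodule.mem_bot] at h
    refine ⟨⟨t, ht⟩, ?_⟩
    simp only [smul_zero]
    rw [Submonoid.mk_smul, smul_comm, h, smul_zero]

theorem isSMulRegular_localizedModule_iff (T : Submonoid S) (g : S) :
    IsSMulRegular (LocalizedModule T M) g ↔
      ∀ x : M, g • x ∈ sat T (⊥ : Submodule S M) → x ∈ sat T (⊥ : Submodule S M) := by
  constructor
  · intro h x hx
    rw [← mk_eq_zero_iff T _ 1] at hx ⊢
    apply h
    simp only [smul_zero]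
    rw [LocalizedModule.smul'_mk]
    exact hx
  · intro h
    rw [isSMulRegular_iff_right_eq_zero_of_smul]
    intro z hz
    induction z using LocalizedModule.induction_on with
    | h x s =>
      rw [LocalizedModule.smul'_mk] at hz
      rw [mk_eq_zero_iff] at hz ⊢
      exact h x hz

end Sat

section Isos

variable {S : Type*} [CommRing S] {M : Type*} [AddCommGroup M] [Module S M]

theorem exact_lsmul_mkQ (g : S) (M : Type*) [AddCommGroup M] [Module S M] :
    Function.Exact (LinearMap.lsmul S M g) (Submodule.mkQ (g • (⊤ : Submodule S M))) := by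
  intro m
  rw [Submodule.mkQ_apply, Submodule.Quotient.mk_eq_zero, Submodule.mem_smul_pointwise_iff_exists]
  constructor
  · rintro ⟨m₀, -, h⟩
    exact ⟨m₀, h⟩
  · rintro ⟨m₀, h⟩
    exact ⟨m₀, Submodule.mem_top, h⟩

theorem range_lsmul (g : S) (M : Type*) [AddCommGroup M] [Module S M] :
    LinearMap.range (LinearMap.lsmul S M g) = g • (⊤ : Submodule S M) := by
  ext m
  rw [Submodule.mem_smul_pointwise_iff_exists]
  constructor
  · rintro ⟨m₀, h⟩
    exact ⟨m₀, Submodule.mem_top, h⟩
  · rintro ⟨m₀, -, h⟩
    exact ⟨m₀, h⟩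

theorem map_lsmul (T : Submonoid S) (g : S) (M : Type*) [AddCommGroup M] [Module S M] :
    IsLocalizedModule.map T (LocalizedModule.mkLinearMap T M) (LocalizedModule.mkLinearMap T M)
      (LinearMap.lsmul S M g) = LinearMap.lsmul S (LocalizedModule T M) g := by
  apply IsLocalizedModule.linearMap_ext T (LocalizedModule.mkLinearMap T M)
    (LocalizedModule.mkLinearMap T M)
  ext x
  simp only [LinearMap.coe_comp, Function.comp_apply, IsLocalizedModule.map_apply,
    LinearMap.lsmul_apply, map_smul]

/-- Localization commutes with `QuotSMulTop`. -/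
noncomputable def quotSMulTopLocalizedEquiv (T : Submonoid S) (g : S) (M : Type*) [AddCommGroup M]
    [Module S M] :
    QuotSMulTop g (LocalizedModule T M) ≃ₗ[S] LocalizedModule T (QuotSMulTop g M) :=
  have hex := LocalizedModule.map_exact T _ _ (exact_lsmul_mkQ g M)
  have hsurj := IsLocalizedModule.map_surjective T (LocalizedModule.mkLinearMap T M)
    (LocalizedModule.mkLinearMap T (QuotSMulTop g M)) _ (Submodule.mkQ_surjective (g • (⊤ : Submodule S M)))
  have hrange : g • (⊤ : Submodule S (LocalizedModule T M)) =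
      LinearMap.range (IsLocalizedModule.map T (LocalizedModule.mkLinearMap T M)
        (LocalizedModule.mkLinearMap T M) (LinearMap.lsmul S M g)) := by
    rw [map_lsmul, range_lsmul]
  (Submodule.quotEquivOfEq _ _ hrange).trans (hex.linearEquivOfSurjective hsurj)

/-- Localization of a linear equivalence. -/
noncomputable def localizedCongr (T : Submonoid S) {M' : Type*} [AddCommGroup M'] [Module S M']
    (e : M ≃ₗ[S] M') : LocalizedModule T M ≃ₗ[S] LocalizedModule T M' :=
  (IsLocalizedModule.mapEquiv T (LocalizedModule.mkLinearMap T M)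
    (LocalizedModule.mkLinearMap T M') (Localization T) e).restrictScalars S

/-- Third isomorphism theorem for `QuotSMulTop` followed by an ideal quotient. -/
noncomputable def quotInsertEquiv (g : S) (X : Set S) (M : Type*) [AddCommGroup M] [Module S M] :
    (M ⧸ (Ideal.span (insert g X) • (⊤ : Submodule S M))) ≃ₗ[S]
      (QuotSMulTop g M ⧸ (Ideal.span X • (⊤ : Submodule S (QuotSMulTop g M)))) := by
  have hle : g • (⊤ : Submodule S M) ≤ Ideal.span (insert g X) • (⊤ : Submodule S M) := by
    rw [← Submodule.ideal_span_singleton_smul]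
    exact Submodule.smul_mono_left (Ideal.span_mono (by simp))
  have hmap : (Ideal.span (insert g X) • (⊤ : Submodule S M)).map (g • (⊤ : Submodule S M)).mkQ =
      Ideal.span X • (⊤ : Submodule S (QuotSMulTop g M)) := by
    rw [Submodule.map_smul'', Submodule.map_top, Submodule.range_mkQ]
    apply le_antisymm
    · rw [Submodule.smul_le]
      intro r hr n _
      rw [Set.insert_eq, Ideal.span_union, Submodule.mem_sup] at hr
      obtain ⟨a, ha, b, hb, rfl⟩ := hr
      rw [add_smul]
      refine Submodule.add_mem _ ?_ (Submodule.smul_mem_smul hb Submodule.mem_top)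
      obtain ⟨c, rfl⟩ := Ideal.mem_span_singleton'.mp ha
      obtain ⟨m, rfl⟩ := Submodule.Quotient.mk_surjective _ n
      have : (c * g) • (Submodule.Quotient.mk m : QuotSMulTop g M) = 0 := by
        rw [← Submodule.Quotient.mk_smul, Submodule.Quotient.mk_eq_zero, mul_comm, mul_smul]
        exact Submodule.smul_mem_pointwise_smul _ _ _ Submodule.mem_top
      rw [this]
      exact Submodule.zero_mem _
    · exact Submodule.smul_mono_left (Ideal.span_mono (Set.subset_insert _ _))
  exact (Submodule.quotientQuotientEquivQuotient _ _ hle).symm.trans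
    (Submodule.quotEquivOfEq _ _ hmap)

end Isos

end Groth.Agent.Lib.Helper22.RegFib
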