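import Groth.Agent.Lib.Helper28DepthFlat3

/-!
# Depth library, part 15 (helper28): regular elements/sequences on the closed fibre of a flat
local homomorphism lift (`depth_I (N / m_R N) ≤ depth_I N`).
-/

set_option autoImplicit false
universe u u' v w
open RingTheory.Sequence TensorProduct
open scoped Pointwise

namespace Groth.Agent.Lib.Helper28

section FibreDepthLift

variable {R S : Type u} [CommRing R] [CommRing S] [IsLocalRing R] [IsLocalRing S]
  [IsNoetherianRing R] [IsNoetherianRing S] [Algebra R S] [IsLocalHom (algebraMap R S)]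

/-- If `y` is regular on the closed fibre `N / m_R N` then `y` is regular on `N`. -/
theorem isSMulRegular_of_isSMulRegular_quotient {N : Type v} [AddCommGroup N] [Module S N]
    [Module R N] [IsScalarTower R S N] [Module.Finite S N] [Module.Flat R N] (y : S)
    (hy : IsSMulRegular (N ⧸ ((IsLocalRing.maximalIdeal R).map (algebraMap R S) • ⊤ :
      Submodule S N)) y) : IsSMulRegular N y := by
  have h := rTensor_ymap_injective_of_finite y (rTensor_ymap_injective_quotient _ y hy) R
  intro a b hab
  have h1 : (ymap R N y).rTensor R ((TensorProduct.rid R N).symm a) =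
      (ymap R N y).rTensor R ((TensorProduct.rid R N).symm b) := by
    simp only [TensorProduct.rid_symm_apply, LinearMap.rTensor_tmul, ymap_apply]
    exact congrArg (· ⊗ₜ[R] (1 : R)) hab
  exact (TensorProduct.rid R N).symm.injective (h h1)

/-- Regular sequences on the closed fibre lift: `depth_I (N / m_R N) ≤ depth_I N`. -/
theorem natCast_le_idealDepth_of_le_idealDepth_fibre (I : Ideal S)
    (hI : I ≤ IsLocalRing.maximalIdeal S) (n : ℕ) :
    ∀ (N : Type u) [AddCommGroup N] [Module S N] [Module R N] [IsScalarTower R S N]
      [Module.Finite S N] [Module.Flat R N],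
      (n : ℕ∞) ≤ LocCoh.idealDepth I (N ⧸ ((IsLocalRing.maximalIdeal R).map (algebraMap R S) • ⊤ :
        Submodule S N)) → (n : ℕ∞) ≤ LocCoh.idealDepth I N := by
  induction n with
  | zero => intro N _ _ _ _ _ _ _; simp
  | succ n ih =>
    intro N _ _ _ _ _ _ h
    by_cases hN : Subsingleton N
    · rw [idealDepth_eq_top_of_subsingleton]; exact le_top
    rw [not_subsingleton_iff_nontrivial] at hN
    have hF : Nontrivial (N ⧸ ((IsLocalRing.maximalIdeal R).map (algebraMap R S) • ⊤ :
        Submodule S N)) := by
      rw [Submodule.Quotient.nontrivial_iff]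
      exact smul_top_ne_top_of_le_maximalIdeal
        (IsLocalRing.map_maximalIdeal_le (algebraMap R S))
    have hFtop := smul_top_ne_top_of_le_maximalIdeal (R := S)
      (M := N ⧸ ((IsLocalRing.maximalIdeal R).map (algebraMap R S) • ⊤ : Submodule S N)) hI
    have hNtop := smul_top_ne_top_of_le_maximalIdeal (R := S) (M := N) hI
    have h1 : 1 ≤ LocCoh.idealDepth I (N ⧸ ((IsLocalRing.maximalIdeal R).map
        (algebraMap R S) • ⊤ : Submodule S N)) :=
      le_trans (by exact_mod_cast Nat.succ_le_succ (Nat.zero_le n)) h
    obtain ⟨y, hy, hyreg⟩ := (one_le_idealDepth_iff hFtop).mp h1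
    have hflat := flat_quotSMulTop_of_isSMulRegular_quotient (R := R) y hyreg
    have hd1 := idealDepth_quotSMulTop_add_one I _ hFtop y hy hyreg
    have hd2 : (n : ℕ∞) ≤ LocCoh.idealDepth I (QuotSMulTop y N ⧸
        ((IsLocalRing.maximalIdeal R).map (algebraMap R S) • ⊤ :
          Submodule S (QuotSMulTop y N))) := by
      rw [idealDepth_congr (quotSMulTopQuotEquiv y _)]
      rw [← hd1, Nat.cast_succ] at h
      exact (ENat.add_le_add_iff_right ENat.one_ne_top).mp h
    have hd3 := ih (QuotSMulTop y N) hd2
    have hyreg' : IsSMulRegular N y := isSMulRegular_of_isSMulRegular_quotient (R := R) y hyreg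
    have hd4 := idealDepth_quotSMulTop_add_one I N hNtop y hy hyreg'
    rw [← hd4, Nat.cast_succ]
    exact add_le_add_left hd3 1

end FibreDepthLift

end Groth.Agent.Lib.Helper28
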