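import Mathlib
import Groth.Agent.Lib.Helper22RegFib1
import Groth.Agent.Lib.Helper28DepthFlat4

/-!
# Regular elements on localized fibres: the Noetherian local step (helper22, for S2586)
-/

set_option autoImplicit false
set_option linter.style.haveILetI false

open scoped Pointwise

namespace Groth.Agent.Lib.Helper22.RegFib

universe u

section LocSmul

variable {S : Type*} [CommRing S] {M : Type*} [AddCommGroup M] [Module S M]

theorem mk_mem_localized'_iff (T : Submonoid S) (K : Submodule S M) (x : M) (s : T) :
    LocalizedModule.mk x s ∈ K.localized' (Localization T) T (LocalizedModule.mkLinearMap T M) ↔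
      x ∈ sat T K := by
  rw [Submodule.mem_localized']
  constructor
  · rintro ⟨m, hm, s', h⟩
    rw [← IsLocalizedModule.mk_eq_mk', LocalizedModule.mk_eq] at h
    obtain ⟨u, hu⟩ := h
    refine ⟨(u : S) * (s' : S), T.mul_mem u.2 s'.2, ?_⟩
    have h2 : (u : S) • (s' : S) • x = (u : S) • (s : S) • m := by
      simpa only [Submonoid.smul_def] using hu.symm
    rw [mul_smul, h2]
    exact K.smul_mem _ (K.smul_mem _ hm)
  · rintro ⟨t, ht, h⟩
    refine ⟨t • x, h, ⟨t, ht⟩ * s, ?_⟩
    rw [← IsLocalizedModule.mk_eq_mk', LocalizedModule.mk_eq]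
    refine ⟨1, ?_⟩
    simp only [one_smul, Submonoid.smul_def, mul_smul]
    rw [smul_comm]

theorem mk_mem_map_smul_top_iff (T : Submonoid S) (I : Ideal S) (x : M) (s : T) :
    LocalizedModule.mk x s ∈ (I.map (algebraMap S (Localization T)) •
        (⊤ : Submodule (Localization T) (LocalizedModule T M))) ↔
      x ∈ sat T (I • (⊤ : Submodule S M)) := by
  have h1 : I.map (algebraMap S (Localization T)) •
      (⊤ : Submodule (Localization T) (LocalizedModule T M)) =
      (I • (⊤ : Submodule S M)).localized' (Localization T) T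
        (LocalizedModule.mkLinearMap T M) := by
    rw [Submodule.localized'_smul, Submodule.localized'_top, Submodule.localized'_eq_span]
    rfl
  rw [h1, mk_mem_localized'_iff]

end LocSmul

section NL

variable {A₀ P₀ : Type u} [CommRing A₀] [CommRing P₀] [Algebra A₀ P₀]
    [IsNoetherianRing A₀] [IsNoetherianRing P₀]
    (N₀ : Type u) [AddCommGroup N₀] [Module P₀ N₀] [Module A₀ N₀] [IsScalarTower A₀ P₀ N₀]
    [Module.Finite P₀ N₀] (q₀ : Ideal P₀) [q₀.IsPrime] (g₀ : P₀)

theorem noeth_local
    (hflat : Module.Flat A₀ (LocalizedModule q₀.primeCompl N₀))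
    (hreg : ∀ x : N₀,
      g₀ • x ∈ sat q₀.primeCompl (((q₀.comap (algebraMap A₀ P₀)).map (algebraMap A₀ P₀)) •
        (⊤ : Submodule P₀ N₀)) →
      x ∈ sat q₀.primeCompl (((q₀.comap (algebraMap A₀ P₀)).map (algebraMap A₀ P₀)) •
        (⊤ : Submodule P₀ N₀))) :
    IsSMulRegular (LocalizedModule q₀.primeCompl N₀) g₀ ∧
      Module.Flat A₀ (QuotSMulTop g₀ (LocalizedModule q₀.primeCompl N₀)) := by
  set p₀ : Ideal A₀ := q₀.comap (algebraMap A₀ P₀) with hp₀
  letI : Algebra (Localization.AtPrime p₀) (Localization.AtPrime q₀) :=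
    (Localization.localRingHom p₀ q₀ (algebraMap A₀ P₀) rfl).toAlgebra
  haveI : IsLocalHom (algebraMap (Localization.AtPrime p₀) (Localization.AtPrime q₀)) :=
    Localization.isLocalHom_localRingHom p₀ q₀ (algebraMap A₀ P₀) rfl
  haveI : IsScalarTower A₀ (Localization.AtPrime p₀) (Localization.AtPrime q₀) :=
    IsScalarTower.of_algebraMap_eq (fun a => by
      rw [RingHom.algebraMap_toAlgebra, Localization.localRingHom_to_map,
        ← IsScalarTower.algebraMap_apply])
  letI : Module (Localization.AtPrime p₀) (LocalizedModule q₀.primeCompl N₀) :=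
    Module.compHom _ (algebraMap (Localization.AtPrime p₀) (Localization.AtPrime q₀))
  haveI : IsScalarTower (Localization.AtPrime p₀) (Localization.AtPrime q₀)
      (LocalizedModule q₀.primeCompl N₀) :=
    ⟨fun a b x => by
      change (a • b) • x = algebraMap _ (Localization.AtPrime q₀) a • (b • x)
      rw [Algebra.smul_def, mul_smul]⟩
  haveI : IsScalarTower A₀ (Localization.AtPrime p₀) (LocalizedModule q₀.primeCompl N₀) :=
    ⟨fun a b x => by
      change algebraMap _ (Localization.AtPrime q₀) (a • b) • x =
        a • (algebraMap _ (Localization.AtPrime q₀) b • x)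
      rw [Algebra.smul_def, map_mul, mul_smul, ← IsScalarTower.algebraMap_apply,
        algebraMap_smul]⟩
  haveI : Module.Flat (Localization.AtPrime p₀) (LocalizedModule q₀.primeCompl N₀) :=
    (Module.flat_iff_of_isLocalization (Localization.AtPrime p₀) p₀.primeCompl _).mpr hflat
  have hK : (IsLocalRing.maximalIdeal (Localization.AtPrime p₀)).map
      (algebraMap _ (Localization.AtPrime q₀)) =
      (p₀.map (algebraMap A₀ P₀)).map (algebraMap P₀ (Localization.AtPrime q₀)) := by
    rw [← Localization.AtPrime.map_eq_maximalIdeal, Ideal.map_map, Ideal.map_map]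
    congr 1
    ext a
    simp only [RingHom.coe_comp, Function.comp_apply, ← IsScalarTower.algebraMap_apply]
  have hy : IsSMulRegular (LocalizedModule q₀.primeCompl N₀ ⧸
      ((IsLocalRing.maximalIdeal (Localization.AtPrime p₀)).map
        (algebraMap _ (Localization.AtPrime q₀)) • ⊤ :
        Submodule (Localization.AtPrime q₀) (LocalizedModule q₀.primeCompl N₀)))
      (algebraMap P₀ (Localization.AtPrime q₀) g₀) := by
    rw [isSMulRegular_on_quot_iff_lsmul_comap_le, hK]
    intro z hz
    rw [Submodule.mem_comap, LinearMap.lsmul_apply] at hz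
    induction z using LocalizedModule.induction_on with
    | h x s =>
      rw [algebraMap_smul, LocalizedModule.smul'_mk, mk_mem_map_smul_top_iff] at hz
      rw [mk_mem_map_smul_top_iff]
      exact hreg x hz
  have h1 := Groth.Agent.Lib.Helper28.isSMulRegular_of_isSMulRegular_quotient
    (R := Localization.AtPrime p₀) (algebraMap P₀ (Localization.AtPrime q₀) g₀) hy
  have h2 := Groth.Agent.Lib.Helper28.flat_quotSMulTop_of_isSMulRegular_quotient
    (R := Localization.AtPrime p₀) (algebraMap P₀ (Localization.AtPrime q₀) g₀) hy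
  refine ⟨(isSMulRegular_algebraMap_iff (Localization.AtPrime q₀)).mp h1, ?_⟩
  have h3 : Module.Flat A₀ (QuotSMulTop (algebraMap P₀ (Localization.AtPrime q₀) g₀)
      (LocalizedModule q₀.primeCompl N₀)) :=
    (Module.flat_iff_of_isLocalization (Localization.AtPrime p₀) p₀.primeCompl _).mp h2
  have hKK : ((algebraMap P₀ (Localization.AtPrime q₀) g₀) •
      (⊤ : Submodule (Localization.AtPrime q₀) (LocalizedModule q₀.primeCompl N₀))).restrictScalars A₀ =
      (g₀ • (⊤ : Submodule P₀ (LocalizedModule q₀.primeCompl N₀))).restrictScalars A₀ := by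
    ext z
    simp only [Submodule.restrictScalars_mem, Submodule.mem_smul_pointwise_iff_exists,
      Submodule.mem_top, true_and, algebraMap_smul]
  exact Module.Flat.of_linearEquiv
    ((Submodule.Quotient.restrictScalarsEquiv A₀ _).symm ≪≫ₗ
      (Submodule.quotEquivOfEq _ _ hKK.symm) ≪≫ₗ
      (Submodule.Quotient.restrictScalarsEquiv A₀ _))

end NL

end Groth.Agent.Lib.Helper22.RegFib
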