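import Mathlib
import Groth.Agent.Lib.Helper22RegFib2
import Groth.Agent.Lib.Helper3FlatBC

/-!
# Regular elements on localized fibres: descent of the fibre condition along a base change
(helper22, for S2586)
-/

set_option autoImplicit false
set_option linter.style.haveILetI false

open scoped Pointwise TensorProduct

namespace Groth.Agent.Lib.Helper22.RegFib

open Groth.Agent.Lib.Helper3.FlatLoc

universe u

theorem exists_functional {k₀ k Ω : Type*} [Field k₀] [Field k] [Field Ω] [Algebra k₀ k]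
    (ψ : k →+* Ω) {ι : Type*} (F : Finset ι) (ω : ι → Ω) (c : ι → k)
    (h : ∑ i ∈ F, ω i * ψ (c i) ≠ 0) :
    ∃ ρ : k →ₗ[k₀] k₀, ∑ i ∈ F, ω i * ψ (algebraMap k₀ k (ρ (c i))) ≠ 0 := by
  classical
  by_contra H
  push Not at H
  apply h
  let b := Module.Basis.ofVectorSpace k₀ k
  let L : Finset (Module.Basis.ofVectorSpaceIndex k₀ k) :=
    F.biUnion fun i => (b.repr (c i)).support
  have hc : ∀ i ∈ F, c i = ∑ l ∈ L, algebraMap k₀ k (b.coord l (c i)) * b l := by
    intro i hi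
    conv_lhs => rw [← b.linearCombination_repr (c i), Finsupp.linearCombination_apply]
    rw [Finsupp.sum_of_support_subset (s := L) _ (Finset.subset_biUnion_of_mem
      (fun i => (b.repr (c i)).support) hi) _ (fun l _ => by simp)]
    refine Finset.sum_congr rfl fun l _ => ?_
    rw [Algebra.smul_def, Module.Basis.coord_apply]
  calc ∑ i ∈ F, ω i * ψ (c i)
      = ∑ i ∈ F, ω i * ψ (∑ l ∈ L, algebraMap k₀ k (b.coord l (c i)) * b l) :=
        Finset.sum_congr rfl fun i hi => by rw [← hc i hi]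
    _ = ∑ l ∈ L, ψ (b l) * ∑ i ∈ F, ω i * ψ (algebraMap k₀ k (b.coord l (c i))) := by
        simp only [map_sum, map_mul, Finset.mul_sum]
        rw [Finset.sum_comm]
        refine Finset.sum_congr rfl fun l _ => Finset.sum_congr rfl fun i _ => ?_
        ring
    _ = 0 := by
        refine Finset.sum_eq_zero fun l _ => ?_
        rw [H (b.coord l), mul_zero]


section Frac

variable {A₀ : Type*} [CommRing A₀] (p₀ : Ideal A₀) [p₀.IsPrime]

theorem exists_smul_eq_algebraMap (c : p₀.ResidueField) :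
    ∃ a ∈ p₀.primeCompl, ∃ b : A₀, a • c = algebraMap A₀ p₀.ResidueField b := by
  obtain ⟨y, rfl⟩ := IsLocalRing.residue_surjective c
  obtain ⟨⟨b, a⟩, h⟩ := IsLocalization.surj p₀.primeCompl y
  refine ⟨a, a.2, b, ?_⟩
  simp only at h
  rw [Algebra.smul_def, IsScalarTower.algebraMap_apply A₀ (Localization.AtPrime p₀) p₀.ResidueField,
    IsScalarTower.algebraMap_apply A₀ (Localization.AtPrime p₀) p₀.ResidueField b, ← h,
    IsLocalRing.ResidueField.algebraMap_eq, map_mul, mul_comm]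

theorem exists_smul_eq_tmul_one {P₀ : Type*} [AddCommGroup P₀] [Module A₀ P₀]
    (j : P₀ ⊗[A₀] p₀.ResidueField) :
    ∃ a ∈ p₀.primeCompl, ∃ s₀ : P₀, a • j = s₀ ⊗ₜ[A₀] (1 : p₀.ResidueField) := by
  induction j using TensorProduct.induction_on with
  | zero => exact ⟨1, p₀.primeCompl.one_mem, 0, by simp⟩
  | tmul s c =>
    obtain ⟨a, ha, b, hb⟩ := exists_smul_eq_algebraMap p₀ c
    refine ⟨a, ha, b • s, ?_⟩
    rw [TensorProduct.smul_tmul', TensorProduct.smul_tmul, hb, TensorProduct.smul_tmul,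
      Algebra.algebraMap_eq_smul_one]
  | add j₁ j₂ h₁ h₂ =>
    obtain ⟨a₁, ha₁, s₁, h₁⟩ := h₁
    obtain ⟨a₂, ha₂, s₂, h₂⟩ := h₂
    refine ⟨a₁ * a₂, p₀.primeCompl.mul_mem ha₁ ha₂, a₂ • s₁ + a₁ • s₂, ?_⟩
    rw [smul_add, TensorProduct.add_tmul, mul_comm a₁ a₂, mul_smul, h₁, mul_comm a₂ a₁, mul_smul, h₂,
      TensorProduct.smul_tmul', TensorProduct.smul_tmul']

end Frac

section KLemma

variable {A₀ : Type*} [CommRing A₀] (p₀ : Ideal A₀) [p₀.IsPrime]

theorem exists_smul_mem_of_tmul_one_eq_zero {N₀ : Type*} [AddCommGroup N₀] [Module A₀ N₀]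
    (x : N₀) (h : x ⊗ₜ[A₀] (1 : p₀.ResidueField) = 0) :
    ∃ a ∈ p₀.primeCompl, a • x ∈ p₀ • (⊤ : Submodule A₀ N₀) := by
  have h1 := congrArg (bcMap (R := Localization.AtPrime p₀)
    (LocalizedModule.mkLinearMap p₀.primeCompl N₀) p₀.ResidueField) h
  rw [bcMap_tmul, map_zero] at h1
  have h1' : (LocalizedModule.mkLinearMap p₀.primeCompl N₀ x ⊗ₜ[Localization.AtPrime p₀]
      (Ideal.Quotient.mk (IsLocalRing.maximalIdeal (Localization.AtPrime p₀)) 1) :
      LocalizedModule p₀.primeCompl N₀ ⊗[Localization.AtPrime p₀]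
        (Localization.AtPrime p₀ ⧸ IsLocalRing.maximalIdeal (Localization.AtPrime p₀))) = 0 := h1
  have h2 := (TensorProduct.tensorQuotEquivQuotSMul (LocalizedModule p₀.primeCompl N₀)
    (IsLocalRing.maximalIdeal (Localization.AtPrime p₀))).map_eq_zero_iff.mpr h1'
  rw [TensorProduct.tensorQuotEquivQuotSMul_tmul_mk, one_smul, Submodule.Quotient.mk_eq_zero,
    ← Localization.AtPrime.map_eq_maximalIdeal, LocalizedModule.mkLinearMap_apply,
    mk_mem_map_smul_top_iff] at h2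
  exact h2

end KLemma

/-- the additive map `M ⊗[A] K → Ω`, `m ⊗ c ↦ χ m * ψ c`. -/
noncomputable def mulLift {A M K Ω : Type*} [CommRing A] [AddCommGroup M] [Module A M]
    [AddCommGroup K] [Module A K] [Ring Ω]
    (χ : M →+ Ω) (ψ : K →+ Ω) (h : ∀ (a : A) (m : M) (c : K), χ (a • m) * ψ c = χ m * ψ (a • c)) :
    M ⊗[A] K →+ Ω :=
  TensorProduct.liftAddHom (((AddMonoidHom.mul).comp χ).compl₂ ψ) (by
    intro a m c
    simpa using h a m c)

@[simp] theorem mulLift_tmul {A M K Ω : Type*} [CommRing A] [AddCommGroup M] [Module A M]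
    [AddCommGroup K] [Module A K] [Ring Ω]
    (χ : M →+ Ω) (ψ : K →+ Ω) (h : ∀ (a : A) (m : M) (c : K), χ (a • m) * ψ c = χ m * ψ (a • c))
    (m : M) (c : K) : mulLift χ ψ h (m ⊗ₜ[A] c) = χ m * ψ c := rfl

section FibreDescent

variable {A₀ R P₀ P : Type u} [CommRing A₀] [CommRing R] [CommRing P₀] [CommRing P]
  [Algebra A₀ R] [Algebra A₀ P₀] [Algebra A₀ P] [Algebra R P] [Algebra P₀ P]
  [IsScalarTower A₀ P₀ P] [IsScalarTower A₀ R P] [Algebra.IsPushout A₀ R P₀ P]
  {N₀ N : Type u} [AddCommGroup N₀] [AddCommGroup N] [Module P₀ N₀] [Module A₀ N₀]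
  [IsScalarTower A₀ P₀ N₀]
  [Module P N] [Module R N] [IsScalarTower R P N] [Module P₀ N] [IsScalarTower P₀ P N]
  [Module A₀ N] [IsScalarTower A₀ P₀ N] [IsScalarTower A₀ R N]

theorem smul_top_le_map_smul_top (p₀ : Ideal A₀) (y : N₀)
    (hy : y ∈ p₀ • (⊤ : Submodule A₀ N₀)) :
    y ∈ (p₀.map (algebraMap A₀ P₀)) • (⊤ : Submodule P₀ N₀) := by
  refine Submodule.smul_induction_on hy ?_ ?_
  · intro a ha n _
    rw [← algebraMap_smul P₀ a n]
    exact Submodule.smul_mem_smul (Ideal.mem_map_of_mem _ ha) Submodule.mem_top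
  · intro a b ha hb
    exact Submodule.add_mem _ ha hb

theorem fibre_descent (φ : N₀ →ₗ[P₀] N) (hφ : IsBaseChange P φ)
    (q : Ideal P) [q.IsPrime]
    {k Ω : Type u} [Field k] [Field Ω] [Algebra R k] [Algebra A₀ k] [IsScalarTower A₀ R k]
    (χ : P →+* Ω) (ψ : k →+* Ω) (hχ : RingHom.ker χ = q)
    (hcompat : ∀ r : R, χ (algebraMap R P r) = ψ (algebraMap R k r))
    (x : N₀) (t : P) (ht : t ∉ q) (h : t • (φ x ⊗ₜ[R] (1 : k)) = 0) :
    x ∈ sat (q.comap (algebraMap P₀ P)).primeCompl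
      ((((q.comap (algebraMap P₀ P)).comap (algebraMap A₀ P₀)).map (algebraMap A₀ P₀)) •
        (⊤ : Submodule P₀ N₀)) := by
  classical
  set q₀ : Ideal P₀ := q.comap (algebraMap P₀ P) with hq₀
  set p₀ : Ideal A₀ := q₀.comap (algebraMap A₀ P₀) with hp₀
  have hcompat₀ : ∀ a : A₀, ψ (algebraMap A₀ k a) = χ (algebraMap A₀ P a) := by
    intro a
    rw [IsScalarTower.algebraMap_apply A₀ R k, ← hcompat, ← IsScalarTower.algebraMap_apply]
  have hmemq : ∀ a : A₀, a ∈ p₀ ↔ algebraMap A₀ P a ∈ q := by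
    intro a
    rw [hp₀, hq₀, Ideal.mem_comap, Ideal.mem_comap, ← IsScalarTower.algebraMap_apply]
  have hker : ∀ a : A₀, algebraMap A₀ k a = 0 ↔ a ∈ p₀ := by
    intro a
    rw [← map_eq_zero_iff ψ ψ.injective, hcompat₀, ← RingHom.mem_ker, hχ, hmemq]
  let ι₀ : p₀.ResidueField →+* k := Ideal.ResidueField.lift p₀ (algebraMap A₀ k)
    (fun a ha => (hker a).mpr ha)
    (fun a ha => IsUnit.mk0 _ (fun h0 => ha ((hker a).mp h0)))
  letI : Algebra p₀.ResidueField k := ι₀.toAlgebra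
  haveI : IsScalarTower A₀ p₀.ResidueField k := IsScalarTower.of_algebraMap_eq (fun a =>
    (Ideal.ResidueField.lift_algebraMap p₀ (algebraMap A₀ k) _ _ a).symm)
  -- the linear maps
  let ν : P₀ →ₗ[A₀] N₀ := (LinearMap.toSpanSingleton P₀ N₀ x).restrictScalars A₀
  let νP : P →ₗ[R] N := (LinearMap.toSpanSingleton P N (φ x)).restrictScalars R
  have hN : IsBaseChange R (φ.restrictScalars A₀) := isBaseChange_restrictScalars_of_isPushout φ hφ
  have hP : IsBaseChange R ((IsScalarTower.toAlgHom A₀ P₀ P).toLinearMap) :=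
    Algebra.IsPushout.out
  have hbN := bcMap_bijective (φ.restrictScalars A₀) hN k
  have hbP := bcMap_bijective ((IsScalarTower.toAlgHom A₀ P₀ P).toLinearMap) hP k
  obtain ⟨τ, hτ⟩ := hbP.2 (t ⊗ₜ[R] (1 : k))
  have hsq : ∀ z : P₀ ⊗[A₀] k, bcMap (R := R) (φ.restrictScalars A₀) k (ν.rTensor k z) =
      νP.rTensor k (bcMap (R := R) ((IsScalarTower.toAlgHom A₀ P₀ P).toLinearMap) k z) := by
    intro z
    induction z using TensorProduct.induction_on with
    | zero => simp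
    | add a b ha hb => simp only [map_add, ha, hb]
    | tmul s c =>
      simp only [LinearMap.rTensor_tmul, bcMap_tmul, ν, νP, LinearMap.coe_restrictScalars,
        LinearMap.toSpanSingleton_apply, map_smul, AlgHom.toLinearMap_apply,
        IsScalarTower.coe_toAlgHom', algebraMap_smul]
  have hντ : ν.rTensor k τ = 0 := by
    apply hbN.1
    rw [hsq, hτ, map_zero, LinearMap.rTensor_tmul]
    simp only [νP, LinearMap.coe_restrictScalars, LinearMap.toSpanSingleton_apply]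
    rw [← TensorProduct.smul_tmul']
    exact h
  -- the evaluation maps to Ω
  let χ' : P₀ →+* Ω := χ.comp (algebraMap P₀ P)
  have hχ'a : ∀ (a : A₀) (s : P₀), χ' (a • s) = χ (algebraMap A₀ P a) * χ' s := by
    intro a s
    simp only [χ', RingHom.comp_apply, Algebra.smul_def, map_mul,
      ← IsScalarTower.algebraMap_apply]
  have hψa : ∀ (a : A₀) (c : k), ψ (a • c) = χ (algebraMap A₀ P a) * ψ c := by
    intro a c
    rw [Algebra.smul_def, map_mul, hcompat₀]
  let βk : P₀ ⊗[A₀] k →+ Ω := mulLift (A := A₀) χ'.toAddMonoidHom ψ.toAddMonoidHom (by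
    intro a s c
    simp only [RingHom.toAddMonoidHom_eq_coe, AddMonoidHom.coe_coe, hχ'a, hψa]
    ring)
  let βP : P ⊗[R] k →+ Ω := mulLift (A := R) χ.toAddMonoidHom ψ.toAddMonoidHom (by
    intro r s c
    simp only [RingHom.toAddMonoidHom_eq_coe, AddMonoidHom.coe_coe, Algebra.smul_def, map_mul,
      hcompat]
    ring)
  have hβ : ∀ z : P₀ ⊗[A₀] k,
      βP (bcMap (R := R) ((IsScalarTower.toAlgHom A₀ P₀ P).toLinearMap) k z) = βk z := by
    intro z
    induction z using TensorProduct.induction_on with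
    | zero => simp
    | add a b ha hb => simp only [map_add, ha, hb]
    | tmul s c => rfl
  have hβτ : βk τ ≠ 0 := by
    rw [← hβ, hτ]
    change χ t * ψ 1 ≠ 0
    rw [map_one, mul_one]
    intro h0
    exact ht (hχ ▸ (RingHom.mem_ker.mpr h0))
  -- expand τ as a finite sum and choose a functional
  obtain ⟨F, hF⟩ := TensorProduct.exists_finset τ
  have hsum : ∑ i ∈ F, χ' i.1 * ψ i.2 ≠ 0 := by
    have : βk τ = ∑ i ∈ F, χ' i.1 * ψ i.2 := by
      rw [hF, map_sum]
      rfl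
    rwa [← this]
  obtain ⟨ρ, hρ⟩ := exists_functional (k₀ := p₀.ResidueField) ψ F (fun i => χ' i.1)
    (fun i => i.2) hsum
  let ρA : k →ₗ[A₀] p₀.ResidueField := ρ.restrictScalars A₀
  let j : P₀ ⊗[A₀] p₀.ResidueField := ρA.lTensor P₀ τ
  let β₀ : P₀ ⊗[A₀] p₀.ResidueField →+ Ω := mulLift (A := A₀) χ'.toAddMonoidHom
    (ψ.comp ι₀).toAddMonoidHom (by
    intro a s c
    simp only [RingHom.toAddMonoidHom_eq_coe, AddMonoidHom.coe_coe, hχ'a, RingHom.comp_apply]
    rw [Algebra.smul_def, map_mul, map_mul]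
    have : ι₀ (algebraMap A₀ p₀.ResidueField a) = algebraMap A₀ k a :=
      Ideal.ResidueField.lift_algebraMap p₀ (algebraMap A₀ k) _ _ a
    rw [this, hcompat₀]
    ring)
  have hβ₀j : β₀ j ≠ 0 := by
    have : β₀ j = ∑ i ∈ F, χ' i.1 * ψ (algebraMap p₀.ResidueField k (ρ i.2)) := by
      simp only [j, hF, map_sum, LinearMap.lTensor_tmul]
      rfl
    rwa [this]
  have hνj : ν.rTensor p₀.ResidueField j = 0 := by
    simp only [j]
    rw [← LinearMap.comp_apply, LinearMap.rTensor_comp_lTensor, ← LinearMap.lTensor_comp_rTensor,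
      LinearMap.comp_apply, hντ, map_zero]
  obtain ⟨a, ha, s₀, hs₀⟩ := exists_smul_eq_tmul_one p₀ j
  have hβ₀a : ∀ z : P₀ ⊗[A₀] p₀.ResidueField, β₀ (a • z) = χ (algebraMap A₀ P a) * β₀ z := by
    intro z
    induction z using TensorProduct.induction_on with
    | zero => simp
    | add z₁ z₂ h₁ h₂ => rw [smul_add, map_add, map_add, h₁, h₂, mul_add]
    | tmul s c =>
      rw [TensorProduct.smul_tmul']
      change χ' (a • s) * _ = _ * (χ' s * _)
      rw [hχ'a, mul_assoc]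
  have hs₀q : s₀ ∉ q₀ := by
    intro hmem
    have h1 : β₀ (a • j) = χ' s₀ := by
      rw [hs₀]
      change χ' s₀ * ψ (ι₀ 1) = _
      rw [map_one, map_one, mul_one]
    have h2 : χ' s₀ = 0 := by
      have : algebraMap P₀ P s₀ ∈ RingHom.ker χ := by rw [hχ]; exact hmem
      exact RingHom.mem_ker.mp this
    rw [hβ₀a, h2] at h1
    rcases mul_eq_zero.mp h1 with h3 | h3
    · have : algebraMap A₀ P a ∈ q := by rw [← hχ]; exact RingHom.mem_ker.mpr h3
      exact ha ((hmemq a).mpr this)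
    · exact hβ₀j h3
  have hx0 : (s₀ • x) ⊗ₜ[A₀] (1 : p₀.ResidueField) = 0 := by
    have : ν.rTensor p₀.ResidueField (a • j) = 0 := by rw [map_smul, hνj, smul_zero]
    rw [hs₀, LinearMap.rTensor_tmul] at this
    exact this
  obtain ⟨a', ha', hmem⟩ := exists_smul_mem_of_tmul_one_eq_zero p₀ (s₀ • x) hx0
  refine ⟨algebraMap A₀ P₀ a' * s₀, ?_, ?_⟩
  · show algebraMap A₀ P₀ a' * s₀ ∉ q₀
    intro hmem'
    rcases (Ideal.IsPrime.mem_or_mem inferInstance hmem') with h3 | h3
    · exact ha' h3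
    · exact hs₀q h3
  · rw [mul_smul, algebraMap_smul]
    exact smul_top_le_map_smul_top p₀ _ hmem

end FibreDescent


end Groth.Agent.Lib.Helper22.RegFib
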