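import Mathlib
import Groth.Agent.Lib.Helper22RegFib3

/-!
# Regular elements on localized fibres: ascent along a base change and the abstract core
(helper22, for S2586)
-/

set_option autoImplicit false
set_option linter.style.haveILetI false
set_option linter.unusedSectionVars false

open scoped Pointwise TensorProduct

namespace Groth.Agent.Lib.Helper22.RegFib

open Groth.Agent.Lib.Helper3.FlatLoc Groth.Agent.Lib.Helper28

universe u

section Ascent

variable {A₀ R P₀ P : Type u} [CommRing A₀] [CommRing R] [CommRing P₀] [CommRing P]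
  [Algebra A₀ R] [Algebra A₀ P₀] [Algebra A₀ P] [Algebra R P] [Algebra P₀ P]
  [IsScalarTower A₀ P₀ P] [IsScalarTower A₀ R P] [Algebra.IsPushout A₀ R P₀ P]
  {N₀ N : Type u} [AddCommGroup N₀] [AddCommGroup N] [Module P₀ N₀] [Module A₀ N₀]
  [IsScalarTower A₀ P₀ N₀]
  [Module P N] [Module R N] [IsScalarTower R P N] [Module P₀ N] [IsScalarTower P₀ P N]
  [Module A₀ N] [IsScalarTower A₀ P₀ N] [IsScalarTower A₀ R N]

theorem ascent_flat (φ : N₀ →ₗ[P₀] N) (hφ : IsBaseChange P φ)
    (T₀ : Submonoid P₀) (T : Submonoid P) (hT : ∀ s ∈ T₀, algebraMap P₀ P s ∈ T) (g₀ : P₀)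
    (h2 : Module.Flat A₀ (QuotSMulTop g₀ (LocalizedModule T₀ N₀))) :
    Module.Flat R (LocalizedModule T (QuotSMulTop (algebraMap P₀ P g₀) N)) := by
  haveI : IsScalarTower A₀ P N := ⟨fun a p n => by
    rw [← algebraMap_smul R a p, ← algebraMap_smul R a (p • n), smul_assoc]⟩
  have h2' : Module.Flat A₀ (LocalizedModule T₀ (QuotSMulTop g₀ N₀)) :=
    Module.Flat.of_linearEquiv ((quotSMulTopLocalizedEquiv T₀ g₀ N₀).symm.restrictScalars A₀)
  let e := (QuotSMulTop.algebraMapTensorEquivTensorQuotSMulTop g₀ N₀ P).symm ≪≫ₗ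
    QuotSMulTop.congr ((algebraMap P₀ P) g₀) hφ.equiv
  let φ' : QuotSMulTop g₀ N₀ →ₗ[P₀] QuotSMulTop (algebraMap P₀ P g₀) N :=
    e.toLinearMap.restrictScalars P₀ ∘ₗ TensorProduct.mk P₀ P (QuotSMulTop g₀ N₀) 1
  have hφ' : IsBaseChange P φ' := IsBaseChange.of_equiv e (fun _ => by simp [φ'])
  have hφ'R := isBaseChange_restrictScalars_of_isPushout (A := A₀) (R := R) φ' hφ'
  exact flat_localizedModule_of_isBaseChange φ' hφ'R T₀ T hT h2'

theorem ascent (φ : N₀ →ₗ[P₀] N) (hφ : IsBaseChange P φ)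
    (T₀ : Submonoid P₀) (T : Submonoid P) (hT : ∀ s ∈ T₀, algebraMap P₀ P s ∈ T) (g₀ : P₀)
    (h1 : IsSMulRegular (LocalizedModule T₀ N₀) g₀)
    (h2 : Module.Flat A₀ (QuotSMulTop g₀ (LocalizedModule T₀ N₀))) :
    IsSMulRegular (LocalizedModule T N) (algebraMap P₀ P g₀) ∧
      Module.Flat R (LocalizedModule T (QuotSMulTop (algebraMap P₀ P g₀) N)) := by
  refine ⟨?_, ascent_flat φ hφ T₀ T hT g₀ h2⟩
  have hN : IsBaseChange R (φ.restrictScalars A₀) :=
    isBaseChange_restrictScalars_of_isPushout φ hφ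
  have hcomm : ∀ (r : R) (s : P₀) (m : N), r • s • m = s • r • m := by
    intro r s m
    rw [← algebraMap_smul P s m, ← algebraMap_smul P r, smul_smul, ← algebraMap_smul P s (r • m),
      ← algebraMap_smul P r m, smul_smul, mul_comm]
  -- the comparison map `N₀ ⊗ R → N`
  let ψ : N₀ ⊗[A₀] R →ₗ[A₀] N :=
    ((TensorProduct.rid R N).toLinearMap.restrictScalars A₀) ∘ₗ
      bcMap (R := R) (φ.restrictScalars A₀) R
  have hψbij : Function.Bijective ψ :=
    (TensorProduct.rid R N).bijective.comp (bcMap_bijective (φ.restrictScalars A₀) hN R)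
  have hψ : ∀ (s : P₀) (z : N₀ ⊗[A₀] R), ψ ((ymap A₀ N₀ s).rTensor R z) = s • ψ z := by
    intro s z
    induction z using TensorProduct.induction_on with
    | zero => simp
    | add a b ha hb => simp only [map_add, smul_add, ha, hb]
    | tmul n r =>
      simp only [ψ, LinearMap.rTensor_tmul, ymap_apply, LinearMap.coe_comp,
        LinearMap.coe_restrictScalars, LinearEquiv.coe_coe, Function.comp_apply, bcMap_tmul,
        TensorProduct.rid_tmul, map_smul]
      exact hcomm r s (φ n)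
  have key : ∀ y : N, (algebraMap P₀ P g₀) • y = 0 → ∃ t₀ ∈ T₀, t₀ • y = 0 := by
    intro y hy
    obtain ⟨z, rfl⟩ := hψbij.2 y
    have hz : (ymap A₀ N₀ g₀).rTensor R z = 0 := by
      apply hψbij.1
      rw [hψ, map_zero, ← algebraMap_smul P g₀]
      exact hy
    have hinj : Function.Injective ((ymap A₀ (LocalizedModule T₀ N₀) g₀).rTensor R) := by
      rw [← LinearMap.lTensor_inj_iff_rTensor_inj]
      exact LinearMap.lTensor_injective_of_exact_of_flat (quotSMulTopMkR (R := A₀) g₀)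
        (quotSMulTopMkR_surjective g₀) (ymap A₀ (LocalizedModule T₀ N₀) g₀) h1
        (exact_ymap_quotSMulTopMkR g₀) R
    have hlz : (TensorProduct.AlgebraTensorModule.rTensor A₀ R
        (LocalizedModule.mkLinearMap T₀ N₀)) z = 0 := by
      apply hinj
      rw [map_zero]
      change ((ymap A₀ (LocalizedModule T₀ N₀) g₀).rTensor R)
        ((((LocalizedModule.mkLinearMap T₀ N₀).restrictScalars A₀).rTensor R) z) = 0
      rw [← LinearMap.comp_apply, ← LinearMap.rTensor_comp]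
      have : ymap A₀ (LocalizedModule T₀ N₀) g₀ ∘ₗ
          (LocalizedModule.mkLinearMap T₀ N₀).restrictScalars A₀ =
          (LocalizedModule.mkLinearMap T₀ N₀).restrictScalars A₀ ∘ₗ ymap A₀ N₀ g₀ := by
        ext n
        simp only [LinearMap.coe_comp, LinearMap.coe_restrictScalars, Function.comp_apply,
          ymap_apply, map_smul]
      rw [this, LinearMap.rTensor_comp, LinearMap.comp_apply, hz, map_zero]
    obtain ⟨t₀, ht₀⟩ := (IsLocalizedModule.eq_zero_iff T₀
      (TensorProduct.AlgebraTensorModule.rTensor A₀ R (LocalizedModule.mkLinearMap T₀ N₀))).mp hlz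
    refine ⟨t₀, t₀.2, ?_⟩
    rw [← hψ, ← smul_eq_rTensor_ymap]
    have : (t₀ : P₀) • z = 0 := ht₀
    rw [this, map_zero]
  rw [isSMulRegular_localizedModule_iff]
  rintro x ⟨t, ht, htx⟩
  rw [Submodule.mem_bot] at htx
  have h3 : algebraMap P₀ P g₀ • (t • x) = 0 := by rw [smul_comm]; exact htx
  obtain ⟨t₀, ht₀, h0⟩ := key (t • x) h3
  refine ⟨algebraMap P₀ P t₀ * t, T.mul_mem (hT _ ht₀) ht, ?_⟩
  rw [Submodule.mem_bot, mul_smul, algebraMap_smul]
  exact h0

theorem tmul_one_eq_zero_of_mem (φ : N₀ →ₗ[P₀] N) (p₀ : Ideal A₀)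
    {k : Type*} [Field k] [Algebra R k] [Algebra A₀ k] [IsScalarTower A₀ R k]
    (hp₀ : ∀ a ∈ p₀, algebraMap A₀ k a = 0) (y : N₀)
    (hy : y ∈ (p₀.map (algebraMap A₀ P₀)) • (⊤ : Submodule P₀ N₀)) :
    φ y ⊗ₜ[R] (1 : k) = 0 := by
  have hI : ∀ s ∈ p₀.map (algebraMap A₀ P₀), ∀ m : N, (s • m) ⊗ₜ[R] (1 : k) = 0 := by
    intro s hs
    refine Submodule.span_induction (p := fun s _ => ∀ m : N, (s • m) ⊗ₜ[R] (1 : k) = 0)
      ?_ ?_ ?_ ?_ hs
    · rintro _ ⟨a, ha, rfl⟩ m
      rw [algebraMap_smul, ← algebraMap_smul R a m, TensorProduct.smul_tmul, Algebra.smul_def,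
        mul_one, ← IsScalarTower.algebraMap_apply, hp₀ a ha, TensorProduct.tmul_zero]
    · intro m
      rw [zero_smul, TensorProduct.zero_tmul]
    · intro a b _ _ ha hb m
      rw [add_smul, TensorProduct.add_tmul, ha, hb, add_zero]
    · intro c a _ ha m
      rw [smul_eq_mul, mul_comm, mul_smul]
      exact ha _
  refine Submodule.smul_induction_on hy ?_ ?_
  · intro s hs n _
    rw [map_smul]
    exact hI s hs _
  · intro a b ha hb
    rw [map_add, TensorProduct.add_tmul, ha, hb, add_zero]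

theorem core_abstract [IsNoetherianRing A₀] [IsNoetherianRing P₀] [Module.Finite P₀ N₀]
    (φ : N₀ →ₗ[P₀] N) (hφ : IsBaseChange P φ) (q : Ideal P) [q.IsPrime]
    {k Ω : Type u} [Field k] [Field Ω] [Algebra R k] [Algebra A₀ k] [IsScalarTower A₀ R k]
    (χ : P →+* Ω) (ψ : k →+* Ω) (hχ : RingHom.ker χ = q)
    (hcompat : ∀ r : R, χ (algebraMap R P r) = ψ (algebraMap R k r)) (g₀ : P₀)
    (hflat₀ : Module.Flat A₀ (LocalizedModule (q.comap (algebraMap P₀ P)).primeCompl N₀))
    (hreg : IsSMulRegular (LocalizedModule q.primeCompl (N ⊗[R] k)) (algebraMap P₀ P g₀)) :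
    IsSMulRegular (LocalizedModule q.primeCompl N) (algebraMap P₀ P g₀) ∧
      Module.Flat R (LocalizedModule q.primeCompl (QuotSMulTop (algebraMap P₀ P g₀) N)) := by
  have hp₀ : ∀ a ∈ (q.comap (algebraMap P₀ P)).comap (algebraMap A₀ P₀), algebraMap A₀ k a = 0 := by
    intro a ha
    rw [← map_eq_zero_iff ψ ψ.injective, IsScalarTower.algebraMap_apply A₀ R k, ← hcompat,
      ← IsScalarTower.algebraMap_apply, ← RingHom.mem_ker, hχ]
    rw [Ideal.mem_comap, Ideal.mem_comap, ← IsScalarTower.algebraMap_apply] at ha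
    exact ha
  have hreg₀ : ∀ x : N₀,
      g₀ • x ∈ sat (q.comap (algebraMap P₀ P)).primeCompl
        ((((q.comap (algebraMap P₀ P)).comap (algebraMap A₀ P₀)).map (algebraMap A₀ P₀)) •
          (⊤ : Submodule P₀ N₀)) →
      x ∈ sat (q.comap (algebraMap P₀ P)).primeCompl
        ((((q.comap (algebraMap P₀ P)).comap (algebraMap A₀ P₀)).map (algebraMap A₀ P₀)) •
          (⊤ : Submodule P₀ N₀)) := by
    rintro x ⟨t₀, ht₀, hmem⟩
    have e1 := tmul_one_eq_zero_of_mem (R := R) φ _ hp₀ _ hmem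
    rw [map_smul, map_smul, ← algebraMap_smul P t₀, ← algebraMap_smul P g₀,
      ← TensorProduct.smul_tmul', ← TensorProduct.smul_tmul'] at e1
    have e2 : algebraMap P₀ P g₀ • (φ x ⊗ₜ[R] (1 : k)) ∈
        sat q.primeCompl (⊥ : Submodule P (N ⊗[R] k)) :=
      ⟨algebraMap P₀ P t₀, ht₀, by rw [Submodule.mem_bot]; exact e1⟩
    obtain ⟨t, ht, h0⟩ := (isSMulRegular_localizedModule_iff q.primeCompl _).mp hreg _ e2
    rw [Submodule.mem_bot] at h0
    exact fibre_descent φ hφ q χ ψ hχ hcompat x t ht h0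
  obtain ⟨h1, h2⟩ := noeth_local N₀ (q.comap (algebraMap P₀ P)) g₀ hflat₀ hreg₀
  exact ascent φ hφ (q.comap (algebraMap P₀ P)).primeCompl q.primeCompl (fun s hs => hs) g₀ h1 h2

end Ascent

end Groth.Agent.Lib.Helper22.RegFib
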