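import Mathlib
import Groth.Agent.Lib.Helper22RegFib4
import Groth.Agent.Lib.Helper3FlatDescE

/-!
# Regular elements on localized fibres: finitely presented case (one element)
(helper22, for S2586)
-/

set_option autoImplicit false
set_option linter.style.haveILetI false
set_option linter.unusedSectionVars false

open scoped Pointwise TensorProduct

namespace Groth.Agent.Lib.Helper22.RegFib

open Groth.Agent.Lib.Helper3.FlatLoc Groth.Agent.Lib.Helper3.FlatDesc
  Groth.Agent.Lib.Helper3.FlatOpen MvPolynomial

universe u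

attribute [local instance] MvPolynomial.algebraMvPolynomial

section Model

variable {Λ R : Type u} [CommRing Λ] [CommRing R] [Algebra Λ R] [IsNoetherianRing Λ]
  {σ ι κ : Type} [Finite σ] [Fintype ι] [DecidableEq ι] [Fintype κ]
  (w : κ → ι → MvPolynomial σ Λ)

theorem core_model (q : Ideal (MvPolynomial σ R)) [q.IsPrime] (g : MvPolynomial σ R)
    {k Ω : Type u} [Field k] [Field Ω] [Algebra R k]
    (χ : MvPolynomial σ R →+* Ω) (ψ : k →+* Ω) (hχ : RingHom.ker χ = q)
    (hcompat : ∀ r : R, χ (C r) = ψ (algebraMap R k r))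
    (hflat : Module.Flat R (LocalizedModule q.primeCompl
      ((ι → MvPolynomial σ R) ⧸ KT w (MvPolynomial σ R))))
    (hreg : IsSMulRegular (LocalizedModule q.primeCompl
      (((ι → MvPolynomial σ R) ⧸ KT w (MvPolynomial σ R)) ⊗[R] k)) g) :
    IsSMulRegular (LocalizedModule q.primeCompl
        ((ι → MvPolynomial σ R) ⧸ KT w (MvPolynomial σ R))) g ∧
      Module.Flat R (LocalizedModule q.primeCompl
        (QuotSMulTop g ((ι → MvPolynomial σ R) ⧸ KT w (MvPolynomial σ R)))) := by
  classical
  obtain ⟨A₀, hA₀fg, hextra, hA₀flat⟩ := exists_fg_subalgebra_flat w q hflat g.coeffs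
  haveI : Algebra.FiniteType Λ A₀ := (Subalgebra.fg_iff_finiteType A₀).mp hA₀fg
  haveI : IsNoetherianRing A₀ := Algebra.FiniteType.isNoetherianRing Λ A₀
  haveI := isScalarTower_mvPolynomial (σ := σ) Λ A₀ R
  obtain ⟨g₀, hg₀⟩ : ∃ g₀ : MvPolynomial σ A₀,
      algebraMap (MvPolynomial σ A₀) (MvPolynomial σ R) g₀ = g := by
    rw [MvPolynomial.algebraMap_def]
    apply MvPolynomial.mem_range_map_iff_coeffs_subset.mpr
    intro c hc
    exact ⟨⟨c, hextra hc⟩, rfl⟩
  subst hg₀
  exact core_abstract (A₀ := A₀) (R := R) (Mmap w (MvPolynomial σ A₀) (MvPolynomial σ R))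
    (isBaseChange_Mmap w _ _) q χ ψ hχ (fun r => by rw [MvPolynomial.algebraMap_eq]; exact hcompat r)
    g₀ hA₀flat hreg

end Model

section Transfer

theorem mem_sat_bot_comap_iff {P S X : Type*} [CommRing P] [CommRing S]
    [Algebra P S] [AddCommGroup X] [Module P X] [Module S X] [IsScalarTower P S X]
    (hsurj : Function.Surjective (algebraMap P S)) (q : Ideal S) [q.IsPrime] (x : X) :
    x ∈ sat (q.comap (algebraMap P S)).primeCompl (⊥ : Submodule P X) ↔
      x ∈ sat q.primeCompl (⊥ : Submodule S X) := by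
  constructor
  · rintro ⟨s, hs, h⟩
    rw [Submodule.mem_bot] at h
    exact ⟨algebraMap P S s, hs, by rw [Submodule.mem_bot, algebraMap_smul]; exact h⟩
  · rintro ⟨s, hs, h⟩
    rw [Submodule.mem_bot] at h
    obtain ⟨s', rfl⟩ := hsurj s
    exact ⟨s', hs, by rw [Submodule.mem_bot, ← algebraMap_smul S]; exact h⟩

theorem isSMulRegular_localizedModule_comap_iff {P S X : Type*} [CommRing P] [CommRing S]
    [Algebra P S] [AddCommGroup X] [Module P X] [Module S X] [IsScalarTower P S X]
    (hsurj : Function.Surjective (algebraMap P S)) (q : Ideal S) [q.IsPrime] (g' : P) :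
    IsSMulRegular (LocalizedModule (q.comap (algebraMap P S)).primeCompl X) g' ↔
      IsSMulRegular (LocalizedModule q.primeCompl X) (algebraMap P S g') := by
  rw [isSMulRegular_localizedModule_iff, isSMulRegular_localizedModule_iff]
  refine forall_congr' fun x => ?_
  rw [mem_sat_bot_comap_iff hsurj, mem_sat_bot_comap_iff hsurj, algebraMap_smul]

/-- `M / g' M ≃ M / g M` when `g'` maps to `g`. -/
noncomputable def quotSMulTopAlgebraMapEquiv {P S X : Type*} [CommRing P] [CommRing S]
    [Algebra P S] [AddCommGroup X] [Module P X] [Module S X] [IsScalarTower P S X] (g' : P) :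
    QuotSMulTop g' X ≃ₗ[P] QuotSMulTop (algebraMap P S g') X :=
  have h : g' • (⊤ : Submodule P X) =
      ((algebraMap P S g') • (⊤ : Submodule S X)).restrictScalars P := by
    ext x
    simp only [Submodule.restrictScalars_mem, Submodule.mem_smul_pointwise_iff_exists,
      Submodule.mem_top, true_and, algebraMap_smul]
  (Submodule.quotEquivOfEq _ _ h).trans
    (Submodule.Quotient.restrictScalarsEquiv P ((algebraMap P S g') • (⊤ : Submodule S X)))

end Transfer

section CoreFP

attribute [local instance] MvPolynomial.algebraMvPolynomial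

theorem core_poly {A : Type u} [CommRing A] {n : ℕ} (M : Type u) [AddCommGroup M]
    [Module (MvPolynomial (Fin n) A) M] [Module A M] [IsScalarTower A (MvPolynomial (Fin n) A) M]
    [Module.FinitePresentation (MvPolynomial (Fin n) A) M]
    (q : Ideal (MvPolynomial (Fin n) A)) [q.IsPrime] (g : MvPolynomial (Fin n) A)
    {k Ω : Type u} [Field k] [Field Ω] [Algebra A k]
    (χ : MvPolynomial (Fin n) A →+* Ω) (ψ : k →+* Ω) (hχ : RingHom.ker χ = q)
    (hcompat : ∀ a : A, χ (C a) = ψ (algebraMap A k a))
    (hflat : Module.Flat A (LocalizedModule q.primeCompl M))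
    (hreg : IsSMulRegular (LocalizedModule q.primeCompl (M ⊗[A] k)) g) :
    IsSMulRegular (LocalizedModule q.primeCompl M) g ∧
      Module.Flat A (LocalizedModule q.primeCompl (QuotSMulTop g M)) := by
  classical
  obtain ⟨k', m, Λ, hΛ, w, ⟨e⟩⟩ := exists_model_equiv (R := A) (n := n) (M := M)
  haveI : Algebra.FiniteType ℤ Λ := (Subalgebra.fg_iff_finiteType Λ).mp hΛ
  haveI : IsNoetherianRing Λ := Algebra.FiniteType.isNoetherianRing ℤ Λ
  have hflat' := flat_localizedModule_of_linearEquiv e.symm q.primeCompl hflat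
  let ek := TensorProduct.AlgebraTensorModule.congr e (LinearEquiv.refl A k)
  have hreg' := ((localizedCongr q.primeCompl ek).isSMulRegular_congr g).mpr hreg
  obtain ⟨h1, h2⟩ := core_model w q g χ ψ hχ hcompat hflat' hreg'
  refine ⟨((localizedCongr q.primeCompl e).isSMulRegular_congr g).mp h1, ?_⟩
  exact flat_localizedModule_of_linearEquiv (QuotSMulTop.congr g e) q.primeCompl h2

theorem core_fp {A B : Type u} [CommRing A] [CommRing B] [Algebra A B]
    [Algebra.FinitePresentation A B]
    (M : Type u) [AddCommGroup M] [Module B M] [Module A M] [IsScalarTower A B M]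
    [Module.FinitePresentation B M] (q : Ideal B) [q.IsPrime] (g : B)
    {k Ω : Type u} [Field k] [Field Ω] [Algebra A k]
    (χ : B →+* Ω) (ψ : k →+* Ω) (hχ : RingHom.ker χ = q)
    (hcompat : ∀ a : A, χ (algebraMap A B a) = ψ (algebraMap A k a))
    (hflat : Module.Flat A (LocalizedModule q.primeCompl M))
    (hreg : IsSMulRegular (LocalizedModule q.primeCompl (M ⊗[A] k)) g) :
    IsSMulRegular (LocalizedModule q.primeCompl M) g ∧
      Module.Flat A (LocalizedModule q.primeCompl (QuotSMulTop g M)) := by
  obtain ⟨n, f, hf, hker⟩ := Algebra.FinitePresentation.out (R := A) (A := B)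
  letI : Algebra (MvPolynomial (Fin n) A) B := f.toRingHom.toAlgebra
  haveI : IsScalarTower A (MvPolynomial (Fin n) A) B :=
    .of_algebraMap_eq' f.comp_algebraMap.symm
  letI : Module (MvPolynomial (Fin n) A) M := Module.compHom M f.toRingHom
  haveI : IsScalarTower (MvPolynomial (Fin n) A) B M :=
    ⟨fun p s m => by
      change (f p * s) • m = f p • (s • m)
      rw [mul_smul]⟩
  haveI : IsScalarTower A (MvPolynomial (Fin n) A) M :=
    ⟨fun r p m => by
      change f (r • p) • m = r • (f p • m)
      rw [map_smul, smul_assoc]⟩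
  haveI : Module.FinitePresentation (MvPolynomial (Fin n) A) B :=
    Module.finitePresentation_of_surjective (Algebra.linearMap (MvPolynomial (Fin n) A) B) hf
      hker
  haveI : Module.FinitePresentation (MvPolynomial (Fin n) A) M :=
    Module.FinitePresentation.trans (MvPolynomial (Fin n) A) M B
  have hsurj : Function.Surjective (algebraMap (MvPolynomial (Fin n) A) B) := hf
  obtain ⟨g', rfl⟩ := hsurj g
  have hχ' : RingHom.ker (χ.comp (algebraMap (MvPolynomial (Fin n) A) B)) =
      q.comap (algebraMap (MvPolynomial (Fin n) A) B) := by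
    rw [← hχ, RingHom.comap_ker]
  have hflat' := (flat_localizedModule_comap_iff (R := A) (P := MvPolynomial (Fin n) A)
    (M := M) hsurj q).mpr hflat
  have hreg' := (isSMulRegular_localizedModule_comap_iff (X := M ⊗[A] k) hsurj q g').mpr hreg
  obtain ⟨h1, h2⟩ := core_poly M (q.comap (algebraMap (MvPolynomial (Fin n) A) B)) g'
    (χ.comp (algebraMap (MvPolynomial (Fin n) A) B)) ψ hχ' (fun a => by
      rw [RingHom.comp_apply, ← MvPolynomial.algebraMap_eq, ← IsScalarTower.algebraMap_apply]
      exact hcompat a) hflat' hreg'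
  refine ⟨(isSMulRegular_localizedModule_comap_iff hsurj q g').mp h1, ?_⟩
  have h3 := flat_localizedModule_of_linearEquiv (R := A)
    (quotSMulTopAlgebraMapEquiv (S := B) (X := M) g') _ h2
  exact (flat_localizedModule_comap_iff (R := A) (P := MvPolynomial (Fin n) A) hsurj q).mp h3

end CoreFP

end Groth.Agent.Lib.Helper22.RegFib
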