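import Mathlib
import Groth.Agent.Lib.Helper22RegFib5

/-!
# Regular sequences on localized fibres: induction on the sequence (helper22, for S2586)
-/

set_option autoImplicit false
set_option linter.style.haveILetI false
set_option linter.unusedSectionVars false

open scoped Pointwise TensorProduct

namespace Groth.Agent.Lib.Helper22.RegFib

open Groth.Agent.Lib.Helper3.FlatLoc Groth.Agent.Lib.Helper3.FlatOpen Groth.Agent.Lib.Helper28

universe u

section Main

theorem finitePresentation_quotSMulTop {B : Type*} [CommRing B] (g : B) (M : Type*)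
    [AddCommGroup M] [Module B M] [Module.FinitePresentation B M] :
    Module.FinitePresentation B (QuotSMulTop g M) := by
  refine Module.finitePresentation_of_surjective (Submodule.mkQ (g • (⊤ : Submodule B M)))
    (Submodule.mkQ_surjective _) ?_
  rw [Submodule.ker_mkQ, ← range_lsmul, LinearMap.range_eq_map]
  exact Submodule.FG.map _ Module.Finite.fg_top

variable {A B : Type u} [CommRing A] [CommRing B] [Algebra A B]

theorem flat_quot_take_zero (T : Submonoid B) (g : List B) (M : Type u) [AddCommGroup M]
    [Module B M] [Module A M] [IsScalarTower A B M]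
    (h : Module.Flat A (LocalizedModule T M)) :
    Module.Flat A (LocalizedModule T
      (M ⧸ (Ideal.span {b | b ∈ g.take 0} • (⊤ : Submodule B M)))) := by
  have h0 : Ideal.span {b | b ∈ g.take 0} • (⊤ : Submodule B M) = ⊥ := by
    simp
  exact flat_localizedModule_of_linearEquiv (Submodule.quotEquivOfEqBot _ h0).symm T h

theorem main [Algebra.FinitePresentation A B] (q : Ideal B) [q.IsPrime]
    {k Ω : Type u} [Field k] [Field Ω] [Algebra A k]
    (χ : B →+* Ω) (ψ : k →+* Ω) (hχ : RingHom.ker χ = q)
    (hcompat : ∀ a : A, χ (algebraMap A B a) = ψ (algebraMap A k a)) (g : List B) :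
    ∀ (M : Type u) [AddCommGroup M] [Module B M] [Module A M] [IsScalarTower A B M]
      [Module.FinitePresentation B M],
      Module.Flat A (LocalizedModule q.primeCompl M) →
      RingTheory.Sequence.IsWeaklyRegular (LocalizedModule q.primeCompl (M ⊗[A] k)) g →
      RingTheory.Sequence.IsWeaklyRegular (LocalizedModule q.primeCompl M) g ∧
        ∀ i ≤ g.length, Module.Flat A (LocalizedModule q.primeCompl
          (M ⧸ (Ideal.span {b | b ∈ g.take i} • (⊤ : Submodule B M)))) := by
  induction g with
  | nil =>
    intro M _ _ _ _ _ hflat _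
    refine ⟨RingTheory.Sequence.IsWeaklyRegular.nil B _, fun i hi => ?_⟩
    obtain rfl : i = 0 := by simpa using hi
    exact flat_quot_take_zero _ _ M hflat
  | cons g₁ g' ih =>
    intro M _ _ _ _ _ hflat hreg
    obtain ⟨hr1, hr2⟩ := (RingTheory.Sequence.isWeaklyRegular_cons_iff _ g₁ g').mp hreg
    obtain ⟨c1, c2⟩ := core_fp M q g₁ χ ψ hχ hcompat hflat hr1
    haveI : Module.FinitePresentation B (QuotSMulTop g₁ M) := finitePresentation_quotSMulTop g₁ M
    have hreg₁ : RingTheory.Sequence.IsWeaklyRegular
        (LocalizedModule q.primeCompl ((QuotSMulTop g₁ M) ⊗[A] k)) g' :=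
      (((quotSMulTopLocalizedEquiv q.primeCompl g₁ (M ⊗[A] k)).trans
        (localizedCongr q.primeCompl (quotSMulTopTensorEquiv (R := A) g₁ k))).isWeaklyRegular_congr
          g').mp hr2
    obtain ⟨ih1, ih2⟩ := ih (QuotSMulTop g₁ M) c2 hreg₁
    refine ⟨(RingTheory.Sequence.isWeaklyRegular_cons_iff _ g₁ g').mpr ⟨c1,
      ((quotSMulTopLocalizedEquiv q.primeCompl g₁ M).isWeaklyRegular_congr g').mpr ih1⟩, ?_⟩
    intro i hi
    cases i with
    | zero => exact flat_quot_take_zero _ _ M hflat
    | succ i =>
      have hi' : i ≤ g'.length := by simpa using hi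
      have hset : Ideal.span {b | b ∈ (g₁ :: g').take (i + 1)} =
          Ideal.span (insert g₁ {b | b ∈ g'.take i}) := by
        congr 1
        ext b
        simp
      rw [hset]
      exact flat_localizedModule_of_linearEquiv
        (quotInsertEquiv g₁ {b | b ∈ g'.take i} M).symm q.primeCompl (ih2 i hi')

theorem top_ne_smul_top (q : Ideal B) [q.IsPrime] (g : List B) (hg : ∀ b ∈ g, b ∈ q)
    (M : Type u) [AddCommGroup M] [Module B M] [Module A M] [IsScalarTower A B M]
    [Module.Finite B M] {k : Type u} [Field k] [Algebra A k]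
    (h : (⊤ : Submodule B (LocalizedModule q.primeCompl (M ⊗[A] k))) ≠ Ideal.ofList g • ⊤) :
    (⊤ : Submodule B (LocalizedModule q.primeCompl M)) ≠ Ideal.ofList g • ⊤ := by
  intro heq
  apply h
  have hJ : (Ideal.ofList g).map (algebraMap B (Localization.AtPrime q)) ≤
      IsLocalRing.maximalIdeal (Localization.AtPrime q) := by
    rw [Ideal.map_le_iff_le_comap, Ideal.ofList, Ideal.span_le]
    intro b hb
    exact (IsLocalization.AtPrime.to_map_mem_maximal_iff (Localization.AtPrime q) q b).mpr
      (hg b hb)
  have htop : (⊤ : Submodule (Localization.AtPrime q) (LocalizedModule q.primeCompl M)) ≤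
      (Ideal.ofList g).map (algebraMap B (Localization.AtPrime q)) • ⊤ := by
    intro z _
    have hz : z ∈ Ideal.ofList g • (⊤ : Submodule B (LocalizedModule q.primeCompl M)) := by
      rw [← heq]; exact Submodule.mem_top
    refine Submodule.smul_induction_on hz ?_ ?_
    · intro a ha n _
      rw [← algebraMap_smul (Localization.AtPrime q) a n]
      exact Submodule.smul_mem_smul (Ideal.mem_map_of_mem _ ha) Submodule.mem_top
    · intro x y hx hy
      exact Submodule.add_mem _ hx hy
  have hbot := Submodule.eq_bot_of_le_smul_of_le_jacobson_bot _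
    (⊤ : Submodule (Localization.AtPrime q) (LocalizedModule q.primeCompl M))
    Module.Finite.fg_top htop
    (hJ.trans (IsLocalRing.jacobson_eq_maximalIdeal ⊥ bot_ne_top).ge)
  haveI : Subsingleton (LocalizedModule q.primeCompl M) :=
    (Submodule.subsingleton_iff (Localization.AtPrime q)).mp
      (subsingleton_of_bot_eq_top hbot.symm)
  have hsat : ∀ y : M ⊗[A] k, y ∈ sat q.primeCompl (⊥ : Submodule B (M ⊗[A] k)) := by
    intro y
    induction y using TensorProduct.induction_on with
    | zero => exact Submodule.zero_mem _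
    | add a b ha hb => exact Submodule.add_mem _ ha hb
    | tmul x c =>
      have hx : LocalizedModule.mk x (1 : q.primeCompl) = 0 := Subsingleton.elim _ _
      rw [mk_eq_zero_iff] at hx
      obtain ⟨t, ht, h0⟩ := hx
      rw [Submodule.mem_bot] at h0
      exact ⟨t, ht, by rw [Submodule.mem_bot, TensorProduct.smul_tmul', h0, TensorProduct.zero_tmul]⟩
  haveI : Subsingleton (LocalizedModule q.primeCompl (M ⊗[A] k)) := by
    refine ⟨fun a b => ?_⟩
    have h0 : ∀ z : LocalizedModule q.primeCompl (M ⊗[A] k), z = 0 := by
      intro z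
      induction z using LocalizedModule.induction_on with
      | h y s => exact (mk_eq_zero_iff _ y s).mpr (hsat y)
    rw [h0 a, h0 b]
  exact Subsingleton.elim _ _

end Main

end Groth.Agent.Lib.Helper22.RegFib
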