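import Mathlib
import Groth.Prelude.Def_FlatCA
import Groth.Agent.Lib.Helper3FlatDescA
import Groth.Agent.Lib.Helper22RegFib6

/-!
# Universal injectivity of fibre-regular elements (helper22, for S1194)

`R → S` local, essentially of finite presentation, `N` f.p. over `S` and flat over `R`:
elements of `S` regular on the closed fibre of `N` act universally injectively on `N`,
and so does the localization map at the set of all such elements.
-/

set_option autoImplicit false
set_option linter.style.haveILetI false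
set_option linter.unusedSectionVars false

open scoped Pointwise TensorProduct

namespace Groth.Agent.Lib.Helper22.UnivInjNzd

open Groth.Agent.Lib.Helper3.FlatDesc Groth.Agent.Lib.Helper22.RegFib Groth.Agent.Lib.Helper28 FlatMor

universe u

section Descent

/-- A finitely presented module over a localization `S = M₀⁻¹ S₀` is the base change of a
finitely presented `S₀`-module given by an explicit presentation. -/
theorem exists_model_of_isLocalization {S₀ S : Type u} [CommRing S₀] [CommRing S] [Algebra S₀ S]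
    (M₀ : Submonoid S₀) [IsLocalization M₀ S] (N : Type u) [AddCommGroup N] [Module S N]
    [Module S₀ N] [IsScalarTower S₀ S N] [Module.FinitePresentation S N] :
    ∃ (n m : ℕ) (w : Fin m → Fin n → S₀) (φ : ((Fin n → S₀) ⧸ KT w S₀) →ₗ[S₀] N),
      IsBaseChange S φ := by
  obtain ⟨n, K, e, hK⟩ := Module.FinitePresentation.exists_fin S N
  obtain ⟨m, v, hv⟩ := Submodule.fg_iff_exists_fin_generating_family.mp hK
  obtain ⟨b, hb⟩ := IsLocalization.exist_integer_multiples_of_finite M₀
    (fun p : Fin m × Fin n => v p.1 p.2)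
  choose w' hw' using hb
  let w : Fin m → Fin n → S₀ := fun j i => w' (j, i)
  have hwv : ∀ j, wT w S j = algebraMap S₀ S b • v j := by
    intro j
    ext i
    simp only [wT, w, Pi.smul_apply, smul_eq_mul]
    rw [hw' (j, i), Algebra.smul_def]
  have hunit : IsUnit (algebraMap S₀ S b) := IsLocalization.map_units S b
  have hKT : KT w S = K := by
    rw [KT, WT, Fintype.range_linearCombination, ← hv]
    apply le_antisymm
    · rw [Submodule.span_le]
      rintro _ ⟨j, rfl⟩
      rw [hwv]
      exact Submodule.smul_mem _ _ (Submodule.subset_span ⟨j, rfl⟩)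
    · rw [Submodule.span_le]
      rintro _ ⟨j, rfl⟩
      obtain ⟨u, hu⟩ := hunit
      have : v j = (↑u⁻¹ : S) • wT w S j := by
        rw [hwv, ← hu, smul_smul, Units.inv_mul, one_smul]
      rw [this]
      exact Submodule.smul_mem _ _ (Submodule.subset_span ⟨j, rfl⟩)
  let e' : ((Fin n → S) ⧸ KT w S) ≃ₗ[S] N := (Submodule.quotEquivOfEq _ _ hKT).trans e.symm
  refine ⟨n, m, w, (e'.restrictScalars S₀).toLinearMap ∘ₗ Mmap w S₀ S, ?_⟩
  exact (IsBaseChange.iff_of_equiv_comm (R := S₀) (S := S) (f := Mmap w S₀ S)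
    (LinearEquiv.refl S₀ _) e' (by ext x; rfl)).mp (isBaseChange_Mmap w S₀ S)

end Descent

section Xi
variable {R S : Type u} [CommRing R] [CommRing S] [Algebra R S] (K : Type u) [CommRing K] [Algebra R K]
  (N : Type u) [AddCommGroup N] [Module S N] [Module R N] [IsScalarTower R S N]

attribute [local instance] Algebra.TensorProduct.rightAlgebra

noncomputable def xiEquiv : ((K ⊗[R] S) ⊗[S] N) ≃ₗ[K] K ⊗[R] N :=
  Algebra.IsPushout.cancelBaseChange R K S (K ⊗[R] S) N

theorem xiEquiv_symm_tmul (c : K) (n : N) :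
    (xiEquiv (R := R) (S := S) K N).symm (c ⊗ₜ n) = (c ⊗ₜ[R] (1 : S)) ⊗ₜ[S] n := by
  simp [xiEquiv, Algebra.TensorProduct.algebraMap_apply]

/-- comparison -/
noncomputable def xi : N ⊗[R] K →ₗ[R] ((K ⊗[R] S) ⊗[S] N) :=
  ((xiEquiv (R := R) (S := S) K N).symm.restrictScalars R).toLinearMap ∘ₗ
    (TensorProduct.comm R N K).toLinearMap

theorem xi_tmul (n : N) (c : K) :
    xi (S := S) K N (n ⊗ₜ c) = (c ⊗ₜ[R] (1 : S)) ⊗ₜ[S] n := by
  simp [xi, xiEquiv_symm_tmul]

theorem xi_injective : Function.Injective (xi (R := R) (S := S) K N) := by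
  simp only [xi, LinearMap.coe_comp, LinearEquiv.coe_coe]
  exact (LinearEquiv.injective _).comp (LinearEquiv.injective _)

theorem xi_surjective : Function.Surjective (xi (R := R) (S := S) K N) := by
  simp only [xi, LinearMap.coe_comp, LinearEquiv.coe_coe]
  exact (LinearEquiv.surjective _).comp (LinearEquiv.surjective _)

theorem xi_smul (s : S) (x : N ⊗[R] K) : xi (S := S) K N (s • x) = s • xi (S := S) K N x := by
  induction x using TensorProduct.induction_on with
  | zero => simp
  | add a b ha hb => simp only [smul_add, map_add, ha, hb]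
  | tmul n c =>
    rw [TensorProduct.smul_tmul', xi_tmul, xi_tmul, TensorProduct.tmul_smul]

end Xi

attribute [local instance] Algebra.TensorProduct.rightAlgebra in
theorem mem_nzdFiber_iff {R S : Type u} [CommRing R] [IsLocalRing R] [CommRing S] [Algebra R S]
    (N : Type u) [AddCommGroup N] [Module S N] [Module R N] [IsScalarTower R S N] (s : S) :
    s ∈ FlatCA.nzdFiber R S N ↔
      IsSMulRegular (N ⊗[R] (IsLocalRing.maximalIdeal R).ResidueField) s := by
  rw [isSMulRegular_iff_right_eq_zero_of_smul]
  change (∀ x : ((IsLocalRing.maximalIdeal R).ResidueField ⊗[R] S) ⊗[S] N, s • x = 0 → x = 0) ↔ _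
  constructor
  · intro h x hx
    apply xi_injective (S := S) _ N
    rw [map_zero]
    apply h
    rw [← xi_smul, hx, map_zero]
  · intro h y hy
    obtain ⟨x, rfl⟩ := xi_surjective (S := S) _ N y
    rw [← xi_smul] at hy
    have := xi_injective (S := S) _ N (hy.trans (map_zero _).symm)
    rw [h x this, map_zero]


section Main

variable {R S₀ S : Type u} [CommRing R] [IsLocalRing R] [CommRing S₀] [CommRing S] [IsLocalRing S]
  [Algebra R S₀] [Algebra R S] [Algebra S₀ S] [IsScalarTower R S₀ S]

variable (S₀ S) in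
/-- The prime of `S₀` below the maximal ideal of `S`. -/
def qOf : Ideal S₀ := (IsLocalRing.maximalIdeal S).comap (algebraMap S₀ S)

instance : (qOf S₀ S).IsPrime := Ideal.comap_isPrime _ _

theorem isLocalization_qOf (M₀ : Submonoid S₀) [IsLocalization M₀ S] :
    IsLocalization (qOf S₀ S).primeCompl S := by
  refine IsLocalization.of_le M₀ _ ?_ ?_
  · intro m hm
    show m ∉ qOf S₀ S
    intro hmem
    have hu : IsUnit (algebraMap S₀ S m) := IsLocalization.map_units S ⟨m, hm⟩
    exact (IsLocalRing.mem_maximalIdeal _).mp hmem hu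
  · intro r hr
    by_contra h
    exact hr ((IsLocalRing.mem_maximalIdeal _).mpr h)

theorem comap_qOf [IsLocalHom (algebraMap R S)] :
    IsLocalRing.maximalIdeal R = (qOf S₀ S).comap (algebraMap R S₀) := by
  rw [qOf, Ideal.comap_comap, ← IsScalarTower.algebraMap_eq]
  have h : (IsLocalRing.maximalIdeal S).comap (algebraMap R S) = IsLocalRing.maximalIdeal R :=
    ((IsLocalRing.local_hom_TFAE (algebraMap R S)).out 0 4).mp ‹IsLocalHom (algebraMap R S)›
  exact h.symm

theorem finitePresentation_model {n m : ℕ} (w : Fin m → Fin n → S₀) :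
    Module.FinitePresentation S₀ ((Fin n → S₀) ⧸ KT w S₀) := by
  refine Module.finitePresentation_of_surjective (KT w S₀).mkQ (Submodule.mkQ_surjective _) ?_
  rw [Submodule.ker_mkQ, KT, LinearMap.range_eq_map]
  exact Submodule.FG.map _ Module.Finite.fg_top

/-- (D): a regular element with flat quotient acts universally injectively. -/
theorem univInj_ymap_of_regular_of_flat {A B : Type u} [CommRing A] [CommRing B] [Algebra A B]
    (L : Type u) [AddCommGroup L] [Module B L] [Module A L] [IsScalarTower A B L] (g : B)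
    (h1 : IsSMulRegular L g) (h2 : Module.Flat A (QuotSMulTop g L)) :
    FlatCA.UnivInj A (ymap A L g) := by
  intro Q _ _
  exact LinearMap.lTensor_injective_of_exact_of_flat (quotSMulTopMkR (R := A) g)
    (quotSMulTopMkR_surjective g) (ymap A L g) h1 (exact_ymap_quotSMulTopMkR g) Q

theorem univInj_of_mem_nzdFiber [IsLocalHom (algebraMap R S)] [Algebra.FinitePresentation R S₀]
    (M₀ : Submonoid S₀) [IsLocalization M₀ S]
    (N : Type u) [AddCommGroup N] [Module S N] [Module R N] [IsScalarTower R S N] [Module S₀ N]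
    [IsScalarTower S₀ S N] [IsScalarTower R S₀ N]
    [Module.FinitePresentation S N] [Module.Flat R N] (s₀ : S₀)
    (hs : algebraMap S₀ S s₀ ∈ FlatCA.nzdFiber R S N) :
    FlatCA.UnivInj R (ymap R N (algebraMap S₀ S s₀)) := by
  obtain ⟨n, m, w, φ, hφ⟩ := exists_model_of_isLocalization (S := S) M₀ N
  haveI : Module.FinitePresentation S₀ ((Fin n → S₀) ⧸ KT w S₀) := finitePresentation_model w
  haveI := isLocalization_qOf (S := S) M₀
  haveI hloc : IsLocalizedModule (qOf S₀ S).primeCompl φ :=
    (isLocalizedModule_iff_isBaseChange (qOf S₀ S).primeCompl S φ).mpr hφ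
  let e : LocalizedModule (qOf S₀ S).primeCompl ((Fin n → S₀) ⧸ KT w S₀) ≃ₗ[S₀] N :=
    IsLocalizedModule.iso (qOf S₀ S).primeCompl φ
  let eR : LocalizedModule (qOf S₀ S).primeCompl ((Fin n → S₀) ⧸ KT w S₀) ≃ₗ[R] N :=
    e.restrictScalars R
  have hflat : Module.Flat R (LocalizedModule (qOf S₀ S).primeCompl ((Fin n → S₀) ⧸ KT w S₀)) :=
    Module.Flat.of_linearEquiv eR
  have hreg : IsSMulRegular (LocalizedModule (qOf S₀ S).primeCompl
      (((Fin n → S₀) ⧸ KT w S₀) ⊗[R] (IsLocalRing.maximalIdeal R).ResidueField)) s₀ := by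
    rw [isSMulRegular_localizedModule_iff]
    rintro x ⟨t, ht, htx⟩
    rw [Submodule.mem_bot] at htx
    have h1 : TensorProduct.AlgebraTensorModule.rTensor R
        (IsLocalRing.maximalIdeal R).ResidueField φ (s₀ • x) = 0 := by
      have h0 : t • TensorProduct.AlgebraTensorModule.rTensor R
          (IsLocalRing.maximalIdeal R).ResidueField φ (s₀ • x) = 0 := by
        rw [← map_smul, htx, map_zero]
      exact IsLocalizedModule.smul_injective (TensorProduct.AlgebraTensorModule.rTensor R
          (IsLocalRing.maximalIdeal R).ResidueField φ) (⟨t, ht⟩ : (qOf S₀ S).primeCompl)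
        (h0.trans (smul_zero _).symm)
    have h2 : TensorProduct.AlgebraTensorModule.rTensor R
        (IsLocalRing.maximalIdeal R).ResidueField φ x = 0 := by
      have hr := (mem_nzdFiber_iff N _).mp hs
      have h3 : algebraMap S₀ S s₀ • TensorProduct.AlgebraTensorModule.rTensor R
          (IsLocalRing.maximalIdeal R).ResidueField φ x = algebraMap S₀ S s₀ • 0 := by
        rw [smul_zero, algebraMap_smul, ← map_smul]
        exact h1
      exact hr h3
    obtain ⟨t', ht'⟩ := (IsLocalizedModule.eq_zero_iff (qOf S₀ S).primeCompl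
      (TensorProduct.AlgebraTensorModule.rTensor R
        (IsLocalRing.maximalIdeal R).ResidueField φ)).mp h2
    exact ⟨t', t'.2, by rw [Submodule.mem_bot]; exact ht'⟩
  obtain ⟨c1, c2⟩ := core_fp ((Fin n → S₀) ⧸ KT w S₀) (qOf S₀ S) s₀
    (algebraMap S₀ (qOf S₀ S).ResidueField)
    (Ideal.ResidueField.map (IsLocalRing.maximalIdeal R) (qOf S₀ S) (algebraMap R S₀)
      (comap_qOf (S := S)))
    (Ideal.ker_algebraMap_residueField _)
    (fun a => (Ideal.ResidueField.map_algebraMap _ _ _ _ a).symm) hflat hreg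
  have c3 : Module.Flat R (QuotSMulTop s₀
      (LocalizedModule (qOf S₀ S).primeCompl ((Fin n → S₀) ⧸ KT w S₀))) :=
    Module.Flat.of_linearEquiv
      ((quotSMulTopLocalizedEquiv (qOf S₀ S).primeCompl s₀
        ((Fin n → S₀) ⧸ KT w S₀)).restrictScalars R)
  have hL := univInj_ymap_of_regular_of_flat (A := R)
    (LocalizedModule (qOf S₀ S).primeCompl ((Fin n → S₀) ⧸ KT w S₀)) s₀ c1 c3
  intro Q _ _
  have hcomm : (ymap R N (algebraMap S₀ S s₀)) ∘ₗ eR.toLinearMap =
      eR.toLinearMap ∘ₗ ymap R _ s₀ := by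
    ext x
    simp only [LinearMap.coe_comp, LinearEquiv.coe_coe, Function.comp_apply, ymap_apply,
      algebraMap_smul]
    exact (e.map_smul s₀ x).symm
  have hinj : Function.Injective
      (((ymap R N (algebraMap S₀ S s₀)).lTensor Q) ∘ (eR.toLinearMap.lTensor Q)) := by
    rw [← LinearMap.coe_comp, ← LinearMap.lTensor_comp, hcomm, LinearMap.lTensor_comp,
      LinearMap.coe_comp]
    exact (LinearEquiv.injective (eR.lTensor Q)).comp (hL Q)
  exact Function.Injective.of_comp_right hinj (LinearEquiv.surjective (eR.lTensor Q))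

end Main

section Final

theorem univInj_mkLinearMap {R S : Type u} [CommRing R] [CommRing S] [Algebra R S]
    (N : Type u) [AddCommGroup N] [Module S N] [Module R N] [IsScalarTower R S N]
    (W : Submonoid S) (h : ∀ s ∈ W, FlatCA.UnivInj R (ymap R N s)) :
    FlatCA.UnivInj R ((LocalizedModule.mkLinearMap W N).restrictScalars R) := by
  intro Q _ _
  rw [LinearMap.lTensor_inj_iff_rTensor_inj, injective_iff_map_eq_zero]
  intro z hz
  have hz' : TensorProduct.AlgebraTensorModule.rTensor R Q (LocalizedModule.mkLinearMap W N) z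
      = 0 := hz
  obtain ⟨s, hs⟩ := (IsLocalizedModule.eq_zero_iff W
    (TensorProduct.AlgebraTensorModule.rTensor R Q (LocalizedModule.mkLinearMap W N))).mp hz'
  have hinj := h s s.2 Q
  rw [LinearMap.lTensor_inj_iff_rTensor_inj] at hinj
  apply hinj
  rw [map_zero, ← smul_eq_rTensor_ymap]
  exact hs

theorem ymap_mul {R S : Type u} [CommRing R] [CommRing S] [Algebra R S]
    (N : Type u) [AddCommGroup N] [Module S N] [Module R N] [IsScalarTower R S N] (a b : S) :
    ymap R N (a * b) = ymap R N a ∘ₗ ymap R N b := by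
  ext x
  simp [mul_smul]

theorem main {R S : Type u} [CommRing R] [IsLocalRing R] [CommRing S] [IsLocalRing S]
    [Algebra R S] [IsLocalHom (algebraMap R S)] (hS : FlatCA.EssFinitePresentation R S)
    (N : Type u) [AddCommGroup N] [Module S N] [Module R N] [IsScalarTower R S N]
    [Module.FinitePresentation S N] [Module.Flat R N] :
    (∀ s ∈ FlatCA.nzdFiber R S N,
      FlatCA.UnivInj R ((LinearMap.lsmul S N s).restrictScalars R)) ∧
    FlatCA.UnivInj R
      ((LocalizedModule.mkLinearMap (FlatCA.nzdFiber R S N) N).restrictScalars R) := by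
  have h1 : ∀ s ∈ FlatCA.nzdFiber R S N, FlatCA.UnivInj R (ymap R N s) := by
    obtain ⟨S₀, _, _, _, _, M₀, hfp, hloc⟩ := hS
    letI : Module S₀ N := Module.compHom N (algebraMap S₀ S)
    haveI : IsScalarTower S₀ S N := IsScalarTower.of_algebraMap_smul fun r x => rfl
    haveI : IsScalarTower R S₀ N := IsScalarTower.of_algebraMap_smul fun r x => by
      rw [← algebraMap_smul S (algebraMap R S₀ r) x, ← IsScalarTower.algebraMap_apply,
        algebraMap_smul]
    intro s hs
    obtain ⟨⟨s₀, m⟩, rfl⟩ := IsLocalization.mk'_surjective M₀ s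
    have hm : algebraMap S₀ S (m : S₀) ∈ FlatCA.nzdFiber R S N :=
      (mem_nzdFiber_iff N _).mpr (IsUnit.isSMulRegular _ (IsLocalization.map_units S m))
    have hmem : algebraMap S₀ S s₀ ∈ FlatCA.nzdFiber R S N := by
      rw [← IsLocalization.mk'_spec' S s₀ m]
      exact Submonoid.mul_mem _ hm hs
    have hU := univInj_of_mem_nzdFiber M₀ N s₀ hmem
    intro Q _ _
    have hQ := hU Q
    rw [← IsLocalization.mk'_spec' S s₀ m, ymap_mul, LinearMap.lTensor_comp,
      LinearMap.coe_comp] at hQ
    exact Function.Injective.of_comp hQ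
  exact ⟨h1, univInj_mkLinearMap N _ h1⟩

end Final

end Groth.Agent.Lib.Helper22.UnivInjNzd
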