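import Mathlib
import Groth.Prelude.Def_FlatCA
import Groth.Agent.Lib.Helper22UnivInjNzd

/-!
# Universal injectivity of `N → S' ⊗ N` for flat `S'` hitting the associated primes of the
closed fibre (helper22, for S1196)
-/

set_option autoImplicit false
set_option linter.style.haveILetI false
set_option linter.unusedSectionVars false

open scoped Pointwise TensorProduct

namespace Groth.Agent.Lib.Helper22.UnivInjAss

open Groth.Agent.Lib.Helper22.UnivInjNzd Groth.Agent.Lib.Helper28 FlatMor

universe u

section Flat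

/-- If `S'` is `S`-flat and `1 ⊗ z = 0` in `S' ⊗ M` then the annihilator of `z` generates the
unit ideal of `S'`. -/
theorem map_ann_eq_top_of_tmul_eq_zero {S S' : Type*} [CommRing S] [CommRing S'] [Algebra S S']
    [Module.Flat S S'] {M : Type*} [AddCommGroup M] [Module S M] (z : M)
    (hz : (1 : S') ⊗ₜ[S] z = 0) :
    Ideal.map (algebraMap S S') (LinearMap.ker (LinearMap.toSpanSingleton S M z)) = ⊤ := by
  set I : Ideal S := LinearMap.ker (LinearMap.toSpanSingleton S M z) with hI
  let ι : (S ⧸ I) →ₗ[S] M := Submodule.liftQ I (LinearMap.toSpanSingleton S M z) le_rfl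
  have hι : Function.Injective ι := by
    rw [← LinearMap.ker_eq_bot]
    exact Submodule.ker_liftQ_eq_bot _ _ _ le_rfl
  have hinj : Function.Injective (ι.lTensor S') :=
    Module.Flat.lTensor_preserves_injective_linearMap ι hι
  have h0 : (1 : S') ⊗ₜ[S] (Ideal.Quotient.mk I 1) = 0 := by
    apply hinj
    rw [map_zero, LinearMap.lTensor_tmul]
    have : ι (Ideal.Quotient.mk I 1) = z := by
      change ι (Submodule.Quotient.mk 1) = z
      rw [Submodule.liftQ_apply, LinearMap.toSpanSingleton_apply, one_smul]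
    rw [this, hz]
  have h1 : (Submodule.Quotient.mk ((1 : S) • (1 : S')) : S' ⧸ (I • (⊤ : Submodule S S'))) = 0 := by
    rw [← TensorProduct.tensorQuotEquivQuotSMul_tmul_mk, h0, map_zero]
  rw [Submodule.Quotient.mk_eq_zero, one_smul, Ideal.smul_top_eq_map] at h1
  exact (Ideal.eq_top_iff_one _).mpr h1

end Flat

section Ass

attribute [local instance] Algebra.TensorProduct.rightAlgebra

variable {R S : Type u} [CommRing R] [IsLocalRing R] [CommRing S] [Algebra R S]

theorem algebraMap_fiber_surjective :
    Function.Surjective (algebraMap S ((IsLocalRing.maximalIdeal R).Fiber S)) := by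
  intro x
  obtain ⟨r, hr, s, e⟩ := Ideal.Fiber.exists_smul_eq_one_tmul (IsLocalRing.maximalIdeal R) x
  have hu : IsUnit r := by
    by_contra h
    exact hr ((IsLocalRing.mem_maximalIdeal r).mpr h)
  obtain ⟨u, rfl⟩ := hu
  refine ⟨(↑u⁻¹ : R) • s, ?_⟩
  have h1 : algebraMap S ((IsLocalRing.maximalIdeal R).Fiber S) ((↑u⁻¹ : R) • s) =
      (↑u⁻¹ : R) • ((1 : (IsLocalRing.maximalIdeal R).ResidueField) ⊗ₜ[R] s) := by
    rw [TensorProduct.smul_tmul', TensorProduct.smul_tmul]
    rfl
  rw [h1, ← e, smul_smul, Units.inv_mul, one_smul]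

theorem exists_associatedPrime_ge [Algebra.EssFiniteType R S] (N : Type u) [AddCommGroup N]
    [Module S N] [Module R N] [IsScalarTower R S N] [Module.Finite S N] (P : Ideal S) [P.IsPrime]
    (hP : Disjoint (P : Set S) (FlatCA.nzdFiber R S N : Set S)) :
    ∃ q ∈ associatedPrimes S (FlatCA.fiberMod (IsLocalRing.maximalIdeal R) S N), P ≤ q := by
  haveI : IsNoetherianRing ((IsLocalRing.maximalIdeal R).Fiber S) :=
    Algebra.EssFiniteType.isNoetherianRing (IsLocalRing.maximalIdeal R).ResidueField _
  change ∃ q ∈ associatedPrimes S (((IsLocalRing.maximalIdeal R).Fiber S) ⊗[S] N), P ≤ q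
  have hfin := associatedPrimes.finite ((IsLocalRing.maximalIdeal R).Fiber S)
    (((IsLocalRing.maximalIdeal R).Fiber S) ⊗[S] N)
  have hsub : ((P.map (algebraMap S ((IsLocalRing.maximalIdeal R).Fiber S)) :
      Ideal ((IsLocalRing.maximalIdeal R).Fiber S)) : Set ((IsLocalRing.maximalIdeal R).Fiber S)) ⊆
      ⋃ p ∈ (hfin.toFinset : Set _), ((id p : Ideal ((IsLocalRing.maximalIdeal R).Fiber S)) :
        Set ((IsLocalRing.maximalIdeal R).Fiber S)) := by
    intro y hy
    obtain ⟨p, hp, rfl⟩ := (Ideal.mem_map_iff_of_surjective _ algebraMap_fiber_surjective).mp hy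
    have hpW : p ∉ FlatCA.nzdFiber R S N := fun h => Set.disjoint_left.mp hP hp h
    have hpW' : ¬ ∀ x : ((IsLocalRing.maximalIdeal R).Fiber S) ⊗[S] N, p • x = 0 → x = 0 :=
      fun h => hpW (mem_nonZeroSMulDivisors_iff.mpr h)
    push Not at hpW'
    obtain ⟨x, hx, hx0⟩ := hpW'
    have hmem : algebraMap S ((IsLocalRing.maximalIdeal R).Fiber S) p ∈
        ⋃ q ∈ associatedPrimes ((IsLocalRing.maximalIdeal R).Fiber S)
          (((IsLocalRing.maximalIdeal R).Fiber S) ⊗[S] N), (q : Set _) := by
      rw [biUnion_associatedPrimes_eq_zero_divisors]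
      exact ⟨x, hx0, by rw [algebraMap_smul]; exact hx⟩
    simpa using hmem
  obtain ⟨q', hq', hle⟩ := (Ideal.subset_union_prime (f := id) ⊥ ⊥
    (fun i hi _ _ => (hfin.mem_toFinset.mp hi).1)).mp hsub
  have hq'' : q' ∈ associatedPrimes ((IsLocalRing.maximalIdeal R).Fiber S)
      (((IsLocalRing.maximalIdeal R).Fiber S) ⊗[S] N) := hfin.mem_toFinset.mp hq'
  refine ⟨q'.comap (algebraMap S ((IsLocalRing.maximalIdeal R).Fiber S)), ?_, ?_⟩
  · obtain ⟨hprime, x, hx⟩ := hq''
    refine ⟨Ideal.comap_isPrime _ _, x, ?_⟩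
    rw [hx, Ideal.comap_radical]
    congr 1
  · exact Ideal.le_comap_of_map_le hle

end Ass

section Final

/-- If the elements of `W` act injectively on `M` and every prime of `S` disjoint from `W` lies
under a prime of the flat algebra `S'` (up to enlarging), then `M → S' ⊗ M` is injective. -/
theorem mk_injective_of_primes {S S' : Type*} [CommRing S] [CommRing S'] [Algebra S S']
    [Module.Flat S S'] {M : Type*} [AddCommGroup M] [Module S M] (W : Submonoid S)
    (hW : ∀ s ∈ W, ∀ x : M, s • x = 0 → x = 0)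
    (hP : ∀ P : Ideal S, P.IsPrime → Disjoint (P : Set S) (W : Set S) →
      ∃ q' : Ideal S', q'.IsPrime ∧ P ≤ q'.comap (algebraMap S S')) :
    Function.Injective (TensorProduct.mk S S' M 1) := by
  rw [injective_iff_map_eq_zero]
  intro z hz
  by_contra hz0
  have htop := map_ann_eq_top_of_tmul_eq_zero (S' := S') z hz
  have hdisj : Disjoint ((LinearMap.ker (LinearMap.toSpanSingleton S M z) : Ideal S) : Set S)
      (W : Set S) := by
    rw [Set.disjoint_left]
    intro s hs hsW
    apply hz0
    apply hW s hsW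
    simpa [LinearMap.toSpanSingleton_apply] using hs
  obtain ⟨P, hPp, hle, hPd⟩ := Ideal.exists_le_prime_disjoint _ W hdisj
  obtain ⟨q', hq', hPq⟩ := hP P hPp hPd
  have : Ideal.map (algebraMap S S') (LinearMap.ker (LinearMap.toSpanSingleton S M z)) ≤ q' :=
    Ideal.map_le_iff_le_comap.mpr (hle.trans hPq)
  rw [htop, top_le_iff] at this
  exact hq'.ne_top this

theorem essFiniteType_of_essFinitePresentation {R S : Type u} [CommRing R] [CommRing S]
    [Algebra R S] (hS : FlatCA.EssFinitePresentation R S) : Algebra.EssFiniteType R S := by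
  obtain ⟨S₀, _, _, _, _, M₀, hfp, hloc⟩ := hS
  haveI : Algebra.EssFiniteType S₀ S := Algebra.EssFiniteType.of_isLocalization S M₀
  haveI : Algebra.FiniteType R S₀ := inferInstance
  exact Algebra.EssFiniteType.comp R S₀ S

theorem main {R S S' : Type u} [CommRing R] [IsLocalRing R] [CommRing S] [IsLocalRing S]
    [CommRing S'] [Algebra R S] [IsLocalHom (algebraMap R S)] [Algebra S S'] [Algebra R S']
    [IsScalarTower R S S'] (hS : FlatCA.EssFinitePresentation R S) [Module.Flat S S']
    (N : Type u) [AddCommGroup N] [Module S N] [Module R N] [IsScalarTower R S N]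
    [Module.FinitePresentation S N] [Module.Flat R N]
    (h : ∀ q ∈ associatedPrimes S (FlatCA.fiberMod (IsLocalRing.maximalIdeal R) S N),
      ∃ q' : Ideal S', q'.IsPrime ∧ q'.comap (algebraMap S S') = q) :
    FlatCA.UnivInj R ((TensorProduct.mk S S' N 1).restrictScalars R) := by
  intro Q _ _
  rw [LinearMap.lTensor_inj_iff_rTensor_inj]
  have h1 := (Groth.Agent.Lib.Helper22.UnivInjNzd.main hS N).1
  haveI : Algebra.EssFiniteType R S := essFiniteType_of_essFinitePresentation hS
  have hM : Function.Injective (TensorProduct.mk S S' (N ⊗[R] Q) 1) := by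
    apply mk_injective_of_primes (FlatCA.nzdFiber R S N)
    · intro s hs x hx
      have hinj := h1 s hs Q
      rw [LinearMap.lTensor_inj_iff_rTensor_inj] at hinj
      apply hinj
      rw [map_zero, ← hx]
      exact (smul_eq_rTensor_ymap s x).symm
    · intro P hP hdisj
      haveI := hP
      obtain ⟨q, hq, hPq⟩ := exists_associatedPrime_ge N P hdisj
      obtain ⟨q', hq'p, rfl⟩ := h q hq
      exact ⟨q', hq'p, hPq⟩
  have hcomp : ∀ z : N ⊗[R] Q,
      (TensorProduct.AlgebraTensorModule.assoc R S S S' N Q)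
        ((((TensorProduct.mk S S' N 1).restrictScalars R).rTensor Q) z) =
      TensorProduct.mk S S' (N ⊗[R] Q) 1 z := by
    intro z
    induction z using TensorProduct.induction_on with
    | zero => simp
    | add a b ha hb => simp only [map_add, ha, hb]
    | tmul n x => simp
  intro a b hab
  apply hM
  rw [← hcomp, ← hcomp, hab]

end Final

end Groth.Agent.Lib.Helper22.UnivInjAss
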