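import Mathlib
import Groth.Prelude.Def_FlatCA
import Groth.Agent.Lib.Helper22UnivInjAss

/-!
# Universal injectivity of `N → S' ⊗ N`, global version (helper22, for S1195)

`S` f.p. over `R`, `N` f.p. over `S` and `R`-flat, `S'` flat over `S` whose spectrum hits every
associated point of every fibre of `N`: then `N → S' ⊗_S N` is `R`-universally injective.
-/

set_option autoImplicit false
set_option linter.style.haveILetI false
set_option linter.unusedSectionVars false

open scoped Pointwise TensorProduct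

namespace Groth.Agent.Lib.Helper22.UnivInjGlob

open Groth.Agent.Lib.Helper22.UnivInjNzd Groth.Agent.Lib.Helper22.UnivInjAss
  Groth.Agent.Lib.Helper22.RegFib Groth.Agent.Lib.Helper28 Groth.Agent.Lib.Helper3.FlatLoc FlatMor

universe u

section Fibre

attribute [local instance] Algebra.TensorProduct.rightAlgebra

variable {R S : Type u} [CommRing R] [CommRing S] [Algebra R S]

/-- Regularity on the fibre module over `p` is regularity on `N ⊗ κ(p)`. -/
theorem mem_nzd_fiberMod_iff (p : Ideal R) [p.IsPrime]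
    (N : Type u) [AddCommGroup N] [Module S N] [Module R N] [IsScalarTower R S N] (s : S) :
    s ∈ nonZeroSMulDivisors S (FlatCA.fiberMod p S N) ↔
      IsSMulRegular (N ⊗[R] p.ResidueField) s := by
  rw [isSMulRegular_iff_right_eq_zero_of_smul]
  change (∀ x : (p.ResidueField ⊗[R] S) ⊗[S] N, s • x = 0 → x = 0) ↔ _
  constructor
  · intro h x hx
    apply xi_injective (S := S) _ N
    rw [map_zero]
    apply h
    rw [← xi_smul, hx, map_zero]
  · intro h y hy
    obtain ⟨x, rfl⟩ := xi_surjective (S := S) _ N y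
    rw [← xi_smul] at hy
    have := xi_injective (S := S) _ N (hy.trans (map_zero _).symm)
    rw [h x this, map_zero]

/-- Every ideal of the fibre ring is extended from its contraction (for primes). -/
theorem map_comap_fiber (p : Ideal R) [p.IsPrime] (J : Ideal (p.Fiber S)) :
    (J.comap (algebraMap S (p.Fiber S))).map (algebraMap S (p.Fiber S)) = J := by
  apply le_antisymm Ideal.map_comap_le
  intro x hx
  obtain ⟨r, hr, s, e⟩ := Ideal.Fiber.exists_smul_eq_one_tmul p x
  have hs : s ∈ J.comap (algebraMap S (p.Fiber S)) := by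
    rw [Ideal.mem_comap]
    change (1 : p.ResidueField) ⊗ₜ[R] s ∈ J
    rw [← e]
    exact Submodule.smul_of_tower_mem J r hx
  have hunit : IsUnit (algebraMap R p.ResidueField r) := by
    rw [isUnit_iff_ne_zero]
    intro h0
    exact hr (Ideal.algebraMap_residueField_eq_zero.mp h0)
  obtain ⟨v, hv⟩ := hunit
  have hx' : x = ((↑v⁻¹ : p.ResidueField) ⊗ₜ[R] (1 : S)) *
      algebraMap S (p.Fiber S) s := by
    change x = ((↑v⁻¹ : p.ResidueField) ⊗ₜ[R] (1 : S)) * ((1 : p.ResidueField) ⊗ₜ[R] s)
    rw [← e, Algebra.smul_def, ← mul_assoc]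
    have : ((↑v⁻¹ : p.ResidueField) ⊗ₜ[R] (1 : S)) * algebraMap R (p.Fiber S) r = 1 := by
      rw [Algebra.TensorProduct.algebraMap_apply, Algebra.TensorProduct.tmul_mul_tmul, ← hv,
        Units.inv_mul, mul_one]
      rfl
    rw [this, one_mul]
  rw [hx']
  exact Ideal.mul_mem_left _ _ (Ideal.mem_map_of_mem _ hs)

/-- A prime of `S` consisting of zero divisors on the fibre module over `p` is contained in the
contraction of an associated prime of the fibre module. -/
theorem exists_associatedPrime_fiber_ge [Algebra.EssFiniteType R S] (p : Ideal R) [p.IsPrime]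
    (N : Type u) [AddCommGroup N]
    [Module S N] [Module R N] [IsScalarTower R S N] [Module.Finite S N] (P : Ideal S) [P.IsPrime]
    (hP : Disjoint (P : Set S) (nonZeroSMulDivisors S (FlatCA.fiberMod p S N) : Set S)) :
    ∃ q' ∈ associatedPrimes (p.Fiber S) (FlatCA.fiberMod p S N),
      P ≤ q'.comap (algebraMap S (p.Fiber S)) := by
  haveI : IsNoetherianRing (p.Fiber S) :=
    Algebra.EssFiniteType.isNoetherianRing p.ResidueField _
  change ∃ q' ∈ associatedPrimes (p.Fiber S) ((p.Fiber S) ⊗[S] N),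
    P ≤ q'.comap (algebraMap S (p.Fiber S))
  have hfin := associatedPrimes.finite (p.Fiber S) ((p.Fiber S) ⊗[S] N)
  have hsub : (P : Set S) ⊆
      ⋃ q' ∈ (hfin.toFinset : Set (Ideal (p.Fiber S))),
        ((Ideal.comap (algebraMap S (p.Fiber S)) q' : Ideal S) : Set S) := by
    intro s hs
    have hsW : s ∉ nonZeroSMulDivisors S (FlatCA.fiberMod p S N) :=
      fun h => Set.disjoint_left.mp hP hs h
    have hsW' : ¬ ∀ x : (p.Fiber S) ⊗[S] N, s • x = 0 → x = 0 :=
      fun h => hsW (mem_nonZeroSMulDivisors_iff.mpr h)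
    push Not at hsW'
    obtain ⟨x, hx, hx0⟩ := hsW'
    have hmem : algebraMap S (p.Fiber S) s ∈
        ⋃ q ∈ associatedPrimes (p.Fiber S) ((p.Fiber S) ⊗[S] N), (q : Set _) := by
      rw [biUnion_associatedPrimes_eq_zero_divisors]
      exact ⟨x, hx0, by rw [algebraMap_smul]; exact hx⟩
    simp only [Set.mem_iUnion, SetLike.mem_coe] at hmem
    obtain ⟨q, hq, hsq⟩ := hmem
    simp only [Set.mem_iUnion, SetLike.mem_coe]
    exact ⟨q, hfin.mem_toFinset.mpr hq, hsq⟩
  obtain ⟨q', hq', hle⟩ := (Ideal.subset_union_prime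
    (f := fun q' : Ideal (p.Fiber S) => q'.comap (algebraMap S (p.Fiber S))) ⊥ ⊥
    (fun i hi _ _ => by
      haveI := (hfin.mem_toFinset.mp hi).1
      exact Ideal.comap_isPrime _ _)).mp hsub
  exact ⟨q', hfin.mem_toFinset.mp hq', hle⟩

end Fibre

section Local

variable {R S : Type u} [CommRing R] [CommRing S] [Algebra R S]

theorem isSMulRegular_localizedModule_of_isSMulRegular {M : Type*} [AddCommGroup M] [Module S M]
    (T : Submonoid S) (g : S) (h : IsSMulRegular M g) :
    IsSMulRegular (LocalizedModule T M) g := by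
  rw [isSMulRegular_localizedModule_iff]
  rintro x ⟨t, ht, htx⟩
  rw [Submodule.mem_bot, smul_comm] at htx
  refine ⟨t, ht, ?_⟩
  rw [Submodule.mem_bot]
  exact h (htx.trans (smul_zero g).symm)

/-- Key local step: an element regular on `N ⊗ κ(p)` acts injectively on `N_𝔮 ⊗ Q`. -/
theorem isSMulRegular_localized_tensor [Algebra.FinitePresentation R S]
    (N : Type u) [AddCommGroup N] [Module S N] [Module R N] [IsScalarTower R S N]
    [Module.FinitePresentation S N] [Module.Flat R N]
    (p : Ideal R) [p.IsPrime] (𝔮 : Ideal S) [𝔮.IsPrime] (hp : p = 𝔮.comap (algebraMap R S)) (g : S)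
    (hg : IsSMulRegular (N ⊗[R] p.ResidueField) g)
    (Q : Type u) [AddCommGroup Q] [Module R Q] :
    IsSMulRegular ((LocalizedModule 𝔮.primeCompl N) ⊗[R] Q) g := by
  have hflat : Module.Flat R (LocalizedModule 𝔮.primeCompl N) :=
    flat_localizedModule_of_flat 𝔮.primeCompl
  have hreg : IsSMulRegular (LocalizedModule 𝔮.primeCompl (N ⊗[R] p.ResidueField)) g :=
    isSMulRegular_localizedModule_of_isSMulRegular _ g hg
  obtain ⟨c1, c2⟩ := core_fp N 𝔮 g (algebraMap S 𝔮.ResidueField)
    (Ideal.ResidueField.map p 𝔮 (algebraMap R S) hp)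
    (Ideal.ker_algebraMap_residueField _)
    (fun a => (Ideal.ResidueField.map_algebraMap _ _ _ _ a).symm) hflat hreg
  have c3 : Module.Flat R (QuotSMulTop g (LocalizedModule 𝔮.primeCompl N)) :=
    Module.Flat.of_linearEquiv
      ((quotSMulTopLocalizedEquiv 𝔮.primeCompl g N).restrictScalars R)
  have hL := univInj_ymap_of_regular_of_flat (A := R) (LocalizedModule 𝔮.primeCompl N) g c1 c3
  rw [isSMulRegular_tensor_iff, ← LinearMap.lTensor_inj_iff_rTensor_inj]
  exact hL Q

end Local

section Final

attribute [local instance] Algebra.TensorProduct.rightAlgebra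

theorem mk_injective {R S S' : Type u} [CommRing R] [CommRing S] [CommRing S'] [Algebra R S]
    [Algebra S S'] [Algebra.FinitePresentation R S] [Module.Flat S S']
    (N : Type u) [AddCommGroup N] [Module S N] [Module R N] [IsScalarTower R S N]
    [Module.FinitePresentation S N] [Module.Flat R N]
    (h : ∀ (p : Ideal R) (q : Ideal S) [p.IsPrime] [q.IsPrime] [q.LiesOver p],
      FlatCA.fiberIdeal p q ∈ associatedPrimes (p.Fiber S) (FlatCA.fiberMod p S N) →
      ∃ q' : Ideal S', q'.IsPrime ∧ q'.comap (algebraMap S S') = q)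
    (Q : Type u) [AddCommGroup Q] [Module R Q] :
    Function.Injective (TensorProduct.mk S S' (N ⊗[R] Q) 1) := by
  rw [injective_iff_map_eq_zero]
  intro z hz
  by_contra hz0
  have htop := map_ann_eq_top_of_tmul_eq_zero (S' := S') z hz
  have hI : LinearMap.ker (LinearMap.toSpanSingleton S (N ⊗[R] Q) z) ≠ ⊤ := by
    intro h1
    apply hz0
    have h2 : (1 : S) ∈ LinearMap.ker (LinearMap.toSpanSingleton S (N ⊗[R] Q) z) :=
      h1 ▸ Submodule.mem_top
    simpa [LinearMap.toSpanSingleton_apply] using h2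
  obtain ⟨𝔮, h𝔮max, hI𝔮⟩ := Ideal.exists_le_maximal _ hI
  haveI := h𝔮max.isPrime
  haveI : (𝔮.comap (algebraMap R S)).IsPrime := Ideal.comap_isPrime _ _
  have hlocz : TensorProduct.AlgebraTensorModule.rTensor R Q
      (LocalizedModule.mkLinearMap 𝔮.primeCompl N) z ≠ 0 := by
    intro h0
    obtain ⟨t, ht⟩ := (IsLocalizedModule.eq_zero_iff 𝔮.primeCompl
      (TensorProduct.AlgebraTensorModule.rTensor R Q
        (LocalizedModule.mkLinearMap 𝔮.primeCompl N))).mp h0
    refine t.2 (hI𝔮 ?_)
    rw [LinearMap.mem_ker, LinearMap.toSpanSingleton_apply]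
    exact ht
  have hII' : LinearMap.ker (LinearMap.toSpanSingleton S (N ⊗[R] Q) z) ≤
      LinearMap.ker (LinearMap.toSpanSingleton S _
        (TensorProduct.AlgebraTensorModule.rTensor R Q
          (LocalizedModule.mkLinearMap 𝔮.primeCompl N) z)) := by
    intro s hs
    rw [LinearMap.mem_ker, LinearMap.toSpanSingleton_apply] at hs ⊢
    rw [← map_smul, hs, map_zero]
  have hdisj : Disjoint ((LinearMap.ker (LinearMap.toSpanSingleton S _
        (TensorProduct.AlgebraTensorModule.rTensor R Q
          (LocalizedModule.mkLinearMap 𝔮.primeCompl N) z)) : Ideal S) : Set S)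
      (nonZeroSMulDivisors S (FlatCA.fiberMod (𝔮.comap (algebraMap R S)) S N) : Set S) := by
    rw [Set.disjoint_left]
    intro s hs hsW
    apply hlocz
    have hreg := isSMulRegular_localized_tensor N (𝔮.comap (algebraMap R S)) 𝔮 rfl s
      ((mem_nzd_fiberMod_iff _ N s).mp hsW) Q
    rw [SetLike.mem_coe, LinearMap.mem_ker, LinearMap.toSpanSingleton_apply] at hs
    exact hreg (hs.trans (smul_zero s).symm)
  obtain ⟨P, hPp, hle, hPd⟩ := Ideal.exists_le_prime_disjoint _ _ hdisj
  haveI := hPp
  obtain ⟨q₁', hq₁', hPq⟩ := exists_associatedPrime_fiber_ge (𝔮.comap (algebraMap R S)) N P hPd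
  haveI : q₁'.IsPrime := hq₁'.1
  haveI : (q₁'.comap (algebraMap S ((𝔮.comap (algebraMap R S)).Fiber S))).IsPrime :=
    Ideal.comap_isPrime _ _
  haveI : (q₁'.comap (algebraMap S ((𝔮.comap (algebraMap R S)).Fiber S))).LiesOver
      (𝔮.comap (algebraMap R S)) :=
    Ideal.under_liesOver_of_liesOver S q₁' (𝔮.comap (algebraMap R S))
  have hfib : FlatCA.fiberIdeal (𝔮.comap (algebraMap R S))
      (q₁'.comap (algebraMap S ((𝔮.comap (algebraMap R S)).Fiber S))) = q₁' :=
    map_comap_fiber _ q₁'
  obtain ⟨q', hq', hq'c⟩ := h (𝔮.comap (algebraMap R S))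
    (q₁'.comap (algebraMap S ((𝔮.comap (algebraMap R S)).Fiber S))) (by rw [hfib]; exact hq₁')
  have hmap : Ideal.map (algebraMap S S')
      (LinearMap.ker (LinearMap.toSpanSingleton S (N ⊗[R] Q) z)) ≤ q' :=
    Ideal.map_le_iff_le_comap.mpr (by rw [hq'c]; exact hII'.trans (hle.trans hPq))
  rw [htop, top_le_iff] at hmap
  exact hq'.ne_top hmap

theorem main {R S S' : Type u} [CommRing R] [CommRing S] [CommRing S'] [Algebra R S]
    [Algebra S S'] [Algebra R S'] [IsScalarTower R S S']
    [Algebra.FinitePresentation R S] [Module.Flat S S']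
    (N : Type u) [AddCommGroup N] [Module S N] [Module R N] [IsScalarTower R S N]
    [Module.FinitePresentation S N] [Module.Flat R N]
    (h : ∀ (p : Ideal R) (q : Ideal S) [p.IsPrime] [q.IsPrime] [q.LiesOver p],
      FlatCA.fiberIdeal p q ∈ associatedPrimes (p.Fiber S) (FlatCA.fiberMod p S N) →
      ∃ q' : Ideal S', q'.IsPrime ∧ q'.comap (algebraMap S S') = q) :
    FlatCA.UnivInj R ((TensorProduct.mk S S' N 1).restrictScalars R) := by
  intro Q _ _
  rw [LinearMap.lTensor_inj_iff_rTensor_inj]
  have hM := mk_injective (S' := S') N h Q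
  have hcomp : ∀ z : N ⊗[R] Q,
      (TensorProduct.AlgebraTensorModule.assoc R S S S' N Q)
        ((((TensorProduct.mk S S' N 1).restrictScalars R).rTensor Q) z) =
      TensorProduct.mk S S' (N ⊗[R] Q) 1 z := by
    intro z
    induction z using TensorProduct.induction_on with
    | zero => simp
    | add a b ha hb => simp only [map_add, ha, hb]
    | tmul n x => simp
  intro a b hab
  apply hM
  rw [← hcomp, ← hcomp, hab]

end Final

end Groth.Agent.Lib.Helper22.UnivInjGlob
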