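import Mathlib
import Groth.Prelude.Def_FlatCA
import Groth.Agent.Lib.Helper22AssFlatBC
import Groth.Agent.Lib.Helper22UnivInjGlob

set_option autoImplicit false
set_option linter.unusedSectionVars false
set_option linter.style.haveILetI false

open TensorProduct FlatMor

namespace Groth.Agent.Lib.Helper22.FiberAssLift

universe u

attribute [local instance] Algebra.TensorProduct.rightAlgebra

/-- Finite type is stable under pushout. -/
theorem finiteType_of_isPushout {A B A' B' : Type*} [CommRing A] [CommRing B] [CommRing A']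
    [CommRing B'] [Algebra A B] [Algebra A A'] [Algebra B B'] [Algebra A' B'] [Algebra A B']
    [IsScalarTower A B B'] [IsScalarTower A A' B'] [Algebra.IsPushout A B A' B']
    [Algebra.FiniteType A B] : Algebra.FiniteType A' B' := by
  have h : Algebra.IsPushout A A' B B' := Algebra.IsPushout.symm inferInstance
  exact Algebra.FiniteType.equiv (inferInstance : Algebra.FiniteType A' (A' ⊗[A] B))
    (Algebra.IsPushout.equiv A A' B B')

section
variable {R : Type u} [CommRing R] (p : Ideal R) [p.IsPrime] {S : Type u} [CommRing S]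
  [Algebra R S]

theorem comap_fiberIdeal (q : Ideal S) [q.IsPrime] [q.LiesOver p] :
    (FlatCA.fiberIdeal p q).comap (algebraMap S (p.Fiber S)) = q := by
  apply le_antisymm
  · let Q : p.primesOver S := ⟨q, ⟨inferInstance, inferInstance⟩⟩
    let 𝔓 := (PrimeSpectrum.primesOverOrderIsoFiber R S p) Q
    have h1 : 𝔓.1.comap (Algebra.TensorProduct.includeRight (R := R) (A := p.ResidueField)
        (B := S)) = q := by
      have := PrimeSpectrum.coe_primesOverOrderIsoFiber_symm_apply (R := R) (S := S) (p := p) 𝔓
      rw [OrderIso.symm_apply_apply] at this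
      exact this.symm
    have h2 : FlatCA.fiberIdeal p q ≤ 𝔓.1 := by
      unfold FlatCA.fiberIdeal
      rw [Ideal.map_le_iff_le_comap]
      exact h1.symm.le
    calc (FlatCA.fiberIdeal p q).comap _ ≤ 𝔓.1.comap _ := Ideal.comap_mono h2
      _ = q := h1
  · exact Ideal.le_comap_map

end


section Lift

variable {A B A' B' : Type u} [CommRing A] [CommRing B] [CommRing A'] [CommRing B']
  [Algebra A B] [Algebra A A'] [Algebra B B'] [Algebra A' B'] [Algebra A B']
  [IsScalarTower A B B'] [IsScalarTower A A' B'] [Algebra.IsPushout A B A' B']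
  [Algebra.FiniteType A B]
  (N N' : Type u) [AddCommGroup N] [Module B N] [AddCommGroup N'] [Module B' N'] [Module B N']
  [IsScalarTower B B' N']

/-- Associated points of fibres lift along base change: if `P` (over `t`) is an associated point of
the fibre of `N` over `t`, and `t'` is a prime of `A'` over `t`, then some prime `Q` of `B'` over
`t'` contracting to `P` is an associated point of the fibre of `N'` over `t'`. -/
theorem exists_fiber_ass_lift (g : N →ₗ[B] N') (hg : IsBaseChange B' g)
    (t : Ideal A) [t.IsPrime] (t' : Ideal A') [t'.IsPrime] [t'.LiesOver t]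
    (P : Ideal B) [P.IsPrime] [P.LiesOver t]
    (hP : FlatCA.fiberIdeal t P ∈ associatedPrimes (t.Fiber B) (FlatCA.fiberMod t B N)) :
    ∃ (Q : Ideal B'), Q.IsPrime ∧ Q.LiesOver t' ∧ Q.comap (algebraMap B B') = P ∧
      FlatCA.fiberIdeal t' Q ∈ associatedPrimes (t'.Fiber B') (FlatCA.fiberMod t' B' N') := by
  have hft' : Algebra.FiniteType A' B' := finiteType_of_isPushout (A := A) (B := B)
  have hnF : IsNoetherianRing (t.Fiber B) :=
    Algebra.FiniteType.isNoetherianRing t.ResidueField (t.Fiber B)
  have hnF' : IsNoetherianRing (t'.Fiber B') :=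
    Algebra.FiniteType.isNoetherianRing t'.ResidueField (t'.Fiber B')
  -- the residue field extension
  let ρ : t.ResidueField →+* t'.ResidueField :=
    Ideal.ResidueField.map t t' (algebraMap A A') (t'.over_def t)
  letI algKK' : Algebra t.ResidueField t'.ResidueField := ρ.toAlgebra
  have tAKK' : IsScalarTower A t.ResidueField t'.ResidueField := .of_algebraMap_eq (fun a => by
    change algebraMap A t'.ResidueField a = ρ (algebraMap A t.ResidueField a)
    rw [Ideal.ResidueField.map_algebraMap, ← IsScalarTower.algebraMap_apply])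
  -- `F'` as an algebra over `B`
  letI algBF' : Algebra B (t'.Fiber B') :=
    ((algebraMap B' (t'.Fiber B')).comp (algebraMap B B')).toAlgebra
  have tBB'F' : IsScalarTower B B' (t'.Fiber B') := .of_algebraMap_eq (fun _ => rfl)
  have tAB'F' : IsScalarTower A B' (t'.Fiber B') := .of_algebraMap_eq (fun a => by
    rw [IsScalarTower.algebraMap_apply A A' (t'.Fiber B'), IsScalarTower.algebraMap_apply A A' B',
      ← IsScalarTower.algebraMap_apply A' B' (t'.Fiber B')])
  have tABF' : IsScalarTower A B (t'.Fiber B') := .of_algebraMap_eq (fun a => by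
    rw [IsScalarTower.algebraMap_apply A B' (t'.Fiber B'), IsScalarTower.algebraMap_apply A B B']
    rfl)
  have tKK'F' : IsScalarTower t.ResidueField t'.ResidueField (t'.Fiber B') := inferInstance
  have tAKF' : IsScalarTower A t.ResidueField (t'.Fiber B') := .of_algebraMap_eq (fun a => by
    rw [IsScalarTower.algebraMap_apply t.ResidueField t'.ResidueField (t'.Fiber B'),
      ← IsScalarTower.algebraMap_apply A t.ResidueField t'.ResidueField,
      ← IsScalarTower.algebraMap_apply A t'.ResidueField (t'.Fiber B')])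
  -- the map of fibre rings
  let φ : t.Fiber B →ₐ[A] t'.Fiber B' :=
    Algebra.TensorProduct.productMap (IsScalarTower.toAlgHom A t.ResidueField (t'.Fiber B'))
      (IsScalarTower.toAlgHom A B (t'.Fiber B'))
  letI algFF' : Algebra (t.Fiber B) (t'.Fiber B') := φ.toRingHom.toAlgebra
  have tKFF' : IsScalarTower t.ResidueField (t.Fiber B) (t'.Fiber B') :=
    .of_algebraMap_eq (fun k => by
      change algebraMap t.ResidueField (t'.Fiber B') k = φ (k ⊗ₜ[A] (1 : B))
      rw [Algebra.TensorProduct.productMap_left_apply]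
      rfl)
  have tBFF' : IsScalarTower B (t.Fiber B) (t'.Fiber B') :=
    .of_algebraMap_eq (fun b => by
      change algebraMap B (t'.Fiber B') b = φ ((1 : t.ResidueField) ⊗ₜ[A] b)
      rw [Algebra.TensorProduct.productMap_right_apply]
      rfl)
  have tAFF' : IsScalarTower A (t.Fiber B) (t'.Fiber B') :=
    .of_algebraMap_eq (fun a => (φ.commutes a).symm)
  -- the pushout squares
  have hpo0 : Algebra.IsPushout A A' B B' := Algebra.IsPushout.symm inferInstance
  have hpo1 : Algebra.IsPushout A t'.ResidueField B (t'.Fiber B') :=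
    (Algebra.IsPushout.comp_iff A A' B B').mpr TensorProduct.isPushout
  have hpo2 : Algebra.IsPushout t.ResidueField t'.ResidueField (t.Fiber B) (t'.Fiber B') :=
    (Algebra.IsPushout.comp_iff A t.ResidueField B (t.Fiber B)).mp hpo1
  have hpo3 : Algebra.IsPushout t.ResidueField (t.Fiber B) t'.ResidueField (t'.Fiber B') :=
    Algebra.IsPushout.symm hpo2
  have hff : Module.FaithfullyFlat (t.Fiber B) (t'.Fiber B') :=
    Module.FaithfullyFlat.of_linearEquiv (t.Fiber B) ((t.Fiber B) ⊗[t.ResidueField] t'.ResidueField)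
      (Algebra.IsPushout.equiv t.ResidueField (t.Fiber B) t'.ResidueField
        (t'.Fiber B')).symm.toLinearEquiv
  -- module structures on the fibre module of `N'`
  -- the map of fibre modules, a base change along `F → F'`
  have hbcN : IsBaseChange (t.Fiber B) (TensorProduct.mk B (t.Fiber B) N 1) :=
    TensorProduct.isBaseChange B N (t.Fiber B)
  have hbcN' : IsBaseChange (t'.Fiber B') (TensorProduct.mk B' (t'.Fiber B') N' 1) :=
    TensorProduct.isBaseChange B' N' (t'.Fiber B')
  let ψ : N →ₗ[B] (t'.Fiber B') ⊗[B'] N' :=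
    ((TensorProduct.mk B' (t'.Fiber B') N' 1).restrictScalars B).comp g
  have hψ : IsBaseChange (t'.Fiber B') ψ := IsBaseChange.comp hg hbcN'
  let h : (t.Fiber B) ⊗[B] N →ₗ[t.Fiber B] (t'.Fiber B') ⊗[B'] N' := hbcN.lift ψ
  have hh : IsBaseChange (t'.Fiber B') h := by
    apply IsBaseChange.of_comp hbcN
    have : (h.restrictScalars B).comp (TensorProduct.mk B (t.Fiber B) N 1) = ψ := by
      ext x
      exact hbcN.lift_eq ψ x
    rw [this]
    exact hψ
  -- apply the abstract lifting lemma
  have hflat : Module.Flat (t.Fiber B) (t'.Fiber B') := inferInstance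
  have hPprime : (FlatCA.fiberIdeal t P).IsPrime := hP.1
  have hne : Nontrivial ((t'.Fiber B') ⊗[t.Fiber B] ((t.Fiber B) ⧸ FlatCA.fiberIdeal t P)) :=
    (Module.FaithfullyFlat.nontrivial_tensorProduct_iff_right (t.Fiber B) (t'.Fiber B')).mpr
      (Ideal.Quotient.nontrivial_iff.mpr hPprime.ne_top)
  obtain ⟨Q', hQ'ass, hQ'comap⟩ :=
    Groth.Agent.Lib.Helper22.AssFlatBC.exists_ass_comap_eq h hh (FlatCA.fiberIdeal t P) hP hne
  have hQ'prime : Q'.IsPrime := hQ'ass.1
  refine ⟨Q'.comap (algebraMap B' (t'.Fiber B')), Ideal.comap_isPrime _ _, ?_, ?_, ?_⟩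
  · have hover : Q'.LiesOver t' := inferInstance
    constructor
    ext a
    rw [Ideal.under_def, Ideal.mem_comap, Ideal.mem_comap,
      ← IsScalarTower.algebraMap_apply A' B' (t'.Fiber B')]
    have h1 : a ∈ t' ↔ a ∈ Q'.under A' := by rw [← hover.over]
    rw [h1, Ideal.under_def, Ideal.mem_comap]
  · rw [Ideal.comap_comap]
    have : (algebraMap B' (t'.Fiber B')).comp (algebraMap B B') =
        (algebraMap (t.Fiber B) (t'.Fiber B')).comp (algebraMap B (t.Fiber B)) := by
      ext b
      exact IsScalarTower.algebraMap_apply B (t.Fiber B) (t'.Fiber B') b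
    rw [this, ← Ideal.comap_comap, hQ'comap]
    exact comap_fiberIdeal t P
  · have : FlatCA.fiberIdeal t' (Q'.comap (algebraMap B' (t'.Fiber B'))) = Q' :=
      Groth.Agent.Lib.Helper22.UnivInjGlob.map_comap_fiber t' Q'
    rw [this]
    exact hQ'ass

end Lift

end Groth.Agent.Lib.Helper22.FiberAssLift
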