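import Mathlib
import Groth.Prelude.Def_FlatCA
import Groth.Agent.Lib.Helper18StdEtaleCover
import Groth.Agent.Lib.Helper22FiberAssLift

set_option autoImplicit false
set_option linter.unusedSectionVars false
set_option linter.style.haveILetI false

open TensorProduct FlatMor

namespace Groth.Agent.Lib.Helper22.PurityDescent

universe u

attribute [local instance] Algebra.TensorProduct.rightAlgebra

section Primes

variable {A A' A1 : Type u} [CommRing A] [CommRing A'] [CommRing A1] [Algebra A A'] [Algebra A A1]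

/-- Primes of `A' ⊗[A] A1` over a pair of primes `t' ≤ t` of `A1` and a prime `p'` of `A'` at which
`A'` is flat over `A`: going down for the base change. -/
theorem exists_primes_tensor (p : Ideal A) [p.IsPrime] (p' : Ideal A') [p'.IsPrime] [p'.LiesOver p]
    [Module.Flat A (Localization.AtPrime p')]
    (t' t : Ideal A1) [t'.IsPrime] [t.IsPrime] (hle : t' ≤ t) [t.LiesOver p] :
    ∃ (s' s : Ideal (A' ⊗[A] A1)), s'.IsPrime ∧ s.IsPrime ∧ s' ≤ s ∧ s.LiesOver p' ∧ s.LiesOver t ∧
      s'.LiesOver t' := by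
  obtain ⟨s, hs, hsl, hsr⟩ := Groth.Agent.Lib.Helper18StdEtaleCover.exists_prime_tensor A A' A1 p' t
    (by rw [← p'.over_def p, ← t.over_def p])
  have hsp' : s.LiesOver p' := ⟨hsl.symm⟩
  have hst : s.LiesOver t := ⟨hsr.symm⟩
  -- the localized tensor product
  have hflatC : Module.Flat A1 ((Localization.AtPrime p') ⊗[A] A1) :=
    Module.Flat.isBaseChange A A1 (Localization.AtPrime p') _
      (TensorProduct.isPushout' (R := A) (S := Localization.AtPrime p') (T := A1)).out
  let ι : A' ⊗[A] A1 →ₐ[A] (Localization.AtPrime p') ⊗[A] A1 :=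
    Algebra.TensorProduct.map (IsScalarTower.toAlgHom A A' (Localization.AtPrime p'))
      (AlgHom.id A A1)
  letI algTC : Algebra (A' ⊗[A] A1) ((Localization.AtPrime p') ⊗[A] A1) := ι.toRingHom.toAlgebra
  have tA'TC : IsScalarTower A' (A' ⊗[A] A1) ((Localization.AtPrime p') ⊗[A] A1) :=
    .of_algebraMap_eq (fun a => by
      change algebraMap A' ((Localization.AtPrime p') ⊗[A] A1) a = ι (a ⊗ₜ[A] (1 : A1))
      rw [Algebra.TensorProduct.map_tmul]
      rfl)
  have tA1TC : IsScalarTower A1 (A' ⊗[A] A1) ((Localization.AtPrime p') ⊗[A] A1) :=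
    .of_algebraMap_eq (fun x => by
      change algebraMap A1 ((Localization.AtPrime p') ⊗[A] A1) x = ι ((1 : A') ⊗ₜ[A] x)
      rw [Algebra.TensorProduct.map_tmul, map_one]
      rfl)
  have hloc : IsLocalization (Algebra.algebraMapSubmonoid (A' ⊗[A] A1) p'.primeCompl)
      ((Localization.AtPrime p') ⊗[A] A1) :=
    IsLocalization.tensorProduct_tensorProduct A A1 p'.primeCompl (Localization.AtPrime p') (by
      ext x
      change ι ((1 : A') ⊗ₜ[A] x) = (1 : Localization.AtPrime p') ⊗ₜ[A] x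
      rw [Algebra.TensorProduct.map_tmul, map_one]
      rfl)
  have hdisj : Disjoint ((Algebra.algebraMapSubmonoid (A' ⊗[A] A1) p'.primeCompl : Submonoid _) :
      Set (A' ⊗[A] A1)) (s : Set (A' ⊗[A] A1)) := by
    rw [Set.disjoint_left]
    rintro _ ⟨a, ha, rfl⟩ hmem
    apply ha
    rw [← hsl]
    exact hmem
  have hstprime : (s.map (algebraMap (A' ⊗[A] A1) ((Localization.AtPrime p') ⊗[A] A1))).IsPrime :=
    IsLocalization.isPrime_of_isPrime_disjoint _ _ s hs hdisj
  have hcomap : (s.map (algebraMap (A' ⊗[A] A1) ((Localization.AtPrime p') ⊗[A] A1))).comap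
      (algebraMap (A' ⊗[A] A1) ((Localization.AtPrime p') ⊗[A] A1)) = s :=
    IsLocalization.under_map_of_isPrime_disjoint _ _ hs hdisj
  have hstover : (s.map (algebraMap (A' ⊗[A] A1) ((Localization.AtPrime p') ⊗[A] A1))).LiesOver t := by
    constructor
    rw [Ideal.under_def, IsScalarTower.algebraMap_eq A1 (A' ⊗[A] A1)
      ((Localization.AtPrime p') ⊗[A] A1), ← Ideal.comap_comap, hcomap]
    exact hsr.symm
  obtain ⟨Q, hQle, hQprime, hQover⟩ := Ideal.exists_ideal_le_liesOver_of_le (p := t') (q := t)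
    (s.map (algebraMap (A' ⊗[A] A1) ((Localization.AtPrime p') ⊗[A] A1))) hle
  refine ⟨Q.comap (algebraMap (A' ⊗[A] A1) ((Localization.AtPrime p') ⊗[A] A1)), s,
    Ideal.comap_isPrime _ _, hs, ?_, hsp', hst, ?_⟩
  · rw [← hcomap]
    exact Ideal.comap_mono hQle
  · constructor
    rw [Ideal.under_def, Ideal.comap_comap, ← IsScalarTower.algebraMap_eq A1 (A' ⊗[A] A1)
      ((Localization.AtPrime p') ⊗[A] A1)]
    exact hQover.over

/-- Elementary etale neighbourhoods base change. -/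
theorem isEtaleNhd_tensor (p : Ideal A) [p.IsPrime] (p' : Ideal A') [p'.IsPrime] [p'.LiesOver p]
    (t : Ideal A1) [t.IsPrime] (s : Ideal (A' ⊗[A] A1)) [s.IsPrime] (hsp' : s.LiesOver p')
    (hst : s.LiesOver t) (h : FlatCA.IsEtaleNhd A A1 p t) :
    FlatCA.IsEtaleNhd A' (A' ⊗[A] A1) p' s := by
  obtain ⟨het, htp, hbij⟩ := h
  refine ⟨inferInstance, hsp', (RingHom.injective _), ?_⟩
  -- the four residue field maps
  let ψ : p'.ResidueField →+* s.ResidueField :=
    Ideal.ResidueField.map p' s (algebraMap A' (A' ⊗[A] A1)) hsp'.over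
  let ψt : t.ResidueField →+* s.ResidueField :=
    Ideal.ResidueField.map t s (algebraMap A1 (A' ⊗[A] A1)) hst.over
  let ψ0 : p.ResidueField →+* t.ResidueField :=
    Ideal.ResidueField.map p t (algebraMap A A1) htp.over
  let ψp : p.ResidueField →+* p'.ResidueField :=
    Ideal.ResidueField.map p p' (algebraMap A A') (p'.over_def p)
  have hcomm : ψt.comp ψ0 = ψ.comp ψp := by
    apply Ideal.ResidueField.ringHom_ext
    ext a
    simp only [RingHom.comp_apply, ψt, ψ0, ψ, ψp, Ideal.ResidueField.map_algebraMap]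
    congr 1
    rw [← IsScalarTower.algebraMap_apply A A' (A' ⊗[A] A1),
      ← IsScalarTower.algebraMap_apply A A1 (A' ⊗[A] A1)]
  have hsurj0 : Function.Surjective ψ0 := hbij.surjective
  have hmem : ∀ x : A' ⊗[A] A1, algebraMap (A' ⊗[A] A1) s.ResidueField x ∈ ψ.fieldRange := by
    intro x
    induction x using TensorProduct.induction_on with
    | zero => rw [map_zero]; exact Subfield.zero_mem _
    | tmul a' a1 =>
      have h1 : a' ⊗ₜ[A] a1 = algebraMap A' (A' ⊗[A] A1) a' * algebraMap A1 (A' ⊗[A] A1) a1 := by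
        change a' ⊗ₜ[A] a1 = (a' ⊗ₜ[A] (1 : A1)) * ((1 : A') ⊗ₜ[A] a1)
        rw [Algebra.TensorProduct.tmul_mul_tmul, mul_one, one_mul]
      rw [h1, map_mul]
      apply Subfield.mul_mem
      · refine ⟨algebraMap A' p'.ResidueField a', ?_⟩
        exact Ideal.ResidueField.map_algebraMap p' s _ _ a'
      · obtain ⟨k, hk⟩ := hsurj0 (algebraMap A1 t.ResidueField a1)
        refine ⟨ψp k, ?_⟩
        have := congrArg (fun f => f k) hcomm
        simp only [RingHom.comp_apply] at this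
        rw [← this, hk]
        exact Ideal.ResidueField.map_algebraMap t s _ _ a1
    | add x y hx hy => rw [map_add]; exact Subfield.add_mem _ hx hy
  intro z
  obtain ⟨x, y, -, rfl⟩ := IsFractionRing.div_surjective (A := (A' ⊗[A] A1) ⧸ s) z
  obtain ⟨x, rfl⟩ := Ideal.Quotient.mk_surjective x
  obtain ⟨y, rfl⟩ := Ideal.Quotient.mk_surjective y
  have hz : algebraMap ((A' ⊗[A] A1) ⧸ s) s.ResidueField (Ideal.Quotient.mk s x) /
      algebraMap ((A' ⊗[A] A1) ⧸ s) s.ResidueField (Ideal.Quotient.mk s y) ∈ ψ.fieldRange :=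
    Subfield.div_mem _ (hmem x) (hmem y)
  obtain ⟨w, hw⟩ := hz
  exact ⟨w, hw⟩

end Primes

section Lift

variable {A1 B1 A1' B1' : Type u} [CommRing A1] [CommRing B1] [CommRing A1'] [CommRing B1']
  [Algebra A1 B1] [Algebra A1 A1'] [Algebra B1 B1'] [Algebra A1' B1'] [Algebra A1 B1']
  [IsScalarTower A1 B1 B1'] [IsScalarTower A1 A1' B1'] [Algebra.IsPushout A1 B1 A1' B1']
  [Algebra.FiniteType A1 B1]
  (N1 N1' : Type u) [AddCommGroup N1] [Module B1 N1] [AddCommGroup N1'] [Module B1' N1']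
  [Module B1 N1'] [IsScalarTower B1 B1' N1']

/-- The point part of an impurity lifts along a base change `A1 → A1'`, given primes `s' ≤ s` of
`A1'` over the primes `t' ≤ t` of `A1`. -/
theorem impurity_lift (g : N1 →ₗ[B1] N1') (hg : IsBaseChange B1' g)
    (t' t : Ideal A1) [t'.IsPrime] [t.IsPrime] (s' s : Ideal A1') [s'.IsPrime] [s.IsPrime]
    [s.LiesOver t] [s'.LiesOver t'] (P : Ideal B1) [P.IsPrime] [P.LiesOver t']
    (hass : FlatCA.fiberIdeal t' P ∈ associatedPrimes (t'.Fiber B1) (FlatCA.fiberMod t' B1 N1))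
    (hno : ∀ (P' : Ideal B1) [P'.IsPrime], P ≤ P' → ¬ P'.LiesOver t) :
    ∃ (Q : Ideal B1'), Q.IsPrime ∧ Q.LiesOver s' ∧
      FlatCA.fiberIdeal s' Q ∈ associatedPrimes (s'.Fiber B1') (FlatCA.fiberMod s' B1' N1') ∧
      ∀ (Q' : Ideal B1') [Q'.IsPrime], Q ≤ Q' → ¬ Q'.LiesOver s := by
  obtain ⟨Q, hQp, hQo, hQc, hQa⟩ :=
    Groth.Agent.Lib.Helper22.FiberAssLift.exists_fiber_ass_lift N1 N1' g hg t' s' P hass
  refine ⟨Q, hQp, hQo, hQa, ?_⟩
  intro Q' hQ'p hle hover
  refine hno (Q'.comap (algebraMap B1 B1')) (hQc ▸ Ideal.comap_mono hle) ⟨?_⟩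
  rw [Ideal.under_def, Ideal.comap_comap, ← IsScalarTower.algebraMap_eq A1 B1 B1',
    IsScalarTower.algebraMap_eq A1 A1' B1', ← Ideal.comap_comap]
  have h1 : Q'.comap (algebraMap A1' B1') = s := hover.over.symm
  rw [h1]
  exact Ideal.LiesOver.over

end Lift

end Groth.Agent.Lib.Helper22.PurityDescent
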