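import Mathlib

set_option autoImplicit false
set_option linter.unusedSectionVars false

open TensorProduct

namespace Groth.Agent.Lib.Helper22.AssFlatBC2

section Abstract

variable {F : Type*} {F' : Type*} [CommRing F] [CommRing F'] [Algebra F F']
  [IsNoetherianRing F] [Module.Flat F F']
  {M : Type*} [AddCommGroup M] [Module F M]

/-- The map `m ↦ (c i • m)_i`. -/
noncomputable def smulPi {r : ℕ} (c : Fin r → F) : M →ₗ[F] (Fin r → M) :=
  LinearMap.pi (fun i => c i • LinearMap.id)

theorem piRight_lTensor_smulPi {r : ℕ} (c : Fin r → F) (w : F' ⊗[F] M) (i : Fin r) :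
    TensorProduct.piRight F F F' (fun _ : Fin r => M) ((smulPi (M := M) c).lTensor F' w) i =
      c i • w := by
  induction w using TensorProduct.induction_on with
  | zero => simp
  | tmul x m =>
    rw [LinearMap.lTensor_tmul, TensorProduct.piRight_apply, TensorProduct.piRightHom_tmul]
    simp [smulPi]
  | add x y hx hy => rw [map_add, map_add, Pi.add_apply, hx, hy, smul_add]

/-- Associated primes contract to associated primes under flat base change (`F` Noetherian). -/
theorem comap_mem_ass_of_flat (Q : Ideal F') (hQ : Q ∈ associatedPrimes F' (F' ⊗[F] M)) :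
    Q.comap (algebraMap F F') ∈ associatedPrimes F M := by
  obtain ⟨hQprime, z, hz⟩ := hQ
  have hpprime : (Q.comap (algebraMap F F')).IsPrime := Ideal.comap_isPrime _ _
  -- the annihilator of `z` in `F`
  have hp : Q.comap (algebraMap F F') =
      ((⊥ : Submodule F (F' ⊗[F] M)).colon {z}).radical := by
    ext a
    rw [Ideal.mem_comap, hz]
    constructor
    · rintro ⟨n, hn⟩
      refine ⟨n, ?_⟩
      rw [Submodule.mem_colon_singleton, Submodule.mem_bot] at hn ⊢
      rw [← map_pow, algebraMap_smul] at hn
      exact hn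
    · rintro ⟨n, hn⟩
      refine ⟨n, ?_⟩
      rw [Submodule.mem_colon_singleton, Submodule.mem_bot] at hn ⊢
      rw [← map_pow, algebraMap_smul]
      exact hn
  obtain ⟨k, hk⟩ := Ideal.exists_radical_pow_le_of_fg
    ((⊥ : Submodule F (F' ⊗[F] M)).colon {z})
    (IsNoetherian.noetherian _)
  rw [← hp] at hk
  obtain ⟨r, c, hc⟩ := Submodule.fg_iff_exists_fin_generating_family.mp
    (IsNoetherian.noetherian ((Q.comap (algebraMap F F')) ^ k))
  -- `z` comes from `F' ⊗ L`, `L` the submodule killed by `𝔭^k`
  have hexact : Function.Exact (LinearMap.ker (smulPi (M := M) c)).subtype (smulPi (M := M) c) :=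
    LinearMap.exact_subtype_ker_map _
  have hexact' := Module.Flat.lTensor_exact F' hexact
  have hz0 : (smulPi (M := M) c).lTensor F' z = 0 := by
    apply (TensorProduct.piRight F F F' (fun _ : Fin r => M)).injective
    rw [map_zero]
    funext i
    rw [piRight_lTensor_smulPi, Pi.zero_apply]
    have hci : c i ∈ (⊥ : Submodule F (F' ⊗[F] M)).colon {z} := by
      apply hk
      rw [← hc]
      exact Submodule.subset_span ⟨i, rfl⟩
    rw [Submodule.mem_colon_singleton, Submodule.mem_bot] at hci
    exact hci
  obtain ⟨y, hy⟩ := (hexact' z).mp hz0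
  by_contra hnot
  -- elements of `L` are killed by something outside `𝔭`
  have hJl : ∀ l : LinearMap.ker (smulPi (M := M) c),
      ∀ a ∈ (Q.comap (algebraMap F F')) ^ k, a • (l : M) = 0 := by
    intro l a ha
    rw [← hc] at ha
    induction ha using Submodule.span_induction with
    | mem a ha =>
      obtain ⟨i, rfl⟩ := ha
      have := congrFun (LinearMap.mem_ker.mp l.2) i
      simpa [smulPi] using this
    | zero => rw [zero_smul]
    | add a b _ _ ha hb => rw [add_smul, ha, hb, add_zero]
    | smul a b _ hb => rw [smul_eq_mul, mul_smul, hb, smul_zero]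
  have hclaim : ∀ l : LinearMap.ker (smulPi (M := M) c),
      ∃ b ∉ Q.comap (algebraMap F F'), b • (l : M) = 0 := by
    intro l
    by_cases hl : (l : M) = 0
    · exact ⟨1, fun h => hpprime.ne_top ((Ideal.eq_top_iff_one _).mpr h), by rw [hl, smul_zero]⟩
    · have hle : Q.comap (algebraMap F F') ≤
          ((⊥ : Submodule F M).colon {(l : M)}).radical := by
        intro a ha
        refine ⟨k, ?_⟩
        rw [Submodule.mem_colon_singleton, Submodule.mem_bot]
        exact hJl l _ (Ideal.pow_mem_pow ha k)
      have hnle : ¬ ((⊥ : Submodule F M).colon {(l : M)}).radical ≤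
          Q.comap (algebraMap F F') := by
        intro hle'
        exact hnot ⟨hpprime, (l : M), le_antisymm hle hle'⟩
      obtain ⟨b, hb, hbp⟩ := Set.not_subset.mp hnle
      obtain ⟨n, hn⟩ := hb
      rw [Submodule.mem_colon_singleton, Submodule.mem_bot] at hn
      exact ⟨b ^ n, fun h => hbp (hpprime.mem_of_pow_mem n h), hn⟩
  have hall : ∀ y : F' ⊗[F] (LinearMap.ker (smulPi (M := M) c)),
      ∃ b ∉ Q.comap (algebraMap F F'),
        b • ((LinearMap.ker (smulPi (M := M) c)).subtype.lTensor F' y) = 0 := by
    intro y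
    induction y using TensorProduct.induction_on with
    | zero =>
      exact ⟨1, fun h => hpprime.ne_top ((Ideal.eq_top_iff_one _).mpr h), by simp⟩
    | tmul x l =>
      obtain ⟨b, hb, hbl⟩ := hclaim l
      refine ⟨b, hb, ?_⟩
      rw [LinearMap.lTensor_tmul, Submodule.subtype_apply, TensorProduct.smul_tmul', 
        TensorProduct.smul_tmul, hbl, TensorProduct.tmul_zero]
    | add x y hx hy =>
      obtain ⟨b1, hb1, h1⟩ := hx
      obtain ⟨b2, hb2, h2⟩ := hy
      refine ⟨b1 * b2, fun h => (hpprime.mem_or_mem h).elim hb1 hb2, ?_⟩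
      rw [map_add, smul_add, mul_smul, smul_comm, h1, smul_zero, mul_smul, h2, smul_zero,
        add_zero]
  obtain ⟨b, hb, hbz⟩ := hall y
  rw [hy] at hbz
  apply hb
  rw [hp]
  apply Ideal.le_radical
  rw [Submodule.mem_colon_singleton, Submodule.mem_bot]
  exact hbz

/-- Variant for an abstract base change. -/
theorem comap_mem_ass_of_isBaseChange {M' : Type*} [AddCommGroup M'] [Module F' M'] [Module F M']
    [IsScalarTower F F' M'] (g : M →ₗ[F] M') (hg : IsBaseChange F' g)
    (Q : Ideal F') (hQ : Q ∈ associatedPrimes F' M') :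
    Q.comap (algebraMap F F') ∈ associatedPrimes F M := by
  apply comap_mem_ass_of_flat (F' := F') Q
  rw [LinearEquiv.AssociatedPrimes.eq hg.equiv]
  exact hQ

end Abstract

end Groth.Agent.Lib.Helper22.AssFlatBC2
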