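import Mathlib
import Groth.Prelude.Def_FlatCA
import Groth.Agent.Lib.Helper22AssFlatBC2
import Groth.Agent.Lib.Helper22FiberAssLift

set_option autoImplicit false
set_option linter.unusedSectionVars false
set_option linter.style.haveILetI false

open TensorProduct FlatMor

namespace Groth.Agent.Lib.Helper22.FiberAssLiftB

universe u

attribute [local instance] Algebra.TensorProduct.rightAlgebra

open Groth.Agent.Lib.Helper22.FiberAssLift

section Comap

variable {A B A' B' : Type u} [CommRing A] [CommRing B] [CommRing A'] [CommRing B']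
  [Algebra A B] [Algebra A A'] [Algebra B B'] [Algebra A' B'] [Algebra A B']
  [IsScalarTower A B B'] [IsScalarTower A A' B'] [Algebra.IsPushout A B A' B']
  [Algebra.FiniteType A B]
  (N N' : Type u) [AddCommGroup N] [Module B N] [AddCommGroup N'] [Module B' N'] [Module B N']
  [IsScalarTower B B' N']

/-- Associated points of fibres contract to associated points of fibres under base change. -/
theorem fiber_ass_comap (g : N →ₗ[B] N') (hg : IsBaseChange B' g)
    (t : Ideal A) [t.IsPrime] (t' : Ideal A') [t'.IsPrime] [t'.LiesOver t]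
    (Q : Ideal B') [Q.IsPrime] [Q.LiesOver t']
    (hQ : FlatCA.fiberIdeal t' Q ∈ associatedPrimes (t'.Fiber B') (FlatCA.fiberMod t' B' N')) :
    FlatCA.fiberIdeal t (Q.comap (algebraMap B B')) ∈
      associatedPrimes (t.Fiber B) (FlatCA.fiberMod t B N) := by
  have hft' : Algebra.FiniteType A' B' := finiteType_of_isPushout (A := A) (B := B)
  have hnF : IsNoetherianRing (t.Fiber B) :=
    Algebra.FiniteType.isNoetherianRing t.ResidueField (t.Fiber B)
  have hnF' : IsNoetherianRing (t'.Fiber B') :=
    Algebra.FiniteType.isNoetherianRing t'.ResidueField (t'.Fiber B')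
  -- the residue field extension
  let ρ : t.ResidueField →+* t'.ResidueField :=
    Ideal.ResidueField.map t t' (algebraMap A A') (t'.over_def t)
  letI algKK' : Algebra t.ResidueField t'.ResidueField := ρ.toAlgebra
  have tAKK' : IsScalarTower A t.ResidueField t'.ResidueField := .of_algebraMap_eq (fun a => by
    change algebraMap A t'.ResidueField a = ρ (algebraMap A t.ResidueField a)
    rw [Ideal.ResidueField.map_algebraMap, ← IsScalarTower.algebraMap_apply])
  -- `F'` as an algebra over `B`
  letI algBF' : Algebra B (t'.Fiber B') :=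
    ((algebraMap B' (t'.Fiber B')).comp (algebraMap B B')).toAlgebra
  have tBB'F' : IsScalarTower B B' (t'.Fiber B') := .of_algebraMap_eq (fun _ => rfl)
  have tAB'F' : IsScalarTower A B' (t'.Fiber B') := .of_algebraMap_eq (fun a => by
    rw [IsScalarTower.algebraMap_apply A A' (t'.Fiber B'), IsScalarTower.algebraMap_apply A A' B',
      ← IsScalarTower.algebraMap_apply A' B' (t'.Fiber B')])
  have tABF' : IsScalarTower A B (t'.Fiber B') := .of_algebraMap_eq (fun a => by
    rw [IsScalarTower.algebraMap_apply A B' (t'.Fiber B'), IsScalarTower.algebraMap_apply A B B']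
    rfl)
  have tKK'F' : IsScalarTower t.ResidueField t'.ResidueField (t'.Fiber B') := inferInstance
  have tAKF' : IsScalarTower A t.ResidueField (t'.Fiber B') := .of_algebraMap_eq (fun a => by
    rw [IsScalarTower.algebraMap_apply t.ResidueField t'.ResidueField (t'.Fiber B'),
      ← IsScalarTower.algebraMap_apply A t.ResidueField t'.ResidueField,
      ← IsScalarTower.algebraMap_apply A t'.ResidueField (t'.Fiber B')])
  -- the map of fibre rings
  let φ : t.Fiber B →ₐ[A] t'.Fiber B' :=
    Algebra.TensorProduct.productMap (IsScalarTower.toAlgHom A t.ResidueField (t'.Fiber B'))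
      (IsScalarTower.toAlgHom A B (t'.Fiber B'))
  letI algFF' : Algebra (t.Fiber B) (t'.Fiber B') := φ.toRingHom.toAlgebra
  have tKFF' : IsScalarTower t.ResidueField (t.Fiber B) (t'.Fiber B') :=
    .of_algebraMap_eq (fun k => by
      change algebraMap t.ResidueField (t'.Fiber B') k = φ (k ⊗ₜ[A] (1 : B))
      rw [Algebra.TensorProduct.productMap_left_apply]
      rfl)
  have tBFF' : IsScalarTower B (t.Fiber B) (t'.Fiber B') :=
    .of_algebraMap_eq (fun b => by
      change algebraMap B (t'.Fiber B') b = φ ((1 : t.ResidueField) ⊗ₜ[A] b)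
      rw [Algebra.TensorProduct.productMap_right_apply]
      rfl)
  have tAFF' : IsScalarTower A (t.Fiber B) (t'.Fiber B') :=
    .of_algebraMap_eq (fun a => (φ.commutes a).symm)
  -- the pushout squares
  have hpo0 : Algebra.IsPushout A A' B B' := Algebra.IsPushout.symm inferInstance
  have hpo1 : Algebra.IsPushout A t'.ResidueField B (t'.Fiber B') :=
    (Algebra.IsPushout.comp_iff A A' B B').mpr TensorProduct.isPushout
  have hpo2 : Algebra.IsPushout t.ResidueField t'.ResidueField (t.Fiber B) (t'.Fiber B') :=
    (Algebra.IsPushout.comp_iff A t.ResidueField B (t.Fiber B)).mp hpo1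
  have hpo3 : Algebra.IsPushout t.ResidueField (t.Fiber B) t'.ResidueField (t'.Fiber B') :=
    Algebra.IsPushout.symm hpo2
  have hff : Module.FaithfullyFlat (t.Fiber B) (t'.Fiber B') :=
    Module.FaithfullyFlat.of_linearEquiv (t.Fiber B) ((t.Fiber B) ⊗[t.ResidueField] t'.ResidueField)
      (Algebra.IsPushout.equiv t.ResidueField (t.Fiber B) t'.ResidueField
        (t'.Fiber B')).symm.toLinearEquiv
  -- module structures on the fibre module of `N'`
  -- the map of fibre modules, a base change along `F → F'`
  have hbcN : IsBaseChange (t.Fiber B) (TensorProduct.mk B (t.Fiber B) N 1) :=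
    TensorProduct.isBaseChange B N (t.Fiber B)
  have hbcN' : IsBaseChange (t'.Fiber B') (TensorProduct.mk B' (t'.Fiber B') N' 1) :=
    TensorProduct.isBaseChange B' N' (t'.Fiber B')
  let ψ : N →ₗ[B] (t'.Fiber B') ⊗[B'] N' :=
    ((TensorProduct.mk B' (t'.Fiber B') N' 1).restrictScalars B).comp g
  have hψ : IsBaseChange (t'.Fiber B') ψ := IsBaseChange.comp hg hbcN'
  let h : (t.Fiber B) ⊗[B] N →ₗ[t.Fiber B] (t'.Fiber B') ⊗[B'] N' := hbcN.lift ψ
  have hh : IsBaseChange (t'.Fiber B') h := by
    apply IsBaseChange.of_comp hbcN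
    have : (h.restrictScalars B).comp (TensorProduct.mk B (t.Fiber B) N 1) = ψ := by
      ext x
      exact hbcN.lift_eq ψ x
    rw [this]
    exact hψ
  have hflat : Module.Flat (t.Fiber B) (t'.Fiber B') := inferInstance
  have hQprime : (FlatCA.fiberIdeal t' Q).IsPrime := hQ.1
  have key := Groth.Agent.Lib.Helper22.AssFlatBC2.comap_mem_ass_of_isBaseChange h hh
    (FlatCA.fiberIdeal t' Q) hQ
  have hcomap : ((FlatCA.fiberIdeal t' Q).comap (algebraMap (t.Fiber B) (t'.Fiber B'))).comap
      (algebraMap B (t.Fiber B)) = Q.comap (algebraMap B B') := by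
    rw [Ideal.comap_comap]
    have : (algebraMap (t.Fiber B) (t'.Fiber B')).comp (algebraMap B (t.Fiber B)) =
        (algebraMap B' (t'.Fiber B')).comp (algebraMap B B') := by
      ext b
      exact (IsScalarTower.algebraMap_apply B (t.Fiber B) (t'.Fiber B') b).symm
    rw [this, ← Ideal.comap_comap, comap_fiberIdeal t' Q]
  have hmc := Groth.Agent.Lib.Helper22.UnivInjGlob.map_comap_fiber t
    ((FlatCA.fiberIdeal t' Q).comap (algebraMap (t.Fiber B) (t'.Fiber B')))
  rw [hcomap] at hmc
  have : FlatCA.fiberIdeal t (Q.comap (algebraMap B B')) =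
      (FlatCA.fiberIdeal t' Q).comap (algebraMap (t.Fiber B) (t'.Fiber B')) := hmc
  rw [this]
  exact key

end Comap

end Groth.Agent.Lib.Helper22.FiberAssLiftB
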