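import Mathlib
import Groth.Prelude.Def_FlatCA
import Groth.Agent.Lib.Helper22FiberAssLiftB
import Groth.Agent.Lib.Helper22PurityDescent

set_option autoImplicit false
set_option linter.unusedSectionVars false
set_option linter.style.haveILetI false

open TensorProduct FlatMor

namespace Groth.Agent.Lib.Helper22.PurityQF

universe u

attribute [local instance] Algebra.TensorProduct.rightAlgebra

section Pushdown

variable {A2 B2 C BC : Type u} [CommRing A2] [CommRing B2] [CommRing C] [CommRing BC]
  [Algebra A2 B2] [Algebra A2 C] [Algebra B2 BC] [Algebra C BC] [Algebra A2 BC]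
  [IsScalarTower A2 B2 BC] [IsScalarTower A2 C BC] [Algebra.IsPushout A2 B2 C BC]
  [Algebra.FiniteType A2 B2] [Module.Finite A2 C]
  (N2 NC : Type u) [AddCommGroup N2] [Module B2 N2] [AddCommGroup NC] [Module BC NC]
  [Module B2 NC] [IsScalarTower B2 BC NC]

/-- The point part of an impurity descends along a finite base change `A2 → C` when the point `u`
of `C` is the only point over its image `s0`. -/
theorem impurity_pushdown_finite (g : N2 →ₗ[B2] NC) (hg : IsBaseChange BC g)
    (u' u : Ideal C) [u'.IsPrime] [u.IsPrime] (hle : u' ≤ u)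
    (s0 : Ideal A2) [s0.IsPrime] [u.LiesOver s0]
    (huniq : ∀ (u'' : Ideal C) [u''.IsPrime], u''.LiesOver s0 → u'' = u)
    (Q : Ideal BC) [Q.IsPrime] [Q.LiesOver u']
    (hass : FlatCA.fiberIdeal u' Q ∈ associatedPrimes (u'.Fiber BC) (FlatCA.fiberMod u' BC NC))
    (hno : ∀ (Q' : Ideal BC) [Q'.IsPrime], Q ≤ Q' → ¬ Q'.LiesOver u) :
    u'.under A2 ≤ s0 ∧ (Q.comap (algebraMap B2 BC)).LiesOver (u'.under A2) ∧
      FlatCA.fiberIdeal (u'.under A2) (Q.comap (algebraMap B2 BC)) ∈
        associatedPrimes ((u'.under A2).Fiber B2) (FlatCA.fiberMod (u'.under A2) B2 N2) ∧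
      ∀ (Q0' : Ideal B2) [Q0'.IsPrime], Q.comap (algebraMap B2 BC) ≤ Q0' → ¬ Q0'.LiesOver s0 := by
  have hu'over : u'.LiesOver (u'.under A2) := ⟨rfl⟩
  have hQ0over : (Q.comap (algebraMap B2 BC)).LiesOver (u'.under A2) := by
    constructor
    rw [Ideal.under_def, Ideal.under_def, Ideal.comap_comap,
      ← IsScalarTower.algebraMap_eq A2 B2 BC, IsScalarTower.algebraMap_eq A2 C BC,
      ← Ideal.comap_comap]
    congr 1
    exact Ideal.LiesOver.over
  refine ⟨?_, hQ0over, ?_, ?_⟩
  · rw [Ideal.LiesOver.over (p := s0) (P := u)]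
    exact Ideal.comap_mono hle
  · exact Groth.Agent.Lib.Helper22.FiberAssLiftB.fiber_ass_comap N2 NC g hg (u'.under A2) u' Q hass
  · intro Q0' hQ0'p hQ0le hQ0'over
    -- integrality of `B2 → BC`
    have hfin : Module.Finite B2 BC := by
      have h1 : IsBaseChange B2 (IsScalarTower.toAlgHom A2 C BC).toLinearMap :=
        (inferInstance : Algebra.IsPushout A2 B2 C BC).out
      exact Module.Finite.equiv h1.equiv
    have hint : Algebra.IsIntegral B2 BC := inferInstance
    obtain ⟨Q', hQ'ge, hQ'p, hQ'c⟩ :=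
      Ideal.exists_ideal_over_prime_of_isIntegral Q0' Q hQ0le
    have hu'' : (Q'.under C).LiesOver s0 := by
      constructor
      rw [Ideal.under_def, Ideal.under_def, Ideal.comap_comap,
        ← IsScalarTower.algebraMap_eq A2 C BC, IsScalarTower.algebraMap_eq A2 B2 BC,
        ← Ideal.comap_comap, hQ'c]
      exact hQ0'over.over
    have hQ'u : Q'.under C = u := huniq (Q'.under C) hu''
    exact hno Q' hQ'ge ⟨hQ'u.symm⟩

end Pushdown

end Groth.Agent.Lib.Helper22.PurityQF
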