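import Mathlib
import Groth.Prelude.Def_FlatCA
import Groth.Agent.Lib.Helper22FiberAssLiftB

set_option autoImplicit false
set_option linter.unusedSectionVars false
set_option linter.style.haveILetI false

open TensorProduct FlatMor

namespace Groth.Agent.Lib.Helper22.ImpurityStage

universe u

attribute [local instance] Algebra.TensorProduct.rightAlgebra

section Sup

variable {A1 B1 : Type*} [CommRing A1] [CommRing B1] [Algebra A1 B1]

/-- If no prime containing `P` lies over `t`, some `σ ∉ t` lies in `P + tB`. -/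
theorem exists_notMem_mem_sup (t : Ideal A1) [t.IsPrime] (P : Ideal B1)
    (hno : ∀ (P' : Ideal B1) [P'.IsPrime], P ≤ P' → ¬ P'.LiesOver t) :
    ∃ σ ∉ t, algebraMap A1 B1 σ ∈ P ⊔ t.map (algebraMap A1 B1) := by
  by_contra hcon
  push Not at hcon
  have hdisj : Disjoint ((P ⊔ t.map (algebraMap A1 B1) : Ideal B1) : Set B1)
      (Algebra.algebraMapSubmonoid B1 t.primeCompl : Set B1) := by
    rw [Set.disjoint_left]
    rintro _ hb ⟨s, hs, rfl⟩
    exact hcon s hs hb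
  obtain ⟨P', hP', hJP', hP'd⟩ := Ideal.exists_le_prime_disjoint _ _ hdisj
  refine hno P' (le_sup_left.trans hJP') ⟨?_⟩
  apply le_antisymm
  · intro a ha
    exact hJP' (Ideal.mem_sup_right (Ideal.mem_map_of_mem _ ha))
  · intro a ha
    by_contra hat
    exact Set.disjoint_left.mp hP'd ha ⟨a, hat, rfl⟩

/-- Conversely. -/
theorem no_prime_of_mem_sup (t : Ideal A1) (P : Ideal B1) (σ : A1) (hσ : σ ∉ t)
    (hmem : algebraMap A1 B1 σ ∈ P ⊔ t.map (algebraMap A1 B1))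
    (P' : Ideal B1) (hPP' : P ≤ P') : ¬ P'.LiesOver t := by
  intro hover
  apply hσ
  have h1 : P ⊔ t.map (algebraMap A1 B1) ≤ P' := by
    apply sup_le hPP'
    rw [Ideal.map_le_iff_le_comap]
    exact hover.over.le
  have h2 : σ ∈ P'.under A1 := h1 hmem
  rw [← hover.over] at h2
  exact h2

end Sup

section Stage

variable {A B A1 B1 : Type u} [CommRing A] [CommRing B] [CommRing A1] [CommRing B1]
  [Algebra A B] [Algebra A A1] [Algebra B B1] [Algebra A1 B1] [Algebra A B1]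
  [IsScalarTower A B B1] [IsScalarTower A A1 B1]

/-- `c ∈ B1` is in the image of `B0 → B1` for every stage `(A0, B0)` whose image in `A1`
contains `S`. -/
def StageRange (B : Type u) [CommRing B] [Algebra B B1] (S : Finset A1) (c : B1) : Prop :=
  ∀ (A0 B0 : Type u) [CommRing A0] [CommRing B0] [Algebra A0 A1] [Algebra A0 B0] [Algebra B0 B1]
    [Algebra A0 B1] [Algebra B B0] [IsScalarTower B B0 B1] [IsScalarTower A0 A1 B1]
    [IsScalarTower A0 B0 B1], (∀ a ∈ S, a ∈ Set.range (algebraMap A0 A1)) →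
    c ∈ Set.range (algebraMap B0 B1)

theorem exists_finset_stageRange [hpo : Algebra.IsPushout A B A1 B1] (c : B1) :
    ∃ S : Finset A1, StageRange B S c := by
  classical
  refine hpo.out.inductionOn c (fun c => ∃ S : Finset A1, StageRange B S c) ?_ ?_ ?_ ?_
  · exact ⟨∅, fun A0 B0 _ _ _ _ _ _ _ _ _ _ _ => ⟨0, map_zero _⟩⟩
  · intro a1
    refine ⟨{a1}, fun A0 B0 _ _ _ _ _ _ _ _ _ _ hS => ?_⟩
    obtain ⟨a0, ha0⟩ := hS a1 (Finset.mem_singleton_self a1)
    refine ⟨algebraMap A0 B0 a0, ?_⟩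
    rw [← IsScalarTower.algebraMap_apply A0 B0 B1, IsScalarTower.algebraMap_apply A0 A1 B1, ha0]
    rfl
  · rintro b n ⟨S, hS⟩
    refine ⟨S, fun A0 B0 _ _ _ _ _ _ _ _ _ _ hS' => ?_⟩
    obtain ⟨n0, hn0⟩ := hS A0 B0 hS'
    refine ⟨algebraMap B B0 b * n0, ?_⟩
    rw [map_mul, hn0, ← IsScalarTower.algebraMap_apply B B0 B1, Algebra.smul_def]
  · rintro c1 c2 ⟨S1, hS1⟩ ⟨S2, hS2⟩
    refine ⟨S1 ∪ S2, fun A0 B0 _ _ _ _ _ _ _ _ _ _ hS' => ?_⟩
    obtain ⟨n1, hn1⟩ := hS1 A0 B0 (fun a ha => hS' a (Finset.mem_union_left _ ha))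
    obtain ⟨n2, hn2⟩ := hS2 A0 B0 (fun a ha => hS' a (Finset.mem_union_right _ ha))
    exact ⟨n1 + n2, by rw [map_add, hn1, hn2]⟩

/-- `x ∈ B1` lifts to `t0 B0` for every stage containing `S`. -/
def StageMap (B : Type u) [CommRing B] [Algebra B B1] (t : Ideal A1) (S : Finset A1) (x : B1) :
    Prop :=
  ∀ (A0 B0 : Type u) [CommRing A0] [CommRing B0] [Algebra A0 A1] [Algebra A0 B0] [Algebra B0 B1]
    [Algebra A0 B1] [Algebra B B0] [IsScalarTower B B0 B1] [IsScalarTower A0 A1 B1]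
    [IsScalarTower A0 B0 B1], (∀ a ∈ S, a ∈ Set.range (algebraMap A0 A1)) →
    ∃ x0 ∈ (t.under A0).map (algebraMap A0 B0), algebraMap B0 B1 x0 = x

theorem exists_finset_stageMap [hpo : Algebra.IsPushout A B A1 B1] (t : Ideal A1) (x : B1)
    (hx : x ∈ t.map (algebraMap A1 B1)) : ∃ S : Finset A1, StageMap B t S x := by
  classical
  rw [Ideal.map] at hx
  induction hx using Submodule.span_induction with
  | mem x hx =>
    obtain ⟨τ, hτ, rfl⟩ := hx
    refine ⟨{τ}, fun A0 B0 _ _ _ _ _ _ _ _ _ _ hS => ?_⟩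
    obtain ⟨τ0, hτ0⟩ := hS τ (Finset.mem_singleton_self τ)
    refine ⟨algebraMap A0 B0 τ0, Ideal.mem_map_of_mem _ ?_, ?_⟩
    · rw [Ideal.under_def, Ideal.mem_comap, hτ0]
      exact hτ
    · rw [← IsScalarTower.algebraMap_apply A0 B0 B1, IsScalarTower.algebraMap_apply A0 A1 B1, hτ0]
  | zero =>
    exact ⟨∅, fun A0 B0 _ _ _ _ _ _ _ _ _ _ _ => ⟨0, Ideal.zero_mem _, map_zero _⟩⟩
  | add x y _ _ hx hy =>
    obtain ⟨S1, hS1⟩ := hx
    obtain ⟨S2, hS2⟩ := hy
    refine ⟨S1 ∪ S2, fun A0 B0 _ _ _ _ _ _ _ _ _ _ hS' => ?_⟩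
    obtain ⟨x0, hx0, hx0'⟩ := hS1 A0 B0 (fun a ha => hS' a (Finset.mem_union_left _ ha))
    obtain ⟨y0, hy0, hy0'⟩ := hS2 A0 B0 (fun a ha => hS' a (Finset.mem_union_right _ ha))
    exact ⟨x0 + y0, Ideal.add_mem _ hx0 hy0, by rw [map_add, hx0', hy0']⟩
  | smul c x _ hx =>
    obtain ⟨S1, hS1⟩ := hx
    obtain ⟨S2, hS2⟩ := exists_finset_stageRange (A := A) (B := B) (A1 := A1) c
    refine ⟨S1 ∪ S2, fun A0 B0 _ _ _ _ _ _ _ _ _ _ hS' => ?_⟩
    obtain ⟨x0, hx0, hx0'⟩ := hS1 A0 B0 (fun a ha => hS' a (Finset.mem_union_left _ ha))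
    obtain ⟨c0, hc0⟩ := hS2 A0 B0 (fun a ha => hS' a (Finset.mem_union_right _ ha))
    exact ⟨c0 * x0, Ideal.mul_mem_left _ _ hx0, by rw [map_mul, hc0, hx0', smul_eq_mul]⟩

/-- The relation `σ ∈ P + tB1` descends to every stage containing a suitable finite set. -/
theorem exists_finset_stage_sup [hpo : Algebra.IsPushout A B A1 B1] (t : Ideal A1) (P : Ideal B1)
    (σ : A1) (hσ : algebraMap A1 B1 σ ∈ P ⊔ t.map (algebraMap A1 B1)) :
    ∃ S : Finset A1, ∀ (A0 B0 : Type u) [CommRing A0] [CommRing B0] [Algebra A0 A1]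
      [Algebra A0 B0] [Algebra B0 B1] [Algebra A0 B1] [Algebra B B0] [IsScalarTower B B0 B1]
      [IsScalarTower A0 A1 B1] [IsScalarTower A0 B0 B1],
      (∀ a ∈ S, a ∈ Set.range (algebraMap A0 A1)) → ∀ σ0 : A0, algebraMap A0 A1 σ0 = σ →
        algebraMap A0 B0 σ0 ∈ P.comap (algebraMap B0 B1) ⊔ (t.under A0).map (algebraMap A0 B0) := by
  obtain ⟨b, hb, x, hx, hbx⟩ := Submodule.mem_sup.mp hσ
  obtain ⟨S, hS⟩ := exists_finset_stageMap (A := A) (B := B) t x hx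
  refine ⟨S, fun A0 B0 _ _ _ _ _ _ _ _ _ _ hS' σ0 hσ0 => ?_⟩
  obtain ⟨x0, hx0, hx0'⟩ := hS A0 B0 hS'
  have h1 : algebraMap A0 B0 σ0 - x0 ∈ P.comap (algebraMap B0 B1) := by
    rw [Ideal.mem_comap, map_sub, hx0', ← IsScalarTower.algebraMap_apply A0 B0 B1,
      IsScalarTower.algebraMap_apply A0 A1 B1, hσ0, ← hbx, add_sub_cancel_right]
    exact hb
  have h2 : algebraMap A0 B0 σ0 = (algebraMap A0 B0 σ0 - x0) + x0 := by ring
  rw [h2]
  exact Submodule.add_mem_sup h1 hx0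

end Stage

section Main

variable {A B : Type u} [CommRing A] [CommRing B] [Algebra A B] [Algebra.FiniteType A B]
  (N : Type u) [AddCommGroup N] [Module B N]
  {A1 B1 : Type u} (N1 : Type u) [CommRing A1] [CommRing B1] [Algebra A A1] [Algebra B B1]
  [Algebra A1 B1] [Algebra A B1] [IsScalarTower A B B1] [IsScalarTower A A1 B1]
  [AddCommGroup N1] [Module B1 N1] [Module B N1] [IsScalarTower B B1 N1]

open Groth.Agent.Lib.Helper22.FiberAssLift

/-- The point data of an impurity over `A1` descends to every `A`-algebra `A0` mapping to `A1`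
whose image contains a suitable finite set. -/
theorem exists_finset_stage (f1 : N →ₗ[B] N1) (hpo : Algebra.IsPushout A B A1 B1)
    (hbc : IsBaseChange B1 f1) (t' t : Ideal A1) [t'.IsPrime] [t.IsPrime]
    (P : Ideal B1) [P.IsPrime] [P.LiesOver t']
    (hass : FlatCA.fiberIdeal t' P ∈ associatedPrimes (t'.Fiber B1) (FlatCA.fiberMod t' B1 N1))
    (σ : A1) (hσ : algebraMap A1 B1 σ ∈ P ⊔ t.map (algebraMap A1 B1)) :
    ∃ S : Finset A1, ∀ (A0 : Type u) [CommRing A0] [Algebra A A0] [Algebra A0 A1]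
      [IsScalarTower A A0 A1], (∀ a ∈ S, a ∈ Set.range (algebraMap A0 A1)) →
      ∃ (P0 : Ideal (B ⊗[A] A0)), P0.IsPrime ∧ P0.LiesOver (t'.under A0) ∧
        FlatCA.fiberIdeal (t'.under A0) P0 ∈ associatedPrimes ((t'.under A0).Fiber (B ⊗[A] A0))
          (FlatCA.fiberMod (t'.under A0) (B ⊗[A] A0) ((B ⊗[A] A0) ⊗[B] N)) ∧
        ∀ σ0 : A0, algebraMap A0 A1 σ0 = σ → algebraMap A0 (B ⊗[A] A0) σ0 ∈
          P0 ⊔ (t.under A0).map (algebraMap A0 (B ⊗[A] A0)) := by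
  obtain ⟨S, hS⟩ := exists_finset_stage_sup (A := A) (B := B) t P σ hσ
  refine ⟨S, fun A0 _ _ _ _ hS' => ?_⟩
  -- algebra structures
  letI algA0B1 : Algebra A0 B1 := ((algebraMap A1 B1).comp (algebraMap A0 A1)).toAlgebra
  have tA0A1B1 : IsScalarTower A0 A1 B1 := .of_algebraMap_eq (fun _ => rfl)
  have tAA0B1 : IsScalarTower A A0 B1 := .of_algebraMap_eq (fun a => by
    rw [IsScalarTower.algebraMap_apply A0 A1 B1, ← IsScalarTower.algebraMap_apply A A0 A1,
      ← IsScalarTower.algebraMap_apply A A1 B1])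
  let γ : B ⊗[A] A0 →ₐ[A] B1 :=
    Algebra.TensorProduct.productMap (IsScalarTower.toAlgHom A B B1) (IsScalarTower.toAlgHom A A0 B1)
  letI algB0B1 : Algebra (B ⊗[A] A0) B1 := γ.toRingHom.toAlgebra
  have tBB0B1 : IsScalarTower B (B ⊗[A] A0) B1 := .of_algebraMap_eq (fun b => by
    change algebraMap B B1 b = γ (b ⊗ₜ[A] (1 : A0))
    rw [Algebra.TensorProduct.productMap_left_apply]
    rfl)
  have tA0B0B1 : IsScalarTower A0 (B ⊗[A] A0) B1 := .of_algebraMap_eq (fun x => by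
    change algebraMap A0 B1 x = γ ((1 : B) ⊗ₜ[A] x)
    rw [Algebra.TensorProduct.productMap_right_apply]
    rfl)
  have tAB0B1 : IsScalarTower A (B ⊗[A] A0) B1 := .of_algebraMap_eq (fun a => (γ.commutes a).symm)
  -- pushout squares
  have hpoa : Algebra.IsPushout A A1 B B1 := Algebra.IsPushout.symm hpo
  have hpob : Algebra.IsPushout A A0 B (B ⊗[A] A0) := Algebra.IsPushout.symm TensorProduct.isPushout
  have hpoc : Algebra.IsPushout A0 A1 (B ⊗[A] A0) B1 :=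
    (Algebra.IsPushout.comp_iff A A0 B (B ⊗[A] A0)).mp hpoa
  have hpod : Algebra.IsPushout A0 (B ⊗[A] A0) A1 B1 := Algebra.IsPushout.symm hpoc
  -- modules
  letI modB0N1 : Module (B ⊗[A] A0) N1 := Module.compHom N1 (algebraMap (B ⊗[A] A0) B1)
  have tB0B1N1 : IsScalarTower (B ⊗[A] A0) B1 N1 := IsScalarTower.of_algebraMap_smul (fun _ _ => rfl)
  have tBB0N1 : IsScalarTower B (B ⊗[A] A0) N1 := IsScalarTower.of_algebraMap_smul (fun b m => by
    rw [← algebraMap_smul B1 (algebraMap B (B ⊗[A] A0) b) m,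
      ← IsScalarTower.algebraMap_apply B (B ⊗[A] A0) B1, algebraMap_smul B1 b m])
  have hbcN0 : IsBaseChange (B ⊗[A] A0) (TensorProduct.mk B (B ⊗[A] A0) N 1) :=
    TensorProduct.isBaseChange B N (B ⊗[A] A0)
  let g0 : (B ⊗[A] A0) ⊗[B] N →ₗ[B ⊗[A] A0] N1 := hbcN0.lift f1
  have hg0 : IsBaseChange B1 g0 := by
    apply IsBaseChange.of_comp hbcN0
    have : (g0.restrictScalars B).comp (TensorProduct.mk B (B ⊗[A] A0) N 1) = f1 := by
      ext x
      exact hbcN0.lift_eq f1 x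
    rw [this]
    exact hbc
  have hft0 : Algebra.FiniteType A0 (B ⊗[A] A0) := finiteType_of_isPushout (A := A) (B := B)
  have ht'over : t'.LiesOver (t'.under A0) := ⟨rfl⟩
  have hP0over : (P.comap (algebraMap (B ⊗[A] A0) B1)).LiesOver (t'.under A0) := by
    constructor
    rw [Ideal.under_def, Ideal.under_def, Ideal.comap_comap,
      ← IsScalarTower.algebraMap_eq A0 (B ⊗[A] A0) B1, IsScalarTower.algebraMap_eq A0 A1 B1,
      ← Ideal.comap_comap]
    congr 1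
    exact Ideal.LiesOver.over
  refine ⟨P.comap (algebraMap (B ⊗[A] A0) B1), Ideal.comap_isPrime _ _, hP0over, ?_, ?_⟩
  · exact Groth.Agent.Lib.Helper22.FiberAssLiftB.fiber_ass_comap ((B ⊗[A] A0) ⊗[B] N) N1 g0 hg0
      (t'.under A0) t' P hass
  · exact hS A0 (B ⊗[A] A0) hS'

end Main

end Groth.Agent.Lib.Helper22.ImpurityStage
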