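import Mathlib
import Groth.Prelude.Def_FlatCA
import Groth.Agent.Lib.Helper22ImpurityStage

set_option autoImplicit false
set_option linter.unusedSectionVars false
set_option linter.style.haveILetI false

open TensorProduct FlatMor IsLocalRing

namespace Groth.Agent.Lib.Helper22.NoethFC

universe u

section Krull

variable {O : Type*} [CommRing O] {M : Type*} [AddCommGroup M] [Module O M]

theorem map_mem_of_mem_smul_top (J : Ideal O) (φ : M →ₗ[O] O) {y : M}
    (hy : y ∈ (J • ⊤ : Submodule O M)) : φ y ∈ J := by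
  refine Submodule.smul_induction_on hy ?_ ?_
  · intro π hπ z _
    rw [map_smul, smul_eq_mul]
    exact Ideal.mul_mem_right _ _ hπ
  · intro y₁ y₂ h₁ h₂
    rw [map_add]
    exact Ideal.add_mem _ h₁ h₂

/-- Krull intersection for free modules over a Noetherian local ring. -/
theorem eq_zero_of_forall_mem_pow_smul [IsNoetherianRing O] [IsLocalRing O] [Module.Free O M]
    (I : Ideal O) (hI : I ≠ ⊤) (x : M)
    (h : ∀ n : ℕ, x ∈ (I ^ n • ⊤ : Submodule O M)) : x = 0 := by
  let b := Module.Free.chooseBasis O M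
  apply b.repr.injective
  rw [map_zero]
  ext i
  rw [Finsupp.zero_apply]
  have h1 : ∀ n : ℕ, b.repr x i ∈ I ^ n := fun n => by
    have := map_mem_of_mem_smul_top (I ^ n) (b.coord i) (h n)
    rwa [Module.Basis.coord_apply] at this
  have h2 : b.repr x i ∈ ⨅ n : ℕ, I ^ n := by
    rw [Submodule.mem_iInf]
    exact h1
  rw [Ideal.iInf_pow_eq_bot_of_isLocalRing I hI, Ideal.mem_bot] at h2
  exact h2

end Krull

section Loc

variable {E : Type u} [CommRing E] (𝔱 : Ideal E) [𝔱.IsPrime]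
  [IsNoetherianRing (Localization.AtPrime 𝔱)]
  {N' : Type u} [AddCommGroup N'] [Module E N']
  [Module.Free (Localization.AtPrime 𝔱) (Localization.AtPrime 𝔱 ⊗[E] N')]

theorem exists_smul_eq_zero_of_pow (x₁ : N') (σ : E) (hσ : σ ∉ 𝔱)
    (h : ∀ n : ℕ, σ ^ n • x₁ ∈ (𝔱 ^ n • ⊤ : Submodule E N')) : ∃ σ' ∉ 𝔱, σ' • x₁ = 0 := by
  set O := Localization.AtPrime 𝔱 with hO
  let g : N' →ₗ[E] O ⊗[E] N' := TensorProduct.mk E O N' 1
  have hmap : ∀ (n : ℕ) (y : N'), y ∈ (𝔱 ^ n • ⊤ : Submodule E N') →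
      g y ∈ ((maximalIdeal O) ^ n • ⊤ : Submodule O (O ⊗[E] N')) := by
    intro n y hy
    refine Submodule.smul_induction_on hy ?_ ?_
    · intro π hπ z _
      rw [map_smul, ← algebraMap_smul O π (g z)]
      refine Submodule.smul_mem_smul ?_ Submodule.mem_top
      rw [← Localization.AtPrime.map_eq_maximalIdeal, ← Ideal.map_pow]
      exact Ideal.mem_map_of_mem _ hπ
    · intro y₁ y₂ h₁ h₂
      rw [map_add]
      exact Submodule.add_mem _ h₁ h₂
  have hunit : IsUnit (algebraMap E O σ) :=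
    IsLocalization.map_units O (⟨σ, hσ⟩ : 𝔱.primeCompl)
  have hg : ∀ n : ℕ, g x₁ ∈ ((maximalIdeal O) ^ n • ⊤ : Submodule O (O ⊗[E] N')) := by
    intro n
    have h1 := hmap n _ (h n)
    rw [map_smul, ← algebraMap_smul O (σ ^ n) (g x₁), map_pow] at h1
    have h2 := Submodule.smul_mem _ ((↑(hunit.unit⁻¹) : O) ^ n) h1
    rwa [smul_smul, ← mul_pow, IsUnit.val_inv_mul, one_pow, one_smul] at h2
  have h0 : g x₁ = 0 :=
    eq_zero_of_forall_mem_pow_smul (maximalIdeal O) (Ideal.IsPrime.ne_top inferInstance) _ hg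
  obtain ⟨c, hc⟩ := (IsLocalizedModule.eq_zero_iff 𝔱.primeCompl
    (TensorProduct.mk E O N' 1)).mp h0
  exact ⟨c, c.2, hc⟩

end Loc

section Pow

variable {E S : Type u} [CommRing E] [CommRing S] [Algebra E S]
  {M : Type u} [AddCommGroup M] [Module S M] [Module E M] [IsScalarTower E S M]

theorem pow_smul_mem_of_mem_sup (𝔱 : Ideal E) (Q : Ideal S) (x₁ : M)
    (hQ : ∀ c ∈ Q, c • x₁ = 0) (σ : E)
    (hσ : algebraMap E S σ ∈ Q ⊔ 𝔱.map (algebraMap E S)) :
    ∀ n : ℕ, σ ^ n • x₁ ∈ (𝔱 ^ n • ⊤ : Submodule E M) := by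
  obtain ⟨i, hi, μ, hμ, hsum⟩ := Submodule.mem_sup.mp hσ
  have hkill : ∀ y ∈ Submodule.span S {x₁}, i • y = 0 := by
    intro y hy
    obtain ⟨r, rfl⟩ := Submodule.mem_span_singleton.mp hy
    rw [smul_comm, hQ i hi, smul_zero]
  have main : ∀ n : ℕ, ∀ y ∈ Submodule.span S {x₁}, σ ^ n • y ∈ (𝔱 ^ n • ⊤ : Submodule E M) := by
    intro n
    induction n with
    | zero =>
      intro y _
      rw [pow_zero, Ideal.one_eq_top, Submodule.top_smul]
      exact Submodule.mem_top
    | succ n ih =>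
      intro y hy
      have hstep : ∀ ν ∈ 𝔱.map (algebraMap E S), ∀ y ∈ Submodule.span S {x₁},
          σ ^ n • ν • y ∈ (𝔱 ^ (n + 1) • ⊤ : Submodule E M) := by
        intro ν hν
        refine Submodule.span_induction ?_ ?_ ?_ ?_ hν
        · rintro _ ⟨t, ht, rfl⟩ y hy
          rw [algebraMap_smul, smul_comm, pow_succ']
          rw [← smul_eq_mul, Submodule.smul_assoc]
          exact Submodule.smul_mem_smul ht (ih y hy)
        · intro y _
          rw [zero_smul, smul_zero]
          exact Submodule.zero_mem _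
        · intro ν₁ ν₂ _ _ h₁ h₂ y hy
          rw [add_smul, smul_add]
          exact Submodule.add_mem _ (h₁ y hy) (h₂ y hy)
        · intro r ν _ h₁ y hy
          rw [smul_eq_mul, mul_comm, mul_smul]
          exact h₁ (r • y) (Submodule.smul_mem _ r hy)
      have h1 : σ • y = μ • y := by
        rw [← algebraMap_smul S σ y, ← hsum, add_smul, hkill y hy, zero_add]
      have h2 : σ ^ (n + 1) • y = σ ^ n • μ • y := by
        rw [pow_succ, mul_smul, h1]
      rw [h2]
      exact hstep μ hμ y hy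
  intro n
  exact main n x₁ (Submodule.mem_span_singleton_self x₁)

end Pow

section Main

variable {E S : Type u} [CommRing E] [CommRing S] [Algebra E S]
  {M : Type u} [AddCommGroup M] [Module S M] [Module E M] [IsScalarTower E S M]

/-- **Field-case**: if `M` becomes free after localizing the base at `𝔱`, an annihilator prime
over the generic point has a specialization over `𝔱`. -/
theorem exists_prime_ge_liesOver_of_free (𝔱 : Ideal E) [𝔱.IsPrime]
    [IsNoetherianRing (Localization.AtPrime 𝔱)]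
    [Module.Free (Localization.AtPrime 𝔱) (Localization.AtPrime 𝔱 ⊗[E] M)]
    (Q : Ideal S) [Q.IsPrime] [Q.LiesOver (⊥ : Ideal E)] (x₁ : M)
    (hQ : Q = (⊥ : Submodule S M).colon {x₁}) :
    ∃ (P' : Ideal S) (_ : P'.IsPrime), Q ≤ P' ∧ P'.LiesOver 𝔱 := by
  by_contra hcon
  have hno : ∀ (P' : Ideal S) [P'.IsPrime], Q ≤ P' → ¬ P'.LiesOver 𝔱 := by
    intro P' hP' hle hover
    exact hcon ⟨P', hP', hle, hover⟩
  obtain ⟨σ, hσ, hmem⟩ := Groth.Agent.Lib.Helper22.ImpurityStage.exists_notMem_mem_sup 𝔱 Q hno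
  have hkill : ∀ c ∈ Q, c • x₁ = 0 := by
    intro c hc
    rw [hQ, Submodule.mem_colon_singleton, Submodule.mem_bot] at hc
    exact hc
  have hpow := pow_smul_mem_of_mem_sup 𝔱 Q x₁ hkill σ hmem
  obtain ⟨σ', hσ', h0⟩ := exists_smul_eq_zero_of_pow 𝔱 x₁ σ hσ hpow
  apply hσ'
  have h1 : algebraMap E S σ' ∈ Q := by
    rw [hQ, Submodule.mem_colon_singleton, Submodule.mem_bot, algebraMap_smul]
    exact h0
  have h2 : σ' ∈ Q.under E := h1
  rw [← Ideal.LiesOver.over (p := (⊥ : Ideal E)) (P := Q), Ideal.mem_bot] at h2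
  rw [h2]
  exact Ideal.zero_mem _

end Main

section Free

/-- If the `A`-algebra `E` kills `p` and `𝔱` lies over `p`, then the localization of `E ⊗[A] N`
at `𝔱` is a free module (it is a base change from the residue field of `p`). -/
theorem free_localization_tensor {A E : Type u} [CommRing A] [CommRing E] [Algebra A E]
    (p : Ideal A) [p.IsPrime] (𝔱 : Ideal E) [𝔱.IsPrime] [𝔱.LiesOver p]
    (hker : p ≤ RingHom.ker (algebraMap A E))
    (N : Type u) [AddCommGroup N] [Module A N]
    (N' : Type u) [AddCommGroup N'] [Module E N'] (e : N' ≃ₗ[E] E ⊗[A] N) :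
    Module.Free (Localization.AtPrime 𝔱) (Localization.AtPrime 𝔱 ⊗[E] N') := by
  set O := Localization.AtPrime 𝔱 with hO
  have hf₁ : p ≤ RingHom.ker (algebraMap A O) := by
    intro a ha
    rw [RingHom.mem_ker, IsScalarTower.algebraMap_apply A E O, (RingHom.mem_ker).mp (hker ha),
      map_zero]
  have hf₂ : p.primeCompl ≤ (IsUnit.submonoid O).comap (algebraMap A O) := by
    intro a ha
    rw [Submonoid.mem_comap, IsUnit.mem_submonoid_iff, IsScalarTower.algebraMap_apply A E O]
    refine IsLocalization.map_units O (⟨algebraMap A E a, ?_⟩ : 𝔱.primeCompl)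
    intro hmem
    apply ha
    rw [Ideal.LiesOver.over (p := p) (P := 𝔱)]
    exact hmem
  letI algkO : Algebra p.ResidueField O :=
    (Ideal.ResidueField.lift p (algebraMap A O) hf₁ hf₂).toAlgebra
  haveI tw : IsScalarTower A p.ResidueField O := .of_algebraMap_eq (fun a => by
    change _ = Ideal.ResidueField.lift p (algebraMap A O) hf₁ hf₂ (algebraMap A p.ResidueField a)
    rw [Ideal.ResidueField.lift_algebraMap])
  let e₀ : O ⊗[E] N' ≃ₗ[O] O ⊗[E] (E ⊗[A] N) :=
    TensorProduct.AlgebraTensorModule.congr (LinearEquiv.refl O O) e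
  let e₁ : O ⊗[E] (E ⊗[A] N) ≃ₗ[O] O ⊗[A] N :=
    TensorProduct.AlgebraTensorModule.cancelBaseChange A E O O N
  let e₂ : O ⊗[p.ResidueField] (p.ResidueField ⊗[A] N) ≃ₗ[O] O ⊗[A] N :=
    TensorProduct.AlgebraTensorModule.cancelBaseChange A p.ResidueField O O N
  exact Module.Free.of_equiv (e₂.trans (e₁.symm.trans e₀.symm))

end Free

end Groth.Agent.Lib.Helper22.NoethFC
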