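import Mathlib

set_option autoImplicit false
set_option linter.style.haveILetI false
universe u

namespace Groth.Agent.Lib.Helper18UnramLocal
open TensorProduct

/-- A surjection from an étale algebra onto a formally smooth finitely presented algebra has kernel
generated by an idempotent. -/
theorem exists_idem_ker {S T L : Type*} [CommRing S] [CommRing T] [CommRing L] [Algebra S T]
    [Algebra S L] [Algebra.FinitePresentation S T] [Algebra.FormallyUnramified S T]
    [Algebra.FormallySmooth S T] [Algebra.FinitePresentation S L] [Algebra.FormallySmooth S L]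
    (Θ : T →ₐ[S] L) (hΘ : Function.Surjective Θ) :
    ∃ e : T, IsIdempotentElem e ∧ RingHom.ker Θ.toRingHom = Ideal.span {e} := by
  have hfg : (RingHom.ker Θ.toRingHom).FG := Algebra.FinitePresentation.ker_fG_of_surjective Θ hΘ
  letI : Algebra T L := Θ.toRingHom.toAlgebra
  haveI : IsScalarTower S T L := .of_algebraMap_eq (fun x => (Θ.commutes x).symm)
  have hsurj : Function.Surjective (algebraMap T L) := hΘ
  have hinj : Function.Injective (KaehlerDifferential.kerCotangentToTensor S T L) :=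
    (Algebra.FormallySmooth.kerCotangentToTensor_injective_iff hsurj).mpr inferInstance
  haveI : Subsingleton (L ⊗[T] Ω[T⁄S]) := inferInstance
  have hsub : Subsingleton (RingHom.ker (algebraMap T L)).Cotangent := hinj.subsingleton
  have hidem : IsIdempotentElem (RingHom.ker (algebraMap T L)) :=
    (Ideal.cotangent_subsingleton_iff _).mp hsub
  exact (Ideal.isIdempotentElem_iff_of_fg _ hfg).mp hidem


/-- product decomposition by an idempotent -/
theorem exists_prod_equiv {E T : Type*} [CommRing E] [CommRing T] [Algebra E T] (e₀ : T)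
    (he₀ : IsIdempotentElem e₀) :
    ∃ e : T ≃ₐ[E] ((T ⧸ Ideal.span {e₀}) × (T ⧸ Ideal.span {1 - e₀})),
      ∀ t, (e t).1 = Ideal.Quotient.mk _ t := by
  let φ : T →ₐ[E] ((T ⧸ Ideal.span {e₀}) × (T ⧸ Ideal.span {1 - e₀})) :=
    AlgHom.prod (Ideal.Quotient.mkₐ E _) (Ideal.Quotient.mkₐ E _)
  have hφ : ∀ t, φ t = (Ideal.Quotient.mk _ t, Ideal.Quotient.mk _ t) := fun _ => rfl
  have he₀' : e₀ * e₀ = e₀ := he₀
  have hinj : Function.Injective φ := by
    rw [injective_iff_map_eq_zero]
    intro t ht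
    rw [hφ, Prod.mk_eq_zero, Ideal.Quotient.eq_zero_iff_mem, Ideal.Quotient.eq_zero_iff_mem,
      Ideal.mem_span_singleton', Ideal.mem_span_singleton'] at ht
    obtain ⟨⟨a, ha⟩, ⟨b, hb⟩⟩ := ht
    have h1 : e₀ * t = t := by rw [← ha]; linear_combination a * he₀'
    have h2 : e₀ * t = 0 := by rw [← hb]; linear_combination (-b) * he₀'
    rw [← h1, h2]
  have hsurj : Function.Surjective φ := by
    rintro ⟨a, b⟩
    obtain ⟨a, rfl⟩ := Ideal.Quotient.mk_surjective a
    obtain ⟨b, rfl⟩ := Ideal.Quotient.mk_surjective b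
    refine ⟨(1 - e₀) * a + e₀ * b, ?_⟩
    rw [hφ, Prod.mk.injEq, Ideal.Quotient.eq, Ideal.Quotient.eq, Ideal.mem_span_singleton',
      Ideal.mem_span_singleton']
    exact ⟨⟨b - a, by ring⟩, ⟨a - b, by ring⟩⟩
  exact ⟨AlgEquiv.ofBijective φ ⟨hinj, hsurj⟩, fun t => rfl⟩


section KER
attribute [local instance] Algebra.TensorProduct.rightAlgebra

theorem exists_idem_ker_productMap (R S E : Type*) [CommRing R] [CommRing S] [CommRing E]
    [Algebra R S] [Algebra R E] [Algebra.Etale R E] (f : S)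
    (ψ : E →ₐ[R] Localization.Away f) (hψ : Function.Surjective ψ) :
    ∃ e₀ : E ⊗[R] S, IsIdempotentElem e₀ ∧
      RingHom.ker (Algebra.TensorProduct.productMap ψ
        (IsScalarTower.toAlgHom R S (Localization.Away f))).toRingHom = Ideal.span {e₀} := by
  haveI : Algebra.Etale S (E ⊗[R] S) :=
    Algebra.Etale.of_equiv (Algebra.TensorProduct.commRight R S E)
  haveI : Algebra.FinitePresentation S (Localization.Away f) :=
    IsLocalization.Away.finitePresentation f
  let Θ : E ⊗[R] S →ₐ[S] Localization.Away f :=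
    { (Algebra.TensorProduct.productMap ψ
        (IsScalarTower.toAlgHom R S (Localization.Away f))).toRingHom with
      commutes' := fun s => by
        simp [Algebra.TensorProduct.right_algebraMap_apply] }
  have hΘ : Function.Surjective Θ := by
    intro y
    obtain ⟨x, rfl⟩ := hψ y
    exact ⟨x ⊗ₜ 1, by simp [Θ]⟩
  obtain ⟨e₀, he₀, hk⟩ := exists_idem_ker Θ hΘ
  exact ⟨e₀, he₀, hk⟩

end KER


theorem main9452 (R : Type u) [CommRing R]
    (S : Type u) [CommRing S] [Algebra R S] [Algebra.FiniteType R S] (q : Ideal S) [q.IsPrime]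
    [Algebra.IsUnramifiedAt R q] :
    ∃ (R' : Type u) (_ : CommRing R') (_ : Algebra R R') (_ : Algebra.Etale R R') (p' : Ideal R')
      (_ : p'.IsPrime) (_ : p'.LiesOver (q.under R)) (A : Type u) (_ : CommRing A) (_ : Algebra R' A)
      (B : Type u) (_ : CommRing B) (_ : Algebra R' B) (e : (R' ⊗[R] S) ≃ₐ[R'] (A × B)),
      Function.Surjective (algebraMap R' A) ∧ (p'.map (algebraMap R' A)).IsPrime ∧
        (p'.map (algebraMap R' A)).comap (algebraMap R' A) = p' ∧
        (p'.map (algebraMap R' A)).comap (((RingHom.fst A B).comp e.toRingHom).comp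
          (Algebra.TensorProduct.includeRight : S →ₐ[R] R' ⊗[R] S).toRingHom) = q := by
  obtain ⟨f, hfq, P, ψ, hψ⟩ :=
    Algebra.IsUnramifiedAt.exists_hasStandardEtaleSurjectionOn (R := R) q
  have hdisj : Disjoint (Submonoid.powers f : Set S) (q : Set S) :=
    (Ideal.disjoint_powers_iff_notMem_of_isPrime _).mpr hfq
  let Q : Ideal (Localization.Away f) := q.map (algebraMap S (Localization.Away f))
  haveI hQ : Q.IsPrime :=
    IsLocalization.isPrime_of_isPrime_disjoint (.powers f) _ _ ‹_› hdisj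
  have hQq : Q.comap (algebraMap S (Localization.Away f)) = q :=
    IsLocalization.under_map_of_isPrime_disjoint (.powers f) _ ‹_› hdisj
  let Θ : P.Ring ⊗[R] S →ₐ[R] Localization.Away f :=
    Algebra.TensorProduct.productMap ψ (IsScalarTower.toAlgHom R S (Localization.Away f))
  have hΘl : ∀ x : P.Ring, Θ (x ⊗ₜ 1) = ψ x := fun x => by simp [Θ]
  have hΘr : ∀ s : S, Θ (1 ⊗ₜ s) = algebraMap S (Localization.Away f) s := fun s => by simp [Θ]
  obtain ⟨e₀, he₀, hk⟩ := exists_idem_ker_productMap R S P.Ring f ψ hψ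
  obtain ⟨e, he⟩ := exists_prod_equiv (E := P.Ring) e₀ he₀
  let ν : (P.Ring ⊗[R] S) ⧸ Ideal.span {e₀} →+* Localization.Away f :=
    Ideal.Quotient.lift (Ideal.span {e₀}) Θ.toRingHom (fun t ht => by
      rw [← hk] at ht
      exact ht)
  have hν : ∀ t, ν (Ideal.Quotient.mk _ t) = Θ t := fun _ => rfl
  have halg : ∀ x : P.Ring, algebraMap P.Ring ((P.Ring ⊗[R] S) ⧸ Ideal.span {e₀}) x =
      Ideal.Quotient.mk _ (x ⊗ₜ 1) := fun _ => rfl
  have hsurjA : Function.Surjective
      (algebraMap P.Ring ((P.Ring ⊗[R] S) ⧸ Ideal.span {e₀})) := by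
    intro a
    obtain ⟨t, rfl⟩ := Ideal.Quotient.mk_surjective a
    obtain ⟨x, hx⟩ := hψ (Θ t)
    refine ⟨x, ?_⟩
    rw [halg, Ideal.Quotient.eq, ← hk]
    change Θ (x ⊗ₜ 1 - t) = 0
    rw [map_sub, hΘl, hx, sub_self]
  have hcomp : ν.comp (algebraMap P.Ring ((P.Ring ⊗[R] S) ⧸ Ideal.span {e₀})) = ψ.toRingHom := by
    ext x
    simp only [RingHom.comp_apply, halg, hν, hΘl]
    rfl
  have hmap : (Q.comap ψ.toRingHom).map
      (algebraMap P.Ring ((P.Ring ⊗[R] S) ⧸ Ideal.span {e₀})) = Q.comap ν := by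
    rw [← hcomp, ← Ideal.comap_comap, Ideal.map_comap_of_surjective _ hsurjA]
  refine ⟨P.Ring, inferInstance, inferInstance, inferInstance, Q.comap ψ.toRingHom,
    inferInstance, ⟨?_⟩, _, inferInstance, inferInstance, _, inferInstance, inferInstance, e,
    hsurjA, ?_, ?_, ?_⟩
  · -- lies over
    rw [Ideal.under_def, Ideal.under_def, Ideal.comap_comap, ← hQq, Ideal.comap_comap]
    congr 1
    ext r
    simp only [RingHom.comp_apply, AlgHom.toRingHom_eq_coe, RingHom.coe_coe, AlgHom.commutes]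
    rw [← IsScalarTower.algebraMap_apply]
  · rw [hmap]
    infer_instance
  · rw [hmap, Ideal.comap_comap, hcomp]
  · rw [hmap, Ideal.comap_comap]
    conv_rhs => rw [← hQq]
    congr 1
    ext s
    simp only [RingHom.comp_apply, AlgHom.toRingHom_eq_coe, RingHom.coe_coe,
      Algebra.TensorProduct.includeRight_apply,
      RingEquiv.toRingHom_eq_coe, AlgEquiv.coe_ringEquiv, RingHom.coe_fst]
    rw [he, hν, hΘr]

end Groth.Agent.Lib.Helper18UnramLocal
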