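import Mathlib
import Groth.Agent.Lib.Helper18UnramLocal

set_option autoImplicit false
set_option linter.style.haveILetI false
universe u

namespace Groth.Agent.Lib.Helper18UnramDecomp
open TensorProduct

/-- fibre dimension -/
noncomputable def fdim (R S : Type*) [CommRing R] [CommRing S] [Algebra R S] (p : Ideal R)
    [p.IsPrime] : ℕ :=
  Module.finrank p.ResidueField (p.ResidueField ⊗[R] S)

theorem fdim_baseChange (R S R₁ : Type*) [CommRing R] [CommRing S] [Algebra R S] [CommRing R₁]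
    [Algebra R R₁] (p : Ideal R) [p.IsPrime] (p₁ : Ideal R₁) [p₁.IsPrime] [p₁.LiesOver p] :
    fdim R₁ (R₁ ⊗[R] S) p₁ = fdim R S p := by
  letI : Algebra p.ResidueField p₁.ResidueField :=
    (Ideal.ResidueField.mapₐ p p₁ (Algebra.ofId R R₁) (p₁.over_def p)).toRingHom.toAlgebra
  haveI : IsScalarTower R p.ResidueField p₁.ResidueField := .of_algebraMap_eq (fun x =>
    ((Ideal.ResidueField.mapₐ p p₁ (Algebra.ofId R R₁) (p₁.over_def p)).commutes x).symm)
  let e1 := TensorProduct.AlgebraTensorModule.cancelBaseChange R R₁ p₁.ResidueField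
    p₁.ResidueField S
  let e2 := TensorProduct.AlgebraTensorModule.cancelBaseChange R p.ResidueField p₁.ResidueField
    p₁.ResidueField S
  rw [fdim, fdim, (e1.trans e2.symm).finrank_eq, Module.finrank_baseChange]

theorem finite_baseChange (R S R₁ : Type*) [CommRing R] [CommRing S] [Algebra R S] [CommRing R₁]
    [Algebra R R₁] (p : Ideal R) [p.IsPrime] (p₁ : Ideal R₁) [p₁.IsPrime] [p₁.LiesOver p]
    [Module.Finite p.ResidueField (p.ResidueField ⊗[R] S)] :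
    Module.Finite p₁.ResidueField (p₁.ResidueField ⊗[R₁] (R₁ ⊗[R] S)) := by
  letI : Algebra p.ResidueField p₁.ResidueField :=
    (Ideal.ResidueField.mapₐ p p₁ (Algebra.ofId R R₁) (p₁.over_def p)).toRingHom.toAlgebra
  haveI : IsScalarTower R p.ResidueField p₁.ResidueField := .of_algebraMap_eq (fun x =>
    ((Ideal.ResidueField.mapₐ p p₁ (Algebra.ofId R R₁) (p₁.over_def p)).commutes x).symm)
  let e1 := TensorProduct.AlgebraTensorModule.cancelBaseChange R R₁ p₁.ResidueField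
    p₁.ResidueField S
  let e2 := TensorProduct.AlgebraTensorModule.cancelBaseChange R p.ResidueField p₁.ResidueField
    p₁.ResidueField S
  exact Module.Finite.equiv (e2.trans e1.symm)

theorem fdim_lt (R S R₁ : Type*) [CommRing R] [CommRing S] [Algebra R S] [CommRing R₁]
    [Algebra R R₁] (p : Ideal R) [p.IsPrime] (p₁ : Ideal R₁) [p₁.IsPrime] [p₁.LiesOver p]
    [Module.Finite p.ResidueField (p.ResidueField ⊗[R] S)]
    (I₀ : Ideal R₁) (hI : I₀ ≤ p₁) (B₁ : Type*) [CommRing B₁] [Algebra R₁ B₁]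
    (e₁ : (R₁ ⊗[R] S) ≃ₐ[R₁] ((R₁ ⧸ I₀) × B₁)) :
    fdim R₁ B₁ p₁ < fdim R S p := by
  rw [← fdim_baseChange R S R₁ p p₁]
  have hfin := finite_baseChange R S R₁ p p₁
  let k₁ := p₁.ResidueField
  let e3 : k₁ ⊗[R₁] (R₁ ⊗[R] S) ≃ₗ[k₁] (k₁ ⊗[R₁] (R₁ ⧸ I₀)) × (k₁ ⊗[R₁] B₁) :=
    (TensorProduct.AlgebraTensorModule.congr (LinearEquiv.refl k₁ k₁) e₁.toLinearEquiv).trans
      (TensorProduct.prodRight R₁ k₁ k₁ _ _)
  haveI hfinP : Module.Finite k₁ ((k₁ ⊗[R₁] (R₁ ⧸ I₀)) × (k₁ ⊗[R₁] B₁)) := Module.Finite.equiv e3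
  haveI hfin2 : Module.Finite k₁ (k₁ ⊗[R₁] B₁) :=
    Module.Finite.of_surjective (LinearMap.snd k₁ (k₁ ⊗[R₁] (R₁ ⧸ I₀)) (k₁ ⊗[R₁] B₁)) LinearMap.snd_surjective
  haveI hfin1 : Module.Finite k₁ (k₁ ⊗[R₁] (R₁ ⧸ I₀)) :=
    Module.Finite.of_surjective (LinearMap.fst k₁ (k₁ ⊗[R₁] (R₁ ⧸ I₀)) (k₁ ⊗[R₁] B₁)) LinearMap.fst_surjective
  have hzero : ∀ a ∈ I₀, (Algebra.ofId R₁ k₁) a = 0 := fun a ha => by
    change algebraMap R₁ p₁.ResidueField a = 0
    rw [Ideal.algebraMap_residueField_eq_zero]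
    exact hI ha
  let ε : k₁ ⊗[R₁] (R₁ ⧸ I₀) →ₐ[k₁] k₁ :=
    Algebra.TensorProduct.lift (AlgHom.id k₁ k₁) (Ideal.Quotient.liftₐ I₀ (Algebra.ofId R₁ k₁) hzero)
      (fun _ _ => Commute.all _ _)
  haveI : Nontrivial (k₁ ⊗[R₁] (R₁ ⧸ I₀)) := by
    by_contra hne
    rw [not_nontrivial_iff_subsingleton] at hne
    have h10 : (1 : k₁ ⊗[R₁] (R₁ ⧸ I₀)) = 0 := Subsingleton.elim _ _
    have := congrArg ε h10
    rw [map_one, map_zero] at this
    exact one_ne_zero this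
  have hpos : 0 < Module.finrank k₁ (k₁ ⊗[R₁] (R₁ ⧸ I₀)) := Module.finrank_pos
  rw [fdim, fdim, e3.finrank_eq, Module.finrank_prod]
  have h2 : Module.finrank p₁.ResidueField (p₁.ResidueField ⊗[R₁] B₁) =
      Module.finrank k₁ (k₁ ⊗[R₁] B₁) := rfl
  omega

/-- the `Fin (n+1)` product re-association -/
def consEquiv (R : Type*) [CommSemiring R] {n : ℕ} (X : Fin (n + 1) → Type*) [∀ i, Semiring (X i)]
    [∀ i, Algebra R (X i)] (B : Type*) [Semiring B] [Algebra R B] :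
    (X 0 × ((∀ i : Fin n, X i.succ) × B)) ≃ₐ[R] ((∀ i, X i) × B) where
  toFun x := (Fin.cons x.1 x.2.1, x.2.2)
  invFun y := (y.1 0, (fun i => y.1 i.succ, y.2))
  left_inv x := by simp
  right_inv y := by
    refine Prod.ext ?_ rfl
    funext i
    refine Fin.cases ?_ (fun j => ?_) i <;> simp
  map_mul' x y := by
    refine Prod.ext ?_ rfl
    funext i
    refine Fin.cases ?_ (fun j => ?_) i <;> simp
  map_add' x y := by
    refine Prod.ext ?_ rfl
    funext i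
    refine Fin.cases ?_ (fun j => ?_) i <;> simp
  commutes' r := by
    refine Prod.ext ?_ rfl
    funext i
    refine Fin.cases ?_ (fun j => ?_) i <;> simp

theorem step (R : Type u) [CommRing R] (S : Type u) [CommRing S] [Algebra R S]
    [Algebra.Unramified R S] (p : Ideal R) [p.IsPrime] (q : Ideal S) [q.IsPrime] [q.LiesOver p] :
    ∃ (R₁ : Type u) (_ : CommRing R₁) (_ : Algebra R R₁) (_ : Algebra.Etale R R₁) (p₁ : Ideal R₁)
      (_ : p₁.IsPrime) (_ : p₁.LiesOver p) (I₀ : Ideal R₁) (B₁ : Type u) (_ : CommRing B₁)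
      (_ : Algebra R₁ B₁), I₀ ≤ p₁ ∧ Nonempty ((R₁ ⊗[R] S) ≃ₐ[R₁] ((R₁ ⧸ I₀) × B₁)) := by
  obtain ⟨R₁, _, _, _, p₁, _, hlo, A, _, _, B₁, _, _, e, hsurj, -, hcomap, -⟩ :=
    Groth.Agent.Lib.Helper18UnramLocal.main9452 R S q
  have hsurj' : Function.Surjective (Algebra.ofId R₁ A) := hsurj
  let φ := Ideal.quotientKerAlgEquivOfSurjective hsurj'
  refine ⟨R₁, _, _, ‹_›, p₁, ‹_›, ⟨(q.over_def p).trans hlo.over⟩,
    RingHom.ker (Algebra.ofId R₁ A), B₁, _, _, ?_,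
    ⟨e.trans (AlgEquiv.prodCongr φ.symm AlgEquiv.refl)⟩⟩
  intro x hx
  rw [← hcomap, Ideal.mem_comap]
  have hx0 : algebraMap R₁ A x = 0 := hx
  rw [hx0]
  exact zero_mem _

theorem main_aux : ∀ (d : ℕ) (R : Type u) [CommRing R] (S : Type u) [CommRing S] [Algebra R S]
    [Algebra.Unramified R S] (p : Ideal R) [p.IsPrime], fdim R S p = d →
    ∃ (R' : Type u) (_ : CommRing R') (_ : Algebra R R') (_ : Algebra.Etale R R') (p' : Ideal R')
      (_ : p'.IsPrime) (_ : p'.LiesOver p) (n : ℕ) (I : Fin n → Ideal R') (B : Type u)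
      (_ : CommRing B) (_ : Algebra R' B),
      Nonempty ((R' ⊗[R] S) ≃ₐ[R'] ((∀ i, R' ⧸ I i) × B)) ∧ (∀ i, I i ≤ p') ∧
        ∀ (q : Ideal B) [q.IsPrime], q.comap (algebraMap R' B) ≠ p' := by
  intro d
  induction d using Nat.strong_induction_on with
  | _ d IH =>
    intro R _ S _ _ _ p _ hd
    by_cases hq : ∃ q : Ideal S, q.IsPrime ∧ q.LiesOver p
    · obtain ⟨q, hqp, hqo⟩ := hq
      obtain ⟨R₁, _, _, _, p₁, _, _, I₀, B₁, _, _, hI₀, ⟨e₁⟩⟩ := step R S p q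
      let π : (R₁ ⊗[R] S) →ₐ[R₁] B₁ := (AlgHom.snd R₁ (R₁ ⧸ I₀) B₁).comp e₁.toAlgHom
      have hπ : Function.Surjective π := Prod.snd_surjective.comp e₁.surjective
      haveI : Algebra.FormallyUnramified R₁ B₁ := Algebra.FormallyUnramified.of_surjective π hπ
      haveI : Algebra.FiniteType R₁ B₁ := Algebra.FiniteType.of_surjective π hπ
      haveI : Algebra.Unramified R₁ B₁ := ⟨inferInstance, inferInstance⟩
      haveI : Module.Finite p.ResidueField (p.ResidueField ⊗[R] S) :=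
        Algebra.QuasiFinite.finite_fiber (R := R) (S := S) p
      have hlt : fdim R₁ B₁ p₁ < d := hd ▸ fdim_lt R S R₁ p p₁ I₀ hI₀ B₁ e₁
      obtain ⟨R₂, _, _, _, p₂, _, _, n, I, B, _, _, ⟨e₂⟩, hI, hB⟩ := IH _ hlt R₁ B₁ p₁ rfl
      letI : Algebra R R₂ := ((algebraMap R₁ R₂).comp (algebraMap R R₁)).toAlgebra
      haveI : IsScalarTower R R₁ R₂ := .of_algebraMap_eq' rfl
      haveI : Algebra.Etale R R₂ := .comp R R₁ R₂
      haveI : p₂.LiesOver p := .trans p₂ p₁ p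
      refine ⟨R₂, _, _, ‹_›, p₂, ‹_›, ‹_›, n + 1, Fin.cons (I₀.map (algebraMap R₁ R₂)) I, B, _, _,
        ⟨?_⟩, ?_, hB⟩
      · exact ((Algebra.TensorProduct.cancelBaseChange R R₁ R₂ R₂ S).symm.trans
          ((Algebra.TensorProduct.congr AlgEquiv.refl e₁).trans
          ((Algebra.TensorProduct.prodRight R₁ R₂ R₂ _ _).trans
          ((AlgEquiv.prodCongr (Algebra.TensorProduct.quotIdealMapEquivTensorQuot R₂ I₀).symm e₂).trans
          (consEquiv R₂ (fun i => R₂ ⧸ (Fin.cons (I₀.map (algebraMap R₁ R₂)) I :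
            Fin (n + 1) → Ideal R₂) i) B)))))
      · refine Fin.cases ?_ ?_
        · rw [Fin.cons_zero]
          exact Ideal.map_le_iff_le_comap.mpr (hI₀.trans (p₂.over_def p₁).le)
        · intro i
          rw [Fin.cons_succ]
          exact hI i
    · refine ⟨R, _, _, inferInstance, p, ‹_›, ⟨rfl⟩, 0, fun i => i.elim0, S, _, _,
        ⟨(Algebra.TensorProduct.lid R S).trans AlgEquiv.uniqueProd.symm⟩, fun i => i.elim0, ?_⟩
      intro q _ h
      exact hq ⟨q, ‹_›, ⟨h.symm⟩⟩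

theorem main (R : Type u) [CommRing R]
    (S : Type u) [CommRing S] [Algebra R S] [Algebra.Unramified R S] (p : Ideal R) [p.IsPrime] :
    ∃ (R' : Type u) (_ : CommRing R') (_ : Algebra R R') (_ : Algebra.Etale R R') (p' : Ideal R')
      (_ : p'.IsPrime) (_ : p'.LiesOver p) (n : ℕ) (A : Fin n → Type u) (_ : ∀ i, CommRing (A i))
      (_ : ∀ i, Algebra R' (A i)) (B : Type u) (_ : CommRing B) (_ : Algebra R' B),
      Nonempty ((R' ⊗[R] S) ≃ₐ[R'] ((∀ i, A i) × B)) ∧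
        (∀ i, Function.Surjective (algebraMap R' (A i)) ∧
          (p'.map (algebraMap R' (A i))).IsPrime ∧
          (p'.map (algebraMap R' (A i))).comap (algebraMap R' (A i)) = p') ∧
        ∀ (q : Ideal B) [q.IsPrime], q.comap (algebraMap R' B) ≠ p' := by
  obtain ⟨R', _, _, _, p', _, _, n, I, B, _, _, he, hI, hB⟩ := main_aux _ R S p rfl
  refine ⟨R', _, _, ‹_›, p', ‹_›, ‹_›, n, fun i => R' ⧸ I i, inferInstance, inferInstance, B, _, _,
    he, fun i => ?_, hB⟩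
  have hker : RingHom.ker (algebraMap R' (R' ⧸ I i)) ≤ p' := by
    rw [Ideal.Quotient.algebraMap_eq, Ideal.mk_ker]
    exact hI i
  have hs : Function.Surjective (algebraMap R' (R' ⧸ I i)) := Ideal.Quotient.mk_surjective
  refine ⟨hs, Ideal.map_isPrime_of_surjective hs hker, ?_⟩
  rw [Ideal.comap_map_of_surjective _ hs, ← RingHom.ker_eq_comap_bot]
  exact sup_eq_left.mpr hker

end Groth.Agent.Lib.Helper18UnramDecomp
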