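import Mathlib
import Groth.Agent.Lib.Helper18UnramLocal
import Groth.Agent.Lib.Helper18UnramDecomp

set_option autoImplicit false
set_option linter.style.haveILetI false
universe u

namespace Groth.Agent.Lib.Helper18QFDecomp
open TensorProduct

/-- number of minimal primes -/
noncomputable def mcount (F : Type*) [CommRing F] : ℕ := (minimalPrimes F).ncard

theorem mcount_eq_of_ringEquiv {F F' : Type*} [CommRing F] [CommRing F'] (e : F ≃+* F') :
    mcount F = mcount F' := by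
  have h := Ideal.comap_minimalPrimes_eq_of_surjective (f := e.toRingHom) e.surjective ⊥
  rw [Ideal.comap_bot_of_injective e.toRingHom e.injective] at h
  change (⊥ : Ideal F).minimalPrimes.ncard = (⊥ : Ideal F').minimalPrimes.ncard
  rw [h]
  exact Set.ncard_image_of_injective _ (Ideal.comap_injective_of_surjective e.toRingHom e.surjective)

theorem mcount_snd_lt (F' F'' : Type*) [CommRing F'] [CommRing F''] [Nontrivial F']
    (hfin : (minimalPrimes (F' × F'')).Finite) : mcount F'' < mcount (F' × F'') := by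
  have hmin : ∀ P ∈ minimalPrimes F'', Ideal.prod (⊤ : Ideal F') P ∈ minimalPrimes (F' × F'') := by
    intro P hP
    have := hP.1.1
    refine ⟨⟨Ideal.isPrime_ideal_prod_top', bot_le⟩, ?_⟩
    rintro Q ⟨hQ, -⟩ hQP
    rcases (Ideal.ideal_prod_prime Q).mp hQ with ⟨p, hp, rfl⟩ | ⟨p, hp, rfl⟩
    · exfalso
      have h1 : ((0 : F'), (1 : F'')) ∈ Ideal.prod p (⊤ : Ideal F'') :=
        (Ideal.mem_prod _ _).mpr ⟨zero_mem _, trivial⟩
      have h2 := (Ideal.mem_prod _ _).mp (hQP h1)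
      exact hP.1.1.ne_top ((Ideal.eq_top_iff_one _).mpr h2.2)
    · have hpP : p ≤ P := fun x hx =>
        ((Ideal.mem_prod _ _).mp (hQP ((Ideal.mem_prod _ _).mpr ⟨trivial, hx⟩ :
          ((0 : F'), x) ∈ Ideal.prod ⊤ p))).2
      have := hP.2 ⟨hp, bot_le⟩ hpP
      intro x hx
      exact (Ideal.mem_prod _ _).mpr ⟨trivial, this ((Ideal.mem_prod _ _).mp hx).2⟩
  have hinj : Function.Injective (fun P : Ideal F'' => Ideal.prod (⊤ : Ideal F') P) := by
    intro P P' h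
    ext x
    have h1 : ((0 : F'), x) ∈ Ideal.prod (⊤ : Ideal F') P ↔ ((0 : F'), x) ∈ Ideal.prod ⊤ P' := by
      simp only at h
      rw [h]
    simpa [Ideal.mem_prod] using h1
  obtain ⟨p₀, hp₀⟩ := (Ideal.nonempty_minimalPrimes (I := (⊥ : Ideal F')) bot_ne_top)
  have hp₀' : Ideal.prod p₀ (⊤ : Ideal F'') ∈ minimalPrimes (F' × F'') := by
    have := hp₀.1.1
    refine ⟨⟨Ideal.isPrime_ideal_prod_top, bot_le⟩, ?_⟩
    rintro Q ⟨hQ, -⟩ hQP
    rcases (Ideal.ideal_prod_prime Q).mp hQ with ⟨p, hp, rfl⟩ | ⟨p, hp, rfl⟩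
    · have hpP : p ≤ p₀ := fun x hx =>
        ((Ideal.mem_prod _ _).mp (hQP ((Ideal.mem_prod _ _).mpr ⟨hx, trivial⟩ :
          (x, (0 : F'')) ∈ Ideal.prod p ⊤))).1
      have := hp₀.2 ⟨hp, bot_le⟩ hpP
      intro x hx
      exact (Ideal.mem_prod _ _).mpr ⟨this ((Ideal.mem_prod _ _).mp hx).1, trivial⟩
    · exfalso
      have h1 : ((1 : F'), (0 : F'')) ∈ Ideal.prod (⊤ : Ideal F') p :=
        (Ideal.mem_prod _ _).mpr ⟨trivial, zero_mem _⟩
      have h2 := (Ideal.mem_prod _ _).mp (hQP h1)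
      exact hp₀.1.1.ne_top ((Ideal.eq_top_iff_one _).mpr h2.1)
  unfold mcount
  rw [← Set.ncard_image_of_injective _ hinj]
  apply Set.ncard_lt_ncard _ hfin
  refine ⟨?_, ?_⟩
  · rintro _ ⟨P, hP, rfl⟩
    exact hmin P hP
  · intro hsub
    obtain ⟨P, hP, hPe⟩ := hsub hp₀'
    have h1 : ((1 : F'), (0 : F'')) ∈ Ideal.prod (⊤ : Ideal F') P :=
      (Ideal.mem_prod _ _).mpr ⟨trivial, zero_mem _⟩
    simp only at hPe
    rw [hPe] at h1
    exact hp₀.1.1.ne_top ((Ideal.eq_top_iff_one _).mpr ((Ideal.mem_prod _ _).mp h1).1)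


/-- fibre minimal prime count -/
noncomputable def mc (R S : Type*) [CommRing R] [CommRing S] [Algebra R S] (p : Ideal R)
    [p.IsPrime] : ℕ :=
  mcount (p.ResidueField ⊗[R] S)

section
variable {R R' S : Type*} [CommRing R] [CommRing R'] [CommRing S] [Algebra R R'] [Algebra R S]
    {p : Ideal R} {q : Ideal R'} [p.IsPrime] [q.IsPrime] [q.LiesOver p]

/-- copied from Mathlib's `Ideal.fiberIsoOfBijectiveResidueField` -/
noncomputable def fiberRingEquiv
    (H : Function.Bijective (Ideal.ResidueField.mapₐ p q (Algebra.ofId _ _) (q.over_def p))) :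
    q.Fiber (R' ⊗[R] S) ≃+* p.Fiber S :=
  let := Localization.AtPrime.algebraOfLiesOver p q
  let e : q.Fiber (R' ⊗[R] S) ≃ₐ[p.ResidueField] p.Fiber S :=
    ((Algebra.TensorProduct.cancelBaseChange _ _ q.ResidueField _ _).restrictScalars _).trans
      (Algebra.TensorProduct.congr (.symm <| .ofBijective (Algebra.ofId _ _) H) .refl)
  e.toRingEquiv

theorem mc_baseChange
    (H : Function.Bijective (Ideal.ResidueField.mapₐ p q (Algebra.ofId _ _) (q.over_def p))) :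
    mc R' (R' ⊗[R] S) q = mc R S p :=
  mcount_eq_of_ringEquiv (fiberRingEquiv H)

theorem mc_lt [Algebra.FiniteType R S]
    (H : Function.Bijective (Ideal.ResidueField.mapₐ p q (Algebra.ofId _ _) (q.over_def p)))
    (A B₁ : Type*) [CommRing A] [Algebra R' A] [CommRing B₁] [Algebra R' B₁]
    (e₁ : (R' ⊗[R] S) ≃ₐ[R'] (A × B₁)) (r : Ideal A) [r.IsPrime] [r.LiesOver q] :
    mc R' B₁ q < mc R S p := by
  rw [← mc_baseChange (S := S) H]
  let k₁ := q.ResidueField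
  let e3 : k₁ ⊗[R'] (R' ⊗[R] S) ≃ₐ[k₁] (k₁ ⊗[R'] A) × (k₁ ⊗[R'] B₁) :=
    (Algebra.TensorProduct.congr AlgEquiv.refl e₁).trans
      (Algebra.TensorProduct.prodRight R' k₁ k₁ A B₁)
  have hnoeth : IsNoetherianRing ((k₁ ⊗[R'] A) × (k₁ ⊗[R'] B₁)) := by
    have h1 : Algebra.FiniteType k₁ (k₁ ⊗[R'] (R' ⊗[R] S)) := inferInstance
    have h2 : Algebra.FiniteType k₁ ((k₁ ⊗[R'] A) × (k₁ ⊗[R'] B₁)) :=
      Algebra.FiniteType.of_surjective e3.toAlgHom e3.surjective
    exact Algebra.FiniteType.isNoetherianRing k₁ _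
  have hfin : (minimalPrimes ((k₁ ⊗[R'] A) × (k₁ ⊗[R'] B₁))).Finite :=
    minimalPrimes.finite_of_isNoetherianRing _
  haveI : Nontrivial (k₁ ⊗[R'] A) := by
    have x : PrimeSpectrum (q.Fiber A) :=
      PrimeSpectrum.primesOverOrderIsoFiber R' A q ⟨r, ‹_›, ‹_›⟩
    exact x.nontrivial
  rw [mc, mc, mcount_eq_of_ringEquiv e3.toRingEquiv]
  exact mcount_snd_lt _ _ hfin

end


/-- the step from Mathlib's 00UJ in product form -/
theorem step57 (R : Type u) [CommRing R] (S : Type u) [CommRing S] [Algebra R S]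
    [Algebra.FiniteType R S] (p : Ideal R) [p.IsPrime] (q : Ideal S) [q.IsPrime] [q.LiesOver p]
    [Algebra.QuasiFiniteAt R q] :
    ∃ (R₁ : Type u) (_ : CommRing R₁) (_ : Algebra R R₁) (_ : Algebra.Etale R R₁) (p₁ : Ideal R₁)
      (_ : p₁.IsPrime) (_ : p₁.LiesOver p) (A : Type u) (_ : CommRing A) (_ : Algebra R₁ A)
      (B₁ : Type u) (_ : CommRing B₁) (_ : Algebra R₁ B₁),
      Function.Bijective (Ideal.ResidueField.mapₐ p p₁ (Algebra.ofId _ _) (p₁.over_def p)) ∧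
      Nonempty ((R₁ ⊗[R] S) ≃ₐ[R₁] (A × B₁)) ∧ Module.Finite R₁ A ∧ Algebra.FiniteType R₁ B₁ ∧
      ∃! r : Ideal A, r.IsPrime ∧ r.comap (algebraMap R₁ A) = p₁ := by
  obtain ⟨R₁, _, _, _, p₁, _, _, e, he, P', _, _, hP'q, heP', hpP, hfin, H⟩ :=
    Algebra.exists_etale_isIdempotentElem_forall_liesOver_eq p q
  have he₀ : IsIdempotentElem (1 - e) := he.one_sub
  obtain ⟨ε, hε⟩ := Groth.Agent.Lib.Helper18UnramLocal.exists_prod_equiv (E := R₁) (1 - e) he₀
  have hloc : IsLocalization.Away e ((R₁ ⊗[R] S) ⧸ Ideal.span {1 - e}) :=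
    IsLocalization.Away.quotient_of_isIdempotentElem he
  let φ : Localization.Away e ≃ₐ[R₁ ⊗[R] S] ((R₁ ⊗[R] S) ⧸ Ideal.span {1 - e}) :=
    IsLocalization.algEquiv (Submonoid.powers e) _ _
  have hfinA : Module.Finite R₁ ((R₁ ⊗[R] S) ⧸ Ideal.span {1 - e}) :=
    Module.Finite.equiv (φ.restrictScalars R₁).toLinearEquiv
  have hmem : 1 - e ∈ P' := by
    have h0 : e * (1 - e) ∈ P' := by
      have : e * (1 - e) = 0 := by
        have h2 : e * e = e := he
        linear_combination -h2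
      rw [this]; exact zero_mem _
    exact (Ideal.IsPrime.mem_or_mem ‹P'.IsPrime› h0).resolve_left heP'
  have hker : RingHom.ker (Ideal.Quotient.mk (Ideal.span {1 - e})) ≤ P' := by
    rw [Ideal.mk_ker, Ideal.span_le, Set.singleton_subset_iff]
    exact hmem
  have hmk : Function.Surjective (Ideal.Quotient.mk (Ideal.span {(1 : R₁ ⊗[R] S) - e})) :=
    Ideal.Quotient.mk_surjective
  have halg : algebraMap R₁ ((R₁ ⊗[R] S) ⧸ Ideal.span {1 - e}) =
      (Ideal.Quotient.mk (Ideal.span {(1 : R₁ ⊗[R] S) - e})).comp (algebraMap R₁ (R₁ ⊗[R] S)) := rfl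
  refine ⟨R₁, _, _, ‹_›, p₁, ‹_›, ‹_›, (R₁ ⊗[R] S) ⧸ Ideal.span {1 - e}, _, _,
    (R₁ ⊗[R] S) ⧸ Ideal.span {1 - (1 - e)}, _, _, hpP, ⟨ε⟩, hfinA, inferInstance, ?_⟩
  refine ⟨P'.map (Ideal.Quotient.mk _), ⟨Ideal.map_isPrime_of_surjective hmk hker, ?_⟩, ?_⟩
  · rw [halg, ← Ideal.comap_comap, Ideal.comap_map_of_surjective _ hmk,
      ← RingHom.ker_eq_comap_bot, sup_eq_left.mpr hker]
    exact (P'.over_def p₁).symm
  · rintro r ⟨hr, hrc⟩
    have hP'' : (r.comap (Ideal.Quotient.mk (Ideal.span {(1 : R₁ ⊗[R] S) - e}))).IsPrime :=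
      Ideal.comap_isPrime _ _
    have hlo : (r.comap (Ideal.Quotient.mk (Ideal.span {(1 : R₁ ⊗[R] S) - e}))).LiesOver p₁ := ⟨by
      rw [Ideal.under_def, Ideal.comap_comap, ← halg, hrc]⟩
    have hne : e ∉ r.comap (Ideal.Quotient.mk (Ideal.span {(1 : R₁ ⊗[R] S) - e})) := by
      intro hmem'
      have h1 : (1 - e) ∈ r.comap (Ideal.Quotient.mk (Ideal.span {(1 : R₁ ⊗[R] S) - e})) := by
        rw [Ideal.mem_comap]
        have : Ideal.Quotient.mk (Ideal.span {(1 : R₁ ⊗[R] S) - e}) (1 - e) = 0 :=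
          Ideal.Quotient.eq_zero_iff_mem.mpr (Ideal.mem_span_singleton_self _)
        rw [this]; exact zero_mem _
      have h2 := add_mem hmem' h1
      rw [add_sub_cancel] at h2
      exact hP''.ne_top ((Ideal.eq_top_iff_one _).mpr h2)
    have := H _ hP'' hlo hne
    rw [← this, Ideal.map_comap_of_surjective _ hmk]


theorem unique_transfer {R R' A : Type*} [CommRing R] [CommRing R'] [CommRing A] [Algebra R R']
    [Algebra R A] {p : Ideal R} {q : Ideal R'} [p.IsPrime] [q.IsPrime] [q.LiesOver p]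
    (H : Function.Bijective (Ideal.ResidueField.mapₐ p q (Algebra.ofId _ _) (q.over_def p)))
    (h : ∃! r : Ideal A, r.IsPrime ∧ r.comap (algebraMap R A) = p) :
    ∃! r : Ideal (R' ⊗[R] A), r.IsPrime ∧ r.comap (algebraMap R' (R' ⊗[R] A)) = q := by
  obtain ⟨r₀, ⟨hr₀p, hr₀c⟩, huniq⟩ := h
  let F := Ideal.fiberIsoOfBijectiveResidueField (S := A) H
  let Q₀ := F.symm ⟨r₀, hr₀p, ⟨hr₀c.symm⟩⟩
  refine ⟨Q₀.1, ⟨Q₀.2.1, (Q₀.2.2.over).symm⟩, ?_⟩
  rintro r' ⟨hr'p, hr'c⟩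
  let Q' : q.primesOver (R' ⊗[R] A) := ⟨r', hr'p, ⟨hr'c.symm⟩⟩
  have h1 : (F Q').1 = r₀ := huniq _ ⟨(F Q').2.1, ((F Q').2.2.over).symm⟩
  have h2 : F Q' = ⟨r₀, hr₀p, ⟨hr₀c.symm⟩⟩ := Subtype.ext h1
  have h3 : Q' = Q₀ := by rw [← F.symm_apply_apply Q', h2]
  exact congrArg Subtype.val h3

theorem closure_self {R : Type*} [CommRing R] (p : Ideal R) [p.IsPrime] :
    Subfield.closure (Set.range (algebraMap R p.ResidueField)) = ⊤ := by
  have h := IsFractionRing.closure_range_algebraMap (R ⧸ p) p.ResidueField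
  have h2 : Set.range (algebraMap R p.ResidueField) =
      Set.range (algebraMap (R ⧸ p) p.ResidueField) := by
    rw [IsScalarTower.algebraMap_eq R (R ⧸ p) p.ResidueField, RingHom.coe_comp,
      Function.Surjective.range_comp]
    exact Ideal.Quotient.mk_surjective
  rw [h2, h]

theorem closure_eq_top_of_bijective {R R' : Type*} [CommRing R] [CommRing R'] [Algebra R R']
    {p : Ideal R} {q : Ideal R'} [p.IsPrime] [q.IsPrime] [q.LiesOver p]
    (H : Function.Bijective (Ideal.ResidueField.mapₐ p q (Algebra.ofId _ _) (q.over_def p))) :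
    Subfield.closure (Set.range (algebraMap R q.ResidueField)) = ⊤ := by
  let φ := Ideal.ResidueField.mapₐ p q (Algebra.ofId R R') (q.over_def p)
  have h0 := closure_self p
  have h1 : Set.range (algebraMap R q.ResidueField) =
      φ.toRingHom '' Set.range (algebraMap R p.ResidueField) := by
    rw [← Set.range_comp]
    congr 1
    ext x
    exact (φ.commutes x).symm
  rw [h1, ← RingHom.map_field_closure φ.toRingHom, h0, ← RingHom.fieldRange_eq_map,
    RingHom.fieldRange_eq_top_iff]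
  exact H.2

/-- cons of type families -/
abbrev consFam {n : ℕ} (A₀ : Type u) (A' : Fin n → Type u) : Fin (n + 1) → Type u :=
  Fin.cases A₀ A'

@[reducible] def consFam.instCommRing {n : ℕ} (A₀ : Type u) (A' : Fin n → Type u) [CommRing A₀]
    [∀ i, CommRing (A' i)] : ∀ i, CommRing (consFam A₀ A' i) :=
  Fin.cases (motive := fun i => CommRing (consFam A₀ A' i)) ‹CommRing A₀›
    (fun i => ‹∀ i, CommRing (A' i)› i)

@[reducible] def consFam.instAlgebra {n : ℕ} (R : Type*) [CommRing R] (A₀ : Type u)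
    (A' : Fin n → Type u) [CommRing A₀]
    [∀ i, CommRing (A' i)] [Algebra R A₀] [∀ i, Algebra R (A' i)] :
    ∀ i, @Algebra R (consFam A₀ A' i) _ (consFam.instCommRing A₀ A' i).toCommSemiring.toSemiring :=
  Fin.cases (motive := fun i => @Algebra R (consFam A₀ A' i) _
    (consFam.instCommRing A₀ A' i).toCommSemiring.toSemiring) ‹Algebra R A₀›
    (fun i => ‹∀ i, Algebra R (A' i)› i)

theorem cons_step (R₂ : Type*) [CommRing R₂] {n : ℕ} (A₀ : Type u) [CommRing A₀] [Algebra R₂ A₀]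
    (A' : Fin n → Type u) [∀ i, CommRing (A' i)] [∀ i, Algebra R₂ (A' i)] (B : Type*) [CommRing B]
    [Algebra R₂ B] (T : Type*) [CommRing T] [Algebra R₂ T]
    (e : T ≃ₐ[R₂] A₀ × ((∀ i, A' i) × B))
    (P : ∀ (C : Type u) [CommRing C] [Algebra R₂ C], Prop) (h₀ : P A₀) (h' : ∀ i, P (A' i)) :
    ∃ (X : Fin (n + 1) → Type u) (_ : ∀ i, CommRing (X i)) (_ : ∀ i, Algebra R₂ (X i)),
      Nonempty (T ≃ₐ[R₂] (∀ i, X i) × B) ∧ ∀ i, P (X i) := by
  letI := consFam.instCommRing A₀ A'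
  letI := consFam.instAlgebra R₂ A₀ A'
  refine ⟨consFam A₀ A', consFam.instCommRing A₀ A', consFam.instAlgebra R₂ A₀ A',
    ⟨e.trans (Groth.Agent.Lib.Helper18UnramDecomp.consEquiv R₂ (consFam A₀ A') B)⟩, ?_⟩
  exact Fin.cases h₀ h'


theorem nil_step (R : Type*) [CommRing R] (B : Type*) [CommRing B] [Algebra R B] (T : Type*)
    [CommRing T] [Algebra R T] (e : T ≃ₐ[R] B)
    (P : ∀ (C : Type u) [CommRing C] [Algebra R C], Prop) :
    ∃ (X : Fin 0 → Type u) (_ : ∀ i, CommRing (X i)) (_ : ∀ i, Algebra R (X i)),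
      Nonempty (T ≃ₐ[R] (∀ i, X i) × B) ∧ ∀ i, P (X i) :=
  ⟨fun _ => PUnit.{u + 1}, fun _ => inferInstance, fun _ => inferInstance,
    ⟨e.trans AlgEquiv.uniqueProd.symm⟩, fun i => i.elim0⟩

theorem main_aux : ∀ (d : ℕ) (R : Type u) [CommRing R] (S : Type u) [CommRing S] [Algebra R S]
    [Algebra.FiniteType R S] (p : Ideal R) [p.IsPrime], mc R S p = d →
    ∃ (R' : Type u) (_ : CommRing R') (_ : Algebra R R') (_ : Algebra.Etale R R') (p' : Ideal R')
      (_ : p'.IsPrime) (_ : p'.LiesOver p) (n : ℕ) (A : Fin n → Type u) (_ : ∀ i, CommRing (A i))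
      (_ : ∀ i, Algebra R' (A i)) (B : Type u) (_ : CommRing B) (_ : Algebra R' B),
      Function.Bijective (Ideal.ResidueField.mapₐ p p' (Algebra.ofId _ _) (p'.over_def p)) ∧
      Nonempty ((R' ⊗[R] S) ≃ₐ[R'] ((∀ i, A i) × B)) ∧
        (∀ i, Module.Finite R' (A i) ∧
          ∃! r : Ideal (A i), r.IsPrime ∧ r.comap (algebraMap R' (A i)) = p') ∧
        ∀ (q : Ideal B) [q.IsPrime], q.comap (algebraMap R' B) = p' →
          ¬ Algebra.QuasiFiniteAt R' q := by
  intro d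
  induction d using Nat.strong_induction_on with
  | _ d IH =>
    intro R _ S _ _ _ p _ hd
    by_cases hq : ∃ q : Ideal S, ∃ (_ : q.IsPrime), q.comap (algebraMap R S) = p ∧
        Algebra.QuasiFiniteAt R q
    · obtain ⟨q, hqp, hqo, hqf⟩ := hq
      haveI : q.LiesOver p := ⟨hqo.symm⟩
      obtain ⟨R₁, _, _, _, p₁, _, _, A, _, _, B₁, _, _, hbij₁, ⟨e₁⟩, hfinA, hftB, huA⟩ :=
        step57 R S p q
      obtain ⟨r₀, ⟨hr₀p, hr₀c⟩, -⟩ := id huA
      haveI : r₀.LiesOver p₁ := ⟨hr₀c.symm⟩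
      have hlt : mc R₁ B₁ p₁ < d := hd ▸ mc_lt (S := S) hbij₁ A B₁ e₁ r₀
      obtain ⟨R₂, _, _, _, p₂, _, _, n, A', _, _, B, _, _, hbij₂, ⟨e₂⟩, hA', hB⟩ :=
        IH _ hlt R₁ B₁ p₁ rfl
      letI : Algebra R R₂ := ((algebraMap R₁ R₂).comp (algebraMap R R₁)).toAlgebra
      haveI : IsScalarTower R R₁ R₂ := .of_algebraMap_eq' rfl
      haveI : Algebra.Etale R R₂ := .comp R R₁ R₂
      haveI : p₂.LiesOver p := .trans p₂ p₁ p
      have hbij : Function.Bijective
          (Ideal.ResidueField.mapₐ p p₂ (Algebra.ofId _ _) (p₂.over_def p)) := by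
        convert hbij₂.comp hbij₁
        rw [← @AlgHom.coe_restrictScalars' R R₁, ← AlgHom.coe_comp]; congr 1; ext
      have e' : (R₂ ⊗[R] S) ≃ₐ[R₂] (R₂ ⊗[R₁] A) × ((∀ i, A' i) × B) :=
        ((Algebra.TensorProduct.cancelBaseChange R R₁ R₂ R₂ S).symm.trans
          ((Algebra.TensorProduct.congr AlgEquiv.refl e₁).trans
          ((Algebra.TensorProduct.prodRight R₁ R₂ R₂ _ _).trans
          (AlgEquiv.prodCongr AlgEquiv.refl e₂))))
      obtain ⟨X, _, _, he, hX⟩ := cons_step R₂ (R₂ ⊗[R₁] A) A' B (R₂ ⊗[R] S) e'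
        (fun C _ _ => Module.Finite R₂ C ∧
          ∃! r : Ideal C, r.IsPrime ∧ r.comap (algebraMap R₂ C) = p₂)
        ⟨Module.Finite.base_change R₁ R₂ A, unique_transfer hbij₂ huA⟩ hA'
      exact ⟨R₂, _, _, ‹_›, p₂, ‹_›, ‹_›, n + 1, X, _, _, B, _, _, hbij, he, hX, hB⟩
    · haveI : p.LiesOver p := ⟨rfl⟩
      have hbij0 : Function.Bijective
          (Ideal.ResidueField.mapₐ p p (Algebra.ofId R R) (p.over_def p)) := by
        rw! [Algebra.ofId_self, Ideal.ResidueField.mapₐ_id]; exact Function.bijective_id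
      obtain ⟨X, _, _, he, hX⟩ := nil_step R S (R ⊗[R] S) (Algebra.TensorProduct.lid R S)
        (fun C _ _ => Module.Finite R C ∧
          ∃! r : Ideal C, r.IsPrime ∧ r.comap (algebraMap R C) = p)
      refine ⟨R, _, _, inferInstance, p, ‹_›, ‹_›, 0, X, _, _, S, _, _, hbij0, he, hX, ?_⟩
      intro q _ hqc hqf
      exact hq ⟨q, ‹_›, hqc, hqf⟩

theorem main (R : Type u) [CommRing R]
    (S : Type u) [CommRing S] [Algebra R S] [Algebra.FiniteType R S] (p : Ideal R) [p.IsPrime] :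
    ∃ (R' : Type u) (_ : CommRing R') (_ : Algebra R R') (_ : Algebra.Etale R R') (p' : Ideal R')
      (_ : p'.IsPrime) (_ : p'.LiesOver p) (n : ℕ) (A : Fin n → Type u) (_ : ∀ i, CommRing (A i))
      (_ : ∀ i, Algebra R' (A i)) (B : Type u) (_ : CommRing B) (_ : Algebra R' B),
      Subfield.closure (Set.range (algebraMap R p'.ResidueField)) = ⊤ ∧
      Nonempty ((R' ⊗[R] S) ≃ₐ[R'] ((∀ i, A i) × B)) ∧
        (∀ i, Module.Finite R' (A i) ∧
          ∃! r : Ideal (A i), r.IsPrime ∧ r.comap (algebraMap R' (A i)) = p') ∧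
        ∀ (q : Ideal B) [q.IsPrime], q.comap (algebraMap R' B) = p' →
          ¬ Algebra.QuasiFiniteAt R' q := by
  obtain ⟨R', _, _, _, p', _, _, n, A, _, _, B, _, _, hbij, he, hA, hB⟩ := main_aux _ R S p rfl
  exact ⟨R', _, _, ‹_›, p', ‹_›, ‹_›, n, A, _, _, B, _, _, closure_eq_top_of_bijective hbij, he,
    hA, hB⟩

end Groth.Agent.Lib.Helper18QFDecomp
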