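import Mathlib
import Groth.Prelude.Def_FlatCA
import Groth.Agent.Lib.Helper18QFDecomp
import Groth.Agent.Lib.Helper20SuppBC
import Groth.Agent.Lib.Helper13Fiber
import Groth.Agent.Lib.Helper22FiberAssLift
import Groth.Agent.S1224

set_option autoImplicit false
set_option linter.unusedSectionVars false
set_option linter.style.haveILetI false

open TensorProduct FlatMor

namespace Groth.Agent.Lib.Helper22.PureFinite

universe u

attribute [local instance] Algebra.TensorProduct.rightAlgebra

section Fib
variable {R : Type u} [CommRing R] (p : Ideal R) [p.IsPrime] {S : Type u} [CommRing S] [Algebra R S]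

/-- an ideal of the fibre ring is generated by its contraction -/
theorem fiberIdeal_comap (𝔞 : Ideal (p.Fiber S)) :
    FlatCA.fiberIdeal p (𝔞.comap (algebraMap S (p.Fiber S))) = 𝔞 := by
  apply le_antisymm
  · exact Ideal.map_comap_le
  · intro x hx
    obtain ⟨u, hu, s, hs⟩ := Groth.Agent.Helper13Fiber.exists_isUnit_mul_eq_algebraMap p S x
    have h1 : algebraMap S (p.Fiber S) s ∈ 𝔞 := hs ▸ 𝔞.mul_mem_left u hx
    have h2 : algebraMap S (p.Fiber S) s ∈
        FlatCA.fiberIdeal p (𝔞.comap (algebraMap S (p.Fiber S))) :=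
      Ideal.mem_map_of_mem _ h1
    obtain ⟨v, hv⟩ := hu.exists_left_inv
    have : x = v * (u * x) := by rw [← mul_assoc, hv, one_mul]
    rw [this, hs]
    exact Ideal.mul_mem_left _ v h2

end Fib

section QF
variable {A B : Type u} [CommRing A] [CommRing B] [Algebra A B] [Algebra.FiniteType A B]
  (N : Type u) [AddCommGroup N] [Module B N] [Module A N] [IsScalarTower A B N] [Module.Finite B N]

theorem quasiFinite_quotient_annihilator
    (hfin : ∀ (p : Ideal A) [p.IsPrime],
      (Module.support (p.Fiber B) (FlatCA.fiberMod p B N)).Finite) :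
    Algebra.QuasiFinite A (B ⧸ Module.annihilator B N) := by
  rw [Algebra.QuasiFinite.iff_finite_primesOver]
  intro p hp
  have hfinT : Finite (Module.support (p.Fiber B) (FlatCA.fiberMod p B N)) := (hfin p).to_subtype
  rw [← Set.finite_coe_iff]
  let π : B →ₐ[A] B ⧸ Module.annihilator B N := Ideal.Quotient.mkₐ A (Module.annihilator B N)
  have hpr : ∀ Q : p.primesOver (B ⧸ Module.annihilator B N), (Q.1.comap π).IsPrime := fun Q => by
    haveI := Q.2.1; exact Ideal.comap_isPrime _ _
  have hlo : ∀ Q : p.primesOver (B ⧸ Module.annihilator B N), (Q.1.comap π).LiesOver p := fun Q => by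
    haveI := Q.2.2; exact Ideal.comap_liesOver _ _ _
  let φ : p.primesOver (B ⧸ Module.annihilator B N) → PrimeSpectrum (p.Fiber B) := fun Q =>
    PrimeSpectrum.primesOverOrderIsoFiber A B p ⟨Q.1.comap π, hpr Q, hlo Q⟩
  have hmem : ∀ Q : p.primesOver (B ⧸ Module.annihilator B N),
      φ Q ∈ Module.support (p.Fiber B) (FlatCA.fiberMod p B N) := by
    intro Q
    have h1 : (φ Q).asIdeal.comap (algebraMap B (p.Fiber B)) = Q.1.comap π := by
      have := PrimeSpectrum.coe_primesOverOrderIsoFiber_symm_apply (R := A) (S := B) (p := p) (φ Q)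
      rw [OrderIso.symm_apply_apply] at this
      exact this.symm
    apply Groth.Agent.Lib.Helper20.SuppBC.mem_support_baseChange_of_comap (A := B) (B := p.Fiber B)
      (N := N)
    rw [Module.mem_support_iff_of_finite]
    change Module.annihilator B N ≤ (φ Q).asIdeal.comap (algebraMap B (p.Fiber B))
    rw [h1]
    intro b hb
    rw [Ideal.mem_comap]
    have : π b = 0 := Ideal.Quotient.eq_zero_iff_mem.mpr hb
    rw [this]
    exact Q.1.zero_mem
  refine Finite.of_injective (β := ↥(Module.support (p.Fiber B) (FlatCA.fiberMod p B N)))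
    (fun Q => ⟨φ Q, hmem Q⟩) ?_
  intro Q1 Q2 h
  have h1 : φ Q1 = φ Q2 := Subtype.ext_iff.mp h
  have h2 := (PrimeSpectrum.primesOverOrderIsoFiber A B p).injective h1
  have h3 : Q1.1.comap π = Q2.1.comap π := Subtype.ext_iff.mp h2
  exact Subtype.ext (Ideal.comap_injective_of_surjective π (Ideal.Quotient.mkₐ_surjective A _) h3)

end QF

theorem isIntegral_of_forall_atPrime {A S : Type*} [CommRing A] [CommRing S] [Algebra A S]
    (h : ∀ (p : Ideal A) [p.IsPrime],
      Algebra.IsIntegral (Localization.AtPrime p) ((Localization.AtPrime p) ⊗[A] S)) :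
    Algebra.IsIntegral A S := by
  constructor
  intro s
  let L : Ideal A :=
    { carrier := {a | IsIntegral A (a • s)}
      add_mem' := fun {a b} ha hb => by
        show IsIntegral A ((a + b) • s)
        rw [add_smul]; exact IsIntegral.add ha hb
      zero_mem' := by
        show IsIntegral A ((0 : A) • s)
        rw [zero_smul]; exact isIntegral_zero
      smul_mem' := fun c {a} ha => by
        show IsIntegral A ((c • a) • s)
        rw [smul_eq_mul, mul_smul]
        exact IsIntegral.smul c ha }
  have hL : L = ⊤ := by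
    by_contra hne
    obtain ⟨m, hm, hle⟩ := Ideal.exists_le_maximal L hne
    haveI := hm.isPrime
    have hint : IsIntegral (Localization.AtPrime m) ((1 : Localization.AtPrime m) ⊗ₜ[A] s) :=
      (h m).isIntegral _
    obtain ⟨⟨m₁, hm₁⟩, h1⟩ :=
      IsIntegral.exists_multiple_integral_of_isLocalization m.primeCompl _ hint
    have heq : algebraMap S ((Localization.AtPrime m) ⊗[A] S) (m₁ • s) =
        (⟨m₁, hm₁⟩ : m.primeCompl) • ((1 : Localization.AtPrime m) ⊗ₜ[A] s) := by
      rw [Submonoid.smul_def]
      change (1 : Localization.AtPrime m) ⊗ₜ[A] (m₁ • s) = m₁ • ((1 : Localization.AtPrime m) ⊗ₜ[A] s)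
      rw [TensorProduct.tmul_smul]
    have h2 : IsIntegral A (algebraMap S ((Localization.AtPrime m) ⊗[A] S) (m₁ • s)) := by
      rw [heq]
      exact h1
    obtain ⟨m₂, hm₂, h3⟩ := IsLocalization.exists_isIntegral_smul_of_isIntegral_map
      (Sₘ := (Localization.AtPrime m) ⊗[A] S) m.primeCompl h2
    have h4 : m₂ * m₁ ∈ L := by
      show IsIntegral A ((m₂ * m₁) • s)
      rwa [mul_smul]
    exact (m.primeCompl.mul_mem hm₂ hm₁) (hle h4)
  have h1 : (1 : A) ∈ L := hL ▸ Submodule.mem_top
  have h2 : IsIntegral A ((1 : A) • s) := h1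
  rwa [one_smul] at h2


end Groth.Agent.Lib.Helper22.PureFinite
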