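import Mathlib
import Groth.Prelude.Def_FlatCA
import Groth.Agent.Lib.Helper13Fiber
import Groth.Agent.Lib.Helper22FiberAssLift
import Groth.Agent.Lib.Helper22PureFiniteA
import Groth.Agent.Lib.Helper2GenFree2

set_option autoImplicit false
set_option linter.unusedSectionVars false
set_option linter.style.haveILetI false

open TensorProduct FlatMor

namespace Groth.Agent.Lib.Helper22.NoethGRA

universe u

attribute [local instance] Algebra.TensorProduct.rightAlgebra

open Groth.Agent.Helper13Fiber Groth.Agent.Lib.Helper22.FiberAssLift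
  Groth.Agent.Lib.Helper2.GenFree

section L1a

variable {E S : Type u} [CommRing E] [IsDomain E] [CommRing S] [Algebra E S]
  [IsNoetherianRing S] (M : Type u) [AddCommGroup M] [Module S M] [Module E M]
  [IsScalarTower E S M]

/-- A prime over the generic point which is associated to the generic fibre module is an
associated prime of the module itself. -/
theorem mem_associatedPrimes_of_generic (Q : Ideal S) [Q.IsPrime] [Q.LiesOver (⊥ : Ideal E)]
    [IsNoetherianRing ((⊥ : Ideal E).Fiber S)]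
    (hass : FlatCA.fiberIdeal (⊥ : Ideal E) Q ∈
      associatedPrimes ((⊥ : Ideal E).Fiber S) (FlatCA.fiberMod (⊥ : Ideal E) S M)) :
    Q ∈ associatedPrimes S M := by
  obtain ⟨-, y, hy⟩ := (isAssociatedPrime_iff).mp hass
  obtain ⟨r, hr, x, hx⟩ := exists_smul_eq_toFiberMod (⊥ : Ideal E) S M y
  have hr0 : r ≠ 0 := fun h => hr (by rw [h]; exact Ideal.zero_mem _)
  -- membership in `Q` in terms of torsion
  have key : ∀ b : S, b ∈ Q ↔ ∃ c : E, c ≠ 0 ∧ algebraMap E S c • b • x = 0 := by
    intro b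
    have h1 : b ∈ Q ↔ algebraMap S ((⊥ : Ideal E).Fiber S) b ∈ FlatCA.fiberIdeal (⊥ : Ideal E) Q := by
      rw [← Ideal.mem_comap, comap_fiberIdeal]
    have h2 : algebraMap S ((⊥ : Ideal E).Fiber S) b ∈ FlatCA.fiberIdeal (⊥ : Ideal E) Q ↔
        b • y = 0 := by
      rw [hy, Submodule.mem_colon_singleton, Submodule.mem_bot, algebraMap_smul]
    have h3 : b • y = 0 ↔ FlatCA.toFiberMod (⊥ : Ideal E) S M (b • x) = 0 := by
      rw [map_smul, ← hx, smul_comm]
      exact (smul_eq_zero_iff (⊥ : Ideal E) S M hr (b • y)).symm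
    rw [h1, h2, h3, toFiberMod_eq_zero_iff]
    constructor
    · rintro ⟨t, ht, htm⟩
      refine ⟨t, fun h => ht (by rw [h]; exact Ideal.zero_mem _), ?_⟩
      rw [Ideal.map_bot, Submodule.bot_smul, Submodule.mem_bot] at htm
      exact htm
    · rintro ⟨c, hc, hcm⟩
      refine ⟨c, fun h => hc (by simpa using h), ?_⟩
      rw [hcm]
      exact Submodule.zero_mem _
  -- a uniform denominator
  have hfin : ∀ s : Finset S, (↑s ⊆ (Q : Set S)) →
      ∃ c : E, c ≠ 0 ∧ ∀ b ∈ Ideal.span (s : Set S), algebraMap E S c • b • x = 0 := by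
    intro s
    classical
    induction s using Finset.induction_on with
    | empty =>
      intro _
      refine ⟨1, one_ne_zero, fun b hb => ?_⟩
      rw [Finset.coe_empty, Ideal.span_empty, Ideal.mem_bot] at hb
      rw [hb, zero_smul, smul_zero]
    | insert b₀ s hb₀ ih =>
      intro hs
      rw [Finset.coe_insert, Set.insert_subset_iff] at hs
      obtain ⟨c₁, hc₁, h₁⟩ := ih hs.2
      obtain ⟨c₀, hc₀, h₀⟩ := (key b₀).mp hs.1
      refine ⟨c₀ * c₁, mul_ne_zero hc₀ hc₁, fun b hb => ?_⟩
      rw [Finset.coe_insert, Ideal.mem_span_insert] at hb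
      obtain ⟨a, z, hz, rfl⟩ := hb
      have e : algebraMap E S (c₀ * c₁) • (a * b₀ + z) • x =
          (a * algebraMap E S c₁) • (algebraMap E S c₀ • b₀ • x) +
            algebraMap E S c₀ • (algebraMap E S c₁ • z • x) := by
        simp only [smul_smul, ← add_smul, map_mul]
        congr 1
        ring
      rw [e, h₀, h₁ z hz, smul_zero, smul_zero, add_zero]
  obtain ⟨s, hs⟩ := (isNoetherianRing_iff_ideal_fg S).mp inferInstance Q
  obtain ⟨c₀, hc₀, hc⟩ := hfin s (by rw [← hs]; exact Ideal.subset_span)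
  rw [hs] at hc
  refine (isAssociatedPrime_iff).mpr ⟨inferInstance, algebraMap E S c₀ • x, ?_⟩
  ext b
  rw [Submodule.mem_colon_singleton, Submodule.mem_bot]
  constructor
  · intro hb
    rw [smul_comm]
    exact hc b hb
  · intro hb
    have h4 : b * algebraMap E S c₀ ∈ Q := by
      rw [key]
      refine ⟨1, one_ne_zero, ?_⟩
      rw [map_one, one_smul, mul_smul]
      exact hb
    rcases Ideal.IsPrime.mem_or_mem inferInstance h4 with h5 | h5
    · exact h5
    · exfalso
      apply hc₀
      have h6 : c₀ ∈ Q.under E := h5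
      rw [← Ideal.LiesOver.over (p := (⊥ : Ideal E)) (P := Q), Ideal.mem_bot] at h6
      exact h6

end L1a

section Nat

variable {E S : Type u} [CommRing E] [CommRing S] [Algebra E S]
  (κ : Type u) [CommRing κ] [Algebra E κ]
  {X Y : Type u} [AddCommGroup X] [Module S X] [Module E X] [IsScalarTower E S X]
  [AddCommGroup Y] [Module S Y] [Module E Y] [IsScalarTower E S Y]

/-- naturality of `(κ ⊗[E] S) ⊗[S] X ≃ κ ⊗[E] X` -/
theorem cancel_natural (j : X →ₗ[S] Y) (z : (κ ⊗[E] S) ⊗[S] X) :
    Algebra.IsPushout.cancelBaseChange E κ S (κ ⊗[E] S) Y (j.baseChange (κ ⊗[E] S) z) =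
      (j.restrictScalars E).baseChange κ
        (Algebra.IsPushout.cancelBaseChange E κ S (κ ⊗[E] S) X z) := by
  obtain ⟨w, rfl⟩ := (Algebra.IsPushout.cancelBaseChange E κ S (κ ⊗[E] S) X).symm.surjective z
  rw [LinearEquiv.apply_symm_apply]
  induction w using TensorProduct.induction_on with
  | zero => simp
  | tmul s x =>
    rw [Algebra.IsPushout.cancelBaseChange_symm_tmul, LinearMap.baseChange_tmul,
      LinearMap.baseChange_tmul,
      ← Algebra.IsPushout.cancelBaseChange_symm_tmul E κ S (κ ⊗[E] S) Y s (j x),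
      LinearEquiv.apply_symm_apply]
    rfl
  | add w₁ w₂ h₁ h₂ => simp only [map_add, h₁, h₂]

theorem baseChange_fiber_injective (j : X →ₗ[S] Y)
    (h : Function.Injective ((j.restrictScalars E).baseChange κ)) :
    Function.Injective (j.baseChange (κ ⊗[E] S)) := by
  intro z₁ z₂ hz
  apply (Algebra.IsPushout.cancelBaseChange E κ S (κ ⊗[E] S) X).injective
  apply h
  rw [← cancel_natural, ← cancel_natural, hz]

end Nat


section Nontriv

variable {E : Type u} [CommRing E] {G : Type u} [AddCommGroup G] [Module E G]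

/-- A module free away from `a` with a nonempty "basis" has nonzero fibres at primes not
containing `a`: a basis element is not in `q G` up to elements outside `q`. -/
theorem not_smul_mem_of_freeAway {a : E} (B : Set G)
    (hB : LinearIndependent E ((↑) : B → G))
    (hs : ∀ x : G, ∃ n : ℕ, a ^ n • x ∈ Submodule.span E B)
    (q : Ideal E) [q.IsPrime] (ha : a ∉ q) (b : B) (t : E) (ht : t ∉ q) :
    t • (b : G) ∉ (q • ⊤ : Submodule E G) := by
  intro hmem
  -- the property propagated along `q • ⊤`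
  have key : ∀ y ∈ (q • ⊤ : Submodule E G), ∃ (N : ℕ) (l : B →₀ E),
      Finsupp.linearCombination E ((↑) : B → G) l = a ^ N • y ∧ l b ∈ q := by
    intro y hy
    refine Submodule.smul_induction_on hy ?_ ?_
    · intro π hπ g _
      obtain ⟨n, hn⟩ := hs g
      obtain ⟨l, hl⟩ := (Finsupp.mem_span_range_iff_exists_finsupp).mp
        (show a ^ n • g ∈ Submodule.span E (Set.range ((↑) : B → G)) by
          rw [Subtype.range_coe_subtype]; exact hn)
      refine ⟨n, π • l, ?_, ?_⟩
      · rw [map_smul, Finsupp.linearCombination_apply, hl, smul_comm]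
      · rw [Finsupp.smul_apply, smul_eq_mul]
        exact Ideal.mul_mem_right _ _ hπ
    · rintro y₁ y₂ ⟨N₁, l₁, h₁, hb₁⟩ ⟨N₂, l₂, h₂, hb₂⟩
      refine ⟨N₁ + N₂, a ^ N₂ • l₁ + a ^ N₁ • l₂, ?_, ?_⟩
      · rw [map_add, map_smul, map_smul, h₁, h₂, smul_add, smul_smul, smul_smul, ← pow_add,
          ← pow_add, add_comm N₂ N₁]
      · rw [Finsupp.add_apply, Finsupp.smul_apply, Finsupp.smul_apply, smul_eq_mul, smul_eq_mul]
        exact Ideal.add_mem _ (Ideal.mul_mem_left _ _ hb₁) (Ideal.mul_mem_left _ _ hb₂)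
  obtain ⟨N, l, hl, hlb⟩ := key _ hmem
  have hinj := (linearIndependent_iff_injective_finsuppLinearCombination.mp hB)
  have h2 : Finsupp.linearCombination E ((↑) : B → G) (Finsupp.single b (a ^ N * t)) =
      a ^ N • t • (b : G) := by
    rw [Finsupp.linearCombination_single, mul_smul]
  have h3 : l = Finsupp.single b (a ^ N * t) := hinj (hl.trans h2.symm)
  rw [h3, Finsupp.single_eq_same] at hlb
  rcases Ideal.IsPrime.mem_or_mem inferInstance hlb with h | h
  · exact ha (Ideal.IsPrime.mem_of_pow_mem inferInstance N h)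
  · exact ht h

end Nontriv

section GRA

variable {E S : Type u} [CommRing E] [IsDomain E] [CommRing S] [Algebra E S]
  [Algebra.FiniteType E S] [IsNoetherianRing S]
  (M : Type u) [AddCommGroup M] [Module S M] [Module E M] [IsScalarTower E S M]
  [Module.Finite S M]

/-- **Generic relative assassin**: an associated prime `Q` of `M` lying over the generic point of
the domain `E` specializes, over every point of a dense open of `Spec E`, to an associated point of
the fibre. -/
theorem exists_generic_relAss (Q : Ideal S) [Q.IsPrime] [Q.LiesOver (⊥ : Ideal E)]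
    (hQ : Q ∈ associatedPrimes S M) :
    ∃ a : E, a ≠ 0 ∧ ∀ (q₁ : Ideal E) [q₁.IsPrime], a ∉ q₁ →
      ∃ (P₁ : Ideal S) (_ : P₁.IsPrime), Q ≤ P₁ ∧ P₁.LiesOver q₁ ∧
        FlatCA.fiberIdeal q₁ P₁ ∈ associatedPrimes (q₁.Fiber S) (FlatCA.fiberMod q₁ S M) := by
  obtain ⟨-, j, hj⟩ := (isAssociatedPrime_iff_exists_injective_linearMap Q M).mp hQ
  obtain ⟨a₁, ha₁, -, hW, -, -⟩ := exists_freeAway E S (M ⧸ LinearMap.range j)
  obtain ⟨a₂, ha₂, -, hG, -, -⟩ := exists_freeAway E S (S ⧸ Q)
  refine ⟨a₁ * a₂, mul_ne_zero ha₁ ha₂, ?_⟩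
  intro q₁ _ haq
  have ha₁q : a₁ ∉ q₁ := fun h => haq (Ideal.mul_mem_right _ _ h)
  have ha₂q : a₂ ∉ q₁ := fun h => haq (Ideal.mul_mem_left _ _ h)
  -- injectivity of `κ ⊗ j`
  have hW' : FreeAway E a₁ (M ⧸ LinearMap.range (j.restrictScalars E)) :=
    hW.of_linearEquiv (Submodule.Quotient.restrictScalarsEquiv E (LinearMap.range j)).symm
  have hflat : Module.Flat (Localization.Away a₁)
      (Localization.Away a₁ ⊗[E] (M ⧸ LinearMap.range (j.restrictScalars E))) := by
    haveI : Module.Free (Localization.Away a₁)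
        (Localization.Away a₁ ⊗[E] (M ⧸ LinearMap.range (j.restrictScalars E))) :=
      hW'.free (Localization.Away a₁)
        (TensorProduct.mk E (Localization.Away a₁) (M ⧸ LinearMap.range (j.restrictScalars E)) 1)
    infer_instance
  have hunit : IsUnit (algebraMap E q₁.ResidueField a₁) := by
    rw [isUnit_iff_ne_zero, ne_eq, Ideal.algebraMap_residueField_eq_zero]
    exact ha₁q
  have hex := exact_baseChange_of_flat_coker_away a₁ (0 : PUnit.{u+1} →ₗ[E] (S ⧸ Q))
    (j.restrictScalars E) (fun x => ⟨0, by simp⟩)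
    (fun y hy => ⟨0, by
      have : y = 0 := hj (by rw [map_zero]; exact hy)
      rw [this, smul_zero]; exact Submodule.zero_mem _⟩) hflat q₁.ResidueField hunit
  have hinjκ : Function.Injective ((j.restrictScalars E).baseChange q₁.ResidueField) := by
    rw [injective_iff_map_eq_zero]
    intro z hz
    obtain ⟨w, hw⟩ := (hex z).mp hz
    rw [← hw, LinearMap.baseChange_zero, LinearMap.zero_apply]
  have hinjΦ : Function.Injective (j.baseChange (q₁.Fiber S)) :=
    baseChange_fiber_injective q₁.ResidueField j hinjκ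
  -- nontriviality of the fibre of `S ⧸ Q`
  obtain ⟨B, hB, hs⟩ := hG
  have hBne : B.Nonempty := by
    by_contra hempty
    rw [Set.not_nonempty_iff_eq_empty] at hempty
    obtain ⟨n, hn⟩ := hs (1 : S ⧸ Q)
    rw [hempty, Submodule.span_empty, Submodule.mem_bot, Algebra.smul_def, mul_one,
      IsScalarTower.algebraMap_apply E S (S ⧸ Q), Ideal.Quotient.algebraMap_eq,
      Ideal.Quotient.eq_zero_iff_mem] at hn
    have h6 : a₂ ^ n ∈ Q.under E := hn
    rw [← Ideal.LiesOver.over (p := (⊥ : Ideal E)) (P := Q), Ideal.mem_bot] at h6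
    exact pow_ne_zero n ha₂ h6
  obtain ⟨b, hb⟩ := hBne
  have hne : FlatCA.toFiberMod q₁ S (S ⧸ Q) b ≠ 0 := by
    intro h0
    obtain ⟨t, ht, htm⟩ := (toFiberMod_eq_zero_iff q₁ S (S ⧸ Q) b).mp h0
    have hrs : (q₁ • ⊤ : Submodule E (S ⧸ Q)) =
        ((q₁.map (algebraMap E S) • ⊤ : Submodule S (S ⧸ Q))).restrictScalars E := by
      rw [Ideal.smul_restrictScalars, Submodule.restrictScalars_top]
    have h7 : t • b ∈ (q₁ • ⊤ : Submodule E (S ⧸ Q)) := by
      rw [hrs, Submodule.restrictScalars_mem, ← algebraMap_smul S t b]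
      exact htm
    exact not_smul_mem_of_freeAway B hB hs q₁ ha₂q ⟨b, hb⟩ t ht h7
  haveI hnt : Nontrivial (FlatCA.fiberMod q₁ S (S ⧸ Q)) := ⟨⟨_, 0, hne⟩⟩
  haveI hnΦ : IsNoetherianRing (q₁.Fiber S) :=
    Algebra.FiniteType.isNoetherianRing q₁.ResidueField (q₁.Fiber S)
  obtain ⟨𝔓, h𝔓⟩ := associatedPrimes.nonempty (q₁.Fiber S) (FlatCA.fiberMod q₁ S (S ⧸ Q))
  haveI h𝔓p : 𝔓.IsPrime := h𝔓.isPrime
  have h𝔓M : 𝔓 ∈ associatedPrimes (q₁.Fiber S) (FlatCA.fiberMod q₁ S M) :=
    associatedPrimes.subset_of_injective (f := j.baseChange (q₁.Fiber S)) hinjΦ h𝔓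
  refine ⟨𝔓.comap (algebraMap S (q₁.Fiber S)), Ideal.comap_isPrime _ _, ?_, ?_, ?_⟩
  · -- `Q ≤ P₁`
    intro c hc
    rw [Ideal.mem_comap]
    obtain ⟨-, z, hz⟩ := (isAssociatedPrime_iff).mp h𝔓
    rw [hz, Submodule.mem_colon_singleton, Submodule.mem_bot, algebraMap_smul]
    have hkill : ∀ z : (q₁.Fiber S) ⊗[S] (S ⧸ Q), c • z = 0 := by
      intro z
      induction z using TensorProduct.induction_on with
      | zero => rw [smul_zero]
      | tmul φ g =>
        obtain ⟨g, rfl⟩ := Ideal.Quotient.mk_surjective g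
        rw [TensorProduct.smul_tmul', TensorProduct.smul_tmul, Algebra.smul_def,
          Ideal.Quotient.algebraMap_eq, ← map_mul, Ideal.Quotient.eq_zero_iff_mem.mpr
            (Q.mul_mem_right g hc), TensorProduct.tmul_zero]
      | add x y hx hy => rw [smul_add, hx, hy, add_zero]
    exact hkill z
  · constructor
    rw [Ideal.under_def, Ideal.comap_comap, ← IsScalarTower.algebraMap_eq E S (q₁.Fiber S)]
    exact Ideal.LiesOver.over (p := q₁) (P := 𝔓)
  · rw [Groth.Agent.Lib.Helper22.PureFinite.fiberIdeal_comap q₁ 𝔓]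
    exact h𝔓M

end GRA

end Groth.Agent.Lib.Helper22.NoethGRA
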