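import Mathlib

set_option autoImplicit false
set_option linter.unusedSectionVars false

namespace Groth.Agent.Lib.Helper22.NoethPIT

/-- In a Noetherian domain, if every nonzero prime below `𝔱` contains a fixed nonzero element `a`,
then there is no nonzero prime strictly below `𝔱` (Krull's principal ideal theorem). -/
theorem eq_bot_of_lt_of_forall_mem {E : Type*} [CommRing E] [IsDomain E] [IsNoetherianRing E]
    (𝔱 : Ideal E) [𝔱.IsPrime] (a : E) (ha : a ≠ 0)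
    (H : ∀ (q₁ : Ideal E) [q₁.IsPrime], q₁ ≤ 𝔱 → q₁ ≠ ⊥ → a ∈ q₁)
    (𝔱' : Ideal E) [𝔱'.IsPrime] (hlt : 𝔱' < 𝔱) : 𝔱' = ⊥ := by
  classical
  by_contra hne
  have ha' : a ∈ 𝔱' := H 𝔱' hlt.le hne
  have hfin : (Ideal.span {a}).minimalPrimes.Finite :=
    Ideal.finite_minimalPrimes_of_isNoetherianRing E (Ideal.span {a})
  have hale𝔱' : Ideal.span {a} ≤ 𝔱' := (Ideal.span_singleton_le_iff_mem _).mpr ha'
  -- `𝔱` is not below any minimal prime over `(a)`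
  have hnot : ∀ σ ∈ (Ideal.span {a}).minimalPrimes, ¬ 𝔱 ≤ σ := by
    intro σ hσ hle
    have h1 : σ ≤ 𝔱' := hσ.2 ⟨inferInstance, hale𝔱'⟩ (hlt.le.trans hle)
    exact absurd (hle.trans h1) (not_le_of_gt hlt)
  -- prime avoidance
  have havoid : ¬ ((𝔱 : Set E) ⊆ ⋃ σ ∈ (hfin.toFinset : Set (Ideal E)), (σ : Set E)) := by
    intro hsub
    obtain ⟨σ, hσ, hle⟩ := (Ideal.subset_union_prime (s := hfin.toFinset) (f := fun σ => σ) ⊥ ⊥
      (fun σ hσ _ _ => ((hfin.mem_toFinset).mp hσ).1.1)).mp hsub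
    exact hnot σ ((hfin.mem_toFinset).mp hσ) hle
  obtain ⟨h, hh𝔱, hhnot⟩ := Set.not_subset.mp havoid
  have hhσ : ∀ σ ∈ (Ideal.span {a}).minimalPrimes, h ∉ σ := by
    intro σ hσ hmem
    apply hhnot
    simp only [Set.mem_iUnion]
    exact ⟨σ, (by simpa using hσ), hmem⟩
  -- a minimal prime over `(h)` below `𝔱`
  obtain ⟨𝔮, h𝔮, h𝔮le⟩ := Ideal.exists_minimalPrimes_le (I := Ideal.span {h}) (J := 𝔱)
    ((Ideal.span_singleton_le_iff_mem _).mpr hh𝔱)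
  haveI h𝔮p : 𝔮.IsPrime := h𝔮.1.1
  have hh𝔮 : h ∈ 𝔮 := h𝔮.1.2 (Ideal.mem_span_singleton_self h)
  obtain ⟨σ₀, hσ₀, hσ₀le⟩ := Ideal.exists_minimalPrimes_le (I := Ideal.span {a}) (J := 𝔱') hale𝔱'
  have hh0 : h ≠ 0 := fun h0 => hhσ σ₀ hσ₀ (h0 ▸ σ₀.zero_mem)
  have h𝔮ne : 𝔮 ≠ ⊥ := fun hb => hh0 (by rw [hb] at hh𝔮; exact hh𝔮)
  have ha𝔮 : a ∈ 𝔮 := H 𝔮 h𝔮le h𝔮ne
  obtain ⟨σ, hσ, hσle⟩ := Ideal.exists_minimalPrimes_le (I := Ideal.span {a}) (J := 𝔮)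
    ((Ideal.span_singleton_le_iff_mem _).mpr ha𝔮)
  haveI hσp : σ.IsPrime := hσ.1.1
  have hσlt : σ < 𝔮 := lt_of_le_of_ne hσle (fun he => hhσ σ hσ (he ▸ hh𝔮))
  have haσ : a ∈ σ := hσ.1.2 (Ideal.mem_span_singleton_self a)
  have hσne : σ ≠ ⊥ := fun hb => ha (by rw [hb] at haσ; exact haσ)
  have hbotlt : (⊥ : Ideal E) < σ := bot_lt_iff_ne_bot.mpr hσne
  -- heights
  have h1 : 𝔮.height ≤ 1 :=
    Ideal.height_le_one_of_isPrincipal_of_mem_minimalPrimes (Ideal.span {h}) 𝔮 h𝔮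
  have h2 : (⊥ : Ideal E).height + 1 ≤ σ.height := Ideal.height_add_one_le_of_lt_of_isPrime hbotlt
  have h3 : σ.height + 1 ≤ 𝔮.height := Ideal.height_add_one_le_of_lt_of_isPrime hσlt
  have h4 : (1 : ℕ∞) ≤ σ.height := le_trans (by simp) h2
  have h5 : (2 : ℕ∞) ≤ 𝔮.height := by
    calc (2 : ℕ∞) = 1 + 1 := by norm_num
      _ ≤ σ.height + 1 := add_le_add_left h4 1
      _ ≤ 𝔮.height := h3
  have : (2 : ℕ∞) ≤ 1 := h5.trans h1
  exact absurd this (by norm_num)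

end Groth.Agent.Lib.Helper22.NoethPIT
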