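import Mathlib
import Groth.Prelude.Def_FlatCA
import Groth.Agent.Lib.Helper22FiberAssLift
import Groth.Agent.Lib.Helper22PureFiniteA

set_option autoImplicit false
set_option linter.unusedSectionVars false
set_option linter.style.haveILetI false

open TensorProduct FlatMor

namespace Groth.Agent.Lib.Helper22.NoethQF

universe u

attribute [local instance] Algebra.TensorProduct.rightAlgebra

open Groth.Agent.Lib.Helper22.FiberAssLift

/-- A prime of a finite type algebra which is both a closed point and a generic point of its fibre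
is a point at which the algebra is quasi-finite. -/
theorem quasiFiniteAt_of_isolated {A E : Type u} [CommRing A] [CommRing E] [Algebra A E]
    [Algebra.FiniteType A E] (p : Ideal A) [p.IsPrime] (𝔱 : Ideal E) [𝔱.IsPrime] [𝔱.LiesOver p]
    (hmax : (FlatCA.fiberIdeal p 𝔱).IsMaximal)
    (hmin : ∀ (𝔱' : Ideal E) [𝔱'.IsPrime], 𝔱' ≤ 𝔱 → 𝔱'.LiesOver p → 𝔱' = 𝔱) :
    Algebra.QuasiFiniteAt A 𝔱 := by
  haveI hQp : (FlatCA.fiberIdeal p 𝔱).IsPrime := hmax.isPrime
  haveI hnΦ : IsNoetherianRing (p.Fiber E) :=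
    Algebra.FiniteType.isNoetherianRing p.ResidueField (p.Fiber E)
  haveI hjΦ : IsJacobsonRing (p.Fiber E) := isJacobsonRing_of_finiteType (A := p.ResidueField)
  have hcomap : (FlatCA.fiberIdeal p 𝔱).comap
      (Algebra.TensorProduct.includeRight (R := A) (A := p.ResidueField) (B := E)).toRingHom = 𝔱 :=
    comap_fiberIdeal p 𝔱
  have hminimal : FlatCA.fiberIdeal p 𝔱 ∈ minimalPrimes (p.Fiber E) := by
    refine ⟨⟨hQp, bot_le⟩, ?_⟩
    rintro q' ⟨hq'p, -⟩ hle
    have h1 : q'.comap (algebraMap E (p.Fiber E)) ≤ 𝔱 := by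
      have := Ideal.comap_mono (f := algebraMap E (p.Fiber E)) hle
      rwa [comap_fiberIdeal p 𝔱] at this
    have h2 : (q'.comap (algebraMap E (p.Fiber E))).LiesOver p := by
      constructor
      rw [Ideal.under_def, Ideal.comap_comap, ← IsScalarTower.algebraMap_eq A E (p.Fiber E)]
      exact Ideal.LiesOver.over (p := p) (P := q')
    have h3 := hmin (q'.comap (algebraMap E (p.Fiber E))) h1 h2
    have h4 := Groth.Agent.Lib.Helper22.PureFinite.fiberIdeal_comap p q'
    rw [h3] at h4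
    exact h4.le
  have hclosed : IsClosed ({⟨FlatCA.fiberIdeal p 𝔱, hQp⟩} : Set (PrimeSpectrum (p.Fiber E))) := by
    rw [PrimeSpectrum.isClosed_singleton_iff_isMaximal]
    exact hmax
  have hstable : StableUnderGeneralization
      ({⟨FlatCA.fiberIdeal p 𝔱, hQp⟩} : Set (PrimeSpectrum (p.Fiber E))) := by
    rw [PrimeSpectrum.stableUnderGeneralization_singleton]
    exact hminimal
  have htfae := (PrimeSpectrum.isOpen_singleton_tfae_of_isNoetherian_of_isJacobsonRing
      (⟨FlatCA.fiberIdeal p 𝔱, hQp⟩ : PrimeSpectrum (p.Fiber E))).out 2 0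
  have hopen : IsOpen ({⟨FlatCA.fiberIdeal p 𝔱, hQp⟩} : Set (PrimeSpectrum (p.Fiber E))) :=
    htfae.mp ⟨hclosed, hstable⟩
  haveI hqfκ : Algebra.QuasiFiniteAt p.ResidueField (FlatCA.fiberIdeal p 𝔱) :=
    Algebra.QuasiFiniteAt.of_isOpen_singleton
      (⟨FlatCA.fiberIdeal p 𝔱, hQp⟩ : PrimeSpectrum (p.Fiber E)) hopen
  exact Algebra.QuasiFiniteAt.of_quasiFiniteAt_residueField p 𝔱 (FlatCA.fiberIdeal p 𝔱) hcomap

end Groth.Agent.Lib.Helper22.NoethQF
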