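import Mathlib
import Groth.Prelude.Def_FlatCA
import Groth.Agent.Lib.Helper22ImpTransferB
import Groth.Agent.Lib.Helper22NoethGRA
import Groth.Agent.Lib.Helper22NoethPIT
import Groth.Agent.Lib.Helper22NoethQF
import Groth.Agent.Lib.Helper22NoethFC

set_option autoImplicit false
set_option linter.unusedSectionVars false
set_option linter.style.haveILetI false

open TensorProduct FlatMor

namespace Groth.Agent.Lib.Helper22.NoethMain

universe u

attribute [local instance] Algebra.TensorProduct.rightAlgebra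

open Groth.Agent.Lib.Helper22.FiberAssLift

section FibMax

variable {A A' E : Type u} [CommRing A] [CommRing A'] [CommRing E] [Algebra A A'] [Algebra A E]
  [Algebra A' E] [IsScalarTower A A' E]

/-- closed points of fibres map to closed points under a surjection of algebras -/
theorem fiberIdeal_isMaximal_of_surjective (hsurj : Function.Surjective (algebraMap A' E))
    (p : Ideal A) [p.IsPrime] (t : Ideal A') [t.IsPrime] [t.LiesOver p]
    (𝔱 : Ideal E) [𝔱.IsPrime] [𝔱.LiesOver p] (h𝔱 : 𝔱.comap (algebraMap A' E) = t)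
    (hmax : (FlatCA.fiberIdeal p t).IsMaximal) : (FlatCA.fiberIdeal p 𝔱).IsMaximal := by
  let ψ : p.Fiber A' →ₐ[A] p.Fiber E :=
    Algebra.TensorProduct.map (AlgHom.id A p.ResidueField) (IsScalarTower.toAlgHom A A' E)
  have hψ : ∀ x : A', ψ (algebraMap A' (p.Fiber A') x) =
      algebraMap E (p.Fiber E) (algebraMap A' E x) := by
    intro x
    change ψ ((1 : p.ResidueField) ⊗ₜ[A] x) = (1 : p.ResidueField) ⊗ₜ[A] (algebraMap A' E x)
    rw [Algebra.TensorProduct.map_tmul]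
    rfl
  have hne : FlatCA.fiberIdeal p 𝔱 ≠ ⊤ := by
    intro htop
    have hcf := comap_fiberIdeal p 𝔱
    rw [htop, Ideal.comap_top] at hcf
    exact (Ideal.IsPrime.ne_top inferInstance) hcf.symm
  obtain ⟨𝔐, h𝔐max, h𝔐le⟩ := Ideal.exists_le_maximal _ hne
  haveI h𝔐p : 𝔐.IsPrime := h𝔐max.isPrime
  have h1 : FlatCA.fiberIdeal p t ≤ 𝔐.comap ψ.toRingHom := by
    unfold FlatCA.fiberIdeal
    rw [Ideal.map_le_iff_le_comap]
    intro x hx
    rw [Ideal.mem_comap, Ideal.mem_comap]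
    change ψ (algebraMap A' (p.Fiber A') x) ∈ 𝔐
    rw [hψ]
    apply h𝔐le
    apply Ideal.mem_map_of_mem
    rw [← h𝔱] at hx
    exact hx
  have h2 : FlatCA.fiberIdeal p t = 𝔐.comap ψ.toRingHom :=
    hmax.eq_of_le (Ideal.comap_ne_top _ (Ideal.IsPrime.ne_top inferInstance)) h1
  have h3 : (𝔐.comap (algebraMap E (p.Fiber E))).comap (algebraMap A' E) = t := by
    have hcf := comap_fiberIdeal p t
    rw [h2] at hcf
    rw [← hcf]
    ext x
    rw [Ideal.mem_comap, Ideal.mem_comap, Ideal.mem_comap, Ideal.mem_comap]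
    change _ ↔ ψ (algebraMap A' (p.Fiber A') x) ∈ 𝔐
    rw [hψ]
  have h4 : 𝔐.comap (algebraMap E (p.Fiber E)) = 𝔱 := by
    rw [← Ideal.map_comap_of_surjective _ hsurj (𝔐.comap (algebraMap E (p.Fiber E))), h3, ← h𝔱,
      Ideal.map_comap_of_surjective _ hsurj]
  have h5 := Groth.Agent.Lib.Helper22.PureFinite.fiberIdeal_comap p 𝔐
  rw [h4] at h5
  rw [h5]
  exact h𝔐max

end FibMax

section Congr

variable {A B : Type u} [CommRing A] [CommRing B] [Algebra A B] (N : Type u) [AddCommGroup N]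
  [Module B N] (p : Ideal A) [p.IsPrime]

theorem isImpurity_congr (A' B' N' : Type u) [CommRing A'] [CommRing B'] [Algebra A A']
    [Algebra B B'] [Algebra A' B'] [Algebra A B'] [IsScalarTower A B B'] [IsScalarTower A A' B']
    [AddCommGroup N'] [Module B' N'] [Module B N'] [IsScalarTower B B' N'] [Module A' N']
    [IsScalarTower A' B' N'] (f : N →ₗ[B] N') (t₁' t₂' t : Ideal A') [t₁'.IsPrime] [t₂'.IsPrime]
    [t.IsPrime] (P : Ideal B') [P.IsPrime] (h : t₁' = t₂')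
    (himp : FlatCA.IsImpurity A B N p A' B' N' f t₁' t P) :
    FlatCA.IsImpurity A B N p A' B' N' f t₂' t P := by
  subst h
  exact himp

end Congr

section Self

variable {R : Type u} [CommRing R]

theorem liesOver_self (I : Ideal R) : I.LiesOver I := ⟨by rw [Ideal.under_def]; exact (Ideal.comap_id I).symm⟩

theorem eq_of_liesOver_self (I J : Ideal R) (h : J.LiesOver I) : J = I := by
  have := h.over
  rw [Ideal.under_def] at this
  rw [this]
  exact (Ideal.comap_id J).symm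

end Self


section Moves

open Groth.Agent.Lib.Helper22.ImpTransferB

variable {A B : Type u} [CommRing A] [CommRing B] [Algebra A B] [Algebra.FiniteType A B]
  (N : Type u) [AddCommGroup N] [Module B N] (p : Ideal A) [p.IsPrime]

/-- any impurity can be put in the concrete tensor model over the same base change ring -/
theorem impurity_normalize
    (A1 B1 N1 : Type u) [CommRing A1] [CommRing B1] [Algebra A A1] [Algebra B B1]
    [Algebra A1 B1] [Algebra A B1] [IsScalarTower A B B1] [IsScalarTower A A1 B1]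
    [AddCommGroup N1] [Module B1 N1] [Module B N1] [IsScalarTower B B1 N1] [Module A1 N1]
    [IsScalarTower A1 B1 N1] (f1 : N →ₗ[B] N1) (t' t : Ideal A1) [t'.IsPrime] [t.IsPrime]
    (P : Ideal B1) [P.IsPrime]
    (himp : FlatCA.IsImpurity A B N p A1 B1 N1 f1 t' t P) :
    ∃ (Q : Ideal (B ⊗[A] A1)) (_ : Q.IsPrime),
      FlatCA.IsImpurity A B N p A1 (B ⊗[A] A1) ((B ⊗[A] A1) ⊗[B] N)
        (TensorProduct.mk B (B ⊗[A] A1) N 1) t' t Q := by
  have hle : t' ≤ t := himp.2.2.1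
  haveI htp : t.LiesOver p := himp.2.2.2.1
  haveI h1 : t'.LiesOver t' := liesOver_self t'
  haveI h2 : t.LiesOver t := liesOver_self t
  obtain ⟨Q, hQ, hQimp⟩ := impurity_transfer' N p A1 B1 N1 f1 t' t P himp A1 A1 t' t hle t
    (fun u'' _ hu'' => eq_of_liesOver_self t u'' hu'')
  refine ⟨Q, hQ, isImpurity_congr N p _ _ _ _ _ _ t Q ?_ hQimp⟩
  rw [Ideal.under_def]
  exact Ideal.comap_id t'

variable (A1 E : Type u) [CommRing A1] [CommRing E] [Algebra A A1] [Algebra A E] [Algebra A1 E]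
  [IsScalarTower A A1 E]

/-- an impurity at `(q, t)` gives an impurity over a quotient `E = A1 ⧸ q` at `(⊥, t/q)` -/
theorem impurity_down [IsDomain E]
    (B1 N1 : Type u) [CommRing B1] [Algebra B B1]
    [Algebra A1 B1] [Algebra A B1] [IsScalarTower A B B1] [IsScalarTower A A1 B1]
    [AddCommGroup N1] [Module B1 N1] [Module B N1] [IsScalarTower B B1 N1] [Module A1 N1]
    [IsScalarTower A1 B1 N1] (f1 : N →ₗ[B] N1) (q t : Ideal A1) [q.IsPrime] [t.IsPrime]
    (hker : RingHom.ker (algebraMap A1 E) = q)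
    (𝔱 : Ideal E) [𝔱.IsPrime] (h𝔱 : 𝔱.comap (algebraMap A1 E) = t)
    (P : Ideal B1) [P.IsPrime]
    (himp : FlatCA.IsImpurity A B N p A1 B1 N1 f1 q t P) :
    ∃ (Q : Ideal (B ⊗[A] E)) (_ : Q.IsPrime),
      FlatCA.IsImpurity A B N p E (B ⊗[A] E) ((B ⊗[A] E) ⊗[B] N)
        (TensorProduct.mk B (B ⊗[A] E) N 1) ⊥ 𝔱 Q := by
  haveI htp : t.LiesOver p := himp.2.2.2.1
  haveI h1 : (⊥ : Ideal E).LiesOver q := ⟨by
    rw [Ideal.under_def, ← RingHom.ker_eq_comap_bot, hker]⟩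
  haveI h2 : 𝔱.LiesOver t := ⟨by rw [Ideal.under_def, h𝔱]⟩
  haveI h3 : 𝔱.LiesOver 𝔱 := liesOver_self _
  haveI h4 : 𝔱.LiesOver p := ⟨by
    rw [Ideal.under_def, IsScalarTower.algebraMap_eq A A1 E, ← Ideal.comap_comap, h𝔱]
    exact htp.over⟩
  haveI hfin : Module.Finite E E := inferInstance
  obtain ⟨Q, hQ, hQimp⟩ := impurity_transfer' N p A1 B1 N1 f1 q t P himp E E
    (⊥ : Ideal E) 𝔱 bot_le 𝔱 (fun u'' _ hu'' => eq_of_liesOver_self _ u'' hu'')
  refine ⟨Q, hQ, isImpurity_congr N p _ _ _ _ _ _ _ Q ?_ hQimp⟩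
  rw [Ideal.under_def]
  exact Ideal.comap_id _

/-- an impurity over a quotient `E` of `A1` at `(q₁, t/q)` gives an impurity over `A1` at
`(q₁ ∩ A1, t)` -/
theorem impurity_up (hsurj : Function.Surjective (algebraMap A1 E))
    (t : Ideal A1) [t.IsPrime] [t.LiesOver p]
    (𝔱 : Ideal E) [𝔱.IsPrime] (h𝔱 : 𝔱.comap (algebraMap A1 E) = t)
    (q₁ : Ideal E) [q₁.IsPrime] (P₁ : Ideal (B ⊗[A] E)) [P₁.IsPrime]
    (himp : FlatCA.IsImpurity A B N p E (B ⊗[A] E) ((B ⊗[A] E) ⊗[B] N)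
        (TensorProduct.mk B (B ⊗[A] E) N 1) q₁ 𝔱 P₁) :
    ∃ (Q' : Ideal (B ⊗[A] A1)) (_ : Q'.IsPrime),
      FlatCA.IsImpurity A B N p A1 (B ⊗[A] A1) ((B ⊗[A] A1) ⊗[B] N)
        (TensorProduct.mk B (B ⊗[A] A1) N 1) (q₁.under A1) t Q' := by
  have hle : q₁ ≤ 𝔱 := himp.2.2.1
  haveI h1 : q₁.LiesOver q₁ := liesOver_self q₁
  haveI h2 : 𝔱.LiesOver 𝔱 := liesOver_self _
  haveI h3 : 𝔱.LiesOver t := ⟨by rw [Ideal.under_def, h𝔱]⟩
  haveI hfin : Module.Finite A1 E := Module.Finite.of_surjective (Algebra.linearMap A1 E) hsurj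
  exact impurity_transfer' N p E (B ⊗[A] E) ((B ⊗[A] E) ⊗[B] N)
    (TensorProduct.mk B (B ⊗[A] E) N 1) q₁ 𝔱 P₁ himp A1 E q₁ 𝔱 hle t
    (fun u'' _ hu'' => by
      have h5 : u''.comap (algebraMap A1 E) = t := by
        have := hu''.over
        rw [Ideal.under_def] at this
        exact this.symm
      rw [← Ideal.map_comap_of_surjective _ hsurj u'', h5, ← h𝔱,
        Ideal.map_comap_of_surjective _ hsurj])

end Moves

section CoreE

open Groth.Agent.Lib.Helper22.NoethGRA Groth.Agent.Lib.Helper22.NoethPIT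
  Groth.Agent.Lib.Helper22.NoethQF Groth.Agent.Lib.Helper22.NoethFC

variable {A B : Type u} [CommRing A] [IsNoetherianRing A] [CommRing B] [Algebra A B]
  [Algebra.FiniteType A B]
  (N : Type u) [AddCommGroup N] [Module B N] [Module.Finite B N] (p : Ideal A) [p.IsPrime]

/-- analysis of an impurity over a domain `E` of finite type whose generic point is a maximal
prime carrying an impurity: `E` is quasi-finite over `A` at the special point. -/
theorem core_E (E : Type u) [CommRing E] [IsDomain E] [Algebra A E] [Algebra.FiniteType A E]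
    (𝔱 : Ideal E) [𝔱.IsPrime] (Q : Ideal (B ⊗[A] E)) [Q.IsPrime]
    (himp : FlatCA.IsImpurity A B N p E (B ⊗[A] E) ((B ⊗[A] E) ⊗[B] N)
      (TensorProduct.mk B (B ⊗[A] E) N 1) ⊥ 𝔱 Q)
    (hmax : (FlatCA.fiberIdeal p 𝔱).IsMaximal)
    (hmaxq : ∀ (q₁ : Ideal E) [q₁.IsPrime] (P₁ : Ideal (B ⊗[A] E)) [P₁.IsPrime],
      FlatCA.IsImpurity A B N p E (B ⊗[A] E) ((B ⊗[A] E) ⊗[B] N)
        (TensorProduct.mk B (B ⊗[A] E) N 1) q₁ 𝔱 P₁ → q₁ = ⊥) :
    FlatCA.HasImpurity A B N p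
      (fun A' _ _ t => ∃ _ : t.IsPrime, Algebra.FiniteType A A' ∧ Algebra.QuasiFiniteAt A t) := by
  have himp0 := himp
  obtain ⟨hpo, hbc, hle, h𝔱p, hQbot, hass, hno⟩ := himp
  haveI hnE : IsNoetherianRing E := Algebra.FiniteType.isNoetherianRing A E
  haveI hftS : Algebra.FiniteType E (B ⊗[A] E) := finiteType_of_isPushout (A := A) (B := B)
  haveI hnS : IsNoetherianRing (B ⊗[A] E) := Algebra.FiniteType.isNoetherianRing E (B ⊗[A] E)
  haveI hnΦ : IsNoetherianRing ((⊥ : Ideal E).Fiber (B ⊗[A] E)) :=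
    Algebra.FiniteType.isNoetherianRing (⊥ : Ideal E).ResidueField _
  have hQass : Q ∈ associatedPrimes (B ⊗[A] E) ((B ⊗[A] E) ⊗[B] N) :=
    mem_associatedPrimes_of_generic (E := E) ((B ⊗[A] E) ⊗[B] N) Q hass
  obtain ⟨a, ha, hGRA⟩ := exists_generic_relAss (E := E) ((B ⊗[A] E) ⊗[B] N) Q hQass
  have H : ∀ (q₁ : Ideal E) [q₁.IsPrime], q₁ ≤ 𝔱 → q₁ ≠ ⊥ → a ∈ q₁ := by
    intro q₁ _ hq₁le hq₁ne
    by_contra haq
    obtain ⟨P₁, hP₁p, hQP₁, hP₁over, hP₁ass⟩ := hGRA q₁ haq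
    exact hq₁ne (hmaxq q₁ P₁ ⟨hpo, hbc, hq₁le, h𝔱p, hP₁over, hP₁ass,
      fun P' _ hle' => hno P' (hQP₁.trans hle')⟩)
  have hlt : ∀ (𝔱' : Ideal E) [𝔱'.IsPrime], 𝔱' < 𝔱 → 𝔱' = ⊥ :=
    fun 𝔱' _ h => eq_bot_of_lt_of_forall_mem 𝔱 a ha H 𝔱' h
  have hqf : Algebra.QuasiFiniteAt A 𝔱 := by
    by_cases hbot : p ≤ RingHom.ker (algebraMap A E)
    · -- the field case: contradiction
      exfalso
      letI modAN : Module A N := Module.compHom N (algebraMap A B)
      haveI twABN : IsScalarTower A B N := ⟨fun a b n => by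
        change (a • b) • n = algebraMap A B a • (b • n)
        rw [Algebra.smul_def, mul_smul]⟩
      haveI hpo' : Algebra.IsPushout A E B (B ⊗[A] E) := hpo.symm
      let e : (B ⊗[A] E) ⊗[B] N ≃ₗ[E] E ⊗[A] N :=
        Algebra.IsPushout.cancelBaseChange A E B (B ⊗[A] E) N
      haveI hfree := free_localization_tensor p 𝔱 hbot N ((B ⊗[A] E) ⊗[B] N) e
      haveI hnO : IsNoetherianRing (Localization.AtPrime 𝔱) :=
        IsLocalization.isNoetherianRing 𝔱.primeCompl _ inferInstance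
      obtain ⟨-, x₁, hx₁⟩ := (isAssociatedPrime_iff).mp hQass
      obtain ⟨P', hP'p, hQP', hP'over⟩ := exists_prime_ge_liesOver_of_free 𝔱 Q x₁ hx₁
      exact hno P' hQP' hP'over
    · -- quasi-finiteness
      refine quasiFiniteAt_of_isolated p 𝔱 hmax ?_
      intro 𝔱' _ h𝔱'le h𝔱'over
      by_contra hne
      have h1 : 𝔱' = ⊥ := hlt 𝔱' (lt_of_le_of_ne h𝔱'le hne)
      apply hbot
      have h2 := h𝔱'over.over
      rw [h1, Ideal.under_def, ← RingHom.ker_eq_comap_bot] at h2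
      rw [← h2]
  exact ⟨E, B ⊗[A] E, (B ⊗[A] E) ⊗[B] N, inferInstance, inferInstance,
    inferInstance, inferInstance, inferInstance, inferInstance, inferInstance, inferInstance,
    inferInstance, inferInstance, inferInstance, inferInstance, inferInstance, inferInstance,
    TensorProduct.mk B (B ⊗[A] E) N 1, ⊥, 𝔱, inferInstance, inferInstance,
    Q, inferInstance, himp0, inferInstance, inferInstance, hqf⟩

end CoreE


section Core

variable {A B : Type u} [CommRing A] [IsNoetherianRing A] [CommRing B] [Algebra A B]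
  [Algebra.FiniteType A B]
  (N : Type u) [AddCommGroup N] [Module B N] [Module.Finite B N] (p : Ideal A) [p.IsPrime]

/-- **Noetherian base**: an impurity whose base change ring is of finite type over `A` and whose
point `t` is a closed point of its fibre yields an impurity which is quasi-finite at the point. -/
theorem core
    (A1 B1 N1 : Type u) [CommRing A1] [CommRing B1] [Algebra A A1] [Algebra B B1]
    [Algebra A1 B1] [Algebra A B1] [IsScalarTower A B B1] [IsScalarTower A A1 B1]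
    [AddCommGroup N1] [Module B1 N1] [Module B N1] [IsScalarTower B B1 N1] [Module A1 N1]
    [IsScalarTower A1 B1 N1] (f1 : N →ₗ[B] N1) (t' t : Ideal A1) [t'.IsPrime] [t.IsPrime]
    (P : Ideal B1) [P.IsPrime]
    (himp : FlatCA.IsImpurity A B N p A1 B1 N1 f1 t' t P)
    [Algebra.FiniteType A A1] (hmax : (FlatCA.fiberIdeal p t).IsMaximal) :
    FlatCA.HasImpurity A B N p
      (fun A' _ _ t => ∃ _ : t.IsPrime, Algebra.FiniteType A A' ∧ Algebra.QuasiFiniteAt A t) := by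
  haveI hnA1 : IsNoetherianRing A1 := Algebra.FiniteType.isNoetherianRing A A1
  haveI htp : t.LiesOver p := himp.2.2.2.1
  -- the primes of `A1` carrying an impurity with special point `t`
  let Ψ : Ideal A1 → Prop := fun q => ∃ (_ : q.IsPrime) (Q : Ideal (B ⊗[A] A1)) (_ : Q.IsPrime),
    FlatCA.IsImpurity A B N p A1 (B ⊗[A] A1) ((B ⊗[A] A1) ⊗[B] N)
      (TensorProduct.mk B (B ⊗[A] A1) N 1) q t Q
  have hΨt' : Ψ t' := by
    obtain ⟨Q, hQ, hQimp⟩ := impurity_normalize N p A1 B1 N1 f1 t' t P himp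
    exact ⟨inferInstance, Q, hQ, hQimp⟩
  obtain ⟨q, hΨq, hqmax⟩ := set_has_maximal_iff_noetherian.mpr
    (inferInstance : IsNoetherian A1 A1) {q : Ideal A1 | Ψ q} ⟨t', hΨt'⟩
  obtain ⟨hqp, Q0, hQ0p, hQ0imp⟩ := hΨq
  have hqt : q ≤ t := hQ0imp.2.2.1
  -- pass to the quotient
  have hsurj : Function.Surjective (algebraMap A1 (A1 ⧸ q)) := Ideal.Quotient.mk_surjective
  have hker : RingHom.ker (algebraMap A1 (A1 ⧸ q)) = q := Ideal.mk_ker
  haveI h𝔱p : (t.map (algebraMap A1 (A1 ⧸ q))).IsPrime :=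
    Ideal.map_isPrime_of_surjective hsurj (by rw [hker]; exact hqt)
  have hcomap : (t.map (algebraMap A1 (A1 ⧸ q))).comap (algebraMap A1 (A1 ⧸ q)) = t := by
    rw [Ideal.comap_map_of_surjective _ hsurj, ← RingHom.ker_eq_comap_bot, hker,
      sup_eq_left.mpr hqt]
  obtain ⟨QE, hQEp, hQEimp⟩ := impurity_down N p A1 (A1 ⧸ q) (B ⊗[A] A1)
    ((B ⊗[A] A1) ⊗[B] N) (TensorProduct.mk B (B ⊗[A] A1) N 1) q t hker
    (t.map (algebraMap A1 (A1 ⧸ q))) hcomap Q0 hQ0imp
  haveI hftE : Algebra.FiniteType A (A1 ⧸ q) :=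
    Algebra.FiniteType.of_surjective (Ideal.Quotient.mkₐ A q) (Ideal.Quotient.mkₐ_surjective A q)
  haveI h𝔱over : (t.map (algebraMap A1 (A1 ⧸ q))).LiesOver p := hQEimp.2.2.2.1
  have hmaxE : (FlatCA.fiberIdeal p (t.map (algebraMap A1 (A1 ⧸ q)))).IsMaximal :=
    fiberIdeal_isMaximal_of_surjective (A' := A1) (E := A1 ⧸ q) hsurj p t
      (t.map (algebraMap A1 (A1 ⧸ q))) hcomap hmax
  refine core_E N p (A1 ⧸ q) (t.map (algebraMap A1 (A1 ⧸ q))) QE hQEimp hmaxE ?_
  intro q₁ _ P₁ _ himp₁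
  obtain ⟨Q', hQ'p, hQ'imp⟩ := impurity_up N p A1 (A1 ⧸ q) hsurj t
    (t.map (algebraMap A1 (A1 ⧸ q))) hcomap q₁ P₁ himp₁
  have hΨ' : Ψ (q₁.under A1) := ⟨inferInstance, Q', hQ'p, hQ'imp⟩
  have hle : q ≤ q₁.under A1 := by
    intro x hx
    rw [Ideal.under_def, Ideal.mem_comap, Ideal.Quotient.algebraMap_eq,
      Ideal.Quotient.eq_zero_iff_mem.mpr hx]
    exact Ideal.zero_mem _
  have heq : q₁.under A1 = q := by
    by_contra hne
    exact hqmax _ hΨ' (lt_of_le_of_ne hle (Ne.symm hne))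
  rw [Ideal.under_def] at heq
  have h9 : q₁ = (q₁.comap (algebraMap A1 (A1 ⧸ q))).map (algebraMap A1 (A1 ⧸ q)) :=
    (Ideal.map_comap_of_surjective _ hsurj q₁).symm
  rw [h9, heq, Ideal.map_eq_bot_iff_le_ker, hker]

end Core

end Groth.Agent.Lib.Helper22.NoethMain
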