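import Mathlib
import Groth.Prelude.Def_FlatCA
import Groth.Agent.Lib.Helper3HzE
import Groth.Agent.S1296
import Groth.Agent.S1246

set_option autoImplicit false
set_option linter.unusedSectionVars false
set_option linter.style.haveILetI false

open TensorProduct FlatMor IsLocalRing

namespace Groth.Agent.Lib.Helper22.HzStage

universe u

open Groth.Agent.Lib.Helper3.Hz

section QF

variable {A L : Type u} [CommRing A] [CommRing L] [IsLocalRing L] [Algebra A L]

/-- A subalgebra `D` of a local `A`-algebra `L` containing enough fractions: its localization at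
the contraction of the maximal ideal is `L`, hence quasi-finite over `A` if `L` is. -/
theorem quasiFiniteAt_of_le [Algebra.QuasiFinite A L] (D₀ D : Subalgebra A L) (hD : D₀ ≤ D)
    (h : ∀ y : L, ∃ t ∈ D₀, IsUnit t ∧ y * t ∈ D₀)
    (q : Ideal D) [q.IsPrime] (hq : q = (maximalIdeal L).comap (algebraMap D L)) :
    Algebra.QuasiFiniteAt A q := by
  have hmemq : ∀ x : D, x ∈ q ↔ (x : L) ∈ maximalIdeal L := fun x => by
    rw [hq]; rfl
  have hunit : ∀ y : q.primeCompl, IsUnit (D.val (y : D)) := by
    intro y
    by_contra hy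
    exact y.2 ((hmemq _).mpr hy)
  let f : Localization.AtPrime q →ₐ[A] L :=
    IsLocalization.liftAlgHom (M := q.primeCompl) (f := D.val) hunit
  have hf : ∀ x : D, f (algebraMap D (Localization.AtPrime q) x) = (x : L) := by
    intro x
    exact IsLocalization.lift_eq _ x
  have hinj : Function.Injective f := by
    rw [injective_iff_map_eq_zero]
    intro z hz
    obtain ⟨x, s, rfl⟩ := IsLocalization.exists_mk'_eq q.primeCompl z
    have h1 : f (IsLocalization.mk' (Localization.AtPrime q) x s) * (s : D) = (x : L) := by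
      have h2 : (IsLocalization.mk' (Localization.AtPrime q) x s) *
          algebraMap D (Localization.AtPrime q) (s : D) = algebraMap D _ x :=
        IsLocalization.mk'_spec _ x s
      have h3 := congrArg f h2
      rw [map_mul, hf, hf] at h3
      exact h3
    rw [hz, zero_mul] at h1
    have h4 : x = 0 := Subtype.ext h1.symm
    rw [h4, IsLocalization.mk'_zero]
  have hsurj : Function.Surjective f := by
    intro y
    obtain ⟨t, ht, htu, hyt⟩ := h y
    have htq : (⟨t, hD ht⟩ : D) ∈ q.primeCompl := by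
      intro hmem
      exact ((hmemq _).mp hmem) htu
    refine ⟨IsLocalization.mk' (Localization.AtPrime q) (⟨y * t, hD hyt⟩ : D) ⟨⟨t, hD ht⟩, htq⟩, ?_⟩
    have h2 : (IsLocalization.mk' (Localization.AtPrime q) (⟨y * t, hD hyt⟩ : D) ⟨⟨t, hD ht⟩, htq⟩) *
        algebraMap D (Localization.AtPrime q) (⟨t, hD ht⟩ : D) =
        algebraMap D _ (⟨y * t, hD hyt⟩ : D) :=
      IsLocalization.mk'_spec _ _ _
    have h3 := congrArg f h2
    rw [map_mul, hf, hf] at h3
    exact htu.mul_left_injective h3
  exact (Algebra.QuasiFinite.iff_of_algEquiv (AlgEquiv.ofBijective f ⟨hinj, hsurj⟩)).mpr inferInstance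

end QF

section Stage

variable {A : Type u} [CommRing A] (p : Ideal A) [p.IsPrime]

/-- the `A`-algebra structure on a stage of the henselization of `A_p` -/
@[reducible] noncomputable def algL (i : Idx (Localization.AtPrime p)) : Algebra A i.L :=
  ((algebraMap (Localization.AtPrime p) i.L).comp (algebraMap A (Localization.AtPrime p))).toAlgebra

attribute [local instance] algL

instance towerL (i : Idx (Localization.AtPrime p)) :
    IsScalarTower A (Localization.AtPrime p) i.L := .of_algebraMap_eq (fun _ => rfl)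

theorem essFiniteType_L (i : Idx (Localization.AtPrime p)) : Algebra.EssFiniteType A i.L := by
  haveI h1 : Algebra.EssFiniteType A (Localization.AtPrime p) :=
    Algebra.EssFiniteType.of_isLocalization _ p.primeCompl
  haveI h2 : Algebra.EssFiniteType (Localization.AtPrime p) i.C := inferInstance
  haveI h3 : Algebra.EssFiniteType i.C i.L := Algebra.EssFiniteType.of_isLocalization _ i.Q.primeCompl
  haveI h4 : Algebra.EssFiniteType (Localization.AtPrime p) i.L :=
    Algebra.EssFiniteType.comp (Localization.AtPrime p) i.C i.L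
  exact Algebra.EssFiniteType.comp A (Localization.AtPrime p) i.L

theorem quasiFinite_L (i : Idx (Localization.AtPrime p)) : Algebra.QuasiFinite A i.L := by
  haveI h1 : Algebra.QuasiFinite A (Localization.AtPrime p) :=
    Algebra.QuasiFinite.of_isLocalization p.primeCompl
  haveI h2 : Algebra.QuasiFinite (Localization.AtPrime p) i.C := inferInstance
  haveI h3 : Algebra.QuasiFinite i.C i.L := Algebra.QuasiFinite.of_isLocalization i.Q.primeCompl
  haveI h4 : Algebra.QuasiFinite (Localization.AtPrime p) i.L :=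
    Algebra.QuasiFinite.trans (Localization.AtPrime p) i.C i.L
  exact Algebra.QuasiFinite.trans A (Localization.AtPrime p) i.L

end Stage

section Mono

variable {A B : Type u} [CommRing A] [CommRing B] [Algebra A B] (N : Type u) [AddCommGroup N]
  [Module B N] (p : Ideal A) [p.IsPrime]

theorem hasImpurity_mono {Q Q' : ∀ (A' : Type u) [CommRing A'] [Algebra A A'], Ideal A' → Prop}
    (hQ : ∀ (A' : Type u) [CommRing A'] [Algebra A A'] (t : Ideal A'), Q A' t → Q' A' t)
    (h : FlatCA.HasImpurity A B N p Q) : FlatCA.HasImpurity A B N p Q' := by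
  obtain ⟨A', B', N', i1, i2, i3, i4, i5, i6, i7, i8, i9, i10, i11, i12, i13, i14, f, t', t, ht',
    ht, P, hP, himp, hq⟩ := h
  exact ⟨A', B', N', i1, i2, i3, i4, i5, i6, i7, i8, i9, i10, i11, i12, i13, i14, f, t', t, ht',
    ht, P, hP, himp, hQ A' t hq⟩

end Mono

section StepA

variable {A B : Type u} [CommRing A] [CommRing B] [Algebra A B] [Algebra.FiniteType A B]
  (N : Type u) [AddCommGroup N] [Module B N] [Module.Finite B N] (p : Ideal A) [p.IsPrime]

attribute [local instance] algL

theorem exists_stage_impurity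
    (A' B' N' : Type u) [CommRing A'] [CommRing B'] [Algebra A A'] [Algebra B B']
    [Algebra A' B'] [Algebra A B'] [IsScalarTower A B B'] [IsScalarTower A A' B']
    [AddCommGroup N'] [Module B' N'] [Module B N'] [IsScalarTower B B' N'] [Module A' N']
    [IsScalarTower A' B' N'] (f : N →ₗ[B] N') (t' t : Ideal A') [t'.IsPrime] [t.IsPrime]
    (P : Ideal B') [P.IsPrime] (himp : FlatCA.IsImpurity A B N p A' B' N' f t' t P)
    [IsLocalRing A'] [Algebra (Localization.AtPrime p) A']
    [IsScalarTower A (Localization.AtPrime p) A']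
    [IsLocalHom (algebraMap (Localization.AtPrime p) A')]
    [Hensel.IsHenselization (Localization.AtPrime p) A'] (ht : t = maximalIdeal A') :
    ∃ i : Idx (Localization.AtPrime p), FlatCA.HasImpurity A B N p
      (fun A'' _ _ t'' => ∃ e : A'' ≃ₐ[A] i.L, t''.map e = maximalIdeal i.L) := by
  obtain ⟨e₀⟩ := nonempty_algEquiv (R := Localization.AtPrime p) A'
  letI algLA' : ∀ i : Idx (Localization.AtPrime p), Algebra i.L A' := fun i =>
    ((e₀.symm : Rh (Localization.AtPrime p) →+* A').comp (ofL i)).toAlgebra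
  have hmap : ∀ (i : Idx (Localization.AtPrime p)) (x : i.L),
      algebraMap i.L A' x = e₀.symm (ofL i x) := fun _ _ => rfl
  haveI tw : ∀ i : Idx (Localization.AtPrime p), IsScalarTower A i.L A' := fun i =>
    .of_algebraMap_eq (fun a => by
      rw [hmap]
      change _ = e₀.symm (ofL i (algebraMap (Localization.AtPrime p) i.L
        (algebraMap A (Localization.AtPrime p) a)))
      rw [← algebraMap_eq i, AlgEquiv.commutes,
        ← IsScalarTower.algebraMap_apply A (Localization.AtPrime p) A'])
  have hcolim : FlatCA.IsDirectedColimitRing (fun i : Idx (Localization.AtPrime p) => i.L)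
      (fun i j h => ((fmap i j h).restrictScalars A).toRingHom) A' := by
    refine ⟨inferInstance, inferInstance, ?_, ?_, ?_, ?_, ?_⟩
    · intro i
      have : fmap i i le_rfl = AlgHom.id _ _ := Subsingleton.elim _ _
      ext x
      change fmap i i le_rfl x = x
      rw [this]; rfl
    · intro i j k hij hjk
      have : (fmap j k hjk).comp (fmap i j hij) = fmap i k (hij.trans hjk) := Subsingleton.elim _ _
      ext x
      change (fmap j k hjk) ((fmap i j hij) x) = fmap i k (hij.trans hjk) x
      rw [← this]; rfl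
    · intro i j h
      ext x
      change algebraMap j.L A' (fmap' i j h x) = algebraMap i.L A' x
      rw [hmap, hmap, ofL_fmap]
    · intro a
      obtain ⟨i, x, hx⟩ := exists_ofL (e₀ a)
      exact ⟨i, x, by rw [hmap, hx, AlgEquiv.symm_apply_apply]⟩
    · intro i x hx
      rw [hmap] at hx
      have h0 : ofL i x = 0 := by
        have := congrArg e₀ hx
        rwa [AlgEquiv.apply_symm_apply, map_zero] at this
      obtain ⟨j, hij, hj⟩ := ofL_eq_zero h0
      exact ⟨j, hij, hj⟩
  obtain ⟨i, hi⟩ := Groth.Agent.S1296.result N p (fun i : Idx (Localization.AtPrime p) => i.L)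
    (fun i j h => (fmap i j h).restrictScalars A) A' hcolim B' N' f t' t P himp
  refine ⟨i, hasImpurity_mono N p ?_ hi⟩
  rintro A'' _ _ t'' ⟨e, he⟩
  refine ⟨e, he.trans ?_⟩
  rw [ht]
  ext x
  rw [Ideal.mem_comap, mem_maximalIdeal, mem_maximalIdeal, mem_nonunits_iff, mem_nonunits_iff,
    hmap, not_iff_not]
  constructor
  · intro h
    have h1 : IsUnit (e₀ (e₀.symm (ofL i x))) := h.map e₀
    rw [AlgEquiv.apply_symm_apply] at h1
    exact isUnit_ofL_iff.mp h1
  · intro h
    exact (isUnit_ofL_iff.mpr h).map e₀.symm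

end StepA


section Mono'

variable {A B : Type u} [CommRing A] [CommRing B] [Algebra A B] (N : Type u) [AddCommGroup N]
  [Module B N] (p : Ideal A) [p.IsPrime]

theorem hasImpurity_mono' {Q Q' : ∀ (A' : Type u) [CommRing A'] [Algebra A A'], Ideal A' → Prop}
    (hQ : ∀ (A' : Type u) [CommRing A'] [Algebra A A'] (t : Ideal A') [t.IsPrime], Q A' t → Q' A' t)
    (h : FlatCA.HasImpurity A B N p Q) : FlatCA.HasImpurity A B N p Q' := by
  obtain ⟨A', B', N', i1, i2, i3, i4, i5, i6, i7, i8, i9, i10, i11, i12, i13, i14, f, t', t, ht',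
    ht, P, hP, himp, hq⟩ := h
  exact ⟨A', B', N', i1, i2, i3, i4, i5, i6, i7, i8, i9, i10, i11, i12, i13, i14, f, t', t, ht',
    ht, P, hP, himp, hQ A' t hq⟩

end Mono'

section StepB

variable {A B : Type u} [CommRing A] [CommRing B] [Algebra A B] [Algebra.FiniteType A B]
  (N : Type u) [AddCommGroup N] [Module B N] [Module.Finite B N] (p : Ideal A) [p.IsPrime]

attribute [local instance] algL

theorem exists_ft_impurity_of_stage (i : Idx (Localization.AtPrime p))
    (h : FlatCA.HasImpurity A B N p
      (fun A'' _ _ t'' => ∃ e : A'' ≃ₐ[A] i.L, t''.map e = maximalIdeal i.L)) :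
    FlatCA.HasImpurity A B N p
      (fun A' _ _ t => ∃ _ : t.IsPrime, Algebra.FiniteType A A' ∧ Algebra.QuasiFiniteAt A t) := by
  obtain ⟨A'', B'', N'', i1, i2, i3, i4, i5, i6, i7, i8, i9, i10, i11, i12, i13, i14, f, t', t, ht',
    ht, P, hP, himp, e, he⟩ := h
  obtain ⟨σ, hσ⟩ := (Algebra.essFiniteType_iff A i.L).mp (essFiniteType_L p i)
  haveI := quasiFinite_L p i
  set D₀ : Subalgebra A i.L := Algebra.adjoin A (σ : Set i.L) with hD₀
  let ι₂ : Type u := {D : Subalgebra A i.L // D.FG ∧ D₀ ≤ D}
  letI algDA : ∀ D : ι₂, Algebra (↥D.1) A'' := fun D =>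
    ((e.symm : i.L →ₐ[A] A'').comp D.1.val).toAlgebra
  have hmap : ∀ (D : ι₂) (x : ↥D.1), algebraMap (↥D.1) A'' x = e.symm (x : i.L) := fun _ _ => rfl
  haveI tw : ∀ D : ι₂, IsScalarTower A (↥D.1) A'' := fun D =>
    .of_algebraMap_eq (fun a => by
      rw [hmap]
      change _ = e.symm (algebraMap A i.L a)
      rw [AlgEquiv.commutes])
  have hcolim : FlatCA.IsDirectedColimitRing (fun D : ι₂ => ↥D.1)
      (fun D E h => (Subalgebra.inclusion (show D.1 ≤ E.1 from h)).toRingHom) A'' := by
    refine ⟨⟨fun D E => ⟨⟨D.1 ⊔ E.1, D.2.1.sup E.2.1, D.2.2.trans le_sup_left⟩,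
      (le_sup_left : D.1 ≤ D.1 ⊔ E.1), (le_sup_right : E.1 ≤ D.1 ⊔ E.1)⟩⟩,
      ⟨⟨D₀, Subalgebra.fg_adjoin_finset σ, le_rfl⟩⟩, ?_, ?_, ?_, ?_, ?_⟩
    · intro D
      ext x
      rfl
    · intro D E F hDE hEF
      ext x
      rfl
    · intro D E h
      ext x
      rfl
    · intro a
      refine ⟨⟨D₀ ⊔ Algebra.adjoin A {e a}, (Subalgebra.fg_adjoin_finset σ).sup ?_, le_sup_left⟩,
        ⟨e a, ?_⟩, ?_⟩
      · have := Subalgebra.fg_adjoin_finset (R := A) ({e a} : Finset i.L)
        simpa using this
      · exact (le_sup_right : Algebra.adjoin A {e a} ≤ _) (Algebra.subset_adjoin rfl)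
      · rw [hmap]
        exact e.symm_apply_apply a
    · intro D x hx
      rw [hmap] at hx
      have h0 : (x : i.L) = 0 := by
        have := congrArg e hx
        rwa [AlgEquiv.apply_symm_apply, map_zero] at this
      refine ⟨D, le_rfl, ?_⟩
      exact Subtype.ext h0
  obtain ⟨D, hD⟩ := Groth.Agent.S1296.result N p (fun D : ι₂ => ↥D.1)
    (fun D E h => Subalgebra.inclusion (show D.1 ≤ E.1 from h)) A'' hcolim B'' N'' f t' t P himp
  refine hasImpurity_mono' N p ?_ hD
  rintro A₃ _ _ t₃ ht₃ ⟨e', he'⟩
  refine ⟨ht₃, ?_, ?_⟩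
  · haveI : Algebra.FiniteType A ↥D.1 := (Subalgebra.fg_iff_finiteType _).mp D.2.1
    exact Algebra.FiniteType.equiv inferInstance e'.symm
  · -- the contraction prime in `D`
    have hqmem : ∀ x : ↥D.1, x ∈ t.comap (algebraMap (↥D.1) A'') ↔ (x : i.L) ∈ maximalIdeal i.L := by
      intro x
      rw [Ideal.mem_comap, hmap, ← he]
      constructor
      · intro hx
        have := Ideal.mem_map_of_mem (e : A'' →+* i.L) hx
        rwa [show (e : A'' →+* i.L) (e.symm (x : i.L)) = (x : i.L) from e.apply_symm_apply _] at this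
      · intro hx
        obtain ⟨y, hy, hyx⟩ := (Ideal.mem_map_of_equiv e _).mp hx
        have : e.symm (x : i.L) = y := by rw [← hyx]; exact e.symm_apply_apply y
        rw [this]; exact hy
    haveI hqprime : (t.comap (algebraMap (↥D.1) A'')).IsPrime := Ideal.comap_isPrime _ _
    haveI hqf : Algebra.QuasiFiniteAt A (t.comap (algebraMap (↥D.1) A'')) :=
      quasiFiniteAt_of_le D₀ D.1 D.2.2 hσ _ (by
        ext x
        rw [hqmem]; rfl)
    have ht₃eq : t₃ = (t.comap (algebraMap (↥D.1) A'')).comap e'.toRingHom := by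
      rw [← he']
      ext x
      rw [Ideal.mem_comap]
      constructor
      · intro hx
        exact Ideal.mem_map_of_mem _ hx
      · intro hx
        obtain ⟨y, hy, hyx⟩ := (Ideal.mem_map_of_equiv e' _).mp hx
        have : x = y := e'.injective hyx.symm
        rw [this]; exact hy
    have key : ∀ (q : Ideal A₃) [q.IsPrime], q = (t.comap (algebraMap (↥D.1) A'')).comap e'.toRingHom →
        Algebra.QuasiFiniteAt A q := by
      intro q _ hq
      subst hq
      exact Algebra.QuasiFiniteAt.comap_algEquiv _ e'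
    exact key t₃ ht₃eq

end StepB

section Final

variable {A B : Type u} [CommRing A] [CommRing B] [Algebra A B] [Algebra.FiniteType A B]
  (N : Type u) [AddCommGroup N] [Module B N] [Module.Finite B N] (p : Ideal A) [p.IsPrime]

theorem hasImpurity_etaleNhd_of_henselization
    (h : FlatCA.HasImpurity A B N p (fun A' _ _ t => ∃ (_ : IsLocalRing A')
        (_ : Algebra (Localization.AtPrime p) A')
        (_ : IsScalarTower A (Localization.AtPrime p) A')
        (_ : IsLocalHom (algebraMap (Localization.AtPrime p) A')),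
        Hensel.IsHenselization (Localization.AtPrime p) A' ∧ t = maximalIdeal A')) :
    FlatCA.HasImpurity A B N p (fun A' _ _ t => ∃ _ : t.IsPrime, FlatCA.IsEtaleNhd A A' p t) := by
  obtain ⟨A', B', N', i1, i2, i3, i4, i5, i6, i7, i8, i9, i10, i11, i12, i13, i14, f, t', t, ht',
    ht, P, hP, himp, j1, j2, j3, j4, j5, htm⟩ := h
  obtain ⟨i, hi⟩ := exists_stage_impurity N p A' B' N' f t' t P himp htm
  exact Groth.Agent.S1246.result N p (exists_ft_impurity_of_stage N p i hi)

end Final

end Groth.Agent.Lib.Helper22.HzStage
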