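import Mathlib
import Groth.Prelude.Def_FlatCA
import Groth.Agent.Lib.Helper22PurityQF

set_option autoImplicit false
set_option linter.unusedSectionVars false
set_option linter.style.haveILetI false

open TensorProduct FlatMor

namespace Groth.Agent.Lib.Helper22.ImpTransfer

universe u

attribute [local instance] Algebra.TensorProduct.rightAlgebra

open Groth.Agent.Lib.Helper22.PurityDescent Groth.Agent.Lib.Helper22.FiberAssLift
  Groth.Agent.Lib.Helper22.PurityQF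

/-- Transfer of an impurity over `A1` to an impurity over `A2`, through a ring `C` flat over `A1`
and module-finite over `A2`, with a point `u` of `C` over `t` which is the only point of `C` over
`s0`. -/
theorem impurity_transfer {A B : Type u} [CommRing A] [CommRing B] [Algebra A B]
    [Algebra.FiniteType A B]
    (N : Type u) [AddCommGroup N] [Module B N] (p : Ideal A) [p.IsPrime]
    (A1 B1 N1 : Type u) [CommRing A1] [CommRing B1] [Algebra A A1] [Algebra B B1]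
    [Algebra A1 B1] [Algebra A B1] [IsScalarTower A B B1] [IsScalarTower A A1 B1]
    [AddCommGroup N1] [Module B1 N1] [Module B N1] [IsScalarTower B B1 N1] [Module A1 N1]
    [IsScalarTower A1 B1 N1] (f1 : N →ₗ[B] N1) (t' t : Ideal A1) [t'.IsPrime] [t.IsPrime]
    (P : Ideal B1) [P.IsPrime]
    (himp : FlatCA.IsImpurity A B N p A1 B1 N1 f1 t' t P)
    (A2 C : Type u) [CommRing A2] [CommRing C] [Algebra A A2] [Algebra A1 C] [Algebra A2 C]
    [Algebra A C] [IsScalarTower A A1 C] [IsScalarTower A A2 C] [Module.Flat A1 C]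
    [Module.Finite A2 C]
    (u : Ideal C) [u.IsPrime] [u.LiesOver t] (s0 : Ideal A2) [s0.IsPrime] [u.LiesOver s0]
    [s0.LiesOver p]
    (huniqC : ∀ (u'' : Ideal C) [u''.IsPrime], u''.LiesOver s0 → u'' = u) :
    ∃ (s' : Ideal A2) (_ : s'.IsPrime) (Q : Ideal (B ⊗[A] A2)) (_ : Q.IsPrime),
      FlatCA.IsImpurity A B N p A2 (B ⊗[A] A2) ((B ⊗[A] A2) ⊗[B] N)
        (TensorProduct.mk B (B ⊗[A] A2) N 1) s' s0 Q := by
  obtain ⟨hpo, hbc, hle, htp, hPt', hass, hno⟩ := himp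
  obtain ⟨u', hu'le, hu'p, hu'over⟩ := Ideal.exists_ideal_le_liesOver_of_le (p := t') (q := t)
    u hle
  -- Step A: the impurity over `C`
  have hft1 : Algebra.FiniteType A1 B1 := finiteType_of_isPushout (A := A) (B := B)
  have hbcNC : IsBaseChange (B1 ⊗[A1] C)
      (TensorProduct.mk B1 (B1 ⊗[A1] C) N1 1) :=
    TensorProduct.isBaseChange B1 N1 (B1 ⊗[A1] C)
  have stepA := impurity_lift (A1 := A1) (A1' := C) N1
    ((B1 ⊗[A1] C) ⊗[B1] N1)
    (TensorProduct.mk B1 (B1 ⊗[A1] C) N1 1) hbcNC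
  obtain ⟨Q, hQp, hQo, hQa, hQno⟩ := stepA t' t u' u P hass hno
  -- Step B: plumbing
  have tACBC : IsScalarTower A C (B1 ⊗[A1] C) :=
    .of_algebraMap_eq (fun a => by
      rw [IsScalarTower.algebraMap_apply A B1 (B1 ⊗[A1] C),
        IsScalarTower.algebraMap_apply A A1 B1,
        ← IsScalarTower.algebraMap_apply A1 B1 (B1 ⊗[A1] C),
        IsScalarTower.algebraMap_apply A1 C (B1 ⊗[A1] C),
        ← IsScalarTower.algebraMap_apply A A1 C])
  letI algA2BC : Algebra A2 (B1 ⊗[A1] C) :=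
    ((algebraMap C (B1 ⊗[A1] C)).comp (algebraMap A2 C)).toAlgebra
  have tA2CBC : IsScalarTower A2 C (B1 ⊗[A1] C) :=
    .of_algebraMap_eq (fun _ => rfl)
  have tAA2BC : IsScalarTower A A2 (B1 ⊗[A1] C) :=
    .of_algebraMap_eq (fun a => by
      rw [IsScalarTower.algebraMap_apply A2 C (B1 ⊗[A1] C),
        ← IsScalarTower.algebraMap_apply A A2 C,
        ← IsScalarTower.algebraMap_apply A C (B1 ⊗[A1] C)])
  let γ : B ⊗[A] A2 →ₐ[A] B1 ⊗[A1] C :=
    Algebra.TensorProduct.productMap (IsScalarTower.toAlgHom A B (B1 ⊗[A1] C))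
      (IsScalarTower.toAlgHom A A2 (B1 ⊗[A1] C))
  letI algB2BC : Algebra (B ⊗[A] A2) (B1 ⊗[A1] C) := γ.toRingHom.toAlgebra
  have tBB2BC : IsScalarTower B (B ⊗[A] A2) (B1 ⊗[A1] C) :=
    .of_algebraMap_eq (fun b => by
      change algebraMap B (B1 ⊗[A1] C) b = γ (b ⊗ₜ[A] (1 : A2))
      rw [Algebra.TensorProduct.productMap_left_apply]
      rfl)
  have tA2B2BC : IsScalarTower A2 (B ⊗[A] A2) (B1 ⊗[A1] C) :=
    .of_algebraMap_eq (fun x => by
      change algebraMap A2 (B1 ⊗[A1] C) x = γ ((1 : B) ⊗ₜ[A] x)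
      rw [Algebra.TensorProduct.productMap_right_apply]
      rfl)
  have tAB2BC : IsScalarTower A (B ⊗[A] A2) (B1 ⊗[A1] C) :=
    .of_algebraMap_eq (fun a => (γ.commutes a).symm)
  -- the pushout squares
  have hpoa : Algebra.IsPushout A A1 B B1 := Algebra.IsPushout.symm hpo
  have hpob : Algebra.IsPushout A1 C B1 (B1 ⊗[A1] C) :=
    Algebra.IsPushout.symm TensorProduct.isPushout
  have hpoc : Algebra.IsPushout A C B (B1 ⊗[A1] C) :=
    (Algebra.IsPushout.comp_iff A A1 B B1).mpr hpob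
  have hpod : Algebra.IsPushout A A2 B (B ⊗[A] A2) := Algebra.IsPushout.symm TensorProduct.isPushout
  have hpoe : Algebra.IsPushout A2 C (B ⊗[A] A2)
      (B1 ⊗[A1] C) :=
    (Algebra.IsPushout.comp_iff A A2 B (B ⊗[A] A2)).mp hpoc
  have hpof : Algebra.IsPushout A2 (B ⊗[A] A2) C
      (B1 ⊗[A1] C) := Algebra.IsPushout.symm hpoe
  -- the modules
  have hbcN2 : IsBaseChange (B ⊗[A] A2) (TensorProduct.mk B (B ⊗[A] A2) N 1) :=
    TensorProduct.isBaseChange B N (B ⊗[A] A2)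
  let ψ : N →ₗ[B] (B1 ⊗[A1] C) ⊗[B1] N1 :=
    ((TensorProduct.mk B1 (B1 ⊗[A1] C) N1 1).restrictScalars B).comp f1
  have hψ : IsBaseChange (B1 ⊗[A1] C) ψ := IsBaseChange.comp hbc hbcNC
  have hcommB2 : SMulCommClass B1 (B ⊗[A] A2) (B1 ⊗[A1] C) :=
    ⟨fun b1 b2 x => by
      rw [Algebra.smul_def b2, Algebra.smul_def b2]
      exact (mul_smul_comm b1 _ x).symm⟩
  have tB2BCNC : IsScalarTower (B ⊗[A] A2) (B1 ⊗[A1] C)
    ((B1 ⊗[A1] C) ⊗[B1] N1) := inferInstance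
  have tBB2NC : IsScalarTower B (B ⊗[A] A2) ((B1 ⊗[A1] C) ⊗[B1] N1) :=
    ⟨fun b b2 m => by
      rw [Algebra.smul_def]
      refine (mul_smul (algebraMap B (B ⊗[A] A2) b) b2 m).trans ?_
      generalize b2 • m = y
      rw [← algebraMap_smul (B1 ⊗[A1] C) (algebraMap B (B ⊗[A] A2) b) y,
        ← IsScalarTower.algebraMap_apply B (B ⊗[A] A2) (B1 ⊗[A1] C),
        algebraMap_smul (B1 ⊗[A1] C) b y]⟩
  let g2 : (B ⊗[A] A2) ⊗[B] N →ₗ[B ⊗[A] A2] (B1 ⊗[A1] C) ⊗[B1] N1 :=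
    hbcN2.lift ψ
  have hg2 : IsBaseChange (B1 ⊗[A1] C) g2 := by
    apply IsBaseChange.of_comp hbcN2
    have : (g2.restrictScalars B).comp (TensorProduct.mk B (B ⊗[A] A2) N 1) = ψ := by
      ext x
      exact hbcN2.lift_eq ψ x
    rw [this]
    exact hψ
  -- Step B: descend the impurity to `A2`
  have hft2 : Algebra.FiniteType A2 (B ⊗[A] A2) := finiteType_of_isPushout (A := A) (B := B)
  have stepB := impurity_pushdown_finite (A2 := A2) (C := C)
    ((B ⊗[A] A2) ⊗[B] N) ((B1 ⊗[A1] C) ⊗[B1] N1) g2 hg2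
  obtain ⟨hs'le, hQ0over, hQ0ass, hQ0no⟩ := stepB u' u hu'le s0 huniqC Q hQa hQno
  exact ⟨u'.under A2, Ideal.comap_isPrime _ _,
    Q.comap (algebraMap (B ⊗[A] A2) (B1 ⊗[A1] C)), Ideal.comap_isPrime _ _,
    ⟨TensorProduct.isPushout, hbcN2, hs'le, inferInstance, hQ0over, hQ0ass, hQ0no⟩⟩

end Groth.Agent.Lib.Helper22.ImpTransfer
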