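import Mathlib
import Groth.Prelude.Def_FlatCA
import Groth.Agent.Lib.Helper3HzE
import Groth.Agent.Lib.Helper3HenselE
import Groth.Agent.Lib.Helper18StdEtaleCover
import Groth.Agent.Lib.Helper22ImpTransfer

set_option autoImplicit false
set_option linter.unusedSectionVars false
set_option linter.style.haveILetI false

open TensorProduct FlatMor IsLocalRing

namespace Groth.Agent.Lib.Helper22.HzConverse

universe u

open Groth.Agent.Lib.Helper3.Hz

attribute [local instance] Algebra.TensorProduct.rightAlgebra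

section Alg

variable {A : Type u} [CommRing A] (p : Ideal A) [p.IsPrime]

/-- the `A`-algebra structure on the henselization of `A_p` -/
@[reducible] noncomputable def algRh : Algebra A (Rh (Localization.AtPrime p)) :=
  ((algebraMap (Localization.AtPrime p) (Rh (Localization.AtPrime p))).comp
    (algebraMap A (Localization.AtPrime p))).toAlgebra

attribute [local instance] algRh

instance towerRh : IsScalarTower A (Localization.AtPrime p) (Rh (Localization.AtPrime p)) :=
  .of_algebraMap_eq (fun _ => rfl)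

theorem maximalIdeal_Rh_liesOver : (maximalIdeal (Rh (Localization.AtPrime p))).LiesOver p := by
  constructor
  rw [Ideal.under_def,
    IsScalarTower.algebraMap_eq A (Localization.AtPrime p) (Rh (Localization.AtPrime p)),
    ← Ideal.comap_comap, IsLocalRing.maximalIdeal_comap]
  exact (Localization.AtPrime.under_maximalIdeal (I := p)).symm

theorem flat_Rh : Module.Flat A (Rh (Localization.AtPrime p)) := by
  haveI : Module.Flat A (Localization.AtPrime p) := IsLocalization.flat _ p.primeCompl
  exact Module.Flat.trans A (Localization.AtPrime p) (Rh (Localization.AtPrime p))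

end Alg

section Aux

variable {A B : Type u} [CommRing A] [CommRing B] [Algebra A B] [Algebra.FiniteType A B]
  (N : Type u) [AddCommGroup N] [Module B N] (p : Ideal A) [p.IsPrime]

/-- Transfer of an impurity over `A1` to `A2` through an idempotent-localization `C` of
`A2 ⊗ A1` which is finite over `A2` and has only one prime over `s0`. -/
theorem core_aux
    (A1 B1 N1 : Type u) [CommRing A1] [CommRing B1] [Algebra A A1] [Algebra B B1]
    [Algebra A1 B1] [Algebra A B1] [IsScalarTower A B B1] [IsScalarTower A A1 B1]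
    [AddCommGroup N1] [Module B1 N1] [Module B N1] [IsScalarTower B B1 N1] [Module A1 N1]
    [IsScalarTower A1 B1 N1] (f1 : N →ₗ[B] N1) (t' t : Ideal A1) [t'.IsPrime] [t.IsPrime]
    (P : Ideal B1) [P.IsPrime]
    (himp : FlatCA.IsImpurity A B N p A1 B1 N1 f1 t' t P)
    (A2 : Type u) [CommRing A2] [Algebra A A2] [Module.Flat A A2]
    (s0 : Ideal A2) [s0.IsPrime] [s0.LiesOver p]
    (s : Ideal (A2 ⊗[A] A1)) [s.IsPrime] [s.LiesOver s0]
    (hst : s.comap (algebraMap A1 (A2 ⊗[A] A1)) = t)
    (e : A2 ⊗[A] A1) (hes : e ∉ s)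
    (huniq : ∀ q' : Ideal (A2 ⊗[A] A1), q'.IsPrime → q'.LiesOver s0 → e ∉ q' → q' = s)
    (C : Type u) [CommRing C] [Algebra (A2 ⊗[A] A1) C] [IsLocalization.Away e C] [Algebra A C]
    [Algebra A1 C] [Algebra A2 C] [IsScalarTower A A1 C] [IsScalarTower A A2 C]
    [IsScalarTower A1 (A2 ⊗[A] A1) C] [IsScalarTower A2 (A2 ⊗[A] A1) C] [Module.Finite A2 C] :
    ∃ (s' : Ideal A2) (_ : s'.IsPrime) (Q : Ideal (B ⊗[A] A2)) (_ : Q.IsPrime),
      FlatCA.IsImpurity A B N p A2 (B ⊗[A] A2) ((B ⊗[A] A2) ⊗[B] N)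
        (TensorProduct.mk B (B ⊗[A] A2) N 1) s' s0 Q := by
  have hflatT : Module.Flat A1 (A2 ⊗[A] A1) :=
    Module.Flat.isBaseChange A A1 A2 _ (TensorProduct.isPushout' (R := A) (S := A2) (T := A1)).out
  haveI hflatTC : Module.Flat (A2 ⊗[A] A1) C := IsLocalization.flat C (Submonoid.powers e)
  haveI hflatC : Module.Flat A1 C := Module.Flat.trans A1 (A2 ⊗[A] A1) C
  -- the prime `u` of `C`
  have hsp : s.IsPrime := inferInstance
  have hdisj : Disjoint ((Submonoid.powers e : Submonoid (A2 ⊗[A] A1)) : Set (A2 ⊗[A] A1))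
      (s : Set (A2 ⊗[A] A1)) := by
    rwa [Ideal.disjoint_powers_iff_notMem_of_isPrime]
  haveI hup : (s.map (algebraMap (A2 ⊗[A] A1) C)).IsPrime :=
    IsLocalization.isPrime_of_isPrime_disjoint (.powers e) _ _ hsp hdisj
  have hucomap : (s.map (algebraMap (A2 ⊗[A] A1) C)).comap (algebraMap (A2 ⊗[A] A1) C) = s :=
    IsLocalization.under_map_of_isPrime_disjoint (.powers e) _ hsp hdisj
  haveI hut : (s.map (algebraMap (A2 ⊗[A] A1) C)).LiesOver t := by
    constructor
    rw [Ideal.under_def, IsScalarTower.algebraMap_eq A1 (A2 ⊗[A] A1) C, ← Ideal.comap_comap,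
      hucomap]
    exact hst.symm
  haveI hus0 : (s.map (algebraMap (A2 ⊗[A] A1) C)).LiesOver s0 := by
    constructor
    rw [Ideal.under_def, IsScalarTower.algebraMap_eq A2 (A2 ⊗[A] A1) C, ← Ideal.comap_comap,
      hucomap]
    exact Ideal.LiesOver.over
  have huniqC : ∀ (u'' : Ideal C) [u''.IsPrime], u''.LiesOver s0 →
      u'' = s.map (algebraMap (A2 ⊗[A] A1) C) := by
    intro u'' hu''p hu''over
    have h1 : (u''.comap (algebraMap (A2 ⊗[A] A1) C)).LiesOver s0 := by
      constructor
      rw [Ideal.under_def, Ideal.comap_comap, ← IsScalarTower.algebraMap_eq A2 (A2 ⊗[A] A1) C]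
      exact hu''over.over
    have h2 : e ∉ u''.comap (algebraMap (A2 ⊗[A] A1) C) := by
      intro hmem
      rw [Ideal.mem_comap] at hmem
      exact hu''p.ne_top (Ideal.eq_top_of_isUnit_mem _ hmem
        (IsLocalization.map_units C ⟨e, Submonoid.mem_powers e⟩))
    have h3 := huniq _ (Ideal.comap_isPrime _ _) h1 h2
    rw [← h3, IsLocalization.map_under (.powers e)]
  exact Groth.Agent.Lib.Helper22.ImpTransfer.impurity_transfer N p A1 B1 N1 f1 t' t P himp A2 C
      (s.map (algebraMap (A2 ⊗[A] A1) C)) s0 huniqC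

end Aux

section Core

variable {A B : Type u} [CommRing A] [CommRing B] [Algebra A B] [Algebra.FiniteType A B]
  (N : Type u) [AddCommGroup N] [Module B N] (p : Ideal A) [p.IsPrime]

attribute [local instance] algRh

theorem core
    (A1 B1 N1 : Type u) [CommRing A1] [CommRing B1] [Algebra A A1] [Algebra B B1]
    [Algebra A1 B1] [Algebra A B1] [IsScalarTower A B B1] [IsScalarTower A A1 B1]
    [AddCommGroup N1] [Module B1 N1] [Module B N1] [IsScalarTower B B1 N1] [Module A1 N1]
    [IsScalarTower A1 B1 N1] (f1 : N →ₗ[B] N1) (t' t : Ideal A1) [t'.IsPrime] [t.IsPrime]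
    (P : Ideal B1) [P.IsPrime]
    (himp : FlatCA.IsImpurity A B N p A1 B1 N1 f1 t' t P)
    (hnhd : FlatCA.IsEtaleNhd A A1 p t) :
    FlatCA.HasImpurity A B N p (fun A' _ _ t => ∃ (_ : IsLocalRing A')
      (_ : Algebra (Localization.AtPrime p) A') (_ : IsScalarTower A (Localization.AtPrime p) A')
      (_ : IsLocalHom (algebraMap (Localization.AtPrime p) A')),
      Hensel.IsHenselization (Localization.AtPrime p) A' ∧ t = maximalIdeal A') := by
  obtain ⟨het, hover, hbij⟩ := hnhd
  set A2 := Rh (Localization.AtPrime p) with hA2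
  haveI hmover : (maximalIdeal A2).LiesOver p := maximalIdeal_Rh_liesOver p
  haveI hflatA2 : Module.Flat A A2 := flat_Rh p
  -- the prime `s` of `T = A2 ⊗ A1`
  obtain ⟨s, hsp, hsL, hsR⟩ := Groth.Agent.Lib.Helper18StdEtaleCover.exists_prime_tensor A A2 A1
    (maximalIdeal A2) t (by rw [← hmover.over, ← hover.over])
  haveI hsm : s.LiesOver (maximalIdeal A2) := ⟨hsL.symm⟩
  have hst : s.comap (algebraMap A1 (A2 ⊗[A] A1)) = t := hsR
  obtain ⟨e, he, hes, hfin, huniq⟩ :=
    Groth.Agent.Lib.Helper3.Hensel.exists_idempotent_of_quasiFiniteAt (R := A2)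
      (S := A2 ⊗[A] A1) s
  -- the ring `C`
  haveI hloc : IsLocalization.Away e ((A2 ⊗[A] A1) ⧸ Ideal.span {1 - e}) :=
    IsLocalization.Away.quotient_of_isIdempotentElem he
  obtain ⟨s', hs'p, Q, hQp, himp2⟩ := core_aux N p A1 B1 N1 f1 t' t P himp A2 (maximalIdeal A2) s
    hst e hes huniq ((A2 ⊗[A] A1) ⧸ Ideal.span {1 - e})
  exact ⟨A2, B ⊗[A] A2, (B ⊗[A] A2) ⊗[B] N, inferInstance, inferInstance, inferInstance,
    inferInstance, inferInstance, inferInstance, inferInstance, inferInstance, inferInstance,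
    inferInstance, inferInstance, inferInstance, inferInstance, inferInstance,
    TensorProduct.mk B (B ⊗[A] A2) N 1, s', maximalIdeal A2, hs'p, inferInstance, Q, hQp, himp2,
    inferInstance, inferInstance, inferInstance, inferInstance, inferInstance, rfl⟩

end Core

end Groth.Agent.Lib.Helper22.HzConverse
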