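import Mathlib
import Groth.Prelude.Def_FlatCA
import Groth.Agent.S1217
import Groth.Agent.S1246
import Groth.Agent.S1247
import Groth.Agent.S9000
import Groth.Agent.S1248

/-
Helper13PureNoeth: for `Spec B → Spec A` of finite type, `N` a finite `B`-module and `p` a prime of `A`
with `A_p` Noetherian: pure along the fibre over `p` ⇒ universally pure along it (`main`).
Chain (over `A_p`, then back to `A`): helper22's S1217 (descent of universal purity along `A → A_p`),
S1247 (Noetherian: impurity ⇒ quasi-finite impurity), S1246 (⇒ elementary etale impurity), S9000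
(⇒ impurity over the henselization), `hasImpurity_comp` (compose with the base change `A → A_p`),
S1248 (henselization impurity ⇒ elementary etale impurity over `A`).
Reusable: `hasImpurity_comp`, `isHenselization_of_atPrime_maximalIdeal`, `hasImpurity_of_not_univPure`.
-/
set_option autoImplicit false
set_option linter.style.haveILetI false
universe u
open FlatCA TensorProduct IsLocalRing

namespace Groth.Agent.Helper13PureNoeth

/-- composing a base change `A → A1` with an impurity over `A1` -/
theorem hasImpurity_comp {A B : Type u} [CommRing A] [CommRing B] [Algebra A B] (N : Type u)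
    [AddCommGroup N] [Module B N] (p : Ideal A) [p.IsPrime]
    (A1 B1 N1 : Type u) [CommRing A1] [CommRing B1] [Algebra A A1] [Algebra B B1] [Algebra A1 B1]
    [Algebra A B1] [IsScalarTower A B B1] [IsScalarTower A A1 B1] [Algebra.IsPushout A B A1 B1]
    [AddCommGroup N1] [Module B1 N1] [Module B N1] [IsScalarTower B B1 N1] (g : N →ₗ[B] N1)
    (hg : IsBaseChange B1 g) (p1 : Ideal A1) [p1.IsPrime] (hp1 : p1.LiesOver p)
    (Q1 : ∀ (A' : Type u) [CommRing A'] [Algebra A1 A'], Ideal A' → Prop)
    (Q : ∀ (A' : Type u) [CommRing A'] [Algebra A A'], Ideal A' → Prop)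
    (hQ : ∀ (A' : Type u) [CommRing A'] [Algebra A1 A'] (t : Ideal A'), Q1 A' t →
      @Q A' _ ((algebraMap A1 A').comp (algebraMap A A1)).toAlgebra t)
    (h : HasImpurity A1 B1 N1 p1 Q1) : HasImpurity A B N p Q := by
  obtain ⟨A'', B'', N'', iCA, iCB, iAlgA, iAlgB, iAlgAB, iAlgA'B, iST1, iST2, iAG, iMB'', iMB', iST3,
    iMA'', iST4, f, t', t, it', it, P, iP, himp, hQ1⟩ := h
  obtain ⟨h1, h2, h3, h4, h5, h6, h7⟩ := himp
  let algAA'' : Algebra A A'' := ((algebraMap A1 A'').comp (algebraMap A A1)).toAlgebra
  let algBB'' : Algebra B B'' := ((algebraMap B1 B'').comp (algebraMap B B1)).toAlgebra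
  let algAB'' : Algebra A B'' := ((algebraMap A1 B'').comp (algebraMap A A1)).toAlgebra
  have stAA'A'' : IsScalarTower A A1 A'' := IsScalarTower.of_algebraMap_eq (fun _ => rfl)
  have stBB'B'' : IsScalarTower B B1 B'' := IsScalarTower.of_algebraMap_eq (fun _ => rfl)
  have stAA'B'' : IsScalarTower A A1 B'' := IsScalarTower.of_algebraMap_eq (fun _ => rfl)
  have stABB'' : IsScalarTower A B B'' := IsScalarTower.of_algebraMap_eq (fun a => by
    change algebraMap A1 B'' (algebraMap A A1 a) = algebraMap B1 B'' (algebraMap B B1 (algebraMap A B a))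
    rw [IsScalarTower.algebraMap_apply A1 B1 B'', ← IsScalarTower.algebraMap_apply A A1 B1,
      IsScalarTower.algebraMap_apply A B B1])
  have stAA''B'' : IsScalarTower A A'' B'' := IsScalarTower.of_algebraMap_eq (fun a => by
    change algebraMap A1 B'' (algebraMap A A1 a) = algebraMap A'' B'' (algebraMap A1 A'' (algebraMap A A1 a))
    rw [← IsScalarTower.algebraMap_apply A1 A'' B''])
  have stAB'B'' : IsScalarTower A B1 B'' := IsScalarTower.of_algebraMap_eq (fun a => by
    change algebraMap A1 B'' (algebraMap A A1 a) = algebraMap B1 B'' (algebraMap A B1 a)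
    rw [IsScalarTower.algebraMap_apply A1 B1 B'', ← IsScalarTower.algebraMap_apply A A1 B1])
  let modBN'' : Module B N'' := Module.compHom N'' (algebraMap B B1)
  have stBB'N'' : IsScalarTower B B1 N'' := ⟨fun b b' n => by
    rw [Algebra.smul_def, mul_smul]
    rfl⟩
  have stBB''N'' : IsScalarTower B B'' N'' := ⟨fun b b'' n => by
    rw [Algebra.smul_def, mul_smul]
    change algebraMap B1 B'' (algebraMap B B1 b) • (b'' • n) = algebraMap B B1 b • (b'' • n)
    rw [algebraMap_smul]⟩
  have hpush : Algebra.IsPushout A B A'' B'' := by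
    have hl : Algebra.IsPushout A A1 B B1 := Algebra.IsPushout.symm inferInstance
    have hr : Algebra.IsPushout A1 A'' B1 B'' := Algebra.IsPushout.symm h1
    exact Algebra.IsPushout.symm ((Algebra.IsPushout.comp_iff A A1 B B1).mpr hr)
  have hbc : IsBaseChange B'' ((f.restrictScalars B).comp g) := IsBaseChange.comp hg h2
  have hlo : t.LiesOver p := Ideal.LiesOver.trans t p1 p
  exact ⟨A'', B'', N'', iCA, iCB, algAA'', algBB'', iAlgAB, algAB'', stABB'', stAA''B'', iAG, iMB'',
    modBN'', stBB''N'', iMA'', iST4, (f.restrictScalars B).comp g, t', t, it', it, P, iP,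
    ⟨hpush, hbc, h3, hlo, h5, h6, h7⟩, hQ A'' t hQ1⟩

end Groth.Agent.Helper13PureNoeth

namespace Groth.Agent.Helper13PureNoeth

/-- henselization of `R_m` (`R` local, `m` its maximal ideal) is a henselization of `R` -/
theorem isHenselization_of_atPrime_maximalIdeal (R S : Type u) [CommRing R] [IsLocalRing R]
    [CommRing S] [IsLocalRing S] [Algebra R S]
    [Algebra (Localization.AtPrime (maximalIdeal R)) S]
    [IsScalarTower R (Localization.AtPrime (maximalIdeal R)) S]
    [IsLocalHom (algebraMap (Localization.AtPrime (maximalIdeal R)) S)]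
    (h : Hensel.IsHenselization (Localization.AtPrime (maximalIdeal R)) S) :
    ∃ (_ : IsLocalHom (algebraMap R S)), Hensel.IsHenselization R S := by
  have hu : ∀ x ∈ (maximalIdeal R).primeCompl, IsUnit x := fun x hx => by
    simpa [Ideal.primeCompl] using hx
  let e : R ≃ₐ[R] Localization.AtPrime (maximalIdeal R) :=
    IsLocalization.atUnits R (maximalIdeal R).primeCompl hu
  have he : ∀ x, e x = algebraMap R _ x := fun x => e.commutes x
  have hloc : IsLocalHom (algebraMap R S) := by
    constructor
    intro a ha
    rw [IsScalarTower.algebraMap_apply R (Localization.AtPrime (maximalIdeal R)) S] at ha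
    have h1 := IsLocalHom.map_nonunit _ ha
    rw [← he] at h1
    exact (isUnit_map_iff e a).mp h1
  refine ⟨hloc, ⟨h.henselian, ?_⟩⟩
  intro T _ _ f hf
  have hf' : IsLocalHom (f.comp (e.symm : Localization.AtPrime (maximalIdeal R) →+* R)) := by
    constructor
    intro a ha
    have h1 := hf.map_nonunit _ ha
    exact (isUnit_map_iff e.symm a).mp h1
  obtain ⟨g, hg, hguniq⟩ := h.universal T (f.comp (e.symm : Localization.AtPrime (maximalIdeal R) →+* R)) hf'
  refine ⟨g, ?_, ?_⟩
  · refine RingHom.ext fun x => ?_
    have := congrArg (fun φ => φ (algebraMap R _ x)) hg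
    simp only [RingHom.comp_apply] at this
    rw [RingHom.comp_apply, IsScalarTower.algebraMap_apply R (Localization.AtPrime (maximalIdeal R)) S,
      this, ← he]
    simp
  · intro g' hg'
    apply hguniq
    refine RingHom.ext fun y => ?_
    obtain ⟨x, rfl⟩ := e.surjective y
    have := congrArg (fun φ => φ x) hg'
    simp only [RingHom.comp_apply] at this
    rw [RingHom.comp_apply, RingHom.comp_apply, he,
      ← IsScalarTower.algebraMap_apply R (Localization.AtPrime (maximalIdeal R)) S, this, ← he]
    simp

end Groth.Agent.Helper13PureNoeth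

namespace Groth.Agent.Helper13PureNoeth

attribute [local instance] Algebra.TensorProduct.rightAlgebra

theorem hasImpurity_of_not_univPure {A B : Type u} [CommRing A] [CommRing B] [Algebra A B] (N : Type u)
    [AddCommGroup N] [Module B N] (p : Ideal A) [p.IsPrime]
    (h : ¬ FlatCA.IsUnivPureAlong A B N p) : FlatCA.HasImpurity A B N p (fun _ _ _ _ => True) := by
  unfold FlatCA.IsUnivPureAlong at h
  push Not at h
  obtain ⟨A', B', N', i1, i2, i3, i4, i5, i6, i7, i8, i9, i10, i11, i12, i13, i14, f, t', t, i15, i16,
    P, i17, himp⟩ := h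
  exact ⟨A', B', N', i1, i2, i3, i4, i5, i6, i7, i8, i9, i10, i11, i12, i13, i14, f, t', t, i15, i16,
    P, i17, himp, trivial⟩

theorem main_aux {A B : Type u} [CommRing A] [CommRing B] [Algebra A B] [Algebra.FiniteType A B]
    (N : Type u) [AddCommGroup N] [Module B N] [Module.Finite B N] (p : Ideal A) [p.IsPrime]
    [IsNoetherianRing (Localization.AtPrime p)]
    (B1 N1 : Type u) [CommRing B1] [Algebra B B1] [Algebra (Localization.AtPrime p) B1]
    [Algebra A B1] [IsScalarTower A B B1] [IsScalarTower A (Localization.AtPrime p) B1]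
    [Algebra.IsPushout A B (Localization.AtPrime p) B1]
    [AddCommGroup N1] [Module B1 N1] [Module B N1] [IsScalarTower B B1 N1] (g : N →ₗ[B] N1)
    (hg : IsBaseChange B1 g) [Algebra.FiniteType (Localization.AtPrime p) B1] [Module.Finite B1 N1]
    (hpure : FlatCA.IsPureAlong A B N p) :
    FlatCA.IsUnivPureAlong A B N p := by
  by_contra hnot
  -- descent: not universally pure over `A_p`
  have h1 : ¬ FlatCA.IsUnivPureAlong (Localization.AtPrime p) B1 N1
      (maximalIdeal (Localization.AtPrime p)) := by
    intro hU
    haveI : Module.Flat A (Localization.AtPrime (maximalIdeal (Localization.AtPrime p))) :=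
      Module.Flat.trans A (Localization.AtPrime p) _
    exact hnot ((Groth.Agent.S1217.result N p (Localization.AtPrime p) B1 N1 g hg
      (maximalIdeal (Localization.AtPrime p))).2 hU)
  have h2 := hasImpurity_of_not_univPure _ _ h1
  have h3 := Groth.Agent.S1247.result _ _ h2
  have h4 := Groth.Agent.S1246.result _ _ h3
  have h5 := Groth.Agent.S9000.result _ _ h4
  have h6 : FlatCA.HasImpurity A B N p (fun A' _ _ t => ∃ (_ : IsLocalRing A')
      (_ : Algebra (Localization.AtPrime p) A') (_ : IsScalarTower A (Localization.AtPrime p) A')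
      (_ : IsLocalHom (algebraMap (Localization.AtPrime p) A')),
      Hensel.IsHenselization (Localization.AtPrime p) A' ∧ t = maximalIdeal A') := by
    refine hasImpurity_comp N p (Localization.AtPrime p) B1 N1 g hg
      (maximalIdeal (Localization.AtPrime p)) inferInstance _ _ ?_ h5
    intro A' _ _ t hQ
    obtain ⟨iL, iA, iT, iH, hH, ht⟩ := hQ
    obtain ⟨hloc, hH'⟩ := isHenselization_of_atPrime_maximalIdeal (Localization.AtPrime p) A' hH
    letI : Algebra A A' := ((algebraMap (Localization.AtPrime p) A').comp
      (algebraMap A (Localization.AtPrime p))).toAlgebra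
    exact ⟨iL, inferInstance, IsScalarTower.of_algebraMap_eq (fun _ => rfl), hloc, hH', ht⟩
  have h7 := Groth.Agent.S1248.result N p h6
  obtain ⟨A', B', N', i1, i2, i3, i4, i5, i6, i7, i8, i9, i10, i11, i12, i13, i14, f, t', t, i15, i16,
    P, i17, himp, _, hEt⟩ := h7
  exact hpure A' B' N' f t' t P hEt himp

set_option maxHeartbeats 400000 in
theorem main {A B : Type u} [CommRing A] [CommRing B] [Algebra A B] [Algebra.FiniteType A B]
    (N : Type u) [AddCommGroup N] [Module B N] [Module.Finite B N] (p : Ideal A) [p.IsPrime]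
    [IsNoetherianRing (Localization.AtPrime p)] (hpure : FlatCA.IsPureAlong A B N p) :
    FlatCA.IsUnivPureAlong A B N p := by
  have hg : IsBaseChange (Localization.AtPrime p ⊗[A] B)
    (TensorProduct.mk B (Localization.AtPrime p ⊗[A] B) N 1) := TensorProduct.isBaseChange B N _
  have i1 : Algebra.FiniteType (Localization.AtPrime p) (Localization.AtPrime p ⊗[A] B) := inferInstance
  have i2 : Module.Finite (Localization.AtPrime p ⊗[A] B) ((Localization.AtPrime p ⊗[A] B) ⊗[B] N) := inferInstance
  have i3 : Algebra.IsPushout A B (Localization.AtPrime p) (Localization.AtPrime p ⊗[A] B) := inferInstance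
  have i4 : IsScalarTower B (Localization.AtPrime p ⊗[A] B) ((Localization.AtPrime p ⊗[A] B) ⊗[B] N) := inferInstance
  have i5 : IsScalarTower A (Localization.AtPrime p) (Localization.AtPrime p ⊗[A] B) := inferInstance
  have i6 : IsScalarTower A B (Localization.AtPrime p ⊗[A] B) := inferInstance
  have := @main_aux A B _ _ _ _ N _ _ _ p _ _ (Localization.AtPrime p ⊗[A] B) ((Localization.AtPrime p ⊗[A] B) ⊗[B] N)
    _ _ _ _ i6 i5 i3 _ _ _ i4
  have h2 := this (TensorProduct.mk B (Localization.AtPrime p ⊗[A] B) N 1) hg
  exact h2 hpure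

end Groth.Agent.Helper13PureNoeth
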