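import Mathlib
import Groth.Prelude.Def_QFDual

set_option autoImplicit false
universe u
open TensorProduct

namespace Groth.Agent.Helper13QFBC

section Trans

variable {A A₁ A₂ B' B'₁ B'₂ : Type u} [CommRing A] [CommRing A₁] [CommRing A₂]
  [CommRing B'] [CommRing B'₁] [CommRing B'₂]
  [Algebra A A₁] [Algebra A₁ A₂] [Algebra A A₂] [IsScalarTower A A₁ A₂]
  [Algebra A B'] [Algebra A₁ B'₁] [Algebra A₂ B'₂]
  [Algebra B' B'₁] [Algebra B'₁ B'₂] [Algebra B' B'₂] [IsScalarTower B' B'₁ B'₂]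
  [Algebra A B'₁] [IsScalarTower A A₁ B'₁] [IsScalarTower A B' B'₁]
  [Algebra A₁ B'₂] [IsScalarTower A₁ A₂ B'₂] [IsScalarTower A₁ B'₁ B'₂]
  [Algebra A B'₂] [IsScalarTower A A₂ B'₂] [IsScalarTower A B' B'₂]

/-- transitivity of the base change of linear forms. -/
theorem bcFin_trans (h : Algebra.IsPushout A A₁ B' B'₁) (h₁ : Algebra.IsPushout A₁ A₂ B'₁ B'₂)
    (hc : Algebra.IsPushout A A₂ B' B'₂) (φ : Disc.Omega A B') :
    QFDual.bcFin hc φ = QFDual.bcFin h₁ (QFDual.bcFin h φ) := by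
  apply Disc.Omega.ext
  refine hc.out.algHom_ext _ _ fun x => ?_
  change (QFDual.bcFin hc φ).toLinearMap (algebraMap B' B'₂ x) =
    (QFDual.bcFin h₁ (QFDual.bcFin h φ)).toLinearMap (algebraMap B' B'₂ x)
  rw [QFDual.bcFin_apply_algebraMap, IsScalarTower.algebraMap_apply B' B'₁ B'₂,
    QFDual.bcFin_apply_algebraMap, QFDual.bcFin_apply_algebraMap,
    ← IsScalarTower.algebraMap_apply]

variable {D : Type u} [CommRing D] [Algebra B'₂ D] [Algebra B'₁ D] [Algebra B' D]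
  [IsScalarTower B'₁ B'₂ D] [IsScalarTower B' B'₁ D] [IsScalarTower B' B'₂ D]

theorem omegaBC_trans (h : Algebra.IsPushout A A₁ B' B'₁) (h₁ : Algebra.IsPushout A₁ A₂ B'₁ B'₂)
    (hc : Algebra.IsPushout A A₂ B' B'₂) (x : QFDual.omega A B' D) :
    QFDual.omegaBC (B₁ := D) hc x = QFDual.omegaBC (B₁ := D) h₁ (QFDual.omegaBC (B₁ := D) h x) := by
  induction x using TensorProduct.induction_on with
  | zero => simp
  | tmul d φ =>
    rw [QFDual.omegaBC_tmul, QFDual.omegaBC_tmul, QFDual.omegaBC_tmul, bcFin_trans h h₁ hc]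
  | add x y hx hy => rw [map_add, map_add, map_add, hx, hy]

end Trans

end Groth.Agent.Helper13QFBC
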