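import Mathlib
import Groth.Prelude.Def_QFDual

set_option autoImplicit false
universe u
open TensorProduct

namespace Groth.Agent.Helper13QFBC

section BaseChangeD

variable {A A₁ B' B'₁ : Type u} [CommRing A] [CommRing A₁] [CommRing B'] [CommRing B'₁]
  [Algebra A B'] [Algebra A A₁] [Algebra B' B'₁] [Algebra A₁ B'₁] [Algebra A B'₁]
  [IsScalarTower A A₁ B'₁] [IsScalarTower A B' B'₁]
  {E D : Type u} [CommRing E] [CommRing D]
  [Algebra B'₁ E] [Algebra B' E] [IsScalarTower B' B'₁ E]
  [Algebra E D] [Algebra B'₁ D] [Algebra B' D] [IsScalarTower B' B'₁ D]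
  [IsScalarTower B'₁ E D] [IsScalarTower B' E D]

theorem omegaBC_baseChange (h : Algebra.IsPushout A A₁ B' B'₁)
    (x : D ⊗[E] QFDual.omega A B' E) :
    QFDual.omegaBC (B₁ := D) h
        (TensorProduct.AlgebraTensorModule.cancelBaseChange B' E D D (Disc.Omega A B') x) =
      TensorProduct.AlgebraTensorModule.cancelBaseChange B'₁ E D D (Disc.Omega A₁ B'₁)
        ((QFDual.omegaBC (B₁ := E) h).baseChange D x) := by
  induction x using TensorProduct.induction_on with
  | zero => simp
  | tmul d y =>
    induction y using TensorProduct.induction_on with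
    | zero => simp
    | tmul t φ =>
      rw [TensorProduct.AlgebraTensorModule.cancelBaseChange_tmul, QFDual.omegaBC_tmul,
        LinearMap.baseChange_tmul, QFDual.omegaBC_tmul,
        TensorProduct.AlgebraTensorModule.cancelBaseChange_tmul]
    | add y z hy hz =>
      rw [tmul_add, map_add, map_add, hy, hz, map_add, map_add]
  | add x y hx hy => rw [map_add, map_add, hx, hy, map_add, map_add]

theorem bijective_omegaBC_iff_baseChange (h : Algebra.IsPushout A A₁ B' B'₁) :
    Function.Bijective (QFDual.omegaBC (B₁ := D) h) ↔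
      Function.Bijective ((QFDual.omegaBC (B₁ := E) h).baseChange D) := by
  have hfun : ⇑(QFDual.omegaBC (B₁ := D) h) ∘
      ⇑(TensorProduct.AlgebraTensorModule.cancelBaseChange B' E D D (Disc.Omega A B')) =
      ⇑(TensorProduct.AlgebraTensorModule.cancelBaseChange B'₁ E D D (Disc.Omega A₁ B'₁)) ∘
        ⇑((QFDual.omegaBC (B₁ := E) h).baseChange D) := by
    funext x
    exact omegaBC_baseChange h x
  constructor
  · intro hb
    have h1 : Function.Bijective (⇑(TensorProduct.AlgebraTensorModule.cancelBaseChange B'₁ E D D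
        (Disc.Omega A₁ B'₁)) ∘ ⇑((QFDual.omegaBC (B₁ := E) h).baseChange D)) := by
      rw [← hfun]
      exact hb.comp (LinearEquiv.bijective _)
    exact (Function.Bijective.of_comp_iff' (LinearEquiv.bijective _) _).mp h1
  · intro hb
    have h1 : Function.Bijective (⇑(QFDual.omegaBC (B₁ := D) h) ∘
        ⇑(TensorProduct.AlgebraTensorModule.cancelBaseChange B' E D D (Disc.Omega A B'))) := by
      rw [hfun]
      exact (LinearEquiv.bijective _).comp hb
    exact (Function.Bijective.of_comp_iff _ (LinearEquiv.bijective _)).mp h1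

theorem bijective_omegaBC_of_faithfullyFlat [Module.FaithfullyFlat E D]
    (h : Algebra.IsPushout A A₁ B' B'₁)
    (hb : Function.Bijective (QFDual.omegaBC (B₁ := D) h)) :
    Function.Bijective (QFDual.omegaBC (B₁ := E) h) := by
  have h1 := (bijective_omegaBC_iff_baseChange (E := E) (D := D) h).mp hb
  rw [← Module.FaithfullyFlat.lTensor_bijective_iff_bijective E D]
  exact h1

end BaseChangeD

end Groth.Agent.Helper13QFBC
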