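import Mathlib
import Groth.Prelude.Def_Disc

set_option autoImplicit false
universe u
open TensorProduct

namespace Groth.Agent.Helper13QFOmega

section Idem

variable {R S C : Type u} [CommRing R] [CommRing S] [CommRing C] [Algebra R S] [Algebra S C]
  [Algebra R C] [IsScalarTower R S C]

/-- the `S`-module structure on `ω_{C/R}` through `S → C`. -/
@[reducible] noncomputable def omegaModule : Module S (Disc.Omega R C) :=
  Module.compHom _ (algebraMap S C)

attribute [local instance] omegaModule

theorem omega_smul_def (s : S) (φ : Disc.Omega R C) : s • φ = algebraMap S C s • φ := rfl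

instance omega_isScalarTower : IsScalarTower S C (Disc.Omega R C) :=
  ⟨fun s c φ => by
    show (s • c) • φ = algebraMap S C s • (c • φ)
    rw [Algebra.smul_def, mul_smul]⟩

variable (e : S) (he : IsIdempotentElem e) (hsurj : Function.Surjective (algebraMap S C))
  (hker : ∀ s, algebraMap S C s = 0 ↔ e * s = 0)

include he hker in
theorem map_e : algebraMap S C e = 1 := by
  have h : algebraMap S C (1 - e) = 0 := by
    rw [hker, mul_sub, mul_one, he.eq, sub_self]
  rw [map_sub, map_one, sub_eq_zero] at h
  exact h.symm

/-- the non-unital section `C → S` -/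
noncomputable def iotaFun (c : C) : S := e * Function.surjInv hsurj c

include hker in
theorem iotaFun_map (s : S) : iotaFun e hsurj (algebraMap S C s) = e * s := by
  unfold iotaFun
  have h : algebraMap S C (Function.surjInv hsurj (algebraMap S C s) - s) = 0 := by
    rw [map_sub, Function.surjInv_eq hsurj, sub_self]
  rw [hker, mul_sub, sub_eq_zero] at h
  exact h

/-- the `R`-linear non-unital section `C → S` -/
noncomputable def iota : C →ₗ[R] S where
  toFun := iotaFun e hsurj
  map_add' c c' := by
    obtain ⟨s, rfl⟩ := hsurj c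
    obtain ⟨s', rfl⟩ := hsurj c'
    rw [← map_add, iotaFun_map e hsurj hker, iotaFun_map e hsurj hker, iotaFun_map e hsurj hker,
      mul_add]
  map_smul' r c := by
    obtain ⟨s, rfl⟩ := hsurj c
    have h : r • algebraMap S C s = algebraMap S C (r • s) := by
      rw [Algebra.smul_def, Algebra.smul_def, map_mul, ← IsScalarTower.algebraMap_apply]
    rw [h, iotaFun_map e hsurj hker, iotaFun_map e hsurj hker, RingHom.id_apply, mul_smul_comm]

theorem iota_map (s : S) : iota (R := R) e hsurj hker (algebraMap S C s) = e * s :=
  iotaFun_map e hsurj hker s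

include he in
theorem map_iota (c : C) : algebraMap S C (iota (R := R) e hsurj hker c) = c := by
  obtain ⟨s, rfl⟩ := hsurj c
  rw [iota_map, map_mul, map_e e he hker, one_mul]

/-- restriction of functionals along the section. -/
noncomputable def rho : Disc.Omega R S →ₗ[S] Disc.Omega R C where
  toFun ψ := ⟨ψ.toLinearMap ∘ₗ iota (R := R) e hsurj hker⟩
  map_add' ψ ψ' := by
    apply Disc.Omega.ext
    ext x
    rfl
  map_smul' s ψ := by
    apply Disc.Omega.ext
    ext x
    obtain ⟨t, rfl⟩ := hsurj x
    show ψ.toLinearMap (s * iota (R := R) e hsurj hker (algebraMap S C t)) =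
      ψ.toLinearMap (iota (R := R) e hsurj hker (algebraMap S C s * algebraMap S C t))
    rw [← map_mul, iota_map, iota_map]
    congr 1
    ring

theorem rho_apply (ψ : Disc.Omega R S) (x : C) :
    (rho (R := R) e hsurj hker ψ).toLinearMap x = ψ.toLinearMap (iota (R := R) e hsurj hker x) :=
  rfl

include he in
theorem isLocalizedModule_rho :
    IsLocalizedModule (Submonoid.powers e) (rho (R := R) e hsurj hker) where
  map_units := by
    rintro ⟨_, n, rfl⟩
    have h : (algebraMap S (Module.End S (Disc.Omega R C))) (e ^ n) = 1 := by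
      apply LinearMap.ext
      intro φ
      show (e ^ n) • φ = φ
      rw [omega_smul_def, map_pow, map_e e he hker, one_pow, one_smul]
    rw [h]
    exact isUnit_one
  surj φ := by
    refine ⟨⟨⟨φ.toLinearMap ∘ₗ (IsScalarTower.toAlgHom R S C).toLinearMap⟩, 1⟩, ?_⟩
    rw [one_smul]
    apply Disc.Omega.ext
    ext x
    rw [rho_apply]
    show φ.toLinearMap x = φ.toLinearMap (algebraMap S C (iota (R := R) e hsurj hker x))
    rw [map_iota e he hsurj hker]
  exists_of_eq := by
    intro ψ₁ ψ₂ h
    refine ⟨⟨e, Submonoid.mem_powers e⟩, ?_⟩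
    apply Disc.Omega.ext
    ext s
    show ψ₁.toLinearMap (e * s) = ψ₂.toLinearMap (e * s)
    rw [← iota_map (R := R) e hsurj hker s, ← rho_apply, ← rho_apply, h]

include he hsurj hker in
/-- `C ⊗_S ω_{S/R} ≃ ω_{C/R}` for a direct factor `C` of `S`. -/
theorem nonempty_tensor_omega_equiv :
    Nonempty (C ⊗[S] Disc.Omega R S ≃ₗ[C] Disc.Omega R C) := by
  haveI : IsLocalization.Away e C :=
    IsLocalization.away_of_isIdempotentElem_of_mul he (fun x y => by
      rw [← sub_eq_zero, ← map_sub, hker, mul_sub, sub_eq_zero]) hsurj
  haveI := isLocalizedModule_rho (R := R) e he hsurj hker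
  have hb : IsBaseChange C (rho (R := R) e hsurj hker) :=
    (isLocalizedModule_iff_isBaseChange (Submonoid.powers e) C _).mp inferInstance
  exact ⟨hb.equiv⟩

end Idem

end Groth.Agent.Helper13QFOmega
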