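import Mathlib
import Groth.Prelude.Def_QFDual
import Groth.Agent.Lib.Helper13QFOmega2

set_option autoImplicit false
universe u
open TensorProduct

namespace Groth.Agent.Helper13QFBC

open Groth.Agent.Helper13QFOmega

section PB

variable {R S C : Type u} [CommRing R] [CommRing S] [CommRing C] [Algebra R S] [Algebra S C]
  [Algebra R C] [IsScalarTower R S C]

/-- pull back a functional along `S → C`. -/
noncomputable def pb : Disc.Omega R C →+ Disc.Omega R S where
  toFun ψ := ⟨ψ.toLinearMap ∘ₗ (IsScalarTower.toAlgHom R S C).toLinearMap⟩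
  map_zero' := by
    apply Disc.Omega.ext
    ext x
    rfl
  map_add' ψ ψ' := by
    apply Disc.Omega.ext
    ext x
    rfl

theorem pb_apply (ψ : Disc.Omega R C) (s : S) :
    (pb (S := S) ψ).toLinearMap s = ψ.toLinearMap (algebraMap S C s) := rfl

theorem pb_smul (s : S) (ψ : Disc.Omega R C) :
    pb (S := S) (algebraMap S C s • ψ) = s • pb (S := S) ψ := by
  apply Disc.Omega.ext
  ext x
  show ψ.toLinearMap (algebraMap S C s * algebraMap S C x) = ψ.toLinearMap (algebraMap S C (s * x))
  rw [RingHom.map_mul]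

variable (e : S) (he : IsIdempotentElem e) (hsurj : Function.Surjective (algebraMap S C))
  (hker : ∀ s, algebraMap S C s = 0 ↔ e * s = 0)

attribute [local instance] omegaModule

include he in
theorem rho_pb (ψ : Disc.Omega R C) : rho (R := R) e hsurj hker (pb (S := S) ψ) = ψ := by
  apply Disc.Omega.ext
  ext c
  rw [rho_apply, pb_apply, map_iota e he hsurj hker]

theorem pb_rho (φ : Disc.Omega R S) : pb (S := S) (rho (R := R) e hsurj hker φ) = e • φ := by
  apply Disc.Omega.ext
  ext s
  rw [pb_apply, rho_apply, iota_map]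
  rfl

variable {D : Type u} [CommRing D] [Algebra S D] [Algebra C D] [IsScalarTower S C D]

/-- `D ⊗_C ω_{C/R} → D ⊗_S ω_{S/R}` -/
noncomputable def PP : D ⊗[C] Disc.Omega R C →+ D ⊗[S] Disc.Omega R S :=
  TensorProduct.liftAddHom
    { toFun := fun d =>
        { toFun := fun ψ => d ⊗ₜ[S] pb (S := S) ψ
          map_zero' := by rw [map_zero, tmul_zero]
          map_add' := fun ψ ψ' => by rw [map_add, tmul_add] }
      map_zero' := by ext ψ; exact zero_tmul _ _
      map_add' := fun d d' => by ext ψ; exact add_tmul _ _ _ }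
    (by
      intro c d ψ
      obtain ⟨s, rfl⟩ := hsurj c
      show (algebraMap S C s • d) ⊗ₜ[S] pb (S := S) ψ = d ⊗ₜ[S] pb (S := S) (algebraMap S C s • ψ)
      rw [pb_smul, tmul_smul, algebraMap_smul, smul_tmul'])

theorem PP_tmul (d : D) (ψ : Disc.Omega R C) :
    PP (R := R) hsurj (d ⊗ₜ[C] ψ) = d ⊗ₜ[S] pb (S := S) ψ := rfl

/-- `D ⊗_S ω_{S/R} → D ⊗_C ω_{C/R}` -/
noncomputable def QQm : D ⊗[S] Disc.Omega R S →+ D ⊗[C] Disc.Omega R C :=
  TensorProduct.liftAddHom
    { toFun := fun d =>
        { toFun := fun φ => d ⊗ₜ[C] rho (R := R) e hsurj hker φ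
          map_zero' := by rw [map_zero, tmul_zero]
          map_add' := fun φ φ' => by rw [map_add, tmul_add] }
      map_zero' := by ext φ; exact zero_tmul _ _
      map_add' := fun d d' => by ext φ; exact add_tmul _ _ _ }
    (by
      intro s d φ
      show (s • d) ⊗ₜ[C] rho (R := R) e hsurj hker φ = d ⊗ₜ[C] rho (R := R) e hsurj hker (s • φ)
      rw [map_smul, omega_smul_def, tmul_smul, smul_tmul', algebraMap_smul])

theorem QQm_tmul (d : D) (φ : Disc.Omega R S) :
    QQm (D := D) e hsurj hker (d ⊗ₜ[S] φ) = d ⊗ₜ[C] rho (R := R) e hsurj hker φ := rfl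

include he in
theorem QQm_PP (x : D ⊗[C] Disc.Omega R C) :
    QQm (D := D) e hsurj hker (PP (R := R) hsurj x) = x := by
  induction x using TensorProduct.induction_on with
  | zero => rw [map_zero, map_zero]
  | tmul d ψ => rw [PP_tmul, QQm_tmul, rho_pb e he hsurj hker]
  | add x y hx hy => rw [map_add, map_add, hx, hy]

include he in
theorem PP_QQm (x : D ⊗[S] Disc.Omega R S) :
    PP (R := R) hsurj (QQm (D := D) e hsurj hker x) = x := by
  induction x using TensorProduct.induction_on with
  | zero => rw [map_zero, map_zero]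
  | tmul d φ =>
    rw [QQm_tmul, PP_tmul, pb_rho, ← smul_tmul, Algebra.smul_def,
      IsScalarTower.algebraMap_apply S C D, map_e e he hker, map_one, one_mul]
  | add x y hx hy => rw [map_add, map_add, hx, hy]

include he hker in
theorem PP_bijective : Function.Bijective (PP (R := R) (D := D) hsurj) :=
  ⟨Function.LeftInverse.injective (QQm_PP e he hsurj hker),
    Function.RightInverse.surjective (PP_QQm e he hsurj hker)⟩

end PB

end Groth.Agent.Helper13QFBC
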