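import Mathlib
import Groth.Prelude.Def_QFDual
import Groth.Agent.Lib.Helper13QFBC3

set_option autoImplicit false
universe u
open TensorProduct

namespace Groth.Agent.Helper13QFBC

open Groth.Agent.Helper13QFOmega

section Factor

variable {R R₁ S S₁ C C₁ D : Type u} [CommRing R] [CommRing R₁] [CommRing S] [CommRing S₁]
  [CommRing C] [CommRing C₁] [CommRing D]
  [Algebra R S] [Algebra R C] [Algebra S C] [IsScalarTower R S C]
  [Algebra R₁ S₁] [Algebra R₁ C₁] [Algebra S₁ C₁] [IsScalarTower R₁ S₁ C₁]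
  [Algebra R R₁] [Algebra S S₁] [Algebra C C₁]
  [Algebra R S₁] [IsScalarTower R R₁ S₁] [IsScalarTower R S S₁]
  [Algebra R C₁] [IsScalarTower R R₁ C₁] [IsScalarTower R C C₁]
  [Algebra S D] [Algebra S₁ D] [Algebra C D] [Algebra C₁ D]
  [IsScalarTower S S₁ D] [IsScalarTower C C₁ D] [IsScalarTower S C D] [IsScalarTower S₁ C₁ D]

theorem bcFin_pb (h₂ : Algebra.IsPushout R R₁ S S₁) (h₃ : Algebra.IsPushout R R₁ C C₁)
    (hcompat : ∀ s : S, algebraMap S₁ C₁ (algebraMap S S₁ s) = algebraMap C C₁ (algebraMap S C s))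
    (ψ : Disc.Omega R C) :
    QFDual.bcFin h₂ (pb (S := S) ψ) = pb (S := S₁) (QFDual.bcFin h₃ ψ) := by
  apply Disc.Omega.ext
  refine h₂.out.algHom_ext _ _ fun x => ?_
  change (QFDual.bcFin h₂ (pb (S := S) ψ)).toLinearMap (algebraMap S S₁ x) =
    (pb (S := S₁) (QFDual.bcFin h₃ ψ)).toLinearMap (algebraMap S S₁ x)
  rw [QFDual.bcFin_apply_algebraMap, pb_apply, pb_apply, hcompat,
    QFDual.bcFin_apply_algebraMap]

theorem omegaBC_PP (h₂ : Algebra.IsPushout R R₁ S S₁) (h₃ : Algebra.IsPushout R R₁ C C₁)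
    (hcompat : ∀ s : S, algebraMap S₁ C₁ (algebraMap S S₁ s) = algebraMap C C₁ (algebraMap S C s))
    (hsurj : Function.Surjective (algebraMap S C))
    (hsurj₁ : Function.Surjective (algebraMap S₁ C₁))
    (x : D ⊗[C] Disc.Omega R C) :
    QFDual.omegaBC (B₁ := D) h₂ (PP (R := R) hsurj x) =
      PP (R := R₁) hsurj₁ (QFDual.omegaBC (B₁ := D) h₃ x) := by
  induction x using TensorProduct.induction_on with
  | zero => rw [map_zero, map_zero, map_zero, map_zero]
  | tmul d ψ =>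
    rw [PP_tmul, QFDual.omegaBC_tmul, QFDual.omegaBC_tmul, PP_tmul, bcFin_pb h₂ h₃ hcompat]
  | add x y hx hy => rw [map_add, map_add, map_add, map_add, hx, hy]

/-- the base change map through a direct factor. -/
theorem omegaBC_bijective_of_factor (h₂ : Algebra.IsPushout R R₁ S S₁)
    (h₃ : Algebra.IsPushout R R₁ C C₁)
    (hcompat : ∀ s : S, algebraMap S₁ C₁ (algebraMap S S₁ s) = algebraMap C C₁ (algebraMap S C s))
    (e : S) (he : IsIdempotentElem e) (hsurj : Function.Surjective (algebraMap S C))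
    (hker : ∀ s, algebraMap S C s = 0 ↔ e * s = 0)
    (hsurj₁ : Function.Surjective (algebraMap S₁ C₁))
    (hker₁ : ∀ s, algebraMap S₁ C₁ s = 0 ↔ algebraMap S S₁ e * s = 0)
    (hb : Function.Bijective (QFDual.omegaBC (B₁ := D) h₃)) :
    Function.Bijective (QFDual.omegaBC (B₁ := D) h₂) := by
  have he₁ : IsIdempotentElem (algebraMap S S₁ e) := by
    show algebraMap S S₁ e * algebraMap S S₁ e = algebraMap S S₁ e
    rw [← map_mul, he.eq]
  have hP : Function.Bijective (PP (R := R) (D := D) hsurj) := PP_bijective e he hsurj hker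
  have hP₁ : Function.Bijective (PP (R := R₁) (D := D) hsurj₁) :=
    PP_bijective (algebraMap S S₁ e) he₁ hsurj₁ hker₁
  have hfun : ⇑(QFDual.omegaBC (B₁ := D) h₂) ∘ ⇑(PP (R := R) (D := D) hsurj) =
      ⇑(PP (R := R₁) (D := D) hsurj₁) ∘ ⇑(QFDual.omegaBC (B₁ := D) h₃) := by
    funext x
    exact omegaBC_PP h₂ h₃ hcompat hsurj hsurj₁ x
  have h1 : Function.Bijective (⇑(QFDual.omegaBC (B₁ := D) h₂) ∘ ⇑(PP (R := R) (D := D) hsurj)) := by
    rw [hfun]
    exact hP₁.comp hb
  exact (Function.Bijective.of_comp_iff _ hP).mp h1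

end Factor

end Groth.Agent.Helper13QFBC
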