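import Mathlib
import Groth.Prelude.Def_QFDual
import Groth.Agent.Lib.Helper20QFDualBC4
import Groth.Agent.Lib.Helper13QFBC1
import Groth.Agent.Lib.Helper13QFBC4

set_option autoImplicit false
universe u
open TensorProduct

namespace Groth.Agent.Helper13QFBC

section Core

variable {A A₁ B' B'₁ R R₁ S S₁ C C₁ D : Type u}
  [CommRing A] [CommRing A₁] [CommRing B'] [CommRing B'₁] [CommRing R] [CommRing R₁]
  [CommRing S] [CommRing S₁] [CommRing C] [CommRing C₁] [CommRing D]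
  -- the given square
  [Algebra A A₁] [Algebra A B'] [Algebra A₁ B'₁] [Algebra B' B'₁] [Algebra A B'₁]
  [IsScalarTower A A₁ B'₁] [IsScalarTower A B' B'₁]
  -- the flat base changes
  [Algebra A R] [Algebra A₁ R₁] [Algebra A R₁] [Algebra R R₁]
  [IsScalarTower A A₁ R₁] [IsScalarTower A R R₁]
  [Algebra R S] [Algebra B' S] [Algebra A S] [IsScalarTower A R S] [IsScalarTower A B' S]
  [Algebra R₁ S₁] [Algebra B'₁ S₁] [Algebra A₁ S₁] [IsScalarTower A₁ R₁ S₁]
  [IsScalarTower A₁ B'₁ S₁]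
  [Algebra S S₁] [Algebra B' S₁] [Algebra A S₁] [Algebra R S₁]
  [IsScalarTower B' B'₁ S₁] [IsScalarTower B' S S₁] [IsScalarTower A R₁ S₁]
  [IsScalarTower A B' S₁] [IsScalarTower R R₁ S₁] [IsScalarTower R S S₁]
  -- the factors
  [Algebra R C] [Algebra S C] [IsScalarTower R S C]
  [Algebra R₁ C₁] [Algebra S₁ C₁] [IsScalarTower R₁ S₁ C₁]
  [Algebra C C₁] [Algebra R C₁] [IsScalarTower R R₁ C₁] [IsScalarTower R C C₁]
  -- the test algebra
  [Algebra B' D] [Algebra B'₁ D] [Algebra S D] [Algebra S₁ D] [Algebra C D] [Algebra C₁ D]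
  [IsScalarTower B' B'₁ D] [IsScalarTower B'₁ S₁ D] [IsScalarTower B' S₁ D]
  [IsScalarTower S S₁ D] [IsScalarTower B' S D]
  [IsScalarTower C C₁ D] [IsScalarTower S C D] [IsScalarTower S₁ C₁ D]
  [Module.FinitePresentation A B'] [Module.Flat A R]
  [Module.FinitePresentation A₁ B'₁] [Module.Flat A₁ R₁]
  [Module.Free R C] [Module.Finite R C]

theorem omegaBC_bijective_core
    (h : Algebra.IsPushout A A₁ B' B'₁) (h₁ : Algebra.IsPushout A₁ R₁ B'₁ S₁)
    (hc : Algebra.IsPushout A R₁ B' S₁) (h₀ : Algebra.IsPushout A R B' S)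
    (h₂ : Algebra.IsPushout R R₁ S S₁) (h₃ : Algebra.IsPushout R R₁ C C₁)
    (hcompat : ∀ s : S, algebraMap S₁ C₁ (algebraMap S S₁ s) = algebraMap C C₁ (algebraMap S C s))
    (e : S) (he : IsIdempotentElem e) (hsurj : Function.Surjective (algebraMap S C))
    (hker : ∀ s, algebraMap S C s = 0 ↔ e * s = 0)
    (hsurj₁ : Function.Surjective (algebraMap S₁ C₁))
    (hker₁ : ∀ s, algebraMap S₁ C₁ s = 0 ↔ algebraMap S S₁ e * s = 0) :
    Function.Bijective (QFDual.omegaBC (B₁ := D) h) := by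
  have b0 : Function.Bijective (QFDual.omegaBC (B₁ := D) h₀) :=
    Groth.Agent.Lib.Helper20.QFDualBC.omegaBC_bijective_of_isBaseChange h₀
      (Groth.Agent.Lib.Helper20.QFDualBC.isBaseChange_toDual_of_flat h₀) D
  have b1 : Function.Bijective (QFDual.omegaBC (B₁ := D) h₁) :=
    Groth.Agent.Lib.Helper20.QFDualBC.omegaBC_bijective_of_isBaseChange h₁
      (Groth.Agent.Lib.Helper20.QFDualBC.isBaseChange_toDual_of_flat h₁) D
  have b3 : Function.Bijective (QFDual.omegaBC (B₁ := D) h₃) :=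
    Groth.Agent.Lib.Helper20.QFDualBC.omegaBC_bijective_of_isBaseChange h₃
      (IsBaseChange.dual h₃.out) D
  have b2 : Function.Bijective (QFDual.omegaBC (B₁ := D) h₂) :=
    omegaBC_bijective_of_factor h₂ h₃ hcompat e he hsurj hker hsurj₁ hker₁ b3
  have hfun : ⇑(QFDual.omegaBC (B₁ := D) h₁) ∘ ⇑(QFDual.omegaBC (B₁ := D) h) =
      ⇑(QFDual.omegaBC (B₁ := D) h₂) ∘ ⇑(QFDual.omegaBC (B₁ := D) h₀) := by
    funext x
    show QFDual.omegaBC (B₁ := D) h₁ (QFDual.omegaBC (B₁ := D) h x) =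
      QFDual.omegaBC (B₁ := D) h₂ (QFDual.omegaBC (B₁ := D) h₀ x)
    rw [← omegaBC_trans h h₁ hc, ← omegaBC_trans h₀ h₂ hc]
  have h1 : Function.Bijective
      (⇑(QFDual.omegaBC (B₁ := D) h₁) ∘ ⇑(QFDual.omegaBC (B₁ := D) h)) := by
    rw [hfun]
    exact b2.comp b0
  exact (Function.Bijective.of_comp_iff' b1 _).mp h1

end Core

end Groth.Agent.Helper13QFBC
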