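import Mathlib

set_option autoImplicit false
universe u
open TensorProduct

namespace Groth.Agent.Helper13QFOmega

/-- a maximal ideal of `R ⊗_A B'` over a given prime `q'` of `B'`, for `R` a flat local `A`-algebra
whose closed point lies over `q' ∩ A` and `B'` finite over `A`. -/
theorem exists_maximal_over {A R B' : Type u} [CommRing A] [CommRing R] [CommRing B']
    [Algebra A R] [Algebra A B'] [IsLocalRing R] [Module.Flat A R] [Module.Finite A B']
    (q' : Ideal B') [q'.IsPrime]
    (hp : (IsLocalRing.maximalIdeal R).comap (algebraMap A R) = q'.comap (algebraMap A B')) :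
    ∃ Q : Ideal (R ⊗[A] B'), Q.IsMaximal ∧
      Q.comap (Algebra.TensorProduct.includeRight : B' →ₐ[A] R ⊗[A] B') = q' ∧
      Q.comap (algebraMap R (R ⊗[A] B')) = IsLocalRing.maximalIdeal R := by
  classical
  -- the injective map `A/p → B'/q'`
  let f : (A ⧸ q'.comap (algebraMap A B')) →ₗ[A] (B' ⧸ q') :=
    (Algebra.linearMap (A ⧸ q'.comap (algebraMap A B')) (B' ⧸ q')).restrictScalars A
  have hf : Function.Injective f := Ideal.algebraMap_quotient_injective
  have hfl : Function.Injective (LinearMap.lTensor R f) :=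
    Module.Flat.lTensor_preserves_injective_linearMap f hf
  -- `1 ⊗ 1 ≠ 0` in `R ⊗ A/p`
  have h1 : (1 : R) ⊗ₜ[A] (1 : A ⧸ q'.comap (algebraMap A B')) ≠ 0 := by
    intro h0
    have h2 := congrArg (TensorProduct.tensorQuotEquivQuotSMul R (q'.comap (algebraMap A B'))) h0
    rw [← map_one (Ideal.Quotient.mk _), TensorProduct.tensorQuotEquivQuotSMul_tmul_mk, one_smul,
      map_zero, Submodule.Quotient.mk_eq_zero] at h2
    have hle : (q'.comap (algebraMap A B') • (⊤ : Submodule A R)) ≤
        (IsLocalRing.maximalIdeal R).restrictScalars A := by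
      rw [Submodule.smul_le]
      intro a ha r _
      show a • r ∈ IsLocalRing.maximalIdeal R
      rw [Algebra.smul_def]
      apply Ideal.mul_mem_right
      rw [← hp] at ha
      exact ha
    have h3 : (1 : R) ∈ IsLocalRing.maximalIdeal R := hle h2
    exact (Ideal.ne_top_iff_one _).1 (IsLocalRing.maximalIdeal.isMaximal R).ne_top h3
  have h1' : (1 : R) ⊗ₜ[A] (1 : B' ⧸ q') ≠ 0 := by
    intro h0
    apply h1
    apply hfl
    rw [map_zero, LinearMap.lTensor_tmul]
    have : f 1 = 1 := map_one (algebraMap (A ⧸ q'.comap (algebraMap A B')) (B' ⧸ q'))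
    rw [this]
    exact h0
  -- the quotient map
  let ψ : R ⊗[A] B' →ₐ[A] R ⊗[A] (B' ⧸ q') :=
    Algebra.TensorProduct.map (AlgHom.id A R) (Ideal.Quotient.mkₐ A q')
  have hker := Algebra.TensorProduct.lTensor_ker (A := R)
    (Ideal.Quotient.mkₐ A q') (Ideal.Quotient.mkₐ_surjective A q')
  have hk : RingHom.ker (Ideal.Quotient.mkₐ A q') = q' := by
    ext y
    rw [RingHom.mem_ker, Ideal.Quotient.mkₐ_eq_mk, Ideal.Quotient.eq_zero_iff_mem]
  rw [hk] at hker
  have hne : RingHom.ker ψ ≠ ⊤ := by
    intro htop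
    have : (1 : R ⊗[A] B') ∈ RingHom.ker ψ := by rw [htop]; trivial
    rw [RingHom.mem_ker, map_one] at this
    exact h1' this
  obtain ⟨Q, hQ, hle⟩ := Ideal.exists_le_maximal _ hne
  haveI := hQ
  haveI hQp : Q.IsPrime := hQ.isPrime
  have hqQ : q' ≤ Q.comap (Algebra.TensorProduct.includeRight : B' →ₐ[A] R ⊗[A] B') := by
    rw [← Ideal.map_le_iff_le_comap]
    have : RingHom.ker ψ = Ideal.map
        (Algebra.TensorProduct.includeRight : B' →ₐ[A] R ⊗[A] B') q' := hker
    rw [← this]
    exact hle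
  haveI : Algebra.IsIntegral R (R ⊗[A] B') := inferInstance
  have hQR : Q.comap (algebraMap R (R ⊗[A] B')) = IsLocalRing.maximalIdeal R :=
    IsLocalRing.eq_maximalIdeal (Ideal.isMaximal_comap_of_isIntegral_of_isMaximal Q)
  refine ⟨Q, hQ, ?_, hQR⟩
  -- incomparability
  have hcomap : (Q.comap (Algebra.TensorProduct.includeRight : B' →ₐ[A] R ⊗[A] B')).comap
      (algebraMap A B') = q'.comap (algebraMap A B') := by
    rw [← hp, ← hQR]
    ext a
    simp only [Ideal.mem_comap]
    have : (Algebra.TensorProduct.includeRight : B' →ₐ[A] R ⊗[A] B') (algebraMap A B' a) =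
        algebraMap R (R ⊗[A] B') (algebraMap A R a) := by
      rw [AlgHom.commutes, IsScalarTower.algebraMap_apply A R (R ⊗[A] B')]
    rw [this]
  by_contra hne'
  have hlt : q' < Q.comap (Algebra.TensorProduct.includeRight : B' →ₐ[A] R ⊗[A] B') :=
    lt_of_le_of_ne hqQ (fun h => hne' h.symm)
  have := Ideal.IsIntegral.comap_lt_comap (R := A) hlt
  rw [hcomap] at this
  exact lt_irrefl _ this

end Groth.Agent.Helper13QFOmega
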