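import Mathlib

set_option autoImplicit false
universe u
open TensorProduct

namespace Groth.Agent.Helper13QFOmega

/-- if `S` is the product of its localizations at maximal ideals, each such localization is a
direct factor cut out by an idempotent. -/
theorem exists_idem_of_bijective_pi {S : Type u} [CommRing S]
    (hbij : Function.Bijective
      (algebraMap S ((m : MaximalSpectrum S) → Localization.AtPrime m.asIdeal)))
    (m₀ : MaximalSpectrum S) :
    ∃ e : S, IsIdempotentElem e ∧
      Function.Surjective (algebraMap S (Localization.AtPrime m₀.asIdeal)) ∧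
      ∀ s, algebraMap S (Localization.AtPrime m₀.asIdeal) s = 0 ↔ e * s = 0 := by
  classical
  let Φ : S ≃+* ((m : MaximalSpectrum S) → Localization.AtPrime m.asIdeal) :=
    RingEquiv.ofBijective (algebraMap S _) hbij
  have hΦ : ∀ s m, Φ s m = algebraMap S (Localization.AtPrime m.asIdeal) s := fun s m => rfl
  let e : S := Φ.symm (Pi.single m₀ 1)
  have he : Φ e = Pi.single m₀ 1 := Φ.apply_symm_apply _
  refine ⟨e, ?_, ?_, ?_⟩
  · apply Φ.injective
    show Φ (e * e) = Φ e
    rw [map_mul, he]
    funext m
    by_cases hm : m = m₀
    · subst hm; simp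
    · simp [Pi.single_eq_of_ne hm]
  · intro c
    refine ⟨Φ.symm (Pi.single m₀ c), ?_⟩
    rw [← hΦ, Φ.apply_symm_apply, Pi.single_eq_same]
  · intro s
    rw [← hΦ]
    constructor
    · intro h
      apply Φ.injective
      rw [map_mul, he, map_zero]
      funext m
      by_cases hm : m = m₀
      · subst hm; simp [h]
      · simp [Pi.single_eq_of_ne hm]
    · intro h
      have h1 := congrArg (fun f => Φ f m₀) h
      simp only [map_mul, he, map_zero, Pi.mul_apply, Pi.single_eq_same, one_mul,
        Pi.zero_apply] at h1
      exact h1

end Groth.Agent.Helper13QFOmega
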