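import Mathlib
import Groth.Agent.Lib.Helper19ComplDim
import Groth.Agent.Lib.Helper18ComplProd
import Groth.Agent.Lib.Helper13QFOmega3
import Groth.Agent.Lib.Helper13QFOmega4

set_option autoImplicit false
universe u
open TensorProduct

namespace Groth.Agent.Helper13QFOmega

attribute [local instance] Algebra.TensorProduct.rightAlgebra

section Model

variable (A B' : Type u) [CommRing A] [CommRing B'] [IsNoetherianRing A] [Algebra A B']
  [Module.Finite A B'] (q' : Ideal B') [q'.IsPrime]

/-- the completion of the local ring of `A` at `p`. -/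
abbrev Rc (p : Ideal A) [p.IsPrime] : Type u :=
  AdicCompletion (IsLocalRing.maximalIdeal (Localization.AtPrime p)) (Localization.AtPrime p)

/-- the completed local ring of `A` at `q' ∩ A` -/
abbrev RR : Type u := Rc A (q'.comap (algebraMap A B'))

/-- the base change of `B'` to the completion -/
abbrev SS : Type u := RR A B' q' ⊗[A] B'

theorem comap_maximalIdeal_RR :
    (IsLocalRing.maximalIdeal (RR A B' q')).comap (algebraMap A (RR A B' q')) =
      q'.comap (algebraMap A B') := by
  rw [IsScalarTower.algebraMap_eq A (Localization.AtPrime (q'.comap (algebraMap A B')))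
    (RR A B' q'), ← Ideal.comap_comap, IsLocalRing.maximalIdeal_comap]
  exact IsLocalization.AtPrime.comap_maximalIdeal (Localization.AtPrime _) _

instance flat_RR : Module.Flat A (RR A B' q') :=
  Module.Flat.trans A (Localization.AtPrime (q'.comap (algebraMap A B'))) (RR A B' q')

/-- a maximal ideal of `SS` over `q'` -/
noncomputable def QQ : Ideal (SS A B' q') :=
  (exists_maximal_over (A := A) (R := RR A B' q') q' (comap_maximalIdeal_RR A B' q')).choose

instance QQ_isMaximal : (QQ A B' q').IsMaximal :=
  (exists_maximal_over (A := A) (R := RR A B' q') q' (comap_maximalIdeal_RR A B' q')).choose_spec.1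

theorem QQ_comap : (QQ A B' q').comap
    (Algebra.TensorProduct.includeRight : B' →ₐ[A] SS A B' q') = q' :=
  (exists_maximal_over (A := A) (R := RR A B' q') q'
    (comap_maximalIdeal_RR A B' q')).choose_spec.2.1

theorem QQ_comap_algebraMap : (QQ A B' q').comap (algebraMap B' (SS A B' q')) = q' :=
  QQ_comap A B' q'

/-- the local factor of `SS` at `QQ` -/
abbrev CC : Type u := Localization.AtPrime (QQ A B' q')

theorem exists_idem_CC : ∃ e : SS A B' q', IsIdempotentElem e ∧
    Function.Surjective (algebraMap (SS A B' q') (CC A B' q')) ∧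
    ∀ s, algebraMap (SS A B' q') (CC A B' q') s = 0 ↔ e * s = 0 := by
  have h := Groth.Agent.Lib.Helper18ComplProd.main (RR A B' q') (SS A B' q')
  exact exists_idem_of_bijective_pi h.2.1 ⟨QQ A B' q', inferInstance⟩

instance finite_CC : Module.Finite (RR A B' q') (CC A B' q') := by
  obtain ⟨e, -, hsurj, -⟩ := exists_idem_CC A B' q'
  exact Module.Finite.of_surjective
    (IsScalarTower.toAlgHom (RR A B' q') (SS A B' q') (CC A B' q')).toLinearMap hsurj

end Model

end Groth.Agent.Helper13QFOmega
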