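import Mathlib
import Groth.Agent.Lib.Helper13QFOmega6

set_option autoImplicit false
universe u
open TensorProduct

namespace Groth.Agent.Helper13QFOmega

attribute [local instance] Algebra.TensorProduct.rightAlgebra

section Model

variable (A B' : Type u) [CommRing A] [CommRing B'] [IsNoetherianRing A] [Algebra A B']
  [Module.Finite A B'] (q' : Ideal B') [q'.IsPrime]
  (T : Type u) [CommRing T] [Algebra B' T] [IsLocalization.AtPrime T q']

theorem isUnit_map_CC (y : q'.primeCompl) : IsUnit (algebraMap B' (CC A B' q') y) := by
  rw [IsScalarTower.algebraMap_apply B' (SS A B' q') (CC A B' q')]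
  refine IsLocalization.map_units (CC A B' q')
    (⟨algebraMap B' (SS A B' q') y, ?_⟩ : (QQ A B' q').primeCompl)
  intro hy
  have : (y : B') ∈ (QQ A B' q').comap (algebraMap B' (SS A B' q')) := hy
  rw [QQ_comap_algebraMap] at this
  exact y.2 this

/-- the `T`-algebra structure on the local model. -/
@[reducible] noncomputable def algTC : Algebra T (CC A B' q') :=
  (IsLocalization.lift (M := q'.primeCompl) (g := algebraMap B' (CC A B' q'))
    (isUnit_map_CC A B' q')).toAlgebra

attribute [local instance] algTC

instance isScalarTower_TC : IsScalarTower B' T (CC A B' q') :=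
  IsScalarTower.of_algebraMap_eq fun x =>
    (IsLocalization.lift_eq (M := q'.primeCompl) (isUnit_map_CC A B' q') x).symm

instance flat_SS : Module.Flat B' (SS A B' q') :=
  Module.Flat.isBaseChange A B' (RR A B' q') (SS A B' q')
    (Algebra.IsPushout.out (R := A) (S := B') (R' := RR A B' q') (S' := SS A B' q'))

instance flat_TC : Module.Flat T (CC A B' q') :=
  (Module.flat_iff_of_isLocalization T q'.primeCompl (CC A B' q')).mpr inferInstance

theorem comap_maximalIdeal_TC :
    (IsLocalRing.maximalIdeal (CC A B' q')).comap (algebraMap T (CC A B' q')) =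
      haveI := IsLocalization.AtPrime.isLocalRing T q'
      IsLocalRing.maximalIdeal T := by
  haveI := IsLocalization.AtPrime.isLocalRing T q'
  have hprime : ((IsLocalRing.maximalIdeal (CC A B' q')).comap
      (algebraMap T (CC A B' q'))).IsPrime := Ideal.comap_isPrime _ _
  have h1 : ((IsLocalRing.maximalIdeal (CC A B' q')).comap
      (algebraMap T (CC A B' q'))).comap (algebraMap B' T) = q' := by
    have e1 : (IsLocalRing.maximalIdeal (CC A B' q')).comap
        (algebraMap (SS A B' q') (CC A B' q')) = QQ A B' q' :=
      IsLocalization.AtPrime.comap_maximalIdeal (CC A B' q') (QQ A B' q')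
    rw [Ideal.comap_comap, ← IsScalarTower.algebraMap_eq,
      IsScalarTower.algebraMap_eq B' (SS A B' q') (CC A B' q'), ← Ideal.comap_comap, e1,
      QQ_comap_algebraMap]
  have h2 : (IsLocalRing.maximalIdeal T).comap (algebraMap B' T) = q' :=
    IsLocalization.AtPrime.comap_maximalIdeal T q'
  have h3 : Ideal.map (algebraMap B' T) (Ideal.comap (algebraMap B' T)
      ((IsLocalRing.maximalIdeal (CC A B' q')).comap (algebraMap T (CC A B' q')))) =
      (IsLocalRing.maximalIdeal (CC A B' q')).comap (algebraMap T (CC A B' q')) :=
    IsLocalization.map_comap q'.primeCompl T _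
  have h4 : Ideal.map (algebraMap B' T) (Ideal.comap (algebraMap B' T)
      (IsLocalRing.maximalIdeal T)) = IsLocalRing.maximalIdeal T :=
    IsLocalization.map_comap q'.primeCompl T _
  exact h3.symm.trans ((congrArg (Ideal.map (algebraMap B' T)) (h1.trans h2.symm)).trans h4)

instance isLocalHom_TC :
    haveI := IsLocalization.AtPrime.isLocalRing T q'
    IsLocalHom (algebraMap T (CC A B' q')) := by
  haveI := IsLocalization.AtPrime.isLocalRing T q'
  exact ((IsLocalRing.local_hom_TFAE (algebraMap T (CC A B' q'))).out 0 4).mpr
    (comap_maximalIdeal_TC A B' q' T)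

end Model

end Groth.Agent.Helper13QFOmega
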