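import Mathlib
import Groth.Agent.Lib.Helper13QFOmega8

set_option autoImplicit false
universe u
open TensorProduct

namespace Groth.Agent.Helper13QFOmega

attribute [local instance] Algebra.TensorProduct.rightAlgebra

section Model

variable (A B' : Type u) [CommRing A] [CommRing B'] [IsNoetherianRing A] [Algebra A B']
  [Module.Finite A B'] (q' : Ideal B') [q'.IsPrime]
  (T : Type u) [CommRing T] [Algebra B' T] [IsLocalization.AtPrime T q']
  [Algebra A T] [IsScalarTower A B' T]

attribute [local instance] algTC

/-- `R ⊗_A T` -/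
abbrev UU : Type u := RR A B' q' ⊗[A] T

/-- the algebra structure `R ⊗ B' → R ⊗ T` -/
@[reducible] noncomputable def algSU : Algebra (SS A B' q') (UU A B' q' T) :=
  (Algebra.TensorProduct.map (AlgHom.id (RR A B' q') (RR A B' q'))
    (IsScalarTower.toAlgHom A B' T)).toRingHom.toAlgebra

attribute [local instance] algSU

theorem algebraMap_SU_tmul (r : RR A B' q') (b : B') :
    algebraMap (SS A B' q') (UU A B' q' T) (r ⊗ₜ[A] b) = r ⊗ₜ[A] algebraMap B' T b := rfl

instance isScalarTower_RSU : IsScalarTower (RR A B' q') (SS A B' q') (UU A B' q' T) :=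
  IsScalarTower.of_algebraMap_eq (R := RR A B' q') (S := SS A B' q') (A := UU A B' q' T) fun r => by
    show r ⊗ₜ[A] (1 : T) = algebraMap (SS A B' q') (UU A B' q' T) (r ⊗ₜ[A] (1 : B'))
    rw [algebraMap_SU_tmul, map_one]

instance isLocalization_UU :
    IsLocalization (q'.primeCompl.map
      (Algebra.TensorProduct.includeRight : B' →ₐ[A] SS A B' q')) (UU A B' q' T) :=
  IsLocalization.tensorProduct_tensorProduct_right A (RR A B' q') q'.primeCompl T (by
    ext b
    simp only [RingHom.coe_comp, Function.comp_apply, AlgHom.toRingHom_eq_coe, RingHom.coe_coe,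
      Algebra.TensorProduct.includeRight_apply]
    exact algebraMap_SU_tmul A B' q' T 1 b)

instance isScalarTower_ABC : IsScalarTower A B' (CC A B' q') :=
  IsScalarTower.of_algebraMap_eq fun a => by
    rw [IsScalarTower.algebraMap_apply A (SS A B' q') (CC A B' q'),
      IsScalarTower.algebraMap_apply B' (SS A B' q') (CC A B' q'),
      ← IsScalarTower.algebraMap_apply A B' (SS A B' q')]

instance isScalarTower_ATC : IsScalarTower A T (CC A B' q') :=
  IsScalarTower.of_algebraMap_eq fun a => by
    rw [IsScalarTower.algebraMap_apply A B' (CC A B' q'),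
      IsScalarTower.algebraMap_apply B' T (CC A B' q'),
      ← IsScalarTower.algebraMap_apply A B' T]

/-- the algebra structure `R ⊗ T → C` -/
@[reducible] noncomputable def algUC : Algebra (UU A B' q' T) (CC A B' q') :=
  (Algebra.TensorProduct.productMap (IsScalarTower.toAlgHom A (RR A B' q') (CC A B' q'))
    (IsScalarTower.toAlgHom A T (CC A B' q'))).toRingHom.toAlgebra

attribute [local instance] algUC

theorem algebraMap_UC_tmul (r : RR A B' q') (t : T) :
    algebraMap (UU A B' q' T) (CC A B' q') (r ⊗ₜ[A] t) =
      algebraMap (RR A B' q') (CC A B' q') r * algebraMap T (CC A B' q') t := by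
  show Algebra.TensorProduct.productMap _ _ (r ⊗ₜ[A] t) = _
  rw [Algebra.TensorProduct.productMap_apply_tmul]
  rfl

instance isScalarTower_SUC : IsScalarTower (SS A B' q') (UU A B' q' T) (CC A B' q') :=
  IsScalarTower.of_algebraMap_eq fun x => by
    induction x using TensorProduct.induction_on with
    | zero => simp
    | tmul r b =>
      rw [algebraMap_SU_tmul, algebraMap_UC_tmul, ← IsScalarTower.algebraMap_apply B' T,
        IsScalarTower.algebraMap_apply B' (SS A B' q') (CC A B' q'),
        IsScalarTower.algebraMap_apply (RR A B' q') (SS A B' q') (CC A B' q'), ← map_mul]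
      congr 1
      rw [Algebra.TensorProduct.algebraMap_apply, Algebra.algebraMap_self, RingHom.id_apply]
      show r ⊗ₜ[A] b = (r ⊗ₜ[A] (1 : B')) * ((1 : RR A B' q') ⊗ₜ[A] b)
      rw [Algebra.TensorProduct.tmul_mul_tmul, mul_one, one_mul]
    | add x y hx hy => rw [map_add, map_add, map_add, hx, hy]

instance isScalarTower_RUC : IsScalarTower (RR A B' q') (UU A B' q' T) (CC A B' q') :=
  IsScalarTower.of_algebraMap_eq (R := RR A B' q') (S := UU A B' q' T) (A := CC A B' q') fun r => by
    show _ = algebraMap (UU A B' q' T) (CC A B' q') (r ⊗ₜ[A] (1 : T))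
    rw [algebraMap_UC_tmul, map_one, mul_one]

theorem flat_CC [Module.Flat A T] : Module.Flat (RR A B' q') (CC A B' q') := by
  haveI : Module.Flat (UU A B' q' T) (CC A B' q') :=
    (Module.flat_iff_of_isLocalization (UU A B' q' T)
      (q'.primeCompl.map (Algebra.TensorProduct.includeRight : B' →ₐ[A] SS A B' q'))
      (CC A B' q')).mpr inferInstance
  exact Module.Flat.trans (RR A B' q') (UU A B' q' T) (CC A B' q')

end Model

end Groth.Agent.Helper13QFOmega
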