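import Mathlib
import Groth.Prelude.Def_QFDual
import Groth.Agent.Lib.Helper13QFOmega9

set_option autoImplicit false
set_option maxSynthPendingDepth 3
universe u
open TensorProduct

namespace Groth.Agent.Helper13QFBC

open Groth.Agent.Helper13QFOmega

attribute [local instance] Algebra.TensorProduct.rightAlgebra

section Inst

variable (A B' : Type u) [CommRing A] [CommRing B'] [IsNoetherianRing A] [Algebra A B']
  [Module.Finite A B'] (q' : Ideal B') [q'.IsPrime]
  (A₁ : Type u) [CommRing A₁] [Algebra A A₁]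

/-- base change of the completed local ring -/
abbrev R1 : Type u := A₁ ⊗[A] RR A B' q'
/-- base change of `S` -/
abbrev S1 : Type u := A₁ ⊗[A] SS A B' q'
/-- base change of `C` -/
abbrev C1 : Type u := A₁ ⊗[A] CC A B' q'

@[reducible] noncomputable def algR1S1 : Algebra (R1 A B' q' A₁) (S1 A B' q' A₁) :=
  (Algebra.TensorProduct.map (AlgHom.id A A₁)
    (IsScalarTower.toAlgHom A (RR A B' q') (SS A B' q'))).toRingHom.toAlgebra

@[reducible] noncomputable def algS1C1 : Algebra (S1 A B' q' A₁) (C1 A B' q' A₁) :=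
  (Algebra.TensorProduct.map (AlgHom.id A A₁)
    (IsScalarTower.toAlgHom A (SS A B' q') (CC A B' q'))).toRingHom.toAlgebra

@[reducible] noncomputable def algR1C1 : Algebra (R1 A B' q' A₁) (C1 A B' q' A₁) :=
  (Algebra.TensorProduct.map (AlgHom.id A A₁)
    (IsScalarTower.toAlgHom A (RR A B' q') (CC A B' q'))).toRingHom.toAlgebra

@[reducible] noncomputable def algB'S1 : Algebra B' (S1 A B' q' A₁) :=
  ((algebraMap (SS A B' q') (S1 A B' q' A₁)).comp (algebraMap B' (SS A B' q'))).toAlgebra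

@[reducible] noncomputable def algRS1 : Algebra (RR A B' q') (S1 A B' q' A₁) :=
  ((algebraMap (SS A B' q') (S1 A B' q' A₁)).comp
    (algebraMap (RR A B' q') (SS A B' q'))).toAlgebra

@[reducible] noncomputable def algRC1 : Algebra (RR A B' q') (C1 A B' q' A₁) :=
  ((algebraMap (CC A B' q') (C1 A B' q' A₁)).comp
    (algebraMap (RR A B' q') (CC A B' q'))).toAlgebra

attribute [local instance] algR1S1 algS1C1 algR1C1 algB'S1 algRS1 algRC1

theorem algebraMap_R1S1_tmul (a : A₁) (r : RR A B' q') :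
    algebraMap (R1 A B' q' A₁) (S1 A B' q' A₁) (a ⊗ₜ[A] r) =
      a ⊗ₜ[A] algebraMap (RR A B' q') (SS A B' q') r := rfl

theorem algebraMap_S1C1_tmul (a : A₁) (s : SS A B' q') :
    algebraMap (S1 A B' q' A₁) (C1 A B' q' A₁) (a ⊗ₜ[A] s) =
      a ⊗ₜ[A] algebraMap (SS A B' q') (CC A B' q') s := rfl

theorem algebraMap_R1C1_tmul (a : A₁) (r : RR A B' q') :
    algebraMap (R1 A B' q' A₁) (C1 A B' q' A₁) (a ⊗ₜ[A] r) =
      a ⊗ₜ[A] algebraMap (RR A B' q') (CC A B' q') r := rfl

instance tower_A1R1S1 : IsScalarTower A₁ (R1 A B' q' A₁) (S1 A B' q' A₁) :=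
  IsScalarTower.of_algebraMap_eq fun a => by
    rw [Algebra.TensorProduct.algebraMap_apply, Algebra.TensorProduct.algebraMap_apply,
      algebraMap_R1S1_tmul, map_one]

instance tower_AR1S1 : IsScalarTower A (R1 A B' q' A₁) (S1 A B' q' A₁) :=
  IsScalarTower.of_algebraMap_eq fun a => by
    rw [Algebra.TensorProduct.algebraMap_apply, Algebra.TensorProduct.algebraMap_apply,
      algebraMap_R1S1_tmul, map_one]

instance tower_A1R1C1 : IsScalarTower A₁ (R1 A B' q' A₁) (C1 A B' q' A₁) :=
  IsScalarTower.of_algebraMap_eq fun a => by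
    rw [Algebra.TensorProduct.algebraMap_apply, Algebra.TensorProduct.algebraMap_apply,
      algebraMap_R1C1_tmul, map_one]

instance tower_AR1C1 : IsScalarTower A (R1 A B' q' A₁) (C1 A B' q' A₁) :=
  IsScalarTower.of_algebraMap_eq fun a => by
    rw [Algebra.TensorProduct.algebraMap_apply, Algebra.TensorProduct.algebraMap_apply,
      algebraMap_R1C1_tmul, map_one]

instance tower_B'SS1 : IsScalarTower B' (SS A B' q') (S1 A B' q' A₁) :=
  IsScalarTower.of_algebraMap_eq fun _ => rfl

instance tower_RSS1 : IsScalarTower (RR A B' q') (SS A B' q') (S1 A B' q' A₁) :=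
  IsScalarTower.of_algebraMap_eq fun _ => rfl

instance tower_RCC1 : IsScalarTower (RR A B' q') (CC A B' q') (C1 A B' q' A₁) :=
  IsScalarTower.of_algebraMap_eq fun _ => rfl

instance tower_RR1S1 : IsScalarTower (RR A B' q') (R1 A B' q' A₁) (S1 A B' q' A₁) :=
  IsScalarTower.of_algebraMap_eq fun r => by
    show (1 : A₁) ⊗ₜ[A] algebraMap (RR A B' q') (SS A B' q') r =
      algebraMap (R1 A B' q' A₁) (S1 A B' q' A₁) ((1 : A₁) ⊗ₜ[A] r)
    rw [algebraMap_R1S1_tmul]

instance tower_RR1C1 : IsScalarTower (RR A B' q') (R1 A B' q' A₁) (C1 A B' q' A₁) :=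
  IsScalarTower.of_algebraMap_eq fun r => by
    show (1 : A₁) ⊗ₜ[A] algebraMap (RR A B' q') (CC A B' q') r =
      algebraMap (R1 A B' q' A₁) (C1 A B' q' A₁) ((1 : A₁) ⊗ₜ[A] r)
    rw [algebraMap_R1C1_tmul]

instance tower_AB'S1 : IsScalarTower A B' (S1 A B' q' A₁) :=
  IsScalarTower.of_algebraMap_eq fun a => by
    show algebraMap A (S1 A B' q' A₁) a =
      algebraMap (SS A B' q') (S1 A B' q' A₁) (algebraMap B' (SS A B' q') (algebraMap A B' a))
    rw [← IsScalarTower.algebraMap_apply A B' (SS A B' q'),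
      ← IsScalarTower.algebraMap_apply A (SS A B' q') (S1 A B' q' A₁)]

instance tower_R1S1C1 : IsScalarTower (R1 A B' q' A₁) (S1 A B' q' A₁) (C1 A B' q' A₁) :=
  IsScalarTower.of_algebraMap_eq fun x => by
    induction x using TensorProduct.induction_on with
    | zero => simp
    | tmul a r =>
      rw [algebraMap_R1C1_tmul, algebraMap_R1S1_tmul, algebraMap_S1C1_tmul,
        ← IsScalarTower.algebraMap_apply]
    | add x y hx hy => rw [map_add, map_add, map_add, hx, hy]

theorem hcompat (s : SS A B' q') :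
    algebraMap (S1 A B' q' A₁) (C1 A B' q' A₁) (algebraMap (SS A B' q') (S1 A B' q' A₁) s) =
      algebraMap (CC A B' q') (C1 A B' q' A₁) (algebraMap (SS A B' q') (CC A B' q') s) := rfl

end Inst

end Groth.Agent.Helper13QFBC
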