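import Mathlib
import Groth.Prelude.Def_QFDual
import Groth.Agent.Lib.Helper13QFBC6
import Groth.Agent.Lib.Helper13QFOmega2

set_option autoImplicit false
set_option maxSynthPendingDepth 3
universe u
open TensorProduct

namespace Groth.Agent.Helper13QFBC

open Groth.Agent.Helper13QFOmega

attribute [local instance] Algebra.TensorProduct.rightAlgebra

section Inst

variable (A B' : Type u) [CommRing A] [CommRing B'] [IsNoetherianRing A] [Algebra A B']
  [Module.Finite A B'] (q' : Ideal B') [q'.IsPrime]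
  (A₁ : Type u) [CommRing A₁] [Algebra A A₁]

attribute [local instance] algR1S1 algS1C1 algR1C1 algB'S1 algRS1 algRC1

theorem isPushout_h2 :
    Algebra.IsPushout (RR A B' q') (R1 A B' q' A₁) (SS A B' q') (S1 A B' q' A₁) := by
  have k2 : Algebra.IsPushout A (SS A B' q') A₁ (S1 A B' q' A₁) := inferInstance
  have h := (Algebra.IsPushout.comp_iff A (RR A B' q') A₁ (R1 A B' q' A₁) (T := SS A B' q')
    (T' := S1 A B' q' A₁)).mp k2
  exact h.symm

theorem isPushout_h3 :
    Algebra.IsPushout (RR A B' q') (R1 A B' q' A₁) (CC A B' q') (C1 A B' q' A₁) := by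
  have k2 : Algebra.IsPushout A (CC A B' q') A₁ (C1 A B' q' A₁) := inferInstance
  have h := (Algebra.IsPushout.comp_iff A (RR A B' q') A₁ (R1 A B' q' A₁) (T := CC A B' q')
    (T' := C1 A B' q' A₁)).mp k2
  exact h.symm

theorem isPushout_hc :
    Algebra.IsPushout A (R1 A B' q' A₁) B' (S1 A B' q' A₁) := by
  have h₂ := isPushout_h2 A B' q' A₁
  exact (Algebra.IsPushout.comp_iff A (RR A B' q') B' (SS A B' q') (T := R1 A B' q' A₁)
    (T' := S1 A B' q' A₁)).mpr h₂

end Inst

end Groth.Agent.Helper13QFBC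

namespace Groth.Agent.Helper13QFBC

open Groth.Agent.Helper13QFOmega

attribute [local instance] Algebra.TensorProduct.rightAlgebra

section Inst2

variable (A B' : Type u) [CommRing A] [CommRing B'] [IsNoetherianRing A] [Algebra A B']
  [Module.Finite A B'] (q' : Ideal B') [q'.IsPrime]
  (A₁ : Type u) [CommRing A₁] [Algebra A A₁]

attribute [local instance] algR1S1 algS1C1 algR1C1 algB'S1 algRS1 algRC1

theorem surjective_S1C1 (hsurj : Function.Surjective (algebraMap (SS A B' q') (CC A B' q'))) :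
    Function.Surjective (algebraMap (S1 A B' q' A₁) (C1 A B' q' A₁)) :=
  Algebra.TensorProduct.map_surjective (f := AlgHom.id A A₁)
    (g := IsScalarTower.toAlgHom A (SS A B' q') (CC A B' q'))
    (fun x => ⟨x, rfl⟩) hsurj

theorem ker_S1C1 (e : SS A B' q') (he : IsIdempotentElem e)
    (hsurj : Function.Surjective (algebraMap (SS A B' q') (CC A B' q')))
    (hker : ∀ s, algebraMap (SS A B' q') (CC A B' q') s = 0 ↔ e * s = 0)
    (s : S1 A B' q' A₁) :
    algebraMap (S1 A B' q' A₁) (C1 A B' q' A₁) s = 0 ↔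
      algebraMap (SS A B' q') (S1 A B' q' A₁) e * s = 0 := by
  have he1 : algebraMap (SS A B' q') (CC A B' q') e = 1 := map_e e he hker
  have hE : algebraMap (SS A B' q') (S1 A B' q' A₁) e = (1 : A₁) ⊗ₜ[A] e := rfl
  constructor
  · intro hs
    have hmem : s ∈ RingHom.ker (Algebra.TensorProduct.map (AlgHom.id A A₁)
        (IsScalarTower.toAlgHom A (SS A B' q') (CC A B' q'))) := hs
    rw [Algebra.TensorProduct.lTensor_ker _ hsurj] at hmem
    have hle : (RingHom.ker (IsScalarTower.toAlgHom A (SS A B' q') (CC A B' q'))).map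
        (Algebra.TensorProduct.includeRight : SS A B' q' →ₐ[A] A₁ ⊗[A] SS A B' q') ≤
        LinearMap.ker (LinearMap.mulLeft (S1 A B' q' A₁)
          (((1 : A₁) ⊗ₜ[A] e : S1 A B' q' A₁))) := by
      rw [Ideal.map_le_iff_le_comap]
      intro k hk
      have hk' : algebraMap (SS A B' q') (CC A B' q') k = 0 := hk
      rw [hker] at hk'
      show (1 : A₁) ⊗ₜ[A] e * ((1 : A₁) ⊗ₜ[A] k) = 0
      rw [Algebra.TensorProduct.tmul_mul_tmul, hk', tmul_zero]
    rw [hE]
    exact hle hmem
  · intro hs
    have h1 : algebraMap (S1 A B' q' A₁) (C1 A B' q' A₁)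
        (algebraMap (SS A B' q') (S1 A B' q' A₁) e) = 1 := by
      rw [hcompat, he1, map_one]
    have h2 := congrArg (algebraMap (S1 A B' q' A₁) (C1 A B' q' A₁)) hs
    rwa [map_mul, h1, one_mul, map_zero] at h2

end Inst2

end Groth.Agent.Helper13QFBC
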