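import Mathlib
import Groth.Prelude.Def_QFDual
import Groth.Agent.Lib.Helper13QFBC5
import Groth.Agent.Lib.Helper13QFBC7

set_option autoImplicit false
set_option maxSynthPendingDepth 3
universe u
open TensorProduct

namespace Groth.Agent.Helper13QFBC

open Groth.Agent.Helper13QFOmega

attribute [local instance] Algebra.TensorProduct.rightAlgebra

section Inst3

variable (A B' : Type u) [CommRing A] [CommRing B'] [IsNoetherianRing A] [Algebra A B']
  [Module.Finite A B'] (q' : Ideal B') [q'.IsPrime]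
  (A₁ : Type u) [CommRing A₁] [Algebra A A₁]
  (B'₁ : Type u) [CommRing B'₁] [Algebra B' B'₁] [Algebra A₁ B'₁] [Algebra A B'₁]
  [IsScalarTower A A₁ B'₁] [IsScalarTower A B' B'₁] [h : Algebra.IsPushout A A₁ B' B'₁]

attribute [local instance] algR1S1 algS1C1 algR1C1 algB'S1 algRS1 algRC1

/-- the map `B'₁ → S₁` -/
noncomputable def mapB'1S1 : B'₁ →ₐ[A] S1 A B' q' A₁ :=
  Algebra.pushoutDesc B'₁ (IsScalarTower.toAlgHom A A₁ (S1 A B' q' A₁))
    (IsScalarTower.toAlgHom A B' (S1 A B' q' A₁)) (fun _ _ => mul_comm _ _)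

@[reducible] noncomputable def algB'1S1 : Algebra B'₁ (S1 A B' q' A₁) :=
  (mapB'1S1 A B' q' A₁ B'₁).toRingHom.toAlgebra

attribute [local instance] algB'1S1

instance tower_A1B'1S1 : IsScalarTower A₁ B'₁ (S1 A B' q' A₁) :=
  IsScalarTower.of_algebraMap_eq fun a => by
    show _ = mapB'1S1 A B' q' A₁ B'₁ (algebraMap A₁ B'₁ a)
    unfold mapB'1S1
    rw [Algebra.pushoutDesc_left]
    rfl

instance tower_B'B'1S1 : IsScalarTower B' B'₁ (S1 A B' q' A₁) :=
  IsScalarTower.of_algebraMap_eq fun b => by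
    show _ = mapB'1S1 A B' q' A₁ B'₁ (algebraMap B' B'₁ b)
    unfold mapB'1S1
    rw [Algebra.pushoutDesc_right]
    rfl

instance tower_AB'1S1 : IsScalarTower A B'₁ (S1 A B' q' A₁) :=
  IsScalarTower.of_algebraMap_eq fun a => by
    show _ = mapB'1S1 A B' q' A₁ B'₁ (algebraMap A B'₁ a)
    rw [AlgHom.commutes]

theorem isPushout_h1 :
    Algebra.IsPushout A₁ (R1 A B' q' A₁) B'₁ (S1 A B' q' A₁) := by
  have hc := isPushout_hc A B' q' A₁
  exact (Algebra.IsPushout.comp_iff A A₁ B' B'₁ (T := R1 A B' q' A₁)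
    (T' := S1 A B' q' A₁)).mp hc

end Inst3

end Groth.Agent.Helper13QFBC
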