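import Mathlib
import Groth.Prelude.Def_QFDual
import Groth.Agent.Lib.Helper13QFBC8

set_option autoImplicit false
set_option maxSynthPendingDepth 3
set_option linter.style.haveILetI false
universe u
open TensorProduct

namespace Groth.Agent.Helper13QFBC

open Groth.Agent.Helper13QFOmega

attribute [local instance] Algebra.TensorProduct.rightAlgebra

section Inst4

variable (A B' : Type u) [CommRing A] [CommRing B'] [IsNoetherianRing A] [Algebra A B']
  [Module.Finite A B'] (q' : Ideal B') [q'.IsPrime]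
  (A₁ : Type u) [CommRing A₁] [Algebra A A₁]
  (B'₁ : Type u) [CommRing B'₁] [Algebra B' B'₁] [Algebra A₁ B'₁] [Algebra A B'₁]
  [IsScalarTower A A₁ B'₁] [IsScalarTower A B' B'₁] [h : Algebra.IsPushout A A₁ B' B'₁]

attribute [local instance] algR1S1 algS1C1 algR1C1 algB'S1 algRS1 algRC1 algB'1S1

variable (D : Type u) [CommRing D]
  [Algebra B' D] [Algebra B'₁ D] [Algebra (SS A B' q') D] [Algebra (S1 A B' q' A₁) D]
  [Algebra (CC A B' q') D] [Algebra (C1 A B' q' A₁) D]
  [IsScalarTower B' B'₁ D] [IsScalarTower B'₁ (S1 A B' q' A₁) D]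
  [IsScalarTower B' (S1 A B' q' A₁) D]
  [IsScalarTower (SS A B' q') (S1 A B' q' A₁) D] [IsScalarTower B' (SS A B' q') D]
  [IsScalarTower (CC A B' q') (C1 A B' q' A₁) D] [IsScalarTower (SS A B' q') (CC A B' q') D]
  [IsScalarTower (S1 A B' q' A₁) (C1 A B' q' A₁) D]

include h in
theorem omegaBC_bijective_model [Module.Flat (RR A B' q') (CC A B' q')] :
    Function.Bijective (QFDual.omegaBC (B₁ := D) h) := by
  haveI : Module.FinitePresentation A B' := Module.finitePresentation_of_finite A B'
  haveI : Module.FinitePresentation A₁ B'₁ :=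
    _root_.FinitePresentation.of_isBaseChange (IsScalarTower.toAlgHom A B' B'₁).toLinearMap h.out
  haveI : Module.Free (RR A B' q') (CC A B' q') :=
    @Module.free_of_flat_of_isLocalRing (RR A B' q') (CC A B' q') _ _ _ _ (finite_CC A B' q')
      inferInstance
  obtain ⟨e, he, hsurj, hker⟩ := exists_idem_CC A B' q'
  exact omegaBC_bijective_core (R := RR A B' q') (R₁ := R1 A B' q' A₁) (S := SS A B' q')
    (S₁ := S1 A B' q' A₁) (C := CC A B' q') (C₁ := C1 A B' q' A₁) (D := D)
    h (isPushout_h1 A B' q' A₁ B'₁) (isPushout_hc A B' q' A₁) inferInstance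
    (isPushout_h2 A B' q' A₁) (isPushout_h3 A B' q' A₁) (hcompat A B' q' A₁) e he hsurj hker
    (surjective_S1C1 A B' q' A₁ hsurj) (ker_S1C1 A B' q' A₁ e he hsurj hker)

end Inst4

end Groth.Agent.Helper13QFBC
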