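import Mathlib
import Groth.Prelude.Def_QFDual
import Groth.Agent.Lib.Helper13QFBC9
import Groth.Agent.Lib.Helper13QFBC2

set_option autoImplicit false
set_option maxSynthPendingDepth 3
set_option linter.style.haveILetI false
universe u
open TensorProduct

namespace Groth.Agent.Helper13QFBC

open Groth.Agent.Helper13QFOmega

attribute [local instance] Algebra.TensorProduct.rightAlgebra

section Inst5

variable (A B' : Type u) [CommRing A] [CommRing B'] [IsNoetherianRing A] [Algebra A B']
  [Module.Finite A B'] (q' : Ideal B') [q'.IsPrime]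
  (A₁ : Type u) [CommRing A₁] [Algebra A A₁]
  (B'₁ : Type u) [CommRing B'₁] [Algebra B' B'₁] [Algebra A₁ B'₁] [Algebra A B'₁]
  [IsScalarTower A A₁ B'₁] [IsScalarTower A B' B'₁] [h : Algebra.IsPushout A A₁ B' B'₁]
  (T₁ : Type u) [CommRing T₁] [Algebra B'₁ T₁] [Algebra B' T₁] [IsScalarTower B' B'₁ T₁]
  [Algebra A T₁] [Algebra A₁ T₁] [IsScalarTower A B' T₁] [IsScalarTower A₁ B'₁ T₁]
  [IsScalarTower A A₁ T₁] [IsScalarTower A B'₁ T₁]
  [Algebra (Localization.AtPrime q') T₁] [IsScalarTower B' (Localization.AtPrime q') T₁]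

attribute [local instance] algR1S1 algS1C1 algR1C1 algB'S1 algRS1 algRC1 algB'1S1 algTC

/-- the test algebra `T₁ ⊗_T C` -/
abbrev DD : Type u := T₁ ⊗[Localization.AtPrime q'] CC A B' q'

instance tower_B'CD : IsScalarTower B' (CC A B' q') (DD A B' q' T₁) :=
  IsScalarTower.of_algebraMap_eq (R := B') (S := CC A B' q') (A := DD A B' q' T₁) fun b => by
    rw [Algebra.TensorProduct.algebraMap_apply]
    show _ = (1 : T₁) ⊗ₜ[Localization.AtPrime q'] algebraMap B' (CC A B' q') b
    rw [IsScalarTower.algebraMap_apply B' (Localization.AtPrime q') (CC A B' q'),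
      IsScalarTower.algebraMap_apply B' (Localization.AtPrime q') T₁,
      Algebra.algebraMap_eq_smul_one (algebraMap B' (Localization.AtPrime q') b),
      Algebra.algebraMap_eq_smul_one (A := CC A B' q') (algebraMap B' (Localization.AtPrime q') b),
      TensorProduct.smul_tmul]

instance tower_ACD : IsScalarTower A (CC A B' q') (DD A B' q' T₁) :=
  IsScalarTower.of_algebraMap_eq (R := A) (S := CC A B' q') (A := DD A B' q' T₁) fun a => by
    rw [IsScalarTower.algebraMap_apply A B' (DD A B' q' T₁),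
      IsScalarTower.algebraMap_apply A B' (CC A B' q'),
      ← IsScalarTower.algebraMap_apply B' (CC A B' q') (DD A B' q' T₁)]

instance tower_AA1D : IsScalarTower A A₁ (DD A B' q' T₁) :=
  IsScalarTower.of_algebraMap_eq (R := A) (S := A₁) (A := DD A B' q' T₁) fun a => by
    rw [Algebra.TensorProduct.algebraMap_apply, Algebra.TensorProduct.algebraMap_apply,
      ← IsScalarTower.algebraMap_apply A A₁ T₁]

@[reducible] noncomputable def algSD : Algebra (SS A B' q') (DD A B' q' T₁) :=
  ((algebraMap (CC A B' q') (DD A B' q' T₁)).comp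
    (algebraMap (SS A B' q') (CC A B' q'))).toAlgebra

@[reducible] noncomputable def algC1D : Algebra (C1 A B' q' A₁) (DD A B' q' T₁) :=
  (Algebra.TensorProduct.productMap (IsScalarTower.toAlgHom A A₁ (DD A B' q' T₁))
    (IsScalarTower.toAlgHom A (CC A B' q') (DD A B' q' T₁))).toRingHom.toAlgebra

attribute [local instance] algSD algC1D

@[reducible] noncomputable def algS1D : Algebra (S1 A B' q' A₁) (DD A B' q' T₁) :=
  ((algebraMap (C1 A B' q' A₁) (DD A B' q' T₁)).comp
    (algebraMap (S1 A B' q' A₁) (C1 A B' q' A₁))).toAlgebra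

attribute [local instance] algS1D

theorem algebraMap_C1D_tmul (a : A₁) (c : CC A B' q') :
    algebraMap (C1 A B' q' A₁) (DD A B' q' T₁) (a ⊗ₜ[A] c) =
      algebraMap A₁ (DD A B' q' T₁) a * algebraMap (CC A B' q') (DD A B' q' T₁) c := by
  show Algebra.TensorProduct.productMap _ _ (a ⊗ₜ[A] c) = _
  rw [Algebra.TensorProduct.productMap_apply_tmul]
  rfl

instance tower_SCD : IsScalarTower (SS A B' q') (CC A B' q') (DD A B' q' T₁) :=
  IsScalarTower.of_algebraMap_eq (R := SS A B' q') (S := CC A B' q') (A := DD A B' q' T₁)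
    fun _ => rfl

instance tower_S1C1D : IsScalarTower (S1 A B' q' A₁) (C1 A B' q' A₁) (DD A B' q' T₁) :=
  IsScalarTower.of_algebraMap_eq (R := S1 A B' q' A₁) (S := C1 A B' q' A₁)
    (A := DD A B' q' T₁) fun _ => rfl

instance tower_CC1D : IsScalarTower (CC A B' q') (C1 A B' q' A₁) (DD A B' q' T₁) :=
  IsScalarTower.of_algebraMap_eq (R := CC A B' q') (S := C1 A B' q' A₁) (A := DD A B' q' T₁)
    fun c => by
    show _ = algebraMap (C1 A B' q' A₁) (DD A B' q' T₁) ((1 : A₁) ⊗ₜ[A] c)
    rw [algebraMap_C1D_tmul, map_one, one_mul]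

instance tower_B'SD : IsScalarTower B' (SS A B' q') (DD A B' q' T₁) :=
  IsScalarTower.of_algebraMap_eq (R := B') (S := SS A B' q') (A := DD A B' q' T₁) fun b => by
    show algebraMap B' (DD A B' q' T₁) b = algebraMap (CC A B' q') (DD A B' q' T₁)
      (algebraMap (SS A B' q') (CC A B' q') (algebraMap B' (SS A B' q') b))
    rw [← IsScalarTower.algebraMap_apply B' (SS A B' q') (CC A B' q'),
      ← IsScalarTower.algebraMap_apply B' (CC A B' q') (DD A B' q' T₁)]

instance tower_SS1D : IsScalarTower (SS A B' q') (S1 A B' q' A₁) (DD A B' q' T₁) :=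
  IsScalarTower.of_algebraMap_eq (R := SS A B' q') (S := S1 A B' q' A₁) (A := DD A B' q' T₁)
    fun s => by
    show algebraMap (CC A B' q') (DD A B' q' T₁) (algebraMap (SS A B' q') (CC A B' q') s) =
      algebraMap (C1 A B' q' A₁) (DD A B' q' T₁) (algebraMap (S1 A B' q' A₁) (C1 A B' q' A₁)
        (algebraMap (SS A B' q') (S1 A B' q' A₁) s))
    rw [hcompat, ← IsScalarTower.algebraMap_apply (CC A B' q') (C1 A B' q' A₁) (DD A B' q' T₁)]

instance tower_B'S1D : IsScalarTower B' (S1 A B' q' A₁) (DD A B' q' T₁) :=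
  IsScalarTower.of_algebraMap_eq (R := B') (S := S1 A B' q' A₁) (A := DD A B' q' T₁) fun b => by
    rw [IsScalarTower.algebraMap_apply B' (SS A B' q') (S1 A B' q' A₁),
      ← IsScalarTower.algebraMap_apply (SS A B' q') (S1 A B' q' A₁) (DD A B' q' T₁),
      ← IsScalarTower.algebraMap_apply B' (SS A B' q') (DD A B' q' T₁)]

theorem algebraMap_S1D_A1 (a : A₁) :
    algebraMap (S1 A B' q' A₁) (DD A B' q' T₁) (algebraMap A₁ (S1 A B' q' A₁) a) =
      algebraMap A₁ (DD A B' q' T₁) a := by
  rw [Algebra.TensorProduct.algebraMap_apply]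
  show algebraMap (C1 A B' q' A₁) (DD A B' q' T₁) (algebraMap (S1 A B' q' A₁) (C1 A B' q' A₁)
    (algebraMap A₁ A₁ a ⊗ₜ[A] (1 : SS A B' q'))) = _
  rw [algebraMap_S1C1_tmul, algebraMap_C1D_tmul, map_one, map_one, mul_one]
  rfl

instance tower_AS1D : IsScalarTower A (S1 A B' q' A₁) (DD A B' q' T₁) :=
  IsScalarTower.of_algebraMap_eq (R := A) (S := S1 A B' q' A₁) (A := DD A B' q' T₁) fun a => by
    rw [IsScalarTower.algebraMap_apply A B' (S1 A B' q' A₁),
      ← IsScalarTower.algebraMap_apply B' (S1 A B' q' A₁) (DD A B' q' T₁),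
      ← IsScalarTower.algebraMap_apply A B' (DD A B' q' T₁)]

instance tower_B'1S1D : IsScalarTower B'₁ (S1 A B' q' A₁) (DD A B' q' T₁) :=
  IsScalarTower.of_algebraMap_eq (R := B'₁) (S := S1 A B' q' A₁) (A := DD A B' q' T₁) fun x => by
    have key : (IsScalarTower.toAlgHom A B'₁ (DD A B' q' T₁)) =
        ((IsScalarTower.toAlgHom A (S1 A B' q' A₁) (DD A B' q' T₁)).comp
          (mapB'1S1 A B' q' A₁ B'₁)) := by
      apply Algebra.IsPushout.algHom_ext (H := h)
      · ext b
        show algebraMap B'₁ (DD A B' q' T₁) (algebraMap B' B'₁ b) =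
          algebraMap (S1 A B' q' A₁) (DD A B' q' T₁)
            (algebraMap B'₁ (S1 A B' q' A₁) (algebraMap B' B'₁ b))
        rw [← IsScalarTower.algebraMap_apply B' B'₁ (S1 A B' q' A₁),
          ← IsScalarTower.algebraMap_apply B' (S1 A B' q' A₁) (DD A B' q' T₁),
          ← IsScalarTower.algebraMap_apply B' B'₁ (DD A B' q' T₁)]
      · ext a
        show algebraMap B'₁ (DD A B' q' T₁) (algebraMap A₁ B'₁ a) =
          algebraMap (S1 A B' q' A₁) (DD A B' q' T₁)
            (algebraMap B'₁ (S1 A B' q' A₁) (algebraMap A₁ B'₁ a))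
        rw [← IsScalarTower.algebraMap_apply A₁ B'₁ (S1 A B' q' A₁), algebraMap_S1D_A1,
          ← IsScalarTower.algebraMap_apply A₁ B'₁ (DD A B' q' T₁)]
    exact congrArg (fun f : B'₁ →ₐ[A] DD A B' q' T₁ => f x) key

include h in
theorem omegaBC_bijective_DD [Module.Flat (RR A B' q') (CC A B' q')] :
    Function.Bijective (QFDual.omegaBC (B₁ := DD A B' q' T₁) h) :=
  omegaBC_bijective_model A B' q' A₁ B'₁ (DD A B' q' T₁)

include h in
/-- the base change map is bijective on any algebra in which the complement of `q'` becomes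
invertible. -/
theorem omegaBC_bijective_local [Module.Flat (RR A B' q') (CC A B' q')] :
    Function.Bijective (QFDual.omegaBC (B₁ := T₁) h) := by
  haveI : IsLocalRing (Localization.AtPrime q') := inferInstance
  haveI : Module.FaithfullyFlat (Localization.AtPrime q') (CC A B' q') :=
    Module.FaithfullyFlat.of_flat_of_isLocalHom
  haveI : Module.FaithfullyFlat T₁ (DD A B' q' T₁) := inferInstance
  exact bijective_omegaBC_of_faithfullyFlat (E := T₁) (D := DD A B' q' T₁) h
    (omegaBC_bijective_DD A B' q' A₁ B'₁ T₁)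

end Inst5

end Groth.Agent.Helper13QFBC
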