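import Mathlib
import Groth.Prelude.Def_QFDual

/-!
# Associated primes of the relative dualizing module of a quasi-finite map (helper28)
-/

set_option autoImplicit false
universe u

namespace Groth.Agent.Lib.Helper28.QFAss

open AlgebraicGeometry CategoryTheory TensorProduct

section OpenImm

variable {B' B : Type u} [CommRing B'] [CommRing B] [Algebra B' B]

/-- For an open immersion `Spec B → Spec B'`, the induced maps of local rings are bijective. -/
theorem localRingHom_bijective_of_isOpenImmersion
    (h : IsOpenImmersion (Spec.map (CommRingCat.ofHom (algebraMap B' B)))) (q : Ideal B)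
    [q.IsPrime] :
    Function.Bijective
      (Localization.localRingHom (q.comap (algebraMap B' B)) q (algebraMap B' B) rfl) := by
  let p : PrimeSpectrum B := ⟨q, inferInstance⟩
  have h1 : IsIso ((Spec.map (CommRingCat.ofHom (algebraMap B' B))).stalkMap p) := inferInstance
  have h2 := ((MorphismProperty.isomorphisms CommRingCat).arrow_mk_iso_iff
    (Scheme.arrowStalkMapSpecIso (CommRingCat.ofHom (algebraMap B' B)) p)).mp h1
  exact (ConcreteCategory.isIso_iff_bijective _).mp h2

/-- For an open immersion `Spec B → Spec B'`, the local ring of `B` at `q` is the localization of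
`B'` at the contraction of `q`. -/
theorem isLocalization_atPrime_of_isOpenImmersion
    (h : IsOpenImmersion (Spec.map (CommRingCat.ofHom (algebraMap B' B)))) (q : Ideal B)
    [q.IsPrime] :
    IsLocalization.AtPrime (Localization.AtPrime q) (q.comap (algebraMap B' B)) := by
  let φ : Localization.AtPrime (q.comap (algebraMap B' B)) →ₐ[B'] Localization.AtPrime q :=
    { Localization.localRingHom (q.comap (algebraMap B' B)) q (algebraMap B' B) rfl with
      commutes' := fun x => by
        simp only [RingHom.toMonoidHom_eq_coe, OneHom.toFun_eq_coe, MonoidHom.toOneHom_coe,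
          MonoidHom.coe_coe]
        rw [Localization.localRingHom_to_map, ← IsScalarTower.algebraMap_apply] }
  let e : Localization.AtPrime (q.comap (algebraMap B' B)) ≃ₐ[B'] Localization.AtPrime q :=
    AlgEquiv.ofBijective φ (localRingHom_bijective_of_isOpenImmersion h q)
  exact IsLocalization.isLocalization_of_algEquiv _ e

/-- Associated primes of a base change along an open immersion of affine schemes. -/
theorem mem_associatedPrimes_baseChange_iff_of_isOpenImmersion [IsNoetherianRing B']
    [IsNoetherianRing B]
    (h : IsOpenImmersion (Spec.map (CommRingCat.ofHom (algebraMap B' B))))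
    (N : Type u) [AddCommGroup N] [Module B' N] (q : Ideal B) [q.IsPrime] :
    q ∈ associatedPrimes B (B ⊗[B'] N) ↔
      q.comap (algebraMap B' B) ∈ associatedPrimes B' N := by
  have hloc : IsLocalization.AtPrime (Localization.AtPrime q) (q.comap (algebraMap B' B)) :=
    isLocalization_atPrime_of_isOpenImmersion h q
  -- localization of `N` at the contraction
  have h1 : IsLocalizedModule (q.comap (algebraMap B' B)).primeCompl
      (TensorProduct.mk B' (Localization.AtPrime q) N 1) :=
    (isLocalizedModule_iff_isBaseChange (q.comap (algebraMap B' B)).primeCompl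
      (Localization.AtPrime q) _).mpr (TensorProduct.isBaseChange B' N (Localization.AtPrime q))
  have e1 := Module.associatedPrimes.preimage_comap_associatedPrimes_eq_associatedPrimes_of_isLocalizedModule
    (q.comap (algebraMap B' B)).primeCompl (Localization.AtPrime q)
    (TensorProduct.mk B' (Localization.AtPrime q) N 1)
  -- localization of `B ⊗ N` at `q`
  have h2 : IsLocalizedModule q.primeCompl
      (TensorProduct.mk B (Localization.AtPrime q) (B ⊗[B'] N) 1) :=
    (isLocalizedModule_iff_isBaseChange q.primeCompl
      (Localization.AtPrime q) _).mpr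
      (TensorProduct.isBaseChange B (B ⊗[B'] N) (Localization.AtPrime q))
  have e2 := Module.associatedPrimes.preimage_comap_associatedPrimes_eq_associatedPrimes_of_isLocalizedModule
    q.primeCompl (Localization.AtPrime q)
    (TensorProduct.mk B (Localization.AtPrime q) (B ⊗[B'] N) 1)
  have e3 := LinearEquiv.AssociatedPrimes.eq
    (TensorProduct.AlgebraTensorModule.cancelBaseChange B' B (Localization.AtPrime q)
      (Localization.AtPrime q) N)
  have hq : Ideal.comap (algebraMap B (Localization.AtPrime q))
      (IsLocalRing.maximalIdeal (Localization.AtPrime q)) = q :=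
    Localization.AtPrime.under_maximalIdeal
  have hq' : Ideal.comap (algebraMap B' (Localization.AtPrime q))
      (IsLocalRing.maximalIdeal (Localization.AtPrime q)) = q.comap (algebraMap B' B) := by
    rw [IsScalarTower.algebraMap_eq B' B (Localization.AtPrime q), ← Ideal.comap_comap, hq]
  constructor
  · intro hmem
    have : IsLocalRing.maximalIdeal (Localization.AtPrime q) ∈
        Ideal.comap (algebraMap B (Localization.AtPrime q)) ⁻¹'
          associatedPrimes B (B ⊗[B'] N) := by
      rw [Set.mem_preimage, hq]; exact hmem
    rw [e2, e3, ← e1, Set.mem_preimage, hq'] at this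
    exact this
  · intro hmem
    have : IsLocalRing.maximalIdeal (Localization.AtPrime q) ∈
        Ideal.comap (algebraMap B' (Localization.AtPrime q)) ⁻¹' associatedPrimes B' N := by
      rw [Set.mem_preimage, hq']; exact hmem
    rw [e1, ← e3, ← e2, Set.mem_preimage, hq] at this
    exact this

end OpenImm

section Functional

/-- A finite extension of domains has a functional with trivial annihilator. -/
theorem exists_functional (E D : Type u) [CommRing E] [IsDomain E] [CommRing D] [IsDomain D]
    [Algebra E D] [Module.Finite E D] (hinj : Function.Injective (algebraMap E D)) :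
    ∃ ψ : D →ₗ[E] E, ∀ d : D, (∀ x, ψ (d * x) = 0) → d = 0 := by
  classical
  let K := FractionRing E
  -- nonzero functional on `K ⊗ D`
  have hflat : Function.Injective ((Algebra.linearMap E D).lTensor K) :=
    Module.Flat.lTensor_preserves_injective_linearMap _ hinj
  have hv0 : (1 : K) ⊗ₜ[E] (1 : D) ≠ 0 := by
    intro h0
    have h1 : (Algebra.linearMap E D).lTensor K ((1 : K) ⊗ₜ[E] (1 : E)) = 0 := by
      rw [LinearMap.lTensor_tmul, Algebra.linearMap_apply, map_one, h0]
    have h2 := hflat (h1.trans (map_zero _).symm)
    have h3 : (TensorProduct.rid E K) ((1 : K) ⊗ₜ[E] (1 : E)) = 0 := by rw [h2, map_zero]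
    rw [TensorProduct.rid_tmul, one_smul] at h3
    exact one_ne_zero h3
  let b := Module.Free.chooseBasis K (K ⊗[E] D)
  obtain ⟨i, hi⟩ : ∃ i, b.repr ((1 : K) ⊗ₜ[E] (1 : D)) i ≠ 0 := by
    by_contra hcon
    push Not at hcon
    apply hv0
    apply b.repr.injective
    ext i
    rw [hcon i, map_zero, Finsupp.zero_apply]
  let lam : D →ₗ[E] K := ((b.coord i).restrictScalars E) ∘ₗ (TensorProduct.mk E K D 1)
  have hlam1 : lam 1 ≠ 0 := hi
  -- clear denominators
  obtain ⟨s, hs⟩ := (Module.Finite.fg_top : (⊤ : Submodule E D).FG)
  obtain ⟨e₀, he₀⟩ := IsLocalization.exist_integer_multiples_of_finset (nonZeroDivisors E)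
    (s.image lam)
  have hint : ∀ d : D, (e₀ : E) • lam d ∈ LinearMap.range (Algebra.linearMap E K) := by
    intro d
    have hd : d ∈ Submodule.span E (s : Set D) := by rw [hs]; trivial
    refine Submodule.span_induction ?_ ?_ ?_ ?_ hd
    · intro x hx
      obtain ⟨e, he⟩ := he₀ (lam x) (Finset.mem_image_of_mem lam hx)
      exact ⟨e, he⟩
    · rw [map_zero, smul_zero]; exact Submodule.zero_mem _
    · intro x y _ _ hx hy
      rw [map_add, smul_add]; exact Submodule.add_mem _ hx hy
    · intro a x _ hx
      rw [map_smul, smul_comm]; exact Submodule.smul_mem _ _ hx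
  have hKinj : Function.Injective (Algebra.linearMap E K) := IsFractionRing.injective E K
  let ψ : D →ₗ[E] E :=
    (LinearEquiv.ofInjective (Algebra.linearMap E K) hKinj).symm.toLinearMap ∘ₗ
      (LinearMap.codRestrict (LinearMap.range (Algebra.linearMap E K))
        ((e₀ : E) • lam) hint)
  have hψ : ∀ d, algebraMap E K (ψ d) = (e₀ : E) • lam d := by
    intro d
    have h1 : (LinearEquiv.ofInjective (Algebra.linearMap E K) hKinj)
        ((LinearEquiv.ofInjective (Algebra.linearMap E K) hKinj).symm
          (LinearMap.codRestrict (LinearMap.range (Algebra.linearMap E K))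
            ((e₀ : E) • lam) hint d)) =
        LinearMap.codRestrict (LinearMap.range (Algebra.linearMap E K))
            ((e₀ : E) • lam) hint d := LinearEquiv.apply_symm_apply _ _
    have h2 := congrArg Subtype.val h1
    rw [LinearEquiv.ofInjective_apply] at h2
    exact h2
  have hψ1 : ψ 1 ≠ 0 := by
    intro h0
    have := hψ 1
    rw [h0, map_zero] at this
    have h3 : (e₀ : E) • lam 1 ≠ 0 := by
      rw [Algebra.smul_def]
      exact mul_ne_zero ((map_ne_zero_iff _ (IsFractionRing.injective E K)).mpr
        (nonZeroDivisors.coe_ne_zero e₀)) hlam1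
    exact h3 this.symm
  refine ⟨ψ, ?_⟩
  intro d hd
  by_contra hd0
  have hint' : IsIntegral E d := Algebra.IsIntegral.isIntegral d
  have hne := Ideal.comap_ne_bot_of_integral_mem (R := E) (I := Ideal.span {d}) hd0
    (Ideal.mem_span_singleton_self d) hint'
  obtain ⟨e, he, he0⟩ := Submodule.exists_mem_ne_zero_of_ne_bot hne
  rw [Ideal.mem_comap, Ideal.mem_span_singleton'] at he
  obtain ⟨x₀, hx₀⟩ := he
  apply hψ1
  have h1 : ψ (algebraMap E D e * 1) = 0 := by
    rw [← hx₀, mul_comm x₀ d, mul_assoc]
    exact hd _
  rw [mul_one, Algebra.algebraMap_eq_smul_one, map_smul, smul_eq_mul] at h1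
  exact (mul_eq_zero.mp h1).resolve_left he0

end Functional

section Omega

variable {A C : Type u} [CommRing A] [CommRing C] [Algebra A C] [IsNoetherianRing A]
  [Module.Finite A C]

theorem isNoetherianRing_of_finite (A C : Type u) [CommRing A] [CommRing C] [Algebra A C]
    [IsNoetherianRing A] [Module.Finite A C] : IsNoetherianRing C :=
  isNoetherian_of_tower A (isNoetherian_of_isNoetherianRing_of_finite A C)

/-- Associated primes of `Hom_A(C, A)` as a `C`-module, for `C` finite over a Noetherian ring. -/
theorem mem_associatedPrimes_omega_iff (q' : Ideal C) :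
    q' ∈ associatedPrimes C (Disc.Omega A C) ↔
      q'.IsPrime ∧ q'.comap (algebraMap A C) ∈ associatedPrimes A A := by
  have hC : IsNoetherianRing C := isNoetherianRing_of_finite A C
  constructor
  · intro hq
    obtain ⟨hprime, φ, hφ⟩ := (isAssociatedPrime_iff (M := Disc.Omega A C)).mp hq
    refine ⟨hprime, ?_⟩
    have hpprime : (q'.comap (algebraMap A C)).IsPrime := Ideal.comap_isPrime _ _
    have hann : q'.comap (algebraMap A C) =
        Module.annihilator A (LinearMap.range φ.toLinearMap) := by
      ext a
      rw [Ideal.mem_comap, hφ, Submodule.mem_colon_singleton, Submodule.mem_bot,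
        Module.mem_annihilator]
      constructor
      · rintro h ⟨_, x, rfl⟩
        apply Subtype.ext
        have := congrArg (fun ω => ω.toLinearMap x) h
        simp only [Disc.Omega.smul_toLinearMap_apply, Disc.Omega.zero_toLinearMap,
          LinearMap.zero_apply] at this
        rw [← Algebra.smul_def, map_smul] at this
        exact this
      · intro h
        apply Disc.Omega.ext
        ext x
        rw [Disc.Omega.smul_toLinearMap_apply, ← Algebra.smul_def, map_smul,
          Disc.Omega.zero_toLinearMap, LinearMap.zero_apply]
        exact congrArg Subtype.val (h ⟨_, x, rfl⟩)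
    have hmin : q'.comap (algebraMap A C) ∈
        (Module.annihilator A (LinearMap.range φ.toLinearMap)).minimalPrimes := by
      rw [← hann, Ideal.minimalPrimes_eq_subsingleton_self]
      rfl
    have h1 := Module.associatedPrimes.minimalPrimes_annihilator_subset_associatedPrimes A
      (LinearMap.range φ.toLinearMap) hmin
    exact associatedPrimes.subset_of_injective
      (f := (LinearMap.range φ.toLinearMap).subtype) (Submodule.subtype_injective _) h1
  · rintro ⟨hprime, hp⟩
    have hpprime : (q'.comap (algebraMap A C)).IsPrime := Ideal.comap_isPrime _ _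
    obtain ⟨-, y, hy⟩ := (isAssociatedPrime_iff (M := A)).mp hp
    have hfinD : Module.Finite (A ⧸ q'.comap (algebraMap A C)) (C ⧸ q') :=
      Module.Finite.of_restrictScalars_finite A _ _
    obtain ⟨ψ, hψ⟩ := exists_functional (A ⧸ q'.comap (algebraMap A C)) (C ⧸ q')
      Ideal.algebraMap_quotient_injective
    have hle : q'.comap (algebraMap A C) ≤
        LinearMap.ker (LinearMap.toSpanSingleton A A y) := by
      intro a ha
      rw [hy, Submodule.mem_colon_singleton, Submodule.mem_bot] at ha
      rw [LinearMap.mem_ker, LinearMap.toSpanSingleton_apply]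
      exact ha
    have hker : LinearMap.ker (LinearMap.toSpanSingleton A A y) ≤
        q'.comap (algebraMap A C) := by
      intro a ha
      rw [LinearMap.mem_ker, LinearMap.toSpanSingleton_apply] at ha
      rw [hy, Submodule.mem_colon_singleton, Submodule.mem_bot]
      exact ha
    let ιy : (A ⧸ q'.comap (algebraMap A C)) →ₗ[A] A :=
      Submodule.liftQ _ (LinearMap.toSpanSingleton A A y) hle
    have hιy : Function.Injective ιy := by
      rw [← LinearMap.ker_eq_bot]
      exact Submodule.ker_liftQ_eq_bot _ _ _ hker
    let φ₀ : C →ₗ[A] A :=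
      ιy ∘ₗ (ψ.restrictScalars A) ∘ₗ (Ideal.Quotient.mkₐ A q').toLinearMap
    rw [AssociatedPrimes.mem_iff, isAssociatedPrime_iff]
    refine ⟨hprime, ⟨φ₀⟩, ?_⟩
    ext c
    rw [Submodule.mem_colon_singleton, Submodule.mem_bot]
    constructor
    · intro hc
      apply Disc.Omega.ext
      ext x
      rw [Disc.Omega.smul_toLinearMap_apply, Disc.Omega.zero_toLinearMap, LinearMap.zero_apply]
      show ιy (ψ (Ideal.Quotient.mk q' (c * x))) = 0
      rw [map_mul, Ideal.Quotient.eq_zero_iff_mem.mpr hc, zero_mul, map_zero, map_zero]
    · intro hc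
      rw [← Ideal.Quotient.eq_zero_iff_mem]
      apply hψ
      intro x
      obtain ⟨x, rfl⟩ := Ideal.Quotient.mk_surjective x
      have := congrArg (fun ω => ω.toLinearMap x) hc
      simp only [Disc.Omega.smul_toLinearMap_apply, Disc.Omega.zero_toLinearMap,
        LinearMap.zero_apply] at this
      have h2 : ιy (ψ (Ideal.Quotient.mk q' (c * x))) = 0 := this
      rw [map_mul] at h2
      exact hιy (h2.trans (map_zero _).symm)

end Omega

end Groth.Agent.Lib.Helper28.QFAss
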