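import Mathlib
import Groth.Prelude.Def_QFDual
import Groth.Agent.Lib.Helper28QFAss
import Groth.Agent.Lib.Helper13QFBC10

set_option autoImplicit false
set_option maxSynthPendingDepth 3
set_option linter.style.haveILetI false
universe u
open TensorProduct

namespace Groth.Agent.Helper13QFBC

open Groth.Agent.Helper13QFOmega

section Loc

variable {X Y Z : Type u} [CommRing X] [CommRing Y] [CommRing Z] [Algebra X Y] [Algebra X Z]
  [Algebra Y Z] [IsScalarTower X Y Z] (P : Ideal Z) [P.IsPrime]

/-- scalar towers pass to the localization -/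
theorem tower_loc : IsScalarTower X Y (Localization.AtPrime P) :=
  IsScalarTower.of_algebraMap_eq fun x => by
    rw [IsScalarTower.algebraMap_apply X Z (Localization.AtPrime P),
      IsScalarTower.algebraMap_apply Y Z (Localization.AtPrime P),
      ← IsScalarTower.algebraMap_apply X Y Z]

end Loc

section Global

variable {A A₁ B' B'₁ : Type u} [CommRing A] [CommRing A₁] [CommRing B'] [CommRing B'₁]
  [Algebra A B'] [Algebra A A₁] [Algebra B' B'₁] [Algebra A₁ B'₁] [Algebra A B'₁]
  [IsScalarTower A A₁ B'₁] [IsScalarTower A B' B'₁]
  {B₁ : Type u} [CommRing B₁] [Algebra B'₁ B₁] [Algebra B' B₁] [IsScalarTower B' B'₁ B₁]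

/-- the base change map is bijective as soon as it is so after localizing the test algebra at
every maximal ideal. -/
theorem omegaBC_bijective_of_forall_maximal (h : Algebra.IsPushout A A₁ B' B'₁)
    (H : ∀ (P : Ideal B₁) [P.IsMaximal],
      haveI : IsScalarTower B' B'₁ (Localization.AtPrime P) := tower_loc P
      Function.Bijective (QFDual.omegaBC (B₁ := Localization.AtPrime P) h)) :
    Function.Bijective (QFDual.omegaBC (B₁ := B₁) h) := by
  refine bijective_of_isLocalized_maximal
    (fun P _ => QFDual.omega A B' (Localization.AtPrime P))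
    (fun P _ => TensorProduct.AlgebraTensorModule.rTensor B' (Disc.Omega A B')
      (Algebra.linearMap B₁ (Localization.AtPrime P)))
    (fun P _ => QFDual.omega A₁ B'₁ (Localization.AtPrime P))
    (fun P _ => TensorProduct.AlgebraTensorModule.rTensor B'₁ (Disc.Omega A₁ B'₁)
      (Algebra.linearMap B₁ (Localization.AtPrime P)))
    (QFDual.omegaBC (B₁ := B₁) h) ?_
  intro P hP
  haveI : IsScalarTower B' B'₁ (Localization.AtPrime P) := tower_loc P
  have hb := H P
  have heq : IsLocalizedModule.map P.primeCompl
      (TensorProduct.AlgebraTensorModule.rTensor B' (Disc.Omega A B')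
        (Algebra.linearMap B₁ (Localization.AtPrime P)))
      (TensorProduct.AlgebraTensorModule.rTensor B'₁ (Disc.Omega A₁ B'₁)
        (Algebra.linearMap B₁ (Localization.AtPrime P)))
      (QFDual.omegaBC (B₁ := B₁) h) =
      (QFDual.omegaBC (B₁ := Localization.AtPrime P) h).restrictScalars B₁ := by
    apply IsLocalizedModule.linearMap_ext P.primeCompl
      (TensorProduct.AlgebraTensorModule.rTensor B' (Disc.Omega A B')
        (Algebra.linearMap B₁ (Localization.AtPrime P)))
      (TensorProduct.AlgebraTensorModule.rTensor B'₁ (Disc.Omega A₁ B'₁)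
        (Algebra.linearMap B₁ (Localization.AtPrime P)))
    rw [IsLocalizedModule.map_comp]
    apply TensorProduct.AlgebraTensorModule.ext
    intro b φ
    rfl
  rw [heq]
  exact hb

end Global

end Groth.Agent.Helper13QFBC
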