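import Mathlib
import Groth.Prelude.Def_QFDual
import Groth.Agent.Lib.Helper28QFAss
import Groth.Agent.Lib.Helper13QFBC11

set_option autoImplicit false
set_option maxSynthPendingDepth 3
set_option linter.style.haveILetI false
universe u
open TensorProduct AlgebraicGeometry

namespace Groth.Agent.Helper13QFBC

open Groth.Agent.Helper13QFOmega

/-- base change of the relative dualizing module of a flat quasi-finite map, for an arbitrary
test algebra `B₁` receiving `B`. -/
theorem omegaBC_bijective_of_flat (A B' B A₁ B'₁ B₁ : Type u) [CommRing A] [CommRing B']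
    [CommRing B] [CommRing A₁] [CommRing B'₁] [CommRing B₁] [IsNoetherianRing A]
    [Algebra A B'] [Algebra B' B] [Algebra A B] [IsScalarTower A B' B] [Module.Flat A B]
    (hf : QFDual.IsQFFactor A B' B) [Algebra A A₁] [Algebra B' B'₁] [Algebra A₁ B'₁]
    [Algebra A B'₁] [IsScalarTower A A₁ B'₁] [IsScalarTower A B' B'₁]
    (h : Algebra.IsPushout A A₁ B' B'₁) [Algebra B B₁] [Algebra A₁ B₁] [Algebra A B₁]
    [IsScalarTower A A₁ B₁] [IsScalarTower A B B₁]
    [Algebra B'₁ B₁] [Algebra B' B₁] [IsScalarTower B' B'₁ B₁] [IsScalarTower B' B B₁]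
    [IsScalarTower A₁ B'₁ B₁] :
    Function.Bijective (QFDual.omegaBC (B₁ := B₁) h) := by
  haveI : Module.Finite A B' := hf.finite
  have hopen := hf.isOpenImmersion
  haveI tAB'B₁ : IsScalarTower A B' B₁ := IsScalarTower.of_algebraMap_eq fun a => by
    rw [IsScalarTower.algebraMap_apply A B B₁, IsScalarTower.algebraMap_apply A B' B,
      ← IsScalarTower.algebraMap_apply B' B B₁]
  haveI tAB'₁B₁ : IsScalarTower A B'₁ B₁ := IsScalarTower.of_algebraMap_eq fun a => by
    rw [IsScalarTower.algebraMap_apply A A₁ B₁, IsScalarTower.algebraMap_apply A₁ B'₁ B₁,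
      ← IsScalarTower.algebraMap_apply A A₁ B'₁]
  refine omegaBC_bijective_of_forall_maximal h ?_
  intro P hP
  haveI hq : (P.comap (algebraMap B B₁)).IsPrime := Ideal.comap_isPrime _ _
  haveI hq' : ((P.comap (algebraMap B B₁)).comap (algebraMap B' B)).IsPrime :=
    Ideal.comap_isPrime _ _
  have hqq : (P.comap (algebraMap B B₁)).comap (algebraMap B' B) =
      P.comap (algebraMap B' B₁) := by
    rw [Ideal.comap_comap, ← IsScalarTower.algebraMap_eq]
  haveI : IsScalarTower B' B'₁ (Localization.AtPrime P) := tower_loc P
  haveI : IsScalarTower A B' (Localization.AtPrime P) := tower_loc P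
  haveI : IsScalarTower A₁ B'₁ (Localization.AtPrime P) := tower_loc P
  haveI : IsScalarTower A A₁ (Localization.AtPrime P) := tower_loc P
  haveI : IsScalarTower A B'₁ (Localization.AtPrime P) := tower_loc P
  letI algTT : Algebra (Localization.AtPrime ((P.comap (algebraMap B B₁)).comap (algebraMap B' B)))
      (Localization.AtPrime P) :=
    (Localization.localRingHom ((P.comap (algebraMap B B₁)).comap (algebraMap B' B)) P
      (algebraMap B' B₁) hqq).toAlgebra
  haveI : IsScalarTower B'
      (Localization.AtPrime ((P.comap (algebraMap B B₁)).comap (algebraMap B' B)))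
      (Localization.AtPrime P) := IsScalarTower.of_algebraMap_eq fun x => by
    show _ = Localization.localRingHom ((P.comap (algebraMap B B₁)).comap (algebraMap B' B)) P
      (algebraMap B' B₁) hqq (algebraMap B' _ x)
    rw [Localization.localRingHom_to_map, ← IsScalarTower.algebraMap_apply]
  -- flatness of the local model
  haveI : IsLocalization.AtPrime (Localization.AtPrime (P.comap (algebraMap B B₁)))
      ((P.comap (algebraMap B B₁)).comap (algebraMap B' B)) :=
    Groth.Agent.Lib.Helper28.QFAss.isLocalization_atPrime_of_isOpenImmersion hopen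
      (P.comap (algebraMap B B₁))
  haveI : IsScalarTower A B' (Localization.AtPrime (P.comap (algebraMap B B₁))) :=
    tower_loc (P.comap (algebraMap B B₁))
  haveI : Module.Flat A (Localization.AtPrime (P.comap (algebraMap B B₁))) :=
    Module.Flat.trans A B (Localization.AtPrime (P.comap (algebraMap B B₁)))
  haveI : Module.Flat (RR A B' ((P.comap (algebraMap B B₁)).comap (algebraMap B' B)))
      (CC A B' ((P.comap (algebraMap B B₁)).comap (algebraMap B' B))) :=
    flat_CC A B' ((P.comap (algebraMap B B₁)).comap (algebraMap B' B))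
      (Localization.AtPrime (P.comap (algebraMap B B₁)))
  haveI : Algebra.IsPushout A A₁ B' B'₁ := h
  exact omegaBC_bijective_local A B' ((P.comap (algebraMap B B₁)).comap (algebraMap B' B))
    A₁ B'₁ (Localization.AtPrime P)

end Groth.Agent.Helper13QFBC
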