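import Mathlib
import Groth.Agent.Lib.Helper26FibFlat

set_option autoImplicit false
set_option linter.style.haveILetI false
universe u
open TensorProduct

namespace Groth.Agent.Helper13QFInv

/-- localizing (or tensoring with any flat `B`-algebra) preserves flatness over the base `A`. -/
theorem flat_tensor_of_flat (A B T M : Type u) [CommRing A] [CommRing B] [CommRing T]
    [Algebra A B] [Algebra B T] [Algebra A T] [IsScalarTower A B T] [Module.Flat B T]
    [AddCommGroup M] [Module A M] [Module B M] [IsScalarTower A B M] [Module.Flat A M] :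
    Module.Flat A (T ⊗[B] M) := by
  rw [Module.Flat.iff_lTensor_preserves_injective_linearMap]
  intro P P' _ _ _ _ f hf
  let α : ∀ (Q : Type u) [AddCommGroup Q] [Module A Q],
      (T ⊗[B] M) ⊗[A] Q ≃ₗ[B] T ⊗[B] (M ⊗[A] Q) :=
    fun Q _ _ => TensorProduct.AlgebraTensorModule.assoc A B B T M Q
  let g : M ⊗[A] P →ₗ[B] M ⊗[A] P' := TensorProduct.AlgebraTensorModule.lTensor B M f
  have hg : Function.Injective g :=
    Module.Flat.lTensor_preserves_injective_linearMap (M := M) f hf
  have hcomm : (α P').toLinearMap.restrictScalars A ∘ₗ LinearMap.lTensor (T ⊗[B] M) f =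
      (LinearMap.lTensor T g).restrictScalars A ∘ₗ (α P).toLinearMap.restrictScalars A := by
    apply LinearMap.ext
    intro z
    induction z using TensorProduct.induction_on with
    | zero => simp
    | add x y hx hy => rw [map_add, map_add, hx, hy]
    | tmul tm x =>
      induction tm using TensorProduct.induction_on with
      | zero => simp
      | add a b ha hb => rw [add_tmul, map_add, map_add, ha, hb]
      | tmul t m => simp [α, g]
  have h1 : Function.Injective
      ((α P').toLinearMap.restrictScalars A ∘ₗ LinearMap.lTensor (T ⊗[B] M) f) := by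
    rw [hcomm]
    exact (Module.Flat.lTensor_preserves_injective_linearMap (M := T) g hg).comp (α P).injective
  exact Function.Injective.of_comp (f := (α P')) h1

/-- local form of the fibrewise criterion of invertibility. -/
theorem nonempty_linearEquiv_of_fibre (R T N : Type u) [CommRing R] [CommRing T] [IsLocalRing R]
    [IsLocalRing T] [IsNoetherianRing T] [Algebra R T] [IsLocalHom (algebraMap R T)]
    [AddCommGroup N] [Module R N] [Module T N] [IsScalarTower R T N] [Module.Finite T N]
    [Module.Flat R N]
    (h : Module.Invertible (T ⧸ (IsLocalRing.maximalIdeal R).map (algebraMap R T))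
      ((T ⧸ (IsLocalRing.maximalIdeal R).map (algebraMap R T)) ⊗[T] N)) :
    Nonempty (N ≃ₗ[T] T) := by
  have hne : (IsLocalRing.maximalIdeal R).map (algebraMap R T) ≠ ⊤ :=
    (IsLocalRing.map_maximalIdeal_lt_top (algebraMap R T)).ne
  haveI : Nontrivial (T ⧸ (IsLocalRing.maximalIdeal R).map (algebraMap R T)) :=
    Ideal.Quotient.nontrivial_iff.2 hne
  haveI : Module.Flat T N :=
    Groth.Agent.Lib.Helper26.FibFlat.flat_of_flat_fibre (A := R) (B := T)
      (B' := T ⧸ (IsLocalRing.maximalIdeal R).map (algebraMap R T)) (M := N)
      Ideal.Quotient.mk_surjective Ideal.mk_ker inferInstance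
  haveI : Module.Free T N := Module.free_of_flat_of_isLocalRing
  have h1 : Module.finrank (T ⧸ (IsLocalRing.maximalIdeal R).map (algebraMap R T))
      ((T ⧸ (IsLocalRing.maximalIdeal R).map (algebraMap R T)) ⊗[T] N) = Module.finrank T N :=
    Module.finrank_baseChange
  have h2 : Module.finrank (T ⧸ (IsLocalRing.maximalIdeal R).map (algebraMap R T))
      ((T ⧸ (IsLocalRing.maximalIdeal R).map (algebraMap R T)) ⊗[T] N) = 1 :=
    Module.Invertible.finrank_eq_one _ _
  have h3 : Module.finrank T N = Module.finrank T T := by
    rw [← h1, h2, Module.finrank_self]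
  exact FiniteDimensional.nonempty_linearEquiv_of_finrank_eq h3

end Groth.Agent.Helper13QFInv
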