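import Mathlib
import Groth.Agent.Lib.Helper13QFInv1
import Groth.Agent.Lib.Helper13QFOmega14

set_option autoImplicit false
set_option linter.style.haveILetI false
universe u
open TensorProduct

namespace Groth.Agent.Helper13QFInv

attribute [local instance] Algebra.TensorProduct.rightAlgebra

section Local

variable (A B M : Type u) [CommRing A] [CommRing B] [IsNoetherianRing B]
    [Algebra A B] [AddCommGroup M] [Module A M] [Module B M] [IsScalarTower A B M]
    [Module.Finite B M] [Module.Flat A M] (q : Ideal B) [q.IsPrime]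

local notation "pp" => Ideal.comap (algebraMap A B) q
local notation "Ap" => Localization.AtPrime (Ideal.comap (algebraMap A B) q)
local notation "Tq" => Localization.AtPrime q

instance isPrime_pp : (Ideal.comap (algebraMap A B) q).IsPrime := Ideal.comap_isPrime _ _

/-- the local homomorphism `A_p → B_q`. -/
noncomputable def algApT : Algebra Ap Tq :=
  (Localization.localRingHom (Ideal.comap (algebraMap A B) q) q (algebraMap A B) rfl).toAlgebra

attribute [local instance] algApT

instance isLocalHom_ApT : IsLocalHom (algebraMap Ap Tq) :=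
  Localization.isLocalHom_localRingHom _ _ _ rfl

instance tower_ApT : IsScalarTower A Ap Tq := IsScalarTower.of_algebraMap_eq fun a => by
  change _ = Localization.localRingHom _ _ _ _ (algebraMap A _ a)
  rw [Localization.localRingHom_to_map, ← IsScalarTower.algebraMap_apply]

instance smulComm_ApT : SMulCommClass B Ap Tq := ⟨fun b a t => by
  simp only [Algebra.smul_def]
  ring⟩

set_option maxHeartbeats 1000000 in
/-- local form: `B_q ⊗_B M` is free of rank one. -/
theorem nonempty_equiv_at_prime
    (h : Module.Invertible ((Ideal.comap (algebraMap A B) q).ResidueField ⊗[A] B)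
      (((Ideal.comap (algebraMap A B) q).ResidueField ⊗[A] B) ⊗[B] M)) :
    Nonempty (Tq ⊗[B] M ≃ₗ[Tq] Tq) := by
  haveI : Module.Flat A (Tq ⊗[B] M) := flat_tensor_of_flat A B Tq M
  haveI : Module.Flat Ap (Tq ⊗[B] M) :=
    (Module.flat_iff_of_isLocalization Ap (Ideal.comap (algebraMap A B) q).primeCompl
      (Tq ⊗[B] M)).2 inferInstance
  apply nonempty_linearEquiv_of_fibre Ap Tq (Tq ⊗[B] M)
  -- the fibre ring
  letI algκ : Algebra (Ideal.comap (algebraMap A B) q).ResidueField
      (Tq ⧸ (IsLocalRing.maximalIdeal Ap).map (algebraMap Ap Tq)) :=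
    Ideal.Quotient.algebraQuotientMapQuotient (p := IsLocalRing.maximalIdeal Ap) (S := Tq)
  haveI tκ : IsScalarTower A (Ideal.comap (algebraMap A B) q).ResidueField
      (Tq ⧸ (IsLocalRing.maximalIdeal Ap).map (algebraMap Ap Tq)) :=
    IsScalarTower.of_algebraMap_eq fun a => by
      change Ideal.Quotient.mk _ (algebraMap A Tq a) =
        Ideal.Quotient.mk _ (algebraMap Ap Tq (algebraMap A Ap a))
      rw [← IsScalarTower.algebraMap_apply]
  let φ : (Ideal.comap (algebraMap A B) q).ResidueField ⊗[A] B →ₐ[A]
      (Tq ⧸ (IsLocalRing.maximalIdeal Ap).map (algebraMap Ap Tq)) :=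
    Algebra.TensorProduct.lift (IsScalarTower.toAlgHom A _ _) (IsScalarTower.toAlgHom A B _)
      (fun _ _ => Commute.all _ _)
  letI algφ : Algebra ((Ideal.comap (algebraMap A B) q).ResidueField ⊗[A] B)
      (Tq ⧸ (IsLocalRing.maximalIdeal Ap).map (algebraMap Ap Tq)) := φ.toRingHom.toAlgebra
  haveI tφ : IsScalarTower B ((Ideal.comap (algebraMap A B) q).ResidueField ⊗[A] B)
      (Tq ⧸ (IsLocalRing.maximalIdeal Ap).map (algebraMap Ap Tq)) :=
    IsScalarTower.of_algebraMap_eq fun b => by
      change _ = φ (1 ⊗ₜ[A] b)
      rw [Algebra.TensorProduct.lift_tmul, map_one, one_mul]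
      rfl
  haveI := h
  exact Module.Invertible.congr
    ((TensorProduct.AlgebraTensorModule.cancelBaseChange B
      ((Ideal.comap (algebraMap A B) q).ResidueField ⊗[A] B)
      (Tq ⧸ (IsLocalRing.maximalIdeal Ap).map (algebraMap Ap Tq))
      (Tq ⧸ (IsLocalRing.maximalIdeal Ap).map (algebraMap Ap Tq)) M).trans
    (TensorProduct.AlgebraTensorModule.cancelBaseChange B Tq
      (Tq ⧸ (IsLocalRing.maximalIdeal Ap).map (algebraMap Ap Tq))
      (Tq ⧸ (IsLocalRing.maximalIdeal Ap).map (algebraMap Ap Tq)) M).symm)

end Local

/-- **fibrewise criterion of invertibility**: a finite module over a Noetherian `A`-algebra `B`,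
flat over `A`, whose restriction to every fibre `κ(p) ⊗_A B` is invertible, is invertible. -/
theorem invertible_of_fibres (A B M : Type u) [CommRing A] [CommRing B] [IsNoetherianRing B]
    [Algebra A B] [AddCommGroup M] [Module A M] [Module B M] [IsScalarTower A B M]
    [Module.Finite B M] [Module.Flat A M]
    (h : ∀ (p : Ideal A) [p.IsPrime],
      Module.Invertible (p.ResidueField ⊗[A] B) ((p.ResidueField ⊗[A] B) ⊗[B] M)) :
    Module.Invertible B M := by
  haveI : Module.FinitePresentation B M := Module.finitePresentation_of_finite B M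
  apply Groth.Agent.Helper13QFOmega.invertible_of_forall_prime
  intro q hq
  exact nonempty_equiv_at_prime A B M q (h _)

end Groth.Agent.Helper13QFInv
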