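import Mathlib

set_option autoImplicit false
universe u
open TensorProduct

namespace Groth.Agent.Helper13QFOmega

/-- descent of "free of rank one" along a flat local homomorphism of local rings. -/
theorem nonempty_linearEquiv_of_tensor {T C : Type u} [CommRing T] [CommRing C] [IsLocalRing T]
    [IsLocalRing C] [Algebra T C] [Module.Flat T C] [IsLocalHom (algebraMap T C)]
    (N : Type u) [AddCommGroup N] [Module T N] [Module.Finite T N]
    (h : Nonempty (C ⊗[T] N ≃ₗ[C] C)) : Nonempty (N ≃ₗ[T] T) := by
  obtain ⟨e⟩ := h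
  haveI : Module.FaithfullyFlat T C := Module.FaithfullyFlat.of_flat_of_isLocalHom
  haveI : Module.Flat C (C ⊗[T] N) := Module.Flat.of_linearEquiv e
  haveI : Module.Flat T N := Module.Flat.of_flat_tensorProduct T N C
  haveI : Module.Free T N := Module.free_of_flat_of_isLocalRing
  have h1 : Module.finrank C (C ⊗[T] N) = Module.finrank T N := Module.finrank_baseChange
  have h2 : Module.finrank C (C ⊗[T] N) = 1 := by
    rw [e.finrank_eq, Module.finrank_self]
  have h3 : Module.finrank T N = Module.finrank T T := by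
    rw [← h1, h2, Module.finrank_self]
  exact FiniteDimensional.nonempty_linearEquiv_of_finrank_eq h3

/-- descent of flatness over a base ring along a faithfully flat ring map. -/
theorem flat_of_flat_tensor {A T C : Type u} [CommRing A] [CommRing T] [CommRing C] [Algebra A T]
    [Algebra T C] [Algebra A C] [IsScalarTower A T C] [Module.FaithfullyFlat T C]
    (N : Type u) [AddCommGroup N] [Module T N] [Module A N] [IsScalarTower A T N]
    (h : Module.Flat A (C ⊗[T] N)) : Module.Flat A N := by
  rw [Module.Flat.iff_lTensor_preserves_injective_linearMap]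
  intro P P' _ _ _ _ f hf
  -- `N ⊗_A f` is `T`-linear; tensor with `C`
  let g : N ⊗[A] P →ₗ[T] N ⊗[A] P' := TensorProduct.AlgebraTensorModule.lTensor T N f
  have hg : (g : N ⊗[A] P → N ⊗[A] P') = LinearMap.lTensor N f := rfl
  rw [← hg]
  rw [← Module.FaithfullyFlat.lTensor_injective_iff_injective T C]
  -- `C ⊗_T (N ⊗_A P) ≃ (C ⊗_T N) ⊗_A P`
  let α : ∀ (Q : Type u) [AddCommGroup Q] [Module A Q], C ⊗[T] (N ⊗[A] Q) ≃ₗ[T] (C ⊗[T] N) ⊗[A] Q :=
    fun Q _ _ => (TensorProduct.AlgebraTensorModule.assoc A T T C N Q).symm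
  have hcomm : (α P').toLinearMap ∘ₗ (LinearMap.lTensor C g) =
      (TensorProduct.AlgebraTensorModule.lTensor T (C ⊗[T] N) f) ∘ₗ (α P).toLinearMap := by
    ext c n x
    simp [α, g]
  have hinj : Function.Injective
      (TensorProduct.AlgebraTensorModule.lTensor T (C ⊗[T] N) f) :=
    Module.Flat.lTensor_preserves_injective_linearMap (M := C ⊗[T] N) f hf
  have h1 : Function.Injective ((α P').toLinearMap ∘ₗ (LinearMap.lTensor C g)) := by
    rw [hcomm]
    exact hinj.comp (α P).injective
  exact Function.Injective.of_comp (f := (α P')) h1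

end Groth.Agent.Helper13QFOmega
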