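import Mathlib
import Groth.Agent.Lib.Helper5GorRing

set_option autoImplicit false
universe u
open TensorProduct

namespace Groth.Agent.Helper13QFOmega

attribute [local instance] Algebra.TensorProduct.rightAlgebra

/-- the Gorenstein property of `K ⊗ X` passes to `K ⊗ Y` for a localization `Y` of `X`. -/
theorem gor_tensor_of_isLocalization {R₀ K X Y : Type u} [CommRing R₀] [CommRing K] [CommRing X]
    [CommRing Y] [Algebra R₀ K] [Algebra R₀ X] [Algebra R₀ Y] [Algebra X Y] [IsScalarTower R₀ X Y]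
    (M : Submonoid X) [IsLocalization M Y] (h : LocCoh.IsGorensteinRing (K ⊗[R₀] X)) :
    LocCoh.IsGorensteinRing (K ⊗[R₀] Y) := by
  letI alg : Algebra (K ⊗[R₀] X) (K ⊗[R₀] Y) :=
    (Algebra.TensorProduct.map (AlgHom.id K K) (IsScalarTower.toAlgHom R₀ X Y)).toRingHom.toAlgebra
  have hmap : ∀ (k : K) (x : X), algebraMap (K ⊗[R₀] X) (K ⊗[R₀] Y) (k ⊗ₜ[R₀] x) =
      k ⊗ₜ[R₀] algebraMap X Y x := fun k x => rfl
  haveI : IsScalarTower K (K ⊗[R₀] X) (K ⊗[R₀] Y) :=
    IsScalarTower.of_algebraMap_eq (R := K) (S := K ⊗[R₀] X) (A := K ⊗[R₀] Y) fun k => by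
      show k ⊗ₜ[R₀] (1 : Y) = algebraMap (K ⊗[R₀] X) (K ⊗[R₀] Y) (k ⊗ₜ[R₀] (1 : X))
      rw [hmap, map_one]
  haveI : IsLocalization (M.map (Algebra.TensorProduct.includeRight : X →ₐ[R₀] K ⊗[R₀] X))
      (K ⊗[R₀] Y) :=
    IsLocalization.tensorProduct_tensorProduct_right R₀ K M Y (by
      ext b
      simp only [RingHom.coe_comp, Function.comp_apply, AlgHom.toRingHom_eq_coe, RingHom.coe_coe,
        Algebra.TensorProduct.includeRight_apply]
      exact hmap 1 b)
  exact @Groth.Agent.Lib.Helper5.GorRing.gorRing_of_isLocalization _ _ h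
    (M.map (Algebra.TensorProduct.includeRight : X →ₐ[R₀] K ⊗[R₀] X)) (K ⊗[R₀] Y) _ _ _

end Groth.Agent.Helper13QFOmega
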