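import Mathlib
import Groth.Agent.Lib.Helper13QFOmega9
import Groth.Agent.Lib.Helper13QFOmega10
import Groth.Agent.Lib.Helper5KoszulBC

set_option autoImplicit false
universe u
open TensorProduct

namespace Groth.Agent.Helper13QFOmega

attribute [local instance] Algebra.TensorProduct.rightAlgebra

section Model

variable (A B' : Type u) [CommRing A] [CommRing B'] [IsNoetherianRing A] [Algebra A B']
  [Module.Finite A B'] (q' : Ideal B') [q'.IsPrime]
  (T : Type u) [CommRing T] [Algebra B' T] [IsLocalization.AtPrime T q']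
  [Algebra A T] [IsScalarTower A B' T]

attribute [local instance] algTC algSU algUC

instance isLocalization_UC :
    IsLocalization ((QQ A B' q').primeCompl.map (algebraMap (SS A B' q') (UU A B' q' T)))
      (CC A B' q') := by
  refine IsLocalization.isLocalization_of_submonoid_le (UU A B' q' T) (CC A B' q')
    (q'.primeCompl.map (Algebra.TensorProduct.includeRight : B' →ₐ[A] SS A B' q'))
    (QQ A B' q').primeCompl ?_
  rintro _ ⟨y, hy, rfl⟩
  intro hmem
  have : y ∈ (QQ A B' q').comap
      (Algebra.TensorProduct.includeRight : B' →ₐ[A] SS A B' q') := hmem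
  rw [QQ_comap] at this
  exact hy this

variable (B : Type u) [CommRing B] [Algebra A B] [Algebra B T] [IsScalarTower A B T]
  (MB : Submonoid B) [IsLocalization MB T] [Module.Flat A B]

include T MB in
theorem gor_fiber_CC (hl : LCI.IsLCI A B) (𝔭 : Ideal (RR A B' q')) [𝔭.IsPrime] :
    LocCoh.IsGorensteinRing (𝔭.Fiber (CC A B' q')) := by
  have h0 := Groth.Agent.Lib.Helper5.KoszulBC.gorRing_tensor_field_of_flat_isLCI A B hl
    𝔭.ResidueField
  have h1 : LocCoh.IsGorensteinRing (𝔭.ResidueField ⊗[A] B) :=
    @Groth.Agent.Lib.Helper5.GorRing.gorRing_of_ringEquiv _ _ _ _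
      (Algebra.TensorProduct.comm A B 𝔭.ResidueField).toRingEquiv h0
  have h2 : LocCoh.IsGorensteinRing (𝔭.ResidueField ⊗[A] T) :=
    gor_tensor_of_isLocalization (R₀ := A) (K := 𝔭.ResidueField) (X := B) (Y := T) MB h1
  have h3 : LocCoh.IsGorensteinRing (𝔭.ResidueField ⊗[RR A B' q'] (UU A B' q' T)) :=
    @Groth.Agent.Lib.Helper5.GorRing.gorRing_of_ringEquiv _ _ _ _
      (Algebra.TensorProduct.cancelBaseChange A (RR A B' q') (RR A B' q') 𝔭.ResidueField
        T).symm.toRingEquiv h2
  exact gor_tensor_of_isLocalization (R₀ := RR A B' q') (K := 𝔭.ResidueField)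
    (X := UU A B' q' T) (Y := CC A B' q')
    ((QQ A B' q').primeCompl.map (algebraMap (SS A B' q') (UU A B' q' T))) h3

end Model

end Groth.Agent.Helper13QFOmega
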