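import Mathlib
import Groth.Prelude.Def_QFDual
import Groth.Agent.S8958
import Groth.Agent.Lib.Helper13QFOmega2
import Groth.Agent.Lib.Helper13QFOmega6

set_option autoImplicit false
universe u
open TensorProduct

namespace Groth.Agent.Helper13QFOmega

attribute [local instance] Algebra.TensorProduct.rightAlgebra

section Model

variable (A B' : Type u) [CommRing A] [CommRing B'] [IsNoetherianRing A] [Algebra A B']
  [Module.Finite A B'] (q' : Ideal B') [q'.IsPrime]

noncomputable example : Algebra B' (CC A B' q') := inferInstance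
example : IsScalarTower B' (SS A B' q') (CC A B' q') := inferInstance
example : IsScalarTower (RR A B' q') (SS A B' q') (CC A B' q') := inferInstance

/-- the local model: `C ⊗_{B'} Hom_A(B', A) ≃ Hom_R(C, R)`. -/
theorem nonempty_CC_tensor_omega :
    Nonempty (CC A B' q' ⊗[B'] Disc.Omega A B' ≃ₗ[CC A B' q']
      Disc.Omega (RR A B' q') (CC A B' q')) := by
  have hpo : Algebra.IsPushout A (RR A B' q') B' (SS A B' q') := inferInstance
  have hbij := Groth.Agent.S8958.result A B' (RR A B' q') (SS A B' q') (CC A B' q') hpo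
  let e1 : CC A B' q' ⊗[B'] Disc.Omega A B' ≃ₗ[CC A B' q']
      CC A B' q' ⊗[SS A B' q'] Disc.Omega (RR A B' q') (SS A B' q') :=
    LinearEquiv.ofBijective (QFDual.omegaBC (B₁ := CC A B' q') hpo) hbij
  obtain ⟨e, he, hsurj, hker⟩ := exists_idem_CC A B' q'
  obtain ⟨e2⟩ := nonempty_tensor_omega_equiv (R := RR A B' q') (S := SS A B' q')
    (C := CC A B' q') e he hsurj hker
  exact ⟨e1.trans e2⟩

end Model

end Groth.Agent.Helper13QFOmega
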