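import Mathlib
import Groth.Agent.S2217
import Groth.Agent.Lib.Helper13QFOmega1
import Groth.Agent.Lib.Helper13QFOmega7
import Groth.Agent.Lib.Helper13QFOmega11

set_option autoImplicit false
universe u
open TensorProduct

namespace Groth.Agent.Helper13QFOmega

attribute [local instance] Algebra.TensorProduct.rightAlgebra

/-- `Hom_A(B', A)` is a finite `B'`-module for `A` Noetherian and `B'` finite over `A`. -/
instance finite_omega (A B' : Type u) [CommRing A] [CommRing B'] [IsNoetherianRing A]
    [Algebra A B'] [Module.Finite A B'] : Module.Finite B' (Disc.Omega A B') := by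
  classical
  haveI : Module.Finite A (B' →ₗ[A] A) := inferInstance
  obtain ⟨s, hs⟩ := (Module.finite_def (R := A) (M := B' →ₗ[A] A)).1 inferInstance
  refine ⟨⟨s.image (fun φ => (⟨φ⟩ : Disc.Omega A B')), ?_⟩⟩
  rw [eq_top_iff]
  rintro ⟨φ⟩ -
  have hφ : φ ∈ Submodule.span A (s : Set (B' →ₗ[A] A)) := by rw [hs]; trivial
  induction hφ using Submodule.span_induction with
  | mem x hx =>
    apply Submodule.subset_span
    rw [Finset.coe_image]
    exact ⟨x, hx, rfl⟩
  | zero => exact Submodule.zero_mem _
  | add x y _ _ hx hy => exact Submodule.add_mem _ hx hy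
  | smul a x _ hx =>
    have : (⟨a • x⟩ : Disc.Omega A B') = algebraMap A B' a • (⟨x⟩ : Disc.Omega A B') := by
      apply Disc.Omega.ext
      ext y
      show a • x y = x (algebraMap A B' a * y)
      rw [← Algebra.smul_def, map_smul]
    rw [this]
    exact Submodule.smul_mem _ _ hx

section Model

variable (A B' : Type u) [CommRing A] [CommRing B'] [IsNoetherianRing A] [Algebra A B']
  [Module.Finite A B'] (q' : Ideal B') [q'.IsPrime]
  (T : Type u) [CommRing T] [Algebra B' T] [IsLocalization.AtPrime T q']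
  [Algebra A T] [IsScalarTower A B' T]

attribute [local instance] algTC algSU algUC

/-- the comparison `C ⊗_T (T ⊗_{B'} ω') ≃ Hom_R(C, R)`. -/
theorem nonempty_CC_tensor_T_omega :
    Nonempty (CC A B' q' ⊗[T] (T ⊗[B'] Disc.Omega A B') ≃ₗ[CC A B' q']
      Disc.Omega (RR A B' q') (CC A B' q')) := by
  obtain ⟨e⟩ := nonempty_CC_tensor_omega A B' q'
  exact ⟨(TensorProduct.AlgebraTensorModule.cancelBaseChange B' T (CC A B' q') (CC A B' q')
    (Disc.Omega A B')).trans e⟩

variable (B : Type u) [CommRing B] [Algebra A B] [Algebra B T] [IsScalarTower A B T]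
  (MB : Submonoid B) [IsLocalization MB T] [Module.Flat A B]

include T MB in
theorem nonempty_omega_CC_equiv [Module.Flat A T] (hl : LCI.IsLCI A B) :
    Nonempty (Disc.Omega (RR A B' q') (CC A B' q') ≃ₗ[CC A B' q'] CC A B' q') := by
  haveI := flat_CC A B' q' T
  haveI : Module.Free (RR A B' q') (CC A B' q') :=
    @Module.free_of_flat_of_isLocalRing (RR A B' q') (CC A B' q') _ _ _ _ (finite_CC A B' q')
      (flat_CC A B' q' T)
  haveI hinv : Module.Invertible (CC A B' q') (Disc.Omega (RR A B' q') (CC A B' q')) :=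
    Groth.Agent.S2217.result.1 (fun 𝔭 _ => gor_fiber_CC A B' q' T B MB hl 𝔭)
  haveI : Module.Free (CC A B' q') (Disc.Omega (RR A B' q') (CC A B' q')) := inferInstance
  exact Module.Invertible.free_iff_linearEquiv.1 inferInstance

include q' MB in
/-- the local freeness of the relative dualizing module. -/
theorem nonempty_T_tensor_omega_equiv [Module.Flat A T] (hl : LCI.IsLCI A B) :
    Nonempty (T ⊗[B'] Disc.Omega A B' ≃ₗ[T] T) := by
  haveI := IsLocalization.AtPrime.isLocalRing T q'
  obtain ⟨e1⟩ := nonempty_CC_tensor_T_omega A B' q' T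
  obtain ⟨e2⟩ := nonempty_omega_CC_equiv A B' q' T B MB hl
  exact nonempty_linearEquiv_of_tensor (T := T) (C := CC A B' q') (T ⊗[B'] Disc.Omega A B')
    ⟨e1.trans e2⟩

end Model

end Groth.Agent.Helper13QFOmega
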