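import Mathlib
import Groth.Agent.Lib.Helper13QFOmega12

set_option autoImplicit false
universe u
open TensorProduct

namespace Groth.Agent.Helper13QFOmega

attribute [local instance] Algebra.TensorProduct.rightAlgebra

section Model

variable (A B' : Type u) [CommRing A] [CommRing B'] [IsNoetherianRing A] [Algebra A B']
  [Module.Finite A B'] (q' : Ideal B') [q'.IsPrime]
  (T : Type u) [CommRing T] [Algebra B' T] [IsLocalization.AtPrime T q']
  [Algebra A T] [IsScalarTower A B' T]

attribute [local instance] algTC algSU algUC

include q' in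
/-- flatness over `A` of the local relative dualizing module. -/
theorem flat_T_tensor_omega [Module.Flat A T] : Module.Flat A (T ⊗[B'] Disc.Omega A B') := by
  haveI := IsLocalization.AtPrime.isLocalRing T q'
  haveI : Module.FaithfullyFlat T (CC A B' q') :=
    @Module.FaithfullyFlat.of_flat_of_isLocalHom T (CC A B' q') _ _ _ _ _ (flat_TC A B' q' T)
      (isLocalHom_TC A B' q' T)
  haveI hflat := flat_CC A B' q' T
  haveI hfree : Module.Free (RR A B' q') (CC A B' q') :=
    @Module.free_of_flat_of_isLocalRing (RR A B' q') (CC A B' q') _ _ _ _ (finite_CC A B' q')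
      (flat_CC A B' q' T)
  -- module structures on `ω_{C/R}`
  letI mR : Module (RR A B' q') (Disc.Omega (RR A B' q') (CC A B' q')) :=
    Module.compHom _ (algebraMap (RR A B' q') (CC A B' q'))
  letI mA : Module A (Disc.Omega (RR A B' q') (CC A B' q')) :=
    Module.compHom _ (algebraMap A (CC A B' q'))
  haveI tA : IsScalarTower A (CC A B' q') (Disc.Omega (RR A B' q') (CC A B' q')) :=
    ⟨fun a c φ => by
      show (a • c) • φ = algebraMap A (CC A B' q') a • (c • φ)
      rw [Algebra.smul_def, mul_smul]⟩
  haveI tAR : IsScalarTower A (RR A B' q') (Disc.Omega (RR A B' q') (CC A B' q')) :=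
    ⟨fun a r φ => by
      show algebraMap (RR A B' q') (CC A B' q') (a • r) • φ =
        algebraMap A (CC A B' q') a • (algebraMap (RR A B' q') (CC A B' q') r • φ)
      rw [Algebra.smul_def, map_mul, mul_smul, ← IsScalarTower.algebraMap_apply]⟩
  -- `ω_{C/R}` is the `R`-dual of `C`
  let d : Disc.Omega (RR A B' q') (CC A B' q') ≃ₗ[RR A B' q']
      (CC A B' q' →ₗ[RR A B' q'] RR A B' q') :=
    { toFun := fun φ => φ.toLinearMap
      invFun := fun l => ⟨l⟩
      left_inv := fun φ => rfl
      right_inv := fun l => rfl
      map_add' := fun φ ψ => rfl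
      map_smul' := fun r φ => by
        apply LinearMap.ext
        intro x
        show φ.toLinearMap (algebraMap (RR A B' q') (CC A B' q') r * x) = r • φ.toLinearMap x
        rw [← Algebra.smul_def, map_smul] }
  haveI : Module.Flat (RR A B' q') (Disc.Omega (RR A B' q') (CC A B' q')) :=
    Module.Flat.of_linearEquiv d
  haveI : Module.Flat A (Disc.Omega (RR A B' q') (CC A B' q')) :=
    Module.Flat.trans A (RR A B' q') _
  obtain ⟨e1⟩ := nonempty_CC_tensor_T_omega A B' q' T
  have h : Module.Flat A (CC A B' q' ⊗[T] (T ⊗[B'] Disc.Omega A B')) :=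
    Module.Flat.of_linearEquiv (e1.restrictScalars A)
  exact flat_of_flat_tensor (A := A) (T := T) (C := CC A B' q') (T ⊗[B'] Disc.Omega A B') h

end Model

end Groth.Agent.Helper13QFOmega
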