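import Mathlib
import Groth.Prelude.Def_QFDual
import Groth.Agent.Lib.Helper28QFAss
import Groth.Agent.Lib.Helper13QFOmega13

set_option autoImplicit false
universe u
open TensorProduct AlgebraicGeometry

namespace Groth.Agent.Helper13QFOmega

/-- the relative dualizing module of a flat quasi-finite map is flat over the base. -/
theorem flat_omega_of_flat (A B B' : Type u) [CommRing A] [CommRing B] [CommRing B']
    [IsNoetherianRing A] [Algebra A B] [Module.Flat A B] [Algebra A B'] [Algebra B' B]
    [IsScalarTower A B' B] [Module.Finite A B']
    (hopen : IsOpenImmersion (Spec.map (CommRingCat.ofHom (algebraMap B' B)))) :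
    Module.Flat A (B ⊗[B'] Disc.Omega A B') := by
  refine Module.flat_of_isLocalized_maximal (R := A) B (B ⊗[B'] Disc.Omega A B')
    (fun P _ => Localization.AtPrime P ⊗[B] (B ⊗[B'] Disc.Omega A B'))
    (fun P _ => TensorProduct.mk B (Localization.AtPrime P) (B ⊗[B'] Disc.Omega A B') 1) ?_
  intro q hq
  haveI hq' : (q.comap (algebraMap B' B)).IsPrime := Ideal.comap_isPrime _ _
  haveI : IsLocalization.AtPrime (Localization.AtPrime q) (q.comap (algebraMap B' B)) :=
    Groth.Agent.Lib.Helper28.QFAss.isLocalization_atPrime_of_isOpenImmersion hopen q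
  have h := flat_T_tensor_omega A B' (q.comap (algebraMap B' B)) (Localization.AtPrime q)
  exact Module.Flat.of_linearEquiv
    ((TensorProduct.AlgebraTensorModule.cancelBaseChange B' B (Localization.AtPrime q)
      (Localization.AtPrime q) (Disc.Omega A B')).restrictScalars A)

end Groth.Agent.Helper13QFOmega
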