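import Mathlib
import Groth.Prelude.Def_QFDual
import Groth.Agent.Lib.Helper13QFBC12
import Groth.Agent.Lib.Helper13QFOmega16
import Groth.Agent.Lib.Helper13QFInv2

set_option autoImplicit false
set_option maxSynthPendingDepth 3
set_option linter.style.haveILetI false
universe u
open TensorProduct

namespace Groth.Agent.Helper13QFInv

/-- base change of the relative dualizing module, as a linear equivalence. -/
theorem nonempty_baseChange_omega_equiv (A B' B A₁ B'₁ B₁ : Type u) [CommRing A] [CommRing B']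
    [CommRing B] [CommRing A₁] [CommRing B'₁] [CommRing B₁] [IsNoetherianRing A]
    [Algebra A B'] [Algebra B' B] [Algebra A B] [IsScalarTower A B' B] [Module.Flat A B]
    (hf : QFDual.IsQFFactor A B' B) [Algebra A A₁] [Algebra B' B'₁] [Algebra A₁ B'₁]
    [Algebra A B'₁] [IsScalarTower A A₁ B'₁] [IsScalarTower A B' B'₁]
    (h : Algebra.IsPushout A A₁ B' B'₁) [Algebra B B₁] [Algebra A₁ B₁] [Algebra A B₁]
    [IsScalarTower A A₁ B₁] [IsScalarTower A B B₁]
    [Algebra B'₁ B₁] [Algebra B' B₁] [IsScalarTower B' B'₁ B₁] [IsScalarTower B' B B₁]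
    [IsScalarTower A₁ B'₁ B₁] :
    Nonempty (B₁ ⊗[B] QFDual.omega A B' B ≃ₗ[B₁] QFDual.omega A₁ B'₁ B₁) := by
  have hbij := Groth.Agent.Helper13QFBC.omegaBC_bijective_of_flat A B' B A₁ B'₁ B₁ hf h
  exact ⟨(TensorProduct.AlgebraTensorModule.cancelBaseChange B' B B₁ B₁ (Disc.Omega A B')).trans
    (LinearEquiv.ofBijective (QFDual.omegaBC (B₁ := B₁) h) hbij)⟩

section Fibre

attribute [local instance] Algebra.TensorProduct.rightAlgebra

variable (A B' B : Type u) [CommRing A] [CommRing B'] [CommRing B] [Algebra A B'] [Algebra B' B]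
  [Algebra A B] [IsScalarTower A B' B] (κ : Type u) [CommRing κ] [Algebra A κ]

/-- `κ ⊗_A B' → κ ⊗_A B`. -/
noncomputable def algFib : Algebra (κ ⊗[A] B') (κ ⊗[A] B) :=
  (Algebra.TensorProduct.map (AlgHom.id κ κ) (IsScalarTower.toAlgHom A B' B)).toRingHom.toAlgebra

/-- `B' → B → κ ⊗_A B`. -/
noncomputable def algFib' : Algebra B' (κ ⊗[A] B) :=
  ((algebraMap B (κ ⊗[A] B)).comp (algebraMap B' B)).toAlgebra

attribute [local instance] algFib algFib'

theorem tower_fib1 : IsScalarTower B' (κ ⊗[A] B') (κ ⊗[A] B) :=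
  IsScalarTower.of_algebraMap_eq fun b' => by
    change (1 : κ) ⊗ₜ[A] algebraMap B' B b' =
      Algebra.TensorProduct.map (AlgHom.id κ κ) (IsScalarTower.toAlgHom A B' B) (1 ⊗ₜ[A] b')
    rw [Algebra.TensorProduct.map_tmul]
    rfl

theorem tower_fib2 : IsScalarTower B' B (κ ⊗[A] B) :=
  IsScalarTower.of_algebraMap_eq fun _ => rfl

theorem tower_fib3 : IsScalarTower κ (κ ⊗[A] B') (κ ⊗[A] B) :=
  IsScalarTower.of_algebraMap_eq fun k => by
    change k ⊗ₜ[A] (1 : B) =
      Algebra.TensorProduct.map (AlgHom.id κ κ) (IsScalarTower.toAlgHom A B' B) (k ⊗ₜ[A] 1)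
    rw [Algebra.TensorProduct.map_tmul, map_one]
    rfl

end Fibre

section Main

attribute [local instance] Algebra.TensorProduct.rightAlgebra

/-- the fibrewise criterion for invertibility of the relative dualizing module (hard
direction). -/
theorem invertible_omega_of_fibres (A B' B : Type u) [CommRing A] [CommRing B'] [CommRing B]
    [IsNoetherianRing A] [IsNoetherianRing B] [Algebra A B'] [Algebra B' B] [Algebra A B]
    [IsScalarTower A B' B] [Module.Flat A B] (hf : QFDual.IsQFFactor A B' B)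
    (H : ∀ (p : Ideal A) [p.IsPrime] (B'₁ B₁ : Type u) [CommRing B'₁] [CommRing B₁]
      [Algebra B' B'₁] [Algebra p.ResidueField B'₁] [Algebra A B'₁]
      [IsScalarTower A p.ResidueField B'₁] [IsScalarTower A B' B'₁] [Algebra B B₁]
      [Algebra p.ResidueField B₁] [Algebra A B₁] [IsScalarTower A p.ResidueField B₁]
      [IsScalarTower A B B₁] [Algebra B'₁ B₁] [Algebra B' B₁] [IsScalarTower B' B'₁ B₁]
      [IsScalarTower B' B B₁] [IsScalarTower p.ResidueField B'₁ B₁],
      Algebra.IsPushout A p.ResidueField B' B'₁ → Algebra.IsPushout A p.ResidueField B B₁ →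
      Module.Invertible B₁ (QFDual.omega p.ResidueField B'₁ B₁)) :
    Module.Invertible B (QFDual.omega A B' B) := by
  haveI := hf.finite
  haveI : Module.Flat A (B ⊗[B'] Disc.Omega A B') :=
    Groth.Agent.Helper13QFOmega.flat_omega_of_flat A B B' hf.isOpenImmersion
  haveI : Module.Finite B (B ⊗[B'] Disc.Omega A B') := inferInstance
  apply invertible_of_fibres A B (B ⊗[B'] Disc.Omega A B')
  intro p hp
  letI := algFib A B' B p.ResidueField
  letI := algFib' A B' B p.ResidueField
  haveI t1 : IsScalarTower B' (p.ResidueField ⊗[A] B') (p.ResidueField ⊗[A] B) :=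
    tower_fib1 A B' B p.ResidueField
  haveI t2 : IsScalarTower B' B (p.ResidueField ⊗[A] B) := tower_fib2 A B' B p.ResidueField
  haveI t3 : IsScalarTower p.ResidueField (p.ResidueField ⊗[A] B') (p.ResidueField ⊗[A] B) :=
    tower_fib3 A B' B p.ResidueField
  have hinv := H p (p.ResidueField ⊗[A] B') (p.ResidueField ⊗[A] B) inferInstance inferInstance
  obtain ⟨e⟩ := nonempty_baseChange_omega_equiv A B' B p.ResidueField (p.ResidueField ⊗[A] B')
    (p.ResidueField ⊗[A] B) hf inferInstance
  exact Module.Invertible.congr e.symm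

end Main

end Groth.Agent.Helper13QFInv
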