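import Mathlib
import Groth.Agent.Lib.Helper14LocalDim

set_option autoImplicit false
set_option linter.style.haveILetI false
universe u

open TensorProduct

namespace Groth.Agent.Helper13QFNorm

section T1

variable {R A A' : Type u} [CommRing R] [CommRing A] [CommRing A'] [Algebra R A] [Algebra A A']
  [Algebra R A'] [IsScalarTower R A A']
  (p : Ideal R) [p.IsPrime] (P : Ideal A) [P.IsPrime] [P.LiesOver p]
  (Q : Ideal A') [Q.IsPrime] [Q.LiesOver P] [Q.LiesOver p]
  [Algebra (Localization.AtPrime p) (Localization.AtPrime P)]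
  [Localization.AtPrime.IsLiesOverAlgebra p P]
  [Algebra (Localization.AtPrime P) (Localization.AtPrime Q)]
  [Localization.AtPrime.IsLiesOverAlgebra P Q]
  [Algebra (Localization.AtPrime p) (Localization.AtPrime Q)]
  [Localization.AtPrime.IsLiesOverAlgebra p Q]

theorem trdeg_residueField_eq_of_isAlgebraic
    [Algebra.IsAlgebraic P.ResidueField Q.ResidueField] :
    Algebra.trdeg p.ResidueField Q.ResidueField = Algebra.trdeg p.ResidueField P.ResidueField := by
  have h := trdeg_add_eq p.ResidueField P.ResidueField (A := Q.ResidueField)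
  rw [trdeg_eq_zero (R := P.ResidueField) (A := Q.ResidueField), add_zero] at h
  exact h.symm

theorem trdeg_residueField_eq_of_quasiFinite [Algebra.QuasiFinite A A'] :
    Algebra.trdeg p.ResidueField Q.ResidueField = Algebra.trdeg p.ResidueField P.ResidueField := by
  haveI : Module.Finite P.ResidueField Q.ResidueField := inferInstance
  haveI : Algebra.IsAlgebraic P.ResidueField Q.ResidueField := inferInstance
  exact trdeg_residueField_eq_of_isAlgebraic p P Q

end T1

section RF

variable {R A : Type u} [CommRing R] [CommRing A] [Algebra R A] (p : Ideal R) [p.IsPrime]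

theorem trdeg_residueField_fiber (Q : Ideal (p.Fiber A)) [Q.IsPrime] (𝔞 : Ideal A) [𝔞.IsPrime]
    [𝔞.LiesOver p] (h𝔞 : 𝔞 = Q.comap Algebra.TensorProduct.includeRight.toRingHom)
    [Algebra (Localization.AtPrime p) (Localization.AtPrime 𝔞)]
    [Localization.AtPrime.IsLiesOverAlgebra p 𝔞] :
    Algebra.trdeg p.ResidueField 𝔞.ResidueField =
      @Algebra.trdeg p.ResidueField Q.ResidueField _ _
        (IsLocalRing.ResidueField.algebra (Localization.AtPrime Q)) := by
  letI inst : Algebra p.ResidueField Q.ResidueField :=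
    IsLocalRing.ResidueField.algebra (Localization.AtPrime Q)
  haveI : IsScalarTower R p.ResidueField Q.ResidueField :=
    IsLocalRing.instIsScalarTowerResidueField (Localization.AtPrime Q)
  set θ := Ideal.ResidueField.map 𝔞 Q Algebra.TensorProduct.includeRight.toRingHom h𝔞 with hθ
  have hbij : Function.Bijective θ :=
    p.surjectiveOnStalks_residueField.baseChange'.residueFieldMap_bijective 𝔞 Q h𝔞
  have hcomm : θ.comp (algebraMap p.ResidueField 𝔞.ResidueField) =
      algebraMap p.ResidueField Q.ResidueField := by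
    apply Ideal.ResidueField.ringHom_ext
    ext a
    simp only [RingHom.coe_comp, Function.comp_apply]
    rw [← IsScalarTower.algebraMap_apply R p.ResidueField 𝔞.ResidueField,
      ← IsScalarTower.algebraMap_apply R p.ResidueField Q.ResidueField,
      IsScalarTower.algebraMap_apply R A 𝔞.ResidueField, hθ, Ideal.ResidueField.map_algebraMap,
      IsScalarTower.algebraMap_apply R (p.Fiber A) Q.ResidueField]
    congr 1
    simp [Algebra.algebraMap_eq_smul_one, Algebra.TensorProduct.one_def]
  let e : 𝔞.ResidueField ≃ₐ[p.ResidueField] Q.ResidueField :=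
    AlgEquiv.ofBijective ⟨θ, fun c => RingHom.congr_fun hcomm c⟩ hbij
  exact e.trdeg_eq

end RF

section T

variable {R B S' : Type u} [CommRing R] [CommRing B] [CommRing S'] [Algebra R B] [Algebra B S']
  [Algebra R S'] [IsScalarTower R B S'] [Algebra.FiniteType R B] [Algebra.QuasiFinite B S']

/-- the dimension of the closure of the image point in the fibre of `B` is the transcendence
degree of the residue field upstairs. -/
theorem ringKrullDim_fiber_quotient_eq (p : Ideal R) [p.IsPrime] (q' : Ideal S') [q'.IsPrime]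
    [q'.LiesOver p] [Algebra (Localization.AtPrime p) (Localization.AtPrime q')]
    [Localization.AtPrime.IsLiesOverAlgebra p q'] (QB : Ideal (p.Fiber B)) [QB.IsPrime]
    (hQ : q'.under B = QB.comap Algebra.TensorProduct.includeRight.toRingHom) (r : ℕ)
    (hr : Algebra.trdeg p.ResidueField q'.ResidueField = r) :
    ringKrullDim (p.Fiber B ⧸ QB) = r := by
  obtain ⟨𝔮, h𝔮⟩ : ∃ 𝔮 : Ideal B, 𝔮 = q'.under B := ⟨_, rfl⟩
  haveI : 𝔮.IsPrime := by rw [h𝔮]; infer_instance
  haveI : q'.LiesOver 𝔮 := ⟨h𝔮⟩
  haveI : 𝔮.LiesOver p := by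
    constructor
    rw [h𝔮, Ideal.under_under]
    exact q'.over_def p
  letI := Localization.AtPrime.algebraOfLiesOver p 𝔮
  letI := Localization.AtPrime.algebraOfLiesOver 𝔮 q'
  have h1 := trdeg_residueField_eq_of_quasiFinite p 𝔮 q'
  have h2 := trdeg_residueField_fiber p QB 𝔮 (h𝔮.trans hQ)
  obtain ⟨n, e, -, he, he', -⟩ :=
    Groth.Agent.Lib.Helper14.LocalDim.exists_dims (k := p.ResidueField) QB
  rw [he]
  have h3 : ((e : ℕ) : Cardinal) = (r : ℕ) := he'.symm.trans (h2.symm.trans (h1.symm.trans hr))
  have : e = r := by exact_mod_cast h3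
  rw [this]

end T

end Groth.Agent.Helper13QFNorm
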