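import Mathlib
import Groth.Agent.Lib.Helper5IntDim

/-!
# Noether normalization adapted to a chain of primes: dimension lemmas
-/

set_option autoImplicit false
universe u

namespace Groth.Agent.Lib.Helper19ChainNN

open MvPolynomial

section Dim

/-- A prime of a domain of finite dimension `n` whose quotient has dimension `n` is zero. -/
theorem eq_bot_of_ringKrullDim_quotient_eq {R : Type*} [CommRing R] [IsDomain R] (p : Ideal R)
    (n : ℕ) (hR : ringKrullDim R = n) (hp : ringKrullDim (R ⧸ p) = n) : p = ⊥ := by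
  by_contra hne
  obtain ⟨x, hx, hx0⟩ := Submodule.exists_mem_ne_zero_of_ne_bot hne
  have h1 := ringKrullDim_quotient_succ_le_of_nonZeroDivisor (mem_nonZeroDivisors_of_ne_zero hx0)
  have hle : Ideal.span {x} ≤ p := (Ideal.span_singleton_le_iff_mem p).mpr hx
  have h2 : ringKrullDim (R ⧸ p) ≤ ringKrullDim (R ⧸ Ideal.span {x}) :=
    ringKrullDim_le_of_surjective (Ideal.Quotient.factor hle) (Ideal.Quotient.factor_surjective hle)
  rw [hp] at h2
  rw [hR] at h1
  have h3 : ((n : ℕ) : WithBot ℕ∞) + 1 ≤ n := (add_le_add_left h2 1).trans h1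
  have h4 : ((n + 1 : ℕ) : WithBot ℕ∞) ≤ (n : ℕ) := by exact_mod_cast h3
  have h5 : n + 1 ≤ n := by exact_mod_cast h4
  omega

/-- Comparable primes with quotients of the same finite dimension are equal. -/
theorem eq_of_le_of_ringKrullDim_quotient_eq {R : Type*} [CommRing R] (p p' : Ideal R) [p.IsPrime]
    (hle : p ≤ p') (n : ℕ) (hp : ringKrullDim (R ⧸ p) = n) (hp' : ringKrullDim (R ⧸ p') = n) :
    p = p' := by
  have h1 : ringKrullDim ((R ⧸ p) ⧸ p'.map (Ideal.Quotient.mk p)) = n := by
    rw [← hp']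
    exact ringKrullDim_eq_of_ringEquiv (DoubleQuot.quotQuotEquivQuotOfLE hle)
  have h2 := eq_bot_of_ringKrullDim_quotient_eq (p'.map (Ideal.Quotient.mk p)) n hp h1
  refine le_antisymm hle ?_
  intro x hx
  have : Ideal.Quotient.mk p x ∈ p'.map (Ideal.Quotient.mk p) := Ideal.mem_map_of_mem _ hx
  rw [h2, Ideal.mem_bot, Ideal.Quotient.eq_zero_iff_mem] at this
  exact this

/-- The quotient by a contracted prime has the same dimension, for an integral map. -/
theorem ringKrullDim_quotient_comap_eq {R A : Type*} [CommRing R] [CommRing A] (φ : R →+* A)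
    (hφ : φ.IsIntegral) (𝔮 : Ideal A) :
    ringKrullDim (R ⧸ 𝔮.comap φ) = ringKrullDim (A ⧸ 𝔮) := by
  have hint : ((Ideal.Quotient.mk 𝔮).comp φ).IsIntegral :=
    hφ.trans _ _ (RingHom.isIntegral_of_surjective _ Ideal.Quotient.mk_surjective)
  have h := Groth.Agent.Lib.Helper5.ringKrullDim_eq_ringKrullDim_quotient_ker_of_isIntegral _ hint
  have hker : RingHom.ker ((Ideal.Quotient.mk 𝔮).comp φ) = 𝔮.comap φ := by
    rw [← RingHom.comap_ker, Ideal.mk_ker]
  rw [h, hker]

/-- An integral map from a domain of dimension `n` to a domain of dimension `n` is injective. -/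
theorem injective_of_isIntegral_of_dim_eq {R A : Type*} [CommRing R] [IsDomain R] [CommRing A]
    [IsDomain A] (φ : R →+* A) (hφ : φ.IsIntegral) (n : ℕ) (hR : ringKrullDim R = n)
    (hA : ringKrullDim A = n) : Function.Injective φ := by
  rw [RingHom.injective_iff_ker_eq_bot, RingHom.ker_eq_comap_bot]
  apply eq_bot_of_ringKrullDim_quotient_eq _ n hR
  rw [ringKrullDim_quotient_comap_eq φ hφ, ← hA]
  exact ringKrullDim_eq_of_ringEquiv (RingEquiv.quotientBot A)

theorem ringKrullDim_mvPolynomial_fin (k : Type*) [Field k] (n : ℕ) :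
    ringKrullDim (MvPolynomial (Fin n) k) = n := by
  rw [MvPolynomial.ringKrullDim_of_isNoetherianRing, ringKrullDim_eq_zero_of_field]
  simp

end Dim

end Groth.Agent.Lib.Helper19ChainNN
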