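import Mathlib
import Groth.Agent.Lib.Helper19ChainNNA

/-!
# Noether normalization adapted to a chain of primes: polynomial ring tools
-/

set_option autoImplicit false
universe u

namespace Groth.Agent.Lib.Helper19ChainNN

open MvPolynomial

variable {k : Type u} [Field k] {n : ℕ}

/-- The inclusion `k[X_0..X_{n-1}] → k[X_0..X_n]`, `X_j ↦ X_{j+1}`. -/
noncomputable def inc (k : Type u) [Field k] (n : ℕ) :
    MvPolynomial (Fin n) k →ₐ[k] MvPolynomial (Fin (n + 1)) k :=
  rename Fin.succ

/-- The retraction `X_0 ↦ 0`, `X_{j+1} ↦ X_j`. -/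
noncomputable def ret (k : Type u) [Field k] (n : ℕ) :
    MvPolynomial (Fin (n + 1)) k →ₐ[k] MvPolynomial (Fin n) k :=
  aeval (Fin.cases 0 X)

@[simp] theorem inc_X (j : Fin n) : inc k n (X j) = X j.succ := by
  simp [inc]

@[simp] theorem ret_X_zero : ret k n (X 0) = 0 := by
  simp [ret]

@[simp] theorem ret_X_succ (j : Fin n) : ret k n (X j.succ) = X j := by
  simp [ret]

theorem ret_inc (g : MvPolynomial (Fin n) k) : ret k n (inc k n g) = g := by
  have : (ret k n).comp (inc k n) = AlgHom.id k _ := by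
    apply MvPolynomial.algHom_ext
    intro j
    simp
  exact DFunLike.congr_fun this g

theorem sub_inc_ret_mem (g : MvPolynomial (Fin (n + 1)) k) :
    g - inc k n (ret k n g) ∈ Ideal.span {(X 0 : MvPolynomial (Fin (n + 1)) k)} := by
  have : (Ideal.Quotient.mkₐ k (Ideal.span {(X 0 : MvPolynomial (Fin (n + 1)) k)})).comp
      ((inc k n).comp (ret k n)) =
      Ideal.Quotient.mkₐ k (Ideal.span {(X 0 : MvPolynomial (Fin (n + 1)) k)}) := by
    apply MvPolynomial.algHom_ext
    intro j
    refine Fin.cases ?_ (fun j => ?_) j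
    · simp only [AlgHom.coe_comp, Function.comp_apply, ret_X_zero, map_zero]
      symm
      rw [Ideal.Quotient.mkₐ_eq_mk, Ideal.Quotient.eq_zero_iff_mem]
      exact Ideal.subset_span rfl
    · simp
  have h := DFunLike.congr_fun this g
  rw [← Ideal.Quotient.eq_zero_iff_mem, map_sub, sub_eq_zero]
  simpa using h.symm

theorem mem_iff_ret_mem (Q : Ideal (MvPolynomial (Fin (n + 1)) k))
    (hQ : (X 0 : MvPolynomial (Fin (n + 1)) k) ∈ Q) (g : MvPolynomial (Fin (n + 1)) k) :
    g ∈ Q ↔ ret k n g ∈ Q.comap (inc k n) := by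
  have h := (Ideal.span_singleton_le_iff_mem Q).mpr hQ (sub_inc_ret_mem g)
  rw [Ideal.mem_comap]
  constructor
  · intro hg
    have := Q.sub_mem hg h
    simpa using this
  · intro hg
    have := Q.add_mem h hg
    simpa using this

theorem ringKrullDim_quotient_eq_of_X_zero_mem (Q : Ideal (MvPolynomial (Fin (n + 1)) k))
    (hQ : (X 0 : MvPolynomial (Fin (n + 1)) k) ∈ Q) :
    ringKrullDim (MvPolynomial (Fin (n + 1)) k ⧸ Q) =
      ringKrullDim (MvPolynomial (Fin n) k ⧸ Q.comap (inc k n)) := by
  let f : MvPolynomial (Fin n) k →+* MvPolynomial (Fin (n + 1)) k ⧸ Q :=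
    (Ideal.Quotient.mk Q).comp (inc k n).toRingHom
  have hsurj : Function.Surjective f := by
    intro y
    obtain ⟨g, rfl⟩ := Ideal.Quotient.mk_surjective y
    refine ⟨ret k n g, ?_⟩
    show Ideal.Quotient.mk Q (inc k n (ret k n g)) = Ideal.Quotient.mk Q g
    rw [eq_comm, Ideal.Quotient.eq]
    exact (Ideal.span_singleton_le_iff_mem Q).mpr hQ (sub_inc_ret_mem g)
  have hker : RingHom.ker f = Q.comap (inc k n) := by
    ext x
    rw [RingHom.mem_ker, Ideal.mem_comap]
    show Ideal.Quotient.mk Q (inc k n x) = 0 ↔ _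
    rw [Ideal.Quotient.eq_zero_iff_mem]
  have e := RingHom.quotientKerEquivOfSurjective hsurj
  rw [← ringKrullDim_eq_of_ringEquiv e]
  exact ringKrullDim_eq_of_ringEquiv (Ideal.quotEquivOfEq hker)

theorem mem_span_X_succ_iff (m : ℕ) (g : MvPolynomial (Fin (n + 1)) k) :
    g ∈ Ideal.span (X '' {l : Fin (n + 1) | (l : ℕ) < m + 1} :
      Set (MvPolynomial (Fin (n + 1)) k)) ↔
    ret k n g ∈ Ideal.span (X '' {l : Fin n | (l : ℕ) < m} : Set (MvPolynomial (Fin n) k)) := by
  constructor
  · intro hg
    have hle : Ideal.span (X '' {l : Fin (n + 1) | (l : ℕ) < m + 1} :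
        Set (MvPolynomial (Fin (n + 1)) k)) ≤
        (Ideal.span (X '' {l : Fin n | (l : ℕ) < m} : Set (MvPolynomial (Fin n) k))).comap
          (ret k n) := by
      rw [Ideal.span_le]
      rintro _ ⟨l, hl, rfl⟩
      rw [SetLike.mem_coe, Ideal.mem_comap]
      revert hl
      refine Fin.cases ?_ (fun j => ?_) l
      · intro _
        simp
      · intro hj
        rw [ret_X_succ]
        refine Ideal.subset_span ⟨j, ?_, rfl⟩
        simp only [Set.mem_ofPred_eq, Fin.val_succ] at hj ⊢
        omega
    exact hle hg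
  · intro hg
    have h0 : (X 0 : MvPolynomial (Fin (n + 1)) k) ∈
        Ideal.span (X '' {l : Fin (n + 1) | (l : ℕ) < m + 1} :
          Set (MvPolynomial (Fin (n + 1)) k)) :=
      Ideal.subset_span ⟨0, by simp, rfl⟩
    have h1 := (Ideal.span_singleton_le_iff_mem _).mpr h0 (sub_inc_ret_mem g)
    have hle : Ideal.span (X '' {l : Fin n | (l : ℕ) < m} : Set (MvPolynomial (Fin n) k)) ≤
        (Ideal.span (X '' {l : Fin (n + 1) | (l : ℕ) < m + 1} :
          Set (MvPolynomial (Fin (n + 1)) k))).comap (inc k n) := by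
      rw [Ideal.span_le]
      rintro _ ⟨l, hl, rfl⟩
      rw [SetLike.mem_coe, Ideal.mem_comap, inc_X]
      refine Ideal.subset_span ⟨l.succ, ?_, rfl⟩
      simp only [Set.mem_ofPred_eq, Fin.val_succ] at hl ⊢
      omega
    have h2 := hle hg
    rw [Ideal.mem_comap] at h2
    have := Ideal.add_mem _ h1 h2
    simpa using this

/-- An integral algebra map into a finite type algebra is finite. -/
theorem finite_of_isIntegral {A B : Type*} [CommRing A] [CommRing B] [Algebra k A] [Algebra k B]
    [Algebra.FiniteType k B] (g : A →ₐ[k] B) (hg : g.toRingHom.IsIntegral) :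
    g.toRingHom.Finite := by
  have h : algebraMap k B = g.toRingHom.comp (algebraMap k A) := by
    ext c
    simp
  exact hg.to_finite
    ((h ▸ RingHom.finiteType_algebraMap.mpr inferInstance :
      (g.toRingHom.comp (algebraMap k A)).FiniteType).of_comp_finiteType)

/-- To check integrality of an algebra endomorphism-like map on `MvPolynomial`, it suffices to
check the variables. -/
theorem isIntegral_of_X {A : Type*} [CommRing A] [Algebra k A]
    (g : A →ₐ[k] MvPolynomial (Fin n) k)
    (hX : ∀ i, g.toRingHom.IsIntegralElem (X i)) : g.toRingHom.IsIntegral := by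
  intro x
  induction x using MvPolynomial.induction_on with
  | C a =>
    have : (C a : MvPolynomial (Fin n) k) = g.toRingHom (algebraMap k A a) := by
      simp [MvPolynomial.algebraMap_eq]
    rw [this]
    exact g.toRingHom.isIntegralElem_map
  | add p q hp hq => exact RingHom.IsIntegralElem.add _ hp hq
  | mul_X p i hp => exact RingHom.IsIntegralElem.mul _ hp (hX i)

end Groth.Agent.Lib.Helper19ChainNN
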