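import Mathlib
import Groth.Agent.Lib.Helper19ChainNNB

/-!
# Noether normalization adapted to a chain of primes: the substitution maps
-/

set_option autoImplicit false
universe u

namespace Groth.Agent.Lib.Helper19ChainNN

open MvPolynomial

variable {k : Type u} [Field k] {n : ℕ}

/-- `X_0 ↦ f`, `X_{j+1} ↦ X_{j+1}`. -/
noncomputable def theta (f : MvPolynomial (Fin (n + 1)) k) :
    MvPolynomial (Fin (n + 1)) k →ₐ[k] MvPolynomial (Fin (n + 1)) k :=
  aeval (Fin.cases f (fun j => X j.succ))

@[simp] theorem theta_X_zero (f : MvPolynomial (Fin (n + 1)) k) : theta f (X 0) = f := by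
  simp [theta]

@[simp] theorem theta_X_succ (f : MvPolynomial (Fin (n + 1)) k) (j : Fin n) :
    theta f (X j.succ) = X j.succ := by
  simp [theta]

theorem theta_inc (f : MvPolynomial (Fin (n + 1)) k) (g : MvPolynomial (Fin n) k) :
    theta f (inc k n g) = inc k n g := by
  have : (theta f).comp (inc k n) = inc k n := by
    apply MvPolynomial.algHom_ext
    intro j
    simp
  exact DFunLike.congr_fun this g

/-- Evaluating `finSuccEquiv g` at `X_0` over the inclusion gives back `g`. -/
theorem eval₂_inc_finSuccEquiv (g : MvPolynomial (Fin (n + 1)) k) :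
    Polynomial.eval₂ (inc k n).toRingHom (X 0) (finSuccEquiv k n g) = g := by
  induction g using MvPolynomial.induction_on with
  | C a =>
    rw [finSuccEquiv_apply]
    simp [inc]
  | add p q hp hq => rw [map_add, Polynomial.eval₂_add, hp, hq]
  | mul_X p i hp =>
    rw [map_mul, Polynomial.eval₂_mul, hp]
    congr 1
    refine Fin.cases ?_ (fun j => ?_) i
    · rw [finSuccEquiv_X_zero, Polynomial.eval₂_X]
    · rw [finSuccEquiv_X_succ, Polynomial.eval₂_C]
      simp [inc]

theorem theta_isIntegral (f : MvPolynomial (Fin (n + 1)) k)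
    (hu : IsUnit (finSuccEquiv k n f).leadingCoeff) (hdeg : 0 < (finSuccEquiv k n f).natDegree) :
    (theta f).toRingHom.IsIntegral := by
  apply isIntegral_of_X
  intro i
  refine Fin.cases ?_ (fun j => ?_) i
  · -- `X 0` is a root of `F(Z) - X_0`
    set F := finSuccEquiv k n f with hF
    let G : Polynomial (MvPolynomial (Fin (n + 1)) k) :=
      F.map (inc k n).toRingHom - Polynomial.C (X 0)
    have hinj : Function.Injective (inc k n).toRingHom := rename_injective _ (Fin.succ_injective n)
    have hdegF : (F.map (inc k n).toRingHom).natDegree = F.natDegree :=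
      Polynomial.natDegree_map_eq_of_injective hinj F
    have hdegG : G.natDegree = F.natDegree := by
      rw [Polynomial.natDegree_sub_C, hdegF]
    have hlead : G.leadingCoeff = (inc k n) F.leadingCoeff := by
      rw [Polynomial.leadingCoeff, hdegG]
      rw [Polynomial.coeff_sub, Polynomial.coeff_C, if_neg (by omega), sub_zero,
        Polynomial.coeff_map]
      rfl
    have huG : IsUnit G.leadingCoeff := by
      rw [hlead]
      exact hu.map (inc k n)
    refine ⟨huG.unit⁻¹ • G, Polynomial.monic_of_isUnit_leadingCoeff_inv_smul huG, ?_⟩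
    have hG0 : Polynomial.eval₂ (theta f).toRingHom (X 0) G = 0 := by
      rw [Polynomial.eval₂_sub, Polynomial.eval₂_C, Polynomial.eval₂_map]
      have hcomp : (theta f).toRingHom.comp (inc k n).toRingHom = (inc k n).toRingHom :=
        RingHom.ext fun g => theta_inc f g
      rw [hcomp, eval₂_inc_finSuccEquiv]
      show f - theta f (X 0) = 0
      rw [theta_X_zero, sub_self]
    rw [Units.smul_def, Polynomial.smul_eq_C_mul, Polynomial.eval₂_mul, hG0, mul_zero]
  · have : (X j.succ : MvPolynomial (Fin (n + 1)) k) = (theta f).toRingHom (X j.succ) := by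
      simp
    rw [this]
    exact (theta f).toRingHom.isIntegralElem_map

/-- Extend `ψ : k[X_0..X_{n-1}] → k[X_0..X_{n-1}]` to `n + 1` variables, fixing the new `X_0`. -/
noncomputable def ext (ψ : MvPolynomial (Fin n) k →ₐ[k] MvPolynomial (Fin n) k) :
    MvPolynomial (Fin (n + 1)) k →ₐ[k] MvPolynomial (Fin (n + 1)) k :=
  aeval (Fin.cases (X 0) (fun j => inc k n (ψ (X j))))

@[simp] theorem ext_X_zero (ψ : MvPolynomial (Fin n) k →ₐ[k] MvPolynomial (Fin n) k) :
    ext ψ (X 0) = X 0 := by
  simp [ext]

@[simp] theorem ext_X_succ (ψ : MvPolynomial (Fin n) k →ₐ[k] MvPolynomial (Fin n) k) (j : Fin n) :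
    ext ψ (X j.succ) = inc k n (ψ (X j)) := by
  simp [ext]

theorem ext_inc (ψ : MvPolynomial (Fin n) k →ₐ[k] MvPolynomial (Fin n) k)
    (g : MvPolynomial (Fin n) k) : ext ψ (inc k n g) = inc k n (ψ g) := by
  have : (ext ψ).comp (inc k n) = (inc k n).comp ψ := by
    apply MvPolynomial.algHom_ext
    intro j
    simp
  exact DFunLike.congr_fun this g

theorem ret_ext (ψ : MvPolynomial (Fin n) k →ₐ[k] MvPolynomial (Fin n) k)
    (g : MvPolynomial (Fin (n + 1)) k) : ret k n (ext ψ g) = ψ (ret k n g) := by
  have : (ret k n).comp (ext ψ) = ψ.comp (ret k n) := by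
    apply MvPolynomial.algHom_ext
    intro j
    refine Fin.cases ?_ (fun j => ?_) j
    · simp
    · simp [ret_inc]
  exact DFunLike.congr_fun this g

theorem ext_isIntegral (ψ : MvPolynomial (Fin n) k →ₐ[k] MvPolynomial (Fin n) k)
    (hψ : ψ.toRingHom.IsIntegral) : (ext ψ).toRingHom.IsIntegral := by
  apply isIntegral_of_X
  intro i
  refine Fin.cases ?_ (fun j => ?_) i
  · have : (X 0 : MvPolynomial (Fin (n + 1)) k) = (ext ψ).toRingHom (X 0) := by
      simp
    rw [this]
    exact (ext ψ).toRingHom.isIntegralElem_map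
  · obtain ⟨G, hG, hG0⟩ := hψ (X j)
    refine ⟨G.map (inc k n).toRingHom, hG.map _, ?_⟩
    rw [Polynomial.eval₂_map]
    have hcomp : (ext ψ).toRingHom.comp (inc k n).toRingHom =
        (inc k n).toRingHom.comp ψ.toRingHom :=
      RingHom.ext fun g => ext_inc ψ g
    rw [hcomp]
    have hx : (X j.succ : MvPolynomial (Fin (n + 1)) k) = (inc k n).toRingHom (X j) :=
      (inc_X j).symm
    rw [hx, ← Polynomial.hom_eval₂, hG0, map_zero]

end Groth.Agent.Lib.Helper19ChainNN
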