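import Mathlib
import Groth.Agent.Lib.Helper19ChainNNC

/-!
# Noether normalization adapted to a chain of primes: the polynomial ring case
-/

set_option autoImplicit false
universe u

open private T_leadingcoeff_isUnit T from Mathlib.RingTheory.NoetherNormalization

namespace Groth.Agent.Lib.Helper19ChainNN

open MvPolynomial

variable (k : Type u) [Field k]

theorem exists_algEquiv_leadingCoeff_isUnit {n : ℕ} (f₀ : MvPolynomial (Fin (n + 1)) k)
    (hf₀ : f₀ ≠ 0) :
    ∃ Tf : MvPolynomial (Fin (n + 1)) k ≃ₐ[k] MvPolynomial (Fin (n + 1)) k,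
      IsUnit (finSuccEquiv k n (Tf f₀)).leadingCoeff :=
  ⟨T f₀, T_leadingcoeff_isUnit f₀ hf₀⟩

theorem algHom_comp_isIntegral {A B C : Type*} [CommRing A] [CommRing B] [CommRing C]
    [Algebra k A] [Algebra k B] [Algebra k C] (f : A →ₐ[k] B) (g : B →ₐ[k] C)
    (hf : f.toRingHom.IsIntegral) (hg : g.toRingHom.IsIntegral) :
    (g.comp f).toRingHom.IsIntegral := by
  have : (g.comp f).toRingHom = g.toRingHom.comp f.toRingHom := rfl
  rw [this]
  exact hf.trans _ _ hg

theorem comap_eq_of_h_zero {n : ℕ}
    (ψ : MvPolynomial (Fin n) k →ₐ[k] MvPolynomial (Fin n) k) (hψ : Function.Injective ψ)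
    (p : Ideal (MvPolynomial (Fin n) k)) (hp : p = ⊥) :
    p.comap ψ = Ideal.span (X '' {l : Fin n | (l : ℕ) < 0}) := by
  subst hp
  have : {l : Fin n | (l : ℕ) < 0} = ∅ := by
    ext l
    simp
  rw [this, Set.image_empty, Ideal.span_empty]
  ext x
  rw [Ideal.mem_comap, Ideal.mem_bot, Ideal.mem_bot]
  exact ⟨fun h => hψ (h.trans (map_zero ψ).symm), fun h => by rw [h, map_zero]⟩

theorem claim (n : ℕ) :
    ∀ (ι' : Type) (p : ι' → Ideal (MvPolynomial (Fin n) k)) (h : ι' → ℕ),
      (∀ i, (p i).IsPrime) → (∀ i j, p i ≤ p j ∨ p j ≤ p i) → (∀ i, h i ≤ n) →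
      (∀ i, ringKrullDim (MvPolynomial (Fin n) k ⧸ p i) = ((n - h i : ℕ) : WithBot ℕ∞)) →
      ∃ ψ : MvPolynomial (Fin n) k →ₐ[k] MvPolynomial (Fin n) k,
        ψ.toRingHom.IsIntegral ∧ Function.Injective ψ ∧
        ∀ i, (p i).comap ψ = Ideal.span (X '' {l : Fin n | (l : ℕ) < h i}) := by
  induction n with
  | zero =>
    intro ι' p h hp hchain hh hdim
    refine ⟨AlgHom.id k _, RingHom.isIntegral_of_surjective _ Function.surjective_id,
      Function.injective_id, fun i => ?_⟩
    have h0 : h i = 0 := Nat.le_zero.mp (hh i)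
    haveI := hp i
    have hb := eq_bot_of_ringKrullDim_quotient_eq (p i) 0 (ringKrullDim_mvPolynomial_fin k 0)
      (by rw [hdim i, h0])
    rw [h0]
    exact comap_eq_of_h_zero k _ Function.injective_id _ hb
  | succ n ih =>
    intro ι' p h hp hchain hh hdim
    have hdimP := ringKrullDim_mvPolynomial_fin k (n + 1)
    have hzero : ∀ i, h i = 0 → p i = ⊥ := fun i hi =>
      eq_bot_of_ringKrullDim_quotient_eq (p i) (n + 1) hdimP (by rw [hdim i, hi]; rfl)
    by_cases hall : ∀ i, h i = 0
    · refine ⟨AlgHom.id k _, RingHom.isIntegral_of_surjective _ Function.surjective_id,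
        Function.injective_id, fun i => ?_⟩
      rw [hall i]
      exact comap_eq_of_h_zero k _ Function.injective_id _ (hzero i (hall i))
    · push Not at hall
      obtain ⟨i₀, hi₀, hmin⟩ : ∃ i₀, h i₀ ≠ 0 ∧ ∀ j, h j ≠ 0 → h i₀ ≤ h j := by
        classical
        have hex : ∃ m, ∃ i, h i ≠ 0 ∧ h i = m := by
          obtain ⟨i, hi⟩ := hall
          exact ⟨h i, i, hi, rfl⟩
        obtain ⟨i₀, hi₀, hm⟩ := Nat.find_spec hex
        refine ⟨i₀, hi₀, fun j hj => ?_⟩
        rw [hm]
        exact Nat.find_min' hex ⟨j, hj, rfl⟩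
      have hle : ∀ j, h j ≠ 0 → p i₀ ≤ p j := by
        intro j hj
        rcases hchain i₀ j with hc | hc
        · exact hc
        · have hd : ringKrullDim (MvPolynomial (Fin (n + 1)) k ⧸ p i₀) ≤
              ringKrullDim (MvPolynomial (Fin (n + 1)) k ⧸ p j) :=
            ringKrullDim_le_of_surjective (Ideal.Quotient.factor hc)
              (Ideal.Quotient.factor_surjective hc)
          rw [hdim, hdim] at hd
          have hd' : n + 1 - h i₀ ≤ n + 1 - h j := by exact_mod_cast hd
          have hjeq : h j = h i₀ := by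
            have := hmin j hj
            have := hh j
            have := hh i₀
            omega
          haveI := hp j
          have := eq_of_le_of_ringKrullDim_quotient_eq (p j) (p i₀) hc (n + 1 - h j) (hdim j)
            (by rw [hdim i₀, hjeq])
          exact this.ge
      have hne : p i₀ ≠ ⊥ := by
        intro hb
        have h1 := hdim i₀
        rw [hb] at h1
        have h2 : ringKrullDim (MvPolynomial (Fin (n + 1)) k ⧸
            (⊥ : Ideal (MvPolynomial (Fin (n + 1)) k))) = ((n + 1 : ℕ) : WithBot ℕ∞) := by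
          rw [← hdimP]
          exact ringKrullDim_eq_of_ringEquiv (RingEquiv.quotientBot _)
        rw [h2] at h1
        have : n + 1 = n + 1 - h i₀ := by exact_mod_cast h1
        omega
      obtain ⟨f₀, hf₀, hf₀0⟩ := Submodule.exists_mem_ne_zero_of_ne_bot hne
      obtain ⟨Tf, hu⟩ := exists_algEquiv_leadingCoeff_isUnit k f₀ hf₀0
      set f := Tf f₀ with hf
      let S : MvPolynomial (Fin (n + 1)) k →ₐ[k] MvPolynomial (Fin (n + 1)) k :=
        Tf.symm.toAlgHom
      have hSf : S f = f₀ := Tf.symm_apply_apply f₀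
      have hSsurj : Function.Surjective S := Tf.symm.surjective
      have hSinj : Function.Injective S := Tf.symm.injective
      have hSint : S.toRingHom.IsIntegral := RingHom.isIntegral_of_surjective _ hSsurj
      let p' : ι' → Ideal (MvPolynomial (Fin (n + 1)) k) := fun i => (p i).comap S
      have hp' : ∀ i, (p' i).IsPrime := fun i => by
        haveI := hp i
        exact Ideal.comap_isPrime S (p i)
      have hfp' : ∀ j, h j ≠ 0 → f ∈ p' j := by
        intro j hj
        show S f ∈ p j
        rw [hSf]
        exact hle j hj hf₀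
      have hdim' : ∀ i, ringKrullDim (MvPolynomial (Fin (n + 1)) k ⧸ p' i) =
          ((n + 1 - h i : ℕ) : WithBot ℕ∞) := by
        intro i
        rw [← hdim i]
        exact ringKrullDim_quotient_comap_eq S.toRingHom hSint (p i)
      have hdeg : 0 < (finSuccEquiv k n f).natDegree := by
        by_contra hcon
        have h0 : (finSuccEquiv k n f).natDegree = 0 := by omega
        have hC := Polynomial.eq_C_of_natDegree_eq_zero h0
        have hlc : (finSuccEquiv k n f).leadingCoeff = (finSuccEquiv k n f).coeff 0 := by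
          rw [Polynomial.leadingCoeff, h0]
        rw [hlc] at hu
        have hunit : IsUnit (finSuccEquiv k n f) := by
          rw [hC]
          exact Polynomial.isUnit_C.mpr hu
        have hfunit : IsUnit f := (isUnit_map_iff (finSuccEquiv k n) f).mp hunit
        have := (hp' i₀).ne_top
        exact this (Ideal.eq_top_of_isUnit_mem _ (hfp' i₀ hi₀) hfunit)
      have hθint := theta_isIntegral f hu hdeg
      have hθinj : Function.Injective (theta f) :=
        injective_of_isIntegral_of_dim_eq (theta f).toRingHom hθint (n + 1) hdimP hdimP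
      -- the family on `n` variables
      let J := {i : ι' // h i ≠ 0}
      let p'' : J → Ideal (MvPolynomial (Fin n) k) := fun j => (p' j.1).comap (inc k n)
      let h'' : J → ℕ := fun j => h j.1 - 1
      have hQ0 : ∀ j : J, (X 0 : MvPolynomial (Fin (n + 1)) k) ∈ (p' j.1).comap (theta f) := by
        intro j
        rw [Ideal.mem_comap, theta_X_zero]
        exact hfp' j.1 j.2
      have hQinc : ∀ j : J, ((p' j.1).comap (theta f)).comap (inc k n) = p'' j := by
        intro j
        ext x
        rw [Ideal.mem_comap, Ideal.mem_comap, theta_inc]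
        rfl
      have hp'' : ∀ j, (p'' j).IsPrime := fun j => by
        haveI := hp' j.1
        exact Ideal.comap_isPrime (inc k n) (p' j.1)
      have hchain'' : ∀ i j, p'' i ≤ p'' j ∨ p'' j ≤ p'' i := by
        intro i j
        rcases hchain i.1 j.1 with hc | hc
        · exact Or.inl (Ideal.comap_mono (Ideal.comap_mono hc))
        · exact Or.inr (Ideal.comap_mono (Ideal.comap_mono hc))
      have hh'' : ∀ j, h'' j ≤ n := by
        intro j
        have := hh j.1
        show h j.1 - 1 ≤ n
        omega
      have hdim'' : ∀ j, ringKrullDim (MvPolynomial (Fin n) k ⧸ p'' j) =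
          ((n - h'' j : ℕ) : WithBot ℕ∞) := by
        intro j
        have e1 : ringKrullDim (MvPolynomial (Fin (n + 1)) k ⧸ (p' j.1).comap (theta f)) =
            ringKrullDim (MvPolynomial (Fin (n + 1)) k ⧸ p' j.1) :=
          ringKrullDim_quotient_comap_eq (theta f).toRingHom hθint (p' j.1)
        rw [← hQinc j, ← ringKrullDim_quotient_eq_of_X_zero_mem _ (hQ0 j), e1, hdim' j.1]
        have h1 := hh j.1
        have h2 := j.2
        show ((n + 1 - h j.1 : ℕ) : WithBot ℕ∞) = ((n - (h j.1 - 1) : ℕ) : WithBot ℕ∞)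
        congr 1
        omega
      obtain ⟨ψ'', hψint, hψinj, hψc⟩ := ih J p'' h'' hp'' hchain'' hh'' hdim''
      have hΨint := ext_isIntegral ψ'' hψint
      have hΨinj : Function.Injective (ext ψ'') :=
        injective_of_isIntegral_of_dim_eq (ext ψ'').toRingHom hΨint (n + 1) hdimP hdimP
      refine ⟨(S.comp (theta f)).comp (ext ψ''), ?_, ?_, ?_⟩
      · exact algHom_comp_isIntegral k _ _ hΨint (algHom_comp_isIntegral k _ _ hθint hSint)
      · exact (hSinj.comp hθinj).comp hΨinj
      · intro i
        by_cases hi : h i = 0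
        · rw [hi]
          refine comap_eq_of_h_zero k _ ((hSinj.comp hθinj).comp hΨinj) _ (hzero i hi)
        · ext g
          have hstep : h i = (h i - 1) + 1 := by omega
          have h1 : g ∈ (p i).comap ((S.comp (theta f)).comp (ext ψ'')) ↔
              ext ψ'' g ∈ (p' i).comap (theta f) := by
            rw [Ideal.mem_comap, Ideal.mem_comap, Ideal.mem_comap, AlgHom.comp_apply,
              AlgHom.comp_apply]
          have h2 : ext ψ'' g ∈ (p' i).comap (theta f) ↔
              ret k n (ext ψ'' g) ∈ p'' ⟨i, hi⟩ := by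
            rw [mem_iff_ret_mem _ (hQ0 ⟨i, hi⟩), hQinc ⟨i, hi⟩]
          have h3 : ret k n (ext ψ'' g) ∈ p'' ⟨i, hi⟩ ↔
              ret k n g ∈ (p'' ⟨i, hi⟩).comap ψ'' := by
            rw [ret_ext]
            exact Ideal.mem_comap.symm
          rw [hstep, mem_span_X_succ_iff, ← hψc ⟨i, hi⟩, h1, h2, h3]

end Groth.Agent.Lib.Helper19ChainNN
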