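import Mathlib
import Groth.Agent.Lib.Helper19ChainNND

set_option autoImplicit false
set_option linter.style.haveILetI false
universe u

open TensorProduct MvPolynomial

namespace Groth.Agent.Helper13QFNorm

section B1

variable (K : Type u) [Field K]

lemma range_X_eq_image (σ : Type*) (A : Type*) [CommSemiring A] (T : Set σ) :
    (Set.range fun i : {i : σ // i ∈ T} => (X (i : σ) : MvPolynomial σ A)) = X '' T := by
  ext x
  constructor
  · rintro ⟨⟨i, hi⟩, rfl⟩
    exact ⟨i, hi, rfl⟩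
  · rintro ⟨i, hi, rfl⟩
    exact ⟨⟨i, hi⟩, rfl⟩

theorem exists_finite_comap_eq (n r : ℕ) (q : Ideal (MvPolynomial (Fin n) K)) [q.IsPrime]
    (hdim : ringKrullDim (MvPolynomial (Fin n) K ⧸ q) = (r : WithBot ℕ∞)) :
    ∃ ψ : MvPolynomial (Fin n) K →ₐ[K] MvPolynomial (Fin n) K, ψ.toRingHom.Finite ∧
      q.comap ψ = Ideal.span (X '' {l : Fin n | r ≤ (l : ℕ)}) := by
  have hrn : r ≤ n := by
    have h1 : ringKrullDim (MvPolynomial (Fin n) K ⧸ q) ≤ ringKrullDim (MvPolynomial (Fin n) K) :=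
      ringKrullDim_quotient_le q
    rw [hdim, Groth.Agent.Lib.Helper19ChainNN.ringKrullDim_mvPolynomial_fin] at h1
    exact_mod_cast h1
  obtain ⟨ψ₀, hint, -, hcomap⟩ := Groth.Agent.Lib.Helper19ChainNN.claim K n Unit (fun _ => q)
    (fun _ => n - r) (fun _ => inferInstance) (fun _ _ => Or.inl le_rfl) (fun _ => Nat.sub_le _ _)
    (fun _ => by rw [hdim, Nat.sub_sub_self hrn])
  have hfin : ψ₀.toRingHom.Finite :=
    Groth.Agent.Lib.Helper19ChainNN.finite_of_isIntegral ψ₀ hint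
  let ε : MvPolynomial (Fin n) K ≃ₐ[K] MvPolynomial (Fin n) K := renameEquiv K Fin.revPerm
  refine ⟨ψ₀.comp ε.toAlgHom, ?_, ?_⟩
  · have : (ψ₀.comp ε.toAlgHom).toRingHom = ψ₀.toRingHom.comp ε.toRingEquiv.toRingHom := rfl
    rw [this]
    exact RingHom.Finite.comp hfin (RingHom.Finite.of_surjective _ ε.surjective)
  · have h1 : q.comap (ψ₀.comp ε.toAlgHom) = (q.comap ψ₀).comap ε.toRingEquiv := by
      ext x; simp [Ideal.mem_comap]
    rw [h1, hcomap ()]
    have h2 : (Ideal.span (X '' {l : Fin n | (l : ℕ) < n - r}) :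
        Ideal (MvPolynomial (Fin n) K)).comap ε.toRingEquiv =
        (Ideal.span (X '' {l : Fin n | (l : ℕ) < n - r})).map ε.toRingEquiv.symm :=
      (Ideal.map_symm ε.toRingEquiv).symm
    rw [h2, Ideal.map_span]
    congr 1
    ext x
    simp only [Set.mem_image, Set.mem_setOf_eq]
    constructor
    · rintro ⟨_, ⟨l, hl, rfl⟩, rfl⟩
      refine ⟨Fin.rev l, ?_, ?_⟩
      · simp only [Fin.val_rev]; omega
      · simp [ε, renameEquiv]
    · rintro ⟨l, hl, rfl⟩
      refine ⟨X (Fin.rev l), ⟨Fin.rev l, ?_, rfl⟩, ?_⟩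
      · simp only [Fin.val_rev]; omega
      · simp [ε, renameEquiv]

end B1

end Groth.Agent.Helper13QFNorm
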