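import Mathlib

set_option autoImplicit false
set_option linter.style.haveILetI false
universe u

open TensorProduct MvPolynomial

namespace Groth.Agent.Helper13QFNorm

section Scale

variable {K : Type u} [Field K] {n : ℕ}

/-- rescale the variables: `X i ↦ u i * X i`. -/
noncomputable def scaleHom (u : Fin n → K) :
    MvPolynomial (Fin n) K →ₐ[K] MvPolynomial (Fin n) K :=
  aeval fun i => C (u i) * X i

@[simp] lemma scaleHom_X (u : Fin n → K) (i : Fin n) : scaleHom u (X i) = C (u i) * X i := by
  simp [scaleHom]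

lemma scaleHom_comp (u v : Fin n → K) (h : ∀ i, u i * v i = 1) :
    (scaleHom u).comp (scaleHom v) = AlgHom.id K _ := by
  apply MvPolynomial.algHom_ext
  intro i
  simp only [AlgHom.comp_apply, scaleHom_X, map_mul, algHom_C, AlgHom.id_apply]
  rw [algebraMap_eq, ← mul_assoc, ← C_mul, mul_comm (v i), h, C_1, one_mul]

lemma scaleHom_scaleHom (u v : Fin n → K) (h : ∀ i, u i * v i = 1) (x : MvPolynomial (Fin n) K) :
    scaleHom u (scaleHom v x) = x := by
  have := DFunLike.congr_fun (scaleHom_comp u v h) x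
  simpa using this

lemma span_le_comap_scaleHom (v : Fin n → K) (T : Set (Fin n)) :
    (Ideal.span (X '' T) : Ideal (MvPolynomial (Fin n) K)) ≤
      (Ideal.span (X '' T)).comap (scaleHom v) := by
  rw [Ideal.span_le]
  rintro _ ⟨i, hi, rfl⟩
  simp only [Ideal.coe_comap, Set.mem_preimage, scaleHom_X, SetLike.mem_coe]
  exact Ideal.mul_mem_left _ _ (Ideal.subset_span ⟨i, hi, rfl⟩)

lemma comap_scaleHom_span (u : Fin n → K) (hu : ∀ i, u i ≠ 0) (T : Set (Fin n)) :
    (Ideal.span (X '' T) : Ideal (MvPolynomial (Fin n) K)).comap (scaleHom u) =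
      Ideal.span (X '' T) := by
  apply le_antisymm
  · intro x hx
    rw [Ideal.mem_comap] at hx
    have h1 := span_le_comap_scaleHom (fun i => (u i)⁻¹) T hx
    rw [Ideal.mem_comap, scaleHom_scaleHom _ _ (fun i => inv_mul_cancel₀ (hu i))] at h1
    exact h1
  · exact span_le_comap_scaleHom u T

lemma scaleHom_finite (u : Fin n → K) (hu : ∀ i, u i ≠ 0) : (scaleHom u).toRingHom.Finite := by
  refine RingHom.Finite.of_surjective _ (fun x => ⟨scaleHom (fun i => (u i)⁻¹) x, ?_⟩)
  exact scaleHom_scaleHom _ _ (fun i => mul_inv_cancel₀ (hu i)) x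

end Scale

section Lift

variable {R : Type u} [CommRing R] (p : Ideal R) [p.IsPrime] (n : ℕ)

theorem exists_scaled_lift
    (ψ : MvPolynomial (Fin n) p.ResidueField →ₐ[p.ResidueField] MvPolynomial (Fin n) p.ResidueField) :
    ∃ (u : Fin n → p.ResidueField) (b : Fin n → MvPolynomial (Fin n) R), (∀ i, u i ≠ 0) ∧
      ∀ i, MvPolynomial.map (algebraMap R p.ResidueField) (b i) = C (u i) * ψ (X i) := by
  have key : ∀ i : Fin n, ∃ (u : p.ResidueField) (b : MvPolynomial (Fin n) R), u ≠ 0 ∧
      MvPolynomial.map (algebraMap R p.ResidueField) b = C u * ψ (X i) := by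
    intro i
    obtain ⟨s, hs, b, hb⟩ := Ideal.Fiber.exists_smul_eq_one_tmul p
      ((algebraTensorAlgEquiv R p.ResidueField).symm (ψ (X i)))
    refine ⟨algebraMap R p.ResidueField s, b, ?_, ?_⟩
    · intro h0
      exact hs (Ideal.algebraMap_residueField_eq_zero.mp h0)
    · have h1 := congrArg (algebraTensorAlgEquiv R p.ResidueField) hb
      rw [algebraTensorAlgEquiv_tmul, one_smul] at h1
      rw [← h1, ← algebraMap_smul p.ResidueField s, map_smul, AlgEquiv.apply_symm_apply,
        smul_eq_C_mul]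
  choose u b hu hb using key
  exact ⟨u, b, hu, hb⟩

end Lift

end Groth.Agent.Helper13QFNorm
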