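import Mathlib
import Groth.Agent.Lib.Helper13QFNormB
import Groth.Agent.Lib.Helper13QFNormC

set_option autoImplicit false
set_option linter.style.haveILetI false
universe u

open TensorProduct MvPolynomial

namespace Groth.Agent.Helper13QFNorm

section B3

variable {R : Type u} [CommRing R] (p : Ideal R) [p.IsPrime]

theorem exists_lift_normalization (n r : ℕ)
    (q : Ideal (MvPolynomial (Fin n) p.ResidueField)) [q.IsPrime]
    (hdim : ringKrullDim (MvPolynomial (Fin n) p.ResidueField ⧸ q) = (r : WithBot ℕ∞)) :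
    ∃ Ψ : MvPolynomial (Fin n) R →ₐ[R] MvPolynomial (Fin n) R,
      (Algebra.TensorProduct.map (AlgHom.id p.ResidueField p.ResidueField) Ψ).toRingHom.Finite ∧
      (q.comap (MvPolynomial.map (algebraMap R p.ResidueField))).comap Ψ =
        (Ideal.span (X '' {l : Fin n | r ≤ (l : ℕ)}) :
          Ideal (MvPolynomial (Fin n) p.ResidueField)).comap
          (MvPolynomial.map (algebraMap R p.ResidueField)) := by
  obtain ⟨ψ, hψfin, hψ⟩ := exists_finite_comap_eq p.ResidueField n r q hdim
  obtain ⟨u, b, hu, hb⟩ := exists_scaled_lift p n ψ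
  set ψ' : MvPolynomial (Fin n) p.ResidueField →ₐ[p.ResidueField]
      MvPolynomial (Fin n) p.ResidueField := ψ.comp (scaleHom u) with hψ'
  set Ψ : MvPolynomial (Fin n) R →ₐ[R] MvPolynomial (Fin n) R := aeval b with hΨ
  have compat : (MvPolynomial.map (algebraMap R p.ResidueField)).comp Ψ.toRingHom =
      ψ'.toRingHom.comp (MvPolynomial.map (algebraMap R p.ResidueField)) := by
    apply MvPolynomial.ringHom_ext
    · intro a
      simp [hΨ, hψ']
    · intro i
      simp [hΨ, hψ', hb]
  have compat' : ∀ f, MvPolynomial.map (algebraMap R p.ResidueField) (Ψ f) =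
      ψ' (MvPolynomial.map (algebraMap R p.ResidueField) f) := fun f => RingHom.congr_fun compat f
  refine ⟨Ψ, ?_, ?_⟩
  · have hψ'fin : ψ'.toRingHom.Finite := by
      have : ψ'.toRingHom = ψ.toRingHom.comp (scaleHom u).toRingHom := rfl
      rw [this]
      exact RingHom.Finite.comp hψfin (scaleHom_finite u hu)
    let e := algebraTensorAlgEquiv (σ := Fin n) R p.ResidueField
    have hmap : Algebra.TensorProduct.map (AlgHom.id p.ResidueField p.ResidueField) Ψ =
        e.symm.toAlgHom.comp (ψ'.comp e.toAlgHom) := by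
      apply Algebra.TensorProduct.ext'
      intro a f
      rw [Algebra.TensorProduct.map_tmul, AlgHom.id_apply]
      show a ⊗ₜ[R] Ψ f = e.symm (ψ' (e (a ⊗ₜ[R] f)))
      rw [algebraTensorAlgEquiv_tmul, map_smul, map_smul, ← compat',
        algebraTensorAlgEquiv_symm_map, smul_tmul', smul_eq_mul, mul_one]
    rw [hmap]
    have : (e.symm.toAlgHom.comp (ψ'.comp e.toAlgHom)).toRingHom =
        e.symm.toRingEquiv.toRingHom.comp (ψ'.toRingHom.comp e.toRingEquiv.toRingHom) := rfl
    rw [this]
    exact RingHom.Finite.comp (RingHom.Finite.of_surjective _ e.symm.surjective)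
      (RingHom.Finite.comp hψ'fin (RingHom.Finite.of_surjective _ e.surjective))
  · ext f
    simp only [Ideal.mem_comap]
    rw [compat', hψ', AlgHom.comp_apply, ← Ideal.mem_comap (f := ψ), hψ, ← Ideal.mem_comap,
      comap_scaleHom_span u hu]

end B3

end Groth.Agent.Helper13QFNorm
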