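import Mathlib

set_option autoImplicit false
set_option linter.style.haveILetI false
universe u

open TensorProduct MvPolynomial

namespace Groth.Agent.Helper13QFNorm

section E

variable {R A : Type*} [CommRing R] [CommRing A] {σ : Type*}

theorem comap_map_span_X_image (f : R →+* A) (T : Set σ) :
    (Ideal.span (X '' T) : Ideal (MvPolynomial σ A)).comap (MvPolynomial.map f) =
      (RingHom.ker f).map (C : R →+* MvPolynomial σ R) ⊔ Ideal.span (X '' T) := by
  classical
  apply le_antisymm
  · intro g hg
    rw [Ideal.mem_comap, mem_ideal_span_X_image] at hg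
    rw [← support_sum_monomial_coeff g]
    refine Ideal.sum_mem _ (fun m _ => ?_)
    by_cases h : ∃ i ∈ T, m i ≠ 0
    · refine Ideal.mem_sup_right ?_
      rw [mem_ideal_span_X_image]
      intro m' hm'
      have := support_monomial_subset hm'
      rw [Finset.mem_singleton] at this
      rw [this]; exact h
    · refine Ideal.mem_sup_left ?_
      have hc : coeff m g ∈ RingHom.ker f := by
        rw [RingHom.mem_ker]
        by_contra hne
        apply h
        apply hg m
        rw [mem_support_iff, coeff_map]
        exact hne
      have : monomial m (coeff m g) = C (coeff m g) * monomial m 1 := by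
        rw [C_mul_monomial, mul_one]
      rw [this]
      exact Ideal.mul_mem_right _ _ (Ideal.mem_map_of_mem C hc)
  · refine sup_le ?_ ?_
    · rw [Ideal.map_le_iff_le_comap]
      intro a ha
      rw [Ideal.mem_comap, Ideal.mem_comap, map_C, (RingHom.mem_ker).mp ha, C_0]
      exact Ideal.zero_mem _
    · rw [Ideal.span_le]
      rintro _ ⟨i, hi, rfl⟩
      simp only [Ideal.coe_comap, Set.mem_preimage, map_X, SetLike.mem_coe]
      exact Ideal.subset_span ⟨i, hi, rfl⟩

end E

end Groth.Agent.Helper13QFNorm
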