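import Groth.Agent.Lib.Helper4FibDimC

/-!
# Fibre dimension, ring level (part D): the local structure theorem

* `exists_quasiFinite_away`: `R → S` of finite type, `Q` a point of the fibre `Spec (κ(p) ⊗ S)` at which
  the fibre has local dimension `≤ n`. Then there are `g : S` with `Q ∈ D(1 ⊗ g)` and a finite type,
  quasi-finite `R`-algebra map `R[t₁..tₙ] → S_g`.
* `localDim_fiber_le_of_quasiFinite_away`: conversely, if `R[t₁..tₙ] → S_g` is quasi-finite, every
  point of every fibre lying in `D(g)` has local dimension `≤ n` in its fibre.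
-/

set_option autoImplicit false
set_option linter.style.haveILetI false
universe u

open TensorProduct PrimeSpectrum TopologicalSpace

namespace Groth.Agent.Lib.Helper4.FibDim

lemma topologicalKrullDim_mono_set {X : Type*} [TopologicalSpace X] {A B : Set X} (h : A ⊆ B) :
    topologicalKrullDim A ≤ topologicalKrullDim B :=
  (Topology.IsEmbedding.inclusion h).isInducing.topologicalKrullDim_le

variable {R S : Type u} [CommRing R] [CommRing S] [Algebra R S]

theorem localDim_fiber_le_of_quasiFinite_away (n : ℕ) (g : S)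
    (φ : MvPolynomial (Fin n) R →ₐ[R] Localization.Away g) (hφ : φ.toRingHom.QuasiFinite)
    (p' : Ideal R) [p'.IsPrime] (Q' : PrimeSpectrum (p'.Fiber S))
    (hg : (1 ⊗ₜ[R] g : p'.Fiber S) ∉ Q'.asIdeal) :
    FlatMor.localDim (PrimeSpectrum (p'.Fiber S)) Q' ≤ (n : WithBot ℕ∞) := by
  letI : Algebra (MvPolynomial (Fin n) R) (Localization.Away g) := φ.toRingHom.toAlgebra
  haveI : IsScalarTower R (MvPolynomial (Fin n) R) (Localization.Away g) :=
    IsScalarTower.of_algebraMap_eq (fun x => (φ.commutes x).symm)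
  haveI : Algebra.QuasiFinite (MvPolynomial (Fin n) R) (Localization.Away g) := hφ
  have h1 := ringKrullDim_fiber_le_of_quasiFinite_mvPolynomial (B := Localization.Away g) p' n
  rw [ringKrullDim_fiber_away] at h1
  exact (Groth.Agent.Lib.Helper7.TopDim.localDim_le Q' _ hg).trans h1

lemma exists_notMem_quasiFinite_away {R S : Type*} [CommRing R] [CommRing S] [Algebra R S]
    [Algebra.FiniteType R S] (p : Ideal S) [p.IsPrime] [Algebra.QuasiFiniteAt R p] :
    ∃ r : S, r ∉ p ∧ Algebra.QuasiFinite R (Localization.Away r) := by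
  obtain ⟨S', hS', r, hrp, H⟩ :=
    Algebra.QuasiFiniteAt.exists_fg_and_exists_notMem_and_awayMap_bijective (R := R) p
  have : Module.Finite R S' := ⟨(Submodule.fg_top _).mpr hS'⟩
  have : Algebra.QuasiFinite R (Localization.Away r) :=
    .trans _ S' _
  have : Algebra.QuasiFinite R (Localization.Away r.1) :=
    .of_surjective_algHom (Localization.awayMapₐ S'.val r) H.2
  exact ⟨r.1, hrp, this⟩

theorem exists_quasiFinite_away [Algebra.FiniteType R S] (p : Ideal R) [p.IsPrime]
    (Q : PrimeSpectrum (p.Fiber S)) (n : ℕ)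
    (hdim : FlatMor.localDim (PrimeSpectrum (p.Fiber S)) Q ≤ (n : WithBot ℕ∞)) :
    ∃ g : S, (1 ⊗ₜ[R] g : p.Fiber S) ∉ Q.asIdeal ∧
      ∃ φ : MvPolynomial (Fin n) R →ₐ[R] Localization.Away g,
        φ.toRingHom.FiniteType ∧ φ.toRingHom.QuasiFinite := by
  obtain ⟨U, hQU, hU⟩ := Groth.Agent.Lib.Helper7.TopDim.exists_opens_dim_eq_localDim Q
  obtain ⟨g₁, hg₁Q, hg₁U⟩ := exists_basicOpen_one_tmul_le p U Q hQU
  have hdimB : ringKrullDim (p.Fiber (Localization.Away g₁)) ≤ n := by
    rw [ringKrullDim_fiber_away]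
    exact (topologicalKrullDim_mono_set hg₁U).trans (hU.le.trans hdim)
  haveI : Nontrivial (p.Fiber (Localization.Away g₁)) := by
    rcases subsingleton_or_nontrivial (p.Fiber (Localization.Away g₁)) with h | h
    · exfalso
      have h1 := ringKrullDim_eq_bot_of_subsingleton (R := p.Fiber (Localization.Away g₁))
      rw [ringKrullDim_fiber_away] at h1
      haveI : Nonempty ((PrimeSpectrum.basicOpen (1 ⊗ₜ[R] g₁ : p.Fiber S) :
        Opens (PrimeSpectrum (p.Fiber S))) : Set (PrimeSpectrum (p.Fiber S))) := ⟨⟨Q, hg₁Q⟩⟩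
      have h2 := Groth.Agent.Lib.Helper7.TopDim.topologicalKrullDim_nonneg
        (X := ((PrimeSpectrum.basicOpen (1 ⊗ₜ[R] g₁ : p.Fiber S) :
        Opens (PrimeSpectrum (p.Fiber S))) : Set (PrimeSpectrum (p.Fiber S))))
      rw [h1] at h2
      exact absurd h2 (by simp)
    · exact h
  haveI : Algebra.FiniteType R (Localization.Away g₁) :=
    Algebra.FiniteType.trans (inferInstance : Algebra.FiniteType R S) inferInstance
  obtain ⟨φ₁, hφ₁⟩ := exists_algHom_fiber_finite (B := Localization.Away g₁) p n hdimB
  letI : Algebra (MvPolynomial (Fin n) R) (Localization.Away g₁) := φ₁.toRingHom.toAlgebra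
  haveI : IsScalarTower R (MvPolynomial (Fin n) R) (Localization.Away g₁) :=
    IsScalarTower.of_algebraMap_eq (fun x => (φ₁.commutes x).symm)
  haveI : Algebra.FiniteType (MvPolynomial (Fin n) R) (Localization.Away g₁) :=
    .of_restrictScalars_finiteType R _ _
  have hφ₁' : (Algebra.TensorProduct.map (AlgHom.id p.ResidueField p.ResidueField)
      (IsScalarTower.toAlgHom R (MvPolynomial (Fin n) R) (Localization.Away g₁))).toRingHom.Finite := by
    have : IsScalarTower.toAlgHom R (MvPolynomial (Fin n) R) (Localization.Away g₁) = φ₁ := by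
      ext x; rfl
    rw [this]; exact hφ₁
  -- the prime
  set q : Ideal S := Q.asIdeal.comap Algebra.TensorProduct.includeRight.toRingHom with hq
  have hg₁q : g₁ ∉ q := hg₁Q
  have hdisj : Disjoint (Submonoid.powers g₁ : Set S) (q : Set S) := by
    rw [Set.disjoint_left]
    rintro _ ⟨k, rfl⟩ hk
    exact hg₁q (Ideal.IsPrime.mem_of_pow_mem inferInstance k hk)
  set q' : Ideal (Localization.Away g₁) := q.map (algebraMap S (Localization.Away g₁)) with hq'
  haveI hq'prime : q'.IsPrime :=
    IsLocalization.isPrime_of_isPrime_disjoint (Submonoid.powers g₁) _ q inferInstance hdisj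
  have hq'c : q'.comap (algebraMap S (Localization.Away g₁)) = q :=
    IsLocalization.under_map_of_isPrime_disjoint (Submonoid.powers g₁) _ inferInstance hdisj
  have hqR : q.comap (algebraMap R S) = p := by
    rw [hq, Ideal.comap_comap]
    have : (Algebra.TensorProduct.includeRight (R := R) (A := p.ResidueField) (B := S)).toRingHom.comp
        (algebraMap R S) = algebraMap R (p.Fiber S) := by
      ext x; simp [Algebra.algebraMap_eq_smul_one]
    rw [this]
    exact (Q.asIdeal.over_def p).symm
  have hq'R : q'.under R = p := by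
    rw [Ideal.under, IsScalarTower.algebraMap_eq R S (Localization.Away g₁), ← Ideal.comap_comap,
      hq'c, hqR]
  haveI := quasiFiniteAt_of_fiber_finite p hφ₁' q' hq'R
  obtain ⟨r, hrq, hqf⟩ := exists_notMem_quasiFinite_away (R := MvPolynomial (Fin n) R) q'
  -- write `r = s / g₁ ^ k`
  obtain ⟨s, ⟨_, k, rfl⟩, hs⟩ := IsLocalization.exists_mk'_eq (Submonoid.powers g₁) r
  have hunit : IsUnit (algebraMap S (Localization.Away g₁) (g₁ ^ k)) :=
    IsLocalization.map_units (Localization.Away g₁) (⟨g₁ ^ k, k, rfl⟩ : Submonoid.powers g₁)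
  have hassoc : Associated (algebraMap S (Localization.Away g₁) s) r := by
    refine Associated.symm ⟨hunit.unit, ?_⟩
    rw [IsUnit.unit_spec, ← hs, IsLocalization.mk'_spec]
  haveI hloc : IsLocalization.Away (g₁ * s) (Localization.Away r) :=
    IsLocalization.Away.mul_of_associated g₁ s r hassoc
  let e : Localization.Away r ≃ₐ[S] Localization.Away (g₁ * s) :=
    IsLocalization.algEquiv (Submonoid.powers (g₁ * s)) _ _
  let φ : MvPolynomial (Fin n) R →ₐ[R] Localization.Away (g₁ * s) :=
    ((e.restrictScalars R : Localization.Away r ≃ₐ[R] _) : _ →ₐ[R] _).comp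
      ((IsScalarTower.toAlgHom R (Localization.Away g₁) (Localization.Away r)).comp φ₁)
  have hφ : φ.toRingHom = (e.toRingEquiv.toRingHom.comp
      (algebraMap (Localization.Away g₁) (Localization.Away r))).comp
      (algebraMap (MvPolynomial (Fin n) R) (Localization.Away g₁)) := by
    ext x <;> rfl
  have hsq : s ∉ q := by
    intro hsq
    apply hrq
    have h1 : algebraMap S (Localization.Away g₁) s ∈ q' := Ideal.mem_map_of_mem _ hsq
    exact (Ideal.mem_iff_of_associated hassoc).mp h1
  have he_fin : e.toRingEquiv.toRingHom.Finite :=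
    RingHom.Finite.of_surjective _ e.toRingEquiv.surjective
  refine ⟨g₁ * s, ?_, φ, ?_, ?_⟩
  · show g₁ * s ∉ q
    exact fun h => (Ideal.IsPrime.mem_or_mem inferInstance h).elim hg₁q hsq
  · rw [hφ]
    refine RingHom.FiniteType.comp (RingHom.FiniteType.comp ?_ ?_) ?_
    · exact he_fin.finiteType
    · exact RingHom.finiteType_algebraMap.mpr inferInstance
    · exact RingHom.finiteType_algebraMap.mpr inferInstance
  · rw [hφ, RingHom.comp_assoc]
    refine RingHom.QuasiFinite.comp (RingHom.QuasiFinite.of_finite he_fin) ?_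
    rw [← IsScalarTower.algebraMap_eq]
    exact RingHom.quasiFinite_algebraMap.mpr hqf

end Groth.Agent.Lib.Helper4.FibDim
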