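import Mathlib
import Groth.Agent.Lib.Helper4FibDimD

set_option autoImplicit false
set_option linter.style.haveILetI false
universe u

open TensorProduct MvPolynomial

namespace Groth.Agent.Helper13QFNorm

section D

variable {R P B T : Type u} [CommRing R] [CommRing P] [CommRing B] [CommRing T]
  [Algebra R P] [Algebra R B] [Algebra R T]

theorem exists_quasiFinite_away_comp (Ψ : P →ₐ[R] B) (φ₀ : B →ₐ[R] T)
    (hΨ : Ψ.toRingHom.FiniteType) (hφ₀ : φ₀.toRingHom.QuasiFinite)
    (p : Ideal R) [p.IsPrime]
    (hfin : (Algebra.TensorProduct.map (AlgHom.id p.ResidueField p.ResidueField)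
      Ψ).toRingHom.Finite)
    (𝔮' : Ideal T) [𝔮'.IsPrime] (h𝔮' : 𝔮'.under R = p) :
    ∃ s : T, s ∉ 𝔮' ∧
      ((algebraMap T (Localization.Away s)).comp (φ₀.comp Ψ).toRingHom).QuasiFinite := by
  letI : Algebra P B := Ψ.toRingHom.toAlgebra
  haveI : IsScalarTower R P B := IsScalarTower.of_algebraMap_eq (fun x => (Ψ.commutes x).symm)
  letI : Algebra B T := φ₀.toRingHom.toAlgebra
  haveI : IsScalarTower R B T := IsScalarTower.of_algebraMap_eq (fun x => (φ₀.commutes x).symm)
  letI : Algebra P T := (φ₀.comp Ψ).toRingHom.toAlgebra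
  haveI : IsScalarTower P B T := IsScalarTower.of_algebraMap_eq (fun x => rfl)
  haveI : IsScalarTower R P T :=
    IsScalarTower.of_algebraMap_eq (fun x => ((φ₀.comp Ψ).commutes x).symm)
  haveI : Algebra.FiniteType P B := hΨ
  haveI : Algebra.QuasiFinite B T := hφ₀
  have hfin' : (Algebra.TensorProduct.map (AlgHom.id p.ResidueField p.ResidueField)
      (IsScalarTower.toAlgHom R P B)).toRingHom.Finite := by
    have : IsScalarTower.toAlgHom R P B = Ψ := by ext x; rfl
    rw [this]; exact hfin
  obtain ⟨𝔮, h𝔮⟩ : ∃ 𝔮 : Ideal B, 𝔮 = 𝔮'.under B := ⟨_, rfl⟩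
  haveI : 𝔮.IsPrime := by rw [h𝔮]; infer_instance
  have h𝔮R : 𝔮.under R = p := by rw [h𝔮, Ideal.under_under]; exact h𝔮'
  haveI := Groth.Agent.Lib.Helper4.FibDim.quasiFiniteAt_of_fiber_finite p hfin' 𝔮 h𝔮R
  obtain ⟨g', hg', hqf⟩ :=
    Groth.Agent.Lib.Helper4.FibDim.exists_notMem_quasiFinite_away (R := P) 𝔮
  refine ⟨algebraMap B T g', ?_, ?_⟩
  · intro hmem
    apply hg'
    rw [h𝔮]
    exact hmem
  · set s := algebraMap B T g' with hs
    have hunit : IsUnit (algebraMap B (Localization.Away s) g') := by
      rw [IsScalarTower.algebraMap_apply B T (Localization.Away s)]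
      exact IsLocalization.Away.algebraMap_isUnit s
    letI : Algebra (Localization.Away g') (Localization.Away s) :=
      (IsLocalization.Away.lift g' hunit).toAlgebra
    haveI : IsScalarTower B (Localization.Away g') (Localization.Away s) :=
      IsScalarTower.of_algebraMap_eq (fun x => (IsLocalization.Away.lift_eq g' hunit x).symm)
    haveI : IsScalarTower P (Localization.Away g') (Localization.Away s) := by
      refine IsScalarTower.of_algebraMap_eq (fun x => ?_)
      rw [IsScalarTower.algebraMap_apply P B (Localization.Away g'),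
        ← IsScalarTower.algebraMap_apply B (Localization.Away g') (Localization.Away s),
        ← IsScalarTower.algebraMap_apply P B (Localization.Away s)]
    haveI : Algebra.QuasiFinite B (Localization.Away s) := inferInstance
    haveI : Algebra.QuasiFinite (Localization.Away g') (Localization.Away s) :=
      Algebra.QuasiFinite.of_restrictScalars B (Localization.Away g') (Localization.Away s)
    haveI : Algebra.QuasiFinite P (Localization.Away s) :=
      Algebra.QuasiFinite.trans P (Localization.Away g') (Localization.Away s)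
    have : (algebraMap T (Localization.Away s)).comp (φ₀.comp Ψ).toRingHom =
        algebraMap P (Localization.Away s) := by
      rw [IsScalarTower.algebraMap_eq P T (Localization.Away s)]
      rfl
    rw [this]
    exact RingHom.quasiFinite_algebraMap.mpr inferInstance

end D

end Groth.Agent.Helper13QFNorm
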