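import Mathlib
import Groth.Agent.Lib.Helper13QFNormA
import Groth.Agent.Lib.Helper13QFNormD
import Groth.Agent.Lib.Helper13QFNormE
import Groth.Agent.Lib.Helper13QFNormF

set_option autoImplicit false
set_option linter.style.haveILetI false
universe u

open TensorProduct MvPolynomial

namespace Groth.Agent.Helper13QFNorm

section Core

variable {R S' : Type u} [CommRing R] [CommRing S'] [Algebra R S']

theorem core (n r : ℕ) (φ₀ : MvPolynomial (Fin n) R →ₐ[R] S')
    (hft : φ₀.toRingHom.FiniteType) (hqf : φ₀.toRingHom.QuasiFinite)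
    (p : Ideal R) [p.IsPrime] (q' : Ideal S') [q'.IsPrime] [q'.LiesOver p]
    [Algebra (Localization.AtPrime p) (Localization.AtPrime q')]
    [Localization.AtPrime.IsLiesOverAlgebra p q']
    (hr : Algebra.trdeg p.ResidueField q'.ResidueField = r) :
    ∃ s : S', s ∉ q' ∧ ∃ φ : MvPolynomial (Fin n) R →ₐ[R] Localization.Away s,
      φ.toRingHom.FiniteType ∧ φ.toRingHom.QuasiFinite ∧
      (q'.map (algebraMap S' (Localization.Away s))).comap φ =
        p.map (algebraMap R (MvPolynomial (Fin n) R)) ⊔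
          Ideal.span (X '' {l : Fin n | r ≤ (l : ℕ)}) := by
  letI algBS : Algebra (MvPolynomial (Fin n) R) S' := φ₀.toRingHom.toAlgebra
  haveI : IsScalarTower R (MvPolynomial (Fin n) R) S' :=
    IsScalarTower.of_algebraMap_eq (fun x => (φ₀.commutes x).symm)
  haveI : Algebra.QuasiFinite (MvPolynomial (Fin n) R) S' := hqf
  -- the image prime
  obtain ⟨𝔮, h𝔮⟩ : ∃ 𝔮 : Ideal (MvPolynomial (Fin n) R), 𝔮 = q'.under (MvPolynomial (Fin n) R) :=
    ⟨_, rfl⟩
  haveI : 𝔮.IsPrime := by rw [h𝔮]; infer_instance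
  have h𝔮R : 𝔮.under R = p := by
    rw [h𝔮, Ideal.under_under]; exact (q'.over_def p).symm
  let pp : PrimeSpectrum R := ⟨p, inferInstance⟩
  let t : PrimeSpectrum.comap (algebraMap R (MvPolynomial (Fin n) R)) ⁻¹' {pp} :=
    ⟨⟨𝔮, inferInstance⟩, PrimeSpectrum.ext h𝔮R⟩
  set QB : PrimeSpectrum (p.Fiber (MvPolynomial (Fin n) R)) :=
    PrimeSpectrum.preimageHomeomorphFiber R (MvPolynomial (Fin n) R) pp t with hQBdef
  have hQB : QB.asIdeal.comap Algebra.TensorProduct.includeRight.toRingHom = 𝔮 :=
    congrArg PrimeSpectrum.asIdeal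
      (Groth.Agent.Lib.Helper4.FibDim.comap_includeRight_preimageHomeomorphFiber p t)
  have hdimQ : ringKrullDim (p.Fiber (MvPolynomial (Fin n) R) ⧸ QB.asIdeal) = (r : WithBot ℕ∞) :=
    ringKrullDim_fiber_quotient_eq p q' QB.asIdeal (h𝔮.symm.trans hQB.symm) r hr
  -- transport to `K[t]`
  let e := algebraTensorAlgEquiv (σ := Fin n) R p.ResidueField
  set qbar : Ideal (MvPolynomial (Fin n) p.ResidueField) :=
    QB.asIdeal.comap e.symm.toRingEquiv with hqbar
  haveI : qbar.IsPrime := Ideal.comap_isPrime _ _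
  have hqbar' : qbar = QB.asIdeal.map (e.toRingEquiv : _ →+* _) :=
    (Ideal.map_comap_of_equiv (I := QB.asIdeal) e.toRingEquiv).symm
  have hdim : ringKrullDim (MvPolynomial (Fin n) p.ResidueField ⧸ qbar) = (r : WithBot ℕ∞) := by
    rw [← hdimQ]
    exact (ringKrullDim_eq_of_ringEquiv
      (Ideal.quotientEquiv QB.asIdeal qbar e.toRingEquiv hqbar')).symm
  have hqbar𝔮 : qbar.comap (MvPolynomial.map (algebraMap R p.ResidueField)) = 𝔮 := by
    rw [← hQB]
    ext x
    simp only [Ideal.mem_comap, hqbar]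
    have : e.symm.toRingEquiv (MvPolynomial.map (algebraMap R p.ResidueField) x) =
        Algebra.TensorProduct.includeRight.toRingHom x :=
      algebraTensorAlgEquiv_symm_map R p.ResidueField x
    rw [this]
  obtain ⟨Ψ, hΨfin, hΨcomap⟩ := exists_lift_normalization p n r qbar hdim
  have hΨft : Ψ.toRingHom.FiniteType := by
    have h : algebraMap R (MvPolynomial (Fin n) R) =
        Ψ.toRingHom.comp (algebraMap R (MvPolynomial (Fin n) R)) := by
      ext c; simp
    exact ((h ▸ RingHom.finiteType_algebraMap.mpr inferInstance :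
      (Ψ.toRingHom.comp (algebraMap R (MvPolynomial (Fin n) R))).FiniteType).of_comp_finiteType)
  obtain ⟨s, hs, hqf'⟩ := exists_quasiFinite_away_comp Ψ φ₀ hΨft hqf p hΨfin q'
    (q'.over_def p).symm
  refine ⟨s, hs, (IsScalarTower.toAlgHom R S' (Localization.Away s)).comp (φ₀.comp Ψ), ?_,
    hqf', ?_⟩
  · have : ((IsScalarTower.toAlgHom R S' (Localization.Away s)).comp (φ₀.comp Ψ)).toRingHom =
        (algebraMap S' (Localization.Away s)).comp (φ₀.toRingHom.comp Ψ.toRingHom) := rfl
    rw [this]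
    exact RingHom.FiniteType.comp (RingHom.finiteType_algebraMap.mpr inferInstance)
      (RingHom.FiniteType.comp hft hΨft)
  · have hdisj : Disjoint (Submonoid.powers s : Set S') (q' : Set S') := by
      rw [Set.disjoint_left]
      rintro _ ⟨k, rfl⟩ hk
      exact hs (Ideal.IsPrime.mem_of_pow_mem inferInstance k hk)
    have h1 : (q'.map (algebraMap S' (Localization.Away s))).comap
        (algebraMap S' (Localization.Away s)) = q' :=
      IsLocalization.under_map_of_isPrime_disjoint (Submonoid.powers s) _ inferInstance hdisj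
    have h2 : (q'.map (algebraMap S' (Localization.Away s))).comap
        ((IsScalarTower.toAlgHom R S' (Localization.Away s)).comp (φ₀.comp Ψ)) =
        (((q'.map (algebraMap S' (Localization.Away s))).comap
          (algebraMap S' (Localization.Away s))).comap φ₀).comap Ψ := by
      ext x; simp [Ideal.mem_comap]
    rw [h2, h1]
    have h3 : q'.comap φ₀ = 𝔮 := h𝔮.symm
    rw [h3, ← hqbar𝔮, hΨcomap, comap_map_span_X_image, Ideal.ker_algebraMap_residueField,
      MvPolynomial.algebraMap_eq]

end Core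

end Groth.Agent.Helper13QFNorm
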