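import Mathlib
import Groth.Prelude.Def_Flat
import Groth.Agent.Lib.Helper13QFNormG

set_option autoImplicit false
set_option linter.style.haveILetI false
universe u

open TensorProduct MvPolynomial

namespace Groth.Agent.Helper13QFNorm

lemma map_ringEquiv_map {A B C : Type*} [CommRing A] [CommRing B] [CommRing C] (e : A ≃+* B)
    (f : C →+* A) (f' : C →+* B) (h : ∀ x, e (f x) = f' x) (I : Ideal C) :
    (I.map f).map e = I.map f' := by
  show Ideal.map (e : A →+* B) _ = _
  rw [Ideal.map_map]
  congr 1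
  ext x
  exact h x

theorem main (R S : Type u) [CommRing R] [CommRing S]
    [Algebra R S] [Algebra.FiniteType R S] (p : Ideal R) [p.IsPrime] (q : Ideal S) [q.IsPrime] [q.LiesOver p]
    [Algebra (Localization.AtPrime p) (Localization.AtPrime q)]
    [Localization.AtPrime.IsLiesOverAlgebra p q] (Q : PrimeSpectrum (p.Fiber S))
    (hQ : Q.asIdeal.comap (Algebra.TensorProduct.includeRight.toRingHom) = q) (n r : ℕ)
    (hdim : FlatMor.localDim (PrimeSpectrum (p.Fiber S)) Q = (n : WithBot ℕ∞))
    (hr : Algebra.trdeg p.ResidueField q.ResidueField = r) :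
    ∃ (f : R) (g : S), f ∉ p ∧ g ∉ q ∧
      ∃ φ : MvPolynomial (Fin n) (Localization.Away f) →ₐ[R] Localization.Away g,
        φ.toRingHom.FiniteType ∧ φ.toRingHom.QuasiFinite ∧
        (q.map (algebraMap S (Localization.Away g))).comap φ =
          p.map (algebraMap R (MvPolynomial (Fin n) (Localization.Away f))) ⊔
            Ideal.span (Set.range fun i : {i : Fin n // r ≤ (i : ℕ)} =>
              (MvPolynomial.X (i : Fin n) : MvPolynomial (Fin n) (Localization.Away f))) := by
  obtain ⟨g₀, hg₀Q, φ₀, hft, hqf⟩ :=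
    Groth.Agent.Lib.Helper4.FibDim.exists_quasiFinite_away p Q n (le_of_eq hdim)
  have hg₀q : g₀ ∉ q := by
    rw [← hQ]; exact hg₀Q
  have hdisj₀ : Disjoint (Submonoid.powers g₀ : Set S) (q : Set S) := by
    rw [Set.disjoint_left]
    rintro _ ⟨k, rfl⟩ hk
    exact hg₀q (Ideal.IsPrime.mem_of_pow_mem inferInstance k hk)
  obtain ⟨q₀, hq₀⟩ : ∃ q₀ : Ideal (Localization.Away g₀),
      q₀ = q.map (algebraMap S (Localization.Away g₀)) := ⟨_, rfl⟩
  haveI hq₀prime : q₀.IsPrime := by
    rw [hq₀]
    exact IsLocalization.isPrime_of_isPrime_disjoint (Submonoid.powers g₀) _ q inferInstance hdisj₀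
  have hq₀c : q₀.comap (algebraMap S (Localization.Away g₀)) = q := by
    rw [hq₀]
    exact IsLocalization.under_map_of_isPrime_disjoint (Submonoid.powers g₀) _ inferInstance hdisj₀
  haveI : q₀.LiesOver q := ⟨hq₀c.symm⟩
  haveI : q₀.LiesOver p := Ideal.LiesOver.trans q₀ q p
  letI := Localization.AtPrime.algebraOfLiesOver p q₀
  letI := Localization.AtPrime.algebraOfLiesOver q q₀
  have hr₀ : Algebra.trdeg p.ResidueField q₀.ResidueField = r :=
    (trdeg_residueField_eq_of_quasiFinite p q q₀).trans hr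
  obtain ⟨s, hs, φ, hφft, hφqf, hφI⟩ := core n r φ₀ hft hqf p q₀ hr₀
  -- write `s = s' / g₀ ^ k`
  obtain ⟨s', ⟨_, k, rfl⟩, hs'⟩ := IsLocalization.exists_mk'_eq (Submonoid.powers g₀) s
  have hunit : IsUnit (algebraMap S (Localization.Away g₀) (g₀ ^ k)) :=
    IsLocalization.map_units (Localization.Away g₀) (⟨g₀ ^ k, k, rfl⟩ : Submonoid.powers g₀)
  have hassoc : Associated (algebraMap S (Localization.Away g₀) s') s := by
    refine Associated.symm ⟨hunit.unit, ?_⟩
    rw [IsUnit.unit_spec, ← hs', IsLocalization.mk'_spec]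
  haveI hloc : IsLocalization.Away (g₀ * s') (Localization.Away s) :=
    IsLocalization.Away.mul_of_associated g₀ s' s hassoc
  let E₁ : Localization.Away s ≃ₐ[S] Localization.Away (g₀ * s') :=
    IsLocalization.algEquiv (Submonoid.powers (g₀ * s')) _ _
  have hs'q : s' ∉ q := by
    intro hsq
    apply hs
    have h1 : algebraMap S (Localization.Away g₀) s' ∈ q₀ := by
      rw [hq₀]; exact Ideal.mem_map_of_mem _ hsq
    exact (Ideal.mem_iff_of_associated hassoc).mp h1
  let ε : R ≃ₐ[R] Localization.Away (1 : R) := IsLocalization.atOne R _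
  let E₂ : MvPolynomial (Fin n) R ≃ₐ[R] MvPolynomial (Fin n) (Localization.Away (1 : R)) :=
    mapAlgEquiv (Fin n) ε
  let E₁' : Localization.Away s ≃ₐ[R] Localization.Away (g₀ * s') := E₁.restrictScalars R
  refine ⟨1, g₀ * s', ?_, ?_, (E₁'.toAlgHom.comp φ).comp E₂.symm.toAlgHom, ?_, ?_, ?_⟩
  · exact (Ideal.ne_top_iff_one p).mp (Ideal.IsPrime.ne_top inferInstance)
  · exact fun h => (Ideal.IsPrime.mem_or_mem inferInstance h).elim hg₀q hs'q
  · have : ((E₁'.toAlgHom.comp φ).comp E₂.symm.toAlgHom).toRingHom =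
        E₁'.toRingEquiv.toRingHom.comp (φ.toRingHom.comp E₂.symm.toRingEquiv.toRingHom) := rfl
    rw [this]
    exact RingHom.FiniteType.comp (RingHom.FiniteType.of_surjective _ E₁'.surjective)
      (RingHom.FiniteType.comp hφft (RingHom.FiniteType.of_surjective _ E₂.symm.surjective))
  · have : ((E₁'.toAlgHom.comp φ).comp E₂.symm.toAlgHom).toRingHom =
        E₁'.toRingEquiv.toRingHom.comp (φ.toRingHom.comp E₂.symm.toRingEquiv.toRingHom) := rfl
    rw [this]
    exact RingHom.QuasiFinite.comp
      (RingHom.QuasiFinite.of_finite (RingHom.Finite.of_surjective _ E₁'.surjective))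
      (RingHom.QuasiFinite.comp hφqf
        (RingHom.QuasiFinite.of_finite (RingHom.Finite.of_surjective _ E₂.symm.surjective)))
  · -- the ideal
    have hE₁ : (q.map (algebraMap S (Localization.Away (g₀ * s')))).comap E₁.toRingEquiv =
        q₀.map (algebraMap (Localization.Away g₀) (Localization.Away s)) := by
      rw [hq₀, Ideal.map_map, ← IsScalarTower.algebraMap_eq,
        ← Ideal.map_symm E₁.toRingEquiv]
      exact map_ringEquiv_map _ _ _ (fun x => by simp) q
    have h1 : (q.map (algebraMap S (Localization.Away (g₀ * s')))).comap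
        ((E₁'.toAlgHom.comp φ).comp E₂.symm.toAlgHom) =
        (((q.map (algebraMap S (Localization.Away (g₀ * s')))).comap E₁.toRingEquiv).comap
          φ).comap E₂.symm.toRingEquiv := by
      ext x; simp [Ideal.mem_comap, E₁']
    rw [h1, hE₁, hφI, ← Ideal.map_symm E₂.symm.toRingEquiv, Ideal.map_sup,
      Ideal.map_span, ← range_X_eq_image (Fin n) _ {l : Fin n | r ≤ (l : ℕ)}]
    congr 1
    · exact map_ringEquiv_map _ _ _ (fun x => E₂.commutes x) p
    · congr 1
      ext x
      simp only [Set.mem_image, Set.mem_range, Set.mem_ofPred_eq, Subtype.exists]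
      constructor
      · rintro ⟨_, ⟨i, hi, rfl⟩, rfl⟩
        exact ⟨i, hi, by simp [E₂]⟩
      · rintro ⟨i, hi, rfl⟩
        exact ⟨X i, ⟨i, hi, rfl⟩, by simp [E₂]⟩

end Groth.Agent.Helper13QFNorm
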