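import Mathlib
import Groth.Prelude.Def_QFDual
import Groth.Agent.S9287
import Groth.Agent.Lib.Helper28QFAss
import Groth.Agent.Lib.Helper13QFOmega13
import Groth.Agent.Lib.Helper13QFOmega14

set_option autoImplicit false
universe u
open TensorProduct

namespace Groth.Agent.Helper13QFOmega

/-- the relative dualizing module of a quasi-finite syntomic map is invertible. -/
theorem invertible_omega_of_isSyntomic (A B' B : Type u) [CommRing A] [CommRing B'] [CommRing B]
    [IsNoetherianRing A] [Algebra A B'] [Algebra B' B] [Algebra A B] [IsScalarTower A B' B]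
    (hf : QFDual.IsQFFactor A B' B) (hs : Synt.IsSyntomic A B) :
    Module.Invertible B (QFDual.omega A B' B) := by
  haveI := hf.finite
  obtain ⟨hflat, hl⟩ := (Groth.Agent.S9287.result A B).1 hs
  haveI := hflat
  haveI : Algebra.FinitePresentation A B := hs.2.1
  haveI : IsNoetherianRing B := Algebra.FiniteType.isNoetherianRing A B
  haveI : Module.Finite B (B ⊗[B'] Disc.Omega A B') := inferInstance
  haveI : Module.FinitePresentation B (B ⊗[B'] Disc.Omega A B') :=
    Module.finitePresentation_of_finite B _
  apply invertible_of_forall_prime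
  intro q hq
  haveI hq' : (q.comap (algebraMap B' B)).IsPrime := Ideal.comap_isPrime _ _
  haveI : IsLocalization.AtPrime (Localization.AtPrime q) (q.comap (algebraMap B' B)) :=
    Groth.Agent.Lib.Helper28.QFAss.isLocalization_atPrime_of_isOpenImmersion hf.isOpenImmersion q
  obtain ⟨e⟩ := nonempty_T_tensor_omega_equiv A B' (q.comap (algebraMap B' B))
    (Localization.AtPrime q) B q.primeCompl hl
  exact ⟨(TensorProduct.AlgebraTensorModule.cancelBaseChange B' B (Localization.AtPrime q)
    (Localization.AtPrime q) (Disc.Omega A B')).trans e⟩

end Groth.Agent.Helper13QFOmega
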