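import Mathlib
import Groth.Prelude.Def_Mor2
import Groth.Agent.Lib.Helper5LciPerf
import Groth.Agent.S15821

/-!
# Regular closed immersions are (affine-locally) lci morphisms (helper5)
-/

set_option autoImplicit false
universe u
open CategoryTheory CategoryTheory.Limits AlgebraicGeometry

namespace Groth.Agent.Lib.Helper5.LciImm

open Groth.Agent.Lib.Helper5.KzIdeal Groth.Agent.Lib.Helper5.KzPres
open Groth.Agent.Lib.Helper5.LciComp Groth.Agent.Lib.Helper5.LciLocal

/-- a surjective ring map with Koszul-regular kernel is lci (presentation in zero variables) -/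
theorem isLCI_of_surjective_of_kr {A B : Type u} [CommRing A] [CommRing B] [Algebra A B]
    (hsurj : Function.Surjective (algebraMap A B)) (hker : KR (RingHom.ker (algebraMap A B))) :
    LCI.IsLCI A B := by
  have hsurj' : Function.Surjective (Algebra.ofId A B) := hsurj
  refine ⟨Algebra.FiniteType.of_surjective (Algebra.ofId A B) hsurj', 0,
    (Algebra.ofId A B).comp (MvPolynomial.isEmptyAlgEquiv A (Fin 0)).toAlgHom, ?_, ?_⟩
  · exact hsurj'.comp (MvPolynomial.isEmptyAlgEquiv A (Fin 0)).surjective
  · rw [kr_iff]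
    have h : RingHom.ker ((Algebra.ofId A B).comp
        (MvPolynomial.isEmptyAlgEquiv A (Fin 0)).toAlgHom).toRingHom =
        (RingHom.ker (algebraMap A B)).comap
          (((MvPolynomial.isEmptyAlgEquiv A (Fin 0)).toRingEquiv : _ ≃+* A) : _ →+* A) := by
      ext x
      rfl
    rw [h]
    exact kr_comap_ringEquiv _ _ hker

theorem isLCIHom_of_surjective_of_kr {A B : Type u} [CommRing A] [CommRing B] (φ : A →+* B)
    (hsurj : Function.Surjective φ) (hker : KR (RingHom.ker φ)) : IsLCIHom φ := by
  letI := φ.toAlgebra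
  exact isLCI_of_surjective_of_kr hsurj hker

theorem stableUnderCompositionWithLocalizationAwaySource :
    RingHom.StableUnderCompositionWithLocalizationAwaySource (@IsLCIHom) :=
  (stableUnderComposition.stableUnderCompositionWithLocalizationAway holdsForLocalizationAway).1

/-- a regular closed immersion is affine-locally lci -/
theorem lciMor_of_isRegularClosedImmersion {Z X : Scheme.{u}} (i : Z ⟶ X)
    (hi : Mor2.IsRegularClosedImmersion i) : LciMor i := by
  obtain ⟨hci, h⟩ := hi
  haveI := hci
  rw [HasRingHomProperty.iff_exists_appLE (P := LciMor)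
    stableUnderCompositionWithLocalizationAwaySource]
  intro z
  obtain ⟨U, hU, hzU, rs, hrs, hker⟩ := h z
  have hW : IsAffineOpen (i ⁻¹ᵁ U) := hU.preimage i
  refine ⟨⟨U, hU⟩, ⟨i ⁻¹ᵁ U, hW⟩, hzU, le_rfl, ?_⟩
  have happ : i.appLE U (i ⁻¹ᵁ U) le_rfl = i.app U := (Scheme.Hom.app_eq_appLE i).symm
  show IsLCIHom (i.appLE U (i ⁻¹ᵁ U) le_rfl).hom
  rw [happ]
  refine isLCIHom_of_surjective_of_kr _ (i.app_surjective U hU) ?_
  have hk : RingHom.ker (i.app U).hom = Ideal.ofList rs := by
    rw [← hker, Scheme.Hom.ker_apply]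
  rw [hk]
  exact kr_ofList rs (Groth.Agent.S15821.result _ rs hrs.toIsWeaklyRegular).1

/-- **A regular closed immersion is a perfect morphism.** -/
theorem isPerfectMor_of_isRegularClosedImmersion {Z X : Scheme.{u}} (i : Z ⟶ X)
    (hi : Mor2.IsRegularClosedImmersion i) : MoreMor.IsPerfectMor i := by
  have h := (lciMor_iff i).mp (lciMor_of_isRegularClosedImmersion i hi)
  intro U V hU hV hUV
  letI := (i.appLE V U hUV).hom.toAlgebra
  exact Groth.Agent.Lib.Helper5.LciPerf.isPerfectHom_of_isLCI _ _ (h U V hU hV hUV)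

end Groth.Agent.Lib.Helper5.LciImm
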