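import Mathlib
import Groth.Agent.S9758
import Groth.Agent.Lib.Helper13SyntD
import Groth.Prelude.Def_W4c2gaugesfzipsQuiet

set_option autoImplicit false
set_option linter.style.haveILetI false
universe u
open Polynomial

namespace Groth.Agent.Helper13Quiet
open Groth.Agent.Lib.Helper5 Groth.Agent.Lib.Helper5.LciComp Groth.Agent.Lib.Helper5.KzIdeal
  Groth.Agent.Lib.Helper5.LciLocal

theorem isLCI_self (A : Type u) [CommRing A] : LCI.IsLCI A A := by
  rw [Groth.Agent.Helper13SmKR.isLCI_iff_of_surjective (A := A) (B := A) Function.surjective_id]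
  rw [kr_iff]
  have h : RingHom.ker (algebraMap A A) = Ideal.ofList ([] : List A) := by
    rw [Ideal.ofList_nil]
    exact (RingHom.injective_iff_ker_eq_bot _).mp Function.injective_id
  rw [h]
  exact kr_ofList [] (Groth.Agent.Helper13KzIdeal.isKoszulRegularSeq_of_isWeaklyRegular []
    (RingTheory.Sequence.IsWeaklyRegular.nil A A))

theorem isLCI_polynomial (A : Type u) [CommRing A] : LCI.IsLCI A A[X] := by
  let α : MvPolynomial (Fin 1) A ≃ₐ[A] A[X] :=
    (MvPolynomial.renameEquiv A (Equiv.equivPUnit.{1, 1} (Fin 1))).trans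
      (MvPolynomial.pUnitAlgEquiv.{u, 0} A)
  refine ⟨inferInstance, 1, α.toAlgHom, α.surjective, ?_⟩
  have h : RingHom.ker α.toAlgHom.toRingHom =
      Ideal.ofList ([] : List (MvPolynomial (Fin 1) A)) := by
    rw [Ideal.ofList_nil]
    exact (RingHom.injective_iff_ker_eq_bot _).mp α.injective
  rw [h, kr_iff]
  exact kr_ofList [] (Groth.Agent.Helper13KzIdeal.isKoszulRegularSeq_of_isWeaklyRegular []
    (RingTheory.Sequence.IsWeaklyRegular.nil _ _))

theorem isLCI_adjoinRoot (A : Type u) [CommRing A] (f : A[X]) (hf : f.Monic) :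
    LCI.IsLCI A (AdjoinRoot f) := by
  rw [← Groth.Agent.Lib.Helper5.LciDesc.isLCIHom_algebraMap_iff]
  have h0 : algebraMap A (AdjoinRoot f) = (AdjoinRoot.mk f).comp (C : A →+* A[X]) := rfl
  rw [h0]
  refine isLCIHom_comp _ _ ?_ ?_
  · exact Groth.Agent.Lib.Helper5.LciDesc.isLCIHom_algebraMap_iff.mpr (isLCI_polynomial A)
  rw [Groth.Agent.Helper13SmKR.isLCIHom_iff_of_surjective _ AdjoinRoot.mk_surjective, kr_iff]
  have h : RingHom.ker (AdjoinRoot.mk f) = Ideal.ofList [f] := by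
    have h1 : RingHom.ker (AdjoinRoot.mk f) = Ideal.span {f} := by
      ext x
      rw [RingHom.mem_ker]
      exact AdjoinRoot.mk_eq_zero.trans Ideal.mem_span_singleton.symm
    rw [h1, Ideal.ofList_singleton]
  rw [h]
  refine kr_ofList [f] (Groth.Agent.Helper13KzIdeal.isKoszulRegularSeq_of_isWeaklyRegular [f] ?_)
  rw [RingTheory.Sequence.isWeaklyRegular_cons_iff]
  refine ⟨?_, RingTheory.Sequence.IsWeaklyRegular.nil _ _⟩
  intro a b hab
  exact hf.isRegular.left hab

theorem flat_adjoinRoot (A : Type u) [CommRing A] (f : A[X]) (hf : f.Monic) :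
    Module.Flat A (AdjoinRoot f) := by
  haveI : Module.Free A (AdjoinRoot f) := Module.Free.of_basis (AdjoinRoot.powerBasis' hf).basis
  infer_instance

theorem isRootTower_lci_flat (p : ℕ) (hp : p ≠ 0) : ∀ (n : ℕ) (A B : Type u) [CommRing A]
    [CommRing B] [Algebra A B], Quiet.IsRootTower p n A B → LCI.IsLCI A B ∧ Module.Flat A B := by
  intro n
  induction n with
  | zero =>
    intro A B _ _ _ h
    obtain ⟨e⟩ := h
    exact ⟨Groth.Agent.Helper13Synt.isLCI_of_algEquiv e.symm (isLCI_self A),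
      Module.Flat.of_linearEquiv e.toLinearEquiv⟩
  | succ n ih =>
    intro A B _ _ _ h
    obtain ⟨a, _, hT, h2⟩ := h
    obtain ⟨h3, h4⟩ := ih _ B h2
    have hm : (X ^ p - C a : A[X]).Monic := Polynomial.monic_X_pow_sub_C a hp
    have h5 := isLCI_adjoinRoot A _ hm
    have h6 := flat_adjoinRoot A _ hm
    exact ⟨isLCI_comp A (Quiet.RootRing p A a) B h5 h3,
      Module.Flat.trans A (Quiet.RootRing p A a) B⟩

end Groth.Agent.Helper13Quiet

namespace Groth.Agent.Helper13Quiet
open AlgebraicGeometry CategoryTheory Groth.Agent.Lib.Helper5 Groth.Agent.Lib.Helper5.LciComp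
  Groth.Agent.Lib.Helper5.LciLocal

theorem pthRoot_flat_lci (p : ℕ) (hp : p ≠ 0) {Y X : Scheme.{u}} (r : Y ⟶ X)
    (h : Quiet.IsPthRoot p r) : Flat r ∧ LciMor r := by
  have key : ∀ y : Y, ∃ (U : X.affineOpens) (V : Y.affineOpens) (_ : y ∈ V.1)
      (e : V.1 ≤ r ⁻¹ᵁ U.1), (r.appLE U.1 V.1 e).hom.Flat ∧ IsLCIHom (r.appLE U.1 V.1 e).hom := by
    intro y
    obtain ⟨U, hxU, hV, n, hn⟩ := h (r y)
    refine ⟨U, ⟨r ⁻¹ᵁ U.1, hV⟩, hxU, le_rfl, ?_⟩
    rw [← Scheme.Hom.app_eq_appLE]
    letI := (r.app U.1).hom.toAlgebra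
    obtain ⟨h1, h2⟩ := isRootTower_lci_flat p hp n _ _ hn
    exact ⟨h2, h1⟩
  constructor
  · rw [HasRingHomProperty.iff_exists_appLE (P := @Flat)
      (RingHom.Flat.stableUnderComposition.stableUnderCompositionWithLocalizationAway
        RingHom.Flat.holdsForLocalizationAway).1]
    intro x
    obtain ⟨U, V, hx, e, h1, -⟩ := key x
    exact ⟨U, V, hx, e, h1⟩
  · rw [HasRingHomProperty.iff_exists_appLE (P := LciMor)
      Groth.Agent.Lib.Helper5.LciImm.stableUnderCompositionWithLocalizationAwaySource]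
    intro x
    obtain ⟨U, V, hx, e, -, h2⟩ := key x
    exact ⟨U, V, hx, e, h2⟩

theorem flat_lci_of_isQuiet (p : ℕ) (hp : p ≠ 0) {Y X : Scheme.{u}} (f : Y ⟶ X)
    (hf : Quiet.IsQuiet p f) : Flat f ∧ LciMor f := by
  choose V Y' r e hyV hr he hfac using hf
  have hcov : iSup V = ⊤ := by
    rw [eq_top_iff]
    intro y _
    exact TopologicalSpace.Opens.mem_iSup.mpr ⟨y, hyV y⟩
  constructor
  · refine IsZariskiLocalAtSource.of_iSup_eq_top (P := @Flat) V hcov fun y => ?_
    rw [← hfac y]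
    haveI := (pthRoot_flat_lci p hp (r y) (hr y)).1
    haveI := he y
    infer_instance
  · refine IsZariskiLocalAtSource.of_iSup_eq_top (P := LciMor) V hcov fun y => ?_
    rw [← hfac y]
    haveI := he y
    exact Groth.Agent.Helper13SmKR.lciMor_comp _ _ (pthRoot_flat_lci p hp (r y) (hr y)).2
      (Groth.Agent.Helper13SmKR.lciMor_of_smooth (e y))

end Groth.Agent.Helper13Quiet
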