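import Mathlib
import Groth.Agent.Lib.Helper13ProjGlue2

set_option autoImplicit false

namespace Groth.Agent.Helper13RL

open CategoryTheory CategoryTheory.Limits AlgebraicGeometry Opposite TopologicalSpace
open HomogeneousLocalization
open scoped HomogeneousIdeal
open Groth.Agent.Helper13RelProj

universe u

section General

variable {Y Y' : Scheme.{u}} {g : Y' ⟶ Y} {𝒮 : RelProj.QCGrAlg Y} {𝒮' : RelProj.QCGrAlg Y'}
  (u : RelProj.QGrHom g 𝒮 𝒮')
  {P P' : Scheme.{u}} {p : P ⟶ Y}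
  {chart : ∀ (U : Y.Opens) (hU : IsAffineOpen U),
    ((p ⁻¹ᵁ U : P.Opens) : Scheme.{u}) ≅ Proj (𝒮.deg U hU)}
  {p' : P' ⟶ Y'}
  {chart' : ∀ (U' : Y'.Opens) (hU' : IsAffineOpen U'),
    ((p' ⁻¹ᵁ U' : P'.Opens) : Scheme.{u}) ≅ Proj (𝒮'.deg U' hU')}

/-- a morphism pinned on the standard charts is given on the pieces by the ring-level maps -/
theorem pieceEmb_comp (hP : RelProj.IsRelProj 𝒮 p chart) (hP' : RelProj.IsRelProj 𝒮' p' chart')
    {r : ((RelProj.domQ u p' chart' : P'.Opens) : Scheme.{u}) ⟶ P}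
    (hr : RelProj.IsProjQMapOn u p chart p' chart' (RelProj.domQ u p' chart') r) (V : APair g) :
    pieceEmb u chart' V ≫ r = pieceMap u chart V := by
  obtain ⟨v, hv⟩ := exists_qmapOn u hP hP'
  rw [qmapOn_unique u hr (isProjQMapOn_of_pieces u v hv)]
  exact hv V

/-- a point of `G(u)` lying over `V.U'` lies in the piece of `V` -/
theorem mem_range_pieceEmb_of_mem (hP : RelProj.IsRelProj 𝒮 p chart)
    (hP' : RelProj.IsRelProj 𝒮' p' chart') (V2 : APair g)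
    (x : ((RelProj.domQ u p' chart' : P'.Opens) : Scheme.{u}))
    (hx : p'.base ((RelProj.domQ u p' chart').ι.base x) ∈ V2.U') :
    x ∈ Set.range (pieceEmb u chart' V2).base := by
  obtain ⟨V1, hx1⟩ := exists_piece u chart' x
  set x' := (RelProj.domQ u p' chart').ι.base x with hx'
  have hy1 : p'.base x' ∈ V1.U' := by
    obtain ⟨z, -, hzx⟩ := (mem_range_pieceEmb_iff u chart' V1 x).mp hx1
    rw [hx', ← hzx]
    exact emb_mem_preimage chart' V1.U' V1.hU' z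
  have hy2 : p'.base x' ∈ V2.U' := hx
  have hgy1 : g.base (p'.base x') ∈ V1.U := V1.hle hy1
  have hgy2 : g.base (p'.base x') ∈ V2.U := V2.hle hy2
  obtain ⟨f₁, f₂, hff, hyf⟩ := exists_basicOpen_le_affine_inter V1.hU V2.hU _ ⟨hgy1, hgy2⟩
  obtain ⟨a₁, a₂, haa, hya⟩ := exists_basicOpen_le_affine_inter V1.hU' V2.hU' _ ⟨hy1, hy2⟩
  have hmem : p'.base x' ∈ (g ⁻¹ᵁ (Y.basicOpen f₁) : Y'.Opens) := hyf
  obtain ⟨b, hb, hyb⟩ := (V1.hU'.basicOpen a₁).exists_basicOpen_le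
    (V := g ⁻¹ᵁ (Y.basicOpen f₁)) ⟨p'.base x', hmem⟩ hya
  obtain ⟨r'₁, hr'₁⟩ := V1.hU'.basicOpen_basicOpen_is_basicOpen a₁ b
  obtain ⟨r'₂, hr'₂⟩ := V2.hU'.basicOpen_basicOpen_is_basicOpen a₂ (haa ▸ b)
  rw [basicOpen_cast] at hr'₂
  let K : APair g := ⟨Y.basicOpen f₁, V1.hU.basicOpen f₁, Y'.basicOpen b,
    (V1.hU'.basicOpen a₁).basicOpen b, hb⟩
  obtain ⟨-, hm1⟩ := exists_refine u (chart := chart) hP hP' V1 K f₁ rfl r'₁ hr'₁.symm
  obtain ⟨⟨t2, h2a, -⟩, -⟩ := exists_refine u (chart := chart) hP hP' V2 K f₂ hff r'₂ hr'₂.symm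
  obtain ⟨w, hw⟩ := hm1 x hx1 hyb
  refine ⟨t2.base w, ?_⟩
  rw [← Scheme.Hom.comp_apply, h2a]
  exact hw

/-- **preimage of a standard open under `Proj(u)`**, over an affine pair -/
theorem image_preimage_basicOpen (hP : RelProj.IsRelProj 𝒮 p chart)
    (hP' : RelProj.IsRelProj 𝒮' p' chart')
    {r : ((RelProj.domQ u p' chart' : P'.Opens) : Scheme.{u}) ⟶ P}
    (hr : RelProj.IsProjQMapOn u p chart p' chart' (RelProj.domQ u p' chart') r) (V : APair g)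
    {d : ℕ} (hd : 0 < d) {f : 𝒮.presheaf.obj (op V.U)} (hf : f ∈ 𝒮.deg V.U V.hU d) :
    (RelProj.domQ u p' chart').ι ''ᵁ
        (r ⁻¹ᵁ ((RelProj.emb p chart V.U V.hU) ''ᵁ Proj.basicOpen (𝒮.deg V.U V.hU) f)) ⊓
        p' ⁻¹ᵁ V.U' =
      (RelProj.emb p' chart' V.U' V.hU') ''ᵁ
        Proj.basicOpen (𝒮'.deg V.U' V.hU') (φV u V f) := by
  have hpm := pieceEmb_comp u hP hP' hr V
  have hpre := (isPMap_piecePMap u V).preimage_basicOpen (isDomOf_domOpen (φV u V)) hf hd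
  have e1 : ∀ w : ((RelCone.domOpen (φV u V) : (Proj (𝒮'.deg V.U' V.hU')).Opens) : Scheme.{u}),
      (RelProj.domQ u p' chart').ι.base ((pieceEmb u chart' V).base w) =
        (RelProj.emb p' chart' V.U' V.hU').base w.1 := by
    intro w
    rw [← Scheme.Hom.comp_apply, pieceEmb_ι]
    rfl
  have e2 : ∀ w : ((RelCone.domOpen (φV u V) : (Proj (𝒮'.deg V.U' V.hU')).Opens) : Scheme.{u}),
      r.base ((pieceEmb u chart' V).base w) =
        (RelProj.emb p chart V.U V.hU).base ((piecePMap u V).base w) := by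
    intro w
    rw [← Scheme.Hom.comp_apply, hpm]
    rfl
  ext y
  constructor
  · rintro ⟨⟨x, hx, rfl⟩, hyU⟩
    obtain ⟨w, rfl⟩ := mem_range_pieceEmb_of_mem u hP hP' V x hyU
    obtain ⟨q, hq, hqe⟩ := hx
    rw [e2 w] at hqe
    have hq' := (RelProj.emb p chart V.U V.hU).isOpenEmbedding.injective hqe
    rw [hq'] at hq
    have hw : w ∈ (piecePMap u V) ⁻¹ᵁ Proj.basicOpen (𝒮.deg V.U V.hU) f := hq
    rw [hpre] at hw
    exact ⟨w.1, hw, (e1 w).symm⟩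
  · rintro ⟨z, hz, rfl⟩
    have hzd : z ∈ RelCone.domOpen (φV u V) := (mem_domOpen_iff _ z).mpr ⟨d, f, hd, hf, hz⟩
    let w : ((RelCone.domOpen (φV u V) : (Proj (𝒮'.deg V.U' V.hU')).Opens) : Scheme.{u}) :=
      ⟨z, hzd⟩
    refine ⟨⟨(pieceEmb u chart' V).base w, ?_, e1 w⟩, emb_mem_preimage chart' V.U' V.hU' z⟩
    have hw : w ∈ (piecePMap u V) ⁻¹ᵁ Proj.basicOpen (𝒮.deg V.U V.hU) f := by
      rw [hpre]; exact hz
    exact ⟨(piecePMap u V).base w, hw, (e2 w).symm⟩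

end General

end Groth.Agent.Helper13RL
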