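import Mathlib
import Groth.Agent.Lib.Helper13RelProjA
import Groth.Agent.Lib.Helper13ProjQMap2

set_option autoImplicit false

namespace Groth.Agent.Helper13RL

open CategoryTheory AlgebraicGeometry Opposite TopologicalSpace
open HomogeneousLocalization
open scoped HomogeneousIdeal
open Groth.Agent.Helper13RelProj

universe u

section Pure

variable {A σ : Type u} [CommRing A] [SetLike σ A] [AddSubgroupClass σ A]
  (𝒜 : ℕ → σ) [GradedRing 𝒜]

theorem exists_mem_basicOpen_pos (z : Proj 𝒜) :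
    ∃ (n : ℕ) (y : A), 0 < n ∧ y ∈ 𝒜 n ∧ z ∈ Proj.basicOpen 𝒜 y := by
  have hz : z ∈ (⨆ i : (Σ n : ℕ+, 𝒜 n), Proj.basicOpen 𝒜 (i.2 : A)) := by
    rw [iSup_basicOpen_pos_eq_top]; trivial
  obtain ⟨i, hi⟩ := Opens.mem_iSup.mp hz
  exact ⟨i.1, i.2, i.1.pos, i.2.2, hi⟩

/-- pointwise description of `Proj A ⟶ Spec A₀` on basic opens of degree-zero elements -/
theorem toSpecZero_mem_basicOpen (z : Proj 𝒜) (x₀ : 𝒜 0) :
    (Proj.toSpecZero 𝒜).base z ∈ PrimeSpectrum.basicOpen x₀ ↔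
      z ∈ Proj.basicOpen 𝒜 (x₀ : A) := by
  obtain ⟨n, y, hn, hy, hzy⟩ := exists_mem_basicOpen_pos 𝒜 z
  have hxy : (x₀ : A) * y ∈ 𝒜 n := by
    have := SetLike.mul_mem_graded x₀.2 hy
    rwa [zero_add] at this
  have h1 : z ∈ Proj.basicOpen 𝒜 (x₀ : A) ↔ z ∈ Proj.basicOpen 𝒜 ((x₀ : A) * y) := by
    rw [Proj.basicOpen_mul]
    exact ⟨fun h => ⟨h, hzy⟩, fun h => h.1⟩
  rw [h1]
  rw [← Proj.opensRange_awayι 𝒜 y hy hn] at hzy
  obtain ⟨w, rfl⟩ := hzy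
  have h2 : (Proj.awayι 𝒜 y hy hn).base w ∈ Proj.basicOpen 𝒜 ((x₀ : A) * y) ↔
      w ∈ (Proj.awayι 𝒜 y hy hn) ⁻¹ᵁ Proj.basicOpen 𝒜 ((x₀ : A) * y) := Iff.rfl
  rw [h2, Proj.awayι_preimage_basicOpen 𝒜 hy hn hxy hn, ← Scheme.Hom.comp_apply,
    Proj.awayι_toSpecZero]
  have h3 : Away.isLocalizationElem hy hxy =
      (fromZeroRingHom 𝒜 (Submonoid.powers y) x₀) ^ n := by
    apply HomogeneousLocalization.val_injective
    rw [HomogeneousLocalization.val_pow]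
    change Localization.mk _ _ = (Localization.mk _ _) ^ n
    rw [Localization.mk_pow, Localization.mk_eq_mk_iff, Localization.r_iff_exists]
    refine ⟨1, ?_⟩
    simp only [OneMemClass.coe_one, one_mul, SubmonoidClass.coe_pow]
    erw [Submonoid.coe_one]
    rw [one_pow, one_mul, mul_pow, mul_comm]
  rw [h3, PrimeSpectrum.basicOpen_pow _ n hn]
  let w' : PrimeSpectrum (HomogeneousLocalization 𝒜 (Submonoid.powers y)) := w
  change PrimeSpectrum.comap (fromZeroRingHom 𝒜 (Submonoid.powers y)) w' ∈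
    PrimeSpectrum.basicOpen x₀ ↔ w' ∈ PrimeSpectrum.basicOpen _
  rw [PrimeSpectrum.mem_basicOpen, PrimeSpectrum.mem_basicOpen, PrimeSpectrum.comap_asIdeal,
    Ideal.mem_comap]

end Pure

section GenRel

variable {X PL : Scheme.{u}} {𝒮 : RelProj.QCGrAlg X} {pL : PL ⟶ X}
  {chartL : ∀ (U : X.Opens) (hU : IsAffineOpen U),
    (((pL ⁻¹ᵁ U : PL.Opens) : Scheme.{u}) ≅ Proj (𝒮.deg U hU))}

/-- the part of the relative Proj over a basic open `D(a)` of the base is `D₊(a)` -/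
theorem pL_emb_mem_basicOpen_iff (hPL : RelProj.IsRelProj 𝒮 pL chartL) {W : X.Opens}
    (hW : IsAffineOpen W) (a : Γ(X, W)) (z : Proj (𝒮.deg W hW)) :
    pL.base ((RelProj.emb pL chartL W hW).base z) ∈ X.basicOpen a ↔
      z ∈ Proj.basicOpen (𝒮.deg W hW) ((𝒮.str.app (op W)).hom a) := by
  rw [← Scheme.Hom.comp_apply, emb_comp hPL W hW]
  have h1 : (Proj.toSpecZero (𝒮.deg W hW) ≫ Spec.map (𝒮.strZero W hW) ≫ hW.fromSpec).base z ∈
      X.basicOpen a ↔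
      (Spec.map (𝒮.strZero W hW)).base ((Proj.toSpecZero (𝒮.deg W hW)).base z) ∈
        hW.fromSpec ⁻¹ᵁ X.basicOpen a := Iff.rfl
  rw [h1, hW.fromSpec_preimage_basicOpen]
  have h2 : (Spec.map (𝒮.strZero W hW)).base ((Proj.toSpecZero (𝒮.deg W hW)).base z) ∈
      PrimeSpectrum.basicOpen a ↔
      (Proj.toSpecZero (𝒮.deg W hW)).base z ∈
        PrimeSpectrum.basicOpen ((𝒮.strZero W hW).hom a) := by
    change a ∉ _ ↔ _ ∉ _
    rfl
  refine h2.trans ?_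
  exact toSpecZero_mem_basicOpen (𝒮.deg W hW) z ((𝒮.strZero W hW).hom a)

/-- points over a basic open come from the chart over it -/
theorem exists_point_over (hPL : RelProj.IsRelProj 𝒮 pL chartL) {V : X.Opens}
    (hV : IsAffineOpen V) (ρ : Γ(X, V)) (z : Proj (𝒮.deg V hV))
    (hz : pL.base ((RelProj.emb pL chartL V hV).base z) ∈ X.basicOpen ρ) :
    ∃ z' : Proj (𝒮.deg (X.basicOpen ρ) (hV.basicOpen ρ)),
      (Proj.map (𝒮.res hV (hV.basicOpen ρ) (X.basicOpen_le ρ)) (𝒮.irrelevant_le_map V hV ρ)).base z'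
        = z := by
  obtain ⟨z', hz'⟩ := exists_chart_point (chartB := chartL) (X.basicOpen ρ) (hV.basicOpen ρ) _ hz
  refine ⟨z', ?_⟩
  apply (RelProj.emb pL chartL V hV).isOpenEmbedding.injective
  rw [← hz', ← RelProj.map_res_emb hPL V hV ρ]
  rfl

theorem isUnit_res_str {V : X.Opens} (hV : IsAffineOpen V) (ρ : Γ(X, V)) :
    IsUnit ((𝒮.res hV (hV.basicOpen ρ) (X.basicOpen_le ρ)) ((𝒮.str.app (op V)).hom ρ)) := by
  have h1 : (𝒮.res hV (hV.basicOpen ρ) (X.basicOpen_le ρ)) ((𝒮.str.app (op V)).hom ρ) =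
      (𝒮.str.app (op (X.basicOpen ρ))).hom
        ((X.presheaf.map (homOfLE (X.basicOpen_le ρ)).op).hom ρ) := by
    rw [RelProj.QCGrAlg.res_apply]
    exact (congr_arg (fun t => t.hom ρ) (𝒮.str.naturality (homOfLE (X.basicOpen_le ρ)).op)).symm
  rw [h1]
  exact (RingedSpace.isUnit_res_basicOpen _ ρ).map _

/-- homogeneous elements over a basic open lift, up to a power of the function -/
theorem exists_lift_deg {V : X.Opens} (hV : IsAffineOpen V) (ρ : Γ(X, V)) {d : ℕ}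
    {y : 𝒮.presheaf.obj (op (X.basicOpen ρ))} (hy : y ∈ 𝒮.deg (X.basicOpen ρ) (hV.basicOpen ρ) d) :
    ∃ (k : ℕ) (y₀ : 𝒮.presheaf.obj (op V)), y₀ ∈ 𝒮.deg V hV d ∧
      (𝒮.res hV (hV.basicOpen ρ) (X.basicOpen_le ρ)) y₀ =
        y * ((𝒮.res hV (hV.basicOpen ρ) (X.basicOpen_le ρ)) ((𝒮.str.app (op V)).hom ρ)) ^ k := by
  classical
  let ψ := 𝒮.res hV (hV.basicOpen ρ) (X.basicOpen_le ρ)
  let _inst := (𝒮.presheaf.map (homOfLE (X.basicOpen_le ρ)).op).hom.toAlgebra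
  let c := (𝒮.str.app (op V)).hom ρ
  have hloc : IsLocalization.Away c (𝒮.presheaf.obj (op (X.basicOpen ρ))) := 𝒮.isQC V hV ρ
  obtain ⟨⟨x, s, hs⟩, hxs⟩ := IsLocalization.surj (Submonoid.powers c) y
  obtain ⟨k, rfl⟩ := (Submonoid.mem_powers_iff _ _).mp hs
  change y * ψ (c ^ k) = ψ x at hxs
  have hc0 : ψ (c ^ k) ∈ 𝒮.deg (X.basicOpen ρ) (hV.basicOpen ρ) 0 := by
    rw [map_pow]
    exact SetLike.pow_mem_graded _ (ψ.map_mem (𝒮.str_mem V hV ρ))
  have hbi : y * ψ (c ^ k) ∈ 𝒮.deg (X.basicOpen ρ) (hV.basicOpen ρ) d := by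
    simpa only [add_zero] using
      SetLike.mul_mem_graded (A := 𝒮.deg (X.basicOpen ρ) (hV.basicOpen ρ)) hy hc0
  have hxi : ψ (DirectSum.decompose (𝒮.deg V hV) x d : 𝒮.presheaf.obj (op V)) = y * ψ (c ^ k) := by
    rw [GradedRingHom.map_directSumDecompose, ← hxs, DirectSum.decompose_of_mem_same _ hbi]
  refine ⟨k, (DirectSum.decompose (𝒮.deg V hV) x d : 𝒮.presheaf.obj (op V)), SetLike.coe_mem _, ?_⟩
  rw [hxi, map_pow]

end GenRel

end Groth.Agent.Helper13RL
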