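import Mathlib
import Groth.Agent.Lib.Helper13RelProjA

/-!
# helper13: relative Proj toolbox, part F: the open `X_f` of a relative Proj attached to a global
homogeneous section
-/

set_option autoImplicit false

namespace Groth.Agent.Helper13RelProj

open CategoryTheory CategoryTheory.Limits AlgebraicGeometry Opposite TopologicalSpace
open HomogeneousLocalization
open scoped HomogeneousIdeal

universe u

section Xf

variable {Y P : Scheme.{u}} (𝒮 : RelProj.QCGrAlg Y) (p : P ⟶ Y)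
    (chart : ∀ (U : Y.Opens) (hU : IsAffineOpen U),
      (((p ⁻¹ᵁ U : P.Opens) : Scheme.{u}) ≅ Proj (𝒮.deg U hU)))
    (f : 𝒮.presheaf.obj (op ⊤))

/-- the restriction of the global section `f` to `U` -/
noncomputable def resTop (U : Y.Opens) : 𝒮.presheaf.obj (op U) :=
  (𝒮.presheaf.map (homOfLE le_top).op).hom f

theorem res_resTop {U V : Y.Opens} (i : V ≤ U) :
    (𝒮.presheaf.map (homOfLE i).op).hom (resTop 𝒮 f U) = resTop 𝒮 f V := by
  unfold resTop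
  rw [← CommRingCat.comp_apply, ← Functor.map_comp]
  rfl

/-- the piece of `X_f` over the affine open `U` -/
noncomputable def pieceOf (U : Y.Opens) (hU : IsAffineOpen U) : P.Opens :=
  (p ⁻¹ᵁ U).ι ''ᵁ ((chart U hU).hom ⁻¹ᵁ Proj.basicOpen (𝒮.deg U hU) (resTop 𝒮 f U))

theorem mem_pieceOf (U : Y.Opens) (hU : IsAffineOpen U) (x : P) :
    x ∈ pieceOf 𝒮 p chart f U hU ↔ ∃ hx : x ∈ p ⁻¹ᵁ U,
      (chart U hU).hom.base ⟨x, hx⟩ ∈ Proj.basicOpen (𝒮.deg U hU) (resTop 𝒮 f U) := by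
  constructor
  · rintro ⟨y, hy, rfl⟩
    exact ⟨y.2, hy⟩
  · rintro ⟨hx, h⟩
    exact ⟨⟨x, hx⟩, h, rfl⟩

theorem pieceOf_le (U : Y.Opens) (hU : IsAffineOpen U) : pieceOf 𝒮 p chart f U hU ≤ p ⁻¹ᵁ U := by
  intro x hx
  obtain ⟨hx', -⟩ := (mem_pieceOf 𝒮 p chart f U hU x).mp hx
  exact hx'

theorem pieceOf_congr {W W' : Y.Opens} (h : W = W') (hW : IsAffineOpen W) (hW' : IsAffineOpen W') :
    pieceOf 𝒮 p chart f W hW = pieceOf 𝒮 p chart f W' hW' := by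
  subst h; rfl

variable {chart} in
theorem pieceOf_basicOpen (hP : RelProj.IsRelProj 𝒮 p chart) (U : Y.Opens) (hU : IsAffineOpen U)
    (r : Γ(Y, U)) :
    pieceOf 𝒮 p chart f (Y.basicOpen r) (hU.basicOpen r) =
      pieceOf 𝒮 p chart f U hU ⊓ p ⁻¹ᵁ (Y.basicOpen r) := by
  ext x
  simp only [SetLike.mem_coe, TopologicalSpace.Opens.coe_inf, Set.mem_inter_iff]
  rw [mem_pieceOf, mem_pieceOf]
  have key : ∀ (hx : x ∈ p ⁻¹ᵁ (Y.basicOpen r)),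
      (chart U hU).hom.base ⟨x, p.preimage_mono (Y.basicOpen_le r) hx⟩ =
        (Proj.map (𝒮.res hU (hU.basicOpen r) (Y.basicOpen_le r)) (𝒮.irrelevant_le_map U hU r)).base
          ((chart (Y.basicOpen r) (hU.basicOpen r)).hom.base ⟨x, hx⟩) := by
    intro hx
    have h1 := congr_arg (fun t => t.base ⟨x, hx⟩) (hP.chart_res U hU r)
    have h2 : (P.homOfLE (p.preimage_mono (Y.basicOpen_le r))).base ⟨x, hx⟩ =
        ⟨x, p.preimage_mono (Y.basicOpen_le r) hx⟩ := Scheme.homOfLE_apply' _ x hx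
    rw [← h2]
    exact h1
  constructor
  · rintro ⟨hx, h⟩
    refine ⟨⟨p.preimage_mono (Y.basicOpen_le r) hx, ?_⟩, hx⟩
    rw [key hx]
    change _ ∈ (Proj.map _ _) ⁻¹ᵁ Proj.basicOpen (𝒮.deg U hU) (resTop 𝒮 f U)
    rw [Proj.map_preimage_basicOpen]
    have e : (𝒮.res hU (hU.basicOpen r) (Y.basicOpen_le r)) (resTop 𝒮 f U) =
        resTop 𝒮 f (Y.basicOpen r) := res_resTop 𝒮 f (Y.basicOpen_le r)
    rw [e]
    exact h
  · rintro ⟨⟨hxU, h⟩, hx⟩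
    refine ⟨hx, ?_⟩
    have h' : (chart U hU).hom.base ⟨x, p.preimage_mono (Y.basicOpen_le r) hx⟩ ∈
        Proj.basicOpen (𝒮.deg U hU) (resTop 𝒮 f U) := h
    rw [key hx] at h'
    change _ ∈ (Proj.map _ _) ⁻¹ᵁ Proj.basicOpen (𝒮.deg U hU) (resTop 𝒮 f U) at h'
    rw [Proj.map_preimage_basicOpen] at h'
    have e : (𝒮.res hU (hU.basicOpen r) (Y.basicOpen_le r)) (resTop 𝒮 f U) =
        resTop 𝒮 f (Y.basicOpen r) := res_resTop 𝒮 f (Y.basicOpen_le r)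
    rw [e] at h'
    exact h'

/-- the open `X_f` of the relative Proj -/
noncomputable def Xf : P.Opens := ⨆ U : Y.affineOpens, pieceOf 𝒮 p chart f U.1 U.2

variable {chart} in
theorem Xf_inf_preimage (hP : RelProj.IsRelProj 𝒮 p chart) (U : Y.Opens) (hU : IsAffineOpen U) :
    Xf 𝒮 p chart f ⊓ p ⁻¹ᵁ U = pieceOf 𝒮 p chart f U hU := by
  apply le_antisymm
  · rintro x ⟨hxX, hxU⟩
    obtain ⟨⟨V, hV⟩, hxV⟩ := TopologicalSpace.Opens.mem_iSup.mp hxX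
    have hxV' : x ∈ p ⁻¹ᵁ V := pieceOf_le 𝒮 p chart f V hV hxV
    obtain ⟨r, s, hrs, hxr⟩ := exists_basicOpen_le_affine_inter hU hV (p.base x) ⟨hxU, hxV'⟩
    have h1 : x ∈ pieceOf 𝒮 p chart f (Y.basicOpen s) (hV.basicOpen s) := by
      rw [pieceOf_basicOpen 𝒮 p f hP V hV s]
      exact ⟨hxV, by rw [← hrs]; exact hxr⟩
    rw [← pieceOf_congr 𝒮 p chart f hrs (hU.basicOpen r) (hV.basicOpen s),
      pieceOf_basicOpen 𝒮 p f hP U hU r] at h1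
    exact h1.1
  · exact le_inf (le_iSup (fun U : Y.affineOpens => pieceOf 𝒮 p chart f U.1 U.2) ⟨U, hU⟩)
      (pieceOf_le 𝒮 p chart f U hU)

theorem isAffineOpen_pieceOf {d : ℕ} (hd : 0 < d) (U : Y.Opens) (hU : IsAffineOpen U)
    (hf : resTop 𝒮 f U ∈ 𝒮.deg U hU d) : IsAffineOpen (pieceOf 𝒮 p chart f U hU) := by
  have h1 : IsAffineOpen (Proj.basicOpen (𝒮.deg U hU) (resTop 𝒮 f U)) :=
    Proj.isAffineOpen_basicOpen _ _ hf hd
  exact (h1.preimage_of_isIso (chart U hU).hom).image_of_isOpenImmersion (p ⁻¹ᵁ U).ι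

variable {chart} in
theorem isAffineHom_Xf (hP : RelProj.IsRelProj 𝒮 p chart) {d : ℕ} (hd : 0 < d)
    (hf : ∀ (U : Y.Opens) (hU : IsAffineOpen U), resTop 𝒮 f U ∈ 𝒮.deg U hU d) :
    IsAffineHom ((Xf 𝒮 p chart f).ι ≫ p) := by
  constructor
  intro U hU
  rw [← (Xf 𝒮 p chart f).ι.isAffineOpen_iff_of_isOpenImmersion]
  have : (Xf 𝒮 p chart f).ι ''ᵁ (((Xf 𝒮 p chart f).ι ≫ p) ⁻¹ᵁ U) =
      Xf 𝒮 p chart f ⊓ p ⁻¹ᵁ U := by
    change (Xf 𝒮 p chart f).ι ''ᵁ ((Xf 𝒮 p chart f).ι ⁻¹ᵁ (p ⁻¹ᵁ U)) = _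
    rw [Scheme.Hom.image_preimage_eq_opensRange_inf, Scheme.Opens.opensRange_ι]
  rw [this, Xf_inf_preimage 𝒮 p f hP U hU]
  exact isAffineOpen_pieceOf 𝒮 p chart f hd U hU (hf U hU)

end Xf

end Groth.Agent.Helper13RelProj
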