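import Mathlib
import Groth.Agent.Lib.Helper13RLb
import Groth.Agent.Lib.Helper13ProjLine
import Groth.Agent.Lib.Helper2FPAff
import Groth.Agent.Lib.Helper13RelProjF

set_option autoImplicit false
set_option linter.style.haveILetI false

namespace Groth.Agent.Helper13RL

open CategoryTheory AlgebraicGeometry Opposite TopologicalSpace
open HomogeneousLocalization
open scoped HomogeneousIdeal
open Groth.Agent.Helper13RelProj Groth.Agent.Helper13SymAlg Groth.Agent.Helper13SymLoc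
open Groth.Agent.Helper13GrPoly Groth.Agent.Helper13ProjLine
open Groth.Agent.Lib.Helper2.FPAff

universe u

section Basis

variable {X : Scheme.{u}} (L : X.Modules) [L.IsQuasicoherent]

/-- a one-element basis restricts to basic opens -/
theorem exists_basis_basicOpen {W : X.Opens} (hW : IsAffineOpen W)
    (b : Module.Basis (Fin 1) Γ(X, W) Γ(L, W)) (g : Γ(X, W)) :
    ∃ b' : Module.Basis (Fin 1) Γ(X, X.basicOpen g) Γ(L, X.basicOpen g),
      b' 0 = L.presheaf.map (homOfLE (X.basicOpen_le g)).op (b 0) := by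
  letI := moduleRes L (X.basicOpen_le g)
  letI : Algebra Γ(X, W) Γ(X, X.basicOpen g) :=
    (X.presheaf.map (homOfLE (X.basicOpen_le g)).op).hom.toAlgebra
  haveI : IsLocalization.Away g Γ(X, X.basicOpen g) := hW.isLocalization_basicOpen g
  haveI : IsScalarTower Γ(X, W) Γ(X, X.basicOpen g) Γ(L, X.basicOpen g) :=
    IsScalarTower.of_algebraMap_smul fun r m => rfl
  haveI := isLocalizedModule_basicOpen L hW g
  refine ⟨b.ofIsLocalizedModule Γ(X, X.basicOpen g) (Submonoid.powers g)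
    (resₗ L (X.basicOpen_le g)), ?_⟩
  rw [Module.Basis.ofIsLocalizedModule_apply]
  rfl

/-- trivializing basic opens of an invertible module inside a given affine open -/
theorem exists_trivializing_basicOpen (hL : PicF.IsInvertible L) {V : X.Opens}
    (hV : IsAffineOpen V) (x : X) (hx : x ∈ V) :
    ∃ ρ : Γ(X, V), x ∈ X.basicOpen ρ ∧
      Nonempty (Module.Basis (Fin 1) Γ(X, X.basicOpen ρ) Γ(L, X.basicOpen ρ)) := by
  obtain ⟨W, hW, hxW, ⟨b⟩⟩ := exists_affine_basis L hL x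
  obtain ⟨f, g, hfg, hxf⟩ := exists_basicOpen_le_affine_inter hV hW x ⟨hx, hxW⟩
  obtain ⟨b', -⟩ := exists_basis_basicOpen L hW b g
  refine ⟨f, hxf, ?_⟩
  rw [hfg]
  exact ⟨b'⟩

end Basis

end Groth.Agent.Helper13RL

namespace Groth.Agent.Helper13RL

open CategoryTheory AlgebraicGeometry Opposite TopologicalSpace
open HomogeneousLocalization
open scoped HomogeneousIdeal
open Groth.Agent.Helper13RelProj Groth.Agent.Helper13SymAlg Groth.Agent.Helper13SymLoc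
open Groth.Agent.Helper13GrPoly Groth.Agent.Helper13ProjLine
open Groth.Agent.Lib.Helper2.FPAff

universe u

section NV

variable {X PL : Scheme.{u}} (L : X.Modules) [L.IsQuasicoherent]
  (𝒮L : RelProj.QCGrAlg X) (j : L ⟶ 𝒮L.toModule) (hj : RelProj.IsGrSymAlg L 𝒮L j)
  {pL : PL ⟶ X}
  {chartL : ∀ (U : X.Opens) (hU : IsAffineOpen U),
    (((pL ⁻¹ᵁ U : PL.Opens) : Scheme.{u}) ≅ Proj (𝒮L.deg U hU))}
  (hPL : RelProj.IsRelProj 𝒮L pL chartL) (hL : PicF.IsInvertible L)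
  (t₀ : 𝒮L.presheaf.obj (op ⊤)) (d : ℕ)

include hj hPL hL in
/-- (A): if `𝒮L(V)_d ⊆ (t|V)` then `D₊(t|V)` is all of `Proj 𝒮L(V)` -/
theorem basicOpen_eq_top_of_subset {V : X.Opens} (hV : IsAffineOpen V)
    (hsub : ((𝒮L.deg V hV d : AddSubgroup (𝒮L.presheaf.obj (op V))) :
      Set (𝒮L.presheaf.obj (op V))) ⊆
      (Ideal.span {resTop 𝒮L t₀ V} : Set (𝒮L.presheaf.obj (op V)))) :
    Proj.basicOpen (𝒮L.deg V hV) (resTop 𝒮L t₀ V) = ⊤ := by
  rw [eq_top_iff]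
  intro z _
  have hx : pL.base ((RelProj.emb pL chartL V hV).base z) ∈ V := emb_mem_preimage chartL V hV z
  obtain ⟨ρ, hxρ, ⟨b⟩⟩ := exists_trivializing_basicOpen L hL hV _ hx
  obtain ⟨z', rfl⟩ := exists_point_over hPL hV ρ z hxρ
  set W := X.basicOpen ρ with hWdef
  have hW : IsAffineOpen W := hV.basicOpen ρ
  set ψ := 𝒮L.res hV hW (X.basicOpen_le ρ) with hψ
  change z' ∈ (Proj.map ψ (𝒮L.irrelevant_le_map V hV ρ)) ⁻¹ᵁ
    Proj.basicOpen (𝒮L.deg V hV) (resTop 𝒮L t₀ V)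
  rw [Proj.map_preimage_basicOpen]
  have hτ : ψ (resTop 𝒮L t₀ V) = resTop 𝒮L t₀ W := res_resTop 𝒮L t₀ (X.basicOpen_le ρ)
  rw [hτ]
  -- the polynomial structure over `W`
  set T := φAdd L 𝒮L.toQCAlg j W (b 0) with hTdef
  have hT1 : T ∈ 𝒮L.deg W hW 1 := hj.2 W hW (b 0)
  have hpoly := bijective_eval₂ L 𝒮L j hj hW b
  have hTd : T ^ d ∈ 𝒮L.deg W hW d := by
    have := SetLike.pow_mem_graded d hT1
    simpa using this
  obtain ⟨k, y₀, hy₀, hres⟩ := exists_lift_deg hV ρ hTd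
  obtain ⟨c, hc⟩ := Ideal.mem_span_singleton'.mp (hsub hy₀)
  have hres' : ψ c * resTop 𝒮L t₀ W = T ^ d * (ψ ((𝒮L.str.app (op V)).hom ρ)) ^ k := by
    rw [← hτ, ← map_mul, hc]
    exact hres
  rw [Proj.mem_basicOpen]
  intro hmem
  have hI := z'.isPrime
  have h1 : ψ c * resTop 𝒮L t₀ W ∈ z'.asHomogeneousIdeal.toIdeal :=
    Ideal.mul_mem_left _ _ hmem
  rw [hres'] at h1
  rcases hI.mem_or_mem h1 with h2 | h2
  · have h3 : T ∈ z'.asHomogeneousIdeal.toIdeal := hI.mem_of_pow_mem _ h2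
    have h4 : z' ∈ Proj.basicOpen (𝒮L.deg W hW) T := by
      rw [basicOpen_eq_top (𝒮L.deg W hW) (𝒮L.str.app (op W)).hom (𝒮L.str_mem W hW) T hT1 hpoly]
      trivial
    rw [Proj.mem_basicOpen] at h4
    exact h4 h3
  · have h3 := hI.mem_of_pow_mem _ h2
    exact hI.ne_top (Ideal.eq_top_of_isUnit_mem _ h3 (isUnit_res_str hV ρ))

include hj hPL hL in
/-- (B): a point of `D₊(t|V)` has an affine neighbourhood on which `t` generates degree `d` -/
theorem exists_affine_of_mem_basicOpen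
    (hdeg : ∀ (V : X.Opens) (hV : IsAffineOpen V), resTop 𝒮L t₀ V ∈ 𝒮L.deg V hV d)
    {V : X.Opens} (hV : IsAffineOpen V) (z : Proj (𝒮L.deg V hV))
    (hz : z ∈ Proj.basicOpen (𝒮L.deg V hV) (resTop 𝒮L t₀ V)) :
    ∃ (V'' : X.Opens) (hV'' : IsAffineOpen V''),
      pL.base ((RelProj.emb pL chartL V hV).base z) ∈ V'' ∧
      ((𝒮L.deg V'' hV'' d : AddSubgroup (𝒮L.presheaf.obj (op V''))) :
        Set (𝒮L.presheaf.obj (op V''))) ⊆
        (Ideal.span {resTop 𝒮L t₀ V''} : Set (𝒮L.presheaf.obj (op V''))) := by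
  have hx : pL.base ((RelProj.emb pL chartL V hV).base z) ∈ V := emb_mem_preimage chartL V hV z
  obtain ⟨ρ, hxρ, ⟨b⟩⟩ := exists_trivializing_basicOpen L hL hV _ hx
  obtain ⟨z', rfl⟩ := exists_point_over hPL hV ρ z hxρ
  set W := X.basicOpen ρ with hWdef
  have hW : IsAffineOpen W := hV.basicOpen ρ
  set ψ := 𝒮L.res hV hW (X.basicOpen_le ρ) with hψ
  have hz' : z' ∈ (Proj.map ψ (𝒮L.irrelevant_le_map V hV ρ)) ⁻¹ᵁ
    Proj.basicOpen (𝒮L.deg V hV) (resTop 𝒮L t₀ V) := hz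
  rw [Proj.map_preimage_basicOpen] at hz'
  have hτ : ψ (resTop 𝒮L t₀ V) = resTop 𝒮L t₀ W := res_resTop 𝒮L t₀ (X.basicOpen_le ρ)
  rw [hτ] at hz'
  have hemb : (RelProj.emb pL chartL V hV).base
      ((Proj.map ψ (𝒮L.irrelevant_le_map V hV ρ)).base z') =
      (RelProj.emb pL chartL W hW).base z' := by
    rw [← RelProj.map_res_emb hPL V hV ρ]
    rfl
  rw [hemb]
  -- the polynomial structure over `W`
  set T := φAdd L 𝒮L.toQCAlg j W (b 0) with hTdef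
  have hT1 : T ∈ 𝒮L.deg W hW 1 := hj.2 W hW (b 0)
  have hpoly := bijective_eval₂ L 𝒮L j hj hW b
  obtain ⟨a, ha⟩ := exists_eq_mul_pow (𝒮L.deg W hW) (𝒮L.str.app (op W)).hom (𝒮L.str_mem W hW) T hT1
    hpoly d _ (hdeg W hW)
  rw [ha, Proj.basicOpen_mul] at hz'
  have hza := (pL_emb_mem_basicOpen_iff hPL hW a z').mpr hz'.1
  -- the smaller affine open
  set W₂ := X.basicOpen a with hW₂def
  have hW₂ : IsAffineOpen W₂ := hW.basicOpen a
  obtain ⟨b₂, hb₂⟩ := exists_basis_basicOpen L hW b a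
  set T₂ := φAdd L 𝒮L.toQCAlg j W₂ (b₂ 0) with hT₂def
  have hT₂1 : T₂ ∈ 𝒮L.deg W₂ hW₂ 1 := hj.2 W₂ hW₂ (b₂ 0)
  have hpoly₂ := bijective_eval₂ L 𝒮L j hj hW₂ b₂
  have hT₂ : T₂ = (𝒮L.presheaf.map (homOfLE (X.basicOpen_le a)).op).hom T := by
    rw [hT₂def, hb₂]
    exact φAdd_res L 𝒮L.toQCAlg j (X.basicOpen_le a) (b 0)
  set a₂ := (X.presheaf.map (homOfLE (X.basicOpen_le a)).op).hom a with ha₂def
  have ha₂ : IsUnit a₂ := RingedSpace.isUnit_res_basicOpen _ a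
  have hτ₂ : resTop 𝒮L t₀ W₂ = (𝒮L.str.app (op W₂)).hom a₂ * T₂ ^ d := by
    rw [← res_resTop 𝒮L t₀ (X.basicOpen_le a), ha, map_mul, map_pow, ← hT₂]
    congr 1
    exact congr_arg (fun t => t.hom a) (𝒮L.str.naturality (homOfLE (X.basicOpen_le a)).op).symm
  refine ⟨W₂, hW₂, hza, ?_⟩
  intro y hy
  obtain ⟨c, hc⟩ := exists_eq_mul_pow (𝒮L.deg W₂ hW₂) (𝒮L.str.app (op W₂)).hom
    (𝒮L.str_mem W₂ hW₂) T₂ hT₂1 hpoly₂ d y hy
  obtain ⟨v, hv⟩ := ha₂
  rw [SetLike.mem_coe, Ideal.mem_span_singleton']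
  refine ⟨(𝒮L.str.app (op W₂)).hom (c * ↑v⁻¹), ?_⟩
  rw [hτ₂, hc, ← mul_assoc, ← map_mul, ← hv, mul_assoc c, Units.inv_mul, mul_one]

end NV

end Groth.Agent.Helper13RL
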