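import Mathlib
import Groth.Agent.Lib.Helper13RLa
import Groth.Agent.Lib.Helper13RLc

set_option autoImplicit false
set_option linter.style.haveILetI false

namespace Groth.Agent.Helper13RL

open CategoryTheory AlgebraicGeometry Opposite TopologicalSpace
open HomogeneousLocalization
open scoped HomogeneousIdeal
open Groth.Agent.Helper13RelProj Groth.Agent.Helper13SymAlg Groth.Agent.Helper13SymLoc
open Groth.Agent.Helper13GrPoly Groth.Agent.Helper13ProjLine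

universe u

section Piece

variable {X PL : Scheme.{u}} (𝒮 : RelProj.QCGrAlg X) (pL : PL ⟶ X)
  (chartL : ∀ (U : X.Opens) (hU : IsAffineOpen U),
    (((pL ⁻¹ᵁ U : PL.Opens) : Scheme.{u}) ≅ Proj (𝒮.deg U hU)))
  (t₀ : 𝒮.presheaf.obj (op ⊤))

theorem emb_chart_hom (U : X.Opens) (hU : IsAffineOpen U) (y : PL) (hy : y ∈ pL ⁻¹ᵁ U) :
    (RelProj.emb pL chartL U hU).base ((chartL U hU).hom.base ⟨y, hy⟩) = y := by
  unfold RelProj.emb
  rw [← Scheme.Hom.comp_apply, Iso.hom_inv_id_assoc]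
  rfl

theorem pieceOf_eq_image_emb (U : X.Opens) (hU : IsAffineOpen U) :
    pieceOf 𝒮 pL chartL t₀ U hU =
      (RelProj.emb pL chartL U hU) ''ᵁ Proj.basicOpen (𝒮.deg U hU) (resTop 𝒮 t₀ U) := by
  ext y
  constructor
  · intro hy
    obtain ⟨hx, h⟩ := (mem_pieceOf 𝒮 pL chartL t₀ U hU y).mp hy
    exact ⟨_, h, emb_chart_hom 𝒮 pL chartL U hU y hx⟩
  · rintro ⟨z, hz, rfl⟩
    rw [SetLike.mem_coe, mem_pieceOf]
    have key : ∀ (h : (RelProj.emb pL chartL U hU).base z ∈ pL ⁻¹ᵁ U),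
        (chartL U hU).hom.base ⟨(RelProj.emb pL chartL U hU).base z, h⟩ = z := by
      intro h
      apply (RelProj.emb pL chartL U hU).isOpenEmbedding.injective
      exact emb_chart_hom 𝒮 pL chartL U hU _ _
    exact ⟨emb_mem_preimage chartL U hU z, (key _).symm ▸ hz⟩

theorem opens_ext_of_affine {A B : PL.Opens}
    (h : ∀ (V : X.Opens), IsAffineOpen V → A ⊓ pL ⁻¹ᵁ V = B ⊓ pL ⁻¹ᵁ V) : A = B := by
  ext y
  obtain ⟨V, hyV⟩ := Opens.mem_iSup.mp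
    ((iSup_affineOpens_eq_top X).ge (Set.mem_univ (pL.base y)))
  have hy : y ∈ pL ⁻¹ᵁ V.1 := hyV
  have := h V.1 V.2
  constructor
  · intro hA
    have h1 : y ∈ A ⊓ pL ⁻¹ᵁ V.1 := ⟨hA, hy⟩
    rw [this] at h1
    exact h1.1
  · intro hB
    have h1 : y ∈ B ⊓ pL ⁻¹ᵁ V.1 := ⟨hB, hy⟩
    rw [← this] at h1
    exact h1.1

end Piece

section NV2

variable {X PL : Scheme.{u}} (L : X.Modules) [L.IsQuasicoherent]
  (𝒮L : RelProj.QCGrAlg X) (j : L ⟶ 𝒮L.toModule) (hj : RelProj.IsGrSymAlg L 𝒮L j)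
  {pL : PL ⟶ X}
  {chartL : ∀ (U : X.Opens) (hU : IsAffineOpen U),
    (((pL ⁻¹ᵁ U : PL.Opens) : Scheme.{u}) ≅ Proj (𝒮L.deg U hU))}
  (hPL : RelProj.IsRelProj 𝒮L pL chartL) (hL : PicF.IsInvertible L)
  (t₀ : 𝒮L.presheaf.obj (op ⊤)) (d : ℕ)

include hj hPL hL in
/-- the open `X_t` of `Proj(𝒮L)` is the preimage of the locus where `t` generates `L^{⊗d}` -/
theorem mem_Xf_iff
    (hdeg : ∀ (V : X.Opens) (hV : IsAffineOpen V), resTop 𝒮L t₀ V ∈ 𝒮L.deg V hV d) (y : PL) :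
    y ∈ Xf 𝒮L pL chartL t₀ ↔
      ∃ (V : X.Opens) (hV : IsAffineOpen V), pL.base y ∈ V ∧
        ((𝒮L.deg V hV d : AddSubgroup (𝒮L.presheaf.obj (op V))) :
          Set (𝒮L.presheaf.obj (op V))) ⊆
          (Ideal.span {resTop 𝒮L t₀ V} : Set (𝒮L.presheaf.obj (op V))) := by
  constructor
  · intro hy
    obtain ⟨⟨U, hU⟩, hyU⟩ := Opens.mem_iSup.mp hy
    obtain ⟨hx, h⟩ := (mem_pieceOf 𝒮L pL chartL t₀ U hU y).mp hyU
    obtain ⟨V'', hV'', h1, h2⟩ := exists_affine_of_mem_basicOpen L 𝒮L j hj hPL hL t₀ d hdeg hU _ h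
    rw [emb_chart_hom] at h1
    exact ⟨V'', hV'', h1, h2⟩
  · rintro ⟨V, hV, hyV, hsub⟩
    have hy : y ∈ pL ⁻¹ᵁ V := hyV
    have htop := basicOpen_eq_top_of_subset L 𝒮L j hj hPL hL t₀ d hV hsub
    refine Opens.mem_iSup.mpr ⟨⟨V, hV⟩, ?_⟩
    rw [mem_pieceOf]
    refine ⟨hy, ?_⟩
    rw [htop]
    trivial

end NV2

section TopSec

variable {Y X : Scheme.{u}} {q : X ⟶ Y} {𝒮 : RelProj.QCGrAlg Y} {𝒮' : RelProj.QCGrAlg X}
  (u : RelProj.QGrHom q 𝒮 𝒮')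

/-- the image under `u` of a global section of `𝒮`, as a global section of `𝒮'` -/
noncomputable def topSec (s : 𝒮.presheaf.obj (op ⊤)) : 𝒮'.presheaf.obj (op ⊤) :=
  (𝒮'.presheaf.map (homOfLE (Scheme.Hom.preimage_top q).ge).op).hom ((u.app ⊤).hom s)

theorem resTop_topSec (s : 𝒮.presheaf.obj (op ⊤)) (V : X.Opens) :
    resTop 𝒮' (topSec u s) V =
      (u.appLE ⊤ V (le_top.trans (Scheme.Hom.preimage_top q).ge)).hom s := by
  unfold resTop topSec RelSpec.QHom.appLE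
  rw [← CommRingCat.comp_apply, ← Functor.map_comp]
  rfl

theorem resTop_topSec_mem (hY : IsAffineOpen (⊤ : Y.Opens)) {d : ℕ} {s : 𝒮.presheaf.obj (op ⊤)}
    (hs : s ∈ 𝒮.deg ⊤ hY d) (V : X.Opens) (hV : IsAffineOpen V) :
    resTop 𝒮' (topSec u s) V ∈ 𝒮'.deg V hV d := by
  rw [resTop_topSec]
  exact (u.gradedAt ⊤ hY V hV (le_top.trans (Scheme.Hom.preimage_top q).ge)).map_mem hs

variable {P PL : Scheme.{u}} {p : P ⟶ Y}
  {chart : ∀ (U : Y.Opens) (hU : IsAffineOpen U),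
    ((p ⁻¹ᵁ U : P.Opens) : Scheme.{u}) ≅ Proj (𝒮.deg U hU)}
  {pL : PL ⟶ X}
  {chartL : ∀ (U' : X.Opens) (hU' : IsAffineOpen U'),
    ((pL ⁻¹ᵁ U' : PL.Opens) : Scheme.{u}) ≅ Proj (𝒮'.deg U' hU')}

/-- over an affine base: the preimage of `D₊(f)` under `Proj(u)` is the open `X_{u f}` -/
theorem image_preimage_eq_Xf (hP : RelProj.IsRelProj 𝒮 p chart)
    (hPL : RelProj.IsRelProj 𝒮' pL chartL)
    {r : ((RelProj.domQ u pL chartL : PL.Opens) : Scheme.{u}) ⟶ P}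
    (hr : RelProj.IsProjQMapOn u p chart pL chartL (RelProj.domQ u pL chartL) r)
    (hY : IsAffineOpen (⊤ : Y.Opens)) {d : ℕ} (hd : 0 < d) {f : 𝒮.presheaf.obj (op ⊤)}
    (hf : f ∈ 𝒮.deg ⊤ hY d) :
    (RelProj.domQ u pL chartL).ι ''ᵁ
        (r ⁻¹ᵁ ((RelProj.emb p chart ⊤ hY) ''ᵁ Proj.basicOpen (𝒮.deg ⊤ hY) f)) =
      Xf 𝒮' pL chartL (topSec u f) := by
  apply opens_ext_of_affine pL
  intro V hV
  let W : APair q := ⟨⊤, hY, V, hV, le_top.trans (Scheme.Hom.preimage_top q).ge⟩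
  rw [image_preimage_basicOpen u hP hPL hr W hd hf, Xf_inf_preimage 𝒮' pL (topSec u f) hPL V hV,
    pieceOf_eq_image_emb, resTop_topSec]
  rfl

end TopSec

end Groth.Agent.Helper13RL
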