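import Mathlib
import Groth.Agent.Lib.Helper13RelProjA

/-!
# helper13: relative Proj toolbox, part B: finite type when generated in degree one
-/

set_option autoImplicit false

namespace Groth.Agent.Helper13RelProj

open CategoryTheory CategoryTheory.Limits AlgebraicGeometry Opposite TopologicalSpace
open HomogeneousLocalization
open scoped HomogeneousIdeal

universe u

section FT
variable {A σ : Type u} [CommRing A] [SetLike σ A] [AddSubgroupClass σ A]
  {𝒜 : ℕ → σ} [GradedRing 𝒜]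

theorem adjoin_eq_top_of_degOne {R : Type u} [CommRing R] (ρ : R →+* 𝒜 0) (T : Finset A)
    (hspan : ∀ x ∈ 𝒜 1, ∃ c : A → R, x = ∑ t ∈ T, (ρ (c t) : A) * t)
    (hgen : Subring.closure ((𝒜 0 : Set A) ∪ (𝒜 1 : Set A)) = ⊤) :
    Algebra.adjoin (𝒜 0) (T : Set A) = ⊤ := by
  rw [← top_le_iff]
  intro x _
  have hx : x ∈ Subring.closure ((𝒜 0 : Set A) ∪ (𝒜 1 : Set A)) := by rw [hgen]; trivial
  have hle : Subring.closure ((𝒜 0 : Set A) ∪ (𝒜 1 : Set A)) ≤
      (Algebra.adjoin (𝒜 0) (T : Set A)).toSubring := by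
    rw [Subring.closure_le]
    rintro y (hy | hy)
    · exact (Algebra.adjoin (𝒜 0) (T : Set A)).algebraMap_mem ⟨y, hy⟩
    · obtain ⟨c, rfl⟩ := hspan y hy
      refine Subalgebra.sum_mem _ fun t ht => Subalgebra.mul_mem _ ?_ (Algebra.subset_adjoin ht)
      exact (Algebra.adjoin (𝒜 0) (T : Set A)).algebraMap_mem (ρ (c t))
  exact hle hx

/-- the fraction `t'/t` for `t, t'` of degree one (zero if `t'` is not of degree one) -/
noncomputable def frac1 {t : A} (ht : t ∈ 𝒜 1) (t' : A) : Away 𝒜 t := by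
  classical
  exact if h : t' ∈ 𝒜 1 then Away.mk 𝒜 ht 1 t' (by simpa using h) else 0

theorem val_frac1 {t : A} (ht : t ∈ 𝒜 1) {t' : A} (h : t' ∈ 𝒜 1) :
    (frac1 ht t').val = Localization.mk t' ⟨t, Submonoid.mem_powers t⟩ := by
  rw [frac1, dif_pos h, Away.val_mk]
  congr 1
  ext
  simp

theorem val_frac1_mul {t : A} (ht : t ∈ 𝒜 1) {t' : A} (h : t' ∈ 𝒜 1) :
    (frac1 ht t').val * algebraMap A (Localization (Submonoid.powers t)) t =
      algebraMap A (Localization (Submonoid.powers t)) t' := by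
  rw [val_frac1 ht h, Localization.mk_eq_mk']
  exact IsLocalization.mk'_spec _ t' (⟨t, Submonoid.mem_powers t⟩ : Submonoid.powers t)

theorem finiteType_away_comp {R : Type u} [CommRing R] (ρ : R →+* 𝒜 0) (T : Finset A)
    (hT : ∀ t ∈ T, t ∈ 𝒜 1)
    (hspan : ∀ x ∈ 𝒜 1, ∃ c : A → R, x = ∑ t ∈ T, (ρ (c t) : A) * t)
    (hgen : Subring.closure ((𝒜 0 : Set A) ∪ (𝒜 1 : Set A)) = ⊤)
    (t : A) (ht : t ∈ T) : ((algebraMap (𝒜 0) (Away 𝒜 t)).comp ρ).FiniteType := by
  classical
  have hadj := adjoin_eq_top_of_degOne ρ T hspan hgen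
  haveI : Algebra.FiniteType (𝒜 0) A := ⟨⟨T, hadj⟩⟩
  obtain ⟨G, hG⟩ := (Away.finiteType (𝒜 := 𝒜) t 1 (hT t ht)).out
  letI : Algebra R (Away 𝒜 t) := ((algebraMap (𝒜 0) (Away 𝒜 t)).comp ρ).toAlgebra
  change Algebra.FiniteType R (Away 𝒜 t)
  refine ⟨⟨G ∪ T.image (frac1 (hT t ht)), ?_⟩⟩
  rw [← top_le_iff]
  intro z _
  -- degree zero elements land in the adjoin
  have h0 : ∀ a₀ : 𝒜 0, algebraMap (𝒜 0) (Away 𝒜 t) a₀ ∈
      Algebra.adjoin R ((G ∪ T.image (frac1 (hT t ht)) : Finset (Away 𝒜 t)) : Set (Away 𝒜 t)) := by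
    intro a₀
    have hmem : (a₀ : A) * t ∈ 𝒜 1 := by
      have := SetLike.mul_mem_graded a₀.2 (hT t ht)
      simpa using this
    obtain ⟨c, hc⟩ := hspan _ hmem
    have heq : algebraMap (𝒜 0) (Away 𝒜 t) a₀ =
        ∑ t' ∈ T, algebraMap R (Away 𝒜 t) (c t') * frac1 (hT t ht) t' := by
      apply HomogeneousLocalization.val_injective
      have hu : IsUnit (algebraMap A (Localization (Submonoid.powers t)) t) :=
        IsLocalization.map_units (Localization (Submonoid.powers t))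
          (⟨t, Submonoid.mem_powers t⟩ : Submonoid.powers t)
      apply hu.mul_left_injective
      simp only
      rw [← HomogeneousLocalization.algebraMap_apply, ← HomogeneousLocalization.algebraMap_apply,
        map_sum, Finset.sum_mul]
      have h1 : ∀ t' ∈ T, (algebraMap (Away 𝒜 t) (Localization (Submonoid.powers t)))
          (algebraMap R (Away 𝒜 t) (c t') * frac1 (hT t ht) t') *
            algebraMap A (Localization (Submonoid.powers t)) t =
          algebraMap A (Localization (Submonoid.powers t)) ((ρ (c t') : A) * t') := by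
        intro t' ht'
        rw [map_mul, mul_assoc, HomogeneousLocalization.algebraMap_apply (frac1 _ _),
          val_frac1_mul (hT t ht) (hT t' ht'), map_mul]
        congr 1
      rw [Finset.sum_congr rfl h1, ← map_sum, ← hc, map_mul]
      congr 1
    rw [heq]
    refine Subalgebra.sum_mem _ fun t' ht' => Subalgebra.mul_mem _ (Subalgebra.algebraMap_mem _ _) ?_
    refine Algebra.subset_adjoin ?_
    simp only [Finset.coe_union, Finset.coe_image, Set.mem_union, Set.mem_image]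
    exact Or.inr ⟨t', ht', rfl⟩
  have hz : z ∈ Algebra.adjoin (𝒜 0) (G : Set (Away 𝒜 t)) := by rw [hG]; trivial
  induction hz using Algebra.adjoin_induction with
  | mem x hx =>
    refine Algebra.subset_adjoin ?_
    simp only [Finset.coe_union, Set.mem_union]
    exact Or.inl hx
  | algebraMap r => exact h0 r
  | add x y _ _ hx hy => exact Subalgebra.add_mem _ (hx trivial) (hy trivial)
  | mul x y _ _ hx hy => exact Subalgebra.mul_mem _ (hx trivial) (hy trivial)

set_option backward.isDefEq.respectTransparency.types false in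
theorem loft_qc_toSpecZero_comp {R : CommRingCat.{u}} (ρ : R ⟶ CommRingCat.of (𝒜 0))
    (T : Finset A) (hT : ∀ t ∈ T, t ∈ 𝒜 1)
    (hspan : ∀ x ∈ 𝒜 1, ∃ c : A → R, x = ∑ t ∈ T, (ρ.hom (c t) : A) * t)
    (hgen : Subring.closure ((𝒜 0 : Set A) ∪ (𝒜 1 : Set A)) = ⊤) :
    LocallyOfFiniteType (Proj.toSpecZero 𝒜 ≫ Spec.map ρ) ∧
      QuasiCompact (Proj.toSpecZero 𝒜 ≫ Spec.map ρ) := by
  have hadj := adjoin_eq_top_of_degOne ρ.hom T hspan hgen
  haveI : Algebra.FiniteType (𝒜 0) A := ⟨⟨T, hadj⟩⟩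
  refine ⟨?_, inferInstance⟩
  rw [IsZariskiLocalAtSource.iff_of_iSup_eq_top (P := @LocallyOfFiniteType) _
    (Proj.iSup_basicOpen_eq_top' 𝒜 (ι := T) (↑) (fun i ↦ ⟨1, hT _ i.2⟩) (by simpa using hadj))]
  intro i
  rw [← MorphismProperty.cancel_left_of_respectsIso (P := @LocallyOfFiniteType)
    (Proj.basicOpenIsoSpec 𝒜 (i : A) (hT _ i.2) one_pos).inv, ← Category.assoc,
    ← Category.assoc, ← Proj.awayι, Proj.awayι_toSpecZero, ← Spec.map_comp,
    HasRingHomProperty.Spec_iff (P := @LocallyOfFiniteType)]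
  exact finiteType_away_comp ρ.hom T hT hspan hgen i.1 i.2

end FT

theorem restrict_eq {Y P : Scheme.{u}} (𝒮 : RelProj.QCGrAlg Y) (p : P ⟶ Y)
    (chart : ∀ (U : Y.Opens) (hU : IsAffineOpen U),
      (((p ⁻¹ᵁ U : P.Opens) : Scheme.{u}) ≅ Proj (𝒮.deg U hU)))
    (hP : RelProj.IsRelProj 𝒮 p chart) (U : Y.Opens) (hU : IsAffineOpen U) :
    p ∣_ U = (chart U hU).hom ≫ Proj.toSpecZero (𝒮.deg U hU) ≫ Spec.map (𝒮.strZero U hU) ≫
      hU.isoSpec.inv := by
  rw [← cancel_mono U.ι, morphismRestrict_ι, ← hP.chart_over U hU]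
  simp only [Category.assoc, IsAffineOpen.isoSpec_inv_ι]

end Groth.Agent.Helper13RelProj
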