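import Groth.Prelude.Def_RelProj
import Mathlib

/-!
# Relative Proj: chartwise arguments (helper27)
-/

set_option autoImplicit false
universe u

open CategoryTheory AlgebraicGeometry HomogeneousLocalization TopologicalSpace Opposite
open scoped HomogeneousIdeal

namespace Groth.Agent.Lib.Helper27RelProj

section GradedRing

variable {A σ : Type u} [CommRing A] [SetLike σ A] [AddSubgroupClass σ A]
  (𝒜 : ℕ → σ) [GradedRing 𝒜]

/-- `A_(f)` is reduced when the irrelevant ideal has no nonzero nilpotents. -/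
theorem isReduced_away (hred : ∀ x : A, x ∈ (𝒜₊) → IsNilpotent x → x = 0)
    {d : ℕ} (hd : 0 < d) (f : A) (hf : f ∈ 𝒜 d) : IsReduced (Away 𝒜 f) := by
  constructor
  rintro s ⟨k, hk⟩
  obtain ⟨n, a, ha, rfl⟩ := Away.mk_surjective 𝒜 hf s
  have hv := congrArg HomogeneousLocalization.val hk
  rw [HomogeneousLocalization.val_pow, Away.val_mk, HomogeneousLocalization.val_zero,
    Localization.mk_pow, Localization.mk_eq_mk', IsLocalization.mk'_eq_zero_iff] at hv
  obtain ⟨⟨c, m, rfl⟩, hm⟩ := hv
  simp only at hm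
  have hfa : f * a = 0 := by
    apply hred
    · exact Ideal.mul_mem_right _ _ (HomogeneousIdeal.mem_irrelevant_of_mem 𝒜 hd hf)
    · refine ⟨m + k, ?_⟩
      have : (f * a) ^ (m + k) = f ^ k * a ^ m * (f ^ m * a ^ k) := by ring
      rw [this, hm, mul_zero]
  apply HomogeneousLocalization.val_injective
  rw [Away.val_mk, HomogeneousLocalization.val_zero, Localization.mk_eq_mk',
    IsLocalization.mk'_eq_zero_iff]
  exact ⟨⟨f, 1, pow_one f⟩, hfa⟩

theorem isReduced_proj (hred : ∀ x : A, x ∈ (𝒜₊) → IsNilpotent x → x = 0) :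
    IsReduced (Proj 𝒜) := by
  have : ∀ i : (Proj.affineOpenCover 𝒜).openCover.I₀,
      IsReduced ((Proj.affineOpenCover 𝒜).openCover.X i) := by
    intro i
    have := isReduced_away 𝒜 hred i.1.2 i.2.1 i.2.2
    change IsReduced (Spec (CommRingCat.of (Away 𝒜 i.2.1)))
    infer_instance
  exact IsReduced.of_openCover _ (Proj.affineOpenCover 𝒜).openCover

end GradedRing

section Charts

variable {Y P : Scheme.{u}} (𝒮 : RelProj.QCGrAlg Y) (p : P ⟶ Y)
  (chart : ∀ (U : Y.Opens) (hU : IsAffineOpen U),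
    (((p ⁻¹ᵁ U : P.Opens) : Scheme.{u}) ≅ Proj (𝒮.deg U hU)))

/-- the open cover of `P` by the preimages of the affine opens of `Y`. -/
noncomputable def chartCover : P.OpenCover :=
  P.openCoverOfIsOpenCover (fun U : Y.affineOpens => p ⁻¹ᵁ U.1) (by
    rw [IsOpenCover, ← Scheme.Hom.preimage_iSup, iSup_affineOpens_eq_top]
    rfl)

include chart in
theorem isReduced_of_charts
    (h : ∀ (U : Y.Opens) (hU : IsAffineOpen U), IsReduced (Proj (𝒮.deg U hU))) : IsReduced P := by
  have : ∀ i, IsReduced ((chartCover p).X i) := fun U => by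
    have hU : IsAffineOpen U.1 := U.2
    have h1 := h U.1 hU
    have h3 : IsReduced ((p ⁻¹ᵁ U.1 : P.Opens) : Scheme.{u}) :=
      isReduced_of_isOpenImmersion (chart U.1 hU).hom
    exact h3
  exact IsReduced.of_openCover _ (chartCover p)

end Charts

end Groth.Agent.Lib.Helper27RelProj
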