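import Mathlib
import Groth.Agent.Lib.Helper13RelProjA
import Groth.Agent.Lib.Helper27RelProj

/-!
# helper13: relative Proj toolbox, part C: integrality
-/

set_option autoImplicit false

namespace Groth.Agent.Helper13RelProj

open CategoryTheory CategoryTheory.Limits AlgebraicGeometry Opposite TopologicalSpace
open HomogeneousLocalization
open scoped HomogeneousIdeal

universe u

section Irr
variable {A σ : Type u} [CommRing A] [SetLike σ A] [AddSubgroupClass σ A]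
  (𝒜 : ℕ → σ) [GradedRing 𝒜]

/-- the generic point of `Proj` of a graded domain with nonzero irrelevant ideal -/
noncomputable def genericPt [IsDomain A] (hirr : (𝒜₊).toIdeal ≠ ⊥) : ProjectiveSpectrum 𝒜 where
  asHomogeneousIdeal := ⊥
  isPrime := by
    rw [HomogeneousIdeal.toIdeal_bot]
    exact Ideal.isPrime_bot
  not_irrelevant_le := by
    intro hle
    apply hirr
    rw [eq_bot_iff]
    intro x hx
    have := hle hx
    exact this

theorem closure_genericPt [IsDomain A] (hirr : (𝒜₊).toIdeal ≠ ⊥) :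
    closure ({genericPt 𝒜 hirr} : Set (ProjectiveSpectrum 𝒜)) = Set.univ := by
  rw [← ProjectiveSpectrum.zeroLocus_vanishingIdeal_eq_closure,
    ProjectiveSpectrum.vanishingIdeal_singleton]
  exact ProjectiveSpectrum.zeroLocus_bot 𝒜

theorem irreducibleSpace_proj [IsDomain A] (hirr : (𝒜₊).toIdeal ≠ ⊥) :
    IrreducibleSpace (Proj 𝒜) := by
  change IrreducibleSpace (ProjectiveSpectrum 𝒜)
  rw [irreducibleSpace_def]
  have := (isIrreducible_singleton (x := genericPt 𝒜 hirr)).closure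
  rw [closure_genericPt] at this
  exact this

end Irr

theorem irreducibleSpace_of_cover {X ι : Type*} [TopologicalSpace X] [Nonempty ι] (U : ι → Set X)
    (hopen : ∀ i, IsOpen (U i))
    (hcov : ∀ x : X, ∃ i, x ∈ U i) (hirr : ∀ i, IsIrreducible (U i))
    (hinter : ∀ i j, (U i ∩ U j).Nonempty) : IrreducibleSpace X := by
  have : PreirreducibleSpace X := by
    refine PreirreducibleSpace.of_forall_nonempty_inter ?_
    rintro V W hV hW ⟨x, hx⟩ ⟨y, hy⟩
    obtain ⟨i, hi⟩ := hcov x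
    obtain ⟨j, hj⟩ := hcov y
    obtain ⟨z, hzi, hzV, hzj⟩ := (hirr i).2 V (U j) hV (hopen j) ⟨x, hi, hx⟩ (hinter i j)
    obtain ⟨w, hwj, hwV, hwW⟩ := (hirr j).2 V W hV hW ⟨z, hzj, hzV⟩ ⟨y, hj, hy⟩
    exact ⟨w, hwV, hwW⟩
  obtain ⟨i⟩ := ‹Nonempty ι›
  obtain ⟨x, -⟩ := (hirr i).1
  exact ⟨⟨x⟩⟩

section Rel
variable {Y P : Scheme.{u}} (𝒮 : RelProj.QCGrAlg Y) (p : P ⟶ Y)
  (chart : ∀ (U : Y.Opens) (hU : IsAffineOpen U),
    (((p ⁻¹ᵁ U : P.Opens) : Scheme.{u}) ≅ Proj (𝒮.deg U hU)))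

include chart in
theorem isIrreducible_preimage (U : Y.Opens) (hU : IsAffineOpen U)
    [IsDomain (𝒮.presheaf.obj (op U))] (h : ((𝒮.deg U hU)₊).toIdeal ≠ ⊥) :
    IsIrreducible ((p ⁻¹ᵁ U : P.Opens) : Set P) := by
  have h1 : IrreducibleSpace (Proj (𝒮.deg U hU)) := irreducibleSpace_proj _ h
  have h2 : IrreducibleSpace ((p ⁻¹ᵁ U : P.Opens) : Scheme.{u}) :=
    ((chart U hU).hom.homeomorph.irreducibleSpace_iff).mpr h1
  have h3 : IrreducibleSpace (((p ⁻¹ᵁ U : P.Opens) : Set P)) := h2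
  exact IsIrreducible.of_subtype (s := ((p ⁻¹ᵁ U : P.Opens) : Set P))

include chart in
theorem integral_of_charts [IsIntegral Y]
    (hint : ∀ (U : Y.Opens) (hU : IsAffineOpen U), (U : Set Y).Nonempty →
      IsDomain (𝒮.presheaf.obj (op U)) ∧ ((𝒮.deg U hU)₊).toIdeal ≠ ⊥) :
    IsIntegral P ∧ DenseRange p.base := by
  -- index set: nonempty affine opens
  let ι := {U : Y.Opens // IsAffineOpen U ∧ (U : Set Y).Nonempty}
  have hirrU : ∀ i : ι, IsIrreducible ((p ⁻¹ᵁ i.1 : P.Opens) : Set P) := fun i => by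
    obtain ⟨hd, hne⟩ := hint i.1 i.2.1 i.2.2
    exact isIrreducible_preimage 𝒮 p chart i.1 i.2.1 hne
  -- every nonempty open of Y contains a nonempty affine
  have hbasis : ∀ V : Set Y, IsOpen V → V.Nonempty → ∃ i : ι, (i.1 : Set Y) ⊆ V := by
    rintro V hV ⟨y, hy⟩
    obtain ⟨_, ⟨W, hW, rfl⟩, hyW, hWV⟩ := Y.isBasis_affineOpens.exists_subset_of_mem_open hy hV
    exact ⟨⟨W, hW, ⟨y, hyW⟩⟩, hWV⟩
  have hne : Nonempty ι := by
    obtain ⟨i, -⟩ := hbasis Set.univ isOpen_univ Set.univ_nonempty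
    exact ⟨i⟩
  have hcov : ∀ x : P, ∃ i : ι, x ∈ ((p ⁻¹ᵁ i.1 : P.Opens) : Set P) := by
    intro x
    obtain ⟨_, ⟨W, hW, rfl⟩, hyW, -⟩ := Y.isBasis_affineOpens.exists_subset_of_mem_open
      (Set.mem_univ (p.base x)) isOpen_univ
    exact ⟨⟨W, hW, ⟨_, hyW⟩⟩, hyW⟩
  have hinter : ∀ i j : ι, (((p ⁻¹ᵁ i.1 : P.Opens) : Set P) ∩
      ((p ⁻¹ᵁ j.1 : P.Opens) : Set P)).Nonempty := by
    intro i j
    have hij : ((i.1 : Set Y) ∩ (j.1 : Set Y)).Nonempty :=
      nonempty_preirreducible_inter i.1.2 j.1.2 i.2.2 j.2.2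
    obtain ⟨k, hk⟩ := hbasis _ (i.1.2.inter j.1.2) hij
    obtain ⟨x, hx⟩ := (hirrU k).1
    exact ⟨x, (hk hx).1, (hk hx).2⟩
  have hI : IrreducibleSpace P :=
    irreducibleSpace_of_cover (fun i : ι => ((p ⁻¹ᵁ i.1 : P.Opens) : Set P))
      (fun i => (p ⁻¹ᵁ i.1 : P.Opens).2) hcov hirrU hinter
  have hR : IsReduced P := by
    let 𝒰 : P.OpenCover := P.openCoverOfIsOpenCover (fun i : ι => p ⁻¹ᵁ i.1) (by
      rw [IsOpenCover, eq_top_iff]
      intro x _
      obtain ⟨i, hi⟩ := hcov x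
      exact TopologicalSpace.Opens.mem_iSup.mpr ⟨i, hi⟩)
    have : ∀ i, IsReduced (𝒰.X i) := fun i => by
      obtain ⟨hd, -⟩ := hint i.1 i.2.1 i.2.2
      have h1 : IsReduced (Proj (𝒮.deg i.1 i.2.1)) :=
        Groth.Agent.Lib.Helper27RelProj.isReduced_proj _ (fun x _ hx => hx.eq_zero)
      have h3 : IsReduced ((p ⁻¹ᵁ i.1 : P.Opens) : Scheme.{u}) :=
        isReduced_of_isOpenImmersion (chart i.1 i.2.1).hom
      exact h3
    exact IsReduced.of_openCover _ 𝒰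
  refine ⟨isIntegral_of_irreducibleSpace_of_isReduced P, ?_⟩
  rw [DenseRange, dense_iff_inter_open]
  intro V hV hVne
  obtain ⟨k, hk⟩ := hbasis V hV hVne
  obtain ⟨x, hx⟩ := (hirrU k).1
  exact ⟨p.base x, hk hx, x, rfl⟩

end Rel

end Groth.Agent.Helper13RelProj
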