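import Mathlib
import Groth.Agent.Lib.Helper13RelProjC
import Groth.Agent.Lib.Helper13RelProjB

/-!
# helper13: relative Proj toolbox, part D: integral Proj, dominant ⇒ graded algebra is a domain
-/

set_option autoImplicit false

namespace Groth.Agent.Helper13RelProj

open CategoryTheory CategoryTheory.Limits AlgebraicGeometry Opposite TopologicalSpace
open HomogeneousLocalization
open scoped HomogeneousIdeal

universe u

section Conv
variable {A σ : Type u} [CommRing A] [SetLike σ A] [AddSubgroupClass σ A]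
  (𝒜 : ℕ → σ) [GradedRing 𝒜]

theorem isNilpotent_of_basicOpen_eq_bot {d : ℕ} (hd : 0 < d) {f : A} (hf : f ∈ 𝒜 d)
    (h : Proj.basicOpen 𝒜 f = ⊥) : IsNilpotent f := by
  have e := Proj.opensRange_awayι 𝒜 f hf hd
  rw [h] at e
  have hE : IsEmpty (Spec (.of (Away 𝒜 f))) := ⟨fun x => by
    have : (Proj.awayι 𝒜 f hf hd).base x ∈ (Proj.awayι 𝒜 f hf hd).opensRange := ⟨x, rfl⟩
    rw [e] at this
    exact this.elim⟩
  have hS : Subsingleton (Away 𝒜 f) := by
    by_contra hne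
    rw [not_subsingleton_iff_nontrivial] at hne
    have : Nonempty (PrimeSpectrum (Away 𝒜 f)) := inferInstance
    exact hE.false this.some
  have h10 : (1 : Localization (Submonoid.powers f)) = 0 := by
    have := congr_arg HomogeneousLocalization.val (Subsingleton.elim (1 : Away 𝒜 f) 0)
    simpa using this
  have hS' : Subsingleton (Localization (Submonoid.powers f)) :=
    subsingleton_of_zero_eq_one h10.symm
  obtain ⟨n, hn⟩ := (IsLocalization.subsingleton_iff (M := Submonoid.powers f)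
    (S := Localization (Submonoid.powers f))).mp hS'
  exact ⟨n, hn⟩

theorem fromZeroRingHom_eq_zero {x y : A} (hx : x ∈ 𝒜 0) (hxy : x * y = 0) :
    fromZeroRingHom 𝒜 (Submonoid.powers y) ⟨x, hx⟩ = 0 := by
  apply HomogeneousLocalization.val_injective
  change (HomogeneousLocalization.mk ⟨0, ⟨x, hx⟩, 1, one_mem _⟩ :
    HomogeneousLocalization 𝒜 (Submonoid.powers y)).val = _
  rw [HomogeneousLocalization.val_mk, HomogeneousLocalization.val_zero,
    Localization.mk_eq_mk'_apply, IsLocalization.mk'_eq_zero_iff]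
  exact ⟨⟨y, Submonoid.mem_powers y⟩, by simpa [mul_comm] using hxy⟩

/-- image of `D₊(y)` in `Spec A₀` lies in `V(x)` when `x y = 0`, `x` of degree zero -/
theorem toSpecZero_mem_zeroLocus {n : ℕ} (hn : 0 < n) {x y : A} (hx : x ∈ 𝒜 0) (hy : y ∈ 𝒜 n)
    (hxy : x * y = 0) (z : Proj 𝒜) (hz : z ∈ Proj.basicOpen 𝒜 y) :
    ((Proj.toSpecZero 𝒜).base z : PrimeSpectrum (𝒜 0)) ∈
      PrimeSpectrum.zeroLocus {(⟨x, hx⟩ : 𝒜 0)} := by
  rw [← Proj.opensRange_awayι 𝒜 y hy hn] at hz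
  obtain ⟨w, rfl⟩ := hz
  rw [← Scheme.Hom.comp_apply, Proj.awayι_toSpecZero]
  have h0 := fromZeroRingHom_eq_zero 𝒜 hx hxy
  let w' : PrimeSpectrum (HomogeneousLocalization 𝒜 (Submonoid.powers y)) := w
  change PrimeSpectrum.comap (fromZeroRingHom 𝒜 (Submonoid.powers y)) w' ∈
    PrimeSpectrum.zeroLocus {(⟨x, hx⟩ : 𝒜 0)}
  rw [PrimeSpectrum.mem_zeroLocus, Set.singleton_subset_iff, SetLike.mem_coe,
    PrimeSpectrum.comap_asIdeal, Ideal.mem_comap, h0]
  exact zero_mem _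

theorem eq_zero_of_mul_eq_zero_aux [PreirreducibleSpace (Proj 𝒜)] [IsDomain (𝒜 0)]
    (hred : ∀ x : A, x ∈ 𝒜₊ → IsNilpotent x → x = 0)
    (hdom : DenseRange (Proj.toSpecZero 𝒜).base)
    {n : ℕ} (hn : 0 < n) {x y : A} (hx : x ∈ 𝒜 0) (hy : y ∈ 𝒜 n)
    (hxy : x * y = 0) (hy0 : y ≠ 0) : x = 0 := by
  have hne : (Proj.basicOpen 𝒜 y : Set (Proj 𝒜)).Nonempty := by
    by_contra hE
    rw [Set.not_nonempty_iff_eq_empty] at hE
    have hbot : Proj.basicOpen 𝒜 y = ⊥ := by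
      ext z
      simp only [hE, Set.mem_empty_iff_false, TopologicalSpace.Opens.coe_bot]
    exact hy0 (hred y (HomogeneousIdeal.mem_irrelevant_of_mem 𝒜 hn hy)
      (isNilpotent_of_basicOpen_eq_bot 𝒜 hn hy hbot))
  have hdense : Dense (Proj.basicOpen 𝒜 y : Set (Proj 𝒜)) :=
    (Proj.basicOpen 𝒜 y).2.dense hne
  have hclosed : IsClosed ((Proj.toSpecZero 𝒜).base ⁻¹'
      (PrimeSpectrum.zeroLocus {(⟨x, hx⟩ : 𝒜 0)} : Set (PrimeSpectrum (𝒜 0)))) :=
    (PrimeSpectrum.isClosed_zeroLocus _).preimage (Proj.toSpecZero 𝒜).base.hom.continuous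
  have hall : ∀ z : Proj 𝒜, ((Proj.toSpecZero 𝒜).base z : PrimeSpectrum (𝒜 0)) ∈
      PrimeSpectrum.zeroLocus {(⟨x, hx⟩ : 𝒜 0)} := by
    intro z
    have : closure (Proj.basicOpen 𝒜 y : Set (Proj 𝒜)) ⊆ _ :=
      hclosed.closure_subset_iff.mpr
        (fun z hz => toSpecZero_mem_zeroLocus 𝒜 hn hx hy hxy z hz)
    exact this (hdense z)
  have huniv : PrimeSpectrum.zeroLocus {(⟨x, hx⟩ : 𝒜 0)} = Set.univ := by
    rw [Set.eq_univ_iff_forall]
    intro q
    have hq : q ∈ closure (Set.range (Proj.toSpecZero 𝒜).base) := hdom q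
    have hsub : closure (Set.range (Proj.toSpecZero 𝒜).base) ⊆
        (PrimeSpectrum.zeroLocus {(⟨x, hx⟩ : 𝒜 0)} : Set (PrimeSpectrum (𝒜 0))) :=
      (PrimeSpectrum.isClosed_zeroLocus _).closure_subset_iff.mpr
        (by rintro _ ⟨z, rfl⟩; exact hall z)
    exact hsub hq
  rw [PrimeSpectrum.zeroLocus_eq_univ_iff, Set.singleton_subset_iff] at huniv
  have h0 : (⟨x, hx⟩ : 𝒜 0) = 0 := (mem_nilradical.mp huniv).eq_zero
  exact congr_arg Subtype.val h0

theorem eq_zero_or_eq_zero_of_homogeneous [PreirreducibleSpace (Proj 𝒜)] [IsDomain (𝒜 0)]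
    (hred : ∀ x : A, x ∈ 𝒜₊ → IsNilpotent x → x = 0)
    (hdom : DenseRange (Proj.toSpecZero 𝒜).base)
    {m n : ℕ} {x y : A} (hx : x ∈ 𝒜 m) (hy : y ∈ 𝒜 n) (hxy : x * y = 0) : x = 0 ∨ y = 0 := by
  rcases Nat.eq_zero_or_pos m with rfl | hm <;> rcases Nat.eq_zero_or_pos n with rfl | hn
  · have h : (⟨x, hx⟩ : 𝒜 0) * ⟨y, hy⟩ = 0 := Subtype.ext (by simpa using hxy)
    rcases mul_eq_zero.mp h with h | h
    · exact Or.inl (congr_arg Subtype.val h)
    · exact Or.inr (congr_arg Subtype.val h)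
  · by_cases hy0 : y = 0
    · exact Or.inr hy0
    · exact Or.inl (eq_zero_of_mul_eq_zero_aux 𝒜 hred hdom hn hx hy hxy hy0)
  · by_cases hx0 : x = 0
    · exact Or.inl hx0
    · exact Or.inr (eq_zero_of_mul_eq_zero_aux 𝒜 hred hdom hm hy hx (by rwa [mul_comm]) hx0)
  · -- both of positive degree
    by_contra hcon
    push Not at hcon
    have hnex : (Proj.basicOpen 𝒜 x : Set (Proj 𝒜)).Nonempty := by
      by_contra hE
      rw [Set.not_nonempty_iff_eq_empty] at hE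
      have hbot : Proj.basicOpen 𝒜 x = ⊥ := by
        ext z
        simp only [hE, Set.mem_empty_iff_false, TopologicalSpace.Opens.coe_bot]
      exact hcon.1 (hred x (HomogeneousIdeal.mem_irrelevant_of_mem 𝒜 hm hx)
        (isNilpotent_of_basicOpen_eq_bot 𝒜 hm hx hbot))
    have hney : (Proj.basicOpen 𝒜 y : Set (Proj 𝒜)).Nonempty := by
      by_contra hE
      rw [Set.not_nonempty_iff_eq_empty] at hE
      have hbot : Proj.basicOpen 𝒜 y = ⊥ := by
        ext z
        simp only [hE, Set.mem_empty_iff_false, TopologicalSpace.Opens.coe_bot]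
      exact hcon.2 (hred y (HomogeneousIdeal.mem_irrelevant_of_mem 𝒜 hn hy)
        (isNilpotent_of_basicOpen_eq_bot 𝒜 hn hy hbot))
    obtain ⟨z, hzx, hzy⟩ := nonempty_preirreducible_inter (Proj.basicOpen 𝒜 x).2
      (Proj.basicOpen 𝒜 y).2 hnex hney
    have hz : z ∈ Proj.basicOpen 𝒜 (x * y) := by
      rw [Proj.basicOpen_mul]
      exact ⟨hzx, hzy⟩
    rw [hxy, Proj.basicOpen_zero] at hz
    exact hz

theorem isDomain_of_irreducible_proj [PreirreducibleSpace (Proj 𝒜)] [IsDomain (𝒜 0)]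
    [Nontrivial A]
    (hred : ∀ x : A, x ∈ 𝒜₊ → IsNilpotent x → x = 0)
    (hdom : DenseRange (Proj.toSpecZero 𝒜).base) : IsDomain A := by
  have hp : (⊥ : Ideal A).IsPrime := by
    refine (Ideal.IsHomogeneous.bot 𝒜).isPrime_of_homogeneous_mem_or_mem bot_ne_top ?_
    rintro x y ⟨m, hx⟩ ⟨n, hy⟩ hxy
    simp only [Ideal.mem_bot] at hxy ⊢
    exact eq_zero_or_eq_zero_of_homogeneous 𝒜 hred hdom hx hy hxy
  haveI : NoZeroDivisors A := ⟨fun {a b} h => by
    have := hp.mem_or_mem (show a * b ∈ (⊥ : Ideal A) by simpa using h)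
    simpa using this⟩
  exact NoZeroDivisors.to_isDomain A

end Conv

section RelConv

variable {Y P : Scheme.{u}} (𝒮 : RelProj.QCGrAlg Y) (p : P ⟶ Y)
  (chart : ∀ (U : Y.Opens) (hU : IsAffineOpen U),
    (((p ⁻¹ᵁ U : P.Opens) : Scheme.{u}) ≅ Proj (𝒮.deg U hU)))

theorem denseRange_restrict (hdom : DenseRange p.base) (U : Y.Opens) :
    DenseRange (p ∣_ U).base := by
  rw [DenseRange, dense_iff_inter_open]
  rintro V hV ⟨v, hv⟩
  have hVo : IsOpen (Subtype.val '' V : Set Y) := U.2.isOpenMap_subtype_val V hV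
  obtain ⟨x, hx⟩ := hdom.exists_mem_open hVo ⟨v.1, v, hv, rfl⟩
  obtain ⟨w, hw, hwx⟩ := hx
  have hxU : x ∈ p ⁻¹ᵁ U := by
    change p.base x ∈ U
    rw [← hwx]; exact w.2
  refine ⟨w, hw, ⟨x, hxU⟩, ?_⟩
  apply Subtype.ext
  rw [hwx]
  exact morphismRestrict_base_coe p U ⟨x, hxU⟩

include chart in
theorem domain_of_integral_relProj [IsIntegral Y]
    (h0 : ∀ (U : Y.Opens) (hU : IsAffineOpen U), Function.Bijective (𝒮.strZero U hU).hom)
    (hred : ∀ (U : Y.Opens) (hU : IsAffineOpen U) (x : 𝒮.presheaf.obj (op U)),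
      x ∈ (𝒮.deg U hU)₊ → IsNilpotent x → x = 0)
    (hP : RelProj.IsRelProj 𝒮 p chart) [IsIntegral P] (hdom : DenseRange p.base)
    (U : Y.Opens) (hU : IsAffineOpen U) (hne : (U : Set Y).Nonempty) :
    IsDomain (𝒮.presheaf.obj (op U)) ∧ ((𝒮.deg U hU)₊).toIdeal ≠ ⊥ := by
  haveI : Nonempty U := hne.to_subtype
  -- degree zero part is a domain
  let e : Γ(Y, U) ≃+* 𝒮.deg U hU 0 := RingEquiv.ofBijective (𝒮.strZero U hU).hom (h0 U hU)
  haveI : IsDomain (𝒮.deg U hU 0) :=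
    Function.Injective.isDomain e.symm.toRingHom e.symm.injective
  -- Proj is nonempty
  obtain ⟨x, hx⟩ := hdom.exists_mem_open U.2 hne
  let z : Proj (𝒮.deg U hU) := (chart U hU).hom.base ⟨x, hx⟩
  have hirr : ((𝒮.deg U hU)₊).toIdeal ≠ ⊥ := by
    intro hbot
    let z' : ProjectiveSpectrum (𝒮.deg U hU) := z
    apply z'.not_irrelevant_le
    intro a ha
    have ha' : a ∈ ((𝒮.deg U hU)₊).toIdeal := ha
    rw [hbot, Ideal.mem_bot] at ha'
    rw [ha']
    exact zero_mem _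
  refine ⟨?_, hirr⟩
  haveI : Nontrivial (𝒮.presheaf.obj (op U)) := by
    by_contra hnt
    rw [not_nontrivial_iff_subsingleton] at hnt
    exact hirr (Subsingleton.elim _ _)
  haveI : PreirreducibleSpace (Proj (𝒮.deg U hU)) :=
    ((chart U hU).inv ≫ (p ⁻¹ᵁ U).ι).isOpenEmbedding.preirreducibleSpace
  have hd : DenseRange (Proj.toSpecZero (𝒮.deg U hU)).base := by
    have hr := denseRange_restrict p hdom U
    rw [restrict_eq 𝒮 p chart hP U hU] at hr
    haveI : IsIso (𝒮.strZero U hU) := (ConcreteCategory.isIso_iff_bijective _).mpr (h0 U hU)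
    have hr' : DenseRange ((Spec.map (𝒮.strZero U hU) ≫ hU.isoSpec.inv).homeomorph ∘
        ((Proj.toSpecZero (𝒮.deg U hU)).base ∘ (chart U hU).hom.base)) := hr
    have h1 := ((Spec.map (𝒮.strZero U hU) ≫ hU.isoSpec.inv).homeomorph.symm.surjective.denseRange).comp
      hr' (Spec.map (𝒮.strZero U hU) ≫ hU.isoSpec.inv).homeomorph.symm.continuous
    rw [← Function.comp_assoc, Homeomorph.symm_comp_self, Function.id_comp] at h1
    exact h1.of_comp
  exact isDomain_of_irreducible_proj (𝒮.deg U hU) (hred U hU) hd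

end RelConv

end Groth.Agent.Helper13RelProj
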