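import Mathlib
import Groth.Agent.Lib.Helper13RLd
import Groth.Agent.Lib.Helper13RelProjD

set_option autoImplicit false

namespace Groth.Agent.Helper13RL

open CategoryTheory AlgebraicGeometry Opposite TopologicalSpace
open HomogeneousLocalization
open scoped HomogeneousIdeal
open Groth.Agent.Helper13RelProj

universe u

section Pure2

variable {A σ : Type u} [CommRing A] [SetLike σ A] [AddSubgroupClass σ A]
  (𝒜 : ℕ → σ) [GradedRing 𝒜]

/-- the standard opens `D₊(f)`, `f` homogeneous of positive degree, form a basis of `Proj` -/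
theorem exists_homogeneous_basicOpen_le (O : (Proj 𝒜).Opens) (z : Proj 𝒜) (hz : z ∈ O) :
    ∃ (n : ℕ) (f : A), 0 < n ∧ f ∈ 𝒜 n ∧ z ∈ Proj.basicOpen 𝒜 f ∧ Proj.basicOpen 𝒜 f ≤ O := by
  obtain ⟨n₀, g, hn₀, hg, hzg⟩ := exists_mem_basicOpen_pos 𝒜 z
  have hzg' := hzg
  rw [← Proj.opensRange_awayι 𝒜 g hg hn₀] at hzg'
  obtain ⟨w, rfl⟩ := hzg'
  have hw : w ∈ (Proj.awayι 𝒜 g hg hn₀) ⁻¹ᵁ O := hz
  obtain ⟨_, ⟨α, rfl⟩, hwα, hαO⟩ :=
    (PrimeSpectrum.isTopologicalBasis_basic_opens (R := Away 𝒜 g)).exists_subset_of_mem_open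
      (u := (((Proj.awayι 𝒜 g hg hn₀) ⁻¹ᵁ O : (Spec (.of (Away 𝒜 g))).Opens).1 :
        Set (PrimeSpectrum (Away 𝒜 g)))) (a := w) hw ((Proj.awayι 𝒜 g hg hn₀) ⁻¹ᵁ O).2
  obtain ⟨k, a, ha, rfl⟩ := Away.mk_surjective 𝒜 hg α
  have hf : a * g ∈ 𝒜 (k • n₀ + n₀) := SetLike.mul_mem_graded ha hg
  have hpos : 0 < k • n₀ + n₀ := Nat.add_pos_right _ hn₀
  have hpre := Proj.awayι_preimage_basicOpen 𝒜 hg hn₀ hf hpos
  have helem : Away.isLocalizationElem hg hf = (Away.mk 𝒜 hg k a ha) ^ n₀ := by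
    apply HomogeneousLocalization.val_injective
    rw [HomogeneousLocalization.val_pow, Away.val_mk, Away.val_mk, Localization.mk_pow,
      Localization.mk_eq_mk_iff, Localization.r_iff_exists]
    refine ⟨1, ?_⟩
    simp only [OneMemClass.coe_one, one_mul, SubmonoidClass.coe_pow]
    ring
  rw [helem, PrimeSpectrum.basicOpen_pow _ n₀ hn₀] at hpre
  refine ⟨k • n₀ + n₀, a * g, hpos, hf, ?_, ?_⟩
  · have : w ∈ (Proj.awayι 𝒜 g hg hn₀) ⁻¹ᵁ Proj.basicOpen 𝒜 (a * g) := by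
      rw [hpre]; exact hwα
    exact this
  · intro z₂ hz₂
    have hz₂g : z₂ ∈ Proj.basicOpen 𝒜 g := by
      rw [Proj.basicOpen_mul] at hz₂
      exact hz₂.2
    rw [← Proj.opensRange_awayι 𝒜 g hg hn₀] at hz₂g
    obtain ⟨w₂, rfl⟩ := hz₂g
    have h1 : w₂ ∈ (Proj.awayι 𝒜 g hg hn₀) ⁻¹ᵁ Proj.basicOpen 𝒜 (a * g) := hz₂
    rw [hpre] at h1
    exact hαO h1

theorem basicOpen_eq_bot_of_isNilpotent {f : A} (hf : IsNilpotent f) :
    Proj.basicOpen 𝒜 f = ⊥ := by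
  rw [eq_bot_iff]
  intro z hz
  rw [Proj.mem_basicOpen] at hz
  obtain ⟨n, hn⟩ := hf
  exact hz (z.isPrime.mem_of_pow_mem n (by rw [hn]; exact zero_mem _))

end Pure2

end Groth.Agent.Helper13RL

namespace Groth.Agent.Helper13RL

open CategoryTheory AlgebraicGeometry Opposite TopologicalSpace
open HomogeneousLocalization
open scoped HomogeneousIdeal
open Groth.Agent.Helper13RelProj

universe u

section Dominant

variable {Y X : Scheme.{u}} {q : X ⟶ Y} {𝒮 : RelProj.QCGrAlg Y} {𝒮' : RelProj.QCGrAlg X}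
  (u : RelProj.QGrHom q 𝒮 𝒮')
  {P PL : Scheme.{u}} {p : P ⟶ Y}
  {chart : ∀ (U : Y.Opens) (hU : IsAffineOpen U),
    ((p ⁻¹ᵁ U : P.Opens) : Scheme.{u}) ≅ Proj (𝒮.deg U hU)}
  {pL : PL ⟶ X}
  {chartL : ∀ (U' : X.Opens) (hU' : IsAffineOpen U'),
    ((pL ⁻¹ᵁ U' : PL.Opens) : Scheme.{u}) ≅ Proj (𝒮'.deg U' hU')}

/-- over an affine base, `Proj(u)` is dominant iff locally nilpotent images come from nilpotents -/
theorem isDominant_iff (hP : RelProj.IsRelProj 𝒮 p chart)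
    (hPL : RelProj.IsRelProj 𝒮' pL chartL)
    {r : ((RelProj.domQ u pL chartL : PL.Opens) : Scheme.{u}) ⟶ P}
    (hr : RelProj.IsProjQMapOn u p chart pL chartL (RelProj.domQ u pL chartL) r)
    (hY : IsAffineOpen (⊤ : Y.Opens)) :
    IsDominant r ↔
      ∀ (n : ℕ), 0 < n → ∀ s ∈ 𝒮.deg ⊤ hY n,
        (∀ x : X, ∃ (V : X.Opens) (_ : IsAffineOpen V), x ∈ V ∧
          IsNilpotent ((u.appLE ⊤ V (le_top.trans (Scheme.Hom.preimage_top q).ge)).hom s)) →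
          IsNilpotent s := by
  constructor
  · intro hdom n hn s hs hloc
    apply isNilpotent_of_basicOpen_eq_bot (𝒮.deg ⊤ hY) hn hs
    by_contra hne
    obtain ⟨z, hz⟩ := (Opens.ne_bot_iff_nonempty _).mp hne
    obtain ⟨y', hy'⟩ := hdom.denseRange.exists_mem_open
      ((RelProj.emb p chart ⊤ hY) ''ᵁ Proj.basicOpen (𝒮.deg ⊤ hY) s).2 ⟨_, z, hz, rfl⟩
    have hmem : (RelProj.domQ u pL chartL).ι.base y' ∈ (RelProj.domQ u pL chartL).ι ''ᵁ
        (r ⁻¹ᵁ ((RelProj.emb p chart ⊤ hY) ''ᵁ Proj.basicOpen (𝒮.deg ⊤ hY) s)) :=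
      ⟨y', hy', rfl⟩
    rw [image_preimage_eq_Xf u hP hPL hr hY hn hs] at hmem
    obtain ⟨V, hV, hxV, hnil⟩ := hloc (pL.base ((RelProj.domQ u pL chartL).ι.base y'))
    have h2 : (RelProj.domQ u pL chartL).ι.base y' ∈
        Xf 𝒮' pL chartL (topSec u s) ⊓ pL ⁻¹ᵁ V := ⟨hmem, hxV⟩
    rw [Xf_inf_preimage 𝒮' pL (topSec u s) hPL V hV, mem_pieceOf] at h2
    obtain ⟨hx, h3⟩ := h2
    rw [resTop_topSec, basicOpen_eq_bot_of_isNilpotent _ hnil] at h3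
    exact h3
  · intro H
    refine ⟨dense_iff_inter_open.mpr ?_⟩
    rintro U hU ⟨pt, hpt⟩
    obtain ⟨z, rfl⟩ := exists_chart_point (chartB := chart) ⊤ hY pt trivial
    have hzO : z ∈ (RelProj.emb p chart ⊤ hY) ⁻¹ᵁ (⟨U, hU⟩ : P.Opens) := hpt
    obtain ⟨n, f, hn, hf, hzf, hle⟩ := exists_homogeneous_basicOpen_le (𝒮.deg ⊤ hY) _ z hzO
    have hfn : ¬ IsNilpotent f := by
      intro hnil
      rw [basicOpen_eq_bot_of_isNilpotent _ hnil] at hzf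
      exact hzf
    have hH := H n hn f hf
    have hex : ∃ x : X, ∀ (V : X.Opens) (_ : IsAffineOpen V), x ∈ V →
        ¬ IsNilpotent ((u.appLE ⊤ V (le_top.trans (Scheme.Hom.preimage_top q).ge)).hom f) := by
      by_contra hcon
      push Not at hcon
      exact hfn (hH fun x => by
        obtain ⟨V, hV, hxV, hnil⟩ := hcon x
        exact ⟨V, hV, hxV, hnil⟩)
    obtain ⟨x, hx⟩ := hex
    obtain ⟨V, hxV⟩ := Opens.mem_iSup.mp ((iSup_affineOpens_eq_top X).ge (Set.mem_univ x))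
    have hnn := hx V.1 V.2 hxV
    rw [← resTop_topSec] at hnn
    have hne : Proj.basicOpen (𝒮'.deg V.1 V.2) (resTop 𝒮' (topSec u f) V.1) ≠ ⊥ := fun h =>
      hnn (isNilpotent_of_basicOpen_eq_bot (𝒮'.deg V.1 V.2) hn
        (resTop_topSec_mem u hY hf V.1 V.2) h)
    obtain ⟨z₁, hz₁⟩ := (Opens.ne_bot_iff_nonempty _).mp hne
    have hy : (RelProj.emb pL chartL V.1 V.2).base z₁ ∈ Xf 𝒮' pL chartL (topSec u f) := by
      refine Opens.mem_iSup.mpr ⟨V, ?_⟩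
      rw [pieceOf_eq_image_emb]
      exact ⟨z₁, hz₁, rfl⟩
    rw [← image_preimage_eq_Xf u hP hPL hr hY hn hf] at hy
    obtain ⟨y', ⟨z₂, hz₂, hzy⟩, -⟩ := hy
    refine ⟨r.base y', ?_, ⟨y', rfl⟩⟩
    rw [← hzy]
    exact hle hz₂

end Dominant

end Groth.Agent.Helper13RL
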