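import Mathlib
import Groth.Agent.Lib.Helper13RLf
import Groth.Agent.Lib.Helper13RLe

set_option autoImplicit false
set_option linter.style.haveILetI false

namespace Groth.Agent.Helper13RL

open CategoryTheory CategoryTheory.Limits AlgebraicGeometry Opposite TopologicalSpace
open HomogeneousLocalization
open scoped HomogeneousIdeal
open Groth.Agent.Helper13RelProj Groth.Agent.Helper13SymAlg Groth.Agent.Helper13SymLoc
open Groth.Agent.Helper13GrPoly Groth.Agent.Helper13ProjLine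

universe u

section XT

variable {Y X : Scheme.{u}} {q : X ⟶ Y} {𝒮 : RelProj.QCGrAlg Y} (𝒮L : RelProj.QCGrAlg X)
  (u : RelProj.QGrHom q 𝒮 𝒮L)

/-- the open `X_{u s}` where the section `u s` of `L^{⊗n}` generates, as written in the statements -/
def XT (s : 𝒮.presheaf.obj (op ⊤)) (n : ℕ) : X.Opens :=
  ⨆ V : {V : X.affineOpens //
    ((𝒮L.deg V.1 V.2 n : AddSubgroup (𝒮L.presheaf.obj (op (V.1 : X.Opens)))) :
      Set (𝒮L.presheaf.obj (op (V.1 : X.Opens)))) ⊆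
      (Ideal.span {(u.appLE ⊤ (V.1 : X.Opens)
        (le_top.trans (Scheme.Hom.preimage_top q).ge)).hom s} :
          Set (𝒮L.presheaf.obj (op (V.1 : X.Opens))))},
    (V.1.1 : X.Opens)

theorem mem_XT_iff (s : 𝒮.presheaf.obj (op ⊤)) (n : ℕ) (x : X) :
    x ∈ XT 𝒮L u s n ↔ ∃ (V : X.Opens) (hV : IsAffineOpen V), x ∈ V ∧
      ((𝒮L.deg V hV n : AddSubgroup (𝒮L.presheaf.obj (op V))) :
        Set (𝒮L.presheaf.obj (op V))) ⊆
        (Ideal.span {resTop 𝒮L (topSec u s) V} : Set (𝒮L.presheaf.obj (op V))) := by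
  constructor
  · intro hx
    obtain ⟨⟨⟨V, hV⟩, hsub⟩, hxV⟩ := Opens.mem_iSup.mp hx
    refine ⟨V, hV, hxV, ?_⟩
    rw [resTop_topSec]
    exact hsub
  · rintro ⟨V, hV, hxV, hsub⟩
    refine Opens.mem_iSup.mpr ⟨⟨⟨V, hV⟩, ?_⟩, hxV⟩
    rw [← resTop_topSec]
    exact hsub

end XT

section LC

variable {Y X : Scheme.{u}} {q : X ⟶ Y} (L : X.Modules) [L.IsQuasicoherent]
  {𝒮 : RelProj.QCGrAlg Y} (𝒮L : RelProj.QCGrAlg X) (j : L ⟶ 𝒮L.toModule)
  (hj : RelProj.IsGrSymAlg L 𝒮L j) (u : RelProj.QGrHom q 𝒮 𝒮L)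
  {P PL : Scheme.{u}} {p : P ⟶ Y}
  {chart : ∀ (U : Y.Opens) (hU : IsAffineOpen U),
    ((p ⁻¹ᵁ U : P.Opens) : Scheme.{u}) ≅ Proj (𝒮.deg U hU)}
  {pL : PL ⟶ X}
  {chartL : ∀ (U' : X.Opens) (hU' : IsAffineOpen U'),
    ((pL ⁻¹ᵁ U' : PL.Opens) : Scheme.{u}) ≅ Proj (𝒮L.deg U' hU')}
  (hP : RelProj.IsRelProj 𝒮 p chart) (hPL : RelProj.IsRelProj 𝒮L pL chartL)
  (hL : PicF.IsInvertible L)
  {r : ((RelProj.domQ u pL chartL : PL.Opens) : Scheme.{u}) ⟶ P}
  (hr : RelProj.IsProjQMapOn u p chart pL chartL (RelProj.domQ u pL chartL) r)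
  (hY : IsAffineOpen (⊤ : Y.Opens)) {n : ℕ} (hn : 0 < n) {s : 𝒮.presheaf.obj (op ⊤)}
  (hs : s ∈ 𝒮.deg ⊤ hY n)

include hj hPL hL hY hs in
theorem Xf_eq_preimage_XT :
    Xf 𝒮L pL chartL (topSec u s) = pL ⁻¹ᵁ XT 𝒮L u s n := by
  ext y
  rw [SetLike.mem_coe, mem_Xf_iff L 𝒮L j hj hPL hL (topSec u s) n (resTop_topSec_mem u hY hs)]
  exact (mem_XT_iff 𝒮L u s n (pL.base y)).symm

include hj hP hPL hL hr hn hs in
/-- `r⁻¹(D₊(s)) = X_{u s}` -/
theorem image_preimage_eq_XT :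
    (RelProj.domQ u pL chartL).ι ''ᵁ
        (r ⁻¹ᵁ ((RelProj.emb p chart ⊤ hY) ''ᵁ Proj.basicOpen (𝒮.deg ⊤ hY) s)) =
      pL ⁻¹ᵁ XT 𝒮L u s n := by
  rw [image_preimage_eq_Xf u hP hPL hr hY hn hs, Xf_eq_preimage_XT L 𝒮L j hj u hPL hL hY hs]

include hj hP hPL hL hr hn hs in
theorem isAffineOpen_XT_of_preimage [IsIso pL]
    (h : IsAffineOpen (r ⁻¹ᵁ ((RelProj.emb p chart ⊤ hY) ''ᵁ Proj.basicOpen (𝒮.deg ⊤ hY) s))) :
    IsAffineOpen (XT 𝒮L u s n) := by
  have h1 := h.image_of_isOpenImmersion (RelProj.domQ u pL chartL).ι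
  rw [image_preimage_eq_XT L 𝒮L j hj u hP hPL hL hr hY hn hs] at h1
  have h2 := h1.image_of_isOpenImmersion pL
  have h3 : pL ''ᵁ (pL ⁻¹ᵁ XT 𝒮L u s n) = XT 𝒮L u s n := by
    rw [Scheme.Hom.image_preimage_eq_opensRange_inf]
    have : pL.opensRange = ⊤ := by
      rw [eq_top_iff]
      intro x _
      exact ⟨(inv pL).base x, by rw [← Scheme.Hom.comp_apply, IsIso.inv_hom_id]; rfl⟩
    rw [this, top_inf_eq]
  rwa [h3] at h2

include hn hs in
theorem isAffineOpen_image_basicOpen :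
    IsAffineOpen ((RelProj.emb p chart ⊤ hY) ''ᵁ Proj.basicOpen (𝒮.deg ⊤ hY) s) :=
  (Proj.isAffineOpen_basicOpen (𝒮.deg ⊤ hY) s hs hn).image_of_isOpenImmersion _

include hj hP hPL hL hr hn hs in
/-- the points of `G(u)` over `X_{u s}` are those mapped into `D₊(s)` -/
theorem mem_preimage_iff (y' : ((RelProj.domQ u pL chartL : PL.Opens) : Scheme.{u})) :
    r.base y' ∈ (RelProj.emb p chart ⊤ hY) ''ᵁ Proj.basicOpen (𝒮.deg ⊤ hY) s ↔
      pL.base ((RelProj.domQ u pL chartL).ι.base y') ∈ XT 𝒮L u s n := by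
  have h := image_preimage_eq_XT L 𝒮L j hj u hP hPL hL hr hY hn hs
  constructor
  · intro hy
    have : (RelProj.domQ u pL chartL).ι.base y' ∈ pL ⁻¹ᵁ XT 𝒮L u s n := by
      rw [← h]; exact ⟨y', hy, rfl⟩
    exact this
  · intro hy
    have : (RelProj.domQ u pL chartL).ι.base y' ∈ pL ⁻¹ᵁ XT 𝒮L u s n := hy
    rw [← h] at this
    obtain ⟨y'', hy'', he⟩ := this
    rw [← (RelProj.domQ u pL chartL).ι.isOpenEmbedding.injective he]
    exact hy''

section Chart

variable {V : X.Opens} (hV : IsAffineOpen V) (hVX : V = XT 𝒮L u s n)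

/-- the graded homomorphism `𝒮(Y) → 𝒮L(V)` -/
noncomputable abbrev φT : 𝒮.deg ⊤ hY →+*ᵍ 𝒮L.deg V hV :=
  u.gradedAt ⊤ hY V hV (le_top.trans (Scheme.Hom.preimage_top q).ge)

include hj hPL hL hs hVX in
theorem basicOpen_φT_eq_top :
    Proj.basicOpen (𝒮L.deg V hV) (φT 𝒮L u hY hV s) = ⊤ := by
  rw [eq_top_iff]
  intro z _
  have h1 : (RelProj.emb pL chartL V hV).base z ∈ Xf 𝒮L pL chartL (topSec u s) ⊓ pL ⁻¹ᵁ V := by
    refine ⟨?_, emb_mem_preimage chartL V hV z⟩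
    rw [Xf_eq_preimage_XT L 𝒮L j hj u hPL hL hY hs, ← hVX]
    exact emb_mem_preimage chartL V hV z
  rw [Xf_inf_preimage 𝒮L pL (topSec u s) hPL V hV, pieceOf_eq_image_emb] at h1
  obtain ⟨z', hz', hzz⟩ := h1
  have := (RelProj.emb pL chartL V hV).isOpenEmbedding.injective hzz
  rw [this, resTop_topSec] at hz'
  exact hz'

theorem opensRange_emb (U : X.Opens) (hU : IsAffineOpen U) :
    (RelProj.emb pL chartL U hU).opensRange = pL ⁻¹ᵁ U := by
  unfold RelProj.emb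
  rw [Scheme.Hom.opensRange_comp_of_isIso, Scheme.Opens.opensRange_ι]

include hj hPL hL hs hVX hn in
/-- on `V = X_{u s}` affine, functions on `V` are the degree-zero localization `𝒮L(V)_{(u s)}` -/
theorem theta_bijective [IsIso pL] :
    Function.Bijective ((fromZeroRingHom (𝒮L.deg V hV)
      (Submonoid.powers (φT 𝒮L u hY hV s))).comp (𝒮L.strZero V hV).hom) := by
  have htop := basicOpen_φT_eq_top L 𝒮L j hj u hPL hL hY hs hV hVX
  have hmem : φT 𝒮L u hY hV s ∈ 𝒮L.deg V hV n := (φT 𝒮L u hY hV).map_mem hs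
  haveI : IsIso (Proj.awayι (𝒮L.deg V hV) (φT 𝒮L u hY hV s) hmem hn) := by
    have h1 : (Proj.awayι (𝒮L.deg V hV) (φT 𝒮L u hY hV s) hmem hn).opensRange = ⊤ := by
      rw [Proj.opensRange_awayι]; exact htop
    haveI : Epi (Proj.awayι (𝒮L.deg V hV) (φT 𝒮L u hY hV s) hmem hn).base := by
      rw [TopCat.epi_iff_surjective]
      intro x
      have : x ∈ (Proj.awayι (𝒮L.deg V hV) (φT 𝒮L u hY hV s) hmem hn).opensRange := by
        rw [h1]; trivial
      exact this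
    exact IsOpenImmersion.isIso _
  have h2 : (chartL V hV).hom ≫ (Proj.toSpecZero (𝒮L.deg V hV) ≫
      Spec.map (𝒮L.strZero V hV)) ≫ hV.isoSpec.inv = pL ∣_ V := by
    rw [← cancel_mono V.ι, morphismRestrict_ι, ← hPL.chart_over V hV]
    simp only [Category.assoc, IsAffineOpen.isoSpec_inv_ι]
  haveI : IsIso (Proj.toSpecZero (𝒮L.deg V hV) ≫ Spec.map (𝒮L.strZero V hV)) := by
    have : Proj.toSpecZero (𝒮L.deg V hV) ≫ Spec.map (𝒮L.strZero V hV) =
        (chartL V hV).inv ≫ (pL ∣_ V) ≫ hV.isoSpec.hom := by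
      rw [← h2]; simp
    rw [this]; infer_instance
  have h3 : Spec.map (𝒮L.strZero V hV ≫ CommRingCat.ofHom (fromZeroRingHom (𝒮L.deg V hV)
      (Submonoid.powers (φT 𝒮L u hY hV s)))) =
      Proj.awayι (𝒮L.deg V hV) (φT 𝒮L u hY hV s) hmem hn ≫
        Proj.toSpecZero (𝒮L.deg V hV) ≫ Spec.map (𝒮L.strZero V hV) := by
    rw [Spec.map_comp, Proj.awayι_toSpecZero_assoc]
  have h4 : IsIso (Spec.map (𝒮L.strZero V hV ≫ CommRingCat.ofHom (fromZeroRingHom (𝒮L.deg V hV)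
      (Submonoid.powers (φT 𝒮L u hY hV s))))) := by
    rw [h3]; infer_instance
  exact isIso_SpecMap_iff.mp h4

/-- the standard chart of `P` at `s` -/
noncomputable abbrev iV : Spec (CommRingCat.of (Away (𝒮.deg ⊤ hY) s)) ⟶ P :=
  Proj.awayι (𝒮.deg ⊤ hY) s hs hn ≫ RelProj.emb p chart ⊤ hY

/-- the standard chart of `G(u)` at `s` over `V` -/
noncomputable abbrev iU :
    Spec (CommRingCat.of (Away (𝒮L.deg V hV) (φT 𝒮L u hY hV s))) ⟶
      ((RelProj.domQ u pL chartL : PL.Opens) : Scheme.{u}) :=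
  IsOpenImmersion.lift (RelProj.domQ u pL chartL).ι
    (RelProj.awayEmb u pL chartL ⊤ hY V hV (le_top.trans (Scheme.Hom.preimage_top q).ge) hn s hs)
    (RelProj.range_awayEmb_subset_domQ u pL chartL ⊤ hY V hV
      (le_top.trans (Scheme.Hom.preimage_top q).ge) hn s hs)

instance : IsOpenImmersion (iU 𝒮L u (pL := pL) (chartL := chartL) hY hn hs hV) := by
  have h0 : IsOpenImmersion (RelProj.awayEmb u pL chartL ⊤ hY V hV
      (le_top.trans (Scheme.Hom.preimage_top q).ge) hn s hs) := by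
    unfold RelProj.awayEmb; infer_instance
  have : IsOpenImmersion (iU 𝒮L u (pL := pL) (chartL := chartL) hY hn hs hV ≫
      (RelProj.domQ u pL chartL).ι) := by
    rw [IsOpenImmersion.lift_fac]; exact h0
  exact IsOpenImmersion.of_comp _ (RelProj.domQ u pL chartL).ι

theorem opensRange_iV :
    (iV (p := p) (chart := chart) hY hn hs).opensRange =
      (RelProj.emb p chart ⊤ hY) ''ᵁ Proj.basicOpen (𝒮.deg ⊤ hY) s := by
  rw [Scheme.Hom.opensRange_comp, Proj.opensRange_awayι]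

include hj hP hPL hL hr hVX in
/-- the chart square of `r` at `s` is a pullback square -/
theorem isPullback_chart :
    IsPullback (Spec.map (CommRingCat.ofHom (Away.map (φT 𝒮L u hY hV) s)))
      (iU 𝒮L u (pL := pL) (chartL := chartL) hY hn hs hV)
      (iV (p := p) (chart := chart) hY hn hs) r := by
  have hmem : φT 𝒮L u hY hV s ∈ 𝒮L.deg V hV n := (φT 𝒮L u hY hV).map_mem hs
  refine IsOpenImmersion.isPullback _ _ _ _ ?_ ?_
  · exact hr ⊤ hY V hV (le_top.trans (Scheme.Hom.preimage_top q).ge) n hn s hs _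
  · apply (RelProj.domQ u pL chartL).ι.image_injective
    dsimp only
    rw [opensRange_iV, image_preimage_eq_XT L 𝒮L j hj u hP hPL hL hr hY hn hs, ← hVX]
    have h0 : IsOpenImmersion (RelProj.awayEmb u pL chartL ⊤ hY V hV
        (le_top.trans (Scheme.Hom.preimage_top q).ge) hn s hs) := by
      unfold RelProj.awayEmb; infer_instance
    have h1 : (RelProj.awayEmb u pL chartL ⊤ hY V hV
        (le_top.trans (Scheme.Hom.preimage_top q).ge) hn s hs).opensRange = pL ⁻¹ᵁ V := by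
      unfold RelProj.awayEmb
      rw [Scheme.Hom.opensRange_comp, Proj.opensRange_awayι]
      change (RelProj.emb pL chartL V hV) ''ᵁ
        Proj.basicOpen (𝒮L.deg V hV) (φT 𝒮L u hY hV s) = _
      rw [basicOpen_φT_eq_top L 𝒮L j hj u hPL hL hY hs hV hVX,
        Scheme.Hom.image_top_eq_opensRange, opensRange_emb]
    apply Opens.ext
    rw [← h1]
    have h2 : (((RelProj.domQ u pL chartL).ι ''ᵁ
        (iU 𝒮L u (pL := pL) (chartL := chartL) hY hn hs hV).opensRange : PL.Opens) : Set PL) =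
        Set.range (iU 𝒮L u (pL := pL) (chartL := chartL) hY hn hs hV ≫
          (RelProj.domQ u pL chartL).ι).base := by
      rw [Scheme.Hom.comp_base, TopCat.coe_comp, Set.range_comp]
      rfl
    rw [h2, IsOpenImmersion.lift_fac]
    rfl

include hj hP hPL hL hr hVX hn hs in
/-- over the standard open `D₊(s)`, `r` is `Spec` of the map of degree-zero localizations -/
theorem restrict_iff (Q : MorphismProperty Scheme.{u}) [Q.RespectsIso] :
    Q (r ∣_ ((RelProj.emb p chart ⊤ hY) ''ᵁ Proj.basicOpen (𝒮.deg ⊤ hY) s)) ↔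
      Q (Spec.map (CommRingCat.ofHom (Away.map (φT 𝒮L u hY hV) s))) := by
  rw [← opensRange_iV (p := p) (chart := chart) hY hn hs]
  exact restrict_iff_of_isPullback Q
    (isPullback_chart L 𝒮L j hj u hP hPL hL hr hY hn hs hV hVX)

include hj hPL hL hVX hn hs in
/-- condition (iii) is surjectivity of the map of degree-zero localizations -/
theorem awayMap_surjective_iff [IsIso pL] :
    Function.Surjective (Away.map (φT 𝒮L u hY hV) s) ↔
      ∀ t : X.presheaf.obj (op V), ∃ (m : ℕ) (_ : 0 < m) (s' : 𝒮.presheaf.obj (op ⊤))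
        (_ : s' ∈ 𝒮.deg ⊤ hY (m * n)),
        (𝒮L.str.app (op V)).hom t * (φT 𝒮L u hY hV s) ^ m = φT 𝒮L u hY hV s' := by
  have hθ := theta_bijective L 𝒮L j hj u hPL hL hY hn hs hV hVX
  have hmem : φT 𝒮L u hY hV s ∈ 𝒮L.deg V hV n := (φT 𝒮L u hY hV).map_mem hs
  constructor
  · intro hsurj t
    obtain ⟨σ, hσ⟩ := hsurj ((fromZeroRingHom (𝒮L.deg V hV)
      (Submonoid.powers (φT 𝒮L u hY hV s))) ((𝒮L.strZero V hV).hom t))
    obtain ⟨m, a, ha, rfl⟩ := Away.mk_surjective (𝒮.deg ⊤ hY) hs σ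
    rw [Away.map_mk] at hσ
    have hv := congr_arg HomogeneousLocalization.val hσ
    rw [Away.val_mk] at hv
    change _ = Localization.mk ((𝒮L.str.app (op V)).hom t) 1 at hv
    rw [Localization.mk_eq_mk_iff, Localization.r_iff_exists] at hv
    obtain ⟨⟨_, k, rfl⟩, hk⟩ := hv
    simp only [OneMemClass.coe_one, one_mul] at hk
    refine ⟨m + k + 1, Nat.succ_pos _, s ^ (k + 1) * a, ?_, ?_⟩
    · have h1 : s ^ (k + 1) ∈ 𝒮.deg ⊤ hY ((k + 1) • n) := SetLike.pow_mem_graded _ hs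
      have h2 := SetLike.mul_mem_graded h1 ha
      have e : (k + 1) • n + m • n = (m + k + 1) * n := by
        simp only [smul_eq_mul]; ring
      rw [e] at h2
      exact h2
    · rw [map_mul, map_pow]
      have e : (φT 𝒮L u hY hV s) ^ (k + 1) * φT 𝒮L u hY hV a =
          φT 𝒮L u hY hV s * ((φT 𝒮L u hY hV s) ^ k * φT 𝒮L u hY hV a) := by ring
      rw [e, hk]
      ring
  · intro H α
    obtain ⟨t, ht⟩ := hθ.2 α
    obtain ⟨m, hm, s', hs', hms⟩ := H t
    have hs'' : s' ∈ 𝒮.deg ⊤ hY (m • n) := by rwa [smul_eq_mul]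
    refine ⟨Away.mk (𝒮.deg ⊤ hY) hs m s' hs'', ?_⟩
    rw [Away.map_mk, ← ht]
    apply HomogeneousLocalization.val_injective
    rw [Away.val_mk]
    change _ = Localization.mk ((𝒮L.str.app (op V)).hom t) 1
    rw [Localization.mk_eq_mk_iff, Localization.r_iff_exists]
    refine ⟨1, ?_⟩
    simp only [OneMemClass.coe_one, one_mul]
    rw [← hms, mul_comm]

end Chart

end LC

end Groth.Agent.Helper13RL
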