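import Mathlib
import Groth.Agent.Lib.Helper13ProjPMap
import Groth.Agent.Lib.Helper13ProjQMap

set_option autoImplicit false

namespace Groth.Agent.Helper13RelProj

open CategoryTheory CategoryTheory.Limits AlgebraicGeometry Opposite TopologicalSpace
open HomogeneousLocalization
open scoped HomogeneousIdeal

universe u

section Comp

variable {T A B ρ σ τ : Type u} [CommRing T] [SetLike ρ T] [AddSubgroupClass ρ T]
  [CommRing A] [SetLike σ A] [AddSubgroupClass σ A]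
  [CommRing B] [SetLike τ B] [AddSubgroupClass τ B]
  {𝒯 : ℕ → ρ} {𝒜 : ℕ → σ} {ℬ : ℕ → τ} [GradedRing 𝒯] [GradedRing 𝒜] [GradedRing ℬ]
  {ψ : 𝒯 →+*ᵍ 𝒜} {φ : 𝒜 →+*ᵍ ℬ} {φ' : 𝒯 →+*ᵍ ℬ}
  {X X' Z : Scheme.{u}} {j : X ⟶ Proj ℬ} [IsOpenImmersion j]
  {j' : X' ⟶ Proj ℬ} [IsOpenImmersion j'] {jψ : Z ⟶ Proj 𝒜} [IsOpenImmersion jψ]
  {p : X ⟶ Proj 𝒜} {p' : X' ⟶ Proj 𝒯} {pψ : Z ⟶ Proj 𝒯}

theorem IsPMap.comp_of_eq (hp : IsPMap φ j p) {d : ℕ} {g : A} (hg : g ∈ 𝒜 d) (hd : 0 < d)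
    {b : B} (hb : φ g = b) (hbmem : b ∈ ℬ d) (c : Spec (.of (Away ℬ b)) ⟶ X)
    (hc : c ≫ j = Proj.awayι ℬ b hbmem hd) :
    c ≫ p = Spec.map (CommRingCat.ofHom (mapTo φ hb)) ≫ Proj.awayι 𝒜 g hg hd := by
  subst hb
  exact hp d g hd hg c hc

theorem awayMap_eq_mapTo_comp (hcomp : ∀ a, φ' a = φ (ψ a)) {d : ℕ} {f : T} (hf : f ∈ 𝒯 d) :
    Away.map φ' f = (mapTo φ (hcomp f).symm).comp (Away.map ψ f) := by
  ext a
  obtain ⟨n, a, ha, rfl⟩ := a.mk_surjective _ hf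
  simp only [RingHom.comp_apply]
  rw [Away.map_mk, Away.map_mk, Away.val_mk,
    val_mapTo_mk φ (hcomp f).symm (Graded.map_mem ψ hf) n (ψ a) (Graded.map_mem ψ ha)]
  congr 1
  exact hcomp a

/-- **composition of partial morphisms of homogeneous spectra**: `G(φ∘ψ) = Proj(φ)⁻¹(G(ψ))` and
`Proj(φ∘ψ) = Proj(ψ) ∘ Proj(φ)` there. -/
theorem exists_pmap_comp (hcomp : ∀ a, φ' a = φ (ψ a)) (hj : IsDomOf φ j) (hj' : IsDomOf φ' j')
    (hjψ : IsDomOf ψ jψ) (hp : IsPMap φ j p) (hp' : IsPMap φ' j' p') (hpψ : IsPMap ψ jψ pψ) :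
    ∃ (k : X' ⟶ X) (m : X' ⟶ Z), k ≫ j = j' ∧ m ≫ jψ = k ≫ p ∧ m ≫ pψ = p' ∧
      ∀ x : X, x ∈ Set.range k.base ↔ p.base x ∈ Set.range jψ.base := by
  -- the inclusion `X' ⊆ X`
  have hr1 : Set.range j'.base ⊆ Set.range j.base := by
    rintro _ ⟨x', rfl⟩
    obtain ⟨d, f, hd, hf, hx⟩ := (hj' (j'.base x')).mp ⟨x', rfl⟩
    rw [hcomp] at hx
    exact (hj _).mpr ⟨d, ψ f, hd, Graded.map_mem ψ hf, hx⟩
  let k : X' ⟶ X := IsOpenImmersion.lift j j' hr1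
  have hk : k ≫ j = j' := IsOpenImmersion.lift_fac _ _ _
  -- preimages of standard opens
  have hpre : ∀ {d : ℕ} {f : T} (hf : f ∈ 𝒯 d) (hd : 0 < d) (x : X),
      p.base x ∈ Proj.basicOpen 𝒜 (ψ f) ↔ j.base x ∈ Proj.basicOpen ℬ (φ' f) := by
    intro d f hf hd x
    have := hp.preimage_basicOpen hj (Graded.map_mem ψ hf) hd
    rw [hcomp]
    exact (SetLike.ext_iff.mp this x)
  have hmem : ∀ x : X, p.base x ∈ Set.range jψ.base ↔ j.base x ∈ Set.range j'.base := by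
    intro x
    rw [hjψ, hj']
    constructor
    · rintro ⟨d, f, hd, hf, hx⟩
      exact ⟨d, f, hd, hf, (hpre hf hd x).mp hx⟩
    · rintro ⟨d, f, hd, hf, hx⟩
      exact ⟨d, f, hd, hf, (hpre hf hd x).mpr hx⟩
  have hr2 : Set.range (k ≫ p).base ⊆ Set.range jψ.base := by
    rintro _ ⟨x', rfl⟩
    rw [Scheme.Hom.comp_apply, hmem, ← Scheme.Hom.comp_apply, hk]
    exact ⟨x', rfl⟩
  let m : X' ⟶ Z := IsOpenImmersion.lift jψ (k ≫ p) hr2
  have hm : m ≫ jψ = k ≫ p := IsOpenImmersion.lift_fac _ _ _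
  refine ⟨k, m, hk, hm, ?_, ?_⟩
  · refine hom_ext_of_openImmersions _ _ fun x' => ?_
    obtain ⟨d, f, hd, hf, y, rfl⟩ := exists_chartX_eq hj' x'
    refine ⟨_, chartX hj' hf hd, inferInstance, ⟨y, rfl⟩, ?_⟩
    have h3 : (chartX hj' hf hd ≫ k) ≫ p =
        Spec.map (CommRingCat.ofHom (mapTo φ (hcomp f).symm)) ≫
          Proj.awayι 𝒜 (ψ f) (Graded.map_mem ψ hf) hd := by
      refine hp.comp_of_eq (Graded.map_mem ψ hf) hd (hcomp f).symm (Graded.map_mem φ' hf) _ ?_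
      rw [Category.assoc, hk, chartX_fac]
    have h2 : chartX hj' hf hd ≫ m =
        Spec.map (CommRingCat.ofHom (mapTo φ (hcomp f).symm)) ≫ chartX hjψ hf hd := by
      rw [← cancel_mono jψ, Category.assoc, hm, ← Category.assoc, h3, Category.assoc,
        chartX_fac]
    rw [← Category.assoc, h2, Category.assoc, hpψ.chartX_comp hjψ hf hd,
      hp'.chartX_comp hj' hf hd, awayMap_eq_mapTo_comp hcomp hf, CommRingCat.ofHom_comp,
      Spec.map_comp, Category.assoc]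
  · intro x
    rw [hmem]
    constructor
    · rintro ⟨x', rfl⟩
      rw [← Scheme.Hom.comp_apply, hk]
      exact ⟨x', rfl⟩
    · rintro ⟨x', hx'⟩
      refine ⟨x', ?_⟩
      apply j.isOpenEmbedding.injective
      rw [← Scheme.Hom.comp_apply, hk, hx']

end Comp

end Groth.Agent.Helper13RelProj
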