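import Mathlib
import Groth.Agent.Lib.Helper13RLa
import Groth.Agent.Lib.Helper13RLh
import Groth.Agent.Lib.Helper13ProjQMap2

set_option autoImplicit false

namespace Groth.Agent.Helper13RL

open CategoryTheory CategoryTheory.Limits AlgebraicGeometry Opposite TopologicalSpace
open HomogeneousLocalization
open scoped HomogeneousIdeal
open Groth.Agent.Helper13RelProj

universe u

section RelComp

variable {Y X : Scheme.{u}} {q : X ⟶ Y} {𝒮 𝒯 : RelProj.QCGrAlg Y} {𝒮L : RelProj.QCGrAlg X}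
  (u : RelProj.QGrHom q 𝒮 𝒮L) (v : 𝒯.toQCAlg ⟶ 𝒮.toQCAlg) (hv : RelProj.IsGradedHom v)
  (u' : RelProj.QGrHom q 𝒯 𝒮L)

/-- the diagonal pair `(U, U)` for the identity -/
abbrev diagPair (U : Y.Opens) (hU : IsAffineOpen U) : APair (𝟙 Y) :=
  ⟨U, hU, U, hU, le_rfl⟩

include u v hv u' in
theorem φV_comp (hu' : ∀ U : Y.Opens, u'.app U = v.hom.app (op U) ≫ u.app U) (V : APair q)
    (a : 𝒯.presheaf.obj (op V.U)) :
    φV u' V a = φV u V (φV (RelProj.QGrHom.ofHom v hv) (diagPair V.U V.hU) a) := by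
  have h1 : φV (RelProj.QGrHom.ofHom v hv) (diagPair V.U V.hU) a = (v.hom.app (op V.U)).hom a :=
    ψAt_apply v hv V.U V.hU a
  rw [h1]
  change (𝒮L.presheaf.map (homOfLE V.hle).op).hom ((u'.app V.U).hom a) =
    (𝒮L.presheaf.map (homOfLE V.hle).op).hom ((u.app V.U).hom ((v.hom.app (op V.U)).hom a))
  rw [hu']
  rfl

variable {P P' PL : Scheme.{u}} {p : P ⟶ Y}
  {chart : ∀ (U : Y.Opens) (hU : IsAffineOpen U),
    ((p ⁻¹ᵁ U : P.Opens) : Scheme.{u}) ≅ Proj (𝒮.deg U hU)}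
  {p' : P' ⟶ Y}
  {chart' : ∀ (U : Y.Opens) (hU : IsAffineOpen U),
    ((p' ⁻¹ᵁ U : P'.Opens) : Scheme.{u}) ≅ Proj (𝒯.deg U hU)}
  {pL : PL ⟶ X}
  {chartL : ∀ (U : X.Opens) (hU : IsAffineOpen U),
    ((pL ⁻¹ᵁ U : PL.Opens) : Scheme.{u}) ≅ Proj (𝒮L.deg U hU)}

/-- **`G(u ∘ v) = r⁻¹(G(v))`** -/
theorem mem_domQ_comp_iff (hu' : ∀ U : Y.Opens, u'.app U = v.hom.app (op U) ≫ u.app U)
    (hP : RelProj.IsRelProj 𝒮 p chart) (hP' : RelProj.IsRelProj 𝒯 p' chart')
    (hPL : RelProj.IsRelProj 𝒮L pL chartL)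
    {r : ((RelProj.domQ u pL chartL : PL.Opens) : Scheme.{u}) ⟶ P}
    (hr : RelProj.IsProjQMapOn u p chart pL chartL (RelProj.domQ u pL chartL) r)
    (y : ((RelProj.domQ u pL chartL : PL.Opens) : Scheme.{u})) :
    (RelProj.domQ u pL chartL).ι.base y ∈ RelProj.domQ u' pL chartL ↔
      r.base y ∈ RelProj.domQ (RelProj.QGrHom.ofHom v hv) p chart := by
  obtain ⟨V, z, rfl⟩ := exists_piece u chartL y
  obtain ⟨k, mV, hk, hm, -, hrange⟩ := exists_pmap_comp (φV_comp u v hv u' hu' V)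
    (isDomOf_domOpen (φV u V)) (isDomOf_domOpen (φV u' V))
    (isDomOf_domOpen (φV (RelProj.QGrHom.ofHom v hv) (diagPair V.U V.hU)))
    (isPMap_piecePMap u V) (isPMap_piecePMap u' V)
    (isPMap_piecePMap (RelProj.QGrHom.ofHom v hv) (diagPair V.U V.hU))
  have e1 : (RelProj.domQ u pL chartL).ι.base ((pieceEmb u chartL V).base z) =
      (RelProj.emb pL chartL V.U' V.hU').base z.1 := by
    rw [← Scheme.Hom.comp_apply, pieceEmb_ι]
    rfl
  have e2 : r.base ((pieceEmb u chartL V).base z) =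
      (RelProj.emb p chart V.U V.hU).base ((piecePMap u V).base z) := by
    rw [← Scheme.Hom.comp_apply, pieceEmb_comp u hP hPL hr V]
    rfl
  rw [e1, e2]
  constructor
  · intro h
    let y' : ((RelProj.domQ u' pL chartL : PL.Opens) : Scheme.{u}) := ⟨_, h⟩
    have hy' : pL.base ((RelProj.domQ u' pL chartL).ι.base y') ∈ V.U' :=
      emb_mem_preimage chartL V.U' V.hU' z.1
    obtain ⟨z', hz'⟩ := mem_range_pieceEmb_of_mem u' hP' hPL V y' hy'
    have e3 : (RelProj.emb pL chartL V.U' V.hU').base z'.1 =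
        (RelProj.emb pL chartL V.U' V.hU').base z.1 := by
      have := congr_arg (RelProj.domQ u' pL chartL).ι.base hz'
      rw [← Scheme.Hom.comp_apply, pieceEmb_ι] at this
      exact this
    have e4 : z'.1 = z.1 := (RelProj.emb pL chartL V.U' V.hU').isOpenEmbedding.injective e3
    have e5 : k.base z' = z := by
      apply (RelCone.domOpen (φV u V)).ι.isOpenEmbedding.injective
      rw [← Scheme.Hom.comp_apply, hk]
      exact e4
    have h6 := (hrange z).mp ⟨z', e5⟩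
    rw [Scheme.Opens.range_ι] at h6
    exact Opens.mem_iSup.mpr ⟨⟨(⟨V.U, V.hU⟩, ⟨V.U, V.hU⟩), le_rfl⟩, _, h6, rfl⟩
  · intro h
    let g : ((RelProj.domQ (RelProj.QGrHom.ofHom v hv) p chart : P.Opens) : Scheme.{u}) := ⟨_, h⟩
    have hg : p.base ((RelProj.domQ (RelProj.QGrHom.ofHom v hv) p chart).ι.base g) ∈
        (diagPair V.U V.hU).U' := emb_mem_preimage chart V.U V.hU _
    obtain ⟨s, hs⟩ := mem_range_pieceEmb_of_mem (RelProj.QGrHom.ofHom v hv) hP' hP
      (diagPair V.U V.hU) g hg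
    have e3 : (RelProj.emb p chart V.U V.hU).base s.1 =
        (RelProj.emb p chart V.U V.hU).base ((piecePMap u V).base z) := by
      have := congr_arg (RelProj.domQ (RelProj.QGrHom.ofHom v hv) p chart).ι.base hs
      rw [← Scheme.Hom.comp_apply, pieceEmb_ι] at this
      exact this
    have e4 : s.1 = (piecePMap u V).base z :=
      (RelProj.emb p chart V.U V.hU).isOpenEmbedding.injective e3
    obtain ⟨z', rfl⟩ := (hrange z).mpr (by
      rw [Scheme.Opens.range_ι, ← e4]; exact s.2)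
    have e5 : (k.base z').1 = z'.1 := by
      change (RelCone.domOpen (φV u V)).ι.base (k.base z') = _
      rw [← Scheme.Hom.comp_apply, hk]
      rfl
    rw [e5]
    exact Opens.mem_iSup.mpr ⟨⟨(⟨V.U, V.hU⟩, ⟨V.U', V.hU'⟩), V.hle⟩, _, z'.2, rfl⟩

/-- **`Proj(u ∘ v) = Proj(v) ∘ Proj(u)` on `G(u ∘ v)`** -/
theorem exists_comp_lift (hu' : ∀ U : Y.Opens, u'.app U = v.hom.app (op U) ≫ u.app U)
    (hP : RelProj.IsRelProj 𝒮 p chart) (hP' : RelProj.IsRelProj 𝒯 p' chart')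
    (hPL : RelProj.IsRelProj 𝒮L pL chartL)
    {r : ((RelProj.domQ u pL chartL : PL.Opens) : Scheme.{u}) ⟶ P}
    (hr : RelProj.IsProjQMapOn u p chart pL chartL (RelProj.domQ u pL chartL) r)
    {r' : ((RelProj.domQ u' pL chartL : PL.Opens) : Scheme.{u}) ⟶ P'}
    (hr' : RelProj.IsProjQMapOn u' p' chart' pL chartL (RelProj.domQ u' pL chartL) r')
    {Φ : ((RelProj.domQ (RelProj.QGrHom.ofHom v hv) p chart : P.Opens) : Scheme.{u}) ⟶ P'}
    (hΦ : RelProj.IsProjQMapOn (RelProj.QGrHom.ofHom v hv) p' chart' p chart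
      (RelProj.domQ (RelProj.QGrHom.ofHom v hv) p chart) Φ)
    (hle : RelProj.domQ u' pL chartL ≤ RelProj.domQ u pL chartL) :
    ∃ m : ((RelProj.domQ u' pL chartL : PL.Opens) : Scheme.{u}) ⟶
        ((RelProj.domQ (RelProj.QGrHom.ofHom v hv) p chart : P.Opens) : Scheme.{u}),
      m ≫ (RelProj.domQ (RelProj.QGrHom.ofHom v hv) p chart).ι = PL.homOfLE hle ≫ r ∧
        m ≫ Φ = r' := by
  have hrange : Set.range (PL.homOfLE hle ≫ r).base ⊆
      Set.range (RelProj.domQ (RelProj.QGrHom.ofHom v hv) p chart).ι.base := by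
    rintro _ ⟨y', rfl⟩
    rw [Scheme.Opens.range_ι, Scheme.Hom.comp_apply]
    refine (mem_domQ_comp_iff u v hv u' hu' hP hP' hPL hr _).mp ?_
    rw [← Scheme.Hom.comp_apply, Scheme.homOfLE_ι]
    exact y'.2
  let m := IsOpenImmersion.lift (RelProj.domQ (RelProj.QGrHom.ofHom v hv) p chart).ι
    (PL.homOfLE hle ≫ r) hrange
  have hm : m ≫ (RelProj.domQ (RelProj.QGrHom.ofHom v hv) p chart).ι = PL.homOfLE hle ≫ r :=
    IsOpenImmersion.lift_fac _ _ _
  refine ⟨m, hm, ?_⟩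
  refine hom_ext_of_openImmersions _ _ fun y' => ?_
  obtain ⟨V, hy'⟩ := exists_piece u' chartL y'
  refine ⟨_, pieceEmb u' chartL V, inferInstance, hy', ?_⟩
  obtain ⟨k, mV, hk, hmV, hmp, -⟩ := exists_pmap_comp (φV_comp u v hv u' hu' V)
    (isDomOf_domOpen (φV u V)) (isDomOf_domOpen (φV u' V))
    (isDomOf_domOpen (φV (RelProj.QGrHom.ofHom v hv) (diagPair V.U V.hU)))
    (isPMap_piecePMap u V) (isPMap_piecePMap u' V)
    (isPMap_piecePMap (RelProj.QGrHom.ofHom v hv) (diagPair V.U V.hU))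
  have h1 : pieceEmb u' chartL V ≫ PL.homOfLE hle = k ≫ pieceEmb u chartL V := by
    rw [← cancel_mono (RelProj.domQ u pL chartL).ι, Category.assoc, Scheme.homOfLE_ι, pieceEmb_ι,
      Category.assoc, pieceEmb_ι, ← Category.assoc, hk]
  have h2 : pieceEmb u' chartL V ≫ m =
      mV ≫ pieceEmb (RelProj.QGrHom.ofHom v hv) chart (diagPair V.U V.hU) := by
    rw [← cancel_mono (RelProj.domQ (RelProj.QGrHom.ofHom v hv) p chart).ι, Category.assoc, hm,
      ← Category.assoc, h1, Category.assoc, pieceEmb_comp u hP hPL hr V, Category.assoc,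
      pieceEmb_ι, ← Category.assoc, hmV, Category.assoc]
    rfl
  rw [← Category.assoc, h2, Category.assoc,
    pieceEmb_comp (RelProj.QGrHom.ofHom v hv) hP' hP hΦ (diagPair V.U V.hU),
    pieceEmb_comp u' hP' hPL hr' V]
  unfold pieceMap
  rw [← Category.assoc, hmp]

end RelComp

end Groth.Agent.Helper13RL
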