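import Mathlib
import Groth.Agent.Lib.Helper13RLi

set_option autoImplicit false

namespace Groth.Agent.Helper13RL

open CategoryTheory CategoryTheory.Limits AlgebraicGeometry Opposite TopologicalSpace
open HomogeneousLocalization
open scoped HomogeneousIdeal
open Groth.Agent.Helper13RelProj

universe u

theorem isIso_homOfLE {X : Scheme.{u}} {U V : X.Opens} (h : U = V) : IsIso (X.homOfLE h.le) := by
  subst h
  rw [Scheme.homOfLE_rfl]
  infer_instance

theorem isIso_ι_of_eq_top {X : Scheme.{u}} {U : X.Opens} (h : U = ⊤) : IsIso U.ι := by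
  subst h
  exact (inferInstance : IsIso X.topIso.hom)

section TNsurj

variable {Y : Scheme.{u}} {𝒮 𝒯 : RelProj.QCGrAlg Y}
  (v : 𝒯.toQCAlg ⟶ 𝒮.toQCAlg) (hv : RelProj.IsGradedHom v)
  {P P' : Scheme.{u}} {p : P ⟶ Y}
  {chart : ∀ (U : Y.Opens) (hU : IsAffineOpen U),
    ((p ⁻¹ᵁ U : P.Opens) : Scheme.{u}) ≅ Proj (𝒮.deg U hU)}
  {p' : P' ⟶ Y}
  {chart' : ∀ (U : Y.Opens) (hU : IsAffineOpen U),
    ((p' ⁻¹ᵁ U : P'.Opens) : Scheme.{u}) ≅ Proj (𝒯.deg U hU)}

/-- the partial morphism `Proj(v)` on `G(v)` exists -/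
theorem exists_Φ (hP : RelProj.IsRelProj 𝒮 p chart) (hP' : RelProj.IsRelProj 𝒯 p' chart') :
    ∃ Φ : ((RelProj.domQ (RelProj.QGrHom.ofHom v hv) p chart : P.Opens) : Scheme.{u}) ⟶ P',
      RelProj.IsProjQMapOn (RelProj.QGrHom.ofHom v hv) p' chart' p chart
        (RelProj.domQ (RelProj.QGrHom.ofHom v hv) p chart) Φ := by
  obtain ⟨Φ, hΦp⟩ := exists_qmapOn (RelProj.QGrHom.ofHom v hv)
    (p := p') (chart := chart') (p' := p) (chart' := chart) hP' hP
  exact ⟨Φ, isProjQMapOn_of_pieces (RelProj.QGrHom.ofHom v hv) Φ hΦp⟩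

/-- a target-local property of `Proj(v)` on `G(v)` can be checked on the maps `𝒯(U)_(s) → 𝒮(U)_(v s)` -/
theorem Φ_of_forall_away (hP : RelProj.IsRelProj 𝒮 p chart) (hP' : RelProj.IsRelProj 𝒯 p' chart')
    {Φ : ((RelProj.domQ (RelProj.QGrHom.ofHom v hv) p chart : P.Opens) : Scheme.{u}) ⟶ P'}
    (hΦ : RelProj.IsProjQMapOn (RelProj.QGrHom.ofHom v hv) p' chart' p chart
        (RelProj.domQ (RelProj.QGrHom.ofHom v hv) p chart) Φ)
    (Q : MorphismProperty Scheme.{u}) [IsZariskiLocalAtTarget Q]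
    (H : ∀ (U : Y.Opens) (hU : IsAffineOpen U) (i : ℕ) (_ : 0 < i) (s : 𝒯.presheaf.obj (op U))
      (_ : s ∈ 𝒯.deg U hU i), Q (Spec.map (CommRingCat.ofHom (Away.map (ψAt v hv U hU) s)))) :
    Q Φ :=
  partial_of_forall_away (fun U hU => domQ_inf_preimage v hv hP U hU) hP' hP
    (isQMapOnDiag_of_isProjQMapOn v hv chart' chart hΦ) Q H

theorem domQ_ofHom_eq_top_of_TN
    (hTN : ∃ n : ℕ, ∀ k, n ≤ k → ∀ (U : Y.Opens) (hU : IsAffineOpen U), ∀ y ∈ 𝒮.deg U hU k,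
      ∃ x ∈ 𝒯.deg U hU k, (v.hom.app (op U)).hom x = y) :
    RelProj.domQ (RelProj.QGrHom.ofHom v hv) p chart = ⊤ := by
  obtain ⟨n, hn⟩ := hTN
  exact domQ_eq_top_of_isDomOf fun U hU => isDomOf_of_TN (φ := v) (hφ := hv) n hn U hU

theorem isClosedImmersion_Φ_of_TN (hP : RelProj.IsRelProj 𝒮 p chart)
    (hP' : RelProj.IsRelProj 𝒯 p' chart')
    {Φ : ((RelProj.domQ (RelProj.QGrHom.ofHom v hv) p chart : P.Opens) : Scheme.{u}) ⟶ P'}
    (hΦ : RelProj.IsProjQMapOn (RelProj.QGrHom.ofHom v hv) p' chart' p chart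
        (RelProj.domQ (RelProj.QGrHom.ofHom v hv) p chart) Φ)
    (hTN : ∃ n : ℕ, ∀ k, n ≤ k → ∀ (U : Y.Opens) (hU : IsAffineOpen U), ∀ y ∈ 𝒮.deg U hU k,
      ∃ x ∈ 𝒯.deg U hU k, (v.hom.app (op U)).hom x = y) :
    IsClosedImmersion Φ := by
  obtain ⟨n, hn⟩ := hTN
  refine Φ_of_forall_away v hv hP hP' hΦ @IsClosedImmersion fun U hU i hi s hs => ?_
  refine IsClosedImmersion.spec_of_surjective _
    (awayMap_surjective_TN _ n (fun k hk b hb => ?_) hi s hs)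
  obtain ⟨a, ha, hab⟩ := hn k hk U hU b hb
  exact ⟨a, ha, by rw [ψAt_apply]; exact hab⟩

theorem isDominant_Φ_of_TN_inj (hP : RelProj.IsRelProj 𝒮 p chart)
    (hP' : RelProj.IsRelProj 𝒯 p' chart')
    {Φ : ((RelProj.domQ (RelProj.QGrHom.ofHom v hv) p chart : P.Opens) : Scheme.{u}) ⟶ P'}
    (hΦ : RelProj.IsProjQMapOn (RelProj.QGrHom.ofHom v hv) p' chart' p chart
        (RelProj.domQ (RelProj.QGrHom.ofHom v hv) p chart) Φ)
    (hTN : ∃ n : ℕ, ∀ k, n ≤ k → ∀ (U : Y.Opens) (hU : IsAffineOpen U), ∀ x ∈ 𝒯.deg U hU k,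
      (v.hom.app (op U)).hom x = 0 → x = 0) :
    IsDominant Φ := by
  obtain ⟨n, hn⟩ := hTN
  refine Φ_of_forall_away v hv hP hP' hΦ @IsDominant fun U hU i hi s hs => ?_
  have hinj : Function.Injective (Away.map (ψAt v hv U hU) s) :=
    awayMap_injective_TN _ n (fun k hk a ha h0 => hn k hk U hU a ha (by
      rw [← ψAt_apply v hv U hU a]; exact h0)) hi s hs
  refine ⟨?_⟩
  change DenseRange (PrimeSpectrum.comap (Away.map (ψAt v hv U hU) s))
  rw [PrimeSpectrum.denseRange_comap_iff_ker_le_nilRadical, (RingHom.injective_iff_ker_eq_bot _).mp hinj]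
  exact bot_le

end TNsurj

section Topo

variable {X Y Z : Scheme.{u}}

theorem isDominant_of_comp_closedImmersion (m : X ⟶ Y) (Φ : Y ⟶ Z) [IsClosedImmersion Φ]
    (h : IsDominant (m ≫ Φ)) : IsDominant m := by
  refine ⟨?_⟩
  rw [DenseRange, dense_iff_closure_eq, Set.eq_univ_iff_forall]
  intro g
  have hcl : IsClosed (Φ.base '' closure (Set.range m.base)) :=
    Φ.isClosedEmbedding.isClosedMap _ isClosed_closure
  have hsub : Set.range (m ≫ Φ).base ⊆ Φ.base '' closure (Set.range m.base) := by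
    rintro _ ⟨x, rfl⟩
    exact ⟨m.base x, subset_closure ⟨x, rfl⟩, (Scheme.Hom.comp_apply _ _ _).symm⟩
  have huniv : Φ.base '' closure (Set.range m.base) = Set.univ := by
    have := h.1.closure_eq
    exact Set.eq_univ_of_univ_subset (this ▸ closure_minimal hsub hcl)
  obtain ⟨c, hc, hcg⟩ := (Set.eq_univ_iff_forall.mp huniv) (Φ.base g)
  rwa [← Φ.isClosedEmbedding.injective hcg]

theorem isDominant_lift_of_isDominant {X' : Scheme.{u}} (r : X ⟶ Y) (W : Y.Opens) (k : X' ⟶ X)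
    (m : X' ⟶ (W : Scheme.{u})) (hm : m ≫ W.ι = k ≫ r)
    (hk : ∀ x : X, r.base x ∈ W → x ∈ Set.range k.base) [IsDominant r] : IsDominant m := by
  refine ⟨?_⟩
  rw [DenseRange, dense_iff_inter_open]
  intro O hO hne
  have hO' : IsOpen (W.ι.base '' O) := W.ι.isOpenEmbedding.isOpenMap _ hO
  obtain ⟨_, ⟨o, ho, rfl⟩, x, hx⟩ := Dense.inter_open_nonempty r.denseRange _ hO' (hne.image _)
  have hxW : r.base x ∈ W := by rw [hx]; exact o.2
  obtain ⟨x', rfl⟩ := hk x hxW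
  refine ⟨m.base x', ?_, ⟨x', rfl⟩⟩
  have : W.ι.base (m.base x') = W.ι.base o := by
    rw [← Scheme.Hom.comp_apply, hm, Scheme.Hom.comp_apply, hx]
  rw [W.ι.isOpenEmbedding.injective this]
  exact ho

end Topo

end Groth.Agent.Helper13RL
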