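import Mathlib
import Groth.Agent.Lib.Helper13RLj
import Groth.Agent.Lib.Helper13RLe

set_option autoImplicit false

namespace Groth.Agent.Helper13RL

open CategoryTheory CategoryTheory.Limits AlgebraicGeometry Opposite TopologicalSpace
open HomogeneousLocalization
open scoped HomogeneousIdeal
open Groth.Agent.Helper13RelProj

universe u

section Pure

variable {A B σ τ : Type*} [CommRing A] [SetLike σ A] [AddSubgroupClass σ A]
  [CommRing B] [SetLike τ B] [AddSubgroupClass τ B]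
  {𝒜 : ℕ → σ} {ℬ : ℕ → τ} [GradedRing 𝒜] [GradedRing ℬ]

/-- a homogeneous element in the image of a graded homomorphism has a homogeneous preimage -/
theorem exists_homogeneous_lift (ψ : 𝒜 →+*ᵍ ℬ) {d : ℕ} {f : B} (hf : f ∈ ℬ d) (y : A)
    (hy : ψ y = f) : ∃ y' ∈ 𝒜 d, ψ y' = f := by
  classical
  refine ⟨(DirectSum.decompose 𝒜 y d : A), SetLike.coe_mem _, ?_⟩
  rw [GradedRingHom.map_directSumDecompose, hy, DirectSum.decompose_of_mem_same ℬ hf]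

end Pure

section General

variable {Y X : Scheme.{u}} {q : X ⟶ Y} {𝒮 𝒯 : RelProj.QCGrAlg Y} {𝒮L : RelProj.QCGrAlg X}
  (u : RelProj.QGrHom q 𝒮 𝒮L) (v : 𝒯.toQCAlg ⟶ 𝒮.toQCAlg) (hv : RelProj.IsGradedHom v)
  (u' : RelProj.QGrHom q 𝒯 𝒮L)
  {P PL : Scheme.{u}} {p : P ⟶ Y}
  {chart : ∀ (U : Y.Opens) (hU : IsAffineOpen U),
    ((p ⁻¹ᵁ U : P.Opens) : Scheme.{u}) ≅ Proj (𝒮.deg U hU)}
  {pL : PL ⟶ X}
  {chartL : ∀ (U : X.Opens) (hU : IsAffineOpen U),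
    ((pL ⁻¹ᵁ U : PL.Opens) : Scheme.{u}) ≅ Proj (𝒮L.deg U hU)}

include v hv in
/-- `G(u ∘ v) ⊆ G(u)` (no hypotheses on the source) -/
theorem domQ_comp_le (hu' : ∀ U : Y.Opens, u'.app U = v.hom.app (op U) ≫ u.app U) :
    RelProj.domQ u' pL chartL ≤ RelProj.domQ u pL chartL := by
  intro x hx
  obtain ⟨⟨⟨⟨U, hU⟩, ⟨U', hU'⟩⟩, hle⟩, z, hz, hzx⟩ := Opens.mem_iSup.mp hx
  replace hU : IsAffineOpen U := hU
  replace hU' : IsAffineOpen U' := hU'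
  let V : APair q := ⟨U, hU, U', hU', hle⟩
  have hz' : z ∈ RelCone.domOpen (φV u' V) := hz
  obtain ⟨d, f, hd, hf, hzf⟩ := (mem_domOpen_iff _ z).mp hz'
  rw [φV_comp u v hv u' hu' V f] at hzf
  have hz2 : z ∈ RelCone.domOpen (φV u V) :=
    (mem_domOpen_iff _ z).mpr ⟨d, _, hd,
      Graded.map_mem (φV (RelProj.QGrHom.ofHom v hv) (diagPair V.U V.hU)) hf, hzf⟩
  exact Opens.mem_iSup.mpr ⟨⟨(⟨U, hU⟩, ⟨U', hU'⟩), hle⟩, z, hz2, hzx⟩

/-- **general dominance criterion for `Proj(u)`** -/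
theorem isDominant_iff_pairs (hP : RelProj.IsRelProj 𝒮 p chart)
    (hPL : RelProj.IsRelProj 𝒮L pL chartL)
    {r : ((RelProj.domQ u pL chartL : PL.Opens) : Scheme.{u}) ⟶ P}
    (hr : RelProj.IsProjQMapOn u p chart pL chartL (RelProj.domQ u pL chartL) r) :
    IsDominant r ↔
      ∀ (U : Y.Opens) (hU : IsAffineOpen U) (n : ℕ), 0 < n → ∀ s ∈ 𝒮.deg U hU n,
        (∀ (U' : X.Opens) (hU' : IsAffineOpen U') (hle : U' ≤ q ⁻¹ᵁ U),
          IsNilpotent (u.gradedAt U hU U' hU' hle s)) → IsNilpotent s := by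
  constructor
  · intro hdom U hU n hn s hs hloc
    apply isNilpotent_of_basicOpen_eq_bot (𝒮.deg U hU) hn hs
    by_contra hne
    obtain ⟨z, hz⟩ := (Opens.ne_bot_iff_nonempty _).mp hne
    obtain ⟨y', hy'⟩ := hdom.denseRange.exists_mem_open
      ((RelProj.emb p chart U hU) ''ᵁ Proj.basicOpen (𝒮.deg U hU) s).2 ⟨_, z, hz, rfl⟩
    have hx : pL.base ((RelProj.domQ u pL chartL).ι.base y') ∈ q ⁻¹ᵁ U := by
      change q.base (pL.base ((RelProj.domQ u pL chartL).ι.base y')) ∈ U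
      have e : q.base (pL.base ((RelProj.domQ u pL chartL).ι.base y')) = p.base (r.base y') := by
        have := qmapOn_comp u hP hPL hr
        rw [← Scheme.Hom.comp_apply, ← Scheme.Hom.comp_apply, ← Scheme.Hom.comp_apply, this]
      rw [e]
      obtain ⟨z', -, hz'⟩ := hy'
      rw [← hz']
      exact emb_mem_preimage chart U hU z'
    obtain ⟨_, ⟨U', hU', rfl⟩, hxU', hle⟩ :=
      X.isBasis_affineOpens.exists_subset_of_mem_open hx (q ⁻¹ᵁ U).2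
    replace hU' : IsAffineOpen U' := hU'
    let V : APair q := ⟨U, hU, U', hU', hle⟩
    have hmem : (RelProj.domQ u pL chartL).ι.base y' ∈ (RelProj.domQ u pL chartL).ι ''ᵁ
        (r ⁻¹ᵁ ((RelProj.emb p chart V.U V.hU) ''ᵁ Proj.basicOpen (𝒮.deg V.U V.hU) s)) ⊓
        pL ⁻¹ᵁ V.U' := ⟨⟨y', hy', rfl⟩, hxU'⟩
    rw [image_preimage_basicOpen u hP hPL hr V hn hs,
      basicOpen_eq_bot_of_isNilpotent _ (hloc U' hU' hle)] at hmem
    obtain ⟨w, hw, -⟩ := hmem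
    exact hw
  · intro H
    refine ⟨dense_iff_inter_open.mpr ?_⟩
    rintro W hW ⟨pt, hpt⟩
    obtain ⟨_, ⟨U, hU, rfl⟩, hptU, -⟩ := Y.isBasis_affineOpens.exists_subset_of_mem_open
      (Set.mem_univ (p.base pt)) isOpen_univ
    replace hU : IsAffineOpen U := hU
    obtain ⟨z, rfl⟩ := exists_chart_point (chartB := chart) U hU pt hptU
    have hzO : z ∈ (RelProj.emb p chart U hU) ⁻¹ᵁ (⟨W, hW⟩ : P.Opens) := hpt
    obtain ⟨n, f, hn, hf, hzf, hle⟩ := exists_homogeneous_basicOpen_le (𝒮.deg U hU) _ z hzO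
    have hfn : ¬ IsNilpotent f := by
      intro hnil
      rw [basicOpen_eq_bot_of_isNilpotent _ hnil] at hzf
      exact hzf
    have hex : ∃ (U' : X.Opens) (hU' : IsAffineOpen U') (hle : U' ≤ q ⁻¹ᵁ U),
        ¬ IsNilpotent (u.gradedAt U hU U' hU' hle f) := by
      by_contra hcon
      push Not at hcon
      exact hfn (H U hU n hn f hf hcon)
    obtain ⟨U', hU', hle', hnn⟩ := hex
    let V : APair q := ⟨U, hU, U', hU', hle'⟩
    have hne : Proj.basicOpen (𝒮L.deg U' hU') (φV u V f) ≠ ⊥ := fun h =>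
      hnn (isNilpotent_of_basicOpen_eq_bot (𝒮L.deg U' hU') hn (Graded.map_mem (φV u V) hf) h)
    obtain ⟨z₁, hz₁⟩ := (Opens.ne_bot_iff_nonempty _).mp hne
    have hy : (RelProj.emb pL chartL V.U' V.hU').base z₁ ∈
        (RelProj.emb pL chartL V.U' V.hU') ''ᵁ Proj.basicOpen (𝒮L.deg V.U' V.hU') (φV u V f) :=
      ⟨z₁, hz₁, rfl⟩
    rw [← image_preimage_basicOpen u hP hPL hr V hn hf] at hy
    obtain ⟨⟨y', ⟨z₂, hz₂, hzy⟩, -⟩, -⟩ := hy
    refine ⟨r.base y', ?_, ⟨y', rfl⟩⟩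
    rw [← hzy]
    exact hle hz₂

end General

section Colim

variable {Y X : Scheme.{u}} {q : X ⟶ Y} {𝒮 : RelProj.QCGrAlg Y} {𝒮L : RelProj.QCGrAlg X}
  (u : RelProj.QGrHom q 𝒮 𝒮L)
  {PL : Scheme.{u}} {pL : PL ⟶ X}
  {chartL : ∀ (U : X.Opens) (hU : IsAffineOpen U),
    ((pL ⁻¹ᵁ U : PL.Opens) : Scheme.{u}) ≅ Proj (𝒮L.deg U hU)}
  {Λ : Type u} [Preorder Λ]
  (𝒮i : Λ → RelProj.QCGrAlg Y) (φ : ∀ i, (𝒮i i).toQCAlg ⟶ 𝒮.toQCAlg)
  (hφ : ∀ i, RelProj.IsGradedHom (φ i))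
  (t : ∀ i j, i ≤ j → ((𝒮i i).toQCAlg ⟶ (𝒮i j).toQCAlg))
  (ht : ∀ i j (h : i ≤ j), RelProj.IsGradedHom (t i j h))
  (ui : ∀ i, RelProj.QGrHom q (𝒮i i) 𝒮L)

include u φ in
theorem ui_comp_t (hφt : ∀ i j (h : i ≤ j), t i j h ≫ φ j = φ i)
    (hui : ∀ i (U : Y.Opens), (ui i).app U = (φ i).hom.app (op U) ≫ u.app U)
    (i j : Λ) (h : i ≤ j) (U : Y.Opens) :
    (ui i).app U = (t i j h).hom.app (op U) ≫ (ui j).app U := by
  rw [hui i, hui j, ← hφt i j h, ← Category.assoc]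
  rfl

include u φ ht in
theorem domQ_ui_mono (hφt : ∀ i j (h : i ≤ j), t i j h ≫ φ j = φ i)
    (hui : ∀ i (U : Y.Opens), (ui i).app U = (φ i).hom.app (op U) ≫ u.app U)
    (i j : Λ) (h : i ≤ j) :
    RelProj.domQ (ui i) pL chartL ≤ RelProj.domQ (ui j) pL chartL :=
  domQ_comp_le (ui j) (t i j h) (ht i j h) (ui i) (ui_comp_t u 𝒮i φ t ui hφt hui i j h)

include hφ in
theorem exists_mem_domQ_of_colim
    (hsurj : ∀ (U : Y.Opens), IsAffineOpen U → ∀ x : 𝒮.presheaf.obj (op U),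
      ∃ (i : Λ) (y : (𝒮i i).presheaf.obj (op U)), ((φ i).hom.app (op U)).hom y = x)
    (hui : ∀ i (U : Y.Opens), (ui i).app U = (φ i).hom.app (op U) ≫ u.app U)
    (x : PL) (hx : x ∈ RelProj.domQ u pL chartL) : ∃ i, x ∈ RelProj.domQ (ui i) pL chartL := by
  obtain ⟨⟨⟨⟨U, hU⟩, ⟨U', hU'⟩⟩, hle⟩, z, hz, hzx⟩ := Opens.mem_iSup.mp hx
  replace hU : IsAffineOpen U := hU
  replace hU' : IsAffineOpen U' := hU'
  let V : APair q := ⟨U, hU, U', hU', hle⟩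
  have hz' : z ∈ RelCone.domOpen (φV u V) := hz
  obtain ⟨d, f, hd, hf, hzf⟩ := (mem_domOpen_iff _ z).mp hz'
  obtain ⟨i, y, hy⟩ := hsurj U hU f
  obtain ⟨y', hy'mem, hy'⟩ := exists_homogeneous_lift (ψAt (φ i) (hφ i) U hU) hf y
    ((ψAt_apply (φ i) (hφ i) U hU y).trans hy)
  refine ⟨i, Opens.mem_iSup.mpr ⟨⟨(⟨U, hU⟩, ⟨U', hU'⟩), hle⟩, z, ?_, hzx⟩⟩
  change z ∈ RelCone.domOpen (φV (ui i) V)
  refine (mem_domOpen_iff _ z).mpr ⟨d, y', hd, hy'mem, ?_⟩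
  rw [φV_comp u (φ i) (hφ i) (ui i) (hui i) V y']
  have : φV (RelProj.QGrHom.ofHom (φ i) (hφ i)) (diagPair V.U V.hU) y' = f := hy'
  rw [this]
  exact hzf

include u φ hφ ht in
/-- **`G(u) = PL` iff `G(uᵢ) = PL` for some `i`** when `PL` is quasi-compact -/
theorem exists_domQ_eq_top_of_colim [IsDirected Λ (· ≤ ·)] [Nonempty Λ] [CompactSpace PL]
    (hφt : ∀ i j (h : i ≤ j), t i j h ≫ φ j = φ i)
    (hsurj : ∀ (U : Y.Opens), IsAffineOpen U → ∀ x : 𝒮.presheaf.obj (op U),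
      ∃ (i : Λ) (y : (𝒮i i).presheaf.obj (op U)), ((φ i).hom.app (op U)).hom y = x)
    (hui : ∀ i (U : Y.Opens), (ui i).app U = (φ i).hom.app (op U) ≫ u.app U)
    (htop : RelProj.domQ u pL chartL = ⊤) : ∃ i, RelProj.domQ (ui i) pL chartL = ⊤ := by
  obtain ⟨i, hi⟩ := isCompact_univ.elim_directed_cover
    (fun i : Λ => ((RelProj.domQ (ui i) pL chartL : PL.Opens) : Set PL))
    (fun i => (RelProj.domQ (ui i) pL chartL).2)
    (fun x _ => by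
      obtain ⟨i, hi⟩ := exists_mem_domQ_of_colim u 𝒮i φ hφ ui hsurj hui x (by rw [htop]; trivial)
      exact Set.mem_iUnion.mpr ⟨i, hi⟩)
    (fun i j => by
      obtain ⟨k, hik, hjk⟩ := exists_ge_ge i j
      exact ⟨k, domQ_ui_mono u 𝒮i φ t ht ui hφt hui i k hik,
        domQ_ui_mono u 𝒮i φ t ht ui hφt hui j k hjk⟩)
  exact ⟨i, eq_top_iff.mpr fun x _ => hi (Set.mem_univ x)⟩

end Colim

end Groth.Agent.Helper13RL
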