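import Groth.Agent.Lib.Helper27Cone4

/-!
# The pointed projective cone is the complement of the vertex (helper27)
-/

set_option autoImplicit false
universe u

open CategoryTheory CategoryTheory.Limits AlgebraicGeometry TopologicalSpace Opposite
  HomogeneousLocalization
open scoped HomogeneousIdeal

namespace Groth.Agent.Lib.Helper27Cone

open RelSpec

section Poly

variable {Y : Scheme.{u}} {𝒮 𝒮h : RelProj.QCGrAlg Y} {ι : 𝒮.toQCAlg ⟶ 𝒮h.toQCAlg}
  {z : 𝒮h.presheaf.obj (op ⊤)} (h : RelCone.IsPolyOver 𝒮 𝒮h ι z) (U : Y.Opens)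
  (hU : IsAffineOpen U)

/-- the point of `Proj 𝒮h(U)` attached to a prime of `𝒮(U)` (through `D_+(z) = Spec 𝒮(U)`). -/
noncomputable def conePt (𝔭 : Spec (𝒮.presheaf.obj (op U))) : Proj (𝒮h.deg U hU) :=
  (Proj.awayι (𝒮h.deg U hU) (RelCone.restrictTop 𝒮h z U) (h.deg_z U hU) one_pos)
    ((Spec.map (CommRingCat.ofHom (h.awayZToBase U hU))) 𝔭)

theorem conePt_not_mem_domOpen (𝔭 : Spec (𝒮.presheaf.obj (op U)))
    (hle : ((𝒮.deg U hU)₊).toIdeal ≤ 𝔭.asIdeal) :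
    conePt h U hU 𝔭 ∉ RelCone.domOpen (RelProj.gradedHomAt ι h.graded U hU) := by
  rw [RelCone.mem_domOpen]
  rintro ⟨f, hf, hfP⟩
  apply hfP
  have hle2 : ((𝒮.deg U hU)₊).toIdeal ≤ Ideal.comap
      ((RelProj.gradedHomAt ι h.graded U hU : 𝒮.deg U hU →+*ᵍ 𝒮h.deg U hU) :
        𝒮.presheaf.obj (op U) →+* 𝒮h.presheaf.obj (op U))
      (conePt h U hU 𝔭).asHomogeneousIdeal.toIdeal := by
    rw [HomogeneousIdeal.toIdeal_irrelevant_le]
    intro d hd g hg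
    exact (ι_mem_awayι_iff h U hU 𝔭 hd g hg).mpr
      (hle (HomogeneousIdeal.mem_irrelevant_of_mem _ hd hg))
  exact hle2 hf

theorem exists_of_not_mem_domOpen (P : Proj (𝒮h.deg U hU))
    (hP : P ∉ RelCone.domOpen (RelProj.gradedHomAt ι h.graded U hU)) :
    ∃ 𝔭 : Spec (𝒮.presheaf.obj (op U)),
      ((𝒮.deg U hU)₊).toIdeal ≤ 𝔭.asIdeal ∧ conePt h U hU 𝔭 = P := by
  rw [RelCone.mem_domOpen] at hP
  push Not at hP
  have hz : RelCone.restrictTop 𝒮h z U ∉ P.asHomogeneousIdeal := by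
    intro hzP
    apply P.not_irrelevant_le
    rw [HomogeneousIdeal.irrelevant_le]
    intro n hn b hb
    have hmem := Helper27PolyGraded.mem_span_of_pos (RelProj.gradedHomAt ι h.graded U hU)
      (h.deg_z U hU) (bij' h U hU) hn b hb
    have hle : Ideal.span (((RelProj.gradedHomAt ι h.graded U hU) ''
        (((𝒮.deg U hU)₊).toIdeal : Set (𝒮.presheaf.obj (op U)))) ∪
        {RelCone.restrictTop 𝒮h z U}) ≤ P.asHomogeneousIdeal.toIdeal := by
      rw [Ideal.span_le]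
      rintro x (⟨f, hf, rfl⟩ | rfl)
      · exact hP f hf
      · exact hzP
    exact hle hmem
  have hPz : P ∈ Proj.basicOpen (𝒮h.deg U hU) (RelCone.restrictTop 𝒮h z U) :=
    (Proj.mem_basicOpen _ _ _).mpr hz
  rw [← Proj.opensRange_awayι _ _ (h.deg_z U hU) one_pos] at hPz
  obtain ⟨𝔮, rfl⟩ := hPz
  obtain ⟨𝔭, rfl⟩ := exists_comap_awayZToBase h U hU 𝔮
  refine ⟨𝔭, ?_, rfl⟩
  rw [HomogeneousIdeal.toIdeal_irrelevant_le]
  intro d hd g hg
  exact (ι_mem_awayι_iff h U hU 𝔭 hd g hg).mp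
    (hP g (HomogeneousIdeal.mem_irrelevant_of_mem _ hd hg))

end Poly

section Glob

variable {Y : Scheme.{u}}

theorem spec_hom_ext {A : QCAlg Y} {Z : Scheme.{u}} (a b : A.spec ⟶ Z)
    (hab : ∀ (U : Y.Opens) (hU : IsAffineOpen U), A.ι U hU ≫ a = A.ι U hU ≫ b) : a = b := by
  apply colimit.hom_ext
  intro U
  exact hab U.1 U.2

variable {𝒮 𝒮h : RelProj.QCGrAlg Y} {ι : 𝒮.toQCAlg ⟶ 𝒮h.toQCAlg}
  {z : 𝒮h.presheaf.obj (op ⊤)} (h : RelCone.IsPolyOver 𝒮 𝒮h ι z)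
  {PC : Scheme.{u}} {pC : PC ⟶ Y}
  {chartC : ∀ (U : Y.Opens) (hU : IsAffineOpen U),
    (((pC ⁻¹ᵁ U : PC.Opens) : Scheme.{u}) ≅ Proj (𝒮h.deg U hU))}

theorem emb_opensRange (U : Y.Opens) (hU : IsAffineOpen U) :
    (RelProj.emb pC chartC U hU).opensRange = pC ⁻¹ᵁ U := by
  unfold RelProj.emb
  exact (Scheme.Hom.opensRange_comp_of_isIso _ _).trans (pC ⁻¹ᵁ U).opensRange_ι

theorem emb_comp (hPC : RelProj.IsRelProj 𝒮h pC chartC) (U : Y.Opens) (hU : IsAffineOpen U) :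
    RelProj.emb pC chartC U hU ≫ pC =
      Proj.toSpecZero (𝒮h.deg U hU) ≫ Spec.map (𝒮h.strZero U hU) ≫ hU.fromSpec := by
  rw [RelProj.emb, Category.assoc, ← hPC.chart_over U hU, Iso.inv_hom_id_assoc]

include h in
theorem str_eq (U : Y.Opens) (r : Γ(Y, U)) :
    (𝒮h.str.app (op U)).hom r = (ι.hom.app (op U)).hom ((𝒮.str.app (op U)).hom r) := by
  have h0 := NatTrans.congr_app ι.comm (op U)
  rw [NatTrans.comp_app] at h0
  rw [← h0]
  rfl

theorem coneImm_over (hPC : RelProj.IsRelProj 𝒮h pC chartC) {i : 𝒮.toQCAlg.spec ⟶ PC}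
    (hi : RelCone.IsConeImm 𝒮 h pC chartC i) : i ≫ pC = 𝒮.toQCAlg.π := by
  apply spec_hom_ext
  intro U hU
  rw [← Category.assoc, hi U hU, 𝒮.toQCAlg.ι_π U hU]
  simp only [Category.assoc]
  rw [emb_comp hPC U hU, Proj.awayι_toSpecZero_assoc, ← Spec.map_comp_assoc,
    ← Spec.map_comp_assoc]
  congr 2
  ext r
  change h.awayZToBase U hU (HomogeneousLocalization.fromZeroRingHom (𝒮h.deg U hU) _
    ((𝒮h.strZero U hU).hom r)) = (𝒮.str.app (op U)).hom r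
  have hval : (HomogeneousLocalization.fromZeroRingHom (𝒮h.deg U hU)
      (Submonoid.powers (RelCone.restrictTop 𝒮h z U)) ((𝒮h.strZero U hU).hom r)).val =
      Localization.mk ((𝒮h.str.app (op U)).hom r)
        ⟨RelCone.restrictTop 𝒮h z U ^ 0, pow_mem (Submonoid.mem_powers _) 0⟩ := by
    change Localization.mk _ _ = _
    congr 1
    ext
    simp
  rw [h.awayZToBase_of_val U hU _ _ 0 hval, str_eq h U r]
  exact h.evalOne_ι U hU _

end Glob

end Groth.Agent.Lib.Helper27Cone
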