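import Mathlib
import Groth.Agent.Lib.Helper13RLm
import Groth.Agent.Lib.Helper13ProjGlue
import Groth.Agent.Lib.Helper13ProjExist
import Groth.Agent.Lib.Helper27Cone5

set_option autoImplicit false

namespace Groth.Agent.Helper13RL

open CategoryTheory CategoryTheory.Limits AlgebraicGeometry Opposite TopologicalSpace
open HomogeneousLocalization
open scoped HomogeneousIdeal
open Groth.Agent.Helper13RelProj

universe u

section CompDefs

variable {Y X : Scheme.{u}} {q : X ⟶ Y} {𝒮 𝒯 : RelProj.QCGrAlg Y} {𝒮' : RelProj.QCGrAlg X}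

/-- the composite of a graded `q`-morphism with a graded homomorphism on the target side -/
def compOfHom (u : RelProj.QGrHom q 𝒮 𝒮') (v : 𝒯.toQCAlg ⟶ 𝒮.toQCAlg)
    (hv : RelProj.IsGradedHom v) : RelProj.QGrHom q 𝒯 𝒮' where
  app U := v.hom.app (op U) ≫ u.app U
  naturality {U V} i := by
    rw [Category.assoc, u.naturality i, ← Category.assoc, ← Category.assoc]
    congr 1
    exact (v.hom.naturality (homOfLE i).op).symm
  str_app U := by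
    rw [← Category.assoc, ← u.str_app U]
    congr 1
    exact congr_arg (fun t => t.app (op U)) v.comm
  map_mem U hU U' hU' hle _ _ hx := u.map_mem U hU U' hU' hle (hv U hU _ _ hx)

theorem compOfHom_app (u : RelProj.QGrHom q 𝒮 𝒮') (v : 𝒯.toQCAlg ⟶ 𝒮.toQCAlg)
    (hv : RelProj.IsGradedHom v) (U : Y.Opens) :
    (compOfHom u v hv).app U = v.hom.app (op U) ≫ u.app U := rfl

end CompDefs

section Cone

variable {S : Scheme.{u}} {𝒮 𝒮h : RelProj.QCGrAlg S} {ι : 𝒮.toQCAlg ⟶ 𝒮h.toQCAlg}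
  {z : 𝒮h.presheaf.obj (op ⊤)} (hz : RelCone.IsPolyOver 𝒮 𝒮h ι z)
  {PC : Scheme.{u}} {pC : PC ⟶ S}
  {chartC : ∀ (U : S.Opens) (hU : IsAffineOpen U),
    ((pC ⁻¹ᵁ U : PC.Opens) : Scheme.{u}) ≅ Proj (𝒮h.deg U hU)}

theorem pointedProjCone_eq_domQ :
    RelCone.pointedProjCone 𝒮 hz pC chartC =
      RelProj.domQ (RelProj.QGrHom.ofHom ι hz.graded) pC chartC := by
  rw [domQ_eq_iSup_domPiece]
  exact iSup_gradedHomAt_eq_iSup_domPiece ι hz.graded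

/-- a point of `Proj 𝒮h(U)` outside the pointed cone lies in `D₊(z)` -/
theorem mem_basicOpen_z_of_not_mem (U : S.Opens) (hU : IsAffineOpen U) (Q : Proj (𝒮h.deg U hU))
    (hQ : Q ∉ RelCone.domOpen (ψAt ι hz.graded U hU)) :
    Q ∈ Proj.basicOpen (𝒮h.deg U hU) (RelCone.restrictTop 𝒮h z U) := by
  rw [ψAt_eq_gradedHomAt] at hQ
  obtain ⟨𝔭, -, rfl⟩ := Groth.Agent.Lib.Helper27Cone.exists_of_not_mem_domOpen hz U hU Q hQ
  rw [← Proj.opensRange_awayι _ _ (hz.deg_z U hU) one_pos]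
  exact ⟨_, rfl⟩

end Cone

section ConeMap

variable {Y Y' : Scheme.{u}} {q : Y' ⟶ Y}
  {𝒮 : RelProj.QCGrAlg Y} {𝒮' : RelProj.QCGrAlg Y'}
  (u : RelProj.QGrHom q 𝒮 𝒮')
  {𝒮h : RelProj.QCGrAlg Y} {ι : 𝒮.toQCAlg ⟶ 𝒮h.toQCAlg} {z : 𝒮h.presheaf.obj (op ⊤)}
  (hz : RelCone.IsPolyOver 𝒮 𝒮h ι z)
  {𝒮h' : RelProj.QCGrAlg Y'} {ι' : 𝒮'.toQCAlg ⟶ 𝒮h'.toQCAlg} {z' : 𝒮h'.presheaf.obj (op ⊤)}
  (hz' : RelCone.IsPolyOver 𝒮' 𝒮h' ι' z')
  (uh : RelProj.QGrHom q 𝒮h 𝒮h')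

include hz hz' in
theorem uh_restrictTop
    (huhz : (uh.app ⊤).hom z = RelCone.restrictTop 𝒮h' z' (q ⁻¹ᵁ ⊤)) (V : APair q) :
    φV uh V (RelCone.restrictTop 𝒮h z V.U) = RelCone.restrictTop 𝒮h' z' V.U' := by
  have hnat := uh.naturality (le_top : V.U ≤ ⊤)
  have h1 : (uh.app V.U).hom (RelCone.restrictTop 𝒮h z V.U) =
      (𝒮h'.presheaf.map (homOfLE (q.preimage_mono (le_top : V.U ≤ ⊤))).op).hom
        ((uh.app ⊤).hom z) :=
    (congr_arg (fun t => t.hom z) hnat).symm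
  change (𝒮h'.presheaf.map (homOfLE V.hle).op).hom
    ((uh.app V.U).hom (RelCone.restrictTop 𝒮h z V.U)) = _
  rw [h1, huhz]
  change ((𝒮h'.presheaf.map (homOfLE le_top).op ≫
    𝒮h'.presheaf.map (homOfLE (q.preimage_mono (le_top : V.U ≤ ⊤))).op) ≫
    𝒮h'.presheaf.map (homOfLE V.hle).op).hom z' = _
  rw [← Functor.map_comp, ← Functor.map_comp]
  rfl

end ConeMap

end Groth.Agent.Helper13RL
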