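import Mathlib
import Groth.Agent.Lib.Helper13RLn

set_option autoImplicit false

namespace Groth.Agent.Helper13RL

open CategoryTheory CategoryTheory.Limits AlgebraicGeometry Opposite TopologicalSpace
open HomogeneousLocalization
open scoped HomogeneousIdeal
open Groth.Agent.Helper13RelProj

universe u

/-! versions of the source-side composition lemmas with the compatibility asked on affine pairs only -/

section SrcComp'

variable {Y X : Scheme.{u}} {q : X ⟶ Y} {𝒮 : RelProj.QCGrAlg Y} {𝒮' 𝒮'' : RelProj.QCGrAlg X}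
  (u : RelProj.QGrHom q 𝒮 𝒮') (v' : 𝒮'.toQCAlg ⟶ 𝒮''.toQCAlg) (hv' : RelProj.IsGradedHom v')
  (w : RelProj.QGrHom q 𝒮 𝒮'')

variable {P P' P'' : Scheme.{u}} {p : P ⟶ Y}
  {chart : ∀ (U : Y.Opens) (hU : IsAffineOpen U),
    ((p ⁻¹ᵁ U : P.Opens) : Scheme.{u}) ≅ Proj (𝒮.deg U hU)}
  {p' : P' ⟶ X}
  {chart' : ∀ (U : X.Opens) (hU : IsAffineOpen U),
    ((p' ⁻¹ᵁ U : P'.Opens) : Scheme.{u}) ≅ Proj (𝒮'.deg U hU)}
  {p'' : P'' ⟶ X}
  {chart'' : ∀ (U : X.Opens) (hU : IsAffineOpen U),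
    ((p'' ⁻¹ᵁ U : P''.Opens) : Scheme.{u}) ≅ Proj (𝒮''.deg U hU)}

include u in
/-- `G(v' ∘ u) ⊆ G(v')` -/
theorem domQ_srcComp_le' (hw : ∀ (V : APair q) (a : 𝒮.presheaf.obj (op V.U)),
      φV w V a = φV (RelProj.QGrHom.ofHom v' hv') (diagPair V.U' V.hU') (φV u V a)) :
    RelProj.domQ w p'' chart'' ≤ RelProj.domQ (RelProj.QGrHom.ofHom v' hv') p'' chart'' := by
  intro x hx
  obtain ⟨⟨⟨⟨U, hU⟩, ⟨U', hU'⟩⟩, hle⟩, z, hz, hzx⟩ := Opens.mem_iSup.mp hx
  replace hU : IsAffineOpen U := hU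
  replace hU' : IsAffineOpen U' := hU'
  let V : APair q := ⟨U, hU, U', hU', hle⟩
  have hz' : z ∈ RelCone.domOpen (φV w V) := hz
  obtain ⟨d, f, hd, hf, hzf⟩ := (mem_domOpen_iff _ z).mp hz'
  rw [hw V f] at hzf
  have hz2 : z ∈ RelCone.domOpen (φV (RelProj.QGrHom.ofHom v' hv') (diagPair V.U' V.hU')) :=
    (mem_domOpen_iff _ z).mpr ⟨d, _, hd, Graded.map_mem (φV u V) hf, hzf⟩
  exact Opens.mem_iSup.mpr ⟨⟨(⟨U', hU'⟩, ⟨U', hU'⟩), le_rfl⟩, z, hz2, hzx⟩

/-- **`G(v' ∘ u) = Proj(v')⁻¹(G(u))`** -/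
theorem mem_domQ_srcComp_iff'
    (hw : ∀ (V : APair q) (a : 𝒮.presheaf.obj (op V.U)),
      φV w V a = φV (RelProj.QGrHom.ofHom v' hv') (diagPair V.U' V.hU') (φV u V a))
    (hP : RelProj.IsRelProj 𝒮 p chart) (hP' : RelProj.IsRelProj 𝒮' p' chart')
    (hP'' : RelProj.IsRelProj 𝒮'' p'' chart'')
    {Ψ : ((RelProj.domQ (RelProj.QGrHom.ofHom v' hv') p'' chart'' : P''.Opens) : Scheme.{u}) ⟶ P'}
    (hΨ : RelProj.IsProjQMapOn (RelProj.QGrHom.ofHom v' hv') p' chart' p'' chart''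
      (RelProj.domQ (RelProj.QGrHom.ofHom v' hv') p'' chart'') Ψ)
    (y : ((RelProj.domQ (RelProj.QGrHom.ofHom v' hv') p'' chart'' : P''.Opens) : Scheme.{u})) :
    (RelProj.domQ (RelProj.QGrHom.ofHom v' hv') p'' chart'').ι.base y ∈ RelProj.domQ w p'' chart'' ↔
      Ψ.base y ∈ RelProj.domQ u p' chart' := by
  obtain ⟨V, hxV⟩ := exists_apair (q := q)
    (p''.base ((RelProj.domQ (RelProj.QGrHom.ofHom v' hv') p'' chart'').ι.base y))
  obtain ⟨z, rfl⟩ := mem_range_pieceEmb_of_mem (RelProj.QGrHom.ofHom v' hv') hP' hP''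
    (diagPair V.U' V.hU') y hxV
  obtain ⟨k, mV, hk, hm, -, hrange⟩ := exists_pmap_comp (hw V)
    (isDomOf_domOpen (φV (RelProj.QGrHom.ofHom v' hv') (diagPair V.U' V.hU')))
    (isDomOf_domOpen (φV w V)) (isDomOf_domOpen (φV u V))
    (isPMap_piecePMap (RelProj.QGrHom.ofHom v' hv') (diagPair V.U' V.hU'))
    (isPMap_piecePMap w V) (isPMap_piecePMap u V)
  have e1 : (RelProj.domQ (RelProj.QGrHom.ofHom v' hv') p'' chart'').ι.base
      ((pieceEmb (RelProj.QGrHom.ofHom v' hv') chart'' (diagPair V.U' V.hU')).base z) =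
      (RelProj.emb p'' chart'' V.U' V.hU').base z.1 := by
    rw [← Scheme.Hom.comp_apply, pieceEmb_ι]
    rfl
  have e2 : Ψ.base ((pieceEmb (RelProj.QGrHom.ofHom v' hv') chart'' (diagPair V.U' V.hU')).base z) =
      (RelProj.emb p' chart' V.U' V.hU').base
        ((piecePMap (RelProj.QGrHom.ofHom v' hv') (diagPair V.U' V.hU')).base z) := by
    rw [← Scheme.Hom.comp_apply,
      pieceEmb_comp (RelProj.QGrHom.ofHom v' hv') hP' hP'' hΨ (diagPair V.U' V.hU')]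
    rfl
  rw [e1, e2]
  constructor
  · intro h
    let y' : ((RelProj.domQ w p'' chart'' : P''.Opens) : Scheme.{u}) := ⟨_, h⟩
    have hy' : p''.base ((RelProj.domQ w p'' chart'').ι.base y') ∈ V.U' :=
      emb_mem_preimage chart'' V.U' V.hU' z.1
    obtain ⟨z', hz'⟩ := mem_range_pieceEmb_of_mem w hP hP'' V y' hy'
    have e3 : (RelProj.emb p'' chart'' V.U' V.hU').base z'.1 =
        (RelProj.emb p'' chart'' V.U' V.hU').base z.1 := by
      have := congr_arg (RelProj.domQ w p'' chart'').ι.base hz'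
      rw [← Scheme.Hom.comp_apply, pieceEmb_ι] at this
      exact this
    have e4 : z'.1 = z.1 := (RelProj.emb p'' chart'' V.U' V.hU').isOpenEmbedding.injective e3
    have e5 : k.base z' = z := by
      apply (RelCone.domOpen (φV (RelProj.QGrHom.ofHom v' hv')
        (diagPair V.U' V.hU'))).ι.isOpenEmbedding.injective
      rw [← Scheme.Hom.comp_apply, hk]
      exact e4
    have h6 := (hrange z).mp ⟨z', e5⟩
    rw [Scheme.Opens.range_ι] at h6
    exact Opens.mem_iSup.mpr ⟨⟨(⟨V.U, V.hU⟩, ⟨V.U', V.hU'⟩), V.hle⟩, _, h6, rfl⟩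
  · intro h
    let g : ((RelProj.domQ u p' chart' : P'.Opens) : Scheme.{u}) := ⟨_, h⟩
    have hg : p'.base ((RelProj.domQ u p' chart').ι.base g) ∈ V.U' :=
      emb_mem_preimage chart' V.U' V.hU' _
    obtain ⟨s, hs⟩ := mem_range_pieceEmb_of_mem u hP hP' V g hg
    have e3 : (RelProj.emb p' chart' V.U' V.hU').base s.1 =
        (RelProj.emb p' chart' V.U' V.hU').base
          ((piecePMap (RelProj.QGrHom.ofHom v' hv') (diagPair V.U' V.hU')).base z) := by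
      have := congr_arg (RelProj.domQ u p' chart').ι.base hs
      rw [← Scheme.Hom.comp_apply, pieceEmb_ι] at this
      exact this
    have e4 : s.1 = (piecePMap (RelProj.QGrHom.ofHom v' hv') (diagPair V.U' V.hU')).base z :=
      (RelProj.emb p' chart' V.U' V.hU').isOpenEmbedding.injective e3
    obtain ⟨z', rfl⟩ := (hrange z).mpr (by
      rw [Scheme.Opens.range_ι, ← e4]; exact s.2)
    have e5 : (k.base z').1 = z'.1 := by
      change (RelCone.domOpen (φV (RelProj.QGrHom.ofHom v' hv')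
        (diagPair V.U' V.hU'))).ι.base (k.base z') = _
      rw [← Scheme.Hom.comp_apply, hk]
      rfl
    rw [e5]
    exact Opens.mem_iSup.mpr ⟨⟨(⟨V.U, V.hU⟩, ⟨V.U', V.hU'⟩), V.hle⟩, _, z'.2, rfl⟩

/-- **`Proj(v' ∘ u) = Proj(u) ∘ Proj(v')` on `G(v' ∘ u)`** -/
theorem exists_srcComp_lift'
    (hw : ∀ (V : APair q) (a : 𝒮.presheaf.obj (op V.U)),
      φV w V a = φV (RelProj.QGrHom.ofHom v' hv') (diagPair V.U' V.hU') (φV u V a))
    (hP : RelProj.IsRelProj 𝒮 p chart) (hP' : RelProj.IsRelProj 𝒮' p' chart')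
    (hP'' : RelProj.IsRelProj 𝒮'' p'' chart'')
    {Ψ : ((RelProj.domQ (RelProj.QGrHom.ofHom v' hv') p'' chart'' : P''.Opens) : Scheme.{u}) ⟶ P'}
    (hΨ : RelProj.IsProjQMapOn (RelProj.QGrHom.ofHom v' hv') p' chart' p'' chart''
      (RelProj.domQ (RelProj.QGrHom.ofHom v' hv') p'' chart'') Ψ)
    {r : ((RelProj.domQ u p' chart' : P'.Opens) : Scheme.{u}) ⟶ P}
    (hr : RelProj.IsProjQMapOn u p chart p' chart' (RelProj.domQ u p' chart') r)
    {rw' : ((RelProj.domQ w p'' chart'' : P''.Opens) : Scheme.{u}) ⟶ P}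
    (hrw : RelProj.IsProjQMapOn w p chart p'' chart'' (RelProj.domQ w p'' chart'') rw')
    (hle : RelProj.domQ w p'' chart'' ≤ RelProj.domQ (RelProj.QGrHom.ofHom v' hv') p'' chart'') :
    ∃ m : ((RelProj.domQ w p'' chart'' : P''.Opens) : Scheme.{u}) ⟶
        ((RelProj.domQ u p' chart' : P'.Opens) : Scheme.{u}),
      m ≫ (RelProj.domQ u p' chart').ι = P''.homOfLE hle ≫ Ψ ∧ m ≫ r = rw' := by
  have hrange : Set.range (P''.homOfLE hle ≫ Ψ).base ⊆
      Set.range (RelProj.domQ u p' chart').ι.base := by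
    rintro _ ⟨y', rfl⟩
    rw [Scheme.Opens.range_ι, Scheme.Hom.comp_apply]
    refine (mem_domQ_srcComp_iff' u v' hv' w hw hP hP' hP'' hΨ _).mp ?_
    rw [← Scheme.Hom.comp_apply, Scheme.homOfLE_ι]
    exact y'.2
  let m := IsOpenImmersion.lift (RelProj.domQ u p' chart').ι (P''.homOfLE hle ≫ Ψ) hrange
  have hm : m ≫ (RelProj.domQ u p' chart').ι = P''.homOfLE hle ≫ Ψ :=
    IsOpenImmersion.lift_fac _ _ _
  refine ⟨m, hm, ?_⟩
  refine hom_ext_of_openImmersions _ _ fun y' => ?_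
  obtain ⟨V, hxV⟩ := exists_apair (q := q) (p''.base ((RelProj.domQ w p'' chart'').ι.base y'))
  have hy' := mem_range_pieceEmb_of_mem w hP hP'' V y' hxV
  refine ⟨_, pieceEmb w chart'' V, inferInstance, hy', ?_⟩
  obtain ⟨k, mV, hk, hmV, hmp, -⟩ := exists_pmap_comp (hw V)
    (isDomOf_domOpen (φV (RelProj.QGrHom.ofHom v' hv') (diagPair V.U' V.hU')))
    (isDomOf_domOpen (φV w V)) (isDomOf_domOpen (φV u V))
    (isPMap_piecePMap (RelProj.QGrHom.ofHom v' hv') (diagPair V.U' V.hU'))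
    (isPMap_piecePMap w V) (isPMap_piecePMap u V)
  have h1 : pieceEmb w chart'' V ≫ P''.homOfLE hle =
      k ≫ pieceEmb (RelProj.QGrHom.ofHom v' hv') chart'' (diagPair V.U' V.hU') := by
    rw [← cancel_mono (RelProj.domQ (RelProj.QGrHom.ofHom v' hv') p'' chart'').ι, Category.assoc,
      Scheme.homOfLE_ι, pieceEmb_ι, Category.assoc, pieceEmb_ι, ← Category.assoc, hk]
  have h2 : pieceEmb w chart'' V ≫ m = mV ≫ pieceEmb u chart' V := by
    rw [← cancel_mono (RelProj.domQ u p' chart').ι, Category.assoc, hm,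
      ← Category.assoc, h1, Category.assoc,
      pieceEmb_comp (RelProj.QGrHom.ofHom v' hv') hP' hP'' hΨ (diagPair V.U' V.hU'),
      Category.assoc, pieceEmb_ι, ← Category.assoc, hmV, Category.assoc]
    rfl
  rw [← Category.assoc, h2, Category.assoc, pieceEmb_comp u hP hP' hr V,
    pieceEmb_comp w hP hP'' hrw V]
  unfold pieceMap
  rw [← Category.assoc, hmp]

end SrcComp'

section Misc

theorem ringHom_eq_of_poly {R S T : Type*} [CommRing R] [CommRing S] [CommRing T] (i : R →+* S)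
    (z : S) (hsurj : Function.Surjective (Polynomial.eval₂RingHom i z)) (f g : S →+* T)
    (h1 : ∀ r, f (i r) = g (i r)) (h2 : f z = g z) : f = g := by
  have h : f.comp (Polynomial.eval₂RingHom i z) = g.comp (Polynomial.eval₂RingHom i z) :=
    Polynomial.ringHom_ext (fun r => by simpa using h1 r) (by simpa using h2)
  ext s
  obtain ⟨P, rfl⟩ := hsurj s
  exact congr_arg (fun t => t P) h

variable {Y X : Scheme.{u}} {q : X ⟶ Y} {𝒮 : RelProj.QCGrAlg Y} {𝒮' : RelProj.QCGrAlg X}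
  (u : RelProj.QGrHom q 𝒮 𝒮')
  {P P' : Scheme.{u}} {p : P ⟶ Y}
  {chart : ∀ (U : Y.Opens) (hU : IsAffineOpen U),
    ((p ⁻¹ᵁ U : P.Opens) : Scheme.{u}) ≅ Proj (𝒮.deg U hU)}
  {p' : P' ⟶ X}
  {chart' : ∀ (U : X.Opens) (hU : IsAffineOpen U),
    ((p' ⁻¹ᵁ U : P'.Opens) : Scheme.{u}) ≅ Proj (𝒮'.deg U hU)}

theorem isProjQMapOn_of_isProjQMap {h : P' ⟶ P} (hh : RelProj.IsProjQMap u p chart p' chart' h)
    (W : P'.Opens) : RelProj.IsProjQMapOn u p chart p' chart' W (W.ι ≫ h) := by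
  intro U hU U' hU' hle d hd f hf hW
  rw [← Category.assoc, IsOpenImmersion.lift_fac]
  exact hh.2 U hU U' hU' hle d hd f hf

end Misc

section ConeRetr

variable {Y Y' : Scheme.{u}} {q : Y' ⟶ Y}
  {𝒮 : RelProj.QCGrAlg Y} {𝒮' : RelProj.QCGrAlg Y'}
  (u : RelProj.QGrHom q 𝒮 𝒮')
  {𝒮h : RelProj.QCGrAlg Y} {ι : 𝒮.toQCAlg ⟶ 𝒮h.toQCAlg} {z : 𝒮h.presheaf.obj (op ⊤)}
  (hz : RelCone.IsPolyOver 𝒮 𝒮h ι z)
  {𝒮h' : RelProj.QCGrAlg Y'} {ι' : 𝒮'.toQCAlg ⟶ 𝒮h'.toQCAlg} {z' : 𝒮h'.presheaf.obj (op ⊤)}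
  (hz' : RelCone.IsPolyOver 𝒮' 𝒮h' ι' z')
  (uh : RelProj.QGrHom q 𝒮h 𝒮h')
  (θ : 𝒮h.toQCAlg ⟶ 𝒮.toQCAlg) (hθ : RelProj.IsGradedHom θ)
  (θ' : 𝒮h'.toQCAlg ⟶ 𝒮'.toQCAlg) (hθ' : RelProj.IsGradedHom θ')

include hz hz' in
/-- `u ∘ θ = θ' ∘ û` on affine pairs -/
theorem retr_hcomp
    (huh : ∀ U : Y.Opens, ι.hom.app (op U) ≫ uh.app U = u.app U ≫ ι'.hom.app (op (q ⁻¹ᵁ U)))
    (huhz : (uh.app ⊤).hom z = RelCone.restrictTop 𝒮h' z' (q ⁻¹ᵁ ⊤))
    (hθι : ι ≫ θ = 𝟙 _) (hθz : (θ.hom.app (op ⊤)).hom z = 0)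
    (hθι' : ι' ≫ θ' = 𝟙 _) (hθz' : (θ'.hom.app (op ⊤)).hom z' = 0)
    (V : APair q) (a : 𝒮h.presheaf.obj (op V.U)) :
    φV (compOfHom u θ hθ) V a =
      φV (RelProj.QGrHom.ofHom θ' hθ') (diagPair V.U' V.hU') (φV uh V a) := by
  have key : (φV (compOfHom u θ hθ) V).toRingHom =
      ((φV (RelProj.QGrHom.ofHom θ' hθ') (diagPair V.U' V.hU')).toRingHom).comp
        (φV uh V).toRingHom := by
    refine ringHom_eq_of_poly (ι.hom.app (op V.U)).hom (RelCone.restrictTop 𝒮h z V.U)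
      (hz.bij V.U V.hU).2 _ _ (fun a₀ => ?_) ?_
    · -- on `ι a₀`
      have h1 : (θ.hom.app (op V.U)).hom ((ι.hom.app (op V.U)).hom a₀) = a₀ :=
        congr_arg (fun t => (t.hom.app (op V.U)).hom a₀) hθι
      have h2 : ∀ b, (θ'.hom.app (op V.U')).hom ((ι'.hom.app (op V.U')).hom b) = b := fun b =>
        congr_arg (fun t => (t.hom.app (op V.U')).hom b) hθι'
      have h3 : (uh.app V.U).hom ((ι.hom.app (op V.U)).hom a₀) =
          (ι'.hom.app (op (q ⁻¹ᵁ V.U))).hom ((u.app V.U).hom a₀) :=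
        congr_arg (fun t => t.hom a₀) (huh V.U)
      have h4 : (𝒮h'.presheaf.map (homOfLE V.hle).op).hom
          ((ι'.hom.app (op (q ⁻¹ᵁ V.U))).hom ((u.app V.U).hom a₀)) =
          (ι'.hom.app (op V.U')).hom ((𝒮'.presheaf.map (homOfLE V.hle).op).hom
            ((u.app V.U).hom a₀)) :=
        (congr_arg (fun t => t.hom ((u.app V.U).hom a₀))
          (ι'.hom.naturality (homOfLE V.hle).op)).symm
      change (𝒮'.presheaf.map (homOfLE V.hle).op).hom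
          ((u.app V.U).hom ((θ.hom.app (op V.U)).hom ((ι.hom.app (op V.U)).hom a₀))) =
        φV (RelProj.QGrHom.ofHom θ' hθ') (diagPair V.U' V.hU')
          ((𝒮h'.presheaf.map (homOfLE V.hle).op).hom
            ((uh.app V.U).hom ((ι.hom.app (op V.U)).hom a₀)))
      rw [h1, h3, h4]
      exact ((ψAt_apply θ' hθ' V.U' V.hU' _).trans (h2 _)).symm
    · -- on `z`
      have h1 : (θ.hom.app (op V.U)).hom (RelCone.restrictTop 𝒮h z V.U) = 0 := by
        have := congr_arg (fun t => t.hom z) (θ.hom.naturality (homOfLE (le_top : V.U ≤ ⊤)).op)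
        change (θ.hom.app (op V.U)).hom (RelCone.restrictTop 𝒮h z V.U) =
          (𝒮.presheaf.map (homOfLE (le_top : V.U ≤ ⊤)).op).hom ((θ.hom.app (op ⊤)).hom z) at this
        rw [this, hθz, map_zero]
      have h2 : (θ'.hom.app (op V.U')).hom (RelCone.restrictTop 𝒮h' z' V.U') = 0 := by
        have := congr_arg (fun t => t.hom z')
          (θ'.hom.naturality (homOfLE (le_top : V.U' ≤ ⊤)).op)
        change (θ'.hom.app (op V.U')).hom (RelCone.restrictTop 𝒮h' z' V.U') =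
          (𝒮'.presheaf.map (homOfLE (le_top : V.U' ≤ ⊤)).op).hom ((θ'.hom.app (op ⊤)).hom z') at this
        rw [this, hθz', map_zero]
      change (𝒮'.presheaf.map (homOfLE V.hle).op).hom
          ((u.app V.U).hom ((θ.hom.app (op V.U)).hom (RelCone.restrictTop 𝒮h z V.U))) =
        φV (RelProj.QGrHom.ofHom θ' hθ') (diagPair V.U' V.hU')
          (φV uh V (RelCone.restrictTop 𝒮h z V.U))
      rw [h1, map_zero, map_zero, uh_restrictTop hz hz' uh huhz V]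
      exact ((ψAt_apply θ' hθ' V.U' V.hU' _).trans h2).symm
  exact congr_arg (fun t => t a) key

end ConeRetr

end Groth.Agent.Helper13RL
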