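import Mathlib
import Groth.Agent.Lib.Helper13RLp

set_option autoImplicit false

namespace Groth.Agent.Helper13RL

open CategoryTheory CategoryTheory.Limits AlgebraicGeometry Opposite TopologicalSpace
open HomogeneousLocalization
open scoped HomogeneousIdeal
open Groth.Agent.Helper13RelProj

universe u

section ConeAff

variable {Y Y' : Scheme.{u}} {q : Y' ⟶ Y}
  {𝒮 : RelProj.QCGrAlg Y} {𝒮' : RelProj.QCGrAlg Y'}
  (u : RelProj.QGrHom q 𝒮 𝒮')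
  {𝒮h : RelProj.QCGrAlg Y} {ι : 𝒮.toQCAlg ⟶ 𝒮h.toQCAlg} {z : 𝒮h.presheaf.obj (op ⊤)}
  (hz : RelCone.IsPolyOver 𝒮 𝒮h ι z)
  {𝒮h' : RelProj.QCGrAlg Y'} {ι' : 𝒮'.toQCAlg ⟶ 𝒮h'.toQCAlg} {z' : 𝒮h'.presheaf.obj (op ⊤)}
  (hz' : RelCone.IsPolyOver 𝒮' 𝒮h' ι' z')
  (uh : RelProj.QGrHom q 𝒮h 𝒮h')

include hz in
theorem uh_ι (huh : ∀ U : Y.Opens, ι.hom.app (op U) ≫ uh.app U = u.app U ≫ ι'.hom.app (op (q ⁻¹ᵁ U)))
    (V : APair q) (a₀ : 𝒮.presheaf.obj (op V.U)) :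
    φV uh V ((ι.hom.app (op V.U)).hom a₀) = (ι'.hom.app (op V.U')).hom (φV u V a₀) := by
  have h3 : (uh.app V.U).hom ((ι.hom.app (op V.U)).hom a₀) =
      (ι'.hom.app (op (q ⁻¹ᵁ V.U))).hom ((u.app V.U).hom a₀) :=
    congr_arg (fun t => t.hom a₀) (huh V.U)
  have h4 : (𝒮h'.presheaf.map (homOfLE V.hle).op).hom
      ((ι'.hom.app (op (q ⁻¹ᵁ V.U))).hom ((u.app V.U).hom a₀)) =
      (ι'.hom.app (op V.U')).hom ((𝒮'.presheaf.map (homOfLE V.hle).op).hom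
        ((u.app V.U).hom a₀)) :=
    (congr_arg (fun t => t.hom ((u.app V.U).hom a₀))
      (ι'.hom.naturality (homOfLE V.hle).op)).symm
  change (𝒮h'.presheaf.map (homOfLE V.hle).op).hom
    ((uh.app V.U).hom ((ι.hom.app (op V.U)).hom a₀)) = _
  rw [h3, h4]
  rfl

include hz hz' in
theorem evalOne_uh
    (huh : ∀ U : Y.Opens, ι.hom.app (op U) ≫ uh.app U = u.app U ≫ ι'.hom.app (op (q ⁻¹ᵁ U)))
    (huhz : (uh.app ⊤).hom z = RelCone.restrictTop 𝒮h' z' (q ⁻¹ᵁ ⊤))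
    (V : APair q) (x : 𝒮h.presheaf.obj (op V.U)) :
    hz'.evalOne V.U' V.hU' (φV uh V x) = φV u V (hz.evalOne V.U V.hU x) := by
  have key : (hz'.evalOne V.U' V.hU').comp (φV uh V).toRingHom =
      (φV u V).toRingHom.comp (hz.evalOne V.U V.hU) := by
    refine ringHom_eq_of_poly (ι.hom.app (op V.U)).hom (RelCone.restrictTop 𝒮h z V.U)
      (hz.bij V.U V.hU).2 _ _ (fun a₀ => ?_) ?_
    · change hz'.evalOne V.U' V.hU' (φV uh V ((ι.hom.app (op V.U)).hom a₀)) =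
        φV u V (hz.evalOne V.U V.hU ((ι.hom.app (op V.U)).hom a₀))
      rw [uh_ι u hz uh huh V a₀, hz'.evalOne_ι, hz.evalOne_ι]
    · change hz'.evalOne V.U' V.hU' (φV uh V (RelCone.restrictTop 𝒮h z V.U)) =
        φV u V (hz.evalOne V.U V.hU (RelCone.restrictTop 𝒮h z V.U))
      rw [uh_restrictTop hz hz' uh huhz V, hz'.evalOne_z, hz.evalOne_z, map_one]
  exact congr_arg (fun t => t x) key

include hz hz' in
theorem awayZToBase_uh
    (huh : ∀ U : Y.Opens, ι.hom.app (op U) ≫ uh.app U = u.app U ≫ ι'.hom.app (op (q ⁻¹ᵁ U)))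
    (huhz : (uh.app ⊤).hom z = RelCone.restrictTop 𝒮h' z' (q ⁻¹ᵁ ⊤)) (V : APair q) :
    (hz'.awayZToBase V.U' V.hU').comp (mapTo (φV uh V) (uh_restrictTop hz hz' uh huhz V)) =
      (φV u V).toRingHom.comp (hz.awayZToBase V.U V.hU) := by
  ext α
  obtain ⟨n, a, ha, rfl⟩ := Away.mk_surjective (𝒮h.deg V.U V.hU) (hz.deg_z V.U V.hU) α
  simp only [RingHom.comp_apply]
  rw [hz'.awayZToBase_of_val V.U' V.hU' _ (φV uh V a) n
      (val_mapTo_mk (φV uh V) (uh_restrictTop hz hz' uh huhz V) (hz.deg_z V.U V.hU) n a ha),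
    hz.awayZToBase_of_val V.U V.hU _ a n (Away.val_mk ..)]
  exact evalOne_uh u hz hz' uh huh huhz V a

variable {PC PC' : Scheme.{u}} {pC : PC ⟶ Y}
  {chartC : ∀ (U : Y.Opens) (hU : IsAffineOpen U),
    ((pC ⁻¹ᵁ U : PC.Opens) : Scheme.{u}) ≅ Proj (𝒮h.deg U hU)}
  {pC' : PC' ⟶ Y'}
  {chartC' : ∀ (U : Y'.Opens) (hU : IsAffineOpen U),
    ((pC' ⁻¹ᵁ U : PC'.Opens) : Scheme.{u}) ≅ Proj (𝒮h'.deg U hU)}

include hz hz' in
theorem range_awayι_z_subset (huhz : (uh.app ⊤).hom z = RelCone.restrictTop 𝒮h' z' (q ⁻¹ᵁ ⊤))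
    (V : APair q) :
    Set.range (Proj.awayι (𝒮h'.deg V.U' V.hU') (RelCone.restrictTop 𝒮h' z' V.U')
      (hz'.deg_z V.U' V.hU') one_pos).base ⊆ Set.range (RelCone.domOpen (φV uh V)).ι.base := by
  rw [Scheme.Opens.range_ι]
  rintro _ ⟨pt, rfl⟩
  have hpt : (Proj.awayι (𝒮h'.deg V.U' V.hU') (RelCone.restrictTop 𝒮h' z' V.U')
      (hz'.deg_z V.U' V.hU') one_pos).base pt ∈
      Proj.basicOpen (𝒮h'.deg V.U' V.hU') (RelCone.restrictTop 𝒮h' z' V.U') := by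
    rw [← Proj.opensRange_awayι _ _ (hz'.deg_z V.U' V.hU') one_pos]
    exact ⟨pt, rfl⟩
  refine (mem_domOpen_iff _ _).mpr ⟨1, RelCone.restrictTop 𝒮h z V.U, one_pos,
    hz.deg_z V.U V.hU, ?_⟩
  rw [uh_restrictTop hz hz' uh huhz V]
  exact hpt

/-- the chart `D₊(z') ⟶ G(û_V)` -/
noncomputable def zChart (huhz : (uh.app ⊤).hom z = RelCone.restrictTop 𝒮h' z' (q ⁻¹ᵁ ⊤))
    (V : APair q) :
    Spec (.of (Away (𝒮h'.deg V.U' V.hU') (RelCone.restrictTop 𝒮h' z' V.U'))) ⟶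
      ((RelCone.domOpen (φV uh V) : (Proj (𝒮h'.deg V.U' V.hU')).Opens) : Scheme.{u}) :=
  IsOpenImmersion.lift (RelCone.domOpen (φV uh V)).ι _ (range_awayι_z_subset hz hz' uh huhz V)

theorem zChart_ι (huhz : (uh.app ⊤).hom z = RelCone.restrictTop 𝒮h' z' (q ⁻¹ᵁ ⊤))
    (V : APair q) :
    zChart hz hz' uh huhz V ≫ (RelCone.domOpen (φV uh V)).ι =
      Proj.awayι (𝒮h'.deg V.U' V.hU') (RelCone.restrictTop 𝒮h' z' V.U')
        (hz'.deg_z V.U' V.hU') one_pos :=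
  IsOpenImmersion.lift_fac _ _ _

theorem coneImm_compat
    (huh : ∀ U : Y.Opens, ι.hom.app (op U) ≫ uh.app U = u.app U ≫ ι'.hom.app (op (q ⁻¹ᵁ U)))
    (huhz : (uh.app ⊤).hom z = RelCone.restrictTop 𝒮h' z' (q ⁻¹ᵁ ⊤))
    (hC : RelProj.IsRelProj 𝒮h pC chartC) (hC' : RelProj.IsRelProj 𝒮h' pC' chartC')
    {Φh : ((RelProj.domQ uh pC' chartC' : PC'.Opens) : Scheme.{u}) ⟶ PC}
    (hΦh : RelProj.IsProjQMapOn uh pC chartC pC' chartC' (RelProj.domQ uh pC' chartC') Φh)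
    {Φc : 𝒮'.toQCAlg.spec ⟶ 𝒮.toQCAlg.spec} (hΦc : RelSpec.IsSpecQMap u.toQHom Φc)
    {i : 𝒮.toQCAlg.spec ⟶ PC} (hi : RelCone.IsConeImm 𝒮 hz pC chartC i)
    {i' : 𝒮'.toQCAlg.spec ⟶ PC'} (hi' : RelCone.IsConeImm 𝒮' hz' pC' chartC' i') :
    Set.range i'.base ⊆ ((RelProj.domQ uh pC' chartC' : PC'.Opens) : Set PC') ∧
      ∀ i'' : 𝒮'.toQCAlg.spec ⟶ ((RelProj.domQ uh pC' chartC' : PC'.Opens) : Scheme.{u}),
        i'' ≫ (RelProj.domQ uh pC' chartC').ι = i' → i'' ≫ Φh = Φc ≫ i := by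
  -- the basic chart equation
  have hE : ∀ V : APair q, 𝒮'.toQCAlg.ι V.U' V.hU' ≫ i' =
      Spec.map (CommRingCat.ofHom (hz'.awayZToBase V.U' V.hU')) ≫ zChart hz hz' uh huhz V ≫
        (RelCone.domOpen (φV uh V)).ι ≫ RelProj.emb pC' chartC' V.U' V.hU' := by
    intro V
    rw [hi' V.U' V.hU', ← Category.assoc (zChart hz hz' uh huhz V), zChart_ι]
  have hcover : ∀ c : 𝒮'.toQCAlg.spec, ∃ V : APair q,
      c ∈ Set.range (𝒮'.toQCAlg.ι V.U' V.hU').base := by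
    intro c
    obtain ⟨V, hV⟩ := exists_apair (q := q) (𝒮'.toQCAlg.π.base c)
    refine ⟨V, ?_⟩
    have : c ∈ 𝒮'.toQCAlg.π ⁻¹ᵁ V.U' := hV
    rw [RelSpec.QCAlg.π_preimage _ V.U' V.hU'] at this
    exact this
  constructor
  · rintro _ ⟨c, rfl⟩
    obtain ⟨V, 𝔭, rfl⟩ := hcover c
    rw [← Scheme.Hom.comp_apply, hE V]
    refine Opens.mem_iSup.mpr ⟨⟨(⟨V.U, V.hU⟩, ⟨V.U', V.hU'⟩), V.hle⟩, ?_⟩
    simp only [Scheme.Hom.comp_apply]
    exact ⟨_, ((zChart hz hz' uh huhz V).base _).2, rfl⟩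
  · intro i'' hi''
    refine hom_ext_of_openImmersions _ _ fun c => ?_
    obtain ⟨V, hc⟩ := hcover c
    refine ⟨_, 𝒮'.toQCAlg.ι V.U' V.hU', inferInstance, hc, ?_⟩
    have h5 : 𝒮'.toQCAlg.ι V.U' V.hU' ≫ i'' =
        Spec.map (CommRingCat.ofHom (hz'.awayZToBase V.U' V.hU')) ≫ zChart hz hz' uh huhz V ≫
          pieceEmb uh chartC' V := by
      rw [← cancel_mono (RelProj.domQ uh pC' chartC').ι, Category.assoc, hi'', hE V]
      simp only [Category.assoc]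
      rw [pieceEmb_ι]
    have h6 : zChart hz hz' uh huhz V ≫ piecePMap uh V =
        Spec.map (CommRingCat.ofHom (mapTo (φV uh V) (uh_restrictTop hz hz' uh huhz V))) ≫
          Proj.awayι (𝒮h.deg V.U V.hU) (RelCone.restrictTop 𝒮h z V.U) (hz.deg_z V.U V.hU)
            one_pos :=
      (isPMap_piecePMap uh V).comp_of_eq (hz.deg_z V.U V.hU) one_pos
        (uh_restrictTop hz hz' uh huhz V) (hz'.deg_z V.U' V.hU') _ (zChart_ι hz hz' uh huhz V)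
    have h7 : 𝒮'.toQCAlg.ι V.U' V.hU' ≫ Φc =
        Spec.map (CommRingCat.ofHom (φV u V).toRingHom) ≫ 𝒮.toQCAlg.ι V.U V.hU :=
      hΦc V.U V.hU V.U' V.hU' V.hle
    have hL : 𝒮'.toQCAlg.ι V.U' V.hU' ≫ i'' ≫ Φh =
        Spec.map (CommRingCat.ofHom ((hz'.awayZToBase V.U' V.hU').comp
          (mapTo (φV uh V) (uh_restrictTop hz hz' uh huhz V)))) ≫
          Proj.awayι (𝒮h.deg V.U V.hU) (RelCone.restrictTop 𝒮h z V.U) (hz.deg_z V.U V.hU)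
            one_pos ≫ RelProj.emb pC chartC V.U V.hU := by
      rw [← Category.assoc, h5, Category.assoc, Category.assoc, pieceEmb_comp uh hC hC' hΦh V]
      unfold pieceMap
      rw [← Category.assoc (zChart hz hz' uh huhz V), h6, CommRingCat.ofHom_comp, Spec.map_comp]
      simp only [Category.assoc]
    have hR : 𝒮'.toQCAlg.ι V.U' V.hU' ≫ Φc ≫ i =
        Spec.map (CommRingCat.ofHom ((φV u V).toRingHom.comp (hz.awayZToBase V.U V.hU))) ≫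
          Proj.awayι (𝒮h.deg V.U V.hU) (RelCone.restrictTop 𝒮h z V.U) (hz.deg_z V.U V.hU)
            one_pos ≫ RelProj.emb pC chartC V.U V.hU := by
      rw [← Category.assoc, h7, Category.assoc, hi V.U V.hU, CommRingCat.ofHom_comp,
        Spec.map_comp]
      simp only [Category.assoc]
    rw [hL, hR, awayZToBase_uh u hz hz' uh huh huhz V]

end ConeAff

end Groth.Agent.Helper13RL
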