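import Mathlib
import Groth.Agent.Lib.Helper13RLk
import Groth.Agent.Lib.Helper13RLf

set_option autoImplicit false

namespace Groth.Agent.Helper13RL

open CategoryTheory CategoryTheory.Limits AlgebraicGeometry Opposite TopologicalSpace
open HomogeneousLocalization
open scoped HomogeneousIdeal
open Groth.Agent.Helper13RelProj

universe u

section L1

variable {Y X : Scheme.{u}} {q : X ⟶ Y} {𝒮 : RelProj.QCGrAlg Y} {𝒮L : RelProj.QCGrAlg X}
  (u : RelProj.QGrHom q 𝒮 𝒮L)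
  {P PL : Scheme.{u}} {p : P ⟶ Y}
  {chart : ∀ (U : Y.Opens) (hU : IsAffineOpen U),
    ((p ⁻¹ᵁ U : P.Opens) : Scheme.{u}) ≅ Proj (𝒮.deg U hU)}
  {pL : PL ⟶ X}
  {chartL : ∀ (U : X.Opens) (hU : IsAffineOpen U),
    ((pL ⁻¹ᵁ U : PL.Opens) : Scheme.{u}) ≅ Proj (𝒮L.deg U hU)}

/-- the standard chart `Spec 𝒮(U)_(f) ⟶ P` -/
noncomputable abbrev stdChart (p : P ⟶ Y)
    (chart : ∀ (U : Y.Opens) (hU : IsAffineOpen U),
      ((p ⁻¹ᵁ U : P.Opens) : Scheme.{u}) ≅ Proj (𝒮.deg U hU))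
    (U : Y.Opens) (hU : IsAffineOpen U) {d : ℕ} (hd : 0 < d)
    {f : 𝒮.presheaf.obj (op U)} (hf : f ∈ 𝒮.deg U hU d) :
    Spec (.of (Away (𝒮.deg U hU) f)) ⟶ P :=
  Proj.awayι (𝒮.deg U hU) f hf hd ≫ RelProj.emb p chart U hU

theorem opensRange_stdChart (U : Y.Opens) (hU : IsAffineOpen U) {d : ℕ} (hd : 0 < d)
    {f : 𝒮.presheaf.obj (op U)} (hf : f ∈ 𝒮.deg U hU d) :
    (stdChart p chart U hU hd hf).opensRange =
      (RelProj.emb p chart U hU) ''ᵁ Proj.basicOpen (𝒮.deg U hU) f := by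
  rw [Scheme.Hom.opensRange_comp, Proj.opensRange_awayι]

/-- membership in the preimage of a standard open under `Proj(u)` -/
theorem mem_image_preimage_basicOpen_iff (hP : RelProj.IsRelProj 𝒮 p chart)
    (hPL : RelProj.IsRelProj 𝒮L pL chartL)
    {r : ((RelProj.domQ u pL chartL : PL.Opens) : Scheme.{u}) ⟶ P}
    (hr : RelProj.IsProjQMapOn u p chart pL chartL (RelProj.domQ u pL chartL) r)
    (U : Y.Opens) (hU : IsAffineOpen U) {d : ℕ} (hd : 0 < d)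
    {f : 𝒮.presheaf.obj (op U)} (hf : f ∈ 𝒮.deg U hU d) (x : PL) :
    x ∈ (RelProj.domQ u pL chartL).ι ''ᵁ
        (r ⁻¹ᵁ ((RelProj.emb p chart U hU) ''ᵁ Proj.basicOpen (𝒮.deg U hU) f)) ↔
      ∃ (U' : X.Opens) (hU' : IsAffineOpen U') (hle : U' ≤ q ⁻¹ᵁ U),
        x ∈ (RelProj.emb pL chartL U' hU') ''ᵁ
          Proj.basicOpen (𝒮L.deg U' hU') (u.gradedAt U hU U' hU' hle f) := by
  constructor
  · rintro ⟨y', hy', rfl⟩
    have hx : pL.base ((RelProj.domQ u pL chartL).ι.base y') ∈ q ⁻¹ᵁ U := by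
      change q.base (pL.base ((RelProj.domQ u pL chartL).ι.base y')) ∈ U
      have e : q.base (pL.base ((RelProj.domQ u pL chartL).ι.base y')) = p.base (r.base y') := by
        have := qmapOn_comp u hP hPL hr
        rw [← Scheme.Hom.comp_apply, ← Scheme.Hom.comp_apply, ← Scheme.Hom.comp_apply, this]
      rw [e]
      obtain ⟨z', -, hz'⟩ := hy'
      rw [← hz']
      exact emb_mem_preimage chart U hU z'
    obtain ⟨_, ⟨U', hU', rfl⟩, hxU', hle⟩ :=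
      X.isBasis_affineOpens.exists_subset_of_mem_open hx (q ⁻¹ᵁ U).2
    replace hU' : IsAffineOpen U' := hU'
    refine ⟨U', hU', hle, ?_⟩
    let V : APair q := ⟨U, hU, U', hU', hle⟩
    have hmem : (RelProj.domQ u pL chartL).ι.base y' ∈ (RelProj.domQ u pL chartL).ι ''ᵁ
        (r ⁻¹ᵁ ((RelProj.emb p chart V.U V.hU) ''ᵁ Proj.basicOpen (𝒮.deg V.U V.hU) f)) ⊓
        pL ⁻¹ᵁ V.U' := ⟨⟨y', hy', rfl⟩, hxU'⟩
    rw [image_preimage_basicOpen u hP hPL hr V hd hf] at hmem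
    exact hmem
  · rintro ⟨U', hU', hle, hx⟩
    let V : APair q := ⟨U, hU, U', hU', hle⟩
    have hx' : x ∈ (RelProj.emb pL chartL V.U' V.hU') ''ᵁ
        Proj.basicOpen (𝒮L.deg V.U' V.hU') (φV u V f) := hx
    rw [← image_preimage_basicOpen u hP hPL hr V hd hf] at hx'
    exact hx'.1

end L1

section L2

variable {Y X : Scheme.{u}} {q : X ⟶ Y} {𝒮 𝒯 : RelProj.QCGrAlg Y} {𝒮L : RelProj.QCGrAlg X}
  (u : RelProj.QGrHom q 𝒮 𝒮L) (v : 𝒯.toQCAlg ⟶ 𝒮.toQCAlg) (hv : RelProj.IsGradedHom v)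
  (u' : RelProj.QGrHom q 𝒯 𝒮L)
  {P P' PL : Scheme.{u}} {p : P ⟶ Y}
  {chart : ∀ (U : Y.Opens) (hU : IsAffineOpen U),
    ((p ⁻¹ᵁ U : P.Opens) : Scheme.{u}) ≅ Proj (𝒮.deg U hU)}
  {p' : P' ⟶ Y}
  {chart' : ∀ (U : Y.Opens) (hU : IsAffineOpen U),
    ((p' ⁻¹ᵁ U : P'.Opens) : Scheme.{u}) ≅ Proj (𝒯.deg U hU)}
  {pL : PL ⟶ X}
  {chartL : ∀ (U : X.Opens) (hU : IsAffineOpen U),
    ((pL ⁻¹ᵁ U : PL.Opens) : Scheme.{u}) ≅ Proj (𝒮L.deg U hU)}

/-- the preimages of corresponding standard opens under `Proj(u ∘ v)` and `Proj(u)` agree -/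
theorem image_preimage_comp_eq (hu' : ∀ U : Y.Opens, u'.app U = v.hom.app (op U) ≫ u.app U)
    (hP : RelProj.IsRelProj 𝒮 p chart) (hP' : RelProj.IsRelProj 𝒯 p' chart')
    (hPL : RelProj.IsRelProj 𝒮L pL chartL)
    {r : ((RelProj.domQ u pL chartL : PL.Opens) : Scheme.{u}) ⟶ P}
    (hr : RelProj.IsProjQMapOn u p chart pL chartL (RelProj.domQ u pL chartL) r)
    {r' : ((RelProj.domQ u' pL chartL : PL.Opens) : Scheme.{u}) ⟶ P'}
    (hr' : RelProj.IsProjQMapOn u' p' chart' pL chartL (RelProj.domQ u' pL chartL) r')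
    (U : Y.Opens) (hU : IsAffineOpen U) {d : ℕ} (hd : 0 < d)
    {y : 𝒯.presheaf.obj (op U)} (hy : y ∈ 𝒯.deg U hU d) :
    (RelProj.domQ u' pL chartL).ι ''ᵁ
        (r' ⁻¹ᵁ ((RelProj.emb p' chart' U hU) ''ᵁ Proj.basicOpen (𝒯.deg U hU) y)) =
      (RelProj.domQ u pL chartL).ι ''ᵁ
        (r ⁻¹ᵁ ((RelProj.emb p chart U hU) ''ᵁ
          Proj.basicOpen (𝒮.deg U hU) (ψAt v hv U hU y))) := by
  ext x
  change x ∈ (RelProj.domQ u' pL chartL).ι ''ᵁ _ ↔ x ∈ (RelProj.domQ u pL chartL).ι ''ᵁ _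
  rw [mem_image_preimage_basicOpen_iff u' hP' hPL hr' U hU hd hy,
    mem_image_preimage_basicOpen_iff u hP hPL hr U hU hd (Graded.map_mem (ψAt v hv U hU) hy)]
  have e : ∀ (U' : X.Opens) (hU' : IsAffineOpen U') (hle : U' ≤ q ⁻¹ᵁ U),
      u'.gradedAt U hU U' hU' hle y = u.gradedAt U hU U' hU' hle (ψAt v hv U hU y) :=
    fun U' hU' hle => φV_comp u v hv u' hu' ⟨U, hU, U', hU', hle⟩ y
  constructor
  · rintro ⟨U', hU', hle, hx⟩
    exact ⟨U', hU', hle, by rw [← e]; exact hx⟩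
  · rintro ⟨U', hU', hle, hx⟩
    exact ⟨U', hU', hle, by rw [e]; exact hx⟩

/-- **chart equation of `Proj(u ∘ v)` through `Proj(u)`** -/
theorem chart_comp_eq (hu' : ∀ U : Y.Opens, u'.app U = v.hom.app (op U) ≫ u.app U)
    (hP : RelProj.IsRelProj 𝒮 p chart) (hP' : RelProj.IsRelProj 𝒯 p' chart')
    (hPL : RelProj.IsRelProj 𝒮L pL chartL)
    {r : ((RelProj.domQ u pL chartL : PL.Opens) : Scheme.{u}) ⟶ P}
    (hr : RelProj.IsProjQMapOn u p chart pL chartL (RelProj.domQ u pL chartL) r)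
    {r' : ((RelProj.domQ u' pL chartL : PL.Opens) : Scheme.{u}) ⟶ P'}
    (hr' : RelProj.IsProjQMapOn u' p' chart' pL chartL (RelProj.domQ u' pL chartL) r')
    (U : Y.Opens) (hU : IsAffineOpen U) {d : ℕ} (hd : 0 < d)
    {y : 𝒯.presheaf.obj (op U)} (hy : y ∈ 𝒯.deg U hU d)
    {f : 𝒮.presheaf.obj (op U)} (hf : ψAt v hv U hU y = f) (hfmem : f ∈ 𝒮.deg U hU d)
    {Z : Scheme.{u}} (κ : Z ⟶ ((RelProj.domQ u pL chartL : PL.Opens) : Scheme.{u}))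
    (ρ : Z ⟶ Spec (.of (Away (𝒮.deg U hU) f)))
    (hρ : ρ ≫ stdChart p chart U hU hd hfmem = κ ≫ r)
    (κ' : Z ⟶ ((RelProj.domQ u' pL chartL : PL.Opens) : Scheme.{u}))
    (hκ' : κ' ≫ (RelProj.domQ u' pL chartL).ι = κ ≫ (RelProj.domQ u pL chartL).ι) :
    κ' ≫ r' = (ρ ≫ Spec.map (CommRingCat.ofHom (mapTo (ψAt v hv U hU) hf))) ≫
      stdChart p' chart' U hU hd hy := by
  subst hf
  have hle := domQ_comp_le (pL := pL) (chartL := chartL) u v hv u' hu'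
  obtain ⟨Φ, hΦ⟩ := exists_Φ v hv hP hP'
  obtain ⟨m, hm, hmΦ⟩ := exists_comp_lift u v hv u' hu' hP hP' hPL hr hr' hΦ hle
  have h1 : κ' ≫ PL.homOfLE hle = κ := by
    rw [← cancel_mono (RelProj.domQ u pL chartL).ι, Category.assoc, Scheme.homOfLE_ι, hκ']
  have hle0 : U ≤ (𝟙 Y : Y ⟶ Y) ⁻¹ᵁ U := le_rfl
  have hW := RelProj.range_awayEmb_subset_domQ (RelProj.QGrHom.ofHom v hv) p chart U hU U hU hle0
    hd y hy
  let c := IsOpenImmersion.lift (RelProj.domQ (RelProj.QGrHom.ofHom v hv) p chart).ι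
    (RelProj.awayEmb (RelProj.QGrHom.ofHom v hv) p chart U hU U hU hle0 hd y hy) hW
  have hc : c ≫ (RelProj.domQ (RelProj.QGrHom.ofHom v hv) p chart).ι =
      stdChart p chart U hU hd hfmem := IsOpenImmersion.lift_fac _ _ _
  have h2 : κ' ≫ m = ρ ≫ c := by
    rw [← cancel_mono (RelProj.domQ (RelProj.QGrHom.ofHom v hv) p chart).ι, Category.assoc, hm,
      ← Category.assoc, h1, Category.assoc, hc, hρ]
  have h3 := isQMapOnDiag_of_isProjQMapOn v hv chart' chart hΦ U hU d hd y hy c hc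
  rw [← hmΦ, ← Category.assoc, h2, Category.assoc, h3, mapTo_rfl, Category.assoc]

/-- **the pullback square of `Proj(u ∘ v)` over a standard chart** -/
theorem isPullback_chart_comp (hu' : ∀ U : Y.Opens, u'.app U = v.hom.app (op U) ≫ u.app U)
    (hP : RelProj.IsRelProj 𝒮 p chart) (hP' : RelProj.IsRelProj 𝒯 p' chart')
    (hPL : RelProj.IsRelProj 𝒮L pL chartL)
    {r : ((RelProj.domQ u pL chartL : PL.Opens) : Scheme.{u}) ⟶ P}
    (hr : RelProj.IsProjQMapOn u p chart pL chartL (RelProj.domQ u pL chartL) r)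
    {r' : ((RelProj.domQ u' pL chartL : PL.Opens) : Scheme.{u}) ⟶ P'}
    (hr' : RelProj.IsProjQMapOn u' p' chart' pL chartL (RelProj.domQ u' pL chartL) r')
    (U : Y.Opens) (hU : IsAffineOpen U) {d : ℕ} (hd : 0 < d)
    {y : 𝒯.presheaf.obj (op U)} (hy : y ∈ 𝒯.deg U hU d)
    {f : 𝒮.presheaf.obj (op U)} (hf : ψAt v hv U hU y = f) (hfmem : f ∈ 𝒮.deg U hU d)
    {Z : Scheme.{u}} (κ : Z ⟶ ((RelProj.domQ u pL chartL : PL.Opens) : Scheme.{u}))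
    [IsOpenImmersion κ]
    (ρ : Z ⟶ Spec (.of (Away (𝒮.deg U hU) f)))
    (hρ : ρ ≫ stdChart p chart U hU hd hfmem = κ ≫ r)
    (hrange : κ.opensRange = r ⁻¹ᵁ (stdChart p chart U hU hd hfmem).opensRange)
    (κ' : Z ⟶ ((RelProj.domQ u' pL chartL : PL.Opens) : Scheme.{u}))
    (hκ' : κ' ≫ (RelProj.domQ u' pL chartL).ι = κ ≫ (RelProj.domQ u pL chartL).ι) :
    IsPullback (ρ ≫ Spec.map (CommRingCat.ofHom (mapTo (ψAt v hv U hU) hf))) κ'
      (stdChart p' chart' U hU hd hy) r' := by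
  haveI : IsOpenImmersion κ' := by
    haveI : IsOpenImmersion (κ' ≫ (RelProj.domQ u' pL chartL).ι) := by
      rw [hκ']; infer_instance
    exact IsOpenImmersion.of_comp κ' (RelProj.domQ u' pL chartL).ι
  refine IsOpenImmersion.isPullback _ _ _ _
    (chart_comp_eq u v hv u' hu' hP hP' hPL hr hr' U hU hd hy hf hfmem κ ρ hρ κ' hκ') ?_
  have hL2 := image_preimage_comp_eq u v hv u' hu' hP hP' hPL hr hr' U hU hd hy
  rw [opensRange_stdChart]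
  rw [opensRange_stdChart] at hrange
  ext w
  constructor
  · intro hw
    have h1 : (RelProj.domQ u' pL chartL).ι.base w ∈ (RelProj.domQ u' pL chartL).ι ''ᵁ
        (r' ⁻¹ᵁ ((RelProj.emb p' chart' U hU) ''ᵁ Proj.basicOpen (𝒯.deg U hU) y)) :=
      ⟨w, hw, rfl⟩
    rw [hL2] at h1
    obtain ⟨w₀, hw₀, hw₀e⟩ := h1
    have h2 : w₀ ∈ κ.opensRange := by
      rw [hrange, ← hf]; exact hw₀
    obtain ⟨z, rfl⟩ := h2
    refine ⟨z, ?_⟩
    apply (RelProj.domQ u' pL chartL).ι.isOpenEmbedding.injective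
    rw [← Scheme.Hom.comp_apply, hκ', Scheme.Hom.comp_apply]
    exact hw₀e
  · rintro ⟨z, rfl⟩
    have h2 : κ.base z ∈ r ⁻¹ᵁ ((RelProj.emb p chart U hU) ''ᵁ
        Proj.basicOpen (𝒮.deg U hU) (ψAt v hv U hU y)) := by
      rw [hf, ← hrange]; exact ⟨z, rfl⟩
    have h1 : (RelProj.domQ u' pL chartL).ι.base (κ'.base z) ∈
        (RelProj.domQ u pL chartL).ι ''ᵁ (r ⁻¹ᵁ ((RelProj.emb p chart U hU) ''ᵁ
          Proj.basicOpen (𝒮.deg U hU) (ψAt v hv U hU y))) := by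
      rw [← Scheme.Hom.comp_apply, hκ', Scheme.Hom.comp_apply]
      exact ⟨_, h2, rfl⟩
    rw [← hL2] at h1
    obtain ⟨w₁, hw₁, hw₁e⟩ := h1
    have := (RelProj.domQ u' pL chartL).ι.isOpenEmbedding.injective hw₁e
    rw [← this]
    exact hw₁

end L2

end Groth.Agent.Helper13RL
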