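import Mathlib

set_option autoImplicit false

namespace Groth.Agent.Helper13RL

open CategoryTheory CategoryTheory.Limits AlgebraicGeometry Opposite TopologicalSpace

universe u

section Sharp

variable {Z : Scheme.{u}} {R : CommRingCat.{u}}

/-- the ring homomorphism corresponding to a morphism to an affine scheme -/
noncomputable def sharp (g : Z ⟶ Spec R) : R ⟶ Γ(Z, ⊤) := (Scheme.ΓSpecIso R).inv ≫ g.appTop

theorem sharp_comp (g : Z ⟶ Spec R) {R' : CommRingCat.{u}} (h : R' ⟶ R) :
    sharp (g ≫ Spec.map h) = h ≫ sharp g := by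
  unfold sharp
  rw [Scheme.Hom.comp_appTop, ← Category.assoc, ← Scheme.ΓSpecIso_inv_naturality, Category.assoc]

theorem surjective_ΓSpecIso_inv : Function.Surjective (Scheme.ΓSpecIso R).inv.hom := fun x =>
  ⟨(Scheme.ΓSpecIso R).hom.hom x, congr_arg (fun t => t.hom x) (Scheme.ΓSpecIso R).hom_inv_id⟩

theorem surjective_sharp_of_isClosedImmersion (g : Z ⟶ Spec R) [IsClosedImmersion g] :
    Function.Surjective (sharp g).hom := by
  have h2 := (IsClosedImmersion.isAffine_surjective_of_isAffine g).2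
  unfold sharp
  rw [CommRingCat.hom_comp, RingHom.coe_comp]
  exact h2.comp surjective_ΓSpecIso_inv

theorem isClosedImmersion_of_surjective_sharp [IsAffine Z] (g : Z ⟶ Spec R)
    (h : Function.Surjective (sharp g).hom) : IsClosedImmersion g := by
  refine IsClosedImmersion.of_surjective_of_isAffine g ?_
  intro b
  obtain ⟨a, rfl⟩ := h b
  exact ⟨(Scheme.ΓSpecIso R).inv.hom a, rfl⟩

theorem finiteType_sharp [IsAffine Z] (g : Z ⟶ Spec R) [LocallyOfFiniteType g] :
    (sharp g).hom.FiniteType := by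
  have h1 : g.appTop.hom.FiniteType :=
    (HasRingHomProperty.iff_of_isAffine (P := @LocallyOfFiniteType)).mp ‹_›
  unfold sharp
  rw [CommRingCat.hom_comp]
  exact h1.comp (RingHom.FiniteType.of_surjective _ surjective_ΓSpecIso_inv)

end Sharp

section Alg

/-- a finite-type quotient situation descends to a finite level of a directed exhaustion -/
theorem exists_closure_eq_top {A B R₀ : Type*} [CommRing A] [CommRing B] [CommRing R₀]
    {Λ : Type*} [Preorder Λ] [IsDirected Λ (· ≤ ·)] [Nonempty Λ]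
    (σ : A →+* B) (hσ : Function.Surjective σ) (M : Λ → Set A)
    (hmono : ∀ i j, i ≤ j → M i ⊆ M j) (hcov : ∀ a : A, ∃ i, a ∈ M i)
    (i₀ : Λ) (l₀ : R₀ →+* A) (hl₀ : Set.range l₀ ⊆ M i₀) (hft : (σ.comp l₀).FiniteType) :
    ∃ i, ∀ j, i ≤ j → Subring.closure (σ '' M j) = ⊤ := by
  classical
  letI := (σ.comp l₀).toAlgebra
  obtain ⟨s, hs⟩ := (hft : Algebra.FiniteType R₀ B).out
  have hchoose : ∀ b : B, ∃ i, ∃ a ∈ M i, σ a = b := by
    intro b
    obtain ⟨a, rfl⟩ := hσ b
    obtain ⟨i, hi⟩ := hcov a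
    exact ⟨i, a, hi, rfl⟩
  choose ib ab hab hσab using hchoose
  obtain ⟨i, hi⟩ := Finset.exists_le (s.image ib ∪ {i₀})
  refine ⟨i, fun j hij => ?_⟩
  rw [eq_top_iff]
  have h1 : (Algebra.adjoin R₀ (s : Set B)).toSubring ≤ Subring.closure (σ '' M j) := by
    rw [Algebra.adjoin_eq_ring_closure]
    refine Subring.closure_le.mpr ?_
    rintro b (⟨c, rfl⟩ | hb)
    · refine Subring.subset_closure ⟨l₀ c, ?_, rfl⟩
      exact hmono i₀ j ((hi i₀ (by simp)).trans hij) (hl₀ ⟨c, rfl⟩)
    · refine Subring.subset_closure ⟨ab b, ?_, hσab b⟩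
      refine hmono (ib b) j ((hi (ib b) ?_).trans hij) (hab b)
      exact Finset.mem_union_left _ (Finset.mem_image_of_mem _ hb)
  rw [hs] at h1
  exact h1

end Alg

end Groth.Agent.Helper13RL
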