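import Mathlib
import Groth.Agent.Lib.Helper13RLr
import Groth.Agent.Lib.Helper13RLs

set_option autoImplicit false

namespace Groth.Agent.Helper13RL

open CategoryTheory CategoryTheory.Limits AlgebraicGeometry Opposite TopologicalSpace
open HomogeneousLocalization
open scoped HomogeneousIdeal
open Groth.Agent.Helper13RelProj

universe u

section Pure

variable {A B σ τ : Type u} [CommRing A] [SetLike σ A] [AddSubgroupClass σ A]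
  [CommRing B] [SetLike τ B] [AddSubgroupClass τ B]
  {𝒜 : ℕ → σ} {ℬ : ℕ → τ} [GradedRing 𝒜] [GradedRing ℬ]

theorem awayMk_congr {d : ℕ} {f : B} (hf : f ∈ ℬ d) (k : ℕ) {a a' : B} (h : a = a')
    (ha : a ∈ ℬ (k • d)) : Away.mk ℬ hf k a ha = Away.mk ℬ hf k a' (h ▸ ha) := by
  subst h; rfl

theorem mapTo_mk (ψ : 𝒜 →+*ᵍ ℬ) {y : A} {f : B} (h : ψ y = f) {d : ℕ} (hy : y ∈ 𝒜 d)
    (hf : f ∈ ℬ d) (k : ℕ) (a : A) (ha : a ∈ 𝒜 (k • d)) :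
    mapTo ψ h (Away.mk 𝒜 hy k a ha) = Away.mk ℬ hf k (ψ a) (Graded.map_mem ψ ha) := by
  apply HomogeneousLocalization.val_injective
  rw [val_mapTo_mk ψ h hy k a ha, Away.val_mk]

/-- the elements of `ℬ_(f)` with numerator in the image of `ψ` -/
def awayImage (ψ : 𝒜 →+*ᵍ ℬ) {d : ℕ} {f : B} (hf : f ∈ ℬ d) : Set (Away ℬ f) :=
  {α | ∃ (k : ℕ) (a : A) (ha : a ∈ 𝒜 (k • d)),
    α = Away.mk ℬ hf k (ψ a) (Graded.map_mem ψ ha)}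

theorem range_mapTo (ψ : 𝒜 →+*ᵍ ℬ) {y : A} {f : B} (h : ψ y = f) {d : ℕ} (hy : y ∈ 𝒜 d)
    (hf : f ∈ ℬ d) : Set.range (mapTo ψ h) = awayImage ψ hf := by
  ext α
  constructor
  · rintro ⟨β, rfl⟩
    obtain ⟨k, a, ha, rfl⟩ := Away.mk_surjective 𝒜 hy β
    exact ⟨k, a, ha, mapTo_mk ψ h hy hf k a ha⟩
  · rintro ⟨k, a, ha, rfl⟩
    exact ⟨Away.mk 𝒜 hy k a ha, mapTo_mk ψ h hy hf k a ha⟩

end Pure

section Level

variable {Y : Scheme.{u}} {𝒮 : RelProj.QCGrAlg Y}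
  {Λ : Type u} [Preorder Λ]
  (𝒮i : Λ → RelProj.QCGrAlg Y) (φ : ∀ i, (𝒮i i).toQCAlg ⟶ 𝒮.toQCAlg)
  (hφ : ∀ i, RelProj.IsGradedHom (φ i))
  (t : ∀ i j, i ≤ j → ((𝒮i i).toQCAlg ⟶ (𝒮i j).toQCAlg))
  (ht : ∀ i j (h : i ≤ j), RelProj.IsGradedHom (t i j h))

include ht in
theorem ψAt_t (hφt : ∀ i j (h : i ≤ j), t i j h ≫ φ j = φ i) (i j : Λ) (h : i ≤ j)
    (U : Y.Opens) (hU : IsAffineOpen U) (a : (𝒮i i).presheaf.obj (op U)) :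
    ψAt (φ j) (hφ j) U hU (ψAt (t i j h) (ht i j h) U hU a) = ψAt (φ i) (hφ i) U hU a := by
  rw [ψAt_apply, ψAt_apply, ψAt_apply]
  exact congr_arg (fun s => (s.hom.app (op U)).hom a) (hφt i j h)

include ht in
theorem awayImage_mono (hφt : ∀ i j (h : i ≤ j), t i j h ≫ φ j = φ i) (i j : Λ) (h : i ≤ j)
    (U : Y.Opens) (hU : IsAffineOpen U) {d : ℕ} {f : 𝒮.presheaf.obj (op U)}
    (hf : f ∈ 𝒮.deg U hU d) :
    awayImage (ψAt (φ i) (hφ i) U hU) hf ⊆ awayImage (ψAt (φ j) (hφ j) U hU) hf := by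
  rintro _ ⟨k, a, ha, rfl⟩
  refine ⟨k, ψAt (t i j h) (ht i j h) U hU a, Graded.map_mem _ ha, ?_⟩
  exact awayMk_congr hf k (ψAt_t 𝒮i φ hφ t ht hφt i j h U hU a).symm _

theorem awayImage_cover
    (hsurj : ∀ (U : Y.Opens), IsAffineOpen U → ∀ x : 𝒮.presheaf.obj (op U),
      ∃ (i : Λ) (y : (𝒮i i).presheaf.obj (op U)), ((φ i).hom.app (op U)).hom y = x)
    (U : Y.Opens) (hU : IsAffineOpen U) {d : ℕ} {f : 𝒮.presheaf.obj (op U)}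
    (hf : f ∈ 𝒮.deg U hU d) (α : Away (𝒮.deg U hU) f) :
    ∃ i, α ∈ awayImage (ψAt (φ i) (hφ i) U hU) hf := by
  obtain ⟨k, a, ha, rfl⟩ := Away.mk_surjective (𝒮.deg U hU) hf α
  obtain ⟨i, y, hy⟩ := hsurj U hU a
  obtain ⟨y', hy'mem, hy'⟩ := exists_homogeneous_lift (ψAt (φ i) (hφ i) U hU) ha y
    ((ψAt_apply (φ i) (hφ i) U hU y).trans hy)
  exact ⟨i, k, y', hy'mem, awayMk_congr hf k hy'.symm _⟩

end Level

end Groth.Agent.Helper13RL
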