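import Mathlib
import Groth.Agent.Lib.Helper13RLt

set_option autoImplicit false

namespace Groth.Agent.Helper13RL

open CategoryTheory CategoryTheory.Limits AlgebraicGeometry Opposite TopologicalSpace
open HomogeneousLocalization
open scoped HomogeneousIdeal
open Groth.Agent.Helper13RelProj

universe u

section PerChart

variable {Y X : Scheme.{u}} {q : X ⟶ Y} {𝒮 : RelProj.QCGrAlg Y} {𝒮L : RelProj.QCGrAlg X}
  (u : RelProj.QGrHom q 𝒮 𝒮L)
  {P PL : Scheme.{u}} {p : P ⟶ Y}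
  {chart : ∀ (U : Y.Opens) (hU : IsAffineOpen U),
    ((p ⁻¹ᵁ U : P.Opens) : Scheme.{u}) ≅ Proj (𝒮.deg U hU)}
  {pL : PL ⟶ X}
  {chartL : ∀ (U : X.Opens) (hU : IsAffineOpen U),
    ((pL ⁻¹ᵁ U : PL.Opens) : Scheme.{u}) ≅ Proj (𝒮L.deg U hU)}
  {Λ : Type u} [Preorder Λ] [IsDirected Λ (· ≤ ·)] [Nonempty Λ]
  (𝒮i : Λ → RelProj.QCGrAlg Y) (φ : ∀ i, (𝒮i i).toQCAlg ⟶ 𝒮.toQCAlg)
  (hφ : ∀ i, RelProj.IsGradedHom (φ i))
  (t : ∀ i j, i ≤ j → ((𝒮i i).toQCAlg ⟶ (𝒮i j).toQCAlg))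
  (ht : ∀ i j (h : i ≤ j), RelProj.IsGradedHom (t i j h))
  (ui : ∀ i, RelProj.QGrHom q (𝒮i i) 𝒮L)
  {Pi : Λ → Scheme.{u}} {pi : ∀ i, Pi i ⟶ Y}
  {charti : ∀ i (U : Y.Opens) (hU : IsAffineOpen U),
    ((((pi i) ⁻¹ᵁ U : (Pi i).Opens) : Scheme.{u}) ≅ Proj ((𝒮i i).deg U hU))}

include ht in
/-- **finite-level closed immersions over a standard chart** -/
theorem exists_level_isClosedImmersion [LocallyOfFiniteType q] [IsIso pL]
    (hP : RelProj.IsRelProj 𝒮 p chart) (hPL : RelProj.IsRelProj 𝒮L pL chartL)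
    {r : ((RelProj.domQ u pL chartL : PL.Opens) : Scheme.{u}) ⟶ P}
    (hr : RelProj.IsProjQMapOn u p chart pL chartL (RelProj.domQ u pL chartL) r)
    [IsImmersion r]
    (hφt : ∀ i j (h : i ≤ j), t i j h ≫ φ j = φ i)
    (hsurj : ∀ (U : Y.Opens), IsAffineOpen U → ∀ x : 𝒮.presheaf.obj (op U),
      ∃ (i : Λ) (y : (𝒮i i).presheaf.obj (op U)), ((φ i).hom.app (op U)).hom y = x)
    (hui : ∀ i (U : Y.Opens), (ui i).app U = (φ i).hom.app (op U) ≫ u.app U)
    (hPi : ∀ i, RelProj.IsRelProj (𝒮i i) (pi i) (charti i))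
    {ri : ∀ i, ((RelProj.domQ (ui i) pL chartL : PL.Opens) : Scheme.{u}) ⟶ Pi i}
    (hri : ∀ i, RelProj.IsProjQMapOn (ui i) (pi i) (charti i) pL chartL
      (RelProj.domQ (ui i) pL chartL) (ri i))
    (U : Y.Opens) (hU : IsAffineOpen U) {d : ℕ} (hd : 0 < d)
    {f : 𝒮.presheaf.obj (op U)} (hf : f ∈ 𝒮.deg U hU d)
    (hD : (stdChart p chart U hU hd hf).opensRange ≤ r.coborderRange) :
    ∃ i₂, ∀ j, i₂ ≤ j → ∀ (y : (𝒮i j).presheaf.obj (op U)) (hy : y ∈ (𝒮i j).deg U hU d),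
      ψAt (φ j) (hφ j) U hU y = f →
      IsClosedImmersion (ri j ∣_ (stdChart (pi j) (charti j) U hU hd hy).opensRange) := by
  classical
  have hρ : pullback.snd r (stdChart p chart U hU hd hf) ≫ stdChart p chart U hU hd hf =
      pullback.fst r (stdChart p chart U hU hd hf) ≫ r := pullback.condition.symm
  have hrange : (pullback.fst r (stdChart p chart U hU hd hf)).opensRange =
      r ⁻¹ᵁ (stdChart p chart U hU hd hf).opensRange := Scheme.Hom.opensRange_pullbackFst _ _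
  have hpb : IsPullback (pullback.snd r (stdChart p chart U hU hd hf))
      (pullback.fst r (stdChart p chart U hU hd hf)) (stdChart p chart U hU hd hf) r :=
    (IsPullback.of_hasPullback r (stdChart p chart U hU hd hf)).flip
  haveI hci : IsClosedImmersion (pullback.snd r (stdChart p chart U hU hd hf)) :=
    (restrict_iff_of_isPullback @IsClosedImmersion hpb).mp
      (isClosedImmersion_restrict_of_le_coborder r _ hD)
  haveI hZ : IsAffine (pullback r (stdChart p chart U hU hd hf)) :=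
    (IsClosedImmersion.isAffine_surjective_of_isAffine
      (pullback.snd r (stdChart p chart U hU hd hf))).1
  have hσ := surjective_sharp_of_isClosedImmersion (pullback.snd r (stdChart p chart U hU hd hf))
  -- the lifts `κ'`
  have hκ' : ∀ j (y : (𝒮i j).presheaf.obj (op U)) (hy : y ∈ (𝒮i j).deg U hU d)
      (hyf : ψAt (φ j) (hφ j) U hU y = f),
      ∃ κ' : pullback r (stdChart p chart U hU hd hf) ⟶
          ((RelProj.domQ (ui j) pL chartL : PL.Opens) : Scheme.{u}),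
        κ' ≫ (RelProj.domQ (ui j) pL chartL).ι =
          pullback.fst r (stdChart p chart U hU hd hf) ≫ (RelProj.domQ u pL chartL).ι := by
    intro j y hy hyf
    have hL2 := image_preimage_comp_eq u (φ j) (hφ j) (ui j) (hui j) hP (hPi j) hPL hr (hri j)
      U hU hd hy
    refine ⟨IsOpenImmersion.lift (RelProj.domQ (ui j) pL chartL).ι
      (pullback.fst r (stdChart p chart U hU hd hf) ≫ (RelProj.domQ u pL chartL).ι) ?_,
      IsOpenImmersion.lift_fac _ _ _⟩
    rintro _ ⟨z, rfl⟩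
    rw [Scheme.Opens.range_ι]
    have h1 : (pullback.fst r (stdChart p chart U hU hd hf) ≫
        (RelProj.domQ u pL chartL).ι).base z ∈ (RelProj.domQ u pL chartL).ι ''ᵁ
        (r ⁻¹ᵁ ((RelProj.emb p chart U hU) ''ᵁ
          Proj.basicOpen (𝒮.deg U hU) (ψAt (φ j) (hφ j) U hU y))) := by
      rw [Scheme.Hom.comp_apply]
      refine ⟨(pullback.fst r (stdChart p chart U hU hd hf)).base z, ?_, rfl⟩
      have : (pullback.fst r (stdChart p chart U hU hd hf)).base z ∈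
          (pullback.fst r (stdChart p chart U hU hd hf)).opensRange := ⟨z, rfl⟩
      rw [hrange, opensRange_stdChart] at this
      rw [hyf]
      exact this
    rw [← hL2] at h1
    obtain ⟨w, -, hw⟩ := h1
    rw [← hw]
    exact w.2
  -- the pullback squares at finite level
  have hpbj : ∀ j (y : (𝒮i j).presheaf.obj (op U)) (hy : y ∈ (𝒮i j).deg U hU d)
      (hyf : ψAt (φ j) (hφ j) U hU y = f)
      (κ' : pullback r (stdChart p chart U hU hd hf) ⟶
          ((RelProj.domQ (ui j) pL chartL : PL.Opens) : Scheme.{u}))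
      (_ : κ' ≫ (RelProj.domQ (ui j) pL chartL).ι =
          pullback.fst r (stdChart p chart U hU hd hf) ≫ (RelProj.domQ u pL chartL).ι),
      IsPullback (pullback.snd r (stdChart p chart U hU hd hf) ≫
          Spec.map (CommRingCat.ofHom (mapTo (ψAt (φ j) (hφ j) U hU) hyf))) κ'
        (stdChart (pi j) (charti j) U hU hd hy) (ri j) := by
    intro j y hy hyf κ' hκ
    exact isPullback_chart_comp u (φ j) (hφ j) (ui j) (hui j) hP (hPi j) hPL hr (hri j) U hU hd hy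
      hyf hf _ _ hρ hrange κ' hκ
  -- a first level
  obtain ⟨i₀, y₀', hy₀'⟩ := hsurj U hU f
  obtain ⟨y₀, hy₀, hy₀f⟩ := exists_homogeneous_lift (ψAt (φ i₀) (hφ i₀) U hU) hf y₀'
    ((ψAt_apply (φ i₀) (hφ i₀) U hU y₀').trans hy₀')
  obtain ⟨κ₀, hκ₀⟩ := hκ' i₀ y₀ hy₀ hy₀f
  have hpb₀ := hpbj i₀ y₀ hy₀ hy₀f κ₀ hκ₀
  have hcomp : (pullback.snd r (stdChart p chart U hU hd hf) ≫
      Spec.map (CommRingCat.ofHom (mapTo (ψAt (φ i₀) (hφ i₀) U hU) hy₀f))) ≫
      (stdChart (pi i₀) (charti i₀) U hU hd hy₀ ≫ pi i₀) =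
      pullback.fst r (stdChart p chart U hU hd hf) ≫ (RelProj.domQ u pL chartL).ι ≫ pL ≫ q := by
    rw [← Category.assoc, hpb₀.w, Category.assoc, qmapOn_comp (ui i₀) (hPi i₀) hPL (hri i₀),
      ← Category.assoc, hκ₀, Category.assoc]
  haveI : LocallyOfFiniteType ((pullback.snd r (stdChart p chart U hU hd hf) ≫
      Spec.map (CommRingCat.ofHom (mapTo (ψAt (φ i₀) (hφ i₀) U hU) hy₀f))) ≫
      (stdChart (pi i₀) (charti i₀) U hU hd hy₀ ≫ pi i₀)) := by
    rw [hcomp]; infer_instance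
  haveI : LocallyOfFiniteType (pullback.snd r (stdChart p chart U hU hd hf) ≫
      Spec.map (CommRingCat.ofHom (mapTo (ψAt (φ i₀) (hφ i₀) U hU) hy₀f))) :=
    locallyOfFiniteType_of_comp _ (stdChart (pi i₀) (charti i₀) U hU hd hy₀ ≫ pi i₀)
  have hft := finiteType_sharp (pullback.snd r (stdChart p chart U hU hd hf) ≫
      Spec.map (CommRingCat.ofHom (mapTo (ψAt (φ i₀) (hφ i₀) U hU) hy₀f)))
  rw [sharp_comp, CommRingCat.hom_comp, CommRingCat.hom_ofHom] at hft
  obtain ⟨i₂, hi₂⟩ := exists_closure_eq_top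
    (sharp (pullback.snd r (stdChart p chart U hU hd hf))).hom hσ
    (fun i => awayImage (ψAt (φ i) (hφ i) U hU) hf)
    (fun i j h => awayImage_mono 𝒮i φ hφ t ht hφt i j h U hU hf)
    (fun α => awayImage_cover 𝒮i φ hφ hsurj U hU hf α) i₀
    (mapTo (ψAt (φ i₀) (hφ i₀) U hU) hy₀f)
    (by rw [range_mapTo _ hy₀f hy₀ hf]) hft
  refine ⟨i₂, fun j hj y hy hyf => ?_⟩
  obtain ⟨κ', hκ⟩ := hκ' j y hy hyf
  rw [restrict_iff_of_isPullback @IsClosedImmersion (hpbj j y hy hyf κ' hκ)]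
  apply isClosedImmersion_of_surjective_sharp
  rw [sharp_comp, CommRingCat.hom_comp, CommRingCat.hom_ofHom]
  have h1 := hi₂ j hj
  rw [← range_mapTo _ hyf hy hf, ← Set.range_comp] at h1
  have h2 : Subring.closure (Set.range ((sharp (pullback.snd r
      (stdChart p chart U hU hd hf))).hom ∘ (mapTo (ψAt (φ j) (hφ j) U hU) hyf))) =
      ((sharp (pullback.snd r (stdChart p chart U hU hd hf))).hom.comp
        (mapTo (ψAt (φ j) (hφ j) U hU) hyf)).range := by
    rw [← RingHom.coe_comp, ← RingHom.coe_range, Subring.closure_eq]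
  rw [h2] at h1
  exact RingHom.range_eq_top.mp h1

end PerChart

end Groth.Agent.Helper13RL
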