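import Mathlib
import Groth.Prelude.Def_GrSyz
import Groth.Prelude.Def_GrLC
import Groth.Agent.Lib.Helper13Horseshoe
import Groth.Agent.Lib.Helper13MinRes

/-!
# Regularity in short exact sequences (via the horseshoe resolution and homotopy invariance)
-/

set_option autoImplicit false
universe u

namespace Groth.Agent.Helper13RegSES

open MvPolynomial Groth.Agent.Helper13Hilb Groth.Agent.Helper13Betti Groth.Agent.Helper13Horseshoe

section L

variable {k : Type u} [Field k] {σ : Type}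
  {M : Type u} [AddCommGroup M] [Module k M] [Module (MvPolynomial σ k) M]
  [IsScalarTower k (MvPolynomial σ k) M]
  {ℳ : ℤ → Submodule k M} [DirectSum.Decomposition ℳ] [SetLike.GradedSMul (GrSyz.stdGr k σ) ℳ]

/-- the constant coefficient as a ring homomorphism -/
noncomputable abbrev ε : MvPolynomial σ k →+* k := MvPolynomial.constantCoeff

theorem ε_mulVec {m n : ℕ} (D : Matrix (Fin m) (Fin n) (MvPolynomial σ k))
    (v : Fin n → MvPolynomial σ k) (a : Fin m) :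
    ε (D.mulVec v a) = ((D.map ε).mulVec (fun b => ε (v b))) a :=
  RingHom.map_mulVec ε D v a

variable (T F : GrSyz.FreeRes (GrSyz.stdGr k σ) ℳ)

/-- the composite comparison `T → F → T`. -/
noncomputable def Θ (i : ℕ) : Matrix (Fin (T.rk i)) (Fin (T.rk i)) (MvPolynomial σ k) :=
  (cmp F T i).Φ * (cmp T F i).Φ

theorem Θ_zero (v : Fin (T.rk 0) → MvPolynomial σ k) :
    T.augLin ((Θ T F 0).mulVec v) = T.augLin v := by
  unfold Θ
  rw [← Matrix.mulVec_mulVec, cmp_zero_spec F T, cmp_zero_spec T F]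

theorem Θ_succ (i : ℕ) : T.d i * Θ T F (i + 1) = Θ T F i * T.d i := by
  unfold Θ
  rw [← Matrix.mul_assoc, cmp_succ_spec F T i, Matrix.mul_assoc, cmp_succ_spec T F i,
    Matrix.mul_assoc]

/-- if `F` has no generator of degree `j` in homological degree `i`, the composite comparison
kills, modulo the irrelevant ideal, every vector supported in degree `j`. -/
theorem ε_Θ_eq_zero (i : ℕ) (j : ℤ) (hj : ∀ a : Fin (F.rk i), F.deg i a ≠ j)
    (z : Fin (T.rk i) → k) (hz : ∀ b, z b ≠ 0 → T.deg i b = j) (a : Fin (T.rk i)) :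
    ε ((Θ T F i).mulVec (fun b => C (z b)) a) = 0 := by
  have h1 : ∀ a', ((cmp T F i).Φ.mulVec (fun b => C (z b))) a' ∈ RingHom.ker (ε (k := k) (σ := σ)) := by
    intro a'
    rw [RingHom.mem_ker, ε_mulVec]
    rw [Matrix.mulVec, dotProduct]
    refine Finset.sum_eq_zero (fun b _ => ?_)
    by_cases hb : z b = 0
    · simp [hb]
    · have hdeg := hz b hb
      have hmem := (cmp T F i).hom a' b
      have hne : T.deg i b - F.deg i a' ≠ 0 := by
        rw [hdeg]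
        exact sub_ne_zero.2 (hj a').symm
      rw [Matrix.map_apply]
      have : ε ((cmp T F i).Φ a' b) = 0 := constantCoeff_eq_zero_of_mem_stdGr hne hmem
      rw [this, zero_mul]
  unfold Θ
  rw [← Matrix.mulVec_mulVec]
  have h2 := linearMap_mem_of_coords (RingHom.ker (ε (k := k) (σ := σ)))
    (Matrix.mulVecLin (cmp F T i).Φ) _ h1 a
  exact h2

theorem boundary_zero (j : ℤ) (hj : ∀ a : Fin (F.rk 0), F.deg 0 a ≠ j)
    (z : Fin (T.rk 0) → k) (hz : ∀ b, z b ≠ 0 → T.deg 0 b = j) :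
    ∃ y : Fin (T.rk 1) → k, ((T.d 0).map ε).mulVec y = z := by
  obtain ⟨hd0, -⟩ := homotopy_decomp T (Θ T F) (Θ_zero T F) (Θ_succ T F)
  obtain ⟨y, hy⟩ := hd0 (fun b => C (z b))
  refine ⟨fun b => - ε (y b), ?_⟩
  funext a
  have h1 := ε_Θ_eq_zero T F 0 j hj z hz a
  rw [hy, Pi.add_apply, map_add, ε_mulVec] at h1
  have h2 : ε (C (z a) : MvPolynomial σ k) = z a := MvPolynomial.constantCoeff_C _ _
  rw [h2] at h1
  have h3 : ((T.d 0).map ε).mulVec (fun b => - ε (y b)) = - ((T.d 0).map ε).mulVec (fun b => ε (y b)) := by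
    have : (fun b => - ε (y b)) = - (fun b => ε (y b)) := rfl
    rw [this, Matrix.mulVec_neg]
  rw [h3, Pi.neg_apply]
  linear_combination (-1 : k) * h1

theorem boundary_succ (i : ℕ) (j : ℤ) (hj : ∀ a : Fin (F.rk (i + 1)), F.deg (i + 1) a ≠ j)
    (z : Fin (T.rk (i + 1)) → k) (hz : ∀ b, z b ≠ 0 → T.deg (i + 1) b = j)
    (hcyc : ((T.d i).map ε).mulVec z = 0) :
    ∃ y : Fin (T.rk (i + 1 + 1)) → k, ((T.d (i + 1)).map ε).mulVec y = z := by
  obtain ⟨-, hds⟩ := homotopy_decomp T (Θ T F) (Θ_zero T F) (Θ_succ T F)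
  obtain ⟨g, hg⟩ := hds i
  obtain ⟨y, hy⟩ := hg (fun b => C (z b))
  refine ⟨fun b => - ε (y b), ?_⟩
  funext a
  have h1 := ε_Θ_eq_zero T F (i + 1) j hj z hz a
  have hcoords : ∀ c, ((T.d i).mulVec (fun b => C (z b))) c ∈ RingHom.ker (ε (k := k) (σ := σ)) := by
    intro c
    rw [RingHom.mem_ker, ε_mulVec]
    have e : (fun b => ε (C (z b) : MvPolynomial σ k)) = z := by
      funext b
      exact MvPolynomial.constantCoeff_C _ _
    rw [e, hcyc]
    rfl
  have hg0 : ε (g ((T.d i).mulVec (fun b => C (z b))) a) = 0 :=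
    linearMap_mem_of_coords (RingHom.ker (ε (k := k) (σ := σ))) g _ hcoords a
  rw [hy, Pi.add_apply, Pi.add_apply, map_add, map_add, hg0, zero_add, ε_mulVec] at h1
  have h2 : ε (C (z a) : MvPolynomial σ k) = z a := MvPolynomial.constantCoeff_C _ _
  rw [h2] at h1
  have h3 : ((T.d (i + 1)).map ε).mulVec (fun b => - ε (y b)) =
      - ((T.d (i + 1)).map ε).mulVec (fun b => ε (y b)) := by
    have : (fun b => - ε (y b)) = - (fun b => ε (y b)) := rfl
    rw [this, Matrix.mulVec_neg]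
  rw [h3, Pi.neg_apply]
  linear_combination (-1 : k) * h1

end L

section consequences

variable {k : Type u} [Field k] {σ : Type}
  {M : Type u} [AddCommGroup M] [Module k M] [Module (MvPolynomial σ k) M]
  [IsScalarTower k (MvPolynomial σ k) M]
  {ℳ : ℤ → Submodule k M} [DirectSum.Decomposition ℳ] [SetLike.GradedSMul (GrSyz.stdGr k σ) ℳ]
  {N : Type u} [AddCommGroup N] [Module k N] [Module (MvPolynomial σ k) N]
  [IsScalarTower k (MvPolynomial σ k) N]
  {𝒩 : ℤ → Submodule k N} [DirectSum.Decomposition 𝒩] [SetLike.GradedSMul (GrSyz.stdGr k σ) 𝒩]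
  {g : M →ₗ[MvPolynomial σ k] N} {A : SubRes (GrSyz.stdGr k σ) ℳ (LinearMap.ker g)}
  {B : GrSyz.FreeRes (GrSyz.stdGr k σ) 𝒩}
  (H : HData g A B) (F : GrSyz.FreeRes (GrSyz.stdGr k σ) ℳ)

theorem ε_eq_zero_of_mem_irrel {p : MvPolynomial σ k}
    (hp : p ∈ (GrSyz.irrel (GrSyz.stdGr k σ)).toIdeal) : ε p = 0 := by
  rw [Groth.Agent.Helper13FreeRes.irrel_stdGr_eq_ker] at hp
  exact hp

theorem ε_eq_zero_of_mem_stdGr {n : ℤ} (hn : n ≠ 0) {p : MvPolynomial σ k}
    (hp : p ∈ GrSyz.stdGr k σ n) : ε p = 0 :=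
  constantCoeff_eq_zero_of_mem_stdGr hn hp

include H in
/-- `reg M₁ ≤ max (reg M₂, reg M₃ + 1)` -/
theorem sub_genLE (hA : A.IsMinimal (GrSyz.irrel (GrSyz.stdGr k σ)).toIdeal) (r : ℤ)
    (hF : F.IsGenLE r) (hB : ∀ i c, B.deg (i + 1) c ≤ r + i) :
    ∀ i a, A.deg i a ≤ r + i := by
  classical
  intro i a₀
  by_contra hlt
  push Not at hlt
  obtain ⟨j, hjdef⟩ : ∃ j, j = A.deg i a₀ := ⟨_, rfl⟩
  have hj : ∀ a : Fin (F.rk i), F.deg i a ≠ j := by
    intro a
    have := hF i a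
    omega
  let z : Fin ((horseshoe H).rk i) → k := Pi.single (Fin.castAdd (B.rk i) a₀) 1
  have hz : ∀ b, z b ≠ 0 → (horseshoe H).deg i b = j := by
    intro b hb
    have hb' : b = Fin.castAdd (B.rk i) a₀ := by
      by_contra hne
      exact hb (Pi.single_eq_of_ne hne _)
    rw [hb', hjdef]
    exact Fin.append_left _ _ _
  have hθ0 : ∀ c, ε (H.θ i a₀ c) = 0 := by
    intro c
    refine ε_eq_zero_of_mem_stdGr ?_ (H.θ_mem i a₀ c)
    have := hB i c
    omega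
  have hA0 : ∀ c, ε (A.d i a₀ c) = 0 := fun c => ε_eq_zero_of_mem_irrel (hA i a₀ c)
  have hfinal : ∀ y : Fin ((horseshoe H).rk (i + 1)) → k,
      (((horseshoe H).d i).map ε).mulVec y ≠ z := by
    intro y hy
    have h1 := congrFun hy (Fin.castAdd (B.rk i) a₀)
    have h2 : (((horseshoe H).d i).map ε).mulVec y (Fin.castAdd (B.rk i) a₀) = 0 :=
      blk_map_mulVec_left (A.d i) (H.θ i) (B.d i) ε a₀ hA0 hθ0 y
    rw [h2] at h1
    have h3 : z (Fin.castAdd (B.rk i) a₀) = 1 := Pi.single_eq_same _ _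
    rw [h3] at h1
    exact zero_ne_one h1
  cases i with
  | zero =>
    obtain ⟨y, hy⟩ := boundary_zero (horseshoe H) F j hj z hz
    exact hfinal y hy
  | succ i =>
    have hcyc : (((horseshoe H).d i).map ε).mulVec z = 0 :=
      blk_map_mulVec_single_left (A.d i) (H.θ i) (B.d i) ε a₀
        (fun a => ε_eq_zero_of_mem_irrel (hA i a a₀))
    obtain ⟨y, hy⟩ := boundary_succ (horseshoe H) F i j hj z hz hcyc
    exact hfinal y hy

include H in
/-- `reg M₃ ≤ max (reg M₁ - 1, reg M₂)` -/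
theorem quot_genLE (hBmin : B.IsMinimal (GrSyz.irrel (GrSyz.stdGr k σ)).toIdeal) (r : ℤ)
    (hF : F.IsGenLE r) (hA : ∀ i a, A.deg i a ≤ r + 1 + i) : B.IsGenLE r := by
  classical
  intro i c₀
  by_contra hlt
  push Not at hlt
  obtain ⟨j, hjdef⟩ : ∃ j, j = B.deg i c₀ := ⟨_, rfl⟩
  have hj : ∀ a : Fin (F.rk i), F.deg i a ≠ j := by
    intro a
    have := hF i a
    omega
  let z : Fin ((horseshoe H).rk i) → k := Pi.single (Fin.natAdd (A.rk i) c₀) 1
  have hz : ∀ b, z b ≠ 0 → (horseshoe H).deg i b = j := by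
    intro b hb
    have hb' : b = Fin.natAdd (A.rk i) c₀ := by
      by_contra hne
      exact hb (Pi.single_eq_of_ne hne _)
    rw [hb', hjdef]
    exact Fin.append_right _ _ _
  have hB0 : ∀ c, ε (B.d i c₀ c) = 0 := fun c => ε_eq_zero_of_mem_irrel (hBmin i c₀ c)
  have hfinal : ∀ y : Fin ((horseshoe H).rk (i + 1)) → k,
      (((horseshoe H).d i).map ε).mulVec y ≠ z := by
    intro y hy
    have h1 := congrFun hy (Fin.natAdd (A.rk i) c₀)
    have h2 : (((horseshoe H).d i).map ε).mulVec y (Fin.natAdd (A.rk i) c₀) = 0 :=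
      blk_map_mulVec_right (A.d i) (H.θ i) (B.d i) ε c₀ hB0 y
    rw [h2] at h1
    have h3 : z (Fin.natAdd (A.rk i) c₀) = 1 := Pi.single_eq_same _ _
    rw [h3] at h1
    exact zero_ne_one h1
  cases i with
  | zero =>
    obtain ⟨y, hy⟩ := boundary_zero (horseshoe H) F j hj z hz
    exact hfinal y hy
  | succ i =>
    have hcyc : (((horseshoe H).d i).map ε).mulVec z = 0 :=
      blk_map_mulVec_single_right (A.d i) (H.θ i) (B.d i) ε c₀
        (fun a => by
          refine ε_eq_zero_of_mem_stdGr ?_ (H.θ_mem i a c₀)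
          have := hA i a
          push_cast at hlt
          omega)
        (fun a => ε_eq_zero_of_mem_irrel (hBmin i a c₀))
    obtain ⟨y, hy⟩ := boundary_succ (horseshoe H) F i j hj z hz hcyc
    exact hfinal y hy

include H in
/-- `reg M₂ ≤ max (reg M₁, reg M₃)` -/
theorem mid_genLE (hFmin : F.IsMinimal (GrSyz.irrel (GrSyz.stdGr k σ)).toIdeal) (r : ℤ)
    (hA : ∀ i a, A.deg i a ≤ r + i) (hB : B.IsGenLE r) : F.IsGenLE r := by
  classical
  intro i a₀
  by_contra hlt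
  push Not at hlt
  have h1 := betti_le F (horseshoe H) hFmin i (F.deg i a₀)
  have h2 : 0 < F.betti i (F.deg i a₀) := by
    unfold GrSyz.FreeRes.betti
    rw [Finset.card_pos]
    exact ⟨a₀, Finset.mem_filter.2 ⟨Finset.mem_univ _, rfl⟩⟩
  have h3 : (horseshoe H).betti i (F.deg i a₀) = 0 := by
    unfold GrSyz.FreeRes.betti
    rw [Finset.card_eq_zero, Finset.filter_eq_empty_iff]
    intro b _
    refine Fin.addCases (fun b₁ => ?_) (fun b₂ => ?_) b
    · have e : (horseshoe H).deg i (Fin.castAdd (B.rk i) b₁) = A.deg i b₁ := Fin.append_left _ _ _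
      rw [e]
      have := hA i b₁
      omega
    · have e : (horseshoe H).deg i (Fin.natAdd (A.rk i) b₂) = B.deg i b₂ := Fin.append_right _ _ _
      rw [e]
      have := hB i b₂
      omega
  omega

end consequences

section ses

variable {k : Type u} [Field k] {σ : Type} [Finite σ]
  {M₁ : Type u} [AddCommGroup M₁] [Module k M₁] [Module (MvPolynomial σ k) M₁]
  [IsScalarTower k (MvPolynomial σ k) M₁] [Module.Finite (MvPolynomial σ k) M₁]
  {ℳ₁ : ℤ → Submodule k M₁} [DirectSum.Decomposition ℳ₁]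
  [SetLike.GradedSMul (GrSyz.stdGr k σ) ℳ₁]
  {M : Type u} [AddCommGroup M] [Module k M] [Module (MvPolynomial σ k) M]
  [IsScalarTower k (MvPolynomial σ k) M] [Module.Finite (MvPolynomial σ k) M]
  {ℳ : ℤ → Submodule k M} [DirectSum.Decomposition ℳ] [SetLike.GradedSMul (GrSyz.stdGr k σ) ℳ]
  {N : Type u} [AddCommGroup N] [Module k N] [Module (MvPolynomial σ k) N]
  [IsScalarTower k (MvPolynomial σ k) N] [Module.Finite (MvPolynomial σ k) N]
  {𝒩 : ℤ → Submodule k N} [DirectSum.Decomposition 𝒩] [SetLike.GradedSMul (GrSyz.stdGr k σ) 𝒩]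
  (f : M₁ →ₗ[MvPolynomial σ k] M) (g : M →ₗ[MvPolynomial σ k] N)
  (hf : Function.Injective f) (hg : Function.Surjective g)
  (hfg : LinearMap.range f = LinearMap.ker g) (e : ℤ)
  (hfe : ∀ (d : ℤ) (m : M₁), m ∈ ℳ₁ d → f m ∈ ℳ (d + e)) (hgg : GrLC.IsGrHom ℳ 𝒩 g)

include hf hg hfg hfe hgg

theorem ses_sub (r : ℤ) (h2 : GrSyz.IsRegLE (GrSyz.stdGr k σ) ℳ (GrSyz.irrel (GrSyz.stdGr k σ)).toIdeal r)
    (h3 : GrSyz.IsRegLE (GrSyz.stdGr k σ) 𝒩 (GrSyz.irrel (GrSyz.stdGr k σ)).toIdeal (r - 1)) :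
    GrSyz.IsRegLE (GrSyz.stdGr k σ) ℳ₁ (GrSyz.irrel (GrSyz.stdGr k σ)).toIdeal (r - e) := by
  obtain ⟨F, hFmin, hF⟩ := h2
  obtain ⟨B, hBmin, hB⟩ := h3
  obtain ⟨F₁, hF₁⟩ := Groth.Agent.Helper13MinRes.exists_freeRes_isMinimal (k := k) (σ := σ) ℳ₁
  let A : SubRes (GrSyz.stdGr k σ) ℳ (LinearMap.ker g) :=
    SubRes.ofFreeRes F₁ f hf e hfe (LinearMap.ker g) hfg
  obtain ⟨H⟩ := exists_hData (A := A) (B := B) hg hgg
  have hA : A.IsMinimal (GrSyz.irrel (GrSyz.stdGr k σ)).toIdeal := hF₁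
  have key := sub_genLE H F hA r hF (fun i c => by
    have := hB (i + 1) c
    push_cast at this
    omega)
  refine ⟨F₁, hF₁, fun i a => ?_⟩
  have h := key i a
  have e' : A.deg i a = F₁.deg i a + e := rfl
  rw [e'] at h
  omega

theorem ses_mid (r : ℤ) (h1 : GrSyz.IsRegLE (GrSyz.stdGr k σ) ℳ₁ (GrSyz.irrel (GrSyz.stdGr k σ)).toIdeal (r - e))
    (h3 : GrSyz.IsRegLE (GrSyz.stdGr k σ) 𝒩 (GrSyz.irrel (GrSyz.stdGr k σ)).toIdeal r) :
    GrSyz.IsRegLE (GrSyz.stdGr k σ) ℳ (GrSyz.irrel (GrSyz.stdGr k σ)).toIdeal r := by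
  obtain ⟨F₁, hF₁min, hF₁⟩ := h1
  obtain ⟨B, hBmin, hB⟩ := h3
  obtain ⟨F, hF⟩ := Groth.Agent.Helper13MinRes.exists_freeRes_isMinimal (k := k) (σ := σ) ℳ
  let A : SubRes (GrSyz.stdGr k σ) ℳ (LinearMap.ker g) :=
    SubRes.ofFreeRes F₁ f hf e hfe (LinearMap.ker g) hfg
  obtain ⟨H⟩ := exists_hData (A := A) (B := B) hg hgg
  refine ⟨F, hF, mid_genLE H F hF r (fun i a => ?_) hB⟩
  have h := hF₁ i a
  have e' : A.deg i a = F₁.deg i a + e := rfl
  rw [e']
  omega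

theorem ses_quot (r : ℤ) (h1 : GrSyz.IsRegLE (GrSyz.stdGr k σ) ℳ₁ (GrSyz.irrel (GrSyz.stdGr k σ)).toIdeal (r + 1 - e))
    (h2 : GrSyz.IsRegLE (GrSyz.stdGr k σ) ℳ (GrSyz.irrel (GrSyz.stdGr k σ)).toIdeal r) :
    GrSyz.IsRegLE (GrSyz.stdGr k σ) 𝒩 (GrSyz.irrel (GrSyz.stdGr k σ)).toIdeal r := by
  obtain ⟨F₁, hF₁min, hF₁⟩ := h1
  obtain ⟨F, hFmin, hF⟩ := h2
  obtain ⟨B, hB⟩ := Groth.Agent.Helper13MinRes.exists_freeRes_isMinimal (k := k) (σ := σ) 𝒩
  let A : SubRes (GrSyz.stdGr k σ) ℳ (LinearMap.ker g) :=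
    SubRes.ofFreeRes F₁ f hf e hfe (LinearMap.ker g) hfg
  obtain ⟨H⟩ := exists_hData (A := A) (B := B) hg hgg
  refine ⟨B, hB, quot_genLE H F hB r hF (fun i a => ?_)⟩
  have h := hF₁ i a
  have e' : A.deg i a = F₁.deg i a + e := rfl
  rw [e']
  omega

end ses

end Groth.Agent.Helper13RegSES
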