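import Mathlib
import Groth.Prelude.Def_GrSyz
import Groth.Prelude.Def_GrLC
import Groth.Agent.Lib.Helper13RegSES
import Groth.Agent.Lib.Helper13GrQuotMod
import Groth.Agent.Lib.Helper13Syzygy
import Groth.Agent.S15436

/-!
# Regularity and regular sequences of linear forms
-/

set_option autoImplicit false
universe u

namespace Groth.Agent.Helper13RegLin

open MvPolynomial Groth.Agent.Helper13Hilb Groth.Agent.Helper13Horseshoe
  Groth.Agent.Helper13RegSES Groth.Agent.Helper13GrQuotMod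

section basics

variable {k : Type u} [Field k] {R : Type u} [CommRing R] [Algebra k R]
  {𝒜 : ℤ → Submodule k R} [GradedAlgebra 𝒜]
  {M : Type u} [AddCommGroup M] [Module k M] [Module R M] [IsScalarTower k R M]
  {ℳ : ℤ → Submodule k M} [DirectSum.Decomposition ℳ] [SetLike.GradedSMul 𝒜 ℳ]

/-- a resolution of the whole module, as a `FreeRes`. -/
def toFreeRes (A : SubRes 𝒜 ℳ ⊤) : GrSyz.FreeRes 𝒜 ℳ where
  rk := A.rk
  deg := A.deg
  d := A.d
  aug := A.aug
  d_mem := A.d_mem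
  aug_mem := A.aug_mem
  aug_surjective := by
    rw [← LinearMap.range_eq_top]
    exact A.range_aug
  exact_zero := A.exact_zero
  exact_succ := A.exact_succ

theorem isRegLE_mono (𝔪 : Ideal R) {r r' : ℤ} (h : r ≤ r') (H : GrSyz.IsRegLE 𝒜 ℳ 𝔪 r) :
    GrSyz.IsRegLE 𝒜 ℳ 𝔪 r' := by
  obtain ⟨F, hF, hg⟩ := H
  exact ⟨F, hF, fun i b => (hg i b).trans (by omega)⟩

variable {N : Type u} [AddCommGroup N] [Module k N] [Module R N] [IsScalarTower k R N]
  {𝒩 : ℤ → Submodule k N} [DirectSum.Decomposition 𝒩] [SetLike.GradedSMul 𝒜 𝒩]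

theorem isRegLE_of_equiv (𝔪 : Ideal R) (e : M ≃ₗ[R] N) (he : GrLC.IsGrHom ℳ 𝒩 e.toLinearMap)
    (r : ℤ) (H : GrSyz.IsRegLE 𝒜 ℳ 𝔪 r) : GrSyz.IsRegLE 𝒜 𝒩 𝔪 r := by
  obtain ⟨F, hF, hg⟩ := H
  let A : SubRes 𝒜 𝒩 ⊤ := SubRes.ofFreeRes F e.toLinearMap e.injective 0
    (fun d m hm => by rw [add_zero]; exact he d m hm) ⊤
    (LinearMap.range_eq_top.2 e.surjective)
  refine ⟨toFreeRes A, hF, fun i b => ?_⟩
  have h1 : (toFreeRes A).deg i b = F.deg i b + 0 := rfl
  rw [h1, add_zero]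
  exact hg i b

theorem isRegLE_iff_of_bijective (𝔪 : Ideal R) (π : M →ₗ[R] N) (hπ : Function.Bijective π)
    (hπg : GrLC.IsGrHom ℳ 𝒩 π) (r : ℤ) :
    GrSyz.IsRegLE 𝒜 ℳ 𝔪 r ↔ GrSyz.IsRegLE 𝒜 𝒩 𝔪 r := by
  let e : M ≃ₗ[R] N := LinearEquiv.ofBijective π hπ
  constructor
  · exact isRegLE_of_equiv 𝔪 e hπg r
  · refine isRegLE_of_equiv 𝔪 e.symm ?_ r
    intro d x hx
    obtain ⟨m, hm, rfl⟩ := exists_homog_preimage π hπ.2 hπg d x hx
    have : e.symm (π m) = m := e.symm_apply_apply m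
    show e.symm (π m) ∈ ℳ d
    rw [this]
    exact hm

end basics

section linear

variable {k : Type u} [Field k] {n : ℕ}
  {M : Type u} [AddCommGroup M] [Module k M] [Module (MvPolynomial (Fin (n + 1)) k) M]
  [IsScalarTower k (MvPolynomial (Fin (n + 1)) k) M]
  [Module.Finite (MvPolynomial (Fin (n + 1)) k) M]
  {ℳ : ℤ → Submodule k M} [DirectSum.Decomposition ℳ]
  [SetLike.GradedSMul (GrSyz.stdGr k (Fin (n + 1))) ℳ]

theorem hasLengthLE_of_isMinimal (F : GrSyz.FreeRes (GrSyz.stdGr k (Fin (n + 1))) ℳ)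
    (hF : F.IsMinimal (GrSyz.irrel (GrSyz.stdGr k (Fin (n + 1)))).toIdeal) :
    F.HasLengthLE (n + 1) := by
  intro i hi
  have h1 := Groth.Agent.S15436.result k n M ℳ F hF i
  have h2 := Groth.Agent.Helper13Syzygy.isZero_tor_residue k (n + 1)
    (ModuleCat.of (MvPolynomial (Fin (n + 1)) k) M) i hi
  have h3 := ModuleCat.subsingleton_of_isZero h2
  rw [Module.length_eq_zero] at h1
  exact_mod_cast h1.symm

variable (ℳ) in
theorem exists_isRegLE : ∃ r₀ : ℤ, GrSyz.IsRegLE (GrSyz.stdGr k (Fin (n + 1))) ℳ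
    (GrSyz.irrel (GrSyz.stdGr k (Fin (n + 1)))).toIdeal r₀ := by
  obtain ⟨F, hF⟩ := Groth.Agent.Helper13MinRes.exists_freeRes_isMinimal (k := k)
    (σ := Fin (n + 1)) ℳ
  have hlen := hasLengthLE_of_isMinimal F hF
  refine ⟨∑ i ∈ Finset.range (n + 2), ∑ b, |F.deg i b|, F, hF, fun i b => ?_⟩
  by_cases hi : n + 1 < i
  · have := hlen i hi
    exact (Fin.cast this b).elim0
  · have h1 : F.deg i b ≤ |F.deg i b| := le_abs_self _
    have h2 : |F.deg i b| ≤ ∑ b, |F.deg i b| :=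
      Finset.single_le_sum (f := fun b => |F.deg i b|) (fun _ _ => abs_nonneg _)
        (Finset.mem_univ b)
    have h3 : ∑ b, |F.deg i b| ≤ ∑ i ∈ Finset.range (n + 2), ∑ b, |F.deg i b| :=
      Finset.single_le_sum (f := fun i => ∑ b, |F.deg i b|)
        (fun _ _ => Finset.sum_nonneg (fun _ _ => abs_nonneg _))
        (Finset.mem_range.2 (by omega))
    have h4 : (0 : ℤ) ≤ i := Int.natCast_nonneg i
    omega

variable {N : Type u} [AddCommGroup N] [Module k N] [Module (MvPolynomial (Fin (n + 1)) k) N]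
  [IsScalarTower k (MvPolynomial (Fin (n + 1)) k) N]
  [Module.Finite (MvPolynomial (Fin (n + 1)) k) N]
  {𝒩 : ℤ → Submodule k N} [DirectSum.Decomposition 𝒩]
  [SetLike.GradedSMul (GrSyz.stdGr k (Fin (n + 1))) 𝒩]

/-- going modulo a regular linear form does not change the regularity. -/
theorem isRegLE_iff_of_linear_regular (x : MvPolynomial (Fin (n + 1)) k)
    (hx : x ∈ GrSyz.stdGr k (Fin (n + 1)) 1) (hreg : IsSMulRegular M x)
    (π : M →ₗ[MvPolynomial (Fin (n + 1)) k] N) (hπ : Function.Surjective π)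
    (hπg : GrLC.IsGrHom ℳ 𝒩 π) (hker : ∀ m, π m = 0 ↔ ∃ m', x • m' = m) (r : ℤ) :
    GrSyz.IsRegLE (GrSyz.stdGr k (Fin (n + 1))) ℳ
        (GrSyz.irrel (GrSyz.stdGr k (Fin (n + 1)))).toIdeal r ↔
      GrSyz.IsRegLE (GrSyz.stdGr k (Fin (n + 1))) 𝒩
        (GrSyz.irrel (GrSyz.stdGr k (Fin (n + 1)))).toIdeal r := by
  let f : M →ₗ[MvPolynomial (Fin (n + 1)) k] M :=
    LinearMap.lsmul (MvPolynomial (Fin (n + 1)) k) M x
  have hf : Function.Injective f := hreg
  have hfg : LinearMap.range f = LinearMap.ker π := by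
    ext m
    rw [LinearMap.mem_ker, hker]
    rfl
  have hfe : ∀ (d : ℤ) (m : M), m ∈ ℳ d → f m ∈ ℳ (d + 1) := by
    intro d m hm
    have h := SetLike.GradedSMul.smul_mem (A := GrSyz.stdGr k (Fin (n + 1))) (B := ℳ) hx hm
    have e : (1 : ℤ) +ᵥ d = d + 1 := by simp [add_comm]
    rwa [e] at h
  constructor
  · intro h
    exact ses_quot f π hf hπ hfg 1 hfe hπg r (by rwa [add_sub_cancel_right]) h
  · intro h
    have step : ∀ r' : ℤ, r < r' →
        GrSyz.IsRegLE (GrSyz.stdGr k (Fin (n + 1))) ℳ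
          (GrSyz.irrel (GrSyz.stdGr k (Fin (n + 1)))).toIdeal r' →
        GrSyz.IsRegLE (GrSyz.stdGr k (Fin (n + 1))) ℳ
          (GrSyz.irrel (GrSyz.stdGr k (Fin (n + 1)))).toIdeal (r' - 1) := by
      intro r' hr' h'
      exact ses_sub f π hf hπ hfg 1 hfe hπg r' h' (isRegLE_mono _ (by omega) h)
    have down : ∀ t : ℕ,
        GrSyz.IsRegLE (GrSyz.stdGr k (Fin (n + 1))) ℳ
          (GrSyz.irrel (GrSyz.stdGr k (Fin (n + 1)))).toIdeal (r + t) →
        GrSyz.IsRegLE (GrSyz.stdGr k (Fin (n + 1))) ℳ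
          (GrSyz.irrel (GrSyz.stdGr k (Fin (n + 1)))).toIdeal r := by
      intro t
      induction t with
      | zero => intro h'; simpa using h'
      | succ t ih =>
        intro h'
        apply ih
        have := step (r + (t + 1 : ℕ)) (by push_cast; omega) h'
        have e : r + ((t + 1 : ℕ) : ℤ) - 1 = r + t := by push_cast; ring
        rwa [e] at this
    obtain ⟨r₀, hr₀⟩ := exists_isRegLE (n := n) ℳ
    by_cases hle : r₀ ≤ r
    · exact isRegLE_mono _ hle hr₀
    · push Not at hle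
      apply down (r₀ - r).toNat
      have e : r + ((r₀ - r).toNat : ℤ) = r₀ := by
        rw [Int.toNat_of_nonneg (by omega)]
        ring
      rwa [e]

end linear

section homog

open Pointwise

variable {k : Type u} [Field k] {R : Type u} [CommRing R] [Algebra k R]
  {𝒜 : ℤ → Submodule k R} [GradedAlgebra 𝒜]
  {M : Type u} [AddCommGroup M] [Module k M] [Module R M] [IsScalarTower k R M]
  (ℳ : ℤ → Submodule k M) [DirectSum.Decomposition ℳ] [SetLike.GradedSMul 𝒜 ℳ]

theorem decompose_smul_left (e : ℤ) (a : R) (ha : a ∈ 𝒜 e) (m : M) (d : ℤ) :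
    (DirectSum.decompose ℳ (a • m) d : M) = a • (DirectSum.decompose ℳ m (d - e) : M) := by
  induction m using DirectSum.Decomposition.inductionOn ℳ with
  | zero => simp
  | @homogeneous j m =>
    have hmem : a • (m : M) ∈ ℳ (e + j) := SetLike.GradedSMul.smul_mem ha m.2
    by_cases h : e + j = d
    · have h' : d - e = j := by omega
      rw [h', DirectSum.decompose_of_mem_same ℳ m.2, ← h, DirectSum.decompose_of_mem_same ℳ hmem]
    · have h' : j ≠ d - e := by omega
      rw [DirectSum.decompose_of_mem_ne ℳ hmem h, DirectSum.decompose_of_mem_ne ℳ m.2 h',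
        smul_zero]
  | add x y hx hy =>
    rw [smul_add, DirectSum.decompose_add, DirectSum.add_apply, Submodule.coe_add, hx, hy,
      DirectSum.decompose_add, DirectSum.add_apply, Submodule.coe_add, smul_add]

theorem isHomog_smul_top (e : ℤ) (a : R) (ha : a ∈ 𝒜 e) :
    IsHomog ℳ (a • (⊤ : Submodule R M)) := by
  intro d x hx
  obtain ⟨m, -, rfl⟩ := (Submodule.mem_smul_pointwise_iff_exists _ _ _).1 hx
  rw [decompose_smul_left ℳ e a ha]
  exact Submodule.smul_mem_pointwise_smul _ _ _ Submodule.mem_top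

end homog

section regseq

open Pointwise

variable {k : Type u} [Field k] {n : ℕ}

/-- going modulo a weakly regular sequence of linear forms does not change the regularity. -/
theorem isRegLE_iff_of_regular_seq (ys : List (MvPolynomial (Fin (n + 1)) k))
    (hys : ∀ y ∈ ys, y ∈ GrSyz.stdGr k (Fin (n + 1)) 1) :
    ∀ (M : Type u) [AddCommGroup M] [Module k M] [Module (MvPolynomial (Fin (n + 1)) k) M]
      [IsScalarTower k (MvPolynomial (Fin (n + 1)) k) M]
      [Module.Finite (MvPolynomial (Fin (n + 1)) k) M]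
      (ℳ : ℤ → Submodule k M) [DirectSum.Decomposition ℳ]
      [SetLike.GradedSMul (GrSyz.stdGr k (Fin (n + 1))) ℳ]
      (_ : RingTheory.Sequence.IsWeaklyRegular M ys)
      (N : Type u) [AddCommGroup N] [Module k N] [Module (MvPolynomial (Fin (n + 1)) k) N]
      [IsScalarTower k (MvPolynomial (Fin (n + 1)) k) N]
      [Module.Finite (MvPolynomial (Fin (n + 1)) k) N]
      (𝒩 : ℤ → Submodule k N) [DirectSum.Decomposition 𝒩]
      [SetLike.GradedSMul (GrSyz.stdGr k (Fin (n + 1))) 𝒩]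
      (π : M →ₗ[MvPolynomial (Fin (n + 1)) k] N) (_ : Function.Surjective π)
      (_ : GrLC.IsGrHom ℳ 𝒩 π)
      (_ : LinearMap.ker π = Ideal.ofList ys • (⊤ : Submodule (MvPolynomial (Fin (n + 1)) k) M))
      (r : ℤ),
      GrSyz.IsRegLE (GrSyz.stdGr k (Fin (n + 1))) ℳ
          (GrSyz.irrel (GrSyz.stdGr k (Fin (n + 1)))).toIdeal r ↔
        GrSyz.IsRegLE (GrSyz.stdGr k (Fin (n + 1))) 𝒩
          (GrSyz.irrel (GrSyz.stdGr k (Fin (n + 1)))).toIdeal r := by
  induction ys with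
  | nil =>
    intro M _ _ _ _ _ ℳ _ _ hreg N _ _ _ _ _ 𝒩 _ _ π hπ hπg hker r
    rw [Ideal.ofList_nil, Submodule.bot_smul] at hker
    exact isRegLE_iff_of_bijective _ π ⟨LinearMap.ker_eq_bot.1 hker, hπ⟩ hπg r
  | cons y ys ih =>
    intro M _ _ _ _ _ ℳ _ _ hreg N _ _ _ _ _ 𝒩 _ _ π hπ hπg hker r
    have hy : y ∈ GrSyz.stdGr k (Fin (n + 1)) 1 := hys y List.mem_cons_self
    have hys' : ∀ y' ∈ ys, y' ∈ GrSyz.stdGr k (Fin (n + 1)) 1 := fun y' hy' =>
      hys y' (List.mem_cons_of_mem _ hy')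
    obtain ⟨hyreg, hreg'⟩ := (RingTheory.Sequence.isWeaklyRegular_cons_iff M y ys).1 hreg
    have hP : IsHomog ℳ (y • (⊤ : Submodule (MvPolynomial (Fin (n + 1)) k) M)) :=
      isHomog_smul_top ℳ 1 y hy
    letI : DirectSum.Decomposition
        (quotGr ℳ (y • (⊤ : Submodule (MvPolynomial (Fin (n + 1)) k) M))) := quotDecomposition hP
    haveI : SetLike.GradedSMul (GrSyz.stdGr k (Fin (n + 1)))
        (quotGr ℳ (y • (⊤ : Submodule (MvPolynomial (Fin (n + 1)) k) M))) :=
      quot_gradedSMul ℳ _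
    have h1 := isRegLE_iff_of_linear_regular (ℳ := ℳ)
      (𝒩 := quotGr ℳ (y • (⊤ : Submodule (MvPolynomial (Fin (n + 1)) k) M))) y hy hyreg
      (Submodule.mkQ (y • (⊤ : Submodule (MvPolynomial (Fin (n + 1)) k) M)))
      (Submodule.mkQ_surjective _) (mkQ_isGrHom ℳ _)
      (fun m => by
        rw [Submodule.mkQ_apply, Submodule.Quotient.mk_eq_zero,
          Submodule.mem_smul_pointwise_iff_exists]
        simp) r
    have hle : y • (⊤ : Submodule (MvPolynomial (Fin (n + 1)) k) M) ≤ LinearMap.ker π := by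
      rw [hker, Ideal.ofList_cons_smul]
      exact le_sup_left
    have hπ' : Function.Surjective (Submodule.liftQ _ π hle) := by
      intro x
      obtain ⟨m, rfl⟩ := hπ x
      exact ⟨Submodule.Quotient.mk m, rfl⟩
    have hπ'g : GrLC.IsGrHom
        (quotGr ℳ (y • (⊤ : Submodule (MvPolynomial (Fin (n + 1)) k) M))) 𝒩
        (Submodule.liftQ _ π hle) := by
      rintro d x ⟨a, ha, rfl⟩
      exact hπg d a ha
    have hker' : LinearMap.ker (Submodule.liftQ _ π hle) =
        Ideal.ofList ys • (⊤ : Submodule (MvPolynomial (Fin (n + 1)) k)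
          (M ⧸ y • (⊤ : Submodule (MvPolynomial (Fin (n + 1)) k) M))) := by
      rw [Submodule.ker_liftQ, hker, Ideal.ofList_cons_smul, Submodule.map_sup,
        Submodule.mkQ_map_self, bot_sup_eq, Submodule.map_smul'', Submodule.map_top,
        Submodule.range_mkQ]
    have h2 := ih hys' (M ⧸ y • (⊤ : Submodule (MvPolynomial (Fin (n + 1)) k) M))
      (quotGr ℳ (y • (⊤ : Submodule (MvPolynomial (Fin (n + 1)) k) M))) hreg' N 𝒩
      (Submodule.liftQ _ π hle) hπ' hπ'g hker' r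
    exact h1.trans h2

end regseq

end Groth.Agent.Helper13RegLin
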