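import Mathlib
import Groth.Prelude.Def_GrSyz
import Groth.Prelude.Def_GrLC
import Groth.Agent.Lib.Helper13RegLin

/-!
# The residue field of a polynomial ring has regularity `0`
-/

set_option autoImplicit false
universe u

namespace Groth.Agent.Helper13RegResidue

open MvPolynomial Groth.Agent.Helper13Hilb Groth.Agent.Helper13Horseshoe
  Groth.Agent.Helper13RegSES Groth.Agent.Helper13GrQuotMod Groth.Agent.Helper13RegLin
  Groth.Agent.Helper13Syzygy

section regularX

variable (k : Type u) [Field k] (n : ℕ)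

theorem ofList_take_ofFn (i : ℕ) (hi : i ≤ n) :
    Ideal.ofList ((List.ofFn (fun l : Fin n => (X l : MvPolynomial (Fin n) k))).take i) =
      I k n i := by
  unfold I Ideal.ofList
  congr 1
  ext p
  simp only [Set.mem_setOf_eq, List.mem_take_iff_getElem, List.length_ofFn, List.getElem_ofFn]
  constructor
  · rintro ⟨j, hj, rfl⟩
    have hj' : j < i ∧ j < n := by
      rw [lt_min_iff] at hj
      exact hj
    exact ⟨⟨j, hj'.2⟩, hj'.1, rfl⟩
  · rintro ⟨l, hl, rfl⟩
    exact ⟨l, lt_min hl l.2, rfl⟩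

theorem isWeaklyRegular_X :
    RingTheory.Sequence.IsWeaklyRegular (MvPolynomial (Fin n) k)
      (List.ofFn (fun l : Fin n => (X l : MvPolynomial (Fin n) k))) := by
  rw [RingTheory.Sequence.isWeaklyRegular_iff]
  intro i hi
  have hi' : i < n := by simpa using hi
  rw [isSMulRegular_iff_right_eq_zero_of_smul]
  intro y hy
  obtain ⟨p, rfl⟩ := Submodule.Quotient.mk_surjective _ y
  rw [← Submodule.Quotient.mk_smul, Submodule.Quotient.mk_eq_zero] at hy
  rw [Submodule.Quotient.mk_eq_zero]
  rw [ofList_take_ofFn k n i hi'.le, smul_eq_mul, Ideal.mul_top] at hy ⊢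
  rw [List.getElem_ofFn, smul_eq_mul] at hy
  exact mem_I_of_X_mul_mem k n i hi' p hy

theorem ofList_ofFn_X :
    Ideal.ofList (List.ofFn (fun l : Fin n => (X l : MvPolynomial (Fin n) k))) =
      (GrSyz.irrel (GrSyz.stdGr k (Fin n))).toIdeal := by
  rw [← I_top_eq_irrel, ← ofList_take_ofFn k n n le_rfl]
  congr 1
  rw [List.take_of_length_le]
  simp

end regularX

section self

variable (k : Type u) [Field k] (σ : Type)

/-- ranks of the trivial resolution of the ring -/
def selfRk : ℕ → ℕ
  | 0 => 1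
  | _ + 1 => 0

/-- the trivial resolution of the polynomial ring over itself. -/
noncomputable def selfRes : GrSyz.FreeRes (GrSyz.stdGr k σ) (GrSyz.stdGr k σ) where
  rk := selfRk
  deg := fun _ _ => 0
  d := fun _ => 0
  aug := fun _ => 1
  d_mem := fun _ _ _ => Submodule.zero_mem _
  aug_mem := fun _ => SetLike.GradedOne.one_mem
  aug_surjective := by
    intro p
    refine ⟨fun _ => p, ?_⟩
    rw [Fintype.linearCombination_apply]
    show ∑ _b : Fin 1, p • (1 : MvPolynomial σ k) = p
    simp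
  exact_zero := by
    ext v
    constructor
    · intro hv
      have h0 : v = 0 := by
        rw [LinearMap.mem_ker] at hv
        funext b
        have hb : b = ⟨0, by simp [selfRk]⟩ := Subsingleton.elim (α := Fin 1) _ _
        have h1 : ∑ b : Fin (selfRk 0), v b • (1 : MvPolynomial σ k) = 0 := by
          rw [← hv, Fintype.linearCombination_apply]
        have h2 : ∑ b : Fin (selfRk 0), v b • (1 : MvPolynomial σ k) = v ⟨0, by simp [selfRk]⟩ := by
          show ∑ b : Fin 1, v b • (1 : MvPolynomial σ k) = _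
          simp
          rfl
        rw [h2] at h1
        rw [hb, h1]
        rfl
      rw [h0]
      exact Submodule.zero_mem _
    · rintro ⟨w, rfl⟩
      rw [LinearMap.mem_ker]
      simp
  exact_succ := by
    intro i
    haveI : IsEmpty (Fin (selfRk (i + 1))) := (inferInstance : IsEmpty (Fin 0))
    ext v
    have h0 : v = 0 := Subsingleton.elim _ _
    rw [h0]
    exact ⟨fun _ => Submodule.zero_mem _, fun _ => Submodule.zero_mem _⟩

theorem isRegLE_self :
    GrSyz.IsRegLE (GrSyz.stdGr k σ) (GrSyz.stdGr k σ)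
      (GrSyz.irrel (GrSyz.stdGr k σ)).toIdeal 0 :=
  ⟨selfRes k σ, fun _ _ _ => Submodule.zero_mem _, fun i _ => by
    show (0 : ℤ) ≤ 0 + i
    have : (0 : ℤ) ≤ i := Int.natCast_nonneg i
    omega⟩

end self

section residue

variable {k : Type u} [Field k] {n : ℕ}
  {N : Type u} [AddCommGroup N] [Module k N] [Module (MvPolynomial (Fin (n + 1)) k) N]
  [IsScalarTower k (MvPolynomial (Fin (n + 1)) k) N]
  [Module.Finite (MvPolynomial (Fin (n + 1)) k) N]
  {𝒩 : ℤ → Submodule k N} [DirectSum.Decomposition 𝒩]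
  [SetLike.GradedSMul (GrSyz.stdGr k (Fin (n + 1))) 𝒩]

theorem X_mem_stdGr_one {σ : Type} (l : σ) : (X l : MvPolynomial σ k) ∈ GrSyz.stdGr k σ 1 :=
  (GrSyz.mem_stdGr_iff k σ _ _).2 (MvPolynomial.isWeightedHomogeneous_X _ _ _)

/-- a graded module of the form `S/𝔪` has regularity at most `0`. -/
theorem isRegLE_residue (π : MvPolynomial (Fin (n + 1)) k →ₗ[MvPolynomial (Fin (n + 1)) k] N)
    (hπ : Function.Surjective π) (hπg : GrLC.IsGrHom (GrSyz.stdGr k (Fin (n + 1))) 𝒩 π)
    (hker : LinearMap.ker π = (GrSyz.irrel (GrSyz.stdGr k (Fin (n + 1)))).toIdeal) :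
    GrSyz.IsRegLE (GrSyz.stdGr k (Fin (n + 1))) 𝒩
      (GrSyz.irrel (GrSyz.stdGr k (Fin (n + 1)))).toIdeal 0 := by
  have h := isRegLE_iff_of_regular_seq
    (List.ofFn (fun l : Fin (n + 1) => (X l : MvPolynomial (Fin (n + 1)) k)))
    (fun y hy => by
      rw [List.mem_ofFn] at hy
      obtain ⟨l, rfl⟩ := hy
      exact X_mem_stdGr_one l)
    (MvPolynomial (Fin (n + 1)) k) (GrSyz.stdGr k (Fin (n + 1))) (isWeaklyRegular_X k (n + 1))
    N 𝒩 π hπ hπg (by
      rw [hker, ofList_ofFn_X, smul_eq_mul, Ideal.mul_top]) 0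
  exact h.1 (isRegLE_self k (Fin (n + 1)))

end residue

end Groth.Agent.Helper13RegResidue
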