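import Mathlib
import Groth.Prelude.Def_GrSyz
import Groth.Prelude.Def_GrLC
import Groth.Agent.Lib.Helper13RegResidue
import Groth.Agent.S15429

/-!
# Regularity of graded modules of finite length
-/

set_option autoImplicit false
universe u

namespace Groth.Agent.Helper13RegFinLen

open MvPolynomial Groth.Agent.Helper13Hilb Groth.Agent.Helper13Horseshoe
  Groth.Agent.Helper13RegSES Groth.Agent.Helper13GrQuotMod Groth.Agent.Helper13RegLin
  Groth.Agent.Helper13RegResidue

section finite

/-- a module of finite length over a finitely generated algebra over a field is finite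
dimensional. -/
theorem finite_of_isFiniteLength (k : Type*) [Field k] (S : Type*) [CommRing S] [Algebra k S]
    [Algebra.FiniteType k S] {M : Type*} [AddCommGroup M] [Module S M]
    (h : IsFiniteLength S M) :
    ∀ [Module k M] [IsScalarTower k S M], Module.Finite k M := by
  induction h with
  | of_subsingleton =>
    intro _ _
    infer_instance
  | @of_simple_quotient M _ _ N _ hN ih =>
    intro _ _
    haveI : Module.Finite k N := ih
    obtain ⟨I, hI, ⟨e⟩⟩ := isSimpleModule_iff_quot_maximal.1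
      (inferInstance : IsSimpleModule S (M ⧸ N))
    haveI : Module.Finite k (S ⧸ I) := by
      letI := Ideal.Quotient.field I
      exact finite_of_finite_type_of_isJacobsonRing k (S ⧸ I)
    haveI : Module.Finite k (M ⧸ N) := Module.Finite.equiv (e.restrictScalars k).symm
    exact Module.Finite.of_exact (f := N.subtype.restrictScalars k)
      (g := N.mkQ.restrictScalars k) (LinearMap.exact_subtype_mkQ N) (Submodule.mkQ_surjective N)

end finite

section ge

variable {k : Type u} [Field k] {n : ℕ}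
  {M : Type u} [AddCommGroup M] [Module k M] [Module (MvPolynomial (Fin (n + 1)) k) M]
  [IsScalarTower k (MvPolynomial (Fin (n + 1)) k) M]
  [Module.Finite (MvPolynomial (Fin (n + 1)) k) M]
  {ℳ : ℤ → Submodule k M} [DirectSum.Decomposition ℳ]
  [SetLike.GradedSMul (GrSyz.stdGr k (Fin (n + 1))) ℳ]

/-- a finite dimensional graded module vanishes above its regularity. -/
theorem piece_eq_bot_of_isRegLE [Module.Finite k M] (r : ℤ)
    (H : GrSyz.IsRegLE (GrSyz.stdGr k (Fin (n + 1))) ℳ
      (GrSyz.irrel (GrSyz.stdGr k (Fin (n + 1)))).toIdeal r) (j : ℤ) (hj : r < j) :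
    ℳ j = ⊥ := by
  obtain ⟨F, hF, hgen⟩ := H
  have hlen := hasLengthLE_of_isMinimal F hF
  obtain ⟨P, hP⟩ := Groth.Agent.S15429.result k n M ℳ F (n + 1) hlen
  have hcond : ∀ d : ℤ, r < d → ∀ (i : ℕ) (b : Fin (F.rk i)), F.deg i b - (n : ℤ) ≤ d := by
    intro d hd i b
    by_cases hi : n + 1 < i
    · exact (Fin.cast (hlen i hi) b).elim0
    · have h1 := hgen i b
      push Not at hi
      have h2 : (i : ℤ) ≤ n + 1 := by exact_mod_cast hi
      omega
  have hind : iSupIndep ℳ := (DirectSum.Decomposition.isInternal ℳ).submodule_iSupIndep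
  have hfin : {j | ℳ j ≠ ⊥}.Finite := WellFoundedGT.finite_ne_bot_of_iSupIndep hind
  obtain ⟨D, hD⟩ : ∃ D : ℤ, ∀ j, D < j → ℳ j = ⊥ := by
    obtain ⟨D, hD⟩ := hfin.bddAbove
    refine ⟨D, fun j hj => ?_⟩
    by_contra hne
    exact absurd (hD hne) (not_le.2 hj)
  have hroot : ∀ t : ℕ, P.IsRoot (((max D r + 1 + t : ℤ)) : ℚ) := by
    intro t
    have h1 := hP (max D r + 1 + t) (hcond _ (by omega))
    have h2 : ℳ (max D r + 1 + t) = ⊥ := hD _ (by omega)
    rw [h2, finrank_bot] at h1
    rw [Polynomial.IsRoot.def, ← h1]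
    simp
  have hinj : Function.Injective (fun t : ℕ => (((max D r + 1 + t : ℤ)) : ℚ)) := by
    intro t t' h
    simp only [Int.cast_inj] at h
    omega
  have hP0 : P = 0 := Polynomial.eq_zero_of_infinite_isRoot P
    (Set.infinite_of_injective_forall_mem hinj hroot)
  have h1 := hP j (hcond j hj)
  rw [hP0, Polynomial.eval_zero] at h1
  have h2 : Module.finrank k (ℳ j) = 0 := by exact_mod_cast h1
  exact Submodule.finrank_eq_zero.1 h2

end ge

section le

variable {k : Type u} [Field k]

section zero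

variable {R : Type u} [CommRing R] [Algebra k R]
  {𝒜 : ℤ → Submodule k R} [GradedAlgebra 𝒜]
  {M : Type u} [AddCommGroup M] [Module k M] [Module R M] [IsScalarTower k R M]
  (ℳ : ℤ → Submodule k M) [DirectSum.Decomposition ℳ] [SetLike.GradedSMul 𝒜 ℳ]

/-- the empty resolution of a zero module. -/
def zeroRes [Subsingleton M] : GrSyz.FreeRes 𝒜 ℳ where
  rk := fun _ => 0
  deg := fun _ b => b.elim0
  d := fun _ => 0
  aug := fun b => b.elim0
  d_mem := fun _ a _ => a.elim0
  aug_mem := fun b => b.elim0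
  aug_surjective := fun m => ⟨0, Subsingleton.elim _ _⟩
  exact_zero := by
    ext v
    have h0 : v = 0 := Subsingleton.elim _ _
    rw [h0]
    exact ⟨fun _ => Submodule.zero_mem _, fun _ => Submodule.zero_mem _⟩
  exact_succ := by
    intro i
    ext v
    have h0 : v = 0 := Subsingleton.elim _ _
    rw [h0]
    exact ⟨fun _ => Submodule.zero_mem _, fun _ => Submodule.zero_mem _⟩

theorem isRegLE_of_subsingleton [Subsingleton M] (𝔪 : Ideal R) (r : ℤ) :
    GrSyz.IsRegLE 𝒜 ℳ 𝔪 r :=
  ⟨zeroRes ℳ, fun _ a _ => a.elim0, fun _ b => b.elim0⟩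

theorem subsingleton_of_pieces_eq_bot (h : ∀ j, ℳ j = ⊥) : Subsingleton M := by
  classical
  refine subsingleton_of_forall_eq 0 (fun x => ?_)
  rw [← DirectSum.sum_support_decompose ℳ x]
  refine Finset.sum_eq_zero (fun i _ => ?_)
  have h1 : ((DirectSum.decompose ℳ x) i : M) ∈ ℳ i := SetLike.coe_mem _
  have h2 : ((DirectSum.decompose ℳ x) i : M) ∈ (⊥ : Submodule k M) := (h i) ▸ h1
  exact (Submodule.mem_bot k).1 h2

end zero

end le

section main

variable {k : Type u} [Field k] {n : ℕ}

/-- a finite dimensional graded module which vanishes in degrees `> e` has regularity `≤ e`. -/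
theorem isRegLE_of_pieces_eq_bot : ∀ (t : ℕ) (M : Type u) [AddCommGroup M] [Module k M]
    [Module (MvPolynomial (Fin (n + 1)) k) M] [IsScalarTower k (MvPolynomial (Fin (n + 1)) k) M]
    [Module.Finite (MvPolynomial (Fin (n + 1)) k) M] [Module.Finite k M]
    (ℳ : ℤ → Submodule k M) [DirectSum.Decomposition ℳ]
    [SetLike.GradedSMul (GrSyz.stdGr k (Fin (n + 1))) ℳ],
    Module.finrank k M = t → ∀ (e : ℤ), (∀ j, e < j → ℳ j = ⊥) →
      GrSyz.IsRegLE (GrSyz.stdGr k (Fin (n + 1))) ℳ
        (GrSyz.irrel (GrSyz.stdGr k (Fin (n + 1)))).toIdeal e := by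
  intro t
  induction t using Nat.strong_induction_on with
  | _ t ih =>
    intro M _ _ _ _ _ _ ℳ _ _ ht e he
    by_cases hsub : Subsingleton M
    · exact isRegLE_of_subsingleton ℳ _ e
    · have hex : ∃ j, ℳ j ≠ ⊥ := by
        by_contra hcon
        push Not at hcon
        exact hsub (subsingleton_of_pieces_eq_bot ℳ hcon)
      obtain ⟨d₀, hd₀, hmax⟩ := Int.exists_greatest_of_bdd
        (P := fun j => ℳ j ≠ ⊥) ⟨e, fun j hj => not_lt.1 (fun h => hj (he j h))⟩ hex
      obtain ⟨m, hm, hm0⟩ := Submodule.exists_mem_ne_zero_of_ne_bot hd₀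
      have hd₀e : d₀ ≤ e := not_lt.1 (fun h => hd₀ (he d₀ h))
      -- the irrelevant ideal kills `m`
      have hle : (GrSyz.irrel (GrSyz.stdGr k (Fin (n + 1)))).toIdeal ≤
          LinearMap.ker (LinearMap.toSpanSingleton (MvPolynomial (Fin (n + 1)) k) M m) := by
        show Ideal.span _ ≤ _
        rw [Ideal.span_le]
        rintro p ⟨a, ha, hp⟩
        rw [SetLike.mem_coe, LinearMap.mem_ker, LinearMap.toSpanSingleton_apply]
        have h1 := SetLike.GradedSMul.smul_mem (A := GrSyz.stdGr k (Fin (n + 1))) (B := ℳ) hp hm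
        have h2 : ℳ (a +ᵥ d₀) = ⊥ := by
          by_contra hne
          have := hmax (a +ᵥ d₀) hne
          simp only [vadd_eq_add] at this
          omega
        have h3 : p • m ∈ (⊥ : Submodule k M) := h2 ▸ h1
        exact (Submodule.mem_bot k).1 h3
      obtain ⟨Pm, hPmdef⟩ : ∃ Pm : Submodule (MvPolynomial (Fin (n + 1)) k)
          (MvPolynomial (Fin (n + 1)) k),
          Pm = (GrSyz.irrel (GrSyz.stdGr k (Fin (n + 1)))).toIdeal := ⟨_, rfl⟩
      have hPm : IsHomog (GrSyz.stdGr k (Fin (n + 1))) Pm := by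
        intro d x hx
        rw [hPmdef] at hx ⊢
        exact (GrSyz.irrel (GrSyz.stdGr k (Fin (n + 1)))).isHomogeneous d hx
      letI : DirectSum.Decomposition (quotGr (GrSyz.stdGr k (Fin (n + 1))) Pm) :=
        quotDecomposition hPm
      haveI : SetLike.GradedSMul (GrSyz.stdGr k (Fin (n + 1)))
          (quotGr (GrSyz.stdGr k (Fin (n + 1))) Pm) := quot_gradedSMul _ _
      have hres : GrSyz.IsRegLE (GrSyz.stdGr k (Fin (n + 1)))
          (quotGr (GrSyz.stdGr k (Fin (n + 1))) Pm)
          (GrSyz.irrel (GrSyz.stdGr k (Fin (n + 1)))).toIdeal 0 :=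
        isRegLE_residue (Submodule.mkQ Pm) (Submodule.mkQ_surjective Pm) (mkQ_isGrHom _ _)
          (by rw [Submodule.ker_mkQ, hPmdef])
      have hle' : Pm ≤
          LinearMap.ker (LinearMap.toSpanSingleton (MvPolynomial (Fin (n + 1)) k) M m) := by
        rw [hPmdef]
        exact hle
      obtain ⟨ι, hιdef⟩ : ∃ ι : (MvPolynomial (Fin (n + 1)) k ⧸ Pm) →ₗ[MvPolynomial (Fin (n + 1)) k] M,
          ι = Submodule.liftQ Pm (LinearMap.toSpanSingleton (MvPolynomial (Fin (n + 1)) k) M m)
            hle' := ⟨_, rfl⟩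
      have hιmk : ∀ p : MvPolynomial (Fin (n + 1)) k, ι (Submodule.Quotient.mk p) = p • m := by
        intro p
        rw [hιdef]
        rfl
      have hker_eq : LinearMap.ker (LinearMap.toSpanSingleton (MvPolynomial (Fin (n + 1)) k) M m)
          = Pm := by
        rw [hPmdef]
        have hmax' := Groth.Agent.Helper13FreeRes.isMaximal_irrel_stdGr k (Fin (n + 1))
        refine (hmax'.eq_of_le ?_ hle).symm
        intro htop
        have h1 : (1 : MvPolynomial (Fin (n + 1)) k) ∈
            LinearMap.ker (LinearMap.toSpanSingleton (MvPolynomial (Fin (n + 1)) k) M m) := by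
          rw [htop]
          exact Submodule.mem_top
        rw [LinearMap.mem_ker, LinearMap.toSpanSingleton_apply, one_smul] at h1
        exact hm0 h1
      have hι_inj : Function.Injective ι := by
        rw [← LinearMap.ker_eq_bot, hιdef, Submodule.ker_liftQ, hker_eq, Submodule.mkQ_map_self]
      have hι_deg : ∀ (a : ℤ) (x : MvPolynomial (Fin (n + 1)) k ⧸ Pm),
          x ∈ quotGr (GrSyz.stdGr k (Fin (n + 1))) Pm a → ι x ∈ ℳ (a + d₀) := by
        rintro a x ⟨p, hp, rfl⟩
        rw [mkK_apply, hιmk]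
        exact SetLike.GradedSMul.smul_mem (A := GrSyz.stdGr k (Fin (n + 1))) (B := ℳ) hp hm
      have hK : IsHomog ℳ (LinearMap.range ι) := by
        rintro j x ⟨y, rfl⟩
        obtain ⟨p, rfl⟩ := Submodule.Quotient.mk_surjective _ y
        rw [hιmk, decompose_smul_of_mem (GrSyz.stdGr k (Fin (n + 1))) ℳ j d₀ p m hm]
        exact ⟨Submodule.Quotient.mk _, hιmk _⟩
      letI : DirectSum.Decomposition (quotGr ℳ (LinearMap.range ι)) := quotDecomposition hK
      haveI : SetLike.GradedSMul (GrSyz.stdGr k (Fin (n + 1)))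
          (quotGr ℳ (LinearMap.range ι)) := quot_gradedSMul _ _
      -- dimension drops
      have hdim : Module.finrank k (M ⧸ LinearMap.range ι) < t := by
        have h1 := LinearMap.finrank_range_add_finrank_ker (mkK k (LinearMap.range ι))
        have h2 : LinearMap.range (mkK k (LinearMap.range ι)) = ⊤ :=
          LinearMap.range_eq_top.2 (Submodule.mkQ_surjective _)
        rw [h2, finrank_top, ht] at h1
        have h3 : 0 < Module.finrank k (LinearMap.ker (mkK k (LinearMap.range ι))) := by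
          rw [Module.finrank_pos_iff_exists_ne_zero]
          refine ⟨⟨m, ?_⟩, ?_⟩
          · rw [LinearMap.mem_ker, mkK_apply, Submodule.Quotient.mk_eq_zero]
            exact ⟨Submodule.Quotient.mk 1, by rw [hιmk, one_smul]⟩
          · intro h0
            exact hm0 (congrArg Subtype.val h0)
        omega
      have he' : ∀ j, e < j → quotGr ℳ (LinearMap.range ι) j = ⊥ := by
        intro j hj
        unfold quotGr
        rw [he j hj, Submodule.map_bot]
      have hIH := ih _ hdim (M ⧸ LinearMap.range ι) (quotGr ℳ (LinearMap.range ι)) rfl e he'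
      exact ses_mid ι (Submodule.mkQ (LinearMap.range ι)) hι_inj (Submodule.mkQ_surjective _)
        (Submodule.ker_mkQ _).symm d₀ hι_deg (mkQ_isGrHom ℳ _) e
        (isRegLE_mono _ (by omega) hres) hIH

end main

section endDeg

variable {k : Type u} [Field k] {n : ℕ}
  {M : Type u} [AddCommGroup M] [Module k M] [Module (MvPolynomial (Fin (n + 1)) k) M]
  [IsScalarTower k (MvPolynomial (Fin (n + 1)) k) M]
  [Module.Finite (MvPolynomial (Fin (n + 1)) k) M]
  (ℳ : ℤ → Submodule k M) [DirectSum.Decomposition ℳ]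
  [SetLike.GradedSMul (GrSyz.stdGr k (Fin (n + 1))) ℳ]

theorem toAddSubgroup_eq_bot_iff {R : Type*} [Ring R] {M' : Type*} [AddCommGroup M'] [Module R M']
    (p : Submodule R M') : p.toAddSubgroup = ⊥ ↔ p = ⊥ := by
  have h := Submodule.bot_toAddSubgroup (R := R) (M := M')
  constructor
  · intro hp
    exact Submodule.toAddSubgroup_injective (hp.trans h.symm)
  · intro hp
    rw [hp, h]

theorem endDeg_le_iff (ρ : ℤ) :
    GrLC.endDeg (fun j => (ℳ j).toAddSubgroup) ≤ ((ρ : WithTop ℤ) : WithBot (WithTop ℤ)) ↔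
      ∀ j, ρ < j → ℳ j = ⊥ := by
  unfold GrLC.endDeg
  rw [iSup₂_le_iff]
  constructor
  · intro H j hj
    by_contra hne
    have h1 := H j (fun h => hne ((toAddSubgroup_eq_bot_iff _).1 h))
    rw [WithBot.coe_le_coe, WithTop.coe_le_coe] at h1
    omega
  · intro H j hj
    rw [WithBot.coe_le_coe, WithTop.coe_le_coe]
    by_contra hlt
    push Not at hlt
    exact hj ((toAddSubgroup_eq_bot_iff _).2 (H j hlt))

/-- for a finite dimensional graded module, `reg ≤ ρ` iff the module vanishes above `ρ`. -/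
theorem isRegLE_iff_endDeg_le [Module.Finite k M] (ρ : ℤ) :
    GrSyz.IsRegLE (GrSyz.stdGr k (Fin (n + 1))) ℳ
        (GrSyz.irrel (GrSyz.stdGr k (Fin (n + 1)))).toIdeal ρ ↔
      GrLC.endDeg (fun j => (ℳ j).toAddSubgroup) ≤ ((ρ : WithTop ℤ) : WithBot (WithTop ℤ)) := by
  rw [endDeg_le_iff]
  constructor
  · intro H j hj
    exact piece_eq_bot_of_isRegLE ρ H j hj
  · intro H
    exact isRegLE_of_pieces_eq_bot _ M ℳ rfl ρ H

end endDeg

end Groth.Agent.Helper13RegFinLen
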