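import Mathlib
import Groth.Prelude.Def_GrSyz
import Groth.Prelude.Def_GrLC
import Groth.Agent.Lib.Helper13RegFinLen
import Groth.Agent.Lib.Helper13HB
import Groth.Agent.Lib.Helper23GrSyz

/-!
# Counting dimensions of graded modules of finite length
-/

set_option autoImplicit false
universe u

namespace Groth.Agent.Helper13RegCount

open MvPolynomial Groth.Agent.Helper13Hilb Groth.Agent.Helper13Horseshoe
  Groth.Agent.Helper13RegSES Groth.Agent.Helper13GrQuotMod Groth.Agent.Helper13RegLin
  Groth.Agent.Helper13RegResidue Groth.Agent.Helper13RegFinLen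

section length

variable {k : Type u} [Field k] {n : ℕ}

/-- the dimension of a finite dimensional graded module is at most its length. -/
theorem finrank_le_length : ∀ (t : ℕ) (M : Type u) [AddCommGroup M] [Module k M]
    [Module (MvPolynomial (Fin (n + 1)) k) M] [IsScalarTower k (MvPolynomial (Fin (n + 1)) k) M]
    [Module.Finite k M]
    (ℳ : ℤ → Submodule k M) [DirectSum.Decomposition ℳ]
    [SetLike.GradedSMul (GrSyz.stdGr k (Fin (n + 1))) ℳ],
    Module.finrank k M = t → (t : ℕ∞) ≤ Module.length (MvPolynomial (Fin (n + 1)) k) M := by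
  intro t
  induction t using Nat.strong_induction_on with
  | _ t ih =>
    intro M _ _ _ _ _ ℳ _ _ ht
    by_cases hsub : Subsingleton M
    · have : Module.finrank k M = 0 := Module.finrank_zero_of_subsingleton
      rw [← ht, this]
      exact bot_le
    · have hex : ∃ j, ℳ j ≠ ⊥ := by
        by_contra hcon
        push Not at hcon
        exact hsub (subsingleton_of_pieces_eq_bot ℳ hcon)
      have hind : iSupIndep ℳ := (DirectSum.Decomposition.isInternal ℳ).submodule_iSupIndep
      have hfin : {j | ℳ j ≠ ⊥}.Finite := WellFoundedGT.finite_ne_bot_of_iSupIndep hind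
      obtain ⟨D, hD⟩ := hfin.bddAbove
      obtain ⟨d₀, hd₀, hmax⟩ := Int.exists_greatest_of_bdd
        (P := fun j => ℳ j ≠ ⊥) ⟨D, fun j hj => hD hj⟩ hex
      obtain ⟨m, hm, hm0⟩ := Submodule.exists_mem_ne_zero_of_ne_bot hd₀
      have hkill : ∀ p ∈ (GrSyz.irrel (GrSyz.stdGr k (Fin (n + 1)))).toIdeal, p • m = 0 := by
        have hle : (GrSyz.irrel (GrSyz.stdGr k (Fin (n + 1)))).toIdeal ≤
            LinearMap.ker (LinearMap.toSpanSingleton (MvPolynomial (Fin (n + 1)) k) M m) := by
          show Ideal.span _ ≤ _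
          rw [Ideal.span_le]
          rintro p ⟨a, ha, hp⟩
          rw [SetLike.mem_coe, LinearMap.mem_ker, LinearMap.toSpanSingleton_apply]
          have h1 := SetLike.GradedSMul.smul_mem (A := GrSyz.stdGr k (Fin (n + 1))) (B := ℳ) hp hm
          have h2 : ℳ (a +ᵥ d₀) = ⊥ := by
            by_contra hne
            have := hmax (a +ᵥ d₀) hne
            simp only [vadd_eq_add] at this
            omega
          have h3 : p • m ∈ (⊥ : Submodule k M) := h2 ▸ h1
          exact (Submodule.mem_bot k).1 h3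
        intro p hp
        exact hle hp
      -- the submodule generated by `m`
      obtain ⟨K, hKdef⟩ : ∃ K : Submodule (MvPolynomial (Fin (n + 1)) k) M,
          K = Submodule.span (MvPolynomial (Fin (n + 1)) k) {m} := ⟨_, rfl⟩
      have hsmul : ∀ p : MvPolynomial (Fin (n + 1)) k, p • m = MvPolynomial.constantCoeff p • m := by
        intro p
        have h1 : p - C (MvPolynomial.constantCoeff p) ∈
            (GrSyz.irrel (GrSyz.stdGr k (Fin (n + 1)))).toIdeal := by
          rw [Groth.Agent.Helper13FreeRes.irrel_stdGr_eq_ker, RingHom.mem_ker, map_sub,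
            MvPolynomial.constantCoeff_C, sub_self]
        have h2 := hkill _ h1
        rw [sub_smul, sub_eq_zero] at h2
        rw [h2, ← algebraMap_eq, algebraMap_smul]
      have hKk : K.restrictScalars k = Submodule.span k {m} := by
        apply le_antisymm
        · intro x hx
          rw [Submodule.restrictScalars_mem, hKdef, Submodule.mem_span_singleton] at hx
          obtain ⟨p, rfl⟩ := hx
          rw [hsmul]
          exact Submodule.smul_mem _ _ (Submodule.mem_span_singleton_self m)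
        · rw [Submodule.span_le]
          rintro x hx
          rw [Set.mem_singleton_iff] at hx
          rw [hx, SetLike.mem_coe, Submodule.restrictScalars_mem, hKdef]
          exact Submodule.mem_span_singleton_self m
      have hK : IsHomog ℳ K := by
        intro j x hx
        rw [hKdef, Submodule.mem_span_singleton] at hx
        obtain ⟨p, rfl⟩ := hx
        rw [decompose_smul_of_mem (GrSyz.stdGr k (Fin (n + 1))) ℳ j d₀ p m hm, hKdef]
        exact Submodule.smul_mem _ _ (Submodule.mem_span_singleton_self m)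
      letI : DirectSum.Decomposition (quotGr ℳ K) := quotDecomposition hK
      haveI : SetLike.GradedSMul (GrSyz.stdGr k (Fin (n + 1))) (quotGr ℳ K) :=
        quot_gradedSMul _ _
      have hmK : m ∈ K := by
        rw [hKdef]
        exact Submodule.mem_span_singleton_self m
      -- dimension count
      have hdim : Module.finrank k (M ⧸ K) + 1 = t := by
        have h1 := LinearMap.finrank_range_add_finrank_ker (mkK k K)
        have h2 : LinearMap.range (mkK k K) = ⊤ :=
          LinearMap.range_eq_top.2 (Submodule.mkQ_surjective _)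
        rw [h2, finrank_top, ht] at h1
        have h3 : LinearMap.ker (mkK k K) = K.restrictScalars k := by
          ext x
          rw [LinearMap.mem_ker, mkK_apply, Submodule.Quotient.mk_eq_zero,
            Submodule.restrictScalars_mem]
        rw [h3, hKk, finrank_span_singleton hm0] at h1
        exact h1
      have hIH := ih (Module.finrank k (M ⧸ K)) (by omega) (M ⧸ K) (quotGr ℳ K) rfl
      -- length count
      have hlen : Module.length (MvPolynomial (Fin (n + 1)) k) M =
          Module.length (MvPolynomial (Fin (n + 1)) k) K +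
            Module.length (MvPolynomial (Fin (n + 1)) k) (M ⧸ K) :=
        Module.length_eq_add_of_exact K.subtype K.mkQ K.injective_subtype
          (Submodule.mkQ_surjective K) (LinearMap.exact_subtype_mkQ K)
      have hKlen : 1 ≤ Module.length (MvPolynomial (Fin (n + 1)) k) K := by
        rw [Order.one_le_iff_ne_zero, Ne, Module.length_eq_zero_iff]
        intro hs
        have : (⟨m, hmK⟩ : K) = 0 := Subsingleton.elim _ _
        exact hm0 (congrArg Subtype.val this)
      rw [hlen, ← hdim]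
      push_cast
      rw [add_comm]
      exact add_le_add hKlen hIH

end length

section sum

variable {k : Type u} [Field k]
  {N : Type u} [AddCommGroup N] [Module k N]
  (𝒩 : ℤ → Submodule k N) [DirectSum.Decomposition 𝒩]

/-- the dimensions of finitely many pieces add up to at most the total dimension. -/
theorem sum_finrank_le [Module.Finite k N] (e : ℕ) :
    ∑ d ∈ Finset.range (e + 1), Module.finrank k (𝒩 (d : ℤ)) ≤ Module.finrank k N := by
  classical
  let f : N →ₗ[k] (∀ d : Fin (e + 1), 𝒩 ((d : ℕ) : ℤ)) :=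
    LinearMap.pi (fun d => (DirectSum.component k ℤ (fun i => 𝒩 i) ((d : ℕ) : ℤ)) ∘ₗ
      (DirectSum.decomposeLinearEquiv 𝒩).toLinearMap)
  have hf : ∀ x d, f x d = DirectSum.decompose 𝒩 x ((d : ℕ) : ℤ) := fun x d => rfl
  have hsurj : Function.Surjective f := by
    intro y
    refine ⟨∑ d, (y d : N), ?_⟩
    funext d'
    rw [hf]
    apply Subtype.ext
    rw [DirectSum.decompose_sum, DFinsupp.finsetSum_apply, AddSubmonoidClass.coe_finsetSum,
      Finset.sum_eq_single d']
    · exact DirectSum.decompose_of_mem_same 𝒩 (y d').2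
    · intro d _ hne
      refine DirectSum.decompose_of_mem_ne 𝒩 (y d).2 ?_
      intro h
      apply hne
      apply Fin.ext
      exact_mod_cast h
    · intro h
      exact absurd (Finset.mem_univ _) h
  have h1 := LinearMap.finrank_le_finrank_of_surjective hsurj
  rw [Module.finrank_pi_fintype] at h1
  rw [← Fin.sum_univ_eq_sum_range (fun d => Module.finrank k (𝒩 (d : ℤ))) (e + 1)]
  exact h1

end sum

section cyclic

variable {k : Type u} [Field k] {n : ℕ}
  {N : Type u} [AddCommGroup N] [Module k N] [Module (MvPolynomial (Fin n) k) N]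
  [IsScalarTower k (MvPolynomial (Fin n) k) N]
  {𝒩 : ℤ → Submodule k N} [DirectSum.Decomposition 𝒩]
  [SetLike.GradedSMul (GrSyz.stdGr k (Fin n)) 𝒩]
  (τ : MvPolynomial (Fin n) k →ₗ[MvPolynomial (Fin n) k] N) (hτ : Function.Surjective τ)
  (hτg : GrLC.IsGrHom (GrSyz.stdGr k (Fin n)) 𝒩 τ)

omit [DirectSum.Decomposition 𝒩] [SetLike.GradedSMul (GrSyz.stdGr k (Fin n)) 𝒩] in
theorem irrel_eq_span_X (k : Type u) [Field k] (n : ℕ) :
    (GrSyz.irrel (GrSyz.stdGr k (Fin n))).toIdeal =
      Ideal.span (Set.range (fun l : Fin n => (X l : MvPolynomial (Fin n) k))) := by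
  rw [← ofList_ofFn_X]
  unfold Ideal.ofList
  congr 1
  ext p
  simp [List.mem_ofFn]

include hτ hτg

theorem piece_neg_eq_bot (d : ℤ) (hd : d < 0) : 𝒩 d = ⊥ := by
  rw [eq_bot_iff]
  intro x hx
  obtain ⟨p, hp, rfl⟩ := exists_homog_preimage τ hτ hτg d x hx
  rw [Groth.Agent.Helper13HB.stdGr_neg d hd, Submodule.mem_bot] at hp
  rw [hp, map_zero]
  exact Submodule.zero_mem _

theorem piece_succ_eq_bot (d : ℤ) (hd : 0 ≤ d) (h : 𝒩 d = ⊥) : 𝒩 (d + 1) = ⊥ := by
  rw [eq_bot_iff]
  intro x hx
  obtain ⟨p, hp, rfl⟩ := exists_homog_preimage τ hτ hτg (d + 1) x hx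
  have hpm : p ∈ (GrSyz.irrel (GrSyz.stdGr k (Fin n))).toIdeal :=
    Ideal.subset_span ⟨d + 1, by omega, hp⟩
  rw [irrel_eq_span_X k n, Ideal.mem_span_range_iff_exists_fun] at hpm
  obtain ⟨c, hc⟩ := hpm
  have hdec : p = ∑ l, (DirectSum.decompose (GrSyz.stdGr k (Fin n)) (c l) d : MvPolynomial (Fin n) k) * X l := by
    have h1 : (DirectSum.decompose (GrSyz.stdGr k (Fin n)) p (d + 1) : MvPolynomial (Fin n) k) = p :=
      DirectSum.decompose_of_mem_same _ hp
    rw [← h1, ← hc, DirectSum.decompose_sum, DFinsupp.finsetSum_apply,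
      AddSubmonoidClass.coe_finsetSum]
    refine Finset.sum_congr rfl (fun l _ => ?_)
    exact DirectSum.coe_decompose_mul_add_of_right_mem (GrSyz.stdGr k (Fin n))
      (X_mem_stdGr_one l)
  rw [Submodule.mem_bot, hdec, map_sum]
  refine Finset.sum_eq_zero (fun l _ => ?_)
  rw [mul_comm, ← smul_eq_mul, map_smul]
  have h2 : τ (DirectSum.decompose (GrSyz.stdGr k (Fin n)) (c l) d : MvPolynomial (Fin n) k) ∈ 𝒩 d :=
    hτg d _ (SetLike.coe_mem _)
  have h3 : τ (DirectSum.decompose (GrSyz.stdGr k (Fin n)) (c l) d : MvPolynomial (Fin n) k) ∈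
      (⊥ : Submodule k N) := h ▸ h2
  rw [(Submodule.mem_bot k).1 h3, smul_zero]

/-- all the pieces between degree `0` and a nonzero degree are nonzero. -/
theorem piece_ne_bot_of_le (e : ℤ) (he : 𝒩 e ≠ ⊥) : 0 ≤ e ∧ ∀ d : ℤ, 0 ≤ d → d ≤ e → 𝒩 d ≠ ⊥ := by
  have he0 : 0 ≤ e := by
    by_contra hlt
    push Not at hlt
    exact he (piece_neg_eq_bot τ hτ hτg e hlt)
  refine ⟨he0, ?_⟩
  intro d hd hde hbot
  have key : ∀ t : ℕ, 𝒩 (d + t) = ⊥ := by
    intro t
    induction t with
    | zero => simpa using hbot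
    | succ t ih =>
      have := piece_succ_eq_bot τ hτ hτg (d + t) (by omega) ih
      have e' : d + ((t + 1 : ℕ) : ℤ) = d + t + 1 := by push_cast; ring
      rw [e']
      exact this
  have := key (e - d).toNat
  rw [Int.toNat_of_nonneg (by omega)] at this
  apply he
  have e' : d + (e - d) = e := by ring
  rwa [e'] at this

end cyclic

section linearforms

open Pointwise

variable {k : Type u} [Field k] {n : ℕ}
  {M : Type u} [AddCommGroup M] [Module k M] [Module (MvPolynomial (Fin n) k) M]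
  [IsScalarTower k (MvPolynomial (Fin n) k) M]
  {ℳ : ℤ → Submodule k M} [DirectSum.Decomposition ℳ]
  [SetLike.GradedSMul (GrSyz.stdGr k (Fin n)) ℳ]
  (π : MvPolynomial (Fin n) k →ₗ[MvPolynomial (Fin n) k] M) (hπ : Function.Surjective π)
  (hπg : GrLC.IsGrHom (GrSyz.stdGr k (Fin n)) ℳ π)

omit [DirectSum.Decomposition ℳ] [SetLike.GradedSMul (GrSyz.stdGr k (Fin n)) ℳ] in
theorem π_eq_smul (p : MvPolynomial (Fin n) k) : π p = p • π 1 := by
  rw [← map_smul, smul_eq_mul, mul_one]

theorem eq_C_of_mem_stdGr_zero {p : MvPolynomial (Fin n) k}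
    (hp : p ∈ GrSyz.stdGr k (Fin n) 0) : p = C (MvPolynomial.constantCoeff p) := by
  have hC : (C (MvPolynomial.constantCoeff p) : MvPolynomial (Fin n) k) ∈
      GrSyz.stdGr k (Fin n) 0 :=
    (GrSyz.mem_stdGr_iff k (Fin n) _ _).2 (MvPolynomial.isWeightedHomogeneous_C _ _)
  have h1 := Groth.Agent.Lib.Helper23.eq_zero_of_mem_stdGr_of_nonpos (k := k) (σ := Fin n)
    (n := 0) le_rfl (Submodule.sub_mem _ hp hC)
    (by rw [map_sub, MvPolynomial.constantCoeff_C, sub_self])
  exact sub_eq_zero.1 h1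

include hπ hπg in
theorem piece_zero_eq (x : M) (hx : x ∈ ℳ 0) : ∃ c : k, x = c • π 1 := by
  obtain ⟨p, hp, rfl⟩ := exists_homog_preimage π hπ hπg 0 x hx
  refine ⟨MvPolynomial.constantCoeff p, ?_⟩
  rw [π_eq_smul π p]
  conv_lhs => rw [eq_C_of_mem_stdGr_zero hp]
  rw [← algebraMap_eq, algebraMap_smul]

include hπ hπg in
theorem exists_span_of_mem_smul_top (ys : List (MvPolynomial (Fin n) k))
    (hys : ∀ y ∈ ys, y ∈ GrSyz.stdGr k (Fin n) 1) :
    ∀ x ∈ Ideal.ofList ys • (⊤ : Submodule (MvPolynomial (Fin n) k) M),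
      ∃ q ∈ Submodule.span k {y | y ∈ ys}, π q = (DirectSum.decompose ℳ x 1 : M) := by
  induction ys with
  | nil =>
    intro x hx
    rw [Ideal.ofList_nil, Submodule.bot_smul, Submodule.mem_bot] at hx
    refine ⟨0, Submodule.zero_mem _, ?_⟩
    rw [hx, map_zero, DirectSum.decompose_zero]
    rfl
  | cons y ys ih =>
    intro x hx
    rw [Ideal.ofList_cons_smul, Submodule.mem_sup] at hx
    obtain ⟨x₁, hx₁, x₂, hx₂, rfl⟩ := hx
    obtain ⟨m, -, rfl⟩ := (Submodule.mem_smul_pointwise_iff_exists _ _ _).1 hx₁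
    obtain ⟨q₂, hq₂, hq₂'⟩ := ih (fun y' hy' => hys y' (List.mem_cons_of_mem _ hy')) x₂ hx₂
    have hy : y ∈ GrSyz.stdGr k (Fin n) 1 := hys y List.mem_cons_self
    obtain ⟨c, hc⟩ := piece_zero_eq π hπ hπg (DirectSum.decompose ℳ m (1 - 1) : M)
      (by rw [sub_self]; exact SetLike.coe_mem _)
    refine ⟨c • y + q₂, Submodule.add_mem _ (Submodule.smul_mem _ _
      (Submodule.subset_span List.mem_cons_self))
      (Submodule.span_mono (fun z hz => List.mem_cons_of_mem _ hz) hq₂), ?_⟩
    rw [map_add, hq₂', DirectSum.decompose_add, DirectSum.add_apply, Submodule.coe_add,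
      decompose_smul_left ℳ 1 y hy, hc, π_eq_smul π (c • y), smul_assoc, smul_comm]

variable {N : Type u} [AddCommGroup N] [Module k N] [Module (MvPolynomial (Fin n) k) N]
  [IsScalarTower k (MvPolynomial (Fin n) k) N]
  {𝒩 : ℤ → Submodule k N} [DirectSum.Decomposition 𝒩]
  [SetLike.GradedSMul (GrSyz.stdGr k (Fin n)) 𝒩]
  (σ : M →ₗ[MvPolynomial (Fin n) k] N) (hσ : Function.Surjective σ)
  (hσg : GrLC.IsGrHom ℳ 𝒩 σ)
  (hlin : ∀ x : MvPolynomial (Fin n) k, x ∈ GrSyz.stdGr k (Fin n) 1 → π x = 0 → x = 0)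
  (ys : List (MvPolynomial (Fin n) k)) (hys : ∀ y ∈ ys, y ∈ GrSyz.stdGr k (Fin n) 1)
  (hker : LinearMap.ker σ = Ideal.ofList ys • (⊤ : Submodule (MvPolynomial (Fin n) k) M))

include hπ hπg hlin hys hker in
theorem mem_span_of_ker (p : MvPolynomial (Fin n) k) (hp : p ∈ GrSyz.stdGr k (Fin n) 1)
    (h0 : σ (π p) = 0) : p ∈ Submodule.span k {y | y ∈ ys} := by
  have h1 : π p ∈ Ideal.ofList ys • (⊤ : Submodule (MvPolynomial (Fin n) k) M) := by
    rw [← hker]
    exact h0
  obtain ⟨q, hq, hq'⟩ := exists_span_of_mem_smul_top π hπ hπg ys hys _ h1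
  rw [DirectSum.decompose_of_mem_same ℳ (hπg 1 p hp)] at hq'
  have hq1 : q ∈ GrSyz.stdGr k (Fin n) 1 := by
    have : Submodule.span k {y | y ∈ ys} ≤ GrSyz.stdGr k (Fin n) 1 :=
      Submodule.span_le.2 (fun y hy => hys y hy)
    exact this hq
  have h2 : p - q = 0 := hlin (p - q) (Submodule.sub_mem _ hp hq1) (by rw [map_sub, hq', sub_self])
  rw [sub_eq_zero.1 h2]
  exact hq

include hπ hπg hσ hσg hlin hys hker in
/-- the number of independent linear forms surviving in the quotient. -/
theorem finrank_piece_one_ge :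
    (n : ℤ) - (ys.length : ℤ) ≤ (Module.finrank k (𝒩 1) : ℤ) := by
  classical
  let g : GrSyz.stdGr k (Fin n) 1 →ₗ[k] N :=
    ((σ.restrictScalars k) ∘ₗ (π.restrictScalars k)).domRestrict (GrSyz.stdGr k (Fin n) 1)
  have hg : ∀ p, g p = σ (π (p : MvPolynomial (Fin n) k)) := fun p => rfl
  have hrange : LinearMap.range g = 𝒩 1 := by
    ext x
    constructor
    · rintro ⟨p, rfl⟩
      rw [hg]
      exact hσg 1 _ (hπg 1 _ p.2)
    · intro hx
      obtain ⟨m, hm, rfl⟩ := exists_homog_preimage σ hσ hσg 1 x hx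
      obtain ⟨p, hp, rfl⟩ := exists_homog_preimage π hπ hπg 1 m hm
      exact ⟨⟨p, hp⟩, rfl⟩
  have h1 := LinearMap.finrank_range_add_finrank_ker g
  rw [hrange] at h1
  have hV : Module.finrank k (GrSyz.stdGr k (Fin n) 1) = n := by
    have := finrank_stdGr_nat k (Fin n) 1
    rw [Nat.cast_one] at this
    rw [this, Fintype.card_fin]
    simp
  rw [hV] at h1
  have hkerle : Module.finrank k (LinearMap.ker g) ≤ ys.length := by
    have hmem : ∀ x : LinearMap.ker g,
        ((x : GrSyz.stdGr k (Fin n) 1) : MvPolynomial (Fin n) k) ∈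
          Submodule.span k ((ys.toFinset : Finset (MvPolynomial (Fin n) k)) :
            Set (MvPolynomial (Fin n) k)) := by
      intro x
      rw [List.coe_toFinset]
      exact mem_span_of_ker π hπ hπg σ hlin ys hys hker _ x.1.2 (by
        have := x.2
        rw [LinearMap.mem_ker, hg] at this
        exact this)
    let f : LinearMap.ker g →ₗ[k] Submodule.span k
        ((ys.toFinset : Finset (MvPolynomial (Fin n) k)) : Set (MvPolynomial (Fin n) k)) :=
      LinearMap.codRestrict _ ((GrSyz.stdGr k (Fin n) 1).subtype ∘ₗ (LinearMap.ker g).subtype) hmem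
    have hf : Function.Injective f := by
      intro x y hxy
      have := congrArg Subtype.val hxy
      exact Subtype.ext (Subtype.ext this)
    have h2 := LinearMap.finrank_le_finrank_of_injective hf
    have h3 : Module.finrank k (Submodule.span k
        ((ys.toFinset : Finset (MvPolynomial (Fin n) k)) : Set (MvPolynomial (Fin n) k))) ≤
        ys.toFinset.card := finrank_span_finset_le_card (R := k) (ys.toFinset)
    have h4 := List.toFinset_card_le ys
    omega
  omega

end linearforms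

section count

variable {k : Type u} [Field k] {r : ℕ}
  {M : Type u} [AddCommGroup M] [Module k M] [Module (MvPolynomial (Fin (r + 1)) k) M]
  [IsScalarTower k (MvPolynomial (Fin (r + 1)) k) M]
  {ℳ : ℤ → Submodule k M} [DirectSum.Decomposition ℳ]
  [SetLike.GradedSMul (GrSyz.stdGr k (Fin (r + 1))) ℳ]
  (π : MvPolynomial (Fin (r + 1)) k →ₗ[MvPolynomial (Fin (r + 1)) k] M)
  (hπ : Function.Surjective π)
  (hπg : GrLC.IsGrHom (GrSyz.stdGr k (Fin (r + 1))) ℳ π)
  {N : Type u} [AddCommGroup N] [Module k N] [Module (MvPolynomial (Fin (r + 1)) k) N]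
  [IsScalarTower k (MvPolynomial (Fin (r + 1)) k) N]
  {𝒩 : ℤ → Submodule k N} [DirectSum.Decomposition 𝒩]
  [SetLike.GradedSMul (GrSyz.stdGr k (Fin (r + 1))) 𝒩]
  (σ : M →ₗ[MvPolynomial (Fin (r + 1)) k] N) (hσ : Function.Surjective σ)
  (hσg : GrLC.IsGrHom ℳ 𝒩 σ)
  (hlin : ∀ x : MvPolynomial (Fin (r + 1)) k, x ∈ GrSyz.stdGr k (Fin (r + 1)) 1 → π x = 0 → x = 0)
  (ys : List (MvPolynomial (Fin (r + 1)) k))
  (hys : ∀ y ∈ ys, y ∈ GrSyz.stdGr k (Fin (r + 1)) 1)
  (hker : LinearMap.ker σ =
    Ideal.ofList ys • (⊤ : Submodule (MvPolynomial (Fin (r + 1)) k) M))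

include hπ hπg hσ hσg hlin hys hker in
theorem exists_top_degree_bound [Module.Finite k N] (ℓ : ℕ)
    (hℓ : Module.length (MvPolynomial (Fin (r + 1)) k) N = (ℓ : ℕ∞)) :
    ∃ e : ℤ, (∀ j, e < j → 𝒩 j = ⊥) ∧ e + ((r : ℤ) + 1 - (ys.length : ℤ)) ≤ (ℓ : ℤ) := by
  classical
  by_cases hall : ∀ j, 𝒩 j = ⊥
  · exact ⟨(ℓ : ℤ) - ((r : ℤ) + 1 - (ys.length : ℤ)), fun j _ => hall j, by omega⟩
  · push Not at hall
    have hind : iSupIndep 𝒩 := (DirectSum.Decomposition.isInternal 𝒩).submodule_iSupIndep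
    have hfin : {j | 𝒩 j ≠ ⊥}.Finite := WellFoundedGT.finite_ne_bot_of_iSupIndep hind
    obtain ⟨D, hD⟩ := hfin.bddAbove
    obtain ⟨e, he, hmax⟩ := Int.exists_greatest_of_bdd
      (P := fun j => 𝒩 j ≠ ⊥) ⟨D, fun j hj => hD hj⟩ hall
    have hτ : Function.Surjective (σ ∘ₗ π) := hσ.comp hπ
    have hτg : GrLC.IsGrHom (GrSyz.stdGr k (Fin (r + 1))) 𝒩 (σ ∘ₗ π) :=
      fun d p hp => hσg d _ (hπg d p hp)
    obtain ⟨he0, hne⟩ := piece_ne_bot_of_le (σ ∘ₗ π) hτ hτg e he
    have hvan : ∀ j, e < j → 𝒩 j = ⊥ := by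
      intro j hj
      by_contra hne'
      have := hmax j hne'
      omega
    refine ⟨e, hvan, ?_⟩
    have h1 := finrank_piece_one_ge π hπ hπg σ hσ hσg hlin ys hys hker
    have h2 : (Module.finrank k N : ℕ∞) ≤ (ℓ : ℕ∞) := by
      rw [← hℓ]
      exact finrank_le_length _ N 𝒩 rfl
    have h2' : Module.finrank k N ≤ ℓ := by exact_mod_cast h2
    obtain ⟨e', rfl⟩ := Int.eq_ofNat_of_zero_le he0
    have h3 := sum_finrank_le 𝒩 e'
    have hpos : ∀ d ∈ Finset.range (e' + 1), 1 ≤ Module.finrank k (𝒩 (d : ℤ)) := by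
      intro d hd
      rw [Finset.mem_range] at hd
      have hnb := hne (d : ℤ) (Int.natCast_nonneg d) (by exact_mod_cast Nat.lt_succ_iff.1 hd)
      by_contra hlt
      push Not at hlt
      exact hnb (Submodule.finrank_eq_zero.1 (by omega))
    by_cases he'0 : e' = 0
    · subst he'0
      have h4 : 𝒩 1 = ⊥ := hvan 1 (by norm_num)
      rw [h4, finrank_bot] at h1
      push_cast at h1 ⊢
      omega
    · have hmem : 1 ∈ Finset.range (e' + 1) := Finset.mem_range.2 (by omega)
      have h5 := Finset.add_sum_erase (Finset.range (e' + 1))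
        (fun d => Module.finrank k (𝒩 (d : ℤ))) hmem
      have h6 := Finset.card_nsmul_le_sum ((Finset.range (e' + 1)).erase 1)
        (fun d => Module.finrank k (𝒩 (d : ℤ))) 1
        (fun d hd => hpos d (Finset.mem_of_mem_erase hd))
      rw [Finset.card_erase_of_mem hmem, Finset.card_range, smul_eq_mul, mul_one] at h6
      have h7 : Module.finrank k (𝒩 ((1 : ℕ) : ℤ)) = Module.finrank k (𝒩 1) := by
        rw [Nat.cast_one]
      have h5' : Module.finrank k (𝒩 1) + ∑ x ∈ (Finset.range (e' + 1)).erase 1,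
          Module.finrank k (𝒩 (x : ℤ)) = ∑ x ∈ Finset.range (e' + 1),
          Module.finrank k (𝒩 (x : ℤ)) := by
        rw [← h7]
        exact h5
      omega

end count

end Groth.Agent.Helper13RegCount
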