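import Groth.Prelude.Def_RegImm
import Groth.Agent.S15821

set_option autoImplicit false
universe u
open AlgebraicGeometry CategoryTheory

namespace Groth.Agent.Helper13RegImm

theorem isIso_top_ι (Z : Scheme.{u}) : IsIso (⊤ : Z.Opens).ι := by
  rw [← Scheme.topIso_hom]; infer_instance

theorem isRegularImmersion_iso_comp {W Z X : Scheme.{u}} (j : W ⟶ Z) [IsIso j] (i : Z ⟶ X)
    (k : RegImm.Kind) (hi : RegImm.IsRegularImmersion k i) :
    RegImm.IsRegularImmersion k (j ≫ i) := by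
  obtain ⟨him, hat⟩ := hi
  have := him
  refine ⟨inferInstance, fun w => ?_⟩
  obtain ⟨U, hU, hcl, rs, hrs, hker⟩ := hat (j w)
  have := hcl
  refine ⟨U, ?_, ?_, rs, hrs, ?_⟩
  · simpa using hU
  · rw [morphismRestrict_comp]
    have h1 : IsIso (j ∣_ i ⁻¹ᵁ U.1) := inferInstance
    have h2 : IsClosedImmersion (j ∣_ i ⁻¹ᵁ U.1) := inferInstance
    exact @IsClosedImmersion.comp _ _ _ _ _ h2 hcl
  · rw [Scheme.Hom.comp_app]
    show RingHom.ker ((j.app (i ⁻¹ᵁ U.1)).hom.comp (i.app U.1).hom) = _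
    rw [RingHom.ker_comp_of_injective, hker]
    exact (ConcreteCategory.bijective_of_isIso (j.app (i ⁻¹ᵁ U.1))).injective

theorem koszul_of_kind {R : Type u} [CommRing R] (k : RegImm.Kind)
    (hk : k = RegImm.Kind.regular ∨ k = RegImm.Kind.koszul) (rs : List R) (h : k.Seq R rs) :
    RegImm.Kind.koszul.Seq R rs := by
  rcases hk with rfl | rfl
  · exact (Groth.Agent.S15821.result R rs
      (RingTheory.Sequence.IsRegular.toIsWeaklyRegular h)).1
  · exact h

theorem isRegularImmersion_koszul_of_kind {Z X : Scheme.{u}} (i : Z ⟶ X) (k : RegImm.Kind)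
    (hk : k = RegImm.Kind.regular ∨ k = RegImm.Kind.koszul) (hi : RegImm.IsRegularImmersion k i) :
    RegImm.IsRegularImmersion .koszul i := by
  obtain ⟨him, hat⟩ := hi
  refine ⟨him, fun z => ?_⟩
  obtain ⟨U, hU, hcl, rs, hrs, hker⟩ := hat z
  exact ⟨U, hU, hcl, rs, koszul_of_kind k hk rs hrs, hker⟩

theorem main {Z X : Scheme.{u}} (i : Z ⟶ X) (k : RegImm.Kind)
    (hk : k = RegImm.Kind.regular ∨ k = RegImm.Kind.koszul) (hi : RegImm.IsRegularImmersion k i) (z : Z) :
    Synt.IsKoszulAt i z := by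
  have := isIso_top_ι Z
  have h1 := isRegularImmersion_koszul_of_kind i k hk hi
  have : IsImmersion i := h1.1
  refine ⟨⊤, X, (⊤ : Z.Opens).ι ≫ i, 𝟙 X, trivial, inferInstance,
    isRegularImmersion_iso_comp _ i _ h1, inferInstance, ?_⟩
  rw [Category.comp_id]

end Groth.Agent.Helper13RegImm
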