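import Groth.Agent.Lib.Helper5KoszulGor

/-!
# Koszul-regular ideals are locally generated by regular sequences (Noetherian case)
-/

set_option autoImplicit false
set_option linter.unusedSectionVars false
set_option linter.style.haveILetI false
universe u

namespace Groth.Agent.Lib.Helper19.LciH1

open CategoryTheory CochainComplex CohIII IsLocalRing LocCoh
open Groth.Agent.Helper13Kz Groth.Agent.Helper13KzLift Groth.Agent.Lib.Helper5.KoszulGor

lemma ofList_reverse {R : Type u} [CommRing R] (l : List R) :
    Ideal.ofList l.reverse = Ideal.ofList l := by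
  unfold Ideal.ofList
  congr 1
  ext x
  exact List.mem_reverse

/-- in a Noetherian local ring, a Koszul-acyclic list of elements of the maximal ideal is, read
backwards, a weakly regular sequence -/
theorem isWeaklyRegular_reverse_of_koszul (R : Type u) [CommRing R] [IsLocalRing R]
    [IsNoetherianRing R] :
    ∀ (l : List R), (∀ x ∈ l, x ∈ maximalIdeal R) →
      (∀ i : ℤ, i ≠ 0 → Subsingleton (KH l R i)) →
      RingTheory.Sequence.IsWeaklyRegular R l.reverse
  | [], _, _ => by
    rw [List.reverse_nil]
    exact RingTheory.Sequence.IsWeaklyRegular.nil R R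
  | x :: l, hm, hK => by
    obtain ⟨hK0, hinj⟩ := acyclic_of_cons R x l (hm x List.mem_cons_self) hK
    have IH := isWeaklyRegular_reverse_of_koszul R l
      (fun y hy => hm y (List.mem_cons_of_mem _ hy)) hK0
    rw [List.reverse_cons, RingTheory.Sequence.isWeaklyRegular_append_iff]
    refine ⟨IH, ?_⟩
    rw [RingTheory.Sequence.isWeaklyRegular_singleton_iff, ofList_reverse]
    obtain ⟨e⟩ := Groth.Agent.S11917.main R l
    intro a b hab
    have h1 : x • e.symm a = x • e.symm b := by
      rw [← map_smul, ← map_smul]
      exact congrArg e.symm hab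
    have h2 : e.symm a = e.symm b := hinj h1
    exact e.symm.injective h2

/-- a Koszul-regular ideal of a Noetherian ring is generated, locally at a prime containing it,
by a weakly regular sequence -/
theorem exists_local_regular {P : Type u} [CommRing P] [IsNoetherianRing P] (I : Ideal P)
    (hI : LCI.IsKoszulRegularIdeal I) (Q : Ideal P) [hQ : Q.IsPrime] (hIQ : I ≤ Q) :
    ∃ (c : ℕ) (g : Fin c → Localization.AtPrime Q),
      RingTheory.Sequence.IsWeaklyRegular (Localization.AtPrime Q) (List.ofFn g) ∧
      Ideal.span (Set.range g) = I.map (algebraMap P (Localization.AtPrime Q)) := by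
  obtain ⟨g, hg, l, hl, hspan⟩ := hI ⟨Q, hQ⟩ hIQ
  have hgu : IsUnit (algebraMap P (Localization.AtPrime Q) g) :=
    IsLocalization.map_units (Localization.AtPrime Q) (⟨g, hg⟩ : Q.primeCompl)
  let ψ : Localization.Away g →+* Localization.AtPrime Q := IsLocalization.Away.lift g hgu
  have hψ : ψ.comp (algebraMap P (Localization.Away g)) =
      algebraMap P (Localization.AtPrime Q) := IsLocalization.Away.lift_comp g hgu
  letI : Algebra (Localization.Away g) (Localization.AtPrime Q) := ψ.toAlgebra
  haveI : IsScalarTower P (Localization.Away g) (Localization.AtPrime Q) :=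
    IsScalarTower.of_algebraMap_eq' hψ.symm
  have hflat : Module.Flat (Localization.Away g) (Localization.AtPrime Q) :=
    (Module.flat_iff_of_isLocalization (Localization.Away g) (Submonoid.powers g)
      (Localization.AtPrime Q)).mpr inferInstance
  have hK : ∀ i : ℤ, i ≠ 0 → Subsingleton (KH (l.map ψ) (Localization.AtPrime Q) i) :=
    fun i hi => subsingleton_KH_map_of_flat ψ hflat l i ((isKoszulRegularSeq_iff _ l).mp hl i hi)
  have hspan' : Ideal.ofList (l.map ψ) = I.map (algebraMap P (Localization.AtPrime Q)) := by
    rw [← Ideal.map_ofList, ← hψ, ← Ideal.map_map, hspan]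
  have hmem : ∀ y ∈ l.map ψ, y ∈ maximalIdeal (Localization.AtPrime Q) := by
    intro y hy
    have h1 : y ∈ Ideal.ofList (l.map ψ) := Ideal.subset_span hy
    rw [hspan'] at h1
    rw [← Localization.AtPrime.map_eq_maximalIdeal]
    exact Ideal.map_mono hIQ h1
  have hreg := isWeaklyRegular_reverse_of_koszul (Localization.AtPrime Q) (l.map ψ) hmem hK
  refine ⟨(l.map ψ).reverse.length, (l.map ψ).reverse.get, ?_, ?_⟩
  · rw [List.ofFn_get]
    exact hreg
  · rw [Set.range_list_get]
    have h3 : Ideal.span {x | x ∈ (l.map ψ).reverse} = Ideal.ofList (l.map ψ).reverse := rfl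
    rw [h3, ofList_reverse, hspan']

end Groth.Agent.Lib.Helper19.LciH1
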