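import Mathlib
import Groth.Agent.Lib.Helper13Vasc4
import Groth.Agent.Lib.Helper19LciH1B
import Groth.Agent.Lib.Helper13LciSmB
import Groth.Agent.Lib.Helper13RegImm

set_option autoImplicit false
set_option linter.style.haveILetI false
universe u
open RingTheory.Sequence Polynomial

namespace Groth.Agent.Helper13RegLoc

/-- every list of elements of a localization is, up to units, the image of a list of elements of
the base ring -/
theorem exists_lift_units {P : Type u} [CommRing P] (M : Submonoid P) (S : Type u) [CommRing S]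
    [Algebra P S] [IsLocalization M S] (l : List S) :
    ∃ as : List P, List.Forall₂ (fun (t t' : S) => ∃ u : Sˣ, t' = t * (u : S)) l
      (as.map (algebraMap P S)) := by
  induction l with
  | nil => exact ⟨[], List.Forall₂.nil⟩
  | cons x l ih =>
    obtain ⟨as, has⟩ := ih
    obtain ⟨⟨a, s⟩, h⟩ := IsLocalization.surj M x
    refine ⟨a :: as, ?_⟩
    rw [List.map_cons]
    refine List.Forall₂.cons ⟨(IsLocalization.map_units S s).unit, ?_⟩ has
    rw [IsUnit.unit_spec]
    exact h.symm

theorem exists_away_regular_of_kr {P : Type u} [CommRing P] [IsNoetherianRing P] (I : Ideal P)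
    (hI : LCI.IsKoszulRegularIdeal I) (𝔭 : Ideal P) [h𝔭 : 𝔭.IsPrime] (hI𝔭 : I ≤ 𝔭) :
    ∃ (G : P) (as : List P), G ∉ 𝔭 ∧
      IsRegular (Localization.Away G) (as.map (algebraMap P (Localization.Away G))) ∧
      Ideal.ofList (as.map (algebraMap P (Localization.Away G))) =
        I.map (algebraMap P (Localization.Away G)) := by
  obtain ⟨c, g, hg, hspan⟩ := Groth.Agent.Lib.Helper19.LciH1.exists_local_regular I hI 𝔭 hI𝔭
  obtain ⟨as, has⟩ := exists_lift_units 𝔭.primeCompl (Localization.AtPrime 𝔭) (List.ofFn g)
  have h1 := Groth.Agent.Helper13Vasc.isWeaklyRegular_of_forall₂_units has hg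
  have h2 := Groth.Agent.Helper13Vasc.ofList_eq_of_forall₂_units has
  have h3 : Ideal.ofList (List.ofFn g) = Ideal.span (Set.range g) := by
    unfold Ideal.ofList
    congr 1
    ext x
    simp [List.mem_ofFn]
  obtain ⟨G, hG, hreg, hgen⟩ := Groth.Agent.Helper13Vasc.exists_away_isRegular 𝔭 I hI𝔭 as h1
    (by rw [h2, h3, hspan])
  exact ⟨G, as, hG, hreg, hgen⟩

end Groth.Agent.Helper13RegLoc
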