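import Mathlib
import Groth.Agent.Lib.Helper13RegLocA

set_option autoImplicit false
set_option linter.style.haveILetI false
universe u
open RingTheory.Sequence Polynomial

namespace Groth.Agent.Helper13RegLoc

section cons

variable {R S : Type u} [CommRing R] [CommRing S]

/-- a nonzerodivisor `t` followed by a list which is weakly regular modulo `t` is weakly regular -/
theorem isWeaklyRegular_cons_of_quotient (t : R) (ht : IsSMulRegular R t) (π : R →+* S)
    (hπ : Function.Surjective π) (hker : RingHom.ker π = Ideal.span {t}) (rs : List R)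
    (h : IsWeaklyRegular S (rs.map π)) : IsWeaklyRegular R (t :: rs) := by
  rw [Groth.Agent.Helper13Vasc.isWeaklyRegular_self_iff] at h ⊢
  have hπt : π t = 0 := by
    rw [← RingHom.mem_ker, hker]
    exact Ideal.mem_span_singleton_self t
  intro i hi w hw
  cases i with
  | zero =>
    simp only [List.take_zero, Ideal.ofList_nil, List.getElem_cons_zero, Ideal.mem_bot] at hw ⊢
    exact ht (by simpa using hw)
  | succ j =>
    simp only [List.take_succ_cons, List.getElem_cons_succ, Ideal.ofList_cons] at hw ⊢
    have hj : j < rs.length := by simpa using hi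
    have h1 : π rs[j] * π w ∈ Ideal.ofList ((rs.map π).take j) := by
      rw [← map_mul, ← List.map_take, ← Ideal.map_ofList]
      have h0 := Ideal.mem_map_of_mem π hw
      rw [Ideal.map_sup, Ideal.map_span, Set.image_singleton, hπt] at h0
      have hz : Ideal.span ({0} : Set S) = ⊥ := Ideal.span_singleton_eq_bot.mpr rfl
      rw [hz, bot_sup_eq] at h0
      exact h0
    have h2 := h j (by simpa using hj) (π w) (by simpa using h1)
    rw [← List.map_take, ← Ideal.map_ofList] at h2
    obtain ⟨v, hv, hvw⟩ := (Ideal.mem_map_iff_of_surjective π hπ).mp h2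
    have h3 : w - v ∈ Ideal.span {t} := by
      rw [← hker, RingHom.mem_ker, map_sub, hvw, sub_self]
    have h4 : w = (w - v) + v := by ring
    rw [h4]
    exact Ideal.add_mem _ (Ideal.mem_sup_left h3) (Ideal.mem_sup_right hv)

end cons

section poly

variable {P : Type u} [CommRing P] (G : P)

theorem isSMulRegular_tt : IsSMulRegular P[X] (C G * X - 1 : P[X]) := by
  have hu : IsUnit (((C G * X - 1 : P[X]) : P[X]) : PowerSeries P) := by
    rw [PowerSeries.isUnit_iff_constantCoeff]
    simp
  intro a b hab
  have h1 : ((C G * X - 1 : P[X]) : PowerSeries P) * (a : PowerSeries P) =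
      ((C G * X - 1 : P[X]) : PowerSeries P) * (b : PowerSeries P) := by
    rw [← Polynomial.coe_mul, ← Polynomial.coe_mul]
    exact congrArg _ hab
  exact Polynomial.coe_injective P (hu.mul_left_cancel h1)

/-- evaluation at `1/G` -/
noncomputable def piG : P[X] →+* Localization.Away G :=
  ((Localization.awayEquivAdjoin G).symm.toRingEquiv : AdjoinRoot (C G * X - 1 : P[X]) →+* _).comp
    (AdjoinRoot.mk (C G * X - 1 : P[X]))

theorem piG_surjective : Function.Surjective (piG G) :=
  (Localization.awayEquivAdjoin G).symm.surjective.comp AdjoinRoot.mk_surjective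

theorem ker_piG : RingHom.ker (piG G) = Ideal.span {(C G * X - 1 : P[X])} := by
  ext x
  rw [RingHom.mem_ker, Ideal.mem_span_singleton]
  unfold piG
  rw [RingHom.comp_apply]
  constructor
  · intro h
    have h2 : AdjoinRoot.mk (C G * X - 1 : P[X]) x = 0 :=
      (Localization.awayEquivAdjoin G).symm.injective (by rw [map_zero]; exact h)
    exact AdjoinRoot.mk_eq_zero.mp h2
  · intro h
    rw [AdjoinRoot.mk_eq_zero.mpr h]
    exact map_zero _

theorem piG_C (a : P) : piG G (C a) = algebraMap P (Localization.Away G) a := by
  unfold piG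
  rw [RingHom.comp_apply, AdjoinRoot.mk_C]
  exact (Localization.awayEquivAdjoin G).symm.commutes a

theorem isWeaklyRegular_tt_cons (as : List P)
    (h : IsWeaklyRegular (Localization.Away G) (as.map (algebraMap P (Localization.Away G)))) :
    IsWeaklyRegular P[X] ((C G * X - 1 : P[X]) :: as.map C) := by
  refine isWeaklyRegular_cons_of_quotient _ (isSMulRegular_tt G) (piG G) (piG_surjective G)
    (ker_piG G) _ ?_
  rw [List.map_map]
  have : (⇑(piG G) ∘ ⇑(C : P →+* P[X])) = ⇑(algebraMap P (Localization.Away G)) := by
    funext a
    exact piG_C G a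
  rw [this]
  exact h

end poly

end Groth.Agent.Helper13RegLoc
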