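import Mathlib
import Groth.Agent.Lib.Helper13RegLocB

set_option autoImplicit false
set_option linter.style.haveILetI false
universe u
open RingTheory.Sequence Polynomial

namespace Groth.Agent.Helper13RegLoc

section quot

variable {P : Type u} [CommRing P] (G : P) (I : Ideal P)

theorem isLocalization_away_quot' :
    IsLocalization.Away (Ideal.Quotient.mk I G)
      (Localization.Away G ⧸ I.map (algebraMap P (Localization.Away G))) := by
  have inst : IsLocalization (Algebra.algebraMapSubmonoid (P ⧸ I) (Submonoid.powers G))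
      (Localization.Away G ⧸ I.map (algebraMap P (Localization.Away G))) := inferInstance
  have h : Algebra.algebraMapSubmonoid (P ⧸ I) (Submonoid.powers G) =
      Submonoid.powers (Ideal.Quotient.mk I G) := by
    unfold Algebra.algebraMapSubmonoid
    rw [Submonoid.map_powers]
    rfl
  rw [h] at inst
  exact inst

theorem exists_quot_equiv (as : List P)
    (hgen : Ideal.ofList (as.map (algebraMap P (Localization.Away G))) =
      I.map (algebraMap P (Localization.Away G))) :
    ∃ e : (P[X] ⧸ Ideal.ofList ((C G * X - 1 : P[X]) :: as.map C)) ≃+*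
        Localization.Away (Ideal.Quotient.mk I G),
      ∀ a : P, e (Ideal.Quotient.mk _ (C a)) =
        algebraMap (P ⧸ I) (Localization.Away (Ideal.Quotient.mk I G)) (Ideal.Quotient.mk I a) := by
  obtain ⟨J, hJ⟩ : ∃ J : Ideal P[X], J = Ideal.ofList ((C G * X - 1 : P[X]) :: as.map C) :=
    ⟨_, rfl⟩
  obtain ⟨J', hJ'⟩ : ∃ J' : Ideal (Localization.Away G),
      J' = I.map (algebraMap P (Localization.Away G)) := ⟨_, rfl⟩
  have hπt : piG G (C G * X - 1 : P[X]) = 0 := by
    rw [← RingHom.mem_ker, ker_piG]
    exact Ideal.mem_span_singleton_self _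
  have hmap : J.map (piG G) = J' := by
    rw [hJ, hJ', Ideal.map_ofList, List.map_cons, hπt, Ideal.ofList_cons, List.map_map]
    have : (⇑(piG G) ∘ ⇑(C : P →+* P[X])) = ⇑(algebraMap P (Localization.Away G)) := by
      funext a
      exact piG_C G a
    rw [this, hgen]
    have hz : Ideal.span ({0} : Set (Localization.Away G)) = ⊥ :=
      Ideal.span_singleton_eq_bot.mpr rfl
    rw [hz, bot_sup_eq]
  have hle : J ≤ J'.comap (piG G) := by
    rw [← Ideal.map_le_iff_le_comap, hmap]
  have hcomap : J'.comap (piG G) ≤ J := by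
    rw [← hmap, Ideal.comap_map_of_surjective _ (piG_surjective G)]
    refine sup_le le_rfl ?_
    have : Ideal.comap (piG G) ⊥ = RingHom.ker (piG G) := rfl
    rw [this, ker_piG, hJ, Ideal.ofList_cons]
    exact le_sup_left
  let e1 : (P[X] ⧸ J) ≃+* (Localization.Away G ⧸ J') :=
    RingEquiv.ofBijective (Ideal.quotientMap J' (piG G) hle)
      ⟨Ideal.quotientMap_injective' hcomap,
        Ideal.quotientMap_surjective (piG_surjective G)⟩
  subst hJ'
  haveI := isLocalization_away_quot' G I
  let e2 : (Localization.Away G ⧸ I.map (algebraMap P (Localization.Away G))) ≃ₐ[P ⧸ I]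
      Localization.Away (Ideal.Quotient.mk I G) :=
    IsLocalization.algEquiv (Submonoid.powers (Ideal.Quotient.mk I G)) _ _
  subst hJ
  refine ⟨e1.trans e2.toRingEquiv, fun a => ?_⟩
  have h1 : e1 (Ideal.Quotient.mk _ (C a)) =
      algebraMap (P ⧸ I) (Localization.Away G ⧸ I.map (algebraMap P (Localization.Away G)))
        (Ideal.Quotient.mk I a) := by
    show Ideal.quotientMap _ (piG G) hle (Ideal.Quotient.mk _ (C a)) = _
    rw [Ideal.quotientMap_mk, piG_C]
    rfl
  rw [RingEquiv.trans_apply, h1]
  exact e2.commutes _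

end quot

end Groth.Agent.Helper13RegLoc
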