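import Mathlib
import Groth.Agent.Lib.Helper13RegLocC

set_option autoImplicit false
set_option linter.style.haveILetI false
universe u
open RingTheory.Sequence Polynomial

namespace Groth.Agent.Helper13RegLoc

open AlgebraicGeometry CategoryTheory Groth.Agent.Lib.Helper5.LciLocal
  Groth.Agent.Lib.Helper5.LciComp in
theorem kr_of_isRegularImmersion (P : Type u) [CommRing P] (I : Ideal P)
    (h : RegImm.IsRegularImmersion .regular
      (Spec.map (CommRingCat.ofHom (Ideal.Quotient.mk I)))) : LCI.IsKoszulRegularIdeal I := by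
  have h1 := Groth.Agent.Helper13RegImm.isRegularImmersion_koszul_of_kind _ .regular (Or.inl rfl) h
  have h2 := Groth.Agent.Helper13SmKR.lciMor_of_isRegularImmersion _ h1
  rw [HasRingHomProperty.Spec_iff (P := LciMor)] at h2
  have h3 := (Groth.Agent.Helper13SmKR.isLCIHom_iff_of_surjective _
    Ideal.Quotient.mk_surjective).mp h2
  rw [Ideal.mk_ker] at h3
  exact h3

theorem isWeaklyRegular_map_ringEquiv {R S : Type u} [CommRing R] [CommRing S] (e : R ≃+* S)
    (rs : List R) (h : IsWeaklyRegular R rs) : IsWeaklyRegular S (rs.map e) := by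
  rw [Groth.Agent.Helper13Vasc.isWeaklyRegular_self_iff] at h ⊢
  intro i hi w hw
  have hi' : i < rs.length := by simpa using hi
  have h1 : rs[i] * e.symm w ∈ Ideal.ofList (rs.take i) := by
    have h2 := Ideal.mem_map_of_mem (e.symm : S →+* R) hw
    rw [← List.map_take, Ideal.map_ofList, List.map_map] at h2
    have h3 : ((⇑(e.symm : S →+* R)) ∘ ⇑e) = id := by
      funext x
      exact e.symm_apply_apply x
    rw [h3, List.map_id, map_mul, List.getElem_map] at h2
    have h4 : (e.symm : S →+* R) (e rs[i]) = rs[i] := e.symm_apply_apply _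
    rw [h4] at h2
    exact h2
  have h5 := h i hi' _ h1
  have h6 := Ideal.mem_map_of_mem (e : R →+* S) h5
  rw [Ideal.map_ofList, List.map_take] at h6
  have h7 : (e : R →+* S) (e.symm w) = w := e.apply_symm_apply w
  rw [h7] at h6
  exact h6

theorem main_aux (A : Type u) [CommRing A] (n : ℕ)
    (I : Ideal (MvPolynomial (Fin n) A)) (g : MvPolynomial (Fin n) A ⧸ I)
    [Nontrivial (Localization.Away g)] (Ls : List (MvPolynomial (Fin n) A)[X])
    (hW : IsWeaklyRegular (MvPolynomial (Fin n) A)[X] Ls)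
    (e : ((MvPolynomial (Fin n) A)[X] ⧸ Ideal.ofList Ls) ≃+* Localization.Away g)
    (he : ∀ a : MvPolynomial (Fin n) A, e (Ideal.Quotient.mk _ (C a)) =
        algebraMap (MvPolynomial (Fin n) A ⧸ I) (Localization.Away g) (Ideal.Quotient.mk I a)) :
    ∃ (d : ℕ) (Pf : Fin d → MvPolynomial (Fin (n + 1)) A),
        IsRegular (MvPolynomial (Fin (n + 1)) A) (List.ofFn Pf) ∧
        Nonempty (Localization.Away g ≃ₐ[A]
          (MvPolynomial (Fin (n + 1)) A ⧸ Ideal.ofList (List.ofFn Pf))) := by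
  let ε := MvPolynomial.finSuccEquiv A n
  have hW' := isWeaklyRegular_map_ringEquiv ε.symm.toRingEquiv Ls hW
  have hmapI : Ideal.ofList Ls =
      (Ideal.ofList (Ls.map ε.symm.toRingEquiv)).map (ε.toRingEquiv : _ →+* _) := by
    rw [Ideal.map_ofList, List.map_map]
    have h3 : ((⇑(ε.toRingEquiv : _ →+* (MvPolynomial (Fin n) A)[X])) ∘ ⇑ε.symm.toRingEquiv) =
        id := by
      funext x
      exact ε.apply_symm_apply x
    rw [h3, List.map_id]
  let e3 : (MvPolynomial (Fin (n + 1)) A ⧸ Ideal.ofList (Ls.map ε.symm.toRingEquiv)) ≃+*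
      ((MvPolynomial (Fin n) A)[X] ⧸ Ideal.ofList Ls) :=
    Ideal.quotientEquiv _ _ ε.toRingEquiv hmapI
  have hne : Ideal.ofList (Ls.map ε.symm.toRingEquiv) ≠ ⊤ := by
    intro htop
    have : Subsingleton (MvPolynomial (Fin (n + 1)) A ⧸
        Ideal.ofList (Ls.map ε.symm.toRingEquiv)) :=
      Ideal.Quotient.subsingleton_iff.mpr htop
    exact not_subsingleton _ ((e3.trans e).symm.toEquiv.subsingleton)
  refine ⟨(Ls.map ε.symm.toRingEquiv).length, (Ls.map ε.symm.toRingEquiv).get, ?_, ?_⟩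
  · rw [List.ofFn_get]
    refine ⟨hW', ?_⟩
    rw [smul_eq_mul, Ideal.mul_top]
    exact hne.symm
  · rw [List.ofFn_get]
    refine ⟨(AlgEquiv.ofRingEquiv (f := e3.trans e) ?_).symm⟩
    intro a
    have h1 : algebraMap A (MvPolynomial (Fin (n + 1)) A ⧸
        Ideal.ofList (Ls.map ε.symm.toRingEquiv)) a =
        Ideal.Quotient.mk _ (algebraMap A (MvPolynomial (Fin (n + 1)) A) a) := rfl
    rw [h1, RingEquiv.trans_apply]
    have h2 : e3 (Ideal.Quotient.mk _ (algebraMap A (MvPolynomial (Fin (n + 1)) A) a)) =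
        Ideal.Quotient.mk _ (ε (algebraMap A (MvPolynomial (Fin (n + 1)) A) a)) := rfl
    rw [h2, ε.commutes]
    have h3 : algebraMap A (MvPolynomial (Fin n) A)[X] a =
        C (algebraMap A (MvPolynomial (Fin n) A) a) := rfl
    rw [h3, he]
    rfl

theorem main (A : Type u) [CommRing A] [IsNoetherianRing A] (n : ℕ)
    (I : Ideal (MvPolynomial (Fin n) A)) (hK : LCI.IsKoszulRegularIdeal I)
    (q : PrimeSpectrum (MvPolynomial (Fin n) A ⧸ I)) :
    ∃ g : MvPolynomial (Fin n) A ⧸ I, g ∉ q.asIdeal ∧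
      ∃ (d : ℕ) (Pf : Fin d → MvPolynomial (Fin (n + 1)) A),
        IsRegular (MvPolynomial (Fin (n + 1)) A) (List.ofFn Pf) ∧
        Nonempty (Localization.Away g ≃ₐ[A]
          (MvPolynomial (Fin (n + 1)) A ⧸ Ideal.ofList (List.ofFn Pf))) := by
  haveI : (q.asIdeal.comap (Ideal.Quotient.mk I)).IsPrime := Ideal.comap_isPrime _ _
  have hI𝔭 : I ≤ q.asIdeal.comap (Ideal.Quotient.mk I) := by
    intro x hx
    rw [Ideal.mem_comap, Ideal.Quotient.eq_zero_iff_mem.mpr hx]
    exact q.asIdeal.zero_mem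
  obtain ⟨G, as, hG, hreg, hgen⟩ :=
    exists_away_regular_of_kr I hK (q.asIdeal.comap (Ideal.Quotient.mk I)) hI𝔭
  have hg : Ideal.Quotient.mk I G ∉ q.asIdeal := hG
  refine ⟨Ideal.Quotient.mk I G, hg, ?_⟩
  have hW := isWeaklyRegular_tt_cons G as hreg.toIsWeaklyRegular
  obtain ⟨e, he⟩ := exists_quot_equiv G I as hgen
  haveI : Nontrivial (Localization.Away (Ideal.Quotient.mk I G)) := by
    have hu : IsUnit (algebraMap (MvPolynomial (Fin n) A ⧸ I) (Localization.AtPrime q.asIdeal)
        (Ideal.Quotient.mk I G)) :=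
      IsLocalization.map_units (Localization.AtPrime q.asIdeal)
        (⟨Ideal.Quotient.mk I G, hg⟩ : q.asIdeal.primeCompl)
    exact RingHom.domain_nontrivial (IsLocalization.Away.lift (Ideal.Quotient.mk I G) hu)
  exact main_aux A n I (Ideal.Quotient.mk I G) _ hW e he

end Groth.Agent.Helper13RegLoc
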