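import Mathlib
import Groth.Agent.Lib.Helper13RelProjA
import Groth.Agent.Lib.Helper27RelProj

/-!
# helper13: relative Proj toolbox, part G: Proj of the quotient by nilpotents of the irrelevant ideal
-/

set_option autoImplicit false

namespace Groth.Agent.Helper13RelProj

open CategoryTheory CategoryTheory.Limits AlgebraicGeometry Opposite TopologicalSpace
open HomogeneousLocalization
open scoped HomogeneousIdeal

universe u

section Nil
variable {A B σ τ : Type u} [CommRing A] [SetLike σ A] [AddSubgroupClass σ A]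
  [CommRing B] [SetLike τ B] [AddSubgroupClass τ B]
  {𝒜 : ℕ → σ} {ℬ : ℕ → τ} [GradedRing 𝒜] [GradedRing ℬ]
  (f : 𝒜 →+*ᵍ ℬ) (hf : ℬ₊ ≤ 𝒜₊.map f)

/-- kernel of `Away.map` consists of nilpotents if the kernel of `f` in positive degrees does -/
theorem ker_awayMap_le_nilradical
    (hker : ∀ d, 0 < d → ∀ a ∈ 𝒜 d, f a = 0 → IsNilpotent a)
    {i : ℕ} (hi : 0 < i) (s : A) (hs : s ∈ 𝒜 i) :
    RingHom.ker (Away.map f s) ≤ nilradical (Away 𝒜 s) := by
  intro z hz
  rw [RingHom.mem_ker] at hz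
  obtain ⟨n, a, ha, rfl⟩ := Away.mk_surjective 𝒜 hs z
  rw [Away.map_mk] at hz
  have hz' := congr_arg HomogeneousLocalization.val hz
  simp only [Away.val_mk, HomogeneousLocalization.val_zero] at hz'
  rw [Localization.mk_eq_mk'_apply, IsLocalization.mk'_eq_zero_iff] at hz'
  obtain ⟨⟨_, k, rfl⟩, hk⟩ := hz'
  have h1 : s ^ (k + 1) * a ∈ 𝒜 ((k + 1) • i + n • i) :=
    SetLike.mul_mem_graded (SetLike.pow_mem_graded _ hs) ha
  have h2 : f (s ^ (k + 1) * a) = 0 := by
    have hk' : f s ^ k * f a = 0 := hk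
    rw [map_mul, map_pow, pow_succ, mul_assoc, mul_comm (f s), ← mul_assoc, hk', zero_mul]
  obtain ⟨m, hm⟩ := hker _ (by positivity) _ h1 h2
  rw [mem_nilradical]
  refine ⟨m, ?_⟩
  apply HomogeneousLocalization.val_injective
  rw [HomogeneousLocalization.val_pow, Away.val_mk, HomogeneousLocalization.val_zero,
    Localization.mk_pow, Localization.mk_eq_mk'_apply, IsLocalization.mk'_eq_zero_iff]
  refine ⟨⟨(s ^ (k + 1)) ^ m, (k + 1) * m, by simp only [pow_mul]⟩, ?_⟩
  simp only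
  rw [← mul_pow, hm]

theorem surjective_map_of_nil_ker (hsurj : ∀ d, 0 < d → ∀ b ∈ ℬ d, ∃ a ∈ 𝒜 d, f a = b)
    (hker : ∀ d, 0 < d → ∀ a ∈ 𝒜 d, f a = 0 → IsNilpotent a) :
    Surjective (Proj.map f hf) := by
  refine map_of_forall_away f hf @Surjective fun i hi s hs => ?_
  have h := PrimeSpectrum.isHomeomorph_comap (Away.map f s)
    (fun x => ⟨1, one_pos, by
      obtain ⟨y, rfl⟩ := awayMap_surjective f hsurj hi s hs x
      exact ⟨y, by simp⟩⟩)
    (ker_awayMap_le_nilradical f hker hi s hs)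
  exact ⟨h.surjective⟩

theorem isReduced_proj_of_ker (hsurj : Function.Surjective f)
    (hker : ∀ a : A, f a = 0 ↔ a ∈ (𝒜₊).toIdeal ∧ IsNilpotent a) : IsReduced (Proj ℬ) := by
  classical
  refine Groth.Agent.Lib.Helper27RelProj.isReduced_proj ℬ fun x hx hnil => ?_
  obtain ⟨a, rfl⟩ := hsurj x
  have hx0 : GradedRing.proj ℬ 0 (f a) = 0 := (HomogeneousIdeal.mem_irrelevant_iff ℬ _).mp hx
  have ha' : a - (DirectSum.decompose 𝒜 a 0 : A) ∈ (𝒜₊).toIdeal := by
    change a - (DirectSum.decompose 𝒜 a 0 : A) ∈ 𝒜₊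
    rw [HomogeneousIdeal.mem_irrelevant_iff, map_sub, GradedRing.proj_apply, GradedRing.proj_apply,
      DirectSum.decompose_of_mem_same 𝒜 (SetLike.coe_mem _), sub_self]
  have hfa : f (a - (DirectSum.decompose 𝒜 a 0 : A)) = f a := by
    rw [map_sub, GradedRingHom.map_directSumDecompose]
    rw [GradedRing.proj_apply] at hx0
    rw [hx0, sub_zero]
  obtain ⟨k, hk⟩ := hnil
  have h1 : f ((a - (DirectSum.decompose 𝒜 a 0 : A)) ^ k) = 0 := by rw [map_pow, hfa, hk]
  obtain ⟨-, m, hm⟩ := (hker _).mp h1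
  have h2 : IsNilpotent (a - (DirectSum.decompose 𝒜 a 0 : A)) := ⟨k * m, by rw [pow_mul, hm]⟩
  rw [← hfa]
  exact (hker _).mpr ⟨ha', h2⟩

theorem quotient_by_nilradical (hsurj : Function.Surjective f)
    (hker : ∀ a : A, f a = 0 ↔ a ∈ (𝒜₊).toIdeal ∧ IsNilpotent a) :
    IsClosedImmersion (Proj.map f hf) ∧ IsHomeomorph (Proj.map f hf).base ∧
      AlgebraicGeometry.IsReduced (Proj ℬ) := by
  have hci := isClosedImmersion_map_of_surjective f hf hsurj
  refine ⟨hci, ?_, isReduced_proj_of_ker f hsurj hker⟩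
  rw [isHomeomorph_iff_isEmbedding_surjective]
  refine ⟨(Proj.map f hf).isClosedEmbedding.isEmbedding, ?_⟩
  have := surjective_map_of_nil_ker f hf
    (fun _ _ _ hb => exists_mem_of_surjective f hsurj hb)
    (fun _ _ a _ h0 => ((hker a).mp h0).2)
  exact this.surj

end Nil

end Groth.Agent.Helper13RelProj
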