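import Mathlib
import Groth.Agent.Lib.Helper13PullbackUnit

/-!
# Restriction of a quasi-coherent module to an affine sub-open is a base change (helper13)

Namespace `Groth.Agent.Helper13RestrictBC`.

* `existsUnique_restrict_lift F hV hW hle N l hl`: for `F` quasi-coherent, `W ≤ V` affine opens, every
  `l : Γ(F, V) →+ N` semilinear over `Γ(X, V) → Γ(X, W)` factors uniquely through the restriction
  `Γ(F, V) → Γ(F, W)` by a `Γ(X, W)`-linear map.
* `span_restrict_eq_top`: `Γ(F, W)` is generated over `Γ(X, W)` by the restrictions of sections over `V`.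
-/

set_option autoImplicit false
set_option linter.style.haveILetI false
universe u
open CategoryTheory CategoryTheory.Limits AlgebraicGeometry Opposite TopologicalSpace

namespace Groth.Agent.Helper13RestrictBC

open Groth.Agent.Helper13PullbackUnit

variable {X : Scheme.{u}} (F : X.Modules)

/-- the canonical isomorphism `(𝟙)^* F ≅ F` -/
noncomputable def θ : (Scheme.Modules.pullback (𝟙 X)).obj F ≅ F := (Scheme.Modules.pullbackId X).app F

theorem unit_θ :
    (Scheme.Modules.pullbackPushforwardAdjunction (𝟙 X)).unit.app F ≫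
      (Scheme.Modules.pushforward (𝟙 X)).map (θ F).hom = (Scheme.Modules.pushforwardId X).inv.app F := by
  have h := unit_conjugateEquiv Adjunction.id (Scheme.Modules.pullbackPushforwardAdjunction (𝟙 X))
    (Scheme.Modules.pullbackId X).hom F
  rw [Scheme.Modules.conjugateEquiv_pullbackId_hom] at h
  simp only [Adjunction.id_unit, Functor.id_obj, NatTrans.id_app] at h
  exact h.symm.trans (Category.id_comp _)

theorem θ_unit (V : X.Opens) (x : Γ(F, V)) :
    (θ F).hom.app V (((Scheme.Modules.pullbackPushforwardAdjunction (𝟙 X)).unit.app F).app V x) = x := by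
  have h := congrArg (fun t : F ⟶ (Scheme.Modules.pushforward (𝟙 X)).obj F => (t.app V).hom x) (unit_θ F)
  exact h

theorem θ_unitSec {V W : X.Opens} (hle : W ≤ V) (x : Γ(F, V)) :
    (θ F).hom.app W (unitSec (𝟙 X) F (show W ≤ (𝟙 X) ⁻¹ᵁ V from hle) x) =
      F.presheaf.map (homOfLE hle).op x := by
  rw [unitSec_apply]
  obtain ⟨y, hy⟩ : ∃ y : Γ((Scheme.Modules.pullback (𝟙 X)).obj F, V),
      y = ((Scheme.Modules.pullbackPushforwardAdjunction (𝟙 X)).unit.app F).app V x := ⟨_, rfl⟩
  have n : (θ F).hom.app W (((Scheme.Modules.pullback (𝟙 X)).obj F).presheaf.map (homOfLE hle).op y) =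
      F.presheaf.map (homOfLE hle).op ((θ F).hom.app V y) :=
    CategoryTheory.congr_fun ((θ F).hom.mapPresheaf.naturality (homOfLE hle).op) y
  have e : (θ F).hom.app V y = x := by rw [hy]; exact θ_unit F V x
  rw [e] at n
  rw [← hy]
  exact n

section RL
variable [F.IsQuasicoherent] {V W : X.Opens} (hV : IsAffineOpen V) (hW : IsAffineOpen W) (hle : W ≤ V)

include hV hW in
/-- **restriction to an affine sub-open is a base change** (universal property form) -/
theorem existsUnique_restrict_lift (N : Type u) [AddCommGroup N] [Module Γ(X, W) N]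
    (l : Γ(F, V) →+ N)
    (hl : ∀ (r : Γ(X, V)) (x : Γ(F, V)),
      l (r • x) = (X.presheaf.map (homOfLE hle).op r : Γ(X, W)) • l x) :
    ∃! l' : Γ(F, W) →ₗ[Γ(X, W)] N, ∀ x : Γ(F, V), l' (F.presheaf.map (homOfLE hle).op x) = l x := by
  have hle' : W ≤ (𝟙 X) ⁻¹ᵁ V := hle
  obtain ⟨l'', h1, h2⟩ := existsUnique_lift (𝟙 X) F hV hW hle' N l (fun r x => by
    rw [hl]
    rfl)
  let a : Γ(F, W) →ₗ[Γ(X, W)] Γ((Scheme.Modules.pullback (𝟙 X)).obj F, W) :=
    { toFun := fun y => (θ F).inv.app W y
      map_add' := fun y y' => map_add _ y y'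
      map_smul' := fun r y => (θ F).inv.app_smul r y }
  let b : Γ((Scheme.Modules.pullback (𝟙 X)).obj F, W) →ₗ[Γ(X, W)] Γ(F, W) :=
    { toFun := fun y => (θ F).hom.app W y
      map_add' := fun y y' => map_add _ y y'
      map_smul' := fun r y => (θ F).hom.app_smul r y }
  have hab : ∀ y, a (b y) = y := fun y =>
    congrArg (fun t : (Scheme.Modules.pullback (𝟙 X)).obj F ⟶ _ => (t.app W).hom y) (θ F).hom_inv_id
  have hba : ∀ y, b (a y) = y := fun y =>
    congrArg (fun t : F ⟶ F => (t.app W).hom y) (θ F).inv_hom_id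
  have hb : ∀ x : Γ(F, V), b (unitSec (𝟙 X) F hle' x) = F.presheaf.map (homOfLE hle).op x :=
    fun x => θ_unitSec F hle x
  refine ⟨l''.comp a, fun x => ?_, fun l₂ hl₂ => ?_⟩
  · rw [LinearMap.comp_apply, ← hb, hab, h1]
  · have := h2 (l₂.comp b) (fun x => by rw [LinearMap.comp_apply, hb, hl₂])
    rw [← this]
    refine LinearMap.ext fun y => ?_
    rw [LinearMap.comp_apply, LinearMap.comp_apply, hba]

include hV hW in
/-- sections over an affine sub-open are generated by restrictions -/
theorem span_restrict_eq_top :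
    Submodule.span Γ(X, W) (Set.range (F.presheaf.map (homOfLE hle).op).hom) = ⊤ := by
  set P := Submodule.span Γ(X, W) (Set.range (F.presheaf.map (homOfLE hle).op).hom) with hP
  obtain ⟨l', -, h2⟩ := existsUnique_restrict_lift F hV hW hle (Γ(F, W) ⧸ P) 0 (fun r x => by simp)
  have e1 := h2 P.mkQ (fun x => by
    rw [AddMonoidHom.zero_apply, Submodule.mkQ_apply, Submodule.Quotient.mk_eq_zero]
    exact Submodule.subset_span ⟨x, rfl⟩)
  have e2 := h2 0 (fun x => rfl)
  have e3 : P.mkQ = 0 := e1.trans e2.symm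
  rw [← Submodule.ker_mkQ P, e3, LinearMap.ker_zero]

end RL

end Groth.Agent.Helper13RestrictBC
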