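import Mathlib

/-!
# Samuel functions: the step `h(t) - h(t-1)` versus the Samuel function of `N/xN` (helper13)
-/

set_option autoImplicit false

namespace Groth.Agent.Helper13Sam
open Pointwise

universe u
variable {A : Type u} [CommRing A]


section Ideals

theorem sup_pow_succ (x : A) (J : Ideal A) (t : ℕ) :
    (Ideal.span {x} ⊔ J) ^ (t + 1) = Ideal.span {x} * (Ideal.span {x} ⊔ J) ^ t ⊔ J ^ (t + 1) := by
  apply le_antisymm
  · induction t with
    | zero => simp
    | succ t ih =>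
      rw [pow_succ' _ (t + 1)]
      nth_rewrite 1 [sup_comm]
      rw [Ideal.sup_mul]
      apply sup_le
      · calc J * (Ideal.span {x} ⊔ J) ^ (t + 1)
            ≤ J * (Ideal.span {x} * (Ideal.span {x} ⊔ J) ^ t ⊔ J ^ (t + 1)) := Ideal.mul_mono_right ih
          _ = Ideal.span {x} * (J * (Ideal.span {x} ⊔ J) ^ t) ⊔ J ^ (t + 1 + 1) := by
            rw [Ideal.mul_sup, ← mul_assoc, mul_comm J, mul_assoc, ← pow_succ' J]
          _ ≤ Ideal.span {x} * (Ideal.span {x} ⊔ J) ^ (t + 1) ⊔ J ^ (t + 1 + 1) := by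
            apply sup_le_sup_right
            apply Ideal.mul_mono_right
            rw [pow_succ']
            exact Ideal.mul_mono_left le_sup_right
      · exact le_sup_left
  · apply sup_le
    · rw [pow_succ']
      exact Ideal.mul_mono_left le_sup_left
    · exact Ideal.pow_right_mono le_sup_right _

end Ideals

section Modules
variable {N : Type u} [AddCommGroup N] [Module A N]

theorem pow_succ_smul_top (x : A) (J : Ideal A) (t : ℕ) :
    ((Ideal.span {x} ⊔ J) ^ (t + 1)) • (⊤ : Submodule A N) =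
      x • ((Ideal.span {x} ⊔ J) ^ t • (⊤ : Submodule A N)) ⊔ J ^ (t + 1) • (⊤ : Submodule A N) := by
  rw [sup_pow_succ, Submodule.sup_smul, Submodule.mul_smul, Submodule.ideal_span_singleton_smul]

/-- length identity: `ℓ(N/S) = ℓ(N/(xN + S)) + ℓ(N/(S : x))` -/
theorem length_quot_eq_add (x : A) (S : Submodule A N) :
    Module.length A (N ⧸ S) =
      Module.length A (N ⧸ S.comap (x • (LinearMap.id : N →ₗ[A] N))) +
      Module.length A (N ⧸ (x • (⊤ : Submodule A N) ⊔ S)) := by
  have hle : S ≤ (x • (⊤ : Submodule A N) ⊔ S).comap (LinearMap.id : N →ₗ[A] N) := by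
    intro n hn
    exact Submodule.mem_sup_right hn
  refine Module.length_eq_add_of_exact
    (Submodule.mapQ (S.comap (x • (LinearMap.id : N →ₗ[A] N))) S
      (x • (LinearMap.id : N →ₗ[A] N)) le_rfl)
    (Submodule.mapQ S (x • (⊤ : Submodule A N) ⊔ S) LinearMap.id hle) ?_ ?_ ?_
  · rw [← LinearMap.ker_eq_bot, eq_bot_iff]
    intro q hq
    obtain ⟨n, rfl⟩ := Submodule.Quotient.mk_surjective _ q
    rw [LinearMap.mem_ker, Submodule.mapQ_apply, Submodule.Quotient.mk_eq_zero] at hq
    rw [Submodule.mem_bot, Submodule.Quotient.mk_eq_zero]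
    exact hq
  · intro q
    obtain ⟨n, rfl⟩ := Submodule.Quotient.mk_surjective _ q
    exact ⟨Submodule.Quotient.mk n, rfl⟩
  · intro q
    obtain ⟨n, rfl⟩ := Submodule.Quotient.mk_surjective _ q
    rw [Submodule.mapQ_apply, Submodule.Quotient.mk_eq_zero, LinearMap.id_apply]
    constructor
    · intro hn
      obtain ⟨a, ha, b, hb, hab⟩ := Submodule.mem_sup.mp hn
      rw [Submodule.mem_smul_pointwise_iff_exists] at ha
      obtain ⟨a', -, rfl⟩ := ha
      refine ⟨Submodule.Quotient.mk a', ?_⟩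
      rw [Submodule.mapQ_apply, Submodule.Quotient.eq, LinearMap.smul_apply, LinearMap.id_apply]
      have : x • a' - n = -b := by rw [← hab]; abel
      rw [this]
      exact S.neg_mem hb
    · rintro ⟨q', hq'⟩
      obtain ⟨n', rfl⟩ := Submodule.Quotient.mk_surjective _ q'
      rw [Submodule.mapQ_apply, Submodule.Quotient.eq, LinearMap.smul_apply, LinearMap.id_apply] at hq'
      have : n = x • n' - (x • n' - n) := by abel
      rw [this]
      exact Submodule.sub_mem _ (Submodule.mem_sup_left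
        ((Submodule.mem_smul_pointwise_iff_exists _ _ _).mpr ⟨n', trivial, rfl⟩))
        (Submodule.mem_sup_right hq')

end Modules



section AR
variable {N : Type u} [AddCommGroup N] [Module A N]

/-- Artin–Rees: for `x` regular, `(I^t N : x) ⊆ I^(t-1) N + J^(t-c) N`. -/
theorem exists_comap_le [IsNoetherianRing A] [Module.Finite A N] (x : A) (J : Ideal A)
    (hx : IsSMulRegular N x) :
    ∃ c : ℕ, 1 ≤ c ∧ ∀ t : ℕ, c ≤ t →
      (((Ideal.span {x} ⊔ J) ^ t) • (⊤ : Submodule A N)).comap (x • (LinearMap.id : N →ₗ[A] N)) ≤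
        ((Ideal.span {x} ⊔ J) ^ (t - 1)) • (⊤ : Submodule A N) ⊔ J ^ (t - c) • (⊤ : Submodule A N) := by
  obtain ⟨k, hk⟩ := Ideal.exists_pow_inf_eq_pow_smul J (x • (⊤ : Submodule A N))
  refine ⟨max k 1, le_max_right _ _, fun t ht => ?_⟩
  have ht1 : 1 ≤ t := le_trans (le_max_right _ _) ht
  have htk : k ≤ t := le_trans (le_max_left _ _) ht
  obtain ⟨t', rfl⟩ : ∃ t', t = t' + 1 := ⟨t - 1, by omega⟩
  intro n hn
  rw [Submodule.mem_comap, LinearMap.smul_apply, LinearMap.id_apply, pow_succ_smul_top] at hn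
  obtain ⟨a, ha, v, hv, hav⟩ := Submodule.mem_sup.mp hn
  rw [Submodule.mem_smul_pointwise_iff_exists] at ha
  obtain ⟨u, hu, rfl⟩ := ha
  -- v = x (n - u)
  have hv2 : v = x • (n - u) := by rw [smul_sub, ← hav]; abel
  have hv3 : v ∈ J ^ (t' + 1) • (⊤ : Submodule A N) ⊓ x • (⊤ : Submodule A N) :=
    ⟨hv, by rw [hv2]; exact (Submodule.mem_smul_pointwise_iff_exists _ _ _).mpr ⟨_, trivial, rfl⟩⟩
  rw [hk (t' + 1) htk] at hv3
  have hle : J ^ (t' + 1 - k) • (J ^ k • (⊤ : Submodule A N) ⊓ x • (⊤ : Submodule A N)) ≤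
      x • (J ^ (t' + 1 - k) • (⊤ : Submodule A N)) := by
    calc J ^ (t' + 1 - k) • (J ^ k • (⊤ : Submodule A N) ⊓ x • (⊤ : Submodule A N))
        ≤ J ^ (t' + 1 - k) • (x • (⊤ : Submodule A N)) := Submodule.smul_mono le_rfl inf_le_right
      _ = x • (J ^ (t' + 1 - k) • (⊤ : Submodule A N)) := by
        rw [← Submodule.ideal_span_singleton_smul x (⊤ : Submodule A N),
          ← Submodule.mul_smul, mul_comm, Submodule.mul_smul,
          Submodule.ideal_span_singleton_smul]
  have hv4 := hle hv3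
  rw [Submodule.mem_smul_pointwise_iff_exists] at hv4
  obtain ⟨w, hw, hwv⟩ := hv4
  have hnw : n - u = w := by
    apply hx
    show x • (n - u) = x • w
    rw [← hv2, hwv]
  have hn2 : n = u + w := by rw [← hnw]; abel
  rw [hn2]
  refine Submodule.add_mem _ (Submodule.mem_sup_left ?_) (Submodule.mem_sup_right ?_)
  · simpa using hu
  · refine Submodule.smul_mono_left (Ideal.pow_le_pow_right ?_) hw
    have : max k 1 ≥ k := le_max_left _ _
    omega

end AR



section Mon
variable {k : ℕ} (y : Fin k → A)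

/-- the monomial `y^α` -/
def mon (α : Fin k →₀ ℕ) : A := ∏ i, y i ^ α i

lemma degree_eq_sum_univ (α : Fin k →₀ ℕ) : Finsupp.degree α = ∑ i, α i := by
  show (∑ i ∈ α.support, α i) = ∑ i, α i
  exact Finset.sum_subset (Finset.subset_univ _)
    (fun i _ hi => Finsupp.notMem_support_iff.mp hi)

lemma mon_mem_pow (s : ℕ) (α : Fin k →₀ ℕ)
    (hα : α ∈ (Finset.univ : Finset (Fin k)).finsuppAntidiag s) :
    mon y α ∈ (Ideal.span (Set.range y)) ^ s := by
  rw [Finset.mem_finsuppAntidiag] at hα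
  rw [Ideal.mem_span_pow_iff_exists_isHomogeneous]
  refine ⟨MvPolynomial.monomial α 1, ?_, ?_⟩
  · apply MvPolynomial.isHomogeneous_monomial
    rw [← hα.1, degree_eq_sum_univ]
  · rw [MvPolynomial.eval_monomial]
    simp [mon, Finsupp.prod_fintype]

theorem length_pow_smul_le (s : ℕ) (P : Type u) [AddCommGroup P] [Module A P] (K : Ideal A)
    (hK : ∀ a ∈ (Ideal.span (Set.range y)) ^ s, ∀ b ∈ K, ∀ p : P, (a * b) • p = 0) :
    Module.length A ↥((Ideal.span (Set.range y)) ^ s • (⊤ : Submodule A P)) ≤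
      (((Finset.univ : Finset (Fin k)).finsuppAntidiag s).card : ℕ∞) *
        Module.length A (P ⧸ K • (⊤ : Submodule A P)) := by
  classical
  obtain ⟨S, hS⟩ : ∃ S, S = (Finset.univ : Finset (Fin k)).finsuppAntidiag s := ⟨_, rfl⟩
  rw [← hS]
  have hmon : ∀ α ∈ S, mon y α ∈ (Ideal.span (Set.range y)) ^ s := by
    intro α hα
    rw [hS] at hα
    exact mon_mem_pow y s α hα
  -- the component maps
  have hker : ∀ α : S, K • (⊤ : Submodule A P) ≤
      LinearMap.ker ((mon y α.1) • (LinearMap.id : P →ₗ[A] P)) := by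
    intro α
    rw [Submodule.smul_le]
    intro b hb p _
    rw [LinearMap.mem_ker, LinearMap.smul_apply, LinearMap.id_apply, ← mul_smul]
    exact hK _ (hmon α.1 α.2) b hb p
  obtain ⟨Ψ, hΨ⟩ : ∃ Ψ : (S → P ⧸ K • (⊤ : Submodule A P)) →ₗ[A] P,
      Ψ = ∑ α : S, (Submodule.liftQ _ _ (hker α)).comp (LinearMap.proj α) := ⟨_, rfl⟩
  have hΨsingle : ∀ (α : S) (p : P), Ψ (Pi.single α (Submodule.Quotient.mk p)) = mon y α.1 • p := by
    intro α p
    rw [hΨ, LinearMap.sum_apply, Finset.sum_eq_single α]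
    · simp
    · intro β _ hβ
      simp [Pi.single_eq_of_ne hβ]
    · intro h
      exact absurd (Finset.mem_univ α) h
  have hle : (Ideal.span (Set.range y)) ^ s • (⊤ : Submodule A P) ≤ LinearMap.range Ψ := by
    rw [Submodule.smul_le]
    intro a ha p _
    rw [Ideal.mem_span_pow_iff_exists_isHomogeneous] at ha
    obtain ⟨f, hf, rfl⟩ := ha
    rw [MvPolynomial.eval_eq', Finset.sum_smul]
    refine Submodule.sum_mem _ (fun d hd => ?_)
    have hdS : d ∈ S := by
      rw [hS, Finset.mem_finsuppAntidiag]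
      refine ⟨?_, Finset.subset_univ _⟩
      have := hf (MvPolynomial.mem_support_iff.mp hd)
      rw [← degree_eq_sum_univ, Finsupp.degree_eq_weight_one]
      exact this
    refine ⟨Pi.single ⟨d, hdS⟩ (Submodule.Quotient.mk (MvPolynomial.coeff d f • p)), ?_⟩
    rw [hΨsingle]
    show mon y d • MvPolynomial.coeff d f • p = _
    rw [← mul_smul, mul_comm]
    rfl
  calc Module.length A ↥((Ideal.span (Set.range y)) ^ s • (⊤ : Submodule A P))
      ≤ Module.length A ↥(LinearMap.range Ψ) :=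
        Module.length_le_of_injective (Submodule.inclusion hle) (Submodule.inclusion_injective hle)
    _ ≤ Module.length A (S → P ⧸ K • (⊤ : Submodule A P)) :=
        Module.length_le_of_surjective Ψ.rangeRestrict Ψ.surjective_rangeRestrict
    _ = (S.card : ℕ∞) * Module.length A (P ⧸ K • (⊤ : Submodule A P)) := by
        rw [Module.length_pi]
        simp

end Mon



section Step
variable {N : Type u} [AddCommGroup N] [Module A N] {k : ℕ} (y : Fin k → A) (x : A)

/-- the easy inequality -/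
theorem length_le_add_quot (I : Ideal A) (hxI : x ∈ I) (t : ℕ) :
    Module.length A (N ⧸ I ^ (t + 1) • (⊤ : Submodule A N)) ≤
      Module.length A (N ⧸ I ^ t • (⊤ : Submodule A N)) +
      Module.length A (N ⧸ (x • (⊤ : Submodule A N) ⊔ I ^ (t + 1) • (⊤ : Submodule A N))) := by
  rw [length_quot_eq_add x (I ^ (t + 1) • (⊤ : Submodule A N))]
  gcongr
  have hle : I ^ t • (⊤ : Submodule A N) ≤
      (I ^ (t + 1) • (⊤ : Submodule A N)).comap (x • (LinearMap.id : N →ₗ[A] N)) := by
    intro n hn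
    rw [Submodule.mem_comap, LinearMap.smul_apply, LinearMap.id_apply, pow_succ', Submodule.mul_smul]
    exact Submodule.smul_mem_smul hxI hn
  exact Module.length_le_of_surjective (Submodule.factor hle) (Submodule.factor_surjective hle)

/-- the hard inequality, from Artin–Rees -/
theorem exists_add_quot_le [IsNoetherianRing A] [Module.Finite A N] (hx : IsSMulRegular N x) :
    ∃ c : ℕ, 1 ≤ c ∧ ∀ t : ℕ, c ≤ t + 1 →
      Module.length A (N ⧸ (Ideal.span {x} ⊔ Ideal.span (Set.range y)) ^ t • (⊤ : Submodule A N)) +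
        Module.length A (N ⧸ (x • (⊤ : Submodule A N) ⊔
          (Ideal.span {x} ⊔ Ideal.span (Set.range y)) ^ (t + 1) • (⊤ : Submodule A N))) ≤
      Module.length A (N ⧸ (Ideal.span {x} ⊔ Ideal.span (Set.range y)) ^ (t + 1) •
          (⊤ : Submodule A N)) +
        (((Finset.univ : Finset (Fin k)).finsuppAntidiag (t + 1 - c)).card : ℕ∞) *
          Module.length A (N ⧸ (Ideal.span {x} ⊔ Ideal.span (Set.range y)) ^ (c - 1) •
            (⊤ : Submodule A N)) := by
  obtain ⟨c, hc1, hc⟩ := exists_comap_le x (Ideal.span (Set.range y)) hx (N := N)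
  refine ⟨c, hc1, fun t ht => ?_⟩
  obtain ⟨J, hJ⟩ : ∃ J, J = Ideal.span (Set.range y) := ⟨_, rfl⟩
  obtain ⟨I, hI⟩ : ∃ I, I = Ideal.span {x} ⊔ J := ⟨_, rfl⟩
  rw [← hJ, ← hI] at hc
  rw [← hJ, ← hI]
  have hJI : J ≤ I := by rw [hI]; exact le_sup_right
  have hC := hc (t + 1) ht
  rw [Nat.add_sub_cancel] at hC
  suffices key : Module.length A (N ⧸ I ^ t • (⊤ : Submodule A N)) ≤
      Module.length A (N ⧸ (I ^ (t + 1) • (⊤ : Submodule A N)).comap
        (x • (LinearMap.id : N →ₗ[A] N))) +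
      (((Finset.univ : Finset (Fin k)).finsuppAntidiag (t + 1 - c)).card : ℕ∞) *
        Module.length A (N ⧸ I ^ (c - 1) • (⊤ : Submodule A N)) by
    rw [length_quot_eq_add x (I ^ (t + 1) • (⊤ : Submodule A N))]
    calc Module.length A (N ⧸ I ^ t • (⊤ : Submodule A N)) +
          Module.length A (N ⧸ (x • (⊤ : Submodule A N) ⊔ I ^ (t + 1) • (⊤ : Submodule A N)))
        ≤ (Module.length A (N ⧸ (I ^ (t + 1) • (⊤ : Submodule A N)).comap
            (x • (LinearMap.id : N →ₗ[A] N))) +
          (((Finset.univ : Finset (Fin k)).finsuppAntidiag (t + 1 - c)).card : ℕ∞) *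
            Module.length A (N ⧸ I ^ (c - 1) • (⊤ : Submodule A N))) +
          Module.length A (N ⧸ (x • (⊤ : Submodule A N) ⊔ I ^ (t + 1) • (⊤ : Submodule A N))) :=
          add_le_add key le_rfl
      _ = _ := by ring
  have h1 : Module.length A (N ⧸ (I ^ t • (⊤ : Submodule A N) ⊔ J ^ (t + 1 - c) • (⊤ : Submodule A N))) ≤
      Module.length A (N ⧸ (I ^ (t + 1) • (⊤ : Submodule A N)).comap
        (x • (LinearMap.id : N →ₗ[A] N))) :=
    Module.length_le_of_surjective (Submodule.factor hC) (Submodule.factor_surjective hC)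
  refine le_trans ?_ (add_le_add h1 le_rfl)
  -- P := N / I^t N, W := image of J^(t+1-c) N
  obtain ⟨W, hW⟩ : ∃ W : Submodule A (N ⧸ I ^ t • (⊤ : Submodule A N)),
      W = (J ^ (t + 1 - c) • (⊤ : Submodule A N)).map (Submodule.mkQ _) := ⟨_, rfl⟩
  have h2 : Module.length A (N ⧸ I ^ t • (⊤ : Submodule A N)) =
      Module.length A ↥W + Module.length A ((N ⧸ I ^ t • (⊤ : Submodule A N)) ⧸ W) :=
    Module.length_eq_add_of_exact W.subtype W.mkQ (Submodule.subtype_injective _)
      (Submodule.mkQ_surjective _) (LinearMap.exact_subtype_mkQ W)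
  have h3 : Module.length A ((N ⧸ I ^ t • (⊤ : Submodule A N)) ⧸ W) =
      Module.length A (N ⧸ (I ^ t • (⊤ : Submodule A N) ⊔ J ^ (t + 1 - c) • (⊤ : Submodule A N))) := by
    rw [hW]
    exact (Submodule.quotientQuotientEquivQuotientSup _ _).length_eq
  have hW2 : W = J ^ (t + 1 - c) • (⊤ : Submodule A (N ⧸ I ^ t • (⊤ : Submodule A N))) := by
    rw [hW, Submodule.map_smul'', Submodule.map_top, Submodule.range_mkQ]
  have h4 : Module.length A ↥W ≤
      (((Finset.univ : Finset (Fin k)).finsuppAntidiag (t + 1 - c)).card : ℕ∞) *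
        Module.length A ((N ⧸ I ^ t • (⊤ : Submodule A N)) ⧸
          I ^ (c - 1) • (⊤ : Submodule A (N ⧸ I ^ t • (⊤ : Submodule A N)))) := by
    rw [hW2, hJ]
    refine length_pow_smul_le y (t + 1 - c) _ (I ^ (c - 1)) ?_
    intro a ha b hb p
    obtain ⟨n, rfl⟩ := Submodule.Quotient.mk_surjective _ p
    rw [← Submodule.Quotient.mk_smul, Submodule.Quotient.mk_eq_zero]
    have hab : a * b ∈ I ^ t := by
      have h5 : a * b ∈ I ^ (t + 1 - c) * I ^ (c - 1) :=
        Ideal.mul_mem_mul (Ideal.pow_right_mono hJI _ (hJ ▸ ha)) hb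
      rw [← pow_add] at h5
      have : t + 1 - c + (c - 1) = t := by omega
      rwa [this] at h5
    exact Submodule.smul_mem_smul hab trivial
  have h5 : Module.length A ((N ⧸ I ^ t • (⊤ : Submodule A N)) ⧸
        I ^ (c - 1) • (⊤ : Submodule A (N ⧸ I ^ t • (⊤ : Submodule A N)))) ≤
      Module.length A (N ⧸ I ^ (c - 1) • (⊤ : Submodule A N)) := by
    have hle : I ^ (c - 1) • (⊤ : Submodule A N) ≤
        (I ^ (c - 1) • (⊤ : Submodule A (N ⧸ I ^ t • (⊤ : Submodule A N)))).comap
          (Submodule.mkQ (I ^ t • (⊤ : Submodule A N))) :=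
      Submodule.smul_top_le_comap_smul_top _ _
    refine Module.length_le_of_surjective (Submodule.mapQ _ _ _ hle) ?_
    intro q
    obtain ⟨q, rfl⟩ := Submodule.Quotient.mk_surjective _ q
    obtain ⟨n, rfl⟩ := Submodule.Quotient.mk_surjective _ q
    exact ⟨Submodule.Quotient.mk n, rfl⟩
  rw [h2, h3, add_comm]
  gcongr
  exact le_trans h4 (by gcongr)

end Step


end Groth.Agent.Helper13Sam
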