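import Mathlib
import Groth.Prelude.Def_W4c1hilbchowincPtFun
import Groth.Prelude.Def_HTop2

set_option autoImplicit false
set_option linter.unusedSectionVars false
set_option linter.style.haveILetI false
universe u
open CategoryTheory AlgebraicGeometry IsLocalRing W4c1hilbchowinc
open scoped Classical

namespace Groth.Agent.Helper13SemiN

/-- Field lemma: a solution of `u^2 = X`, `u^3 = Y` is `Y / X` (or `0`). -/
theorem field_aux {F : Type*} [Field F] (X Y u : F) (h2 : u ^ 2 = X) (h3 : u ^ 3 = Y) :
    u = if X = 0 then 0 else Y / X := by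
  subst h2 h3
  by_cases hu : u = 0
  · subst hu
    simp
  · have : u ^ 2 ≠ 0 := pow_ne_zero 2 hu
    rw [if_neg this]
    field_simp

theorem field_aux2 {F : Type*} [Field F] (X Y : F) (h : X ^ 3 = Y ^ 2) :
    (if X = 0 then 0 else Y / X) ^ 2 = X ∧ (if X = 0 then 0 else Y / X) ^ 3 = Y := by
  by_cases hX : X = 0
  · subst hX
    have hY : Y = 0 := by
      have : Y ^ 2 = 0 := by rw [← h]; ring
      exact pow_eq_zero_iff (two_ne_zero) |>.mp this
    subst hY
    simp
  · rw [if_neg hX]
    have hY : Y ≠ 0 := by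
      rintro rfl
      apply hX
      have : X ^ 3 = 0 := by rw [h]; ring
      exact pow_eq_zero_iff (three_ne_zero) |>.mp this
    constructor
    · rw [div_pow, div_eq_iff (pow_ne_zero 2 hX), ← h]
      ring
    · rw [div_pow, div_eq_iff (pow_ne_zero 3 hX), h]
      ring

/-- In a discrete valuation ring, `X^3 = Y^2` has a solution `r^2 = X`, `r^3 = Y`. -/
theorem dvr_aux (R : Type*) [CommRing R] [IsDomain R] [IsDiscreteValuationRing R] (X Y : R)
    (h : X ^ 3 = Y ^ 2) : ∃ r : R, r ^ 2 = X ∧ r ^ 3 = Y := by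
  by_cases hX : X = 0
  · subst hX
    have hY : Y = 0 := by
      have : Y ^ 2 = 0 := by rw [← h]; ring
      exact pow_eq_zero_iff (two_ne_zero) |>.mp this
    exact ⟨0, by simp, by simp [hY]⟩
  · let K := FractionRing R
    have hinj : Function.Injective (algebraMap R K) := IsFractionRing.injective R K
    have hXK : algebraMap R K X ≠ 0 := (map_ne_zero_iff _ hinj).mpr hX
    let t : K := algebraMap R K Y / algebraMap R K X
    have h' : algebraMap R K X ^ 3 = algebraMap R K Y ^ 2 := by
      rw [← map_pow, ← map_pow, h]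
    have ht2 : t ^ 2 = algebraMap R K X := by
      change (algebraMap R K Y / algebraMap R K X) ^ 2 = _
      rw [div_pow, div_eq_iff (pow_ne_zero 2 hXK), ← h']
      ring
    have hint : IsIntegral R t := by
      refine ⟨Polynomial.X ^ 2 - Polynomial.C X, Polynomial.monic_X_pow_sub_C X two_ne_zero, ?_⟩
      simp [ht2]
    obtain ⟨r, hr⟩ := IsIntegrallyClosed.isIntegral_iff.mp hint
    refine ⟨r, ?_, ?_⟩
    · apply hinj
      rw [map_pow, hr, ht2]
    · apply hinj
      rw [map_pow, hr]
      change (algebraMap R K Y / algebraMap R K X) ^ 3 = _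
      rw [div_pow, div_eq_iff (pow_ne_zero 3 hXK), h']
      ring

theorem main (A : Type u) [CommRing A] [IsReduced A]
    (h : ∀ f : PtFun (Spec (CommRingCat.of A)), f.VariesAlongDVR →
      ∃! a : Γ(Spec (CommRingCat.of A), ⊤), PtFun.ofSection (Spec (CommRingCat.of A)) a = f) :
    HTop.IsSeminormalRing A := by
  intro x y hxy
  -- evaluation of elements of `A`
  let ev : ∀ p : Spec (CommRingCat.of A), A →+* (Spec (CommRingCat.of A)).residueField p :=
    fun p => ((Scheme.ΓSpecIso (CommRingCat.of A)).inv ≫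
      (Spec (CommRingCat.of A)).Γevaluation p).hom
  have hev : ∀ p (b : A), ev p b = (Spec (CommRingCat.of A)).Γevaluation p
      ((Scheme.ΓSpecIso (CommRingCat.of A)).inv b) := fun p b => rfl
  have hzero : ∀ b : A, (∀ p, ev p b = 0) → b = 0 := by
    intro b hb
    have hbot : (Spec (CommRingCat.of A)).basicOpen
        ((Scheme.ΓSpecIso (CommRingCat.of A)).inv b) = ⊥ := by
      rw [Scheme.basicOpen_eq_bot_iff_forall_evaluation_eq_zero]
      intro p
      exact hb p.1
    have h0 := (basicOpen_eq_bot_iff (X := Spec (CommRingCat.of A))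
      ((Scheme.ΓSpecIso (CommRingCat.of A)).inv b)).mp hbot
    have h1 : (Scheme.ΓSpecIso (CommRingCat.of A)).hom
        ((Scheme.ΓSpecIso (CommRingCat.of A)).inv b) = b :=
      congrArg (fun m => m.hom b) (Scheme.ΓSpecIso (CommRingCat.of A)).inv_hom_id
    rw [← h1, h0, map_zero]
  let f : PtFun (Spec (CommRingCat.of A)) := fun p => if ev p x = 0 then 0 else ev p y / ev p x
  have hf : ∀ p, f p ^ 2 = ev p x ∧ f p ^ 3 = ev p y := fun p =>
    field_aux2 _ _ (by rw [← map_pow, ← map_pow, hxy])
  have hvar : f.VariesAlongDVR := by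
    intro R _ _ _ g
    obtain ⟨φ, rfl⟩ : ∃ φ : A →+* R, g = Spec.map (CommRingCat.ofHom φ) :=
      ⟨(Spec.preimage g).hom, (Spec.map_preimage g).symm⟩
    obtain ⟨r, hr2, hr3⟩ := dvr_aux R (φ x) (φ y) (by rw [← map_pow, ← map_pow, hxy])
    refine ⟨(Scheme.ΓSpecIso (CommRingCat.of R)).inv r, ?_⟩
    funext q
    have hnat : ∀ b : A, (Spec.map (CommRingCat.ofHom φ)).residueFieldMap q
        (ev ((Spec.map (CommRingCat.ofHom φ)) q) b) =
        (Spec (CommRingCat.of R)).Γevaluation q
          ((Scheme.ΓSpecIso (CommRingCat.of R)).inv (φ b)) := by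
      intro b
      rw [hev, Scheme.Γevaluation_naturality_apply]
      congr 1
      exact (congrArg (fun m => m.hom b)
        (Scheme.ΓSpecIso_inv_naturality (CommRingCat.ofHom φ))).symm
    set u := (Spec (CommRingCat.of R)).Γevaluation q
      ((Scheme.ΓSpecIso (CommRingCat.of R)).inv r) with hu
    have hu2 : u ^ 2 = (Spec (CommRingCat.of R)).Γevaluation q
        ((Scheme.ΓSpecIso (CommRingCat.of R)).inv (φ x)) := by
      rw [hu, ← map_pow, ← map_pow, hr2]
    have hu3 : u ^ 3 = (Spec (CommRingCat.of R)).Γevaluation q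
        ((Scheme.ΓSpecIso (CommRingCat.of R)).inv (φ y)) := by
      rw [hu, ← map_pow, ← map_pow, hr3]
    change u = (Spec.map (CommRingCat.ofHom φ)).residueFieldMap q
      (f ((Spec.map (CommRingCat.ofHom φ)) q))
    rw [field_aux _ _ u hu2 hu3, ← hnat x, ← hnat y]
    change _ = (Spec.map (CommRingCat.ofHom φ)).residueFieldMap q
      (if ev ((Spec.map (CommRingCat.ofHom φ)) q) x = 0 then 0
        else ev ((Spec.map (CommRingCat.ofHom φ)) q) y / ev ((Spec.map (CommRingCat.ofHom φ)) q) x)
    by_cases h0 : ev ((Spec.map (CommRingCat.ofHom φ)) q) x = 0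
    · rw [if_pos h0, h0, map_zero, if_pos rfl]
    · rw [if_neg h0, if_neg ((map_ne_zero _).mpr h0), map_div₀]
  obtain ⟨as, has, -⟩ := h f hvar
  set a : A := (Scheme.ΓSpecIso (CommRingCat.of A)).hom as with ha
  have hea : ∀ p, ev p a = f p := by
    intro p
    have h1 : (Scheme.ΓSpecIso (CommRingCat.of A)).inv a = as :=
      congrArg (fun m => m.hom as) (Scheme.ΓSpecIso (CommRingCat.of A)).hom_inv_id
    rw [hev, h1]
    exact congrFun has p
  refine ⟨a, ⟨?_, ?_⟩, ?_⟩
  · apply sub_eq_zero.mp
    apply hzero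
    intro p
    rw [map_sub, map_pow, hea, (hf p).1, sub_self]
  · apply sub_eq_zero.mp
    apply hzero
    intro p
    rw [map_sub, map_pow, hea, (hf p).2, sub_self]
  · rintro b ⟨hb2, hb3⟩
    have h2 : b ^ 2 = a ^ 2 := by
      rw [← hb2]
      apply sub_eq_zero.mp
      apply hzero
      intro p
      rw [map_sub, map_pow, hea, (hf p).1, sub_self]
    have h3 : b ^ 3 = a ^ 3 := by
      rw [← hb3]
      apply sub_eq_zero.mp
      apply hzero
      intro p
      rw [map_sub, map_pow, hea, (hf p).2, sub_self]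
    have h4 : (b - a) ^ 3 = 0 := by linear_combination 4 * h3 - 3 * (b + a) * h2
    exact sub_eq_zero.mp (IsReduced.eq_zero _ ⟨3, h4⟩)

end Groth.Agent.Helper13SemiN
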