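import Mathlib

/-!
# The standard semistable node `V[x,y]/(xy - ϖ)` (helper13, for S14386)

A function on a neighbourhood of the node which is etale on the generic fibre has differential
vanishing on one of the two components of the closed fibre (via the log derivation
`x ∂x - y ∂y`); in residue characteristic zero it is then constant there, hence not quasi-finite.
-/

set_option autoImplicit false
set_option linter.style.haveILetI false
set_option linter.unusedSectionVars false
universe u

namespace Groth.Agent.Helper13SemiNode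

section Part1

open Polynomial

/-- divisibility in a ring with two prime nonzerodivisors: a divisor of `x^a y^b` is a unit or
divisible by `x` or by `y` -/
theorem unit_or_dvd {B : Type u} [CommRing B] (x y : B)
    (hxp : (Ideal.span {x}).IsPrime) (hyp : (Ideal.span {y}).IsPrime)
    (hx : x ∈ nonZeroDivisors B) (hy : y ∈ nonZeroDivisors B) :
    ∀ (n a b : ℕ) (u w : B), a + b = n → u * w = x ^ a * y ^ b → IsUnit u ∨ x ∣ u ∨ y ∣ u := by
  intro n
  induction n with
  | zero =>
    intro a b u w hab huw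
    have ha : a = 0 := by omega
    have hb : b = 0 := by omega
    subst ha hb
    left
    rw [pow_zero, pow_zero, mul_one] at huw
    exact IsUnit.of_mul_eq_one w huw
  | succ n ih =>
    intro a b u w hab huw
    rcases Nat.eq_zero_or_pos a with ha | ha
    · -- b > 0
      obtain ⟨b', rfl⟩ : ∃ b', b = b' + 1 := ⟨b - 1, by omega⟩
      have hmem : u * w ∈ Ideal.span {y} := by
        rw [huw, Ideal.mem_span_singleton]
        exact ⟨x ^ a * y ^ b', by ring⟩
      rcases hyp.mem_or_mem hmem with h1 | h1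
      · right; right
        exact Ideal.mem_span_singleton.mp h1
      · obtain ⟨w1, rfl⟩ := Ideal.mem_span_singleton.mp h1
        have h2 : (u * w1) * y = (x ^ a * y ^ b') * y := by
          rw [pow_succ] at huw
          calc (u * w1) * y = u * (y * w1) := by ring
            _ = x ^ a * (y ^ b' * y) := huw
            _ = (x ^ a * y ^ b') * y := by ring
        have h3 : u * w1 = x ^ a * y ^ b' := (mul_cancel_right_mem_nonZeroDivisors hy).mp h2
        exact ih a b' u w1 (by omega) h3
    · obtain ⟨a', rfl⟩ : ∃ a', a = a' + 1 := ⟨a - 1, by omega⟩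
      have hmem : u * w ∈ Ideal.span {x} := by
        rw [huw, Ideal.mem_span_singleton]
        exact ⟨x ^ a' * y ^ b, by ring⟩
      rcases hxp.mem_or_mem hmem with h1 | h1
      · right; left
        exact Ideal.mem_span_singleton.mp h1
      · obtain ⟨w1, rfl⟩ := Ideal.mem_span_singleton.mp h1
        have h2 : (u * w1) * x = (x ^ a' * y ^ b) * x := by
          rw [pow_succ] at huw
          calc (u * w1) * x = u * (x * w1) := by ring
            _ = x ^ a' * x * y ^ b := huw
            _ = (x ^ a' * y ^ b) * x := by ring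
        have h3 : u * w1 = x ^ a' * y ^ b := (mul_cancel_right_mem_nonZeroDivisors hx).mp h2
        exact ih a' b u w1 (by omega) h3

/-- characteristic zero: `A H' = A' H` forces equal degrees -/
theorem natDegree_eq_of_wronskian {k : Type u} [Field k] [CharZero k] (A H : k[X])
    (hA : A ≠ 0) (hH : H ≠ 0) (hAH : A * derivative H = derivative A * H) :
    A.natDegree = H.natDegree := by
  by_cases ha : A.natDegree = 0
  · have h1 : derivative A = 0 := derivative_eq_zero.mpr ha
    rw [h1, zero_mul] at hAH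
    have h2 : derivative H = 0 := (mul_eq_zero.mp hAH).resolve_left hA
    rw [ha, derivative_eq_zero.mp h2]
  by_cases hh : H.natDegree = 0
  · have h1 : derivative H = 0 := derivative_eq_zero.mpr hh
    rw [h1, mul_zero] at hAH
    have h2 : derivative A = 0 := (mul_eq_zero.mp hAH.symm).resolve_right hH
    exact absurd (derivative_eq_zero.mp h2) ha
  have h3 := congrArg leadingCoeff hAH
  rw [leadingCoeff_mul, leadingCoeff_mul, leadingCoeff_derivative, leadingCoeff_derivative] at h3
  have hlA : A.leadingCoeff ≠ 0 := leadingCoeff_ne_zero.mpr hA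
  have hlH : H.leadingCoeff ≠ 0 := leadingCoeff_ne_zero.mpr hH
  have h4 : (H.natDegree : k) = (A.natDegree : k) := by
    have : A.leadingCoeff * H.leadingCoeff * (H.natDegree : k) =
        A.leadingCoeff * H.leadingCoeff * (A.natDegree : k) := by
      rw [mul_assoc, h3]; ring
    exact mul_left_cancel₀ (mul_ne_zero hlA hlH) this
  exact (Nat.cast_injective h4).symm

theorem eq_C_mul_of_wronskian {k : Type u} [Field k] [CharZero k] (A H : k[X])
    (hH : H ≠ 0) (hAH : A * derivative H = derivative A * H) :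
    ∃ c : k, A = C c * H := by
  by_cases hA : A = 0
  · exact ⟨0, by rw [hA, C_0, zero_mul]⟩
  have hlH : H.leadingCoeff ≠ 0 := leadingCoeff_ne_zero.mpr hH
  have hlA : A.leadingCoeff ≠ 0 := leadingCoeff_ne_zero.mpr hA
  set c := A.leadingCoeff / H.leadingCoeff with hc
  have hc0 : c ≠ 0 := div_ne_zero hlA hlH
  refine ⟨c, ?_⟩
  by_contra hne
  have hP : A - C c * H ≠ 0 := sub_ne_zero.mpr hne
  have hrel : (A - C c * H) * derivative H = derivative (A - C c * H) * H := by
    rw [derivative_sub, derivative_mul, derivative_C, zero_mul, zero_add, sub_mul, sub_mul, hAH]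
    ring
  have h1 := natDegree_eq_of_wronskian _ H hP hH hrel
  have h2 := natDegree_eq_of_wronskian A H hA hH hAH
  have hdeg : A.degree = (C c * H).degree := by
    rw [degree_C_mul hc0, degree_eq_natDegree hA, degree_eq_natDegree hH, h2]
  have hlc : A.leadingCoeff = (C c * H).leadingCoeff := by
    rw [leadingCoeff_mul, leadingCoeff_C, hc, div_mul_cancel₀ _ hlH]
  have h3 := degree_sub_lt_left hdeg hA hlc
  rw [degree_eq_natDegree hP, degree_eq_natDegree hA, h1, h2] at h3
  exact lt_irrefl _ h3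


end Part1

section Part2

open Polynomial KaehlerDifferential TensorProduct

/-- extension of a derivation to a localisation, as a linear form on the Kaehler differentials -/
theorem exists_lift_kaehler_away {R Q B N : Type u} [CommRing R] [CommRing Q] [CommRing B]
    [Algebra R Q] [Algebra R B] [Algebra Q B] [IsScalarTower R Q B] (h : Q)
    [IsLocalization.Away h B] [AddCommGroup N] [Module R N] [Module Q N] [Module B N]
    [IsScalarTower R Q N] [IsScalarTower Q B N] (d : Derivation R Q N) :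
    ∃ ℓ : Ω[B⁄R] →ₗ[B] N, ∀ q : Q, ℓ (D R B (algebraMap Q B q)) = d q := by
  haveI : Algebra.FormallyEtale Q B :=
    Algebra.FormallyEtale.of_isLocalization (Rₘ := B) (Submonoid.powers h)
  let e := tensorKaehlerEquivOfFormallyEtale R Q B
  refine ⟨(LinearMap.liftBaseChange B d.liftKaehlerDifferential) ∘ₗ e.symm.toLinearMap, ?_⟩
  intro q
  rw [LinearMap.comp_apply, LinearEquiv.coe_coe,
    tensorKaehlerEquivOfFormallyEtale_symm_D_algebraMap, LinearMap.liftBaseChange_tmul, one_smul,
    Derivation.liftKaehlerDifferential_comp_D]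

/-- the consequence of generic etaleness that we use: every differential becomes a multiple of
`df` after inverting `ϖ` -/
theorem exists_mul_eq_of_etale {V B : Type u} [CommRing V] [CommRing B] [Algebra V B] (ϖ f : B)
    (hf : ((algebraMap B (Localization.Away ϖ)).comp
          (Polynomial.aeval f : Polynomial V →ₐ[V] B).toRingHom).Etale)
    (θ : Ω[B⁄V] →ₗ[B] B) (z : B) :
    ∃ (c : B) (n : ℕ), c * θ (D V B f) = ϖ ^ n * θ (D V B z) := by
  let B' := Localization.Away ϖ
  let φ : V[X] →+* B' := (algebraMap B B').comp (Polynomial.aeval f : V[X] →ₐ[V] B).toRingHom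
  letI : Algebra V[X] B' := φ.toAlgebra
  haveI : IsScalarTower V V[X] B' := IsScalarTower.of_algebraMap_eq' (by
    ext v
    change algebraMap V B' v = algebraMap B B' (Polynomial.aeval f (Polynomial.C v))
    rw [Polynomial.aeval_C, ← IsScalarTower.algebraMap_apply])
  have hEt : Algebra.Etale V[X] B' := hf
  haveI : Algebra.FormallyUnramified V[X] B' := inferInstance
  haveI : Subsingleton Ω[B'⁄V[X]] := inferInstance
  have hex := KaehlerDifferential.exact_mapBaseChange_map V V[X] B'
  obtain ⟨t, ht⟩ := (hex (D V B' (algebraMap B B' z))).mp (Subsingleton.elim _ _)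
  have halgX : algebraMap V[X] B' Polynomial.X = algebraMap B B' f := by
    change algebraMap B B' (Polynomial.aeval f Polynomial.X) = _
    rw [Polynomial.aeval_X]
  -- the range is spanned by `d f`
  have hrange : ∀ t : B' ⊗[V[X]] Ω[V[X]⁄V],
      mapBaseChange V V[X] B' t ∈ Submodule.span B' {D V B' (algebraMap B B' f)} := by
    intro t
    induction t using TensorProduct.induction_on with
    | zero => rw [map_zero]; exact Submodule.zero_mem _
    | add a b ha hb => rw [map_add]; exact Submodule.add_mem _ ha hb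
    | tmul b ω =>
      rw [mapBaseChange_tmul]
      refine Submodule.smul_mem _ _ ?_
      have hω : ω ∈ Submodule.span V[X] (Set.range (D V V[X])) := by
        rw [span_range_derivation]; trivial
      induction hω using Submodule.span_induction with
      | mem y hy =>
        obtain ⟨p, rfl⟩ := hy
        rw [KaehlerDifferential.polynomial_D_apply, map_smul, map_D, halgX,
          ← algebraMap_smul B' (derivative p)]
        exact Submodule.smul_mem _ _ (Submodule.mem_span_singleton_self _)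
      | zero => rw [map_zero]; exact Submodule.zero_mem _
      | add a b _ _ ha hb => rw [map_add]; exact Submodule.add_mem _ ha hb
      | smul r a _ ha =>
        rw [map_smul, ← algebraMap_smul B' r]
        exact Submodule.smul_mem _ _ ha
  have hmem := hrange t
  rw [ht, Submodule.mem_span_singleton] at hmem
  obtain ⟨c', hc'⟩ := hmem
  obtain ⟨m, c0, hc0⟩ := IsLocalization.Away.surj ϖ c'
  -- descend to `B`
  have h1 : KaehlerDifferential.map V V B B' (ϖ ^ m • D V B z - c0 • D V B f) = 0 := by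
    rw [map_sub, map_smul, map_smul, map_D, map_D, ← hc', ← algebraMap_smul B' (ϖ ^ m),
      ← algebraMap_smul B' c0, ← hc0, smul_smul, map_pow, mul_comm, sub_self]
  obtain ⟨⟨s, r, rfl⟩, hs⟩ :=
    (IsLocalizedModule.eq_zero_iff (Submonoid.powers ϖ) (KaehlerDifferential.map V V B B')).mp h1
  change ϖ ^ r • (ϖ ^ m • D V B z - c0 • D V B f) = 0 at hs
  have h2 := congrArg θ hs
  rw [map_zero, map_smul, map_sub, map_smul, map_smul, smul_eq_mul, smul_eq_mul, smul_eq_mul,
    mul_sub, sub_eq_zero] at h2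
  refine ⟨ϖ ^ r * c0, r + m, ?_⟩
  rw [mul_assoc, ← h2, pow_add, mul_assoc]


end Part2

section Part3

open Polynomial KaehlerDifferential TensorProduct

/-- the abstract node: `df` is a combination of `dx, dy` with one coefficient vanishing on a
component -/
theorem node_abstract {V B : Type u} [CommRing V] [CommRing B] [Algebra V B] (x y f : B)
    (ϖ' : B) (hϖ' : ϖ' = x * y)
    (hf : ((algebraMap B (Localization.Away ϖ')).comp
          (Polynomial.aeval f : Polynomial V →ₐ[V] B).toRingHom).Etale)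
    (hgen : ∀ b : B, D V B b ∈ Submodule.span B {D V B x, D V B y})
    (θ : Ω[B⁄V] →ₗ[B] B) (hθx : θ (D V B x) = x) (hθy : θ (D V B y) = -y)
    (hxp : (Ideal.span {x}).IsPrime) (hyp : (Ideal.span {y}).IsPrime)
    (hxy : y ∉ Ideal.span {x}) (hyx : x ∉ Ideal.span {y})
    (hx : x ∈ nonZeroDivisors B) (hy : y ∈ nonZeroDivisors B)
    (htop : Ideal.span {x, y} ≠ ⊤) :
    ∃ a b : B, D V B f = a • D V B x + b • D V B y ∧ (b ∈ Ideal.span {x} ∨ a ∈ Ideal.span {y}) := by
  subst hϖ'
  obtain ⟨a, b, hab⟩ := Submodule.mem_span_pair.mp (hgen f)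
  refine ⟨a, b, hab.symm, ?_⟩
  have hu : θ (D V B f) = a * x - b * y := by
    rw [← hab, map_add, map_smul, map_smul, hθx, hθy, smul_eq_mul, smul_eq_mul]
    ring
  obtain ⟨c, n, hc⟩ := exists_mul_eq_of_etale (x * y) f hf θ x
  rw [hθx, hu] at hc
  have h1 : (a * x - b * y) * (c * y) = x ^ (n + 1) * y ^ (n + 1) := by
    calc (a * x - b * y) * (c * y) = (c * (a * x - b * y)) * y := by ring
      _ = ((x * y) ^ n * x) * y := by rw [hc]
      _ = x ^ (n + 1) * y ^ (n + 1) := by rw [mul_pow, pow_succ, pow_succ]; ring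
  rcases unit_or_dvd x y hxp hyp hx hy _ (n + 1) (n + 1) _ _ rfl h1 with h2 | h2 | h2
  · exfalso
    apply htop
    rw [Ideal.eq_top_iff_one]
    have h3 : a * x - b * y ∈ Ideal.span {x, y} := by
      refine Ideal.sub_mem _ (Ideal.mul_mem_left _ _ (Ideal.subset_span (by simp)))
        (Ideal.mul_mem_left _ _ (Ideal.subset_span (by simp)))
    exact (Ideal.eq_top_of_isUnit_mem _ h3 h2) ▸ Submodule.mem_top
  · left
    obtain ⟨t, ht⟩ := h2
    have h3 : b * y ∈ Ideal.span {x} := by
      rw [Ideal.mem_span_singleton]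
      exact ⟨a - t, by linear_combination (-1 : B) * ht⟩
    exact (hxp.mem_or_mem h3).resolve_right hxy
  · right
    obtain ⟨t, ht⟩ := h2
    have h3 : a * x ∈ Ideal.span {y} := by
      rw [Ideal.mem_span_singleton]
      exact ⟨b + t, by linear_combination ht⟩
    exact (hyp.mem_or_mem h3).resolve_right hyx

/-- vanishing of the differential on the component `x = 0` -/
theorem D_mk_eq_zero {V B : Type u} [CommRing V] [CommRing B] [Algebra V B] (x y f a b : B)
    (hab : D V B f = a • D V B x + b • D V B y) (hb : b ∈ Ideal.span {x}) :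
    D V (B ⧸ Ideal.span {x}) (Ideal.Quotient.mk _ f) = 0 := by
  have h1 : D V (B ⧸ Ideal.span {x}) (Ideal.Quotient.mk _ f) =
      KaehlerDifferential.map V V B (B ⧸ Ideal.span {x}) (D V B f) := by
    rw [map_D]; rfl
  have hx0 : algebraMap B (B ⧸ Ideal.span {x}) x = 0 := by
    rw [Ideal.Quotient.algebraMap_eq, Ideal.Quotient.eq_zero_iff_mem]
    exact Ideal.mem_span_singleton_self x
  have hb0 : algebraMap B (B ⧸ Ideal.span {x}) b = 0 := by
    rw [Ideal.Quotient.algebraMap_eq, Ideal.Quotient.eq_zero_iff_mem]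
    exact hb
  rw [h1, hab, map_add, map_smul, map_smul, map_D, map_D, hx0, map_zero, smul_zero, zero_add,
    ← algebraMap_smul (B ⧸ Ideal.span {x}) b, hb0, zero_smul]


end Part3

section Part4

open IsLocalRing

section Concrete

variable (V : Type u) [CommRing V]

/-- evaluation killing `X i` and sending the other variable to `X` -/
noncomputable def evV (i : Fin 2) : MvPolynomial (Fin 2) V →ₐ[V] Polynomial V :=
  MvPolynomial.aeval (fun l => if l = i then 0 else Polynomial.X)

/-- `X ↦ X j` -/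
noncomputable def iotaV (j : Fin 2) : Polynomial V →ₐ[V] MvPolynomial (Fin 2) V :=
  Polynomial.aeval (MvPolynomial.X j)

theorem fin2_eq (i j l : Fin 2) (hij : i ≠ j) (hl : l ≠ i) : l = j := by
  revert i j l; decide

theorem evV_X_self (i : Fin 2) : evV V i (MvPolynomial.X i) = 0 := by
  rw [evV, MvPolynomial.aeval_X, if_pos rfl]

theorem evV_X_other (i j : Fin 2) (hij : i ≠ j) : evV V i (MvPolynomial.X j) = Polynomial.X := by
  rw [evV, MvPolynomial.aeval_X, if_neg (Ne.symm hij)]

theorem sub_iota_evV_mem (i j : Fin 2) (hij : i ≠ j) (p : MvPolynomial (Fin 2) V) :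
    p - iotaV V j (evV V i p) ∈ Ideal.span {(MvPolynomial.X i : MvPolynomial (Fin 2) V)} := by
  induction p using MvPolynomial.induction_on with
  | C a =>
    have h1 : evV V i (MvPolynomial.C a) = algebraMap V (Polynomial V) a := by
      rw [evV, MvPolynomial.aeval_C]
    rw [h1, (iotaV V j).commutes, MvPolynomial.algebraMap_eq, sub_self]
    exact Ideal.zero_mem _
  | add p q hp hq =>
    rw [map_add, map_add, add_sub_add_comm]
    exact Ideal.add_mem _ hp hq
  | mul_X p l hp =>
    by_cases hl : l = i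
    · subst hl
      rw [map_mul, evV_X_self, mul_zero, map_zero, sub_zero]
      exact Ideal.mul_mem_left _ _ (Ideal.mem_span_singleton_self _)
    · have hlj := fin2_eq i j l hij hl
      subst hlj
      rw [map_mul, evV_X_other V i l hij, map_mul, iotaV, Polynomial.aeval_X, ← sub_mul]
      exact Ideal.mul_mem_right _ _ hp

theorem mem_span_X_of_evV_eq_zero (i j : Fin 2) (hij : i ≠ j) (p : MvPolynomial (Fin 2) V)
    (hp : evV V i p = 0) :
    p ∈ Ideal.span {(MvPolynomial.X i : MvPolynomial (Fin 2) V)} := by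
  have := sub_iota_evV_mem V i j hij p
  rwa [hp, map_zero, sub_zero] at this

theorem sub_C_constantCoeff_mem (p : MvPolynomial (Fin 2) V) :
    p - MvPolynomial.C (MvPolynomial.constantCoeff p) ∈
      Ideal.span {(MvPolynomial.X 0 : MvPolynomial (Fin 2) V), MvPolynomial.X 1} := by
  induction p using MvPolynomial.induction_on with
  | C a =>
    rw [MvPolynomial.constantCoeff_C, sub_self]
    exact Ideal.zero_mem _
  | add p q hp hq =>
    rw [map_add, map_add, add_sub_add_comm]
    exact Ideal.add_mem _ hp hq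
  | mul_X p l hp =>
    rw [map_mul, MvPolynomial.constantCoeff_X, mul_zero, map_zero, sub_zero]
    refine Ideal.mul_mem_left _ _ (Ideal.subset_span ?_)
    fin_cases l
    · left; rfl
    · right; rfl

theorem evV_g (i : Fin 2) (ϖ : V) :
    evV V i (MvPolynomial.X 0 * MvPolynomial.X 1 - MvPolynomial.C ϖ) = - Polynomial.C ϖ := by
  have h1 : evV V i (MvPolynomial.X 0 * MvPolynomial.X 1) = 0 := by
    rw [map_mul]
    fin_cases i
    · rw [show ((⟨0, by omega⟩ : Fin 2)) = 0 from rfl, evV_X_self, zero_mul]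
    · rw [show ((⟨1, by omega⟩ : Fin 2)) = 1 from rfl, evV_X_self, mul_zero]
  rw [map_sub, h1, zero_sub]
  congr 1
  rw [evV, MvPolynomial.aeval_C]
  rfl

variable [IsDomain V] [IsDiscreteValuationRing V] (ϖ : V) (hϖ : Irreducible ϖ)

/-- evaluation to `k[X]` -/
noncomputable def evk (i : Fin 2) : MvPolynomial (Fin 2) V →+* Polynomial (ResidueField V) :=
  (Polynomial.mapRingHom (residue V)).comp (evV V i).toRingHom

include hϖ in
theorem residue_unif : residue V ϖ = 0 := by
  rw [residue_eq_zero_iff]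
  exact hϖ.not_isUnit

include hϖ in
theorem evk_g (i : Fin 2) :
    evk V i (MvPolynomial.X 0 * MvPolynomial.X 1 - MvPolynomial.C ϖ) = 0 := by
  change Polynomial.map (residue V) (evV V i _) = 0
  rw [evV_g, Polynomial.map_neg, Polynomial.map_C, residue_unif V ϖ hϖ, Polynomial.C_0, neg_zero]

include hϖ in
theorem mem_of_evk_eq_zero (i j : Fin 2) (hij : i ≠ j) (p : MvPolynomial (Fin 2) V)
    (hp : evk V i p = 0) :
    p ∈ Ideal.span {(MvPolynomial.X i : MvPolynomial (Fin 2) V), MvPolynomial.C ϖ} := by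
  have h1 : evV V i p ∈ RingHom.ker (Polynomial.mapRingHom (residue V)) := hp
  rw [Polynomial.ker_mapRingHom, ker_residue, hϖ.maximalIdeal_eq, Ideal.map_span,
    Set.image_singleton, Ideal.mem_span_singleton] at h1
  obtain ⟨s, hs⟩ := h1
  have h2 := sub_iota_evV_mem V i j hij p
  rw [hs, map_mul] at h2
  have h3 : iotaV V j (Polynomial.C ϖ) = MvPolynomial.C ϖ := by
    rw [iotaV, Polynomial.aeval_C]; rfl
  rw [h3] at h2
  have h4 : p = (p - MvPolynomial.C ϖ * iotaV V j s) + iotaV V j s * MvPolynomial.C ϖ := by ring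
  rw [h4]
  refine Ideal.add_mem _ ?_ (Ideal.mul_mem_left _ _ (Ideal.subset_span (by simp)))
  exact (Ideal.span_mono (by simp)) h2

include hϖ in
theorem mem_of_residue_constantCoeff_eq_zero (p : MvPolynomial (Fin 2) V)
    (hp : residue V (MvPolynomial.constantCoeff p) = 0) :
    p ∈ Ideal.span {(MvPolynomial.X 0 : MvPolynomial (Fin 2) V), MvPolynomial.X 1,
      MvPolynomial.C ϖ} := by
  rw [residue_eq_zero_iff, hϖ.maximalIdeal_eq, Ideal.mem_span_singleton] at hp
  obtain ⟨s, hs⟩ := hp
  have h2 := sub_C_constantCoeff_mem V p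
  have h4 : p = (p - MvPolynomial.C (MvPolynomial.constantCoeff p)) +
      MvPolynomial.C s * MvPolynomial.C ϖ := by
    rw [hs, map_mul]; ring
  rw [h4]
  refine Ideal.add_mem _ ?_ (Ideal.mul_mem_left _ _ (Ideal.subset_span (by simp)))
  refine (Ideal.span_mono ?_) h2
  intro z hz
  rcases hz with rfl | rfl
  · simp
  · simp

end Concrete


end Part4

section Part5

open IsLocalRing

section QLevel

variable (V : Type u) [CommRing V] [IsDomain V] [IsDiscreteValuationRing V] (ϖ : V)
  (hϖ : Irreducible ϖ)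

/-- the ideal `(xy - ϖ)` -/
noncomputable abbrev nodeIdeal : Ideal (MvPolynomial (Fin 2) V) :=
  Ideal.span {(MvPolynomial.X 0 * MvPolynomial.X 1 - MvPolynomial.C ϖ : MvPolynomial (Fin 2) V)}

/-- the node `V[x,y]/(xy - ϖ)` -/
abbrev NodeRing : Type u := MvPolynomial (Fin 2) V ⧸ nodeIdeal V ϖ

/-- the class of `X i` -/
noncomputable abbrev xQ (i : Fin 2) : NodeRing V ϖ :=
  Ideal.Quotient.mk (nodeIdeal V ϖ) (MvPolynomial.X i)

theorem X_mul_X (i j : Fin 2) (hij : i ≠ j) :
    (MvPolynomial.X i * MvPolynomial.X j : MvPolynomial (Fin 2) V) =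
      MvPolynomial.X 0 * MvPolynomial.X 1 := by
  fin_cases i <;> fin_cases j
  · exact absurd rfl hij
  · rfl
  · exact mul_comm _ _
  · exact absurd rfl hij

theorem mk_C_unif (i j : Fin 2) (hij : i ≠ j) :
    Ideal.Quotient.mk (nodeIdeal V ϖ) (MvPolynomial.C ϖ) = xQ V ϖ i * xQ V ϖ j := by
  rw [xQ, xQ, ← map_mul, X_mul_X V i j hij, eq_comm, Ideal.Quotient.eq]
  exact Ideal.mem_span_singleton_self _

theorem algebraMap_unif (i j : Fin 2) (hij : i ≠ j) :
    algebraMap V (NodeRing V ϖ) ϖ = xQ V ϖ i * xQ V ϖ j := by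
  rw [← mk_C_unif V ϖ i j hij]
  rfl

/-- evaluation `Q → k[X]` -/
noncomputable def evQ (i : Fin 2) : NodeRing V ϖ →+* Polynomial (ResidueField V) :=
  Ideal.Quotient.lift (nodeIdeal V ϖ) (evk V i) (by
    intro a ha
    obtain ⟨r, rfl⟩ := Ideal.mem_span_singleton.mp ha
    rw [map_mul, evk_g V ϖ hϖ, zero_mul])

theorem evQ_mk (i : Fin 2) (p : MvPolynomial (Fin 2) V) :
    evQ V ϖ hϖ i (Ideal.Quotient.mk _ p) = evk V i p := rfl

theorem evQ_xQ_self (i : Fin 2) : evQ V ϖ hϖ i (xQ V ϖ i) = 0 := by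
  change Polynomial.map (residue V) (evV V i _) = 0
  rw [evV_X_self, Polynomial.map_zero]

theorem evQ_xQ_other (i j : Fin 2) (hij : i ≠ j) : evQ V ϖ hϖ i (xQ V ϖ j) = Polynomial.X := by
  change Polynomial.map (residue V) (evV V i _) = _
  rw [evV_X_other V i j hij, Polynomial.map_X]

theorem evQ_algebraMap (i : Fin 2) (v : V) :
    evQ V ϖ hϖ i (algebraMap V (NodeRing V ϖ) v) = Polynomial.C (residue V v) := by
  change Polynomial.map (residue V) (evV V i (algebraMap V (MvPolynomial (Fin 2) V) v)) = _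
  rw [AlgHom.commutes, Polynomial.algebraMap_apply, Algebra.algebraMap_self_apply,
    Polynomial.map_C]

theorem mem_of_evQ_eq_zero (i j : Fin 2) (hij : i ≠ j) (q : NodeRing V ϖ)
    (hq : evQ V ϖ hϖ i q = 0) : q ∈ Ideal.span {xQ V ϖ i} := by
  obtain ⟨p, rfl⟩ := Ideal.Quotient.mk_surjective q
  have h1 := mem_of_evk_eq_zero V ϖ hϖ i j hij p hq
  have h2 := Ideal.mem_map_of_mem (Ideal.Quotient.mk (nodeIdeal V ϖ)) h1
  rw [Ideal.map_span] at h2
  refine (Ideal.span_le.mpr ?_) h2
  rintro _ ⟨z, hz, rfl⟩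
  rcases hz with rfl | rfl
  · exact Ideal.mem_span_singleton_self _
  · rw [mk_C_unif V ϖ i j hij]
    exact Ideal.mul_mem_right _ _ (Ideal.mem_span_singleton_self _)

include hϖ in
theorem xQ_mem_nonZeroDivisors (i j : Fin 2) (hij : i ≠ j) :
    xQ V ϖ i ∈ nonZeroDivisors (NodeRing V ϖ) := by
  rw [mem_nonZeroDivisors_iff_right]
  intro q hq
  obtain ⟨p, rfl⟩ := Ideal.Quotient.mk_surjective q
  rw [xQ, ← map_mul, Ideal.Quotient.eq_zero_iff_mem, Ideal.mem_span_singleton] at hq
  obtain ⟨r, hr⟩ := hq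
  have h1 := congrArg (evV V i) hr
  rw [map_mul, map_mul, evV_X_self, mul_zero, evV_g, eq_comm, neg_mul, neg_eq_zero,
    mul_eq_zero] at h1
  have hϖ0 : Polynomial.C ϖ ≠ (0 : Polynomial V) := by
    rw [Ne, Polynomial.C_eq_zero]
    exact Irreducible.ne_zero hϖ
  have h2 := mem_span_X_of_evV_eq_zero V i j hij r (h1.resolve_left hϖ0)
  obtain ⟨r', rfl⟩ := Ideal.mem_span_singleton.mp h2
  have hX : (MvPolynomial.X i : MvPolynomial (Fin 2) V) ≠ 0 := MvPolynomial.X_ne_zero i
  have h3 : p = (MvPolynomial.X 0 * MvPolynomial.X 1 - MvPolynomial.C ϖ) * r' := by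
    apply mul_right_cancel₀ hX
    rw [hr]; ring
  rw [Ideal.Quotient.eq_zero_iff_mem, h3]
  exact Ideal.mul_mem_right _ _ (Ideal.mem_span_singleton_self _)

/-- the closed point `Q → k` -/
noncomputable def chiQ : NodeRing V ϖ →+* ResidueField V :=
  Ideal.Quotient.lift (nodeIdeal V ϖ) ((residue V).comp MvPolynomial.constantCoeff) (by
    intro a ha
    obtain ⟨r, rfl⟩ := Ideal.mem_span_singleton.mp ha
    rw [map_mul, RingHom.comp_apply, map_sub, map_mul, MvPolynomial.constantCoeff_X, zero_mul,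
      MvPolynomial.constantCoeff_C, zero_sub, map_neg, residue_unif V ϖ hϖ, neg_zero, zero_mul])

theorem chiQ_xQ (i : Fin 2) : chiQ V ϖ hϖ (xQ V ϖ i) = 0 := by
  change residue V (MvPolynomial.constantCoeff (MvPolynomial.X i)) = 0
  rw [MvPolynomial.constantCoeff_X, map_zero]

theorem mem_of_chiQ_eq_zero (q : NodeRing V ϖ) (hq : chiQ V ϖ hϖ q = 0) :
    q ∈ Ideal.span {xQ V ϖ 0, xQ V ϖ 1} := by
  obtain ⟨p, rfl⟩ := Ideal.Quotient.mk_surjective q
  have h1 := mem_of_residue_constantCoeff_eq_zero V ϖ hϖ p hq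
  have h2 := Ideal.mem_map_of_mem (Ideal.Quotient.mk (nodeIdeal V ϖ)) h1
  rw [Ideal.map_span] at h2
  refine (Ideal.span_le.mpr ?_) h2
  rintro _ ⟨z, hz, rfl⟩
  rcases hz with rfl | rfl | rfl
  · exact Ideal.subset_span (by simp)
  · exact Ideal.subset_span (by simp)
  · rw [mk_C_unif V ϖ 0 1 (by decide)]
    exact Ideal.mul_mem_right _ _ (Ideal.subset_span (by simp))

end QLevel


end Part5

section Part6

open IsLocalRing KaehlerDifferential

section BLevel

variable (V : Type u) [CommRing V] [IsDomain V] [IsDiscreteValuationRing V] (ϖ : V)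
  (hϖ : Irreducible ϖ) (h : NodeRing V ϖ) (hh : h ∉ Ideal.span {xQ V ϖ 0, xQ V ϖ 1})
  (B : Type u) [CommRing B] [Algebra (NodeRing V ϖ) B] [IsLocalization.Away h B]

/-- the image of `X i` in `B` -/
noncomputable abbrev xB (i : Fin 2) : B := algebraMap (NodeRing V ϖ) B (xQ V ϖ i)

include hh in
theorem evQ_h_ne (i j : Fin 2) (hij : i ≠ j) : evQ V ϖ hϖ i h ≠ 0 := by
  intro h0
  apply hh
  have h1 := mem_of_evQ_eq_zero V ϖ hϖ i j hij h h0
  refine (Ideal.span_mono ?_) h1
  rintro _ rfl
  fin_cases i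
  · left; rfl
  · right; rfl

include hh in
theorem chiQ_h_ne : chiQ V ϖ hϖ h ≠ 0 := fun h0 => hh (mem_of_chiQ_eq_zero V ϖ hϖ h h0)

/-- the fraction field of `k[X]` -/
abbrev FF : Type u := FractionRing (Polynomial (ResidueField V))

include hh in
theorem isUnit_evQ_h (i j : Fin 2) (hij : i ≠ j) :
    IsUnit (((algebraMap (Polynomial (ResidueField V)) (FF V)).comp (evQ V ϖ hϖ i)) h) := by
  rw [RingHom.comp_apply, isUnit_iff_ne_zero, Ne,
    map_eq_zero_iff _ (IsFractionRing.injective (Polynomial (ResidueField V)) (FF V))]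
  exact evQ_h_ne V ϖ hϖ h hh i j hij

/-- the generic point of the component `x_i = 0` -/
noncomputable def psiB (i j : Fin 2) (hij : i ≠ j) : B →+* FF V :=
  IsLocalization.Away.lift h (isUnit_evQ_h V ϖ hϖ h hh i j hij)

theorem psiB_algebraMap (i j : Fin 2) (hij : i ≠ j) (q : NodeRing V ϖ) :
    psiB V ϖ hϖ h hh B i j hij (algebraMap _ B q) =
      algebraMap (Polynomial (ResidueField V)) (FF V) (evQ V ϖ hϖ i q) := by
  rw [psiB, IsLocalization.Away.lift_eq]
  rfl

theorem mem_of_psiB_eq_zero (i j : Fin 2) (hij : i ≠ j) (b : B)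
    (hb : psiB V ϖ hϖ h hh B i j hij b = 0) : b ∈ Ideal.span {xB V ϖ B i} := by
  obtain ⟨n, q, hq⟩ := IsLocalization.Away.surj h b
  have h1 : psiB V ϖ hϖ h hh B i j hij (algebraMap _ B q) = 0 := by
    rw [← hq, map_mul, hb, zero_mul]
  rw [psiB_algebraMap,
    map_eq_zero_iff _ (IsFractionRing.injective (Polynomial (ResidueField V)) (FF V))] at h1
  have h2 := mem_of_evQ_eq_zero V ϖ hϖ i j hij q h1
  obtain ⟨r, rfl⟩ := Ideal.mem_span_singleton.mp h2
  have hu : IsUnit (algebraMap (NodeRing V ϖ) B h ^ n) :=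
    (IsLocalization.Away.algebraMap_isUnit h).pow n
  obtain ⟨u, hu⟩ := hu
  have h3 : b = xB V ϖ B i * (algebraMap _ B r * (u⁻¹ : Bˣ)) := by
    rw [← hu, map_mul] at hq
    calc b = (b * (u : B)) * (u⁻¹ : Bˣ) := by rw [mul_assoc, Units.mul_inv, mul_one]
      _ = _ := by rw [hq]; ring
  rw [h3]
  exact Ideal.mul_mem_right _ _ (Ideal.mem_span_singleton_self _)

theorem psiB_xB_self (i j : Fin 2) (hij : i ≠ j) :
    psiB V ϖ hϖ h hh B i j hij (xB V ϖ B i) = 0 := by
  rw [xB, psiB_algebraMap, evQ_xQ_self, map_zero]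

theorem psiB_xB_other (i j : Fin 2) (hij : i ≠ j) :
    psiB V ϖ hϖ h hh B i j hij (xB V ϖ B j) =
      algebraMap (Polynomial (ResidueField V)) (FF V) Polynomial.X := by
  rw [xB, psiB_algebraMap, evQ_xQ_other V ϖ hϖ i j hij]

theorem ker_psiB (i j : Fin 2) (hij : i ≠ j) :
    RingHom.ker (psiB V ϖ hϖ h hh B i j hij) = Ideal.span {xB V ϖ B i} := by
  apply le_antisymm
  · intro b hb
    exact mem_of_psiB_eq_zero V ϖ hϖ h hh B i j hij b hb
  · rw [Ideal.span_le]
    rintro _ rfl
    exact psiB_xB_self V ϖ hϖ h hh B i j hij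

include hϖ hh in
theorem isPrime_span_xB (i j : Fin 2) (hij : i ≠ j) : (Ideal.span {xB V ϖ B i}).IsPrime := by
  rw [← ker_psiB V ϖ hϖ h hh B i j hij]
  exact RingHom.ker_isPrime _

include hϖ hh in
theorem xB_other_notMem (i j : Fin 2) (hij : i ≠ j) :
    xB V ϖ B j ∉ Ideal.span {xB V ϖ B i} := by
  rw [← ker_psiB V ϖ hϖ h hh B i j hij, RingHom.mem_ker, psiB_xB_other,
    map_eq_zero_iff _ (IsFractionRing.injective (Polynomial (ResidueField V)) (FF V))]
  exact Polynomial.X_ne_zero

include hϖ h in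
theorem xB_mem_nonZeroDivisors (i j : Fin 2) (hij : i ≠ j) :
    xB V ϖ B i ∈ nonZeroDivisors B :=
  IsLocalization.nonZeroDivisors_le_comap (Submonoid.powers h) B
    (xQ_mem_nonZeroDivisors V ϖ hϖ i j hij)

include hϖ hh in
theorem span_xB_ne_top : Ideal.span {xB V ϖ B 0, xB V ϖ B 1} ≠ ⊤ := by
  have hu : IsUnit (chiQ V ϖ hϖ h) := isUnit_iff_ne_zero.mpr (chiQ_h_ne V ϖ hϖ h hh)
  let χ : B →+* ResidueField V := IsLocalization.Away.lift h hu
  have hχ : ∀ q, χ (algebraMap _ B q) = chiQ V ϖ hϖ q := fun q =>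
    IsLocalization.Away.lift_eq h hu q
  have hle : Ideal.span {xB V ϖ B 0, xB V ϖ B 1} ≤ RingHom.ker χ := by
    rw [Ideal.span_le]
    rintro _ (rfl | rfl)
    · rw [SetLike.mem_coe, RingHom.mem_ker, xB, hχ, chiQ_xQ]
    · rw [SetLike.mem_coe, RingHom.mem_ker, xB, hχ, chiQ_xQ]
  intro htop
  rw [htop, top_le_iff] at hle
  exact (RingHom.ker_ne_top χ) hle

end BLevel


end Part6

section Part7

open IsLocalRing KaehlerDifferential

section BLevel2

variable (V : Type u) [CommRing V] [IsDomain V] [IsDiscreteValuationRing V] (ϖ : V)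
  (hϖ : Irreducible ϖ) (h : NodeRing V ϖ) (hh : h ∉ Ideal.span {xQ V ϖ 0, xQ V ϖ 1})
  (B : Type u) [CommRing B] [Algebra (NodeRing V ϖ) B] [IsLocalization.Away h B]
  [Algebra V B] [IsScalarTower V (NodeRing V ϖ) B]

theorem D_algebraMap_mem (q : NodeRing V ϖ) :
    D V B (algebraMap _ B q) ∈
      Submodule.span B {D V B (xB V ϖ B 0), D V B (xB V ϖ B 1)} := by
  obtain ⟨p, rfl⟩ := Ideal.Quotient.mk_surjective q
  induction p using MvPolynomial.induction_on with
  | C a =>
    have h1 : algebraMap (NodeRing V ϖ) B (Ideal.Quotient.mk _ (MvPolynomial.C a)) =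
        algebraMap V B a := by
      rw [IsScalarTower.algebraMap_apply V (NodeRing V ϖ) B]
      rfl
    rw [h1, Derivation.map_algebraMap]
    exact Submodule.zero_mem _
  | add p q hp hq =>
    rw [map_add, map_add, map_add]
    exact Submodule.add_mem _ hp hq
  | mul_X p l hp =>
    rw [map_mul, map_mul, Derivation.leibniz]
    refine Submodule.add_mem _ (Submodule.smul_mem _ _ (Submodule.subset_span ?_))
      (Submodule.smul_mem _ _ hp)
    fin_cases l
    · left; rfl
    · right; rfl

include h in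
theorem D_mem_span (b : B) :
    D V B b ∈ Submodule.span B {D V B (xB V ϖ B 0), D V B (xB V ϖ B 1)} := by
  obtain ⟨n, q, hq⟩ := IsLocalization.Away.surj h b
  have hu : IsUnit (algebraMap (NodeRing V ϖ) B h ^ n) :=
    (IsLocalization.Away.algebraMap_isUnit h).pow n
  obtain ⟨u, hu⟩ := hu
  rw [← hu] at hq
  have h1 := D_algebraMap_mem V ϖ B q
  rw [← hq, Derivation.leibniz] at h1
  have h2 : D V B (u : B) ∈ Submodule.span B {D V B (xB V ϖ B 0), D V B (xB V ϖ B 1)} := by
    rw [hu, ← map_pow]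
    exact D_algebraMap_mem V ϖ B _
  have h3 : (u : B) • D V B b ∈
      Submodule.span B {D V B (xB V ϖ B 0), D V B (xB V ϖ B 1)} := by
    have := Submodule.sub_mem _ h1 (Submodule.smul_mem _ b h2)
    rwa [add_sub_cancel_left] at this
  have h4 := Submodule.smul_mem _ ((u⁻¹ : Bˣ) : B) h3
  rwa [smul_smul, Units.inv_mul, one_smul] at h4

include h in
theorem exists_theta : ∃ θ : Ω[B⁄V] →ₗ[B] B,
    θ (D V B (xB V ϖ B 0)) = xB V ϖ B 0 ∧ θ (D V B (xB V ϖ B 1)) = - xB V ϖ B 1 := by
  let θP : Derivation V (MvPolynomial (Fin 2) V) (MvPolynomial (Fin 2) V) :=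
    MvPolynomial.mkDerivation V ![MvPolynomial.X 0, -MvPolynomial.X 1]
  have hθ0 : θP (MvPolynomial.X 0) = MvPolynomial.X 0 := by
    rw [MvPolynomial.mkDerivation_X]; rfl
  have hθ1 : θP (MvPolynomial.X 1) = -MvPolynomial.X 1 := by
    rw [MvPolynomial.mkDerivation_X]; rfl
  have hθg : θP (MvPolynomial.X 0 * MvPolynomial.X 1 - MvPolynomial.C ϖ) = 0 := by
    rw [map_sub, Derivation.leibniz, hθ0, hθ1, ← MvPolynomial.algebraMap_eq,
      Derivation.map_algebraMap, sub_zero,
      smul_eq_mul, smul_eq_mul]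
    ring
  have hd : ∀ p, Ideal.Quotient.mkₐ V (nodeIdeal V ϖ) p = 0 →
      Ideal.Quotient.mkₐ V (nodeIdeal V ϖ) (θP p) = 0 := by
    intro p hp
    rw [Ideal.Quotient.mkₐ_eq_mk, Ideal.Quotient.eq_zero_iff_mem] at hp ⊢
    obtain ⟨r, rfl⟩ := Ideal.mem_span_singleton.mp hp
    rw [Derivation.leibniz, hθg, smul_zero, add_zero, smul_eq_mul]
    exact Ideal.mul_mem_right _ _ (Ideal.mem_span_singleton_self _)
  let θQ : Derivation V (NodeRing V ϖ) (NodeRing V ϖ) :=
    Derivation.liftOfSurjective (f := Ideal.Quotient.mkₐ V (nodeIdeal V ϖ))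
      (Ideal.Quotient.mkₐ_surjective V _) hd
  have hθQ : ∀ p, θQ (Ideal.Quotient.mk _ p) = Ideal.Quotient.mk _ (θP p) := fun p =>
    Derivation.liftOfSurjective_apply (f := Ideal.Quotient.mkₐ V (nodeIdeal V ϖ))
      (Ideal.Quotient.mkₐ_surjective V _) hd p
  let d : Derivation V (NodeRing V ϖ) B := (Algebra.linearMap (NodeRing V ϖ) B).compDer θQ
  obtain ⟨ℓ, hℓ⟩ := exists_lift_kaehler_away (R := V) (Q := NodeRing V ϖ) (B := B) (N := B) h d
  refine ⟨ℓ, ?_, ?_⟩
  · rw [xB, hℓ]
    change algebraMap _ B (θQ (Ideal.Quotient.mk _ _)) = _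
    rw [hθQ, hθ0]
  · rw [xB, hℓ]
    change algebraMap _ B (θQ (Ideal.Quotient.mk _ _)) = _
    rw [hθQ, hθ1, map_neg, map_neg]

end BLevel2


end Part7

section Part8

open Polynomial KaehlerDifferential

/-- the derivation `d/dX` transported to the Kaehler differentials of a localisation `B` of `Q`,
with values in a field `F` receiving `k[X]` -/
theorem exists_delta {V Q B k F : Type u} [CommRing V] [CommRing Q] [CommRing B] [Field k]
    [Field F] [Algebra V Q] [Algebra V B] [Algebra Q B] [IsScalarTower V Q B] (h : Q)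
    [IsLocalization.Away h B]
    (ev : Q →+* k[X]) (alg : k[X] →+* F) (ψ : B →+* F)
    (hψ : ∀ q, ψ (algebraMap Q B q) = alg (ev q))
    (hev : ∀ v : V, ∃ c : k, ev (algebraMap V Q v) = C c) :
    ∃ δ : Ω[B⁄V] → F, (∀ ω ω', δ (ω + ω') = δ ω + δ ω') ∧ (∀ (b : B) ω, δ (b • ω) = ψ b * δ ω) ∧
      ∀ q, δ (D V B (algebraMap Q B q)) = alg (derivative (ev q)) := by
  letI mB : Module B F := Module.compHom F ψ
  letI mQ : Module Q F := Module.compHom F (ψ.comp (algebraMap Q B))
  letI mV : Module V F := Module.compHom F (ψ.comp (algebraMap V B))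
  haveI : IsScalarTower Q B F := ⟨fun q b n => by
    change ψ (q • b) * n = ψ (algebraMap Q B q) * (ψ b * n)
    rw [Algebra.smul_def, map_mul, mul_assoc]⟩
  haveI : IsScalarTower V Q F := ⟨fun v q n => by
    change ψ (algebraMap Q B (v • q)) * n = ψ (algebraMap V B v) * (ψ (algebraMap Q B q) * n)
    rw [Algebra.smul_def, map_mul, map_mul, ← IsScalarTower.algebraMap_apply, mul_assoc]⟩
  let lin : Q →ₗ[V] F :=
    { toFun := fun q => alg (derivative (ev q))
      map_add' := fun p q => by simp only [map_add]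
      map_smul' := fun v q => by
        change alg (derivative (ev (v • q))) = ψ (algebraMap V B v) * alg (derivative (ev q))
        obtain ⟨c, hc⟩ := hev v
        rw [Algebra.smul_def, map_mul, hc, derivative_C_mul, map_mul,
          IsScalarTower.algebraMap_apply V Q B, hψ, hc] }
  let d : Derivation V Q F := Derivation.mk' lin (by
    intro a b
    change alg (derivative (ev (a * b))) = ψ (algebraMap Q B a) * alg (derivative (ev b)) +
      ψ (algebraMap Q B b) * alg (derivative (ev a))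
    rw [map_mul, derivative_mul, map_add, map_mul, map_mul, hψ, hψ]
    ring)
  obtain ⟨ℓ, hℓ⟩ := exists_lift_kaehler_away (R := V) (Q := Q) (B := B) (N := F) h d
  exact ⟨ℓ, ℓ.map_add, fun b ω => ℓ.map_smul b ω, hℓ⟩

/-- in characteristic zero, a function whose differential vanishes along the component is
constant there -/
theorem psi_const {V Q B k F : Type u} [CommRing V] [CommRing Q] [CommRing B] [Field k]
    [CharZero k] [Field F] [Algebra V Q] [Algebra V B] [Algebra Q B] [IsScalarTower V Q B] (h : Q)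
    [IsLocalization.Away h B]
    (ev : Q →+* k[X]) (alg : k[X] →+* F) (halg : Function.Injective alg) (ψ : B →+* F)
    (hψ : ∀ q, ψ (algebraMap Q B q) = alg (ev q))
    (hev : ∀ v : V, ∃ c : k, ev (algebraMap V Q v) = C c)
    (hevh : ev h ≠ 0)
    (f a b : B) (x y : Q) (hx : ev x = 0) (hb : ψ b = 0)
    (hab : D V B f = a • D V B (algebraMap Q B x) + b • D V B (algebraMap Q B y)) :
    ∃ c : k, ψ f = alg (C c) := by
  obtain ⟨δ, hadd, hsmul, hδ⟩ := exists_delta (V := V) h ev alg ψ hψ hev
  have h1 : δ (D V B f) = 0 := by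
    rw [hab, hadd, hsmul, hsmul, hδ, hδ, hx, derivative_zero, map_zero, mul_zero, hb, zero_mul,
      add_zero]
  obtain ⟨n, q, hq⟩ := IsLocalization.Away.surj h f
  rw [← map_pow] at hq
  have h2 := congrArg (fun z => δ (D V B z)) hq
  simp only [Derivation.leibniz, hadd, hsmul, hδ, h1, mul_zero, add_zero] at h2
  have h3 := congrArg ψ hq
  rw [map_mul, hψ, hψ] at h3
  have hH : ev (h ^ n) ≠ 0 := by
    rw [map_pow]; exact pow_ne_zero _ hevh
  have h4 : ev q * derivative (ev (h ^ n)) = derivative (ev q) * ev (h ^ n) := by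
    apply halg
    rw [map_mul, map_mul, ← h3, ← h2]
    ring
  obtain ⟨c, hc⟩ := eq_C_mul_of_wronskian _ _ hH h4
  refine ⟨c, ?_⟩
  have hH' : alg (ev (h ^ n)) ≠ 0 := by
    rw [Ne, map_eq_zero_iff alg halg]; exact hH
  apply mul_right_cancel₀ hH'
  rw [h3, hc, map_mul]

/-- a function constant along a component on which another function is transcendental is not
quasi-finite -/
theorem not_quasiFinite_of_const {V B k F : Type u} [CommRing V] [CommRing B] [Field k] [Field F]
    [Algebra V B] (res : V →+* k) (hres : Function.Surjective res) (alg : k[X] →+* F)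
    (halg : Function.Injective alg) (ψ : B →+* F)
    (hψV : ∀ v, ψ (algebraMap V B v) = alg (C (res v)))
    (y f : B) (hy : ψ y = alg X) (c : k) (hf : ψ f = alg (C c)) :
    ¬ (Polynomial.aeval f : Polynomial V →ₐ[V] B).toRingHom.QuasiFinite := by
  intro hq
  let I := RingHom.ker ψ
  let π : B →+* B ⧸ I := Ideal.Quotient.mk I
  let ψ' : B ⧸ I →+* F := RingHom.kerLift ψ
  have hψ' : ∀ b, ψ' (π b) = ψ b := fun b => RingHom.kerLift_mk ψ b
  have hψ'inj : Function.Injective ψ' := RingHom.kerLift_injective ψ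
  obtain ⟨c', rfl⟩ := hres c
  have hπf : π f = π (algebraMap V B c') := by
    rw [Ideal.Quotient.eq, RingHom.mem_ker, map_sub, hf, hψV, sub_self]
  have hπ : π.QuasiFinite :=
    RingHom.QuasiFinite.of_finite (RingHom.Finite.of_surjective π Ideal.Quotient.mk_surjective)
  have h1 : (π.comp (Polynomial.aeval f : Polynomial V →ₐ[V] B).toRingHom).QuasiFinite :=
    hπ.comp hq
  have hker : RingHom.ker res ≤ RingHom.ker (π.comp (algebraMap V B)) := by
    intro v hv
    rw [RingHom.mem_ker] at hv ⊢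
    rw [RingHom.comp_apply, Ideal.Quotient.eq_zero_iff_mem, RingHom.mem_ker, hψV, hv, C_0,
      map_zero]
  let γ : k →+* B ⧸ I := RingHom.liftOfSurjective res hres ⟨π.comp (algebraMap V B), hker⟩
  have hγ : ∀ v, γ (res v) = π (algebraMap V B v) := fun v =>
    RingHom.liftOfSurjective_comp_apply res hres ⟨π.comp (algebraMap V B), hker⟩ v
  have h2 : π.comp (Polynomial.aeval f : Polynomial V →ₐ[V] B).toRingHom =
      γ.comp (res.comp (Polynomial.evalRingHom c')) := by
    apply Polynomial.ringHom_ext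
    · intro v
      simp only [RingHom.comp_apply, AlgHom.toRingHom_eq_coe, RingHom.coe_coe, aeval_C,
        coe_evalRingHom, eval_C, hγ]
    · simp only [RingHom.comp_apply, AlgHom.toRingHom_eq_coe, RingHom.coe_coe, aeval_X,
        coe_evalRingHom, eval_X, hγ, hπf]
  rw [h2] at h1
  have h3 : γ.QuasiFinite := RingHom.QuasiFinite.of_comp h1
  letI : Algebra k (B ⧸ I) := γ.toAlgebra
  haveI : Algebra.QuasiFinite k (B ⧸ I) := h3
  haveI : Module.Finite k (B ⧸ I) := Module.Finite.of_quasiFinite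
  haveI : Algebra.IsIntegral k (B ⧸ I) := Algebra.IsIntegral.of_finite k (B ⧸ I)
  obtain ⟨p, hp, hp0⟩ := Algebra.IsIntegral.isIntegral (R := k) (π y)
  have h4 := congrArg ψ' hp0
  rw [Polynomial.hom_eval₂, map_zero, hψ', hy] at h4
  have h5 : ψ'.comp (algebraMap k (B ⧸ I)) = alg.comp C := by
    ext a
    obtain ⟨v, rfl⟩ := hres a
    change ψ' (γ (res v)) = alg (C (res v))
    rw [hγ, hψ', hψV]
  rw [h5, ← Polynomial.hom_eval₂, Polynomial.eval₂_C_X, map_eq_zero_iff alg halg] at h4
  exact hp.ne_zero h4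


end Part8

section Part9

open IsLocalRing KaehlerDifferential

section Final

variable (V : Type u) [CommRing V] [IsDomain V] [IsDiscreteValuationRing V] (ϖ : V)
  (hϖ : Irreducible ϖ) (h : NodeRing V ϖ) (hh : h ∉ Ideal.span {xQ V ϖ 0, xQ V ϖ 1})
  (B : Type u) [CommRing B] [Algebra (NodeRing V ϖ) B] [IsLocalization.Away h B]
  [Algebra V B] [IsScalarTower V (NodeRing V ϖ) B]

include hϖ hh in
theorem not_quasiFinite_case [CharZero (ResidueField V)] (i j : Fin 2) (hij : i ≠ j) (f a b : B)
    (hab : D V B f = a • D V B (xB V ϖ B i) + b • D V B (xB V ϖ B j))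
    (hb : b ∈ Ideal.span {xB V ϖ B i}) :
    ¬ (Polynomial.aeval f : Polynomial V →ₐ[V] B).toRingHom.QuasiFinite := by
  have hinj := IsFractionRing.injective (Polynomial (ResidueField V)) (FF V)
  have hb' : psiB V ϖ hϖ h hh B i j hij b = 0 := by
    rw [← RingHom.mem_ker, ker_psiB]; exact hb
  obtain ⟨c, hc⟩ := psi_const (V := V) h (evQ V ϖ hϖ i)
    (algebraMap (Polynomial (ResidueField V)) (FF V)) hinj (psiB V ϖ hϖ h hh B i j hij)
    (psiB_algebraMap V ϖ hϖ h hh B i j hij) (fun v => ⟨_, evQ_algebraMap V ϖ hϖ i v⟩)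
    (evQ_h_ne V ϖ hϖ h hh i j hij) f a b (xQ V ϖ i) (xQ V ϖ j) (evQ_xQ_self V ϖ hϖ i) hb' hab
  refine not_quasiFinite_of_const (residue V) residue_surjective
    (algebraMap (Polynomial (ResidueField V)) (FF V)) hinj (psiB V ϖ hϖ h hh B i j hij) ?_
    (xB V ϖ B j) f (psiB_xB_other V ϖ hϖ h hh B i j hij) c hc
  intro v
  rw [IsScalarTower.algebraMap_apply V (NodeRing V ϖ) B, psiB_algebraMap, evQ_algebraMap]

include hϖ hh in
theorem main (f : B)
    (hf : ((algebraMap B (Localization.Away (algebraMap V B ϖ))).comp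
          (Polynomial.aeval f : Polynomial V →ₐ[V] B).toRingHom).Etale) :
    (D V (B ⧸ Ideal.span {xB V ϖ B 0}) (Ideal.Quotient.mk _ f) = 0 ∨
      D V (B ⧸ Ideal.span {xB V ϖ B 1}) (Ideal.Quotient.mk _ f) = 0) ∧
    (CharZero (ResidueField V) →
      ¬ (Polynomial.aeval f : Polynomial V →ₐ[V] B).toRingHom.QuasiFinite) := by
  have h01 : (0 : Fin 2) ≠ 1 := by decide
  have h10 : (1 : Fin 2) ≠ 0 := by decide
  have hxy : algebraMap V B ϖ = xB V ϖ B 0 * xB V ϖ B 1 := by
    rw [IsScalarTower.algebraMap_apply V (NodeRing V ϖ) B, algebraMap_unif V ϖ 0 1 h01, map_mul]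
  obtain ⟨θ, hθ0, hθ1⟩ := exists_theta V ϖ h B
  obtain ⟨a, b, hab, hcase⟩ := node_abstract (xB V ϖ B 0) (xB V ϖ B 1) f (algebraMap V B ϖ) hxy hf
    (D_mem_span V ϖ h B) θ hθ0 hθ1
    (isPrime_span_xB V ϖ hϖ h hh B 0 1 h01) (isPrime_span_xB V ϖ hϖ h hh B 1 0 h10)
    (xB_other_notMem V ϖ hϖ h hh B 0 1 h01) (xB_other_notMem V ϖ hϖ h hh B 1 0 h10)
    (xB_mem_nonZeroDivisors V ϖ hϖ h B 0 1 h01) (xB_mem_nonZeroDivisors V ϖ hϖ h B 1 0 h10)
    (span_xB_ne_top V ϖ hϖ h hh B)
  have hab' : D V B f = b • D V B (xB V ϖ B 1) + a • D V B (xB V ϖ B 0) := by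
    rw [hab, add_comm]
  refine ⟨?_, ?_⟩
  · rcases hcase with hb | ha
    · left
      exact D_mk_eq_zero (xB V ϖ B 0) (xB V ϖ B 1) f a b hab hb
    · right
      exact D_mk_eq_zero (xB V ϖ B 1) (xB V ϖ B 0) f b a hab' ha
  · intro hchar
    rcases hcase with hb | ha
    · exact not_quasiFinite_case V ϖ hϖ h hh B 0 1 h01 f a b hab hb
    · exact not_quasiFinite_case V ϖ hϖ h hh B 1 0 h10 f b a hab' ha

end Final


end Part9

end Groth.Agent.Helper13SemiNode
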