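import Mathlib
import Groth.Agent.Lib.Helper3IndEt
import Groth.Agent.Lib.Helper3HenselA

set_option autoImplicit false

open TensorProduct IsLocalRing CategoryTheory CategoryTheory.Limits

universe u

namespace Groth.Agent.Lib.Helper3.IndEt

/-- Unique lifting of maps from étale algebras to the residue field of a henselian local ring. -/
theorem existsUnique_lift_residue {R T E : Type*} [CommRing R] [CommRing T] [HenselianLocalRing T]
    [Algebra R T] [CommRing E] [Algebra R E] [Algebra.Etale R E] (w : E →ₐ[R] ResidueField T) :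
    ∃! f : E →ₐ[R] T, ∀ a, residue T (f a) = w a := by
  let q : Ideal E := RingHom.ker w
  haveI : q.IsPrime := RingHom.ker_isPrime w
  let τ : q.ResidueField →ₐ[R] ResidueField T := Ideal.ResidueField.liftₐ q w le_rfl (by
    intro x hx
    show IsUnit (w x)
    exact IsUnit.mk0 _ hx)
  have hτ : ∀ a, τ (algebraMap E q.ResidueField a) = w a :=
    fun a => Ideal.ResidueField.liftₐ_algebraMap _ _ _ _ a
  obtain ⟨f, hf, huniq⟩ := Hensel.existsUnique_algHom_of_etale q τ
  exact ⟨f, fun a => by rw [hf, hτ], fun f' hf' => huniq f' (fun a => by rw [hf', hτ])⟩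

/-- Variant with an abstract residue field `K`. -/
theorem existsUnique_lift_of_surjective {R T E K : Type*} [CommRing R] [CommRing T]
    [HenselianLocalRing T] [Algebra R T] [CommRing E] [Algebra R E] [Algebra.Etale R E]
    [Field K] [Algebra R K] (u : T →ₐ[R] K) (hu : Function.Surjective u)
    (hker : RingHom.ker u.toRingHom = maximalIdeal T) (w : E →ₐ[R] K) :
    ∃! f : E →ₐ[R] T, u.comp f = w := by
  have h0 : ∀ a ∈ maximalIdeal T, u a = 0 := fun a ha => by
    rw [← hker] at ha; exact ha
  let κ : ResidueField T →ₐ[R] K := Ideal.Quotient.liftₐ (maximalIdeal T) u h0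
  have hκ : ∀ t, κ (residue T t) = u t := fun t => rfl
  have hκbij : Function.Bijective κ := by
    refine ⟨(κ : ResidueField T →+* K).injective, fun k => ?_⟩
    obtain ⟨t, rfl⟩ := hu k
    exact ⟨residue T t, hκ t⟩
  let κe : ResidueField T ≃ₐ[R] K := AlgEquiv.ofBijective κ hκbij
  obtain ⟨f, hf, huniq⟩ := existsUnique_lift_residue (T := T)
    ((κe.symm : K →ₐ[R] ResidueField T).comp w)
  refine ⟨f, ?_, ?_⟩
  · apply AlgHom.ext
    intro a
    show u (f a) = w a
    rw [← hκ, hf]
    show κe (κe.symm (w a)) = w a
    rw [κe.apply_symm_apply]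
  · intro f' hf'
    apply huniq
    intro a
    show residue T (f' a) = κe.symm (w a)
    rw [← hf']
    show residue T (f' a) = κe.symm (κe (residue T (f' a)))
    rw [κe.symm_apply_apply]

section desc

variable (A B : Type u) [CommRing A] [CommRing B] [Algebra A B]

/-- the canonical diagram of presented étale algebras over `B` -/
noncomputable def Obj.diagram : Obj A B ⥤ Under (CommRingCat.of A) :=
  letI _instR : ∀ j : Obj A B, Algebra (CommRingCat.of A) j.E :=
    fun j => inferInstanceAs (Algebra A j.E)
  { obj := fun j => CommRingCat.mkUnder (CommRingCat.of A) j.E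
    map := fun g => AlgHom.toUnder (R := CommRingCat.of A) g.1
    map_id := fun _ => rfl
    map_comp := fun _ _ => rfl }

/-- the canonical cocone -/
noncomputable def Obj.cocone : Cocone (Obj.diagram A B) :=
  letI instR : ∀ j : Obj A B, Algebra (CommRingCat.of A) j.E :=
    fun j => inferInstanceAs (Algebra A j.E)
  letI instB : Algebra (CommRingCat.of A) B := inferInstanceAs (Algebra A B)
  { pt := CommRingCat.mkUnder (CommRingCat.of A) B
    ι :=
      { app := fun j => AlgHom.toUnder (R := CommRingCat.of A) j.φ
        naturality := fun j k g => by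
          apply CommRingCat.mkUnder_ext
          intro x
          exact congr($(g.2) x) } }

variable {A B}

theorem Obj.nonempty_isColimit (H : Obj.Factor A B) :
    haveI := Obj.isFiltered H
    Nonempty (IsColimit (Obj.cocone A B)) := by
  haveI := Obj.isFiltered H
  refine nonempty_isColimit_under (Obj.diagram A B) (Obj.cocone A B) ?_ ?_
  · intro (b : B)
    let ψ : MvPolynomial (Fin 1) A →ₐ[A] B := MvPolynomial.aeval (fun _ => b)
    obtain ⟨E', _, _, _, f', g', hfg⟩ := H _ ψ
    obtain ⟨j, e, he⟩ := Obj.exists_obj A g'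
    refine ⟨j, e.symm (f' (MvPolynomial.X 0)), ?_⟩
    show j.φ (e.symm (f' (MvPolynomial.X 0))) = b
    rw [← he]
    show g' (e (e.symm (f' (MvPolynomial.X 0)))) = b
    rw [e.apply_symm_apply]
    have := congr($hfg (MvPolynomial.X 0))
    rw [AlgHom.comp_apply] at this
    rw [this]
    simp [ψ]
  · intro j (x : j.E) (hx : j.φ x = 0)
    have hker : ∀ y ∈ Ideal.span ({x} : Set j.E), j.φ y = 0 := by
      intro y hy
      obtain ⟨z, rfl⟩ := Ideal.mem_span_singleton'.mp hy
      rw [map_mul, hx, mul_zero]
    obtain ⟨l, h, hh⟩ := Obj.exists_hom_of_span H j _ ⟨{x}, by simp⟩ hker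
    exact ⟨l, h, hh x (Ideal.subset_span rfl)⟩

/-- Universal property of an ind-étale algebra with respect to its étale algebras. -/
theorem Obj.existsUnique_desc (H : Obj.Factor A B) (T : Type u) [CommRing T] [Algebra A T]
    (f : ∀ j : Obj A B, j.E →ₐ[A] T)
    (hf : ∀ {j k : Obj A B} (g : j ⟶ k), (f k).comp g.1 = f j) :
    ∃! F : B →ₐ[A] T, ∀ j : Obj A B, F.comp j.φ = f j := by
  haveI := Obj.isFiltered H
  obtain ⟨hc⟩ := Obj.nonempty_isColimit H
  letI instR : ∀ j : Obj A B, Algebra (CommRingCat.of A) j.E :=
    fun j => inferInstanceAs (Algebra A j.E)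
  letI instB : Algebra (CommRingCat.of A) B := inferInstanceAs (Algebra A B)
  letI instT : Algebra (CommRingCat.of A) T := inferInstanceAs (Algebra A T)
  let s : Cocone (Obj.diagram A B) :=
    { pt := CommRingCat.mkUnder (CommRingCat.of A) T
      ι :=
        { app := fun j => AlgHom.toUnder (R := CommRingCat.of A) (f j)
          naturality := fun j k g => by
            apply CommRingCat.mkUnder_ext
            intro x
            exact congr($(hf g) x) } }
  let F₀ : (Obj.cocone A B).pt ⟶ s.pt := hc.desc s
  let F : B →ₐ[A] T :=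
    { toRingHom := F₀.right.hom
      commutes' := fun a => congr($(Under.w F₀).hom a) }
  refine ⟨F, fun j => ?_, fun F' hF' => ?_⟩
  · apply AlgHom.ext
    intro x
    exact congr($(hc.fac s j).right.hom x)
  · have h1 : AlgHom.toUnder (R := CommRingCat.of A) F' = F₀ := by
      apply hc.uniq s
      intro j
      apply CommRingCat.mkUnder_ext
      intro x
      exact congr($(hF' j) x)
    apply AlgHom.ext
    intro x
    exact congr($(h1).right.hom x)

end desc

/-- Maps from an ind-étale algebra to a henselian local ring are uniquely determined by (and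
exist for) any prescribed map to the residue field. -/
theorem existsUnique_algHom_of_isIndEtale {R S T K : Type u} [CommRing R] [CommRing S]
    [Algebra R S] (hS : EtPBC.IsIndEtale R S) [CommRing T] [HenselianLocalRing T] [Algebra R T]
    [Field K] [Algebra R K] (uT : T →ₐ[R] K) (huT : Function.Surjective uT)
    (hker : RingHom.ker uT.toRingHom = maximalIdeal T) (uS : S →ₐ[R] K) :
    ∃! g : S →ₐ[R] T, uT.comp g = uS := by
  have H := factor_of_isIndEtale hS
  have hex : ∀ j : Obj R S, ∃! f : j.E →ₐ[R] T, uT.comp f = uS.comp j.φ :=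
    fun j => existsUnique_lift_of_surjective uT huT hker _
  choose f hf hfuniq using hex
  have hcompat : ∀ {j k : Obj R S} (g : j ⟶ k), (f k).comp g.1 = f j := by
    intro j k g
    apply hfuniq j
    rw [← AlgHom.comp_assoc, hf k, AlgHom.comp_assoc, g.2]
  obtain ⟨F, hF, hFuniq⟩ := Obj.existsUnique_desc H T f hcompat
  refine ⟨F, ?_, ?_⟩
  · obtain ⟨G, hG, hGuniq⟩ := Obj.existsUnique_desc H K (fun j => uS.comp j.φ)
      (by intro j k g; rw [AlgHom.comp_assoc, g.2])
    rw [hGuniq (uT.comp F) (fun j => by rw [AlgHom.comp_assoc, hF, hf]),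
      hGuniq uS (fun j => rfl)]
  · intro F' hF'
    apply hFuniq
    intro j
    apply hfuniq j
    rw [← AlgHom.comp_assoc, hF']

end Groth.Agent.Lib.Helper3.IndEt
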