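import Mathlib
import Groth.Agent.Lib.Helper3IndEt

set_option autoImplicit false

open TensorProduct

universe u

namespace Groth.Agent.Lib.Helper3.IndEt

section field

variable {k F : Type u} [Field k] [CommRing F] [Algebra k F]

/-- every element of an ind-étale algebra comes from an étale algebra -/
theorem exists_etale_of_factor {A B : Type u} [CommRing A] [CommRing B] [Algebra A B]
    (H : Obj.Factor A B) (x : B) :
    ∃ (E : Type u) (_ : CommRing E) (_ : Algebra A E) (_ : Algebra.Etale A E) (g : E →ₐ[A] B)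
      (e : E), g e = x := by
  let ψ : MvPolynomial (Fin 1) A →ₐ[A] B := MvPolynomial.aeval (fun _ => x)
  obtain ⟨E, _, _, _, f, g, hfg⟩ := H _ ψ
  refine ⟨E, inferInstance, inferInstance, inferInstance, g, f (MvPolynomial.X 0), ?_⟩
  have := congr($hfg (MvPolynomial.X 0))
  rw [AlgHom.comp_apply] at this
  rw [this]
  simp [ψ]

theorem isReduced_of_factor_field (H : Obj.Factor k F) : IsReduced F := by
  refine ⟨fun x hx => ?_⟩
  obtain ⟨n, hn⟩ := hx
  let I : Ideal (MvPolynomial (Fin 1) k) := Ideal.span {(MvPolynomial.X 0) ^ n}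
  haveI : Algebra.FinitePresentation k (MvPolynomial (Fin 1) k ⧸ I) :=
    Algebra.FinitePresentation.quotient (Submodule.fg_span (Set.finite_singleton _))
  have hker : ∀ a ∈ I, MvPolynomial.aeval (fun _ : Fin 1 => x) a = 0 := fun a ha => by
    obtain ⟨z, rfl⟩ := Ideal.mem_span_singleton'.mp ha
    rw [map_mul, map_pow, MvPolynomial.aeval_X, hn, mul_zero]
  let ψ : (MvPolynomial (Fin 1) k ⧸ I) →ₐ[k] F :=
    Ideal.Quotient.liftₐ I (MvPolynomial.aeval (fun _ => x)) hker
  have hx : ψ (Ideal.Quotient.mk I (MvPolynomial.X 0)) = x := by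
    show Ideal.Quotient.liftₐ I (MvPolynomial.aeval (fun _ => x)) hker (Ideal.Quotient.mk I _) = x
    rw [Ideal.Quotient.liftₐ_apply, Ideal.Quotient.lift_mk]
    exact MvPolynomial.aeval_X _ _
  have ht : (Ideal.Quotient.mk I (MvPolynomial.X 0)) ^ n = 0 := by
    rw [← map_pow]
    exact Ideal.Quotient.eq_zero_iff_mem.mpr (Ideal.subset_span rfl)
  clear_value ψ
  obtain ⟨E, _, _, _, f, g, hfg⟩ := H _ ψ
  haveI : IsReduced E := Algebra.FormallyUnramified.isReduced_of_field k E
  have h1 : f (Ideal.Quotient.mk I (MvPolynomial.X 0)) = 0 := by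
    apply IsReduced.eq_zero
    exact ⟨n, by rw [← map_pow, ht, map_zero]⟩
  have h2 := congr($hfg (Ideal.Quotient.mk I (MvPolynomial.X 0)))
  rw [AlgHom.comp_apply, h1, map_zero, hx] at h2
  exact h2.symm

theorem isIntegral_of_factor_field (H : Obj.Factor k F) : Algebra.IsIntegral k F := by
  refine ⟨fun x => ?_⟩
  obtain ⟨E, _, _, _, g, e, rfl⟩ := exists_etale_of_factor H x
  haveI : Module.Finite k E := Algebra.FormallyUnramified.finite_of_free k E
  exact (Algebra.IsIntegral.isIntegral (R := k) e).map g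

theorem isSeparable_of_etale {E : Type u} [CommRing E] [Algebra k E] [Algebra.Etale k E]
    {L : Type*} [Field L] [Algebra k L]
    (ψ : E →ₐ[k] L) (e : E) : IsSeparable k (ψ e) := by
  let P : Ideal E := RingHom.ker ψ
  haveI : P.IsPrime := RingHom.ker_isPrime ψ
  let ψ' : (E ⧸ P) →ₐ[k] L := Ideal.Quotient.liftₐ P ψ (fun a ha => ha)
  have hinj : Function.Injective ψ' := by
    rw [injective_iff_map_eq_zero]
    intro a ha
    obtain ⟨a, rfl⟩ := Ideal.Quotient.mk_surjective a
    exact Ideal.Quotient.eq_zero_iff_mem.mpr ha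
  have hsep : IsSeparable k (Ideal.Quotient.mk P e) := Algebra.IsSeparable.isSeparable k _
  have h3 : ψ' (Ideal.Quotient.mk P e) = ψ e := by
    show Ideal.Quotient.liftₐ P ψ _ (Ideal.Quotient.mk P e) = ψ e
    rw [Ideal.Quotient.liftₐ_apply, Ideal.Quotient.lift_mk]
    rfl
  have h4 := hsep.map ψ' hinj
  rw [h3] at h4
  exact h4

theorem isSeparable_of_factor_field (H : Obj.Factor k F) {L : Type*} [Field L] [Algebra k L]
    (φ : F →ₐ[k] L) (x : F) : IsSeparable k (φ x) := by
  obtain ⟨E, _, _, _, g, e, rfl⟩ := exists_etale_of_factor H x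
  exact isSeparable_of_etale (φ.comp g) e

end field

end Groth.Agent.Lib.Helper3.IndEt
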