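import Mathlib
import Groth.Agent.Lib.Helper3HzP
import Groth.Agent.Lib.Helper3ShTensor

set_option autoImplicit false
set_option linter.style.haveILetI false

namespace Groth.Agent.Lib.Helper3.ShBC

universe u
open IsLocalRing Groth.Agent.Lib.Helper3

set_option maxHeartbeats 1600000 in
-- `T`, a strict henselization of `B`, is also a strict henselization of any local ring `C`
-- between `B` and `T` generated (in the sense of ring epimorphisms) by `B` and a strict
-- henselization `T₀` of a local ring `A` below `B`
theorem isStrictHenselization_of_epi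
    (A B T₀ T C : Type u) [CommRing A] [IsLocalRing A] [CommRing B] [IsLocalRing B]
    [CommRing T₀] [IsLocalRing T₀] [CommRing T] [IsLocalRing T] [CommRing C] [IsLocalRing C]
    [Algebra A B] [IsLocalHom (algebraMap A B)]
    [Algebra A T₀] [IsLocalHom (algebraMap A T₀)] [hT₀ : Hensel.IsStrictHenselization A T₀]
    [Algebra B T] [IsLocalHom (algebraMap B T)] [hT : Hensel.IsStrictHenselization B T]
    [Algebra C T] [IsLocalHom (algebraMap C T)]
    (c₀ : T₀ →+* C) (c₁ : B →+* C)
    (h₁ : (algebraMap C T).comp c₁ = algebraMap B T)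
    (h₀ : c₀.comp (algebraMap A T₀) = c₁.comp (algebraMap A B))
    (hepi : ∀ (D : Type u) [CommRing D] (f f' : C →+* D),
      f.comp c₀ = f'.comp c₀ → f.comp c₁ = f'.comp c₁ → f = f') :
    Hensel.IsStrictHenselization C T := by
  haveI hTh : HenselianLocalRing T := hT.henselian
  haveI hc₁ : IsLocalHom c₁ := ⟨fun b hb => by
    have : IsUnit (algebraMap B T b) := by
      rw [← h₁]; exact hb.map (algebraMap C T)
    exact isUnit_of_map_unit (algebraMap B T) b this⟩
  obtain ⟨φ, hφdef⟩ : ∃ φ : T₀ →+* T, φ = (algebraMap C T).comp c₀ := ⟨_, rfl⟩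
  have hφA : φ.comp (algebraMap A T₀) = (algebraMap B T).comp (algebraMap A B) := by
    rw [hφdef, RingHom.comp_assoc, h₀, ← RingHom.comp_assoc, h₁]
  haveI hφ : IsLocalHom φ := by
    apply ((local_hom_TFAE φ).out 0 2 rfl rfl).mpr
    rw [← HzP.sh_map_maximalIdeal A T₀, Ideal.map_map, hφA]
    haveI : IsLocalHom ((algebraMap B T).comp (algebraMap A B)) := RingHom.isLocalHom_comp _ _
    exact ((local_hom_TFAE ((algebraMap B T).comp (algebraMap A B))).out 0 2 rfl rfl).mp
      inferInstance
  have hκ : ResidueField.map (algebraMap B T)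
      = (ResidueField.map (algebraMap C T)).comp (ResidueField.map c₁) := by
    ext x
    obtain ⟨b, rfl⟩ := residue_surjective x
    rw [RingHom.comp_apply, ResidueField.map_residue, ResidueField.map_residue,
      ResidueField.map_residue]
    exact congrArg (residue T) (RingHom.congr_fun h₁ b).symm
  refine ⟨hTh, ?_, ?_⟩
  · have h1 := hT.isSepClosure
    refine ⟨h1.sep_closed, ?_⟩
    letI : Algebra (ResidueField B) (ResidueField C) := (ResidueField.map c₁).toAlgebra
    haveI : IsScalarTower (ResidueField B) (ResidueField C) (ResidueField T) :=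
      IsScalarTower.of_algebraMap_eq (fun x => RingHom.congr_fun hκ x)
    haveI : Algebra.IsSeparable (ResidueField B) (ResidueField T) := h1.separable
    exact Algebra.isSeparable_tower_top_of_isSeparable (ResidueField B) (ResidueField C)
      (ResidueField T)
  · intro D _ _ f hf τ hτ
    haveI : IsLocalHom (f.comp c₁) := RingHom.isLocalHom_comp _ _
    have hτB : τ.comp (ResidueField.map (algebraMap B T)) = ResidueField.map (f.comp c₁) := by
      rw [hκ, ← RingHom.comp_assoc, hτ, ← ResidueField.map_comp]
    obtain ⟨g, ⟨hg1, hg2⟩, hguniq⟩ := hT.universal D (f.comp c₁) τ hτB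
    have hτpt : ∀ c : C, τ (residue T (algebraMap C T c)) = residue D (f c) := by
      intro c
      have := RingHom.congr_fun hτ (residue C c)
      rw [RingHom.comp_apply, ResidueField.map_residue, ResidueField.map_residue] at this
      exact this
    have key : g.comp (algebraMap C T) = f := by
      apply hepi D
      · obtain ⟨f₀, hf₀⟩ : ∃ f₀ : A →+* D, f₀ = (f.comp c₁).comp (algebraMap A B) := ⟨_, rfl⟩
        haveI : IsLocalHom f₀ := by rw [hf₀]; exact RingHom.isLocalHom_comp _ _
        obtain ⟨τ', hτ'def⟩ : ∃ τ' : ResidueField T₀ →+* ResidueField D,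
            τ' = τ.comp (ResidueField.map φ) := ⟨_, rfl⟩
        have hτ' : τ'.comp (ResidueField.map (algebraMap A T₀)) = ResidueField.map f₀ := by
          ext x
          obtain ⟨a, rfl⟩ := residue_surjective x
          rw [RingHom.comp_apply, ResidueField.map_residue, hτ'def, RingHom.comp_apply,
            ResidueField.map_residue, ResidueField.map_residue]
          have e1 : φ (algebraMap A T₀ a) = algebraMap C T (c₁ (algebraMap A B a)) := by
            have := RingHom.congr_fun hφA a
            rw [RingHom.comp_apply, RingHom.comp_apply] at this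
            rw [this, ← h₁, RingHom.comp_apply]
          rw [e1, hτpt, hf₀]
          rfl
        obtain ⟨g₀, -, hg₀uniq⟩ := hT₀.universal D f₀ τ' hτ'
        have hu : ((g.comp (algebraMap C T)).comp c₀) = g₀ := by
          apply hg₀uniq
          refine ⟨?_, fun x => ?_⟩
          · have e2 : (g.comp (algebraMap C T)).comp c₀ = g.comp φ := by
              rw [hφdef, RingHom.comp_assoc]
            rw [e2, RingHom.comp_assoc, hφA, ← RingHom.comp_assoc, hg1, hf₀]
          · rw [hτ'def]
            show residue D (g (algebraMap C T (c₀ x))) = τ (ResidueField.map φ (residue T₀ x))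
            rw [ResidueField.map_residue, ← hg2, hφdef]
            rfl
        have hv : (f.comp c₀) = g₀ := by
          apply hg₀uniq
          refine ⟨?_, fun x => ?_⟩
          · rw [RingHom.comp_assoc, h₀, ← RingHom.comp_assoc, hf₀]
          · rw [hτ'def]
            show residue D (f (c₀ x)) = τ (ResidueField.map φ (residue T₀ x))
            rw [ResidueField.map_residue, hφdef, RingHom.comp_apply, hτpt]
        rw [hu, hv]
      · rw [RingHom.comp_assoc, h₁, hg1]
    refine ⟨g, ⟨key, hg2⟩, ?_⟩
    rintro g' ⟨hg'1, hg'2⟩
    apply hguniq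
    refine ⟨?_, hg'2⟩
    rw [← h₁, ← RingHom.comp_assoc, hg'1]

section baseChange

open TensorProduct

-- ring homomorphisms out of a tensor product of algebras are determined by the two factors
theorem tensor_ringHom_ext {R X Y D : Type*} [CommRing R] [CommRing X] [CommRing Y] [CommRing D]
    [Algebra R X] [Algebra R Y] (u v : X ⊗[R] Y →+* D)
    (h1 : ∀ x : X, u (x ⊗ₜ 1) = v (x ⊗ₜ 1)) (h2 : ∀ y : Y, u (1 ⊗ₜ y) = v (1 ⊗ₜ y)) : u = v := by
  refine RingHom.ext fun z => ?_
  induction z with
  | zero => rw [map_zero, map_zero]
  | tmul x y =>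
    have : x ⊗ₜ[R] y = (x ⊗ₜ 1) * (1 ⊗ₜ y) := by
      rw [Algebra.TensorProduct.tmul_mul_tmul, mul_one, one_mul]
    rw [this, map_mul, map_mul, h1, h2]
  | add a b ha hb => rw [map_add, map_add, ha, hb]

set_option maxHeartbeats 1600000 in
-- the strict henselization of `S_q` is the strict henselization of a local ring of
-- `R_p^sh ⊗ S` at a prime over the closed point
theorem exists_sh_baseChange
    (R S : Type u) [CommRing R] [CommRing S] [Algebra R S] (q : Ideal S) [q.IsPrime]
    (p : Ideal R) [p.IsPrime] [q.LiesOver p]
    (T₀ : Type u) [CommRing T₀] [IsLocalRing T₀] [Algebra (Localization.AtPrime p) T₀]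
    [IsLocalHom (algebraMap (Localization.AtPrime p) T₀)]
    [Hensel.IsStrictHenselization (Localization.AtPrime p) T₀]
    (T : Type u) [CommRing T] [IsLocalRing T] [Algebra (Localization.AtPrime q) T]
    [IsLocalHom (algebraMap (Localization.AtPrime q) T)]
    [Hensel.IsStrictHenselization (Localization.AtPrime q) T]
    [Algebra R T₀] [IsScalarTower R (Localization.AtPrime p) T₀] :
    ∃ (q'' : Ideal (T₀ ⊗[R] S)) (_ : q''.IsPrime) (c : Localization.AtPrime q'' →+* T),
      (letI := c.toAlgebra
        ∃ _ : IsLocalHom (algebraMap (Localization.AtPrime q'') T),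
          Hensel.IsStrictHenselization (Localization.AtPrime q'') T) ∧
      (maximalIdeal T₀).map (algebraMap T₀ (T₀ ⊗[R] S)) ≤ q'' ∧
      (∀ s : S, c (algebraMap (T₀ ⊗[R] S) (Localization.AtPrime q'') (1 ⊗ₜ s)) =
        algebraMap (Localization.AtPrime q) T (algebraMap S (Localization.AtPrime q) s)) ∧
      (∀ r : R, c (algebraMap (T₀ ⊗[R] S) (Localization.AtPrime q'')
        ((algebraMap R T₀ r) ⊗ₜ 1)) =
        algebraMap (Localization.AtPrime q) T (algebraMap S (Localization.AtPrime q)
          (algebraMap R S r))) := by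
  letI := Localization.AtPrime.algebraOfLiesOver p q
  haveI : IsScalarTower R (Localization.AtPrime p) (Localization.AtPrime q) := inferInstance
  haveI hAB : IsLocalHom (algebraMap (Localization.AtPrime p) (Localization.AtPrime q)) :=
    Localization.isLocalHom_localRingHom p q (algebraMap R S) Ideal.LiesOver.over
  letI algAT : Algebra (Localization.AtPrime p) T :=
    ((algebraMap (Localization.AtPrime q) T).comp
      (algebraMap (Localization.AtPrime p) (Localization.AtPrime q))).toAlgebra
  haveI : IsScalarTower (Localization.AtPrime p) (Localization.AtPrime q) T :=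
    IsScalarTower.of_algebraMap_eq (fun _ => rfl)
  obtain ⟨g, hg⟩ := ShTensor.exists_map (A := Localization.AtPrime p)
    (B := Localization.AtPrime q) (S := T₀) (T := T)
  haveI := hg
  letI algRT : Algebra R T :=
    ((algebraMap (Localization.AtPrime q) T).comp
      (algebraMap R (Localization.AtPrime q))).toAlgebra
  haveI : IsScalarTower R (Localization.AtPrime q) T :=
    IsScalarTower.of_algebraMap_eq (fun _ => rfl)
  haveI : IsScalarTower R (Localization.AtPrime p) T := by
    refine IsScalarTower.of_algebraMap_eq (fun r => ?_)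
    show algebraMap (Localization.AtPrime q) T (algebraMap R (Localization.AtPrime q) r) =
      algebraMap (Localization.AtPrime q) T (algebraMap (Localization.AtPrime p)
        (Localization.AtPrime q) (algebraMap R (Localization.AtPrime p) r))
    rw [← IsScalarTower.algebraMap_apply R (Localization.AtPrime p) (Localization.AtPrime q)]
  let hR : S →ₐ[R] T := (IsScalarTower.toAlgHom R (Localization.AtPrime q) T).comp
    (IsScalarTower.toAlgHom R S (Localization.AtPrime q))
  let ψ : T₀ ⊗[R] S →ₐ[R] T :=
    Algebra.TensorProduct.lift (g.restrictScalars R) hR (fun _ _ => Commute.all _ _)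
  have hψl : ∀ t : T₀, ψ (t ⊗ₜ 1) = g t := fun t => by
    simp [ψ]
  have hψr : ∀ s : S, ψ (1 ⊗ₜ s) = algebraMap (Localization.AtPrime q) T
      (algebraMap S (Localization.AtPrime q) s) := fun s => by
    simp [ψ, hR]
  obtain ⟨q'', hq''⟩ : ∃ q'' : Ideal (T₀ ⊗[R] S),
      q'' = (maximalIdeal T).comap ψ.toRingHom := ⟨_, rfl⟩
  haveI hq''p : q''.IsPrime := by rw [hq'']; exact Ideal.comap_isPrime _ _
  have hmem : ∀ z : T₀ ⊗[R] S, z ∈ q'' ↔ ¬ IsUnit (ψ z) := fun z => by
    rw [hq'', Ideal.mem_comap, mem_maximalIdeal, mem_nonunits_iff]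
    rfl
  have hunit : ∀ y : q''.primeCompl, IsUnit (ψ.toRingHom y) := fun y => by
    by_contra h
    exact y.2 ((hmem _).mpr h)
  let c : Localization.AtPrime q'' →+* T := IsLocalization.lift (M := q''.primeCompl) hunit
  have hc : ∀ z : T₀ ⊗[R] S, c (algebraMap _ (Localization.AtPrime q'') z) = ψ z :=
    fun z => IsLocalization.lift_eq hunit z
  have hcloc : IsLocalHom c := by
    refine ⟨fun x hx => ?_⟩
    obtain ⟨a, s, rfl⟩ := IsLocalization.exists_mk'_eq q''.primeCompl x
    have h1 : c (IsLocalization.mk' (Localization.AtPrime q'') a s) *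
        c (algebraMap _ (Localization.AtPrime q'') (s : T₀ ⊗[R] S)) = ψ a := by
      rw [← map_mul, IsLocalization.mk'_spec, hc]
    have h2 : IsUnit (ψ a) := by
      rw [← h1]
      refine hx.mul ?_
      rw [hc]
      exact hunit s
    rw [IsLocalization.AtPrime.isUnit_mk'_iff (Localization.AtPrime q'') q'']
    intro ha
    exact ((hmem a).mp ha) h2
  have hcomap : q = q''.comap (Algebra.TensorProduct.includeRight :
      S →ₐ[R] T₀ ⊗[R] S).toRingHom := by
    ext s
    rw [Ideal.mem_comap]
    show _ ↔ (1 : T₀) ⊗ₜ[R] s ∈ q''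
    rw [hmem, hψr]
    constructor
    · intro hs hu
      have h1 := isUnit_of_map_unit (algebraMap (Localization.AtPrime q) T) _ hu
      rw [IsLocalization.AtPrime.isUnit_to_map_iff (Localization.AtPrime q) q] at h1
      exact h1 hs
    · intro hs
      by_contra hsq
      apply hs
      apply IsUnit.map
      rw [IsLocalization.AtPrime.isUnit_to_map_iff (Localization.AtPrime q) q]
      exact hsq
  refine ⟨q'', hq''p, c, ?_, ?_, ?_, ?_⟩
  · letI := c.toAlgebra
    haveI hcloc' : IsLocalHom (algebraMap (Localization.AtPrime q'') T) := hcloc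
    refine ⟨hcloc', ?_⟩
    let c₀ : T₀ →+* Localization.AtPrime q'' :=
      (algebraMap (T₀ ⊗[R] S) (Localization.AtPrime q'')).comp
        (Algebra.TensorProduct.includeLeftRingHom)
    let c₁ : Localization.AtPrime q →+* Localization.AtPrime q'' :=
      Localization.localRingHom q q'' (Algebra.TensorProduct.includeRight :
        S →ₐ[R] T₀ ⊗[R] S).toRingHom hcomap
    have hc₁ : ∀ s : S, c₁ (algebraMap S (Localization.AtPrime q) s) =
        algebraMap _ (Localization.AtPrime q'') ((1 : T₀) ⊗ₜ[R] s) := fun s =>
      Localization.localRingHom_to_map q q'' _ hcomap s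
    refine isStrictHenselization_of_epi (Localization.AtPrime p) (Localization.AtPrime q) T₀ T
      (Localization.AtPrime q'') c₀ c₁ ?_ ?_ ?_
    · apply IsLocalization.ringHom_ext q.primeCompl
      ext s
      show c (c₁ (algebraMap S (Localization.AtPrime q) s)) = _
      rw [hc₁, hc, hψr]
      rfl
    · apply IsLocalization.ringHom_ext p.primeCompl
      ext r
      show algebraMap (T₀ ⊗[R] S) (Localization.AtPrime q'')
          ((algebraMap (Localization.AtPrime p) T₀ (algebraMap R (Localization.AtPrime p) r)) ⊗ₜ 1)
        = c₁ (algebraMap (Localization.AtPrime p) (Localization.AtPrime q)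
          (algebraMap R (Localization.AtPrime p) r))
      rw [← IsScalarTower.algebraMap_apply R (Localization.AtPrime p) (Localization.AtPrime q),
        IsScalarTower.algebraMap_apply R S (Localization.AtPrime q), hc₁,
        ← IsScalarTower.algebraMap_apply R (Localization.AtPrime p) T₀]
      congr 1
      rw [Algebra.algebraMap_eq_smul_one, Algebra.algebraMap_eq_smul_one (A := S),
        TensorProduct.smul_tmul]
    · intro D _ f f' h0 h1
      apply IsLocalization.ringHom_ext q''.primeCompl
      apply tensor_ringHom_ext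
      · intro t
        exact RingHom.congr_fun h0 t
      · intro s
        have := RingHom.congr_fun h1 (algebraMap S (Localization.AtPrime q) s)
        rw [RingHom.comp_apply, RingHom.comp_apply, hc₁] at this
        exact this
  · rw [Ideal.map_le_iff_le_comap]
    intro t ht
    rw [Ideal.mem_comap]
    show t ⊗ₜ[R] (1 : S) ∈ q''
    rw [hmem, hψl]
    intro hu
    exact ((mem_maximalIdeal t).mp ht) (isUnit_of_map_unit g.toRingHom t hu)
  · intro s
    rw [hc, hψr]
  · intro r
    rw [hc, hψl]
    have : g (algebraMap R T₀ r) = algebraMap R T r := (g.restrictScalars R).commutes r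
    rw [this]
    show algebraMap (Localization.AtPrime q) T (algebraMap R (Localization.AtPrime q) r) = _
    rw [IsScalarTower.algebraMap_apply R S (Localization.AtPrime q)]

end baseChange

end Groth.Agent.Lib.Helper3.ShBC
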