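import Mathlib
import Groth.Agent.Lib.Helper3ShBC
import Groth.Agent.Lib.Helper3IndEtDesc
import Groth.Agent.Lib.Helper3IndEtHz
import Groth.Agent.Lib.Helper3IndEtComp
import Groth.Agent.Lib.Helper3IndEtField
import Groth.Agent.Lib.Helper3EtNbhdA
import Groth.Agent.Lib.Helper4Unibranch
import Groth.Agent.S0733

set_option autoImplicit false
set_option linter.style.haveILetI false

namespace Groth.Agent.Lib.Helper3.FldBC

universe u
open IsLocalRing TensorProduct Groth.Agent.Lib.Helper3 Groth.Agent.Lib.Helper3.IndEt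

-- geometric unibranchness of a localization only depends on the prime
theorem gu_congr {B : Type u} [CommRing B] {P₁ P₂ : Ideal B} [P₁.IsPrime] [P₂.IsPrime]
    (h : P₁ = P₂) (hgu : CAlg2.IsGeomUnibranch (Localization.AtPrime P₁)) :
    CAlg2.IsGeomUnibranch (Localization.AtPrime P₂) := by
  subst h
  exact hgu

-- the ring isomorphism of local rings induced by a ring isomorphism
noncomputable def locEquiv {X Y : Type u} [CommRing X] [CommRing Y] (e : X ≃+* Y)
    (Q : Ideal Y) [Q.IsPrime] (Q' : Ideal X) [Q'.IsPrime] (h : Q' = Q.comap (e : X →+* Y)) :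
    Localization.AtPrime Q' ≃+* Localization.AtPrime Q :=
  IsLocalization.ringEquivOfRingEquiv (M := Q'.primeCompl) (T := Q.primeCompl)
    (Localization.AtPrime Q') (Localization.AtPrime Q) e (by
      subst h
      ext y
      constructor
      · rintro ⟨x, hx, rfl⟩
        exact hx
      · intro hy
        refine ⟨e.symm y, ?_, e.apply_symm_apply y⟩
        show e.symm y ∉ Q.comap (e : X →+* Y)
        rw [Ideal.mem_comap]
        simpa using hy)

theorem gu_localization_of_ringEquiv {X Y : Type u} [CommRing X] [CommRing Y] (e : X ≃+* Y)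
    (Q : Ideal Y) [Q.IsPrime] (Q' : Ideal X) [Q'.IsPrime] (h : Q' = Q.comap (e : X →+* Y))
    (hgu : CAlg2.IsGeomUnibranch (Localization.AtPrime Q')) :
    CAlg2.IsGeomUnibranch (Localization.AtPrime Q) :=
  Groth.Agent.Lib.Helper4.Unibranch.isGeomUnibranch_of_ringEquiv (locEquiv e Q Q' h) hgu


-- `K/L` preserves geometric unibranchness of local rings under base change (`K` on the left)
def GUF (L K : Type u) [Field L] [Field K] [Algebra L K] : Prop :=
  ∀ (B : Type u) [CommRing B] [Algebra L B] (Q : Ideal (K ⊗[L] B)) [Q.IsPrime],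
    CAlg2.IsGeomUnibranch (Localization.AtPrime
      (Q.comap (Algebra.TensorProduct.includeRight : B →ₐ[L] K ⊗[L] B).toRingHom)) →
    CAlg2.IsGeomUnibranch (Localization.AtPrime Q)

-- the same with the base ring on the left
def GUFr (L K : Type u) [Field L] [Field K] [Algebra L K] : Prop :=
  ∀ (B : Type u) [CommRing B] [Algebra L B] (Q : Ideal (B ⊗[L] K)) [Q.IsPrime],
    CAlg2.IsGeomUnibranch (Localization.AtPrime (Q.comap (algebraMap B (B ⊗[L] K)))) →
    CAlg2.IsGeomUnibranch (Localization.AtPrime Q)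

theorem GUF_of_GUFr (L K : Type u) [Field L] [Field K] [Algebra L K] (h : GUFr L K) :
    GUF L K := by
  intro B _ _ Q _ hB
  let e : B ⊗[L] K ≃ₐ[L] K ⊗[L] B := Algebra.TensorProduct.comm L B K
  obtain ⟨Q', hQ'⟩ : ∃ Q' : Ideal (B ⊗[L] K), Q' = Q.comap (e.toRingEquiv : B ⊗[L] K →+* K ⊗[L] B) :=
    ⟨_, rfl⟩
  haveI : Q'.IsPrime := by rw [hQ']; exact Ideal.comap_isPrime _ _
  have hP : Q.comap (Algebra.TensorProduct.includeRight : B →ₐ[L] K ⊗[L] B).toRingHom
      = Q'.comap (algebraMap B (B ⊗[L] K)) := by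
    rw [hQ', Ideal.comap_comap]
    congr 1
  exact gu_localization_of_ringEquiv e.toRingEquiv Q Q' hQ' (h B Q' (gu_congr hP hB))

theorem GUFr_of_GUF (L K : Type u) [Field L] [Field K] [Algebra L K] (h : GUF L K) :
    GUFr L K := by
  intro B _ _ Q _ hB
  let e : K ⊗[L] B ≃ₐ[L] B ⊗[L] K := Algebra.TensorProduct.comm L K B
  obtain ⟨Q', hQ'⟩ : ∃ Q' : Ideal (K ⊗[L] B), Q' = Q.comap (e.toRingEquiv : K ⊗[L] B →+* B ⊗[L] K) :=
    ⟨_, rfl⟩
  haveI : Q'.IsPrime := by rw [hQ']; exact Ideal.comap_isPrime _ _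
  have hP : Q.comap (algebraMap B (B ⊗[L] K))
      = Q'.comap (Algebra.TensorProduct.includeRight : B →ₐ[L] K ⊗[L] B).toRingHom := by
    rw [hQ', Ideal.comap_comap]
    congr 1
  exact gu_localization_of_ringEquiv e.toRingEquiv Q Q' hQ' (h B Q' (gu_congr hP hB))

theorem GUF.trans (k L K : Type u) [Field k] [Field L] [Field K] [Algebra k L] [Algebra L K]
    [Algebra k K] [IsScalarTower k L K] (h1 : GUF k L) (h2 : GUF L K) : GUF k K := by
  intro B _ _ Q _ hB
  let e : K ⊗[L] (L ⊗[k] B) ≃ₐ[K] K ⊗[k] B := Algebra.TensorProduct.cancelBaseChange k L K K B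
  obtain ⟨Q', hQ'⟩ : ∃ Q' : Ideal (K ⊗[L] (L ⊗[k] B)),
      Q' = Q.comap (e.toRingEquiv : K ⊗[L] (L ⊗[k] B) →+* K ⊗[k] B) := ⟨_, rfl⟩
  haveI : Q'.IsPrime := by rw [hQ']; exact Ideal.comap_isPrime _ _
  have hP : Q.comap (Algebra.TensorProduct.includeRight : B →ₐ[k] K ⊗[k] B).toRingHom
      = (Q'.comap (Algebra.TensorProduct.includeRight :
          (L ⊗[k] B) →ₐ[L] K ⊗[L] (L ⊗[k] B)).toRingHom).comap
        (Algebra.TensorProduct.includeRight : B →ₐ[k] L ⊗[k] B).toRingHom := by
    rw [hQ', Ideal.comap_comap, Ideal.comap_comap]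
    congr 1
    ext b
    simp [e]
  have h3 := h1 B (Q'.comap (Algebra.TensorProduct.includeRight :
          (L ⊗[k] B) →ₐ[L] K ⊗[L] (L ⊗[k] B)).toRingHom) (gu_congr hP hB)
  exact gu_localization_of_ringEquiv e.toRingEquiv Q Q' hQ' (h2 (L ⊗[k] B) Q' h3)

theorem GUF_of_algEquiv (L K K' : Type u) [Field L] [Field K] [Field K'] [Algebra L K]
    [Algebra L K'] (f : K ≃ₐ[L] K') (h : GUF L K) : GUF L K' := by
  intro B _ _ Q _ hB
  let e : K ⊗[L] B ≃ₐ[L] K' ⊗[L] B := Algebra.TensorProduct.congr f AlgEquiv.refl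
  obtain ⟨Q', hQ'⟩ : ∃ Q' : Ideal (K ⊗[L] B),
      Q' = Q.comap (e.toRingEquiv : K ⊗[L] B →+* K' ⊗[L] B) := ⟨_, rfl⟩
  haveI : Q'.IsPrime := by rw [hQ']; exact Ideal.comap_isPrime _ _
  have hP : Q.comap (Algebra.TensorProduct.includeRight : B →ₐ[L] K' ⊗[L] B).toRingHom
      = Q'.comap (Algebra.TensorProduct.includeRight : B →ₐ[L] K ⊗[L] B).toRingHom := by
    rw [hQ', Ideal.comap_comap]
    congr 1
    ext b
    simp [e]
  exact gu_localization_of_ringEquiv e.toRingEquiv Q Q' hQ' (h B Q' (gu_congr hP hB))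


-- residue field extensions of local ind-etale maps are separable algebraic
theorem isSeparable_residueField_of_isIndEtale (B T : Type u) [CommRing B] [IsLocalRing B]
    [CommRing T] [IsLocalRing T] [Algebra B T] [IsLocalHom (algebraMap B T)]
    (h : EtPBC.IsIndEtale B T) : Algebra.IsSeparable (ResidueField B) (ResidueField T) := by
  have H := factor_of_isIndEtale h
  refine ⟨fun x => ?_⟩
  obtain ⟨t, rfl⟩ := residue_surjective x
  obtain ⟨E, _, _, _, g, e, rfl⟩ := exists_etale_of_factor H t
  haveI : Algebra.Etale (ResidueField B) (ResidueField B ⊗[B] E) := inferInstance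
  let r : T →ₐ[B] ResidueField T := IsScalarTower.toAlgHom B T (ResidueField T)
  let ψ : ResidueField B ⊗[B] E →ₐ[ResidueField B] ResidueField T :=
    Algebra.TensorProduct.lift (Algebra.ofId _ _) (r.comp g) (fun _ _ => Commute.all _ _)
  have h1 := isSeparable_of_etale ψ ((1 : ResidueField B) ⊗ₜ[B] e)
  have h2 : ψ ((1 : ResidueField B) ⊗ₜ[B] e) = residue T (g e) := by
    simp [ψ, r]
  rw [h2] at h1
  exact h1

-- a strictly henselian local ring which is local ind-etale over `B` is a strict henselization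
theorem isStrictHenselization_of_isIndEtale (B T : Type u) [CommRing B] [IsLocalRing B]
    [CommRing T] [HenselianLocalRing T] [IsSepClosed (ResidueField T)] [Algebra B T]
    [IsLocalHom (algebraMap B T)] (h : EtPBC.IsIndEtale B T) :
    Hensel.IsStrictHenselization B T := by
  refine ⟨inferInstance, ⟨inferInstance, isSeparable_residueField_of_isIndEtale B T h⟩, ?_⟩
  intro D _ _ f hf τ hτ
  letI : Algebra B D := f.toAlgebra
  letI : Algebra B (ResidueField D) := ((residue D).comp f).toAlgebra
  let uT : D →ₐ[B] ResidueField D := { residue D with commutes' := fun b => rfl }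
  have huS : ∀ b : B, (τ.comp (residue T)) (algebraMap B T b) = algebraMap B (ResidueField D) b := by
    intro b
    have := RingHom.congr_fun hτ (residue B b)
    rw [RingHom.comp_apply, ResidueField.map_residue, ResidueField.map_residue] at this
    exact this
  let uS : T →ₐ[B] ResidueField D := { τ.comp (residue T) with commutes' := huS }
  obtain ⟨g, hg, hguniq⟩ := existsUnique_algHom_of_isIndEtale h uT residue_surjective
    (ker_residue (R := D)) uS
  refine ⟨g.toRingHom, ⟨?_, ?_⟩, ?_⟩
  · ext b; exact g.commutes b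
  · intro x; exact congr($hg x)
  · rintro g' ⟨hg'1, hg'2⟩
    let g'' : T →ₐ[B] D := { g' with commutes' := fun b => congr($hg'1 b) }
    have := hguniq g'' (AlgHom.ext hg'2)
    rw [← this]

-- an ind-etale algebra over `B` which is an algebra over a localization of `B` is ind-etale over it
theorem isIndEtale_of_isLocalization (B : Type u) [CommRing B] (M : Submonoid B) (Bm : Type u)
    [CommRing Bm] [Algebra B Bm] [IsLocalization M Bm] (C : Type u) [CommRing C] [Algebra B C]
    [Algebra Bm C] [IsScalarTower B Bm C] (h : EtPBC.IsIndEtale B C) : EtPBC.IsIndEtale Bm C := by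
  have h1 : EtPBC.IsIndEtale Bm (Bm ⊗[B] C) := Groth.Agent.S0733.result B C Bm h
  let φ : Bm ⊗[B] C →ₐ[Bm] C :=
    Algebra.TensorProduct.lift (Algebra.ofId Bm C) (AlgHom.id B C) (fun _ _ => Commute.all _ _)
  haveI := isLocalizedModule_id M C Bm
  have hbc : IsBaseChange Bm (LinearMap.id : C →ₗ[B] C) := IsLocalizedModule.isBaseChange M Bm _
  have hφ : ∀ z, φ z = hbc.equiv z := by
    intro z
    induction z with
    | zero => simp
    | tmul s c =>
      rw [hbc.equiv_tmul]
      simp [φ, Algebra.smul_def]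
    | add a b ha hb => rw [map_add, map_add, ha, hb]
  have hbij : Function.Bijective φ := by
    have : (φ : Bm ⊗[B] C → C) = hbc.equiv := funext hφ
    rw [this]
    exact hbc.equiv.bijective
  exact isIndEtale_of_algEquiv h1 (AlgEquiv.ofBijective φ hbij)

-- the strict henselization of a local ind-etale algebra is a strict henselization of the base
theorem isStrictHenselization_of_isIndEtale_of_sh (B C T : Type u) [CommRing B] [IsLocalRing B]
    [CommRing C] [IsLocalRing C] [CommRing T] [IsLocalRing T] [Algebra B C]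
    [IsLocalHom (algebraMap B C)] [Algebra C T] [IsLocalHom (algebraMap C T)]
    [hT : Hensel.IsStrictHenselization C T] [Algebra B T] [IsScalarTower B C T]
    (h : EtPBC.IsIndEtale B C) :
    ∃ _ : IsLocalHom (algebraMap B T), Hensel.IsStrictHenselization B T := by
  haveI : HenselianLocalRing T := hT.henselian
  haveI : IsSepClosed (ResidueField T) := hT.isSepClosure.sep_closed
  haveI hloc : IsLocalHom (algebraMap B T) := by
    rw [IsScalarTower.algebraMap_eq B C T]
    exact RingHom.isLocalHom_comp _ _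
  have h2 : EtPBC.IsIndEtale B T :=
    isIndEtale_comp B C T h (isIndEtale_of_isStrictHenselization C T)
  exact ⟨hloc, isStrictHenselization_of_isIndEtale B T h2⟩

end Groth.Agent.Lib.Helper3.FldBC
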