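import Mathlib
import Groth.Agent.Lib.Helper13Olivier
import Groth.Agent.Lib.Helper3FldBCa
import Groth.Agent.Lib.Helper3Branch
import Groth.Agent.S1996
import Groth.Agent.S0736
import Groth.Agent.S7127

set_option autoImplicit false
set_option linter.style.haveILetI false
set_option linter.unusedSectionVars false
open TensorProduct Polynomial IsLocalRing

namespace Groth.Agent.Helper13ShWE

universe u

set_option maxHeartbeats 1000000 in
/-- If `A → B` is a weakly étale local homomorphism, a strict henselization of `B` is a strict
henselization of `A`. -/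
theorem isStrictHenselization_of_weaklyEtale (A B R : Type u) [CommRing A] [IsLocalRing A]
    [CommRing B] [IsLocalRing B] [CommRing R] [IsLocalRing R]
    [Algebra A B] [IsLocalHom (algebraMap A B)] [Algebra.WeaklyEtale A B]
    [Algebra B R] [IsLocalHom (algebraMap B R)] [hR : Hensel.IsStrictHenselization B R]
    [Algebra A R] [IsScalarTower A B R] [IsLocalHom (algebraMap A R)] :
    Hensel.IsStrictHenselization A R := by
  haveI hRh : HenselianLocalRing R := hR.henselian
  have hRsc := hR.isSepClosure
  haveI : IsSepClosed (ResidueField R) := hRsc.sep_closed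
  obtain ⟨S, _, _, _, _, hS⟩ := Groth.Agent.Lib.Helper3.Branch.exists_isStrictHenselization A
  haveI := hS
  haveI : HenselianLocalRing S := hS.henselian
  have hSsc := hS.isSepClosure
  haveI : IsSepClosed (ResidueField S) := hSsc.sep_closed
  haveI : Algebra.IsSeparable (ResidueField A) (ResidueField S) := hSsc.separable
  let τ₀ : ResidueField S →ₐ[ResidueField A] ResidueField R := IsSepClosed.lift
  have hτ : (τ₀ : ResidueField S →+* ResidueField R).comp (ResidueField.map (algebraMap A S)) =
      ResidueField.map (algebraMap A R) := by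
    ext x
    exact τ₀.commutes x
  obtain ⟨g, ⟨hg1, hg2⟩, -⟩ := hS.universal R (algebraMap A R) τ₀ hτ
  haveI : IsLocalHom g := by
    refine ⟨fun s hs => ?_⟩
    have h1 : residue R (g s) ≠ 0 := by
      intro h0
      rw [residue_eq_zero_iff] at h0
      exact ((mem_maximalIdeal _).mp h0) hs
    rw [hg2 s] at h1
    have h2 : residue S s ≠ 0 := fun h => h1 (by rw [h, map_zero])
    by_contra hns
    exact h2 ((residue_eq_zero_iff s).mpr ((mem_maximalIdeal s).mpr hns))
  letI : Algebra S R := g.toAlgebra
  haveI : IsLocalHom (algebraMap S R) := ‹IsLocalHom g›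
  haveI : IsScalarTower A S R :=
    IsScalarTower.of_algebraMap_eq (fun a => (RingHom.congr_fun hg1 a).symm)
  haveI : Algebra.WeaklyEtale A S := Groth.Agent.S0736.result A S
    (Groth.Agent.Lib.Helper3.IndEt.isIndEtale_of_isStrictHenselization A S)
  haveI : Algebra.WeaklyEtale B R := Groth.Agent.S0736.result B R
    (Groth.Agent.Lib.Helper3.IndEt.isIndEtale_of_isStrictHenselization B R)
  haveI : Algebra.WeaklyEtale A R := Algebra.WeaklyEtale.trans A B R
  haveI : Algebra.WeaklyEtale S R := Groth.Agent.S7127.result A S R
  have hbij := Groth.Agent.Helper13Olivier.olivier S R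
  let e : S ≃ₐ[A] R := AlgEquiv.ofBijective (IsScalarTower.toAlgHom A S R) hbij
  have hind : EtPBC.IsIndEtale A R := Groth.Agent.Lib.Helper3.IndEt.isIndEtale_of_algEquiv
    (Groth.Agent.Lib.Helper3.IndEt.isIndEtale_of_isStrictHenselization A S) e
  exact Groth.Agent.Lib.Helper3.FldBC.isStrictHenselization_of_isIndEtale A R hind

/-- Conversely, if some strict henselization of `B` is a strict henselization of `A`, then
`A → B` is weakly étale. -/
theorem weaklyEtale_of_isStrictHenselization (A B R : Type u) [CommRing A] [IsLocalRing A]
    [CommRing B] [IsLocalRing B] [CommRing R] [IsLocalRing R]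
    [Algebra A B]
    [Algebra B R] [IsLocalHom (algebraMap B R)] [hR : Hensel.IsStrictHenselization B R]
    [Algebra A R] [IsScalarTower A B R] [IsLocalHom (algebraMap A R)]
    [hR' : Hensel.IsStrictHenselization A R] :
    Algebra.WeaklyEtale A B := by
  haveI : Algebra.WeaklyEtale A R := Groth.Agent.S0736.result A R
    (Groth.Agent.Lib.Helper3.IndEt.isIndEtale_of_isStrictHenselization A R)
  haveI : Algebra.WeaklyEtale B R := Groth.Agent.S0736.result B R
    (Groth.Agent.Lib.Helper3.IndEt.isIndEtale_of_isStrictHenselization B R)
  haveI : Module.FaithfullyFlat B R := Module.FaithfullyFlat.of_flat_of_isLocalHom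
  exact Groth.Agent.S1996.result A B R

end Groth.Agent.Helper13ShWE
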