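import Mathlib.CategoryTheory.Sites.Over
import Mathlib.CategoryTheory.Sites.Canonical

/-!
# Extension of a presheaf on `Over X` to a presheaf on `C` (helper13)

`SigmaExt.sigmaExt G : T ↦ Σ (t : T ⟶ X), G (T, t)`; `isSheaf_over_of_sigmaExt` (if the extension
is a sheaf for `J` and `Hom(-, X)` is separated then `G` is a sheaf for `J.over X`) and
`isSheaf_sigmaExt` (the converse, when `Hom(-, X)` is a sheaf).
-/

set_option autoImplicit false
universe v₁ u₁ w
open CategoryTheory Limits Opposite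

namespace Groth.Agent.Helper13Adeq

namespace SigmaExt

variable {C : Type u₁} [Category.{v₁} C] {X : C} (G : (Over X)ᵒᵖ ⥤ Type w)

/-- restriction along a morphism of `Over X` given by its underlying morphism -/
def mapL {Y Z : Over X} (g : Y.left ⟶ Z.left) (hg : g ≫ Z.hom = Y.hom) (x : G.obj (op Z)) :
    G.obj (op Y) :=
  G.map (Over.homMk g hg).op x

theorem mapL_mapL {Y Z W : Over X} (g : Y.left ⟶ Z.left) (hg : g ≫ Z.hom = Y.hom)
    (g' : Z.left ⟶ W.left) (hg' : g' ≫ W.hom = Z.hom) (x : G.obj (op W)) :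
    mapL G g hg (mapL G g' hg' x) =
      mapL G (g ≫ g') (by rw [Category.assoc, hg', hg]) x := by
  unfold mapL
  rw [← Functor.map_comp_apply, ← op_comp]
  rfl

theorem mapL_id {Y : Over X} (x : G.obj (op Y)) :
    mapL G (𝟙 Y.left) (Category.id_comp _) x = x := by
  unfold mapL
  have : (Over.homMk (𝟙 Y.left) (Category.id_comp _) : Y ⟶ Y) = 𝟙 Y := by
    ext
    rfl
  rw [this, op_id, Functor.map_id_apply]

theorem map_eq_mapL {Y Z : Over X} (f : Y ⟶ Z) (x : G.obj (op Z)) :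
    G.map f.op x = mapL G f.left (Over.w f) x := by
  unfold mapL
  rfl

theorem mapL_congr {Y Z : Over X} {g g' : Y.left ⟶ Z.left} (h : g = g')
    (hg : g ≫ Z.hom = Y.hom) (x : G.obj (op Z)) :
    mapL G g hg x = mapL G g' (h ▸ hg) x := by
  subst h
  rfl

/-- elements of the extension over `T` -/
abbrev El (T : C) : Type (max v₁ w) := Σ t : T ⟶ X, G.obj (op (Over.mk t))

/-- transport along an equality of structure morphisms -/
def tr {T : C} {t t' : T ⟶ X} (h : t = t') (x : G.obj (op (Over.mk t))) :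
    G.obj (op (Over.mk t')) :=
  mapL G (Y := Over.mk t') (Z := Over.mk t) (𝟙 T) (by simp [h]) x

theorem tr_rfl {T : C} {t : T ⟶ X} (x : G.obj (op (Over.mk t))) : tr G rfl x = x :=
  mapL_id G x

theorem El.ext' {T : C} {p q : El G T} (h : p.1 = q.1) (h2 : tr G h p.2 = q.2) : p = q := by
  obtain ⟨t, x⟩ := p
  obtain ⟨t', y⟩ := q
  dsimp at h
  subst h
  rw [tr_rfl] at h2
  dsimp at h2
  rw [h2]

theorem El.snd_eq {T : C} {p q : El G T} (h : p = q) :
    tr G (congrArg Sigma.fst h) p.2 = q.2 := by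
  subst h
  exact tr_rfl G _

/-- restriction of elements -/
def res {T T' : C} (g : T' ⟶ T) (p : El G T) : El G T' :=
  ⟨g ≫ p.1, mapL G (Y := Over.mk (g ≫ p.1)) (Z := Over.mk p.1) g rfl p.2⟩

/-- the extension of a presheaf on `Over X` to a presheaf on `C`:
`T ↦ Σ (t : T ⟶ X), G (T, t)` -/
def sigmaExt : Cᵒᵖ ⥤ Type (max v₁ w) where
  obj T := El G T.unop
  map g := ↾fun p => res G g.unop p
  map_id T := by
    refine ConcreteCategory.hom_ext _ _ (fun p => ?_)
    change res G (𝟙 T.unop) p = p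
    refine El.ext' G (Category.id_comp _) ?_
    unfold tr res
    dsimp
    rw [mapL_mapL]
    exact (mapL_congr G (Category.id_comp _) _ _).trans (mapL_id G _)
  map_comp g g' := by
    refine ConcreteCategory.hom_ext _ _ (fun p => ?_)
    change res G (g'.unop ≫ g.unop) p = res G g'.unop (res G g.unop p)
    refine El.ext' G (Category.assoc _ _ _) ?_
    unfold tr res
    dsimp
    rw [mapL_mapL, mapL_mapL]
    exact mapL_congr G (Category.id_comp _) _ _

theorem sigmaExt_map_apply {T T' : C} (g : T' ⟶ T) (p : El G T) :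
    (sigmaExt G).map g.op p = res G g p := rfl

theorem fam_mapL {Y : Over X} {R : Sieve Y} (x : Presieve.FamilyOfElements G R.arrows)
    (hx : x.SieveCompatible) {Z₁ Z₂ : Over X} (a : Z₁ ⟶ Y) (ha : R a) (b : Z₂ ⟶ Y) (hb : R b)
    (c : Z₂.left ⟶ Z₁.left) (hw : c ≫ Z₁.hom = Z₂.hom) (hc : c ≫ a.left = b.left) :
    mapL G c hw (x a ha) = x b hb := by
  have hcomp : Over.homMk c hw ≫ a = b := by
    ext
    exact hc
  subst hcomp
  exact (hx a _ ha).symm

variable (J : GrothendieckTopology C)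

theorem isSheaf_over_of_sigmaExt (hS : Presieve.IsSheaf J (sigmaExt G))
    (hX : Presieve.IsSeparated J (yoneda.obj X)) : Presieve.IsSheaf (J.over X) G := by
  intro Y R hR
  rw [GrothendieckTopology.mem_over_iff] at hR
  intro x hx
  have hxs := (Presieve.compatible_iff_sieveCompatible x).1 hx
  have hmem : ∀ {Z : C} (g : Z ⟶ Y.left), (Sieve.overEquiv Y R) g →
      R (Over.homMk g rfl : Over.mk (g ≫ Y.hom) ⟶ Y) := fun g hg => (Sieve.overEquiv_iff _ _).1 hg
  let x₀ : Presieve.FamilyOfElements (sigmaExt G) (Sieve.overEquiv Y R).arrows := fun Z g hg =>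
    ⟨g ≫ Y.hom, x (Over.homMk g rfl : Over.mk (g ≫ Y.hom) ⟶ Y) (hmem g hg)⟩
  have hx₀ : x₀.Compatible := by
    intro Z₁ Z₂ W g₁ g₂ f₁ f₂ h₁ h₂ hcomm
    rw [sigmaExt_map_apply, sigmaExt_map_apply]
    have h1 : g₁ ≫ f₁ ≫ Y.hom = g₂ ≫ f₂ ≫ Y.hom := by rw [reassoc_of% hcomm]
    refine El.ext' G h1 ?_
    have hb : R ((Over.homMk g₂ rfl : Over.mk (g₂ ≫ f₂ ≫ Y.hom) ⟶ Over.mk (f₂ ≫ Y.hom)) ≫
        (Over.homMk f₂ rfl : Over.mk (f₂ ≫ Y.hom) ⟶ Y)) :=
      R.downward_closed (hmem f₂ h₂) _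
    unfold tr res
    dsimp only [x₀]
    rw [mapL_mapL]
    refine (fam_mapL G x hxs _ (hmem f₁ h₁) _ hb _ _ ?_).trans
      (fam_mapL G x hxs _ (hmem f₂ h₂) _ hb _ _ ?_).symm
    · change (𝟙 _ ≫ g₁) ≫ f₁ = g₂ ≫ f₂
      rw [Category.id_comp, hcomm]
    · rfl
  obtain ⟨p, hp, hpu⟩ := hS _ hR x₀ hx₀
  have ht : p.1 = Y.hom := by
    refine (hX _ hR).ext (fun Z g hg => ?_)
    exact congrArg Sigma.fst (hp g hg)
  refine ⟨mapL G (Y := Y) (Z := Over.mk p.1) (𝟙 _) (by simp [ht]) p.2, ?_, ?_⟩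
  · intro Z f hf
    rw [map_eq_mapL, mapL_mapL]
    have hf' : (Sieve.overEquiv Y R) f.left := by
      have : (Sieve.overEquiv Y).symm (Sieve.overEquiv Y R) f := by
        rw [OrderIso.symm_apply_apply]; exact hf
      exact (Sieve.overEquiv_symm_iff _ _).1 this
    have hp' : res G f.left p = x₀ f.left hf' := hp f.left hf'
    have h2 := El.snd_eq G hp'
    unfold tr res at h2
    dsimp only [x₀] at h2
    rw [mapL_mapL] at h2
    -- h2 : mapL (𝟙 ≫ f.left) p.2 = x (homMk f.left)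
    have h3 := fam_mapL G x hxs _ (hmem f.left hf') f hf (𝟙 _)
      (by simp [Over.w f]) (by simp)
    rw [← h2, mapL_mapL] at h3
    refine Eq.trans ?_ h3
    exact mapL_congr G (by simp) _ _
  · intro y hy
    have hq : x₀.IsAmalgamation (⟨Y.hom, y⟩ : El G Y.left) := by
      intro Z g hg
      rw [sigmaExt_map_apply]
      have := hy (Over.homMk g rfl : Over.mk (g ≫ Y.hom) ⟶ Y) (hmem g hg)
      rw [map_eq_mapL] at this
      exact congrArg (fun z => (⟨g ≫ Y.hom, z⟩ : El G Z)) this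
    have hpq := hpu _ hq
    subst hpq
    exact (mapL_id G y).symm

theorem isSheaf_sigmaExt (hG : Presieve.IsSheaf (J.over X) G)
    (hX : Presieve.IsSheaf J (yoneda.obj X)) : Presieve.IsSheaf J (sigmaExt G) := by
  intro T R₀ hR₀ x₀ hx₀
  let t₀ : Presieve.FamilyOfElements (yoneda.obj X) R₀.arrows := fun Z g hg => (x₀ g hg).1
  have ht₀ : t₀.Compatible := by
    intro Z₁ Z₂ W g₁ g₂ f₁ f₂ h₁ h₂ hcomm
    exact congrArg Sigma.fst (hx₀ g₁ g₂ h₁ h₂ hcomm)
  obtain ⟨t, ht, htu⟩ := hX _ hR₀ t₀ ht₀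
  have ht' : ∀ {Z : C} (g : Z ⟶ T) (hg : R₀ g), g ≫ t = (x₀ g hg).1 := fun g hg => ht g hg
  let Y : Over X := Over.mk t
  have hR : (Sieve.overEquiv Y).symm R₀ ∈ J.over X Y :=
    GrothendieckTopology.overEquiv_symm_mem_over J Y R₀ hR₀
  have hRiff : ∀ {Z : Over X} (f : Z ⟶ Y), ((Sieve.overEquiv Y).symm R₀) f → R₀ f.left :=
    fun f hf => (Sieve.overEquiv_symm_iff _ _).1 hf
  let x : Presieve.FamilyOfElements G ((Sieve.overEquiv Y).symm R₀).arrows := fun Z f hf =>
    mapL G (Y := Z) (Z := Over.mk (x₀ f.left (hRiff f hf)).1) (𝟙 _)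
      (by
        have h1 : f.left ≫ t = Z.hom := Over.w f
        change 𝟙 _ ≫ (x₀ f.left (hRiff f hf)).1 = Z.hom
        rw [Category.id_comp, ← ht' f.left (hRiff f hf), h1])
      (x₀ f.left (hRiff f hf)).2
  have hx : x.Compatible := by
    intro Z₁ Z₂ W g₁ g₂ f₁ f₂ h₁ h₂ hcomm
    have hc : g₁.left ≫ f₁.left = g₂.left ≫ f₂.left := by
      have := congrArg (fun k => k.left) hcomm
      exact this
    have h0 : res G g₁.left (x₀ f₁.left (hRiff f₁ h₁)) = res G g₂.left (x₀ f₂.left (hRiff f₂ h₂)) :=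
      hx₀ g₁.left g₂.left (hRiff f₁ h₁) (hRiff f₂ h₂) hc
    have h2 := El.snd_eq G h0
    unfold tr res at h2
    dsimp only at h2
    rw [mapL_mapL] at h2
    have hw : 𝟙 W.left ≫ (g₂.left ≫ (x₀ f₂.left (hRiff f₂ h₂)).1) = W.hom := by
      rw [Category.id_comp, ← ht' f₂.left (hRiff f₂ h₂), ← Category.assoc]
      have h1 : (g₂ ≫ f₂).left ≫ t = W.hom := Over.w (g₂ ≫ f₂)
      exact h1
    have h3 := congrArg (mapL G (Y := W)
      (Z := Over.mk (g₂.left ≫ (x₀ f₂.left (hRiff f₂ h₂)).1)) (𝟙 W.left) hw) h2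
    rw [mapL_mapL, mapL_mapL] at h3
    rw [map_eq_mapL, map_eq_mapL]
    dsimp only [x]
    rw [mapL_mapL, mapL_mapL]
    refine Eq.trans ?_ (h3.trans ?_)
    · exact mapL_congr G (by simp) _ _
    · exact mapL_congr G (by simp) _ _
  obtain ⟨y, hy, hyu⟩ := hG _ hR x hx
  refine ⟨(⟨t, y⟩ : El G T), ?_, ?_⟩
  · intro Z g hg
    rw [sigmaExt_map_apply]
    refine El.ext' G (ht' g hg) ?_
    have hmem : ((Sieve.overEquiv Y).symm R₀) (Over.homMk g rfl : Over.mk (g ≫ t) ⟶ Y) :=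
      (Sieve.overEquiv_symm_iff _ _).2 hg
    have h1 := hy (Over.homMk g rfl : Over.mk (g ≫ t) ⟶ Y) hmem
    rw [map_eq_mapL] at h1
    unfold tr res
    dsimp only
    have h1' : mapL G (Y := Over.mk (g ≫ t)) (Z := Y) g rfl y =
        x (Over.homMk g rfl : Over.mk (g ≫ t) ⟶ Y) hmem := h1
    rw [h1']
    dsimp only [x]
    rw [mapL_mapL]
    exact (mapL_congr G (Category.id_comp _) _ _).trans (mapL_id G _)
  · intro q hq
    have hq' : ∀ {Z : C} (g : Z ⟶ T) (hg : R₀ g), res G g q = x₀ g hg := fun g hg => hq g hg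
    have hq1 : q.1 = t := htu q.1 (fun Z g hg => congrArg Sigma.fst (hq' g hg))
    have hy' : x.IsAmalgamation (tr G hq1 q.2) := by
      intro Z f hf
      have h2 := El.snd_eq G (hq' f.left (hRiff f hf))
      unfold tr res at h2
      dsimp only at h2
      rw [mapL_mapL] at h2
      rw [map_eq_mapL]
      unfold tr
      rw [mapL_mapL]
      dsimp only [x]
      rw [← h2, mapL_mapL]
      refine mapL_congr G ?_ _ _
      show f.left ≫ 𝟙 T = 𝟙 _ ≫ 𝟙 _ ≫ f.left
      rw [Category.id_comp, Category.id_comp]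
      exact Category.comp_id f.left
    have := hyu _ hy'
    exact El.ext' G hq1 this

end SigmaExt



end Groth.Agent.Helper13Adeq
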