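import Mathlib

set_option autoImplicit false
set_option linter.style.haveILetI false
universe u

open TensorProduct

namespace Groth.Agent.Helper13SplitInt

/-- the residue field extension `κ(p₁) → κ(p₃)` is surjective, in elementary form. -/
def ResSurj {R₁ R₃ : Type*} [CommRing R₁] [CommRing R₃] [Algebra R₁ R₃] (p₁ : Ideal R₁)
    (p₃ : Ideal R₃) : Prop :=
  ∀ r : R₃, ∃ b : R₁, b ∉ p₁ ∧ ∃ a : R₁, b • r - algebraMap R₁ R₃ a ∈ p₃

section Uniq

variable {R₁ R₃ B₁ B : Type*} [CommRing R₁] [CommRing R₃] [CommRing B₁] [CommRing B]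
  [Algebra R₁ R₃] [Algebra R₁ B₁] [Algebra R₃ B] [Algebra R₁ B] [IsScalarTower R₁ R₃ B]

theorem exists_smul_sub_mem (ψ : B₁ →ₐ[R₁] B)
    (hspan : Submodule.span R₃ (Set.range ψ) = ⊤)
    (p₁ : Ideal R₁) [p₁.IsPrime] (p₃ : Ideal R₃) (hres : ResSurj p₁ p₃) (x : B) :
    ∃ b : R₁, b ∉ p₁ ∧ ∃ s : B₁, b • x - ψ s ∈ p₃.map (algebraMap R₃ B) := by
  have hx : x ∈ Submodule.span R₃ (Set.range ψ) := by rw [hspan]; trivial
  induction hx using Submodule.span_induction with
  | mem x hx =>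
    obtain ⟨s, rfl⟩ := hx
    exact ⟨1, fun h => ‹p₁.IsPrime›.ne_top ((Ideal.eq_top_iff_one _).mpr h), s, by simp⟩
  | zero =>
    exact ⟨1, fun h => ‹p₁.IsPrime›.ne_top ((Ideal.eq_top_iff_one _).mpr h), 0, by simp⟩
  | add x y _ _ hx hy =>
    obtain ⟨b, hb, s, hs⟩ := hx
    obtain ⟨b', hb', s', hs'⟩ := hy
    refine ⟨b * b', ‹p₁.IsPrime›.mul_notMem hb hb', b' • s + b • s', ?_⟩
    have : (b * b') • (x + y) - ψ (b' • s + b • s') =
        b' • (b • x - ψ s) + b • (b' • y - ψ s') := by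
      simp only [map_add, map_smul, smul_add, smul_sub, mul_smul]
      rw [smul_comm b' b x]
      abel
    rw [this]
    refine Ideal.add_mem _ ?_ ?_
    · rw [← algebraMap_smul B b']
      exact Ideal.mul_mem_left _ _ hs
    · rw [← algebraMap_smul B b]
      exact Ideal.mul_mem_left _ _ hs'
  | smul r x _ hx =>
    obtain ⟨b, hb, s, hs⟩ := hx
    obtain ⟨c, hc, a, ha⟩ := hres r
    refine ⟨c * b, ‹p₁.IsPrime›.mul_notMem hc hb, a • s, ?_⟩
    have : (c * b) • (r • x) - ψ (a • s) =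
        (c • r - algebraMap R₁ R₃ a) • (b • x) + a • (b • x - ψ s) := by
      simp only [map_smul, sub_smul, smul_sub, mul_smul, algebraMap_smul]
      rw [smul_comm b r x, smul_assoc]
      abel
    rw [this]
    refine Ideal.add_mem _ ?_ ?_
    · rw [← algebraMap_smul B (c • r - algebraMap R₁ R₃ a), smul_eq_mul]
      exact Ideal.mul_mem_right _ _ (Ideal.mem_map_of_mem _ ha)
    · rw [← algebraMap_smul B a]
      exact Ideal.mul_mem_left _ _ hs

/-- two primes over `p₃` with the same contraction along `ψ` are equal. -/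
theorem eq_of_comap_eq (ψ : B₁ →ₐ[R₁] B)
    (hspan : Submodule.span R₃ (Set.range ψ) = ⊤)
    (p₁ : Ideal R₁) [p₁.IsPrime] (p₃ : Ideal R₃) (hp : p₃.comap (algebraMap R₁ R₃) = p₁)
    (hres : ResSurj p₁ p₃)
    (w w' : Ideal B) [w.IsPrime] [w'.IsPrime] (hw : w.comap (algebraMap R₃ B) = p₃)
    (hw' : w'.comap (algebraMap R₃ B) = p₃)
    (h : w.comap ψ.toRingHom = w'.comap ψ.toRingHom) : w = w' := by
  have key : ∀ (v : Ideal B) [v.IsPrime], v.comap (algebraMap R₃ B) = p₃ →
      ∀ (x : B) (b : R₁), b ∉ p₁ → ∀ s : B₁, b • x - ψ s ∈ p₃.map (algebraMap R₃ B) →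
      (x ∈ v ↔ s ∈ v.comap ψ.toRingHom) := by
    intro v _ hv x b hb s hs
    have hle : p₃.map (algebraMap R₃ B) ≤ v := by
      rw [Ideal.map_le_iff_le_comap, hv]
    have hbv : algebraMap R₁ B b ∉ v := by
      intro hmem
      apply hb
      rw [← hp, ← hv]
      change algebraMap R₃ B (algebraMap R₁ R₃ b) ∈ v
      rwa [← IsScalarTower.algebraMap_apply]
    have h1 : x ∈ v ↔ b • x ∈ v := by
      rw [← algebraMap_smul B b x, smul_eq_mul]
      constructor
      · intro hx; exact Ideal.mul_mem_left _ _ hx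
      · intro hx
        exact (‹v.IsPrime›.mem_or_mem hx).resolve_left hbv
    have h2 : b • x ∈ v ↔ ψ s ∈ v := by
      constructor
      · intro hx
        have := Ideal.sub_mem _ hx (hle hs)
        simpa using this
      · intro hx
        have := Ideal.add_mem _ (hle hs) hx
        simpa using this
    rw [h1, h2]
    rfl
  ext x
  obtain ⟨b, hb, s, hs⟩ := exists_smul_sub_mem ψ hspan p₁ p₃ hres x
  rw [key w hw x b hb s hs, key w' hw' x b hb s hs, h]

end Uniq

end Groth.Agent.Helper13SplitInt
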