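import Mathlib

set_option autoImplicit false
set_option linter.style.haveILetI false
universe u

open TensorProduct

namespace Groth.Agent.Helper13SplitInt

/-- primes of a tensor product over a compatible pair of primes exist. -/
theorem exists_prime_tensor {R R₃ S : Type u} [CommRing R] [CommRing R₃] [CommRing S]
    [Algebra R R₃] [Algebra R S] (p₃ : Ideal R₃) [p₃.IsPrime] (q : Ideal S) [q.IsPrime]
    (h : p₃.comap (algebraMap R R₃) = q.comap (algebraMap R S)) :
    ∃ w : Ideal (R₃ ⊗[R] S), w.IsPrime ∧ w.comap (algebraMap R₃ (R₃ ⊗[R] S)) = p₃ ∧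
      w.comap (Algebra.TensorProduct.includeRight : S →ₐ[R] R₃ ⊗[R] S).toRingHom = q := by
  obtain ⟨p, hp₃, hq⟩ : ∃ p : Ideal R, p = p₃.comap (algebraMap R R₃) ∧
      p = q.comap (algebraMap R S) := ⟨_, rfl, h⟩
  haveI : p.IsPrime := hp₃ ▸ Ideal.comap_isPrime _ _
  letI a₃ : Algebra p.ResidueField p₃.ResidueField :=
    (Ideal.ResidueField.map p p₃ (algebraMap R R₃) hp₃).toAlgebra
  letI aq : Algebra p.ResidueField q.ResidueField :=
    (Ideal.ResidueField.map p q (algebraMap R S) hq).toAlgebra
  let K := p₃.ResidueField ⊗[p.ResidueField] q.ResidueField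
  have hinj : Function.Injective
      (Algebra.TensorProduct.includeLeft : p₃.ResidueField →ₐ[p.ResidueField] K) :=
    Algebra.TensorProduct.includeLeft_injective (algebraMap p.ResidueField q.ResidueField).injective
  haveI : Nontrivial K := by
    refine ⟨⟨1, 0, fun h10 => ?_⟩⟩
    have : (Algebra.TensorProduct.includeLeft : p₃.ResidueField →ₐ[p.ResidueField] K) 1 =
        (Algebra.TensorProduct.includeLeft : p₃.ResidueField →ₐ[p.ResidueField] K) 0 := by
      rw [map_one, map_zero]; exact h10
    exact one_ne_zero (hinj this)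
  obtain ⟨m, hm⟩ := Ideal.exists_maximal K
  letI : Field (K ⧸ m) := Ideal.Quotient.field m
  let α : R₃ →+* (K ⧸ m) := (Ideal.Quotient.mk m).comp
    ((Algebra.TensorProduct.includeLeft : p₃.ResidueField →ₐ[p.ResidueField] K).toRingHom.comp
      (algebraMap R₃ p₃.ResidueField))
  let β : S →+* (K ⧸ m) := (Ideal.Quotient.mk m).comp
    ((Algebra.TensorProduct.includeRight : q.ResidueField →ₐ[p.ResidueField] K).toRingHom.comp
      (algebraMap S q.ResidueField))
  have hαβ : ∀ r : R, α (algebraMap R R₃ r) = β (algebraMap R S r) := by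
    intro r
    simp only [α, β, RingHom.comp_apply]
    congr 1
    have h1 : algebraMap R₃ p₃.ResidueField (algebraMap R R₃ r) =
        algebraMap p.ResidueField p₃.ResidueField (algebraMap R p.ResidueField r) := by
      rw [RingHom.algebraMap_toAlgebra, Ideal.ResidueField.map_algebraMap]
    have h2 : algebraMap S q.ResidueField (algebraMap R S r) =
        algebraMap p.ResidueField q.ResidueField (algebraMap R p.ResidueField r) := by
      rw [RingHom.algebraMap_toAlgebra, Ideal.ResidueField.map_algebraMap]
    rw [h1, h2]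
    simp only [AlgHom.toRingHom_eq_coe, RingHom.coe_coe, AlgHom.commutes]
  letI : Algebra R (K ⧸ m) := (α.comp (algebraMap R R₃)).toAlgebra
  let f : R₃ →ₐ[R] (K ⧸ m) := { α with commutes' := fun r => rfl }
  let g : S →ₐ[R] (K ⧸ m) := { β with commutes' := fun r => (hαβ r).symm }
  let φ : R₃ ⊗[R] S →ₐ[R] (K ⧸ m) := Algebra.TensorProduct.productMap f g
  refine ⟨RingHom.ker φ.toRingHom, RingHom.ker_isPrime _, ?_, ?_⟩
  · ext x
    rw [Ideal.mem_comap, RingHom.mem_ker]
    have : φ.toRingHom (algebraMap R₃ (R₃ ⊗[R] S) x) = α x := by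
      change φ (x ⊗ₜ 1) = α x
      simp [φ, f]
    rw [this]
    have hinj' : Function.Injective ((Ideal.Quotient.mk m).comp
        (Algebra.TensorProduct.includeLeft : p₃.ResidueField →ₐ[p.ResidueField] K).toRingHom) :=
      RingHom.injective _
    change (Ideal.Quotient.mk m).comp
        (Algebra.TensorProduct.includeLeft : p₃.ResidueField →ₐ[p.ResidueField] K).toRingHom
        (algebraMap R₃ p₃.ResidueField x) = 0 ↔ _
    rw [map_eq_zero_iff _ hinj', Ideal.algebraMap_residueField_eq_zero]
  · ext x
    rw [Ideal.mem_comap, RingHom.mem_ker]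
    have : φ.toRingHom ((Algebra.TensorProduct.includeRight : S →ₐ[R] R₃ ⊗[R] S).toRingHom x) =
        β x := by
      change φ (1 ⊗ₜ x) = β x
      simp [φ, g]
    rw [this]
    have hinj' : Function.Injective ((Ideal.Quotient.mk m).comp
        (Algebra.TensorProduct.includeRight : q.ResidueField →ₐ[p.ResidueField] K).toRingHom) :=
      RingHom.injective _
    change (Ideal.Quotient.mk m).comp
        (Algebra.TensorProduct.includeRight : q.ResidueField →ₐ[p.ResidueField] K).toRingHom
        (algebraMap S q.ResidueField x) = 0 ↔ _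
    rw [map_eq_zero_iff _ hinj', Ideal.algebraMap_residueField_eq_zero]

end Groth.Agent.Helper13SplitInt
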