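import Mathlib

set_option autoImplicit false
set_option linter.style.haveILetI false
universe u

open TensorProduct

namespace Groth.Agent.Helper13SplitInt

/-- primes over the same prime in an integral extension are incomparable. -/
theorem eq_of_le_of_comap_eq {R₁ B₁ : Type*} [CommRing R₁] [CommRing B₁] [Algebra R₁ B₁]
    [Algebra.IsIntegral R₁ B₁] (w w' : Ideal B₁) [w.IsPrime] (hle : w ≤ w')
    (h : w.comap (algebraMap R₁ B₁) = w'.comap (algebraMap R₁ B₁)) : w = w' := by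
  by_contra hne
  have hlt : w < w' := lt_of_le_of_ne hle hne
  obtain ⟨x, hx', hx⟩ := Set.exists_of_ssubset hlt
  have := Ideal.comap_lt_comap_of_integral_mem_sdiff hle ⟨hx', hx⟩
    (Algebra.IsIntegral.isIntegral (R := R₁) x)
  rw [h] at this
  exact lt_irrefl _ this

/-- a finite subalgebra separating the (finitely many) primes over `p₁`. -/
theorem exists_finite_subalgebra_separating {R₁ B₁ : Type*} [CommRing R₁] [CommRing B₁]
    [Algebra R₁ B₁] [Algebra.IsIntegral R₁ B₁] (p₁ : Ideal R₁)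
    (hfin : {w : PrimeSpectrum B₁ | w.asIdeal.comap (algebraMap R₁ B₁) = p₁}.Finite) :
    ∃ S₀ : Subalgebra R₁ B₁, Module.Finite R₁ S₀ ∧
      ∀ (w w' : Ideal B₁) [w.IsPrime] [w'.IsPrime], w.comap (algebraMap R₁ B₁) = p₁ →
        w'.comap (algebraMap R₁ B₁) = p₁ →
        w.comap S₀.val.toRingHom = w'.comap S₀.val.toRingHom → w = w' := by
  classical
  let F := hfin.toFinset
  let a : PrimeSpectrum B₁ → PrimeSpectrum B₁ → B₁ := fun w w' =>
    if h : ∃ x, x ∈ w.asIdeal ∧ x ∉ w'.asIdeal then h.choose else 0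
  let T : Finset B₁ := Finset.image₂ a F F
  refine ⟨Algebra.adjoin R₁ (T : Set B₁), Algebra.finite_adjoin_of_finite_of_isIntegral
    T.finite_toSet (fun x _ => Algebra.IsIntegral.isIntegral x), ?_⟩
  intro w w' _ _ hw hw' h
  by_contra hne
  have hnle : ¬ w ≤ w' := fun hle => hne (eq_of_le_of_comap_eq (R₁ := R₁) w w' hle (hw.trans hw'.symm))
  obtain ⟨x, hxw, hxw'⟩ := SetLike.not_le_iff_exists.mp hnle
  have hex : ∃ x, x ∈ (⟨w, inferInstance⟩ : PrimeSpectrum B₁).asIdeal ∧
      x ∉ (⟨w', inferInstance⟩ : PrimeSpectrum B₁).asIdeal := ⟨x, hxw, hxw'⟩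
  have ha : a ⟨w, inferInstance⟩ ⟨w', inferInstance⟩ = hex.choose := dif_pos hex
  have haT : a ⟨w, inferInstance⟩ ⟨w', inferInstance⟩ ∈ Algebra.adjoin R₁ (T : Set B₁) := by
    apply Algebra.subset_adjoin
    rw [Finset.mem_coe]
    exact Finset.mem_image₂_of_mem (hfin.mem_toFinset.mpr hw) (hfin.mem_toFinset.mpr hw')
  have h1 : (⟨_, haT⟩ : Algebra.adjoin R₁ (T : Set B₁)) ∈
      w.comap (Algebra.adjoin R₁ (T : Set B₁)).val.toRingHom := by
    rw [Ideal.mem_comap]
    change a ⟨w, inferInstance⟩ ⟨w', inferInstance⟩ ∈ w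
    rw [ha]
    exact hex.choose_spec.1
  rw [h, Ideal.mem_comap] at h1
  change a ⟨w, inferInstance⟩ ⟨w', inferInstance⟩ ∈ w' at h1
  rw [ha] at h1
  exact hex.choose_spec.2 h1

/-- an idempotent contained in all primes over `P` of an integral algebra is killed by an element
outside `P`. -/
theorem exists_notMem_smul_eq_zero {R₂ C : Type*} [CommRing R₂] [CommRing C] [Algebra R₂ C]
    [Algebra.IsIntegral R₂ C] (P : Ideal R₂) [P.IsPrime] (ε : C) (hε : IsIdempotentElem ε)
    (h : ∀ w : Ideal C, w.IsPrime → w.comap (algebraMap R₂ C) = P → ε ∈ w) :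
    ∃ f : R₂, f ∉ P ∧ f • ε = 0 := by
  by_contra hno
  push_neg at hno
  have hIP : (Ideal.span {1 - ε}).comap (algebraMap R₂ C) ≤ P := by
    intro f hf
    by_contra hfP
    apply hno f hfP
    rw [Ideal.mem_comap, Ideal.mem_span_singleton'] at hf
    obtain ⟨c, hc⟩ := hf
    rw [Algebra.smul_def, ← hc, mul_assoc, sub_mul, one_mul, hε.eq, sub_self, mul_zero]
  obtain ⟨Q, hQ, hQp, hQP⟩ := Ideal.exists_ideal_over_prime_of_isIntegral P _ hIP
  have h1 : 1 - ε ∈ Q := hQ (Ideal.subset_span rfl)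
  have h2 : ε ∈ Q := h Q hQp hQP
  apply hQp.ne_top
  rw [Ideal.eq_top_iff_one]
  have := Ideal.add_mem _ h1 h2
  simpa using this

end Groth.Agent.Helper13SplitInt
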