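import Mathlib
import Groth.Agent.Lib.Helper13SplitIntB

set_option autoImplicit false
set_option linter.style.haveILetI false
universe u

open TensorProduct

namespace Groth.Agent.Helper13SplitInt

theorem span_range_includeRight (R A B : Type*) [CommRing R] [CommRing A] [CommRing B]
    [Algebra R A] [Algebra R B] :
    Submodule.span A (Set.range (Algebra.TensorProduct.includeRight : B →ₐ[R] A ⊗[R] B)) = ⊤ := by
  rw [eq_top_iff]
  rintro x -
  induction x using TensorProduct.induction_on with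
  | zero => exact Submodule.zero_mem _
  | tmul a b =>
    have : a ⊗ₜ[R] b = a • ((Algebra.TensorProduct.includeRight : B →ₐ[R] A ⊗[R] B) b) := by
      simp [TensorProduct.smul_tmul']
    rw [this]
    exact Submodule.smul_mem _ _ (Submodule.subset_span ⟨b, rfl⟩)
  | add x y hx hy => exact Submodule.add_mem _ hx hy

theorem resSurj_of_surjective {R₁ R₂ : Type*} [CommRing R₁] [CommRing R₂] [Algebra R₁ R₂]
    (p₁ : Ideal R₁) [p₁.IsPrime] (P : Ideal R₂) [P.IsPrime] (hP : p₁ = P.comap (algebraMap R₁ R₂))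
    (h : Function.Surjective (Ideal.ResidueField.map p₁ P (algebraMap R₁ R₂) hP)) :
    ResSurj p₁ P := by
  intro r
  obtain ⟨x, hx⟩ := h (algebraMap R₂ P.ResidueField r)
  obtain ⟨a', b', hb', hab⟩ := IsFractionRing.div_surjective (A := R₁ ⧸ p₁) x
  obtain ⟨a, rfl⟩ := Ideal.Quotient.mk_surjective a'
  obtain ⟨b, rfl⟩ := Ideal.Quotient.mk_surjective b'
  have hb : b ∉ p₁ := by
    intro hb
    have : (Ideal.Quotient.mk p₁ b) = 0 := Ideal.Quotient.eq_zero_iff_mem.mpr hb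
    rw [this] at hb'
    exact zero_notMem_nonZeroDivisors hb'
  refine ⟨b, hb, a, ?_⟩
  rw [Ideal.algebraMap_quotient_residueField_mk, Ideal.algebraMap_quotient_residueField_mk] at hab
  have hb0 : algebraMap R₁ p₁.ResidueField b ≠ 0 := by
    rw [Ne, Ideal.algebraMap_residueField_eq_zero]; exact hb
  have h1 : x * algebraMap R₁ p₁.ResidueField b = algebraMap R₁ p₁.ResidueField a := by
    rw [← hab, div_mul_cancel₀ _ hb0]
  have h2 := congrArg (Ideal.ResidueField.map p₁ P (algebraMap R₁ R₂) hP) h1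
  rw [map_mul, hx, Ideal.ResidueField.map_algebraMap, Ideal.ResidueField.map_algebraMap,
    ← map_mul, ← sub_eq_zero, ← map_sub, Ideal.algebraMap_residueField_eq_zero] at h2
  rw [Algebra.smul_def, mul_comm]
  exact h2

theorem resSurj_trans {R₁ R₂ R₃ : Type*} [CommRing R₁] [CommRing R₂] [CommRing R₃]
    [Algebra R₁ R₂] [Algebra R₂ R₃] [Algebra R₁ R₃] [IsScalarTower R₁ R₂ R₃]
    (p₁ : Ideal R₁) [p₁.IsPrime] (P : Ideal R₂) [P.IsPrime] (p₃ : Ideal R₃) [p₃.IsPrime]
    (hP : P.comap (algebraMap R₁ R₂) = p₁) (h₃ : p₃.comap (algebraMap R₂ R₃) = P)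
    (h12 : ResSurj p₁ P) (h23 : ResSurj P p₃) : ResSurj p₁ p₃ := by
  intro r
  obtain ⟨b₂, hb₂, a₂, h2⟩ := h23 r
  obtain ⟨c, hc, d, hd⟩ := h12 b₂
  obtain ⟨c', hc', d', hd'⟩ := h12 a₂
  have hPle : ∀ x ∈ P, algebraMap R₂ R₃ x ∈ p₃ := fun x hx => by
    rw [← h₃] at hx; exact hx
  have hdP : algebraMap R₁ R₂ d ∉ P := by
    intro hmem
    have h1 : c • b₂ ∈ P := by
      have := Ideal.add_mem _ hd hmem
      simpa using this
    rw [Algebra.smul_def] at h1
    rcases ‹P.IsPrime›.mem_or_mem h1 with h | h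
    · exact hc (hP ▸ h)
    · exact hb₂ h
  have hd1 : d ∉ p₁ := fun h => hdP (by rw [← hP] at h; exact h)
  refine ⟨c' * d, ‹p₁.IsPrime›.mul_notMem hc' hd1, c * d', ?_⟩
  -- work in `R₃`
  have e1 : algebraMap R₂ R₃ (c • b₂ - algebraMap R₁ R₂ d) ∈ p₃ := hPle _ hd
  have e2 : algebraMap R₂ R₃ (c' • a₂ - algebraMap R₁ R₂ d') ∈ p₃ := hPle _ hd'
  have key : (c' * d) • r - algebraMap R₁ R₃ (c * d') =
      algebraMap R₁ R₃ (c * c') * (b₂ • r - algebraMap R₂ R₃ a₂)
      - algebraMap R₁ R₃ c' * r * algebraMap R₂ R₃ (c • b₂ - algebraMap R₁ R₂ d)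
      + algebraMap R₁ R₃ c * algebraMap R₂ R₃ (c' • a₂ - algebraMap R₁ R₂ d') := by
    simp only [Algebra.smul_def, map_sub, map_mul, ← IsScalarTower.algebraMap_apply]
    ring
  rw [key]
  refine Ideal.add_mem _ (Ideal.sub_mem _ ?_ ?_) ?_
  · exact Ideal.mul_mem_left _ _ h2
  · exact Ideal.mul_mem_left _ _ e1
  · exact Ideal.mul_mem_left _ _ e2

theorem resSurj_away {R₂ : Type*} [CommRing R₂] (f : R₂) (P : Ideal R₂) [P.IsPrime] (hf : f ∉ P) :
    ResSurj P (P.map (algebraMap R₂ (Localization.Away f))) := by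
  intro r
  obtain ⟨⟨r₂, ⟨_, n, rfl⟩⟩, hr⟩ := IsLocalization.surj (Submonoid.powers f) r
  refine ⟨f ^ n, fun h => hf (‹P.IsPrime›.mem_of_pow_mem n h), r₂, ?_⟩
  have : (f ^ n) • r - algebraMap R₂ (Localization.Away f) r₂ = 0 := by
    rw [Algebra.smul_def, mul_comm, sub_eq_zero]
    exact hr
  rw [this]
  exact Ideal.zero_mem _

end Groth.Agent.Helper13SplitInt
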