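import Mathlib
import Groth.Agent.Lib.Helper13SplitIntC
import Groth.Agent.Lib.Helper13SplitIntD
import Groth.Agent.Lib.Helper13SplitIntE

set_option autoImplicit false
set_option linter.style.haveILetI false
universe u

open TensorProduct

namespace Groth.Agent.Helper13SplitInt

section Core

variable {R₁ B₁ R₂ R₃ : Type u} [CommRing R₁] [CommRing B₁] [Algebra R₁ B₁]
  [Algebra.IsIntegral R₁ B₁] [CommRing R₂] [Algebra R₁ R₂] [CommRing R₃] [Algebra R₂ R₃]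
  [Algebra R₁ R₃] [IsScalarTower R₁ R₂ R₃]

/-- the comparison map `R₂ ⊗ S₀ → R₃ ⊗ B₁`. -/
noncomputable abbrev theta (S₀ : Subalgebra R₁ B₁) : R₂ ⊗[R₁] S₀ →ₐ[R₂] R₃ ⊗[R₁] B₁ :=
  Algebra.TensorProduct.map (Algebra.ofId R₂ R₃) S₀.val

theorem comap_theta_algebraMap (S₀ : Subalgebra R₁ B₁) (w : Ideal (R₃ ⊗[R₁] B₁)) :
    (w.comap (theta (R₂ := R₂) (R₃ := R₃) S₀).toRingHom).comap
      (algebraMap R₂ (R₂ ⊗[R₁] S₀)) =
    (w.comap (algebraMap R₃ (R₃ ⊗[R₁] B₁))).comap (algebraMap R₂ R₃) := by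
  ext x
  simp only [Ideal.mem_comap]
  have : (theta (R₂ := R₂) (R₃ := R₃) S₀).toRingHom (algebraMap R₂ (R₂ ⊗[R₁] S₀) x) =
      algebraMap R₃ (R₃ ⊗[R₁] B₁) (algebraMap R₂ R₃ x) := by
    simp [theta, Algebra.TensorProduct.algebraMap_apply, Algebra.ofId_apply]
  rw [this]

theorem comap_theta_includeRight (S₀ : Subalgebra R₁ B₁) (w : Ideal (R₃ ⊗[R₁] B₁)) :
    (w.comap (theta (R₂ := R₂) (R₃ := R₃) S₀).toRingHom).comap
      (Algebra.TensorProduct.includeRight : S₀ →ₐ[R₁] R₂ ⊗[R₁] S₀).toRingHom =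
    (w.comap (Algebra.TensorProduct.includeRight : B₁ →ₐ[R₁] R₃ ⊗[R₁] B₁).toRingHom).comap
      S₀.val.toRingHom := by
  ext x
  simp only [Ideal.mem_comap]
  have : (theta (R₂ := R₂) (R₃ := R₃) S₀).toRingHom
      ((Algebra.TensorProduct.includeRight : S₀ →ₐ[R₁] R₂ ⊗[R₁] S₀).toRingHom x) =
      (Algebra.TensorProduct.includeRight : B₁ →ₐ[R₁] R₃ ⊗[R₁] B₁).toRingHom
        (S₀.val.toRingHom x) := by
    simp [theta]
  rw [this]

theorem comap_includeRight_algebraMap {A B : Type*} [CommRing A] [CommRing B] [Algebra R₁ A]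
    [Algebra R₁ B] (w : Ideal (A ⊗[R₁] B)) :
    (w.comap (Algebra.TensorProduct.includeRight : B →ₐ[R₁] A ⊗[R₁] B).toRingHom).comap
      (algebraMap R₁ B) =
    (w.comap (algebraMap A (A ⊗[R₁] B))).comap (algebraMap R₁ A) := by
  ext x
  simp only [Ideal.mem_comap]
  have : (Algebra.TensorProduct.includeRight : B →ₐ[R₁] A ⊗[R₁] B).toRingHom (algebraMap R₁ B x) =
      algebraMap A (A ⊗[R₁] B) (algebraMap R₁ A x) := by
    change (1 : A) ⊗ₜ[R₁] (algebraMap R₁ B x) = (algebraMap R₁ A x) ⊗ₜ[R₁] (1 : B)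
    rw [Algebra.algebraMap_eq_smul_one, Algebra.algebraMap_eq_smul_one, TensorProduct.smul_tmul]
  rw [this]


theorem exists_unique_prime_core (p₁ : Ideal R₁) [p₁.IsPrime] (S₀ : Subalgebra R₁ B₁)
    (hsep : ∀ (w w' : Ideal B₁) [w.IsPrime] [w'.IsPrime], w.comap (algebraMap R₁ B₁) = p₁ →
        w'.comap (algebraMap R₁ B₁) = p₁ →
        w.comap S₀.val.toRingHom = w'.comap S₀.val.toRingHom → w = w')
    (P : Ideal R₂) [P.IsPrime] (hP : P.comap (algebraMap R₁ R₂) = p₁) (hres₂ : ResSurj p₁ P)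
    (p₃ : Ideal R₃) [p₃.IsPrime] (hp₃ : p₃.comap (algebraMap R₂ R₃) = P) (hres₃ : ResSurj P p₃)
    (e₀ : R₂ ⊗[R₁] S₀) (P' : Ideal (R₂ ⊗[R₁] S₀)) [P'.IsPrime]
    (hP'over : P'.comap (algebraMap R₂ (R₂ ⊗[R₁] S₀)) = P) (hP'e : e₀ ∉ P')
    (H : ∀ P'' : Ideal (R₂ ⊗[R₁] S₀), P''.IsPrime → P''.comap (algebraMap R₂ _) = P →
      e₀ ∉ P'' → P'' = P') :
    ∃ w : Ideal (R₃ ⊗[R₁] B₁), w.IsPrime ∧ w.comap (algebraMap R₃ _) = p₃ ∧
      theta (R₂ := R₂) (R₃ := R₃) S₀ e₀ ∉ w ∧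
      ∀ w' : Ideal (R₃ ⊗[R₁] B₁), w'.IsPrime → w'.comap (algebraMap R₃ _) = p₃ →
        theta (R₂ := R₂) (R₃ := R₃) S₀ e₀ ∉ w' → w' = w := by
  have hp₃₁ : p₃.comap (algebraMap R₁ R₃) = p₁ := by
    rw [IsScalarTower.algebraMap_eq R₁ R₂ R₃, ← Ideal.comap_comap, hp₃, hP]
  have hres₁₃ : ResSurj p₁ p₃ := resSurj_trans (R₂ := R₂) p₁ P p₃ hP hp₃ hres₂ hres₃
  -- the prime `v₀` of `S₀` below `P'`
  let v₀ : Ideal S₀ := P'.comap (Algebra.TensorProduct.includeRight : S₀ →ₐ[R₁] R₂ ⊗[R₁] S₀).toRingHom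
  haveI hv₀ : v₀.IsPrime := Ideal.comap_isPrime _ _
  have hv₀p : v₀.comap (algebraMap R₁ S₀) = p₁ := by
    rw [comap_includeRight_algebraMap, hP'over, hP]
  -- a prime `v` of `B₁` over `v₀`
  haveI : Algebra.IsIntegral S₀ B₁ := Algebra.IsIntegral.tower_top (R := R₁)
  obtain ⟨v, -, hvprime, hv⟩ := Ideal.exists_ideal_over_prime_of_isIntegral v₀ (⊥ : Ideal B₁) (by
    intro x hx
    rw [Ideal.mem_comap, Ideal.mem_bot] at hx
    have : x = 0 := Subtype.ext hx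
    rw [this]; exact Ideal.zero_mem _)
  have hvp : v.comap (algebraMap R₁ B₁) = p₁ := by
    rw [IsScalarTower.algebraMap_eq R₁ S₀ B₁, ← Ideal.comap_comap, hv, hv₀p]
  -- a prime of `R₃ ⊗ B₁` over `(p₃, v)`
  obtain ⟨w, hwprime, hw₃, hwv⟩ := exists_prime_tensor (R := R₁) p₃ v (hp₃₁.trans hvp.symm)
  have hspan₂ : Submodule.span R₂ (Set.range
      (Algebra.TensorProduct.includeRight : S₀ →ₐ[R₁] R₂ ⊗[R₁] S₀)) = ⊤ :=
    span_range_includeRight R₁ R₂ S₀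
  have hspan₃ : Submodule.span R₃ (Set.range
      (Algebra.TensorProduct.includeRight : B₁ →ₐ[R₁] R₃ ⊗[R₁] B₁)) = ⊤ :=
    span_range_includeRight R₁ R₃ B₁
  -- contraction of `w` to `R₂ ⊗ S₀` equals `P'`
  have hc : ∀ (w' : Ideal (R₃ ⊗[R₁] B₁)) [w'.IsPrime], w'.comap (algebraMap R₃ _) = p₃ →
      (w'.comap (Algebra.TensorProduct.includeRight : B₁ →ₐ[R₁] R₃ ⊗[R₁] B₁).toRingHom).comap
        S₀.val.toRingHom = v₀ →
      w'.comap (theta (R₂ := R₂) (R₃ := R₃) S₀).toRingHom = P' := by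
    intro w' _ hw' hw'v
    haveI : (w'.comap (theta (R₂ := R₂) (R₃ := R₃) S₀).toRingHom).IsPrime :=
      Ideal.comap_isPrime _ _
    refine eq_of_comap_eq (Algebra.TensorProduct.includeRight : S₀ →ₐ[R₁] R₂ ⊗[R₁] S₀) hspan₂
      p₁ P hP hres₂ _ _ ?_ hP'over ?_
    · rw [comap_theta_algebraMap, hw', hp₃]
    · rw [comap_theta_includeRight, hw'v]
  have hwc : w.comap (theta (R₂ := R₂) (R₃ := R₃) S₀).toRingHom = P' := by
    refine hc w hw₃ ?_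
    rw [hwv]
    exact hv
  refine ⟨w, hwprime, hw₃, ?_, ?_⟩
  · intro hmem
    apply hP'e
    rw [← hwc]
    exact hmem
  · intro w' hw'prime hw'₃ hw'e
    haveI := hw'prime
    haveI : (w'.comap (theta (R₂ := R₂) (R₃ := R₃) S₀).toRingHom).IsPrime :=
      Ideal.comap_isPrime _ _
    have hc' : w'.comap (theta (R₂ := R₂) (R₃ := R₃) S₀).toRingHom = P' := by
      refine H _ inferInstance ?_ ?_
      · rw [comap_theta_algebraMap, hw'₃, hp₃]
      · exact hw'e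
    -- contractions to `B₁` agree
    have hB : w'.comap (Algebra.TensorProduct.includeRight : B₁ →ₐ[R₁] R₃ ⊗[R₁] B₁).toRingHom =
        w.comap (Algebra.TensorProduct.includeRight : B₁ →ₐ[R₁] R₃ ⊗[R₁] B₁).toRingHom := by
      haveI : (w'.comap (Algebra.TensorProduct.includeRight :
          B₁ →ₐ[R₁] R₃ ⊗[R₁] B₁).toRingHom).IsPrime := Ideal.comap_isPrime _ _
      haveI : (w.comap (Algebra.TensorProduct.includeRight :
          B₁ →ₐ[R₁] R₃ ⊗[R₁] B₁).toRingHom).IsPrime := Ideal.comap_isPrime _ _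
      refine hsep _ _ ?_ ?_ ?_
      · rw [comap_includeRight_algebraMap, hw'₃, hp₃₁]
      · rw [comap_includeRight_algebraMap, hw₃, hp₃₁]
      · rw [← comap_theta_includeRight (R₂ := R₂) S₀ w', ← comap_theta_includeRight (R₂ := R₂) S₀ w,
          hc', hwc]
    exact eq_of_comap_eq (Algebra.TensorProduct.includeRight : B₁ →ₐ[R₁] R₃ ⊗[R₁] B₁) hspan₃
      p₁ p₃ hp₃₁ hres₁₃ w' w hw'₃ hw₃ hB

end Core

end Groth.Agent.Helper13SplitInt
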