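import Mathlib
import Groth.Agent.Lib.Helper13SplitIntF

set_option autoImplicit false
set_option linter.style.haveILetI false
universe u

open TensorProduct

namespace Groth.Agent.Helper13SplitInt

/-- **splitting step**: for an integral algebra with finitely many primes over `p₁`, after an étale
base change preserving the residue field, the base change decomposes into pieces each having
exactly one prime over the chosen point. -/
theorem exists_etale_split_integral {R₁ B₁ : Type u} [CommRing R₁] [CommRing B₁] [Algebra R₁ B₁]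
    [Algebra.IsIntegral R₁ B₁] (p₁ : Ideal R₁) [p₁.IsPrime]
    (hfin : {w : PrimeSpectrum B₁ | w.asIdeal.comap (algebraMap R₁ B₁) = p₁}.Finite) :
    ∃ (R₃ : Type u) (_ : CommRing R₃) (_ : Algebra R₁ R₃) (_ : Algebra.Etale R₁ R₃)
      (p₃ : Ideal R₃) (_ : p₃.IsPrime),
      p₃.comap (algebraMap R₁ R₃) = p₁ ∧ ResSurj p₁ p₃ ∧
      ∃ (n : ℕ) (ε : Fin n → R₃ ⊗[R₁] B₁), CompleteOrthogonalIdempotents ε ∧
        ∀ i, ∃ w : Ideal (R₃ ⊗[R₁] B₁), w.IsPrime ∧ w.comap (algebraMap R₃ _) = p₃ ∧ ε i ∉ w ∧
          ∀ w' : Ideal (R₃ ⊗[R₁] B₁), w'.IsPrime → w'.comap (algebraMap R₃ _) = p₃ →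
            ε i ∉ w' → w' = w := by
  obtain ⟨S₀, hS₀fin, hsep⟩ := exists_finite_subalgebra_separating p₁ hfin
  haveI := hS₀fin
  obtain ⟨R₂, _, _, _, P, _, _, n, e, he, P', _, _, hbij, hP'e, H⟩ :=
    Algebra.exists_etale_completeOrthogonalIdempotents_forall_liesOver_eq (R := R₁) (S := S₀) p₁
  have hP : P.comap (algebraMap R₁ R₂) = p₁ := (P.over_def p₁).symm
  have hres₂ : ResSurj p₁ P := by
    refine resSurj_of_surjective p₁ P (P.over_def p₁) ?_
    intro y
    obtain ⟨x, hx⟩ := hbij.2 y
    exact ⟨x, hx⟩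
  -- the last idempotent is contained in all primes over `P`
  have h4a : ∀ w : Ideal (R₂ ⊗[R₁] B₁), w.IsPrime → w.comap (algebraMap R₂ _) = P →
      theta (R₂ := R₂) (R₃ := R₂) S₀ (e (Fin.last n)) ∈ w := by
    intro w hw hwP
    haveI := hw
    haveI : (w.comap (theta (R₂ := R₂) (R₃ := R₂) S₀).toRingHom).IsPrime :=
      Ideal.comap_isPrime _ _
    have hover : (w.comap (theta (R₂ := R₂) (R₃ := R₂) S₀).toRingHom).LiesOver P := by
      refine ⟨?_⟩
      change P = (w.comap (theta (R₂ := R₂) (R₃ := R₂) S₀).toRingHom).comap (algebraMap R₂ _)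
      rw [comap_theta_algebraMap, hwP]
      ext x; simp
    exact (H _ inferInstance hover).1
  haveI : Algebra.IsIntegral R₂ (R₂ ⊗[R₁] B₁) := inferInstance
  obtain ⟨f, hfP, hf⟩ := exists_notMem_smul_eq_zero P
    (theta (R₂ := R₂) (R₃ := R₂) S₀ (e (Fin.last n))) ((he.idem _).map _) h4a
  have hdisj : Disjoint (Submonoid.powers f : Set R₂) P :=
    (Ideal.disjoint_powers_iff_notMem_of_isPrime _).mpr hfP
  haveI hp₃prime : (P.map (algebraMap R₂ (Localization.Away f))).IsPrime :=
    IsLocalization.isPrime_of_isPrime_disjoint (.powers f) _ _ ‹_› hdisj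
  have hp₃ : (P.map (algebraMap R₂ (Localization.Away f))).comap
      (algebraMap R₂ (Localization.Away f)) = P :=
    IsLocalization.under_map_of_isPrime_disjoint (.powers f) _ ‹_› hdisj
  have hres₃ := resSurj_away f P hfP
  haveI : Algebra.Etale R₁ (Localization.Away f) := Algebra.Etale.comp R₁ R₂ (Localization.Away f)
  -- the last idempotent vanishes after localization
  have hlast : theta (R₂ := R₂) (R₃ := Localization.Away f) S₀ (e (Fin.last n)) = 0 := by
    let lam : R₂ ⊗[R₁] B₁ →ₐ[R₂] Localization.Away f ⊗[R₁] B₁ :=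
      Algebra.TensorProduct.map (Algebra.ofId R₂ (Localization.Away f)) (AlgHom.id R₁ B₁)
    have hcomp : ∀ x, lam (theta (R₂ := R₂) (R₃ := R₂) S₀ x) =
        theta (R₂ := R₂) (R₃ := Localization.Away f) S₀ x := by
      intro x
      induction x using TensorProduct.induction_on with
      | zero => simp
      | tmul a b => simp [lam, theta]
      | add x y hx hy => rw [map_add, map_add, map_add, hx, hy]
    have h1 : f • theta (R₂ := R₂) (R₃ := Localization.Away f) S₀ (e (Fin.last n)) = 0 := by
      rw [← hcomp, ← map_smul, hf, map_zero]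
    have hu : IsUnit (algebraMap R₂ (Localization.Away f) f) :=
      IsLocalization.Away.algebraMap_isUnit f
    rw [← algebraMap_smul (Localization.Away f) f] at h1
    exact (hu.smul_eq_zero).mp h1
  refine ⟨Localization.Away f, inferInstance, inferInstance, inferInstance,
    P.map (algebraMap R₂ (Localization.Away f)), hp₃prime, ?_, ?_, n,
    fun i => theta (R₂ := R₂) (R₃ := Localization.Away f) S₀ (e i.castSucc), ?_, ?_⟩
  · rw [IsScalarTower.algebraMap_eq R₁ R₂ (Localization.Away f), ← Ideal.comap_comap, hp₃, hP]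
  · exact resSurj_trans (R₂ := R₂) p₁ P _ hP hp₃ hres₂ hres₃
  · refine ⟨⟨fun i => (he.idem _).map _, ?_⟩, ?_⟩
    · intro i j hij
      change theta (R₂ := R₂) (R₃ := Localization.Away f) S₀ (e i.castSucc) *
        theta (R₂ := R₂) (R₃ := Localization.Away f) S₀ (e j.castSucc) = 0
      rw [← map_mul, he.ortho (fun h => hij (Fin.castSucc_injective _ h)), map_zero]
    · have h1 := congrArg (theta (R₂ := R₂) (R₃ := Localization.Away f) S₀) he.complete
      rw [Fin.sum_univ_castSucc, map_add, map_sum, hlast, add_zero, map_one] at h1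
      exact h1
  · intro i
    exact exists_unique_prime_core p₁ S₀ hsep P hP hres₂ _ hp₃ hres₃ (e i.castSucc) (P' i)
      ((P' i).over_def P).symm (hP'e i) (fun P'' h1 h2 h3 => (H P'' h1 ⟨h2.symm⟩).2 i h3)

end Groth.Agent.Helper13SplitInt
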