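import Mathlib

set_option autoImplicit false
set_option linter.style.haveILetI false
universe u

namespace Groth.Agent.Helper13SplitInt

/-- Residue field extension of an integral ring map is integral (for the `map`-algebra structure). -/
theorem isIntegral_residueField_map {R S : Type*} [CommRing R] [CommRing S] [Algebra R S]
    [Algebra.IsIntegral R S] (p : Ideal R) [p.IsPrime] (q : Ideal S) [q.IsPrime]
    (hq : p = q.comap (algebraMap R S)) :
    (Ideal.ResidueField.map p q (algebraMap R S) hq).IsIntegral := by
  letI := (Ideal.ResidueField.map p q (algebraMap R S) hq).toAlgebra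
  haveI : IsScalarTower R p.ResidueField q.ResidueField := by
    refine .of_algebraMap_eq fun x => ?_
    rw [RingHom.algebraMap_toAlgebra, Ideal.ResidueField.map_algebraMap,
      ← IsScalarTower.algebraMap_apply]
  have hS : ∀ s : S, IsIntegral p.ResidueField (algebraMap S q.ResidueField s) := by
    intro s
    have h1 : IsIntegral R s := Algebra.IsIntegral.isIntegral s
    have h2 : IsIntegral R (algebraMap S q.ResidueField s) := h1.algebraMap
    exact h2.tower_top
  intro x
  change IsIntegral p.ResidueField x
  obtain ⟨a, b, hb, rfl⟩ := IsFractionRing.div_surjective (A := S ⧸ q) x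
  obtain ⟨a, rfl⟩ := Ideal.Quotient.mk_surjective a
  obtain ⟨b, rfl⟩ := Ideal.Quotient.mk_surjective b
  rw [Ideal.algebraMap_quotient_residueField_mk, Ideal.algebraMap_quotient_residueField_mk,
    div_eq_mul_inv]
  exact (hS a).mul (hS b).inv

end Groth.Agent.Helper13SplitInt
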