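import Mathlib
import Groth.Agent.Lib.Helper13SplitIntA
import Groth.Agent.Lib.Helper13SplitIntH
import Groth.Agent.Lib.Helper20EtResExt

set_option autoImplicit false
set_option linter.style.haveILetI false
universe u

namespace Groth.Agent.Helper13SplitInt

/-- **purely inseparable step**: after an étale base change `R₁` and a point `p₁` over `p`, every
residue field of `S` above `p` becomes purely inseparable over `κ(p₁)` in any common overfield. -/
theorem exists_etale_purelyInsep {R S : Type u} [CommRing R] [CommRing S] [Algebra R S]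
    [Algebra.IsIntegral R S] (p : Ideal R) [p.IsPrime]
    (hfin : {q : PrimeSpectrum S | q.asIdeal.comap (algebraMap R S) = p}.Finite)
    (hsep : ∀ (q : PrimeSpectrum S) (hq : q.asIdeal.comap (algebraMap R S) = p),
      letI := (Ideal.ResidueField.map p q.asIdeal (algebraMap R S) hq.symm).toAlgebra
      Module.Finite p.ResidueField (separableClosure p.ResidueField q.asIdeal.ResidueField)) :
    ∃ (R₁ : Type u) (_ : CommRing R₁) (_ : Algebra R R₁) (_ : Algebra.Etale R R₁) (p₁ : Ideal R₁)
      (_ : p₁.IsPrime), p₁.comap (algebraMap R R₁) = p ∧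
      ∀ (Ω : Type u) [Field Ω] (σ : S →+* Ω) (τ : R₁ →+* Ω),
        σ.comp (algebraMap R S) = τ.comp (algebraMap R R₁) → RingHom.ker τ = p₁ →
        ∀ s : S, ∃ (n : ℕ) (a b : R₁), b ∉ p₁ ∧
          σ s ^ (ringExpChar p.ResidueField ^ n) * τ b = τ a := by
  classical
  let ι := {q : PrimeSpectrum S // q.asIdeal.comap (algebraMap R S) = p}
  haveI : Finite ι := hfin.to_subtype
  let K : ι → Type u := fun i => i.1.asIdeal.ResidueField
  letI : ∀ i, Field (K i) := fun i => inferInstanceAs (Field i.1.asIdeal.ResidueField)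
  letI algK : ∀ i : ι, Algebra p.ResidueField (K i) := fun i =>
    (Ideal.ResidueField.map p i.1.asIdeal (algebraMap R S) i.2.symm).toAlgebra
  haveI : ∀ i, Algebra.IsAlgebraic p.ResidueField (K i) := fun i => by
    haveI : Algebra.IsIntegral p.ResidueField (K i) :=
      ⟨isIntegral_residueField_map p i.1.asIdeal i.2.symm⟩
    infer_instance
  haveI : ∀ i, FiniteDimensional p.ResidueField (separableClosure p.ResidueField (K i)) :=
    fun i => hsep i.1 i.2
  obtain ⟨L, _, _, hLfin, hLsep, hL⟩ := exists_finite_separable_splitting_alg p.ResidueField K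
  obtain ⟨R₁, _, _, _, p₁, _, hp₁, e, he⟩ :=
    Groth.Agent.Lib.Helper20.EtResExt.exists_etale_residueField_equiv p L
  refine ⟨R₁, inferInstance, inferInstance, inferInstance, p₁, inferInstance, hp₁.symm, ?_⟩
  intro Ω _ σ τ hcomp hker s
  haveI hqprime : (RingHom.ker σ).IsPrime := RingHom.ker_isPrime σ
  let q : PrimeSpectrum S := ⟨RingHom.ker σ, hqprime⟩
  have hq : q.asIdeal.comap (algebraMap R S) = p := by
    change (RingHom.ker σ).comap (algebraMap R S) = p
    rw [RingHom.comap_ker, hcomp, ← RingHom.comap_ker, hker, ← hp₁]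
  let i : ι := ⟨q, hq⟩
  -- the induced maps on residue fields
  let σb : K i →+* Ω := Ideal.ResidueField.lift (RingHom.ker σ) σ le_rfl (by
    intro x hx
    exact isUnit_iff_ne_zero.mpr hx)
  let τb : p₁.ResidueField →+* Ω := Ideal.ResidueField.lift p₁ τ hker.ge (by
    intro x hx
    refine isUnit_iff_ne_zero.mpr fun h0 => hx ?_
    rw [← hker]; exact h0)
  have hσb : ∀ x, σb (algebraMap S (K i) x) = σ x := fun x =>
    Ideal.ResidueField.lift_algebraMap _ _ _ _ x
  have hτb : ∀ x, τb (algebraMap R₁ p₁.ResidueField x) = τ x := fun x =>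
    Ideal.ResidueField.lift_algebraMap _ _ _ _ x
  -- Ω as a κ(p)-algebra
  letI : Algebra p.ResidueField Ω :=
    (τb.comp (Ideal.ResidueField.map p p₁ (algebraMap R R₁) hp₁)).toAlgebra
  have hσalg : σb.comp (algebraMap p.ResidueField (K i)) = algebraMap p.ResidueField Ω := by
    apply Ideal.ResidueField.ringHom_ext
    ext x
    simp only [RingHom.comp_apply, RingHom.algebraMap_toAlgebra]
    rw [Ideal.ResidueField.map_algebraMap, Ideal.ResidueField.map_algebraMap, hτb]
    erw [hσb]
    exact congr($hcomp x)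
  let σa : K i →ₐ[p.ResidueField] Ω := { σb with commutes' := fun x => congr($hσalg x) }
  let τa : L →ₐ[p.ResidueField] Ω :=
    { τb.comp (e.symm : L →+* p₁.ResidueField) with
      commutes' := fun x => by
        change τb (e.symm (algebraMap p.ResidueField L x)) = _
        rw [← he]
        simp [RingHom.algebraMap_toAlgebra] }
  obtain ⟨n, y, hy⟩ := hL i Ω σa τa (algebraMap S (K i) s)
  have hy' : τb (e.symm y) = σ s ^ (ringExpChar p.ResidueField ^ n) := by
    have : σa (algebraMap S (K i) s) = σ s := hσb s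
    rw [← this]; exact hy
  obtain ⟨a, b, hb, hab⟩ := IsFractionRing.div_surjective (A := R₁ ⧸ p₁) (e.symm y)
  obtain ⟨a, rfl⟩ := Ideal.Quotient.mk_surjective a
  obtain ⟨b, rfl⟩ := Ideal.Quotient.mk_surjective b
  rw [Ideal.algebraMap_quotient_residueField_mk, Ideal.algebraMap_quotient_residueField_mk] at hab
  have hbp : b ∉ p₁ := by
    intro hbp
    have : Ideal.Quotient.mk p₁ b = 0 := Ideal.Quotient.eq_zero_iff_mem.mpr hbp
    rw [this] at hb
    exact zero_notMem_nonZeroDivisors hb
  refine ⟨n, a, b, hbp, ?_⟩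
  have hb0 : algebraMap R₁ p₁.ResidueField b ≠ 0 := by
    rw [Ne, Ideal.algebraMap_residueField_eq_zero]; exact hbp
  rw [← hy', ← hab, ← hτb b, ← hτb a, ← map_mul, div_mul_cancel₀ _ hb0]

end Groth.Agent.Helper13SplitInt
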