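import Mathlib
import Groth.Agent.Lib.Helper13SplitIntF

set_option autoImplicit false
set_option linter.style.haveILetI false
universe u

open TensorProduct

namespace Groth.Agent.Helper13SplitInt

/-- The fibre of `R₁ ⊗[R] S` over a prime `p₁` of the quasi-finite `R`-algebra `R₁` is finite when the
fibre of `S` over the contraction of `p₁` is. -/
theorem finite_fibre_tensor {R R₁ S : Type u} [CommRing R] [CommRing R₁] [CommRing S]
    [Algebra R R₁] [Algebra R S] [Algebra.QuasiFinite R R₁] (p : Ideal R) (p₁ : Ideal R₁)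
    (hp₁ : p₁.comap (algebraMap R R₁) = p)
    (hfin : {q : PrimeSpectrum S | q.asIdeal.comap (algebraMap R S) = p}.Finite) :
    {w : PrimeSpectrum (R₁ ⊗[R] S) | w.asIdeal.comap (algebraMap R₁ (R₁ ⊗[R] S)) = p₁}.Finite := by
  have h1 : (PrimeSpectrum.comap (algebraMap S (S ⊗[R] R₁)) ⁻¹'
      {q : PrimeSpectrum S | q.asIdeal.comap (algebraMap R S) = p}).Finite :=
    Algebra.QuasiFinite.finite_comap_preimage hfin
  let c : S ⊗[R] R₁ ≃ₐ[R] R₁ ⊗[R] S := Algebra.TensorProduct.comm R S R₁
  let g : PrimeSpectrum (R₁ ⊗[R] S) → PrimeSpectrum (S ⊗[R] R₁) :=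
    PrimeSpectrum.comap (c : S ⊗[R] R₁ →+* R₁ ⊗[R] S)
  have hg : Function.Injective g :=
    PrimeSpectrum.comap_injective_of_surjective _ c.surjective
  refine (h1.preimage hg.injOn).subset ?_
  intro w hw
  simp only [Set.mem_preimage, Set.mem_setOf_eq] at hw ⊢
  have key : (g w).asIdeal.comap (algebraMap S (S ⊗[R] R₁)) =
      w.asIdeal.comap (Algebra.TensorProduct.includeRight : S →ₐ[R] R₁ ⊗[R] S).toRingHom := by
    ext x
    change c (algebraMap S (S ⊗[R] R₁) x) ∈ w.asIdeal ↔ _
    rw [Algebra.TensorProduct.algebraMap_apply]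
    simp [c]
  change ((g w).asIdeal.comap (algebraMap S (S ⊗[R] R₁))).comap (algebraMap R S) = p
  rw [key, comap_includeRight_algebraMap, hw, hp₁]

end Groth.Agent.Helper13SplitInt
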