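import Mathlib

set_option autoImplicit false
set_option linter.style.haveILetI false
universe u

open TensorProduct

namespace Groth.Agent.Helper13SplitInt

/-- **final purely inseparable lemma**: if all residue fields of `S` over `p` become purely
inseparable over `κ(p₁)` in common overfields, then for a quotient `A` of `R₃ ⊗[R] S` and a prime
`r` of `A` over `p₃` (over `p₁`), `κ(r)` is purely inseparable over `κ(p₃)`. -/
theorem isPurelyInseparable_of_pi {R S R₁ R₃ A : Type u} [CommRing R] [CommRing S] [CommRing R₁]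
    [CommRing R₃] [CommRing A] [Algebra R S] [Algebra R R₁] [Algebra R₁ R₃] [Algebra R R₃]
    [IsScalarTower R R₁ R₃] [Algebra R₃ A]
    (φ : R₃ ⊗[R] S →ₐ[R₃] A) (hφ : Function.Surjective φ)
    (p : Ideal R) [p.IsPrime] (p₁ : Ideal R₁) [p₁.IsPrime] (hp₁ : p₁.comap (algebraMap R R₁) = p)
    (hPI : ∀ (Ω : Type u) [Field Ω] (σ : S →+* Ω) (τ : R₁ →+* Ω),
        σ.comp (algebraMap R S) = τ.comp (algebraMap R R₁) → RingHom.ker τ = p₁ →
        ∀ s : S, ∃ (n : ℕ) (a b : R₁), b ∉ p₁ ∧
          σ s ^ (ringExpChar p.ResidueField ^ n) * τ b = τ a)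
    (p₃ : Ideal R₃) [p₃.IsPrime] (hp₃ : p₃.comap (algebraMap R₁ R₃) = p₁)
    (r : Ideal A) [r.IsPrime] (hr : r.comap (algebraMap R₃ A) = p₃) :
    letI := (Ideal.ResidueField.map p₃ r (algebraMap R₃ A) hr.symm).toAlgebra
    IsPurelyInseparable p₃.ResidueField r.ResidueField := by
  letI := (Ideal.ResidueField.map p₃ r (algebraMap R₃ A) hr.symm).toAlgebra
  have hp₃p : p = p₃.comap (algebraMap R R₃) := by
    rw [IsScalarTower.algebraMap_eq R R₁ R₃, ← Ideal.comap_comap, hp₃, hp₁]
  haveI : ExpChar p₃.ResidueField (ringExpChar p.ResidueField) :=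
    expChar_of_injective_ringHom
      (Ideal.ResidueField.map p p₃ (algebraMap R R₃) hp₃p).injective _
  rw [isPurelyInseparable_iff_perfectClosure_eq_top]
  have hR₃ : ∀ x : R₃, algebraMap A r.ResidueField (algebraMap R₃ A x) =
      algebraMap p₃.ResidueField r.ResidueField (algebraMap R₃ p₃.ResidueField x) := by
    intro x
    rw [RingHom.algebraMap_toAlgebra, Ideal.ResidueField.map_algebraMap]
  let j : S →+* A := φ.toRingHom.comp
    (Algebra.TensorProduct.includeRight : S →ₐ[R] R₃ ⊗[R] S).toRingHom
  have hj : ∀ x : R, j (algebraMap R S x) = algebraMap R₃ A (algebraMap R R₃ x) := by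
    intro x
    change φ ((1 : R₃) ⊗ₜ[R] (algebraMap R S x)) = _
    rw [Algebra.algebraMap_eq_smul_one, ← TensorProduct.smul_tmul, ← Algebra.algebraMap_eq_smul_one]
    have : (algebraMap R R₃ x) ⊗ₜ[R] (1 : S) = algebraMap R₃ (R₃ ⊗[R] S) (algebraMap R R₃ x) :=
      (Algebra.TensorProduct.algebraMap_apply _).symm
    rw [this, AlgHom.commutes]
  have hspan : Submodule.span R₃ (Set.range j) = ⊤ := by
    have h1 : Submodule.span R₃ (Set.range
        (Algebra.TensorProduct.includeRight : S →ₐ[R] R₃ ⊗[R] S)) = ⊤ := by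
      rw [eq_top_iff]
      rintro x -
      induction x using TensorProduct.induction_on with
      | zero => exact Submodule.zero_mem _
      | tmul a b =>
        have : a ⊗ₜ[R] b = a • ((1 : R₃) ⊗ₜ[R] b) := by
          rw [TensorProduct.smul_tmul', smul_eq_mul, mul_one]
        rw [this]
        exact Submodule.smul_mem _ _ (Submodule.subset_span ⟨b, rfl⟩)
      | add x y hx hy => exact Submodule.add_mem _ hx hy
    have h2 := congrArg (Submodule.map φ.toLinearMap) h1
    rw [Submodule.map_span, Submodule.map_top, LinearMap.range_eq_top.mpr hφ] at h2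
    rw [← h2]
    congr 1
    ext y
    constructor
    · rintro ⟨s, rfl⟩
      exact ⟨_, ⟨s, rfl⟩, rfl⟩
    · rintro ⟨_, ⟨s, rfl⟩, rfl⟩
      exact ⟨s, rfl⟩
  -- images of `S` lie in the perfect closure
  have hS : ∀ s : S, algebraMap A r.ResidueField (j s) ∈
      perfectClosure p₃.ResidueField r.ResidueField := by
    intro s
    let σ : S →+* r.ResidueField := (algebraMap A r.ResidueField).comp j
    let τ : R₁ →+* r.ResidueField :=
      (algebraMap A r.ResidueField).comp ((algebraMap R₃ A).comp (algebraMap R₁ R₃))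
    have hcomp : σ.comp (algebraMap R S) = τ.comp (algebraMap R R₁) := by
      ext x
      change algebraMap A r.ResidueField (j (algebraMap R S x)) =
        algebraMap A r.ResidueField (algebraMap R₃ A (algebraMap R₁ R₃ (algebraMap R R₁ x)))
      rw [hj, ← IsScalarTower.algebraMap_apply R R₁ R₃]
    have hker : RingHom.ker τ = p₁ := by
      change RingHom.ker ((algebraMap A r.ResidueField).comp
        ((algebraMap R₃ A).comp (algebraMap R₁ R₃))) = p₁
      rw [← RingHom.comap_ker, Ideal.ker_algebraMap_residueField, ← Ideal.comap_comap, hr, hp₃]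
    obtain ⟨n, a, b, hb, hab⟩ := hPI r.ResidueField σ τ hcomp hker s
    rw [mem_perfectClosure_iff_pow_mem (ringExpChar p.ResidueField)]
    refine ⟨n, ?_⟩
    have hτ : ∀ x : R₁, τ x = algebraMap p₃.ResidueField r.ResidueField
        (algebraMap R₃ p₃.ResidueField (algebraMap R₁ R₃ x)) := fun x => hR₃ _
    have hb0 : τ b ≠ 0 := by
      intro h0
      apply hb
      rw [← hker]; exact h0
    refine ⟨algebraMap R₃ p₃.ResidueField (algebraMap R₁ R₃ a) /
      algebraMap R₃ p₃.ResidueField (algebraMap R₁ R₃ b), ?_⟩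
    rw [map_div₀, ← hτ, ← hτ, ← hab, mul_div_assoc, div_self hb0, mul_one]
    rfl
  -- images of `A`
  have hA : ∀ x : A, algebraMap A r.ResidueField x ∈
      perfectClosure p₃.ResidueField r.ResidueField := by
    intro x
    have hx : x ∈ Submodule.span R₃ (Set.range j) := hspan ▸ Submodule.mem_top
    induction hx using Submodule.span_induction with
    | mem y hy =>
      obtain ⟨s, rfl⟩ := hy
      exact hS s
    | zero => rw [map_zero]; exact zero_mem _
    | add y z _ _ hy hz => rw [map_add]; exact add_mem hy hz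
    | smul c y _ hy =>
      rw [Algebra.smul_def, map_mul, hR₃]
      exact mul_mem (IntermediateField.algebraMap_mem _ _) hy
  rw [eq_top_iff]
  rintro x -
  obtain ⟨a, b, hb, rfl⟩ := IsFractionRing.div_surjective (A := A ⧸ r) x
  obtain ⟨a, rfl⟩ := Ideal.Quotient.mk_surjective a
  obtain ⟨b, rfl⟩ := Ideal.Quotient.mk_surjective b
  rw [Ideal.algebraMap_quotient_residueField_mk, Ideal.algebraMap_quotient_residueField_mk]
  exact div_mem (hA a) (hA b)

end Groth.Agent.Helper13SplitInt
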