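import Mathlib

set_option autoImplicit false
set_option linter.style.haveILetI false
universe u

namespace Groth.Agent.Helper13SplitInt

/-- Splitting an integral algebra along complete orthogonal idempotents each of which isolates one
prime over `p₃`. -/
theorem exists_split_of_idempotents {R₃ C : Type u} [CommRing R₃] [CommRing C] [Algebra R₃ C]
    [Algebra.IsIntegral R₃ C] (p₃ : Ideal R₃) {n : ℕ} (ε : Fin n → C)
    (hε : CompleteOrthogonalIdempotents ε)
    (H : ∀ i, ∃ w : Ideal C, w.IsPrime ∧ w.comap (algebraMap R₃ C) = p₃ ∧ ε i ∉ w ∧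
      ∀ w' : Ideal C, w'.IsPrime → w'.comap (algebraMap R₃ C) = p₃ → ε i ∉ w' → w' = w) :
    ∃ (e : C ≃ₐ[R₃] Π i, C ⧸ Ideal.span {1 - ε i}),
      (∀ x i, e x i = Ideal.Quotient.mk _ x) ∧
      ∀ i, Algebra.IsIntegral R₃ (C ⧸ Ideal.span {1 - ε i}) ∧
        ∃ r : PrimeSpectrum (C ⧸ Ideal.span {1 - ε i}),
          r.asIdeal.comap (algebraMap R₃ (C ⧸ Ideal.span {1 - ε i})) = p₃ ∧
          ∀ r' : PrimeSpectrum (C ⧸ Ideal.span {1 - ε i}),
            r'.asIdeal.comap (algebraMap R₃ (C ⧸ Ideal.span {1 - ε i})) = p₃ → r' = r := by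
  let f : C →ₐ[R₃] Π i, C ⧸ Ideal.span {1 - ε i} :=
    Pi.algHom R₃ _ fun i => Ideal.Quotient.mkₐ R₃ (Ideal.span {1 - ε i})
  have hf : Function.Bijective f := hε.bijective_pi
  refine ⟨AlgEquiv.ofBijective f hf, fun x i => rfl, fun i => ⟨inferInstance, ?_⟩⟩
  obtain ⟨w, hwprime, hw₃, hεw, huniq⟩ := H i
  have hIw : ∀ w' : Ideal C, w'.IsPrime → ε i ∉ w' → Ideal.span {1 - ε i} ≤ w' := by
    intro w' hw' hε'
    rw [Ideal.span_singleton_le_iff_mem]
    have h0 : ε i * (1 - ε i) = 0 := by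
      rw [mul_sub, mul_one, (hε.idem i).eq, sub_self]
    have : ε i * (1 - ε i) ∈ w' := h0 ▸ w'.zero_mem
    exact (hw'.mem_or_mem this).resolve_left hε'
  have hcomap : ∀ J : Ideal (C ⧸ Ideal.span {1 - ε i}),
      J.comap (algebraMap R₃ (C ⧸ Ideal.span {1 - ε i})) =
      (J.comap (Ideal.Quotient.mk (Ideal.span {1 - ε i}))).comap (algebraMap R₃ C) := by
    intro J
    rw [Ideal.comap_comap]
    rfl
  have hwI := hIw w hwprime hεw
  have hcm : (w.map (Ideal.Quotient.mk (Ideal.span {1 - ε i}))).comap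
      (Ideal.Quotient.mk (Ideal.span {1 - ε i})) = w := by
    rw [Ideal.comap_map_of_surjective _ Ideal.Quotient.mk_surjective, ← RingHom.ker_eq_comap_bot,
      Ideal.mk_ker]
    exact sup_eq_left.mpr hwI
  haveI hrprime : (w.map (Ideal.Quotient.mk (Ideal.span {1 - ε i}))).IsPrime :=
    Ideal.map_isPrime_of_surjective Ideal.Quotient.mk_surjective (by rwa [Ideal.mk_ker])
  refine ⟨⟨w.map (Ideal.Quotient.mk (Ideal.span {1 - ε i})), hrprime⟩, ?_, ?_⟩
  · change (w.map (Ideal.Quotient.mk (Ideal.span {1 - ε i}))).comap _ = p₃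
    rw [hcomap, hcm, hw₃]
  · intro r' hr'
    apply PrimeSpectrum.ext
    change r'.asIdeal = w.map (Ideal.Quotient.mk (Ideal.span {1 - ε i}))
    have hw'prime : (r'.asIdeal.comap (Ideal.Quotient.mk (Ideal.span {1 - ε i}))).IsPrime :=
      Ideal.comap_isPrime _ _
    have hε' : ε i ∉ r'.asIdeal.comap (Ideal.Quotient.mk (Ideal.span {1 - ε i})) := by
      intro hmem
      have h1 : (1 - ε i) ∈ r'.asIdeal.comap (Ideal.Quotient.mk (Ideal.span {1 - ε i})) := by
        rw [Ideal.mem_comap]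
        have : Ideal.Quotient.mk (Ideal.span {1 - ε i}) (1 - ε i) = 0 :=
          Ideal.Quotient.eq_zero_iff_mem.mpr (Ideal.mem_span_singleton_self _)
        rw [this]; exact Ideal.zero_mem _
      have h2 : (1 : C) ∈ r'.asIdeal.comap (Ideal.Quotient.mk (Ideal.span {1 - ε i})) := by
        have := Ideal.add_mem _ hmem h1
        rwa [add_sub_cancel] at this
      exact hw'prime.ne_top ((Ideal.eq_top_iff_one _).mpr h2)
    have hw' := huniq _ hw'prime (by rw [← hcomap, hr']) hε'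
    rw [← hw', Ideal.map_comap_of_surjective _ Ideal.Quotient.mk_surjective]

end Groth.Agent.Helper13SplitInt
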