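import Mathlib
import Groth.Agent.Lib.Helper13SymLoc

set_option autoImplicit false
set_option linter.style.haveILetI false

namespace Groth.Agent.Helper13SymLoc

universe u

open SymmetricAlgebra CategoryTheory CategoryTheory.Limits

section

variable {R R' : Type u} [CommRing R] [CommRing R'] (ψ : R →+* R')
  {M M' : Type u} [AddCommGroup M] [Module R M] [AddCommGroup M'] [Module R' M']

/-- the symmetric algebra commutes with base change: if `φ : M → M'` exhibits `M'` as the base change
of `M` along `ψ : R → R'` (in the form of its universal property), then `Sym_{R'} M'` is the pushout of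
`R'` and `Sym_R M` over `R`. -/
theorem isPushout_sym_of_lift (φ : M →+ M') (hφ : ∀ (r : R) (m : M), φ (r • m) = ψ r • φ m)
    (huniv : ∀ (N : Type u) [AddCommGroup N] [Module R' N] (l : M →+ N),
      (∀ (r : R) (m : M), l (r • m) = ψ r • l m) → ∃! l' : M' →ₗ[R'] N, ∀ m, l' (φ m) = l m) :
    IsPushout (CommRingCat.ofHom ψ) (CommRingCat.ofHom (algebraMap R (SymmetricAlgebra R M)))
      (CommRingCat.ofHom (algebraMap R' (SymmetricAlgebra R' M')))
      (CommRingCat.ofHom (symMap ψ φ hφ)) := by
  have w : CommRingCat.ofHom ψ ≫ CommRingCat.ofHom (algebraMap R' (SymmetricAlgebra R' M')) =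
      CommRingCat.ofHom (algebraMap R (SymmetricAlgebra R M)) ≫
      CommRingCat.ofHom (symMap ψ φ hφ) := by
    ext1
    refine RingHom.ext fun a => ?_
    change algebraMap R' _ (ψ a) = symMap ψ φ hφ (algebraMap R _ a)
    rw [symMap_algebraMap]
  -- the semilinear map attached to a cocone
  have hc : ∀ (s : PushoutCocone (CommRingCat.ofHom ψ)
      (CommRingCat.ofHom (algebraMap R (SymmetricAlgebra R M)))) (a : R),
      s.inr.hom (algebraMap R (SymmetricAlgebra R M) a) = s.inl.hom (ψ a) := fun s a =>
    (congrArg (fun t : CommRingCat.of R ⟶ s.pt => t.hom a) s.condition).symm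
  have hl : ∀ (s : PushoutCocone (CommRingCat.ofHom ψ)
      (CommRingCat.ofHom (algebraMap R (SymmetricAlgebra R M)))) (r : R) (m : M),
      ((s.inr.hom : _ →+* _).toAddMonoidHom.comp (ι R M).toAddMonoidHom) (r • m) =
      s.inl.hom (ψ r) * ((s.inr.hom : _ →+* _).toAddMonoidHom.comp (ι R M).toAddMonoidHom) m := by
    intro s r m
    simp only [AddMonoidHom.coe_comp, Function.comp_apply, RingHom.toAddMonoidHom_eq_coe,
      AddMonoidHom.coe_coe, LinearMap.toAddMonoidHom_coe, map_smul, Algebra.smul_def, map_mul, hc]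
  have hex : ∀ (s : PushoutCocone (CommRingCat.ofHom ψ)
      (CommRingCat.ofHom (algebraMap R (SymmetricAlgebra R M)))),
      ∃ l' : M' →+ s.pt, (∀ (a : R') (m : M'), l' (a • m) = s.inl.hom a * l' m) ∧
        ∀ m : M, l' (φ m) = s.inr.hom (ι R M m) := by
    intro s
    letI : Module R' s.pt := Module.compHom s.pt s.inl.hom
    obtain ⟨l', h1, -⟩ := huniv s.pt
      ((s.inr.hom : _ →+* _).toAddMonoidHom.comp (ι R M).toAddMonoidHom) (hl s)
    exact ⟨l'.toAddMonoidHom, fun a m => l'.map_smul a m, h1⟩
  have hun : ∀ (T : CommRingCat.{u}) (a : R' →+* T) (l₁ l₂ : M' →+ T)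
      (_ : ∀ (r : R') (m : M'), l₁ (r • m) = a r * l₁ m)
      (_ : ∀ (r : R') (m : M'), l₂ (r • m) = a r * l₂ m)
      (_ : ∀ m : M, l₁ (φ m) = l₂ (φ m)), l₁ = l₂ := by
    intro T a l₁ l₂ h1 h2 h3
    letI : Module R' T := Module.compHom T a
    have hsl : ∀ (r : R) (m : M), (l₂.comp φ) (r • m) = ψ r • (l₂.comp φ) m := by
      intro r m
      simp only [AddMonoidHom.coe_comp, Function.comp_apply, hφ, h2]
      rfl
    obtain ⟨l', -, h5⟩ := huniv T (l₂.comp φ) hsl
    have e1 := h5 { toFun := l₁, map_add' := l₁.map_add, map_smul' := h1 } (fun m => h3 m)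
    have e2 := h5 { toFun := l₂, map_add' := l₂.map_add, map_smul' := h2 } (fun m => rfl)
    refine AddMonoidHom.ext fun m => ?_
    have := congrArg (fun t : M' →ₗ[R'] T => t m) (e1.trans e2.symm)
    exact this
  refine ⟨⟨w⟩, ⟨PushoutCocone.IsColimit.mk _ (fun s => ?_) ?_ ?_ ?_⟩⟩
  · exact CommRingCat.ofHom (symLift (R := R') (M := M') s.inl.hom (hex s).choose
      (hex s).choose_spec.1)
  · intro s
    ext1
    refine RingHom.ext fun a => ?_
    simp only [CommRingCat.hom_comp, CommRingCat.hom_ofHom, RingHom.coe_comp,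
      Function.comp_apply, symLift_algebraMap]
  · intro s
    ext1
    refine ringHom_ext (fun a => ?_) (fun m => ?_)
    · simp only [CommRingCat.hom_comp, CommRingCat.hom_ofHom, RingHom.coe_comp,
        Function.comp_apply, symMap_algebraMap, symLift_algebraMap, hc]
    · simp only [CommRingCat.hom_comp, CommRingCat.hom_ofHom, RingHom.coe_comp,
        Function.comp_apply, symMap_ι, symLift_ι]
      exact (hex s).choose_spec.2 m
  · intro s m' h1 h2
    ext1
    refine ringHom_ext (fun a => ?_) (fun p => ?_)
    · have := congrArg (fun t : CommRingCat.of R' ⟶ s.pt => t.hom a) h1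
      simp only [CommRingCat.hom_comp, CommRingCat.hom_ofHom, RingHom.coe_comp,
        Function.comp_apply] at this
      simp only [CommRingCat.hom_ofHom, symLift_algebraMap]
      exact this
    · simp only [CommRingCat.hom_ofHom, symLift_ι]
      have h1' : ∀ a : R', m'.hom (algebraMap R' _ a) = s.inl.hom a := fun a =>
        congrArg (fun t : CommRingCat.of R' ⟶ s.pt => t.hom a) h1
      have h2' : ∀ z : SymmetricAlgebra R M, m'.hom (symMap ψ φ hφ z) = s.inr.hom z := fun z =>
        congrArg (fun t : CommRingCat.of (SymmetricAlgebra R M) ⟶ s.pt => t.hom z) h2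
      have := hun s.pt s.inl.hom
        ((m'.hom : _ →+* _).toAddMonoidHom.comp (ι R' M').toAddMonoidHom) (hex s).choose
        (fun r m => by
          simp only [AddMonoidHom.coe_comp, Function.comp_apply, RingHom.toAddMonoidHom_eq_coe,
            AddMonoidHom.coe_coe, LinearMap.toAddMonoidHom_coe, map_smul, Algebra.smul_def, map_mul,
            h1'])
        (hex s).choose_spec.1
        (fun m => by
          simp only [AddMonoidHom.coe_comp, Function.comp_apply, RingHom.toAddMonoidHom_eq_coe,
            AddMonoidHom.coe_coe, LinearMap.toAddMonoidHom_coe]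
          rw [(hex s).choose_spec.2 m, ← h2', symMap_ι])
      exact congrArg (fun t : M' →+ s.pt => t p) this

end

end Groth.Agent.Helper13SymLoc
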