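import Mathlib
import Groth.Prelude.Def_RelSpec
import Groth.Prelude.Def_RelProj4
import Groth.Agent.Lib.Helper13SymBiprod
import Groth.Agent.Lib.Helper13PullbackUnit
import Groth.Agent.Lib.Helper13SymBC

set_option autoImplicit false
set_option linter.style.haveILetI false

namespace Groth.Agent.Helper13SymAlg

open CategoryTheory CategoryTheory.Limits AlgebraicGeometry Opposite TopologicalSpace
open Groth.Agent.Helper13SymLoc Groth.Agent.Helper13RelSpecLocal Groth.Agent.Helper13PullbackUnit

universe u

noncomputable section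

variable {S S' : Scheme.{u}} (g : S' ⟶ S) (E : S.Modules) [E.IsQuasicoherent]
  {A : RelSpec.QCAlg S} {j : E ⟶ A.toModule} (hA : RelSpec.IsSymAlg E A j)
  {B : RelSpec.QCAlg S'} {j' : (Scheme.Modules.pullback g).obj E ⟶ B.toModule}
  (hB : RelSpec.IsSymAlg ((Scheme.Modules.pullback g).obj E) B j')
  (u : RelSpec.QHom g A B)
  (hu : ∀ (U : S.Opens) (x : Γ(E, U)),
      (u.app U).hom ((j.app U) x) =
        (j'.app (g ⁻¹ᵁ U)) (((Scheme.Modules.pullbackPushforwardAdjunction g).unit.app E).app U x))

include hA hB hu in
theorem isQBaseChange_sym : RelSpec.IsQBaseChange u := by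
  intro U hU U' hU' hle
  haveI : ((Scheme.Modules.pullback g).obj E).IsQuasicoherent :=
    Groth.Agent.Lib.Helper2.PullbackSec.isQuasicoherent_pullback g E
  have hsym := isPushout_sym_of_lift (g.appLE U U' hle).hom (unitSec g E hle)
    (unitSec_smul g E hle) (fun N _ _ l hl => existsUnique_lift g E hU hU' hle N l hl)
  refine IsPushout.of_iso hsym (Iso.refl _) (Iso.refl _) (σIso E hA U hU)
    (σIso ((Scheme.Modules.pullback g).obj E) hB U' hU') ?_ ?_ ?_ ?_
  · rw [Iso.refl_hom, Iso.refl_hom, Category.id_comp, Category.comp_id]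
    rfl
  · rw [σIso_hom, Iso.refl_hom, Category.id_comp]
    ext1
    refine RingHom.ext fun a => ?_
    change σ E A j U (algebraMap _ _ a) = _
    unfold σ
    rw [symLift_algebraMap]
  · rw [σIso_hom, Iso.refl_hom, Category.id_comp]
    ext1
    refine RingHom.ext fun a => ?_
    change σ _ B j' U' (algebraMap _ _ a) = _
    unfold σ
    rw [symLift_algebraMap]
  · rw [σIso_hom, σIso_hom]
    ext1
    refine ringHom_ext (fun a => ?_) (fun m => ?_)
    · change σ _ B j' U' (symMap _ _ _ (algebraMap _ _ a)) =
        (u.appLE U U' hle).hom (σ E A j U (algebraMap _ _ a))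
      unfold σ
      rw [symMap_algebraMap, symLift_algebraMap, symLift_algebraMap]
      exact (congrArg (fun t : Γ(S, U) ⟶ _ => t.hom a) (u.str_appLE U U' hle)).symm
    · change σ _ B j' U' (symMap _ _ _ (SymmetricAlgebra.ι _ _ m)) =
        (u.appLE U U' hle).hom (σ E A j U (SymmetricAlgebra.ι _ _ m))
      unfold σ
      rw [symMap_ι, symLift_ι, symLift_ι]
      have e1 : unitSec g E hle m = resE ((Scheme.Modules.pullback g).obj E) hle
          (((Scheme.Modules.pullbackPushforwardAdjunction g).unit.app E).app U m) := rfl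
      have e3 := φAdd_res ((Scheme.Modules.pullback g).obj E) B j' hle
        (show Γ((Scheme.Modules.pullback g).obj E, g ⁻¹ᵁ U) from
          (((Scheme.Modules.pullbackPushforwardAdjunction g).unit.app E).app U m))
      have e2 : φAdd ((Scheme.Modules.pullback g).obj E) B j' (g ⁻¹ᵁ U)
          (((Scheme.Modules.pullbackPushforwardAdjunction g).unit.app E).app U m) =
          (u.app U).hom ((j.app U) m) := (hu U m).symm
      refine (congrArg _ e1).trans (e3.trans ?_)
      exact congrArg (B.presheaf.map (homOfLE hle).op).hom e2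

end

end Groth.Agent.Helper13SymAlg
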