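import Groth.Agent.Lib.Helper13KzLiftJ
import Groth.Agent.Lib.Helper5KindFlat

/-!
# Koszul-regular sequences with flat quotient stay Koszul-regular on fibres (helper13)

`A' → R'` flat, `l'` a Koszul-regular list in `R'` with `R'/(l')` flat over `A'`.  Then for every
`A'`-module `X` the Koszul cohomology of `R' ⊗ X` vanishes in nonzero degrees, and hence the image
of `l'` in `R'/IR'` is Koszul-regular for every ideal `I` of `A'`.
-/

set_option autoImplicit false
set_option linter.unusedSectionVars false

namespace Groth.Agent.Helper13Synt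
open CategoryTheory CochainComplex MonoidalCategory CohIII Pointwise
open Groth.Agent.Lib.Helper21 Groth.Agent.Helper13Kz Groth.Agent.Helper13KzLift
open scoped TensorProduct

universe u
variable {A' : Type u} {R' : Type u} [CommRing A'] [CommRing R'] [Algebra A' R']
  [Module.Flat A' R'] (l' : List R')

/-- injectivity in degree `0` from flatness of `R'/(l')` -/
theorem KHmap_zero_injective_of_flat_quot [Module.Flat A' (R' ⧸ Ideal.ofList l')]
    {X' X : Type u} [AddCommGroup X'] [Module A' X'] [AddCommGroup X] [Module A' X]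
    (f : X' →ₗ[A'] X) (hf : Function.Injective f) :
    Function.Injective (KHmap l' (f.baseChange R') 0) := by
  rw [KHmap_zero_injective_iff]
  intro x hx
  rw [LinearMap.baseChange_eq_ltensor] at hx
  have hbot : ∀ (X : Type u) [AddCommGroup X] [Module A' X],
      ∀ c ∈ (⊥ : Ideal R'), ∀ y : R' ⊗[A'] X, c • y = 0 := by
    intro X _ _ c hc y
    rw [(Submodule.mem_bot R').mp hc, zero_smul]
  have hπ : Function.Surjective (Submodule.mkQ (Ideal.ofList l')) :=
    fun y => Submodule.mkQ_surjective (Ideal.ofList l') y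
  have hker : LinearMap.ker (Submodule.mkQ (Ideal.ofList l')) = Ideal.ofList l' ⊔ ⊥ := by
    rw [Submodule.ker_mkQ, sup_bot_eq]
  have h1 := (G0 (Submodule.mkQ (Ideal.ofList l')) hπ (Ideal.ofList l') ⊥ hker X (hbot X) _).mpr hx
  rw [← LinearMap.comp_apply, LinearMap.rTensor_comp_lTensor, ← LinearMap.lTensor_comp_rTensor,
    LinearMap.comp_apply] at h1
  have hinj := Module.Flat.lTensor_preserves_injective_linearMap (M := R' ⧸ Ideal.ofList l') f hf
  have h2 := hinj (h1.trans (map_zero _).symm)
  exact (G0 (Submodule.mkQ (Ideal.ofList l')) hπ (Ideal.ofList l') ⊥ hker X' (hbot X') _).mp h2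

theorem acycAt_self {i : ℤ} (h : Subsingleton (KH l' R' i)) : AcycAt A' l' i A' :=
  subsingleton_KH_of_equiv l' (TensorProduct.AlgebraTensorModule.rid A' R' R').symm i h

theorem step0' [Module.Flat A' (R' ⧸ Ideal.ofList l')]
    {X' X X'' : Type u} [AddCommGroup X'] [Module A' X'] [AddCommGroup X] [Module A' X]
    [AddCommGroup X''] [Module A' X''] (f : X' →ₗ[A'] X) (g : X →ₗ[A'] X'')
    (hf : Function.Injective f) (hg : Function.Surjective g) (hfg : Function.Exact f g)
    (hF : AcycAt A' l' (-1) X) : AcycAt A' l' (-1) X'' :=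
  AcycAt.shift0' l' f g hf hg hfg (by norm_num) hF (KHmap_zero_injective_of_flat_quot l' f hf)

theorem stepS' {X' X X'' : Type u} [AddCommGroup X'] [Module A' X'] [AddCommGroup X] [Module A' X]
    [AddCommGroup X''] [Module A' X''] (f : X' →ₗ[A'] X) (g : X →ₗ[A'] X'')
    (hf : Function.Injective f) (hg : Function.Surjective g) (hfg : Function.Exact f g) {i : ℤ}
    (hF : AcycAt A' l' i X) (hK : AcycAt A' l' (i + 1) X') : AcycAt A' l' i X'' :=
  AcycAt.shift f g hf hg hfg hF hK

variable (hK : ∀ i : ℤ, i ≠ 0 → Subsingleton (KH l' R' i))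
include hK

/-- vanishing of the Koszul cohomology of `R' ⊗ X` in negative degrees -/
theorem acycAt_of_flat_quot [Module.Flat A' (R' ⧸ Ideal.ofList l')] : ∀ (n : ℕ) (i : ℤ),
    i + n + 1 = 0 → ∀ (X : Type u) [AddCommGroup X] [Module A' X], AcycAt A' l' i X := by
  intro n
  induction n with
  | zero =>
    intro i hi X _ _
    have hi' : i = -1 := by simp at hi; omega
    subst hi'
    have hF : AcycAt A' l' (-1) (X →₀ A') :=
      AcycAt.finsupp A' X (acycAt_self l' (hK (-1) (by norm_num)))
    exact step0' l'
      (X' := LinearMap.ker (Finsupp.linearCombination A' (id : X → X)))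
      (X := X →₀ A') (X'' := X)
      (LinearMap.ker (Finsupp.linearCombination A' (id : X → X))).subtype
      (Finsupp.linearCombination A' (id : X → X))
      (Submodule.injective_subtype _) (Finsupp.linearCombination_id_surjective A' X)
      (LinearMap.exact_subtype_ker_map _) hF
  | succ n ih =>
    intro i hi X _ _
    have hF : AcycAt A' l' i (X →₀ A') :=
      AcycAt.finsupp A' X (acycAt_self l' (hK i (by push_cast at hi; omega)))
    have hK' : AcycAt A' l' (i + 1)
        (LinearMap.ker (Finsupp.linearCombination A' (id : X → X))) :=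
      ih (i + 1) (by push_cast at hi ⊢; omega) _
    exact stepS' l'
      (X' := LinearMap.ker (Finsupp.linearCombination A' (id : X → X)))
      (X := X →₀ A') (X'' := X)
      (LinearMap.ker (Finsupp.linearCombination A' (id : X → X))).subtype
      (Finsupp.linearCombination A' (id : X → X))
      (Submodule.injective_subtype _) (Finsupp.linearCombination_id_surjective A' X)
      (LinearMap.exact_subtype_ker_map _) hF hK'

theorem acycAt_of_flat_quot' [Module.Flat A' (R' ⧸ Ideal.ofList l')] (X : Type u) [AddCommGroup X]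
    [Module A' X] (i : ℤ) (hi : i ≠ 0) : AcycAt A' l' i X := by
  rcases lt_or_gt_of_ne hi with h | h
  · exact acycAt_of_flat_quot l' hK (-i - 1).toNat i (by omega) X
  · exact subsingleton_KH_of_pos _ l' i h

omit hK in
/-- **Koszul-regular with flat quotient ⇒ Koszul-regular on every fibre.** -/
theorem isKoszulRegularSeq_quotient_map_of_flat (hl : LCI.IsKoszulRegularSeq R' l')
    (hflat : Module.Flat A' (R' ⧸ Ideal.ofList l')) (I : Ideal A') :
    LCI.IsKoszulRegularSeq (R' ⧸ I.map (algebraMap A' R'))
      (l'.map (Ideal.Quotient.mk (I.map (algebraMap A' R')))) := by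
  have hK := (isKoszulRegularSeq_iff R' l').mp hl
  unfold LCI.IsKoszulRegularSeq
  intro i hi
  have h1 : Subsingleton (KH l' (R' ⊗[A'] (A' ⧸ I)) i) :=
    acycAt_of_flat_quot' l' hK (A' ⧸ I) i hi
  have h2 : Subsingleton (KH l'
      ((ModuleCat.restrictScalars (Ideal.Quotient.mk (I.map (algebraMap A' R')))).obj
        (ModuleCat.of (R' ⧸ I.map (algebraMap A' R')) (R' ⧸ I.map (algebraMap A' R')))) i) :=
    subsingleton_KH_of_equiv l' (baseEquiv I).symm i h1
  have h3 := Groth.Agent.Lib.Helper5.KindFlat.isZero_homology_of_restrict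
    (Ideal.Quotient.mk (I.map (algebraMap A' R')))
    (ModuleCat.of (R' ⧸ I.map (algebraMap A' R')) (R' ⧸ I.map (algebraMap A' R'))) l' i
    (ModuleCat.isZero_of_subsingleton _)
  exact (isZero_congr (koszul_eq _ _) i).mpr h3

end Groth.Agent.Helper13Synt
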