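import Groth.Agent.Lib.Helper5KzPerm

/-!
# Koszul-regular ideals: flexible localizations, and pull-back along a surjection with Koszul-regular
kernel (helper5)

* `KR I`: `LCI.IsKoszulRegularIdeal I` with an arbitrary model of the localization away from `g`.
* `isZero_homology_append_iff`: for `rs` Koszul-regular, `H^i K(ts ++ rs; A) = 0 ↔ H^i K(ts; A/(rs)) = 0`.
* `isKoszulRegularSeq_quotient_of_append`: the converse of `isKoszulRegularSeq_append`.
* `kr_comap_of_surjective`: `ρ : T → S` surjective with kernel generated by a Koszul-regular sequence,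
  `I` Koszul-regular in `S` ⇒ `ρ⁻¹ I` Koszul-regular in `T`.
-/

set_option autoImplicit false
set_option linter.style.haveILetI false
universe u

open CategoryTheory CategoryTheory.Limits CochainComplex CohIII

namespace Groth.Agent.Lib.Helper5.KzIdeal

open Groth.Agent.Lib.Helper21 Groth.Agent.Helper13Kz Groth.Agent.Helper13KzLift
open Groth.Agent.Lib.Helper5.KzComp Groth.Agent.Lib.Helper5.KzPerm
open Groth.Agent.Lib.Helper5.KindFlat

section Seq

variable {A : Type u} [CommRing A]

theorem isKoszulRegularSeq_map_ringEquiv {R R' : Type u} [CommRing R] [CommRing R']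
    (e : R ≃+* R') (l : List R) (h : LCI.IsKoszulRegularSeq R l) :
    LCI.IsKoszulRegularSeq R' (l.map e) :=
  isKoszulRegularSeq_map_of_flat (e : R →+* R') (RingHom.Flat.of_bijective e.bijective) l h

/-- for `rs` Koszul-regular, the Koszul homology of `ts ++ rs` is that of `ts` on `A/(rs)`. -/
theorem isZero_homology_append_iff (rs ts : List A) (hrs : LCI.IsKoszulRegularSeq A rs) (i : ℤ) :
    IsZero ((koszulCx (ModuleCat.of A A) (ts ++ rs)).homology i) ↔
      IsZero ((koszulCx (Xq (Ideal.ofList rs)) ts).homology i) := by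
  rw [isKoszulRegularSeq_iff] at hrs
  obtain ⟨M', ε, hε⟩ := exists_quasiIso_single (koszulCx (ModuleCat.of A A) rs)
    (isZero_koszulCx_X_pos _ rs)
    (fun j hj => by
      have := hrs j hj.ne
      exact ModuleCat.isZero_of_subsingleton _)
  haveI := hε
  haveI := quasiIso_KcMap ε ts
  let e0 : Xq (Ideal.ofList rs) ≃ₗ[A] M' :=
    equivH0 rs ≪≫ₗ (asIso (HomologicalComplex.homologyMap ε 0)).toLinearEquiv ≪≫ₗ
      (HomologicalComplex.singleObjHomologySelfIso (ComplexShape.up ℤ) 0 M').toLinearEquiv
  have hA : IsZero ((koszulCx (ModuleCat.of A A) (ts ++ rs)).homology i) ↔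
      IsZero ((koszulCx M' ts).homology i) := by
    rw [isZero_congr (Kc_append (ModuleCat.of A A) rs ts) i, isZero_congr (Kc_single M' ts) i]
    exact (asIso (HomologicalComplex.homologyMap (KcMap ε ts) i)).isZero_iff
  rw [hA]
  constructor
  · intro h
    have h3 : Subsingleton (KH ts M' i) := ModuleCat.subsingleton_of_isZero h
    have h2 : Subsingleton (KH ts (Xq (Ideal.ofList rs)) i) :=
      subsingleton_KH_of_equiv ts e0.symm i h3
    exact ModuleCat.isZero_of_subsingleton _
  · intro h
    have h2 : Subsingleton (KH ts (Xq (Ideal.ofList rs)) i) := ModuleCat.subsingleton_of_isZero h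
    have h3 : Subsingleton (KH ts M' i) := subsingleton_KH_of_equiv ts e0 i h2
    exact ModuleCat.isZero_of_subsingleton _

/-- the converse of `isKoszulRegularSeq_append`. -/
theorem isKoszulRegularSeq_quotient_of_append (rs ts : List A)
    (hrs : LCI.IsKoszulRegularSeq A rs) (h : LCI.IsKoszulRegularSeq A (ts ++ rs)) :
    LCI.IsKoszulRegularSeq (A ⧸ Ideal.ofList rs)
      (ts.map (Ideal.Quotient.mk (Ideal.ofList rs))) := by
  have hiff := isZero_homology_append_iff rs ts hrs
  rw [isKoszulRegularSeq_iff] at h ⊢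
  intro i hi
  have h1 : IsZero ((koszulCx (Xq (Ideal.ofList rs)) ts).homology i) := by
    rw [← hiff]
    have := h i hi
    exact ModuleCat.isZero_of_subsingleton _
  have h2 := isZero_homology_of_restrict (Ideal.Quotient.mk (Ideal.ofList rs))
    (ModuleCat.of (A ⧸ Ideal.ofList rs) (A ⧸ Ideal.ofList rs)) ts i h1
  exact ModuleCat.subsingleton_of_isZero h2

/-- converse of composition through a surjection. -/
theorem isKoszulRegularSeq_map_of_append {R S : Type u} [CommRing R] [CommRing S]
    (π : R →+* S) (hπ : Function.Surjective π) (is : List R)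
    (his : LCI.IsKoszulRegularSeq R is) (hI : RingHom.ker π = Ideal.ofList is) (bs : List R)
    (h : LCI.IsKoszulRegularSeq R (bs ++ is)) : LCI.IsKoszulRegularSeq S (bs.map π) := by
  have h1 := isKoszulRegularSeq_quotient_of_append is bs his h
  rw [← hI] at h1
  let Q : (R ⧸ RingHom.ker π) ≃+* S := RingHom.quotientKerEquivOfSurjective hπ
  have h2 := isKoszulRegularSeq_map_ringEquiv Q _ h1
  rw [List.map_map] at h2
  have h3 : (Q : R ⧸ RingHom.ker π → S) ∘ (Ideal.Quotient.mk (RingHom.ker π)) = π := by
    funext x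
    rfl
  rw [h3] at h2
  exact h2

end Seq

section KR

variable {A : Type u} [CommRing A]

/-- `LCI.IsKoszulRegularIdeal` with an arbitrary model of the localization. -/
def KR (I : Ideal A) : Prop :=
  ∀ 𝔭 : Ideal A, 𝔭.IsPrime → I ≤ 𝔭 → ∃ g : A, g ∉ 𝔭 ∧
    ∃ (R' : Type u) (_ : CommRing R') (_ : Algebra A R') (_ : IsLocalization.Away g R')
      (l : List R'), LCI.IsKoszulRegularSeq R' l ∧ I.map (algebraMap A R') = Ideal.ofList l

theorem kr_iff (I : Ideal A) : LCI.IsKoszulRegularIdeal I ↔ KR I := by
  constructor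
  · intro h 𝔭 h𝔭 hI
    obtain ⟨g, hg, l, hl, hIl⟩ := h ⟨𝔭, h𝔭⟩ hI
    exact ⟨g, hg, Localization.Away g, inferInstance, inferInstance, inferInstance, l, hl, hIl⟩
  · intro h 𝔭 hI
    obtain ⟨g, hg, R', _, _, _, l, hl, hIl⟩ := h 𝔭.asIdeal 𝔭.2 hI
    let e : R' ≃ₐ[A] Localization.Away g :=
      IsLocalization.algEquiv (Submonoid.powers g) R' (Localization.Away g)
    refine ⟨g, hg, l.map e, isKoszulRegularSeq_map_ringEquiv e.toRingEquiv l hl, ?_⟩
    have h1 : algebraMap A (Localization.Away g) =
        (e.toRingEquiv : R' →+* Localization.Away g).comp (algebraMap A R') := by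
      ext a
      exact (e.commutes a).symm
    rw [h1, ← Ideal.map_map, hIl, Ideal.map_ofList]
    rfl

end KR

section Loc

variable {T S : Type u} [CommRing T] [CommRing S] (ρ : T →+* S)

/-- localization of a surjection -/
theorem away_map_surjective (hρ : Function.Surjective ρ) (G : T) (T' S' : Type u) [CommRing T']
    [CommRing S'] [Algebra T T'] [Algebra S S'] [IsLocalization.Away G T']
    [IsLocalization.Away (ρ G) S'] :
    Function.Surjective (IsLocalization.Away.map T' S' ρ G) := by
  rw [IsLocalization.Away.map_surjective_iff]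
  intro a
  obtain ⟨b, rfl⟩ := hρ a
  exact ⟨b, 0, by simp⟩

theorem away_map_ker (G : T) (T' S' : Type u) [CommRing T']
    [CommRing S'] [Algebra T T'] [Algebra S S'] [IsLocalization.Away G T']
    [IsLocalization.Away (ρ G) S'] :
    RingHom.ker (IsLocalization.Away.map T' S' ρ G) = (RingHom.ker ρ).map (algebraMap T T') :=
  IsLocalization.ker_map S' ρ (Submonoid.map_powers ρ G)

theorem away_map_algebraMap (G : T) (T' S' : Type u) [CommRing T']
    [CommRing S'] [Algebra T T'] [Algebra S S'] [IsLocalization.Away G T']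
    [IsLocalization.Away (ρ G) S'] (x : T) :
    IsLocalization.Away.map T' S' ρ G (algebraMap T T' x) = algebraMap S S' (ρ x) :=
  IsLocalization.map_eq _ x

/-- extension of a contracted ideal to the localization -/
theorem map_comap_away (G : T) (T' S' : Type u) [CommRing T']
    [CommRing S'] [Algebra T T'] [Algebra S S'] [IsLocalization.Away G T']
    [IsLocalization.Away (ρ G) S'] (I : Ideal S) :
    (I.comap ρ).map (algebraMap T T') =
      (I.map (algebraMap S S')).comap (IsLocalization.Away.map T' S' ρ G) := by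
  refine le_antisymm ?_ ?_
  · rw [Ideal.map_le_iff_le_comap]
    intro x hx
    rw [Ideal.mem_comap, Ideal.mem_comap, away_map_algebraMap]
    exact Ideal.mem_map_of_mem _ hx
  · intro y hy
    rw [Ideal.mem_comap] at hy
    obtain ⟨n, x, hx⟩ := IsLocalization.Away.surj G y
    have h1 : algebraMap S S' (ρ x) ∈ I.map (algebraMap S S') := by
      rw [← away_map_algebraMap ρ G T' S', ← hx, map_mul]
      exact Ideal.mul_mem_right _ _ hy
    rw [IsLocalization.algebraMap_mem_map_algebraMap_iff (Submonoid.powers (ρ G))] at h1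
    obtain ⟨m, ⟨k, rfl⟩, hm⟩ := h1
    have h2 : G ^ k * x ∈ I.comap ρ := by
      rw [Ideal.mem_comap, map_mul, map_pow]
      exact hm
    have h3 : algebraMap T T' (G ^ k * x) ∈ (I.comap ρ).map (algebraMap T T') :=
      Ideal.mem_map_of_mem _ h2
    rw [map_mul, ← hx, map_pow] at h3
    have hu : IsUnit (algebraMap T T' G ^ k * algebraMap T T' G ^ n) :=
      ((IsLocalization.Away.algebraMap_isUnit G).pow k).mul
        ((IsLocalization.Away.algebraMap_isUnit G).pow n)
    have h4 : algebraMap T T' G ^ k * (y * algebraMap T T' G ^ n) =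
        (algebraMap T T' G ^ k * algebraMap T T' G ^ n) * y := by ring
    rw [h4] at h3
    exact (Ideal.unit_mul_mem_iff_mem _ hu).mp h3

end Loc

section Forward

variable {T S : Type u} [CommRing T] [CommRing S]

/-- **pull-back of a Koszul-regular ideal along a surjection with Koszul-regular kernel.** -/
theorem kr_comap_of_surjective (ρ : T →+* S) (hρ : Function.Surjective ρ) (u : List T)
    (hu : LCI.IsKoszulRegularSeq T u) (hker : RingHom.ker ρ = Ideal.ofList u) (I : Ideal S)
    (hI : KR I) : KR (I.comap ρ) := by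
  intro q hq hIq
  have hkq : RingHom.ker ρ ≤ q := by
    intro x hx
    apply hIq
    rw [Ideal.mem_comap, RingHom.mem_ker.mp hx]
    exact I.zero_mem
  haveI := hq
  have hp : (q.map ρ).IsPrime := Ideal.map_isPrime_of_surjective hρ hkq
  have hqp : (q.map ρ).comap ρ = q := by
    rw [Ideal.comap_map_of_surjective ρ hρ, sup_eq_left]
    exact hkq
  have hIp : I ≤ q.map ρ := by
    rw [← Ideal.map_comap_of_surjective ρ hρ I]
    exact Ideal.map_mono hIq
  obtain ⟨g, hg, S', _, _, hloc, l, hl, hIl⟩ := hI (q.map ρ) hp hIp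
  obtain ⟨G, rfl⟩ := hρ g
  have hG : G ∉ q := fun h => hg (Ideal.mem_map_of_mem ρ h)
  haveI := hloc
  let ρ' := IsLocalization.Away.map (Localization.Away G) S' ρ G
  have hρ' : Function.Surjective ρ' := away_map_surjective ρ hρ G _ _
  have hkρ' : RingHom.ker ρ' = Ideal.ofList (u.map (algebraMap T (Localization.Away G))) := by
    rw [away_map_ker, hker, Ideal.map_ofList]
  have hfl : (algebraMap T (Localization.Away G)).Flat := by
    rw [RingHom.flat_algebraMap_iff]
    exact IsLocalization.flat _ (Submonoid.powers G)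
  obtain ⟨ks, -, hks, hK⟩ := exists_koszul_ker_comp ρ' hρ' (Ideal.Quotient.mk (Ideal.ofList l))
    _ (isKoszulRegularSeq_map_of_flat _ hfl u hu) hkρ' l hl Ideal.mk_ker
  refine ⟨G, hG, Localization.Away G, inferInstance, inferInstance, inferInstance, ks, hks, ?_⟩
  rw [map_comap_away ρ G (Localization.Away G) S' I, hIl, ← hK, ← RingHom.comap_ker,
    Ideal.mk_ker]

end Forward

end Groth.Agent.Lib.Helper5.KzIdeal
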