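import Groth.Agent.Lib.Helper13SyntA
import Groth.Agent.Lib.Helper7Synt25
import Groth.Agent.Lib.Helper19LciH1B
import Groth.Agent.Lib.Helper5KzIdeal
import Groth.Agent.Lib.Helper13KzDescB

/-!
# Flat + lci ⇒ syntomic, local step (helper13)

`I ⊆ R[x]` a Koszul-regular ideal, `Q` a prime of `κ(p)[x]` whose contraction `q'` contains `I`,
`R[x]_{q'}/I` flat over `R`.  Then `I κ(p)[x]_Q` is generated by `c ≤ ht` elements (the image of a
local Koszul-regular generating sequence of `I`, which stays Koszul-regular on the fibre by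
`Helper13SyntA`, hence is a regular sequence in the regular local ring `κ(p)[x]_Q`), and so
`(R[x]/I)_g` is a relative global complete intersection, in particular syntomic, for some `g ∉ q'`.
-/

set_option autoImplicit false
set_option linter.style.haveILetI false
set_option linter.unusedSectionVars false
universe u
open MvPolynomial TensorProduct Groth.Agent.Lib.Helper7.Synt Groth.Agent.Lib.Helper7.CIPres
open Groth.Agent.Helper13Kz Groth.Agent.Helper13KzLift

namespace Groth.Agent.Helper13Synt

theorem flat_quot_of_eq {R B : Type u} [CommRing R] [CommRing B] [Algebra R B] {I J : Ideal B}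
    (h : I = J) (hf : Module.Flat R (B ⧸ J)) : Module.Flat R (B ⧸ I) := by
  subst h
  exact hf

variable {R : Type u} [CommRing R] {n : ℕ} (p : Ideal R) [p.IsPrime]
  (Q : Ideal (MvPolynomial (Fin n) p.ResidueField)) [Q.IsPrime]
  (I : Ideal (MvPolynomial (Fin n) R))

local notation "q'" => Ideal.comap (phi p) Q
local notation "B" => Localization.AtPrime (Ideal.comap (phi p) Q)
local notation "L" => Localization.AtPrime Q

/-- the fibre of the local ring `R[x]_{q'}` is `κ(p)[x]_Q`, as rings -/
noncomputable def fibreRingEquiv : (B ⧸ p.map (algebraMap R B)) ≃+* L :=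
  (Ideal.quotEquivOfEq (ker_psi p Q).symm).trans
    (RingHom.quotientKerEquivOfSurjective (psi_surjective p Q))

theorem fibreRingEquiv_mk (b : B) :
    fibreRingEquiv p Q (Ideal.Quotient.mk _ b) = psi p Q b := rfl

set_option maxHeartbeats 1600000 in
theorem exists_generators_height (hI : LCI.IsKoszulRegularIdeal I) (hIQ : I ≤ q')
    (hflat : Module.Flat R (B ⧸ I.map (algebraMap _ B))) :
    ∃ (c : ℕ) (v : Fin c → L),
      Ideal.span (Set.range v) = (I.map (phi p)).map (algebraMap _ L) ∧
      (c : ℕ∞) ≤ ((I.map (phi p)).map (algebraMap _ L)).height := by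
  obtain ⟨g, hg, l, hl, hspan⟩ := hI ⟨q', inferInstance⟩ hIQ
  have hgu : IsUnit (algebraMap (MvPolynomial (Fin n) R) B g) :=
    IsLocalization.map_units B (⟨g, hg⟩ : (q').primeCompl)
  obtain ⟨ψ₀, hψ₀⟩ : ∃ ψ₀ : Localization.Away g →+* B,
      ψ₀.comp (algebraMap _ (Localization.Away g)) = algebraMap _ B :=
    ⟨IsLocalization.Away.lift g hgu, IsLocalization.Away.lift_comp g hgu⟩
  have hflat₀ : ψ₀.Flat := by
    letI : Algebra (Localization.Away g) B := ψ₀.toAlgebra
    haveI : IsScalarTower (MvPolynomial (Fin n) R) (Localization.Away g) B :=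
      IsScalarTower.of_algebraMap_eq' hψ₀.symm
    exact (Module.flat_iff_of_isLocalization (Localization.Away g) (Submonoid.powers g) B).mpr
      inferInstance
  have hlB : LCI.IsKoszulRegularSeq B (l.map ψ₀) :=
    Groth.Agent.Lib.Helper5.KindFlat.isKoszulRegularSeq_map_of_flat ψ₀ hflat₀ l hl
  have hspanB : Ideal.ofList (l.map ψ₀) = I.map (algebraMap _ B) := by
    rw [← Ideal.map_ofList, ← hψ₀, ← Ideal.map_map, hspan]
  haveI : Module.Flat R B := Module.Flat.trans R (MvPolynomial (Fin n) R) B
  have hflat' : Module.Flat R (B ⧸ Ideal.ofList (l.map ψ₀)) := flat_quot_of_eq hspanB hflat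
  have hfib := isKoszulRegularSeq_quotient_map_of_flat (A' := R) (R' := B) (l.map ψ₀) hlB hflat' p
  have hL := Groth.Agent.Lib.Helper5.KzIdeal.isKoszulRegularSeq_map_ringEquiv
    (fibreRingEquiv p Q) _ hfib
  have hlist : ((l.map ψ₀).map (Ideal.Quotient.mk (p.map (algebraMap R B)))).map
      (fibreRingEquiv p Q) = (l.map ψ₀).map (psi p Q) := by
    rw [List.map_map]
    rfl
  rw [hlist] at hL
  have hcomp : (psi p Q).comp (algebraMap (MvPolynomial (Fin n) R) B) =
      (algebraMap _ L).comp (phi p) := RingHom.ext fun x => psi_algebraMap p Q x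
  have hspanL : Ideal.ofList ((l.map ψ₀).map (psi p Q)) =
      (I.map (phi p)).map (algebraMap _ L) := by
    rw [← Ideal.map_ofList, hspanB, Ideal.map_map, hcomp, ← Ideal.map_map]
  have hle : (I.map (phi p)).map (algebraMap _ L) ≤ IsLocalRing.maximalIdeal L := by
    rw [← Localization.AtPrime.map_eq_maximalIdeal]
    exact Ideal.map_mono (Ideal.map_le_iff_le_comap.mpr hIQ)
  have hJ : (I.map (phi p)).map (algebraMap _ L) ≠ ⊤ := fun h =>
    (IsLocalRing.maximalIdeal.isMaximal L).ne_top (top_le_iff.mp (h ▸ hle))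
  have hmem : ∀ y ∈ (l.map ψ₀).map (psi p Q), y ∈ IsLocalRing.maximalIdeal L := by
    intro y hy
    apply hle
    rw [← hspanL]
    exact Ideal.subset_span hy
  have hreg := Groth.Agent.Lib.Helper19.LciH1.isWeaklyRegular_reverse_of_koszul L
    ((l.map ψ₀).map (psi p Q)) hmem ((isKoszulRegularSeq_iff _ _).mp hL)
  haveI := isRegularLocalRing_localization_mvPolynomial p.ResidueField n Q
  have hrev : Ideal.ofList ((l.map ψ₀).map (psi p Q)).reverse =
      (I.map (phi p)).map (algebraMap _ L) := by
    rw [Groth.Agent.Lib.Helper19.LciH1.ofList_reverse, hspanL]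
  have hgood : Good L ((I.map (phi p)).map (algebraMap _ L)) := by
    refine (regular_iff_good _ hJ).mp ⟨((l.map ψ₀).map (psi p Q)).reverse, hrev, hreg, ?_⟩
    rw [hrev, smul_eq_mul, Ideal.mul_top]
    exact fun h => hJ h.symm
  exact (Groth.Agent.Lib.Helper7.Synt.good_iff_height _ hJ).mp hgood

end Groth.Agent.Helper13Synt
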