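import Groth.Agent.Lib.Helper13SyntB
import Groth.Agent.S9146

/-!
# Flat + lci ⇒ syntomic (helper13)

`isSyntomic_quotient_of_flat_of_kr`: `R[x]/I` flat over `R` with `I` a Koszul-regular ideal is
syntomic over `R`.  `isSyntomic_of_flat_of_isLCI`: a flat local complete intersection ring map is
syntomic.
-/

set_option autoImplicit false
set_option linter.style.haveILetI false
set_option linter.unusedSectionVars false
universe u
open MvPolynomial TensorProduct Groth.Agent.Lib.Helper7.Synt Groth.Agent.Lib.Helper7.CIPres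
open Groth.Agent.Helper13Kz Groth.Agent.Helper13KzLift

namespace Groth.Agent.Helper13Synt

section Local

variable {R : Type u} [CommRing R] {n : ℕ} (p : Ideal R) [p.IsPrime]
  (Q : Ideal (MvPolynomial (Fin n) p.ResidueField)) [Q.IsPrime]
  (I : Ideal (MvPolynomial (Fin n) R))

local notation "q'" => Ideal.comap (phi p) Q
local notation "B" => Localization.AtPrime (Ideal.comap (phi p) Q)

theorem exists_isSyntomic_away (hI : LCI.IsKoszulRegularIdeal I) (hIQ : I ≤ q')
    (hflat : Module.Flat R (B ⧸ I.map (algebraMap _ B))) :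
    ∃ g₀ : MvPolynomial (Fin n) R, g₀ ∉ q' ∧
      Synt.IsSyntomic R (Localization.Away (Ideal.Quotient.mk I g₀)) := by
  obtain ⟨c, v, hv, hc⟩ := exists_generators_height p Q I hI hIQ hflat
  obtain ⟨f, g₀, h, hg₀, hGCI, ⟨e⟩⟩ := exists_relGCI_away_of_flat_of_fibre p Q I
    (Groth.Agent.Helper13KzDesc.fg_of_isKoszulRegularIdeal hI) hIQ hflat c v hv hc
  exact ⟨g₀, hg₀, isSyntomic_of_algEquiv e.symm (isSyntomic_relGCIRing _ hGCI)⟩

end Local

section Global

variable {R : Type u} [CommRing R] {n : ℕ} (I : Ideal (MvPolynomial (Fin n) R))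

theorem exists_isSyntomic_away_of_prime (hI : LCI.IsKoszulRegularIdeal I)
    (hflat : Module.Flat R (MvPolynomial (Fin n) R ⧸ I))
    (q : Ideal (MvPolynomial (Fin n) R ⧸ I)) [q.IsPrime] :
    ∃ g : MvPolynomial (Fin n) R ⧸ I, g ∉ q ∧ Synt.IsSyntomic R (Localization.Away g) := by
  haveI hq₁ : (q.comap (Ideal.Quotient.mk I)).IsPrime := Ideal.comap_isPrime _ _
  obtain ⟨Q, hQ, hQq⟩ := exists_prime_comap_phi_eq (q.comap (Ideal.Quotient.mk I))
  haveI := hQ
  have hIq : I ≤ q.comap (Ideal.Quotient.mk I) := by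
    intro x hx
    rw [Ideal.mem_comap, Ideal.Quotient.eq_zero_iff_mem.mpr hx]
    exact q.zero_mem
  have hflat2 : Module.Flat R (Localization.AtPrime (q.comap (Ideal.Quotient.mk I)) ⧸
      I.map (algebraMap (MvPolynomial (Fin n) R)
        (Localization.AtPrime (q.comap (Ideal.Quotient.mk I))))) := by
    haveI := isLocalization_atPrime_quotient I q
    haveI : IsScalarTower R (MvPolynomial (Fin n) R ⧸ I)
        (Localization.AtPrime (q.comap (Ideal.Quotient.mk I)) ⧸
          I.map (algebraMap (MvPolynomial (Fin n) R)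
            (Localization.AtPrime (q.comap (Ideal.Quotient.mk I))))) :=
      isScalarTower_quotient_map I
    let ε : (Localization.AtPrime (q.comap (Ideal.Quotient.mk I)) ⧸
        I.map (algebraMap (MvPolynomial (Fin n) R)
          (Localization.AtPrime (q.comap (Ideal.Quotient.mk I))))) ≃ₐ[MvPolynomial (Fin n) R ⧸ I]
        Localization.AtPrime q := IsLocalization.algEquiv q.primeCompl
          (Localization.AtPrime (q.comap (Ideal.Quotient.mk I)) ⧸
            I.map (algebraMap (MvPolynomial (Fin n) R)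
              (Localization.AtPrime (q.comap (Ideal.Quotient.mk I))))) (Localization.AtPrime q)
    haveI : Module.Flat R (Localization.AtPrime q) :=
      Module.Flat.trans R (MvPolynomial (Fin n) R ⧸ I) (Localization.AtPrime q)
    exact Module.Flat.of_linearEquiv (ε.restrictScalars R).toLinearEquiv
  have hflat3 : Module.Flat R (Localization.AtPrime
      (Q.comap (phi (Ideal.comap (algebraMap R (MvPolynomial (Fin n) R))
        (q.comap (Ideal.Quotient.mk I))))) ⧸
      I.map (algebraMap (MvPolynomial (Fin n) R) (Localization.AtPrime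
        (Q.comap (phi (Ideal.comap (algebraMap R (MvPolynomial (Fin n) R))
          (q.comap (Ideal.Quotient.mk I)))))))) :=
    transport_prime hQq.symm (fun q₁ _ => Module.Flat R (Localization.AtPrime q₁ ⧸
      I.map (algebraMap (MvPolynomial (Fin n) R) (Localization.AtPrime q₁)))) hflat2
  obtain ⟨g₀, hg₀, hsynt⟩ := exists_isSyntomic_away _ Q I hI (by rw [hQq]; exact hIq) hflat3
  refine ⟨Ideal.Quotient.mk I g₀, fun hmem => hg₀ ?_, hsynt⟩
  rw [hQq]
  exact hmem

/-- `R[x]/I` with `I` Koszul-regular and `R[x]/I` flat over `R` is syntomic over `R` -/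
theorem isSyntomic_quotient_of_flat_of_kr (hI : LCI.IsKoszulRegularIdeal I)
    (hflat : Module.Flat R (MvPolynomial (Fin n) R ⧸ I)) :
    Synt.IsSyntomic R (MvPolynomial (Fin n) R ⧸ I) := by
  have hT : Ideal.span {g : MvPolynomial (Fin n) R ⧸ I |
      Synt.IsSyntomic R (Localization.Away g)} = ⊤ := by
    by_contra hne
    obtain ⟨m, hm, hle⟩ := Ideal.exists_le_maximal _ hne
    haveI := hm.isPrime
    obtain ⟨g, hg, hsynt⟩ := exists_isSyntomic_away_of_prime I hI hflat m
    exact hg (hle (Ideal.subset_span hsynt))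
  obtain ⟨s, hsub, hs⟩ := (Ideal.span_eq_top_iff_finite _).mp hT
  exact Groth.Agent.S9146.result R _ s hs (fun g hg => hsub hg)

end Global

/-- **flat + lci ⇒ syntomic** -/
theorem isSyntomic_of_flat_of_isLCI (R S : Type u) [CommRing R] [CommRing S] [Algebra R S]
    (hflat : Module.Flat R S) (hlci : LCI.IsLCI R S) : Synt.IsSyntomic R S := by
  obtain ⟨-, n, f, hf, hK⟩ := hlci
  let ρ : (MvPolynomial (Fin n) R ⧸ RingHom.ker f.toRingHom) ≃ₐ[R] S :=
    Ideal.quotientKerAlgEquivOfSurjective hf
  have hflat' : Module.Flat R (MvPolynomial (Fin n) R ⧸ RingHom.ker f.toRingHom) :=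
    Module.Flat.of_linearEquiv ρ.toLinearEquiv
  exact isSyntomic_of_algEquiv ρ (isSyntomic_quotient_of_flat_of_kr _ hK hflat')

end Groth.Agent.Helper13Synt
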