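import Mathlib
import Groth.Agent.Lib.Helper28ProjNormal
import Groth.Agent.Lib.Helper13Acyc

/-!
# Cohen–Macaulay local rings: slicing down to dimension zero; isolated points (helper5)

* `exists_regular_quotient_dim_zero`: a Cohen–Macaulay local ring has a weakly regular sequence in the
  maximal ideal whose quotient is Cohen–Macaulay of dimension zero.
* `isOpen_singleton_of_isClosed_of_dim_zero`: in a locally Noetherian scheme, a closed point whose
  local ring has dimension zero is isolated.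
-/

set_option autoImplicit false
set_option linter.style.haveILetI false
universe u
open CategoryTheory AlgebraicGeometry RingTheory.Sequence IsLocalRing

namespace Groth.Agent.Lib.Helper5.SliceListCM
open Groth.Agent.Lib.Helper28

theorem exists_regular_quotient_dim_zero (R : Type u) [CommRing R]
    [hR : LocCoh.IsCohenMacaulayLocalRing R] :
    ∃ rs : List R, IsWeaklyRegular R rs ∧ (∀ r ∈ rs, r ∈ maximalIdeal R) ∧
      ∃ _ : LocCoh.IsCohenMacaulayLocalRing (R ⧸ Ideal.ofList rs),
        ringKrullDim (R ⧸ Ideal.ofList rs) = 0 := by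
  haveI : IsNoetherianRing R := inferInstance
  haveI : IsLocalRing R := inferInstance
  have hCM : LocCoh.IsCohenMacaulayModule R R := hR.supportDim_eq_depth
  have hdimlt : ringKrullDim R < ⊤ := ringKrullDim_lt_top
  have hdep : LocCoh.depth R R ≠ ⊤ := by
    intro h
    have h1 := hR.supportDim_eq_depth
    rw [Module.supportDim_self_eq_ringKrullDim, h] at h1
    rw [h1] at hdimlt
    exact lt_irrefl _ hdimlt
  obtain ⟨d, hd⟩ := ENat.ne_top_iff_exists.mp hdep
  obtain ⟨rs, hrs, hmem, hlen, -⟩ := Groth.Agent.Helper13Acyc.exists_max_regular_seq d hd.symm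
  refine ⟨rs, hrs, hmem, ?_⟩
  have hCMq := isCohenMacaulayModule_quot_ofList (M := R) hCM rs hmem hrs
  have hmM : maximalIdeal R • (⊤ : Submodule R R) ≠ ⊤ := maximalIdeal_smul_top_ne_top
  have hdimq := Module.supportDim_add_length_eq_supportDim_of_isRegular rs
    (isRegular_of_isWeaklyRegular_of_mem hrs hmem hmM)
  obtain ⟨I, hI⟩ : ∃ I : Ideal R, I = Ideal.ofList rs := ⟨_, rfl⟩
  rw [← hI] at hCMq hdimq ⊢
  have hne : I ≠ ⊤ := fun h => (maximalIdeal.isMaximal R).ne_top
    (top_le_iff.mp (h ▸ hI ▸ ofList_le_of_forall_mem hmem))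
  haveI hlocT : IsLocalRing (R ⧸ I) := Groth.Agent.Lib.Helper5.isLocalRing_quotient hne
  have eL : (R ⧸ (I • ⊤ : Submodule R R)) ≃ₗ[R] (R ⧸ I) :=
    Submodule.quotEquivOfEq _ _ (by rw [smul_eq_mul, Ideal.mul_top])
  unfold LocCoh.IsCohenMacaulayModule at hCMq
  rw [Module.supportDim_eq_of_equiv eL, Module.supportDim_quotient_eq_ringKrullDim] at hCMq hdimq
  have hdepth : LocCoh.depth R (R ⧸ (I • ⊤ : Submodule R R)) =
      LocCoh.depth (R ⧸ I) (R ⧸ I) := by
    rw [depth_quotient_self_eq]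
    exact idealDepth_congr eL _
  rw [hdepth] at hCMq
  have hTCM : LocCoh.IsCohenMacaulayLocalRing (R ⧸ I) :=
    { supportDim_eq_depth := by rw [Module.supportDim_self_eq_ringKrullDim]; exact hCMq }
  refine ⟨hTCM, ?_⟩
  rw [Module.supportDim_self_eq_ringKrullDim, hlen] at hdimq
  have h1 := hR.supportDim_eq_depth
  rw [Module.supportDim_self_eq_ringKrullDim, ← hd] at h1
  rw [h1] at hdimq
  have h2 : ringKrullDim (R ⧸ I) + (d : WithBot ℕ∞) = (0 : WithBot ℕ∞) + (d : WithBot ℕ∞) := by
    rw [zero_add]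
    exact hdimq
  exact withBot_enat_add_natCast_cancel h2

theorem isOpen_singleton_of_noetherian {R : Type*} [CommRing R] [IsNoetherianRing R]
    (x : PrimeSpectrum R) (h₁ : IsClosed ({x} : Set (PrimeSpectrum R)))
    (h₂ : ∀ q : PrimeSpectrum R, q ⤳ x → q = x) : IsOpen ({x} : Set (PrimeSpectrum R)) := by
  rw [PrimeSpectrum.isClosed_singleton_iff_isMaximal, ← PrimeSpectrum.isMax_iff] at h₁
  suffices {x} = (⋃ p ∈ { p : PrimeSpectrum R | IsMin p ∧ p ≠ x }, closure {p})ᶜ by
    rw [this, isOpen_compl_iff]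
    refine Set.Finite.isClosed_biUnion ?_ (fun _ _ ↦ isClosed_closure)
    exact (PrimeSpectrum.finite_setOfPred_isMin R).subset fun x h ↦ h.1
  ext p
  simp only [Set.mem_singleton_iff, ne_eq, Set.mem_ofPred_eq, Set.compl_iUnion, Set.mem_iInter,
    Set.mem_compl_iff, and_imp, ← specializes_iff_mem_closure, ← PrimeSpectrum.le_iff_specializes,
    not_imp_not]
  constructor
  · rintro rfl q _ hq
    exact h₂ q ((PrimeSpectrum.le_iff_specializes _ _).mp hq)
  · intro hp
    apply h₁.eq_of_ge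
    obtain ⟨q, hq, hq'⟩ := Ideal.exists_minimalPrimes_le (J := p.asIdeal) bot_le
    exact (hp ⟨q, hq.1.1⟩ (PrimeSpectrum.isMin_iff.mpr hq) hq').ge.trans hq'

theorem isOpen_singleton_of_isClosed_of_dim_zero (F : Scheme.{u}) [IsLocallyNoetherian F] (z : F)
    (hcl : IsClosed ({z} : Set F)) (hdim : ringKrullDim (F.presheaf.stalk z) = 0) :
    IsOpen ({z} : Set F) := by
  have hgen : ∀ z' : F, z' ⤳ z → z' = z := by
    intro z' h
    have hmem : z' ∈ Set.range (F.fromSpecStalk z) := by
      rw [Scheme.range_fromSpecStalk]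
      exact h
    obtain ⟨p, rfl⟩ := hmem
    haveI : Ring.KrullDimLE 0 (F.presheaf.stalk z) := Ring.krullDimLE_iff.mpr hdim.le
    have hp : p = closedPoint (F.presheaf.stalk z) := by
      apply PrimeSpectrum.ext
      have hmax : p.asIdeal.IsMaximal := Ideal.IsPrime.isMaximal' p.isPrime
      exact IsLocalRing.eq_maximalIdeal hmax
    rw [hp, Scheme.fromSpecStalk_closedPoint]
  obtain ⟨_, ⟨W : F.Opens, hW, rfl⟩, hzW, -⟩ :=
    F.isBasis_affineOpens.exists_subset_of_mem_open (Set.mem_univ z) isOpen_univ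
  haveI : IsNoetherianRing Γ(F, W) := IsLocallyNoetherian.component_noetherian ⟨W, hW⟩
  obtain ⟨p, hp⟩ : ∃ p : Spec Γ(F, W), p = hW.primeIdealOf ⟨z, hzW⟩ := ⟨_, rfl⟩
  have hpz : hW.fromSpec p = z := by rw [hp]; exact hW.fromSpec_primeIdealOf ⟨z, hzW⟩
  have hinj := hW.fromSpec.isOpenEmbedding.injective
  have hclp : IsClosed ({p} : Set (Spec Γ(F, W))) := by
    have h1 : ({p} : Set (Spec Γ(F, W))) = hW.fromSpec ⁻¹' {z} := by
      ext q
      simp only [Set.mem_singleton_iff, Set.mem_preimage]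
      constructor
      · rintro rfl
        exact hpz
      · intro h
        exact hinj (h.trans hpz.symm)
    rw [h1]
    exact hcl.preimage hW.fromSpec.continuous
  have hgenp : ∀ q : Spec Γ(F, W), q ⤳ p → q = p := by
    intro q hq
    have h1 : hW.fromSpec q ⤳ hW.fromSpec p := hq.map hW.fromSpec.continuous
    rw [hpz] at h1
    exact hinj ((hgen _ h1).trans hpz.symm)
  have hopen : IsOpen ({p} : Set (Spec Γ(F, W))) :=
    isOpen_singleton_of_noetherian (R := Γ(F, W)) p hclp hgenp
  have h2 : ({z} : Set F) = hW.fromSpec '' {p} := by rw [Set.image_singleton, hpz]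
  rw [h2]
  exact hW.fromSpec.isOpenEmbedding.isOpenMap _ hopen

end Groth.Agent.Lib.Helper5.SliceListCM
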