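import Mathlib
import Groth.Agent.Lib.Helper7Synt20
import Groth.Agent.Lib.Helper5FlatCMFibres
import Groth.Agent.Lib.Helper5SliceListCM
import Groth.Agent.Lib.Helper5RLR3

set_option autoImplicit false
set_option linter.style.haveILetI false
universe u
open RingTheory.Sequence IsLocalRing

namespace Groth.Agent.Helper13SyntCM
open Groth.Agent.Lib.Helper28

/-- A Cohen–Macaulay local ring modulo a weakly regular sequence in the maximal ideal is CM. -/
theorem isCohenMacaulayLocalRing_quot_ofList (R : Type u) [CommRing R]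
    [hR : LocCoh.IsCohenMacaulayLocalRing R] (rs : List R) (hrs : IsWeaklyRegular R rs)
    (hmem : ∀ r ∈ rs, r ∈ maximalIdeal R) :
    LocCoh.IsCohenMacaulayLocalRing (R ⧸ Ideal.ofList rs) := by
  haveI : IsNoetherianRing R := inferInstance
  haveI : IsLocalRing R := inferInstance
  have hCM : LocCoh.IsCohenMacaulayModule R R := hR.supportDim_eq_depth
  have hCMq := isCohenMacaulayModule_quot_ofList (M := R) hCM rs hmem hrs
  obtain ⟨I, hI⟩ : ∃ I : Ideal R, I = Ideal.ofList rs := ⟨_, rfl⟩
  rw [← hI] at hCMq ⊢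
  have hne : I ≠ ⊤ := fun h => (maximalIdeal.isMaximal R).ne_top
    (top_le_iff.mp (h ▸ hI ▸ ofList_le_of_forall_mem hmem))
  haveI hlocT : IsLocalRing (R ⧸ I) := Groth.Agent.Lib.Helper5.isLocalRing_quotient hne
  have eL : (R ⧸ (I • ⊤ : Submodule R R)) ≃ₗ[R] (R ⧸ I) :=
    Submodule.quotEquivOfEq _ _ (by rw [smul_eq_mul, Ideal.mul_top])
  unfold LocCoh.IsCohenMacaulayModule at hCMq
  rw [Module.supportDim_eq_of_equiv eL, Module.supportDim_quotient_eq_ringKrullDim] at hCMq
  have hdepth : LocCoh.depth R (R ⧸ (I • ⊤ : Submodule R R)) =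
      LocCoh.depth (R ⧸ I) (R ⧸ I) := by
    rw [depth_quotient_self_eq]
    exact idealDepth_congr eL _
  rw [hdepth] at hCMq
  exact { supportDim_eq_depth := by rw [Module.supportDim_self_eq_ringKrullDim]; exact hCMq }

/-- A local complete intersection over a field (in the sense of `Synt.IsCIOver`) is CM. -/
theorem isCohenMacaulayLocalRing_of_isCIOver (k : Type u) [Field k] (S : Type u) [CommRing S]
    [Algebra k S] [IsLocalRing S] (h : Synt.IsCIOver k S) : LocCoh.IsCohenMacaulayLocalRing S := by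
  obtain ⟨R, _, _, _, -, rs, hmem, hreg, ⟨e⟩⟩ := h
  haveI : LocCoh.IsCohenMacaulayLocalRing R :=
    Groth.Agent.Lib.Helper5.isCohenMacaulayLocalRing_of_isRegularLocalRing R
  haveI := isCohenMacaulayLocalRing_quot_ofList R rs hreg.toIsWeaklyRegular hmem
  exact isCohenMacaulayLocalRing_of_ringEquiv e.symm.toRingEquiv

end Groth.Agent.Helper13SyntCM
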