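import Mathlib
import Groth.Agent.Lib.Helper5FlatCMFibres
import Groth.Agent.Lib.Helper28SkLift

/-!
# Helper5TensorSk: `(S_n)` for tensor products over a field (EGA IV 6.7.x-type)

* `hasSk_self_of_ringEquiv`;
* `hasSk_of_flat_of_fibres`: `(S_n)` ascends along flat maps with `(S_n)` fibres;
* `hasSk_baseChange_field`: `T (S_n) ⇒ T ⊗[k] K (S_n)`;
* `hasSk_tensor`.
-/

set_option autoImplicit false
universe u

namespace Groth.Agent.Lib.Helper5.TensorSk
open Groth.Agent.Lib.Helper28 Groth.Agent.Lib.Helper5 Groth.Agent.Lib.Helper5.FlatCMFibres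
  TensorProduct

theorem hasSk_self_of_ringEquiv {R S : Type u} [CommRing R] [CommRing S] [IsNoetherianRing R]
    [IsNoetherianRing S] (e : R ≃+* S) (n : ℕ) (h : LocCoh.HasSk n R R) : LocCoh.HasSk n S S := by
  rw [hasSk_self_iff_enat] at h ⊢
  intro q hq
  have hp : (q.comap (e : R →+* S)).IsPrime := Ideal.comap_isPrime _ _
  have h1 := h (q.comap (e : R →+* S))
  have h2 : (q.comap (e : R →+* S)).height = q.height := RingEquiv.height_comap e q
  have h3 := depth_self_eq_of_ringEquiv
    (Localization.localRingEquiv (q.comap (e : R →+* S)) q e rfl)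
  rw [← h2, ← h3]
  exact h1

section Ascent

variable {A B : Type u} [CommRing A] [CommRing B] [IsNoetherianRing A] [IsNoetherianRing B]
  [Algebra A B] [Module.Flat A B]

/-- `(S_n)` ascends along flat maps with `(S_n)` fibres. -/
theorem hasSk_of_flat_of_fibres (n : ℕ) (hA : LocCoh.HasSk n A A)
    (hfib : ∀ (p : Ideal A) [p.IsPrime], LocCoh.HasSk n (p.Fiber B) (p.Fiber B)) :
    LocCoh.HasSk n B B := by
  rw [hasSk_self_iff_enat] at hA ⊢
  rw [forall_hasSk_fiber_iff] at hfib
  intro Q hQ
  have h1 := hA (Q.comap (algebraMap A B))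
  have h2 := hfib Q
  haveI : IsLocalRing (EGA4.FibLocRing A B Q) := isLocalRing_fibLocRing (A := A) Q
  rw [snLocalRing_iff] at h2
  rw [height_eq_height_fibLocRing_add (A := A) Q, depth_localization_eq_add_fibLocRing (A := A) Q]
  calc min (n : ℕ∞) ((IsLocalRing.maximalIdeal (EGA4.FibLocRing A B Q)).height +
          (Q.comap (algebraMap A B)).height)
      ≤ min (n : ℕ∞) (IsLocalRing.maximalIdeal (EGA4.FibLocRing A B Q)).height +
          min (n : ℕ∞) (Q.comap (algebraMap A B)).height := min_natCast_add_le n _ _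
    _ ≤ LocCoh.depth (EGA4.FibLocRing A B Q) (EGA4.FibLocRing A B Q) +
          LocCoh.depth (Localization.AtPrime (Q.comap (algebraMap A B)))
            (Localization.AtPrime (Q.comap (algebraMap A B))) := add_le_add h2 h1
    _ = _ := add_comm _ _

end Ascent

theorem hasSk_baseChange_field (k T K : Type u) [Field k] [CommRing T] [Algebra k T]
    [IsNoetherianRing T] [Field K] [Algebra k K]
    (hft : Algebra.FiniteType k T ∨ Algebra.EssFiniteType k K) [IsNoetherianRing (T ⊗[k] K)]
    (n : ℕ) (hT : LocCoh.HasSk n T T) : LocCoh.HasSk n (T ⊗[k] K) (T ⊗[k] K) := by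
  have hF : ∀ (Q : Ideal (T ⊗[k] K)) [Q.IsPrime],
      LocCoh.IsCohenMacaulayLocalRing (EGA4.FibLocRing T (T ⊗[k] K) Q) :=
    fun Q _ => cm_fibres_baseChange_field k T K hft Q
  rw [hasSk_self_iff_enat] at hT ⊢
  intro Q hQ
  have h1 : EGA4.HasSkAt n T T (Q.comap (algebraMap T (T ⊗[k] K))) :=
    (hasSkAt_self_iff n _).mpr (fun p₁ _ _ => hT p₁)
  have h2 := (hasSkAt_iff_of_cm_fibres n hF Q).mp h1
  exact (hasSkAt_self_iff n Q).mp h2 Q le_rfl

theorem hasSk_tensor_right_ft (n : ℕ) (k S T : Type u) [Field k] [CommRing S] [CommRing T]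
    [Algebra k S] [Algebra k T] [IsNoetherianRing S] [IsNoetherianRing T] [Algebra.FiniteType k T]
    [IsNoetherianRing (S ⊗[k] T)] (hS : LocCoh.HasSk n S S) (hT : LocCoh.HasSk n T T) :
    LocCoh.HasSk n (S ⊗[k] T) (S ⊗[k] T) := by
  refine hasSk_of_flat_of_fibres (A := S) n hS ?_
  intro p hp
  haveI : IsNoetherianRing (p.ResidueField ⊗[k] T) :=
    Algebra.FiniteType.isNoetherianRing p.ResidueField (p.ResidueField ⊗[k] T)
  haveI : IsNoetherianRing (T ⊗[k] p.ResidueField) :=
    isNoetherianRing_of_ringEquiv _ (Algebra.TensorProduct.comm k p.ResidueField T).toRingEquiv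
  haveI : IsNoetherianRing (p.Fiber (S ⊗[k] T)) := isNoetherianRing_fiber p
  have h1 := hasSk_baseChange_field k T p.ResidueField (Or.inl inferInstance) n hT
  exact hasSk_self_of_ringEquiv
    ((Algebra.TensorProduct.comm k T p.ResidueField).toRingEquiv.trans
      (Algebra.TensorProduct.cancelBaseChange k S p.ResidueField p.ResidueField
        T).symm.toRingEquiv) n h1

theorem hasSk_tensor (n : ℕ) (k S T : Type u) [Field k] [CommRing S] [CommRing T]
    [Algebra k S] [Algebra k T] [IsNoetherianRing S] [IsNoetherianRing T]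
    (hft : Algebra.FiniteType k S ∨ Algebra.FiniteType k T)
    [IsNoetherianRing (S ⊗[k] T)] (hS : LocCoh.HasSk n S S) (hT : LocCoh.HasSk n T T) :
    LocCoh.HasSk n (S ⊗[k] T) (S ⊗[k] T) := by
  rcases hft with h | h
  · haveI := h
    haveI : IsNoetherianRing (T ⊗[k] S) :=
      isNoetherianRing_of_ringEquiv _ (Algebra.TensorProduct.comm k S T).toRingEquiv
    exact hasSk_self_of_ringEquiv (Algebra.TensorProduct.comm k T S).toRingEquiv n
      (hasSk_tensor_right_ft n k T S hT hS)
  · haveI := h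
    exact hasSk_tensor_right_ft n k S T hS hT

end Groth.Agent.Lib.Helper5.TensorSk
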