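import Mathlib
import Groth.Prelude.Def_EGA4b
import Groth.Agent.S9408
import Groth.Agent.Lib.Helper28FormalFibres
import Groth.Agent.Lib.Helper28RegDescent

set_option autoImplicit false
universe u
open TensorProduct

namespace Groth.Agent.Lib.Helper6.SmRk

theorem hasRk_of_isRegularRing (k : ℕ) (R : Type u) [CommRing R] [IsRegularRing R] :
    LocCoh.HasRk k R := fun p _ _ => (isRegularRing_iff.mp ‹_›) p

theorem main (A B : Type u) [CommRing A] [CommRing B] [IsNoetherianRing A] [IsNoetherianRing B]
    [Algebra A B] [Algebra.Smooth A B] (k : ℕ) :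
    (LocCoh.HasRk k A → LocCoh.HasRk k B) ∧
    (Module.FaithfullyFlat A B → LocCoh.HasRk k B → LocCoh.HasRk k A) := by
  refine ⟨fun hA => ?_, fun hff hB => ?_⟩
  · refine Groth.Agent.Lib.Helper28.hasRk_of_flat_of_forall_hasRk_fiber k hA fun p hp => ?_
    haveI : Algebra.Smooth p.ResidueField (p.Fiber B) := inferInstance
    haveI : IsRegularRing (p.Fiber B) := Groth.Agent.S9408.isRegularRing_of_smooth p.ResidueField _
    exact hasRk_of_isRegularRing k _
  · exact (Groth.Agent.Lib.Helper28.hasRk_of_faithfullyFlat (R := A) (S := B) k hB).2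

end Groth.Agent.Lib.Helper6.SmRk
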