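import Mathlib
import Groth.Agent.Lib.Helper5FlatCMFibres
import Groth.Agent.Lib.Helper5TensorSk
import Groth.Agent.Lib.Helper6SmRk
import Groth.Agent.Lib.Helper28Normal
import Groth.Agent.Lib.Helper28SecFiniteC

set_option autoImplicit false
set_option linter.style.haveILetI false
universe u

namespace Groth.Agent.Lib.Helper7.SmSkRk
open TensorProduct Groth.Agent.Lib.Helper28

/-- local `(S_n)` / `(R_n)` comparison along a smooth map of Noetherian rings -/
theorem main (A B : Type u) [CommRing A] [CommRing B] [IsNoetherianRing A] [Algebra A B]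
    [Algebra.Smooth A B] (n : ℕ) (p : Ideal A) [hp : p.IsPrime] (Q : Ideal B) [hQ : Q.IsPrime]
    (hQp : Q.comap (algebraMap A B) = p) :
    (LocCoh.HasSk n (Localization.AtPrime Q) (Localization.AtPrime Q) ↔
      LocCoh.HasSk n (Localization.AtPrime p) (Localization.AtPrime p)) ∧
    (LocCoh.HasRk n (Localization.AtPrime Q) ↔ LocCoh.HasRk n (Localization.AtPrime p)) := by
  subst hQp
  haveI : IsNoetherianRing B := Algebra.FiniteType.isNoetherianRing A B
  have hreg : ∀ (q : Ideal B) [q.IsPrime], IsRegularLocalRing (EGA4.FibLocRing A B q) := by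
    rw [← forall_localization_fiber_iff (A := A) (B := B) (fun R _ => IsRegularLocalRing R)
      (fun R S _ _ e h => IsRegularLocalRing.of_ringEquiv e)]
    intro p hp Q hQ
    haveI : Algebra.Smooth p.ResidueField (p.Fiber B) := inferInstance
    haveI : IsRegularRing (p.Fiber B) := Groth.Agent.S9408.isRegularRing_of_smooth p.ResidueField _
    infer_instance
  have hCM : ∀ (q : Ideal B) [q.IsPrime],
      LocCoh.IsCohenMacaulayLocalRing (EGA4.FibLocRing A B q) := fun q _ =>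
    Groth.Agent.Lib.Helper5.isCohenMacaulayLocalRing_of_isRegularLocalRing _
  constructor
  · rw [hasSk_localization_atPrime_iff, hasSk_localization_atPrime_iff]
    have h := Groth.Agent.Lib.Helper5.FlatCMFibres.hasSkAt_iff_of_cm_fibres (A := A) (B := B) n hCM Q
    rw [Groth.Agent.Lib.Helper5.FlatCMFibres.hasSkAt_self_iff,
      Groth.Agent.Lib.Helper5.FlatCMFibres.hasSkAt_self_iff] at h
    simp only [withBot_min_natCast_le_iff]
    exact h.symm
  · constructor
    · intro h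
      exact hasRk_localization_comap_of_flat (R := A) (S := B) n Q h
    · intro h
      rw [hasRk_localization_atPrime_iff] at h ⊢
      intro Q₁ hQ₁ hle hht
      haveI := isLocalRing_fibLocRing (A := A) Q₁
      have hh := height_eq_height_fibLocRing_add (A := A) Q₁
      have h1 : (Q₁.comap (algebraMap A B)).height ≤ n := by
        refine le_trans ?_ hht
        rw [hh]
        exact le_add_self
      have hA := h (Q₁.comap (algebraMap A B)) (Ideal.comap_mono hle) h1
      exact isRegularLocalRing_localization_of_fibLocRing Q₁ hA (hreg Q₁)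


theorem hasRk_of_ringEquiv {R S : Type u} [CommRing R] [CommRing S] (e : R ≃+* S) (k : ℕ)
    (h : LocCoh.HasRk k R) : LocCoh.HasRk k S := by
  intro q hq hht
  have hp : (q.comap (e : R →+* S)).IsPrime := Ideal.comap_isPrime _ _
  have h2 : (q.comap (e : R →+* S)).height = q.height := RingEquiv.height_comap e q
  haveI := h (q.comap (e : R →+* S)) (h2 ▸ hht)
  exact IsRegularLocalRing.of_ringEquiv
    (Localization.localRingEquiv (q.comap (e : R →+* S)) q e rfl)

open AlgebraicGeometry CategoryTheory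

theorem stalk_iff {Z Y : Scheme.{u}} (g : Z ⟶ Y) [IsLocallyNoetherian Y] [Smooth g] (z : Z)
    (n : ℕ) :
    (LocCoh.HasSk n (Z.presheaf.stalk z) (Z.presheaf.stalk z) ↔
      LocCoh.HasSk n (Y.presheaf.stalk (g z)) (Y.presheaf.stalk (g z))) ∧
    (LocCoh.HasRk n (Z.presheaf.stalk z) ↔ LocCoh.HasRk n (Y.presheaf.stalk (g z))) := by
  obtain ⟨_, ⟨U, hU, rfl⟩, hxU, -⟩ :=
    Y.isBasis_affineOpens.exists_subset_of_mem_open (Set.mem_univ (g z)) isOpen_univ
  obtain ⟨_, ⟨V, hV, rfl⟩, hxV, hVU⟩ :=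
    Z.isBasis_affineOpens.exists_subset_of_mem_open hxU (U.2.preimage g.continuous)
  have H := g.smooth_appLE hU hV hVU
  algebraize [(g.appLE U V hVU).hom]
  haveI : Algebra.Smooth Γ(Y, U) Γ(Z, V) := H
  haveI : IsNoetherianRing Γ(Y, U) := IsLocallyNoetherian.component_noetherian ⟨U, hU⟩
  haveI : IsNoetherianRing Γ(Z, V) := Algebra.FiniteType.isNoetherianRing Γ(Y, U) Γ(Z, V)
  haveI hpP := (hU.primeIdealOf ⟨g z, hVU hxV⟩).2
  haveI hqP := (hV.primeIdealOf ⟨z, hxV⟩).2
  have hqp : (hV.primeIdealOf ⟨z, hxV⟩).asIdeal.comap (algebraMap Γ(Y, U) Γ(Z, V)) =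
      (hU.primeIdealOf ⟨g z, hVU hxV⟩).asIdeal :=
    congr($(IsAffineOpen.comap_primeIdealOf_appLE U hU V hV hVU hxV).1)
  letI := TopCat.Presheaf.algebra_section_stalk Z.presheaf ⟨z, hxV⟩
  haveI := hV.isLocalization_stalk ⟨z, hxV⟩
  letI := TopCat.Presheaf.algebra_section_stalk Y.presheaf ⟨g z, hVU hxV⟩
  haveI := hU.isLocalization_stalk ⟨g z, hVU hxV⟩
  let eX : Z.presheaf.stalk z ≃ₐ[Γ(Z, V)] Localization.AtPrime (hV.primeIdealOf ⟨z, hxV⟩).asIdeal :=
    IsLocalization.algEquiv (hV.primeIdealOf ⟨z, hxV⟩).asIdeal.primeCompl _ _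
  let eY : Y.presheaf.stalk (g z) ≃ₐ[Γ(Y, U)]
      Localization.AtPrime (hU.primeIdealOf ⟨g z, hVU hxV⟩).asIdeal :=
    IsLocalization.algEquiv (hU.primeIdealOf ⟨g z, hVU hxV⟩).asIdeal.primeCompl _ _
  haveI : IsNoetherianRing (Localization.AtPrime (hV.primeIdealOf ⟨z, hxV⟩).asIdeal) :=
    IsLocalization.isNoetherianRing (hV.primeIdealOf ⟨z, hxV⟩).asIdeal.primeCompl _ inferInstance
  haveI : IsNoetherianRing (Localization.AtPrime (hU.primeIdealOf ⟨g z, hVU hxV⟩).asIdeal) :=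
    IsLocalization.isNoetherianRing (hU.primeIdealOf ⟨g z, hVU hxV⟩).asIdeal.primeCompl _
      inferInstance
  haveI : IsNoetherianRing (Z.presheaf.stalk z) :=
    isNoetherianRing_of_ringEquiv _ eX.symm.toRingEquiv
  haveI : IsNoetherianRing (Y.presheaf.stalk (g z)) :=
    isNoetherianRing_of_ringEquiv _ eY.symm.toRingEquiv
  have hm := main Γ(Y, U) Γ(Z, V) n (hU.primeIdealOf ⟨g z, hVU hxV⟩).asIdeal
    (hV.primeIdealOf ⟨z, hxV⟩).asIdeal hqp
  refine ⟨⟨fun h => ?_, fun h => ?_⟩, ⟨fun h => ?_, fun h => ?_⟩⟩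
  · have h1 := Groth.Agent.Lib.Helper5.TensorSk.hasSk_self_of_ringEquiv eX.toRingEquiv n h
    exact Groth.Agent.Lib.Helper5.TensorSk.hasSk_self_of_ringEquiv eY.symm.toRingEquiv n
      (hm.1.mp h1)
  · have h1 := Groth.Agent.Lib.Helper5.TensorSk.hasSk_self_of_ringEquiv eY.toRingEquiv n h
    exact Groth.Agent.Lib.Helper5.TensorSk.hasSk_self_of_ringEquiv eX.symm.toRingEquiv n
      (hm.1.mpr h1)
  · have h1 := hasRk_of_ringEquiv eX.toRingEquiv n h
    exact hasRk_of_ringEquiv eY.symm.toRingEquiv n (hm.2.mp h1)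
  · have h1 := hasRk_of_ringEquiv eY.toRingEquiv n h
    exact hasRk_of_ringEquiv eX.symm.toRingEquiv n (hm.2.mpr h1)

theorem stalk_iff_of_open {X Y : Scheme.{u}} (f : X ⟶ Y) [IsLocallyNoetherian Y] (x : X)
    (hx : ∃ U : X.Opens, x ∈ U ∧ Smooth (U.ι ≫ f)) (n : ℕ) :
    (LocCoh.HasSk n (X.presheaf.stalk x) (X.presheaf.stalk x) ↔
      LocCoh.HasSk n (Y.presheaf.stalk (f x)) (Y.presheaf.stalk (f x))) ∧
    (LocCoh.HasRk n (X.presheaf.stalk x) ↔ LocCoh.HasRk n (Y.presheaf.stalk (f x))) := by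
  obtain ⟨U, hxU, hsm⟩ := hx
  let z : U.toScheme := ⟨x, hxU⟩
  have key := stalk_iff (U.ι ≫ f) z n
  haveI : IsIso (U.ι.stalkMap z) := inferInstance
  let e : X.presheaf.stalk x ≃+* U.toScheme.presheaf.stalk z :=
    (asIso (U.ι.stalkMap z)).commRingCatIsoToRingEquiv
  haveI : IsLocallyNoetherian U.toScheme :=
    LocallyOfFiniteType.isLocallyNoetherian (U.ι ≫ f)
  have hN : IsNoetherianRing (U.toScheme.presheaf.stalk z) := inferInstance
  haveI : IsNoetherianRing (X.presheaf.stalk x) := isNoetherianRing_of_ringEquiv _ e.symm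
  refine ⟨⟨fun h => ?_, fun h => ?_⟩, ⟨fun h => ?_, fun h => ?_⟩⟩
  · exact key.1.mp (Groth.Agent.Lib.Helper5.TensorSk.hasSk_self_of_ringEquiv e n h)
  · exact Groth.Agent.Lib.Helper5.TensorSk.hasSk_self_of_ringEquiv e.symm n (key.1.mpr h)
  · exact key.2.mp (hasRk_of_ringEquiv e n h)
  · exact hasRk_of_ringEquiv e.symm n (key.2.mpr h)

end Groth.Agent.Lib.Helper7.SmSkRk
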