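import Mathlib
import Groth.Agent.Lib.Helper13SyntCMA
import Groth.Agent.Lib.Helper7SmSkRk

set_option autoImplicit false
set_option linter.style.haveILetI false
universe u
open RingTheory.Sequence IsLocalRing

namespace Groth.Agent.Helper13SyntCM
open Groth.Agent.Lib.Helper28 TensorProduct

/-- The fibre local rings of a syntomic ring map are Cohen–Macaulay. -/
theorem cm_fibLocRing_of_isSyntomic (A B : Type u) [CommRing A] [CommRing B] [Algebra A B]
    (h : Synt.IsSyntomic A B) (q : Ideal B) [q.IsPrime] :
    LocCoh.IsCohenMacaulayLocalRing (EGA4.FibLocRing A B q) := by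
  revert q
  rw [← forall_localization_fiber_iff (A := A) (B := B)
    (fun R _ => LocCoh.IsCohenMacaulayLocalRing R)
    (fun R S _ _ e h => isCohenMacaulayLocalRing_of_ringEquiv e)]
  intro p hp Q hQ
  have h1 := h.2.2 ⟨p, hp⟩
  rw [Groth.Agent.Lib.Helper7.Synt.isLCIOver_iff_forall_isCIOver] at h1
  exact isCohenMacaulayLocalRing_of_isCIOver p.ResidueField _ (h1.2 ⟨Q, hQ⟩)

/-- local `(S_n)` / CM comparison along a syntomic map of Noetherian rings -/
theorem main (A B : Type u) [CommRing A] [CommRing B] [IsNoetherianRing A] [Algebra A B]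
    (hsyn : Synt.IsSyntomic A B) (n : ℕ) (p : Ideal A) [hp : p.IsPrime] (Q : Ideal B)
    [hQ : Q.IsPrime] (hQp : Q.comap (algebraMap A B) = p) :
    (LocCoh.HasSk n (Localization.AtPrime Q) (Localization.AtPrime Q) ↔
      LocCoh.HasSk n (Localization.AtPrime p) (Localization.AtPrime p)) ∧
    (LocCoh.IsCohenMacaulayLocalRing (Localization.AtPrime Q) ↔
      LocCoh.IsCohenMacaulayLocalRing (Localization.AtPrime p)) := by
  subst hQp
  haveI := hsyn.1
  haveI := hsyn.2.1
  haveI : IsNoetherianRing B := Algebra.FiniteType.isNoetherianRing A B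
  have hCM : ∀ (q : Ideal B) [q.IsPrime],
      LocCoh.IsCohenMacaulayLocalRing (EGA4.FibLocRing A B q) := fun q _ =>
    cm_fibLocRing_of_isSyntomic A B hsyn q
  constructor
  · rw [hasSk_localization_atPrime_iff, hasSk_localization_atPrime_iff]
    have h := Groth.Agent.Lib.Helper5.FlatCMFibres.hasSkAt_iff_of_cm_fibres (A := A) (B := B) n hCM Q
    rw [Groth.Agent.Lib.Helper5.FlatCMFibres.hasSkAt_self_iff,
      Groth.Agent.Lib.Helper5.FlatCMFibres.hasSkAt_self_iff] at h
    simp only [withBot_min_natCast_le_iff]
    exact h.symm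
  · have hc := Groth.Agent.Lib.Helper5.FlatCMFibres.codepth_eq (A := A) (B := B) Q (hCM Q)
    have hmQ : (maximalIdeal (Localization.AtPrime Q)).height = Q.height := by
      have h1 := IsLocalization.AtPrime.ringKrullDim_eq_height Q (Localization.AtPrime Q)
      rw [← IsLocalRing.maximalIdeal_height_eq_ringKrullDim] at h1
      exact WithBot.coe_injective h1
    have hmp : (maximalIdeal (Localization.AtPrime (Q.comap (algebraMap A B)))).height =
        (Q.comap (algebraMap A B)).height := by
      have h1 := IsLocalization.AtPrime.ringKrullDim_eq_height (Q.comap (algebraMap A B))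
        (Localization.AtPrime (Q.comap (algebraMap A B)))
      rw [← IsLocalRing.maximalIdeal_height_eq_ringKrullDim] at h1
      exact WithBot.coe_injective h1
    rw [isCohenMacaulayLocalRing_iff, isCohenMacaulayLocalRing_iff, hmQ, hmp]
    have hfinQ : Q.height ≠ ⊤ := Ideal.height_ne_top (Ideal.IsPrime.ne_top inferInstance)
    have hfinp : (Q.comap (algebraMap A B)).height ≠ ⊤ :=
      Ideal.height_ne_top (Ideal.IsPrime.ne_top inferInstance)
    constructor
    · intro h
      rw [← h, add_comm] at hc
      exact (ENat.add_right_injective_of_ne_top hfinQ) hc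
    · intro h
      rw [← h, add_comm _ (Ideal.height (Ideal.comap (algebraMap A B) Q))] at hc
      exact ((ENat.add_right_injective_of_ne_top hfinp) hc).symm

end Groth.Agent.Helper13SyntCM
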