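import Mathlib
import Groth.Agent.Lib.Helper13SyntCMB
import Groth.Agent.Lib.Helper12NoethDescent

set_option autoImplicit false
set_option linter.style.haveILetI false
universe u
open RingTheory.Sequence IsLocalRing

namespace Groth.Agent.Helper13SyntCM
open Groth.Agent.Lib.Helper28 TensorProduct AlgebraicGeometry CategoryTheory Limits

theorem flat_of_isSyntomicMor {X S : Scheme.{u}} (f : X ⟶ S) (h : Synt.IsSyntomicMor f) :
    Flat f := by
  rw [HasRingHomProperty.iff_exists_appLE (P := @Flat)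
    (RingHom.Flat.stableUnderComposition.stableUnderCompositionWithLocalizationAway
      RingHom.Flat.holdsForLocalizationAway).1]
  intro x
  obtain ⟨U, V, e, hx, hs⟩ := h x
  letI := (f.appLE V.1 U.1 e).hom.toAlgebra
  exact ⟨V, U, hx, e, hs.1⟩

theorem lfp_of_isSyntomicMor {X S : Scheme.{u}} (f : X ⟶ S) (h : Synt.IsSyntomicMor f) :
    LocallyOfFinitePresentation f := by
  rw [HasRingHomProperty.iff_exists_appLE (P := @LocallyOfFinitePresentation)
    (RingHom.finitePresentation_stableUnderComposition.stableUnderCompositionWithLocalizationAway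
      RingHom.finitePresentation_holdsForLocalizationAway).1]
  intro x
  obtain ⟨U, V, e, hx, hs⟩ := h x
  letI := (f.appLE V.1 U.1 e).hom.toAlgebra
  exact ⟨V, U, hx, e, hs.2.1⟩

theorem stalk_iff {Z Y : Scheme.{u}} (g : Z ⟶ Y) [IsLocallyNoetherian Y] (z : Z)
    (hz : Synt.IsSyntomicAt g z) (n : ℕ) :
    (LocCoh.HasSk n (Z.presheaf.stalk z) (Z.presheaf.stalk z) ↔
      LocCoh.HasSk n (Y.presheaf.stalk (g z)) (Y.presheaf.stalk (g z))) ∧
    (LocCoh.IsCohenMacaulayLocalRing (Z.presheaf.stalk z) ↔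
      LocCoh.IsCohenMacaulayLocalRing (Y.presheaf.stalk (g z))) := by
  obtain ⟨⟨V, hV⟩, ⟨U, hU⟩, hVU, hxV, H⟩ := hz
  change z ∈ V at hxV
  change V ≤ g ⁻¹ᵁ U at hVU
  algebraize [(g.appLE U V hVU).hom]
  have H : Synt.IsSyntomic Γ(Y, U) Γ(Z, V) := H
  haveI := H.2.1
  haveI : IsNoetherianRing Γ(Y, U) := IsLocallyNoetherian.component_noetherian ⟨U, hU⟩
  haveI : IsNoetherianRing Γ(Z, V) := Algebra.FiniteType.isNoetherianRing Γ(Y, U) Γ(Z, V)
  haveI hpP := (hU.primeIdealOf ⟨g z, hVU hxV⟩).2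
  haveI hqP := (hV.primeIdealOf ⟨z, hxV⟩).2
  have hqp : (hV.primeIdealOf ⟨z, hxV⟩).asIdeal.comap (algebraMap Γ(Y, U) Γ(Z, V)) =
      (hU.primeIdealOf ⟨g z, hVU hxV⟩).asIdeal :=
    congr($(IsAffineOpen.comap_primeIdealOf_appLE U hU V hV hVU hxV).1)
  letI := TopCat.Presheaf.algebra_section_stalk Z.presheaf ⟨z, hxV⟩
  haveI := hV.isLocalization_stalk ⟨z, hxV⟩
  letI := TopCat.Presheaf.algebra_section_stalk Y.presheaf ⟨g z, hVU hxV⟩
  haveI := hU.isLocalization_stalk ⟨g z, hVU hxV⟩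
  let eX : Z.presheaf.stalk z ≃ₐ[Γ(Z, V)] Localization.AtPrime (hV.primeIdealOf ⟨z, hxV⟩).asIdeal :=
    IsLocalization.algEquiv (hV.primeIdealOf ⟨z, hxV⟩).asIdeal.primeCompl _ _
  let eY : Y.presheaf.stalk (g z) ≃ₐ[Γ(Y, U)]
      Localization.AtPrime (hU.primeIdealOf ⟨g z, hVU hxV⟩).asIdeal :=
    IsLocalization.algEquiv (hU.primeIdealOf ⟨g z, hVU hxV⟩).asIdeal.primeCompl _ _
  haveI : IsNoetherianRing (Localization.AtPrime (hV.primeIdealOf ⟨z, hxV⟩).asIdeal) :=
    IsLocalization.isNoetherianRing (hV.primeIdealOf ⟨z, hxV⟩).asIdeal.primeCompl _ inferInstance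
  haveI : IsNoetherianRing (Localization.AtPrime (hU.primeIdealOf ⟨g z, hVU hxV⟩).asIdeal) :=
    IsLocalization.isNoetherianRing (hU.primeIdealOf ⟨g z, hVU hxV⟩).asIdeal.primeCompl _
      inferInstance
  haveI : IsNoetherianRing (Z.presheaf.stalk z) :=
    isNoetherianRing_of_ringEquiv _ eX.symm.toRingEquiv
  haveI : IsNoetherianRing (Y.presheaf.stalk (g z)) :=
    isNoetherianRing_of_ringEquiv _ eY.symm.toRingEquiv
  have hm := main Γ(Y, U) Γ(Z, V) H n (hU.primeIdealOf ⟨g z, hVU hxV⟩).asIdeal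
    (hV.primeIdealOf ⟨z, hxV⟩).asIdeal hqp
  refine ⟨⟨fun h => ?_, fun h => ?_⟩, ⟨fun h => ?_, fun h => ?_⟩⟩
  · have h1 := Groth.Agent.Lib.Helper5.TensorSk.hasSk_self_of_ringEquiv eX.toRingEquiv n h
    exact Groth.Agent.Lib.Helper5.TensorSk.hasSk_self_of_ringEquiv eY.symm.toRingEquiv n
      (hm.1.mp h1)
  · have h1 := Groth.Agent.Lib.Helper5.TensorSk.hasSk_self_of_ringEquiv eY.toRingEquiv n h
    exact Groth.Agent.Lib.Helper5.TensorSk.hasSk_self_of_ringEquiv eX.symm.toRingEquiv n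
      (hm.1.mpr h1)
  · haveI := h
    haveI := isCohenMacaulayLocalRing_of_ringEquiv eX.toRingEquiv
    haveI := hm.2.mp inferInstance
    exact isCohenMacaulayLocalRing_of_ringEquiv eY.symm.toRingEquiv
  · haveI := h
    haveI := isCohenMacaulayLocalRing_of_ringEquiv eY.toRingEquiv
    haveI := hm.2.mpr inferInstance
    exact isCohenMacaulayLocalRing_of_ringEquiv eX.symm.toRingEquiv

theorem isLocallyNoetherian_of_cover {ι : Type u} {S : Scheme.{u}} {X : ι → Scheme.{u}}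
    (f : ∀ i, X i ⟶ S) (hsurj : ∀ s : S, ∃ i, s ∈ Set.range (f i).base)
    (hsyn : ∀ i, Synt.IsSyntomicMor (f i)) (hN : ∀ i, IsLocallyNoetherian (X i)) :
    IsLocallyNoetherian S := by
  let W : Scheme.{u} := ∐ X
  let d : W ⟶ S := Sigma.desc f
  haveI : Flat d := by
    rw [IsZariskiLocalAtSource.iff_of_openCover (P := @Flat) (sigmaOpenCover _)]
    intro a
    show Flat (Sigma.ι _ a ≫ Limits.Sigma.desc _)
    rw [Limits.Sigma.ι_desc]
    exact flat_of_isSyntomicMor _ (hsyn a)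
  haveI : LocallyOfFinitePresentation d := by
    rw [IsZariskiLocalAtSource.iff_of_openCover (P := @LocallyOfFinitePresentation)
      (sigmaOpenCover _)]
    intro a
    show LocallyOfFinitePresentation (Sigma.ι _ a ≫ Limits.Sigma.desc _)
    rw [Limits.Sigma.ι_desc]
    exact lfp_of_isSyntomicMor _ (hsyn a)
  haveI : Surjective d := by
    refine ⟨fun b => ?_⟩
    obtain ⟨i, x, rfl⟩ := hsurj b
    refine ⟨Sigma.ι X i x, ?_⟩
    have e : Sigma.ι X i ≫ d = f i := Limits.Sigma.ι_desc _ _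
    rw [← Scheme.Hom.comp_apply, e]
  haveI : IsLocallyNoetherian W := by
    rw [isLocallyNoetherian_iff_openCover (sigmaOpenCover _)]
    intro a
    simp only [sigmaOpenCover_X]
    exact hN a
  exact Groth.Agent.Lib.Helper12.NoethDescent.isLocallyNoetherian_of_flat_lfp_surjective d

end Groth.Agent.Helper13SyntCM
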