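import Groth.Agent.Lib.Helper13SyntD
import Groth.Agent.Lib.Helper13LciSmD

/-!
# The conormal module of a syntomic localization (helper13)

* `isStandardSmooth_mvPolynomial`, `isStandardSmooth_away_mvPolynomial`;
* `cotMap`, `isLocalizedModule_cotMap`: `I_g/I_g²` is the localization of `I/I²` away from `g`;
* `kr_map_away_of_isSyntomic`: if `(P/I)_g` is syntomic over `R`, `P = R[x]`, then `I P_g` is a
  Koszul-regular ideal of `P_g`;
* `finite_projective_localized_cotangent`.
-/

set_option autoImplicit false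
set_option linter.unusedSectionVars false
set_option linter.style.haveILetI false
universe u

namespace Groth.Agent.Helper13Synt

/-- polynomial algebras are standard smooth -/
theorem isStandardSmooth_mvPolynomial (R : Type u) [CommRing R] (n : ℕ) :
    Algebra.IsStandardSmooth R (MvPolynomial (Fin n) R) := by
  classical
  let v : PEmpty.{1} → MvPolynomial (Fin n) R := PEmpty.elim
  let Q : Algebra.PreSubmersivePresentation R
      (MvPolynomial (Fin n) R ⧸ Ideal.span (Set.range v)) (Fin n) PEmpty.{1} :=
    Algebra.PreSubmersivePresentation.naive (v := v) PEmpty.elim (fun a => a.elim)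
  have hQ : IsUnit Q.jacobian := by
    rw [Algebra.PreSubmersivePresentation.jacobian_eq_jacobiMatrix_det, Matrix.det_isEmpty]
    simp
  let Q' : Algebra.SubmersivePresentation R
      (MvPolynomial (Fin n) R ⧸ Ideal.span (Set.range v)) (Fin n) PEmpty.{1} := ⟨Q, hQ⟩
  haveI h1 : Algebra.IsStandardSmooth R (MvPolynomial (Fin n) R ⧸ Ideal.span (Set.range v)) :=
    Q'.isStandardSmooth
  have hbot : Ideal.span (Set.range v) = ⊥ := by
    rw [Set.range_eq_empty, Ideal.span_empty]
  let e : (MvPolynomial (Fin n) R ⧸ Ideal.span (Set.range v)) ≃ₐ[R] MvPolynomial (Fin n) R :=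
    (Ideal.quotientEquivAlgOfEq R hbot).trans (AlgEquiv.quotientBot R _)
  exact Algebra.IsStandardSmooth.of_algEquiv e

theorem isStandardSmooth_away_mvPolynomial (R : Type u) [CommRing R] (n : ℕ)
    (gt : MvPolynomial (Fin n) R) : Algebra.IsStandardSmooth R (Localization.Away gt) := by
  haveI := isStandardSmooth_mvPolynomial R n
  haveI : Algebra.IsStandardSmooth (MvPolynomial (Fin n) R) (Localization.Away gt) :=
    Algebra.IsStandardSmooth.localization_away gt
  exact Algebra.IsStandardSmooth.trans R (MvPolynomial (Fin n) R) (Localization.Away gt)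

section CotLoc
variable {P : Type u} [CommRing P] (I : Ideal P) (gt : P)

local notation "Pg" => Localization.Away gt
local notation "Ig" => Ideal.map (algebraMap P (Localization.Away gt)) I
local notation "Aq" => (Localization.Away gt) ⧸ (Ideal.map (algebraMap P (Localization.Away gt)) I)

theorem isLocalization_away_quot : IsLocalization.Away (Ideal.Quotient.mk I gt) Aq := by
  have inst : IsLocalization (Algebra.algebraMapSubmonoid (P ⧸ I) (Submonoid.powers gt)) Aq :=
    inferInstance
  have h : Algebra.algebraMapSubmonoid (P ⧸ I) (Submonoid.powers gt) =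
      Submonoid.powers (Ideal.Quotient.mk I gt) := by
    unfold Algebra.algebraMapSubmonoid
    rw [Submonoid.map_powers]
    rfl
  rw [h] at inst
  exact inst

theorem algebraMap_quot_mk (p : P) :
    algebraMap (P ⧸ I) Aq (Ideal.Quotient.mk I p) = Ideal.Quotient.mk Ig (algebraMap P Pg p) := rfl

/-- the `P/I`-module structure on the cotangent module of the extended ideal -/
@[reducible] noncomputable def modN : Module (P ⧸ I) (Ig).Cotangent :=
  Module.compHom _ (algebraMap (P ⧸ I) Aq)

attribute [local instance] modN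

theorem smul_def' (s : P ⧸ I) (n : (Ig).Cotangent) : s • n = algebraMap (P ⧸ I) Aq s • n := rfl

instance towerSAN : IsScalarTower (P ⧸ I) Aq (Ig).Cotangent :=
  ⟨fun s a n => (congrArg (fun t : Aq => t • n) (Algebra.smul_def s a)).trans
    (mul_smul (algebraMap (P ⧸ I) Aq s) a n)⟩

theorem mk_smul_eq (p : P) (n : (Ig).Cotangent) : (Ideal.Quotient.mk I p) • n = p • n := by
  show algebraMap (P ⧸ I) Aq (Ideal.Quotient.mk I p) • n = p • n
  rw [algebraMap_quot_mk, ← Ideal.Quotient.algebraMap_eq, algebraMap_smul, algebraMap_smul]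

instance towerPSN : IsScalarTower P (P ⧸ I) (Ig).Cotangent :=
  ⟨fun p s n => by
    obtain ⟨p', rfl⟩ := Ideal.Quotient.mk_surjective s
    have h1 : p • Ideal.Quotient.mk I p' = Ideal.Quotient.mk I (p * p') := rfl
    rw [h1, mk_smul_eq, mk_smul_eq, mul_smul]⟩

/-- the comparison map `I/I² → I_g/I_g²`, `P`-linear -/
noncomputable def cotMap₀ : I.Cotangent →ₗ[P] (Ig).Cotangent :=
  Ideal.Cotangent.lift
    ((Ig).toCotangent.restrictScalars P ∘ₗ Algebra.idealMap Pg I) (fun x y => by
      simp only [LinearMap.coe_comp, LinearMap.coe_restrictScalars, Function.comp_apply,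
        Algebra.idealMap_mul]
      rw [Ideal.toCotangent_eq_zero, sq]
      exact Ideal.mul_mem_mul (Algebra.idealMap Pg I x).2 (Algebra.idealMap Pg I y).2)

theorem cotMap₀_toCotangent (x : I) :
    cotMap₀ I gt (I.toCotangent x) = (Ig).toCotangent (Algebra.idealMap Pg I x) := rfl

/-- the comparison map, `P/I`-linear -/
noncomputable def cotMap : I.Cotangent →ₗ[P ⧸ I] (Ig).Cotangent :=
  LinearMap.extendScalarsOfSurjective Ideal.Quotient.mk_surjective (cotMap₀ I gt)

theorem cotMap_toCotangent (x : I) :
    cotMap I gt (I.toCotangent x) = (Ig).toCotangent (Algebra.idealMap Pg I x) := rfl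

theorem isUnit_algebraMap_mk : IsUnit (algebraMap (P ⧸ I) Aq (Ideal.Quotient.mk I gt)) := by
  rw [algebraMap_quot_mk]
  exact (IsLocalization.Away.algebraMap_isUnit gt).map (Ideal.Quotient.mk Ig)

theorem isLocalizedModule_cotMap :
    IsLocalizedModule (Submonoid.powers (Ideal.Quotient.mk I gt)) (cotMap I gt) where
  map_units := by
    rintro ⟨_, k, rfl⟩
    have hu : IsUnit (algebraMap (P ⧸ I) Aq (Ideal.Quotient.mk I gt ^ k)) := by
      rw [map_pow]
      exact (isUnit_algebraMap_mk I gt).pow k
    rw [Module.End.isUnit_iff]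
    obtain ⟨u, hu⟩ := hu
    constructor
    · intro a b hab
      have h1 : (u : Aq) • a = (u : Aq) • b := by rw [hu]; exact hab
      have := congrArg (fun t => ((u⁻¹ : Aqˣ) : Aq) • t) h1
      simpa [smul_smul] using this
    · intro b
      refine ⟨((u⁻¹ : Aqˣ) : Aq) • b, ?_⟩
      show algebraMap (P ⧸ I) Aq (Ideal.Quotient.mk I gt ^ k) • (((u⁻¹ : Aqˣ) : Aq) • b) = b
      rw [← hu, smul_smul, Units.mul_inv, one_smul]
  surj := by
    intro y
    obtain ⟨y, rfl⟩ := Ideal.toCotangent_surjective _ y
    obtain ⟨⟨x, s⟩, hxs⟩ := (IsLocalization.mem_map_algebraMap_iff (Submonoid.powers gt) Pg).mp y.2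
    obtain ⟨_, k, rfl⟩ := s
    refine ⟨⟨I.toCotangent x, ⟨Ideal.Quotient.mk I gt ^ k, k, rfl⟩⟩, ?_⟩
    show (Ideal.Quotient.mk I gt ^ k) • (Ig).toCotangent y = cotMap I gt (I.toCotangent x)
    rw [cotMap_toCotangent, ← map_pow, mk_smul_eq, ← algebraMap_smul Pg, ← map_smul]
    congr 1
    apply Subtype.ext
    show algebraMap P Pg (gt ^ k) * (y : Pg) = algebraMap P Pg x
    rw [mul_comm]
    exact hxs
  exists_of_eq := by
    intro a b hab
    obtain ⟨x, rfl⟩ := Ideal.toCotangent_surjective _ a
    obtain ⟨x', rfl⟩ := Ideal.toCotangent_surjective _ b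
    rw [cotMap_toCotangent, cotMap_toCotangent, Ideal.toCotangent_eq] at hab
    have h1 : algebraMap P Pg ((x : P) - (x' : P)) ∈ (I ^ 2).map (algebraMap P Pg) := by
      rw [Ideal.map_pow, map_sub]
      exact hab
    obtain ⟨⟨z, s⟩, hzs⟩ := (IsLocalization.mem_map_algebraMap_iff (Submonoid.powers gt) Pg).mp h1
    obtain ⟨_, k, rfl⟩ := s
    have h2 : algebraMap P Pg (((x : P) - (x' : P)) * gt ^ k) = algebraMap P Pg (z : P) := by
      rw [map_mul]; exact hzs
    obtain ⟨⟨_, m, rfl⟩, hm⟩ := (IsLocalization.eq_iff_exists (Submonoid.powers gt) Pg).mp h2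
    refine ⟨⟨Ideal.Quotient.mk I gt ^ (m + k), m + k, rfl⟩, ?_⟩
    show (Ideal.Quotient.mk I gt ^ (m + k)) • I.toCotangent x =
      (Ideal.Quotient.mk I gt ^ (m + k)) • I.toCotangent x'
    rw [← map_pow, ← Ideal.Quotient.algebraMap_eq, algebraMap_smul, algebraMap_smul, ← map_smul,
      ← map_smul, Ideal.toCotangent_eq]
    have h3 : ((gt ^ (m + k) • x : I) : P) - ((gt ^ (m + k) • x' : I) : P) =
        gt ^ m * (((x : P) - (x' : P)) * gt ^ k) := by
      simp only [Submodule.coe_smul, smul_eq_mul, pow_add]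
      ring
    rw [h3, hm]
    exact Ideal.mul_mem_left _ _ z.2

end CotLoc

section Main

open Groth.Agent.Helper13SmKR Groth.Agent.Lib.Helper7.Synt

variable {R : Type u} [CommRing R] {n : ℕ} (I : Ideal (MvPolynomial (Fin n) R))
  (gt : MvPolynomial (Fin n) R)

local notation "P" => MvPolynomial (Fin n) R
local notation "Pg" => Localization.Away gt
local notation "Ig" => Ideal.map (algebraMap (MvPolynomial (Fin n) R) (Localization.Away gt)) I
local notation "Aq" => (Localization.Away gt) ⧸
  (Ideal.map (algebraMap (MvPolynomial (Fin n) R) (Localization.Away gt)) I)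

theorem kr_map_away_of_isSyntomic
    (h : Synt.IsSyntomic R (Localization.Away (Ideal.Quotient.mk I gt))) :
    LCI.IsKoszulRegularIdeal Ig := by
  have hlci : LCI.IsLCI R (Localization.Away (Ideal.Quotient.mk I gt)) :=
    isLCI_of_isSyntomic _ _ h
  haveI := isLocalization_away_quot I gt
  haveI : IsScalarTower R (P ⧸ I) Aq := isScalarTower_quotient_map I
  let e : Localization.Away (Ideal.Quotient.mk I gt) ≃ₐ[P ⧸ I] Aq :=
    IsLocalization.algEquiv (Submonoid.powers (Ideal.Quotient.mk I gt)) _ _
  have hlciA : LCI.IsLCI R Aq := isLCI_of_algEquiv (e.restrictScalars R) hlci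
  haveI : Algebra.IsStandardSmooth R Pg := isStandardSmooth_away_mvPolynomial R n gt
  have h2 : LCI.IsLCI Pg Aq := isLCI_of_isStandardSmooth_of_isLCI R Pg Aq hlciA
  have h3 := (isLCI_iff_of_surjective (A := Pg) (B := Aq) Ideal.Quotient.mk_surjective).mp h2
  rwa [Ideal.Quotient.algebraMap_eq, Ideal.mk_ker] at h3

attribute [local instance] modN

set_option maxHeartbeats 1600000 in
theorem finite_projective_localized_cotangent (hI : I.FG)
    (hg : Synt.IsSyntomic R (Localization.Away (Ideal.Quotient.mk I gt))) :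
    Module.Finite (Localization.Away (Ideal.Quotient.mk I gt))
        (LocalizedModule (Submonoid.powers (Ideal.Quotient.mk I gt)) I.Cotangent) ∧
      Module.Projective (Localization.Away (Ideal.Quotient.mk I gt))
        (LocalizedModule (Submonoid.powers (Ideal.Quotient.mk I gt)) I.Cotangent) := by
  have hK := kr_map_away_of_isSyntomic I gt hg
  haveI hproj : Module.Projective Aq (Ig).Cotangent :=
    Groth.Agent.Helper13KzDesc.projective_of_isKoszulRegularIdeal hK
  haveI hfin : Module.Finite Aq (Ig).Cotangent := by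
    have hfg : (Ig).FG := hI.map _
    haveI : Module.Finite Pg Ig := Module.Finite.iff_fg.mpr hfg
    haveI : Module.Finite Pg (Ig).Cotangent :=
      Module.Finite.of_surjective (Ig).toCotangent (Ideal.toCotangent_surjective _)
    exact Module.Finite.of_restrictScalars_finite Pg Aq (Ig).Cotangent
  haveI := isLocalization_away_quot I gt
  haveI := isLocalizedModule_cotMap I gt
  let ψ : LocalizedModule (Submonoid.powers (Ideal.Quotient.mk I gt)) I.Cotangent ≃ₗ[P ⧸ I]
      (Ig).Cotangent := IsLocalizedModule.iso (Submonoid.powers (Ideal.Quotient.mk I gt))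
        (cotMap I gt)
  let e : Aq ≃ₐ[P ⧸ I] Localization.Away (Ideal.Quotient.mk I gt) :=
    IsLocalization.algEquiv (Submonoid.powers (Ideal.Quotient.mk I gt)) _ _
  have hsemi : ∀ (a : Aq) (m : (Ig).Cotangent), ψ.symm (a • m) = e a • ψ.symm m := by
    intro a m
    obtain ⟨⟨s, t⟩, hst⟩ := IsLocalization.surj (Submonoid.powers (Ideal.Quotient.mk I gt)) a
    rw [← IsLocalizedModule.smul_inj (LocalizedModule.mkLinearMap
      (Submonoid.powers (Ideal.Quotient.mk I gt)) I.Cotangent) t]
    have h1 : (t : P ⧸ I) • (a • m) = s • m := by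
      rw [← algebraMap_smul Aq (t : P ⧸ I), ← algebraMap_smul Aq s, smul_smul, mul_comm]
      exact congrArg (fun z : Aq => z • m) hst
    have h2 : (t : P ⧸ I) • ψ.symm (a • m) = s • ψ.symm m := by
      rw [← map_smul, ← map_smul]
      exact congrArg ψ.symm h1
    have h3 : (t : P ⧸ I) • (e a • ψ.symm m) = s • ψ.symm m := by
      rw [← algebraMap_smul (Localization.Away (Ideal.Quotient.mk I gt)) (t : P ⧸ I),
        ← algebraMap_smul (Localization.Away (Ideal.Quotient.mk I gt)) s, smul_smul]
      have : algebraMap (P ⧸ I) (Localization.Away (Ideal.Quotient.mk I gt)) (t : P ⧸ I) * e a =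
          algebraMap (P ⧸ I) (Localization.Away (Ideal.Quotient.mk I gt)) s := by
        rw [← e.commutes, ← e.commutes, ← map_mul, mul_comm]
        exact congrArg e hst
      rw [this]
    exact h2.trans h3.symm
  let e' : Aq ≃+* Localization.Away (Ideal.Quotient.mk I gt) := e.toRingEquiv
  letI : RingHomInvPair (e' : Aq →+* Localization.Away (Ideal.Quotient.mk I gt))
      (e'.symm : Localization.Away (Ideal.Quotient.mk I gt) →+* Aq) :=
    RingHomInvPair.of_ringEquiv e'
  letI : RingHomInvPair (e'.symm : Localization.Away (Ideal.Quotient.mk I gt) →+* Aq)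
      (e' : Aq →+* Localization.Away (Ideal.Quotient.mk I gt)) :=
    RingHomInvPair.of_ringEquiv_symm e'
  let e₂ : (Ig).Cotangent ≃ₛₗ[(e' : Aq →+* Localization.Away (Ideal.Quotient.mk I gt))]
      LocalizedModule (Submonoid.powers (Ideal.Quotient.mk I gt)) I.Cotangent :=
    { ψ.symm.toAddEquiv with
      map_smul' := fun a m => hsemi a m }
  exact ⟨Module.Finite.of_surjective e₂.toLinearMap e₂.surjective, Module.Projective.of_equiv e₂⟩

end Main

end Groth.Agent.Helper13Synt
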