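import Mathlib
import Groth.Agent.Lib.Helper18Fitt30

set_option autoImplicit false
universe u v

namespace Groth.Agent.Helper18Fitt

open Matrix

theorem minorsFam_square {R : Type u} [CommRing R] {n : ℕ} (w : Fin n → (Fin n → R)) :
    minorsFam w n = Ideal.span {(Matrix.of w).det} := by
  classical
  apply le_antisymm
  · unfold minorsFam
    rw [Ideal.span_le]
    rintro d ⟨β, ε, rfl⟩
    rw [SetLike.mem_coe]
    by_cases hβ : Function.Injective β
    · by_cases hε : Function.Injective ε
      · let σβ : Equiv.Perm (Fin n) := Equiv.ofBijective β (Finite.injective_iff_bijective.mp hβ)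
        let σε : Equiv.Perm (Fin n) := Equiv.ofBijective ε (Finite.injective_iff_bijective.mp hε)
        have h1 : (Matrix.of fun a b => w (β b) (ε a))
            = (((Matrix.of w)ᵀ.submatrix σε id).submatrix id σβ) := by
          ext a b
          simp [σβ, σε]
        rw [h1, Matrix.det_permute', Matrix.det_permute, Matrix.det_transpose]
        apply Ideal.mul_mem_left
        apply Ideal.mul_mem_left
        exact Ideal.subset_span rfl
      · rw [Function.Injective] at hε
        push Not at hε
        obtain ⟨a, a', haa, hne⟩ := hε
        have h0 : (Matrix.of fun a b => w (β b) (ε a)).det = 0 := by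
          apply Matrix.det_zero_of_row_eq hne
          funext b
          simp [haa]
        rw [h0]
        exact Ideal.zero_mem _
    · rw [Function.Injective] at hβ
      push Not at hβ
      obtain ⟨b, b', hbb, hne⟩ := hβ
      have h0 : (Matrix.of fun a b => w (β b) (ε a)).det = 0 := by
        apply Matrix.det_zero_of_column_eq hne
        intro a
        simp [hbb]
      rw [h0]
      exact Ideal.zero_mem _
  · rw [Ideal.span_le]
    rintro d hd
    rw [Set.mem_singleton_iff] at hd
    subst hd
    unfold minorsFam
    apply Ideal.subset_span
    refine ⟨id, id, ?_⟩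
    rw [← Matrix.det_transpose]
    rfl

end Groth.Agent.Helper18Fitt

namespace Groth.Agent.Helper18Fitt

open KaehlerDifferential

section jac

variable {A : Type u} [CommRing A] {S : Type u} [CommRing S] [Algebra A S] {n m : ℕ}
  (pres : Algebra.Presentation A S (Fin n) (Fin m))

/-- generators `d x̄_j` of the differentials -/
noncomputable def omegaGen : Fin n → Ω[S⁄A] :=
  fun j => D A S (pres.val j)

/-- the rows of the Jacobian matrix -/
noncomputable def jacRow : Fin m → (Fin n → S) :=
  fun i j => algebraMap pres.Ring S (MvPolynomial.pderiv j (pres.relation i))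

theorem omegaGen_span : Submodule.span S (Set.range (omegaGen pres)) = ⊤ := by
  have h := (Module.Relations.Solution.isPresentation_iff _).mp
    pres.differentialsSolution_isPresentation
  exact h.1

theorem omegaGen_rel (z : Fin n → S) :
    ∑ j, z j • omegaGen pres j = 0 ↔ z ∈ Submodule.span S (Set.range (jacRow pres)) := by
  have h := ((Module.Relations.Solution.isPresentation_iff _).mp
    pres.differentialsSolution_isPresentation).2
  let e : (pres.differentialsRelations.G →₀ S) ≃ₗ[S] (Fin n → S) :=
    Finsupp.linearEquivFunOnFinite S S (Fin n)
  have h1 : ∑ j, z j • omegaGen pres j = pres.differentialsSolution.π (e.symm z) := by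
    change _ = Finsupp.linearCombination S (fun j : Fin n => D A S (pres.val j))
      ((Finsupp.linearEquivFunOnFinite S S (Fin n)).symm z)
    rw [Finsupp.linearCombination_apply, Finsupp.sum_fintype]
    · rfl
    · intro j; exact zero_smul _ _
  rw [h1, ← LinearMap.mem_ker, h]
  have h2 : Set.range (jacRow pres) = e '' Set.range pres.differentialsRelations.relation := by
    rw [← Set.range_comp]
    congr 1
    funext i
    funext j
    change algebraMap pres.Ring S (MvPolynomial.pderiv j (pres.relation i)) =
      (Finsupp.mapRange (algebraMap pres.Ring S) (map_zero _)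
        ((mvPolynomialBasis A (Fin n)).repr (D A _ (pres.relation i)))) j
    rw [Finsupp.mapRange_apply, KaehlerDifferential.mvPolynomialBasis_repr_apply]
  rw [h2]
  constructor
  · intro hz
    have := Submodule.mem_map_of_mem (f := (e : (pres.differentialsRelations.G →₀ S) →ₗ[S] (Fin n → S))) hz
    rw [Submodule.map_span] at this
    simpa using this
  · intro hz
    have h3 : Submodule.span S (e '' Set.range pres.differentialsRelations.relation)
        = Submodule.map (e : (pres.differentialsRelations.G →₀ S) →ₗ[S] (Fin n → S))
            (Submodule.span S (Set.range pres.differentialsRelations.relation)) := by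
      rw [Submodule.map_span]; rfl
    rw [h3] at hz
    obtain ⟨y, hy, hyz⟩ := hz
    have : e.symm z = y := by rw [← hyz]; exact e.symm_apply_apply y
    rw [this]
    exact hy

end jac

/-- Fit_0 of the differentials of a square presentation is generated by the Jacobian determinant -/
theorem fitt_zero_kaehler_of_presentation {A : Type u} [CommRing A] {S : Type u} [CommRing S]
    [Algebra A S] {n : ℕ} (pres : Algebra.Presentation A S (Fin n) (Fin n)) :
    Fitt.ideal S Ω[S⁄A] 0 = Ideal.span {(Matrix.of (jacRow pres)).det} := by
  rw [fitt_eq_minors (omegaGen pres) (omegaGen_span pres) 0,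
    minors_eq_minorsFam (omegaGen pres) (jacRow pres) (omegaGen_rel pres) (n - 0), Nat.sub_zero,
    minorsFam_square]

end Groth.Agent.Helper18Fitt

namespace Groth.Agent.Helper18Fitt

theorem main_S8931 (A : Type u) [CommRing A] (n : ℕ) (f : Fin n → MvPolynomial (Fin n) A) :
    Fitt.ideal (MvPolynomial (Fin n) A ⧸ Ideal.span (Set.range f))
      (KaehlerDifferential A (MvPolynomial (Fin n) A ⧸ Ideal.span (Set.range f))) 0 =
    Ideal.span {Ideal.Quotient.mk (Ideal.span (Set.range f))
      (Matrix.det (Matrix.of fun i j : Fin n => MvPolynomial.pderiv j (f i)))} := by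
  let pres : Algebra.Presentation A (MvPolynomial (Fin n) A ⧸ Ideal.span (Set.range f)) (Fin n) (Fin n) :=
    Algebra.Presentation.naive (v := f)
  rw [fitt_zero_kaehler_of_presentation pres]
  congr 2
  rw [RingHom.map_det]
  rfl

end Groth.Agent.Helper18Fitt
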