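import Mathlib
import Groth.Agent.Lib.Helper7Synt47
import Groth.Agent.Lib.Helper18ColimSys

/-! # Descending polynomial data and relative global complete intersections in a directed
system of algebras (helper7)

`Stable`, `Eventually`: properties of later stages of a `Sys`; finite conjunctions;
`eventually_mem_span`: ideal membership of polynomials descends; `eventually_isRelGCI`.
-/

set_option autoImplicit false
set_option linter.style.haveILetI false
set_option linter.unusedSectionVars false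
universe u
open MvPolynomial TensorProduct
open Groth.Agent.Lib.Helper4.FibDim
open Groth.Agent.Lib.Helper18ColimSys

namespace Groth.Agent.Lib.Helper7.Synt

section Stages

variable {R : Type u} [CommRing R] {ι : Type u} {G : ι → Type u} [∀ i, CommRing (G i)]
    [∀ i, Algebra R (G i)] {A : Type u} [CommRing A] [Algebra R A] (g : ∀ i, G i →ₐ[R] A)

/-- a property of stages over `i₀` which persists at later stages -/
abbrev Stable (i₀ : ι) (P : ∀ j, (G i₀ →ₐ[R] G j) → Prop) : Prop :=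
  ∀ (j : ι) (φ : G i₀ →ₐ[R] G j) (j' : ι) (ψ : G j →ₐ[R] G j'), P j φ → P j' (ψ.comp φ)

/-- a property of stages over `i₀` which holds at some later stage of any given stage -/
abbrev Eventually (i₀ : ι) (P : ∀ j, (G i₀ →ₐ[R] G j) → Prop) : Prop :=
  ∀ (j : ι) (φ : G i₀ →ₐ[R] G j), (g j).comp φ = g i₀ →
    ∃ (j' : ι) (ψ : G j →ₐ[R] G j'), (g j').comp ψ = g j ∧ P j' (ψ.comp φ)

variable {g}

theorem Eventually.exists {i₀ : ι} {P : ∀ j, (G i₀ →ₐ[R] G j) → Prop} (h : Eventually g i₀ P) :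
    ∃ (j : ι) (φ : G i₀ →ₐ[R] G j), (g j).comp φ = g i₀ ∧ P j φ := by
  obtain ⟨j, ψ, h1, h2⟩ := h i₀ (AlgHom.id R _) (AlgHom.comp_id _)
  exact ⟨j, ψ, h1, by simpa using h2⟩

theorem Eventually.and {i₀ : ι} {P Q : ∀ j, (G i₀ →ₐ[R] G j) → Prop} (sP : Stable i₀ P)
    (eP : Eventually g i₀ P) (eQ : Eventually g i₀ Q) :
    Eventually g i₀ (fun j φ => P j φ ∧ Q j φ) := by
  intro j φ hφ
  obtain ⟨j₁, ψ₁, h₁, hP⟩ := eP j φ hφ
  obtain ⟨j₂, ψ₂, h₂, hQ⟩ := eQ j₁ (ψ₁.comp φ) (by rw [← AlgHom.comp_assoc, h₁, hφ])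
  refine ⟨j₂, ψ₂.comp ψ₁, by rw [← AlgHom.comp_assoc, h₂, h₁], ?_, ?_⟩
  · rw [AlgHom.comp_assoc]
    exact sP _ _ _ ψ₂ hP
  · rw [AlgHom.comp_assoc]
    exact hQ

theorem Stable.and {i₀ : ι} {P Q : ∀ j, (G i₀ →ₐ[R] G j) → Prop} (sP : Stable i₀ P)
    (sQ : Stable i₀ Q) : Stable i₀ (fun j φ => P j φ ∧ Q j φ) :=
  fun j φ j' ψ h => ⟨sP j φ j' ψ h.1, sQ j φ j' ψ h.2⟩

theorem Stable.forall {i₀ : ι} {κ : Sort*} {P : κ → ∀ j, (G i₀ →ₐ[R] G j) → Prop}
    (sP : ∀ k, Stable i₀ (P k)) : Stable i₀ (fun j φ => ∀ k, P k j φ) :=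
  fun j φ j' ψ h k => sP k j φ j' ψ (h k)

theorem Eventually.forall_finite {i₀ : ι} {κ : Type*} [Finite κ]
    {P : κ → ∀ j, (G i₀ →ₐ[R] G j) → Prop} (sP : ∀ k, Stable i₀ (P k))
    (eP : ∀ k, Eventually g i₀ (P k)) : Eventually g i₀ (fun j φ => ∀ k, P k j φ) := by
  classical
  haveI := Fintype.ofFinite κ
  have key : ∀ s : Finset κ, Eventually g i₀ (fun j φ => ∀ k ∈ s, P k j φ) := by
    intro s
    induction s using Finset.induction_on with
    | empty =>
      intro j φ hφ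
      exact ⟨j, AlgHom.id R _, AlgHom.comp_id _, by simp⟩
    | insert k s _ ih =>
      have h := Eventually.and (P := fun j φ => ∀ k ∈ s, P k j φ) (Q := P k)
        (fun j φ j' ψ h k hk => sP k j φ j' ψ (h k hk)) ih (eP k)
      intro j φ hφ
      obtain ⟨j', ψ, h1, h2, h3⟩ := h j φ hφ
      refine ⟨j', ψ, h1, fun k' hk' => ?_⟩
      rcases Finset.mem_insert.mp hk' with rfl | hk'
      · exact h3
      · exact h2 k' hk'
  intro j φ hφ
  obtain ⟨j', ψ, h1, h2⟩ := key Finset.univ j φ hφ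
  exact ⟨j', ψ, h1, fun k => h2 k (Finset.mem_univ k)⟩

end Stages

section Poly

variable {R : Type u} [CommRing R] {ι : Type u} {G : ι → Type u} [∀ i, CommRing (G i)]
    [∀ i, Algebra R (G i)] {A : Type u} [CommRing A] [Algebra R A] {g : ∀ i, G i →ₐ[R] A}
    {σ : Type*}

theorem map_algHom_comp {B B' B'' : Type*} [CommRing B] [CommRing B'] [CommRing B'']
    [Algebra R B] [Algebra R B'] [Algebra R B''] (φ : B →ₐ[R] B') (ψ : B' →ₐ[R] B'')
    (p : MvPolynomial σ B) :
    MvPolynomial.map (ψ.comp φ : B →+* B'') p =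
      MvPolynomial.map (ψ : B' →+* B'') (MvPolynomial.map (φ : B →+* B') p) := by
  rw [MvPolynomial.map_map]
  rfl

theorem map_algHom_algebraMap {B B' : Type*} [CommRing B] [CommRing B']
    [Algebra R B] [Algebra R B'] (φ : B →ₐ[R] B') (p : MvPolynomial σ R) :
    MvPolynomial.map (φ : B →+* B') (MvPolynomial.map (algebraMap R B) p) =
      MvPolynomial.map (algebraMap R B') p := by
  rw [MvPolynomial.map_map, φ.comp_algebraMap]

/-- lift finitely many polynomials over the colimit to a later stage -/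
theorem sys_lift_poly (hS : Sys R G A g) (i₀ : ι) {κ : Type*} [Finite κ]
    (p : κ → MvPolynomial σ A) :
    ∃ j, ∃ φ : G i₀ →ₐ[R] G j, (g j).comp φ = g i₀ ∧
      ∃ p' : κ → MvPolynomial σ (G j), ∀ k, MvPolynomial.map (g j : G j →+* A) (p' k) = p k := by
  classical
  haveI := Fintype.ofFinite κ
  obtain ⟨j, φ, h, hx⟩ := hS.lift i₀ (Finset.univ.biUnion fun k => (p k).coeffs)
  refine ⟨j, φ, h, ?_⟩
  have : ∀ k, p k ∈ Set.range (MvPolynomial.map (g j : G j →+* A)) := by
    intro k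
    rw [MvPolynomial.mem_range_map_iff_coeffs_subset]
    intro a ha
    obtain ⟨x, hx⟩ := hx a (Finset.mem_biUnion.mpr ⟨k, Finset.mem_univ k, ha⟩)
    exact ⟨x, hx⟩
  choose p' hp' using this
  exact ⟨p', hp'⟩

/-- a polynomial mapping to zero over the colimit is killed at a later stage -/
theorem sys_kill_poly (hS : Sys R G A g) (i : ι) (D : MvPolynomial σ (G i))
    (hD : MvPolynomial.map (g i : G i →+* A) D = 0) :
    ∃ j, ∃ φ : G i →ₐ[R] G j, (g j).comp φ = g i ∧ MvPolynomial.map (φ : G i →+* G j) D = 0 := by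
  classical
  obtain ⟨j, φ, h, hx⟩ := hS.kill i D.coeffs (fun x hx => by
    rw [MvPolynomial.mem_coeffs_iff] at hx
    obtain ⟨m, -, rfl⟩ := hx
    have := congrArg (MvPolynomial.coeff m) hD
    rwa [MvPolynomial.coeff_map, MvPolynomial.coeff_zero] at this)
  refine ⟨j, φ, h, ?_⟩
  ext m
  rw [MvPolynomial.coeff_map, MvPolynomial.coeff_zero]
  by_cases hm : MvPolynomial.coeff m D = 0
  · rw [hm]; exact map_zero _
  · exact hx _ (MvPolynomial.mem_coeffs_iff.mpr ⟨m, MvPolynomial.mem_support_iff.mpr hm, rfl⟩)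

theorem stable_mem_span (i₀ : ι) {κ : Type*} (P : MvPolynomial σ (G i₀))
    (Q : κ → MvPolynomial σ (G i₀)) :
    Stable i₀ (fun j (φ : G i₀ →ₐ[R] G j) => MvPolynomial.map (φ : G i₀ →+* G j) P ∈
      Ideal.span (Set.range fun k => MvPolynomial.map (φ : G i₀ →+* G j) (Q k))) := by
  intro j φ j' ψ h
  have := Ideal.mem_map_of_mem (MvPolynomial.map (ψ : G j →+* G j')) h
  rw [Ideal.map_span, ← Set.range_comp] at this
  simp only [map_algHom_comp]
  exact this

/-- ideal membership over the colimit descends to a later stage -/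
theorem eventually_mem_span (hS : Sys R G A g) (i₀ : ι) {κ : Type*} [Finite κ]
    (P : MvPolynomial σ (G i₀)) (Q : κ → MvPolynomial σ (G i₀))
    (h : MvPolynomial.map (g i₀ : G i₀ →+* A) P ∈
      Ideal.span (Set.range fun k => MvPolynomial.map (g i₀ : G i₀ →+* A) (Q k))) :
    Eventually g i₀ (fun j (φ : G i₀ →ₐ[R] G j) => MvPolynomial.map (φ : G i₀ →+* G j) P ∈
      Ideal.span (Set.range fun k => MvPolynomial.map (φ : G i₀ →+* G j) (Q k))) := by
  classical
  haveI := Fintype.ofFinite κ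
  intro j φ hφ
  have hg : ∀ p : MvPolynomial σ (G i₀), MvPolynomial.map (g i₀ : G i₀ →+* A) p =
      MvPolynomial.map (g j : G j →+* A) (MvPolynomial.map (φ : G i₀ →+* G j) p) := by
    intro p
    rw [← map_algHom_comp, hφ]
  obtain ⟨b, hb⟩ := (Ideal.mem_span_range_iff_exists_fun).mp h
  obtain ⟨j₁, φ₁, h₁, b', hb'⟩ := sys_lift_poly hS j b
  have hg₁ : ∀ p : MvPolynomial σ (G i₀), MvPolynomial.map (g i₀ : G i₀ →+* A) p =
      MvPolynomial.map (g j₁ : G j₁ →+* A) (MvPolynomial.map (φ₁.comp φ : G i₀ →+* G j₁) p) := by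
    intro p
    rw [← map_algHom_comp, ← AlgHom.comp_assoc, h₁, hφ]
  obtain ⟨j₂, φ₂, h₂, hD⟩ := sys_kill_poly hS j₁
    (MvPolynomial.map (φ₁.comp φ : G i₀ →+* G j₁) P -
      ∑ k, b' k * MvPolynomial.map (φ₁.comp φ : G i₀ →+* G j₁) (Q k)) (by
    rw [map_sub, map_sum, ← hg₁, sub_eq_zero, ← hb]
    refine Finset.sum_congr rfl fun k _ => ?_
    rw [map_mul, hb', ← hg₁])
  refine ⟨j₂, φ₂.comp φ₁, by rw [← AlgHom.comp_assoc, h₂, h₁], ?_⟩
  rw [map_sub, sub_eq_zero, map_sum] at hD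
  rw [AlgHom.comp_assoc]
  beta_reduce
  rw [map_algHom_comp, hD]
  refine Ideal.sum_mem _ fun k _ => ?_
  rw [map_mul]
  refine Ideal.mul_mem_left _ _ (Ideal.subset_span ⟨k, ?_⟩)
  simp only [map_algHom_comp]

end Poly

section RelGCI

variable {R : Type u} [CommRing R] {ι : Type u} {G : ι → Type u} [∀ i, CommRing (G i)]
    [∀ i, Algebra R (G i)] {A : Type u} [CommRing A] [Algebra R A] {g : ∀ i, G i →ₐ[R] A}
    {n c : ℕ}

theorem stable_isRelGCI (i₀ : ι) (F : Fin c → MvPolynomial (Fin n) (G i₀)) :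
    Stable i₀ (fun j (φ : G i₀ →ₐ[R] G j) =>
      Synt.IsRelGCI (G j) n c (fun l => MvPolynomial.map (φ : G i₀ →+* G j) (F l))) := by
  intro j φ j' ψ h
  letI : Algebra (G j) (G j') := (ψ : G j →+* G j').toAlgebra
  exact isRelGCI_map (fun l => MvPolynomial.map (φ : G i₀ →+* G j) (F l)) _
    (fun l => (map_algHom_comp φ ψ (F l)).symm) h

/-- a relative global complete intersection over the colimit is one at a later stage -/
theorem exists_isRelGCI_of_sys (hS : Sys R G A g) (i : ι)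
    (F : Fin c → MvPolynomial (Fin n) (G i))
    (h : Synt.IsRelGCI A n c (fun l => MvPolynomial.map (g i : G i →+* A) (F l))) :
    ∃ (j : ι) (ψ : G i →ₐ[R] G j), (g j).comp ψ = g i ∧
      Synt.IsRelGCI (G j) n c (fun l => MvPolynomial.map (ψ : G i →+* G j) (F l)) := by
  classical
  obtain ⟨J₀, hJ₀⟩ := exists_badIdeal F
  letI : Algebra (G i) A := (g i : G i →+* A).toAlgebra
  set FA : Fin c → MvPolynomial (Fin n) A := fun l => MvPolynomial.map (g i : G i →+* A) (F l)
    with hFA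
  set mkA := Ideal.Quotient.mk (Ideal.span (Set.range FA)) with hmkA
  have htop := map_eq_top_of_isRelGCI F FA (fun _ => rfl) J₀ hJ₀ h
  rw [Ideal.map, Ideal.span_eq_top_iff_finite] at htop
  obtain ⟨s', hs', hs'top⟩ := htop
  have hex : ∀ y : s', ∃ X : MvPolynomial (Fin n) (G i),
      Ideal.Quotient.mk (Ideal.span (Set.range F)) X ∈ J₀ ∧
      mkA (MvPolynomial.map (g i : G i →+* A) X) = (y : _) := by
    intro y
    obtain ⟨x, hx, hxy⟩ := hs' y.2
    obtain ⟨X, rfl⟩ := Ideal.Quotient.mk_surjective x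
    exact ⟨X, hx, hxy⟩
  choose X hXJ hXy using hex
  set I : Ideal (MvPolynomial (Fin n) A) := Ideal.span (Set.range
    fun k : s' ⊕ Fin c => MvPolynomial.map (g i : G i →+* A) (Sum.elim X F k)) with hI
  have hImap : I.map mkA = ⊤ := by
    rw [eq_top_iff, ← hs'top, Ideal.span_le]
    intro y hy
    have : y = mkA (MvPolynomial.map (g i : G i →+* A) (X ⟨y, hy⟩)) := (hXy ⟨y, hy⟩).symm
    rw [this]
    exact Ideal.mem_map_of_mem _ (Ideal.subset_span ⟨Sum.inl ⟨y, hy⟩, rfl⟩)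
  have hker : Ideal.span (Set.range FA) ≤ I := by
    rw [Ideal.span_le]
    rintro _ ⟨l, rfl⟩
    exact Ideal.subset_span ⟨Sum.inr l, rfl⟩
  have hItop : I = ⊤ := by
    have := Ideal.comap_map_of_surjective mkA Ideal.Quotient.mk_surjective I
    rw [hImap, Ideal.comap_top, ← RingHom.ker_eq_comap_bot, Ideal.mk_ker] at this
    rw [this]
    exact (sup_eq_left.mpr hker).symm
  have h1 : MvPolynomial.map (g i : G i →+* A) (1 : MvPolynomial (Fin n) (G i)) ∈ I := by
    rw [hItop]; trivial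
  obtain ⟨j, ψ, hψ, hmem⟩ := (eventually_mem_span hS i 1 (Sum.elim X F) h1).exists
  refine ⟨j, ψ, hψ, ?_⟩
  letI : Algebra (G i) (G j) := (ψ : G i →+* G j).toAlgebra
  refine isRelGCI_of_map_eq_top F (fun l => MvPolynomial.map (ψ : G i →+* G j) (F l))
    (fun _ => rfl) J₀ hJ₀ ?_
  rw [Ideal.eq_top_iff_one]
  set Fj : Fin c → MvPolynomial (Fin n) (G j) :=
    fun l => MvPolynomial.map (ψ : G i →+* G j) (F l) with hFj
  set mkj := Ideal.Quotient.mk (Ideal.span (Set.range Fj)) with hmkj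
  have h1' := Ideal.mem_map_of_mem mkj hmem
  rw [map_one, map_one, Ideal.map_span, ← Set.range_comp] at h1'
  refine (Ideal.span_le.mpr ?_) h1'
  rintro _ ⟨k, rfl⟩
  rcases k with y | l
  · exact Ideal.mem_map_of_mem (relMap F Fj fun _ => rfl) (hXJ y)
  · have : mkj (Fj l) = 0 := Ideal.Quotient.eq_zero_iff_mem.mpr (Ideal.subset_span ⟨l, rfl⟩)
    simp only [Function.comp_apply, Sum.elim_inr, SetLike.mem_coe]
    change mkj (Fj l) ∈ _
    rw [this]
    exact Ideal.zero_mem _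

theorem eventually_isRelGCI (hS : Sys R G A g) (i₀ : ι)
    (F : Fin c → MvPolynomial (Fin n) (G i₀))
    (h : Synt.IsRelGCI A n c (fun l => MvPolynomial.map (g i₀ : G i₀ →+* A) (F l))) :
    Eventually g i₀ (fun j (φ : G i₀ →ₐ[R] G j) =>
      Synt.IsRelGCI (G j) n c (fun l => MvPolynomial.map (φ : G i₀ →+* G j) (F l))) := by
  intro j φ hφ
  have h' : Synt.IsRelGCI A n c (fun l => MvPolynomial.map (g j : G j →+* A)
      (MvPolynomial.map (φ : G i₀ →+* G j) (F l))) := by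
    have : (fun l => MvPolynomial.map (g j : G j →+* A)
        (MvPolynomial.map (φ : G i₀ →+* G j) (F l))) =
        fun l => MvPolynomial.map (g i₀ : G i₀ →+* A) (F l) := by
      funext l
      rw [← map_algHom_comp, hφ]
    rw [this]
    exact h
  obtain ⟨j', ψ, hψ, hj'⟩ := exists_isRelGCI_of_sys hS j _ h'
  refine ⟨j', ψ, hψ, ?_⟩
  have : (fun l => MvPolynomial.map (ψ.comp φ : G i₀ →+* G j') (F l)) =
      fun l => MvPolynomial.map (ψ : G j →+* G j')
        (MvPolynomial.map (φ : G i₀ →+* G j) (F l)) := by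
    funext l
    rw [map_algHom_comp]
  beta_reduce
  rw [this]
  exact hj'

end RelGCI

end Groth.Agent.Lib.Helper7.Synt
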