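import Mathlib
import Groth.Agent.Lib.Helper7Synt48

/-! # Syntomic descends in a directed system (helper7) -/

set_option autoImplicit false
set_option linter.style.haveILetI false
set_option linter.unusedSectionVars false
universe u
open MvPolynomial TensorProduct
open Groth.Agent.Lib.Helper4.FibDim
open Groth.Agent.Lib.Helper18ColimSys

namespace Groth.Agent.Lib.Helper7.Synt

section ChartDescent

variable {R : Type u} [CommRing R] {ι : Type u} {G : ι → Type u} [∀ i, CommRing (G i)]
    [∀ i, Algebra R (G i)] {A : Type u} [CommRing A] [Algebra R A] {g : ∀ i, G i →ₐ[R] A}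
    {n s : ℕ}

/-- a chart certificate over the colimit descends to some stage -/
theorem exists_stage_chartCert (hS : Sys R G A g) (H₀ : Fin s → MvPolynomial (Fin n) R)
    (hA : ChartCert (fun l => MvPolynomial.map (algebraMap R A) (H₀ l))) :
    ∃ i, ChartCert (fun l => MvPolynomial.map (algebraMap R (G i)) (H₀ l)) := by
  classical
  obtain ⟨m, c, f, h, a, hch, hcov⟩ := hA
  obtain ⟨i⟩ := hS.nonempty
  -- lift all the polynomial data to a stage `i₀`
  obtain ⟨i₀, -, -, p', hp'⟩ := sys_lift_poly hS i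
    (Sum.elim (fun x : Σ k, Fin (c k) => f x.1 x.2) (Sum.elim h a))
  set f' : ∀ k, Fin (c k) → MvPolynomial (Fin n) (G i₀) := fun k t => p' (Sum.inl ⟨k, t⟩)
    with hf'
  set h' : Fin m → MvPolynomial (Fin n) (G i₀) := fun k => p' (Sum.inr (Sum.inl k)) with hh'
  set a' : Fin m → MvPolynomial (Fin n) (G i₀) := fun k => p' (Sum.inr (Sum.inr k)) with ha'
  have hf : ∀ k t, MvPolynomial.map (g i₀ : G i₀ →+* A) (f' k t) = f k t :=
    fun k t => hp' (Sum.inl ⟨k, t⟩)
  have hh : ∀ k, MvPolynomial.map (g i₀ : G i₀ →+* A) (h' k) = h k :=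
    fun k => hp' (Sum.inr (Sum.inl k))
  have ha : ∀ k, MvPolynomial.map (g i₀ : G i₀ →+* A) (a' k) = a k :=
    fun k => hp' (Sum.inr (Sum.inr k))
  set H' : Fin s → MvPolynomial (Fin n) (G i₀) :=
    fun l => MvPolynomial.map (algebraMap R (G i₀)) (H₀ l) with hH'
  have hH : ∀ l, MvPolynomial.map (g i₀ : G i₀ →+* A) (H' l) =
      MvPolynomial.map (algebraMap R A) (H₀ l) := fun l => map_algHom_algebraMap (g i₀) (H₀ l)
  have hHfun : (fun l => MvPolynomial.map (g i₀ : G i₀ →+* A) (H' l)) =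
      fun l => MvPolynomial.map (algebraMap R A) (H₀ l) := funext hH
  -- the four families of conditions
  have ea : Eventually g i₀ (fun j (φ : G i₀ →ₐ[R] G j) => ∀ x : (Σ k, Fin (c k)),
      MvPolynomial.map (φ : G i₀ →+* G j) (f' x.1 x.2) ∈
        Ideal.span (Set.range fun l => MvPolynomial.map (φ : G i₀ →+* G j) (H' l))) := by
    refine Eventually.forall_finite (fun x => stable_mem_span i₀ _ _)
      (fun x => eventually_mem_span hS i₀ _ _ ?_)
    rw [hf, hHfun]
    exact (hch x.1).1 x.2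
  have sa : Stable i₀ (fun j (φ : G i₀ →ₐ[R] G j) => ∀ x : (Σ k, Fin (c k)),
      MvPolynomial.map (φ : G i₀ →+* G j) (f' x.1 x.2) ∈
        Ideal.span (Set.range fun l => MvPolynomial.map (φ : G i₀ →+* G j) (H' l))) :=
    Stable.forall (fun x => stable_mem_span i₀ _ _)
  have eb : Eventually g i₀ (fun j (φ : G i₀ →ₐ[R] G j) => ∀ x : Fin m × Fin s,
      MvPolynomial.map (φ : G i₀ →+* G j) (h' x.1 * H' x.2) ∈
        Ideal.span (Set.range fun t => MvPolynomial.map (φ : G i₀ →+* G j) (f' x.1 t))) := by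
    refine Eventually.forall_finite (fun x => stable_mem_span i₀ _ _)
      (fun x => eventually_mem_span hS i₀ _ _ ?_)
    rw [map_mul, hh, hH]
    simp only [hf]
    exact (hch x.1).2.1 x.2
  have sb : Stable i₀ (fun j (φ : G i₀ →ₐ[R] G j) => ∀ x : Fin m × Fin s,
      MvPolynomial.map (φ : G i₀ →+* G j) (h' x.1 * H' x.2) ∈
        Ideal.span (Set.range fun t => MvPolynomial.map (φ : G i₀ →+* G j) (f' x.1 t))) :=
    Stable.forall (fun x => stable_mem_span i₀ _ _)
  have ec : Eventually g i₀ (fun j (φ : G i₀ →ₐ[R] G j) => ∀ k : Fin m,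
      Synt.IsRelGCI (G j) (n + 1) (c k + 1)
        (fun t => MvPolynomial.map (φ : G i₀ →+* G j) (snocRel (f' k) (h' k) t))) := by
    refine Eventually.forall_finite (fun k => stable_isRelGCI i₀ _)
      (fun k => eventually_isRelGCI hS i₀ _ ?_)
    have : (fun t => MvPolynomial.map (g i₀ : G i₀ →+* A) (snocRel (f' k) (h' k) t)) =
        snocRel (f k) (h k) := by
      funext t
      rw [map_snocRel, hh]
      simp only [hf]
    rw [this]
    exact (hch k).2.2
  have sc : Stable i₀ (fun j (φ : G i₀ →ₐ[R] G j) => ∀ k : Fin m,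
      Synt.IsRelGCI (G j) (n + 1) (c k + 1)
        (fun t => MvPolynomial.map (φ : G i₀ →+* G j) (snocRel (f' k) (h' k) t))) :=
    Stable.forall (fun k => stable_isRelGCI i₀ _)
  have ed : Eventually g i₀ (fun j (φ : G i₀ →ₐ[R] G j) =>
      MvPolynomial.map (φ : G i₀ →+* G j) (∑ k, a' k * h' k - 1) ∈
        Ideal.span (Set.range fun l => MvPolynomial.map (φ : G i₀ →+* G j) (H' l))) := by
    refine eventually_mem_span hS i₀ _ _ ?_
    rw [hHfun, map_sub, map_sum, map_one]
    simp only [map_mul, ha, hh]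
    exact hcov
  obtain ⟨j, φ, -, ⟨⟨h1, h2⟩, h3⟩, h4⟩ := ((ea.and sa eb).and (sa.and sb) ec |>.and
    ((sa.and sb).and sc) ed).exists
  have hHj : (fun l => MvPolynomial.map (φ : G i₀ →+* G j) (H' l)) =
      fun l => MvPolynomial.map (algebraMap R (G j)) (H₀ l) :=
    funext fun l => map_algHom_algebraMap φ (H₀ l)
  rw [hHj] at h1 h4
  refine ⟨j, m, c, fun k t => MvPolynomial.map (φ : G i₀ →+* G j) (f' k t),
    fun k => MvPolynomial.map (φ : G i₀ →+* G j) (h' k),
    fun k => MvPolynomial.map (φ : G i₀ →+* G j) (a' k), fun k => ⟨fun t => h1 ⟨k, t⟩, fun l => ?_, ?_⟩,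
    ?_⟩
  · have := h2 (k, l)
    rw [map_mul] at this
    have e := congrFun hHj l
    beta_reduce at e ⊢
    rw [← e]
    exact this
  · have := h3 k
    have e : (fun t => MvPolynomial.map (φ : G i₀ →+* G j) (snocRel (f' k) (h' k) t)) =
        snocRel (fun t => MvPolynomial.map (φ : G i₀ →+* G j) (f' k t))
          (MvPolynomial.map (φ : G i₀ →+* G j) (h' k)) := funext fun t => map_snocRel _ _ _ t
    rw [e] at this
    exact this
  · rw [map_sub, map_sum, map_one] at h4
    simpa only [map_mul] using h4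

end ChartDescent

section Core

variable {R : Type u} [CommRing R] {ι : Type u} {G : ι → Type u} [∀ i, CommRing (G i)]
    [∀ i, Algebra R (G i)] {A : Type u} [CommRing A] [Algebra R A] {g : ∀ i, G i →ₐ[R] A}

theorem exists_presentation_equiv (C : Type u) [CommRing C] [Algebra R C]
    [Algebra.FinitePresentation R C] :
    ∃ (n s : ℕ) (H₀ : Fin s → MvPolynomial (Fin n) R),
      Nonempty (C ≃ₐ[R] Synt.RelGCIRing R n s H₀) := by
  obtain ⟨n, π, hπ, hfg⟩ := Algebra.FinitePresentation.out (R := R) (A := C)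
  obtain ⟨s, H₀, hH₀⟩ := Submodule.fg_iff_exists_fin_generating_family.mp hfg
  refine ⟨n, s, H₀, ⟨((Ideal.quotientKerAlgEquivOfSurjective hπ).symm).trans
    (Ideal.quotientEquivAlgOfEq R ?_)⟩⟩
  exact hH₀.symm

theorem core_syntomic (hS : Sys R G A g) (C : Type u) [CommRing C] [Algebra R C]
    [Algebra.FinitePresentation R C] (h : Synt.IsSyntomic A (A ⊗[R] C)) :
    ∃ i, Synt.IsSyntomic (G i) (G i ⊗[R] C) := by
  obtain ⟨n, s, H₀, ⟨e⟩⟩ := exists_presentation_equiv (R := R) C
  have key : ∀ (B : Type u) [CommRing B] [Algebra R B], Nonempty ((B ⊗[R] C) ≃ₐ[B]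
      Synt.RelGCIRing B n s (fun l => MvPolynomial.map (algebraMap R B) (H₀ l))) := fun B _ _ =>
    ⟨(Algebra.TensorProduct.congr AlgEquiv.refl e).trans (relTensorEquiv H₀ _ (fun _ => rfl))⟩
  obtain ⟨εA⟩ := key A
  have hA := isSyntomic_of_algEquiv εA h
  have cert := chartCert_of_isSyntomic _ hA
  obtain ⟨i, hi⟩ := exists_stage_chartCert hS H₀ cert
  obtain ⟨εi⟩ := key (G i)
  exact ⟨i, isSyntomic_of_algEquiv εi.symm (isSyntomic_of_chartCert _ hi)⟩

end Core

end Groth.Agent.Lib.Helper7.Synt
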