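import Mathlib
import Groth.Agent.Lib.Helper7Synt49
import Groth.Agent.Lib.Helper7Synt43
import Groth.Agent.Lib.Helper7Synt30
import Groth.Agent.Lib.Helper6SmSynt

/-! # Syntomic ring maps are stable under base change; the morphism property `syntomicMor`
(helper7) -/

set_option autoImplicit false
set_option linter.style.haveILetI false
set_option linter.unusedSectionVars false
universe u
open MvPolynomial TensorProduct AlgebraicGeometry CategoryTheory

namespace Groth.Agent.Lib.Helper7.Synt

section BaseChange

variable {G G' : Type u} [CommRing G] [CommRing G'] (φ : G →+* G') {n s : ℕ}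
  {H : Fin s → MvPolynomial (Fin n) G}

theorem IsChart.map {c : ℕ} {f : Fin c → MvPolynomial (Fin n) G} {h : MvPolynomial (Fin n) G}
    (hc : IsChart H c f h) :
    IsChart (fun l => MvPolynomial.map φ (H l)) c (fun i => MvPolynomial.map φ (f i))
      (MvPolynomial.map φ h) := by
  refine ⟨fun i => ?_, fun l => ?_, ?_⟩
  · have := Ideal.mem_map_of_mem (MvPolynomial.map φ) (hc.1 i)
    rwa [Ideal.map_span, ← Set.range_comp] at this
  · have := Ideal.mem_map_of_mem (MvPolynomial.map φ) (hc.2.1 l)
    rwa [Ideal.map_span, ← Set.range_comp, map_mul] at this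
  · letI := φ.toAlgebra
    exact isRelGCI_map (snocRel f h) _ (fun i => map_snocRel φ f h i) hc.2.2

theorem ChartCert.map (hc : ChartCert H) : ChartCert (fun l => MvPolynomial.map φ (H l)) := by
  obtain ⟨m, c, f, h, a, hch, hcov⟩ := hc
  refine ⟨m, c, fun k i => MvPolynomial.map φ (f k i), fun k => MvPolynomial.map φ (h k),
    fun k => MvPolynomial.map φ (a k), fun k => (hch k).map φ, ?_⟩
  have := Ideal.mem_map_of_mem (MvPolynomial.map φ) hcov
  rw [Ideal.map_span, ← Set.range_comp, map_sub, map_sum, map_one] at this
  simp only [map_mul] at this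
  exact this

/-- syntomic ring maps are stable under base change -/
theorem isSyntomic_baseChange (R S R' : Type u) [CommRing R] [CommRing S] [CommRing R']
    [Algebra R S] [Algebra R R'] (h : Synt.IsSyntomic R S) : Synt.IsSyntomic R' (R' ⊗[R] S) := by
  haveI := h.2.1
  obtain ⟨n, s, H₀, ⟨e⟩⟩ := exists_presentation_equiv (R := R) S
  have hR := isSyntomic_of_algEquiv e h
  have cert := chartCert_of_isSyntomic _ hR
  have cert' := cert.map (algebraMap R R')
  have h' := isSyntomic_of_chartCert _ cert'
  exact isSyntomic_of_algEquiv ((Algebra.TensorProduct.congr AlgEquiv.refl e).trans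
    (relTensorEquiv H₀ _ (fun _ => rfl))).symm h'

theorem syntomicHom_isStableUnderBaseChange : RingHom.IsStableUnderBaseChange @SyntomicHom.{u} := by
  refine RingHom.IsStableUnderBaseChange.mk syntomicHom_respectsIso ?_
  intro R S T _ _ _ _ _ h
  rw [syntomicHom_algebraMap] at h ⊢
  exact isSyntomic_baseChange R T S h

theorem syntomicHom_stableUnderComposition : RingHom.StableUnderComposition @SyntomicHom.{u} := by
  intro R S T _ _ _ f g hf hg
  letI := f.toAlgebra
  letI := g.toAlgebra
  letI := (g.comp f).toAlgebra
  haveI : IsScalarTower R S T := .of_algebraMap_eq' rfl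
  exact isSyntomic_trans R S T hf hg

theorem syntomicHom_containsIdentities : RingHom.ContainsIdentities @SyntomicHom.{u} := by
  intro R _
  show SyntomicHom (algebraMap R R)
  rw [syntomicHom_algebraMap]
  exact Groth.Agent.Lib.Helper6.SmSynt.isSyntomic_of_smooth R R

instance : syntomicMor.{u}.IsStableUnderBaseChange :=
  HasRingHomProperty.isStableUnderBaseChange syntomicHom_isStableUnderBaseChange

instance : syntomicMor.{u}.IsMultiplicative :=
  HasRingHomProperty.isMultiplicative syntomicHom_stableUnderComposition
    syntomicHom_containsIdentities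

theorem syntomicMor_of_isOpenImmersion {X Y : Scheme.{u}} (f : X ⟶ Y) [IsOpenImmersion f] :
    syntomicMor f :=
  HasRingHomProperty.of_isOpenImmersion syntomicHom_containsIdentities

instance : MorphismProperty.RespectsRight syntomicMor.{u} @IsOpenImmersion where
  postcomp i hi f hf := syntomicMor.comp_mem f i hf
    (haveI : IsOpenImmersion i := hi; syntomicMor_of_isOpenImmersion i)

theorem isLocalSrc_syntomicMor : IsZariskiLocalAtSource syntomicMor.{u} := inferInstance

theorem isLocalTgt_syntomicMor : IsZariskiLocalAtTarget syntomicMor.{u} := inferInstance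

end BaseChange

end Groth.Agent.Lib.Helper7.Synt
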