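import Groth.Prelude
import Mathlib

open TensorProduct

namespace Groth.Agent.Lib.Helper6

universe u v w

theorem annihilator_baseChange_of_flat {A : Type u} {B : Type v} [CommRing A] [CommRing B]
    [Algebra A B] [Module.Flat A B] (M : Type w) [AddCommGroup M] [Module A M]
    [Module.Finite A M] :
    Module.annihilator B (B ⊗[A] M) = (Module.annihilator A M).map (algebraMap A B) := by
  classical
  apply le_antisymm
  · intro b hb
    rw [Module.mem_annihilator] at hb
    obtain ⟨n, s, hs⟩ := Module.Finite.exists_fin (R := A) (M := M)
    let φ : A →ₗ[A] (Fin n → M) := LinearMap.pi (fun i => LinearMap.toSpanSingleton A M (s i))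
    have hker : ∀ a ∈ LinearMap.ker φ, a ∈ Module.annihilator A M := by
      intro a ha
      rw [Module.mem_annihilator]
      have ha' : ∀ i, a • s i = 0 := by
        intro i
        have := congrFun (LinearMap.mem_ker.mp ha) i
        simpa [φ] using this
      intro m
      have hm : m ∈ Submodule.span A (Set.range s) := by rw [hs]; trivial
      induction hm using Submodule.span_induction with
      | mem x hx =>
        obtain ⟨i, rfl⟩ := hx
        exact ha' i
      | zero => simp
      | add x y _ _ hx hy => rw [smul_add, hx, hy, add_zero]
      | smul r x _ hx => rw [smul_comm, hx, smul_zero]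
    have h1 : (AlgebraTensorModule.lTensor B B φ) (b ⊗ₜ[A] (1 : A)) = 0 := by
      have hφ1 : φ 1 = ∑ i, Pi.single i (s i) := by
        ext j
        simp [φ, Finset.sum_apply, Pi.single_apply]
      rw [AlgebraTensorModule.lTensor_tmul, hφ1, tmul_sum]
      refine Finset.sum_eq_zero (fun i _ => ?_)
      have h2 : b ⊗ₜ[A] (Pi.single i (s i) : Fin n → M) =
          (LinearMap.lTensor B (LinearMap.single A (fun _ : Fin n => M) i)) (b ⊗ₜ[A] s i) := by
        simp
      have h3 : b ⊗ₜ[A] s i = b • ((1 : B) ⊗ₜ[A] s i) := by
        rw [smul_tmul', smul_eq_mul, mul_one]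
      rw [h2, h3, hb, map_zero]
    have h4 : b ⊗ₜ[A] (1 : A) ∈
        LinearMap.range (AlgebraTensorModule.lTensor B B (LinearMap.ker φ).subtype) := by
      rw [← Module.Flat.ker_lTensor_eq]
      exact h1
    obtain ⟨z, hz⟩ := h4
    have key : ∀ z : B ⊗[A] (LinearMap.ker φ),
        (TensorProduct.rid A B) ((AlgebraTensorModule.lTensor B B (LinearMap.ker φ).subtype) z) ∈
          (Module.annihilator A M).map (algebraMap A B) := by
      intro z
      induction z using TensorProduct.induction_on with
      | zero => simp
      | tmul b' a' =>
        rw [AlgebraTensorModule.lTensor_tmul, Submodule.subtype_apply, TensorProduct.rid_tmul,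
          Algebra.smul_def]
        exact Ideal.mul_mem_right _ _ (Ideal.mem_map_of_mem _ (hker _ a'.2))
      | add x y hx hy =>
        rw [map_add, map_add]
        exact Ideal.add_mem _ hx hy
    have := key z
    rw [hz, TensorProduct.rid_tmul, one_smul] at this
    exact this
  · rw [Ideal.map_le_iff_le_comap]
    intro a ha
    rw [Module.mem_annihilator] at ha
    rw [Ideal.mem_comap, Module.mem_annihilator]
    intro z
    induction z using TensorProduct.induction_on with
    | zero => simp
    | tmul b m =>
      rw [smul_tmul', smul_eq_mul, ← Algebra.smul_def, ← smul_tmul', ← tmul_smul, ha,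
        tmul_zero]
    | add x y hx hy => rw [smul_add, hx, hy, add_zero]

end Groth.Agent.Lib.Helper6
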