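import Mathlib
import Groth.Prelude.Def_Disc
import Groth.Agent.Lib.Helper6AnnFlat

set_option autoImplicit false
set_option linter.style.haveILetI false
universe u

namespace Groth.Agent.Lib.Helper18Disc2
open TensorProduct

section general

variable {T T' : Type*} [CommRing T] [CommRing T'] [Algebra T T'] [Module.Flat T T']

/-- the annihilator of a finitely generated ideal commutes with flat base change -/
theorem annihilator_map_of_flat (I : Ideal T) (hI : I.FG) :
    Submodule.annihilator (I.map (algebraMap T T')) =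
      (Submodule.annihilator I).map (algebraMap T T') := by
  haveI : Module.Finite T I := Module.Finite.iff_fg.mpr hI
  have h6 := Groth.Agent.Lib.Helper6.annihilator_baseChange_of_flat (A := T) (B := T') I
  let ψ : T' ⊗[T] I →ₗ[T'] T' :=
    (AlgebraTensorModule.rid T T' T').toLinearMap ∘ₗ (LinearMap.baseChange T' I.subtype)
  have hψ : ∀ (t' : T') (x : I), ψ (t' ⊗ₜ x) = t' * algebraMap T T' x := by
    intro t' x
    simp [ψ, Algebra.smul_def, mul_comm]
  have hinj : Function.Injective ψ := by
    have h1 : Function.Injective (LinearMap.baseChange T' I.subtype) := by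
      rw [LinearMap.baseChange_eq_ltensor]
      exact Module.Flat.lTensor_preserves_injective_linearMap (M := T') I.subtype
        Subtype.val_injective
    exact (AlgebraTensorModule.rid T T' T').injective.comp h1
  have hrange : LinearMap.range ψ = I.map (algebraMap T T') := by
    apply le_antisymm
    · rintro _ ⟨z, rfl⟩
      induction z using TensorProduct.induction_on with
      | zero => simp
      | tmul t' x =>
        rw [hψ]
        exact Ideal.mul_mem_left _ _ (Ideal.mem_map_of_mem _ x.2)
      | add a b ha hb => rw [map_add]; exact add_mem ha hb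
    · rw [Ideal.map, Ideal.span_le]
      rintro _ ⟨x, hx, rfl⟩
      exact ⟨1 ⊗ₜ ⟨x, hx⟩, by rw [hψ, one_mul]⟩
  let e : (T' ⊗[T] I) ≃ₗ[T'] LinearMap.range ψ := LinearEquiv.ofInjective ψ hinj
  have h7 : Module.annihilator T' (T' ⊗[T] I) = Module.annihilator T' (LinearMap.range ψ) :=
    e.annihilator_eq
  rw [← hrange]
  change Module.annihilator T' (LinearMap.range ψ) = _
  rw [← h7, h6]

end general


section flatBC

variable {A B A' B' : Type u} [CommRing A] [CommRing B]
    [CommRing A'] [CommRing B'] [Algebra A B] [Algebra A A'] [Algebra A B'] [Algebra B B']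
    [Algebra A' B'] [IsScalarTower A B B'] [IsScalarTower A A' B']

variable (A B A' B') in
/-- the natural map `B ⊗[A] B → B' ⊗[A'] B'` -/
noncomputable def phi : B ⊗[A] B →ₐ[A] B' ⊗[A'] B' :=
  (Algebra.TensorProduct.mapOfCompatibleSMul A' A A B' B').comp
    (Algebra.TensorProduct.map (IsScalarTower.toAlgHom A B B') (IsScalarTower.toAlgHom A B B'))

@[simp] theorem phi_tmul (x y : B) :
    phi A B A' B' (x ⊗ₜ y) = algebraMap B B' x ⊗ₜ[A'] algebraMap B B' y := by
  simp [phi]

theorem lmul_phi (t : B ⊗[A] B) :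
    Algebra.TensorProduct.lmul' (S := B') A' (phi A B A' B' t) =
      algebraMap B B' (Algebra.TensorProduct.lmul' (S := B) A t) := by
  induction t using TensorProduct.induction_on with
  | zero => simp
  | tmul x y => simp
  | add a b ha hb => simp only [map_add, ha, hb]

/-- the kernel of the multiplication of `B'` is generated by the kernel of that of `B` -/
theorem map_ker_eq [Algebra.IsPushout A B A' B'] :
    (RingHom.ker (Algebra.TensorProduct.lmul' (S := B) A)).map (phi A B A' B').toRingHom =
      RingHom.ker (Algebra.TensorProduct.lmul' (S := B') A') := by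
  apply le_antisymm
  · rw [Ideal.map_le_iff_le_comap]
    intro t ht
    rw [Ideal.mem_comap, RingHom.mem_ker]
    rw [RingHom.mem_ker] at ht
    change Algebra.TensorProduct.lmul' (S := B') A' (phi A B A' B' t) = 0
    rw [lmul_phi, ht, map_zero]
  · change KaehlerDifferential.ideal A' B' ≤ _
    rw [← KaehlerDifferential.span_range_eq_ideal, Ideal.span_le]
    rintro _ ⟨s, rfl⟩
    have hpo : Algebra.IsPushout A A' B B' := Algebra.IsPushout.symm inferInstance
    have hbc := hpo.out
    refine hbc.inductionOn s (fun s : B' => (1 : B') ⊗ₜ[A'] s - s ⊗ₜ[A'] (1 : B') ∈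
      (RingHom.ker (Algebra.TensorProduct.lmul' (S := B) A)).map (phi A B A' B').toRingHom) ?_ ?_ ?_ ?_
    · simp
    · intro b
      have h1 : (1 : B') ⊗ₜ[A'] ((IsScalarTower.toAlgHom A B B').toLinearMap b) -
          ((IsScalarTower.toAlgHom A B B').toLinearMap b) ⊗ₜ[A'] (1 : B') =
          (phi A B A' B').toRingHom ((1 : B) ⊗ₜ[A] b - b ⊗ₜ[A] (1 : B)) := by
        simp
      rw [h1]
      refine Ideal.mem_map_of_mem _ ?_
      rw [RingHom.mem_ker]
      simp
    · intro a' x hx
      have h1 : (1 : B') ⊗ₜ[A'] (a' • x) - (a' • x) ⊗ₜ[A'] (1 : B') =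
          (algebraMap A' (B' ⊗[A'] B') a') * ((1 : B') ⊗ₜ[A'] x - x ⊗ₜ[A'] (1 : B')) := by
        rw [TensorProduct.tmul_smul, ← TensorProduct.smul_tmul', ← smul_sub, Algebra.smul_def]
      rw [h1]
      exact Ideal.mul_mem_left _ _ hx
    · intro x y hx hy
      have : (1 : B') ⊗ₜ[A'] (x + y) - (x + y) ⊗ₜ[A'] (1 : B') =
          ((1 : B') ⊗ₜ[A'] x - x ⊗ₜ[A'] (1 : B')) + ((1 : B') ⊗ₜ[A'] y - y ⊗ₜ[A'] (1 : B')) := by
        rw [TensorProduct.tmul_add, TensorProduct.add_tmul]; ring
      rw [this]
      exact add_mem hx hy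


section flatness

variable [Algebra.IsPushout A B A' B']

/-- `B ⊗[A] B → B' ⊗[A'] B'` is a base change along `A → A'` -/
theorem isBaseChange_phi : IsBaseChange A' (phi A B A' B').toLinearMap := by
  have hpo : Algebra.IsPushout A A' B B' := Algebra.IsPushout.symm inferInstance
  have hf : IsBaseChange A' (IsScalarTower.toAlgHom A B B').toLinearMap := hpo.out
  have h1 := isBaseChange_tensorProduct_map (R := A) (S := A) (P := B) A' hf
  let ε : B' ⊗[A'] B' ≃ₗ[A'] B' ⊗[A] B := hf.tensorEquiv B'
  have hε : ∀ (p : B') (m : B), ε (p ⊗ₜ[A'] (algebraMap B B' m)) = p ⊗ₜ[A] m := by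
    intro p m
    simp only [ε, IsBaseChange.tensorEquiv, LinearEquiv.trans_apply, LinearEquiv.lTensor_tmul]
    have : hf.equiv.symm ((algebraMap B B') m) = 1 ⊗ₜ m :=
      hf.equiv_symm_apply m
    rw [this]
    simp
  have h2 := IsBaseChange.comp h1 (IsBaseChange.ofEquiv ε.symm)
  have h3 : (phi A B A' B').toLinearMap =
      (ε.symm.toLinearMap.restrictScalars A).comp
        (AlgebraTensorModule.map (IsScalarTower.toAlgHom A B B').toLinearMap
          (LinearMap.id : B →ₗ[A] B)) := by
    apply TensorProduct.ext'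
    intro x y
    simp only [AlgHom.toLinearMap_apply, phi_tmul, LinearMap.coe_comp,
      LinearMap.coe_restrictScalars, LinearEquiv.coe_coe, Function.comp_apply,
      AlgebraTensorModule.map_tmul, LinearMap.id_coe, id_eq]
    rw [eq_comm, LinearEquiv.symm_apply_eq, hε]
    rfl
  rw [h3]
  exact h2


theorem main [Algebra.FiniteType A B] [Module.Flat A A'] :
    Disc.noetherDifferent A' B' = (Disc.noetherDifferent A B).map (algebraMap B B') := by
  letI : Algebra (B ⊗[A] B) (B' ⊗[A'] B') := (phi A B A' B').toRingHom.toAlgebra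
  haveI : IsScalarTower A (B ⊗[A] B) (B' ⊗[A'] B') :=
    IsScalarTower.of_algebraMap_eq (fun a => ((phi A B A' B').commutes a).symm)
  have hBC : IsBaseChange A' (IsScalarTower.toAlgHom A (B ⊗[A] B) (B' ⊗[A'] B')).toLinearMap :=
    isBaseChange_phi (A := A) (B := B) (A' := A') (B' := B')
  haveI hpo : Algebra.IsPushout A A' (B ⊗[A] B) (B' ⊗[A'] B') := ⟨hBC⟩
  haveI hpo' : Algebra.IsPushout A (B ⊗[A] B) A' (B' ⊗[A'] B') := hpo.symm
  haveI : Module.Flat (B ⊗[A] B) (B' ⊗[A'] B') :=
    Module.Flat.isBaseChange (R := A) (M := A') (S := B ⊗[A] B) _ hpo'.out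
  have hI : (RingHom.ker (Algebra.TensorProduct.lmul' (S := B) A)).FG :=
    KaehlerDifferential.ideal_fg A B
  have h3 := annihilator_map_of_flat (T := B ⊗[A] B) (T' := B' ⊗[A'] B') _ hI
  have h2 := map_ker_eq (A := A) (B := B) (A' := A') (B' := B')
  unfold Disc.noetherDifferent
  rw [← h2]
  change Ideal.map (Algebra.TensorProduct.lmul' (S := B') A').toRingHom
    (Submodule.annihilator (Ideal.map (algebraMap (B ⊗[A] B) (B' ⊗[A'] B')) _)) =
    Ideal.map (algebraMap B B') (Ideal.map (Algebra.TensorProduct.lmul' (S := B) A).toRingHom _)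
  rw [h3, Ideal.map_map, Ideal.map_map]
  congr 1
  exact RingHom.ext fun t => lmul_phi t

end flatness

end flatBC

end Groth.Agent.Lib.Helper18Disc2
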