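import Mathlib
import Groth.Agent.Lib.Helper7Synt50

/-! # Finite syntomic algebras over a local ring have a square presentation (helper7) -/

set_option autoImplicit false
set_option linter.style.haveILetI false
set_option linter.unusedSectionVars false
universe u
open MvPolynomial TensorProduct

namespace Groth.Agent.Lib.Helper7.Synt

section Nak

variable {P : Type*} [CommRing P]

/-- Nakayama over all maximal ideals: if `I` is finitely generated and `I ≤ J + M I` for all
maximal ideals `M`, then `I ≤ J`. -/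
theorem le_of_forall_isMaximal_le_sup_mul (I J : Ideal P) (hI : I.FG)
    (h : ∀ M : Ideal P, M.IsMaximal → I ≤ J ⊔ M * I) : I ≤ J := by
  by_contra hne
  have hQ : J.colon I ≠ ⊤ := by
    intro htop
    apply hne
    intro x hx
    have h1 : (1 : P) ∈ J.colon I := htop ▸ Submodule.mem_top
    have := Submodule.mem_colon.mp h1 x hx
    simpa using this
  obtain ⟨M, hM, hQM⟩ := Ideal.exists_le_maximal _ hQ
  let N : Submodule P (P ⧸ J) := Submodule.map (Submodule.mkQ J) I
  have hNfg : N.FG := Submodule.FG.map _ hI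
  have hle : N ≤ M • N := by
    rw [← Submodule.map_smul'']
    rintro _ ⟨x, hx, rfl⟩
    obtain ⟨a, ha, b, hb, rfl⟩ := Submodule.mem_sup.mp (h M hM hx)
    rw [map_add]
    have : J.mkQ a = 0 := (Submodule.Quotient.mk_eq_zero J).mpr ha
    rw [this, zero_add]
    exact Submodule.mem_map_of_mem hb
  obtain ⟨r, hr1, hr0⟩ :=
    Submodule.exists_sub_one_mem_and_smul_eq_zero_of_fg_of_le_smul M N hNfg hle
  have hrQ : r ∈ J.colon I := Submodule.mem_colon.mpr fun x hx => by
    have := hr0 (J.mkQ x) (Submodule.mem_map_of_mem hx)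
    rw [← map_smul, Submodule.mkQ_apply, Submodule.Quotient.mk_eq_zero] at this
    exact this
  have : (1 : P) ∈ M := by
    have := M.sub_mem (hQM hrQ) hr1
    simpa using this
  exact hM.ne_top ((Ideal.eq_top_iff_one M).mpr this)

/-- over a ring in which only finitely many maximal ideals contain `I`: if near every such
maximal ideal `I` is generated by `n` elements, then `I` is generated by `n` elements up to an
element `g ≡ 1 mod I`. -/
theorem exists_gens_of_local_gens (I : Ideal P) (hI : I.FG)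
    (hfin : {M : Ideal P | M.IsMaximal ∧ I ≤ M}.Finite) (n : ℕ)
    (hloc : ∀ M : Ideal P, M.IsMaximal → I ≤ M → ∃ (f : Fin n → P) (h : P), h ∉ M ∧
      (∀ i, f i ∈ I) ∧ ∀ x ∈ I, h * x ∈ Ideal.span (Set.range f)) :
    ∃ (f : Fin n → P) (g : P), (∀ i, f i ∈ I) ∧ g - 1 ∈ I ∧
      ∀ x ∈ I, g * x ∈ Ideal.span (Set.range f) := by
  classical
  haveI : Finite ↥{M : Ideal P | M.IsMaximal ∧ I ≤ M} := hfin.to_subtype
  haveI := Fintype.ofFinite ↥{M : Ideal P | M.IsMaximal ∧ I ≤ M}
  choose f h hh hf hhx using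
    fun M : ↥{M : Ideal P | M.IsMaximal ∧ I ≤ M} => hloc M.1 M.2.1 M.2.2
  have hcop : Pairwise (Function.onFun IsCoprime fun M : ↥{M : Ideal P | M.IsMaximal ∧ I ≤ M} => M.1) := by
    intro M M' hne
    haveI := M.2.1
    haveI := M'.2.1
    exact Ideal.isCoprime_of_isMaximal (fun h => hne (Subtype.ext h))
  choose e he using fun M : ↥{M : Ideal P | M.IsMaximal ∧ I ≤ M} =>
    Ideal.exists_forall_sub_mem_ideal hcop (fun M' => if M' = M then (1 : P) else 0)
  let F : Fin n → P := fun i => ∑ M, e M * f M i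
  have hFI : ∀ i, F i ∈ I := fun i => I.sum_mem fun M _ => I.mul_mem_left _ (hf M i)
  have key : I ≤ Ideal.span (Set.range F) ⊔ I * I := by
    apply le_of_forall_isMaximal_le_sup_mul I _ hI
    intro M₀ hM₀
    by_cases hIM : I ≤ M₀
    · let M₁ : ↥{M : Ideal P | M.IsMaximal ∧ I ≤ M} := ⟨M₀, hM₀, hIM⟩
      have h1 : Ideal.span (Set.range (f M₁)) ≤
          (Ideal.span (Set.range F) ⊔ I * I) ⊔ M₀ * I := by
        rw [Ideal.span_le]
        rintro _ ⟨i, rfl⟩
        have hexp : f M₁ i = F i - ((e M₁ - 1) * f M₁ i +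
            ∑ M ∈ Finset.univ.erase M₁, e M * f M i) := by
          simp only [F]
          rw [← Finset.add_sum_erase _ _ (Finset.mem_univ M₁)]
          ring
        rw [SetLike.mem_coe, hexp]
        refine Ideal.sub_mem _ (Ideal.mem_sup_left (Ideal.mem_sup_left
          (Ideal.subset_span ⟨i, rfl⟩))) (Ideal.mem_sup_right (Ideal.add_mem _ ?_ ?_))
        · refine Ideal.mul_mem_mul ?_ (hf M₁ i)
          have := he M₁ M₁
          rwa [if_pos rfl] at this
        · refine Ideal.sum_mem _ fun M hM => Ideal.mul_mem_mul ?_ (hf M i)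
          have := he M M₁
          rwa [if_neg (Finset.ne_of_mem_erase hM).symm, sub_zero] at this
      intro x hx
      obtain ⟨b, μ, hμ, hsum⟩ := hM₀.exists_inv (hh M₁)
      have hx' : x = b * (h M₁ * x) + μ * x := by
        linear_combination (-x) * hsum
      rw [hx']
      exact Ideal.add_mem _ (Ideal.mul_mem_left _ _ (h1 (hhx M₁ x hx)))
        (Ideal.mem_sup_right (Ideal.mul_mem_mul hμ hx))
    · obtain ⟨i, hiI, hiM⟩ := SetLike.not_le_iff_exists.mp hIM
      obtain ⟨b, μ, hμ, hsum⟩ := hM₀.exists_inv hiM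
      intro x hx
      have hx' : x = (b * i) * x + μ * x := by
        linear_combination (-x) * hsum
      rw [hx']
      exact Ideal.add_mem _ (Ideal.mem_sup_left (Ideal.mem_sup_right
        (Ideal.mul_mem_mul (I.mul_mem_left _ hiI) hx)))
        (Ideal.mem_sup_right (Ideal.mul_mem_mul hμ hx))
  let K := Ideal.span (Set.range F)
  let N : Submodule P (P ⧸ K) := Submodule.map (Submodule.mkQ K) I
  have hNfg : N.FG := Submodule.FG.map _ hI
  have hle : N ≤ I • N := by
    rw [← Submodule.map_smul'']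
    rintro _ ⟨x, hx, rfl⟩
    obtain ⟨a, ha, b, hb, rfl⟩ := Submodule.mem_sup.mp (key hx)
    rw [map_add]
    have : K.mkQ a = 0 := (Submodule.Quotient.mk_eq_zero K).mpr ha
    rw [this, zero_add]
    exact Submodule.mem_map_of_mem hb
  obtain ⟨g, hg1, hg0⟩ :=
    Submodule.exists_sub_one_mem_and_smul_eq_zero_of_fg_of_le_smul I N hNfg hle
  refine ⟨F, g, hFI, hg1, fun x hx => ?_⟩
  have := hg0 (K.mkQ x) (Submodule.mem_map_of_mem hx)
  rw [← map_smul, Submodule.mkQ_apply, Submodule.Quotient.mk_eq_zero] at this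
  exact this

end Nak

section Square

variable {A : Type u} [CommRing A] {n s : ℕ} (H : Fin s → MvPolynomial (Fin n) A)

/-- only finitely many maximal ideals of `A[x]` contain `(H)` if `A[x]/(H)` is finite over the
local ring `A` -/
theorem finite_maximal_of_finite [IsLocalRing A] [Module.Finite A (Synt.RelGCIRing A n s H)] :
    {M : Ideal (MvPolynomial (Fin n) A) | M.IsMaximal ∧ Ideal.span (Set.range H) ≤ M}.Finite := by
  set I := Ideal.span (Set.range H) with hI
  set mk := Ideal.Quotient.mk I with hmk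
  have hfin := Algebra.QuasiFinite.finite_primesOver (S := Synt.RelGCIRing A n s H)
    (IsLocalRing.maximalIdeal A)
  refine (hfin.image (Ideal.comap mk)).subset ?_
  rintro M ⟨hM, hIM⟩
  have hker : RingHom.ker mk ≤ M := by rw [hmk, Ideal.mk_ker]; exact hIM
  have hmax : (M.map mk).IsMaximal :=
    Ideal.IsMaximal.map_of_surjective_of_ker_le Ideal.Quotient.mk_surjective hker
  refine ⟨M.map mk, ⟨hmax.isPrime, ⟨?_⟩⟩, ?_⟩
  · haveI : (Ideal.comap (algebraMap A (Synt.RelGCIRing A n s H)) (M.map mk)).IsMaximal :=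
      Ideal.isMaximal_comap_of_isIntegral_of_isMaximal (R := A) (M.map mk)
    exact (IsLocalRing.eq_maximalIdeal this).symm
  · rw [Ideal.comap_map_of_surjective mk Ideal.Quotient.mk_surjective, ← RingHom.ker_eq_comap_bot]
    exact sup_eq_left.mpr hker

/-- local generation of `(H)` by `n` elements near a maximal ideal, for `A[x]/(H)` syntomic with
all charts of relative dimension `≥ 0` -/
theorem exists_local_gens (hsyn : Synt.IsSyntomic A (Synt.RelGCIRing A n s H))
    (M : Ideal (MvPolynomial (Fin n) A)) (hM : M.IsMaximal)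
    (hIM : Ideal.span (Set.range H) ≤ M) :
    ∃ (f : Fin n → MvPolynomial (Fin n) A) (h : MvPolynomial (Fin n) A), h ∉ M ∧
      (∀ i, f i ∈ Ideal.span (Set.range H)) ∧
      ∀ x ∈ Ideal.span (Set.range H), h * x ∈ Ideal.span (Set.range f) := by
  classical
  set I := Ideal.span (Set.range H) with hI
  set mk := Ideal.Quotient.mk I with hmk
  have hker : RingHom.ker mk ≤ M := by rw [hmk, Ideal.mk_ker]; exact hIM
  have hmax : (M.map mk).IsMaximal :=
    Ideal.IsMaximal.map_of_surjective_of_ker_le Ideal.Quotient.mk_surjective hker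
  have hcomap : (M.map mk).comap mk = M := by
    rw [Ideal.comap_map_of_surjective mk Ideal.Quotient.mk_surjective, ← RingHom.ker_eq_comap_bot]
    exact sup_eq_left.mpr hker
  obtain ⟨c, f, h, hq, h1, h2, h3⟩ := exists_chart_of_isSyntomic H hsyn ⟨M.map mk, hmax.isPrime⟩
  have hhM : h ∉ M := fun hh => hq (Ideal.mem_map_of_mem mk hh)
  -- the chart ring is nontrivial, hence `c ≤ n`
  obtain ⟨ε⟩ := IsChart.nonempty_algEquiv H ⟨h1, h2, h3⟩
  haveI hntL : Nontrivial (Localization.Away (mk h)) := by
    rw [← not_subsingleton_iff_nontrivial, IsLocalization.subsingleton_iff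
      (M := Submonoid.powers (mk h))]
    rintro ⟨k, hk⟩
    apply hq
    have : (mk h) ^ k ∈ M.map mk := by
      show (fun x => (mk h) ^ x) k ∈ _
      rw [hk]; exact Ideal.zero_mem _
    exact hmax.isPrime.mem_of_pow_mem k this
  haveI hntT : Nontrivial (Synt.RelGCIRing A (n + 1) (c + 1) (snocRel f h)) :=
    ε.injective.nontrivial
  obtain ⟨Q⟩ := (PrimeSpectrum.nonempty_iff_nontrivial).mpr hntT
  have hcn : c ≤ n := by
    set p := PrimeSpectrum.comap
      (algebraMap A (Synt.RelGCIRing A (n + 1) (c + 1) (snocRel f h))) Q with hp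
    let Q' := PrimeSpectrum.preimageHomeomorphFiber A
      (Synt.RelGCIRing A (n + 1) (c + 1) (snocRel f h)) p ⟨Q, rfl⟩
    haveI : p.asIdeal.IsPrime := p.2
    have hnt : Nontrivial (p.asIdeal.Fiber (Synt.RelGCIRing A (n + 1) (c + 1) (snocRel f h))) := by
      haveI : Nonempty (PrimeSpectrum
        (p.asIdeal.Fiber (Synt.RelGCIRing A (n + 1) (c + 1) (snocRel f h)))) := ⟨Q'⟩
      exact (PrimeSpectrum.nonempty_iff_nontrivial).mp inferInstance
    have := (h3 p hnt).1
    omega
  -- pad `f` with zeros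
  let f' : Fin n → MvPolynomial (Fin n) A := fun i => if hi : i.1 < c then f ⟨i.1, hi⟩ else 0
  have hle : Ideal.span (Set.range f) ≤ Ideal.span (Set.range f') := by
    rw [Ideal.span_le]
    rintro _ ⟨j, rfl⟩
    refine Ideal.subset_span ⟨⟨j.1, lt_of_lt_of_le j.2 hcn⟩, ?_⟩
    simp only [f']
    rw [dif_pos j.2]
  refine ⟨f', h, hhM, fun i => ?_, fun x hx => ?_⟩
  · simp only [f']
    split_ifs
    · exact h1 _
    · exact Ideal.zero_mem _
  · refine Submodule.span_induction (p := fun x _ => h * x ∈ Ideal.span (Set.range f'))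
      ?_ ?_ ?_ ?_ hx
    · rintro _ ⟨l, rfl⟩
      exact hle (h2 l)
    · rw [mul_zero]; exact Ideal.zero_mem _
    · intro x y _ _ hx hy
      rw [mul_add]; exact Ideal.add_mem _ hx hy
    · intro a x _ hx
      rw [smul_eq_mul, mul_left_comm]
      exact Ideal.mul_mem_left _ _ hx

/-- a finite syntomic algebra `A[x]/(H)` over a local ring has a square presentation -/
theorem exists_square_of_finite_of_isSyntomic [IsLocalRing A]
    [Module.Finite A (Synt.RelGCIRing A n s H)]
    (hsyn : Synt.IsSyntomic A (Synt.RelGCIRing A n s H)) :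
    ∃ F : Fin (n + 1) → MvPolynomial (Fin (n + 1)) A,
      Nonempty (Synt.RelGCIRing A n s H ≃ₐ[A] Synt.RelGCIRing A (n + 1) (n + 1) F) := by
  classical
  set I := Ideal.span (Set.range H) with hI
  have hIfg : I.FG := ⟨Finset.univ.image H, by rw [hI]; congr 1; ext; simp⟩
  obtain ⟨f, g, hf, hg1, hgx⟩ := exists_gens_of_local_gens I hIfg (finite_maximal_of_finite H) n
    (fun M hM hIM => exists_local_gens H hsyn M hM hIM)
  set mk := Ideal.Quotient.mk I with hmk
  have hmkg : mk g = 1 := by
    have := (Ideal.Quotient.eq_zero_iff_mem (I := I)).mpr hg1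
    rwa [map_sub, map_one, sub_eq_zero] at this
  obtain ⟨h', hh', ⟨ε⟩⟩ := exists_away_equiv H (mk g)
  have hdiff : h' - g ∈ I := by
    rw [← Ideal.Quotient.eq_zero_iff_mem, map_sub, hh', sub_self]
  have hspan := span_snocRel_eq H hf (fun l => hgx (H l) (Ideal.subset_span ⟨l, rfl⟩)) h' hdiff
  haveI : IsLocalization.Away (mk g) (Synt.RelGCIRing A n s H) :=
    IsLocalization.away_of_isUnit_of_bijective _ (by rw [hmkg]; exact isUnit_one)
      Function.bijective_id
  let e₁ : Synt.RelGCIRing A n s H ≃ₐ[A] Localization.Away (mk g) :=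
    (IsLocalization.algEquiv (Submonoid.powers (mk g)) (Synt.RelGCIRing A n s H)
      (Localization.Away (mk g))).restrictScalars A
  exact ⟨snocRel f g, ⟨(e₁.trans ε).trans (Ideal.quotientEquivAlgOfEq A hspan)⟩⟩

/-- a finite algebra with a square presentation is a relative global complete intersection -/
theorem isRelGCI_of_finite_square (F : Fin n → MvPolynomial (Fin n) A)
    [Module.Finite A (Synt.RelGCIRing A n n F)] : Synt.IsRelGCI A n n F := by
  intro p hnt
  refine ⟨le_refl _, ?_⟩
  rw [Nat.sub_self, Nat.cast_zero]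
  exact ringKrullDim_tensor_eq_zero_of_finite A p.asIdeal.ResidueField (Synt.RelGCIRing A n n F)

end Square

end Groth.Agent.Lib.Helper7.Synt
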