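import Mathlib
import Groth.Prelude.Def_Disc
import Groth.Agent.S8954
import Groth.Agent.S2197
import Groth.Agent.S2221
import Groth.Agent.S9287
import Groth.Agent.Lib.Helper13NoetherCI
import Groth.Agent.Lib.Helper18Fitt31
import Groth.Agent.Lib.Helper7Synt50
import Groth.Agent.Lib.Helper18Fitt11

/-!
# Noether different = Kähler different for finite syntomic algebras (helper13)

* `ideal_le_of_forall_maximal`, `ideal_eq_of_forall_maximal`: local-global principle for ideals of an
  `A`-algebra `B` over the maximal ideals of `A` (via `A_p ⊗ B`).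
* `noetherDifferent_map_algEquiv`: the Noether different is transported by algebra isomorphisms.
* `noetherDifferent_eq_span_jac`: quasi-finite `A[x_1..x_n]/(f_1..f_n)` has Noether different `(Jac)`.
* `noetherDifferent_eq_fitt_of_local`, `noetherDifferent_eq_fitt`: finite syntomic ⇒
  `noetherDifferent A B = Fitt_0 Ω[B⁄A]`.
-/

set_option autoImplicit false
universe u
open TensorProduct KaehlerDifferential

namespace Groth.Agent.Helper13SyntFitt

attribute [local instance] Algebra.TensorProduct.rightAlgebra



/-- local-global principle for ideals of an `A`-algebra, over the maximal ideals of `A`. -/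
theorem ideal_le_of_forall_maximal {A B : Type u} [CommRing A] [CommRing B] [Algebra A B]
    (I J : Ideal B)
    (h : ∀ (p : Ideal A) [p.IsMaximal],
      I.map (algebraMap B (Localization.AtPrime p ⊗[A] B)) ≤
        J.map (algebraMap B (Localization.AtPrime p ⊗[A] B))) : I ≤ J := by
  intro x hx
  let 𝔞 : Ideal A :=
    { carrier := {a | a • x ∈ J}
      add_mem' := by
        intro a b ha hb
        simp only [Set.mem_setOf_eq, add_smul] at *
        exact J.add_mem ha hb
      zero_mem' := by simp
      smul_mem' := by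
        intro c a ha
        simp only [Set.mem_setOf_eq, smul_eq_mul, mul_smul] at *
        exact Submodule.smul_of_tower_mem J c ha }
  by_contra hxJ
  have hne : 𝔞 ≠ ⊤ := by
    intro htop
    have h1 : (1 : A) ∈ 𝔞 := by rw [htop]; trivial
    have h2 : (1 : A) • x ∈ J := h1
    rw [one_smul] at h2
    exact hxJ h2
  obtain ⟨p, hp, hle⟩ := Ideal.exists_le_maximal 𝔞 hne
  haveI := hp
  have h1 : algebraMap B (Localization.AtPrime p ⊗[A] B) x ∈
      J.map (algebraMap B (Localization.AtPrime p ⊗[A] B)) :=
    h p (Ideal.mem_map_of_mem _ hx)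
  have hker := Algebra.TensorProduct.lTensor_ker (A := Localization.AtPrime p)
    (Ideal.Quotient.mkₐ A J) (Ideal.Quotient.mkₐ_surjective A J)
  have hk : RingHom.ker (Ideal.Quotient.mkₐ A J) = J := by
    ext y
    rw [RingHom.mem_ker, Ideal.Quotient.mkₐ_eq_mk, Ideal.Quotient.eq_zero_iff_mem]
  rw [hk] at hker
  have h2 : algebraMap B (Localization.AtPrime p ⊗[A] B) x ∈ RingHom.ker
      (Algebra.TensorProduct.map (AlgHom.id A (Localization.AtPrime p))
        (Ideal.Quotient.mkₐ A J)) := by
    rw [hker]
    exact h1
  rw [RingHom.mem_ker] at h2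
  have h3 : (1 : Localization.AtPrime p) ⊗ₜ[A] (Ideal.Quotient.mk J x) = 0 := by
    rw [← h2]
    rfl
  have h4 := (IsLocalizedModule.eq_zero_iff p.primeCompl
    (TensorProduct.mk A (Localization.AtPrime p) (B ⧸ J) 1)).1 h3
  obtain ⟨s, hs⟩ := h4
  have h5 : (s : A) • x ∈ J := by
    rw [← Ideal.Quotient.eq_zero_iff_mem]
    have : (s : A) • Ideal.Quotient.mk J x = 0 := hs
    rw [← this]
    rfl
  exact s.2 (hle h5)

theorem ideal_eq_of_forall_maximal {A B : Type u} [CommRing A] [CommRing B] [Algebra A B]
    (I J : Ideal B)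
    (h : ∀ (p : Ideal A) [p.IsMaximal],
      I.map (algebraMap B (Localization.AtPrime p ⊗[A] B)) =
        J.map (algebraMap B (Localization.AtPrime p ⊗[A] B))) : I = J :=
  le_antisymm (ideal_le_of_forall_maximal I J fun p _ => (h p).le)
    (ideal_le_of_forall_maximal J I fun p _ => (h p).ge)


/-- the Noether different is transported by algebra isomorphisms. -/
theorem noetherDifferent_map_algEquiv {A S T : Type u} [CommRing A] [CommRing S] [CommRing T]
    [Algebra A S] [Algebra A T] (e : S ≃ₐ[A] T) :
    (Disc.noetherDifferent A S).map (e : S →+* T) = Disc.noetherDifferent A T := by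
  let E : S ⊗[A] S ≃ₐ[A] T ⊗[A] T := Algebra.TensorProduct.congr e e
  have hcomm : ∀ z, Algebra.TensorProduct.lmul' (S := T) A (E z) =
      e (Algebra.TensorProduct.lmul' (S := S) A z) := by
    intro z
    have : (Algebra.TensorProduct.lmul' (S := T) A).comp E.toAlgHom =
        e.toAlgHom.comp (Algebra.TensorProduct.lmul' (S := S) A) := by
      ext <;> simp [E]
    exact congr($this z)
  have hkerS : ∀ v, v ∈ RingHom.ker (Algebra.TensorProduct.lmul' (S := S) A) ↔
      E v ∈ RingHom.ker (Algebra.TensorProduct.lmul' (S := T) A) := by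
    intro v
    rw [RingHom.mem_ker, RingHom.mem_ker, hcomm]
    exact (map_eq_zero_iff e e.injective).symm
  have hann : Submodule.annihilator (RingHom.ker (Algebra.TensorProduct.lmul' (S := T) A)) =
      (Submodule.annihilator (RingHom.ker (Algebra.TensorProduct.lmul' (S := S) A))).map
        (E : S ⊗[A] S →+* T ⊗[A] T) := by
    apply le_antisymm
    · intro y hy
      have hy' : E.symm y ∈ Submodule.annihilator
          (RingHom.ker (Algebra.TensorProduct.lmul' (S := S) A)) := by
        rw [Submodule.mem_annihilator]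
        intro v hv
        have h1 := Submodule.mem_annihilator.1 hy (E v) ((hkerS v).1 hv)
        rw [smul_eq_mul] at h1 ⊢
        apply E.injective
        rw [map_mul, E.apply_symm_apply, h1, map_zero]
      have := Ideal.mem_map_of_mem (E : S ⊗[A] S →+* T ⊗[A] T) hy'
      have h2 : (E : S ⊗[A] S →+* T ⊗[A] T) (E.symm y) = y := E.apply_symm_apply y
      rw [h2] at this
      exact this
    · rw [Ideal.map_le_iff_le_comap]
      intro z hz
      rw [Ideal.mem_comap, Submodule.mem_annihilator]
      intro w hw
      have hw' : E.symm w ∈ RingHom.ker (Algebra.TensorProduct.lmul' (S := S) A) := by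
        rw [hkerS, E.apply_symm_apply]; exact hw
      have h1 := Submodule.mem_annihilator.1 hz _ hw'
      rw [smul_eq_mul] at h1 ⊢
      have h2 : (E : S ⊗[A] S →+* T ⊗[A] T) z * w = E (z * E.symm w) := by
        rw [map_mul, E.apply_symm_apply]; rfl
      rw [h2, h1, map_zero]
  unfold Disc.noetherDifferent
  rw [hann]
  show Ideal.map (e : S →+* T)
      (Ideal.map ((Algebra.TensorProduct.lmul' (S := S) A : S ⊗[A] S →ₐ[A] S) : S ⊗[A] S →+* S) _) =
    Ideal.map ((Algebra.TensorProduct.lmul' (S := T) A : T ⊗[A] T →ₐ[A] T) : T ⊗[A] T →+* T)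
      (Ideal.map (E : S ⊗[A] S →+* T ⊗[A] T) _)
  rw [Ideal.map_map, Ideal.map_map]
  congr 1
  exact RingHom.ext fun z => (hcomm z).symm

/-- the Noether different of a quasi-finite `A[x_1..x_n]/(f_1..f_n)` is generated by the Jacobian
determinant (no hypothesis on `n`). -/
theorem noetherDifferent_eq_span_jac {A : Type u} [CommRing A] {n : ℕ}
    (f : Fin n → MvPolynomial (Fin n) A)
    [Algebra.QuasiFinite A (MvPolynomial (Fin n) A ⧸ Ideal.span (Set.range f))] :
    Disc.noetherDifferent A (MvPolynomial (Fin n) A ⧸ Ideal.span (Set.range f)) =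
      Ideal.span {Ideal.Quotient.mk (Ideal.span (Set.range f))
        (Matrix.det (Matrix.of fun i j => MvPolynomial.pderiv j (f i)))} := by
  obtain ⟨Δ, hΔ, hμ⟩ := Groth.Agent.Helper13NoetherCI.exists_diag_generator f
  unfold Disc.noetherDifferent
  rw [hΔ, Ideal.map_span, Set.image_singleton]
  congr 2

/-- over a local base, the Noether different of a finite syntomic algebra is the Kähler
different. -/
theorem noetherDifferent_eq_fitt_of_local {A B : Type u} [CommRing A] [IsLocalRing A] [CommRing B]
    [Algebra A B] [Module.Finite A B] (h : Synt.IsSyntomic A B) :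
    Disc.noetherDifferent A B = Fitt.ideal B Ω[B⁄A] 0 := by
  obtain ⟨n, F, ⟨e⟩⟩ := (Groth.Agent.S8954.result A B).1 h
  haveI : Module.Finite A (MvPolynomial (Fin n) A ⧸ Ideal.span (Set.range F)) :=
    Module.Finite.equiv e.toLinearEquiv
  haveI : Algebra.QuasiFinite A (MvPolynomial (Fin n) A ⧸ Ideal.span (Set.range F)) :=
    inferInstance
  have h1 := noetherDifferent_eq_span_jac F
  have h2 := noetherDifferent_map_algEquiv e.symm
  rw [h1, Ideal.map_span, Set.image_singleton] at h2
  rw [← h2]
  let pres : Algebra.Presentation A B (Fin n) (Fin n) :=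
    (Algebra.Presentation.naive (v := F)).ofAlgEquiv e.symm
  rw [Groth.Agent.Helper18Fitt.fitt_zero_kaehler_of_presentation pres]
  congr 2
  have e2 := RingHom.map_det (Ideal.Quotient.mk (Ideal.span (Set.range F)))
    (Matrix.of fun i j => (MvPolynomial.pderiv j) (F i))
  rw [e2]
  have e3 := RingHom.map_det (e.symm : (MvPolynomial (Fin n) A ⧸ Ideal.span (Set.range F)) →+* B)
    ((Ideal.Quotient.mk (Ideal.span (Set.range F))).mapMatrix
      (Matrix.of fun i j => (MvPolynomial.pderiv j) (F i)))
  rw [e3]
  congr 1
  ext i j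
  simp only [RingHom.mapMatrix_apply, Matrix.map_apply, Matrix.of_apply]
  show _ = algebraMap pres.Ring B (MvPolynomial.pderiv j (pres.relation i))
  rw [Algebra.Generators.algebraMap_apply]
  show _ = MvPolynomial.aeval (e.symm ∘ fun i => Ideal.Quotient.mk _ (MvPolynomial.X i))
    (MvPolynomial.pderiv j (F i))
  have h3 : ∀ p : MvPolynomial (Fin n) A,
      MvPolynomial.aeval (e.symm ∘ fun i => Ideal.Quotient.mk (Ideal.span (Set.range F))
        (MvPolynomial.X i)) p = e.symm (Ideal.Quotient.mk _ p) := by
    intro p
    induction p using MvPolynomial.induction_on with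
    | C a =>
      rw [MvPolynomial.aeval_C]
      have : Ideal.Quotient.mk (Ideal.span (Set.range F)) (MvPolynomial.C a) =
        algebraMap A _ a := rfl
      rw [this, e.symm.commutes]
    | add p q hp hq => rw [map_add, hp, hq, map_add, map_add]
    | mul_X p i hp => rw [map_mul, hp, MvPolynomial.aeval_X, map_mul, map_mul]; rfl
  rw [h3]
  rfl



/-- the Noether different of a finite syntomic algebra is the Kähler different. -/
theorem noetherDifferent_eq_fitt {A B : Type u} [CommRing A] [CommRing B] [Algebra A B]
    [Module.Finite A B] (h : Synt.IsSyntomic A B) :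
    Disc.noetherDifferent A B = Fitt.ideal B Ω[B⁄A] 0 := by
  apply ideal_eq_of_forall_maximal (A := A)
  intro p hp
  have h1 := Groth.Agent.S2197.result (A := A) (B := B) (A' := Localization.AtPrime p)
    (B' := Localization.AtPrime p ⊗[A] B)
  rw [← h1]
  have h2 := Groth.Agent.Helper18Fitt.fitt_baseChange (R := B)
    (R' := Localization.AtPrime p ⊗[A] B) (M := Ω[B⁄A]) 0
  rw [← h2, Groth.Agent.Helper18Fitt.fitt_congr
    (tensorKaehlerEquiv A (Localization.AtPrime p) B (Localization.AtPrime p ⊗[A] B)) 0]
  exact noetherDifferent_eq_fitt_of_local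
    (Groth.Agent.Lib.Helper7.Synt.isSyntomic_baseChange A B (Localization.AtPrime p) h)

end Groth.Agent.Helper13SyntFitt
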