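import Mathlib.CategoryTheory.Preadditive.Injective.Basic
import Groth.Agent.Lib.Helper23PshModGroth

set_option autoImplicit false
universe u
open CategoryTheory Limits Opposite

namespace Groth.Agent.Helper13Adeq

namespace FreeRep

open Groth.Agent.Lib.Helper23PshModGroth

variable {C₀ : Type (u+1)} [Category.{u} C₀] (R : C₀ᵒᵖ ⥤ RingCat.{u})

/-- the map of free presheaves on representables induced by `q` -/
noncomputable def freeMap {X₀' X₀ : C₀} (q : X₀' ⟶ X₀) : F R X₀' ⟶ F R X₀ :=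
  toM R (F R X₀) X₀' (Finsupp.single ⟨q⟩ 1 : Idx X₀ (op X₀') →₀ R.obj (op X₀'))

lemma freeMap_app_single {X₀' X₀ : C₀} (q : X₀' ⟶ X₀) (Y : C₀ᵒᵖ) (h : Idx X₀' Y) (r : R.obj Y) :
    (freeMap R q).app Y (Finsupp.single h r : Idx X₀' Y →₀ R.obj Y) =
      (Finsupp.single ⟨h.down ≫ q⟩ r : Idx X₀ Y →₀ R.obj Y) := by
  change ev R (F R X₀) X₀' _ Y (Finsupp.single h r) = _
  rw [ev_single]
  change r • tr R X₀ h.down.op (Finsupp.single ⟨q⟩ 1) = _
  rw [tr_single, Finsupp.smul_single]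
  simp

lemma freeMap_app_eq {X₀' X₀ : C₀} (q : X₀' ⟶ X₀) (Y : C₀ᵒᵖ) (x : Idx X₀' Y →₀ R.obj Y) :
    (freeMap R q).app Y x =
      (Finsupp.mapDomain (fun h : Idx X₀' Y => (⟨h.down ≫ q⟩ : Idx X₀ Y)) x :
        Idx X₀ Y →₀ R.obj Y) := by
  induction x using Finsupp.induction_linear with
  | zero => rw [Finsupp.mapDomain_zero]; exact map_zero _
  | add a b ha hb => 
    rw [Finsupp.mapDomain_add, ← ha, ← hb]
    exact map_add _ _ _
  | single h r => rw [Finsupp.mapDomain_single]; exact freeMap_app_single R q Y h r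

lemma freeMap_mono {X₀' X₀ : C₀} (q : X₀' ⟶ X₀) [Mono q] : Mono (freeMap R q) := by
  apply PresheafOfModules.mono_of_injective
  intro Y x y hxy
  change Idx X₀' Y →₀ R.obj Y at x y
  have h1 := freeMap_app_eq R q Y x
  have h2 := freeMap_app_eq R q Y y
  have h3 : Function.Injective (fun h : Idx X₀' Y => (⟨h.down ≫ q⟩ : Idx X₀ Y)) := by
    intro h h' hh
    have : h.down ≫ q = h'.down ≫ q := congrArg ULift.down hh
    exact ULift.ext _ _ ((cancel_mono q).1 this)
  apply Finsupp.mapDomain_injective h3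
  exact h1.symm.trans (hxy.trans h2)

theorem surjective_map_of_injective (I : PresheafOfModules.{u+1} R) [Injective I]
    {X₀' X₀ : C₀} (q : X₀' ⟶ X₀) [Mono q] : Function.Surjective (I.map q.op) := by
  intro x'
  haveI := freeMap_mono R q
  let φ' : F R X₀' ⟶ I := toM R I X₀' x'
  let φ : F R X₀ ⟶ I := Injective.factorThru φ' (freeMap R q)
  have hφ : freeMap R q ≫ φ = φ' := Injective.comp_factorThru φ' (freeMap R q)
  refine ⟨φ.app (op X₀) (gen R X₀), ?_⟩
  have h1 : I.map q.op (φ.app (op X₀) (gen R X₀)) =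
      φ.app (op X₀') ((F R X₀).map q.op (gen R X₀)) :=
    (PresheafOfModules.naturality_apply φ q.op (gen R X₀)).symm
  have h2 : (F R X₀).map q.op (gen R X₀) = (freeMap R q).app (op X₀') (gen R X₀') := by
    have e1 : (freeMap R q).app (op X₀') (gen R X₀') =
        (Finsupp.single ⟨𝟙 X₀' ≫ q⟩ 1 : Idx X₀ (op X₀') →₀ R.obj (op X₀')) :=
      freeMap_app_single R q (op X₀') ⟨𝟙 X₀'⟩ 1
    rw [e1]
    change tr R X₀ q.op (Finsupp.single ⟨𝟙 X₀⟩ 1) = _
    rw [tr_single]
    simp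
  rw [h1, h2]
  have h3 : φ.app (op X₀') ((freeMap R q).app (op X₀') (gen R X₀')) =
      φ'.app (op X₀') (gen R X₀') := by
    rw [← hφ]; rfl
  rw [h3]
  exact toM_app R I X₀' x'

end FreeRep

end Groth.Agent.Helper13Adeq
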