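import Mathlib.CategoryTheory.Preadditive.Injective.Basic
import Groth.Prelude.Def_W4stkadequateTF
import Groth.Agent.Lib.Helper13TFa

set_option autoImplicit false
universe u
open CategoryTheory Limits Opposite
open Adeq AdeqTF

namespace Groth.Agent.Helper13Adeq

variable {A : Type u} [CommRing A]

theorem surjective_map_of_injective_MVF (I : MVF A) [Injective I] {C C' : Alg A} (p : C ⟶ C')
    (hp : Function.Surjective p.hom) : Function.Surjective (I.map (ptHom p)) := by
  haveI : Epi p := ConcreteCategory.epi_of_surjective p hp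
  exact FreeRep.surjective_map_of_injective (ringOf A) I p.op

theorem tangent_mem_iff (F : MVF A) (B : Alg A) (N : ModuleCat.{u} B)
    (x : F.obj (pt (ext B N))) : x ∈ tangent B N F ↔ F.map (ptHom (fst B N)) x = 0 := Iff.rfl

theorem tangentMap_coe (F : MVF A) (B : Alg A) {N N' : ModuleCat.{u} B} (g : N ⟶ N')
    (x : tangent B N F) :
    ((tangentMap B F g x : tangent B N' F) : F.obj (pt (ext B N'))) =
      F.map (ptHom (AdeqTF.map B g)) (x : F.obj (pt (ext B N))) := rfl

theorem map_fst_apply (F : MVF A) (B : Alg A) {N N' : ModuleCat.{u} B} (g : N ⟶ N')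
    (x : F.obj (pt (ext B N))) :
    F.map (ptHom (fst B N')) (F.map (ptHom (AdeqTF.map B g)) x) = F.map (ptHom (fst B N)) x := by
  have e : ptHom (AdeqTF.map B g) ≫ ptHom (fst B N') = ptHom (fst B N) :=
    congrArg ptHom (map_fst B g)
  rw [← F.map_comp_apply, F.congr_map_apply e]

theorem map_surjective_of_surjective (B : Alg A) {N N' : ModuleCat.{u} B} (g : N ⟶ N')
    (hg : Function.Surjective g.hom) : Function.Surjective (AdeqTF.map B g).hom := by
  intro y
  obtain ⟨n, hn⟩ := hg (TrivSqZeroExt.snd y)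
  refine ⟨TrivSqZeroExt.inl (TrivSqZeroExt.fst y) + TrivSqZeroExt.inr n, ?_⟩
  change TrivSqZeroExt.map g.hom _ = y
  apply TrivSqZeroExt.ext
  · simp
  · simp [hn]

theorem tangentMap_surjective_of_injective (I : MVF A) [Injective I] (B : Alg A)
    (S : ShortComplex (ModuleCat.{u} B)) (hS : S.ShortExact) :
    Function.Surjective (tangentMap B I S.g) := by
  have hepi := hS.epi_g
  have hg : Function.Surjective S.g.hom := (ModuleCat.epi_iff_surjective S.g).1 hepi
  have hp := map_surjective_of_surjective B S.g hg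
  rintro ⟨x₂, hx₂⟩
  obtain ⟨x, hx⟩ := surjective_map_of_injective_MVF I (AdeqTF.map B S.g) hp x₂
  have hx0 : x ∈ tangent B S.X₂ I := by
    rw [tangent_mem_iff, ← map_fst_apply I B S.g x, hx]
    exact hx₂
  exact ⟨⟨x, hx0⟩, Subtype.ext hx⟩

end Groth.Agent.Helper13Adeq
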