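import Mathlib.Algebra.Homology.ShortComplex.ShortExact
import Groth.Agent.Lib.Helper13TFb
import Groth.Agent.Lib.Helper13AdeqD

set_option autoImplicit false
universe u
open CategoryTheory Limits Opposite
open Adeq AdeqTF

namespace Groth.Agent.Helper13Adeq

theorem mapEl_sub {A : Type u} [CommRing A] (F : MVF A) {B B' : Alg A} (f : B ⟶ B')
    (x y : F.obj (pt B)) : mapEl F f (x - y) = mapEl F f x - mapEl F f y :=
  map_sub (F.map (ptHom f)).hom x y

namespace TF

variable {A : Type u} [CommRing A] (B : Alg A)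

theorem extMap_id (N : ModuleCat.{u} B) : AdeqTF.map B (𝟙 N) = 𝟙 (ext B N) := by
  apply CommAlgCat.hom_ext
  refine AlgHom.ext fun x => ?_
  change TrivSqZeroExt.map (LinearMap.id) x = x
  apply TrivSqZeroExt.ext <;> simp

theorem extMap_comp {N N' N'' : ModuleCat.{u} B} (g : N ⟶ N') (g' : N' ⟶ N'') :
    AdeqTF.map B (g ≫ g') = AdeqTF.map B g ≫ AdeqTF.map B g' := by
  apply CommAlgCat.hom_ext
  refine AlgHom.ext fun x => ?_
  change TrivSqZeroExt.map (g'.hom ∘ₗ g.hom) x = TrivSqZeroExt.map g'.hom (TrivSqZeroExt.map g.hom x)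
  apply TrivSqZeroExt.ext <;> simp

theorem extMap_zero (N N' : ModuleCat.{u} B) :
    AdeqTF.map B (0 : N ⟶ N') = fst B N ≫ inl B N' := by
  apply CommAlgCat.hom_ext
  refine AlgHom.ext fun x => ?_
  change TrivSqZeroExt.map (0 : N →ₗ[B] N') x = algebraMap B (TrivSqZeroExt B N') (TrivSqZeroExt.fst x)
  apply TrivSqZeroExt.ext <;> simp [TrivSqZeroExt.algebraMap_eq_inl]

theorem inl_fst (N : ModuleCat.{u} B) : inl B N ≫ fst B N = 𝟙 B := by
  apply CommAlgCat.hom_ext
  refine AlgHom.ext fun x => ?_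
  change TrivSqZeroExt.fst (algebraMap B (TrivSqZeroExt B N) x) = x
  simp [TrivSqZeroExt.algebraMap_eq_inl]

variable {B}
variable (F : MVF A)

theorem mem_tangent {N : ModuleCat.{u} B} (x : F.obj (pt (ext B N))) :
    x ∈ tangent B N F ↔ mapEl F (fst B N) x = 0 := Iff.rfl

theorem tangentMap_val {N N' : ModuleCat.{u} B} (g : N ⟶ N') (x : tangent B N F) :
    ((tangentMap B F g x : tangent B N' F) : F.obj (pt (ext B N'))) =
      mapEl F (AdeqTF.map B g) (x : F.obj (pt (ext B N))) := rfl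

theorem tangentMap_id {N : ModuleCat.{u} B} (x : tangent B N F) : tangentMap B F (𝟙 N) x = x := by
  apply Subtype.ext
  rw [tangentMap_val, extMap_id, mapEl_id]

theorem tangentMap_comp {N N' N'' : ModuleCat.{u} B} (g : N ⟶ N') (g' : N' ⟶ N'')
    (x : tangent B N F) : tangentMap B F (g ≫ g') x = tangentMap B F g' (tangentMap B F g x) := by
  apply Subtype.ext
  rw [tangentMap_val, tangentMap_val, tangentMap_val, extMap_comp, mapEl_comp]

theorem tangentMap_zero {N N' : ModuleCat.{u} B} (x : tangent B N F) :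
    tangentMap B F (0 : N ⟶ N') x = 0 := by
  apply Subtype.ext
  rw [tangentMap_val, extMap_zero, mapEl_comp, (mem_tangent F x.1).1 x.2, mapEl_zero]
  rfl

/-- the map on tangent modules induced by a morphism of functors -/
noncomputable def tangentHom {F G : MVF A} (φ : F ⟶ G) (N : ModuleCat.{u} B) :
    tangent B N F →+ tangent B N G :=
  ((φ.app (pt (ext B N))).hom.toAddMonoidHom.comp (tangent B N F).subtype).codRestrict
    (tangent B N G) (fun x => by
      rw [mem_tangent]
      change mapEl G (fst B N) (φ.app (pt (ext B N)) x.1) = 0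
      rw [← app_mapEl, (mem_tangent F x.1).1 x.2, map_zero])

theorem tangentHom_val {F G : MVF A} (φ : F ⟶ G) (N : ModuleCat.{u} B) (x : tangent B N F) :
    ((tangentHom φ N x : tangent B N G) : G.obj (pt (ext B N))) = φ.app (pt (ext B N)) x.1 := rfl

theorem tangentHom_tangentMap {F G : MVF A} (φ : F ⟶ G) {N N' : ModuleCat.{u} B} (g : N ⟶ N')
    (x : tangent B N F) :
    tangentHom φ N' (tangentMap B F g x) = tangentMap B G g (tangentHom φ N x) := by
  apply Subtype.ext
  rw [tangentHom_val, tangentMap_val, tangentMap_val, tangentHom_val, app_mapEl]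


section col

variable (C : ShortComplex (MVF A)) (hC : C.ShortExact) (N : ModuleCat.{u} B)
include hC

theorem col_injective : Function.Injective (tangentHom C.f N : tangent B N C.X₁ →+ _) := by
  have := hC.mono_f
  intro x y h
  apply Subtype.ext
  have h1 := congrArg Subtype.val h
  rw [tangentHom_val, tangentHom_val] at h1
  exact PresheafOfModules.injective_of_mono C.f _ h1

theorem col_exact (y : tangent B N C.X₂) (hy : tangentHom C.g N y = 0) :
    ∃ x : tangent B N C.X₁, tangentHom C.f N x = y := by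
  have := hC.mono_f
  have h1 := congrArg Subtype.val hy
  rw [tangentHom_val] at h1
  obtain ⟨x, hx⟩ := (PshMod.exact_app C hC.exact (pt (ext B N)) y.1).1 h1
  have hx0 : x ∈ tangent B N C.X₁ := by
    rw [mem_tangent]
    apply PresheafOfModules.injective_of_mono C.f (pt B)
    rw [app_mapEl, hx, (mem_tangent _ y.1).1 y.2, map_zero]
  exact ⟨⟨x, hx0⟩, Subtype.ext hx⟩

theorem col_comp (x : tangent B N C.X₁) : tangentHom C.g N (tangentHom C.f N x) = 0 := by
  apply Subtype.ext
  rw [tangentHom_val, tangentHom_val]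
  exact congrArg (fun α => α.app (pt (ext B N)) x.1) C.zero

theorem col_surjective : Function.Surjective (tangentHom C.g N : tangent B N C.X₂ →+ _) := by
  have := hC.epi_g
  intro z
  obtain ⟨y, hy⟩ := PresheafOfModules.surjective_of_epi C.g (pt (ext B N)) z.1
  let y' : C.X₂.obj (pt (ext B N)) := y - mapEl C.X₂ (inl B N) (mapEl C.X₂ (fst B N) y)
  have hy' : y' ∈ tangent B N C.X₂ := by
    rw [mem_tangent, mapEl_sub, ← mapEl_comp, inl_fst, mapEl_id, sub_self]
  refine ⟨⟨y', hy'⟩, Subtype.ext ?_⟩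
  rw [tangentHom_val]
  change C.g.app (pt (ext B N)) (y - mapEl C.X₂ (inl B N) (mapEl C.X₂ (fst B N) y)) = z.1
  rw [map_sub, hy, app_mapEl, app_mapEl, hy, (mem_tangent _ z.1).1 z.2, mapEl_zero, sub_zero]

end col


theorem rightExact_X₃ (C : ShortComplex (MVF A)) (hC : C.ShortExact)
    (h₁ : (∀ (B : Alg A) (S : ShortComplex (ModuleCat.{u} B)), S.ShortExact →
        Function.Surjective (tangentMap B C.X₁ S.g) ∧
          (tangentMap B C.X₁ S.g).ker = (tangentMap B C.X₁ S.f).range))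
    (h₂ : (∀ (B : Alg A) (S : ShortComplex (ModuleCat.{u} B)), S.ShortExact →
        Function.Surjective (tangentMap B C.X₂ S.g) ∧
          (tangentMap B C.X₂ S.g).ker = (tangentMap B C.X₂ S.f).range)) :
    (∀ (B : Alg A) (S : ShortComplex (ModuleCat.{u} B)), S.ShortExact →
        Function.Surjective (tangentMap B C.X₃ S.g) ∧
          (tangentMap B C.X₃ S.g).ker = (tangentMap B C.X₃ S.f).range) := by
  intro B S hS
  obtain ⟨s1, e1⟩ := h₁ B S hS
  obtain ⟨s2, e2⟩ := h₂ B S hS
  constructor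
  · intro z₂
    obtain ⟨y₂, hy₂⟩ := col_surjective C hC S.X₃ z₂
    obtain ⟨y, hy⟩ := s2 y₂
    refine ⟨tangentHom C.g S.X₂ y, ?_⟩
    rw [← tangentHom_tangentMap, hy, hy₂]
  · ext z
    rw [AddMonoidHom.mem_ker, AddMonoidHom.mem_range]
    constructor
    · intro hz
      obtain ⟨y, hy⟩ := col_surjective C hC S.X₂ z
      have h3 : tangentHom C.g S.X₃ (tangentMap B C.X₂ S.g y) = 0 := by
        rw [tangentHom_tangentMap, hy, hz]
      obtain ⟨x₂, hx₂⟩ := col_exact C hC S.X₃ _ h3
      obtain ⟨x, hx⟩ := s1 x₂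
      have hy' : tangentMap B C.X₂ S.g (y - tangentHom C.f S.X₂ x) = 0 := by
        rw [map_sub, ← tangentHom_tangentMap, hx, hx₂, sub_self]
      have h4 : (y - tangentHom C.f S.X₂ x) ∈ (tangentMap B C.X₂ S.g).ker := hy'
      rw [e2] at h4
      obtain ⟨y₁, hy₁⟩ := h4
      refine ⟨tangentHom C.g S.X₁ y₁, ?_⟩
      rw [← tangentHom_tangentMap, hy₁, map_sub, hy, col_comp C hC, sub_zero]
    · rintro ⟨z₁, rfl⟩
      rw [← tangentMap_comp, S.zero, tangentMap_zero]

theorem rightExact_X₂ (C : ShortComplex (MVF A)) (hC : C.ShortExact)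
    (h₁ : (∀ (B : Alg A) (S : ShortComplex (ModuleCat.{u} B)), S.ShortExact →
        Function.Surjective (tangentMap B C.X₁ S.g) ∧
          (tangentMap B C.X₁ S.g).ker = (tangentMap B C.X₁ S.f).range))
    (h₃ : (∀ (B : Alg A) (S : ShortComplex (ModuleCat.{u} B)), S.ShortExact →
        Function.Surjective (tangentMap B C.X₃ S.g) ∧
          (tangentMap B C.X₃ S.g).ker = (tangentMap B C.X₃ S.f).range)) :
    (∀ (B : Alg A) (S : ShortComplex (ModuleCat.{u} B)), S.ShortExact →
        Function.Surjective (tangentMap B C.X₂ S.g) ∧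
          (tangentMap B C.X₂ S.g).ker = (tangentMap B C.X₂ S.f).range) := by
  intro B S hS
  obtain ⟨s1, e1⟩ := h₁ B S hS
  obtain ⟨s3, e3⟩ := h₃ B S hS
  constructor
  · intro y₂
    obtain ⟨z, hz⟩ := s3 (tangentHom C.g S.X₃ y₂)
    obtain ⟨y, hy⟩ := col_surjective C hC S.X₂ z
    have h3 : tangentHom C.g S.X₃ (y₂ - tangentMap B C.X₂ S.g y) = 0 := by
      rw [map_sub, tangentHom_tangentMap, hy, hz, sub_self]
    obtain ⟨x₂, hx₂⟩ := col_exact C hC S.X₃ _ h3
    obtain ⟨x, hx⟩ := s1 x₂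
    refine ⟨y + tangentHom C.f S.X₂ x, ?_⟩
    rw [map_add, ← tangentHom_tangentMap, hx, hx₂]
    abel
  · ext y
    rw [AddMonoidHom.mem_ker, AddMonoidHom.mem_range]
    constructor
    · intro hy
      have h3 : tangentHom C.g S.X₂ y ∈ (tangentMap B C.X₃ S.g).ker := by
        rw [AddMonoidHom.mem_ker, ← tangentHom_tangentMap, hy, map_zero]
      rw [e3] at h3
      obtain ⟨z₁, hz₁⟩ := h3
      obtain ⟨y₁, hy₁⟩ := col_surjective C hC S.X₁ z₁
      have h4 : tangentHom C.g S.X₂ (y - tangentMap B C.X₂ S.f y₁) = 0 := by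
        rw [map_sub, tangentHom_tangentMap, hy₁, hz₁, sub_self]
      obtain ⟨x, hx⟩ := col_exact C hC S.X₂ _ h4
      have h5 : tangentMap B C.X₁ S.g x = 0 := by
        apply col_injective C hC S.X₃
        rw [tangentHom_tangentMap, hx, map_sub, hy, ← tangentMap_comp, S.zero, tangentMap_zero,
          sub_zero, map_zero]
      have h6 : x ∈ (tangentMap B C.X₁ S.g).ker := h5
      rw [e1] at h6
      obtain ⟨x₁, hx₁⟩ := h6
      refine ⟨y₁ + tangentHom C.f S.X₁ x₁, ?_⟩
      rw [map_add, ← tangentHom_tangentMap, hx₁, hx]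
      abel
    · rintro ⟨y₁, rfl⟩
      rw [← tangentMap_comp, S.zero, tangentMap_zero]


theorem tangent_biprod_bijective (F : MVF A)
    (hF : (∀ (B : Alg A) (S : ShortComplex (ModuleCat.{u} B)), S.ShortExact →
        Function.Surjective (tangentMap B F S.g) ∧
          (tangentMap B F S.g).ker = (tangentMap B F S.f).range))
    (B : Alg A) (N₁ N₂ : ModuleCat.{u} B) :
    Function.Bijective ((tangentMap B F (biprod.inl : N₁ ⟶ N₁ ⊞ N₂)).coprod
      (tangentMap B F (biprod.inr : N₂ ⟶ N₁ ⊞ N₂))) := by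
  have hS := (ShortComplex.Splitting.ofHasBinaryBiproduct N₁ N₂).shortExact
  obtain ⟨-, e⟩ := hF B _ hS
  have h11 : ∀ x : tangent B N₁ F,
      tangentMap B F (biprod.fst : N₁ ⊞ N₂ ⟶ N₁) (tangentMap B F biprod.inl x) = x := by
    intro x
    rw [← tangentMap_comp, biprod.inl_fst, tangentMap_id]
  have h12 : ∀ x : tangent B N₁ F,
      tangentMap B F (biprod.snd : N₁ ⊞ N₂ ⟶ N₂) (tangentMap B F biprod.inl x) = 0 := by
    intro x
    rw [← tangentMap_comp, biprod.inl_snd, tangentMap_zero]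
  have h21 : ∀ x : tangent B N₂ F,
      tangentMap B F (biprod.fst : N₁ ⊞ N₂ ⟶ N₁) (tangentMap B F biprod.inr x) = 0 := by
    intro x
    rw [← tangentMap_comp, biprod.inr_fst, tangentMap_zero]
  have h22 : ∀ x : tangent B N₂ F,
      tangentMap B F (biprod.snd : N₁ ⊞ N₂ ⟶ N₂) (tangentMap B F biprod.inr x) = x := by
    intro x
    rw [← tangentMap_comp, biprod.inr_snd, tangentMap_id]
  constructor
  · rw [injective_iff_map_eq_zero]
    rintro ⟨x₁, x₂⟩ h
    rw [AddMonoidHom.coprod_apply] at h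
    have e1 := congrArg (tangentMap B F (biprod.fst : N₁ ⊞ N₂ ⟶ N₁)) h
    have e2 := congrArg (tangentMap B F (biprod.snd : N₁ ⊞ N₂ ⟶ N₂)) h
    rw [map_add, h11, h21, add_zero, map_zero] at e1
    rw [map_add, h12, h22, zero_add, map_zero] at e2
    exact Prod.ext e1 e2
  · intro y
    let x₂ := tangentMap B F (biprod.snd : N₁ ⊞ N₂ ⟶ N₂) y
    have h1 : y - tangentMap B F biprod.inr x₂ ∈
        (tangentMap B F (biprod.snd : N₁ ⊞ N₂ ⟶ N₂)).ker := by
      rw [AddMonoidHom.mem_ker, map_sub, h22, sub_self]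
    rw [e] at h1
    obtain ⟨x₁, hx₁⟩ := h1
    refine ⟨(x₁, x₂), ?_⟩
    rw [AddMonoidHom.coprod_apply]
    change tangentMap B F biprod.inl x₁ + _ = y
    rw [hx₁]
    abel

end TF

end Groth.Agent.Helper13Adeq
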