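import Groth.Agent.Lib.Helper13Dehom
import Groth.Agent.Lib.Helper13ModGlue
import Groth.Agent.S3587

/-!
# A criterion for `M~ ≅ F` on `Proj 𝒜` (helper13)

For degree-one elements `f i` whose `D₊(f i)` cover `Proj 𝒜`, a graded module `M` and a quasi-coherent module `F`
on `Proj 𝒜`, comparison data `CData` (additive maps `c i n : M_n → Γ(F, D₊(f i))` with
`c (a m) = (a / f_i^k) c m`, `c_j m = (f_i / f_j)^n c_i m` on overlaps, `c_i m = 0 → f_i^k m = 0`, and every section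
over `D₊(f i)` of the form `c_i m`) yield `Nonempty (GrTilde.tilde 𝒜 ℳ 0 ≅ F)` (`CData.nonempty_iso`).
Also `fr`: fractions `m / g^k` for `g` of degree one, and their calculus.
-/

set_option autoImplicit false
set_option linter.unusedSectionVars false
set_option linter.style.haveILetI false
universe u

open CategoryTheory CategoryTheory.Limits AlgebraicGeometry TopologicalSpace Opposite
  HomogeneousLocalization

namespace Groth.Agent.Helper13TildeCrit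

open Groth.Agent.Lib.Helper27GrTildeSect Groth.Agent.Helper13GrTildeFrac
  Groth.Agent.Helper13Dehom Groth.Agent.Lib.Helper6 Groth.Agent.Helper13ModGlue

variable {R A : Type u} [CommRing R] [CommRing A] [Algebra R A] (𝒜 : ℕ → Submodule R A)
  [GradedAlgebra 𝒜]
variable {M : Type u} [AddCommGroup M] [Module R M] [Module A M] [IsScalarTower R A M]
  (ℳ : ℕ → Submodule R M) [DirectSum.Decomposition ℳ] [SetLike.GradedSMul 𝒜 ℳ]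

section fr
variable {g : A} (hg : g ∈ 𝒜 1)

/-- the section `m / g^k` of `M~` over `D₊(g)`, `g` of degree one, `m` of degree `k` -/
noncomputable def fr (k : ℕ) {m : M} (hm : m ∈ ℳ k) :
    Γ(GrTilde.tilde 𝒜 ℳ 0, Proj.basicOpen 𝒜 g) :=
  frac 𝒜 ℳ hg k (by simpa using hm : m ∈ ℳ (k * 1))

theorem secVal_fr (k : ℕ) {m : M} (hm : m ∈ ℳ k) (y : ProjectiveSpectrum 𝒜)
    (hy : y ∈ Proj.basicOpen 𝒜 g) :
    secVal 𝒜 ℳ 0 _ (fr 𝒜 ℳ hg k hm) y hy =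
      (LocalizedModule.mk m (⟨g ^ k, pow_not_mem k y hy⟩ :
        y.asHomogeneousIdeal.toIdeal.primeCompl) : GrTilde.LocMod 𝒜 (M := M) y) := rfl

theorem fr_congr {k k' : ℕ} (hk : k = k') {m m' : M} (hm : m ∈ ℳ k) (hm' : m' ∈ ℳ k')
    (h : m = m') : fr 𝒜 ℳ hg k hm = fr 𝒜 ℳ hg k' hm' := by
  subst hk h; rfl

theorem fr_add (k : ℕ) {m m' : M} (hm : m ∈ ℳ k) (hm' : m' ∈ ℳ k) :
    fr 𝒜 ℳ hg k (add_mem hm hm') = fr 𝒜 ℳ hg k hm + fr 𝒜 ℳ hg k hm' :=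
  frac_add 𝒜 ℳ hg k _ _

theorem fr_zero (k : ℕ) : fr 𝒜 ℳ hg k (zero_mem (ℳ k)) = 0 := by
  apply sec_ext
  intro y hy
  rw [secVal_zero, secVal_fr, LocalizedModule.zero_mk]

theorem fr_neg (k : ℕ) {m : M} (hm : m ∈ ℳ k) :
    fr 𝒜 ℳ hg k (neg_mem hm) = - fr 𝒜 ℳ hg k hm := by
  rw [eq_neg_iff_add_eq_zero, ← fr_add, ← fr_zero 𝒜 ℳ hg k]
  exact fr_congr 𝒜 ℳ hg rfl _ _ (neg_add_cancel m)

theorem fr_pow_smul (e k : ℕ) {m : M} (hm : m ∈ ℳ k) (h : g ^ e • m ∈ ℳ (e + k)) :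
    fr 𝒜 ℳ hg (e + k) h = fr 𝒜 ℳ hg k hm := by
  apply sec_ext
  intro y hy
  rw [secVal_fr, secVal_fr, LocalizedModule.mk_eq]
  refine ⟨1, ?_⟩
  simp only [one_smul, Submonoid.smul_def]
  rw [smul_smul, pow_add, mul_comm]

include hg in
theorem pow_smul_mem (e k : ℕ) {m : M} (hm : m ∈ ℳ k) : g ^ e • m ∈ ℳ (e + k) :=
  SetLike.GradedSMul.smul_mem (pow_mem_deg hg e) hm

theorem fr_smul {j k : ℕ} {a : A} (ha : a ∈ 𝒜 j) {m : M} (hm : m ∈ ℳ k)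
    (ham : a • m ∈ ℳ (j + k)) :
    dehom hg a • fr 𝒜 ℳ hg k hm = fr 𝒜 ℳ hg (j + k) ham := by
  apply sec_ext
  intro y hy
  rw [secVal_smul, funVal_dehom hg ha y hy, secVal_fr, secVal_fr,
    LocalizedModule.mk_smul_mk, LocalizedModule.mk_eq]
  refine ⟨1, ?_⟩
  simp only [one_smul, Submonoid.smul_def, Submonoid.coe_mul]
  rw [pow_add]

theorem exists_fr (σ : Γ(GrTilde.tilde 𝒜 ℳ 0, Proj.basicOpen 𝒜 g)) :
    ∃ (k : ℕ) (m : M) (hm : m ∈ ℳ k), σ = fr 𝒜 ℳ hg k hm := by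
  obtain ⟨k, m, hm, h⟩ := exists_frac 𝒜 ℳ one_pos hg σ
  exact ⟨k, m, by simpa using hm, h⟩

theorem fr_eq_zero (k : ℕ) {m : M} (hm : m ∈ ℳ k) (h : fr 𝒜 ℳ hg k hm = 0) :
    ∃ e : ℕ, g ^ e • m = 0 := by
  refine Groth.Agent.S3587.result 𝒜 ℳ one_pos hg k k ⟨m, hm⟩ fun x => ?_
  have := congrArg (fun σ => secVal 𝒜 ℳ 0 _ σ x.1 x.2) h
  exact this

end fr

variable {ι : Type u} {f : ι → A} (hf : ∀ i, f i ∈ 𝒜 1) (F : (Proj 𝒜).Modules)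

/-- comparison data between a graded module `M` and a module `F` on `Proj 𝒜`, relative to degree one
elements `f i`: additive maps `M_n → Γ(F, D₊(f i))` which are compatible with the graded action and the
overlaps, "injective up to `f i`-torsion" and jointly surjective -/
structure CData where
  /-- the maps -/
  c : ∀ (i : ι) (n : ℕ), ℳ n →+ Γ(F, Proj.basicOpen 𝒜 (f i))
  c_smul : ∀ (i : ι) {k n : ℕ} {a : A} (ha : a ∈ 𝒜 k) (x : ℳ n),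
    c i (k + n) ⟨a • x.1, SetLike.GradedSMul.smul_mem ha x.2⟩ = dehom (hf i) a • c i n x
  c_overlap : ∀ {n : ℕ} (x : ℳ n) (i j : ι),
    res F (inf_le_right : Proj.basicOpen 𝒜 (f i) ⊓ Proj.basicOpen 𝒜 (f j) ≤ Proj.basicOpen 𝒜 (f j))
      (c j n x) =
    (resO (inf_le_right : Proj.basicOpen 𝒜 (f i) ⊓ Proj.basicOpen 𝒜 (f j) ≤ Proj.basicOpen 𝒜 (f j))
      (dehom (hf j) (f i))) ^ n •
      res F (inf_le_left : Proj.basicOpen 𝒜 (f i) ⊓ Proj.basicOpen 𝒜 (f j) ≤ Proj.basicOpen 𝒜 (f i))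
        (c i n x)
  c_eq_zero : ∀ (i : ι) {n : ℕ} (x : ℳ n), c i n x = 0 → ∃ k : ℕ, (f i) ^ k • x.1 = 0
  c_surj : ∀ (i : ι) (t : Γ(F, Proj.basicOpen 𝒜 (f i))), ∃ (n : ℕ) (x : ℳ n), c i n x = t

variable {𝒜 ℳ hf F}
variable (C : CData 𝒜 ℳ hf F)

namespace CData

/-- unbundled version of `c` -/
noncomputable def cc (i : ι) (n : ℕ) (m : M) (hm : m ∈ ℳ n) : Γ(F, Proj.basicOpen 𝒜 (f i)) :=
  C.c i n ⟨m, hm⟩

theorem cc_congr (i : ι) {n n' : ℕ} (hn : n = n') {m m' : M} (hm : m ∈ ℳ n) (hm' : m' ∈ ℳ n')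
    (h : m = m') : C.cc i n m hm = C.cc i n' m' hm' := by
  subst hn h; rfl

theorem cc_add (i : ι) (n : ℕ) {m m' : M} (hm : m ∈ ℳ n) (hm' : m' ∈ ℳ n) :
    C.cc i n (m + m') (add_mem hm hm') = C.cc i n m hm + C.cc i n m' hm' :=
  map_add (C.c i n) ⟨m, hm⟩ ⟨m', hm'⟩

theorem cc_zero (i : ι) (n : ℕ) : C.cc i n 0 (zero_mem _) = 0 := map_zero (C.c i n)

theorem cc_smul (i : ι) {k n : ℕ} {a : A} (ha : a ∈ 𝒜 k) {m : M} (hm : m ∈ ℳ n)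
    (ham : a • m ∈ ℳ (k + n)) :
    C.cc i (k + n) (a • m) ham = dehom (hf i) a • C.cc i n m hm :=
  C.c_smul i ha ⟨m, hm⟩

theorem cc_pow_smul (i : ι) (e : ℕ) {n : ℕ} {m : M} (hm : m ∈ ℳ n)
    (h : (f i) ^ e • m ∈ ℳ (e + n)) :
    C.cc i (e + n) ((f i) ^ e • m) h = C.cc i n m hm := by
  rw [C.cc_smul i (pow_mem_deg (hf i) e) hm h, map_pow, dehom_self, one_pow, one_smul]

/-- well-definedness of `m / f^k ↦ c m` -/
theorem cc_eq_of_fr_eq (i : ι) {k k' : ℕ} {m m' : M} (hm : m ∈ ℳ k) (hm' : m' ∈ ℳ k')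
    (h : fr 𝒜 ℳ (hf i) k hm = fr 𝒜 ℳ (hf i) k' hm') : C.cc i k m hm = C.cc i k' m' hm' := by
  have hy : (f i) ^ k' • m ∈ ℳ (k' + k) := pow_smul_mem 𝒜 ℳ (hf i) k' k hm
  have hy' : (f i) ^ k • m' ∈ ℳ (k' + k) := by
    have := pow_smul_mem 𝒜 ℳ (hf i) k k' hm'
    rwa [add_comm] at this
  have h1 : fr 𝒜 ℳ (hf i) (k' + k) (sub_mem hy hy') = 0 := by
    have e1 : fr 𝒜 ℳ (hf i) (k' + k) hy = fr 𝒜 ℳ (hf i) k hm := fr_pow_smul 𝒜 ℳ (hf i) k' k hm hy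
    have e2 : fr 𝒜 ℳ (hf i) (k' + k) hy' = fr 𝒜 ℳ (hf i) k' hm' := by
      rw [← fr_pow_smul 𝒜 ℳ (hf i) k k' hm' (pow_smul_mem 𝒜 ℳ (hf i) k k' hm')]
      exact fr_congr 𝒜 ℳ (hf i) (add_comm _ _) _ _ rfl
    have e3 : fr 𝒜 ℳ (hf i) (k' + k) (sub_mem hy hy') =
        fr 𝒜 ℳ (hf i) (k' + k) hy + fr 𝒜 ℳ (hf i) (k' + k) (neg_mem hy') := by
      rw [← fr_add]
      exact fr_congr 𝒜 ℳ (hf i) rfl _ _ (sub_eq_add_neg _ _)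
    rw [e3, fr_neg 𝒜 ℳ (hf i) (k' + k) hy', e1, e2, h, add_neg_cancel]
  obtain ⟨e, he⟩ := fr_eq_zero 𝒜 ℳ (hf i) (k' + k) (sub_mem hy hy') h1
  rw [smul_sub, sub_eq_zero] at he
  rw [← C.cc_pow_smul i k' hm hy,
    ← C.cc_pow_smul i e hy (pow_smul_mem 𝒜 ℳ (hf i) e (k' + k) hy),
    ← C.cc_pow_smul i k hm' (pow_smul_mem 𝒜 ℳ (hf i) k k' hm'),
    ← C.cc_pow_smul i e (pow_smul_mem 𝒜 ℳ (hf i) k k' hm')
      (pow_smul_mem 𝒜 ℳ (hf i) e (k + k') (pow_smul_mem 𝒜 ℳ (hf i) k k' hm'))]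
  exact C.cc_congr i (by omega) _ _ he

/-- the map `Γ(M~, D₊(f i)) → Γ(F, D₊(f i))`, `m / f^k ↦ c m` -/
noncomputable def Lfun (i : ι) (σ : Γ(GrTilde.tilde 𝒜 ℳ 0, Proj.basicOpen 𝒜 (f i))) :
    Γ(F, Proj.basicOpen 𝒜 (f i)) :=
  C.cc i (Classical.choose (exists_fr 𝒜 ℳ (hf i) σ))
    (Classical.choose (Classical.choose_spec (exists_fr 𝒜 ℳ (hf i) σ)))
    (Classical.choose (Classical.choose_spec (Classical.choose_spec (exists_fr 𝒜 ℳ (hf i) σ))))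

theorem Lfun_fr (i : ι) (k : ℕ) {m : M} (hm : m ∈ ℳ k) :
    C.Lfun i (fr 𝒜 ℳ (hf i) k hm) = C.cc i k m hm := by
  unfold Lfun
  apply cc_eq_of_fr_eq
  exact (Classical.choose_spec (Classical.choose_spec (Classical.choose_spec
    (exists_fr 𝒜 ℳ (hf i) (fr 𝒜 ℳ (hf i) k hm))))).symm

include hf in
theorem exists_fr₂ (i : ι) (σ σ' : Γ(GrTilde.tilde 𝒜 ℳ 0, Proj.basicOpen 𝒜 (f i))) :
    ∃ (k : ℕ) (m m' : M) (hm : m ∈ ℳ k) (hm' : m' ∈ ℳ k),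
      σ = fr 𝒜 ℳ (hf i) k hm ∧ σ' = fr 𝒜 ℳ (hf i) k hm' := by
  obtain ⟨k, m, hm, rfl⟩ := exists_fr 𝒜 ℳ (hf i) σ
  obtain ⟨k', m', hm', rfl⟩ := exists_fr 𝒜 ℳ (hf i) σ'
  have hy : (f i) ^ k' • m ∈ ℳ (k' + k) := pow_smul_mem 𝒜 ℳ (hf i) k' k hm
  have hy' : (f i) ^ k • m' ∈ ℳ (k' + k) := by
    have := pow_smul_mem 𝒜 ℳ (hf i) k k' hm'
    rwa [add_comm] at this
  refine ⟨k' + k, _, _, hy, hy', (fr_pow_smul 𝒜 ℳ (hf i) k' k hm hy).symm, ?_⟩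
  rw [← fr_pow_smul 𝒜 ℳ (hf i) k k' hm' (pow_smul_mem 𝒜 ℳ (hf i) k k' hm')]
  exact fr_congr 𝒜 ℳ (hf i) (add_comm _ _) _ _ rfl

theorem Lfun_add (i : ι) (σ σ' : Γ(GrTilde.tilde 𝒜 ℳ 0, Proj.basicOpen 𝒜 (f i))) :
    C.Lfun i (σ + σ') = C.Lfun i σ + C.Lfun i σ' := by
  obtain ⟨k, m, m', hm, hm', rfl, rfl⟩ := exists_fr₂ (hf := hf) i σ σ'
  rw [← fr_add, Lfun_fr, Lfun_fr, Lfun_fr, cc_add]

theorem Lfun_zero (i : ι) : C.Lfun i 0 = 0 := by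
  rw [← fr_zero 𝒜 ℳ (hf i) 0, Lfun_fr, cc_zero]

/-- the additive map `Γ(M~, D₊(f i)) → Γ(F, D₊(f i))` -/
noncomputable def L (i : ι) : Γ(GrTilde.tilde 𝒜 ℳ 0, Proj.basicOpen 𝒜 (f i)) →+
    Γ(F, Proj.basicOpen 𝒜 (f i)) where
  toFun := C.Lfun i
  map_zero' := C.Lfun_zero i
  map_add' := C.Lfun_add i

theorem L_fr (i : ι) (k : ℕ) {m : M} (hm : m ∈ ℳ k) :
    C.L i (fr 𝒜 ℳ (hf i) k hm) = C.cc i k m hm := C.Lfun_fr i k hm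

include hf in
theorem exists_dehom_eq (i : ι) (r : Γ(Proj 𝒜, Proj.basicOpen 𝒜 (f i))) :
    ∃ (j : ℕ) (a : A) (_ : a ∈ 𝒜 j), dehom (hf i) a = r := by
  obtain ⟨j, a, ha, h⟩ := exists_awayToSection_eq (hf i) one_pos r
  exact ⟨j, a, by simpa using ha, (dehom_eq_awayToSection (hf i) ha).trans h⟩

theorem L_smul (i : ι) (r : Γ(Proj 𝒜, Proj.basicOpen 𝒜 (f i)))
    (σ : Γ(GrTilde.tilde 𝒜 ℳ 0, Proj.basicOpen 𝒜 (f i))) : C.L i (r • σ) = r • C.L i σ := by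
  obtain ⟨j, a, ha, rfl⟩ := exists_dehom_eq (hf := hf) i r
  obtain ⟨k, m, hm, rfl⟩ := exists_fr 𝒜 ℳ (hf i) σ
  have ham : a • m ∈ ℳ (j + k) := SetLike.GradedSMul.smul_mem ha hm
  rw [fr_smul 𝒜 ℳ (hf i) ha hm ham, L_fr, L_fr, C.cc_smul i ha hm ham]

theorem L_bijective (i : ι) : Function.Bijective (C.L i) := by
  constructor
  · rw [injective_iff_map_eq_zero]
    intro σ hσ
    obtain ⟨k, m, hm, rfl⟩ := exists_fr 𝒜 ℳ (hf i) σ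
    rw [L_fr] at hσ
    obtain ⟨e, he⟩ := C.c_eq_zero i ⟨m, hm⟩ hσ
    rw [← fr_pow_smul 𝒜 ℳ (hf i) e k hm (pow_smul_mem 𝒜 ℳ (hf i) e k hm),
      ← fr_zero 𝒜 ℳ (hf i) (e + k)]
    exact fr_congr 𝒜 ℳ (hf i) rfl _ _ he
  · intro t
    obtain ⟨n, x, hx⟩ := C.c_surj i t
    exact ⟨fr 𝒜 ℳ (hf i) n x.2, (C.L_fr i n x.2).trans hx⟩

include hf in
/-- `m / f_i^k = (f_j / f_i)^k (m / f_j^k)` on `D₊(f i) ∩ D₊(f j)` -/
theorem res_fr_overlap (i j : ι) (k : ℕ) {m : M} (hm : m ∈ ℳ k) {W : (Proj 𝒜).Opens}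
    (hWi : W ≤ Proj.basicOpen 𝒜 (f i)) (hWj : W ≤ Proj.basicOpen 𝒜 (f j)) :
    res (GrTilde.tilde 𝒜 ℳ 0) hWi (fr 𝒜 ℳ (hf i) k hm) =
      (resO hWi (dehom (hf i) (f j))) ^ k •
        res (GrTilde.tilde 𝒜 ℳ 0) hWj (fr 𝒜 ℳ (hf j) k hm) := by
  apply sec_ext
  intro y hy
  rw [secVal_smul, funVal_pow, HomogeneousLocalization.val_pow, funVal_resO,
    funVal_dehom (hf i) (hf j) y (hWi hy)]
  change secVal 𝒜 ℳ 0 _ (fr 𝒜 ℳ (hf i) k hm) y (hWi hy) =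
    _ • secVal 𝒜 ℳ 0 _ (fr 𝒜 ℳ (hf j) k hm) y (hWj hy)
  rw [secVal_fr, secVal_fr, Localization.mk_pow, LocalizedModule.mk_smul_mk, LocalizedModule.mk_eq]
  refine ⟨1, ?_⟩
  simp only [one_smul, Submonoid.smul_def, Submonoid.coe_mul, SubmonoidClass.coe_pow, pow_one]
  rw [mul_smul]

include C in
/-- **criterion**: comparison data give an isomorphism `M~ ≅ F` -/
theorem nonempty_iso [F.IsQuasicoherent] (hcov : ⨆ i, Proj.basicOpen 𝒜 (f i) = ⊤) :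
    Nonempty (GrTilde.tilde 𝒜 ℳ 0 ≅ F) := by
  haveI : (GrTilde.tilde 𝒜 ℳ 0).IsQuasicoherent := isQuasicoherent_tilde 𝒜 ℳ 0
  have hAff : ∀ i, IsAffineOpen (Proj.basicOpen 𝒜 (f i)) := fun i =>
    Proj.isAffineOpen_basicOpen 𝒜 (f i) (hf i) one_pos
  choose D hD using fun i =>
    exists_locFam (hAff i) (GrTilde.tilde 𝒜 ℳ 0) F (C.L i) (C.L_smul i)
  have compat : ∀ (i j : ι) (W : (Proj 𝒜).Opens) (hi : W ≤ Proj.basicOpen 𝒜 (f i))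
      (hj : W ≤ Proj.basicOpen 𝒜 (f j)) (τ : Γ(GrTilde.tilde 𝒜 ℳ 0, W)),
      (D i).d W hi τ = (D j).d W hj τ := by
    intro i j W hi hj τ
    refine LocFam.eq_of_le (hAff i) (GrTilde.tilde 𝒜 ℳ 0) F
      (V' := Proj.basicOpen 𝒜 (f i) ⊓ Proj.basicOpen 𝒜 (f j)) inf_le_left
      ((D i).restrict inf_le_left) ((D j).restrict inf_le_right) ?_ W (le_inf hi hj) τ
    intro σ
    obtain ⟨k, m, hm, rfl⟩ := exists_fr 𝒜 ℳ (hf i) σ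
    change (D i).d _ _ (res (GrTilde.tilde 𝒜 ℳ 0) _ (fr 𝒜 ℳ (hf i) k hm)) =
      (D j).d _ _ (res (GrTilde.tilde 𝒜 ℳ 0) _ (fr 𝒜 ℳ (hf i) k hm))
    rw [← (D i).nat _ _ le_rfl inf_le_left, hD i, L_fr]
    rw [res_fr_overlap (hf := hf) i j k hm inf_le_left inf_le_right, (D j).lin,
      ← (D j).nat _ _ le_rfl inf_le_right, hD j, L_fr]
    have h1 := C.c_overlap ⟨m, hm⟩ i j
    change res F _ (C.cc j k m hm) = _ • res F _ (C.cc i k m hm) at h1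
    rw [h1, smul_smul, ← mul_pow, dehom_mul_dehom, one_pow, one_smul]
  obtain ⟨ψ, hψ⟩ := exists_hom_of_locFams _ hcov (GrTilde.tilde 𝒜 ℳ 0) F D compat
  haveI : IsIso ψ := isIso_of_bijective_cover _ hcov (GrTilde.tilde 𝒜 ℳ 0) F ψ hAff (fun i => by
    have : ⇑(ψ.app (Proj.basicOpen 𝒜 (f i))) = ⇑(C.L i) :=
      funext fun τ => (hψ i _ le_rfl τ).trans (hD i τ)
    rw [this]
    exact C.L_bijective i)
  exact ⟨asIso ψ⟩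

end CData

end Groth.Agent.Helper13TildeCrit
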