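import Groth.Agent.Lib.Helper13TildeCrit
import Groth.Agent.Lib.Helper13HomSub

/-!
# The criterion `M~ ≅ F` restricted to a finitely generated homogeneous submodule (helper13)

Given comparison data `C : CData 𝒜 ℳ hf F` (see `Helper13TildeCrit`) and a homogeneous submodule `N ≤ M` such that
every section over every `D₊(f i)` is still of the form `c i n x` with `x ∈ N` (`Hit`), `N~ ≅ F`
(`nonempty_iso_of_hit`, for the induced grading `Helper13HomSub.grN`).  If the modules of sections of `F` over the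
`D₊(f i)` are finite (and `ι` is finite), such an `N` can be chosen finitely generated (`exists_fg_hit`).
-/

set_option autoImplicit false
set_option linter.unusedSectionVars false
set_option linter.style.haveILetI false
universe u

open CategoryTheory CategoryTheory.Limits AlgebraicGeometry TopologicalSpace Opposite
  HomogeneousLocalization

namespace Groth.Agent.Helper13TildeCritFT

open Groth.Agent.Lib.Helper27GrTildeSect Groth.Agent.Helper13GrTildeFrac
  Groth.Agent.Helper13Dehom Groth.Agent.Lib.Helper6 Groth.Agent.Helper13ModGlue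
  Groth.Agent.Helper13TildeCrit Groth.Agent.Helper13HomSub

variable {R A : Type u} [CommRing R] [CommRing A] [Algebra R A] {𝒜 : ℕ → Submodule R A}
  [GradedAlgebra 𝒜]
variable {M : Type u} [AddCommGroup M] [Module R M] [Module A M] [IsScalarTower R A M]
  {ℳ : ℕ → Submodule R M} [DirectSum.Decomposition ℳ] [SetLike.GradedSMul 𝒜 ℳ]
variable {ι : Type u} {f : ι → A} {hf : ∀ i, f i ∈ 𝒜 1} {F : (Proj 𝒜).Modules}
variable (C : CData 𝒜 ℳ hf F) (N : Submodule A M)

/-- `t` is of the form `c i n x` with `x ∈ N` homogeneous -/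
def Hit (i : ι) (t : Γ(F, Proj.basicOpen 𝒜 (f i))) : Prop :=
  ∃ (n : ℕ) (m : M) (hm : m ∈ ℳ n), m ∈ N ∧ C.cc i n m hm = t

theorem hit_zero (i : ι) : Hit C N i 0 := ⟨0, 0, zero_mem _, N.zero_mem, C.cc_zero i 0⟩

theorem hit_add (i : ι) {t t' : Γ(F, Proj.basicOpen 𝒜 (f i))} (ht : Hit C N i t)
    (ht' : Hit C N i t') : Hit C N i (t + t') := by
  obtain ⟨n, m, hm, hmN, rfl⟩ := ht
  obtain ⟨n', m', hm', hmN', rfl⟩ := ht'
  have hy : (f i) ^ n' • m ∈ ℳ (n' + n) := pow_smul_mem 𝒜 ℳ (hf i) n' n hm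
  have hy' : (f i) ^ n • m' ∈ ℳ (n' + n) := by
    have := pow_smul_mem 𝒜 ℳ (hf i) n n' hm'
    rwa [add_comm] at this
  refine ⟨n' + n, (f i) ^ n' • m + (f i) ^ n • m', add_mem hy hy',
    N.add_mem (N.smul_mem _ hmN) (N.smul_mem _ hmN'), ?_⟩
  rw [C.cc_add i (n' + n) hy hy', C.cc_pow_smul i n' hm hy]
  congr 1
  rw [← C.cc_pow_smul i n hm' (pow_smul_mem 𝒜 ℳ (hf i) n n' hm')]
  exact C.cc_congr i (add_comm _ _) _ _ rfl

theorem hit_smul (i : ι) (r : Γ(Proj 𝒜, Proj.basicOpen 𝒜 (f i)))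
    {t : Γ(F, Proj.basicOpen 𝒜 (f i))} (ht : Hit C N i t) : Hit C N i (r • t) := by
  obtain ⟨n, m, hm, hmN, rfl⟩ := ht
  obtain ⟨j, a, ha, rfl⟩ := CData.exists_dehom_eq (hf := hf) i r
  have ham : a • m ∈ ℳ (j + n) := SetLike.GradedSMul.smul_mem ha hm
  exact ⟨j + n, a • m, ham, N.smul_mem _ hmN, C.cc_smul i ha hm ham⟩

theorem hit_of_span_eq_top (i : ι) (T : Set Γ(F, Proj.basicOpen 𝒜 (f i)))
    (hT : Submodule.span Γ(Proj 𝒜, Proj.basicOpen 𝒜 (f i)) T = ⊤) (h : ∀ t ∈ T, Hit C N i t)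
    (t : Γ(F, Proj.basicOpen 𝒜 (f i))) : Hit C N i t := by
  have ht : t ∈ Submodule.span Γ(Proj 𝒜, Proj.basicOpen 𝒜 (f i)) T := by rw [hT]; trivial
  induction ht using Submodule.span_induction with
  | mem x hx => exact h x hx
  | zero => exact hit_zero C N i
  | add x y _ _ hx hy => exact hit_add C N i hx hy
  | smul r x _ hx => exact hit_smul C N i r hx

/-- the comparison data restricted to a homogeneous submodule that still hits everything -/
theorem nonempty_iso_of_hit [F.IsQuasicoherent] (hcov : ⨆ i, Proj.basicOpen 𝒜 (f i) = ⊤)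
    (hN : IsHomog ℳ N) (hsurj : ∀ i t, Hit C N i t) :
    Nonempty (GrTilde.tilde 𝒜 (grN ℳ N) 0 ≅ F) := by
  letI := decompositionGrN ℳ N hN
  exact CData.nonempty_iso (hf := hf)
    { c := fun i n => (C.c i n).comp (inclPiece ℳ N n)
      c_smul := fun i k n a ha x => C.c_smul i ha (inclPiece ℳ N n x)
      c_overlap := fun x i j => C.c_overlap (inclPiece ℳ N _ x) i j
      c_eq_zero := fun i n x h => by
        obtain ⟨k, hk⟩ := C.c_eq_zero i (inclPiece ℳ N n x) h
        exact ⟨k, Subtype.ext hk⟩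
      c_surj := fun i t => by
        obtain ⟨n, m, hm, hmN, h⟩ := hsurj i t
        exact ⟨n, ⟨⟨m, hmN⟩, hm⟩, h⟩ } hcov

/-- if the modules of sections over the `D₊(f i)` are finite, finitely many homogeneous elements suffice -/
theorem exists_fg_hit [Finite ι]
    (hfin : ∀ i, Module.Finite Γ(Proj 𝒜, Proj.basicOpen 𝒜 (f i)) Γ(F, Proj.basicOpen 𝒜 (f i))) :
    ∃ N : Submodule A M, N.FG ∧ IsHomog ℳ N ∧ ∀ i t, Hit C N i t := by
  classical
  choose T hT using fun i => (hfin i).fg_top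
  choose nn xx hxx using C.c_surj
  let S : Set M := ⋃ i, (fun t => ((xx i t : ℳ (nn i t)) : M)) '' (T i : Set _)
  have hSfin : S.Finite := Set.finite_iUnion fun i => (T i).finite_toSet.image _
  refine ⟨Submodule.span A S, Submodule.fg_span hSfin, isHomog_span 𝒜 ℳ S ?_, ?_⟩
  · rintro x ⟨_, ⟨i, rfl⟩, t, _, rfl⟩
    exact ⟨nn i t, (xx i t).2⟩
  · intro i t
    refine hit_of_span_eq_top C _ i (T i) (hT i) ?_ t
    intro t ht
    exact ⟨nn i t, (xx i t).1, (xx i t).2,
      Submodule.subset_span (Set.mem_iUnion.2 ⟨i, t, ht, rfl⟩), hxx i t⟩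

end Groth.Agent.Helper13TildeCritFT
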