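import Mathlib
import Groth.Agent.Lib.Helper13TorNat
import Groth.Agent.Lib.Helper13TorMore
import Groth.Agent.Lib.Helper13TorColim
import Groth.Agent.Lib.Helper13Ses

/-!
# Vanishing of transition maps `Tor_i(M, R/I^a) ⟶ Tor_i(M, R/I^b)` (Artin–Rees) (helper13)
-/

set_option autoImplicit false
universe u
open CategoryTheory CategoryTheory.Limits MonoidalCategory

namespace Groth.Agent.Helper13TorAR

open Groth.Agent.Helper13Tor

variable {R : Type u} [CommRing R]

section general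

variable (S : ShortComplex (ModuleCat.{u} R)) (hS : S.ShortExact)

include hS in
/-- If `Tor_i(X₁, g₁) = 0` and `Tor_{i+1}(X₂, g₂) = 0` then `Tor_{i+1}(X₃, g₁ ≫ g₂) = 0`. -/
theorem tor_succ_map_comp_eq_zero {Y Y' Y'' : ModuleCat.{u} R} (g₁ : Y ⟶ Y') (g₂ : Y' ⟶ Y'')
    (i : ℕ) (h₁ : ((Tor (ModuleCat.{u} R) i).obj S.X₁).map g₁ = 0)
    (h₂ : ((Tor (ModuleCat.{u} R) (i + 1)).obj S.X₂).map g₂ = 0) :
    ((Tor (ModuleCat.{u} R) (i + 1)).obj S.X₃).map (g₁ ≫ g₂) = 0 := by
  rw [CategoryTheory.Functor.map_comp]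
  have hnat := (torδ S hS i).naturality g₁
  rw [h₁, comp_zero] at hnat
  have hex := δQ_exact₃ S hS (projectiveResolution Y') i
  have hnat₂ := ((Tor (ModuleCat.{u} R) (i + 1)).map S.g).naturality g₂
  rw [h₂, zero_comp] at hnat₂
  apply ModuleCat.hom_ext
  apply LinearMap.ext
  intro x
  have hx : (torδ S hS i).app Y' ((((Tor (ModuleCat.{u} R) (i + 1)).obj S.X₃).map g₁) x) = 0 := by
    have := congr_arg (fun t => t.hom x) hnat
    simpa using this
  obtain ⟨w, hw⟩ := (ShortComplex.moduleCat_exact_iff _).1 hex _ hx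
  have hw' : (((Tor (ModuleCat.{u} R) (i + 1)).map S.g).app Y') w =
      (((Tor (ModuleCat.{u} R) (i + 1)).obj S.X₃).map g₁) x := hw
  have h3 := congr_arg (fun t => t.hom w) hnat₂
  simp only [ModuleCat.hom_comp, LinearMap.comp_apply, ModuleCat.hom_zero,
    LinearMap.zero_apply] at h3
  have h4 : (((Tor (ModuleCat.{u} R) (i + 1)).obj S.X₃).map g₁).hom x =
      (((Tor (ModuleCat.{u} R) (i + 1)).map S.g).app Y').hom w := hw'.symm
  show (((Tor (ModuleCat.{u} R) (i + 1)).obj S.X₃).map g₂).hom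
    ((((Tor (ModuleCat.{u} R) (i + 1)).obj S.X₃).map g₁).hom x) = 0
  rw [h4]
  exact h3.symm

include hS in
/-- dimension shifting of vanishing: if `X₂` is flat and `Tor_i(X₁, g) = 0` then
`Tor_{i+1}(X₃, g) = 0`. -/
theorem tor_succ_map_eq_zero_of_flat [Module.Flat R S.X₂] {Y Y' : ModuleCat.{u} R} (g : Y ⟶ Y')
    (i : ℕ) (h₁ : ((Tor (ModuleCat.{u} R) i).obj S.X₁).map g = 0) :
    ((Tor (ModuleCat.{u} R) (i + 1)).obj S.X₃).map g = 0 := by
  have h := tor_succ_map_comp_eq_zero S hS g (𝟙 Y') i h₁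
    ((isZero_tor_of_flat Y' S.X₂ (i + 1) (by omega)).eq_of_src _ _)
  rwa [Category.comp_id] at h

include hS in
/-- `Tor_1(X₃, g) = 0` from a tensor-level statement. -/
theorem tor_one_map_eq_zero_of_tensor [Module.Flat R S.X₂] {Y Y' : ModuleCat.{u} R} (g : Y ⟶ Y')
    (h : ∀ z : TensorProduct R S.X₁ Y, LinearMap.rTensor Y S.f.hom z = 0 →
      LinearMap.lTensor S.X₁ g.hom z = 0) :
    ((Tor (ModuleCat.{u} R) 1).obj S.X₃).map g = 0 := by
  have hnat := (torδ S hS 0).naturality g
  have hmono : Mono ((torδ S hS 0).app Y') :=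
    (δQ_exact₃ S hS (projectiveResolution Y') 0).mono_g
      ((isZero_tor_of_flat Y' S.X₂ (0 + 1) (by omega)).eq_of_src _ _)
  have hz : (torδ S hS 0).app Y ≫ ((Tor (ModuleCat.{u} R) 0).obj S.X₁).map g = 0 := by
    apply ModuleCat.hom_ext
    apply LinearMap.ext
    intro x
    let e₁ := (torZeroIso.app S.X₁).app Y
    let e₁' := (torZeroIso.app S.X₁).app Y'
    let e₂ := (torZeroIso.app S.X₂).app Y
    have hn : ((Tor (ModuleCat.{u} R) 0).map S.f).app Y ≫ e₂.hom =
        e₁.hom ≫ ((tensoringLeft (ModuleCat.{u} R)).map S.f).app Y :=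
      congr_arg (fun t => t.app Y) (torZeroIso.hom.naturality S.f)
    have hn' : ((Tor (ModuleCat.{u} R) 0).obj S.X₁).map g ≫ e₁'.hom =
        e₁.hom ≫ ((tensoringLeft (ModuleCat.{u} R)).obj S.X₁).map g :=
      (torZeroIso.hom.app S.X₁).naturality g
    have hδf := δQ_comp_map S hS (projectiveResolution Y) 0
    have h1 : (((Tor (ModuleCat.{u} R) 0).map S.f).app Y).hom
        (((torδ S hS 0).app Y).hom x) = 0 := by
      have := congr_arg (fun t => t.hom x) hδf
      simp only [ModuleCat.hom_comp, LinearMap.comp_apply, ModuleCat.hom_zero,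
        LinearMap.zero_apply] at this
      exact this
    have h2 : LinearMap.rTensor Y S.f.hom (e₁.hom.hom (((torδ S hS 0).app Y).hom x)) = 0 := by
      have := congr_arg (fun t => t.hom (((torδ S hS 0).app Y).hom x)) hn
      simp only [ModuleCat.hom_comp, LinearMap.comp_apply] at this
      rw [h1, map_zero] at this
      exact this.symm
    have h3 := h _ h2
    have h4 := congr_arg (fun t => t.hom (((torδ S hS 0).app Y).hom x)) hn'
    simp only [ModuleCat.hom_comp, LinearMap.comp_apply] at h4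
    have h5 : e₁'.hom.hom ((((Tor (ModuleCat.{u} R) 0).obj S.X₁).map g).hom
        (((torδ S hS 0).app Y).hom x)) = 0 := by
      rw [h4]
      exact h3
    have hinj : Function.Injective e₁'.hom.hom :=
      (ModuleCat.mono_iff_injective e₁'.hom).1 inferInstance
    exact hinj (h5.trans (map_zero _).symm)
  rw [hz] at hnat
  exact (cancel_mono ((torδ S hS 0).app Y')).1 (hnat.trans zero_comp.symm)

end general

section sigma

/-- `Tor_p(-, Y)` commutes with coproducts, hence vanishing of `Tor_p(-, g)` passes to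
coproducts. -/
theorem tor_map_eq_zero_sigma {α : Type u} (f : α → ModuleCat.{u} R) {Y Y' : ModuleCat.{u} R}
    (g : Y ⟶ Y') (p : ℕ) (h : ∀ a, ((Tor (ModuleCat.{u} R) p).obj (f a)).map g = 0) :
    ((Tor (ModuleCat.{u} R) p).obj (∐ f)).map g = 0 := by
  haveI : PreservesColimitsOfShape (Discrete α) ((Tor (ModuleCat.{u} R) p).flip.obj Y) :=
    preservesColimitsOfShape_of_natIso (torFlipIso Y p).symm
  have hc := isColimitOfPreserves ((Tor (ModuleCat.{u} R) p).flip.obj Y)
    (colimit.isColimit (Discrete.functor f))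
  refine hc.hom_ext (fun ⟨a⟩ => ?_)
  show ((Tor (ModuleCat.{u} R) p).map (Sigma.ι f a)).app Y ≫ _ = _ ≫ 0
  rw [comp_zero]
  have := ((Tor (ModuleCat.{u} R) p).map (Sigma.ι f a)).naturality g
  rw [← this, h a, zero_comp]

/-- presentation of a module killed by `J` by a coproduct of copies of `R/J`, with kernel killed
by `J`. -/
theorem exists_presentation_of_killed (J : Ideal R) (M : ModuleCat.{u} R)
    (hM : ∀ a ∈ J, ∀ x : M, a • x = 0) :
    ∃ (α : Type u) (π : (∐ fun _ : α => ModuleCat.of R (R ⧸ J)) ⟶ M), Epi π ∧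
      ∀ a ∈ J, ∀ x : (kernel π : ModuleCat.{u} R), a • x = 0 := by
  let N : ModuleCat.{u} R := ModuleCat.of R (R ⧸ J)
  let φ : M → (N ⟶ M) := fun x => ModuleCat.ofHom
    (Submodule.liftQ J (LinearMap.toSpanSingleton R M x) (by
      intro a ha
      rw [LinearMap.mem_ker, LinearMap.toSpanSingleton_apply]
      exact hM a ha x))
  refine ⟨M, Sigma.desc φ, ?_, ?_⟩
  · rw [ModuleCat.epi_iff_surjective]
    intro x
    refine ⟨(Sigma.ι (fun _ : M => N) x).hom (1 : R ⧸ J), ?_⟩
    have h1 := Sigma.ι_desc φ x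
    have h2 := congr_arg (fun t => t.hom (1 : R ⧸ J)) h1
    simp only [ModuleCat.hom_comp, LinearMap.comp_apply] at h2
    refine h2.trans ?_
    show Submodule.liftQ J (LinearMap.toSpanSingleton R M x) _ (Submodule.Quotient.mk 1) = x
    rw [Submodule.liftQ_apply, LinearMap.toSpanSingleton_apply, one_smul]
  · intro a ha x
    have hF : ∀ y : (∐ fun _ : M => N : ModuleCat.{u} R), a • y = 0 := by
      have h0 : (ModuleCat.ofHom (LinearMap.lsmul R _ a) :
          (∐ fun _ : M => N) ⟶ (∐ fun _ : M => N)) = 0 := by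
        refine Sigma.hom_ext _ _ (fun x => ?_)
        rw [comp_zero]
        apply ModuleCat.hom_ext
        apply LinearMap.ext
        intro n
        simp only [ModuleCat.hom_comp, LinearMap.comp_apply, ModuleCat.hom_ofHom,
          ModuleCat.hom_zero, LinearMap.zero_apply]
        show a • (ModuleCat.Hom.hom (Sigma.ι (fun _ : M => N) x)) n = 0
        rw [← LinearMap.map_smul]
        have hn : a • n = 0 := by
          obtain ⟨r, rfl⟩ := Submodule.Quotient.mk_surjective _ n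
          rw [← Submodule.Quotient.mk_smul, Submodule.Quotient.mk_eq_zero]
          exact J.mul_mem_right _ ha
        rw [hn, map_zero]
      intro y
      have := congr_arg (fun t => t.hom y) h0
      simp only [ModuleCat.hom_ofHom, ModuleCat.hom_zero, LinearMap.zero_apply] at this
      exact this
    have hinj : Function.Injective (kernel.ι (Sigma.desc φ)).hom :=
      (ModuleCat.mono_iff_injective _).1 inferInstance
    have e1 : (kernel.ι (Sigma.desc φ)).hom (a • x) = a • (kernel.ι (Sigma.desc φ)).hom x :=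
      LinearMap.map_smul _ _ _
    apply hinj
    rw [e1, hF, LinearMap.map_zero]

end sigma

section quot

variable (I : Ideal R)

/-- the transition map `R/I^a ⟶ R/I^b`. -/
noncomputable abbrev qmap {a b : ℕ} (h : I ^ a ≤ I ^ b) :
    ModuleCat.of R (R ⧸ I ^ a) ⟶ ModuleCat.of R (R ⧸ I ^ b) :=
  ModuleCat.ofHom (Submodule.factor h)

/-- uniform vanishing of the transition maps on `Tor_i(M, -)` with shift `c`. -/
def TorVanish (M : ModuleCat.{u} R) (i c : ℕ) : Prop :=
  ∀ (a b : ℕ) (_ : b + c ≤ a) (h : I ^ a ≤ I ^ b),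
    ((Tor (ModuleCat.{u} R) i).obj M).map (qmap I h) = 0

theorem mem_smul_top_of_mem_smul {P : Type*} [AddCommGroup P] [Module R P] (K : Submodule R P)
    (J : Ideal R) (k : K) (h : (k : P) ∈ J • K) : k ∈ (J • ⊤ : Submodule R K) := by
  have h1 : (J • ⊤ : Submodule R K).map K.subtype = J • K := by
    rw [Submodule.map_smul'', Submodule.map_subtype_top]
  rw [← h1] at h
  obtain ⟨y, hy, hyk⟩ := h
  have : y = k := Subtype.ext hyk
  rwa [← this]

/-- `Tor_1(X₃, R/I^a) ⟶ Tor_1(X₃, R/I^b)` vanishes given an Artin–Rees type inclusion. -/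
theorem tor_one_qmap_eq_zero (S : ShortComplex (ModuleCat.{u} R)) (hS : S.ShortExact)
    [Module.Flat R S.X₂] {a b : ℕ} (h : I ^ a ≤ I ^ b)
    (hAR : ∀ k : S.X₁, S.f.hom k ∈ (I ^ a • ⊤ : Submodule R S.X₂) →
      k ∈ (I ^ b • ⊤ : Submodule R S.X₁)) :
    ((Tor (ModuleCat.{u} R) 1).obj S.X₃).map (qmap I h) = 0 := by
  apply tor_one_map_eq_zero_of_tensor S hS
  intro z hz
  obtain ⟨k, rfl⟩ : ∃ k : S.X₁, z = k ⊗ₜ[R] (1 : R ⧸ I ^ a) := by
    obtain ⟨k, hk⟩ := Submodule.Quotient.mk_surjective _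
      (TensorProduct.tensorQuotEquivQuotSMul S.X₁ (I ^ a) z)
    refine ⟨k, ?_⟩
    rw [← TensorProduct.tensorQuotEquivQuotSMul_symm_mk, hk, LinearEquiv.symm_apply_apply]
  rw [LinearMap.rTensor_tmul] at hz
  have h1 : S.f.hom k ∈ (I ^ a • ⊤ : Submodule R S.X₂) := by
    have := congr_arg (TensorProduct.tensorQuotEquivQuotSMul S.X₂ (I ^ a)) hz
    rw [map_zero, ← TensorProduct.tensorQuotEquivQuotSMul_symm_mk,
      LinearEquiv.apply_symm_apply, Submodule.Quotient.mk_eq_zero] at this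
    exact this
  have h2 := hAR k h1
  rw [LinearMap.lTensor_tmul]
  have h3 : (qmap I h).hom (1 : R ⧸ I ^ a) = (1 : R ⧸ I ^ b) := rfl
  rw [h3, ← TensorProduct.tensorQuotEquivQuotSMul_symm_mk,
    (Submodule.Quotient.mk_eq_zero _).2 h2, map_zero]

open Groth.Agent.Helper13Ses in
/-- For a finite module over a Noetherian ring and `i > 0` the transition maps
`Tor_i(N, R/I^a) ⟶ Tor_i(N, R/I^b)` vanish for `b + c ≤ a`. -/
theorem exists_torVanish_of_finite [IsNoetherianRing R] (i : ℕ) (hi : 0 < i) :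
    ∀ (N : Type u) [AddCommGroup N] [Module R N] [Module.Finite R N],
      ∃ c, TorVanish I (ModuleCat.of R N) i c := by
  induction i, hi using Nat.le_induction with
  | base =>
    intro N _ _ _
    obtain ⟨n, f, hf⟩ := Module.Finite.exists_fin' R N
    obtain ⟨c, hc⟩ := Ideal.exists_pow_inf_eq_pow_smul I (LinearMap.ker f)
    refine ⟨c, fun a b hab h => ?_⟩
    have : Module.Flat R (sesKer f).X₂ := (inferInstance : Module.Flat R (Fin n → R))
    refine tor_one_qmap_eq_zero I (sesKer f) (sesKer_shortExact f hf) h ?_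
    intro k₀ hk
    obtain ⟨k, rfl⟩ : ∃ k : LinearMap.ker f, k = k₀ := ⟨k₀, rfl⟩
    have hk' : (k : Fin n → R) ∈ (I ^ a • ⊤ : Submodule R (Fin n → R)) := hk
    have h1 : (k : Fin n → R) ∈
        (I ^ a • ⊤ ⊓ LinearMap.ker f : Submodule R (Fin n → R)) := ⟨hk', k.2⟩
    rw [hc a (by omega)] at h1
    have h2 : I ^ (a - c) • (I ^ c • ⊤ ⊓ LinearMap.ker f : Submodule R (Fin n → R)) ≤
        I ^ b • LinearMap.ker f :=
      Submodule.smul_mono (Ideal.pow_le_pow_right (by omega)) inf_le_right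
    exact mem_smul_top_of_mem_smul (LinearMap.ker f) (I ^ b) k (h2 h1)
  | succ i hi ih =>
    intro N _ _ _
    obtain ⟨n, f, hf⟩ := Module.Finite.exists_fin' R N
    obtain ⟨c, hc⟩ := ih (LinearMap.ker f)
    refine ⟨c, fun a b hab h => ?_⟩
    have : Module.Flat R (sesKer f).X₂ := (inferInstance : Module.Flat R (Fin n → R))
    exact tor_succ_map_eq_zero_of_flat (sesKer f) (sesKer_shortExact f hf) _ i (hc a b hab h)

theorem qmap_comp {a b c : ℕ} (h₁ : I ^ a ≤ I ^ b) (h₂ : I ^ b ≤ I ^ c) :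
    qmap I h₁ ≫ qmap I h₂ = qmap I (h₁.trans h₂) := by
  apply ModuleCat.hom_ext
  simp only [ModuleCat.hom_comp, ModuleCat.hom_ofHom]
  exact Submodule.factor_comp h₁ h₂

open Groth.Agent.Helper13Ses in
/-- base case: for modules killed by `I^m` the transition maps on `Tor_1` vanish with shift `m`. -/
theorem torVanish_one_of_killed (m : ℕ) (M : ModuleCat.{u} R)
    (hM : ∀ a ∈ I ^ m, ∀ x : M, a • x = 0) : TorVanish I M 1 m := by
  intro a b hab h
  obtain ⟨f, hf⟩ : ∃ f : (M →₀ R) →ₗ[R] M, Function.Surjective f :=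
    ⟨Finsupp.linearCombination R id, Finsupp.linearCombination_id_surjective R M⟩
  have : Module.Flat R (sesKer f).X₂ := (inferInstance : Module.Flat R (M →₀ R))
  refine tor_one_qmap_eq_zero I (sesKer f) (sesKer_shortExact f hf) h ?_
  intro k₀ hk
  obtain ⟨k, rfl⟩ : ∃ k : LinearMap.ker f, k = k₀ := ⟨k₀, rfl⟩
  have hk' : (k : M →₀ R) ∈ (I ^ a • ⊤ : Submodule R (M →₀ R)) := hk
  have h1 : (I ^ m • ⊤ : Submodule R (M →₀ R)) ≤ LinearMap.ker f := by
    rw [Submodule.smul_le]
    intro r hr x _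
    rw [LinearMap.mem_ker, map_smul]
    exact hM r hr (f x)
  have h2 : (I ^ a • ⊤ : Submodule R (M →₀ R)) ≤ I ^ b • LinearMap.ker f := by
    have h3 : I ^ a ≤ I ^ b * I ^ m := by
      rw [← pow_add]
      exact Ideal.pow_le_pow_right hab
    calc (I ^ a • ⊤ : Submodule R (M →₀ R)) ≤ (I ^ b * I ^ m) • ⊤ :=
          Submodule.smul_mono_left h3
      _ = I ^ b • (I ^ m • ⊤ : Submodule R (M →₀ R)) := Submodule.mul_smul _ _ _
      _ ≤ I ^ b • LinearMap.ker f := Submodule.smul_mono le_rfl h1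
  exact mem_smul_top_of_mem_smul (LinearMap.ker f) (I ^ b) k (h2 hk')

/-- For `i > 0` there is `c` such that for all modules `M` killed by `I^m` the transition maps
`Tor_i(M, R/I^a) ⟶ Tor_i(M, R/I^b)` vanish for `b + c ≤ a`. -/
theorem exists_torVanish_of_killed [IsNoetherianRing R] (m : ℕ) (i : ℕ) (hi : 0 < i) :
    ∃ c, ∀ (M : ModuleCat.{u} R), (∀ a ∈ I ^ m, ∀ x : M, a • x = 0) → TorVanish I M i c := by
  induction i, hi using Nat.le_induction with
  | base => exact ⟨m, fun M hM => torVanish_one_of_killed I m M hM⟩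
  | succ i hi ih =>
    obtain ⟨c₁, hc₁⟩ := ih
    obtain ⟨c₂, hc₂⟩ := exists_torVanish_of_finite I (i + 1) (by omega) (R ⧸ I ^ m)
    refine ⟨c₁ + c₂, fun M hM a b hab h => ?_⟩
    obtain ⟨α, π, hπ, hK⟩ := exists_presentation_of_killed (I ^ m) M hM
    have hS : (ShortComplex.mk (kernel.ι π) π (kernel.condition π)).ShortExact :=
      { exact := ShortComplex.exact_kernel π }
    have h₁ : I ^ a ≤ I ^ (b + c₂) := Ideal.pow_le_pow_right (by omega)
    have h₂ : I ^ (b + c₂) ≤ I ^ b := Ideal.pow_le_pow_right (by omega)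
    have e₁ := hc₁ (kernel π) hK a (b + c₂) (by omega) h₁
    have e₂ : ((Tor (ModuleCat.{u} R) (i + 1)).obj
        (∐ fun _ : α => ModuleCat.of R (R ⧸ I ^ m))).map (qmap I h₂) = 0 :=
      tor_map_eq_zero_sigma _ _ _ (fun _ => hc₂ (b + c₂) b le_rfl h₂)
    have := tor_succ_map_comp_eq_zero _ hS (qmap I h₁) (qmap I h₂) i e₁ e₂
    rw [qmap_comp] at this
    exact this

end quot

end Groth.Agent.Helper13TorAR
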