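import Mathlib

/-!
# Helper13VNRDecomp: quasi-finite finitely presented algebras after base change to a product of
algebraically closed fields (used for S0170).

* `IsVNR`, `IsVNR.flat`, `IsVNR.finite_of_quasiFinite`
* `pi_tensor_bijective`
* `exists_finite_etale_quotient`
* `ring_main`, `spec_case`, `affine_case`
-/

set_option autoImplicit false
universe u

namespace Groth.Agent.Helper13VNR
open TensorProduct Polynomial CategoryTheory CategoryTheory.Limits AlgebraicGeometry

-- ===== part 1 =====

/-- von Neumann regular commutative ring. -/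
def IsVNR (K : Type*) [CommRing K] : Prop := ∀ a : K, ∃ b : K, a = a * a * b

variable {K : Type*} [CommRing K]

theorem IsVNR.exists_idem (h : IsVNR K) (a : K) :
    ∃ e : K, IsIdempotentElem e ∧ Ideal.span {a} = Ideal.span {e} := by
  obtain ⟨b, hb⟩ := h a
  refine ⟨a * b, ?_, ?_⟩
  · change a * b * (a * b) = a * b
    calc a * b * (a * b) = (a * a * b) * b := by ring
      _ = a * b := by rw [← hb]
  · apply le_antisymm
    · rw [Ideal.span_singleton_le_iff_mem, Ideal.mem_span_singleton']
      exact ⟨a, by rw [hb]; ring_nf; rw [mul_comm] at hb; nth_rewrite 2 [hb]; ring⟩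
    · rw [Ideal.span_singleton_le_iff_mem, Ideal.mem_span_singleton']
      exact ⟨b, by ring⟩

theorem IsVNR.fg_ideal (h : IsVNR K) (I : Ideal K) (hI : I.FG) :
    ∃ e : K, IsIdempotentElem e ∧ I = Ideal.span {e} := by
  induction I, hI using Submodule.fg_induction with
  | singleton a =>
    obtain ⟨e, he, h1⟩ := h.exists_idem a
    exact ⟨e, he, h1⟩
  | sup I J hI hJ ihI ihJ =>
    obtain ⟨e, he, rfl⟩ := ihI
    obtain ⟨f, hf, rfl⟩ := ihJ
    refine ⟨e + f - e * f, ?_, ?_⟩
    · have he' : e * e = e := he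
      have hf' : f * f = f := hf
      change (e + f - e * f) * (e + f - e * f) = e + f - e * f
      have : (e + f - e * f) * (e + f - e * f) =
        e * e + f * f + 2 * (e * f) - 2 * (e * e) * f - 2 * e * (f * f) + (e * e) * (f * f) := by ring
      rw [this, he', hf']; ring
    · apply le_antisymm
      · rw [sup_le_iff, Ideal.span_singleton_le_iff_mem, Ideal.span_singleton_le_iff_mem,
          Ideal.mem_span_singleton', Ideal.mem_span_singleton']
        have he' : e * e = e := he
        have hf' : f * f = f := hf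
        refine ⟨⟨e, ?_⟩, ⟨f, ?_⟩⟩
        · calc e * (e + f - e * f) = e * e + e * f - (e * e) * f := by ring
            _ = e := by rw [he']; ring
        · calc f * (e + f - e * f) = f * f + e * f - e * (f * f) := by ring
            _ = f := by rw [hf']; ring
      · rw [Ideal.span_singleton_le_iff_mem]
        have h1 : e ∈ Ideal.span {e} ⊔ Ideal.span {f} :=
          Ideal.mem_sup_left (Ideal.mem_span_singleton_self e)
        have h2 : f ∈ Ideal.span {e} ⊔ Ideal.span {f} :=
          Ideal.mem_sup_right (Ideal.mem_span_singleton_self f)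
        exact sub_mem (add_mem h1 h2) (Ideal.mul_mem_right _ _ h1)

-- ===== part 2 =====

variable {K : Type*} [CommRing K]

theorem IsVNR.flat (h : IsVNR K) (M : Type*) [AddCommGroup M] [Module K M] : Module.Flat K M := by
  rw [Module.Flat.iff_rTensor_injective]
  intro I hI
  obtain ⟨e, he, rfl⟩ := h.fg_ideal I hI
  -- retraction K → span {e}
  let r : K →ₗ[K] (Ideal.span {e} : Ideal K) :=
    LinearMap.codRestrict (Ideal.span {e} : Ideal K) (LinearMap.mulLeft K e)
      (fun a => Ideal.mem_span_singleton'.mpr ⟨a, by simp [mul_comm]⟩)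
  have hr : r ∘ₗ (Ideal.span {e} : Ideal K).subtype = LinearMap.id := by
    ext ⟨x, hx⟩
    obtain ⟨a, rfl⟩ := Ideal.mem_span_singleton'.mp hx
    have he' : e * e = e := he
    simp only [LinearMap.coe_comp, Submodule.coe_subtype, Function.comp_apply, LinearMap.id_coe,
      id_eq, r, LinearMap.codRestrict_apply, LinearMap.mulLeft_apply]
    calc e * (a * e) = a * (e * e) := by ring
      _ = a * e := by rw [he']
  have : (LinearMap.rTensor M r) ∘ₗ (LinearMap.rTensor M (Ideal.span {e} : Ideal K).subtype) =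
      LinearMap.id := by
    rw [← LinearMap.rTensor_comp, hr, LinearMap.rTensor_id]
  intro x y hxy
  have := congrArg (LinearMap.rTensor M r) hxy
  rwa [← LinearMap.comp_apply, ← LinearMap.comp_apply, ‹(LinearMap.rTensor M r) ∘ₗ _ = _›] at this

/-- elements of `s • ⊤` are fixed by an idempotent of `s`. -/
theorem IsVNR.exists_idem_smul_eq (h : IsVNR K) (s : Ideal K) {C : Type*} [AddCommGroup C]
    [Module K C] (y : C) (hy : y ∈ s • (⊤ : Submodule K C)) :
    ∃ e ∈ s, IsIdempotentElem e ∧ e • y = y := by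
  refine Submodule.smul_induction_on hy ?_ ?_
  · intro g hg c _
    obtain ⟨e, he, h1⟩ := h.exists_idem g
    have hes : e ∈ s := by
      have : e ∈ Ideal.span {g} := h1 ▸ Ideal.mem_span_singleton_self e
      exact (Ideal.span_singleton_le_iff_mem (I := s)).mpr hg this
    have hge : g ∈ Ideal.span {e} := h1 ▸ Ideal.mem_span_singleton_self g
    obtain ⟨a, ha⟩ := Ideal.mem_span_singleton'.mp hge
    refine ⟨e, hes, he, ?_⟩
    have he' : e * e = e := he
    rw [smul_smul, ← ha]
    congr 1
    calc e * (a * e) = a * (e * e) := by ring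
      _ = a * e := by rw [he']
  · intro x y ihx ihy
    obtain ⟨e, hes, he, hex⟩ := ihx
    obtain ⟨f, hfs, hf, hfy⟩ := ihy
    have he' : e * e = e := he
    have hf' : f * f = f := hf
    refine ⟨e + f - e * f, sub_mem (add_mem hes hfs) (Ideal.mul_mem_right _ _ hes), ?_, ?_⟩
    · change (e + f - e * f) * (e + f - e * f) = e + f - e * f
      have : (e + f - e * f) * (e + f - e * f) =
        e * e + f * f + 2 * (e * f) - 2 * (e * e) * f - 2 * e * (f * f) + (e * e) * (f * f) := by ring
      rw [this, he', hf']; ring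
    · have h1 : (e + f - e * f) • x = x := by
        have : (e + f - e * f) • x = (e + f - e * f) • (e • x) := by rw [hex]
        rw [this, smul_smul]
        have : (e + f - e * f) * e = e := by
          calc (e + f - e * f) * e = e * e + f * e - (e * e) * f := by ring
            _ = e := by rw [he']; ring
        rw [this, hex]
      have h2 : (e + f - e * f) • y = y := by
        have : (e + f - e * f) • y = (e + f - e * f) • (f • y) := by rw [hfy]
        rw [this, smul_smul]
        have : (e + f - e * f) * f = f := by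
          calc (e + f - e * f) * f = e * f + f * f - e * (f * f) := by ring
            _ = f := by rw [hf']; ring
        rw [this, hfy]
      rw [smul_add, h1, h2]

-- ===== part 3 =====

variable {K : Type*} [CommRing K]

/-- if `1 ⊗ y = 0` in the fibre over a maximal ideal `s`, then `y ∈ s • ⊤`. -/
theorem mem_smul_top_of_tmul_eq_zero (s : Ideal K) [s.IsMaximal] {C : Type*} [AddCommGroup C]
    [Module K C] (y : C) (hy : (1 : s.ResidueField) ⊗ₜ[K] y = 0) :
    y ∈ s • (⊤ : Submodule K C) := by
  let e0 : (K ⧸ s) ≃ₗ[K] s.ResidueField :=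
    LinearEquiv.ofBijective ((Algebra.linearMap (K ⧸ s) s.ResidueField).restrictScalars K)
      s.bijective_algebraMap_quotient_residueField
  let e1 : (K ⧸ s) ⊗[K] C ≃ₗ[K] s.ResidueField ⊗[K] C :=
    TensorProduct.congr e0 (LinearEquiv.refl K C)
  have h1 : e1 ((1 : K ⧸ s) ⊗ₜ[K] y) = (1 : s.ResidueField) ⊗ₜ[K] y := by
    simp [e1, e0]
  have h2 : ((1 : K ⧸ s) ⊗ₜ[K] y) = 0 := by
    apply e1.injective
    rw [h1, hy, map_zero]
  have h3 := congrArg (TensorProduct.quotTensorEquivQuotSMul C s) h2
  rw [TensorProduct.quotTensorEquivQuotSMul_mk_one_tmul, map_zero,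
    Submodule.Quotient.mk_eq_zero] at h3
  exact h3

theorem IsVNR.isIntegral_of_quasiFinite (h : IsVNR K) (C : Type*) [CommRing C] [Algebra K C]
    [Algebra.QuasiFinite K C] (t : C) : IsIntegral K t := by
  classical
  let I : Ideal K :=
    { carrier := {g | IsIntegral K (g • t)}
      zero_mem' := by simp [isIntegral_zero]
      add_mem' := by
        intro a b ha hb
        simp only [Set.mem_setOf_eq] at ha hb ⊢
        rw [add_smul]
        exact ha.add hb
      smul_mem' := by
        intro a b hb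
        simp only [Set.mem_setOf_eq] at hb ⊢
        rw [smul_eq_mul, mul_smul]
        exact hb.smul a }
  by_cases hI : I = ⊤
  · have : (1 : K) ∈ I := hI ▸ Submodule.mem_top
    simpa [I] using this
  exfalso
  obtain ⟨s, hs, hIs⟩ := Ideal.exists_le_maximal I hI
  have : Module.Finite K (s.Fiber C) := Module.Finite.trans s.ResidueField (s.Fiber C)
  have hint : IsIntegral K ((1 : s.ResidueField) ⊗ₜ[K] t : s.Fiber C) :=
    Algebra.IsIntegral.isIntegral _
  obtain ⟨P, hP, hPt⟩ := hint
  have h1 : (1 : s.ResidueField) ⊗ₜ[K] (aeval t P) = 0 := by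
    have := Polynomial.aeval_algHom_apply
      (Algebra.TensorProduct.includeRight : C →ₐ[K] s.ResidueField ⊗[K] C) t P
    simp only [Algebra.TensorProduct.includeRight_apply] at this
    rw [← this]
    exact hPt
  have h2 := mem_smul_top_of_tmul_eq_zero s _ h1
  obtain ⟨e', he's, he', he'y⟩ := h.exists_idem_smul_eq s _ h2
  -- e = 1 - e'
  have hes : (1 - e') ∉ s := by
    intro hmem
    have : (1 : K) ∈ s := by
      have := add_mem hmem he's
      simpa using this
    exact hs.ne_top ((Ideal.eq_top_iff_one s).mpr this)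
  apply hes
  apply hIs
  change IsIntegral K ((1 - e') • t)
  have hzero : (1 - e') • (aeval t P) = 0 := by
    rw [sub_smul, one_smul, he'y, sub_self]
  refine ⟨scaleRoots (P * X) (1 - e'), (monic_scaleRoots_iff _).mpr (hP.mul monic_X), ?_⟩
  have := scaleRoots_eval₂_mul (p := P * X) (algebraMap K C) t (1 - e')
  rw [Algebra.smul_def, this, eval₂_mul, eval₂_X]
  have hd : (P * X).natDegree = P.natDegree + 1 := by
    have : Nontrivial K := ⟨⟨0, 1, fun h01 => hs.ne_top
      ((Ideal.eq_top_iff_one s).mpr (h01 ▸ s.zero_mem))⟩⟩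
    rw [hP.natDegree_mul monic_X, natDegree_X]
  rw [hd, pow_succ]
  have h3 : algebraMap K C (1 - e') * eval₂ (algebraMap K C) t P = 0 := by
    rw [← Algebra.smul_def, ← aeval_def]; exact hzero
  calc algebraMap K C (1 - e') ^ P.natDegree * algebraMap K C (1 - e') *
        (eval₂ (algebraMap K C) t P * t)
      = algebraMap K C (1 - e') ^ P.natDegree *
        ((algebraMap K C (1 - e') * eval₂ (algebraMap K C) t P) * t) := by ring
    _ = 0 := by rw [h3]; ring

theorem IsVNR.finite_of_quasiFinite (h : IsVNR K) (C : Type*) [CommRing C] [Algebra K C]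
    [Algebra.FiniteType K C] [Algebra.QuasiFinite K C] : Module.Finite K C := by
  have : Algebra.IsIntegral K C := ⟨fun t => h.isIntegral_of_quasiFinite C t⟩
  exact Algebra.IsIntegral.finite

-- ===== part 4 =====

section Pi

variable {ι : Type*} (k : ι → Type*) [∀ x, Field (k x)]

theorem isVNR_pi : IsVNR (∀ x, k x) := by
  intro a
  refine ⟨fun x => (a x)⁻¹, ?_⟩
  funext x
  by_cases h : a x = 0
  · simp [h]
  · simp only [Pi.mul_apply]
    field_simp

/-- the evaluation algebra structure. -/
@[reducible] def evalAlgebra (x : ι) : Algebra (∀ x, k x) (k x) := (Pi.evalRingHom k x).toAlgebra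

attribute [local instance] evalAlgebra

theorem evalAlgebra_algebraMap (x : ι) (a : ∀ x, k x) : algebraMap (∀ x, k x) (k x) a = a x := rfl

theorem evalAlgebra_smul (x : ι) (a : ∀ x, k x) (l : k x) : a • l = a x * l := rfl

variable (M : Type*) [AddCommGroup M] [Module (∀ x, k x) M]

theorem pi_tensor_bijective [Module.Finite (∀ x, k x) M] [Module.Projective (∀ x, k x) M] :
    Function.Bijective (fun m : M => fun x => ((1 : k x) ⊗ₜ[∀ x, k x] m : k x ⊗[∀ x, k x] M)) := by
  obtain ⟨n, f, g, -, -, hfg⟩ := Module.Finite.exists_comp_eq_id_of_projective (∀ x, k x) M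
  let θ : ∀ (x : ι) (i : Fin n), k x ⊗[∀ x, k x] M →ₗ[∀ x, k x] k x := fun x i =>
    (TensorProduct.rid (∀ x, k x) (k x)).toLinearMap ∘ₗ
      (LinearMap.lTensor (k x) ((LinearMap.proj i) ∘ₗ g))
  have hθ : ∀ x i (l : k x) (m : M), θ x i (l ⊗ₜ m) = (g m i) x * l := by
    intro x i l m
    simp [θ, evalAlgebra_smul]
  have hfg' : ∀ m, f (g m) = m := fun m => LinearMap.congr_fun hfg m
  constructor
  · intro m m' hmm'
    have h1 : ∀ x i, (g m i) x = (g m' i) x := by
      intro x i
      have := congrArg (θ x i) (congrFun hmm' x)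
      simpa [hθ] using this
    have h2 : g m = g m' := by
      funext i x
      exact h1 x i
    rw [← hfg' m, ← hfg' m', h2]
  · intro y
    let w : Fin n → ∀ x, k x := fun i x => θ x i (y x)
    refine ⟨f w, ?_⟩
    funext x
    -- key identity
    have key : ∀ z : k x ⊗[∀ x, k x] M,
        ∑ i, (θ x i z) ⊗ₜ[∀ x, k x] f (Pi.single i 1) = z := by
      intro z
      induction z using TensorProduct.induction_on with
      | zero => simp
      | add a b ha hb => simp only [map_add, TensorProduct.add_tmul, Finset.sum_add_distrib, ha, hb]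
      | tmul l m =>
        simp only [hθ]
        have h3 : ∀ i, ((g m i) x * l) ⊗ₜ[∀ x, k x] f (Pi.single i 1) =
            l ⊗ₜ[∀ x, k x] ((g m i) • f (Pi.single i 1)) := by
          intro i
          rw [TensorProduct.tmul_smul, TensorProduct.smul_tmul', evalAlgebra_smul]
        simp only [h3]
        rw [← TensorProduct.tmul_sum]
        congr 1
        conv_rhs => rw [← hfg' m]
        have h5 : g m = ∑ i, (g m i) • (Pi.single i (1 : ∀ x, k x)) := by
          funext j; simp [Finset.sum_apply, Pi.single_apply]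
        conv_rhs => rw [h5]
        simp only [map_sum, map_smul]
    have h4 : f w = ∑ i, (w i) • f (Pi.single i 1) := by
      conv_lhs => rw [show w = ∑ i, (w i) • (Pi.single i (1 : ∀ x, k x)) from by
        funext j; simp [Finset.sum_apply, Pi.single_apply]]
      simp only [map_sum, map_smul]
    change (1 : k x) ⊗ₜ[∀ x, k x] f w = y x
    rw [h4, TensorProduct.tmul_sum]
    conv_rhs => rw [← key (y x)]
    refine Finset.sum_congr rfl fun i _ => ?_
    rw [TensorProduct.tmul_smul, TensorProduct.smul_tmul', evalAlgebra_smul, mul_one]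

end Pi

-- ===== part 5 =====

section Fld

variable (k : Type*) [Field k] [IsAlgClosed k] (V : Type*) [CommRing V] [Algebra k V]
  [Module.Finite k V]

/-- every maximal ideal is the kernel of a point. -/
theorem exists_algHom_ker_eq (m : Ideal V) [m.IsMaximal] :
    ∃ h : V →ₐ[k] k, RingHom.ker (h : V →+* k) = m := by
  letI : Field (V ⧸ m) := Ideal.Quotient.field m
  have : Algebra.IsIntegral k (V ⧸ m) := Algebra.IsIntegral.of_finite k (V ⧸ m)
  have hb : Function.Bijective (algebraMap k (V ⧸ m)) :=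
    IsAlgClosed.algebraMap_bijective_of_isIntegral
  let e : k ≃ₐ[k] (V ⧸ m) := AlgEquiv.ofBijective (Algebra.ofId k _) hb
  refine ⟨(e.symm : (V ⧸ m) →ₐ[k] k).comp (Ideal.Quotient.mkₐ k m), ?_⟩
  ext v
  simp only [RingHom.mem_ker]
  constructor
  · intro hv
    have : e.symm (Ideal.Quotient.mk m v) = 0 := hv
    have h2 : Ideal.Quotient.mk m v = 0 := by
      have := congrArg e this
      simpa using this
    exact Ideal.Quotient.eq_zero_iff_mem.mp h2
  · intro hv
    change e.symm (Ideal.Quotient.mk m v) = 0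
    rw [Ideal.Quotient.eq_zero_iff_mem.mpr hv, map_zero]

theorem pow_finrank_eq_zero_of_isNilpotent (v : V) (hv : IsNilpotent v) :
    v ^ Module.finrank k V = 0 := by
  obtain ⟨m, hm⟩ := hv
  have hint : IsIntegral k v := Algebra.IsIntegral.isIntegral v
  have h1 : minpoly k v ∣ (X : k[X]) ^ m := minpoly.dvd k v (by simp [hm])
  obtain ⟨i, _, hi⟩ := (dvd_prime_pow prime_X m).mp h1
  have h2 : minpoly k v = X ^ i :=
    eq_of_monic_of_associated (minpoly.monic hint) (monic_X_pow i) hi
  have h3 : v ^ i = 0 := by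
    have := minpoly.aeval k v
    rw [h2] at this
    simpa using this
  have h4 : i ≤ Module.finrank k V := by
    have := minpoly.natDegree_le (A := k) v
    rw [h2, natDegree_X_pow] at this
    exact this
  obtain ⟨j, hj⟩ := Nat.exists_eq_add_of_le h4
  rw [hj, pow_add, h3, zero_mul]

theorem pow_finrank_eq_zero_of_forall_algHom (v : V) (hv : ∀ h : V →ₐ[k] k, h v = 0) :
    v ^ Module.finrank k V = 0 := by
  apply pow_finrank_eq_zero_of_isNilpotent
  have : IsArtinianRing V := IsArtinianRing.of_finite k V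
  have hJ : v ∈ Ideal.jacobson (⊥ : Ideal V) := by
    rw [Ideal.jacobson, Ideal.mem_sInf]
    rintro m ⟨-, hm⟩
    obtain ⟨h, hh⟩ := exists_algHom_ker_eq k V m
    rw [← hh]
    exact hv h
  obtain ⟨n, hn⟩ := IsArtinianRing.isNilpotent_jacobson_bot (R := V)
  refine ⟨n, ?_⟩
  have : v ^ n ∈ (Ideal.jacobson (⊥ : Ideal V)) ^ n := Ideal.pow_mem_pow hJ n
  rw [hn] at this
  simpa using this

theorem exists_forall_algHom_eq (l : (V →ₐ[k] k) → k) : ∃ v : V, ∀ h : V →ₐ[k] k, h v = l h := by
  have hcop : Pairwise (Function.onFun IsCoprime fun h : V →ₐ[k] k => RingHom.ker (h : V →+* k)) := by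
    intro h h' hne
    have hs : ∀ h : V →ₐ[k] k, Function.Surjective (h : V →+* k) := fun h a =>
      ⟨algebraMap k V a, by simp⟩
    have hm : (RingHom.ker (h : V →+* k)).IsMaximal := RingHom.ker_isMaximal_of_surjective _ (hs h)
    have hm' : (RingHom.ker (h' : V →+* k)).IsMaximal :=
      RingHom.ker_isMaximal_of_surjective _ (hs h')
    change IsCoprime (RingHom.ker (h : V →+* k)) (RingHom.ker (h' : V →+* k))
    rw [Ideal.isCoprime_iff_sup_eq]
    by_contra hne'
    apply hne
    have heq : RingHom.ker (h : V →+* k) = RingHom.ker (h' : V →+* k) := by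
      by_contra hne''
      exact hne' (hm.coprime_of_ne hm' hne'')
    ext v
    have : v - algebraMap k V (h v) ∈ RingHom.ker (h : V →+* k) := by
      simp [RingHom.mem_ker]
    rw [heq] at this
    have h5 : h' v - h v = 0 := by simpa [RingHom.mem_ker] using this
    exact (sub_eq_zero.mp h5).symm
  obtain ⟨v, hv⟩ := Ideal.exists_forall_sub_mem_ideal hcop (fun h => algebraMap k V (l h))
  refine ⟨v, fun h => ?_⟩
  have := hv h
  simpa [RingHom.mem_ker, sub_eq_zero] using this

end Fld

-- ===== part 6 =====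

section Main

variable {ι : Type u} (k : ι → Type u) [∀ x, Field (k x)]

attribute [local instance] evalAlgebra

/-- restriction to a subset is finite étale. -/
theorem etale_restrict (S : Set ι) : Algebra.Etale (∀ x, k x) ((x : S) → k x.1) := by
  classical
  let e : ∀ x, k x := fun x => if x ∈ S then 1 else 0
  have he : IsIdempotentElem e := by
    funext x
    by_cases hx : x ∈ S <;> simp [e, hx]
  have : IsLocalization.Away e ((x : S) → k x.1) := by
    apply IsLocalization.away_of_isIdempotentElem_of_mul he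
    · intro a b
      constructor
      · intro hab
        funext x
        by_cases hx : x ∈ S
        · have := congrFun hab ⟨x, hx⟩
          change a x = b x at this
          simp only [Pi.mul_apply, e, hx, if_true, one_mul]
          exact this
        · simp [e, hx]
      · intro hab
        funext x
        change a x.1 = b x.1
        have := congrFun hab x.1
        simpa [e, x.2] using this
    · intro b
      refine ⟨fun x => if hx : x ∈ S then b ⟨x, hx⟩ else 0, ?_⟩
      funext x
      change (if hx : x.1 ∈ S then b ⟨x.1, hx⟩ else 0) = b x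
      simp [x.2]
  exact Algebra.Etale.of_isLocalizationAway e

theorem finite_restrict (S : Set ι) : Module.Finite (∀ x, k x) ((x : S) → k x.1) := by
  classical
  apply Module.Finite.of_surjective (Algebra.linearMap (∀ x, k x) ((x : S) → k x.1))
  intro b
  refine ⟨fun x => if hx : x ∈ S then b ⟨x, hx⟩ else 0, ?_⟩
  funext x
  change (if hx : x.1 ∈ S then b ⟨x.1, hx⟩ else 0) = b x
  simp [x.2]

end Main

-- ===== part 7 =====

section Main

variable {ι : Type u} (k : ι → Type u) [∀ x, Field (k x)] [∀ x, IsAlgClosed (k x)]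

attribute [local instance] evalAlgebra

theorem finrank_tensor_le (C : Type u) [CommRing C] [Algebra (∀ x, k x) C] (S : Finset C)
    (hS : Submodule.span (∀ x, k x) (S : Set C) = ⊤) (x : ι) :
    Module.finrank (k x) (k x ⊗[∀ x, k x] C) ≤ S.card := by
  classical
  have h1 : Submodule.span (k x) (TensorProduct.mk (∀ x, k x) (k x) C 1 '' (S : Set C)) = ⊤ := by
    rw [← Submodule.baseChange_span, hS, Submodule.baseChange_top]
  have h2 := finrank_span_finset_le_card (R := k x) (S.image (TensorProduct.mk (∀ x, k x) (k x) C 1))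
  rw [Set.finrank, Finset.coe_image, h1, finrank_top] at h2
  exact h2.trans Finset.card_image_le

theorem exists_finite_etale_quotient
    (C : Type u) [CommRing C] [Algebra (∀ x, k x) C] [Module.Finite (∀ x, k x) C]
    [Algebra.FinitePresentation (∀ x, k x) C] :
    ∃ (E : Type u) (_ : CommRing E) (_ : Algebra (∀ x, k x) E) (Ψ : C →ₐ[∀ x, k x] E),
      Function.Surjective Ψ ∧ (∀ c, Ψ c = 0 → IsNilpotent c) ∧
      Module.Finite (∀ x, k x) E ∧ Algebra.Etale (∀ x, k x) E := by
  classical
  have hvnr := isVNR_pi k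
  have : Module.FinitePresentation (∀ x, k x) C :=
    Module.FinitePresentation.of_finite_of_finitePresentation _ _
  have : Module.Flat (∀ x, k x) C := hvnr.flat C
  have : Module.Projective (∀ x, k x) C := Module.Flat.projective_of_finitePresentation
  have hΦ := pi_tensor_bijective k C
  obtain ⟨S, hS⟩ := (Module.Finite.fg_top : (⊤ : Submodule (∀ x, k x) C).FG)
  have hN : ∀ x, Module.finrank (k x) (k x ⊗[∀ x, k x] C) ≤ S.card :=
    fun x => finrank_tensor_le k C S hS x
  have hn : ∀ x, Nat.card ((k x ⊗[∀ x, k x] C) →ₐ[k x] k x) ≤ S.card :=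
    fun x => (card_algHom_le_finrank (k x) (k x ⊗[∀ x, k x] C) (k x)).trans (hN x)
  let n : ι → ℕ := fun x => Nat.card ((k x ⊗[∀ x, k x] C) →ₐ[k x] k x)
  let en : ∀ x, ((k x ⊗[∀ x, k x] C) →ₐ[k x] k x) ≃ Fin (n x) := fun x => Finite.equivFin _
  let p : ∀ (x : ι) (h : (k x ⊗[∀ x, k x] C) →ₐ[k x] k x), C →ₐ[∀ x, k x] k x :=
    fun x h => (h.restrictScalars (∀ x, k x)).comp Algebra.TensorProduct.includeRight
  have hp : ∀ x h c, p x h c = h ((1 : k x) ⊗ₜ[∀ x, k x] c) := fun x h c => rfl
  let E : Type u := (j : Fin S.card) → (x : {x : ι // j.1 < n x}) → k x.1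
  let Ψ : C →ₐ[∀ x, k x] E :=
    AlgHom.pi (fun j => AlgHom.pi
      (fun x : {x : ι // j.1 < n x} => p x.1 ((en x.1).symm ⟨j.1, x.2⟩)))
  have hΨ : ∀ c j x, Ψ c j x = ((en x.1).symm ⟨j.1, x.2⟩) ((1 : k x.1) ⊗ₜ[∀ x, k x] c) :=
    fun c j x => rfl
  refine ⟨E, inferInstance, inferInstance, Ψ, ?_, ?_, ?_, ?_⟩
  · -- surjective
    intro T
    have hv : ∀ x, ∃ v : k x ⊗[∀ x, k x] C, ∀ h : (k x ⊗[∀ x, k x] C) →ₐ[k x] k x,
        h v = T ⟨(en x h).1, lt_of_lt_of_le (en x h).2 (hn x)⟩ ⟨x, (en x h).2⟩ :=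
      fun x => exists_forall_algHom_eq (k x) (k x ⊗[∀ x, k x] C) _
    choose v hv using hv
    obtain ⟨c, hc⟩ := hΦ.2 v
    refine ⟨c, ?_⟩
    funext j x
    rw [hΨ]
    have hc' : (1 : k x.1) ⊗ₜ[∀ x, k x] c = v x.1 := congrFun hc x.1
    rw [hc', hv]
    have h1 : en x.1 ((en x.1).symm ⟨j.1, x.2⟩) = ⟨j.1, x.2⟩ := (en x.1).apply_symm_apply _
    have h2 : (⟨(en x.1 ((en x.1).symm ⟨j.1, x.2⟩)).1,
        lt_of_lt_of_le (en x.1 ((en x.1).symm ⟨j.1, x.2⟩)).2 (hn x.1)⟩ : Fin S.card) = j := by
      apply Fin.ext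
      simp only [h1]
    -- transport along h2
    have key : ∀ (j' : Fin S.card) (hj' : j' = j) (hx : j'.1 < n x.1),
        T j' ⟨x.1, hx⟩ = T j x := by
      intro j' hj' hx
      subst hj'
      rfl
    exact key _ h2 _
  · -- nil kernel
    intro c hc
    refine ⟨S.card, ?_⟩
    apply hΦ.1
    funext x
    change (1 : k x) ⊗ₜ[∀ x, k x] (c ^ S.card) = (1 : k x) ⊗ₜ[∀ x, k x] (0 : C)
    rw [TensorProduct.tmul_zero]
    have h1 : ∀ h : (k x ⊗[∀ x, k x] C) →ₐ[k x] k x, h ((1 : k x) ⊗ₜ[∀ x, k x] c) = 0 := by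
      intro h
      have := congrFun (congrFun hc ⟨(en x h).1, lt_of_lt_of_le (en x h).2 (hn x)⟩)
        ⟨x, (en x h).2⟩
      rw [hΨ] at this
      simp only [Fin.eta, Equiv.symm_apply_apply] at this
      exact this
    have h2 := pow_finrank_eq_zero_of_forall_algHom (k x) (k x ⊗[∀ x, k x] C) _ h1
    obtain ⟨d, hd⟩ := Nat.exists_eq_add_of_le (hN x)
    have h3 : ((1 : k x) ⊗ₜ[∀ x, k x] c) ^ S.card = 0 := by
      rw [hd, pow_add, h2, zero_mul]
    rw [Algebra.TensorProduct.tmul_pow, one_pow] at h3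
    exact h3
  · have : ∀ j : Fin S.card, Module.Finite (∀ x, k x) ((x : {x : ι // j.1 < n x}) → k x.1) :=
      fun j => finite_restrict k {x | j.1 < n x}
    exact Module.Finite.pi
  · have : ∀ j : Fin S.card, Algebra.Etale (∀ x, k x) ((x : {x : ι // j.1 < n x}) → k x.1) :=
      fun j => etale_restrict k {x | j.1 < n x}
    infer_instance

end Main

-- ===== part 8 =====

theorem ring_main (A B : Type u) [CommRing A] [CommRing B] [Algebra A B]
    [Algebra.QuasiFinite A B] [Algebra.FinitePresentation A B] :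
    ∃ (K : Type u) (_ : CommRing K) (_ : Algebra A K) (E : Type u) (_ : CommRing E)
      (_ : Algebra K E) (Ψ : K ⊗[A] B →ₐ[K] E),
      Function.Surjective (PrimeSpectrum.comap (algebraMap A K)) ∧
      Function.Surjective Ψ ∧ (∀ c, Ψ c = 0 → IsNilpotent c) ∧
      Module.Finite K E ∧ Algebra.Etale K E := by
  let kb : PrimeSpectrum A → Type u := fun x => AlgebraicClosure x.asIdeal.ResidueField
  have hvnr := isVNR_pi kb
  have : Module.Finite (∀ x, kb x) ((∀ x, kb x) ⊗[A] B) := hvnr.finite_of_quasiFinite _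
  obtain ⟨E, _, _, Ψ, h1, h2, h3, h4⟩ := exists_finite_etale_quotient kb ((∀ x, kb x) ⊗[A] B)
  refine ⟨∀ x, kb x, inferInstance, inferInstance, E, inferInstance, inferInstance, Ψ, ?_,
    h1, h2, h3, h4⟩
  intro x
  have hP : (RingHom.ker (Pi.evalRingHom kb x)).IsPrime := RingHom.ker_isPrime _
  refine ⟨⟨RingHom.ker (Pi.evalRingHom kb x), hP⟩, ?_⟩
  ext a
  simp only [PrimeSpectrum.comap_asIdeal, Ideal.mem_comap, RingHom.mem_ker, Pi.evalRingHom_apply]
  change algebraMap A (kb x) a = 0 ↔ _
  rw [IsScalarTower.algebraMap_apply A x.asIdeal.ResidueField (kb x),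
    map_eq_zero_iff _ (algebraMap x.asIdeal.ResidueField (kb x)).injective,
    ← RingHom.mem_ker, Ideal.ker_algebraMap_residueField]

-- ===== part 9 =====

theorem spec_case (A B : Type u) [CommRing A] [CommRing B] [Algebra A B]
    [Algebra.QuasiFinite A B] [Algebra.FinitePresentation A B] :
    ∃ (X' : Scheme.{u}) (_ : IsAffine X') (a : X' ⟶ Spec (CommRingCat.of A)) (_ : Surjective a)
      (Z' : Scheme.{u})
      (c : Z' ⟶ pullback a (Spec.map (CommRingCat.ofHom (algebraMap A B))))
      (_ : IsClosedImmersion c) (_ : Surjective c),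
      IsFinite (c ≫ pullback.fst a (Spec.map (CommRingCat.ofHom (algebraMap A B)))) ∧
      Etale (c ≫ pullback.fst a (Spec.map (CommRingCat.ofHom (algebraMap A B)))) := by
  obtain ⟨K, _, _, E, _, _, Ψ, hsurj, hΨs, hΨn, hfin, het⟩ := ring_main A B
  have h1 : Surjective (Spec.map (CommRingCat.ofHom (algebraMap A K))) := by
    refine ⟨fun x => ?_⟩
    obtain ⟨y, hy⟩ := hsurj x
    exact ⟨y, hy⟩
  have h2 : IsClosedImmersion (Spec.map (CommRingCat.ofHom Ψ.toRingHom)) :=
    IsClosedImmersion.spec_of_surjective _ hΨs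
  have h3 : Surjective (Spec.map (CommRingCat.ofHom Ψ.toRingHom)) := by
    refine ⟨fun x => ?_⟩
    have hx : x ∈ Set.range (PrimeSpectrum.comap Ψ.toRingHom) := by
      rw [range_comap_of_surjective _ _ hΨs]
      intro c hc
      obtain ⟨n, hn⟩ := hΨn c hc
      exact x.2.mem_of_pow_mem n (hn ▸ x.asIdeal.zero_mem)
    obtain ⟨y, hy⟩ := hx
    exact ⟨y, hy⟩
  have h4 : (Spec.map (CommRingCat.ofHom Ψ.toRingHom) ≫ (pullbackSpecIso A K B).inv) ≫
      pullback.fst (Spec.map (CommRingCat.ofHom (algebraMap A K)))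
        (Spec.map (CommRingCat.ofHom (algebraMap A B))) =
      Spec.map (CommRingCat.ofHom (algebraMap K E)) := by
    rw [Category.assoc, pullbackSpecIso_inv_fst, ← Spec.map_comp]
    congr 1
    ext a
    change Ψ (a ⊗ₜ 1) = algebraMap K E a
    rw [← Ψ.commutes]
    rfl
  refine ⟨Spec (CommRingCat.of K), inferInstance, Spec.map (CommRingCat.ofHom (algebraMap A K)),
    h1, Spec (CommRingCat.of E),
    Spec.map (CommRingCat.ofHom Ψ.toRingHom) ≫ (pullbackSpecIso A K B).inv,
    inferInstance, inferInstance, ?_, ?_⟩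
  · rw [h4, IsFinite.SpecMap_iff]
    exact RingHom.finite_algebraMap.mpr hfin
  · rw [h4, HasRingHomProperty.Spec_iff (P := @Etale)]
    exact RingHom.etale_algebraMap.mpr het

-- ===== part 10 =====

theorem affine_case {Y X : Scheme.{u}} [IsAffine X] [IsAffine Y] (f : Y ⟶ X)
    [LocallyQuasiFinite f] [LocallyOfFinitePresentation f] :
    ∃ (X' : Scheme.{u}) (_ : IsAffine X') (a : X' ⟶ X) (_ : Surjective a) (Z' : Scheme.{u})
      (c : Z' ⟶ pullback a f) (_ : IsClosedImmersion c) (_ : Surjective c),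
      IsFinite (c ≫ pullback.fst a f) ∧ Etale (c ≫ pullback.fst a f) := by
  have hqf : LocallyQuasiFinite (Spec.map f.appTop) :=
    (MorphismProperty.arrow_mk_iso_iff @LocallyQuasiFinite (arrowIsoSpecΓOfIsAffine f)).mp ‹_›
  have hfp : LocallyOfFinitePresentation (Spec.map f.appTop) :=
    (MorphismProperty.arrow_mk_iso_iff @LocallyOfFinitePresentation
      (arrowIsoSpecΓOfIsAffine f)).mp ‹_›
  algebraize [f.appTop.hom]
  have hqf' : Algebra.QuasiFinite Γ(X, ⊤) Γ(Y, ⊤) :=
    (HasRingHomProperty.Spec_iff (P := @LocallyQuasiFinite)).mp hqf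
  have hfp' : Algebra.FinitePresentation Γ(X, ⊤) Γ(Y, ⊤) :=
    (HasRingHomProperty.Spec_iff (P := @LocallyOfFinitePresentation)).mp hfp
  obtain ⟨X', hX', a₀, ha₀, Z', c₁, hc₁, hc₁', hfin₁, het₁⟩ := spec_case Γ(X, ⊤) Γ(Y, ⊤)
  obtain ⟨c₀, hc₀, hc₀', hfin, het⟩ : ∃ (c₀ : Z' ⟶ pullback a₀ (Spec.map f.appTop)),
      IsClosedImmersion c₀ ∧ Surjective c₀ ∧
      IsFinite (c₀ ≫ pullback.fst a₀ (Spec.map f.appTop)) ∧
      Etale (c₀ ≫ pullback.fst a₀ (Spec.map f.appTop)) := ⟨c₁, hc₁, hc₁', hfin₁, het₁⟩
  have hnat : f ≫ X.isoSpec.hom = Y.isoSpec.hom ≫ Spec.map f.appTop :=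
    (Scheme.isoSpec_hom_naturality f).symm
  obtain ⟨a, ha⟩ : ∃ a : X' ⟶ X, a = a₀ ≫ X.isoSpec.inv := ⟨_, rfl⟩
  obtain ⟨g, hgdef⟩ : ∃ g : pullback a f ⟶ pullback a₀ (Spec.map f.appTop), g =
    pullback.map a f a₀ (Spec.map f.appTop) (𝟙 X') Y.isoSpec.hom X.isoSpec.hom
      (by simp [ha]) hnat := ⟨_, rfl⟩
  have hg : IsIso g := by rw [hgdef]; infer_instance
  have hgfst : inv g ≫ pullback.fst a f = pullback.fst a₀ (Spec.map f.appTop) := by
    rw [IsIso.inv_comp_eq]
    have : g ≫ pullback.fst a₀ (Spec.map f.appTop) = pullback.fst a f ≫ 𝟙 X' := by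
      rw [hgdef]; exact pullback.lift_fst _ _ _
    rw [this, Category.comp_id]
  have hcomp : (c₀ ≫ inv g) ≫ pullback.fst a f = c₀ ≫ pullback.fst a₀ (Spec.map f.appTop) := by
    rw [Category.assoc, hgfst]
  have hasurj : Surjective a := by rw [ha]; infer_instance
  refine ⟨X', hX', a, hasurj, Z', c₀ ≫ inv g, inferInstance, inferInstance, ?_, ?_⟩
  · rw [hcomp]; exact hfin
  · rw [hcomp]; exact het


end Groth.Agent.Helper13VNR
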