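import Mathlib

/-!
# Coset prime avoidance (lead)

Given finitely many primes `p ∈ T`, an ideal `J` contained in none of them and an element `x₀`,
some element of the coset `x₀ + J` avoids all the primes.
-/

set_option autoImplicit false
universe u

namespace Groth.Agent.Lib.LeadCA

variable {R : Type u} [CommRing R]

theorem exists_add_notMem (T : Finset (Ideal R)) (hTp : ∀ p ∈ T, p.IsPrime) (J : Ideal R)
    (hJ : ∀ p ∈ T, ¬ J ≤ p) (x₀ : R) : ∃ z ∈ J, ∀ p ∈ T, x₀ + z ∉ p := by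
  classical
  -- maximal elements
  let A : Finset (Ideal R) := T.filter fun p => Maximal (· ∈ T) p ∧ x₀ ∈ p
  let B : Finset (Ideal R) := T.filter fun p => Maximal (· ∈ T) p ∧ x₀ ∉ p
  let K : Ideal R := J * ∏ q ∈ B, q
  have hKJ : K ≤ J := Ideal.mul_le_left
  have hKB : ∀ q ∈ B, K ≤ q := by
    intro q hq
    refine Ideal.mul_le_right.trans ?_
    exact (Ideal.prod_le_inf).trans (Finset.inf_le hq)
  have hKA : ∀ p ∈ A, ¬ K ≤ p := by
    intro p hp hle
    rw [Finset.mem_filter] at hp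
    obtain ⟨hpT, hpmax, hxp⟩ := hp
    have hpp : p.IsPrime := hTp p hpT
    rcases (Ideal.IsPrime.mul_le hpp).1 hle with h | h
    · exact hJ p hpT h
    · obtain ⟨q, hqB, hqp⟩ := (Ideal.IsPrime.prod_le hpp).1 h
      rw [Finset.mem_filter] at hqB
      obtain ⟨hqT, hqmax, hxq⟩ := hqB
      have : p ≤ q := hqmax.2 hpT hqp
      exact hxq (this hxp)
  have hnot : ¬ ((K : Set R) ⊆ ⋃ p ∈ (↑A : Set (Ideal R)), ((id p : Ideal R) : Set R)) := by
    rw [Ideal.subset_union_prime (f := id) ⊥ ⊥]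
    · rintro ⟨p, hp, hle⟩
      exact hKA p hp hle
    · intro p hp _ _
      exact hTp p (Finset.mem_filter.1 hp).1
  rw [Set.not_subset] at hnot
  obtain ⟨z, hzK, hz⟩ := hnot
  refine ⟨z, hKJ hzK, ?_⟩
  have hmax : ∀ p', Maximal (· ∈ T) p' → x₀ + z ∉ p' := by
    intro p' hp' hmem
    by_cases hx : x₀ ∈ p'
    · apply hz
      have hA : p' ∈ A := Finset.mem_filter.2 ⟨hp'.1, hp', hx⟩
      refine Set.mem_biUnion (x := p') (Finset.mem_coe.2 hA) ?_
      have : z = (x₀ + z) - x₀ := by ring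
      rw [this]
      exact p'.sub_mem hmem hx
    · have hB : p' ∈ B := Finset.mem_filter.2 ⟨hp'.1, hp', hx⟩
      have hzp : z ∈ p' := hKB p' hB hzK
      apply hx
      have : x₀ = (x₀ + z) - z := by ring
      rw [this]
      exact p'.sub_mem hmem hzp
  intro p hp hmem
  obtain ⟨p', hpp', hp'⟩ := T.exists_le_maximal hp
  exact hmax p' hp' (hpp' hmem)

end Groth.Agent.Lib.LeadCA
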