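import Mathlib
import Groth.Agent.Lib.Helper13Vasc2
import Groth.Agent.Lib.LeadCA1

/-!
# Vasconcelos' theorem, relative form (helper13)

A free direct summand of rank `r` of the conormal module `J/J²` of an ideal of finite projective
dimension of a Noetherian local ring lifts to a regular sequence of length `r` in `J`.
-/

set_option autoImplicit false
universe u
open CategoryTheory IsLocalRing
open scoped Pointwise

namespace Groth.Agent.Helper13Vasc

variable {S : Type u} [CommRing S]

/-- the classes of the `x i` form a basis of `J/K` over `S/J`, where `J² ≤ K ≤ J`. -/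
structure IndepMod (J K : Ideal S) {r : ℕ} (x : Fin r → S) : Prop where
  mem : ∀ i, x i ∈ J
  sq_le : J ^ 2 ≤ K
  le : K ≤ J
  gen : Ideal.span (Set.range x) ⊔ K = J
  ind : ∀ a : Fin r → S, ∑ i, a i * x i ∈ K → ∀ i, a i ∈ J

/-- the `j`-th coordinate functional `J → J/K → S/J`. -/
theorem exists_coord_mod {J K : Ideal S} {r : ℕ} {x : Fin r → S} (h : IndepMod J K x) (j : Fin r) :
    ∃ ψ : ↥J →ₗ[S] S ⧸ J, ψ ⟨x j, h.mem j⟩ = 1 := by
  classical
  -- the parametrization `(a, k) ↦ ∑ a i * x i + k`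
  let L₁ : (Fin r → S) →ₗ[S] S := Fintype.linearCombination S x
  have hL₁ : ∀ a, L₁ a = ∑ i, a i * x i := fun a => by
    simp [L₁, Fintype.linearCombination_apply]
  let L₀ : ((Fin r → S) × ↥K) →ₗ[S] S := L₁.coprod K.subtype
  have hL₀ : ∀ p : (Fin r → S) × ↥K, L₀ p = ∑ i, p.1 i * x i + (p.2 : S) := fun p => by
    simp [L₀, hL₁]
  have hL₀J : ∀ p, L₀ p ∈ J := fun p => by
    rw [hL₀]
    exact J.add_mem (J.sum_mem fun i _ => J.mul_mem_left _ (h.mem i)) (h.le p.2.2)
  let L : ((Fin r → S) × ↥K) →ₗ[S] ↥J := L₀.codRestrict J hL₀J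
  have hLsurj : Function.Surjective L := by
    rintro ⟨z, hz⟩
    have hz' : z ∈ Ideal.span (Set.range x) ⊔ K := by rw [h.gen]; exact hz
    obtain ⟨u, hu, k, hk, rfl⟩ := Submodule.mem_sup.1 hz'
    obtain ⟨a, rfl⟩ := Ideal.mem_span_range_iff_exists_fun.1 hu
    refine ⟨(a, ⟨k, hk⟩), Subtype.ext ?_⟩
    show L₀ (a, ⟨k, hk⟩) = _
    rw [hL₀]
  let ψ₀ : ((Fin r → S) × ↥K) →ₗ[S] S ⧸ J :=
    (Submodule.mkQ J) ∘ₗ (LinearMap.proj j) ∘ₗ (LinearMap.fst S (Fin r → S) ↥K)
  have hker : LinearMap.ker L ≤ LinearMap.ker ψ₀ := by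
    intro p hp
    rw [LinearMap.mem_ker] at hp ⊢
    have hp0 : L₀ p = 0 := congrArg Subtype.val hp
    rw [hL₀] at hp0
    show Submodule.Quotient.mk (p.1 j) = 0
    rw [Submodule.Quotient.mk_eq_zero]
    refine h.ind p.1 ?_ j
    have : ∑ i, p.1 i * x i = -(p.2 : S) := eq_neg_of_add_eq_zero_left hp0
    rw [this]
    exact K.neg_mem p.2.2
  let e := L.quotKerEquivOfSurjective hLsurj
  refine ⟨(Submodule.liftQ _ ψ₀ hker) ∘ₗ e.symm.toLinearMap, ?_⟩
  have he : e (Submodule.Quotient.mk ((Pi.single j 1 : Fin r → S), (0 : ↥K))) =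
      ⟨x j, h.mem j⟩ := by
    apply Subtype.ext
    show L₀ _ = _
    rw [hL₀]
    simp [Pi.single_apply]
  rw [← he]
  show Submodule.liftQ _ ψ₀ hker (e.symm (e _)) = 1
  rw [LinearEquiv.symm_apply_apply, Submodule.liftQ_apply]
  show Submodule.Quotient.mk ((Pi.single j 1 : Fin r → S) j) = 1
  rw [Pi.single_eq_same]
  rfl


/-- changing `x 0` by an element of `K` does not affect `IndepMod`. -/
theorem IndepMod.perturb {J K : Ideal S} {r : ℕ} {x : Fin (r + 1) → S} (h : IndepMod J K x)
    (z : S) (hz : z ∈ K) (x' : Fin (r + 1) → S) (hx'0 : x' 0 = x 0 + z)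
    (hx's : ∀ i, i ≠ 0 → x' i = x i) : IndepMod J K x' := by
  classical
  have hsum : ∀ a : Fin (r + 1) → S, ∑ i, a i * x' i = ∑ i, a i * x i + a 0 * z := by
    intro a
    rw [Fin.sum_univ_succ, Fin.sum_univ_succ (fun i => a i * x i), hx'0]
    have : ∑ i : Fin r, a i.succ * x' i.succ = ∑ i : Fin r, a i.succ * x i.succ :=
      Finset.sum_congr rfl fun i _ => by rw [hx's _ (Fin.succ_ne_zero i)]
    rw [this]
    ring
  have hzi : ∀ i, x' i - x i ∈ K := fun i => by
    by_cases hi : i = 0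
    · subst hi
      rw [hx'0, add_sub_cancel_left]
      exact hz
    · rw [hx's i hi, sub_self]
      exact K.zero_mem
  have hmem : ∀ i, x' i ∈ J := fun i => by
    have : x' i = x i + (x' i - x i) := by ring
    rw [this]
    exact J.add_mem (h.mem i) (h.le (hzi i))
  refine ⟨hmem, h.sq_le, h.le, ?_, ?_⟩
  · apply le_antisymm
    · exact sup_le (Ideal.span_le.2 (by rintro _ ⟨i, rfl⟩; exact hmem i)) h.le
    · rw [← h.gen]
      refine sup_le (Ideal.span_le.2 ?_) le_sup_right
      rintro _ ⟨i, rfl⟩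
      have h1 : x' i ∈ Ideal.span (Set.range x') := Ideal.subset_span ⟨i, rfl⟩
      have h3 : x i = x' i - (x' i - x i) := by ring
      rw [h3]
      exact Ideal.sub_mem _ (Ideal.mem_sup_left h1) (Ideal.mem_sup_right (hzi i))
  · intro a ha i
    rw [hsum] at ha
    refine h.ind a ?_ i
    have : ∑ i, a i * x i = (∑ i, a i * x i + a 0 * z) - a 0 * z := by ring
    rw [this]
    exact K.sub_mem ha (K.mul_mem_left _ hz)

/-- the quotient family on `S/(x 0)`. -/
theorem IndepMod.quot {J K : Ideal S} {r : ℕ} {x : Fin (r + 1) → S} (h : IndepMod J K x) :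
    IndepMod (J.map (Ideal.Quotient.mk (Ideal.span {x 0})))
      (K.map (Ideal.Quotient.mk (Ideal.span {x 0})))
      (fun k : Fin r => Ideal.Quotient.mk (Ideal.span {x 0}) (x k.succ)) := by
  classical
  have hsurj : Function.Surjective (Ideal.Quotient.mk (Ideal.span {x 0})) :=
    Ideal.Quotient.mk_surjective
  have h0 : Ideal.Quotient.mk (Ideal.span {x 0}) (x 0) = 0 :=
    Ideal.Quotient.eq_zero_iff_mem.mpr (Ideal.mem_span_singleton_self _)
  refine ⟨fun k => Ideal.mem_map_of_mem _ (h.mem _), ?_, Ideal.map_mono h.le, ?_, ?_⟩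
  · rw [← Ideal.map_pow]
    exact Ideal.map_mono h.sq_le
  · apply le_antisymm
    · refine sup_le (Ideal.span_le.2 ?_) (Ideal.map_mono h.le)
      rintro _ ⟨k, rfl⟩
      exact Ideal.mem_map_of_mem _ (h.mem _)
    · rw [← h.gen, Ideal.map_sup, Ideal.map_span]
      refine sup_le (Ideal.span_le.2 ?_) le_sup_right
      rintro _ ⟨_, ⟨i, rfl⟩, rfl⟩
      refine Fin.cases ?_ (fun k => ?_) i
      · rw [h0]
        exact Ideal.zero_mem _
      · exact Ideal.mem_sup_left (Ideal.subset_span ⟨k, rfl⟩)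
  · intro a'' ha'' k
    have hlift : ∀ k, ∃ a : S, Ideal.Quotient.mk (Ideal.span {x 0}) a = a'' k :=
      fun k => hsurj (a'' k)
    choose a ha using hlift
    obtain ⟨w, hw, hw'⟩ := (Ideal.mem_map_iff_of_surjective _ hsurj).1 ha''
    have h1 : Ideal.Quotient.mk (Ideal.span {x 0}) (∑ k, a k * x k.succ) =
        ∑ k, a'' k * Ideal.Quotient.mk (Ideal.span {x 0}) (x k.succ) := by
      rw [map_sum]
      refine Finset.sum_congr rfl fun k _ => ?_
      rw [map_mul, ha]
    have h2 : (∑ k, a k * x k.succ) - w ∈ Ideal.span {x 0} := by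
      rw [← Ideal.Quotient.eq_zero_iff_mem, map_sub, h1, hw', sub_self]
    obtain ⟨b, hb⟩ := Ideal.mem_span_singleton'.1 h2
    have h3 : ∑ i, (Fin.cons (-b) a : Fin (r + 1) → S) i * x i = w := by
      rw [Fin.sum_univ_succ]
      simp only [Fin.cons_zero, Fin.cons_succ]
      rw [neg_mul, hb]
      ring
    have h4 := h.ind (Fin.cons (-b) a) (by rw [h3]; exact hw) k.succ
    rw [Fin.cons_succ] at h4
    rw [← ha k]
    exact Ideal.mem_map_of_mem _ h4


open Groth.Agent.Lib.Helper28 Groth.Agent.Lib.Helper21.PdLoc in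
/-- **Vasconcelos, relative form**: if `J` has finite projective dimension and the classes of
`x 0, …, x (r-1) ∈ J` are part of a basis of a free direct summand of `J/J²` (with complement
`K/J²`), then the `x i` can be modified modulo `J²` to a regular sequence. -/
theorem exists_regular_of_indepMod (r : ℕ) :
    ∀ (S : Type u) [CommRing S] [IsLocalRing S] [IsNoetherianRing S] (J K : Ideal S)
      (x : Fin r → S), J ≤ maximalIdeal S → IndepMod J K x →
      (∃ n, HasProjectiveDimensionLT (ModuleCat.of S ↥J) n) →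
      ∃ y : Fin r → S, (∀ i, y i - x i ∈ J ^ 2) ∧
        RingTheory.Sequence.IsWeaklyRegular S (List.ofFn y) := by
  classical
  induction r with
  | zero =>
    intro S _ _ _ J K x _ _ _
    refine ⟨x, fun i => i.elim0, ?_⟩
    rw [List.ofFn_zero]
    exact RingTheory.Sequence.IsWeaklyRegular.nil S S
  | succ r ih =>
    intro S _ _ _ J K x hJ hx hpd
    obtain ⟨n, hn⟩ := hpd
    have hn1 : HasProjectiveDimensionLT (ModuleCat.of S ↥J) (n + 1) :=
      hasProjectiveDimensionLT_of_ge _ n (n + 1) (Nat.le_succ n)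
    -- `J ≠ ⊥`
    have hJ0 : J ≠ ⊥ := by
      intro h0
      have hK : K = ⊥ := le_bot_iff.1 (h0 ▸ hx.le)
      have hx0 : ∀ i, x i = 0 := by
        intro i
        have := hx.mem i
        rw [h0] at this
        exact this
      have h1 := hx.ind (fun _ => 1) (by simp [hx0]) 0
      rw [h0] at h1
      exact one_ne_zero h1
    have hpdq : HasProjectiveDimensionLT (ModuleCat.of S (S ⧸ J)) (n + 1 + 1) :=
      (pdLT_succ_iff_of_ses J.subtype (Submodule.mkQ J) (Submodule.injective_subtype _)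
        (Submodule.mkQ_surjective _) (LinearMap.exact_subtype_mkQ _) n).mpr hn1
    obtain ⟨y₀, hy₀J, hy₀reg⟩ := exists_isSMulRegular_mem J hJ0 (n + 1) hpdq
    -- coset prime avoidance
    have hfin : (associatedPrimes S S).Finite := associatedPrimes.finite S S
    have hJp : ∀ p ∈ hfin.toFinset, ¬ J ^ 2 ≤ p := by
      intro p hp hle
      rw [Set.Finite.mem_toFinset] at hp
      have hpp : p.IsPrime := hp.isPrime
      have hIp : J ≤ p := hpp.le_of_pow_le hle
      have : y₀ ∈ ⋃ p ∈ associatedPrimes S S, (p : Set S) := Set.mem_biUnion hp (hIp hy₀J)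
      rw [biUnion_associatedPrimes_eq_compl_regular] at this
      exact this hy₀reg
    obtain ⟨z, hzJ, hz⟩ := Groth.Agent.Lib.LeadCA.exists_add_notMem hfin.toFinset
      (fun p hp => ((Set.Finite.mem_toFinset _).1 hp).isPrime) (J ^ 2) hJp (x 0)
    have hreg : IsSMulRegular S (x 0 + z) := by
      by_contra hnr
      have : x 0 + z ∈ ⋃ p ∈ associatedPrimes S S, (p : Set S) := by
        rw [biUnion_associatedPrimes_eq_compl_regular]
        exact hnr
      obtain ⟨p, hp, hxp⟩ := Set.mem_iUnion₂.mp this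
      exact hz p ((Set.Finite.mem_toFinset _).2 hp) hxp
    -- the new family
    obtain ⟨x', hx'def⟩ : ∃ x' : Fin (r + 1) → S, x' = Function.update x 0 (x 0 + z) := ⟨_, rfl⟩
    have hx'0 : x' 0 = x 0 + z := by rw [hx'def, Function.update_self]
    have hx's : ∀ i, i ≠ 0 → x' i = x i := fun i hi => by
      rw [hx'def, Function.update_of_ne hi]
    have hx' : IndepMod J K x' := hx.perturb z (hx.sq_le hzJ) x' hx'0 hx's
    rw [← hx'0] at hreg
    have hyJ : x' 0 ∈ J := hx'.mem 0
    -- the quotient ring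
    have hne : Ideal.span {x' 0} ≠ ⊤ := by
      intro h
      have h1 : Ideal.span {x' 0} ≤ maximalIdeal S :=
        (Ideal.span_singleton_le_iff_mem _).2 (hJ hyJ)
      exact (maximalIdeal.isMaximal S).ne_top (top_le_iff.1 (h ▸ h1))
    haveI : IsLocalRing (S ⧸ Ideal.span {x' 0}) := Groth.Agent.Lib.Helper5.isLocalRing_quotient hne
    have hJ' : J.map (Ideal.Quotient.mk (Ideal.span {x' 0})) ≤
        maximalIdeal (S ⧸ Ideal.span {x' 0}) := by
      rw [Ideal.map_le_iff_le_comap]
      intro w hw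
      rw [Ideal.mem_comap]
      exact (Groth.Agent.Lib.Helper5.mk_mem_maximalIdeal_quotient_iff _ w).2 (hJ hw)
    have hpd' : ∃ n, HasProjectiveDimensionLT (ModuleCat.of (S ⧸ Ideal.span {x' 0})
        ↥(J.map (Ideal.Quotient.mk (Ideal.span {x' 0})))) n := by
      obtain ⟨ψ, hψ1⟩ := exists_coord_mod hx' 0
      obtain ⟨i, ρ, hri⟩ := exists_retract_quotSMulTop J (x' 0) hyJ ψ hψ1
      have hJreg : IsSMulRegular ↥J (x' 0) := hreg.submodule J (x' 0)
      have h2 := hasProjectiveDimensionLT_quotSMulTop (x' 0) hreg n ↥J hJreg hn1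
      exact ⟨n + 1, hasProjectiveDimensionLT_of_retract i ρ hri (n + 1) h2⟩
    obtain ⟨ybar, hyb1, hyb2⟩ := ih (S ⧸ Ideal.span {x' 0}) _ _ _ hJ' hx'.quot hpd'
    -- lift
    have hlift : ∀ k : Fin r, ∃ w ∈ J ^ 2,
        Ideal.Quotient.mk (Ideal.span {x' 0}) (x' k.succ + w) = ybar k := by
      intro k
      have h1 := hyb1 k
      rw [← Ideal.map_pow] at h1
      obtain ⟨w, hw, hw'⟩ :=
        (Ideal.mem_map_iff_of_surjective _ Ideal.Quotient.mk_surjective).1 h1
      refine ⟨w, hw, ?_⟩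
      rw [map_add, hw']
      ring
    choose w hw hw' using hlift
    refine ⟨Fin.cons (x' 0) (fun k => x' k.succ + w k), ?_, ?_⟩
    · intro i
      refine Fin.cases ?_ (fun k => ?_) i
      · rw [Fin.cons_zero, hx'0, add_sub_cancel_left]
        exact hzJ
      · rw [Fin.cons_succ, hx's _ (Fin.succ_ne_zero k), add_sub_cancel_left]
        exact hw k
    · rw [List.ofFn_succ]
      simp only [Fin.cons_zero, Fin.cons_succ]
      rw [RingTheory.Sequence.isWeaklyRegular_cons_iff]
      refine ⟨hreg, ?_⟩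
      have hsm : (x' 0 • (⊤ : Submodule S S)) = Ideal.span {x' 0} := by
        rw [← Submodule.ideal_span_singleton_smul, smul_eq_mul, Ideal.mul_top]
      let e : QuotSMulTop (x' 0) S ≃ₗ[S] (S ⧸ Ideal.span {x' 0}) :=
        Submodule.quotEquivOfEq _ _ hsm
      rw [e.isWeaklyRegular_congr,
        ← RingTheory.Sequence.isWeaklyRegular_map_algebraMap_iff (S ⧸ Ideal.span {x' 0})
          (S ⧸ Ideal.span {x' 0})]
      have : (List.ofFn fun k => x' k.succ + w k).map (algebraMap S (S ⧸ Ideal.span {x' 0})) =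
          List.ofFn ybar := by
        rw [List.map_ofFn]
        congr 1
        funext k
        exact hw' k
      rw [this]
      exact hyb2

end Groth.Agent.Helper13Vasc
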