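import Mathlib
import Groth.Agent.Lib.Helper13Olivier
import Groth.Agent.Lib.Helper10WEtale
import Groth.Agent.Lib.Helper10AbsFlat

set_option autoImplicit false
set_option linter.style.haveILetI false
set_option linter.unusedSectionVars false
open TensorProduct Polynomial IsLocalRing

namespace Groth.Agent.Helper13WENormal

universe u

open Groth.Agent.Helper13Olivier

theorem isIntegrallyClosed_of_isField {E : Type*} [CommRing E] (h : IsField E) :
    IsIntegrallyClosed E := by
  letI := h.toField
  exact (inferInstance : IsIntegrallyClosed E)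

theorem isDomain_of_isField {E : Type*} [CommRing E] (h : IsField E) : IsDomain E := h.isDomain

section
variable (A : Type u) [CommRing A] [IsDomain A] [IsIntegrallyClosed A]
    (K : Type u) [Field K] [Algebra A K] [IsFractionRing A K] (B : Type u) [CommRing B] [Algebra A B]
    [Algebra.WeaklyEtale A B]

theorem eq_zero_or_isUnit_tensor [IsLocalRing B] : ∀ x : K ⊗[A] B, x = 0 ∨ IsUnit x := by
  have hvnr : Groth.Agent.Lib.Helper10.IsVNR (K ⊗[A] B) := by
    apply Groth.Agent.Lib.Helper10.isVNR_of_flat
    intro a
    haveI : Module.Flat K ((K ⊗[A] B) ⧸ Ideal.span {a}) := inferInstance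
    exact Groth.Agent.Lib.Helper10.WEtale.flat_of_flat_lmul' K (K ⊗[A] B)
      (Algebra.WeaklyEtale.flat_lmul' K (K ⊗[A] B)) _
  have hid := idem_trivial_tensor A K B (fun b hb => idem_local b hb)
  intro x
  obtain ⟨b, hb⟩ := hvnr x
  have he : IsIdempotentElem (x * b) := by
    show x * b * (x * b) = x * b
    calc x * b * (x * b) = (x * x * b) * b := by ring
      _ = x * b := by rw [← hb]
  rcases hid _ he with h | h
  · left
    rw [hb, mul_assoc, h, mul_zero]
  · right
    exact IsUnit.of_mul_eq_one b h

include A K in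
/-- A local ring weakly étale over a normal domain is a normal domain. -/
theorem normal_of_weaklyEtale_local [IsLocalRing B] : IsDomain B ∧ IsIntegrallyClosed B := by
  let c : K ⊗[A] B ≃ₐ[A] B ⊗[A] K := Algebra.TensorProduct.comm A K B
  have hE : ∀ x : B ⊗[A] K, x = 0 ∨ IsUnit x := by
    intro x
    rcases eq_zero_or_isUnit_tensor A K B (c.symm x) with h | h
    · left
      have := congrArg c h
      rwa [AlgEquiv.apply_symm_apply, map_zero] at this
    · right
      have := h.map c
      rwa [AlgEquiv.apply_symm_apply] at this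
  have hι : Function.Injective (algebraMap B (B ⊗[A] K)) :=
    Algebra.TensorProduct.includeLeft_injective (S := B) (IsFractionRing.injective A K)
  haveI : Nontrivial (B ⊗[A] K) := hι.nontrivial
  have hF : IsField (B ⊗[A] K) := by
    refine ⟨exists_pair_ne _, mul_comm, ?_⟩
    intro a ha
    rcases hE a with h | h
    · exact absurd h ha
    · obtain ⟨u, rfl⟩ := h
      exact ⟨↑u⁻¹, u.mul_inv⟩
  haveI : IsDomain (B ⊗[A] K) := hF.isDomain
  haveI : IsIntegrallyClosed (B ⊗[A] K) := isIntegrallyClosed_of_isField hF
  haveI : IsIntegrallyClosedIn B (B ⊗[A] K) :=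
    Groth.Agent.Helper13WEVal.isIntegrallyClosedIn_tensor A K B
  haveI : FaithfulSMul B (B ⊗[A] K) := (faithfulSMul_iff_algebraMap_injective B _).mpr hι
  haveI : IsDomain B := hι.isDomain (algebraMap B (B ⊗[A] K))
  exact ⟨inferInstance,
    IsIntegrallyClosed.of_isIntegrallyClosed_of_isIntegrallyClosedIn (R := B) (S := B ⊗[A] K)⟩

end

end Groth.Agent.Helper13WENormal
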